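import Mathlib
import Groth.Agent.Helper8.GenFree11

set_option autoImplicit false
universe u
open TensorProduct

namespace Groth.Agent.Helper5.GenFlat

/-- Localizing an `A`-module at a submonoid of `A` preserves flatness over the base ring `R`. -/
theorem flat_of_isLocalizedModule {R A M M' : Type u} [CommRing R] [CommRing A] [Algebra R A]
    [AddCommGroup M] [Module R M] [Module A M] [IsScalarTower R A M]
    [AddCommGroup M'] [Module R M'] [Module A M'] [IsScalarTower R A M']
    (S : Submonoid A) (g : M →ₗ[A] M') [IsLocalizedModule S g] (H : Module.Flat R M) :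
    Module.Flat R M' := by
  rw [Module.Flat.iff_lTensor_injectiveₛ] at H ⊢
  intro P _ _ N
  have h1 : Function.Injective (AlgebraTensorModule.lTensor A M N.subtype) := by
    rw [AlgebraTensorModule.coe_lTensor]; exact H N
  have h2 := IsLocalizedModule.map_injective S (AlgebraTensorModule.rTensor R N g)
    (AlgebraTensorModule.rTensor R P g) _ h1
  rw [IsLocalizedModule.map_lTensor] at h2
  rw [← AlgebraTensorModule.coe_lTensor (A := A)]
  exact h2

theorem exists_flat_localizations {R A M : Type u} [CommRing R] [IsDomain R] [CommRing A]
    [Algebra R A] [Algebra.FiniteType R A] [AddCommGroup M] [Module A M] [Module R M]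
    [IsScalarTower R A M] [Module.Finite A M] :
    ∃ f : R, f ≠ 0 ∧ ∀ (T : Submonoid A), algebraMap R A f ∈ T →
      ∀ (N : Type u) [AddCommGroup N] [Module A N] [Module R N] [IsScalarTower R A N]
        (g : M →ₗ[A] N) [IsLocalizedModule T g], Module.Flat R N := by
  obtain ⟨f, hf, hfree, -, -, -⟩ := Helper8.GenFree.s0389 (R := R) (S := A) (M := M)
  refine ⟨f, hf, fun T hT N _ _ _ _ g _ => ?_⟩
  let T₀ : Submonoid A := Submonoid.powers (algebraMap R A f)
  have hle : T₀ ≤ T := (Submonoid.powers_le).mpr hT
  have hM₁ : Module.Flat R (LocalizedModule T₀ M) := by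
    have i1 : IsLocalizedModule (Submonoid.powers f)
        ((LocalizedModule.mkLinearMap T₀ M).restrictScalars R) :=
      IsLocalizedModule.restrictScalars_powers f (LocalizedModule.mkLinearMap T₀ M)
    have i2 : IsLocalizedModule (Submonoid.powers f)
        (TensorProduct.mk R (Localization.Away f) M 1) :=
      (isLocalizedModule_iff_isBaseChange (Submonoid.powers f) (Localization.Away f) _).mpr
        (TensorProduct.isBaseChange R M (Localization.Away f))
    let e : (Localization.Away f ⊗[R] M) ≃ₗ[R] LocalizedModule T₀ M :=
      IsLocalizedModule.linearEquiv (Submonoid.powers f)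
        (TensorProduct.mk R (Localization.Away f) M 1)
        ((LocalizedModule.mkLinearMap T₀ M).restrictScalars R)
    have h3 : Module.Flat (Localization.Away f) (Localization.Away f ⊗[R] M) := inferInstance
    have h4 : Module.Flat R (Localization.Away f ⊗[R] M) :=
      Module.Flat.trans R (Localization.Away f) _
    exact Module.Flat.of_linearEquiv e.symm
  exact flat_of_isLocalizedModule T
    (IsLocalizedModule.liftOfLE T₀ T hle (LocalizedModule.mkLinearMap T₀ M) g) hM₁

end Groth.Agent.Helper5.GenFlat
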