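import Mathlib
import Groth.Agent.Helper5.GenFlat1
import Groth.Agent.Helper4.FinLocFree5
import Groth.Prelude.Def_FlatMod2

set_option autoImplicit false
universe u
open CategoryTheory CategoryTheory.Limits AlgebraicGeometry TopologicalSpace Opposite

namespace Groth.Agent.Helper5.AffFlat
open Groth.Agent.Helper4

/-- flatness over `S` at `x` may be tested over the ring of sections of an affine open of `S`. -/
theorem isFlatOverAt_iff {X Y : Scheme.{u}} (u : X ⟶ Y) (F : X.Modules)
    {V : Y.Opens} (hV : IsAffineOpen V) {W : X.Opens} (e : W ≤ u ⁻¹ᵁ V) (x : X) (hx : x ∈ W) :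
    FlatMod.IsFlatOverAt u F x ↔
      @Module.Flat Γ(Y, V) (F.presheaf.stalk x) _ _
        (Module.compHom _ ((X.presheaf.germ W x hx).hom.comp (u.appLE V W e).hom)) := by
  have hVx : u x ∈ V := e hx
  letI mR : Module Γ(Y, V) (F.presheaf.stalk x) :=
    Module.compHom _ ((X.presheaf.germ W x hx).hom.comp (u.appLE V W e).hom)
  unfold FlatMod.IsFlatOverAt
  letI := FlatMod.moduleStalkOver u F x
  letI algS : Algebra Γ(Y, V) (Y.presheaf.stalk (u x)) :=
    (Y.presheaf.germ V (u x) hVx).hom.toAlgebra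
  haveI : IsLocalization.AtPrime (Y.presheaf.stalk (u x))
      (hV.primeIdealOf ⟨u x, hVx⟩).asIdeal := hV.isLocalization_stalk ⟨u x, hVx⟩
  haveI : IsScalarTower Γ(Y, V) (Y.presheaf.stalk (u x)) (F.presheaf.stalk x) :=
    IsScalarTower.of_algebraMap_smul fun r m => by
      show (u.stalkMap x).hom (Y.presheaf.germ V (u x) hVx r) • m =
        (X.presheaf.germ W x hx) ((u.appLE V W e).hom r) • m
      rw [Scheme.Hom.germ_stalkMap_apply, Scheme.Hom.appLE, CommRingCat.comp_apply,
        TopCat.Presheaf.germ_res_apply]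
  exact Module.flat_iff_of_isLocalization (Y.presheaf.stalk (u x))
    (hV.primeIdealOf ⟨u x, hVx⟩).asIdeal.primeCompl _

/-- **Affine flatness dictionary**: for quasi-coherent `F`, flatness over `S` at all points of an
affine open `W ⊆ u⁻¹ V` is flatness of `Γ(F, W)` over `Γ(S, V)`. -/
theorem flat_sections_iff {X Y : Scheme.{u}} (u : X ⟶ Y) (F : X.Modules) [F.IsQuasicoherent]
    {V : Y.Opens} (hV : IsAffineOpen V) {W : X.Opens} (hW : IsAffineOpen W) (e : W ≤ u ⁻¹ᵁ V) :
    (∀ x ∈ W, FlatMod.IsFlatOverAt u F x) ↔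
      @Module.Flat Γ(Y, V) Γ(F, W) _ _ (Module.compHom _ (u.appLE V W e).hom) := by
  letI alg : Algebra Γ(Y, V) Γ(X, W) := (u.appLE V W e).hom.toAlgebra
  letI modR : Module Γ(Y, V) Γ(F, W) := Module.compHom _ (u.appLE V W e).hom
  haveI : IsScalarTower Γ(Y, V) Γ(X, W) Γ(F, W) :=
    IsScalarTower.of_algebraMap_smul fun r m => rfl
  constructor
  · intro H
    refine Module.flat_of_isLocalized_maximal Γ(X, W) Γ(F, W)
      (fun P _ => LocalizedModule P.primeCompl Γ(F, W))
      (fun P _ => LocalizedModule.mkLinearMap P.primeCompl Γ(F, W)) ?_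
    intro P hP
    obtain ⟨y, hy, hyP⟩ := FinLocFree5.exists_point_of_prime hW ⟨P, hP.isPrime⟩
    letI mA : Module Γ(X, W) (F.presheaf.stalk y) := StalkDict.sectionModStalk F y hy
    letI mR : Module Γ(Y, V) (F.presheaf.stalk y) :=
      Module.compHom _ ((X.presheaf.germ W y hy).hom.comp (u.appLE V W e).hom)
    haveI : IsScalarTower Γ(Y, V) Γ(X, W) (F.presheaf.stalk y) :=
      IsScalarTower.of_algebraMap_smul fun r m => rfl
    haveI := StalkDict.isLocalizedModule_germ hW F y hy
    have hfl : Module.Flat Γ(Y, V) (F.presheaf.stalk y) :=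
      (isFlatOverAt_iff u F hV e y hy).mp (H y hy)
    have hP' : (hW.primeIdealOf ⟨y, hy⟩).asIdeal = P := by rw [hyP]
    subst hP'
    let eq := IsLocalizedModule.iso (hW.primeIdealOf ⟨y, hy⟩).asIdeal.primeCompl
      (StalkDict.germLin F y hy)
    exact Module.Flat.of_linearEquiv (eq.restrictScalars Γ(Y, V))
  · intro H x hx
    letI mA : Module Γ(X, W) (F.presheaf.stalk x) := StalkDict.sectionModStalk F x hx
    letI mR : Module Γ(Y, V) (F.presheaf.stalk x) :=
      Module.compHom _ ((X.presheaf.germ W x hx).hom.comp (u.appLE V W e).hom)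
    haveI : IsScalarTower Γ(Y, V) Γ(X, W) (F.presheaf.stalk x) :=
      IsScalarTower.of_algebraMap_smul fun r m => rfl
    haveI := StalkDict.isLocalizedModule_germ hW F x hx
    exact (isFlatOverAt_iff u F hV e x hx).mpr
      (GenFlat.flat_of_isLocalizedModule (hW.primeIdealOf ⟨x, hx⟩).asIdeal.primeCompl
        (StalkDict.germLin F x hx) H)

end Groth.Agent.Helper5.AffFlat
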