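import Groth.Agent.Helper5.KProj

set_option autoImplicit false
universe u
open CategoryTheory Limits HomologicalComplex

namespace Groth.Agent.Helper5.KProj

attribute [local instance] HasDerivedCategory.standard

variable {A : Type u} [Ring A]

theorem homotopic_of_Q_map_eq {P M : CochainComplex (ModuleCat.{u} A) ℤ} [P.IsKProjective]
    (f g : P ⟶ M) (h1 : DerivedCategory.Q.map f = DerivedCategory.Q.map g) :
    Nonempty (Homotopy f g) := by
  have hbij := CochainComplex.IsKProjective.Qh_map_bijective P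
    ((HomotopyCategory.quotient _ _).obj M)
  have h2 : DerivedCategory.Qh.map ((HomotopyCategory.quotient _ _).map f) =
      DerivedCategory.Qh.map ((HomotopyCategory.quotient _ _).map g) := by
    have e := DerivedCategory.quotientCompQhIso (ModuleCat.{u} A)
    have n1 := e.hom.naturality f
    have n2 := e.hom.naturality g
    simp only [Functor.comp_map] at n1 n2
    rw [← cancel_mono (e.hom.app M), n1, n2, h1]
  exact ⟨HomotopyCategory.homotopyOfEq _ _ (hbij.injective h2)⟩

/-- lifting up to homotopy through a quasi-isomorphism -/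
theorem exists_lift_up_to_homotopy {M N L : CochainComplex (ModuleCat.{u} A) ℤ} [M.IsKProjective]
    (φ : M ⟶ L) (π : N ⟶ L) [QuasiIso π] :
    ∃ ψ₀ : M ⟶ N, Nonempty (Homotopy (ψ₀ ≫ π) φ) := by
  have hbij := CochainComplex.IsKProjective.Qh_map_bijective M
    ((HomotopyCategory.quotient _ _).obj N)
  let e := DerivedCategory.quotientCompQhIso (ModuleCat.{u} A)
  have hQπ : IsIso (DerivedCategory.Q.map π) := inferInstance
  obtain ⟨α, hα⟩ := hbij.surjective
    (e.hom.app M ≫ (DerivedCategory.Q.map φ ≫ inv (DerivedCategory.Q.map π)) ≫ e.inv.app N)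
  obtain ⟨ψ₀, rfl⟩ := (HomotopyCategory.quotient _ _).map_surjective α
  refine ⟨ψ₀, homotopic_of_Q_map_eq _ _ ?_⟩
  have n1 := e.hom.naturality ψ₀
  simp only [Functor.comp_map] at n1
  rw [hα] at n1
  simp only [Category.assoc, Iso.inv_hom_id_app, Category.comp_id] at n1
  have n2 : DerivedCategory.Q.map ψ₀ = DerivedCategory.Q.map φ ≫ inv (DerivedCategory.Q.map π) := by
    rw [← cancel_epi (e.hom.app M)]
    exact n1.symm
  rw [Functor.map_comp, n2, Category.assoc, IsIso.inv_hom_id, Category.comp_id]

theorem s11704 (M N L : CochainComplex (ModuleCat.{u} A) ℤ) (b : ℤ)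
    (hM : ∀ n : ℤ, b < n → IsZero (M.X n)) [∀ n, Module.Projective A (M.X n)]
    (φ : M ⟶ L) (π : N ⟶ L) [QuasiIso π] (hπ : ∀ n, Function.Surjective (π.f n).hom) :
    ∃ ψ : M ⟶ N, ψ ≫ π = φ := by
  have hK : M.IsKProjective := isKProjective_of_bounded M b hM
  have hproj : ∀ n, Projective (M.X n) := fun n => by
    rw [← IsProjective.iff_projective]
    infer_instance
  have hepi : ∀ n, Epi (π.f n) := fun n => (ModuleCat.epi_iff_surjective _).2 (hπ n)
  obtain ⟨ψ₀, ⟨h⟩⟩ := exists_lift_up_to_homotopy φ π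
  let h' : ∀ i j, M.X i ⟶ N.X j := fun i j => Projective.factorThru (h.hom i j) (π.f j)
  refine ⟨ψ₀ - Homotopy.nullHomotopicMap h', ?_⟩
  rw [Preadditive.sub_comp, Homotopy.nullHomotopicMap_comp]
  have h1 : (fun i j => h' i j ≫ π.f j) = h.hom := by
    funext i j
    exact Projective.factorThru_comp _ _
  rw [h1]
  ext n
  have := h.comm n
  simp only [HomologicalComplex.sub_f_apply, Homotopy.nullHomotopicMap] 
  rw [this]
  exact add_sub_cancel_left _ _

end Groth.Agent.Helper5.KProj
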