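import Mathlib
import Groth.Agent.Helper5.AffFlat1
import Groth.Prelude.Def_FlatMod2

set_option autoImplicit false
universe u
open CategoryTheory CategoryTheory.Limits AlgebraicGeometry TopologicalSpace Opposite

namespace Groth.Agent.Helper5.AffFlat

theorem flat_iff_of_ringEquiv {R R' N : Type u} [CommRing R] [CommRing R'] (σ : R ≃+* R')
    [AddCommGroup N] [Module R' N] :
    @Module.Flat R N _ _ (Module.compHom N σ.toRingHom) ↔ Module.Flat R' N := by
  letI mR : Module R N := Module.compHom N σ.toRingHom
  constructor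
  · intro h
    letI : Algebra R' R := σ.symm.toRingHom.toAlgebra
    haveI : IsScalarTower R' R N := IsScalarTower.of_algebraMap_smul fun r n => by
      show σ (σ.symm r) • n = r • n
      rw [σ.apply_symm_apply]
    let e : R' ≃ₗ[R'] R :=
      { σ.symm.toAddEquiv with
        map_smul' := fun r x => by
          show σ.symm (r * x) = σ.symm r * σ.symm x
          exact map_mul _ _ _ }
    haveI : Module.Flat R' R := Module.Flat.of_linearEquiv e.symm
    exact Module.Flat.trans R' R N
  · intro h
    letI : Algebra R R' := σ.toRingHom.toAlgebra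
    haveI : IsScalarTower R R' N := IsScalarTower.of_algebraMap_smul fun r n => rfl
    let e : R ≃ₗ[R] R' :=
      { σ.toAddEquiv with
        map_smul' := fun r x => by
          show σ (r * x) = σ r * σ x
          exact map_mul _ _ _ }
    haveI : Module.Flat R R' := Module.Flat.of_linearEquiv e.symm
    exact Module.Flat.trans R R' N

set_option backward.isDefEq.respectTransparency false in
theorem s2394 (A B : Type u) [CommRing A] [CommRing B] [Algebra A B]
    (M : Type u) [AddCommGroup M] [Module B M] [Module A M] [IsScalarTower A B M] :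
    FlatMod.IsFlatOver (Spec.map (CommRingCat.ofHom (algebraMap A B))) (tilde (ModuleCat.of B M)) ↔
      Module.Flat A M := by
  let u := Spec.map (CommRingCat.ofHom (algebraMap A B))
  let F : (Spec (CommRingCat.of B)).Modules := tilde (R := CommRingCat.of B) (ModuleCat.of B M)
  have hV : IsAffineOpen (⊤ : (Spec (CommRingCat.of A)).Opens) := isAffineOpen_top _
  have hW : IsAffineOpen (⊤ : (Spec (CommRingCat.of B)).Opens) := isAffineOpen_top _
  have e : (⊤ : (Spec (CommRingCat.of B)).Opens) ≤ u ⁻¹ᵁ ⊤ := le_rfl
  have h1 := flat_sections_iff u F hV hW e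
  have h0 : FlatMod.IsFlatOver u F ↔ ∀ x ∈ (⊤ : (Spec (CommRingCat.of B)).Opens),
      FlatMod.IsFlatOverAt u F x :=
    ⟨fun H x _ => H x, fun H x => H x trivial⟩
  show FlatMod.IsFlatOver u F ↔ _
  rw [h0, h1]
  -- transfer along ΓSpecIso A
  letI m1 : Module Γ(Spec (CommRingCat.of A), ⊤) Γ(F, ⊤) := Module.compHom _ (u.appLE ⊤ ⊤ e).hom
  let σ : A ≃+* Γ(Spec (CommRingCat.of A), ⊤) :=
    (Scheme.ΓSpecIso (CommRingCat.of A)).symm.commRingCatIsoToRingEquiv
  rw [← flat_iff_of_ringEquiv σ]
  letI m2 : Module A Γ(F, ⊤) := Module.compHom _ σ.toRingHom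
  letI mB : Module B Γ(F, ⊤) :=
    Scheme.Modules.instModuleCarrierCarrierObjOppositeOpensCarrierCarrierCommRingCatSpecAbPresheafOp
      (R := CommRingCat.of B)
  let eB := (tilde.isoTop (R := CommRingCat.of B) (ModuleCat.of B M)).toLinearEquiv
  let g : M → Γ(F, ⊤) := fun m => eB m
  let g' : Γ(F, ⊤) → M := fun n => eB.symm n
  have hsm : ∀ (b : B) (m : M), g (b • m) = b • g m := fun b m => eB.map_smul b m
  have hspec : ∀ (b : B) (n : Γ(F, ⊤)), b • n =
      ((Spec (CommRingCat.of B)).presheaf.map (Opens.leTop (⊤ : (Spec (CommRingCat.of B)).Opens)).op).hom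
        ((Scheme.ΓSpecIso (CommRingCat.of B)).inv.hom b) • n := fun b n => rfl
  let eA : M ≃ₗ[A] Γ(F, ⊤) :=
    { toFun := g
      invFun := g'
      left_inv := fun m => eB.symm_apply_apply m
      right_inv := fun n => eB.apply_symm_apply n
      map_add' := fun m m' => eB.map_add m m'
      map_smul' := fun a m => by
        show g (a • m) = (u.appLE ⊤ ⊤ e).hom (σ a) • g m
        rw [← algebraMap_smul B a m, hsm, hspec]
        congr 1
        have := congr($(Scheme.ΓSpecIso_inv_naturality (CommRingCat.ofHom (algebraMap A B))) a)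
        have h2 : u.appLE ⊤ ⊤ e = u.appTop := by
          simp [Scheme.Hom.appLE, Scheme.Hom.appTop]
        have h3 : (Spec (CommRingCat.of B)).presheaf.map
            (Opens.leTop (⊤ : (Spec (CommRingCat.of B)).Opens)).op = 𝟙 _ := by
          rw [show Opens.leTop (⊤ : (Spec (CommRingCat.of B)).Opens) = 𝟙 _ from
            Subsingleton.elim _ _]
          simp
        rw [h2, h3]
        exact this }
  exact ⟨fun h => Module.Flat.of_linearEquiv eA, fun h => Module.Flat.of_linearEquiv eA.symm⟩

end Groth.Agent.Helper5.AffFlat
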