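import Mathlib

set_option autoImplicit false
universe u

namespace Groth.Agent.Helper5.Jac

/-- Core lemma (Artin–Tate / Krull): in a Noetherian domain in which some nonzero element lies in
every nonzero prime, every nonzero prime is a minimal prime over that element. -/
theorem mem_minimalPrimes_of_forall_mem {A : Type*} [CommRing A] [IsDomain A] [IsNoetherianRing A]
    (f : A) (hf : f ≠ 0) (h : ∀ p : Ideal A, p.IsPrime → p ≠ ⊥ → f ∈ p)
    (p : Ideal A) [hp : p.IsPrime] (hp0 : p ≠ ⊥) : p ∈ (Ideal.span {f}).minimalPrimes := by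
  classical
  have hfp : Ideal.span {f} ≤ p := (Ideal.span_singleton_le_iff_mem _).mpr (h p hp hp0)
  obtain ⟨q, hq, hqp⟩ := Ideal.exists_minimalPrimes_le hfp
  by_contra hpmin
  have hqne : q ≠ p := fun e => hpmin (e ▸ hq)
  have hfin : (Ideal.span {f}).minimalPrimes.Finite :=
    Ideal.finite_minimalPrimes_of_isNoetherianRing A _
  -- prime avoidance
  have hnot : ¬ ((p : Set A) ⊆ ⋃ q' ∈ (↑hfin.toFinset : Set (Ideal A)), (q' : Set A)) := by
    intro hsub
    rw [Ideal.subset_union_prime (R := A) (f := fun q' : Ideal A => q') ⊥ ⊥] at hsub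
    · obtain ⟨q', hq', hpq'⟩ := hsub
      rw [Set.Finite.mem_toFinset] at hq'
      have h1 : q' ≤ q := hq'.2 ⟨hq.1.1, hq.1.2⟩ (hqp.trans hpq')
      exact hqne (le_antisymm hqp (hpq'.trans h1))
    · intro q' hq' _ _
      rw [Set.Finite.mem_toFinset] at hq'
      exact hq'.1.1
  obtain ⟨g, hgp, hg⟩ := Set.not_subset.mp hnot
  simp only [Set.mem_iUnion, Finset.mem_coe, Set.Finite.mem_toFinset, not_exists] at hg
  have hg0 : g ≠ 0 := by
    rintro rfl
    exact hg q hq (Submodule.zero_mem _)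
  have hgp' : Ideal.span {g} ≤ p := (Ideal.span_singleton_le_iff_mem _).mpr hgp
  obtain ⟨q'', hq'', hq''p⟩ := Ideal.exists_minimalPrimes_le hgp'
  have : q''.IsPrime := hq''.1.1
  have hq''0 : q'' ≠ ⊥ := by
    intro e
    have : g ∈ q'' := hq''.1.2 (Ideal.mem_span_singleton_self g)
    rw [e, Ideal.mem_bot] at this
    exact hg0 this
  have hfq'' : Ideal.span {f} ≤ q'' := (Ideal.span_singleton_le_iff_mem _).mpr (h q'' this hq''0)
  obtain ⟨q₃, hq₃, hq₃q''⟩ := Ideal.exists_minimalPrimes_le hfq''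
  have : q₃.IsPrime := hq₃.1.1
  have hht : q''.height ≤ 1 := Ideal.height_le_one_of_isPrincipal_of_mem_minimalPrimes _ _ hq''
  rcases eq_or_lt_of_le hq₃q'' with e | hlt
  · apply hg q₃ hq₃
    rw [e]
    exact hq''.1.2 (Ideal.mem_span_singleton_self g)
  · have hq₃0 : (⊥ : Ideal A) < q₃ := by
      rw [bot_lt_iff_ne_bot]
      intro e
      have h2 : f ∈ q₃ := hq₃.1.2 (Ideal.mem_span_singleton_self f)
      rw [e, Ideal.mem_bot] at h2
      exact hf h2
    have h1 := Ideal.height_strict_mono_of_isPrime hq₃0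
    have h2 := Ideal.height_strict_mono_of_isPrime hlt
    have : q₃.height < 1 := lt_of_lt_of_le h2 hht
    have h3 : q₃.height = 0 := Order.lt_one_iff.mp this
    rw [h3] at h1
    exact absurd h1 (by simp)

section
variable {A : Type*} [CommRing A] [IsDomain A] [IsNoetherianRing A]
  (f : A) (hf : f ≠ 0) (h : ∀ p : Ideal A, p.IsPrime → p ≠ ⊥ → f ∈ p)
include hf h

theorem eq_of_le_of_forall_mem (p q : Ideal A) [hp : p.IsPrime] [hq : q.IsPrime] (hp0 : p ≠ ⊥)
    (hpq : p ≤ q) : p = q := by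
  have hq0 : q ≠ ⊥ := fun e => hp0 (le_bot_iff.mp (e ▸ hpq))
  have hqm := mem_minimalPrimes_of_forall_mem f hf h q hq0
  exact le_antisymm hpq
    (hqm.2 ⟨hp, (Ideal.span_singleton_le_iff_mem _).mpr (h p hp hp0)⟩ hpq)

theorem finite_primes_of_forall_mem : {p : Ideal A | p.IsPrime}.Finite := by
  refine ((Ideal.finite_minimalPrimes_of_isNoetherianRing A (Ideal.span {f})).insert ⊥).subset ?_
  intro p hp
  by_cases hp0 : p = ⊥
  · exact Set.mem_insert_iff.mpr (Or.inl hp0)
  · have : p.IsPrime := hp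
    exact Set.mem_insert_iff.mpr (Or.inr (mem_minimalPrimes_of_forall_mem f hf h p hp0))

theorem finite_primeSpectrum_of_forall_mem : Finite (PrimeSpectrum A) := by
  have := (finite_primes_of_forall_mem f hf h).to_subtype
  exact Finite.of_injective (fun x : PrimeSpectrum A => (⟨x.asIdeal, x.isPrime⟩ :
    {p : Ideal A | p.IsPrime})) (fun x y hxy => PrimeSpectrum.ext (congrArg Subtype.val hxy))

end

theorem exists_of_isOpen_bot {A : Type*} [CommRing A] [IsDomain A]
    (hopen : IsOpen {(⟨⊥, Ideal.isPrime_bot⟩ : PrimeSpectrum A)}) :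
    ∃ f : A, f ≠ 0 ∧ ∀ p : Ideal A, p.IsPrime → p ≠ ⊥ → f ∈ p := by
  obtain ⟨_, ⟨f, rfl⟩, hmem, hsub⟩ :=
    PrimeSpectrum.isTopologicalBasis_basic_opens.exists_subset_of_mem_open
      (Set.mem_singleton _) hopen
  refine ⟨f, ?_, ?_⟩
  · rintro rfl
    exact hmem (by simp)
  · intro p hp hp0
    by_contra hfp
    have := hsub (show (⟨p, hp⟩ : PrimeSpectrum A) ∈ (PrimeSpectrum.basicOpen f : Set _) from hfp)
    exact hp0 (congrArg PrimeSpectrum.asIdeal this)

/-- the quotient by a prime whose point is locally closed has an open generic point -/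
theorem exists_of_isLocallyClosed {R : Type*} [CommRing R] (x : PrimeSpectrum R)
    (hx : IsLocallyClosed ({x} : Set (PrimeSpectrum R))) :
    ∃ f : R ⧸ x.asIdeal, f ≠ 0 ∧ ∀ p : Ideal (R ⧸ x.asIdeal), p.IsPrime → p ≠ ⊥ → f ∈ p := by
  apply exists_of_isOpen_bot
  have hsurj : Function.Surjective (Ideal.Quotient.mk x.asIdeal) := Ideal.Quotient.mk_surjective
  have hι : (PrimeSpectrum.comap (Ideal.Quotient.mk x.asIdeal)) ⟨⊥, Ideal.isPrime_bot⟩ = x := by
    apply PrimeSpectrum.ext
    change Ideal.comap _ ⊥ = _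
    rw [← RingHom.ker_eq_comap_bot, Ideal.mk_ker]
  have : ({(⟨⊥, Ideal.isPrime_bot⟩ : PrimeSpectrum (R ⧸ x.asIdeal))} : Set _) =
      (PrimeSpectrum.comap (Ideal.Quotient.mk x.asIdeal)) ⁻¹' (coborder {x}) := by
    ext P
    simp only [Set.mem_singleton_iff, Set.mem_preimage]
    constructor
    · rintro rfl
      rw [hι]
      exact subset_coborder rfl
    · intro hP
      have hcl : (PrimeSpectrum.comap (Ideal.Quotient.mk x.asIdeal)) P ∈ closure {x} := by
        rw [← specializes_iff_mem_closure, ← PrimeSpectrum.le_iff_specializes]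
        refine le_trans (le_of_eq hι.symm) ?_
        exact Ideal.comap_mono (bot_le (a := P.asIdeal))
      have : (PrimeSpectrum.comap (Ideal.Quotient.mk x.asIdeal)) P ∈ coborder {x} ∩ closure {x} :=
        ⟨hP, hcl⟩
      rw [coborder_inter_closure, Set.mem_singleton_iff] at this
      exact PrimeSpectrum.comap_injective_of_surjective _ hsurj (this.trans hι.symm)
  rw [this]
  exact hx.isOpen_coborder.preimage (PrimeSpectrum.continuous_comap _)

theorem eq_of_lt_of_le_of_isLocallyClosed {R : Type*} [CommRing R] [IsNoetherianRing R]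
    (x : PrimeSpectrum R) (hx : IsLocallyClosed ({x} : Set (PrimeSpectrum R)))
    (y y' : PrimeSpectrum R) (hxy : x < y) (hyy' : y ≤ y') : y = y' := by
  obtain ⟨f, hf, h⟩ := exists_of_isLocallyClosed x hx
  have hsurj : Function.Surjective (Ideal.Quotient.mk x.asIdeal) := Ideal.Quotient.mk_surjective
  have hker : RingHom.ker (Ideal.Quotient.mk x.asIdeal) = x.asIdeal := Ideal.mk_ker
  have hxy' : x.asIdeal ≤ y.asIdeal := hxy.le
  have hxy'' : x.asIdeal ≤ y'.asIdeal := hxy'.trans hyy'
  have e1 : (y.asIdeal.map (Ideal.Quotient.mk x.asIdeal)).comap (Ideal.Quotient.mk x.asIdeal) =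
      y.asIdeal := by
    rw [Ideal.comap_map_of_surjective _ hsurj, ← RingHom.ker_eq_comap_bot, hker, sup_eq_left]
    exact hxy'
  have e2 : (y'.asIdeal.map (Ideal.Quotient.mk x.asIdeal)).comap (Ideal.Quotient.mk x.asIdeal) =
      y'.asIdeal := by
    rw [Ideal.comap_map_of_surjective _ hsurj, ← RingHom.ker_eq_comap_bot, hker, sup_eq_left]
    exact hxy''
  have p1 : (y.asIdeal.map (Ideal.Quotient.mk x.asIdeal)).IsPrime :=
    Ideal.map_isPrime_of_surjective hsurj (hker.le.trans hxy')
  have p2 : (y'.asIdeal.map (Ideal.Quotient.mk x.asIdeal)).IsPrime :=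
    Ideal.map_isPrime_of_surjective hsurj (hker.le.trans hxy'')
  have hne : y.asIdeal.map (Ideal.Quotient.mk x.asIdeal) ≠ ⊥ := by
    intro e
    rw [e, ← RingHom.ker_eq_comap_bot, hker] at e1
    exact hxy.ne (PrimeSpectrum.ext e1)
  have := eq_of_le_of_forall_mem f hf h _ _ hne (Ideal.map_mono (f := Ideal.Quotient.mk x.asIdeal) hyy')
  apply PrimeSpectrum.ext
  rw [← e1, ← e2, this]

theorem finite_closure_of_isLocallyClosed {R : Type*} [CommRing R] [IsNoetherianRing R]
    (x : PrimeSpectrum R) (hx : IsLocallyClosed ({x} : Set (PrimeSpectrum R))) :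
    (closure ({x} : Set (PrimeSpectrum R))).Finite := by
  obtain ⟨f, hf, h⟩ := exists_of_isLocallyClosed x hx
  have := finite_primeSpectrum_of_forall_mem f hf h
  have hsurj : Function.Surjective (Ideal.Quotient.mk x.asIdeal) := Ideal.Quotient.mk_surjective
  rw [PrimeSpectrum.closure_singleton, ← Ideal.mk_ker (I := x.asIdeal),
    ← range_comap_of_surjective _ _ hsurj]
  exact Set.finite_range _

end Groth.Agent.Helper5.Jac
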