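import Mathlib
import Groth.Agent.Helper5.JacCore

set_option autoImplicit false
universe u

namespace Groth.Agent.Helper5.Jac

open AlgebraicGeometry TopologicalSpace

/-- In a locally Noetherian scheme, below a locally closed point there are no chains of length two. -/
theorem eq_of_specializes_of_isLocallyClosed {X : Scheme.{u}} [IsLocallyNoetherian X] (x y y' : X)
    (hx : IsLocallyClosed ({x} : Set X)) (hxy : x ⤳ y) (hne : x ≠ y) (hyy' : y ⤳ y') : y = y' := by
  obtain ⟨_, ⟨W, hW, rfl⟩, hy'W, -⟩ :=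
    X.isBasis_affineOpens.exists_subset_of_mem_open (Set.mem_univ y') isOpen_univ
  have hW' : IsAffineOpen W := hW
  have hyW : y ∈ W := hyy'.mem_open W.isOpen hy'W
  have hxW : x ∈ W := hxy.mem_open W.isOpen hyW
  have : IsNoetherianRing Γ(X, W) := IsLocallyNoetherian.component_noetherian ⟨W, hW'⟩
  have hrange : Set.range hW'.fromSpec = W := hW'.range_fromSpec
  obtain ⟨x₀, rfl⟩ : x ∈ Set.range hW'.fromSpec := hrange ▸ hxW
  obtain ⟨y₀, rfl⟩ : y ∈ Set.range hW'.fromSpec := hrange ▸ hyW
  obtain ⟨y₀', rfl⟩ : y' ∈ Set.range hW'.fromSpec := hrange ▸ hy'W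
  have hemb := hW'.fromSpec.isOpenEmbedding
  have hx₀ : IsLocallyClosed ({x₀} : Set (PrimeSpectrum Γ(X, W))) := by
    have := hx.preimage hW'.fromSpec.continuous
    rwa [← Set.image_singleton, Set.preimage_image_eq _ hemb.injective] at this
  have h1 := (PrimeSpectrum.le_iff_specializes (R := Γ(X, W)) x₀ y₀).mpr
    (hemb.isInducing.specializes_iff.mp hxy)
  have h2 := (PrimeSpectrum.le_iff_specializes (R := Γ(X, W)) y₀ y₀').mpr
    (hemb.isInducing.specializes_iff.mp hyy')
  have h3 : x₀ ≠ y₀ := fun e => hne (congrArg _ e)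
  rw [eq_of_lt_of_le_of_isLocallyClosed (R := Γ(X, W)) x₀ hx₀ y₀ y₀' (lt_of_le_of_ne h1 h3) h2]

/-- S4712, second part -/
theorem isClosed_singleton_of_mem_closure {X : Scheme.{u}} [IsLocallyNoetherian X] (x : X)
    (hx : IsLocallyClosed ({x} : Set X)) (y : X) (hy : y ∈ closure ({x} : Set X)) (hne : y ≠ x) :
    IsClosed ({y} : Set X) := by
  rw [← closure_subset_iff_isClosed]
  intro y' hy'
  rw [← specializes_iff_mem_closure] at hy hy'
  exact (eq_of_specializes_of_isLocallyClosed x y y' hx hy hne.symm hy').symm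

/-- S4712, first part -/
theorem topologicalKrullDim_closure_le_one {X : Scheme.{u}} [IsLocallyNoetherian X] (x : X)
    (hx : IsLocallyClosed ({x} : Set X)) :
    topologicalKrullDim (closure ({x} : Set X)) ≤ 1 := by
  rw [topologicalKrullDim, Order.krullDim_le_one_iff]
  intro T
  have hqs : QuasiSober (closure ({x} : Set X)) :=
    (isClosed_closure.isClosedEmbedding_subtypeVal).quasiSober
  obtain ⟨t, ht⟩ := QuasiSober.sober T.isIrreducible' T.isClosed'
  by_cases htx : (t : X) = x
  · right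
    intro T' _
    change (T' : Set (closure ({x} : Set X))) ⊆ (T : Set (closure ({x} : Set X)))
    intro z _
    change z ∈ T.carrier
    rw [← ht.def, ← specializes_iff_mem_closure, ← Topology.IsInducing.subtypeVal.specializes_iff,
      htx, specializes_iff_mem_closure]
    exact z.2
  · left
    intro T' hT'T
    change (T : Set (closure ({x} : Set X))) ⊆ (T' : Set (closure ({x} : Set X)))
    have hcl : IsClosed ({t} : Set (closure ({x} : Set X))) := by
      have := isClosed_singleton_of_mem_closure x hx t t.2 htx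
      have h2 := this.preimage continuous_subtype_val (X := closure ({x} : Set X))
      convert h2 using 1
      ext z
      simp [Subtype.ext_iff]
    have hT : (T : Set (closure ({x} : Set X))) = {t} := by
      change T.carrier = {t}
      rw [← ht.def, hcl.closure_eq]
    rw [hT]
    obtain ⟨z, hz⟩ := T'.isIrreducible'.nonempty
    have : z ∈ (T : Set (closure ({x} : Set X))) := hT'T hz
    rw [hT, Set.mem_singleton_iff] at this
    rw [Set.singleton_subset_iff, ← this]
    exact hz

/-- a nonempty closed subset of a prime spectrum contains a closed point -/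
theorem exists_isClosed_singleton_mem {R : Type*} [CommRing R] (C : Set (PrimeSpectrum R))
    (hC : IsClosed C) (hne : C.Nonempty) : ∃ m ∈ C, IsClosed ({m} : Set (PrimeSpectrum R)) := by
  obtain ⟨I, rfl⟩ := (PrimeSpectrum.isClosed_iff_zeroLocus_ideal C).mp hC
  obtain ⟨p, hp⟩ := hne
  have hI : I ≠ ⊤ := by
    rintro rfl
    rw [PrimeSpectrum.mem_zeroLocus] at hp
    exact p.isPrime.ne_top (top_le_iff.mp hp)
  obtain ⟨M, hM, hIM⟩ := Ideal.exists_le_maximal I hI
  refine ⟨⟨M, hM.isPrime⟩, ?_, ?_⟩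
  · rw [PrimeSpectrum.mem_zeroLocus]; exact hIM
  · rw [PrimeSpectrum.isClosed_singleton_iff_isMaximal]; exact hM

/-- In a locally Noetherian scheme, every nonempty locally closed subset contains a point which is
closed in it (and locally closed in the scheme). -/
theorem exists_closedPoint_of_isLocallyClosed {X : Scheme.{u}} [IsLocallyNoetherian X] (Z : Set X)
    (hZ : IsLocallyClosed Z) (hne : Z.Nonempty) :
    ∃ z ∈ Z, closure ({z} : Set X) ∩ Z = {z} ∧ IsLocallyClosed ({z} : Set X) := by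
  obtain ⟨z₀, hz₀⟩ := hne
  have htf : IsLocallyClosed Z → ∀ x ∈ Z, ∃ U, x ∈ U ∧ IsOpen U ∧ U ∩ closure Z ⊆ Z :=
    ((isLocallyClosed_tfae Z).out 0 3).mp
  obtain ⟨U₀, hz₀U, hU₀, hU₀Z⟩ := htf hZ z₀ hz₀
  obtain ⟨_, ⟨W, hW, rfl⟩, hz₀W, hWU⟩ :=
    X.isBasis_affineOpens.exists_subset_of_mem_open hz₀U hU₀
  have hW' : IsAffineOpen W := hW
  have hemb := hW'.fromSpec.isOpenEmbedding
  have hrange : Set.range hW'.fromSpec = W := hW'.range_fromSpec
  have hpre : hW'.fromSpec ⁻¹' Z = hW'.fromSpec ⁻¹' (closure Z) := by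
    ext p
    constructor
    · intro hp; exact subset_closure hp
    · intro hp
      exact hU₀Z ⟨hWU (hrange ▸ Set.mem_range_self p), hp⟩
  have hcl : IsClosed (hW'.fromSpec ⁻¹' Z) := by
    rw [hpre]; exact isClosed_closure.preimage hW'.fromSpec.continuous
  have hne' : (hW'.fromSpec ⁻¹' Z).Nonempty := by
    obtain ⟨p, hp⟩ : z₀ ∈ Set.range hW'.fromSpec := hrange ▸ hz₀W
    exact ⟨p, by rw [Set.mem_preimage, hp]; exact hz₀⟩
  obtain ⟨m, hmZ, hm⟩ := exists_isClosed_singleton_mem (R := Γ(X, W)) _ hcl hne'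
  have hlc : IsLocallyClosed ({hW'.fromSpec m} : Set X) := by
    rw [← Set.image_singleton]
    exact hm.isLocallyClosed.image hemb.isInducing hemb.isOpen_range.isLocallyClosed
  by_cases hcase : closure ({hW'.fromSpec m} : Set X) ∩ Z = {hW'.fromSpec m}
  · exact ⟨_, hmZ, hcase, hlc⟩
  · obtain ⟨z₂, hz₂, hz₂ne⟩ : ∃ z₂ ∈ closure ({hW'.fromSpec m} : Set X) ∩ Z, z₂ ≠ hW'.fromSpec m := by
      by_contra hcon
      push Not at hcon
      apply hcase
      ext z
      constructor
      · intro hz; exact hcon z hz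
      · rintro rfl; exact ⟨subset_closure rfl, hmZ⟩
    have hcl₂ := isClosed_singleton_of_mem_closure _ hlc z₂ hz₂.1 hz₂ne
    refine ⟨z₂, hz₂.2, ?_, hcl₂.isLocallyClosed⟩
    rw [hcl₂.closure_eq]
    exact Set.inter_eq_left.mpr (Set.singleton_subset_iff.mpr hz₂.2)

/-- S4713 -/
theorem exists_closedPoint_of_isClosed {X : Scheme.{u}} [IsLocallyNoetherian X]
    (Z : Set X) (hZ : IsClosed Z) (hne : Z.Nonempty) : ∃ x ∈ Z, IsClosed ({x} : Set X) := by
  obtain ⟨z, hzZ, hz, -⟩ := exists_closedPoint_of_isLocallyClosed Z hZ.isLocallyClosed hne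
  refine ⟨z, hzZ, ?_⟩
  rw [← closure_subset_iff_isClosed]
  have h1 : closure ({z} : Set X) ⊆ Z := closure_minimal (Set.singleton_subset_iff.mpr hzZ) hZ
  have h2 : closure ({z} : Set X) ⊆ closure ({z} : Set X) ∩ Z := Set.subset_inter subset_rfl h1
  rwa [hz] at h2

/-- a point `t` of an open subspace `T` of a locally Noetherian scheme `X`, locally closed in `X`,
such that all closed points of `X` lie outside `T`, is closed in `T` -/
theorem isClosed_singleton_subtype {X : Scheme.{u}} [IsLocallyNoetherian X] (T : Set X)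
    (hT : ∀ y : X, IsClosed ({y} : Set X) → y ∉ T) (t : T)
    (hlc : IsLocallyClosed ({(t : X)} : Set X)) : IsClosed ({t} : Set T) := by
  rw [← closure_subset_iff_isClosed]
  intro t' ht'
  by_contra hne'
  have h1 : (t' : X) ∈ closure {(t : X)} := by
    rw [← specializes_iff_mem_closure] at ht' ⊢
    exact Topology.IsInducing.subtypeVal.specializes_iff.mpr ht'
  have hcl := isClosed_singleton_of_mem_closure _ hlc t' h1 (fun e => hne' (Subtype.ext e))
  exact hT _ hcl t'.2

/-- S3432 -/
theorem jacobsonSpace_compl {X : Scheme.{u}} [IsLocallyNoetherian X] (Y : Set X)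
    (hY : IsClosed Y) (hmeet : ∀ Z : Set X, IsClosed Z → Z.Nonempty → (Z ∩ Y).Nonempty) :
    JacobsonSpace ↥(Yᶜ) := by
  rw [jacobsonSpace_iff_locallyClosed]
  intro Z' hne hZ'
  have hopen : Topology.IsOpenEmbedding (Subtype.val : ↥(Yᶜ) → X) :=
    hY.isOpen_compl.isOpenEmbedding_subtypeVal
  have hZ : IsLocallyClosed (Subtype.val '' Z') :=
    hZ'.image hopen.isInducing hopen.isOpen_range.isLocallyClosed
  obtain ⟨z, hzZ, -, hzlc⟩ := exists_closedPoint_of_isLocallyClosed _ hZ (hne.image _)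
  obtain ⟨t, htZ', rfl⟩ := hzZ
  refine ⟨t, htZ', ?_⟩
  rw [mem_closedPoints_iff]
  refine isClosed_singleton_subtype _ ?_ t hzlc
  intro y hy hyY
  obtain ⟨y', hy1, hy2⟩ := hmeet _ hy (Set.singleton_nonempty _)
  rw [Set.mem_singleton_iff] at hy1
  subst hy1
  exact hyY hy2

end Groth.Agent.Helper5.Jac
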