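import Groth.Agent.Helper2.DepthCM

set_option autoImplicit false
universe u
open IsLocalRing RingTheory.Sequence

namespace Groth.Agent.Helper5.NormDepth

/-- A normal Noetherian local domain of depth one has principal maximal ideal. -/
theorem isPrincipal_maximalIdeal_of_depth_one (A : Type u) [CommRing A] [IsDomain A]
    [IsNoetherianRing A] [IsLocalRing A] [IsIntegrallyClosed A] (h : LocCoh.depth A A = 1) :
    (maximalIdeal A).IsPrincipal ∧ ¬ IsField A := by
  have hIM : maximalIdeal A • (⊤ : Submodule A A) ≠ ⊤ :=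
    Groth.Agent.Helper2.Depth.smul_top_ne_top A A
  obtain ⟨rs, hreg, hmem, hmax, hlen⟩ :=
    Groth.Agent.Helper2.DepthCM.exists_length_eq_idealDepth (maximalIdeal A) A hIM
  have hlen1 : rs.length = 1 := by
    have : (rs.length : ℕ∞) = 1 := hlen.trans h
    exact_mod_cast this
  obtain ⟨b, rfl⟩ := List.length_eq_one_iff.1 hlen1
  have hbreg : IsSMulRegular A b := (isWeaklyRegular_singleton_iff A b).1 hreg
  have hbm : b ∈ maximalIdeal A := hmem b (by simp)
  have hb0 : b ≠ 0 := by
    intro h0
    have := hbreg (show b • (1 : A) = b • (0 : A) by rw [h0]; simp)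
    exact one_ne_zero this
  have hnf : ¬ IsField A := by
    rw [IsLocalRing.isField_iff_maximalIdeal_eq]
    intro hbot
    rw [hbot] at hbm
    exact hb0 hbm
  refine ⟨?_, hnf⟩
  let M := QuotSMulTop b A
  have hnreg : ∀ r ∈ maximalIdeal A, ¬ IsSMulRegular M r := by
    intro r hr hcon
    apply hmax r hr
    show IsWeaklyRegular A [b, r]
    rw [isWeaklyRegular_cons_iff]
    exact ⟨hbreg, (isWeaklyRegular_singleton_iff M r).2 hcon⟩
  have hass : maximalIdeal A ∈ associatedPrimes A M :=
    Groth.Agent.Helper2.Ass.maximalIdeal_mem_ass_of_forall_not_regular A M hnreg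
  rw [AssociatedPrimes.mem_iff, isAssociatedPrime_iff] at hass
  obtain ⟨-, y, hy⟩ := hass
  obtain ⟨a, rfl⟩ := Submodule.Quotient.mk_surjective _ y
  have hmemN : ∀ z : A, (Submodule.Quotient.mk z : M) = 0 ↔ ∃ c : A, z = b * c := by
    intro z
    rw [Submodule.Quotient.mk_eq_zero, Submodule.mem_smul_pointwise_iff_exists]
    constructor
    · rintro ⟨c, -, hc⟩
      exact ⟨c, hc.symm⟩
    · rintro ⟨c, hc⟩
      exact ⟨c, trivial, hc.symm⟩
  have hkey : ∀ t : A, t ∈ maximalIdeal A ↔ ∃ c : A, t * a = b * c := by
    intro t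
    rw [hy, Submodule.mem_colon_singleton, Submodule.mem_bot]
    show t • (Submodule.Quotient.mk a : M) = 0 ↔ _
    rw [← Submodule.Quotient.mk_smul, hmemN]
    rfl
  have hab : ∀ c : A, a ≠ b * c := by
    intro c hc
    have h1 : (1 : A) ∈ maximalIdeal A := (hkey 1).2 ⟨c, by rw [one_mul]; exact hc⟩
    exact (Ideal.ne_top_iff_one _).1 (Ideal.IsPrime.ne_top inferInstance) h1
  have ha0 : a ≠ 0 := fun h0 => hab 0 (by rw [h0, mul_zero])
  by_cases hcase : ∀ t ∈ maximalIdeal A, ∀ c : A, t * a = b * c → c ∈ maximalIdeal A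
  · -- `a / b` is integral, contradiction
    exfalso
    let K := FractionRing A
    have hinj : Function.Injective (algebraMap A K) := IsFractionRing.injective A K
    have hbK : algebraMap A K b ≠ 0 := fun h0 => hb0 (hinj (by rw [h0, map_zero]))
    let g : K := algebraMap A K a / algebraMap A K b
    let N : Submodule A K := Submodule.map (Algebra.linearMap A K) (maximalIdeal A)
    have hNbot : N ≠ ⊥ := by
      intro hbot
      have : algebraMap A K b ∈ N := ⟨b, hbm, rfl⟩
      rw [hbot, Submodule.mem_bot] at this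
      exact hbK this
    have hNfg : N.FG := (IsNoetherian.noetherian (maximalIdeal A)).map _
    have hgN : ∀ n ∈ N, g • n ∈ N := by
      rintro n ⟨t, ht, rfl⟩
      obtain ⟨c, hc⟩ := (hkey t).1 ht
      refine ⟨c, hcase t ht c hc, ?_⟩
      show algebraMap A K c = g * algebraMap A K t
      have : algebraMap A K t * algebraMap A K a = algebraMap A K b * algebraMap A K c := by
        rw [← map_mul, ← map_mul, hc]
      show algebraMap A K c = algebraMap A K a / algebraMap A K b * algebraMap A K t
      rw [div_mul_eq_mul_div, eq_div_iff hbK, mul_comm (algebraMap A K c), ← this, mul_comm]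
    have hint : IsIntegral A g := isIntegral_of_smul_mem_submodule N hNbot hNfg g hgN
    obtain ⟨c, hc⟩ := IsIntegrallyClosed.isIntegral_iff.1 hint
    apply hab c
    apply hinj
    rw [map_mul, hc]
    show algebraMap A K a = algebraMap A K b * (algebraMap A K a / algebraMap A K b)
    rw [mul_comm, div_mul_cancel₀ _ hbK]
  · push Not at hcase
    obtain ⟨t, ht, c, hc, hcm⟩ := hcase
    have hcu : IsUnit c := by
      by_contra hnu
      exact hcm ((mem_maximalIdeal c).2 hnu)
    obtain ⟨u, rfl⟩ := hcu
    refine ⟨⟨t, ?_⟩⟩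
    apply le_antisymm
    · intro s hs
      obtain ⟨cs, hcs⟩ := (hkey s).1 hs
      rw [Submodule.mem_span_singleton]
      refine ⟨cs * ↑u⁻¹, ?_⟩
      have h1 : s * (u : A) * a = t * cs * a := by
        calc s * (u : A) * a = (s * a) * u := by ring
          _ = b * cs * u := by rw [hcs]
          _ = (b * u) * cs := by ring
          _ = (t * a) * cs := by rw [hc]
          _ = t * cs * a := by ring
      have h2 : s * (u : A) = t * cs := mul_right_cancel₀ ha0 h1
      show (cs * ↑u⁻¹) • t = s
      rw [smul_eq_mul]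
      calc cs * ↑u⁻¹ * t = (t * cs) * ↑u⁻¹ := by ring
        _ = s * u * ↑u⁻¹ := by rw [h2]
        _ = s := by rw [mul_assoc, Units.mul_inv, mul_one]
    · rw [Submodule.span_singleton_le_iff_mem]
      exact ht

/-- A normal Noetherian local domain of depth one is a discrete valuation ring. -/
theorem isDiscreteValuationRing_of_depth_one (A : Type u) [CommRing A] [IsDomain A]
    [IsNoetherianRing A] [IsLocalRing A] [IsIntegrallyClosed A] (h : LocCoh.depth A A = 1) :
    IsDiscreteValuationRing A := by
  obtain ⟨h1, h2⟩ := isPrincipal_maximalIdeal_of_depth_one A h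
  exact ((IsDiscreteValuationRing.TFAE A h2).out 0 4).2 h1

end Groth.Agent.Helper5.NormDepth
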