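import Mathlib

set_option autoImplicit false
universe u

namespace Groth.Agent.Helper5.ConstrCurve
open AlgebraicGeometry CategoryTheory TopologicalSpace Topology

variable {X : Type*} [TopologicalSpace X] [NoetherianSpace X] [IrreducibleSpace X] [QuasiSober X]
  [T0Space X]

theorem isClosed_singleton_of_ne (hdim : topologicalKrullDim X ≤ 1) (x : X)
    (hx : x ≠ genericPoint X) : IsClosed ({x} : Set X) := by
  have hgen : closure ({genericPoint X} : Set X) = Set.univ := (genericPoint_spec X).def
  let Z : IrreducibleCloseds X := ⟨closure {x}, isIrreducible_singleton.closure, isClosed_closure⟩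
  let T : IrreducibleCloseds X := ⟨Set.univ, IrreducibleSpace.isIrreducible_univ X, isClosed_univ⟩
  rcases (Order.krullDim_le_one_iff.mp hdim) Z with hmin | hmax
  · -- closure {x} = {x}
    have : closure ({x} : Set X) = {x} := by
      apply Set.Subset.antisymm _ subset_closure
      intro y hy
      let Y : IrreducibleCloseds X :=
        ⟨closure {y}, isIrreducible_singleton.closure, isClosed_closure⟩
      have hYZ : Y ≤ Z := by
        change closure {y} ⊆ closure {x}
        exact isClosed_closure.closure_subset_iff.mpr (Set.singleton_subset_iff.mpr hy)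
      have hZY : Z ≤ Y := hmin hYZ
      have hxy : x ∈ closure ({y} : Set X) := hZY (subset_closure rfl)
      have h1 : y ⤳ x := specializes_iff_mem_closure.mpr hxy
      have h2 : x ⤳ y := specializes_iff_mem_closure.mpr hy
      exact (h2.antisymm h1).eq.symm
    rw [← this]
    exact isClosed_closure
  · exfalso
    have hZT : Z ≤ T := fun y _ => Set.mem_univ y
    have hTZ : T ≤ Z := hmax hZT
    have h1 : x ⤳ genericPoint X := specializes_iff_mem_closure.mpr (hTZ (Set.mem_univ _))
    have h2 : genericPoint X ⤳ x := specializes_iff_mem_closure.mpr (by rw [hgen]; trivial)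
    exact hx (h1.antisymm h2).eq

theorem finite_of_isClosed_of_notMem (hdim : topologicalKrullDim X ≤ 1) (Z : Set X)
    (hZ : IsClosed Z) (hη : genericPoint X ∉ Z) : Z.Finite := by
  obtain ⟨S, hSf, hSc, hSi, rfl⟩ := NoetherianSpace.exists_finite_set_isClosed_irreducible hZ
  apply Set.Finite.sUnion hSf
  intro t ht
  obtain ⟨z, hz⟩ := QuasiSober.sober (hSi t ht) (hSc t ht)
  have hzt : z ∈ t := hz.mem
  have hzne : z ≠ genericPoint X := by
    rintro rfl
    exact hη ⟨t, ht, hzt⟩
  have := isClosed_singleton_of_ne hdim z hzne
  rw [← hz.def, this.closure_eq]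
  exact Set.finite_singleton z

theorem constructible_dichotomy (hdim : topologicalKrullDim X ≤ 1) (s : Set X)
    (hs : IsConstructible s) :
    (genericPoint X ∉ s → s.Finite) ∧ (genericPoint X ∈ s → sᶜ.Finite) := by
  induction hs using IsConstructible.empty_union_induction with
  | open_retrocompact U hUo _ =>
    constructor
    · intro hη
      have : U = ∅ := by
        by_contra hne
        apply hη
        rw [(genericPoint_spec X).mem_open_set_iff hUo, Set.univ_inter]
        exact Set.nonempty_iff_ne_empty.mpr hne
      rw [this]; exact Set.finite_empty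
    · intro hη
      exact finite_of_isClosed_of_notMem hdim Uᶜ hUo.isClosed_compl (fun h => h hη)
  | union s hs t ht ihs iht =>
    constructor
    · intro hη
      rw [Set.mem_union, not_or] at hη
      exact (ihs.1 hη.1).union (iht.1 hη.2)
    · intro hη
      rw [Set.compl_union]
      rcases hη with hη | hη
      · exact (ihs.2 hη).subset Set.inter_subset_left
      · exact (iht.2 hη).subset Set.inter_subset_right
  | compl s hs ih =>
    constructor
    · intro hη
      exact ih.2 (by simpa using hη)
    · intro hη
      rw [compl_compl]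
      exact ih.1 hη

theorem main {X : Scheme.{u}} [IsNoetherian X]
    [IrreducibleSpace X] (hX : topologicalKrullDim X = 1) (s : Set X) (hs : Topology.IsConstructible s) :
    (s.Finite ∧ (∀ x ∈ s, IsClosed ({x} : Set X))) ∨ (sᶜ.Finite ∧ ∀ x ∈ sᶜ, IsClosed ({x} : Set X)) := by
  have hdim : topologicalKrullDim X ≤ 1 := hX.le
  obtain ⟨h1, h2⟩ := constructible_dichotomy hdim s hs
  by_cases hη : genericPoint X ∈ s
  · right
    refine ⟨h2 hη, fun x hx => isClosed_singleton_of_ne hdim x ?_⟩
    rintro rfl
    exact hx hη
  · left
    refine ⟨h1 hη, fun x hx => isClosed_singleton_of_ne hdim x ?_⟩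
    rintro rfl
    exact hη hx

end Groth.Agent.Helper5.ConstrCurve
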