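import Mathlib

set_option autoImplicit false
universe u

namespace Groth.Agent.Helper5.FlatComp
open AlgebraicGeometry CategoryTheory TopologicalSpace

/-- In a quasi-sober space, an irreducible component is the closure of a point, and any point
generalizing to ... -/
theorem exists_generic_of_mem_irreducibleComponents {X : Type*} [TopologicalSpace X] [QuasiSober X]
    {Z : Set X} (hZ : Z ∈ irreducibleComponents X) : ∃ ζ : X, closure {ζ} = Z := by
  obtain ⟨ζ, hζ⟩ := QuasiSober.sober hZ.1 (isClosed_of_mem_irreducibleComponents Z hZ)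
  exact ⟨ζ, hζ.def⟩

/-- a point whose closure is an irreducible component is maximal for generalization -/
theorem eq_of_specializes_of_closure_mem {X : Type*} [TopologicalSpace X] [T0Space X]
    {η y : X} (hη : closure {η} ∈ irreducibleComponents X) (h : y ⤳ η) : y = η := by
  have h1 : closure {η} ⊆ closure {y} := specializes_iff_closure_subset.mp h
  have h2 : closure {y} ⊆ closure {η} :=
    hη.2 (isIrreducible_singleton.closure) h1
  exact ((specializes_iff_closure_subset.mpr h2).antisymm h).symm.eq

theorem main {X Y : Scheme.{u}}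
    [IsNoetherian X] [IsNoetherian Y] (f : X ⟶ Y) [Flat f]
    (Y' : Set ↥Y) (hY' : Y' ∈ irreducibleComponents ↥Y) :
    f.base ⁻¹' Y' = ⋃₀ {Z : Set ↥X | Z ∈ irreducibleComponents ↥X ∧ f.base '' Z ⊆ Y'} := by
  obtain ⟨η, hη⟩ := exists_generic_of_mem_irreducibleComponents hY'
  have hηmax : closure {η} ∈ irreducibleComponents ↥Y := hη ▸ hY'
  have hY'closed : IsClosed Y' := isClosed_of_mem_irreducibleComponents Y' hY'
  apply Set.Subset.antisymm
  · intro x hx
    have hspec : η ⤳ f.base x := by
      rw [specializes_iff_mem_closure, hη]; exact hx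
    obtain ⟨x', hx'x, hfx'⟩ := Flat.generalizingMap f hspec
    -- irreducible component of x'
    have hZ := irreducibleComponent_mem_irreducibleComponents x'
    obtain ⟨ζ, hζ⟩ := exists_generic_of_mem_irreducibleComponents hZ
    have hζx' : ζ ⤳ x' := by
      rw [specializes_iff_mem_closure, hζ]; exact mem_irreducibleComponent
    have hfζ : f.base ζ = η := by
      apply eq_of_specializes_of_closure_mem hηmax
      rw [← hfx']
      exact hζx'.map f.base.hom.continuous
    refine ⟨irreducibleComponent x', ⟨hZ, ?_⟩, ?_⟩
    · rw [← hζ]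
      refine (image_closure_subset_closure_image f.base.hom.continuous).trans ?_
      rw [Set.image_singleton, hfζ, hη]
    · rw [← hζ, ← specializes_iff_mem_closure]
      exact hζx'.trans hx'x
  · rintro x ⟨Z, ⟨_, hZY'⟩, hxZ⟩
    exact hZY' ⟨x, hxZ, rfl⟩

end Groth.Agent.Helper5.FlatComp
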