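import Mathlib
import Groth.Agent.Helper4.AssRes
import Groth.Agent.Helper4.AssMax
import Groth.Agent.Lead.WeakAss
import Groth.Agent.Helper4.FinLocFree6
import Groth.Agent.Helper5.FlatComp
import Groth.Prelude.Def_FDesc

set_option autoImplicit false
universe u
open CategoryTheory CategoryTheory.Limits AlgebraicGeometry TopologicalSpace Opposite

namespace Groth.Agent.Helper5.RedDense

/-- In a Noetherian quasi-sober T0 space, every point is a specialization of a maximal point lying
in a given dense open. -/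
theorem exists_generic_mem_of_dense_top {T : Type*} [TopologicalSpace T] [NoetherianSpace T]
    [QuasiSober T] [T0Space T] (W : Set T) (hWo : IsOpen W) (hW : Dense W) (y : T) :
    ∃ η : T, η ⤳ y ∧ η ∈ W ∧ ∀ z : T, z ⤳ η → z = η := by
  have hZ : irreducibleComponent y ∈ irreducibleComponents T := irreducibleComponent_mem_irreducibleComponents y
  obtain ⟨η, hη⟩ := FlatComp.exists_generic_of_mem_irreducibleComponents hZ
  obtain ⟨o, ho, hone, hoZ⟩ :=
    NoetherianSpace.exists_isOpen_nonempty_subset_irreducibleComponent _ hZ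
  obtain ⟨z, hzo, hzW⟩ := hW.inter_open_nonempty o ho hone
  have hηz : η ⤳ z := by
    rw [specializes_iff_mem_closure, hη]; exact hoZ hzo
  refine ⟨η, ?_, hηz.mem_open hWo hzW, fun w hw => ?_⟩
  · rw [specializes_iff_mem_closure, hη]; exact mem_irreducibleComponent
  · exact FlatComp.eq_of_specializes_of_closure_mem (hη ▸ hZ) hw

theorem exists_generic_mem_of_dense {X : Scheme.{u}} [IsLocallyNoetherian X] (U : X.Opens)
    (hU : Dense (U : Set X)) (y : X) :
    ∃ η : X, η ⤳ y ∧ η ∈ U ∧ ∀ z : X, z ⤳ η → z = η := by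
  obtain ⟨_, ⟨V, hV : IsAffineOpen V, rfl⟩, hyV, -⟩ :=
    X.isBasis_affineOpens.exists_subset_of_mem_open (Set.mem_univ y) isOpen_univ
  haveI : IsNoetherianRing Γ(X, V) := IsLocallyNoetherian.component_noetherian ⟨V, hV⟩
  haveI : NoetherianSpace (↥V) := by
    have e : ↥(Spec Γ(X, V)) ≃ₜ ↥(V : Scheme.{u}) := (hV.isoSpec.symm).hom.homeomorph
    exact (noetherianSpace_iff_of_homeomorph e).mp inferInstance
  haveI : QuasiSober (↥V) := inferInstanceAs (QuasiSober ↥(V : Scheme.{u}))
  haveI : T0Space (↥V) := inferInstanceAs (T0Space ↥(V : Scheme.{u}))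
  obtain ⟨η, hηy, hηU, hmax⟩ := exists_generic_mem_of_dense_top (T := ↥V)
    (Subtype.val ⁻¹' (U : Set X)) (U.2.preimage continuous_subtype_val)
    (hU.preimage V.2.isOpenEmbedding_subtypeVal.isOpenMap) ⟨y, hyV⟩
  refine ⟨η.1, hηy.map continuous_subtype_val, hηU, fun z hz => ?_⟩
  have hzV : z ∈ V := hz.mem_open V.2 η.2
  have := hmax ⟨z, hzV⟩ ((Topology.IsInducing.subtypeVal.specializes_iff (x := (⟨z, hzV⟩ : ↥V)) (y := η)).mp hz)
  exact congrArg Subtype.val this

end Groth.Agent.Helper5.RedDense

namespace Groth.Agent.Helper5.RedDense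
open Groth.Agent.Helper4 Groth.Agent.Lead

theorem mem_support_structureModule (X : Scheme.{u}) (x : X) :
    x ∈ CohB1.support (Coh.structureModule X) := by
  intro hsub
  obtain ⟨_, ⟨V, hV : IsAffineOpen V, rfl⟩, hxV, -⟩ :=
    X.isBasis_affineOpens.exists_subset_of_mem_open (Set.mem_univ x) isOpen_univ
  have h1 : WeakAss.germF V x hxV 1 = 0 := Subsingleton.elim _ _
  rw [WeakAss.germF_eq_zero_iff, map_one] at h1
  exact one_ne_zero h1

theorem s2510 {X : Scheme.{u}} [IsLocallyNoetherian X]
    (U : X.Opens) (hU : Dense (U : Set X)) [IsReduced (↑U : Scheme.{u})]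
    (h : AssSch.NoEmbedded (Coh.structureModule X)) : IsReduced X := by
  haveI : (Coh.structureModule X).IsQuasicoherent :=
    FinLocFree4.isQuasicoherent_of_isFinLocFree _ (FinLocFree6.isFinLocFree_unit (X := X))
  have hass : ∀ y, Curv2.IsAssPoint (Coh.structureModule X) y → y ∈ U := by
    intro y hy
    obtain ⟨η, hηy, hηU, hmax⟩ := exists_generic_mem_of_dense U hU y
    have hηass : Curv2.IsAssPoint (Coh.structureModule X) η :=
      AssMax.isAssPoint_of_maximal_in_support _ η (mem_support_structureModule X η)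
        (fun z _ hz => hmax z hz)
    have := h y hy η hηass hηy
    rw [this]; exact hηU
  have hred : ∀ y ∈ U, IsReduced (X.presheaf.stalk y) := by
    intro y hy
    have e := U.stalkIso ⟨y, hy⟩
    exact isReduced_of_injective e.inv.hom (ConcreteCategory.bijective_of_isIso e.inv).1
  refine ⟨fun V => ⟨fun s hs => ?_⟩⟩
  have : WeakAss.toF V s = 0 := by
    apply AssRes.section_eq_zero_of_germ_assPoint
    intro y hy hyass
    show WeakAss.germF V y hy s = 0
    rw [WeakAss.germF_eq_zero_iff]
    haveI := hred y (hass y hyass)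
    exact (hs.map (X.presheaf.germ V y hy).hom).eq_zero
  exact this

end Groth.Agent.Helper5.RedDense
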