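import Groth.Agent.Helper5.DimFormula7

set_option autoImplicit false
universe u
open AlgebraicGeometry CategoryTheory TopologicalSpace

namespace Groth.Agent.Helper5.DimFormula

/-- The transcendence degree of a residue field extension of a morphism of schemes, computed in
affine charts. -/
theorem chart_trdeg {X S : Scheme.{u}} (f : X ⟶ S) (U : S.Opens) (hU : IsAffineOpen U)
    (W : X.Opens) (hW : IsAffineOpen W) (e : W ≤ f ⁻¹ᵁ U) (z : X) (hz : z ∈ W) :
    letI : Algebra Γ(S, U) Γ(X, W) := (f.appLE U W e).hom.toAlgebra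
    ∀ (p : Ideal Γ(S, U)) [p.IsPrime] (q : Ideal Γ(X, W)) [q.IsPrime] [q.LiesOver p],
      (hW.primeIdealOf ⟨z, hz⟩).asIdeal = q →
      @Algebra.trdeg (S.residueField (f z)) (X.residueField z) _ _
        (f.residueFieldMap z).hom.toAlgebra = Algebra.trdeg (Γ(S, U) ⧸ p) (Γ(X, W) ⧸ q) := by
  letI : Algebra Γ(S, U) Γ(X, W) := (f.appLE U W e).hom.toAlgebra
  intro p _ q _ hqp hq
  have hb : RingHom.ker (X.evaluation W z hz).hom = q := by
    rw [ker_evaluation W hW z hz, hq]
  have ha : RingHom.ker (S.evaluation U (f z) (e hz)).hom = p := by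
    rw [ker_evaluation U hU (f z) (e hz), ← IsAffineOpen.comap_primeIdealOf_appLE U hU W hW e hz]
    show Ideal.comap (f.appLE U W e).hom (hW.primeIdealOf ⟨z, hz⟩).asIdeal = p
    rw [hq, hqp.over]
    rfl
  exact trdeg_eq_of_fraction_data p q (S.evaluation U (f z) (e hz)).hom (X.evaluation W z hz).hom
    (f.residueFieldMap z).hom (fun x => evaluation_appLE f U W e z hz x) ha hb
    (evaluation_fraction U hU (f z) (e hz)) (evaluation_fraction W hW z hz)

/-- A point without proper generisations is the generic point of an irreducible component. -/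
theorem closure_mem_irreducibleComponents {T : Type*} [TopologicalSpace T] [QuasiSober T]
    [T0Space T] (ξ : T) (h : ∀ η : T, η ⤳ ξ → η = ξ) :
    closure ({ξ} : Set T) ∈ irreducibleComponents T := by
  refine ⟨isIrreducible_singleton.closure, ?_⟩
  intro Z hZ hsub
  have hZc : IsIrreducible (closure Z) := hZ.closure
  obtain ⟨η, hη⟩ := QuasiSober.sober hZc isClosed_closure
  have hη' : closure {η} = closure Z := hη.def
  have hξη : η ⤳ ξ := by
    rw [specializes_iff_mem_closure, hη']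
    exact subset_closure (hsub (subset_closure rfl))
  have := h η hξη
  subst this
  exact fun z hz => hη' ▸ subset_closure hz

/-- The dimension inequality for a morphism locally of finite type to a locally Noetherian
scheme, at a point `x`: there is a generic point `ξ` of an irreducible component through `x` with
`dim O_{X,x} + trdeg κ(x)/κ(f x) ≤ dim O_{S,f x} + trdeg κ(ξ)/κ(f ξ)`. -/
theorem scheme_dimension_inequality {X S : Scheme.{u}} [IsLocallyNoetherian S] (f : X ⟶ S)
    [LocallyOfFiniteType f] (x : X) :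
    ∃ (ξ : X) (a c : ℕ), closure ({ξ} : Set X) ∈ irreducibleComponents X ∧ ξ ⤳ x ∧
      ringKrullDim (X.presheaf.stalk x) = a ∧ ringKrullDim (S.presheaf.stalk (f x)) = c ∧
      (a : Cardinal.{u}) + @Algebra.trdeg (S.residueField (f x)) (X.residueField x) _ _
          (f.residueFieldMap x).hom.toAlgebra ≤
        (c : Cardinal.{u}) + @Algebra.trdeg (S.residueField (f ξ)) (X.residueField ξ) _ _
          (f.residueFieldMap ξ).hom.toAlgebra := by
  obtain ⟨U, hU, hfxU⟩ : ∃ U : S.Opens, IsAffineOpen U ∧ f x ∈ U := by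
    obtain ⟨_, ⟨U, hU, rfl⟩, hxU, -⟩ :=
      (S.isBasis_affineOpens).exists_subset_of_mem_open (Set.mem_univ (f x)) isOpen_univ
    exact ⟨U, hU, hxU⟩
  obtain ⟨W, hW, hx, e⟩ : ∃ W : X.Opens, IsAffineOpen W ∧ x ∈ W ∧ W ≤ f ⁻¹ᵁ U := by
    obtain ⟨_, ⟨W, hW, rfl⟩, hxW, hsub⟩ :=
      (X.isBasis_affineOpens).exists_subset_of_mem_open (show x ∈ ((f ⁻¹ᵁ U : X.Opens) : Set X)
        from hfxU) (f ⁻¹ᵁ U).isOpen
    exact ⟨W, hW, hxW, hsub⟩
  let A := Γ(S, U)
  let B := Γ(X, W)
  letI : Algebra A B := (f.appLE U W e).hom.toAlgebra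
  have hN : IsNoetherianRing A := IsLocallyNoetherian.component_noetherian ⟨U, hU⟩
  have hft : Algebra.FiniteType A B := f.finiteType_appLE hU hW e
  have hNB : IsNoetherianRing B := Algebra.FiniteType.isNoetherianRing A B
  let qx := hW.primeIdealOf ⟨x, hx⟩
  let px := hU.primeIdealOf ⟨f x, e hx⟩
  have hlo : qx.asIdeal.LiesOver px.asIdeal := by
    constructor
    rw [Ideal.under_def]
    exact (congrArg PrimeSpectrum.asIdeal
      (IsAffineOpen.comap_primeIdealOf_appLE U hU W hW e hx)).symm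
  obtain ⟨Q₀, hQ₀, hmin, hle, hineq⟩ := general_dimension_inequality A B px.asIdeal qx.asIdeal
  let Q₀' : PrimeSpectrum B := ⟨Q₀, hQ₀⟩
  let ξ : X := hW.fromSpec Q₀'
  have hξW : ξ ∈ W := by
    have : ξ ∈ Set.range hW.fromSpec := Set.mem_range_self _
    rw [hW.range_fromSpec] at this
    exact this
  have hinj : Function.Injective hW.fromSpec := hW.fromSpec.isOpenEmbedding.injective
  have hprim : hW.primeIdealOf ⟨ξ, hξW⟩ = Q₀' := hinj (hW.fromSpec_primeIdealOf ⟨ξ, hξW⟩)
  have hxq : hW.fromSpec qx = x := hW.fromSpec_primeIdealOf ⟨x, hx⟩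
  have t1 := chart_trdeg f U hU W hW e x hx px.asIdeal qx.asIdeal rfl
  have t2 := chart_trdeg f U hU W hW e ξ hξW (Q₀.under A) Q₀ (congrArg PrimeSpectrum.asIdeal hprim)
  have hsp : ξ ⤳ x := by
    rw [← hxq]
    exact ((PrimeSpectrum.le_iff_specializes Q₀' qx).1 hle).map hW.fromSpec.continuous
  have hcomp : closure ({ξ} : Set X) ∈ irreducibleComponents X := by
    apply closure_mem_irreducibleComponents
    intro η hη
    have hηW : η ∈ W := hη.mem_open W.2 hξW
    let Q₁ := hW.primeIdealOf ⟨η, hηW⟩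
    have hη1 : hW.fromSpec Q₁ = η := hW.fromSpec_primeIdealOf ⟨η, hηW⟩
    have h1 : hW.fromSpec Q₁ ⤳ hW.fromSpec Q₀' := by rw [hη1]; exact hη
    rw [hW.fromSpec.isOpenEmbedding.isInducing.specializes_iff] at h1
    have h2 : Q₁.asIdeal ≤ Q₀ := (PrimeSpectrum.le_iff_specializes Q₁ Q₀').2 h1
    have h3 : Q₀ ≤ Q₁.asIdeal := hmin.2 ⟨Q₁.isPrime, bot_le⟩ h2
    have h4 : Q₁ = Q₀' := PrimeSpectrum.ext (le_antisymm h2 h3)
    rw [← hη1, h4]
  obtain ⟨a, ha⟩ := ENat.ne_top_iff_exists.1 (Ideal.height_ne_top_of_isPrime (I := qx.asIdeal))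
  obtain ⟨c, hc⟩ := ENat.ne_top_iff_exists.1 (Ideal.height_ne_top_of_isPrime (I := px.asIdeal))
  refine ⟨ξ, a, c, hcomp, hsp, ?_, ?_, ?_⟩
  · rw [ringKrullDim_stalk_eq_height W hW x hx, ← ha]
    rfl
  · rw [ringKrullDim_stalk_eq_height U hU (f x) (e hx), ← hc]
    rfl
  · rw [t1, t2]
    rw [← ha, ← hc] at hineq
    refine le_trans ?_ hineq
    simp only [Cardinal.ofENat_nat]
    exact le_self_add

end Groth.Agent.Helper5.DimFormula
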