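import Mathlib

set_option autoImplicit false
universe u
open CategoryTheory CategoryTheory.Limits AlgebraicGeometry Opposite

namespace Groth.Agent.Helper5.UnramLqf

/-- A formally unramified morphism locally of finite type is locally quasi-finite. -/
theorem locallyQuasiFinite_of_unramified {X Y : Scheme.{u}} (f : X ⟶ Y) [LocallyOfFiniteType f]
    [FormallyUnramified f] : LocallyQuasiFinite f := by
  rw [HasRingHomProperty.iff_appLE (P := @LocallyQuasiFinite)]
  intro U V e
  have h1 : (f.appLE U V e).hom.FiniteType :=
    (HasRingHomProperty.iff_appLE (P := @LocallyOfFiniteType)).1 inferInstance U V e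
  have h2 : (f.appLE U V e).hom.FormallyUnramified :=
    (HasRingHomProperty.iff_appLE (P := @FormallyUnramified)).1 inferInstance U V e
  algebraize [(f.appLE U V e).hom]
  show RingHom.QuasiFinite (algebraMap _ _)
  rw [RingHom.quasiFinite_algebraMap]
  infer_instance

end Groth.Agent.Helper5.UnramLqf
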