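import Groth.Prelude.Def_Flat
import Groth.Agent.Helper5.UnramLqf
import Mathlib

set_option autoImplicit false
universe u
open CategoryTheory CategoryTheory.Limits AlgebraicGeometry Opposite

namespace Groth.Agent.Helper5.EtDim

/-- No specializations in the fibres of a locally quasi-finite morphism. -/
theorem eq_of_specializes_of_lqf {A B : Scheme.{u}} (g : A ⟶ B) [LocallyQuasiFinite g]
    {a a' : ↥A} (h : a' ⤳ a) (hg : g a' = g a) : a' = a := by
  have hd := Scheme.Hom.isDiscrete_preimage_singleton g (g a)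
  exact hd.eq_of_specializes h hg rfl

theorem strictMono_of_lqf {A B : Scheme.{u}} (g : A ⟶ B) [LocallyQuasiFinite g] :
    StrictMono (fun a : ↥A => g a) := by
  intro a a' h
  obtain ⟨h1, h2⟩ := h
  change a' ⤳ a at h1
  change ¬ a ⤳ a' at h2
  refine ⟨h1.map g.continuous, fun h3 => h2 ?_⟩
  have h4 : g a' = g a := (Specializes.antisymm (h1.map g.continuous) h3).eq
  rw [eq_of_specializes_of_lqf g h1 h4]

/-- Codimension of points is invariant under flat locally quasi-finite morphisms. -/
theorem coheight_eq_of_flat_lqf {A B : Scheme.{u}} (g : A ⟶ B) [Flat g] [LocallyQuasiFinite g]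
    (a : ↥A) : Order.coheight a = Order.coheight (g a) := by
  refine Order.coheight_eq_of_strictMono (fun a : ↥A => g a) (strictMono_of_lqf g) ?_ a
  intro a b hab
  obtain ⟨h1, h2⟩ := hab
  change b ⤳ g a at h1
  change ¬ g a ⤳ b at h2
  obtain ⟨a', ha', rfl⟩ := (Flat.generalizingMap g) h1
  refine ⟨a', ⟨ha', fun h3 => h2 (h3.map g.continuous)⟩, rfl⟩

theorem coheight_eq_of_etale {A B : Scheme.{u}} (g : A ⟶ B) [Etale g]
    (a : ↥A) : Order.coheight a = Order.coheight (g a) := by
  have : LocallyQuasiFinite g := Groth.Agent.Helper5.UnramLqf.locallyQuasiFinite_of_unramified g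
  exact coheight_eq_of_flat_lqf g a

theorem ringKrullDim_stalk_eq_of_etale {A B : Scheme.{u}} (g : A ⟶ B) [Etale g] (a : ↥A) :
    ringKrullDim (A.presheaf.stalk a) = ringKrullDim (B.presheaf.stalk (g a)) := by
  rw [ringKrullDim_stalk_eq_coheight, ringKrullDim_stalk_eq_coheight, coheight_eq_of_etale g a]

attribute [local instance] specializationOrder in
/-- The dimension of a scheme is the supremum of the codimensions of its points. -/
theorem topologicalKrullDim_eq_iSup_coheight (X : Scheme.{u}) :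
    topologicalKrullDim ↥X = ⨆ x : ↥X, ((Order.coheight x : ℕ∞) : WithBot ℕ∞) := by
  rw [topologicalKrullDim, Order.krullDim_eq_of_orderIso (irreducibleSetEquivPoints (α := ↥X)),
    Order.krullDim_eq_iSup_coheight]

/-- The dimension of an open subset of a scheme. -/
theorem topologicalKrullDim_opens (X : Scheme.{u}) (U : X.Opens) :
    topologicalKrullDim ↥(U : Set ↥X) = ⨆ y : ↥U, ((Order.coheight (y : ↥X) : ℕ∞) : WithBot ℕ∞) := by
  have h1 : topologicalKrullDim ↥(U : Set ↥X) = topologicalKrullDim ↥(U.toScheme) := rfl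
  rw [h1, topologicalKrullDim_eq_iSup_coheight]
  refine iSup_congr fun y => ?_
  have := coheight_eq_of_isOpenImmersion (x := y) U.ι
  rw [← this]
  rfl

/-- The local dimension at a point is invariant under étale morphisms. -/
theorem localDim_eq_of_etale {A B : Scheme.{u}} (g : A ⟶ B) [Etale g] (a : ↥A) :
    FlatMor.localDim ↥A a = FlatMor.localDim ↥B (g a) := by
  unfold FlatMor.localDim
  apply le_antisymm
  · refine le_iInf fun ⟨V, hV⟩ => ?_
    refine (iInf_le _ ⟨g ⁻¹ᵁ V, hV⟩).trans ?_
    show topologicalKrullDim ↥((g ⁻¹ᵁ V : A.Opens) : Set ↥A) ≤ topologicalKrullDim ↥((V : B.Opens) : Set ↥B)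
    rw [topologicalKrullDim_opens, topologicalKrullDim_opens]
    refine iSup_le fun y => ?_
    rw [coheight_eq_of_etale g y]
    exact le_iSup (fun z : ↥V => ((Order.coheight (z : ↥B) : ℕ∞) : WithBot ℕ∞)) ⟨g y, y.2⟩
  · refine le_iInf fun ⟨U, hU⟩ => ?_
    have hopen : IsOpen (g '' (U : Set ↥A)) := g.isOpenMap _ U.isOpen
    let V : B.Opens := ⟨g '' (U : Set ↥A), hopen⟩
    refine (iInf_le _ ⟨V, ⟨a, hU, rfl⟩⟩).trans ?_
    show topologicalKrullDim ↥((V : B.Opens) : Set ↥B) ≤ topologicalKrullDim ↥((U : A.Opens) : Set ↥A)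
    rw [topologicalKrullDim_opens, topologicalKrullDim_opens]
    refine iSup_le fun ⟨z, y, hy, hz⟩ => ?_
    subst hz
    show ((Order.coheight (g y) : ℕ∞) : WithBot ℕ∞) ≤ _
    rw [← coheight_eq_of_etale g y]
    exact le_iSup (fun z : ↥U => ((Order.coheight (z : ↥A) : ℕ∞) : WithBot ℕ∞)) ⟨y, hy⟩

end Groth.Agent.Helper5.EtDim
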