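import Mathlib

set_option autoImplicit false
set_option linter.unusedSectionVars false
set_option linter.style.haveILetI false
universe u

namespace Groth.Agent.Helper5.AwayIC

/-- if the integral closure of a domain in its fraction field is a finite module, then a
principal localization of the domain is integrally closed -/
theorem exists_ne_zero_away_closed (A K : Type u) [CommRing A] [IsDomain A] [Field K]
    [Algebra A K] [IsFractionRing A K] [Module.Finite A (integralClosure A K)] :
    ∃ s : A, s ≠ 0 ∧ ∀ (B : Type u) [CommRing B] [Algebra A B] [IsLocalization.Away s B]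
      [Algebra B K] [IsScalarTower A B K], ∀ x : K, IsIntegral B x → x ∈ (algebraMap B K).range := by
  classical
  obtain ⟨T, hT⟩ := (Module.Finite.fg_top : (⊤ : Submodule A (integralClosure A K)).FG)
  obtain ⟨b, hb⟩ := IsLocalization.exist_integer_multiples_of_finset (nonZeroDivisors A)
    (T.image (fun c : integralClosure A K => (c : K)))
  have hb0 : (b : A) ≠ 0 := nonZeroDivisors.ne_zero b.2
  have key : ∀ c : integralClosure A K, ∃ a : A, algebraMap A K a = (b : A) • (c : K) := by
    intro c
    have hc : c ∈ Submodule.span A (T : Set (integralClosure A K)) := by rw [hT]; trivial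
    induction hc using Submodule.span_induction with
    | mem c hc => exact hb _ (Finset.mem_image_of_mem _ hc)
    | zero => exact ⟨0, by simp⟩
    | add c d _ _ hc hd =>
      obtain ⟨a, ha⟩ := hc
      obtain ⟨a', ha'⟩ := hd
      exact ⟨a + a', by rw [map_add, ha, ha']; simp [smul_add]⟩
    | smul r c _ hc =>
      obtain ⟨a, ha⟩ := hc
      refine ⟨r * a, ?_⟩
      rw [map_mul, ha]
      have h1 : ((r • c : integralClosure A K) : K) = algebraMap A K r * (c : K) := by
        rw [Algebra.smul_def]; rfl
      rw [h1]
      simp only [Algebra.smul_def]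
      ring
  refine ⟨b, hb0, ?_⟩
  intro B _ _ _ _ _ x hx
  obtain ⟨⟨m, n, rfl⟩, hm⟩ :=
    IsIntegral.exists_multiple_integral_of_isLocalization (Submonoid.powers (b : A)) x hx
  obtain ⟨a, ha⟩ := key ⟨_, hm⟩
  refine ⟨IsLocalization.mk' B a (⟨(b : A) ^ (n + 1), n + 1, rfl⟩ : Submonoid.powers (b : A)), ?_⟩
  have h0 : algebraMap A K ((b : A) ^ (n + 1)) ≠ 0 := by
    rw [Ne, map_eq_zero_iff _ (IsFractionRing.injective A K)]
    exact pow_ne_zero _ hb0
  apply mul_right_cancel₀ h0
  have h1 := IsLocalization.mk'_spec B a (⟨(b : A) ^ (n + 1), n + 1, rfl⟩ : Submonoid.powers (b : A))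
  have h2 := congrArg (algebraMap B K) h1
  rw [map_mul, ← IsScalarTower.algebraMap_apply, ← IsScalarTower.algebraMap_apply] at h2
  rw [h2, ha]
  simp only [Algebra.smul_def, Submonoid.smul_def]
  rw [pow_succ, map_mul]
  ring
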