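import Mathlib

set_option autoImplicit false
universe u

namespace Groth.Agent.Helper5.N2Poly

open Polynomial IntermediateField

section Roots

variable {Ω : Type*} [Field Ω] (ψ : Ω ≃+* Ω) (q : ℕ) (hψ : ∀ z, (ψ z) ^ q = z)

include hψ in
theorem pow_eq_symm (t : Ω) : t ^ q = ψ.symm t := by
  have h := hψ (ψ.symm t)
  rwa [RingEquiv.apply_symm_apply] at h

include hψ in
theorem psi_pow (z : Ω) : ψ (z ^ q) = z := by
  rw [pow_eq_symm ψ q hψ, RingEquiv.apply_symm_apply]

variable {K₀ : Type*} [Field K₀] [Algebra K₀ Ω]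

/-- `ψ` of a polynomial expression in `x` is a polynomial expression in `ψ x` with coefficients
the `ψ` of the coefficients -/
theorem psi_aeval_mem (M : Subfield Ω) (x : Ω) (hy : ψ x ∈ M) (r : K₀[X])
    (hr : ∀ k, ψ (algebraMap K₀ Ω (r.coeff k)) ∈ M) : ψ (aeval x r) ∈ M := by
  rw [aeval_eq_sum_range, map_sum]
  refine sum_mem fun k _ => ?_
  rw [Algebra.smul_def, map_mul, map_pow]
  exact mul_mem (hr k) (pow_mem hy k)

include hψ in
/-- a `q`-th root of a rational expression in `x` is a rational expression in `ψ x` -/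
theorem root_mem (M : Subfield Ω) (x : Ω) (hy : ψ x ∈ M) (r s : K₀[X])
    (hr : ∀ k, ψ (algebraMap K₀ Ω (r.coeff k)) ∈ M)
    (hs : ∀ k, ψ (algebraMap K₀ Ω (s.coeff k)) ∈ M) (a : Ω)
    (ha : a ^ q = aeval x r / aeval x s) : a ∈ M := by
  have h1 : a = ψ (aeval x r / aeval x s) := by
    rw [← ha, psi_pow ψ q hψ]
  rw [h1, map_div₀]
  exact div_mem (psi_aeval_mem ψ M x hy r hr) (psi_aeval_mem ψ M x hy s hs)

end Roots

end Groth.Agent.Helper5.N2Poly
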