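import Mathlib

set_option autoImplicit false
universe u

namespace Groth.Agent.Helper5.N2Poly

open Polynomial IntermediateField

/-- an element of the fraction field of an integrally closed domain `P`, integral over `P`
after an embedding into a field, lies in the image of `P` -/
theorem mem_range_of_isIntegralElem {P Ω : Type*} [CommRing P] [IsDomain P] [IsIntegrallyClosed P]
    [Field Ω] (Φ : P →+* Ω) (hΦ : Function.Injective Φ) (z : FractionRing P)
    (hb : Φ.IsIntegralElem ((IsFractionRing.lift (K := FractionRing P) hΦ) z)) :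
    (IsFractionRing.lift (K := FractionRing P) hΦ) z ∈ Φ.range := by
  set ΦF : FractionRing P →+* Ω := IsFractionRing.lift (K := FractionRing P) hΦ with hΦF
  obtain ⟨G, hG, h0⟩ := hb
  have hcomp : ΦF.comp (algebraMap P (FractionRing P)) = Φ := by
    ext a
    simp [hΦF]
  have h1 : ΦF (eval₂ (algebraMap P (FractionRing P)) z G) = 0 := by
    rw [Polynomial.hom_eval₂, hcomp]
    exact h0
  have h2 : eval₂ (algebraMap P (FractionRing P)) z G = 0 := by
    have := ΦF.injective
    exact (map_eq_zero_iff ΦF ΦF.injective).1 h1
  have h3 : IsIntegral P z := ⟨G, hG, h2⟩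
  obtain ⟨w, hw⟩ := (IsIntegrallyClosed.isIntegral_iff (R := P) (K := FractionRing P)).1 h3
  refine ⟨w, ?_⟩
  rw [← hw, ← hcomp]
  rfl

section PartI

variable {S K' Ω : Type*} [CommRing S] [IsDomain S] [Field K'] [Field Ω]
  [Algebra S K'] [IsFractionRing S K'] [Algebra K' Ω] [Algebra S Ω] [IsScalarTower S K' Ω]

/-- evaluation at `y` as a ring hom -/
noncomputable def evalHom (y : Ω) : S[X] →+* Ω := (aeval y : S[X] →ₐ[S] Ω).toRingHom

theorem evalHom_apply (y : Ω) (P : S[X]) : evalHom y P = aeval y P := rfl

theorem transcendental_of_tower (y : Ω) (hy : Transcendental K' y) : Transcendental S y := by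
  intro h
  apply hy
  exact h.extendScalars (FaithfulSMul.algebraMap_injective S K')

theorem evalHom_injective (y : Ω) (hy : Transcendental K' y) :
    Function.Injective (evalHom (S := S) y) := by
  have h := transcendental_of_tower (S := S) y hy
  rw [transcendental_iff_injective] at h
  exact h

/-- the simple extension `K'(y)` lies in the image of the fraction field of `S[X]` -/
theorem adjoin_le_range (y : Ω) (hy : Transcendental K' y) (b : Ω)
    (hb : b ∈ IntermediateField.adjoin K' ({y} : Set Ω)) :
    ∃ z : FractionRing S[X],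
      (IsFractionRing.lift (K := FractionRing S[X]) (evalHom_injective (S := S) y hy)) z = b := by
  set ΦF : FractionRing S[X] →+* Ω :=
    IsFractionRing.lift (K := FractionRing S[X]) (evalHom_injective (S := S) y hy) with hΦF
  have hS : ∀ s : S, algebraMap S Ω s ∈ ΦF.fieldRange := by
    intro s
    refine ⟨algebraMap S[X] (FractionRing S[X]) (C s), ?_⟩
    rw [hΦF, IsFractionRing.lift_algebraMap, evalHom_apply, aeval_C]
  have hK : ∀ c : K', algebraMap K' Ω c ∈ ΦF.fieldRange := by
    intro c
    obtain ⟨s₁, s₂, -, rfl⟩ := IsFractionRing.div_surjective (A := S) c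
    rw [map_div₀, ← IsScalarTower.algebraMap_apply, ← IsScalarTower.algebraMap_apply]
    exact div_mem (hS s₁) (hS s₂)
  have hy' : y ∈ ΦF.fieldRange := by
    refine ⟨algebraMap S[X] (FractionRing S[X]) X, ?_⟩
    rw [hΦF, IsFractionRing.lift_algebraMap, evalHom_apply, aeval_X]
  have hle : IntermediateField.adjoin K' ({y} : Set Ω) ≤
      Subfield.toIntermediateField ΦF.fieldRange hK := by
    rw [IntermediateField.adjoin_le_iff]
    intro t ht
    rw [Set.mem_singleton_iff] at ht
    subst ht
    exact hy'
  exact hle hb

/-- an element of `K'(y)` integral over `S[y]` (with `S` integrally closed with fraction field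
`K'` and `y` transcendental) lies in `S[y]` -/
theorem exists_aeval_eq [IsIntegrallyClosed S] (y : Ω) (hy : Transcendental K' y) (b : Ω)
    (hb : b ∈ IntermediateField.adjoin K' ({y} : Set Ω))
    (hint : (evalHom (S := S) y).IsIntegralElem b) : ∃ P : S[X], aeval y P = b := by
  obtain ⟨z, hz⟩ := adjoin_le_range (S := S) y hy b hb
  have h := mem_range_of_isIntegralElem (evalHom (S := S) y) (evalHom_injective (S := S) y hy) z
    (by rw [hz]; exact hint)
  rw [hz] at h
  obtain ⟨P, hP⟩ := h
  exact ⟨P, hP⟩

end PartI

end Groth.Agent.Helper5.N2Poly
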