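import Mathlib

set_option autoImplicit false
universe u

namespace Groth.Agent.Helper5.N2Poly

open Polynomial

section Span

variable {R S Ω : Type*} [CommRing R] [CommRing S] [Field Ω] [Algebra R S] [Algebra S Ω]
  [Algebra R Ω] [IsScalarTower R S Ω] [Algebra R[X] Ω] [IsScalarTower R R[X] Ω]

/-- the finite generating set `w_i y^j` -/
def genSet {m : ℕ} (w : Fin m → S) (y : Ω) (q : ℕ) : Set Ω :=
  Set.range fun ij : Fin m × Fin q => algebraMap S Ω (w ij.1) * y ^ (ij.2 : ℕ)

theorem genSet_finite {m : ℕ} (w : Fin m → S) (y : Ω) (q : ℕ) : (genSet w y q).Finite :=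
  Set.finite_range _

theorem algebraMap_poly (g : R[X]) :
    algebraMap R[X] Ω g = aeval (algebraMap R[X] Ω X) g := by
  rw [aeval_algebraMap_apply, aeval_X_left_apply]

theorem aeval_mem_span {m : ℕ} (w : Fin m → S) (hw : Submodule.span R (Set.range w) = ⊤)
    (y : Ω) (q : ℕ) (hq : 0 < q) (hx : algebraMap R[X] Ω X = y ^ q) (P : S[X]) :
    aeval y P ∈ Submodule.span R[X] (genSet w y q) := by
  induction P using Polynomial.induction_on' with
  | add P₁ P₂ h₁ h₂ =>
    rw [map_add]
    exact add_mem h₁ h₂
  | monomial k c =>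
    rw [aeval_monomial]
    have hc : c ∈ Submodule.span R (Set.range w) := by rw [hw]; trivial
    induction hc using Submodule.span_induction with
    | mem c hc =>
      obtain ⟨i, rfl⟩ := hc
      have h1 : y ^ k = y ^ (k % q) * (algebraMap R[X] Ω X) ^ (k / q) := by
        rw [hx, ← pow_mul, ← pow_add, Nat.mod_add_div]
      rw [h1]
      have h2 : algebraMap S Ω (w i) * (y ^ (k % q) * (algebraMap R[X] Ω X) ^ (k / q)) =
          (X ^ (k / q) : R[X]) • (algebraMap S Ω (w i) * y ^ (k % q)) := by
        rw [Algebra.smul_def, map_pow]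
        ring
      rw [h2]
      apply Submodule.smul_mem
      apply Submodule.subset_span
      exact ⟨(i, ⟨k % q, Nat.mod_lt _ hq⟩), rfl⟩
    | zero =>
      rw [map_zero, zero_mul]
      exact zero_mem _
    | add c₁ c₂ _ _ h₁ h₂ =>
      rw [map_add, add_mul]
      exact add_mem h₁ h₂
    | smul r c _ h =>
      have h3 : algebraMap S Ω (r • c) * y ^ k = (C r : R[X]) • (algebraMap S Ω c * y ^ k) := by
        rw [Algebra.smul_def (C r : R[X]), Algebra.smul_def r c, map_mul,
          ← IsScalarTower.algebraMap_apply R S Ω, mul_assoc]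
        congr 1
        rw [← Polynomial.algebraMap_eq, ← IsScalarTower.algebraMap_apply R R[X] Ω]
      rw [h3]
      exact Submodule.smul_mem _ _ h

end Span

end Groth.Agent.Helper5.N2Poly
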