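import Mathlib
import Groth.Agent.Helper5.N2Poly1
import Groth.Agent.Helper5.N2Poly2

set_option autoImplicit false
universe u

namespace Groth.Agent.Helper5.N2Poly

open Polynomial IntermediateField

section Middle

variable {R S K' Ω : Type*} [CommRing R] [CommRing S] [IsDomain S] [IsIntegrallyClosed S]
  [Field K'] [Field Ω] [Algebra R S] [Algebra S K'] [IsFractionRing S K'] [Algebra K' Ω]
  [Algebra S Ω] [IsScalarTower S K' Ω] [Algebra R Ω] [IsScalarTower R S Ω]
  [Algebra R[X] Ω] [IsScalarTower R R[X] Ω]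

/-- the substitution `X ↦ X ^ q`, `R → S` -/
noncomputable def theta (q : ℕ) : R[X] →+* S[X] :=
  eval₂RingHom ((C : S →+* S[X]).comp (algebraMap R S)) (X ^ q)

theorem evalHom_comp_theta (y : Ω) (q : ℕ) (hx : algebraMap R[X] Ω X = y ^ q) :
    (evalHom (S := S) y).comp (theta (R := R) (S := S) q) = algebraMap R[X] Ω := by
  apply Polynomial.ringHom_ext
  · intro r
    simp only [RingHom.comp_apply, theta, coe_eval₂RingHom, eval₂_C, evalHom_apply, aeval_C]
    rw [← IsScalarTower.algebraMap_apply R S Ω, ← Polynomial.algebraMap_eq,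
      ← IsScalarTower.algebraMap_apply R R[X] Ω]
  · simp only [RingHom.comp_apply, theta, coe_eval₂RingHom, eval₂_X, evalHom_apply, map_pow,
      aeval_X]
    exact hx.symm

theorem isIntegralElem_of_isIntegral (y : Ω) (q : ℕ) (hx : algebraMap R[X] Ω X = y ^ q) (b : Ω)
    (hb : IsIntegral R[X] b) : (evalHom (S := S) y).IsIntegralElem b := by
  obtain ⟨g, hg, h0⟩ := hb
  refine ⟨g.map (theta (R := R) (S := S) q), hg.map _, ?_⟩
  rw [eval₂_map, evalHom_comp_theta y q hx]
  exact h0

/-- **Middle theorem**: integral elements of `K'(y)` over `R[y^q]` lie in a fixed finitely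
generated `R[X]`-submodule. -/
theorem exists_finite_span [Module.Finite R S] (y : Ω) (hy : Transcendental K' y) (q : ℕ)
    (hq : 0 < q) (hx : algebraMap R[X] Ω X = y ^ q) :
    ∃ T : Set Ω, T.Finite ∧ ∀ b ∈ IntermediateField.adjoin K' ({y} : Set Ω),
      IsIntegral R[X] b → b ∈ Submodule.span R[X] T := by
  obtain ⟨m, w, hw⟩ := Module.Finite.exists_fin (R := R) (M := S)
  refine ⟨genSet w y q, genSet_finite w y q, fun b hb hint => ?_⟩
  obtain ⟨P, rfl⟩ := exists_aeval_eq (S := S) y hy b hb
    (isIntegralElem_of_isIntegral (S := S) y q hx b hint)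
  exact aeval_mem_span w hw y q hq hx P

end Middle

end Groth.Agent.Helper5.N2Poly
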