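import Mathlib
import Groth.Prelude.Def_Found
import Groth.Agent.Helper5.N2Poly3
import Groth.Agent.Helper5.N2Poly4

set_option autoImplicit false
set_option linter.unusedSectionVars false
set_option linter.style.haveILetI false
universe u

namespace Groth.Agent.Helper5.N2Poly

open Polynomial IntermediateField

section AT0

variable {R Ω : Type u} [CommRing R] [IsDomain R] [Field Ω] [Algebra R Ω] [FaithfulSMul R Ω]
  [Algebra (FractionRing R) Ω] [IsScalarTower R (FractionRing R) Ω]
  [Algebra R[X] Ω] [IsScalarTower R R[X] Ω]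

local notation "K₀" => FractionRing R

/-- the set of `q`-th roots of coefficients -/
def coeffRoots (ψ : Ω ≃+* Ω) {r : ℕ} (f g : Fin r → R[X]) : Set Ω :=
  ⋃ i : Fin r, (fun c : K₀ => ψ (algebraMap K₀ Ω c)) ''
    ((↑((f i).map (algebraMap R K₀)).coeffs ∪ ↑((g i).map (algebraMap R K₀)).coeffs ∪ {0} :
      Set K₀))

theorem coeffRoots_finite (ψ : Ω ≃+* Ω) {r : ℕ} (f g : Fin r → R[X]) :
    (coeffRoots ψ f g).Finite := by
  apply Set.finite_iUnion
  intro i
  apply Set.Finite.image
  exact ((Finset.finite_toSet _).union (Finset.finite_toSet _)).union (Set.finite_singleton 0)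

theorem mem_coeffRoots_left (ψ : Ω ≃+* Ω) {r : ℕ} (f g : Fin r → R[X]) (i : Fin r) (k : ℕ) :
    ψ (algebraMap K₀ Ω (((f i).map (algebraMap R K₀)).coeff k)) ∈ coeffRoots ψ f g := by
  refine Set.mem_iUnion.2 ⟨i, ⟨_, ?_, rfl⟩⟩
  by_cases h : ((f i).map (algebraMap R K₀)).coeff k = 0
  · right; exact h
  · left; left; exact coeff_mem_coeffs h

theorem mem_coeffRoots_right (ψ : Ω ≃+* Ω) {r : ℕ} (f g : Fin r → R[X]) (i : Fin r) (k : ℕ) :
    ψ (algebraMap K₀ Ω (((g i).map (algebraMap R K₀)).coeff k)) ∈ coeffRoots ψ f g := by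
  refine Set.mem_iUnion.2 ⟨i, ⟨_, ?_, rfl⟩⟩
  by_cases h : ((g i).map (algebraMap R K₀)).coeff k = 0
  · right; exact h
  · left; right; exact coeff_mem_coeffs h

theorem isIntegral_of_mem_coeffRoots (ψ : Ω ≃+* Ω) (q : ℕ) (hq : 0 < q)
    (hψ : ∀ z, (ψ z) ^ q = z) {r : ℕ} (f g : Fin r → R[X]) (e : Ω)
    (he : e ∈ coeffRoots ψ f g) : IsIntegral K₀ e := by
  obtain ⟨i, hi⟩ := Set.mem_iUnion.1 he
  obtain ⟨c, -, rfl⟩ := hi
  refine ⟨X ^ q - C c, monic_X_pow_sub_C c hq.ne', ?_⟩
  rw [eval₂_sub, eval₂_pow, eval₂_X, eval₂_C, hψ, sub_self]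

theorem algebraMap_poly_mem (M : Subfield Ω) (hK₀ : ∀ c : K₀, algebraMap K₀ Ω c ∈ M)
    (hxM : algebraMap R[X] Ω X ∈ M) (P : R[X]) : algebraMap R[X] Ω P ∈ M := by
  rw [algebraMap_poly, aeval_eq_sum_range]
  refine sum_mem fun k _ => ?_
  rw [Algebra.smul_def, IsScalarTower.algebraMap_apply R K₀ Ω]
  exact mul_mem (hK₀ _) (pow_mem hxM k)

theorem transcendental_root (ψ : Ω ≃+* Ω) (q : ℕ) (hψ : ∀ z, (ψ z) ^ q = z)
    (hinj : Function.Injective (algebraMap R[X] Ω)) (K' : IntermediateField K₀ Ω)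
    [FiniteDimensional K₀ K'] : Transcendental K' (ψ (algebraMap R[X] Ω X)) := by
  have hxt : Transcendental R (algebraMap R[X] Ω X) := by
    rw [transcendental_iff_injective]
    intro P Q hPQ
    rw [← algebraMap_poly, ← algebraMap_poly] at hPQ
    exact hinj hPQ
  have hxt' : Transcendental K₀ (algebraMap R[X] Ω X) := by
    intro h
    exact hxt ((IsFractionRing.isAlgebraic_iff R K₀ Ω).2 h)
  have hyt : Transcendental K₀ (ψ (algebraMap R[X] Ω X)) := by
    intro h
    apply hxt'
    have h2 := h.pow q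
    rwa [hψ] at h2
  intro h
  apply hyt
  haveI : Algebra.IsAlgebraic K₀ K' := Algebra.IsAlgebraic.of_finite K₀ K'
  exact h.restrictScalars K₀

set_option maxHeartbeats 800000 in
set_option maxSynthPendingDepth 3 in
/-- **Main technical theorem**: integral elements of a field generated by `q`-th roots of
rational functions lie in a fixed finitely generated `R[X]`-submodule -/
theorem exists_finite_span_of_roots [IsNoetherianRing R]
    (ψ : Ω ≃+* Ω) (q : ℕ) (hq : 0 < q) (hψ : ∀ z, (ψ z) ^ q = z)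
    (hinj : Function.Injective (algebraMap R[X] Ω))
    {r : ℕ} (a : Fin r → Ω) (f g : Fin r → R[X])
    (ha : ∀ i, (a i) ^ q = algebraMap R[X] Ω (f i) / algebraMap R[X] Ω (g i))
    (hfin : FiniteDimensional K₀ (IntermediateField.adjoin K₀ (coeffRoots ψ f g)) →
      Module.Finite R (integralClosure R (IntermediateField.adjoin K₀ (coeffRoots ψ f g)))) :
    ∃ T : Set Ω, T.Finite ∧
      ∀ b ∈ Subfield.closure (Set.range (algebraMap R[X] Ω) ∪ Set.range a),
        IsIntegral R[X] b → b ∈ Submodule.span R[X] T := by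
  classical
  let K' : IntermediateField K₀ Ω := IntermediateField.adjoin K₀ (coeffRoots ψ f g)
  haveI hfd : FiniteDimensional K₀ K' := by
    haveI : Finite (coeffRoots ψ f g) := (coeffRoots_finite ψ f g).to_subtype
    exact IntermediateField.finiteDimensional_adjoin
      (fun e he => isIntegral_of_mem_coeffRoots ψ q hq hψ f g e he)
  haveI hfinS : Module.Finite R (integralClosure R K') := hfin hfd
  haveI hIC : IsIntegrallyClosed (integralClosure R K') :=
    integralClosure.isIntegrallyClosedOfFiniteExtension K₀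
  haveI hFR : IsFractionRing (integralClosure R K') K' :=
    integralClosure.isFractionRing_of_finite_extension K₀ K'
  haveI t0 : IsScalarTower R K' Ω := IsScalarTower.of_algebraMap_eq (fun t => rfl)
  haveI t1 : IsScalarTower (integralClosure R K') K' Ω :=
    IsScalarTower.of_algebraMap_eq (fun _ => rfl)
  haveI t2 : IsScalarTower R (integralClosure R K') Ω :=
    IsScalarTower.of_algebraMap_eq (fun t => by
      rw [IsScalarTower.algebraMap_apply R K' Ω]
      rfl)
  have hy := transcendental_root ψ q hψ hinj K'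
  have hx : algebraMap R[X] Ω X = (ψ (algebraMap R[X] Ω X)) ^ q := (hψ _).symm
  obtain ⟨T, hT, hspan⟩ := exists_finite_span (R := R) (S := integralClosure R K') (K' := K')
    (ψ (algebraMap R[X] Ω X)) hy q hq hx
  refine ⟨T, hT, fun b hb hint => hspan b ?_ hint⟩
  let M : Subfield Ω :=
    (IntermediateField.adjoin K' ({ψ (algebraMap R[X] Ω X)} : Set Ω)).toSubfield
  have hK' : ∀ e : Ω, e ∈ K' → e ∈ M := by
    intro e he
    exact (IntermediateField.adjoin K' ({ψ (algebraMap R[X] Ω X)} : Set Ω)).algebraMap_mem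
      (⟨e, he⟩ : K')
  have hK₀ : ∀ c : K₀, algebraMap K₀ Ω c ∈ M := fun c => hK' _ (K'.algebraMap_mem c)
  have hyM : ψ (algebraMap R[X] Ω X) ∈ M :=
    IntermediateField.mem_adjoin_simple_self K' _
  have hxM : algebraMap R[X] Ω X ∈ M := by
    rw [hx]
    exact pow_mem hyM q
  have hroots : ∀ e ∈ coeffRoots ψ f g, e ∈ M := fun e he =>
    hK' e (IntermediateField.subset_adjoin K₀ _ he)
  have hle : Subfield.closure (Set.range (algebraMap R[X] Ω) ∪ Set.range a) ≤ M := by
    rw [Subfield.closure_le]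
    rintro e (⟨P, rfl⟩ | ⟨i, rfl⟩)
    · exact algebraMap_poly_mem M hK₀ hxM P
    · refine root_mem ψ q hψ M (algebraMap R[X] Ω X) hyM
        ((f i).map (algebraMap R K₀)) ((g i).map (algebraMap R K₀))
        (fun k => hroots _ (mem_coeffRoots_left ψ f g i k))
        (fun k => hroots _ (mem_coeffRoots_right ψ f g i k)) (a i) ?_
      rw [aeval_map_algebraMap, aeval_map_algebraMap, ← algebraMap_poly, ← algebraMap_poly]
      exact ha i
  exact hle hb

end AT0

end Groth.Agent.Helper5.N2Poly
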