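import Mathlib
import Groth.Prelude.Def_Found
import Groth.Agent.Helper5.N2Poly5

set_option autoImplicit false
set_option linter.unusedSectionVars false
set_option linter.style.haveILetI false
universe u

namespace Groth.Agent.Helper5.N2Poly

open Polynomial IntermediateField

section AT

variable (R : Type u) [CommRing R] [IsDomain R] [IsNoetherianRing R]
  (L : Type u) [Field L] [Algebra R[X] L] [Algebra (FractionRing R[X]) L]
  [IsScalarTower R[X] (FractionRing R[X]) L]

theorem injective_algebraMap_poly : Function.Injective (algebraMap R[X] L) := by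
  rw [IsScalarTower.algebraMap_eq R[X] (FractionRing R[X]) L]
  exact (algebraMap (FractionRing R[X]) L).injective.comp
    (IsFractionRing.injective R[X] (FractionRing R[X]))

/-- generic finiteness statement: it suffices to bound the image in a big field -/
theorem finite_of_span {Ω : Type u} [Field Ω] [Algebra L Ω] [Algebra R[X] Ω]
    [IsScalarTower R[X] L Ω] (T : Set Ω) (hT : T.Finite)
    (h : ∀ b : L, IsIntegral R[X] b → algebraMap L Ω b ∈ Submodule.span R[X] T) :
    Module.Finite R[X] (integralClosure R[X] L) := by
  haveI : Module.Finite R[X] (Submodule.span R[X] T) := Module.Finite.span_of_finite R[X] hT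
  let φ : integralClosure R[X] L →ₗ[R[X]] Submodule.span R[X] T :=
    { toFun := fun b => ⟨algebraMap L Ω b.1, h b.1 b.2⟩
      map_add' := fun b c => by
        apply Subtype.ext
        simp
      map_smul' := fun t b => by
        apply Subtype.ext
        change algebraMap L Ω ((t • b : integralClosure R[X] L) : L) =
          t • algebraMap L Ω (b : L)
        rw [Subalgebra.coe_smul, Algebra.smul_def, Algebra.smul_def, map_mul,
          ← IsScalarTower.algebraMap_apply R[X] L Ω] }
  have hφ : Function.Injective φ := by
    intro b c hbc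
    have h1 := congrArg Subtype.val hbc
    exact Subtype.ext ((algebraMap L Ω).injective h1)
  exact Module.Finite.of_injective φ hφ

theorem algebraMap_mem_closure {Ω : Type u} [Field Ω] [Algebra L Ω] [Algebra R[X] Ω]
    [IsScalarTower R[X] L Ω] (s : Set L)
    (hs : IntermediateField.adjoin (FractionRing R[X]) s = ⊤) (b : L) :
    algebraMap L Ω b ∈
      Subfield.closure (Set.range (algebraMap R[X] Ω) ∪ (algebraMap L Ω) '' s) := by
  set C := Subfield.closure (Set.range (algebraMap R[X] Ω) ∪ (algebraMap L Ω) '' s) with hC
  let N : Subfield L := C.comap (algebraMap L Ω)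
  have hA : ∀ P : R[X], algebraMap R[X] L P ∈ N := by
    intro P
    change algebraMap L Ω (algebraMap R[X] L P) ∈ C
    rw [← IsScalarTower.algebraMap_apply R[X] L Ω]
    exact Subfield.subset_closure (Or.inl ⟨P, rfl⟩)
  have hF : ∀ u : FractionRing R[X], algebraMap (FractionRing R[X]) L u ∈ N := by
    intro u
    obtain ⟨P, Q, -, rfl⟩ := IsFractionRing.div_surjective (A := R[X]) u
    rw [map_div₀, ← IsScalarTower.algebraMap_apply R[X] (FractionRing R[X]) L,
      ← IsScalarTower.algebraMap_apply R[X] (FractionRing R[X]) L]
    exact div_mem (hA P) (hA Q)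
  have hle : IntermediateField.adjoin (FractionRing R[X]) s ≤ Subfield.toIntermediateField N hF := by
    rw [IntermediateField.adjoin_le_iff]
    intro a ha
    change algebraMap L Ω a ∈ C
    exact Subfield.subset_closure (Or.inr ⟨a, ha, rfl⟩)
  have hb : b ∈ IntermediateField.adjoin (FractionRing R[X]) s := by rw [hs]; trivial
  exact hle hb

set_option maxHeartbeats 1000000 in
set_option maxSynthPendingDepth 3 in
/-- integral closure of `R[X]` in a finite purely inseparable extension of its fraction field is
finite, for `R` a Noetherian N-2 domain -/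
theorem finite_integralClosure_of_pi (hR : CAlg.IsN2 R)
    [FiniteDimensional (FractionRing R[X]) L] [IsPurelyInseparable (FractionRing R[X]) L] :
    Module.Finite R[X] (integralClosure R[X] L) := by
  classical
  let Ω := AlgebraicClosure L
  letI algRL : Algebra R L := ((algebraMap R[X] L).comp (C : R →+* R[X])).toAlgebra
  haveI tRL : IsScalarTower R R[X] L := IsScalarTower.of_algebraMap_eq (fun _ => rfl)
  have hinjL : Function.Injective (algebraMap R[X] L) := injective_algebraMap_poly R L
  have hinj : Function.Injective (algebraMap R[X] Ω) := by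
    rw [IsScalarTower.algebraMap_eq R[X] L Ω]
    exact (algebraMap L Ω).injective.comp hinjL
  haveI hfaith : FaithfulSMul R Ω := by
    rw [faithfulSMul_iff_algebraMap_injective]
    rw [IsScalarTower.algebraMap_eq R R[X] Ω]
    exact hinj.comp Polynomial.C_injective
  letI algK : Algebra (FractionRing R) Ω := FractionRing.liftAlgebra R Ω
  haveI tK : IsScalarTower R (FractionRing R) Ω := FractionRing.isScalarTower_liftAlgebra R Ω
  obtain ⟨p, hp⟩ := ExpChar.exists (FractionRing R[X])
  haveI hpΩ : ExpChar Ω p :=
    expChar_of_injective_algebraMap (algebraMap (FractionRing R[X]) Ω).injective p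
  haveI : PerfectRing Ω p := PerfectField.toPerfectRing p
  let n := IsPurelyInseparable.exponent (FractionRing R[X]) L
  have hn : ∀ a : L, a ^ p ^ n ∈ (algebraMap (FractionRing R[X]) L).range :=
    fun a => IsPurelyInseparable.exponent_def' (FractionRing R[X]) p a
  let ψ : Ω ≃+* Ω := (iterateFrobeniusEquiv Ω p n).symm
  have hψ : ∀ z : Ω, (ψ z) ^ (p ^ n) = z := by
    intro z
    have h := (iterateFrobeniusEquiv Ω p n).apply_symm_apply z
    rwa [iterateFrobeniusEquiv_def] at h
  have hq : 0 < p ^ n := expChar_pow_pos (FractionRing R[X]) p n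
  obtain ⟨s, hs⟩ := IntermediateField.fg_of_noetherian (⊤ : IntermediateField (FractionRing R[X]) L)
  let e := s.equivFin
  let a : Fin s.card → Ω := fun i => algebraMap L Ω (e.symm i : L)
  have hdata : ∀ i : Fin s.card, ∃ f g : R[X],
      (a i) ^ (p ^ n) = algebraMap R[X] Ω f / algebraMap R[X] Ω g := by
    intro i
    obtain ⟨u, hu⟩ := hn (e.symm i : L)
    obtain ⟨f, g, -, rfl⟩ := IsFractionRing.div_surjective (A := R[X]) u
    refine ⟨f, g, ?_⟩
    change (algebraMap L Ω (e.symm i : L)) ^ (p ^ n) = _
    rw [← map_pow, ← hu, map_div₀, map_div₀,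
      ← IsScalarTower.algebraMap_apply R[X] (FractionRing R[X]) L,
      ← IsScalarTower.algebraMap_apply R[X] (FractionRing R[X]) L,
      ← IsScalarTower.algebraMap_apply R[X] L Ω, ← IsScalarTower.algebraMap_apply R[X] L Ω]
  choose f g hfg using hdata
  obtain ⟨T, hT, hspan⟩ := exists_finite_span_of_roots (R := R) (Ω := Ω)
    ψ (p ^ n) hq hψ hinj a f g hfg (fun hK' => hR _ hK')
  refine finite_of_span R L T hT (fun b hb => hspan _ ?_ (hb.map (IsScalarTower.toAlgHom R[X] L Ω)))
  have hrange : Set.range a = (algebraMap L Ω) '' (s : Set L) := by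
    ext z
    constructor
    · rintro ⟨i, rfl⟩
      exact ⟨(e.symm i : L), (e.symm i).2, rfl⟩
    · rintro ⟨w, hw, rfl⟩
      refine ⟨e ⟨w, hw⟩, ?_⟩
      change algebraMap L Ω (e.symm (e ⟨w, hw⟩) : L) = _
      rw [Equiv.symm_apply_apply]
  rw [hrange]
  exact algebraMap_mem_closure R L (s : Set L) hs b

end AT

end Groth.Agent.Helper5.N2Poly
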