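import Mathlib
import Groth.Prelude.Def_Found
import Groth.Agent.Helper5.N2Poly6
import Groth.Agent.Helper7.N2c

set_option autoImplicit false
set_option linter.unusedSectionVars false
set_option linter.style.haveILetI false
universe u

namespace Groth.Agent.Helper5.N2Poly

open Polynomial IntermediateField

variable (R : Type u) [CommRing R] [IsDomain R] [IsNoetherianRing R]

/-- N-2 passes to the polynomial ring -/
theorem isN2_polynomial (hR : CAlg.IsN2 R) : CAlg.IsN2 R[X] := by
  apply Groth.Agent.Helper7.N2.result4562
  intro K' _ _ _ _ hfd hpi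
  exact finite_integralClosure_of_pi R K' hR

theorem finite_integralClosure_bot {Ω : Type u} [Field Ω] [Algebra R Ω]
    [Algebra (FractionRing R) Ω] [IsScalarTower R (FractionRing R) Ω]
    (hR : CAlg.IsN1 R) (K' : IntermediateField (FractionRing R) Ω) (hK' : K' = ⊥) :
    Module.Finite R (integralClosure R K') := by
  subst hK'
  let e : FractionRing R ≃ₐ[R] (⊥ : IntermediateField (FractionRing R) Ω) :=
    (IntermediateField.botEquiv (FractionRing R) Ω).symm.restrictScalars R
  haveI : Module.Finite R (integralClosure R (FractionRing R)) := hR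
  exact Module.Finite.equiv (e.mapIntegralClosure).toLinearEquiv

set_option maxHeartbeats 1000000 in
set_option maxSynthPendingDepth 3 in
/-- N-1 passes to the polynomial ring -/
theorem isN1_polynomial (hR : CAlg.IsN1 R) : CAlg.IsN1 R[X] := by
  classical
  let Ω := FractionRing R[X]
  have hinj : Function.Injective (algebraMap R[X] Ω) := IsFractionRing.injective R[X] Ω
  haveI hfaith : FaithfulSMul R Ω := by
    rw [faithfulSMul_iff_algebraMap_injective]
    rw [IsScalarTower.algebraMap_eq R R[X] Ω]
    exact hinj.comp Polynomial.C_injective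
  letI algK : Algebra (FractionRing R) Ω := FractionRing.liftAlgebra R Ω
  haveI tK : IsScalarTower R (FractionRing R) Ω := FractionRing.isScalarTower_liftAlgebra R Ω
  let ψ : Ω ≃+* Ω := RingEquiv.refl Ω
  have hψ : ∀ z : Ω, (ψ z) ^ 1 = z := fun z => pow_one z
  let a : Fin 0 → Ω := fun i => i.elim0
  let f : Fin 0 → R[X] := fun i => i.elim0
  let g : Fin 0 → R[X] := fun i => i.elim0
  have hbot : IntermediateField.adjoin (FractionRing R) (coeffRoots ψ f g) = ⊥ := by
    have h0 : coeffRoots ψ f g = ∅ := by
      unfold coeffRoots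
      exact Set.iUnion_of_empty _
    rw [h0, IntermediateField.adjoin_empty]
  obtain ⟨T, hT, hspan⟩ := exists_finite_span_of_roots (R := R) (Ω := Ω)
    ψ 1 Nat.one_pos hψ hinj a f g (fun i => i.elim0)
    (fun _ => finite_integralClosure_bot R hR _ hbot)
  refine finite_of_span R (FractionRing R[X]) T hT (fun b hb => hspan _ ?_ hb)
  obtain ⟨P, Q, -, rfl⟩ := IsFractionRing.div_surjective (A := R[X]) b
  refine div_mem (Subfield.subset_closure (Or.inl ⟨P, rfl⟩))
    (Subfield.subset_closure (Or.inl ⟨Q, rfl⟩))

end Groth.Agent.Helper5.N2Poly
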