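import Mathlib
import Groth.Prelude.Def_Found
import Groth.Agent.Helper5.N2Poly7
import Groth.Agent.Helper4.Japanese
import Groth.Agent.Helper7.ZMTN2

set_option autoImplicit false
set_option linter.unusedSectionVars false
set_option linter.style.haveILetI false
universe u

namespace Groth.Agent.Helper5.N2Field

open Polynomial

/-- N-2 is invariant under ring isomorphisms -/
theorem isN2_of_ringEquiv {R S : Type u} [CommRing R] [IsDomain R] [CommRing S] [IsDomain S]
    (e : R ≃+* S) (h : CAlg.IsN2 R) : CAlg.IsN2 S := by
  letI : Algebra R S := e.toRingHom.toAlgebra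
  haveI h1 : IsLocalization (⊥ : Submonoid R) R :=
    IsLocalization.self (by
      intro x hx
      rw [Submonoid.mem_bot] at hx
      subst hx
      exact isUnit_one)
  haveI h2 : IsLocalization (⊥ : Submonoid R) S :=
    IsLocalization.isLocalization_of_algEquiv (⊥ : Submonoid R)
      (AlgEquiv.ofRingEquiv (f := e) (fun _ => rfl))
  exact Groth.Agent.Helper4.Japanese.isN2_of_isLocalization R (⊥ : Submonoid R) S h

/-- a field is N-2 -/
theorem isN2_field (k : Type u) [Field k] : CAlg.IsN2 k := by
  intro L _ _ _ _ hfd
  haveI : Module.Finite k (FractionRing k) :=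
    Module.Finite.equiv (FractionRing.algEquiv k k).symm.toLinearEquiv
  haveI : Module.Finite k L := Module.Finite.trans (FractionRing k) L
  exact Module.Finite.of_injective (integralClosure k L).val.toLinearMap Subtype.val_injective

/-- polynomial rings over a field are N-2 -/
theorem isN2_mvPolynomial (k : Type u) [Field k] (n : ℕ) : CAlg.IsN2 (MvPolynomial (Fin n) k) := by
  induction n with
  | zero =>
    exact isN2_of_ringEquiv (MvPolynomial.isEmptyRingEquiv k (Fin 0)).symm (isN2_field k)
  | succ n ih =>
    have h := Groth.Agent.Helper5.N2Poly.isN2_polynomial (MvPolynomial (Fin n) k) ih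
    exact isN2_of_ringEquiv (MvPolynomial.finSuccEquiv k n).symm.toRingEquiv h

/-- domains of finite type over a field are N-2 -/
theorem isN2_of_finiteType (k A : Type u) [Field k] [CommRing A] [IsDomain A] [Algebra k A]
    [Algebra.FiniteType k A] : CAlg.IsN2 A := by
  obtain ⟨s, g, hinj, hfin⟩ := exists_finite_inj_algHom_of_fg k A
  letI : Algebra (MvPolynomial (Fin s) k) A := g.toRingHom.toAlgebra
  haveI : Module.Finite (MvPolynomial (Fin s) k) A := hfin
  exact Groth.Agent.Helper7.ZMTN2.main (R := MvPolynomial (Fin s) k) (S := A) hinj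
    (isN2_mvPolynomial k s)

end Groth.Agent.Helper5.N2Field
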