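import Mathlib

set_option autoImplicit false
set_option linter.unusedSectionVars false
set_option linter.style.haveILetI false
universe u

open AlgebraicGeometry CategoryTheory

namespace Groth.Agent.Helper5.NormFin

/-- the normalization is finite as soon as the integral closures over affine opens are finite -/
theorem isFinite_fromNormalization {X Y : Scheme.{u}} (f : X ⟶ Y) [QuasiCompact f]
    [QuasiSeparated f]
    (h : ∀ (U : Y.Opens), IsAffineOpen U →
      letI := (f.app U).hom.toAlgebra
      Module.Finite Γ(Y, U) (integralClosure Γ(Y, U) Γ(X, f ⁻¹ᵁ U))) :
    IsFinite f.fromNormalization := by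
  refine { finite_app := ?_ }
  intro U hU
  letI := (f.app U).hom.toAlgebra
  rw [f.fromNormalization_app hU, CommRingCat.hom_comp]
  refine RingHom.Finite.comp ?_ ?_
  · exact RingHom.Finite.of_surjective _
      ((ConcreteCategory.bijective_of_isIso (f.normalizationObjIso hU).inv).2)
  · rw [CommRingCat.hom_ofHom, RingHom.finite_algebraMap]
    exact h U hU

end Groth.Agent.Helper5.NormFin
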