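import Mathlib
import Groth.Prelude.Def_Found
import Groth.Agent.Helper5.NormFin
import Groth.Agent.Helper4.Japanese

set_option autoImplicit false
set_option linter.unusedSectionVars false
set_option linter.style.haveILetI false
universe u

open AlgebraicGeometry CategoryTheory Opposite

namespace Groth.Agent.Helper5.NormGen

variable {X : Scheme.{u}} [IsIntegral X] (K : Type u) [Field K] (φ : X.functionField →+* K)

/-- the morphism `Spec K ⟶ X` through the generic point -/
noncomputable def gen : Spec (CommRingCat.of K) ⟶ X :=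
  Spec.map (CommRingCat.ofHom φ) ≫ X.fromSpecStalk (genericPoint X)

theorem genericPoint_mem (U : X.Opens) (hne : Nonempty U) : genericPoint X ∈ U :=
  ((genericPoint_spec X).mem_open_set_iff U.isOpen).mpr (by simpa using hne)

theorem gen_preimage (U : X.Opens) (hne : Nonempty U) : (gen K φ) ⁻¹ᵁ U = ⊤ := by
  rw [eq_top_iff]
  intro y _
  show (gen K φ) y ∈ U
  have h1 : (gen K φ) y ∈ Set.range (X.fromSpecStalk (genericPoint X)) := by
    refine ⟨(Spec.map (CommRingCat.ofHom φ)) y, ?_⟩
    simp [gen]
  rw [Scheme.range_fromSpecStalk] at h1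
  exact h1.mem_open U.isOpen (genericPoint_mem U hne)

theorem gen_appLE (U : X.Opens) (hne : Nonempty U) :
    (gen K φ).appLE U ⊤ (by rw [gen_preimage K φ U hne]) =
      X.presheaf.germ U (genericPoint X) (genericPoint_mem U hne) ≫ CommRingCat.ofHom φ ≫
        (Scheme.ΓSpecIso (CommRingCat.of K)).inv := by
  have h2 : (X.fromSpecStalk (genericPoint X)) ⁻¹ᵁ U = ⊤ := by
    rw [eq_top_iff]
    intro y _
    have h1 : (X.fromSpecStalk (genericPoint X)) y ∈
        Set.range (X.fromSpecStalk (genericPoint X)) := ⟨y, rfl⟩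
    rw [Scheme.range_fromSpecStalk] at h1
    exact h1.mem_open U.isOpen (genericPoint_mem U hne)
  have h3 := Scheme.Hom.appLE_comp_appLE (Spec.map (CommRingCat.ofHom φ))
    (X.fromSpecStalk (genericPoint X)) U ⊤ ⊤ (by rw [h2]) le_top
  unfold gen
  rw [← h3]
  rw [Scheme.Hom.appLE, Scheme.fromSpecStalk_app (genericPoint_mem U hne)]
  simp only [Category.assoc]
  rw [Scheme.ΓSpecIso_inv_naturality]
  congr 2

/-- the sections over the preimage of `U` are `K` -/
noncomputable def secEquiv (U : X.Opens) (hne : Nonempty U) :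
    Γ(Spec (CommRingCat.of K), (gen K φ) ⁻¹ᵁ U) ≃+* K :=
  (((Spec (CommRingCat.of K)).presheaf.mapIso (eqToIso (gen_preimage K φ U hne).symm).op) ≪≫
    Scheme.ΓSpecIso (CommRingCat.of K)).commRingCatIsoToRingEquiv

theorem secEquiv_app (U : X.Opens) (hne : Nonempty U) (a : Γ(X, U)) :
    secEquiv K φ U hne ((gen K φ).app U a) =
      φ (X.presheaf.germ U (genericPoint X) (genericPoint_mem U hne) a) := by
  have h1 := gen_appLE K φ U hne
  have h2 : (gen K φ).app U ≫ (Spec (CommRingCat.of K)).presheaf.map
      (eqToHom (gen_preimage K φ U hne).symm).op ≫ (Scheme.ΓSpecIso (CommRingCat.of K)).hom =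
      X.presheaf.germ U (genericPoint X) (genericPoint_mem U hne) ≫ CommRingCat.ofHom φ := by
    have h3 : (gen K φ).app U ≫ (Spec (CommRingCat.of K)).presheaf.map
      (eqToHom (gen_preimage K φ U hne).symm).op = (gen K φ).appLE U ⊤
        (by rw [gen_preimage K φ U hne]) := rfl
    rw [← Category.assoc, h3, h1]
    simp
  exact congrArg (fun f => f.hom a) h2

/-- finiteness of the integral closure over a nonempty affine open with N-2 coordinate ring -/
theorem finite_integralClosure (hφ : φ.Finite) (U : X.Opens) (hU : IsAffineOpen U)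
    (hne : Nonempty U)
    (hN2 : @CAlg.IsN2 Γ(X, U) _ (@IsIntegral.component_integral X _ U hne)) :
    letI := ((gen K φ).app U).hom.toAlgebra
    Module.Finite Γ(X, U)
      (integralClosure Γ(X, U) Γ(Spec (CommRingCat.of K), (gen K φ) ⁻¹ᵁ U)) := by
  letI := ((gen K φ).app U).hom.toAlgebra
  haveI : IsDomain Γ(X, U) := @IsIntegral.component_integral X _ U hne
  letI algK : Algebra Γ(X, U) K := (φ.comp (X.germToFunctionField U).hom).toAlgebra
  letI : Algebra X.functionField K := φ.toAlgebra
  haveI : IsScalarTower Γ(X, U) X.functionField K :=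
    IsScalarTower.of_algebraMap_eq (fun x => rfl)
  haveI : IsFractionRing Γ(X, U) X.functionField :=
    functionField_isFractionRing_of_isAffineOpen X U hU
  haveI : FiniteDimensional X.functionField K := hφ
  have h1 := Groth.Agent.Helper4.Japanese.IsN2.finite hN2 X.functionField K
  let e : Γ(Spec (CommRingCat.of K), (gen K φ) ⁻¹ᵁ U) ≃ₐ[Γ(X, U)] K :=
    AlgEquiv.ofRingEquiv (f := secEquiv K φ U hne) (fun a => secEquiv_app K φ U hne a)
  exact Module.Finite.equiv (e.mapIntegralClosure).symm.toLinearEquiv

/-- the normalization of a Japanese integral scheme in a finite extension of its function field is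
finite -/
theorem isFinite_fromNormalization (hφ : φ.Finite) (g : Spec (CommRingCat.of K) ⟶ X)
    (hg : g = gen K φ) [QuasiCompact g] [QuasiSeparated g]
    (hJ : ∀ (U : X.Opens), IsAffineOpen U → ∀ (hne : Nonempty ↥U),
      @CAlg.IsN2 ↑Γ(X, U) _ (@IsIntegral.component_integral X _ U hne)) :
    IsFinite g.fromNormalization := by
  subst hg
  apply Groth.Agent.Helper5.NormFin.isFinite_fromNormalization
  intro U hU
  by_cases hne : Nonempty U
  · exact finite_integralClosure K φ hφ U hU hne (hJ U hU hne)
  · have hU0 : U = ⊥ := by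
      ext x
      simp only [SetLike.mem_coe]
      constructor
      · intro hx
        exact (hne ⟨⟨x, hx⟩⟩).elim
      · intro hx
        exact hx.elim
    subst hU0
    letI := ((gen K φ).app ⊥).hom.toAlgebra
    haveI : Subsingleton Γ(X, ⊥) := inferInstance
    haveI : Subsingleton (integralClosure Γ(X, ⊥)
        Γ(Spec (CommRingCat.of K), (gen K φ) ⁻¹ᵁ ⊥)) := Module.subsingleton Γ(X, ⊥) _
    infer_instance

end Groth.Agent.Helper5.NormGen
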