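import Mathlib
import Groth.Prelude.Def_Found
import Groth.Prelude.Def_Pi1
import Groth.Agent.Helper5.NormGen

set_option autoImplicit false
set_option linter.unusedSectionVars false
set_option linter.style.haveILetI false
universe u

open AlgebraicGeometry CategoryTheory Opposite

namespace Groth.Agent.Helper5.NormCurve

open Groth.Agent.Helper5.NormGen

/-- height does not increase along an integral extension -/
theorem height_le_height_comap {A B : Type*} [CommRing A] [CommRing B] [Algebra A B]
    [Algebra.IsIntegral A B] (q : Ideal B) [hq : q.IsPrime] :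
    q.height ≤ (q.comap (algebraMap A B)).height := by
  have hsm : StrictMono (PrimeSpectrum.comap (algebraMap A B)) := by
    intro P Q hPQ
    have h : P.asIdeal < Q.asIdeal := hPQ
    exact Ideal.IsIntegral.comap_lt_comap (R := A) h
  have h1 := Order.height_le_height_apply_of_strictMono _ hsm (⟨q, hq⟩ : PrimeSpectrum B)
  rw [← PrimeSpectrum.height_eq_orderHeight, ← PrimeSpectrum.height_eq_orderHeight] at h1
  exact h1

theorem height_eq_one_of_comap {A B : Type*} [CommRing A] [IsDomain A] [CommRing B] [IsDomain B]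
    [Algebra A B] [Algebra.IsIntegral A B] (hinj : Function.Injective (algebraMap A B))
    (q : Ideal B) [q.IsPrime] (h : (q.comap (algebraMap A B)).height = 1) : q.height = 1 := by
  refine le_antisymm (h ▸ height_le_height_comap q) ?_
  rw [Order.one_le_iff_pos, pos_iff_ne_zero]
  intro h0
  rw [Ideal.height_eq_zero_iff_eq_bot] at h0
  subst h0
  have h1 : (⊥ : Ideal B).comap (algebraMap A B) = ⊥ := by
    rw [← RingHom.ker_eq_comap_bot]
    exact (RingHom.injective_iff_ker_eq_bot _).1 hinj
  rw [h1, Ideal.height_bot] at h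
  exact zero_ne_one h

variable {X : Scheme.{u}} [IsIntegral X] (K : Type u) [Field K] (φ : X.functionField →+* K)
  [QuasiCompact (gen K φ)] [QuasiSeparated (gen K φ)]

/-- sections of the normalization over the preimage of a nonempty affine open -/
theorem sections_props (hφ : φ.Finite) (U : X.Opens) (hU : IsAffineOpen U) (hne : Nonempty U) :
    IsDomain Γ((gen K φ).normalization, (gen K φ).fromNormalization ⁻¹ᵁ U) ∧
    IsIntegrallyClosed Γ((gen K φ).normalization, (gen K φ).fromNormalization ⁻¹ᵁ U) ∧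
    Function.Injective ((gen K φ).fromNormalization.app U).hom := by
  letI := ((gen K φ).app U).hom.toAlgebra
  haveI : IsDomain Γ(X, U) := @IsIntegral.component_integral X _ U hne
  letI algK : Algebra Γ(X, U) K := (φ.comp (X.germToFunctionField U).hom).toAlgebra
  letI : Algebra X.functionField K := φ.toAlgebra
  haveI : IsScalarTower Γ(X, U) X.functionField K :=
    IsScalarTower.of_algebraMap_eq (fun x => rfl)
  haveI : IsFractionRing Γ(X, U) X.functionField :=
    functionField_isFractionRing_of_isAffineOpen X U hU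
  haveI : FiniteDimensional X.functionField K := hφ
  let e : Γ(Spec (CommRingCat.of K), (gen K φ) ⁻¹ᵁ U) ≃ₐ[Γ(X, U)] K :=
    AlgEquiv.ofRingEquiv (f := secEquiv K φ U hne) (fun a => secEquiv_app K φ U hne a)
  let E₁ : Γ((gen K φ).normalization, (gen K φ).fromNormalization ⁻¹ᵁ U) ≃+*
      integralClosure Γ(X, U) Γ(Spec (CommRingCat.of K), (gen K φ) ⁻¹ᵁ U) :=
    ((gen K φ).normalizationObjIso hU).commRingCatIsoToRingEquiv
  let E₂ : integralClosure Γ(X, U) Γ(Spec (CommRingCat.of K), (gen K φ) ⁻¹ᵁ U) ≃+*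
      integralClosure Γ(X, U) K := (e.mapIntegralClosure).toRingEquiv
  let E := E₁.trans E₂
  haveI hic : IsIntegrallyClosed (integralClosure Γ(X, U) K) :=
    integralClosure.isIntegrallyClosedOfFiniteExtension X.functionField
  have hE : ∀ a : Γ(X, U), E (((gen K φ).fromNormalization.app U).hom a) =
      algebraMap Γ(X, U) (integralClosure Γ(X, U) K) a := by
    intro a
    have h1 := (gen K φ).fromNormalization_app hU
    have h2 : E₁ (((gen K φ).fromNormalization.app U).hom a) =
        algebraMap Γ(X, U) (integralClosure Γ(X, U)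
          Γ(Spec (CommRingCat.of K), (gen K φ) ⁻¹ᵁ U)) a := by
      rw [h1]
      show ((gen K φ).normalizationObjIso hU).hom.hom
        (((gen K φ).normalizationObjIso hU).inv.hom _) = _
      rw [← CommRingCat.comp_apply, Iso.inv_hom_id]
      rfl
    show E₂ (E₁ _) = _
    rw [h2]
    exact (e.mapIntegralClosure).commutes a
  refine ⟨E.toMulEquiv.isDomain _, IsIntegrallyClosed.of_equiv E.symm, ?_⟩
  intro a b hab
  have h3 : algebraMap Γ(X, U) (integralClosure Γ(X, U) K) a =
      algebraMap Γ(X, U) (integralClosure Γ(X, U) K) b := by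
    rw [← hE, ← hE, hab]
  have h4 := congrArg (fun z : integralClosure Γ(X, U) K => (z : K)) h3
  have h5 : Function.Injective (algebraMap Γ(X, U) K) :=
    φ.injective.comp (X.germToFunctionField_injective U)
  exact h5 h4

theorem primeIdealOf_comap {X S : Scheme.{u}} (f : X ⟶ S) {S₀ : S.Opens} (hS₀ : IsAffineOpen S₀)
    {W : X.Opens} (hW : IsAffineOpen W) (hWS : W ≤ f ⁻¹ᵁ S₀) (x : X) (hxW : x ∈ W) :
    Spec.map (f.appLE S₀ W hWS) (hW.primeIdealOf ⟨x, hxW⟩) =
      hS₀.primeIdealOf ⟨f x, hWS hxW⟩ := by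
  haveI := hS₀.isOpenImmersion_fromSpec
  apply hS₀.fromSpec.isOpenEmbedding.injective
  rw [hS₀.fromSpec_primeIdealOf]
  have h1 := IsAffineOpen.SpecMap_appLE_fromSpec f hS₀ hW hWS
  have h2 : (Spec.map (f.appLE S₀ W hWS) ≫ hS₀.fromSpec) (hW.primeIdealOf ⟨x, hxW⟩) = f x := by
    rw [h1]
    show f (hW.fromSpec (hW.primeIdealOf ⟨x, hxW⟩)) = f x
    rw [hW.fromSpec_primeIdealOf]
  exact h2

/-- the prime of a closed point is maximal -/
theorem isMaximal_primeIdealOf {X : Scheme.{u}} {W : X.Opens} (hW : IsAffineOpen W) (x : X)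
    (hxW : x ∈ W) (hx : IsClosed ({x} : Set X)) :
    (hW.primeIdealOf ⟨x, hxW⟩).asIdeal.IsMaximal := by
  rw [← PrimeSpectrum.isClosed_singleton_iff_isMaximal]
  haveI := hW.isOpenImmersion_fromSpec
  have h1 : ({hW.primeIdealOf ⟨x, hxW⟩} : Set (PrimeSpectrum Γ(X, W))) = hW.fromSpec ⁻¹' {x} := by
    ext y
    simp only [Set.mem_singleton_iff, Set.mem_preimage]
    constructor
    · rintro rfl
      exact hW.fromSpec_primeIdealOf ⟨x, hxW⟩
    · intro hy
      apply hW.fromSpec.isOpenEmbedding.injective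
      rw [hy]
      exact (hW.fromSpec_primeIdealOf ⟨x, hxW⟩).symm
  rw [h1]
  exact hx.preimage hW.fromSpec.continuous

/-- normality of the normalization -/
theorem isNormalScheme (hφ : φ.Finite) : Pi1.IsNormalScheme (gen K φ).normalization := by
  intro x'
  obtain ⟨_, ⟨U, hU, rfl⟩, hxU, -⟩ := X.isBasis_affineOpens.exists_subset_of_mem_open
    (Set.mem_univ ((gen K φ).fromNormalization x')) isOpen_univ
  have hne : Nonempty U := ⟨⟨_, hxU⟩⟩
  obtain ⟨hdom, hic, -⟩ := sections_props K φ hφ U hU hne
  have hV : IsAffineOpen ((gen K φ).fromNormalization ⁻¹ᵁ U) := hU.preimage _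
  have hx'V : x' ∈ (gen K φ).fromNormalization ⁻¹ᵁ U := hxU
  letI : Algebra Γ((gen K φ).normalization, (gen K φ).fromNormalization ⁻¹ᵁ U)
      ((gen K φ).normalization.presheaf.stalk x') :=
    (gen K φ).normalization.presheaf.algebra_section_stalk ⟨x', hx'V⟩
  haveI : IsLocalization.AtPrime ((gen K φ).normalization.presheaf.stalk x')
      (hV.primeIdealOf ⟨x', hx'V⟩).asIdeal := hV.isLocalization_stalk ⟨x', hx'V⟩
  have hle : (hV.primeIdealOf ⟨x', hx'V⟩).asIdeal.primeCompl ≤
      nonZeroDivisors Γ((gen K φ).normalization, (gen K φ).fromNormalization ⁻¹ᵁ U) := by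
    intro a ha
    rw [mem_nonZeroDivisors_iff_ne_zero]
    rintro rfl
    exact ha (Ideal.zero_mem _)
  refine ⟨?_, ?_⟩
  · exact IsLocalization.isDomain_of_le_nonZeroDivisors _ hle
  · exact isIntegrallyClosed_of_isLocalization _ _ hle

/-- dimension one at closed points of the normalization -/
theorem stalk_dim_one (hφ : φ.Finite)
    (hX : ∀ x : X, IsClosed ({x} : Set X) → ringKrullDim (X.presheaf.stalk x) = 1)
    (x' : (gen K φ).normalization) (hx' : IsClosed ({x'} : Set (gen K φ).normalization)) :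
    ringKrullDim ((gen K φ).normalization.presheaf.stalk x') = 1 := by
  have hxcl : IsClosed ({(gen K φ).fromNormalization x'} : Set X) := by
    have := (gen K φ).fromNormalization.isClosedMap _ hx'
    rwa [Set.image_singleton] at this
  obtain ⟨_, ⟨U, hU, rfl⟩, hxU, -⟩ := X.isBasis_affineOpens.exists_subset_of_mem_open
    (Set.mem_univ ((gen K φ).fromNormalization x')) isOpen_univ
  have hne : Nonempty U := ⟨⟨_, hxU⟩⟩
  obtain ⟨hdom, hic, hinj⟩ := sections_props K φ hφ U hU hne
  haveI : IsDomain Γ(X, U) := @IsIntegral.component_integral X _ U hne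
  have hV : IsAffineOpen ((gen K φ).fromNormalization ⁻¹ᵁ U) := hU.preimage _
  have hx'V : x' ∈ (gen K φ).fromNormalization ⁻¹ᵁ U := hxU
  letI : Algebra Γ((gen K φ).normalization, (gen K φ).fromNormalization ⁻¹ᵁ U)
      ((gen K φ).normalization.presheaf.stalk x') :=
    (gen K φ).normalization.presheaf.algebra_section_stalk ⟨x', hx'V⟩
  haveI : IsLocalization.AtPrime ((gen K φ).normalization.presheaf.stalk x')
      (hV.primeIdealOf ⟨x', hx'V⟩).asIdeal := hV.isLocalization_stalk ⟨x', hx'V⟩
  letI : Algebra Γ(X, U) (X.presheaf.stalk ((gen K φ).fromNormalization x')) :=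
    X.presheaf.algebra_section_stalk ⟨(gen K φ).fromNormalization x', hxU⟩
  haveI : IsLocalization.AtPrime (X.presheaf.stalk ((gen K φ).fromNormalization x'))
      (hU.primeIdealOf ⟨(gen K φ).fromNormalization x', hxU⟩).asIdeal :=
    hU.isLocalization_stalk ⟨(gen K φ).fromNormalization x', hxU⟩
  letI : Algebra Γ(X, U) Γ((gen K φ).normalization, (gen K φ).fromNormalization ⁻¹ᵁ U) :=
    ((gen K φ).fromNormalization.app U).hom.toAlgebra
  haveI : Algebra.IsIntegral Γ(X, U)
      Γ((gen K φ).normalization, (gen K φ).fromNormalization ⁻¹ᵁ U) :=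
    ⟨IsIntegralHom.isIntegral_app (gen K φ).fromNormalization U hU⟩
  have hpq : (hV.primeIdealOf ⟨x', hx'V⟩).asIdeal.comap (algebraMap Γ(X, U)
      Γ((gen K φ).normalization, (gen K φ).fromNormalization ⁻¹ᵁ U)) =
      (hU.primeIdealOf ⟨(gen K φ).fromNormalization x', hxU⟩).asIdeal := by
    have h1 := primeIdealOf_comap (gen K φ).fromNormalization hU hV le_rfl x' hx'V
    rw [Scheme.Hom.appLE_eq_app] at h1
    exact congrArg PrimeSpectrum.asIdeal h1
  have hp1 : (hU.primeIdealOf ⟨(gen K φ).fromNormalization x', hxU⟩).asIdeal.height = 1 := by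
    have h2 := hX _ hxcl
    rw [IsLocalization.AtPrime.ringKrullDim_eq_height
      (hU.primeIdealOf ⟨(gen K φ).fromNormalization x', hxU⟩).asIdeal] at h2
    exact_mod_cast h2
  have hq1 : (hV.primeIdealOf ⟨x', hx'V⟩).asIdeal.height = 1 :=
    height_eq_one_of_comap hinj _ (hpq ▸ hp1)
  rw [IsLocalization.AtPrime.ringKrullDim_eq_height (hV.primeIdealOf ⟨x', hx'V⟩).asIdeal, hq1]
  rfl

end Groth.Agent.Helper5.NormCurve
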