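import Mathlib
import Groth.Prelude.Def_Found
import Groth.Prelude.Def_Pi1
import Groth.Agent.Helper5.NormCurve
import Groth.Agent.Helper5.N2Field

set_option autoImplicit false
set_option linter.unusedSectionVars false
set_option linter.style.haveILetI false
universe u

open AlgebraicGeometry CategoryTheory Opposite

namespace Groth.Agent.Helper5.NormCurve

open Groth.Agent.Helper5.NormGen

/-- coordinate rings of nonempty affine opens of an integral scheme locally of finite type over a
field are N-2 -/
theorem isN2_of_locallyOfFiniteType (k : Type u) [Field k] (X : Scheme.{u}) [IsIntegral X]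
    (p : X ⟶ Spec (CommRingCat.of k)) [LocallyOfFiniteType p] (U : X.Opens) (hU : IsAffineOpen U)
    (hne : Nonempty U) :
    @CAlg.IsN2 Γ(X, U) _ (@IsIntegral.component_integral X _ U hne) := by
  have h1 : (p.appLE ⊤ U le_top).hom.FiniteType :=
    p.finiteType_appLE (isAffineOpen_top _) hU le_top
  have h2 : ((Scheme.ΓSpecIso (CommRingCat.of k)).inv.hom).FiniteType :=
    RingHom.FiniteType.of_surjective _
      (ConcreteCategory.bijective_of_isIso (Scheme.ΓSpecIso (CommRingCat.of k)).inv).2
  have h3 := h1.comp h2
  letI : Algebra k Γ(X, U) :=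
    ((p.appLE ⊤ U le_top).hom.comp (Scheme.ΓSpecIso (CommRingCat.of k)).inv.hom).toAlgebra
  haveI : Algebra.FiniteType k Γ(X, U) := h3
  haveI : IsDomain Γ(X, U) := @IsIntegral.component_integral X _ U hne
  exact Groth.Agent.Helper5.N2Field.isN2_of_finiteType k Γ(X, U)

/-- S4454 -/
theorem s4454 (k : Type u) [Field k] (X : Scheme.{u})
    [X.Over (Spec (CommRingCat.of k))] [LocallyOfFiniteType (X ↘ (Spec (CommRingCat.of k)))]
    [IsIntegral X]
    (hX : ∀ x : X, IsClosed ({x} : Set X) → ringKrullDim (X.presheaf.stalk x) = 1)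
    (K : Type u) [Field K] (φ : X.functionField →+* K) (hφ : φ.Finite)
    (g : Spec (CommRingCat.of K) ⟶ X)
    (hg : g = Spec.map (CommRingCat.ofHom φ) ≫ X.fromSpecStalk (genericPoint X))
    [QuasiCompact g] [QuasiSeparated g] :
    IsFinite g.fromNormalization ∧ Pi1.IsNormalScheme g.normalization ∧
      ∀ x' : g.normalization, IsClosed ({x'} : Set g.normalization) →
        ringKrullDim (g.normalization.presheaf.stalk x') = 1 := by
  have hg' : g = gen K φ := hg
  refine ⟨?_, ?_, ?_⟩
  · exact isFinite_fromNormalization K φ hφ g hg'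
      (fun U hU hne => isN2_of_locallyOfFiniteType k X (X ↘ (Spec (CommRingCat.of k))) U hU hne)
  · subst hg'
    exact isNormalScheme K φ hφ
  · subst hg'
    exact stalk_dim_one K φ hφ hX

end Groth.Agent.Helper5.NormCurve
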