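import Groth.Agent.Helper5.DimIneq
import Groth.Agent.Helper5.EtDim

set_option autoImplicit false
universe u
open CategoryTheory CategoryTheory.Limits AlgebraicGeometry Opposite

namespace Groth.Agent.Helper5.DimIneq

theorem ringKrullDim_stalk_le_dim (X : Scheme.{u}) (x : ↥X) :
    ringKrullDim (X.presheaf.stalk x) ≤ topologicalKrullDim ↥X := by
  rw [ringKrullDim_stalk_eq_coheight, Groth.Agent.Helper5.EtDim.topologicalKrullDim_eq_iSup_coheight]
  exact le_iSup (fun x : ↥X => ((Order.coheight x : ℕ∞) : WithBot ℕ∞)) x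

theorem dim_eq_iSup_stalk (X : Scheme.{u}) :
    topologicalKrullDim ↥X = ⨆ x : ↥X, ringKrullDim (X.presheaf.stalk x) := by
  rw [Groth.Agent.Helper5.EtDim.topologicalKrullDim_eq_iSup_coheight]
  exact iSup_congr fun x => (ringKrullDim_stalk_eq_coheight x).symm

theorem dim_le_add_of_fibre_dim_le {X Y : Scheme.{u}} (f : X ⟶ Y) [IsLocallyNoetherian Y]
    [LocallyOfFiniteType f] (n : ℕ) (h : ∀ y : Y, topologicalKrullDim (f.fiber y) ≤ n) :
    topologicalKrullDim X ≤ topologicalKrullDim Y + n := by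
  have : IsLocallyNoetherian X := LocallyOfFiniteType.isLocallyNoetherian f
  rw [dim_eq_iSup_stalk X]
  refine iSup_le fun x => ?_
  refine (stalk_dim_le f x).trans ?_
  exact add_le_add (ringKrullDim_stalk_le_dim Y (f x))
    ((ringKrullDim_stalk_le_dim _ _).trans (h (f x)))

end Groth.Agent.Helper5.DimIneq
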