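import Mathlib

set_option autoImplicit false
open Pointwise

namespace Groth.Agent.Helper5.KA

section general
variable {R : Type*} [CommRing R] {X Y M : Type*} [AddCommGroup X] [Module R X]
  [AddCommGroup Y] [Module R Y] [AddCommGroup M] [Module R M]

/-- Lemma F : `ℓ(X/a^{n+1}X) = ℓ(X/a^n X) + ℓ(X/aX)` when `a` is regular on `X`. -/
theorem length_quot_pow_succ (a : R) (ha : IsSMulRegular X a) (n : ℕ) :
    Module.length R (X ⧸ (a ^ (n + 1)) • (⊤ : Submodule R X)) =
      Module.length R (X ⧸ (a ^ n) • (⊤ : Submodule R X)) +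
        Module.length R (X ⧸ a • (⊤ : Submodule R X)) := by
  have h1 : (a ^ n) • (⊤ : Submodule R X) ≤
      ((a ^ (n + 1)) • (⊤ : Submodule R X)).comap (LinearMap.lsmul R X a) := by
    intro x hx
    rw [Submodule.mem_smul_pointwise_iff_exists] at hx
    obtain ⟨y, -, rfl⟩ := hx
    rw [Submodule.mem_comap, Submodule.mem_smul_pointwise_iff_exists]
    refine ⟨y, trivial, ?_⟩
    simp only [LinearMap.lsmul_apply]
    rw [pow_succ', mul_smul]
  have h2 : (a ^ (n + 1)) • (⊤ : Submodule R X) ≤
      (a • (⊤ : Submodule R X)).comap LinearMap.id := by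
    intro x hx
    rw [Submodule.mem_smul_pointwise_iff_exists] at hx
    obtain ⟨y, -, rfl⟩ := hx
    rw [Submodule.mem_comap, Submodule.mem_smul_pointwise_iff_exists]
    refine ⟨a ^ n • y, trivial, ?_⟩
    simp [pow_succ', mul_smul]
  refine Module.length_eq_add_of_exact
    (Submodule.mapQ _ _ (LinearMap.lsmul R X a) h1) (Submodule.mapQ _ _ LinearMap.id h2) ?_ ?_ ?_
  · rw [← LinearMap.ker_eq_bot, LinearMap.ker_eq_bot']
    intro x hx
    induction x using Submodule.Quotient.induction_on with
    | H x =>
      rw [Submodule.mapQ_apply, Submodule.Quotient.mk_eq_zero,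
        Submodule.mem_smul_pointwise_iff_exists] at hx
      obtain ⟨y, -, hy⟩ := hx
      rw [Submodule.Quotient.mk_eq_zero, Submodule.mem_smul_pointwise_iff_exists]
      refine ⟨y, trivial, ?_⟩
      apply ha
      simp only [LinearMap.lsmul_apply] at hy
      show a • a ^ n • y = a • x
      rw [← hy, pow_succ', mul_smul]
  · intro x
    induction x using Submodule.Quotient.induction_on with
    | H x => exact ⟨Submodule.Quotient.mk x, by simp⟩
  · intro x
    induction x using Submodule.Quotient.induction_on with
    | H x =>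
      rw [Submodule.mapQ_apply, Submodule.Quotient.mk_eq_zero, LinearMap.id_apply,
        Submodule.mem_smul_pointwise_iff_exists]
      constructor
      · rintro ⟨y, -, rfl⟩
        exact ⟨Submodule.Quotient.mk y, by simp⟩
      · rintro ⟨y, hy⟩
        induction y using Submodule.Quotient.induction_on with
        | H y =>
          rw [Submodule.mapQ_apply, LinearMap.lsmul_apply, Submodule.Quotient.eq,
            Submodule.mem_smul_pointwise_iff_exists] at hy
          obtain ⟨z, -, hz⟩ := hy
          refine ⟨y - a ^ n • z, trivial, ?_⟩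
          rw [smul_sub, ← mul_smul, ← pow_succ', hz]
          abel

theorem length_quot_pow (a : R) (ha : IsSMulRegular X a) (n : ℕ) :
    Module.length R (X ⧸ (a ^ n) • (⊤ : Submodule R X)) =
      n • Module.length R (X ⧸ a • (⊤ : Submodule R X)) := by
  induction n with
  | zero =>
    rw [zero_smul, Module.length_eq_zero_iff, pow_zero, one_smul]
    infer_instance
  | succ n ih => rw [length_quot_pow_succ a ha, ih, succ_nsmul]

/-- Lemma G -/
theorem length_quot_le_add (φ : Y →ₗ[R] M) (hφ : Function.Injective φ) (b : R) :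
    Module.length R (M ⧸ b • (⊤ : Submodule R M)) ≤
      Module.length R (Y ⧸ b • (⊤ : Submodule R Y)) +
        Module.length R (M ⧸ LinearMap.range φ) := by
  set T : Submodule R M := (b • (⊤ : Submodule R Y)).map φ with hT
  have hT1 : T ≤ b • (⊤ : Submodule R M) := by
    rintro _ ⟨y, hy, rfl⟩
    rw [SetLike.mem_coe, Submodule.mem_smul_pointwise_iff_exists] at hy
    obtain ⟨z, -, rfl⟩ := hy
    rw [map_smul]
    exact Submodule.smul_mem_pointwise_smul _ _ _ trivial
  have hT2 : T ≤ LinearMap.range φ := by
    rintro _ ⟨y, -, rfl⟩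
    exact ⟨y, rfl⟩
  have e1 : Module.length R (M ⧸ b • (⊤ : Submodule R M)) ≤ Module.length R (M ⧸ T) :=
    Module.length_le_of_surjective (Submodule.mapQ T _ LinearMap.id hT1) (by
      intro x
      induction x using Submodule.Quotient.induction_on with
      | H x => exact ⟨Submodule.Quotient.mk x, by simp⟩)
  refine e1.trans (le_of_eq ?_)
  have h1 : b • (⊤ : Submodule R Y) ≤ T.comap φ := by
    intro y hy
    exact ⟨y, hy, rfl⟩
  have h2 : T ≤ (LinearMap.range φ).comap LinearMap.id := hT2
  refine Module.length_eq_add_of_exact (Submodule.mapQ _ _ φ h1)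
    (Submodule.mapQ _ _ LinearMap.id h2) ?_ ?_ ?_
  · rw [← LinearMap.ker_eq_bot, LinearMap.ker_eq_bot']
    intro x hx
    induction x using Submodule.Quotient.induction_on with
    | H x =>
      rw [Submodule.mapQ_apply, Submodule.Quotient.mk_eq_zero] at hx
      obtain ⟨y, hy, hyx⟩ := hx
      rw [Submodule.Quotient.mk_eq_zero, ← hφ hyx]
      exact hy
  · intro x
    induction x using Submodule.Quotient.induction_on with
    | H x => exact ⟨Submodule.Quotient.mk x, by simp⟩
  · intro x
    induction x using Submodule.Quotient.induction_on with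
    | H x =>
      rw [Submodule.mapQ_apply, Submodule.Quotient.mk_eq_zero, LinearMap.id_apply]
      constructor
      · rintro ⟨y, rfl⟩
        exact ⟨Submodule.Quotient.mk y, by simp⟩
      · rintro ⟨y, hy⟩
        induction y using Submodule.Quotient.induction_on with
        | H y =>
          rw [Submodule.mapQ_apply, Submodule.Quotient.eq] at hy
          obtain ⟨z, -, hz⟩ := hy
          refine ⟨y - z, ?_⟩
          rw [map_sub, hz]
          abel

/-- the pi computation (as an inequality) -/
theorem length_pi_quot_le (a : R) (r : ℕ) :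
    Module.length R ((Fin r → R) ⧸ a • (⊤ : Submodule R (Fin r → R))) ≤
      r * Module.length R (R ⧸ Ideal.span {a}) := by
  let ψ : (Fin r → R) →ₗ[R] (Fin r → R ⧸ Ideal.span {a}) :=
    LinearMap.pi fun i => (Submodule.mkQ (Ideal.span {a})).comp (LinearMap.proj i)
  have hker : LinearMap.ker ψ ≤ a • (⊤ : Submodule R (Fin r → R)) := by
    intro y hy
    rw [LinearMap.mem_ker] at hy
    have hy' : ∀ i, y i ∈ Ideal.span {a} := by
      intro i
      have := congrFun hy i
      have h3 : Submodule.Quotient.mk (p := Ideal.span {a}) (y i) = 0 := by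
        simpa [ψ] using this
      exact (Submodule.Quotient.mk_eq_zero _).1 h3
    simp only [Ideal.mem_span_singleton'] at hy'
    choose z hz using hy'
    rw [Submodule.mem_smul_pointwise_iff_exists]
    refine ⟨z, trivial, ?_⟩
    ext i
    simp [← hz i, mul_comm]
  have hle : a • (⊤ : Submodule R (Fin r → R)) ≤ LinearMap.ker ψ := by
    intro y hy
    rw [Submodule.mem_smul_pointwise_iff_exists] at hy
    obtain ⟨z, -, rfl⟩ := hy
    rw [LinearMap.mem_ker]
    ext i
    simp only [ψ, LinearMap.pi_apply, LinearMap.comp_apply, LinearMap.proj_apply, Pi.smul_apply,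
      Pi.zero_apply, Submodule.mkQ_apply, Submodule.Quotient.mk_eq_zero]
    exact Ideal.mem_span_singleton'.2 ⟨z i, by simp [mul_comm]⟩
  have hinj : Function.Injective (Submodule.liftQ _ ψ hle) := by
    rw [← LinearMap.ker_eq_bot, Submodule.ker_liftQ, eq_bot_iff]
    rintro _ ⟨y, hy, rfl⟩
    rw [Submodule.mem_bot, Submodule.mkQ_apply, Submodule.Quotient.mk_eq_zero]
    exact hker hy
  refine (Module.length_le_of_injective _ hinj).trans ?_
  rw [Module.length_pi_of_fintype]
  simp

end general

end Groth.Agent.Helper5.KA
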