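import Mathlib
import Groth.Agent.Helper5.KA1

set_option autoImplicit false
open Pointwise

namespace Groth.Agent.Helper5.KA

section main
variable {R : Type*} [CommRing R] [IsDomain R] [IsNoetherianRing R] [Ring.KrullDimLE 1 R]
  {K : Type*} [Field K] [Algebra R K] [IsFractionRing R K]
  {V : Type*} [AddCommGroup V] [Module R V] [Module K V] [IsScalarTower R K V]
  {M : Type*} [AddCommGroup M] [Module R M]

end main

theorem regular_of_injective {R : Type*} [CommRing R] [IsDomain R] (K : Type*) [Field K]
    [Algebra R K] [IsFractionRing R K] {V : Type*} [AddCommGroup V] [Module R V] [Module K V]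
    [IsScalarTower R K V] {M : Type*} [AddCommGroup M] [Module R M]
    (ι : M →ₗ[R] V) (hι : Function.Injective ι) (a : R) (ha : a ≠ 0) :
    IsSMulRegular M a := by
  intro x y hxy
  apply hι
  have h1 : a • ι x = a • ι y := by rw [← map_smul, ← map_smul]; exact congrArg ι hxy
  rw [← algebraMap_smul K a (ι x), ← algebraMap_smul K a (ι y)] at h1
  have h2 : algebraMap R K a ≠ 0 := by
    rw [Ne, IsFractionRing.to_map_eq_zero_iff]
    exact ha
  exact smul_right_injective V h2 h1

section main
variable {R : Type*} [CommRing R] [IsDomain R] [IsNoetherianRing R] [Ring.KrullDimLE 1 R]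
  {K : Type*} [Field K] [Algebra R K] [IsFractionRing R K]
  {V : Type*} [AddCommGroup V] [Module R V] [Module K V] [IsScalarTower R K V]
  {M : Type*} [AddCommGroup M] [Module R M]

omit [IsNoetherianRing R] [Ring.KrullDimLE 1 R] in
/-- clearing denominators in a span -/
theorem exists_smul_mem_span (s : Set V) (v : V) (hv : v ∈ Submodule.span K s) :
    ∃ c : R, c ≠ 0 ∧ c • v ∈ Submodule.span R s := by
  induction hv using Submodule.span_induction with
  | mem x hx => exact ⟨1, one_ne_zero, by rw [one_smul]; exact Submodule.subset_span hx⟩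
  | zero => exact ⟨1, one_ne_zero, by simp⟩
  | add x y _ _ hx hy =>
    obtain ⟨c, hc, hcx⟩ := hx
    obtain ⟨d, hd, hdy⟩ := hy
    refine ⟨c * d, mul_ne_zero hc hd, ?_⟩
    rw [smul_add]
    refine Submodule.add_mem _ ?_ ?_
    · rw [mul_comm, mul_smul]
      exact Submodule.smul_mem _ _ hcx
    · rw [mul_smul]
      exact Submodule.smul_mem _ _ hdy
  | smul k x _ hx =>
    obtain ⟨c, hc, hcx⟩ := hx
    obtain ⟨p, q, hq, rfl⟩ := IsFractionRing.div_surjective (A := R) k
    have hq0 : q ≠ 0 := nonZeroDivisors.ne_zero hq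
    have hq' : algebraMap R K q ≠ 0 := by
      rw [Ne, IsFractionRing.to_map_eq_zero_iff]
      exact hq0
    refine ⟨q * c, mul_ne_zero hq0 hc, ?_⟩
    have : (q * c) • ((algebraMap R K p / algebraMap R K q) • x) = p • (c • x) := by
      rw [← algebraMap_smul K (q * c), ← algebraMap_smul K p, ← algebraMap_smul K c, smul_smul,
        smul_smul, map_mul]
      congr 1
      field_simp
    rw [this]
    exact Submodule.smul_mem _ _ hcx

variable [FiniteDimensional K V]

omit [IsNoetherianRing R] [Ring.KrullDimLE 1 R] in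
/-- (1a) -/
theorem exists_free_sub [Module.Finite R M] (ι : M →ₗ[R] V) (hι : Function.Injective ι) :
    ∃ (r : ℕ) (φ : (Fin r → R) →ₗ[R] M) (c : R), r ≤ Module.finrank K V ∧
      Function.Injective φ ∧ c ≠ 0 ∧ ∀ m, c • m ∈ LinearMap.range φ := by
  classical
  obtain ⟨b, hb1, hb2, hb3⟩ := exists_linearIndependent K (Set.range ι)
  have hfin : b.Finite := hb3.setFinite
  have : Fintype b := hfin.fintype
  let e : Fin (Fintype.card b) ≃ b := (Fintype.equivFin b).symm
  have hcard : Fintype.card b ≤ Module.finrank K V := hb3.fintype_card_le_finrank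
  have hm' : ∀ i : Fin (Fintype.card b), ∃ m : M, ι m = (e i : V) := fun i => hb1 (e i).2
  choose m hm using hm'
  have hli : LinearIndependent K (ι ∘ m) := by
    have h1 : LinearIndependent K (fun i : Fin (Fintype.card b) => ((e i : b) : V)) :=
      hb3.comp e e.injective
    have h2 : (ι ∘ m) = fun i : Fin (Fintype.card b) => ((e i : b) : V) := funext hm
    rw [h2]
    exact h1
  have hliR : LinearIndependent R (ι ∘ m) := hli.restrict_scalars' R
  have hrange : Set.range (ι ∘ m) = b := by
    ext v
    constructor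
    · rintro ⟨i, rfl⟩
      rw [Function.comp_apply, hm]
      exact (e i).2
    · intro hv
      refine ⟨e.symm ⟨v, hv⟩, ?_⟩
      rw [Function.comp_apply, hm, Equiv.apply_symm_apply]
  let φ : (Fin (Fintype.card b) → R) →ₗ[R] M := Fintype.linearCombination R m
  have hφι : ι ∘ₗ φ = Fintype.linearCombination R (ι ∘ m) := by
    ext i
    simp [φ, Fintype.linearCombination_apply]
  have hφ : Function.Injective φ := by
    have : Function.Injective (ι ∘ₗ φ) := by
      rw [hφι]
      exact hliR.fintypeLinearCombination_injective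
    exact Function.Injective.of_comp this
  -- torsion
  have hspan : ∀ x : M, ∃ c : R, c ≠ 0 ∧ c • x ∈ LinearMap.range φ := by
    intro x
    have hx : ι x ∈ Submodule.span K (Set.range (ι ∘ m)) := by
      rw [hrange, hb2]
      exact Submodule.subset_span ⟨x, rfl⟩
    obtain ⟨c, hc, hcx⟩ := exists_smul_mem_span (R := R) _ _ hx
    refine ⟨c, hc, ?_⟩
    have h3 : Submodule.span R (Set.range (ι ∘ m)) = (LinearMap.range φ).map ι := by
      rw [← LinearMap.range_comp, hφι, Fintype.range_linearCombination]
    rw [h3] at hcx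
    obtain ⟨y, hy, hyx⟩ := hcx
    rw [← map_smul] at hyx
    rw [← hι hyx]
    exact hy
  choose c hc hcx using hspan
  obtain ⟨s, hs⟩ := (Module.Finite.fg_top : (⊤ : Submodule R M).FG)
  refine ⟨Fintype.card b, φ, ∏ x ∈ s, c x, hcard, hφ, Finset.prod_ne_zero_iff.2 fun x _ => hc x, ?_⟩
  intro x
  have hx : x ∈ Submodule.span R (s : Set M) := by rw [hs]; trivial
  induction hx using Submodule.span_induction with
  | mem x hx =>
    obtain ⟨d, hd⟩ := Finset.dvd_prod_of_mem c hx
    rw [hd, mul_comm, mul_smul]
    exact Submodule.smul_mem _ _ (hcx x)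
  | zero => simp
  | add x y _ _ hx hy =>
    rw [smul_add]
    exact Submodule.add_mem _ hx hy
  | smul k x _ hx =>
    rw [smul_comm]
    exact Submodule.smul_mem _ _ hx

omit [IsDomain R] in
/-- (1b) a finite module killed by a nonzerodivisor has finite length -/
theorem length_ne_top_of_torsion {Q : Type*} [AddCommGroup Q] [Module R Q] [Module.Finite R Q]
    (c : R) (hc : c ∈ nonZeroDivisors R) (hQ : ∀ q : Q, c • q = 0) : Module.length R Q ≠ ⊤ := by
  have hfl := isFiniteLength_quotient_span_singleton R hc
  rw [isFiniteLength_iff_isNoetherian_isArtinian] at hfl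
  have hArt : IsArtinianRing (R ⧸ Ideal.span {c}) := isArtinian_of_tower R hfl.2
  have hT : Module.IsTorsionBySet R Q (Ideal.span {c} : Ideal R) :=
    (Module.isTorsionBySet_span_singleton_iff c).2 hQ
  let _ := hT.module
  have : IsScalarTower R (R ⧸ Ideal.span {c}) Q := hT.isScalarTower
  have : Module.Finite (R ⧸ Ideal.span {c}) Q := Module.Finite.of_restrictScalars_finite R _ Q
  rw [Module.length_eq_of_surjective (S := R) (R := R ⧸ Ideal.span {c}) (M := Q)
    Ideal.Quotient.mk_surjective]
  exact Module.length_ne_top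

theorem length_quot_le_of_finite [Module.Finite R M] (ι : M →ₗ[R] V) (hι : Function.Injective ι)
    (a : R) (ha : a ≠ 0) :
    Module.length R (M ⧸ a • (⊤ : Submodule R M)) ≤
      (Module.finrank K V : ℕ∞) * Module.length R (R ⧸ Ideal.span {a}) := by
  obtain ⟨r, φ, c, hr, hφ, hc, hcm⟩ := exists_free_sub (K := K) ι hι
  have hy : Module.length R (R ⧸ Ideal.span {a}) ≠ ⊤ := by
    rw [Module.length_ne_top_iff]
    exact isFiniteLength_quotient_span_singleton R (mem_nonZeroDivisors_of_ne_zero ha)
  have hz : Module.length R (M ⧸ LinearMap.range φ) ≠ ⊤ := by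
    refine length_ne_top_of_torsion c (mem_nonZeroDivisors_of_ne_zero hc) ?_
    intro q
    induction q using Submodule.Quotient.induction_on with
    | H x =>
      rw [← Submodule.Quotient.mk_smul, Submodule.Quotient.mk_eq_zero]
      exact hcm x
  have hregM : IsSMulRegular M a := regular_of_injective K ι hι a ha
  have hregY : IsSMulRegular (Fin r → R) a :=
    regular_of_injective K (ι ∘ₗ φ) (hι.comp hφ) a ha
  have key : ∀ n : ℕ, n • Module.length R (M ⧸ a • (⊤ : Submodule R M)) ≤
      n • ((r : ℕ∞) * Module.length R (R ⧸ Ideal.span {a})) +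
        Module.length R (M ⧸ LinearMap.range φ) := by
    intro n
    rw [← length_quot_pow a hregM n]
    refine (length_quot_le_add φ hφ (a ^ n)).trans ?_
    rw [length_quot_pow a hregY n]
    gcongr
    exact length_pi_quot_le a r
  obtain ⟨y, hy'⟩ := ENat.ne_top_iff_exists.1 hy
  obtain ⟨z, hz'⟩ := ENat.ne_top_iff_exists.1 hz
  rw [← hy', ← hz'] at key
  have hx : Module.length R (M ⧸ a • (⊤ : Submodule R M)) ≠ ⊤ := by
    intro h
    have := key 1
    rw [h, one_smul, one_smul] at this
    have h2 : ((r : ℕ∞) * (y : ℕ∞) + (z : ℕ∞)) ≠ ⊤ := by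
      exact_mod_cast ENat.natCast_ne_top (r * y + z)
    exact h2 (top_le_iff.1 this)
  obtain ⟨x, hx'⟩ := ENat.ne_top_iff_exists.1 hx
  rw [← hx'] at key
  rw [← hx', ← hy']
  have key' : ∀ n : ℕ, n * x ≤ n * (r * y) + z := by
    intro n
    have := key n
    simp only [nsmul_eq_mul] at this
    exact_mod_cast this
  have hxy : x ≤ r * y := by
    by_contra hcon
    rw [not_le] at hcon
    have := key' (z + 1)
    nlinarith
  calc (x : ℕ∞) ≤ ((r * y : ℕ) : ℕ∞) := by exact_mod_cast hxy
    _ = (r : ℕ∞) * (y : ℕ∞) := by push_cast; rfl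
    _ ≤ (Module.finrank K V : ℕ∞) * (y : ℕ∞) := by gcongr

end main

end Groth.Agent.Helper5.KA
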