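import Mathlib
import Groth.Agent.Helper5.KA2

set_option autoImplicit false
open Pointwise

namespace Groth.Agent.Helper5.KA

section strict
variable {R : Type*} [CommRing R] {Q : Type*} [AddCommGroup Q] [Module R Q]

/-- strict monotonicity of finite length -/
theorem le_of_length_le (W W' : Submodule R Q) (h : W ≤ W') (hfin : Module.length R W' ≠ ⊤)
    (hle : Module.length R W' ≤ Module.length R W) : W' ≤ W := by
  have hadd : Module.length R W' = Module.length R W +
      Module.length R (W' ⧸ (W.comap W'.subtype)) := by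
    refine Module.length_eq_add_of_exact (Submodule.inclusion h) (Submodule.mkQ _)
      (Submodule.inclusion_injective h) (Submodule.mkQ_surjective _) ?_
    rw [LinearMap.exact_iff, Submodule.ker_mkQ, Submodule.range_inclusion]
  have hW : Module.length R W ≠ ⊤ := fun h' => hfin (top_le_iff.1
    (h' ▸ Module.length_le_of_injective (Submodule.inclusion h) (Submodule.inclusion_injective h)))
  obtain ⟨n, hn⟩ := ENat.ne_top_iff_exists.1 hW
  have hzero : Module.length R (W' ⧸ (W.comap W'.subtype)) = 0 := by
    rw [hadd, ← hn] at hle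
    by_cases hc : Module.length R (W' ⧸ (W.comap W'.subtype)) = ⊤
    · rw [hc] at hle
      simp at hle
    · obtain ⟨k, hk⟩ := ENat.ne_top_iff_exists.1 hc
      rw [← hk] at hle ⊢
      have : n + k ≤ n := by exact_mod_cast hle
      have : k = 0 := by omega
      rw [this]
      rfl
  rw [Module.length_eq_zero_iff, Submodule.Quotient.subsingleton_iff] at hzero
  intro x hx
  have : (⟨x, hx⟩ : W') ∈ W.comap W'.subtype := by rw [hzero]; trivial
  exact this

end strict

section main
variable {R : Type*} [CommRing R] [IsDomain R] [IsNoetherianRing R] [Ring.KrullDimLE 1 R]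
  (K : Type*) [Field K] [Algebra R K] [IsFractionRing R K]
  {V : Type*} [AddCommGroup V] [Module R V] [Module K V] [IsScalarTower R K V]
  [FiniteDimensional K V]
  {M : Type*} [AddCommGroup M] [Module R M]

/-- uniform bound on f.g. submodules of the quotient -/
theorem length_fg_le (ι : M →ₗ[R] V) (hι : Function.Injective ι) (a : R) (ha : a ≠ 0)
    (T : Submodule R M) (hT : ∀ m, a • m ∈ T) (W : Submodule R (M ⧸ T)) (hW : W.FG) :
    Module.length R W ≤ (Module.finrank K V : ℕ∞) * Module.length R (R ⧸ Ideal.span {a}) := by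
  classical
  obtain ⟨s, hs⟩ := hW
  let t : Finset M := s.image (Function.surjInv T.mkQ_surjective)
  let M' : Submodule R M := Submodule.span R (t : Set M)
  have hM'W : M'.map T.mkQ = W := by
    rw [Submodule.map_span, ← hs]
    congr 1
    ext q
    simp only [t, Finset.coe_image, Set.mem_image, Finset.mem_coe]
    constructor
    · rintro ⟨_, ⟨q', hq', rfl⟩, rfl⟩
      have := Function.surjInv_eq T.mkQ_surjective q'
      rw [this]
      exact hq'
    · intro hq
      exact ⟨_, ⟨q, hq, rfl⟩, Function.surjInv_eq _ _⟩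
  have : Module.Finite R M' := Module.Finite.span_of_finite R (Finset.finite_toSet t)
  have h1 := length_quot_le_of_finite (K := K) (ι ∘ₗ M'.subtype)
    (hι.comp (Submodule.subtype_injective _)) a ha
  refine le_trans ?_ h1
  -- surjection `M' ⧸ a • ⊤ → W`
  let g : M' →ₗ[R] W := (T.mkQ.comp M'.subtype).codRestrict W (by
    intro m
    rw [← hM'W]
    exact ⟨m, m.2, rfl⟩)
  have hg : a • (⊤ : Submodule R M') ≤ LinearMap.ker g := by
    intro m hm
    rw [Submodule.mem_smul_pointwise_iff_exists] at hm
    obtain ⟨m', -, rfl⟩ := hm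
    rw [LinearMap.mem_ker]
    apply Subtype.ext
    simp only [g, LinearMap.codRestrict_apply, LinearMap.comp_apply, Submodule.subtype_apply,
      Submodule.mkQ_apply, Submodule.coe_smul, ZeroMemClass.coe_zero,
      Submodule.Quotient.mk_eq_zero]
    exact hT _
  refine Module.length_le_of_surjective (Submodule.liftQ _ g hg) ?_
  rintro ⟨w, hw⟩
  rw [← hM'W] at hw
  obtain ⟨m, hm, rfl⟩ := hw
  exact ⟨Submodule.Quotient.mk ⟨m, hm⟩, rfl⟩

include K in
/-- Step 2 : the quotient has finite length -/
theorem length_quot_ne_top (ι : M →ₗ[R] V) (hι : Function.Injective ι) (a : R) (ha : a ≠ 0)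
    (T : Submodule R M) (hT : ∀ m, a • m ∈ T) : Module.length R (M ⧸ T) ≠ ⊤ := by
  classical
  have hy : Module.length R (R ⧸ Ideal.span {a}) ≠ ⊤ := by
    rw [Module.length_ne_top_iff]
    exact isFiniteLength_quotient_span_singleton R (mem_nonZeroDivisors_of_ne_zero ha)
  obtain ⟨y, hy'⟩ := ENat.ne_top_iff_exists.1 hy
  set B : ℕ := Module.finrank K V * y with hB
  have hbound : ∀ W : Submodule R (M ⧸ T), W.FG → Module.length R W ≤ (B : ℕ∞) := by
    intro W hW
    have := length_fg_le K ι hι a ha T hT W hW
    rw [← hy'] at this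
    rw [hB]
    push_cast
    exact this
  let f : {W : Submodule R (M ⧸ T) // W.FG} → ℕ := fun W => B - (Module.length R W.1).toNat
  have : Nonempty {W : Submodule R (M ⧸ T) // W.FG} := ⟨⟨⊥, Submodule.fg_bot⟩⟩
  let W₀ := Function.argmin f
  have hW₀ : ∀ W : {W : Submodule R (M ⧸ T) // W.FG}, ¬ f W < f W₀ := Function.not_lt_argmin f
  have htop : W₀.1 = ⊤ := by
    rw [eq_top_iff]
    intro x _
    let W' : {W : Submodule R (M ⧸ T) // W.FG} :=
      ⟨W₀.1 ⊔ Submodule.span R {x}, W₀.2.sup (Submodule.fg_span_singleton x)⟩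
    have h1 := hW₀ W'
    have hb0 := hbound W₀.1 W₀.2
    have hb1 := hbound W'.1 W'.2
    have hfin0 : Module.length R W₀.1 ≠ ⊤ := fun h => by rw [h] at hb0; simp at hb0
    have hfin1 : Module.length R W'.1 ≠ ⊤ := fun h => by rw [h] at hb1; simp at hb1
    obtain ⟨n0, hn0⟩ := ENat.ne_top_iff_exists.1 hfin0
    obtain ⟨n1, hn1⟩ := ENat.ne_top_iff_exists.1 hfin1
    have hle : Module.length R W'.1 ≤ Module.length R W₀.1 := by
      simp only [f, ← hn0, ← hn1, ENat.toNat_natCast] at h1
      rw [← hn0] at hb0
      rw [← hn1] at hb1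
      rw [← hn0, ← hn1]
      have hb0' : n0 ≤ B := by exact_mod_cast hb0
      have hb1' : n1 ≤ B := by exact_mod_cast hb1
      have : n1 ≤ n0 := by omega
      exact_mod_cast this
    have := le_of_length_le W₀.1 W'.1 le_sup_left hfin1 hle
    exact this (Submodule.mem_sup_right (Submodule.mem_span_singleton_self x))
  have hb0 := hbound W₀.1 W₀.2
  rw [htop, Module.length_top] at hb0
  intro h
  rw [h] at hb0
  simp at hb0

end main

section KA
variable (R : Type*) [CommRing R] [IsDomain R] [IsNoetherianRing R] [Ring.KrullDimLE 1 R]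
  (K : Type*) [Field K] [Algebra R K] [IsFractionRing R K]
  (L : Type*) [Field L] [Algebra K L] [FiniteDimensional K L] [Algebra R L] [IsScalarTower R K L]
  (A : Type*) [CommRing A] [Algebra R A] [Algebra A L] [IsScalarTower R A L]

include K in
/-- for nonzero `a`, the quotient `A/aA` has finite length over `R` -/
theorem length_quot_span_ne_top (hA : Function.Injective (algebraMap A L)) (a : R) (ha : a ≠ 0)
    (J : Ideal A) (hJ : algebraMap R A a ∈ J) :
    Module.length R (A ⧸ J.restrictScalars R) ≠ ⊤ := by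
  refine length_quot_ne_top K (V := L) ((IsScalarTower.toAlgHom R A L).toLinearMap) hA
    a ha (J.restrictScalars R) ?_
  intro m
  rw [Submodule.restrictScalars_mem, Algebra.smul_def]
  exact J.mul_mem_right _ hJ

include R K in
/-- **Krull–Akizuki** -/
theorem isNoetherianRing_of_between (hA : Function.Injective (algebraMap A L)) :
    IsNoetherianRing A := by
  have : IsDomain A := hA.isDomain (algebraMap A L)
  have halgK : Algebra.IsAlgebraic R K := IsLocalization.isAlgebraic K (nonZeroDivisors R)
  have halgL : Algebra.IsAlgebraic R L := Algebra.IsAlgebraic.trans R K L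
  rw [isNoetherianRing_iff_ideal_fg]
  intro I
  by_cases hI : I = ⊥
  · rw [hI]
    exact Submodule.fg_bot
  obtain ⟨x, hxI, hx0⟩ := Submodule.exists_mem_ne_zero_of_ne_bot hI
  have hxalg : IsAlgebraic R x :=
    (isAlgebraic_algebraMap_iff hA).1 (Algebra.IsAlgebraic.isAlgebraic _)
  obtain ⟨a, ha, hdvd⟩ := hxalg.exists_nonzero_dvd (mem_nonZeroDivisors_of_ne_zero hx0)
  have haI : algebraMap R A a ∈ I := I.mem_of_dvd hdvd hxI
  set J : Ideal A := Ideal.span {algebraMap R A a} with hJ
  have hJI : J ≤ I := (Ideal.span_singleton_le_iff_mem _).2 haI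
  have hfl := length_quot_span_ne_top R K L A hA a ha J (Ideal.mem_span_singleton_self _)
  rw [Module.length_ne_top_iff, isFiniteLength_iff_isNoetherian_isArtinian] at hfl
  have hN0 : IsNoetherian R (A ⧸ J.restrictScalars R) := hfl.1
  have hN1 : IsNoetherian R (A ⧸ J) :=
    isNoetherian_of_linearEquiv (Submodule.Quotient.restrictScalarsEquiv R J)
  have hN2 : IsNoetherian A (A ⧸ J) := isNoetherian_of_tower R hN1
  refine Submodule.fg_of_fg_map_of_fg_inf_ker (Submodule.mkQ J) (IsNoetherian.noetherian _) ?_
  rw [Submodule.ker_mkQ, inf_eq_right.2 hJI]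
  exact ⟨{algebraMap R A a}, by simp [hJ]⟩

end KA

end Groth.Agent.Helper5.KA
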