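import Mathlib
import Groth.Agent.Helper5.KA3

set_option autoImplicit false

namespace Groth.Agent.Helper5.KA

section KA
variable (R : Type*) [CommRing R] [IsDomain R] [IsNoetherianRing R] [Ring.KrullDimLE 1 R]
  (K : Type*) [Field K] [Algebra R K] [IsFractionRing R K]
  (L : Type*) [Field L] [Algebra K L] [FiniteDimensional K L] [Algebra R L] [IsScalarTower R K L]
  (A : Type*) [CommRing A] [Algebra R A] [Algebra A L] [IsScalarTower R A L]

include K L in
omit [IsNoetherianRing R] [Ring.KrullDimLE 1 R] in
theorem exists_ne_zero_mem (hA : Function.Injective (algebraMap A L)) (I : Ideal A) (hI : I ≠ ⊥) :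
    ∃ a : R, a ≠ 0 ∧ algebraMap R A a ∈ I := by
  have : IsDomain A := hA.isDomain (algebraMap A L)
  have halgK : Algebra.IsAlgebraic R K := IsLocalization.isAlgebraic K (nonZeroDivisors R)
  have halgL : Algebra.IsAlgebraic R L := Algebra.IsAlgebraic.trans R K L
  obtain ⟨x, hxI, hx0⟩ := Submodule.exists_mem_ne_zero_of_ne_bot hI
  have hxalg : IsAlgebraic R x :=
    (isAlgebraic_algebraMap_iff hA).1 (Algebra.IsAlgebraic.isAlgebraic _)
  obtain ⟨a, ha, hdvd⟩ := hxalg.exists_nonzero_dvd (mem_nonZeroDivisors_of_ne_zero hx0)
  exact ⟨a, ha, I.mem_of_dvd hdvd hxI⟩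

include R K L in
theorem isMaximal_of_ne_bot (hA : Function.Injective (algebraMap A L)) (P : Ideal A) [P.IsPrime]
    (hP : P ≠ ⊥) : P.IsMaximal := by
  obtain ⟨a, ha, haP⟩ := exists_ne_zero_mem R K L A hA P hP
  have hfl := length_quot_span_ne_top R K L A hA a ha P haP
  rw [Module.length_ne_top_iff, isFiniteLength_iff_isNoetherian_isArtinian] at hfl
  have hN0 : IsArtinian R (A ⧸ P.restrictScalars R) := hfl.2
  have hN1 : IsArtinian R (A ⧸ P) :=
    isArtinian_of_linearEquiv (Submodule.Quotient.restrictScalarsEquiv R P)
  have hN2 : IsArtinianRing (A ⧸ P) := isArtinian_of_tower R hN1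
  exact Ideal.Quotient.maximal_of_isField P (IsArtinianRing.isField_of_isDomain (A ⧸ P))

end KA

section dvr
variable (R : Type*) [CommRing R] [IsDomain R] [IsNoetherianRing R] [Ring.KrullDimLE 1 R]
  (K : Type*) [Field K] [Algebra R K] [IsFractionRing R K]
  (C : Type*) [CommRing C] [Algebra R C] [Algebra C K] [IsScalarTower R C K]

include R in
omit [IsDomain R] [IsNoetherianRing R] [Ring.KrullDimLE 1 R] in
theorem isFractionRing_of_between (hC : Function.Injective (algebraMap C K)) :
    IsFractionRing C K := by
  have : FaithfulSMul C K := (faithfulSMul_iff_algebraMap_injective C K).2 hC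
  refine IsFractionRing.of_field (R := C) (K := K) fun z => ?_
  obtain ⟨p, q, _, rfl⟩ := IsFractionRing.div_surjective (A := R) z
  exact ⟨algebraMap R C p, algebraMap R C q, by
    rw [← IsScalarTower.algebraMap_apply, ← IsScalarTower.algebraMap_apply]⟩

include R in
theorem isDedekindDomain_integralClosure (hC : Function.Injective (algebraMap C K)) :
    IsDedekindDomain (integralClosure C K) := by
  have hinj : Function.Injective (algebraMap (integralClosure C K) K) := Subtype.val_injective
  have : IsFractionRing C K := isFractionRing_of_between R K C hC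
  have : IsDomain C := hC.isDomain (algebraMap C K)
  have h1 : IsNoetherianRing (integralClosure C K) :=
    isNoetherianRing_of_between R K K (integralClosure C K) hinj
  have h2 : IsIntegrallyClosed (integralClosure C K) :=
    integralClosure.isIntegrallyClosedOfFiniteExtension K
  have h3 : Ring.DimensionLEOne (integralClosure C K) :=
    ⟨fun {P} hP hPp => isMaximal_of_ne_bot R K K (integralClosure C K) hinj P hP⟩
  exact { }

include R in
theorem exists_dvr (hC : Function.Injective (algebraMap C K)) (hnf : ¬ IsField C) :
    ∃ O : ValuationSubring K, IsDiscreteValuationRing O ∧ ∀ c : C, algebraMap C K c ∈ O := by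
  have hD := isDedekindDomain_integralClosure R K C hC
  have hinj : Function.Injective (algebraMap (integralClosure C K) K) := Subtype.val_injective
  have : IsFractionRing (integralClosure C K) K :=
    isFractionRing_of_between R K (integralClosure C K) hinj
  have hDnf : ¬ IsField (integralClosure C K) := by
    intro h
    apply hnf
    have hCD : Function.Injective (algebraMap C (integralClosure C K)) := by
      intro x y hxy
      apply hC
      have := congrArg (algebraMap (integralClosure C K) K) hxy
      rwa [← IsScalarTower.algebraMap_apply, ← IsScalarTower.algebraMap_apply] at this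
    exact isField_of_isIntegral_of_isField hCD h
  obtain ⟨P, hP⟩ := Ideal.exists_maximal (integralClosure C K)
  have hPbot : P ≠ ⊥ := Ring.ne_bot_of_isMaximal_of_not_isField hP hDnf
  obtain ⟨v, -⟩ : ∃ v : IsDedekindDomain.HeightOneSpectrum (integralClosure C K), v.asIdeal = P :=
    ⟨⟨P, hP.isPrime, hPbot⟩, rfl⟩
  refine ⟨IsDedekindDomain.HeightOneSpectrum.valuationSubringAtPrime K v, ?_, ?_⟩
  · have hloc : IsLocalization.AtPrime
        (IsDedekindDomain.HeightOneSpectrum.valuationSubringAtPrime K v) v.asIdeal :=
      (inferInstance : IsLocalization v.asIdeal.primeCompl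
        (IsDedekindDomain.HeightOneSpectrum.valuationSubringAtPrime K v))
    exact IsLocalization.AtPrime.isDiscreteValuationRing_of_dedekind_domain
      (integralClosure C K) v.ne_bot _
  · intro c
    have h1 : algebraMap C K c = algebraMap (integralClosure C K) K
        (algebraMap C (integralClosure C K) c) := IsScalarTower.algebraMap_apply _ _ _ _
    rw [h1, ← ValuationSubring.mem_toSubring,
      IsDedekindDomain.HeightOneSpectrum.valuationSubringAtPrime_toSubring]
    exact Subalgebra.algebraMap_mem _ _

end dvr

end Groth.Agent.Helper5.KA
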