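import Mathlib
import Groth.Prelude.Def_Found
import Groth.Prelude.Def_CurvBase
import Groth.Agent.Helper5.NormCurve

set_option autoImplicit false
set_option linter.unusedSectionVars false
set_option linter.style.haveILetI false
universe u

open AlgebraicGeometry CategoryTheory Opposite

namespace Groth.Agent.Helper5.NormFF

open Groth.Agent.Helper5.NormGen

variable {X : Scheme.{u}} [IsIntegral X] (K : Type u) [Field K] (φ : X.functionField →+* K)
  [QuasiCompact (gen K φ)] [QuasiSeparated (gen K φ)]

/-- sections of the normalization over the preimage of a nonempty affine open: the integral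
closure of `Γ(X, U)` in `K` -/
theorem exists_secEquiv (U : X.Opens) (hU : IsAffineOpen U) (hne : Nonempty U) :
    letI algK : Algebra Γ(X, U) K := (φ.comp (X.germToFunctionField U).hom).toAlgebra
    ∃ E : Γ((gen K φ).normalization, (gen K φ).fromNormalization ⁻¹ᵁ U) ≃+*
      integralClosure Γ(X, U) K,
      ∀ a : Γ(X, U), E (((gen K φ).fromNormalization.app U).hom a) =
        algebraMap Γ(X, U) (integralClosure Γ(X, U) K) a := by
  letI := ((gen K φ).app U).hom.toAlgebra
  letI algK : Algebra Γ(X, U) K := (φ.comp (X.germToFunctionField U).hom).toAlgebra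
  let e : Γ(Spec (CommRingCat.of K), (gen K φ) ⁻¹ᵁ U) ≃ₐ[Γ(X, U)] K :=
    AlgEquiv.ofRingEquiv (f := secEquiv K φ U hne) (fun a => secEquiv_app K φ U hne a)
  let E₁ : Γ((gen K φ).normalization, (gen K φ).fromNormalization ⁻¹ᵁ U) ≃+*
      integralClosure Γ(X, U) Γ(Spec (CommRingCat.of K), (gen K φ) ⁻¹ᵁ U) :=
    ((gen K φ).normalizationObjIso hU).commRingCatIsoToRingEquiv
  let E₂ : integralClosure Γ(X, U) Γ(Spec (CommRingCat.of K), (gen K φ) ⁻¹ᵁ U) ≃+*
      integralClosure Γ(X, U) K := (e.mapIntegralClosure).toRingEquiv
  refine ⟨E₁.trans E₂, ?_⟩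
  intro a
  have h1 := (gen K φ).fromNormalization_app hU
  have h2 : E₁ (((gen K φ).fromNormalization.app U).hom a) =
      algebraMap Γ(X, U) (integralClosure Γ(X, U)
        Γ(Spec (CommRingCat.of K), (gen K φ) ⁻¹ᵁ U)) a := by
    rw [h1]
    show ((gen K φ).normalizationObjIso hU).hom.hom
      (((gen K φ).normalizationObjIso hU).inv.hom _) = _
    rw [← CommRingCat.comp_apply, Iso.inv_hom_id]
    rfl
  show E₂ (E₁ _) = _
  rw [h2]
  exact (e.mapIntegralClosure).commutes a

theorem nonempty_preimage (U : X.Opens) (hne : Nonempty U) :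
    Nonempty ((gen K φ).fromNormalization ⁻¹ᵁ U : (gen K φ).normalization.Opens) := by
  obtain ⟨y⟩ : Nonempty (Spec (CommRingCat.of K)) := inferInstance
  refine ⟨⟨(gen K φ).toNormalization y, ?_⟩⟩
  show (gen K φ).fromNormalization ((gen K φ).toNormalization y) ∈ U
  rw [← Scheme.Hom.comp_apply, (gen K φ).toNormalization_fromNormalization]
  have h1 : y ∈ (gen K φ) ⁻¹ᵁ U := by
    rw [gen_preimage K φ U hne]
    trivial
  exact h1

/-- the function field of the normalization is `K` -/
theorem exists_functionField_equiv (hφ : φ.Finite) (U : X.Opens) (hU : IsAffineOpen U)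
    (hne : Nonempty U) :
    ∃ (hmem : genericPoint (gen K φ).normalization ∈ (gen K φ).fromNormalization ⁻¹ᵁ U)
      (e : (gen K φ).normalization.presheaf.stalk (genericPoint (gen K φ).normalization) ≃+* K),
      ∀ a : Γ(X, U), e ((gen K φ).normalization.presheaf.germ _ _ hmem
        (((gen K φ).fromNormalization.app U).hom a)) =
        φ (X.presheaf.germ U (genericPoint X) (genericPoint_mem U hne) a) := by
  haveI hneV := nonempty_preimage K φ U hne
  have hV : IsAffineOpen ((gen K φ).fromNormalization ⁻¹ᵁ U) := hU.preimage _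
  haveI : IsDomain Γ(X, U) := @IsIntegral.component_integral X _ U hne
  letI algK : Algebra Γ(X, U) K := (φ.comp (X.germToFunctionField U).hom).toAlgebra
  letI : Algebra X.functionField K := φ.toAlgebra
  haveI : IsScalarTower Γ(X, U) X.functionField K :=
    IsScalarTower.of_algebraMap_eq (fun x => rfl)
  haveI : IsFractionRing Γ(X, U) X.functionField :=
    functionField_isFractionRing_of_isAffineOpen X U hU
  haveI : FiniteDimensional X.functionField K := hφ
  haveI : IsFractionRing (integralClosure Γ(X, U) K) K :=
    integralClosure.isFractionRing_of_finite_extension X.functionField K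
  haveI : IsFractionRing Γ((gen K φ).normalization, (gen K φ).fromNormalization ⁻¹ᵁ U)
      (gen K φ).normalization.functionField :=
    functionField_isFractionRing_of_isAffineOpen _ _ hV
  obtain ⟨E, hE⟩ := exists_secEquiv K φ U hU hne
  refine ⟨genericPoint_mem _ hneV, IsFractionRing.ringEquivOfRingEquiv E, ?_⟩
  intro a
  have h1 := IsFractionRing.ringEquivOfRingEquiv_algebraMap
    (K := (gen K φ).normalization.functionField) (L := K) E
    (((gen K φ).fromNormalization.app U).hom a)
  rw [hE] at h1
  exact h1

/-- the function field of the normalization is `K`, compatibly with a base field -/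
theorem exists_functionField_equiv_over (k : Type u) [Field k] [X.Over (Spec (CommRingCat.of k))]
    [Algebra k K] (hφ : φ.Finite)
    (hφk : ∀ c : k, φ (Curv2.stalkMap k X (genericPoint X) c) = algebraMap k K c) :
    letI : (gen K φ).normalization.Over (Spec (CommRingCat.of k)) :=
      ⟨(gen K φ).fromNormalization ≫ (X ↘ Spec (CommRingCat.of k))⟩
    ∃ e : (gen K φ).normalization.presheaf.stalk (genericPoint (gen K φ).normalization) ≃+* K,
      ∀ c : k, e (Curv2.stalkMap k (gen K φ).normalization
        (genericPoint (gen K φ).normalization) c) = algebraMap k K c := by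
  letI : (gen K φ).normalization.Over (Spec (CommRingCat.of k)) :=
    ⟨(gen K φ).fromNormalization ≫ (X ↘ Spec (CommRingCat.of k))⟩
  obtain ⟨_, ⟨U, hU, rfl⟩, hxU, -⟩ := X.isBasis_affineOpens.exists_subset_of_mem_open
    (Set.mem_univ (genericPoint X)) isOpen_univ
  have hne : Nonempty U := ⟨⟨_, hxU⟩⟩
  obtain ⟨hmem, e, he⟩ := exists_functionField_equiv K φ hφ U hU hne
  refine ⟨e, fun c => ?_⟩
  rw [← hφk c]
  set s : Γ(X, ⊤) := Coh.toGlobal (X ↘ Spec (CommRingCat.of k)) c with hs
  have h1 : Curv2.stalkMap k X (genericPoint X) c =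
      X.presheaf.germ U (genericPoint X) (genericPoint_mem U hne)
        (X.presheaf.map (homOfLE (le_top : U ≤ ⊤)).op s) := by
    unfold Curv2.stalkMap
    rw [RingHom.comp_apply]
    exact (TopCat.Presheaf.germ_res_apply _ (homOfLE (le_top : U ≤ ⊤)) _ _ _).symm
  have h2 : Curv2.stalkMap k (gen K φ).normalization (genericPoint (gen K φ).normalization) c =
      (gen K φ).normalization.presheaf.germ _ _ hmem
        (((gen K φ).fromNormalization.app U).hom
          (X.presheaf.map (homOfLE (le_top : U ≤ ⊤)).op s)) := by
    unfold Curv2.stalkMap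
    rw [RingHom.comp_apply]
    have h3 : Coh.toGlobal ((gen K φ).normalization ↘ Spec (CommRingCat.of k)) c =
        ((gen K φ).fromNormalization.appTop).hom s := by
      show (((gen K φ).fromNormalization ≫ (X ↘ Spec (CommRingCat.of k))).appTop).hom _ = _
      rw [Scheme.Hom.comp_appTop]
      rfl
    refine (congrArg (fun z => ((gen K φ).normalization.presheaf.germ ⊤
      (genericPoint (gen K φ).normalization) trivial).hom z) h3).trans ?_
    have h4 := congrArg (fun f => f.hom s)
      ((gen K φ).fromNormalization.naturality (homOfLE (le_top : U ≤ ⊤)).op)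
    simp only [CommRingCat.hom_comp, RingHom.comp_apply] at h4
    refine Eq.trans ?_ (congrArg (fun z => ((gen K φ).normalization.presheaf.germ _
      (genericPoint (gen K φ).normalization) hmem).hom z) h4.symm)
    exact (TopCat.Presheaf.germ_res_apply _ _ _ _ _).symm
  rw [h1, h2]
  exact he _

end Groth.Agent.Helper5.NormFF
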