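import Mathlib
import Groth.Prelude.Def_Found
import Groth.Prelude.Def_Pi1
import Groth.Agent.Helper5.NormFF

set_option autoImplicit false
set_option linter.unusedSectionVars false
set_option linter.style.haveILetI false
universe u

open AlgebraicGeometry CategoryTheory Opposite

namespace Groth.Agent.Helper5.NormInt

open Groth.Agent.Helper5.NormGen

variable {X : Scheme.{u}} [IsIntegral X] (K : Type u) [Field K] (φ : X.functionField →+* K)
  [QuasiCompact (gen K φ)] [QuasiSeparated (gen K φ)]

theorem gen_apply (y : Spec (CommRingCat.of K)) : (gen K φ) y = genericPoint X := by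
  have h1 : (gen K φ) y ∈ Set.range (X.fromSpecStalk (genericPoint X)) := by
    refine ⟨(Spec.map (CommRingCat.ofHom φ)) y, ?_⟩
    simp [gen]
  rw [Scheme.range_fromSpecStalk] at h1
  have h2 : genericPoint X ⤳ (gen K φ) y := (genericPoint_spec X).specializes (Set.mem_univ _)
  exact (h1.antisymm h2).eq

theorem fromNormalization_surjective : Function.Surjective (gen K φ).fromNormalization := by
  have hcl : IsClosed (Set.range (gen K φ).fromNormalization) :=
    (gen K φ).fromNormalization.isClosedMap.isClosed_range
  have hξ : genericPoint X ∈ Set.range (gen K φ).fromNormalization := by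
    obtain ⟨y⟩ : Nonempty (Spec (CommRingCat.of K)) := inferInstance
    refine ⟨(gen K φ).toNormalization y, ?_⟩
    rw [← Scheme.Hom.comp_apply, (gen K φ).toNormalization_fromNormalization]
    exact gen_apply K φ y
  have h1 : closure ({genericPoint X} : Set X) ⊆ Set.range (gen K φ).fromNormalization :=
    hcl.closure_subset_iff.2 (Set.singleton_subset_iff.2 hξ)
  rw [(genericPoint_spec X).def] at h1
  intro x
  exact h1 (Set.mem_univ x)

theorem fromNormalization_genericPoint :
    (gen K φ).fromNormalization (genericPoint (gen K φ).normalization) = genericPoint X := by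
  have h2 : genericPoint X ⤳ (gen K φ).fromNormalization (genericPoint (gen K φ).normalization) :=
    (genericPoint_spec X).specializes (Set.mem_univ _)
  have h1 : (gen K φ).fromNormalization (genericPoint (gen K φ).normalization) ⤳
      genericPoint X := by
    rw [specializes_iff_mem_closure]
    have h3 := image_closure_subset_closure_image (gen K φ).fromNormalization.continuous
      (s := {genericPoint (gen K φ).normalization})
    rw [(genericPoint_spec (gen K φ).normalization).def, Set.image_univ,
      (fromNormalization_surjective K φ).range_eq, Set.image_singleton] at h3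
    exact h3 (Set.mem_univ _)
  exact (h1.antisymm h2).eq

/-- the function field of the normalization, compatibly with the local ring of the image of the
generic point -/
theorem exists_equiv_stalkMap (hφ : φ.Finite) :
    ∃ e : (gen K φ).normalization.presheaf.stalk (genericPoint (gen K φ).normalization) ≃+* K,
      ∀ (h : genericPoint X ⤳ (gen K φ).fromNormalization (genericPoint (gen K φ).normalization))
        (r : X.presheaf.stalk
          ((gen K φ).fromNormalization (genericPoint (gen K φ).normalization))),
        e (((gen K φ).fromNormalization.stalkMap (genericPoint (gen K φ).normalization)).hom r) =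
          φ ((X.presheaf.stalkSpecializes h).hom r) := by
  obtain ⟨_, ⟨U, hU, rfl⟩, hxU, -⟩ := X.isBasis_affineOpens.exists_subset_of_mem_open
    (Set.mem_univ ((gen K φ).fromNormalization (genericPoint (gen K φ).normalization)))
    isOpen_univ
  have hne : Nonempty U := ⟨⟨_, hxU⟩⟩
  obtain ⟨hmem, e, he⟩ := Groth.Agent.Helper5.NormFF.exists_functionField_equiv K φ hφ U hU hne
  refine ⟨e, fun h => ?_⟩
  letI : Algebra Γ(X, U) (X.presheaf.stalk
      ((gen K φ).fromNormalization (genericPoint (gen K φ).normalization))) :=
    X.presheaf.algebra_section_stalk
      ⟨(gen K φ).fromNormalization (genericPoint (gen K φ).normalization), hxU⟩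
  haveI : IsLocalization.AtPrime (X.presheaf.stalk
      ((gen K φ).fromNormalization (genericPoint (gen K φ).normalization)))
      (hU.primeIdealOf ⟨(gen K φ).fromNormalization
        (genericPoint (gen K φ).normalization), hxU⟩).asIdeal :=
    hU.isLocalization_stalk ⟨_, hxU⟩
  have key : (e : _ →+* K).comp
      ((gen K φ).fromNormalization.stalkMap (genericPoint (gen K φ).normalization)).hom =
      φ.comp (X.presheaf.stalkSpecializes h).hom := by
    apply IsLocalization.ringHom_ext (hU.primeIdealOf ⟨(gen K φ).fromNormalization
        (genericPoint (gen K φ).normalization), hxU⟩).asIdeal.primeCompl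
    ext a
    show e (((gen K φ).fromNormalization.stalkMap (genericPoint (gen K φ).normalization)).hom
        ((X.presheaf.germ U _ hxU).hom a)) =
      φ ((X.presheaf.stalkSpecializes h).hom ((X.presheaf.germ U _ hxU).hom a))
    rw [TopCat.Presheaf.germ_stalkSpecializes_apply]
    have h1 := Scheme.Hom.germ_stalkMap_apply (gen K φ).fromNormalization U
      (genericPoint (gen K φ).normalization) hxU a
    refine (congrArg e h1).trans ?_
    exact he a
  intro r
  exact congrArg (fun f => f r) key

theorem residueFieldMap_bijective (hφ : φ.Finite) (hbij : Function.Bijective φ) :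
    Function.Bijective ((gen K φ).fromNormalization.residueFieldMap
      (genericPoint (gen K φ).normalization)).hom := by
  refine ⟨RingHom.injective _, ?_⟩
  intro z
  obtain ⟨e, he⟩ := exists_equiv_stalkMap K φ hφ
  obtain ⟨s, rfl⟩ := Scheme.residue_surjective (gen K φ).normalization
    (genericPoint (gen K φ).normalization) z
  obtain ⟨w, hw⟩ := hbij.2 (e s)
  have h : genericPoint X ⤳
      (gen K φ).fromNormalization (genericPoint (gen K φ).normalization) :=
    (genericPoint_spec X).specializes (Set.mem_univ _)
  have h' : (gen K φ).fromNormalization (genericPoint (gen K φ).normalization) ⤳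
      genericPoint X := by
    rw [fromNormalization_genericPoint]
  let r := (X.presheaf.stalkSpecializes h').hom w
  have hr : (X.presheaf.stalkSpecializes h).hom r = w := by
    show (X.presheaf.stalkSpecializes h).hom ((X.presheaf.stalkSpecializes h').hom w) = w
    rw [← CommRingCat.comp_apply, TopCat.Presheaf.stalkSpecializes_comp]
    have : X.presheaf.stalkSpecializes (h.trans h') = 𝟙 _ :=
      TopCat.Presheaf.stalkSpecializes_refl _ _
    rw [this]
    rfl
  have h1 := he h r
  rw [hr, hw] at h1
  have h2 := e.injective h1
  refine ⟨(X.residue _).hom r, ?_⟩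
  have h3 := congrArg (fun f => f.hom r)
    (Scheme.residue_residueFieldMap (gen K φ).fromNormalization
      (genericPoint (gen K φ).normalization))
  simp only [CommRingCat.hom_comp, RingHom.comp_apply] at h3
  rw [h3, h2]

omit [QuasiCompact (gen K φ)] [QuasiSeparated (gen K φ)] in
theorem s2351_aux (g : Spec (CommRingCat.of K) ⟶ X) (hg : g = gen K φ) [QuasiCompact g]
    [QuasiSeparated g] (hφ : φ.Finite) (hbij : Function.Bijective φ) :
    ∃ (_ : IsIntegral g.normalization), Pi1.IsNormalScheme g.normalization ∧
      Surjective g.fromNormalization ∧
      ∃ _ : g.fromNormalization.base (genericPoint g.normalization) = genericPoint X,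
        Function.Bijective (g.fromNormalization.residueFieldMap
          (genericPoint g.normalization)).hom := by
  subst hg
  exact ⟨inferInstance, Groth.Agent.Helper5.NormCurve.isNormalScheme K φ hφ,
    ⟨fromNormalization_surjective K φ⟩, fromNormalization_genericPoint K φ,
    residueFieldMap_bijective K φ hφ hbij⟩

end Groth.Agent.Helper5.NormInt
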