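import Mathlib
import Groth.Prelude.Def_Found

set_option autoImplicit false
set_option linter.unusedSectionVars false
set_option linter.style.haveILetI false
universe u

open AlgebraicGeometry CategoryTheory Opposite

namespace Groth.Agent.Helper5.ResFin

/-- residue field extension is finite as soon as the quotient by the (maximal) prime is a finite
module over the coordinate ring downstairs -/
theorem finite_residueField_of_finite_quot {X Y : Scheme.{u}} (f : Y ⟶ X) {U : X.Opens}
    (hV : IsAffineOpen (f ⁻¹ᵁ U)) (y : Y) (hy : y ∈ f ⁻¹ᵁ U)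
    (hmax : (hV.primeIdealOf ⟨y, hy⟩).asIdeal.IsMaximal)
    (hfin : letI := (f.app U).hom.toAlgebra
      Module.Finite Γ(X, U) (Γ(Y, f ⁻¹ᵁ U) ⧸ (hV.primeIdealOf ⟨y, hy⟩).asIdeal)) :
    letI := (f.residueFieldMap y).hom.toAlgebra
    Module.Finite (X.residueField (f y)) (Y.residueField y) := by
  letI := (f.app U).hom.toAlgebra
  letI : Algebra Γ(Y, f ⁻¹ᵁ U) (Y.presheaf.stalk y) := Y.presheaf.algebra_section_stalk ⟨y, hy⟩
  haveI : IsLocalization.AtPrime (Y.presheaf.stalk y) (hV.primeIdealOf ⟨y, hy⟩).asIdeal :=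
    hV.isLocalization_stalk ⟨y, hy⟩
  letI a1 : Algebra (X.residueField (f y)) (Y.residueField y) :=
    (f.residueFieldMap y).hom.toAlgebra
  have hfy : f y ∈ U := hy
  letI a2 : Algebra Γ(X, U) (X.residueField (f y)) :=
    (X.presheaf.germ U (f y) hfy ≫ X.residue (f y)).hom.toAlgebra
  letI a3 : Algebra Γ(X, U) (Y.residueField y) :=
    ((X.presheaf.germ U (f y) hfy ≫ X.residue (f y)) ≫ f.residueFieldMap y).hom.toAlgebra
  haveI : IsScalarTower Γ(X, U) (X.residueField (f y)) (Y.residueField y) :=
    IsScalarTower.of_algebraMap_eq (fun a => rfl)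
  let e : (Γ(Y, f ⁻¹ᵁ U) ⧸ (hV.primeIdealOf ⟨y, hy⟩).asIdeal) ≃+* (Y.residueField y) :=
    IsLocalization.AtPrime.equivQuotMaximalIdeal (hV.primeIdealOf ⟨y, hy⟩).asIdeal
      (Y.presheaf.stalk y)
  let E : (Γ(Y, f ⁻¹ᵁ U) ⧸ (hV.primeIdealOf ⟨y, hy⟩).asIdeal) →ₐ[Γ(X, U)] (Y.residueField y) :=
    { toRingHom := e.toRingHom
      commutes' := by
        intro a
        show (Y.residue y).hom ((Y.presheaf.germ (f ⁻¹ᵁ U) y hy).hom ((f.app U).hom a)) =
          (f.residueFieldMap y).hom ((X.residue (f y)).hom ((X.presheaf.germ U (f y) hfy).hom a))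
        have h1 := Scheme.Hom.germ_stalkMap_apply f U y hfy a
        have h3 := congrArg (fun g => g.hom ((X.presheaf.germ U (f y) hfy).hom a))
          (Scheme.residue_residueFieldMap f y)
        simp only [CommRingCat.hom_comp, RingHom.comp_apply] at h3
        rw [h3]
        exact congrArg (Y.residue y).hom h1.symm }
  have hsurj : Function.Surjective E.toLinearMap := e.surjective
  haveI : Module.Finite Γ(X, U) (Y.residueField y) := Module.Finite.of_surjective _ hsurj
  exact Module.Finite.of_restrictScalars_finite Γ(X, U) (X.residueField (f y)) (Y.residueField y)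

end Groth.Agent.Helper5.ResFin
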