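import Mathlib
import Groth.Prelude.Def_Found
import Groth.Agent.Helper5.NormInt
import Groth.Agent.Helper5.KA4
import Groth.Agent.Helper5.DimIneq2
import Groth.Agent.Helper5.ResFin

set_option autoImplicit false
set_option linter.unusedSectionVars false
set_option linter.style.haveILetI false
universe u

open AlgebraicGeometry CategoryTheory Opposite

namespace Groth.Agent.Helper5.NormKA

open Groth.Agent.Helper5.NormGen

theorem primeIdealOf_fromSpec {X : Scheme.{u}} {W : X.Opens} (hW : IsAffineOpen W)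
    (Q : PrimeSpectrum Γ(X, W)) :
    ∃ h : hW.fromSpec Q ∈ W, hW.primeIdealOf ⟨hW.fromSpec Q, h⟩ = Q := by
  have h : hW.fromSpec Q ∈ W := by
    have : hW.fromSpec Q ∈ Set.range hW.fromSpec := Set.mem_range_self _
    rw [hW.range_fromSpec] at this
    exact this
  exact ⟨h, hW.fromSpec.isOpenEmbedding.injective (hW.fromSpec_primeIdealOf ⟨_, h⟩)⟩

/-- coordinate rings of affine opens, stalkwise criterion for dimension at most one -/
theorem krullDimLE_one_of_stalks {X : Scheme.{u}} (U : X.Opens) (hU : IsAffineOpen U)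
    (h : ∀ x ∈ U, ringKrullDim (X.presheaf.stalk x) ≤ 1) : Ring.KrullDimLE 1 Γ(X, U) := by
  rw [Ring.krullDimLE_iff, ringKrullDim_le_iff_height_le]
  intro p hp
  obtain ⟨hmem, hQ⟩ := primeIdealOf_fromSpec hU ⟨p, hp⟩
  letI : Algebra Γ(X, U) (X.presheaf.stalk (hU.fromSpec ⟨p, hp⟩)) :=
    X.presheaf.algebra_section_stalk ⟨_, hmem⟩
  haveI : IsLocalization.AtPrime (X.presheaf.stalk (hU.fromSpec ⟨p, hp⟩))
      (hU.primeIdealOf ⟨hU.fromSpec ⟨p, hp⟩, hmem⟩).asIdeal := hU.isLocalization_stalk ⟨_, hmem⟩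
  have h1 := IsLocalization.AtPrime.ringKrullDim_eq_height
    (hU.primeIdealOf ⟨hU.fromSpec ⟨p, hp⟩, hmem⟩).asIdeal
    (X.presheaf.stalk (hU.fromSpec ⟨p, hp⟩))
  rw [hQ] at h1
  have h2 := h _ hmem
  rw [h1] at h2
  exact h2

/-- coordinate rings of affine opens of a scheme of dimension at most one -/
theorem krullDimLE_one_of_dim {X : Scheme.{u}} (hdim : topologicalKrullDim X ≤ 1) (U : X.Opens)
    (hU : IsAffineOpen U) : Ring.KrullDimLE 1 Γ(X, U) :=
  krullDimLE_one_of_stalks U hU (fun x _ =>
    (Groth.Agent.Helper5.DimIneq.ringKrullDim_stalk_le_dim X x).trans hdim)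

/-- integrally closed coordinate rings from integrally closed stalks -/
theorem isIntegrallyClosed_of_stalks {X : Scheme.{u}} (U : X.Opens) (hU : IsAffineOpen U)
    [IsDomain Γ(X, U)]
    (h : ∀ x ∈ U, IsIntegrallyClosed (X.presheaf.stalk x)) : IsIntegrallyClosed Γ(X, U) := by
  apply IsIntegrallyClosed.of_localization_maximal
  intro p _ hp
  obtain ⟨hmem, hQ⟩ := primeIdealOf_fromSpec hU ⟨p, hp.isPrime⟩
  letI : Algebra Γ(X, U) (X.presheaf.stalk (hU.fromSpec ⟨p, hp.isPrime⟩)) :=
    X.presheaf.algebra_section_stalk ⟨_, hmem⟩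
  haveI h1 : IsLocalization.AtPrime (X.presheaf.stalk (hU.fromSpec ⟨p, hp.isPrime⟩))
      (hU.primeIdealOf ⟨hU.fromSpec ⟨p, hp.isPrime⟩, hmem⟩).asIdeal :=
    hU.isLocalization_stalk ⟨_, hmem⟩
  rw [hQ] at h1
  haveI : IsLocalization.AtPrime (X.presheaf.stalk (hU.fromSpec ⟨p, hp.isPrime⟩)) p := h1
  haveI := h _ hmem
  exact IsIntegrallyClosed.of_equiv
    (IsLocalization.algEquiv p.primeCompl (X.presheaf.stalk (hU.fromSpec ⟨p, hp.isPrime⟩))
      (Localization.AtPrime p)).toRingEquiv

variable {X : Scheme.{u}} [IsIntegral X] (K : Type u) [Field K] (φ : X.functionField →+* K)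
  [QuasiCompact (gen K φ)] [QuasiSeparated (gen K φ)]

/-- the embedding of the sections of the normalization over the preimage of `U` into `K` -/
noncomputable def secToK (U : X.Opens) (hU : IsAffineOpen U) (hne : Nonempty U) :
    Γ((gen K φ).normalization, (gen K φ).fromNormalization ⁻¹ᵁ U) →+* K :=
  letI algK : Algebra Γ(X, U) K := (φ.comp (X.germToFunctionField U).hom).toAlgebra
  ((integralClosure Γ(X, U) K).val : integralClosure Γ(X, U) K →+* K).comp
    (Classical.choose (Groth.Agent.Helper5.NormFF.exists_secEquiv K φ U hU hne)).toRingHom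

theorem secToK_injective (U : X.Opens) (hU : IsAffineOpen U) (hne : Nonempty U) :
    Function.Injective (secToK K φ U hU hne) := by
  letI algK : Algebra Γ(X, U) K := (φ.comp (X.germToFunctionField U).hom).toAlgebra
  unfold secToK
  rw [RingHom.coe_comp]
  exact Subtype.val_injective.comp
    (Classical.choose (Groth.Agent.Helper5.NormFF.exists_secEquiv K φ U hU hne)).injective

theorem secToK_app (U : X.Opens) (hU : IsAffineOpen U) (hne : Nonempty U) (a : Γ(X, U)) :
    secToK K φ U hU hne (((gen K φ).fromNormalization.app U).hom a) =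
      φ (X.germToFunctionField U a) := by
  letI algK : Algebra Γ(X, U) K := (φ.comp (X.germToFunctionField U).hom).toAlgebra
  unfold secToK
  rw [RingHom.comp_apply]
  have h := Classical.choose_spec (Groth.Agent.Helper5.NormFF.exists_secEquiv K φ U hU hne) a
  refine (congrArg (fun z : integralClosure Γ(X, U) K => (z : K)) h).trans ?_
  rfl

/-- Krull–Akizuki for the sections of the normalization -/
theorem sections_KA (hφ : φ.Finite) (U : X.Opens) (hU : IsAffineOpen U) (hne : Nonempty U)
    [IsNoetherianRing Γ(X, U)] [Ring.KrullDimLE 1 Γ(X, U)] :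
    letI := ((gen K φ).fromNormalization.app U).hom.toAlgebra
    IsNoetherianRing Γ((gen K φ).normalization, (gen K φ).fromNormalization ⁻¹ᵁ U) ∧
    (∀ q : Ideal Γ((gen K φ).normalization, (gen K φ).fromNormalization ⁻¹ᵁ U),
      q.IsPrime → q ≠ ⊥ → q.IsMaximal) ∧
    (∀ a : Γ(X, U), a ≠ 0 →
      ∀ J : Ideal Γ((gen K φ).normalization, (gen K φ).fromNormalization ⁻¹ᵁ U),
        ((gen K φ).fromNormalization.app U).hom a ∈ J →
        Module.length Γ(X, U) (Γ((gen K φ).normalization, (gen K φ).fromNormalization ⁻¹ᵁ U) ⧸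
          J.restrictScalars Γ(X, U)) ≠ ⊤) := by
  letI := ((gen K φ).fromNormalization.app U).hom.toAlgebra
  haveI : IsDomain Γ(X, U) := @IsIntegral.component_integral X _ U hne
  letI algK : Algebra Γ(X, U) K := (φ.comp (X.germToFunctionField U).hom).toAlgebra
  letI : Algebra X.functionField K := φ.toAlgebra
  haveI : IsScalarTower Γ(X, U) X.functionField K :=
    IsScalarTower.of_algebraMap_eq (fun x => rfl)
  haveI : IsFractionRing Γ(X, U) X.functionField :=
    functionField_isFractionRing_of_isAffineOpen X U hU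
  haveI : FiniteDimensional X.functionField K := hφ
  letI : Algebra Γ((gen K φ).normalization, (gen K φ).fromNormalization ⁻¹ᵁ U) K :=
    (secToK K φ U hU hne).toAlgebra
  haveI : IsScalarTower Γ(X, U)
      Γ((gen K φ).normalization, (gen K φ).fromNormalization ⁻¹ᵁ U) K :=
    IsScalarTower.of_algebraMap_eq (fun a => (secToK_app K φ U hU hne a).symm)
  have hinj : Function.Injective (algebraMap
      Γ((gen K φ).normalization, (gen K φ).fromNormalization ⁻¹ᵁ U) K) :=
    secToK_injective K φ U hU hne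
  refine ⟨?_, ?_, ?_⟩
  · exact Groth.Agent.Helper5.KA.isNoetherianRing_of_between Γ(X, U) X.functionField K _ hinj
  · intro q hq hq0
    exact Groth.Agent.Helper5.KA.isMaximal_of_ne_bot Γ(X, U) X.functionField K _ hinj q hq0
  · intro a ha J hJ
    exact Groth.Agent.Helper5.KA.length_quot_span_ne_top Γ(X, U) X.functionField K _ hinj a ha
      J hJ

section dimOne

variable [IsLocallyNoetherian X]

/-- the sections over `π⁻¹U` form a Noetherian ring of dimension at most one -/
theorem sections_noeth_dim (hφ : φ.Finite) (hdim : topologicalKrullDim X ≤ 1) (U : X.Opens)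
    (hU : IsAffineOpen U) :
    IsNoetherianRing Γ((gen K φ).normalization, (gen K φ).fromNormalization ⁻¹ᵁ U) ∧
      ∀ q : Ideal Γ((gen K φ).normalization, (gen K φ).fromNormalization ⁻¹ᵁ U),
        q.IsPrime → q ≠ ⊥ → q.IsMaximal := by
  by_cases hne : Nonempty U
  · haveI : IsNoetherianRing Γ(X, U) := IsLocallyNoetherian.component_noetherian ⟨U, hU⟩
    haveI : Ring.KrullDimLE 1 Γ(X, U) := krullDimLE_one_of_dim hdim U hU
    obtain ⟨h1, h2, -⟩ := sections_KA K φ hφ U hU hne
    exact ⟨h1, h2⟩
  · have hU0 : U = ⊥ := by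
      ext x
      simp only [SetLike.mem_coe]
      constructor
      · intro hx
        exact (hne ⟨⟨x, hx⟩⟩).elim
      · intro hx
        exact hx.elim
    subst hU0
    haveI : Subsingleton Γ((gen K φ).normalization, (gen K φ).fromNormalization ⁻¹ᵁ ⊥) :=
      inferInstanceAs (Subsingleton Γ((gen K φ).normalization, ⊥))
    refine ⟨inferInstance, fun q hq => ?_⟩
    exact absurd (Subsingleton.elim q ⊤) hq.ne_top

theorem isLocallyNoetherian_normalization (hφ : φ.Finite) (hdim : topologicalKrullDim X ≤ 1) :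
    IsLocallyNoetherian (gen K φ).normalization := by
  refine isLocallyNoetherian_of_affine_cover
    (S := fun U : X.affineOpens => ⟨(gen K φ).fromNormalization ⁻¹ᵁ U.1, U.2.preimage _⟩) ?_ ?_
  · have h1 := iSup_affineOpens_eq_top X
    have h2 := congrArg (fun V : X.Opens => (gen K φ).fromNormalization ⁻¹ᵁ V) h1
    simp only [Scheme.Hom.preimage_iSup, Scheme.Hom.preimage_top] at h2
    exact h2
  · intro U
    exact (sections_noeth_dim K φ hφ hdim U.1 U.2).1

theorem stalk_dim_le_one (hφ : φ.Finite) (hdim : topologicalKrullDim X ≤ 1)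
    (x' : (gen K φ).normalization) :
    ringKrullDim ((gen K φ).normalization.presheaf.stalk x') ≤ 1 := by
  obtain ⟨_, ⟨U, hU, rfl⟩, hxU, -⟩ := X.isBasis_affineOpens.exists_subset_of_mem_open
    (Set.mem_univ ((gen K φ).fromNormalization x')) isOpen_univ
  have hne : Nonempty U := ⟨⟨_, hxU⟩⟩
  have hV : IsAffineOpen ((gen K φ).fromNormalization ⁻¹ᵁ U) := hU.preimage _
  have hx'V : x' ∈ (gen K φ).fromNormalization ⁻¹ᵁ U := hxU
  obtain ⟨hdom, -, -⟩ := Groth.Agent.Helper5.NormCurve.sections_props K φ hφ U hU hne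
  obtain ⟨-, hmax⟩ := sections_noeth_dim K φ hφ hdim U hU
  haveI : Ring.KrullDimLE 1 Γ((gen K φ).normalization, (gen K φ).fromNormalization ⁻¹ᵁ U) :=
    Ring.krullDimLE_one_iff_of_noZeroDivisors.2 (fun q hq0 hq => hmax q hq hq0)
  letI : Algebra Γ((gen K φ).normalization, (gen K φ).fromNormalization ⁻¹ᵁ U)
      ((gen K φ).normalization.presheaf.stalk x') :=
    (gen K φ).normalization.presheaf.algebra_section_stalk ⟨x', hx'V⟩
  haveI : IsLocalization.AtPrime ((gen K φ).normalization.presheaf.stalk x')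
      (hV.primeIdealOf ⟨x', hx'V⟩).asIdeal := hV.isLocalization_stalk ⟨x', hx'V⟩
  rw [IsLocalization.AtPrime.ringKrullDim_eq_height (hV.primeIdealOf ⟨x', hx'V⟩).asIdeal]
  have h1 : ringKrullDim Γ((gen K φ).normalization, (gen K φ).fromNormalization ⁻¹ᵁ U) ≤ 1 :=
    Ring.krullDimLE_iff.1 inferInstance
  exact Ideal.height_le_ringKrullDim_of_isPrime.trans h1

theorem isDedekindDomain_sections (hφ : φ.Finite) (hdim : topologicalKrullDim X ≤ 1)
    (W : (gen K φ).normalization.Opens) (hW : IsAffineOpen W) (hne : Nonempty W) :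
    IsDedekindDomain Γ((gen K φ).normalization, W) := by
  haveI := isLocallyNoetherian_normalization K φ hφ hdim
  haveI : IsDomain Γ((gen K φ).normalization, W) :=
    @IsIntegral.component_integral _ _ W hne
  haveI : IsNoetherianRing Γ((gen K φ).normalization, W) :=
    IsLocallyNoetherian.component_noetherian ⟨W, hW⟩
  haveI : Ring.KrullDimLE 1 Γ((gen K φ).normalization, W) :=
    krullDimLE_one_of_stalks W hW (fun x' _ => stalk_dim_le_one K φ hφ hdim x')
  haveI : IsIntegrallyClosed Γ((gen K φ).normalization, W) :=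
    isIntegrallyClosed_of_stalks W hW
      (fun x' _ => (Groth.Agent.Helper5.NormCurve.isNormalScheme K φ hφ x').2)
  haveI : Ring.DimensionLEOne Γ((gen K φ).normalization, W) :=
    ⟨fun {p} hp0 hp => Ring.krullDimLE_one_iff_of_noZeroDivisors.1 inferInstance p hp0 hp⟩
  exact { }

/-- the primes of `Γ(X', π⁻¹U)` over a given prime of `Γ(X, U)` are finite in number -/
theorem finite_primes_over (hφ : φ.Finite) (hdim : topologicalKrullDim X ≤ 1) (U : X.Opens)
    (hU : IsAffineOpen U) (hne : Nonempty U) (p : PrimeSpectrum Γ(X, U)) :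
    {q : PrimeSpectrum Γ((gen K φ).normalization, (gen K φ).fromNormalization ⁻¹ᵁ U) |
      Spec.map ((gen K φ).fromNormalization.app U) q = p}.Finite := by
  letI := ((gen K φ).fromNormalization.app U).hom.toAlgebra
  haveI : IsNoetherianRing Γ(X, U) := IsLocallyNoetherian.component_noetherian ⟨U, hU⟩
  haveI : Ring.KrullDimLE 1 Γ(X, U) := krullDimLE_one_of_dim hdim U hU
  haveI : IsDomain Γ(X, U) := @IsIntegral.component_integral X _ U hne
  obtain ⟨hdom, -, hinj⟩ := Groth.Agent.Helper5.NormCurve.sections_props K φ hφ U hU hne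
  obtain ⟨hN, hmax, hlen⟩ := sections_KA K φ hφ U hU hne
  haveI : Algebra.IsIntegral Γ(X, U)
      Γ((gen K φ).normalization, (gen K φ).fromNormalization ⁻¹ᵁ U) :=
    ⟨IsIntegralHom.isIntegral_app (gen K φ).fromNormalization U hU⟩
  by_cases hp : p.asIdeal = ⊥
  · refine Set.Subsingleton.finite ?_
    intro q hq q' hq'
    have h1 : q.asIdeal.comap (algebraMap Γ(X, U) _) = ⊥ := by
      rw [← hp, ← hq]; rfl
    have h2 : q'.asIdeal.comap (algebraMap Γ(X, U) _) = ⊥ := by
      rw [← hp, ← hq']; rfl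
    apply PrimeSpectrum.ext
    rw [Ideal.eq_bot_of_comap_eq_bot h1, Ideal.eq_bot_of_comap_eq_bot h2]
  · obtain ⟨a, hap, ha0⟩ := Submodule.exists_mem_ne_zero_of_ne_bot hp
    set J : Ideal Γ((gen K φ).normalization, (gen K φ).fromNormalization ⁻¹ᵁ U) :=
      Ideal.span {((gen K φ).fromNormalization.app U).hom a} with hJ
    have hfl := hlen a ha0 J (Ideal.subset_span rfl)
    rw [Module.length_ne_top_iff, isFiniteLength_iff_isNoetherian_isArtinian] at hfl
    haveI hA0 : IsArtinian Γ(X, U)
        (Γ((gen K φ).normalization, (gen K φ).fromNormalization ⁻¹ᵁ U) ⧸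
          J.restrictScalars Γ(X, U)) := hfl.2
    have hA1 : IsArtinian Γ(X, U)
        (Γ((gen K φ).normalization, (gen K φ).fromNormalization ⁻¹ᵁ U) ⧸ J) :=
      isArtinian_of_linearEquiv (Submodule.Quotient.restrictScalarsEquiv Γ(X, U) J)
    haveI : IsArtinianRing
        (Γ((gen K φ).normalization, (gen K φ).fromNormalization ⁻¹ᵁ U) ⧸ J) :=
      isArtinian_of_tower Γ(X, U) hA1
    have hfin : (Set.range (PrimeSpectrum.comap (Ideal.Quotient.mk J))).Finite :=
      Set.finite_range _
    refine hfin.subset ?_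
    intro q hq
    rw [range_comap_of_surjective _ _ Ideal.Quotient.mk_surjective,
      Ideal.mk_ker, PrimeSpectrum.mem_zeroLocus, hJ]
    rw [Set.mem_setOf_eq] at hq
    intro z hz
    have hz' : z ∈ Ideal.span {((gen K φ).fromNormalization.app U).hom a} := hz
    rw [Ideal.mem_span_singleton] at hz'
    have h3 : ((gen K φ).fromNormalization.app U).hom a ∈ q.asIdeal := by
      have : a ∈ (Spec.map ((gen K φ).fromNormalization.app U) q).asIdeal := by
        rw [hq]; exact hap
      exact this
    exact Ideal.mem_of_dvd _ hz' h3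

theorem finite_fibre (hφ : φ.Finite) (hdim : topologicalKrullDim X ≤ 1) (x : X) :
    Finite {x' : (gen K φ).normalization // (gen K φ).fromNormalization.base x' = x} := by
  obtain ⟨_, ⟨U, hU, rfl⟩, hxU, -⟩ := X.isBasis_affineOpens.exists_subset_of_mem_open
    (Set.mem_univ x) isOpen_univ
  have hne : Nonempty U := ⟨⟨_, hxU⟩⟩
  have hV : IsAffineOpen ((gen K φ).fromNormalization ⁻¹ᵁ U) := hU.preimage _
  have hfin := finite_primes_over K φ hφ hdim U hU hne (hU.primeIdealOf ⟨x, hxU⟩)
  haveI := hfin.to_subtype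
  have hmem : ∀ x' : {x' : (gen K φ).normalization //
      (gen K φ).fromNormalization.base x' = x}, x'.1 ∈ (gen K φ).fromNormalization ⁻¹ᵁ U := by
    intro x'
    show (gen K φ).fromNormalization.base x'.1 ∈ U
    rw [x'.2]
    exact hxU
  let Ψ : {x' : (gen K φ).normalization // (gen K φ).fromNormalization.base x' = x} →
      {q : PrimeSpectrum Γ((gen K φ).normalization, (gen K φ).fromNormalization ⁻¹ᵁ U) |
        Spec.map ((gen K φ).fromNormalization.app U) q = hU.primeIdealOf ⟨x, hxU⟩} :=
    fun x' => ⟨hV.primeIdealOf ⟨x'.1, hmem x'⟩, by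
      have h1 := Groth.Agent.Helper5.NormCurve.primeIdealOf_comap (gen K φ).fromNormalization hU
        hV le_rfl x'.1 (hmem x')
      rw [Scheme.Hom.appLE_eq_app] at h1
      rw [Set.mem_setOf_eq, h1]
      congr 1
      exact Subtype.ext x'.2⟩
  refine Finite.of_injective Ψ ?_
  intro x' y' h
  have h1 : hV.primeIdealOf ⟨x'.1, hmem x'⟩ = hV.primeIdealOf ⟨y'.1, hmem y'⟩ :=
    congrArg Subtype.val h
  have h2 := congrArg hV.fromSpec h1
  rw [hV.fromSpec_primeIdealOf, hV.fromSpec_primeIdealOf] at h2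
  exact Subtype.ext h2

omit [IsIntegral X] [IsLocallyNoetherian X] in
theorem eq_genericPoint_of_primeIdealOf_eq_bot {Y : Scheme.{u}} [IsIntegral Y] {V : Y.Opens}
    (hV : IsAffineOpen V) (y : Y) (hy : y ∈ V)
    (h : (hV.primeIdealOf ⟨y, hy⟩).asIdeal = ⊥) : y = genericPoint Y := by
  have hξ : genericPoint Y ∈ V := genericPoint_mem V ⟨⟨y, hy⟩⟩
  have h1 : genericPoint Y ⤳ y := (genericPoint_spec Y).specializes (Set.mem_univ _)
  have h2 : hV.primeIdealOf ⟨y, hy⟩ ⤳ hV.primeIdealOf ⟨genericPoint Y, hξ⟩ := by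
    rw [← PrimeSpectrum.le_iff_specializes]
    show (hV.primeIdealOf ⟨y, hy⟩).asIdeal ≤ _
    rw [h]
    exact bot_le
  have h3 := h2.map hV.fromSpec.continuous
  rw [hV.fromSpec_primeIdealOf, hV.fromSpec_primeIdealOf] at h3
  exact (h3.antisymm h1).eq

theorem finite_residueField (hφ : φ.Finite) (hbij : Function.Bijective φ)
    (hdim : topologicalKrullDim X ≤ 1) (x' : (gen K φ).normalization) :
    letI := ((gen K φ).fromNormalization.residueFieldMap x').hom.toAlgebra
    Module.Finite (X.residueField ((gen K φ).fromNormalization x'))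
      ((gen K φ).normalization.residueField x') := by
  obtain ⟨_, ⟨U, hU, rfl⟩, hxU, -⟩ := X.isBasis_affineOpens.exists_subset_of_mem_open
    (Set.mem_univ ((gen K φ).fromNormalization x')) isOpen_univ
  have hne : Nonempty U := ⟨⟨_, hxU⟩⟩
  have hV : IsAffineOpen ((gen K φ).fromNormalization ⁻¹ᵁ U) := hU.preimage _
  have hx'V : x' ∈ (gen K φ).fromNormalization ⁻¹ᵁ U := hxU
  by_cases hq : (hV.primeIdealOf ⟨x', hx'V⟩).asIdeal = ⊥
  · have hx' := eq_genericPoint_of_primeIdealOf_eq_bot hV x' hx'V hq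
    subst hx'
    letI := ((gen K φ).fromNormalization.residueFieldMap
      (genericPoint (gen K φ).normalization)).hom.toAlgebra
    have hb := Groth.Agent.Helper5.NormInt.residueFieldMap_bijective K φ hφ hbij
    exact Module.Finite.of_surjective (Algebra.linearMap _ _) hb.2
  · letI := ((gen K φ).fromNormalization.app U).hom.toAlgebra
    haveI : IsNoetherianRing Γ(X, U) := IsLocallyNoetherian.component_noetherian ⟨U, hU⟩
    haveI : Ring.KrullDimLE 1 Γ(X, U) := krullDimLE_one_of_dim hdim U hU
    haveI : IsDomain Γ(X, U) := @IsIntegral.component_integral X _ U hne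
    obtain ⟨hdom, -, hinj⟩ := Groth.Agent.Helper5.NormCurve.sections_props K φ hφ U hU hne
    obtain ⟨hN, hmax, hlen⟩ := sections_KA K φ hφ U hU hne
    have hqmax := hmax _ (hV.primeIdealOf ⟨x', hx'V⟩).2 hq
    have hcomap := Groth.Agent.Helper5.NormCurve.primeIdealOf_comap (gen K φ).fromNormalization hU
      hV le_rfl x' hx'V
    rw [Scheme.Hom.appLE_eq_app] at hcomap
    have hp : (hU.primeIdealOf ⟨(gen K φ).fromNormalization x', hxU⟩).asIdeal ≠ ⊥ := by
      intro hp
      apply hq
      haveI : Algebra.IsIntegral Γ(X, U)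
          Γ((gen K φ).normalization, (gen K φ).fromNormalization ⁻¹ᵁ U) :=
        ⟨IsIntegralHom.isIntegral_app (gen K φ).fromNormalization U hU⟩
      have h1 : (hV.primeIdealOf ⟨x', hx'V⟩).asIdeal.comap (algebraMap Γ(X, U) _) = ⊥ := by
        rw [← hp, ← hcomap]; rfl
      exact Ideal.eq_bot_of_comap_eq_bot h1
    obtain ⟨a, hap, ha0⟩ := Submodule.exists_mem_ne_zero_of_ne_bot hp
    have hmem : ((gen K φ).fromNormalization.app U).hom a ∈
        (hV.primeIdealOf ⟨x', hx'V⟩).asIdeal := by
      have : a ∈ (Spec.map ((gen K φ).fromNormalization.app U)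
          (hV.primeIdealOf ⟨x', hx'V⟩)).asIdeal := by
        rw [hcomap]; exact hap
      exact this
    have hfl := hlen a ha0 _ hmem
    rw [Module.length_ne_top_iff, isFiniteLength_iff_isNoetherian_isArtinian] at hfl
    haveI hA0 : IsNoetherian Γ(X, U)
        (Γ((gen K φ).normalization, (gen K φ).fromNormalization ⁻¹ᵁ U) ⧸
          (hV.primeIdealOf ⟨x', hx'V⟩).asIdeal.restrictScalars Γ(X, U)) := hfl.1
    have hA1 : Module.Finite Γ(X, U)
        (Γ((gen K φ).normalization, (gen K φ).fromNormalization ⁻¹ᵁ U) ⧸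
          (hV.primeIdealOf ⟨x', hx'V⟩).asIdeal) :=
      Module.Finite.equiv (Submodule.Quotient.restrictScalarsEquiv Γ(X, U)
        (hV.primeIdealOf ⟨x', hx'V⟩).asIdeal)
    exact Groth.Agent.Helper5.ResFin.finite_residueField_of_finite_quot
      (gen K φ).fromNormalization hV x' hx'V hqmax hA1

end dimOne

omit [QuasiCompact (gen K φ)] [QuasiSeparated (gen K φ)] in
theorem s7684_aux (g : Spec (CommRingCat.of K) ⟶ X) (hg : g = gen K φ) [QuasiCompact g]
    [QuasiSeparated g] [IsLocallyNoetherian X] (hφ : φ.Finite) (hbij : Function.Bijective φ)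
    (hdim : topologicalKrullDim X ≤ 1) :
    (∀ x : X, Finite {x' : g.normalization // g.fromNormalization.base x' = x}) ∧
      (∀ x' : g.normalization,
        letI := (g.fromNormalization.residueFieldMap x').hom.toAlgebra
        Module.Finite (X.residueField (g.fromNormalization.base x'))
          (g.normalization.residueField x')) ∧
      IsLocallyNoetherian g.normalization ∧
      (∀ U : g.normalization.affineOpens,
        ((U : g.normalization.Opens) : Set g.normalization).Nonempty →
        IsDedekindDomain Γ(g.normalization, (U : g.normalization.Opens))) := by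
  subst hg
  refine ⟨finite_fibre K φ hφ hdim, finite_residueField K φ hφ hbij hdim,
    isLocallyNoetherian_normalization K φ hφ hdim, ?_⟩
  intro U hne
  exact isDedekindDomain_sections K φ hφ hdim U.1 U.2 hne.to_subtype

end Groth.Agent.Helper5.NormKA
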