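import Mathlib
import Groth.Prelude.Def_Found
import Groth.Agent.Helper5.NormKA
import Groth.Agent.Helper5.AwayIC
import Groth.Agent.Helper5.NormCurve2

set_option autoImplicit false
set_option linter.unusedSectionVars false
set_option linter.style.haveILetI false
universe u

open AlgebraicGeometry CategoryTheory Opposite

namespace Groth.Agent.Helper5.NormIso

open Groth.Agent.Helper5.NormGen

set_option backward.isDefEq.respectTransparency false in
theorem isIso_morphismRestrict {X Y : Scheme.{u}} (f : Y ⟶ X) (V : X.Opens) (hV : IsAffineOpen V)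
    (hV' : IsAffineOpen (f ⁻¹ᵁ V)) (h : Function.Bijective (f.app V).hom) : IsIso (f ∣_ V) := by
  haveI : IsAffine (V : Scheme) := hV
  refine (HasAffineProperty.iff_of_isAffine (P := MorphismProperty.isomorphisms Scheme)).mpr
    ⟨hV', ?_⟩
  rw [morphismRestrict_appTop]
  have h1 : ∀ W : X.Opens, W = V → IsIso (f.app W) := by
    rintro W rfl
    exact (ConcreteCategory.isIso_iff_bijective _).mpr h
  have h2 : IsIso (f.app (V.ι ''ᵁ ⊤)) := h1 _ (Scheme.Opens.ι_image_top V)
  have h3 : IsIso (Y.presheaf.map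
      (eqToHom (image_morphismRestrict_preimage f V ⊤)).op) := by
    haveI : IsIso (eqToHom (image_morphismRestrict_preimage f V ⊤)).op := inferInstance
    exact Functor.map_isIso _ _
  exact IsIso.comp_isIso' h2 h3

variable {X : Scheme.{u}} [IsIntegral X] (K : Type u) [Field K] (φ : X.functionField →+* K)
  [QuasiCompact (gen K φ)] [QuasiSeparated (gen K φ)]

theorem app_bijective_of_closed (hφ : φ.Finite) (V : X.Opens) (hV : IsAffineOpen V)
    (hne : Nonempty V)
    (hcl : letI algK : Algebra Γ(X, V) K := (φ.comp (X.germToFunctionField V).hom).toAlgebra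
      ∀ x : K, IsIntegral Γ(X, V) x → x ∈ (algebraMap Γ(X, V) K).range) :
    Function.Bijective ((gen K φ).fromNormalization.app V).hom := by
  letI algK : Algebra Γ(X, V) K := (φ.comp (X.germToFunctionField V).hom).toAlgebra
  obtain ⟨-, -, hinj⟩ := Groth.Agent.Helper5.NormCurve.sections_props K φ hφ V hV hne
  refine ⟨hinj, ?_⟩
  obtain ⟨E, hE⟩ := Groth.Agent.Helper5.NormFF.exists_secEquiv K φ V hV hne
  intro b
  obtain ⟨a, ha⟩ := hcl (E b : K) (E b).2
  refine ⟨a, ?_⟩
  apply E.injective
  rw [hE a]
  exact Subtype.ext ha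

theorem exists_open_isIso (hφ : φ.Finite) (hbij : Function.Bijective φ)
    (hJ : ∀ (U : X.Opens), IsAffineOpen U → ∀ (hne : Nonempty ↥U),
      @CAlg.IsN2 ↑Γ(X, U) _ (@IsIntegral.component_integral X _ U hne)) :
    ∃ V : X.Opens, (V : Set X).Nonempty ∧ IsIso ((gen K φ).fromNormalization ∣_ V) := by
  obtain ⟨_, ⟨U, hU, rfl⟩, hxU, -⟩ := X.isBasis_affineOpens.exists_subset_of_mem_open
    (Set.mem_univ (genericPoint X)) isOpen_univ
  have hne : Nonempty U := ⟨⟨_, hxU⟩⟩
  haveI : IsDomain Γ(X, U) := @IsIntegral.component_integral X _ U hne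
  letI algK : Algebra Γ(X, U) K := (φ.comp (X.germToFunctionField U).hom).toAlgebra
  letI : Algebra X.functionField K := φ.toAlgebra
  haveI : IsScalarTower Γ(X, U) X.functionField K :=
    IsScalarTower.of_algebraMap_eq (fun x => rfl)
  haveI : IsFractionRing Γ(X, U) X.functionField :=
    functionField_isFractionRing_of_isAffineOpen X U hU
  haveI : FiniteDimensional X.functionField K := hφ
  haveI : IsFractionRing Γ(X, U) K :=
    IsLocalization.isLocalization_of_algEquiv (nonZeroDivisors Γ(X, U))
      (AlgEquiv.ofBijective (IsScalarTower.toAlgHom Γ(X, U) X.functionField K) hbij)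
  haveI : Module.Finite Γ(X, U) (integralClosure Γ(X, U) K) :=
    Groth.Agent.Helper4.Japanese.IsN2.finite (hJ U hU hne) X.functionField K
  obtain ⟨s, hs0, hs⟩ := Groth.Agent.Helper5.AwayIC.exists_ne_zero_away_closed Γ(X, U) K
  have hVne : ((X.basicOpen s : X.Opens) : Set X).Nonempty := by
    rw [Set.nonempty_iff_ne_empty]
    intro h
    apply hs0
    have h' : X.basicOpen s = ⊥ := SetLike.coe_injective h
    exact (AlgebraicGeometry.basicOpen_eq_bot_iff s).1 h'
  refine ⟨X.basicOpen s, hVne, ?_⟩
  have hV : IsAffineOpen (X.basicOpen s) := hU.basicOpen s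
  have hneV : Nonempty (X.basicOpen s) := hVne.to_subtype
  apply isIso_morphismRestrict _ _ hV (hV.preimage _)
  apply app_bijective_of_closed K φ hφ _ hV hneV
  letI algK' : Algebra Γ(X, X.basicOpen s) K :=
    (φ.comp (X.germToFunctionField (X.basicOpen s)).hom).toAlgebra
  haveI := hU.isLocalization_basicOpen s
  haveI : IsScalarTower Γ(X, U) Γ(X, X.basicOpen s) K :=
    IsScalarTower.of_algebraMap_eq (fun a =>
      congrArg φ (TopCat.Presheaf.germ_res_apply X.presheaf
        (homOfLE (X.basicOpen_le s)) (genericPoint X) _ a).symm)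
  exact hs Γ(X, X.basicOpen s)

omit [QuasiCompact (gen K φ)] [QuasiSeparated (gen K φ)] in
theorem s1585_aux (g : Spec (CommRingCat.of K) ⟶ X) (hg : g = gen K φ) [QuasiCompact g]
    [QuasiSeparated g] (hφ : φ.Finite) (hbij : Function.Bijective φ)
    (hJ : ∀ (U : X.Opens), IsAffineOpen U → ∀ (hne : Nonempty ↥U),
      @CAlg.IsN2 ↑Γ(X, U) _ (@IsIntegral.component_integral X _ U hne)) :
    IsFinite g.fromNormalization ∧ IsDominant g.fromNormalization ∧
      (∃ V : X.Opens, (V : Set X).Nonempty ∧ IsIso (g.fromNormalization ∣_ V)) ∧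
      IsIntegral g.normalization ∧ Pi1.IsNormalScheme g.normalization := by
  refine ⟨isFinite_fromNormalization K φ hφ g hg hJ, ?_⟩
  subst hg
  refine ⟨?_, exists_open_isIso K φ hφ hbij hJ, inferInstance,
    Groth.Agent.Helper5.NormCurve.isNormalScheme K φ hφ⟩
  haveI : Surjective (gen K φ).fromNormalization :=
    ⟨Groth.Agent.Helper5.NormInt.fromNormalization_surjective K φ⟩
  infer_instance

end Groth.Agent.Helper5.NormIso
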