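import Mathlib
import Groth.Prelude.Def_CohB1

set_option autoImplicit false
set_option linter.unusedSectionVars false
set_option linter.style.haveILetI false
universe u

open MvPolynomial HomogeneousLocalization

namespace Groth.Agent.Helper5.P1Alg

variable (k : Type u) [Field k] (K : Type u) [Field K] [Algebra k K] (t : K)

/-- evaluation at `(1, t)` -/
noncomputable def ev : MvPolynomial (Fin 2) k →ₐ[k] K := aeval ![1, t]

@[simp] lemma ev_X0 : ev k K t (X 0) = 1 := by simp [ev]

@[simp] lemma ev_X1 : ev k K t (X 1) = t := by simp [ev]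

lemma X0_mem : (X 0 : MvPolynomial (Fin 2) k) ∈ CohB1.polyGrading 1 k 1 :=
  isHomogeneous_X k 0

lemma X1_mem : (X 1 : MvPolynomial (Fin 2) k) ∈ CohB1.polyGrading 1 k 1 :=
  isHomogeneous_X k 1

/-- the evaluation map on the chart `D₊(X₀)` -/
noncomputable def psi : Away (CohB1.polyGrading 1 k) (X 0 : MvPolynomial (Fin 2) k) →+* K :=
  (Localization.awayLift ((ev k K t : MvPolynomial (Fin 2) k →ₐ[k] K) : _ →+* K) (X 0)
    (by simp)).comp
    (algebraMap (Away (CohB1.polyGrading 1 k) (X 0 : MvPolynomial (Fin 2) k))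
      (Localization.Away (X 0 : MvPolynomial (Fin 2) k)))

lemma psi_mk (n : ℕ) (a : MvPolynomial (Fin 2) k) (ha : a ∈ CohB1.polyGrading 1 k (n • 1)) :
    psi k K t (Away.mk (CohB1.polyGrading 1 k) (X0_mem k) n a ha) = ev k K t a := by
  unfold psi
  rw [RingHom.comp_apply, HomogeneousLocalization.algebraMap_apply, Away.val_mk]
  have := Localization.awayLift_mk ((ev k K t : MvPolynomial (Fin 2) k →ₐ[k] K) : _ →+* K)
    (X 0) a 1 (by simp) n
  simpa using this

/-- the localization at `X₀` -/
abbrev Loc : Type u := Localization.Away (X 0 : MvPolynomial (Fin 2) k)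

/-- the localization map -/
noncomputable abbrev toLoc : MvPolynomial (Fin 2) k →+* Loc k :=
  algebraMap (MvPolynomial (Fin 2) k) (Loc k)

/-- the element `X₁/X₀` of the localization -/
noncomputable def uu : Loc k :=
  Localization.mk (X 1) ⟨X 0, 1, pow_one _⟩

lemma X0_mul_uu : toLoc k (X 0) * uu k = toLoc k (X 1) := by
  unfold uu toLoc
  rw [← Localization.mk_one_eq_algebraMap, ← Localization.mk_one_eq_algebraMap,
    Localization.mk_mul, Localization.mk_eq_mk_iff, Localization.r_iff_exists]
  refine ⟨1, ?_⟩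
  simp

/-- dehomogenisation followed by rehomogenisation -/
noncomputable def sigma : MvPolynomial (Fin 2) k →ₐ[k] Loc k := aeval ![1, uu k]

lemma toLoc_monomial (m : Fin 2 →₀ ℕ) (c : k) :
    toLoc k (monomial m c) = (toLoc k (X 0)) ^ (m 0 + m 1) * sigma k (monomial m c) := by
  unfold sigma
  rw [aeval_monomial, monomial_eq, Finsupp.prod_fintype _ _ (fun i => by simp),
    Finsupp.prod_fintype _ _ (fun i => by simp), Fin.prod_univ_two, Fin.prod_univ_two]
  simp only [Matrix.cons_val_zero, Matrix.cons_val_one, one_pow, one_mul, map_mul, map_pow]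
  rw [← X0_mul_uu k, mul_pow, pow_add]
  have : toLoc k (C c) = algebraMap k (Loc k) c := by
    unfold toLoc
    rw [← algebraMap_eq, ← IsScalarTower.algebraMap_apply]
  rw [this]
  ring

lemma toLoc_eq_of_mem (n : ℕ) (a : MvPolynomial (Fin 2) k)
    (ha : a ∈ CohB1.polyGrading 1 k n) :
    toLoc k a = (toLoc k (X 0)) ^ n * sigma k a := by
  have ha' : a.IsHomogeneous n := ha
  conv_lhs => rw [← support_sum_monomial_coeff a]
  conv_rhs => rw [← support_sum_monomial_coeff a]
  rw [map_sum, map_sum, Finset.mul_sum]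
  refine Finset.sum_congr rfl (fun m hm => ?_)
  rw [toLoc_monomial]
  have hdeg : m.degree = n := by
    rw [← ha' (mem_support_iff.1 hm), Finsupp.degree_eq_weight_one]
    rfl
  have h2 : m 0 + m 1 = n := by
    rw [← hdeg, Finsupp.degree_eq_sum, Fin.sum_univ_two]
  rw [h2]

/-- dehomogenisation -/
noncomputable def ev' : MvPolynomial (Fin 2) k →ₐ[k] Polynomial k :=
  aeval ![1, Polynomial.X]

lemma ev_eq : ev k K t = (Polynomial.aeval t).comp (ev' k) := by
  apply MvPolynomial.algHom_ext
  intro i
  fin_cases i <;> simp [ev, ev']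

lemma sigma_eq : sigma k = (Polynomial.aeval (uu k)).comp (ev' k) := by
  apply MvPolynomial.algHom_ext
  intro i
  fin_cases i <;> simp [sigma, ev']

lemma toLoc_injective : Function.Injective (toLoc k) := by
  apply IsLocalization.injective (Loc k) (M := Submonoid.powers (X 0 : MvPolynomial (Fin 2) k))
  exact powers_le_nonZeroDivisors_of_noZeroDivisors (X_ne_zero 0)

theorem psi_injective (ht : Transcendental k t) : Function.Injective (psi k K t) := by
  rw [injective_iff_map_eq_zero]
  intro b hb
  obtain ⟨n, a, ha, rfl⟩ := Away.mk_surjective (CohB1.polyGrading 1 k) (X0_mem k) b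
  rw [psi_mk, ev_eq] at hb
  have h1 : ev' k a = 0 := by
    have hinj : Function.Injective (Polynomial.aeval (R := k) t) :=
      transcendental_iff_injective.1 ht
    apply hinj
    rw [map_zero]
    exact hb
  have h2 : sigma k a = 0 := by
    rw [sigma_eq, AlgHom.comp_apply, h1, map_zero]
  have h3 : toLoc k a = 0 := by
    rw [toLoc_eq_of_mem k (n • 1) a ha, h2, mul_zero]
  have h4 : a = 0 := toLoc_injective k (by rw [h3, map_zero])
  subst h4
  apply HomogeneousLocalization.val_injective
  rw [Away.val_mk, HomogeneousLocalization.val_zero, Localization.mk_zero]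

/-- the coordinate function `X₁/X₀` on the chart -/
noncomputable def tau : Away (CohB1.polyGrading 1 k) (X 0 : MvPolynomial (Fin 2) k) :=
  Away.mk (CohB1.polyGrading 1 k) (X0_mem k) 1 (X 1) (by simpa using X1_mem k)

lemma psi_tau : psi k K t (tau k) = t := by
  unfold tau
  rw [psi_mk, ev_X1]

lemma psi_fromZero (c : k) :
    psi k K t (HomogeneousLocalization.fromZeroRingHom (CohB1.polyGrading 1 k) _
      (algebraMap k (CohB1.polyGrading 1 k 0) c)) = algebraMap k K c := by
  have h1 : HomogeneousLocalization.fromZeroRingHom (CohB1.polyGrading 1 k)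
      (Submonoid.powers (X 0 : MvPolynomial (Fin 2) k))
      (algebraMap k (CohB1.polyGrading 1 k 0) c) =
      Away.mk (CohB1.polyGrading 1 k) (X0_mem k) 0 (C c) (by
        simpa using (isHomogeneous_C (Fin 2) c)) := by
    apply HomogeneousLocalization.val_injective
    rw [Away.val_mk]
    simp [HomogeneousLocalization.fromZeroRingHom]
  rw [h1, psi_mk]
  simp [ev]

end Groth.Agent.Helper5.P1Alg
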