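import Mathlib
import Groth.Prelude.Def_CohB1
import Groth.Prelude.Def_CurvBase
import Groth.Agent.Helper5.P1Alg

set_option autoImplicit false
set_option linter.unusedSectionVars false
set_option linter.style.haveILetI false
universe u

open AlgebraicGeometry CategoryTheory MvPolynomial HomogeneousLocalization

namespace Groth.Agent.Helper5.P1Sch

variable (k : Type u) [Field k]

theorem X_mem_irrelevant (i : Fin 2) :
    (X i : MvPolynomial (Fin 2) k) ∈ HomogeneousIdeal.irrelevant (CohB1.polyGrading 1 k) := by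
  rw [HomogeneousIdeal.mem_irrelevant_iff]
  have h1 : (X i : MvPolynomial (Fin 2) k) ∈ CohB1.polyGrading 1 k 1 := isHomogeneous_X k i
  exact DirectSum.decompose_of_mem_ne (CohB1.polyGrading 1 k) h1 one_ne_zero

/-- the generic point of the projective line -/
noncomputable def genPt : ProjectiveSpectrum (CohB1.polyGrading 1 k) where
  asHomogeneousIdeal := ⊥
  isPrime := by
    change (⊥ : Ideal (MvPolynomial (Fin 2) k)).IsPrime
    exact Ideal.isPrime_bot
  not_irrelevant_le := by
    intro h
    have h1 := h (X_mem_irrelevant k 0)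
    have h2 : (X 0 : MvPolynomial (Fin 2) k) = 0 := h1
    exact X_ne_zero 0 h2

instance : IrreducibleSpace (Proj (CohB1.polyGrading 1 k)) := by
  rw [irreducibleSpace_def]
  have h : closure ({genPt k} : Set (ProjectiveSpectrum (CohB1.polyGrading 1 k))) = Set.univ := by
    rw [Set.eq_univ_iff_forall]
    intro y
    rw [← ProjectiveSpectrum.le_iff_mem_closure, ← ProjectiveSpectrum.as_ideal_le_as_ideal]
    exact bot_le
  have h2 := (isIrreducible_singleton (x := genPt k)).closure
  rw [h] at h2
  exact h2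

instance : IsReduced (Proj (CohB1.polyGrading 1 k)) := by
  haveI : ∀ x : Proj (CohB1.polyGrading 1 k), _root_.IsReduced ((Proj (CohB1.polyGrading 1 k)).presheaf.stalk x) := by
    intro x
    haveI : _root_.IsReduced (AtPrime (CohB1.polyGrading 1 k)
        (x : ProjectiveSpectrum (CohB1.polyGrading 1 k)).asHomogeneousIdeal.toIdeal) :=
      isReduced_of_injective (algebraMap (AtPrime (CohB1.polyGrading 1 k)
        (x : ProjectiveSpectrum (CohB1.polyGrading 1 k)).asHomogeneousIdeal.toIdeal)
        (Localization.AtPrime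
        (x : ProjectiveSpectrum (CohB1.polyGrading 1 k)).asHomogeneousIdeal.toIdeal))
        (HomogeneousLocalization.val_injective _)
    exact isReduced_of_injective (Proj.stalkIso (CohB1.polyGrading 1 k) x).hom.hom
      (Proj.stalkIso (CohB1.polyGrading 1 k) x).commRingCatIsoToRingEquiv.injective
  exact isReduced_of_isReduced_stalk _

instance : IsIntegral (Proj (CohB1.polyGrading 1 k)) :=
  isIntegral_of_irreducibleSpace_of_isReduced _

/-- the standard chart `D₊(X₀)` -/
noncomputable abbrev U₀ : (Proj (CohB1.polyGrading 1 k)).Opens :=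
  Proj.basicOpen (CohB1.polyGrading 1 k) (X 0 : MvPolynomial (Fin 2) k)

theorem isAffineOpen_U₀ : IsAffineOpen (U₀ k) :=
  Proj.isAffineOpen_basicOpen (CohB1.polyGrading 1 k) (X 0 : MvPolynomial (Fin 2) k)
    (Groth.Agent.Helper5.P1Alg.X0_mem k) Nat.one_pos

instance : Nonempty (U₀ k) := by
  refine ⟨⟨genPt k, ?_⟩⟩
  rw [Proj.mem_basicOpen]
  intro h
  have h2 : (X 0 : MvPolynomial (Fin 2) k) = 0 := h
  exact X_ne_zero 0 h2

/-- sections over the chart -/
noncomputable def iso₀ : CommRingCat.of (Away (CohB1.polyGrading 1 k)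
    (X 0 : MvPolynomial (Fin 2) k)) ≅ Γ(Proj (CohB1.polyGrading 1 k), U₀ k) :=
  Proj.basicOpenIsoAway (CohB1.polyGrading 1 k) (X 0 : MvPolynomial (Fin 2) k)
    (Groth.Agent.Helper5.P1Alg.X0_mem k) Nat.one_pos

theorem awayι_eq :
    Spec.map (iso₀ k).hom ≫ Proj.awayι (CohB1.polyGrading 1 k) (X 0 : MvPolynomial (Fin 2) k)
      (Groth.Agent.Helper5.P1Alg.X0_mem k) Nat.one_pos = (isAffineOpen_U₀ k).fromSpec := by
  rw [Proj.awayι, IsAffineOpen.fromSpec, ← Category.assoc]
  congr 1
  rw [Iso.comp_inv_eq, Proj.basicOpenIsoSpec_hom, Proj.basicOpenToSpec]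
  have h1 : (isAffineOpen_U₀ k).isoSpec.inv ≫ (Proj.basicOpen (CohB1.polyGrading 1 k)
      (X 0 : MvPolynomial (Fin 2) k)).toSpecΓ = 𝟙 _ := (isAffineOpen_U₀ k).isoSpec_inv_toSpecΓ
  rw [reassoc_of% h1]
  rfl

/-- the structure morphism to `Spec k` -/
noncomputable abbrev toSpec : Proj (CohB1.polyGrading 1 k) ⟶ Spec (CommRingCat.of k) :=
  Proj.toSpecZero (CohB1.polyGrading 1 k) ≫
    Spec.map (CommRingCat.ofHom (algebraMap k (CohB1.polyGrading 1 k 0)))

/-- the structure map `k → (A_{X₀})₀` -/
noncomputable abbrev kToAway : k →+* Away (CohB1.polyGrading 1 k) (X 0 : MvPolynomial (Fin 2) k) :=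
  (HomogeneousLocalization.fromZeroRingHom (CohB1.polyGrading 1 k)
    (Submonoid.powers (X 0 : MvPolynomial (Fin 2) k))).comp
    (algebraMap k (CohB1.polyGrading 1 k 0))

theorem fromSpec_toSpec : (isAffineOpen_U₀ k).fromSpec ≫ toSpec k =
    Spec.map (CommRingCat.ofHom (kToAway k) ≫ (iso₀ k).hom) := by
  rw [← awayι_eq, Category.assoc, toSpec, Proj.awayι_toSpecZero_assoc, ← Spec.map_comp,
    ← Spec.map_comp]
  rfl

theorem toSpec_appLE :
    (Scheme.ΓSpecIso (CommRingCat.of k)).inv ≫ (toSpec k).appLE ⊤ (U₀ k) le_top =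
      CommRingCat.ofHom (kToAway k) ≫ (iso₀ k).hom := by
  apply Spec.map_injective
  have h := IsAffineOpen.SpecMap_appLE_fromSpec (toSpec k) (isAffineOpen_top _)
    (isAffineOpen_U₀ k) le_top
  rw [IsAffineOpen.fromSpec_top, Scheme.isoSpec_Spec_inv, ← Spec.map_comp] at h
  rw [h, fromSpec_toSpec]

noncomputable instance overInst : (Proj (CohB1.polyGrading 1 k)).Over (Spec (CommRingCat.of k)) :=
  ⟨toSpec k⟩

variable (K : Type u) [Field K] [Algebra k K] (t : K)

/-- the evaluation map on sections over the chart -/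
noncomputable def psi' : Γ(Proj (CohB1.polyGrading 1 k), U₀ k) →+* K :=
  (Groth.Agent.Helper5.P1Alg.psi k K t).comp (iso₀ k).inv.hom

theorem psi'_injective (ht : Transcendental k t) : Function.Injective (psi' k K t) := by
  unfold psi'
  rw [RingHom.coe_comp]
  exact (Groth.Agent.Helper5.P1Alg.psi_injective k K t ht).comp
    (ConcreteCategory.bijective_of_isIso (iso₀ k).inv).1

/-- the embedding of the function field of `P¹` into `K` determined by a transcendental `t` -/
noncomputable def phi (ht : Transcendental k t) :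
    (Proj (CohB1.polyGrading 1 k)).functionField →+* K :=
  haveI : IsFractionRing Γ(Proj (CohB1.polyGrading 1 k), U₀ k)
      (Proj (CohB1.polyGrading 1 k)).functionField :=
    functionField_isFractionRing_of_isAffineOpen _ (U₀ k) (isAffineOpen_U₀ k)
  IsFractionRing.lift (psi'_injective k K t ht)

theorem phi_germ (ht : Transcendental k t) (a : Γ(Proj (CohB1.polyGrading 1 k), U₀ k)) :
    phi k K t ht ((Proj (CohB1.polyGrading 1 k)).germToFunctionField (U₀ k) a) = psi' k K t a := by
  haveI : IsFractionRing Γ(Proj (CohB1.polyGrading 1 k), U₀ k)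
      (Proj (CohB1.polyGrading 1 k)).functionField :=
    functionField_isFractionRing_of_isAffineOpen _ (U₀ k) (isAffineOpen_U₀ k)
  exact IsFractionRing.lift_algebraMap (psi'_injective k K t ht) a

theorem phi_stalkMap (ht : Transcendental k t) (c : k) :
    phi k K t ht (Curv2.stalkMap k (Proj (CohB1.polyGrading 1 k))
      (genericPoint (Proj (CohB1.polyGrading 1 k))) c) = algebraMap k K c := by
  have h1 : Curv2.stalkMap k (Proj (CohB1.polyGrading 1 k))
      (genericPoint (Proj (CohB1.polyGrading 1 k))) c =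
      (Proj (CohB1.polyGrading 1 k)).germToFunctionField (U₀ k)
        (((toSpec k).appLE ⊤ (U₀ k) le_top).hom
          ((Scheme.ΓSpecIso (CommRingCat.of k)).inv.hom c)) := by
    unfold Curv2.stalkMap Coh.toGlobal
    rw [RingHom.comp_apply, RingHom.comp_apply]
    exact (TopCat.Presheaf.germ_res_apply _ (homOfLE (le_top : U₀ k ≤ ⊤)) _ _ _).symm
  rw [h1, phi_germ]
  have h2 := congrArg (fun f => f.hom c) (toSpec_appLE k)
  simp only [CommRingCat.hom_comp, RingHom.comp_apply] at h2
  unfold psi'
  rw [RingHom.comp_apply]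
  rw [h2]
  have h3 : (iso₀ k).inv.hom ((iso₀ k).hom.hom ((CommRingCat.ofHom (kToAway k)).hom c)) =
      kToAway k c := by
    rw [← CommRingCat.comp_apply, Iso.hom_inv_id]
    rfl
  rw [h3]
  exact Groth.Agent.Helper5.P1Alg.psi_fromZero k K t c

/-- the rational function `X₁/X₀` -/
noncomputable def tauF : (Proj (CohB1.polyGrading 1 k)).functionField :=
  (Proj (CohB1.polyGrading 1 k)).germToFunctionField (U₀ k)
    ((iso₀ k).hom.hom (Groth.Agent.Helper5.P1Alg.tau k))

theorem phi_tauF (ht : Transcendental k t) : phi k K t ht (tauF k) = t := by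
  unfold tauF
  rw [phi_germ]
  unfold psi'
  rw [RingHom.comp_apply]
  have h3 : (iso₀ k).inv.hom ((iso₀ k).hom.hom (Groth.Agent.Helper5.P1Alg.tau k)) =
      Groth.Agent.Helper5.P1Alg.tau k := by
    rw [← CommRingCat.comp_apply, Iso.hom_inv_id]
    rfl
  rw [h3]
  exact Groth.Agent.Helper5.P1Alg.psi_tau k K t

theorem phi_finite (hfg : (⊤ : IntermediateField k K).FG) (htr : Algebra.trdeg k K = 1)
    (ht : Transcendental k t) : (phi k K t ht).Finite := by
  letI : Algebra k (Proj (CohB1.polyGrading 1 k)).functionField :=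
    (Curv2.stalkMap k (Proj (CohB1.polyGrading 1 k))
      (genericPoint (Proj (CohB1.polyGrading 1 k)))).toAlgebra
  letI : Algebra (Proj (CohB1.polyGrading 1 k)).functionField K := (phi k K t ht).toAlgebra
  haveI : IsScalarTower k (Proj (CohB1.polyGrading 1 k)).functionField K :=
    IsScalarTower.of_algebraMap_eq (fun c => (phi_stalkMap k K t ht c).symm)
  haveI : Algebra.EssFiniteType k K := IntermediateField.fg_top_iff.1 hfg
  haveI : Algebra.EssFiniteType (Proj (CohB1.polyGrading 1 k)).functionField K :=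
    Algebra.EssFiniteType.of_comp k _ K
  have h1 : Transcendental k (tauF k) := by
    intro halg
    have h2 : IsAlgebraic k ((IsScalarTower.toAlgHom k
        (Proj (CohB1.polyGrading 1 k)).functionField K) (tauF k)) := halg.algHom _
    have h3 : (IsScalarTower.toAlgHom k (Proj (CohB1.polyGrading 1 k)).functionField K)
        (tauF k) = t := phi_tauF k K t ht
    rw [h3] at h2
    exact ht h2
  haveI : Algebra.Transcendental k (Proj (CohB1.polyGrading 1 k)).functionField := ⟨⟨_, h1⟩⟩
  have h4 := trdeg_pos k (Proj (CohB1.polyGrading 1 k)).functionField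
  have h5 := trdeg_add_eq k (Proj (CohB1.polyGrading 1 k)).functionField (A := K)
  rw [htr] at h5
  have h6 : Algebra.trdeg (Proj (CohB1.polyGrading 1 k)).functionField K = 0 := by
    by_contra hne
    have h7 : 1 ≤ Algebra.trdeg (Proj (CohB1.polyGrading 1 k)).functionField K :=
      Cardinal.one_le_iff_ne_zero.2 hne
    have h8 : 1 ≤ Algebra.trdeg k (Proj (CohB1.polyGrading 1 k)).functionField :=
      Cardinal.one_le_iff_pos.2 h4
    have h9 := add_le_add h8 h7
    rw [h5] at h9
    have : (1 : Cardinal) + 1 = 2 := one_add_one_eq_two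
    rw [this] at h9
    exact absurd h9 (by simpa using (Nat.cast_lt (α := Cardinal)).2 (show 1 < 2 by norm_num))
  haveI : Algebra.IsAlgebraic (Proj (CohB1.polyGrading 1 k)).functionField K :=
    trdeg_eq_zero_iff.1 h6
  exact Algebra.finite_of_essFiniteType_of_isAlgebraic

end Groth.Agent.Helper5.P1Sch
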