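import Groth.Agent.Helper5.FtDim3

set_option autoImplicit false
universe u

namespace Groth.Agent.Helper5.FtDim

theorem ringKrullDim_quotient_eq_coheight {R : Type*} [CommRing R] (q : PrimeSpectrum R) :
    ringKrullDim (R ⧸ q.asIdeal) = (Order.coheight q : ℕ∞) := by
  rw [ringKrullDim_quotient, Order.coheight_eq_krullDim_Ici]
  have : PrimeSpectrum.zeroLocus (R := R) (q.asIdeal : Set R) = Set.Ici q := by
    ext p
    simp only [PrimeSpectrum.mem_zeroLocus, SetLike.coe_subset_coe, Set.mem_Ici]
    exact Iff.rfl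
  rw [this]

theorem height_add_dim_quotient_le {R : Type*} [CommRing R] (q : Ideal R) [hq : q.IsPrime] :
    (q.height : WithBot ℕ∞) + ringKrullDim (R ⧸ q) ≤ ringKrullDim R := by
  have h1 := ringKrullDim_quotient_eq_coheight (⟨q, hq⟩ : PrimeSpectrum R)
  have h2 := PrimeSpectrum.height_eq_orderHeight (⟨q, hq⟩ : PrimeSpectrum R)
  change ringKrullDim (R ⧸ q) = _ at h1
  change q.height = _ at h2
  rw [h1, h2]
  have : Nonempty (PrimeSpectrum R) := ⟨⟨q, hq⟩⟩
  rw [ringKrullDim, Order.krullDim_eq_iSup_height_add_coheight_of_nonempty, ← WithBot.coe_add,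
    WithBot.coe_le_coe]
  exact le_iSup (fun a : PrimeSpectrum R => Order.height a + Order.coheight a) ⟨q, hq⟩

theorem dim_le_height_add_dim_quotient (k A : Type u) [Field k] [CommRing A] [IsDomain A]
    [Algebra k A] [Algebra.FiniteType k A] :
    ∀ (n : ℕ) (q : Ideal A) [q.IsPrime], q.height = n →
      ringKrullDim A ≤ (q.height : WithBot ℕ∞) + ringKrullDim (A ⧸ q) := by
  have hN : IsNoetherianRing A := Algebra.FiniteType.isNoetherianRing k A
  intro n
  induction n with
  | zero =>
    intro q hq h0
    have : q = ⊥ := Ideal.height_eq_zero_iff_eq_bot.1 (by simpa using h0)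
    subst this
    rw [ringKrullDim_eq_of_ringEquiv (RingEquiv.quotientBot A), Ideal.height_bot]
    simp
  | succ n ih =>
    intro q hq hn
    have h1 : ¬ q.height ≤ (n : ℕ) := by
      rw [hn]
      intro h
      have : ((n + 1 : ℕ) : ℕ∞) ≤ (n : ℕ∞) := h
      rw [Nat.cast_le] at this
      omega
    rw [Ideal.height_le_iff_covBy] at h1
    push Not at h1
    obtain ⟨q', hq', hlt, hcov, hht⟩ := h1
    have h2 : q'.height + 1 ≤ q.height := Ideal.height_add_one_le_of_lt_of_isPrime hlt
    rw [hn] at h2
    have h3 : q'.height = n := by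
      apply le_antisymm
      · have h6 : q'.height + 1 ≤ ((n + 1 : ℕ) : ℕ∞) := h2
        have h7 : q'.height < ((n + 1 : ℕ) : ℕ∞) := (ENat.add_one_le_iff' (ENat.natCast_ne_top _)).1 h6
        have h8 : q'.height < (n : ℕ∞) + 1 := by simpa using h7
        exact (ENat.lt_add_one_iff (ENat.natCast_ne_top _)).1 h8
      · exact hht
    have h4 := ih q' h3
    have hc : (⟨q', hq'⟩ : PrimeSpectrum A) ⋖ ⟨q, hq⟩ := by
      refine ⟨hlt, fun c hc1 hc2 => hcov c.asIdeal c.2 hc1 hc2⟩
    have h5 := dim_quotient_of_covBy k A ⟨q', hq'⟩ ⟨q, hq⟩ hc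
    change ringKrullDim (A ⧸ q) + 1 = ringKrullDim (A ⧸ q') at h5
    rw [h3, ← h5] at h4
    rw [hn]
    refine h4.trans (le_of_eq ?_)
    push_cast
    abel

/-- The dimension formula for finite type domains over a field:
`ht q + dim A/q = dim A`. -/
theorem height_add_dim_quotient (k A : Type u) [Field k] [CommRing A] [IsDomain A]
    [Algebra k A] [Algebra.FiniteType k A] (q : Ideal A) [q.IsPrime] :
    (q.height : WithBot ℕ∞) + ringKrullDim (A ⧸ q) = ringKrullDim A := by
  have hN : IsNoetherianRing A := Algebra.FiniteType.isNoetherianRing k A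
  apply le_antisymm (height_add_dim_quotient_le q)
  obtain ⟨n, hn⟩ := ENat.ne_top_iff_exists.mp (Ideal.height_ne_top_of_isPrime (I := q))
  exact dim_le_height_add_dim_quotient k A n q hn.symm

/-- All maximal ideals of a finite type domain over a field have height `dim A`. -/
theorem height_of_isMaximal (k A : Type u) [Field k] [CommRing A] [IsDomain A]
    [Algebra k A] [Algebra.FiniteType k A] (m : Ideal A) [hm : m.IsMaximal] :
    (m.height : WithBot ℕ∞) = ringKrullDim A := by
  have := height_add_dim_quotient k A m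
  have hf : IsField (A ⧸ m) := (Ideal.Quotient.maximal_ideal_iff_isField_quotient m).1 hm
  rw [ringKrullDim_eq_zero_of_isField hf, add_zero] at this
  exact this

end Groth.Agent.Helper5.FtDim
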