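import Groth.Agent.Helper5.FtDim6

set_option autoImplicit false
universe u

namespace Groth.Agent.Helper5.FtDim

open Order

/-- Poset lemma: a chain from `a` to `b` followed by a chain starting at `b`. -/
theorem length_add_coheight_last_le {α : Type*} [Preorder α] (l : LTSeries α) :
    (l.length : ℕ∞) + coheight l.last ≤ coheight l.head := by
  rcases eq_or_ne (coheight l.last) ⊤ with h | h
  · have : coheight l.last ≤ coheight l.head := coheight_anti (LTSeries.head_le_last l)
    rw [h, top_le_iff] at this
    rw [this]
    exact le_top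
  · obtain ⟨n, hn⟩ := ENat.ne_top_iff_exists.1 h
    obtain ⟨q, hq1, hq2⟩ := exists_series_of_coheight_eq_coe l.last hn.symm
    have h1 : (l.smash q hq1.symm).length ≤ coheight (l.smash q hq1.symm).head :=
      length_le_coheight_head
    rw [RelSeries.head_smash, RelSeries.smash_length] at h1
    rw [← hn, ← hq2]
    exact_mod_cast h1


theorem coheight_add_one_of_covBy (k A : Type u) [Field k] [CommRing A] [Algebra k A] [Algebra.FiniteType k A] (p q : PrimeSpectrum A) (h : p ⋖ q) :
    coheight q + 1 = coheight p := by
  have h1 := dim_quotient_of_covBy k A p q h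
  rw [ringKrullDim_quotient_eq_coheight, ringKrullDim_quotient_eq_coheight] at h1
  exact_mod_cast h1

theorem exists_le_covBy (k A : Type u) [Field k] [CommRing A] [Algebra k A] [Algebra.FiniteType k A] (P p : PrimeSpectrum A) (h : P < p) :
    ∃ p' : PrimeSpectrum A, P ≤ p' ∧ p' ⋖ p := by
  have hN : IsNoetherianRing A := Algebra.FiniteType.isNoetherianRing k A
  let S : Set (Ideal A) := {I | ∃ x : PrimeSpectrum A, P ≤ x ∧ x < p ∧ x.asIdeal = I}
  have hS : S.Nonempty := ⟨P.asIdeal, P, le_rfl, h, rfl⟩
  obtain ⟨I, ⟨x, hPx, hxp, rfl⟩, hmax⟩ := (wellFounded_gt (α := Ideal A)).has_min S hS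
  refine ⟨x, hPx, hxp, ?_⟩
  intro y hxy hyp
  exact hmax y.asIdeal ⟨y, hPx.trans hxy.le, hyp, rfl⟩ hxy

theorem height_ne_top (k A : Type u) [Field k] [CommRing A] [Algebra k A] [Algebra.FiniteType k A] (p : PrimeSpectrum A) : height p ≠ ⊤ := by
  have hN : IsNoetherianRing A := Algebra.FiniteType.isNoetherianRing k A
  rw [← PrimeSpectrum.height_eq_orderHeight]
  exact Ideal.height_ne_top_of_isPrime

/-- `dim A/P ≤ ht p + dim A/p` for primes `P ≤ p` of a finite type algebra over a field. -/
theorem coheight_le_height_add_coheight (k A : Type u) [Field k] [CommRing A] [Algebra k A] [Algebra.FiniteType k A] :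
    ∀ (n : ℕ) (p : PrimeSpectrum A), height p = n → ∀ P : PrimeSpectrum A, P ≤ p →
      coheight P ≤ height p + coheight p := by
  intro n
  induction n using Nat.strong_induction_on with
  | _ n ih =>
    intro p hn P hP
    rcases eq_or_lt_of_le hP with rfl | hlt
    · exact le_add_self
    · obtain ⟨p', hPp', hcov⟩ := exists_le_covBy k A P p hlt
      have h1 : height p' + 1 ≤ height p := height_add_one_le hcov.lt
      obtain ⟨n', hn'⟩ := ENat.ne_top_iff_exists.1 (height_ne_top k A p')
      have h2 : n' < n := by
        rw [hn, ← hn'] at h1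
        have : ((n' + 1 : ℕ) : ℕ∞) ≤ (n : ℕ∞) := by exact_mod_cast h1
        exact Nat.lt_of_succ_le (by exact_mod_cast this)
      have h3 := ih n' h2 p' hn'.symm P hPp'
      have h4 := coheight_add_one_of_covBy k A p' p hcov
      calc coheight P ≤ height p' + coheight p' := h3
        _ = height p' + (coheight p + 1) := by rw [h4]
        _ = (height p' + 1) + coheight p := by rw [add_comm (coheight p) 1, add_assoc]
        _ ≤ height p + coheight p := by gcongr

theorem coheight_le_height_add_coheight' (k A : Type u) [Field k] [CommRing A] [Algebra k A] [Algebra.FiniteType k A] (p P : PrimeSpectrum A) (hP : P ≤ p) :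
    coheight P ≤ height p + coheight p := by
  obtain ⟨n, hn⟩ := ENat.ne_top_iff_exists.1 (height_ne_top k A p)
  exact coheight_le_height_add_coheight k A n p hn.symm P hP

theorem exists_le_with_coheight_ge {A : Type*} [CommRing A] (hN : IsNoetherianRing A) (p : PrimeSpectrum A) :
    ∃ P : PrimeSpectrum A, P ≤ p ∧ height p + coheight p ≤ coheight P := by
  have hne : height p ≠ ⊤ := by
    rw [← PrimeSpectrum.height_eq_orderHeight]
    exact Ideal.height_ne_top_of_isPrime
  obtain ⟨n, hn⟩ := ENat.ne_top_iff_exists.1 hne
  obtain ⟨l, hl1, hl2⟩ := exists_series_of_height_eq_coe p hn.symm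
  refine ⟨l.head, ?_, ?_⟩
  · rw [← hl1]; exact LTSeries.head_le_last l
  · have := length_add_coheight_last_le l
    rwa [hl1, hl2, hn] at this

end Groth.Agent.Helper5.FtDim
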