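import Mathlib

set_option autoImplicit false
universe u

namespace Groth.Agent.Helper5.AssHt

theorem main (A : Type u) [CommRing A] [IsDomain A] [IsNoetherianRing A] [IsIntegrallyClosed A]
    (b : A) (hb : b ≠ 0) (p : Ideal A) (hp : p ∈ associatedPrimes A (A ⧸ Ideal.span {b})) :
    p.height = 1 := by
  classical
  rw [AssociatedPrimes.mem_iff, isAssociatedPrime_iff] at hp
  obtain ⟨hprime, x, hx⟩ := hp
  obtain ⟨a, rfl⟩ := Ideal.Quotient.mk_surjective x
  -- membership in p
  have hmem : ∀ r : A, r ∈ p ↔ ∃ s : A, s * b = r * a := by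
    intro r
    rw [hx, Submodule.mem_colon_singleton, Submodule.mem_bot]
    have : r • (Ideal.Quotient.mk (Ideal.span {b})) a = Ideal.Quotient.mk (Ideal.span {b}) (r * a) := by
      rw [Algebra.smul_def, Ideal.Quotient.algebraMap_eq, ← map_mul]
    rw [this, Ideal.Quotient.eq_zero_iff_mem, Ideal.mem_span_singleton']
  have hbp : b ∈ p := (hmem b).2 ⟨a, mul_comm a b⟩
  have hpbot : p ≠ ⊥ := fun h => hb (by rw [h] at hbp; exact hbp)
  have hanot : ¬ ∃ z : A, z * b = a := by
    rintro ⟨z, hz⟩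
    exact hprime.ne_top ((Ideal.eq_top_iff_one _).2 ((hmem 1).2 ⟨z, by rw [hz, one_mul]⟩))
  let K := FractionRing A
  have hinj := IsFractionRing.injective A K
  have hbK : algebraMap A K b ≠ 0 := by rwa [Ne, map_eq_zero_iff _ hinj]
  let ξ : K := algebraMap A K a / algebraMap A K b
  let M := Submodule.map (Algebra.linearMap A K) p
  -- there is c ∈ p with ξ c ∉ M
  have hex : ∃ c ∈ p, ∃ y : A, y * b = c * a ∧ y ∉ p := by
    by_contra hcon
    push Not at hcon
    have hstab : ∀ n ∈ M, ξ • n ∈ M := by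
      rintro _ ⟨c, hc, rfl⟩
      obtain ⟨y, hy⟩ := (hmem c).1 hc
      have hyp := hcon c hc y hy
      refine ⟨y, hyp, ?_⟩
      change algebraMap A K y = ξ * algebraMap A K c
      rw [eq_comm, div_mul_eq_mul_div, div_eq_iff hbK, ← map_mul, ← map_mul, hy, mul_comm]
    have hMbot : M ≠ ⊥ := by
      rw [Submodule.ne_bot_iff]
      exact ⟨_, ⟨b, hbp, rfl⟩, hbK⟩
    have hMfg : M.FG := Submodule.FG.map _ (IsNoetherian.noetherian _)
    have hint := isIntegral_of_smul_mem_submodule M hMbot hMfg ξ hstab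
    obtain ⟨z, hz⟩ := IsIntegrallyClosed.algebraMap_eq_of_integral hint
    apply hanot
    refine ⟨z, hinj ?_⟩
    rw [map_mul, hz, div_mul_cancel₀ _ hbK]
  obtain ⟨c, hcp, y, hy, hyp⟩ := hex
  have hkey : ∀ m ∈ p, y * m ∈ Ideal.span {c} := by
    intro m hm
    obtain ⟨r, hr⟩ := (hmem m).1 hm
    rw [Ideal.mem_span_singleton']
    refine ⟨r, mul_right_cancel₀ hb ?_⟩
    calc r * c * b = c * (r * b) := by ring
      _ = c * (m * a) := by rw [hr]
      _ = m * (c * a) := by ring
      _ = m * (y * b) := by rw [hy]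
      _ = y * m * b := by ring
  have hmin : p ∈ (Ideal.span {c}).minimalPrimes := by
    refine ⟨⟨hprime, (Ideal.span_singleton_le_iff_mem _).2 hcp⟩, ?_⟩
    rintro q ⟨hq, hcq⟩ hqp m hm
    have h1 := hcq (hkey m hm)
    rcases hq.mem_or_mem h1 with h | h
    · exact absurd (hqp h) hyp
    · exact h
  have hle : p.height ≤ 1 := Ideal.height_le_one_of_isPrincipal_of_mem_minimalPrimes _ p hmin
  have hne : p.height ≠ 0 := by
    rw [Ne, Ideal.height_eq_zero_iff_eq_bot]
    exact hpbot
  exact le_antisymm hle (Order.one_le_iff_ne_zero.2 hne)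

end Groth.Agent.Helper5.AssHt
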