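import Mathlib

set_option autoImplicit false
universe u
open Polynomial

namespace Groth.Agent.Helper5.FtDim

/-- Every maximal ideal of `k[x₁,…,xₙ]` has height `n`. -/
theorem height_of_isMaximal_mvPolynomial (k : Type u) [Field k] :
    ∀ (n : ℕ) (M : Ideal (MvPolynomial (Fin n) k)), M.IsMaximal → M.height = n := by
  intro n
  induction n with
  | zero =>
    intro M hM
    have hfield : IsField (MvPolynomial (Fin 0) k) :=
      (MvPolynomial.isEmptyAlgEquiv k (Fin 0)).toRingEquiv.toMulEquiv.isField
        (Field.toIsField k)
    have : M = ⊥ := by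
      let _ := hfield.toField
      exact (Ideal.eq_bot_or_top M).resolve_right hM.ne_top
    subst this
    simp
  | succ n ih =>
    intro M hM
    let R := MvPolynomial (Fin n) k
    let e : MvPolynomial (Fin (n + 1)) k ≃+* R[X] := (MvPolynomial.finSuccEquiv k n).toRingEquiv
    let M' : Ideal R[X] := M.map e
    have hM' : M'.IsMaximal := Ideal.map_isMaximal_of_equiv e
    let p : Ideal R := M'.comap (C : R →+* R[X])
    have hp : p.IsMaximal := Polynomial.isMaximal_comap_C_of_isJacobsonRing M'
    have hlies : M'.LiesOver p := ⟨rfl⟩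
    have h1 := Polynomial.height_eq_height_add_one p M'
    rw [ih p hp] at h1
    have h2 : M'.height = M.height := RingEquiv.height_map e M
    rw [← h2, h1]
    norm_cast

/-- Heights of primes are preserved by contraction along an integral extension of an integrally
closed Noetherian domain. -/
theorem height_eq_height_under {R A : Type*} [CommRing R] [CommRing A] [IsDomain A] [Algebra R A]
    [FaithfulSMul R A] [Algebra.IsIntegral R A] [IsIntegrallyClosed R] [IsNoetherianRing R]
    [IsNoetherianRing A] (P : Ideal A) [P.IsPrime] : P.height = (P.under R).height := by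
  have hlies : P.LiesOver (P.under R) := ⟨rfl⟩
  rw [Ideal.height_eq_height_add_of_liesOver_of_hasGoingDown (P.under R) P]
  set I : Ideal A := (P.under R).map (algebraMap R A) with hI
  have hIP : I ≤ P := Ideal.map_le_iff_le_comap.2 le_rfl
  have hprime : (P.map (Ideal.Quotient.mk I)).IsPrime :=
    Ideal.isPrime_map_quotientMk_of_isPrime hIP
  suffices h : (P.map (Ideal.Quotient.mk I)).height = 0 by rw [h, add_zero]
  have h0 : (P.map (Ideal.Quotient.mk I)).height ≤ (0 : ℕ) := by
    rw [Ideal.height_le_iff]
    intro Q' hQ' hlt
    exfalso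
    set Q : Ideal A := Q'.comap (Ideal.Quotient.mk I) with hQ
    have hQprime : Q.IsPrime := Ideal.comap_isPrime _ _
    have hQP : Q < P := by
      have h1 : Q'.comap (Ideal.Quotient.mk I) <
          (P.map (Ideal.Quotient.mk I)).comap (Ideal.Quotient.mk I) :=
        lt_of_le_of_ne (Ideal.comap_mono hlt.le) (fun h =>
          hlt.ne (Ideal.comap_injective_of_surjective _ Ideal.Quotient.mk_surjective h))
      rwa [Ideal.comap_map_of_surjective' _ Ideal.Quotient.mk_surjective, Ideal.mk_ker,
        sup_of_le_left hIP] at h1
    have hIQ : I ≤ Q := by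
      intro a ha
      show Ideal.Quotient.mk I a ∈ Q'
      rw [Ideal.Quotient.eq_zero_iff_mem.2 ha]
      exact zero_mem _
    have h2 : Q.comap (algebraMap R A) < P.comap (algebraMap R A) :=
      Ideal.IsIntegral.comap_lt_comap hQP
    have h3 : P.comap (algebraMap R A) ≤ Q.comap (algebraMap R A) := by
      intro r hr
      exact hIQ (Ideal.mem_map_of_mem _ hr)
    exact absurd h2 (not_lt_of_ge h3)
  simpa using h0

end Groth.Agent.Helper5.FtDim
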