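import Groth.Agent.Helper5.VarDim14

set_option autoImplicit false
universe u
open AlgebraicGeometry CategoryTheory TopologicalSpace

namespace Groth.Agent.Helper5.VarDim

/-- Variant of `trdeg_fiber` for an arbitrary point of an arbitrary fibre. -/
theorem trdeg_fiber' {X Y : Scheme.{u}} (f : X ⟶ Y) (y : Y) (ζ : ↥(f.fiber y))
    (x : X) (hx : f.fiberι y ζ = x) (hy : f x = y) :
    @Algebra.trdeg (Y.residueField y) ((f.fiber y).residueField ζ) _ _
      (resHom (Y.residueField y) (f.fiberToSpecResidueField y) ζ).toAlgebra =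
    @Algebra.trdeg (Y.residueField (f x)) (X.residueField x) _ _
      (f.residueFieldMap x).hom.toAlgebra := by
  subst hy
  have : ζ = f.asFiber x := by
    apply (f.fiberι (f x)).isEmbedding.injective
    rw [hx, f.fiberι_asFiber]
  rw [this]
  exact trdeg_fiber f x

/-- A nontrivial specialisation strictly drops the transcendence degree of the residue field. -/
theorem trdeg_lt_of_specializes (k : Type u) [Field k] {X : Scheme.{u}}
    (f : X ⟶ Spec (CommRingCat.of k)) [LocallyOfFiniteType f] (x x' : X) (hne : x ≠ x')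
    (hsp : x ⤳ x') :
    @Algebra.trdeg k (X.residueField x') _ _ (resHom k f x').toAlgebra <
      @Algebra.trdeg k (X.residueField x) _ _ (resHom k f x).toAlgebra := by
  obtain ⟨V, hV, hxV⟩ : ∃ V : X.Opens, IsAffineOpen V ∧ x' ∈ V := by
    obtain ⟨_, ⟨V, hV, rfl⟩, hxV, -⟩ :=
      (X.isBasis_affineOpens).exists_subset_of_mem_open (Set.mem_univ x') isOpen_univ
    exact ⟨V, hV, hxV⟩
  have hxV' : x ∈ V := hsp.mem_open V.2 hxV
  let A := Γ(X, V)
  let j : Spec A ⟶ X := hV.fromSpec
  obtain ⟨q, rfl⟩ : ∃ q : PrimeSpectrum A, j q = x' := by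
    have : x' ∈ Set.range j := by rw [hV.range_fromSpec]; exact hxV
    exact this
  obtain ⟨p, rfl⟩ : ∃ p : PrimeSpectrum A, j p = x := by
    have : x ∈ Set.range j := by rw [hV.range_fromSpec]; exact hxV'
    exact this
  have hspec : ∀ a b : PrimeSpectrum A, j a ⤳ j b ↔ a ≤ b := by
    intro a b
    rw [j.isOpenEmbedding.isInducing.specializes_iff]
    exact (PrimeSpectrum.le_iff_specializes a b).symm
  have hpq : @LT.lt (PrimeSpectrum A) _ p q := by
    refine lt_of_le_of_ne ((hspec p q).1 hsp) ?_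
    rintro rfl
    exact hne rfl
  obtain ⟨n, hn1, hn2⟩ := trdeg_eq_coheight_chart k f V hV q
  obtain ⟨m, hm1, hm2⟩ := trdeg_eq_coheight_chart k f V hV p
  have hco : Order.coheight (α := PrimeSpectrum A) q + 1 ≤ Order.coheight (α := PrimeSpectrum A) p :=
    Order.coheight_add_one_le hpq
  rw [hn2, hm2] at hco
  have hnm : n + 1 ≤ m := by exact_mod_cast hco
  show @Algebra.trdeg k (X.residueField (j q)) _ _ (resHom k f (j q)).toAlgebra <
      @Algebra.trdeg k (X.residueField (j p)) _ _ (resHom k f (j p)).toAlgebra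
  rw [hn1, hm1]
  exact_mod_cast Nat.lt_of_succ_le hnm

/-- Nontrivial specialisations inside a fibre strictly drop the relative transcendence degree. -/
theorem trdeg_lt_of_specializes_fiber {X S : Scheme.{u}} (f : X ⟶ S) [LocallyOfFiniteType f]
    (x x' : X) (hsp : x ⤳ x') (hne : x ≠ x') (hfx : f x = f x') :
    @Algebra.trdeg (S.residueField (f x')) (X.residueField x') _ _
        (f.residueFieldMap x').hom.toAlgebra <
      @Algebra.trdeg (S.residueField (f x)) (X.residueField x) _ _
        (f.residueFieldMap x).hom.toAlgebra := by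
  let s := f x'
  let ζ' : ↥(f.fiber s) := f.asFiber x'
  let ζ : ↥(f.fiber s) := (f.fiberHomeo s).symm ⟨x, hfx⟩
  have hζ : f.fiberι s ζ = x := f.fiberι_fiberHomeo_symm s ⟨x, hfx⟩
  have hζ' : f.fiberι s ζ' = x' := f.fiberι_asFiber x'
  have hft : LocallyOfFiniteType (f.fiberToSpecResidueField s) :=
    inferInstanceAs (LocallyOfFiniteType (Limits.pullback.snd f (S.fromSpecResidueField s)))
  have hsp' : ζ ⤳ ζ' := by
    rw [← (f.fiberι s).isEmbedding.isInducing.specializes_iff, hζ, hζ']
    exact hsp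
  have hne' : ζ ≠ ζ' := by
    intro h
    apply hne
    rw [← hζ, ← hζ', h]
  have key := trdeg_lt_of_specializes (S.residueField s) (f.fiberToSpecResidueField s) ζ ζ' hne' hsp'
  rw [trdeg_fiber' f s ζ x hζ hfx, trdeg_fiber' f s ζ' x' hζ' rfl] at key
  exact key

end Groth.Agent.Helper5.VarDim
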