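import Groth.Prelude.Def_DRing3
import Mathlib.Algebra.Category.ModuleCat.FilteredColimits
import Mathlib.CategoryTheory.Limits.ConcreteCategory.Basic
import Mathlib.CategoryTheory.Limits.Types.Filtered

universe u
open CategoryTheory CategoryTheory.Limits

namespace Groth.Agent.Helper5.GammaColim

variable {R : Type u} [CommRing R] (I : Ideal R)

theorem gammaI_preservesDirected [IsNoetherianRing R] (Λ : Type u) [PartialOrder Λ]
    [IsDirected Λ (· ≤ ·)] [Nonempty Λ] : PreservesColimitsOfShape Λ (DRing.gammaI I) := by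
  classical
  constructor
  intro K
  apply preservesColimit_of_preserves_colimit_cocone (colimit.isColimit K)
  apply isColimitOfReflects (forget (ModuleCat.{u} R))
  apply Types.FilteredColimit.isColimitOf
  · rintro ⟨x, n, hn⟩
    obtain ⟨l, xl, hxl⟩ := Concrete.isColimit_exists_rep K (colimit.isColimit K) x
    -- I^n finitely generated
    obtain ⟨s, hs⟩ := (IsNoetherian.noetherian (I ^ n) : (I ^ n).FG)
    have h1 : ∀ a ∈ s, ∃ m : Λ, ∃ h : l ≤ m, (K.map (homOfLE h)).hom (a • xl) = 0 := by
      intro a ha
      have ha' : a ∈ I ^ n := by rw [← hs]; exact Submodule.subset_span ha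
      have h0 : (colimit.ι K l).hom (a • xl) = (colimit.ι K l).hom 0 := by
        rw [map_smul, map_zero]
        have := hn a ha'
        rw [← hxl] at this
        exact this
      obtain ⟨k, f, g, hk⟩ := (Concrete.isColimit_rep_eq_iff_exists K (colimit.isColimit K)
        (a • xl) (0 : K.obj l)).mp h0
      refine ⟨k, leOfHom f, ?_⟩
      have : (K.map g).hom (0 : K.obj l) = 0 := map_zero _
      rw [← this]
      exact hk
    choose! mf hmf using h1
    obtain ⟨m0, hm0⟩ := Finset.exists_le (s.image mf)
    obtain ⟨m, hlm, hm0m⟩ := exists_ge_ge l m0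
    have hkill : ∀ a ∈ I ^ n, a • (K.map (homOfLE hlm)).hom xl = 0 := by
      intro a ha
      rw [← hs] at ha
      refine Submodule.span_induction ?_ ?_ ?_ ?_ ha
      · intro b hb
        obtain ⟨hb1, hb2⟩ := hmf b hb
        have hbm : mf b ≤ m := (hm0 _ (Finset.mem_image_of_mem mf hb)).trans hm0m
        have : homOfLE hlm = homOfLE hb1 ≫ homOfLE hbm := rfl
        rw [← map_smul, this, K.map_comp, ModuleCat.hom_comp, LinearMap.comp_apply, hb2, map_zero]
      · simp
      · intro y z _ _ hy hz
        rw [add_smul, hy, hz, add_zero]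
      · intro r y _ hy
        rw [smul_eq_mul, mul_smul, hy, smul_zero]
    refine ⟨m, ⟨(K.map (homOfLE hlm)).hom xl, n, hkill⟩, ?_⟩
    apply Subtype.ext
    show x = (colimit.ι K m).hom ((K.map (homOfLE hlm)).hom xl)
    rw [← hxl]
    have := colimit.w K (homOfLE hlm)
    show (colimit.ι K l).hom xl = _
    rw [← this]
    rfl
  · rintro i j ⟨xi, hxi⟩ ⟨xj, hxj⟩ h
    have h' : (colimit.ι K i).hom xi = (colimit.ι K j).hom xj := congrArg Subtype.val h
    obtain ⟨k, f, g, hk⟩ := (Concrete.isColimit_rep_eq_iff_exists K (colimit.isColimit K)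
        xi xj).mp h'
    exact ⟨k, f, g, Subtype.ext hk⟩

end Groth.Agent.Helper5.GammaColim
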