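import Mathlib

set_option autoImplicit false
universe u
open CategoryTheory CategoryTheory.Limits AlgebraicGeometry

namespace Groth.Agent.Helper5.FieldUnram

variable (k : Type u) [Field k] {X : Scheme.{u}} (f : X ⟶ Spec (CommRingCat.of k))

/-- The structure map `k → Γ(X, U)`. -/
noncomputable def ρ (U : X.Opens) : CommRingCat.of k ⟶ Γ(X, U) :=
  (Scheme.ΓSpecIso (CommRingCat.of k)).inv ≫ f.appLE ⊤ U le_top

theorem ρ_finiteType [LocallyOfFiniteType f] (U : X.Opens) (hU : IsAffineOpen U) :
    (ρ k f U).hom.FiniteType :=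
  (RingHom.finiteType_respectsIso.cancel_left_isIso _ _).2
    (f.finiteType_appLE (isAffineOpen_top _) hU le_top)

theorem ρ_formallyUnramified [FormallyUnramified f] (U : X.Opens) (hU : IsAffineOpen U) :
    (ρ k f U).hom.FormallyUnramified :=
  (RingHom.FormallyUnramified.respectsIso.cancel_left_isIso _ _).2
    (f.formallyUnramified_appLE (isAffineOpen_top _) hU le_top)

theorem fromSpec_comp (U : X.Opens) (hU : IsAffineOpen U) :
    hU.fromSpec ≫ f = Spec.map (ρ k f U) := by
  rw [ρ, Spec.map_comp, ← Scheme.isoSpec_Spec_inv, ← IsAffineOpen.fromSpec_top,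
    IsAffineOpen.SpecMap_appLE_fromSpec]

/-- `Γ(X, U)` is a finite `k`-algebra for affine opens `U`. -/
theorem isArtinianRing_of_isAffineOpen [FormallyUnramified f] [LocallyOfFiniteType f]
    (U : X.Opens) (hU : IsAffineOpen U) : IsArtinianRing Γ(X, U) := by
  have h1 := ρ_finiteType k f U hU
  have h2 := ρ_formallyUnramified k f U hU
  algebraize [(ρ k f U).hom]
  have := Algebra.FormallyUnramified.finite_of_free k Γ(X, U)
  exact IsArtinianRing.of_finite k Γ(X, U)

theorem isLocallyArtinian [FormallyUnramified f] [LocallyOfFiniteType f] :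
    IsLocallyArtinian X :=
  ⟨fun U => isArtinianRing_of_isAffineOpen k f U.1 U.2⟩

end Groth.Agent.Helper5.FieldUnram
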