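import Groth.Agent.Helper5.FtDim6
import Groth.Agent.Helper5.FieldUnram

set_option autoImplicit false
universe u
open AlgebraicGeometry CategoryTheory

namespace Groth.Agent.Helper5.VarDim

variable (k : Type u) [Field k] {X : Scheme.{u}} (f : X ⟶ Spec (CommRingCat.of k))

/-- In an irreducible scheme locally of finite type over a field, the codimension of every point
is bounded by the dimension of any nonempty open subset. -/
theorem coheight_le_dim_open [LocallyOfFiniteType f] [IrreducibleSpace X]
    (U : X.Opens) (hU : (U : Set X).Nonempty) (y : X) :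
    ((Order.coheight y : ℕ∞) : WithBot ℕ∞) ≤ topologicalKrullDim ↥(U : Set X) := by
  obtain ⟨V, hV, hyV⟩ : ∃ V : X.Opens, IsAffineOpen V ∧ y ∈ V := by
    obtain ⟨_, ⟨V, hV, rfl⟩, hyV, -⟩ :=
      (X.isBasis_affineOpens).exists_subset_of_mem_open (Set.mem_univ y) isOpen_univ
    exact ⟨V, hV, hyV⟩
  let A := Γ(X, V)
  let j : Spec A ⟶ X := hV.fromSpec
  let _ : Algebra k A := (Groth.Agent.Helper5.FieldUnram.ρ k f V).hom.toAlgebra
  have hft : Algebra.FiniteType k A := Groth.Agent.Helper5.FieldUnram.ρ_finiteType k f V hV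
  have hne : Nonempty (PrimeSpectrum A) := ⟨hV.primeIdealOf ⟨y, hyV⟩⟩
  have hirr : IrreducibleSpace (PrimeSpectrum A) := by
    have h1 : IsPreirreducible (j ⁻¹' (Set.univ : Set X)) :=
      (IrreducibleSpace.isIrreducible_univ X).isPreirreducible.preimage j.isOpenEmbedding
    rw [Set.preimage_univ] at h1
    have : PreirreducibleSpace (PrimeSpectrum A) := ⟨h1⟩
    exact { toPreirreducibleSpace := this, toNonempty := hne }
  let W : (Spec A).Opens := j ⁻¹ᵁ U
  have hWne : (W.1 : Set (PrimeSpectrum A)).Nonempty := by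
    obtain ⟨z, -, hzU, hzV⟩ := (IrreducibleSpace.isIrreducible_univ X).isPreirreducible
      U V U.isOpen V.isOpen (by simpa using hU) (by simpa using ⟨y, hyV⟩)
    have hzr : z ∈ Set.range j := by rw [hV.range_fromSpec]; exact hzV
    obtain ⟨q, rfl⟩ := hzr
    exact ⟨q, hzU⟩
  have h1 := Groth.Agent.Helper5.FtDim.dim_open_of_irreducible k A W.1 W.2 hWne
  have h2 := Groth.Agent.Helper5.FtDim.dim_open_eq_iSup_height A W.1 W.2
  -- the point y
  have hyr : y ∈ Set.range j := by rw [hV.range_fromSpec]; exact hyV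
  obtain ⟨q, rfl⟩ := hyr
  have h3 : Order.coheight (j q) = Order.coheight q := coheight_eq_of_isOpenImmersion j
  have h4 := idealHeight_eq_coheight A q
  rw [h3, ← h4]
  have h5 : (q.asIdeal.height : WithBot ℕ∞) ≤ ringKrullDim A := Ideal.height_le_ringKrullDim_of_isPrime
  refine h5.trans ?_
  rw [← h1, h2]
  refine iSup_le fun q' => ?_
  rw [Groth.Agent.Helper5.EtDim.topologicalKrullDim_opens]
  have h6 := idealHeight_eq_coheight A q'.1
  have h7 := coheight_eq_of_isOpenImmersion (x := (q'.1 : ↥(Spec A))) j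
  rw [h6, ← h7]
  exact le_iSup (fun z : ↥U => ((Order.coheight (z : ↥X) : ℕ∞) : WithBot ℕ∞)) ⟨j q'.1, q'.2⟩

/-- Every nonempty open of an irreducible scheme locally of finite type over a field has the
same dimension as the whole scheme. -/
theorem dim_open_eq [LocallyOfFiniteType f] [IrreducibleSpace X]
    (U : X.Opens) (hU : (U : Set X).Nonempty) :
    topologicalKrullDim ↥(U : Set X) = topologicalKrullDim X := by
  apply le_antisymm (topologicalKrullDim_subspace_le _ _)
  rw [Groth.Agent.Helper5.EtDim.topologicalKrullDim_eq_iSup_coheight]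
  exact iSup_le fun y => coheight_le_dim_open k f U hU y

end Groth.Agent.Helper5.VarDim
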