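import Groth.Agent.Helper5.VarDim3

set_option autoImplicit false
universe u
open AlgebraicGeometry CategoryTheory TopologicalSpace

namespace Groth.Agent.Helper5.VarDim

/-- The dimension formula at a point of a scheme locally of finite type over a field:
`dim_x X = dim O_{X,x} + trdeg_k κ(x)`. -/
theorem localDim_formula (k : Type u) [Field k] {X : Scheme.{u}}
    (f : X ⟶ Spec (CommRingCat.of k)) [LocallyOfFiniteType f] (x : X) :
    ∃ n : ℕ, @Algebra.trdeg k (X.residueField x) _ _ (resHom k f x).toAlgebra = n ∧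
      FlatMor.localDim X x = ringKrullDim (X.presheaf.stalk x) + (n : WithBot ℕ∞) ∧
      (IsClosed ({x} : Set X) → n = 0) := by
  obtain ⟨V, hV, hxV⟩ : ∃ V : X.Opens, IsAffineOpen V ∧ x ∈ V := by
    obtain ⟨_, ⟨V, hV, rfl⟩, hxV, -⟩ :=
      (X.isBasis_affineOpens).exists_subset_of_mem_open (Set.mem_univ x) isOpen_univ
    exact ⟨V, hV, hxV⟩
  let A := Γ(X, V)
  let j : Spec A ⟶ X := hV.fromSpec
  let _ : Algebra k A := (Groth.Agent.Helper5.FieldUnram.ρ k f V).hom.toAlgebra
  have hft : Algebra.FiniteType k A := Groth.Agent.Helper5.FieldUnram.ρ_finiteType k f V hV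
  have hxr : x ∈ Set.range j := by rw [hV.range_fromSpec]; exact hxV
  obtain ⟨q, rfl⟩ := hxr
  have hjf : j ≫ f = Spec.map (CommRingCat.ofHom (algebraMap k A)) :=
    Groth.Agent.Helper5.FieldUnram.fromSpec_comp k f V hV
  obtain ⟨n, hn1, hn2⟩ := Groth.Agent.Helper5.FtDim.dim_eq_trdeg k (A ⧸ q.asIdeal)
    q.asIdeal.ResidueField
  refine ⟨n, ?_, ?_, ?_⟩
  · rw [trdeg_resHom_of_isOpenImmersion k j f q, ← hn2]
    have := trdeg_resHom_Spec k A q
    rw [← this]
    congr 2
    rw [hjf]
  · rw [← Groth.Agent.Helper5.EtDim.localDim_eq_of_etale j q]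
    have h1 := Groth.Agent.Helper5.FtDim.localDim_eq k A q
    have h2 := Groth.Agent.Helper5.FtDim.ringKrullDim_quotient_eq_coheight q
    rw [hn1] at h2
    have h3 : ((Order.coheight (α := PrimeSpectrum A) q : ℕ∞) : WithBot ℕ∞) = (n : WithBot ℕ∞) :=
      h2.symm
    have h4 : Order.coheight (α := PrimeSpectrum A) q = (n : ℕ∞) := by exact_mod_cast h3
    refine h1.trans ?_
    rw [h4, ← PrimeSpectrum.height_eq_orderHeight, idealHeight_eq_coheight A q,
      ← coheight_eq_of_isOpenImmersion (x := q) j, ringKrullDim_stalk_eq_coheight]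
    push_cast
    rfl
  · intro hcl
    have hq : IsClosed ({q} : Set (PrimeSpectrum A)) := by
      have : ({q} : Set (PrimeSpectrum A)) = j ⁻¹' {j q} := by
        ext z
        constructor
        · intro h
          rw [Set.mem_singleton_iff.1 h]
          exact rfl
        · intro h
          exact j.isOpenEmbedding.injective h
      rw [this]
      exact hcl.preimage j.continuous
    have hmax : q.asIdeal.IsMaximal := (PrimeSpectrum.isClosed_singleton_iff_isMaximal q).1 hq
    have h2 := Groth.Agent.Helper5.FtDim.ringKrullDim_quotient_eq_coheight q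
    rw [hn1, Groth.Agent.Helper5.FtDim.coheight_eq_zero_of_isMaximal q hmax] at h2
    exact_mod_cast h2

end Groth.Agent.Helper5.VarDim
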