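import Mathlib
import Groth.Agent.Helper5.GenFlat1
import Groth.Agent.Helper4.SecDict
import Groth.Prelude.Def_FlatMod2

set_option autoImplicit false
universe u
open CategoryTheory CategoryTheory.Limits AlgebraicGeometry TopologicalSpace Opposite

namespace Groth.Agent.Helper5.GenFlat
open Groth.Agent.Helper4

theorem key {X Y : Scheme.{u}} (u : X ⟶ Y) [IsIntegral Y] [LocallyOfFiniteType u]
    (F : X.Modules) (hq : SheafOfModules.IsQuasicoherent (R := X.ringCatSheaf) F)
    (hF : SheafOfModules.IsFiniteType (R := X.ringCatSheaf) F)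
    {V : Y.Opens} (hV : IsAffineOpen V) [Nonempty V] {W : X.Opens} (hW : IsAffineOpen W)
    (e : W ≤ u ⁻¹ᵁ V) :
    ∃ f : Γ(Y, V), f ≠ 0 ∧ ∀ x (hx : x ∈ W), u x ∈ Y.basicOpen f →
      FlatMod.IsFlatOverAt u F x := by
  haveI : F.IsQuasicoherent := hq
  letI alg : Algebra Γ(Y, V) Γ(X, W) := (u.appLE V W e).hom.toAlgebra
  haveI : Algebra.FiniteType Γ(Y, V) Γ(X, W) :=
    HasRingHomProperty.appLE (P := @LocallyOfFiniteType) u inferInstance ⟨V, hV⟩ ⟨W, hW⟩ e
  letI modR : Module Γ(Y, V) Γ(F, W) := Module.compHom _ (u.appLE V W e).hom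
  haveI : IsScalarTower Γ(Y, V) Γ(X, W) Γ(F, W) :=
    IsScalarTower.of_algebraMap_smul fun r m => rfl
  haveI : Module.Finite Γ(X, W) Γ(F, W) := SecDict.finite_sections hW F hq hF
  obtain ⟨f, hf, H⟩ := exists_flat_localizations (R := Γ(Y, V)) (A := Γ(X, W)) (M := Γ(F, W))
  refine ⟨f, hf, fun x hx hux => ?_⟩
  have hVx : u x ∈ V := e hx
  letI mA : Module Γ(X, W) (F.presheaf.stalk x) := StalkDict.sectionModStalk F x hx
  letI mR : Module Γ(Y, V) (F.presheaf.stalk x) :=
    Module.compHom _ ((X.presheaf.germ W x hx).hom.comp (u.appLE V W e).hom)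
  haveI : IsScalarTower Γ(Y, V) Γ(X, W) (F.presheaf.stalk x) :=
    IsScalarTower.of_algebraMap_smul fun r m => rfl
  haveI := StalkDict.isLocalizedModule_germ hW F x hx
  have hmem : algebraMap Γ(Y, V) Γ(X, W) f ∈ (hW.primeIdealOf ⟨x, hx⟩).asIdeal.primeCompl := by
    show (u.appLE V W e).hom f ∉ (hW.primeIdealOf ⟨x, hx⟩).asIdeal
    rw [← StalkDict.mem_basicOpen_iff_notMem_primeIdealOf hW x hx, Scheme.mem_basicOpen _ _ _ hx]
    have h1 : IsUnit (Y.presheaf.germ V (u x) hVx f) := (Y.mem_basicOpen f (u x) hVx).mp hux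
    have h2 := h1.map (u.stalkMap x).hom
    rw [Scheme.Hom.germ_stalkMap_apply] at h2
    rw [Scheme.Hom.appLE, CommRingCat.comp_apply, TopCat.Presheaf.germ_res_apply]
    exact h2
  have hflatR : Module.Flat Γ(Y, V) (F.presheaf.stalk x) :=
    H _ hmem _ (StalkDict.germLin F x hx)
  unfold FlatMod.IsFlatOverAt
  letI := FlatMod.moduleStalkOver u F x
  letI algS : Algebra Γ(Y, V) (Y.presheaf.stalk (u x)) :=
    (Y.presheaf.germ V (u x) hVx).hom.toAlgebra
  haveI : IsLocalization.AtPrime (Y.presheaf.stalk (u x))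
      (hV.primeIdealOf ⟨u x, hVx⟩).asIdeal := hV.isLocalization_stalk ⟨u x, hVx⟩
  haveI : IsScalarTower Γ(Y, V) (Y.presheaf.stalk (u x)) (F.presheaf.stalk x) :=
    IsScalarTower.of_algebraMap_smul fun r m => by
      show (u.stalkMap x).hom (Y.presheaf.germ V (u x) hVx r) • m =
        (X.presheaf.germ W x hx) ((u.appLE V W e).hom r) • m
      rw [Scheme.Hom.germ_stalkMap_apply, Scheme.Hom.appLE, CommRingCat.comp_apply,
        TopCat.Presheaf.germ_res_apply]
  exact (Module.flat_iff_of_isLocalization (Y.presheaf.stalk (u x))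
    (hV.primeIdealOf ⟨u x, hVx⟩).asIdeal.primeCompl _).mpr hflatR

end Groth.Agent.Helper5.GenFlat
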