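import Mathlib
import Groth.Agent.Helper5.GenFlat2

set_option autoImplicit false
universe u
open CategoryTheory CategoryTheory.Limits AlgebraicGeometry TopologicalSpace Opposite

namespace Groth.Agent.Helper5.GenFlat
open Groth.Agent.Helper4

theorem basicOpen_le_of_dvd {Y : Scheme.{u}} {V : Y.Opens} {a b : Γ(Y, V)} (h : a ∣ b) :
    Y.basicOpen b ≤ Y.basicOpen a := by
  obtain ⟨c, rfl⟩ := h
  rw [Scheme.basicOpen_mul]; exact inf_le_left

/-- Generic flatness for a quasi-coherent module of finite type over an integral base. -/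
theorem main {X Y : Scheme.{u}} (u : X ⟶ Y) [IsIntegral Y] [LocallyOfFiniteType u]
    [QuasiCompact u] (F : X.Modules)
    (hq : SheafOfModules.IsQuasicoherent (R := X.ringCatSheaf) F)
    (hF : SheafOfModules.IsFiniteType (R := X.ringCatSheaf) F) :
    ∃ U : Y.Opens, (U : Set Y).Nonempty ∧
      ∀ x : X, u.base x ∈ U → FlatMod.IsFlatOverAt u F x := by
  obtain ⟨y⟩ : Nonempty Y := inferInstance
  obtain ⟨_, ⟨V, hV : IsAffineOpen V, rfl⟩, hyV, -⟩ :=
    Y.isBasis_affineOpens.exists_subset_of_mem_open (Set.mem_univ y) isOpen_univ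
  haveI : Nonempty V := ⟨⟨y, hyV⟩⟩
  have hc : IsCompact (u ⁻¹ᵁ V : Set X) := u.isCompact_preimage hV.isCompact
  obtain ⟨s, hs, hsU⟩ := isCompact_iff_finite_and_eq_biUnion_affineOpens.mp hc
  have hle : ∀ W ∈ s, (W : X.Opens) ≤ u ⁻¹ᵁ V := fun W hW =>
    hsU ▸ le_iSup₂ (f := fun (i : X.affineOpens) (_ : i ∈ s) => (i : X.Opens)) W hW
  choose! f hf0 hfl using fun (W : X.affineOpens) (hW : W ∈ s) =>
    key u F hq hF hV W.2 (hle W hW)
  let g : Γ(Y, V) := ∏ W ∈ hs.toFinset, f W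
  have hg : g ≠ 0 := Finset.prod_ne_zero_iff.mpr fun W hW => hf0 W (hs.mem_toFinset.mp hW)
  refine ⟨Y.basicOpen g, ?_, fun x hx => ?_⟩
  · have : Y.basicOpen g ≠ ⊥ := fun h => hg ((AlgebraicGeometry.basicOpen_eq_bot_iff g).mp h)
    exact (Opens.ne_bot_iff_nonempty _).mp this
  · have hxV : x ∈ u ⁻¹ᵁ V := Y.basicOpen_le g hx
    rw [hsU] at hxV
    obtain ⟨W, hW, hxW⟩ : ∃ W ∈ s, x ∈ (W : X.Opens) := by
      simpa [Opens.mem_iSup] using hxV
    exact hfl W hW x hxW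
      (basicOpen_le_of_dvd (Finset.dvd_prod_of_mem f (hs.mem_toFinset.mpr hW)) hx)

end Groth.Agent.Helper5.GenFlat
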