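import Mathlib
import Groth.Prelude.Def_StabCat

set_option autoImplicit false
open Polynomial Filter

namespace Groth.Agent.Helper5.ShStabPoly

/-- polynomials agreeing on all natural numbers are equal -/
theorem eq_of_eval_nat {P Q : ℚ[X]} (h : ∀ m : ℕ, P.eval (m : ℚ) = Q.eval (m : ℚ)) : P = Q := by
  refine Polynomial.eq_of_infinite_eval_eq P Q ?_
  refine Set.infinite_of_injective_forall_mem (f := fun m : ℕ => (m : ℚ)) Nat.cast_injective ?_
  intro m
  exact h m

/-- polynomials agreeing on all large natural numbers are equal -/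
theorem eq_of_eventually_eval_nat {P Q : ℚ[X]}
    (h : ∀ᶠ m : ℕ in atTop, P.eval (m : ℚ) = Q.eval (m : ℚ)) : P = Q := by
  obtain ⟨N, hN⟩ := eventually_atTop.mp h
  refine Polynomial.eq_of_infinite_eval_eq P Q ?_
  refine Set.infinite_of_injective_forall_mem (f := fun m : ℕ => ((m + N : ℕ) : ℚ)) ?_ ?_
  · intro a b hab
    have : a + N = b + N := Nat.cast_injective hab
    omega
  · intro m
    exact hN (m + N) (by omega)

/-- a polynomial of degree `≤ d` that is eventually nonnegative has nonnegative `d`-th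
coefficient -/
theorem coeff_nonneg {P : ℚ[X]} {d : ℕ} (hd : P.natDegree ≤ d)
    (h : ∀ᶠ m : ℕ in atTop, 0 ≤ P.eval (m : ℚ)) : 0 ≤ P.coeff d := by
  by_contra hneg
  push Not at hneg
  have hdeg : P.natDegree = d := by
    refine le_antisymm hd ?_
    exact Polynomial.le_natDegree_of_ne_zero hneg.ne
  have hlc : P.leadingCoeff < 0 := by
    rw [Polynomial.leadingCoeff, hdeg]; exact hneg
  rcases Nat.eq_zero_or_pos d with h0 | hpos
  · subst h0
    rw [Polynomial.eq_C_of_natDegree_eq_zero hdeg] at h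
    obtain ⟨m, hm⟩ := h.exists
    rw [Polynomial.eval_C] at hm
    exact absurd hm (not_le.mpr hneg)
  · have hdeg' : 0 < P.degree := by
      rw [Polynomial.degree_eq_natDegree (by rintro rfl; simp at hneg)]
      exact_mod_cast (hdeg ▸ hpos)
    have ht := Polynomial.tendsto_atBot_of_leadingCoeff_nonpos P hdeg' hlc.le
    have ht' := ht.comp (tendsto_natCast_atTop_atTop (R := ℚ))
    have hev : ∀ᶠ m : ℕ in atTop, P.eval (m : ℚ) < 0 :=
      ht'.eventually (eventually_lt_atBot 0)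
    obtain ⟨m, hm1, hm2⟩ := (h.and hev).exists
    exact absurd hm1 (not_le.mpr hm2)

theorem alpha_nonneg {P : ℚ[X]} {d : ℕ} (hd : P.natDegree ≤ d)
    (h : ∀ᶠ m : ℕ in atTop, 0 ≤ P.eval (m : ℚ)) : 0 ≤ StabCat.alpha d P := by
  unfold StabCat.alpha
  exact mul_nonneg (by positivity) (coeff_nonneg hd h)

theorem alpha_add (d : ℕ) (P Q : ℚ[X]) :
    StabCat.alpha d (P + Q) = StabCat.alpha d P + StabCat.alpha d Q := by
  unfold StabCat.alpha
  rw [Polynomial.coeff_add]; ring

theorem alpha_eq_zero_of_natDegree_lt {P : ℚ[X]} {d : ℕ} (hd : P.natDegree < d) :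
    StabCat.alpha d P = 0 := by
  unfold StabCat.alpha
  rw [Polynomial.coeff_eq_zero_of_natDegree_lt hd, mul_zero]

theorem polyLE_iff {P Q : ℚ[X]} :
    StabCat.PolyLE P Q ↔ ∀ᶠ m : ℕ in atTop, P.eval (m : ℚ) ≤ Q.eval (m : ℚ) := by
  unfold StabCat.PolyLE
  rw [eventually_atTop]

theorem polyLT_iff {P Q : ℚ[X]} :
    StabCat.PolyLT P Q ↔ ∀ᶠ m : ℕ in atTop, P.eval (m : ℚ) < Q.eval (m : ℚ) := by
  unfold StabCat.PolyLT
  rw [eventually_atTop]

theorem redLE_iff {d : ℕ} {P Q : ℚ[X]} :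
    StabCat.RedLE d P Q ↔ ∀ᶠ m : ℕ in atTop,
      StabCat.alpha d Q * P.eval (m : ℚ) ≤ StabCat.alpha d P * Q.eval (m : ℚ) := by
  unfold StabCat.RedLE
  rw [polyLE_iff]
  simp only [Polynomial.eval_smul, smul_eq_mul]

theorem redLT_iff {d : ℕ} {P Q : ℚ[X]} :
    StabCat.RedLT d P Q ↔ ∀ᶠ m : ℕ in atTop,
      StabCat.alpha d Q * P.eval (m : ℚ) < StabCat.alpha d P * Q.eval (m : ℚ) := by
  unfold StabCat.RedLT
  rw [polyLT_iff]
  simp only [Polynomial.eval_smul, smul_eq_mul]

theorem redEq_eval {d : ℕ} {P Q : ℚ[X]} (h : StabCat.RedEq d P Q) (x : ℚ) :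
    StabCat.alpha d Q * P.eval x = StabCat.alpha d P * Q.eval x := by
  unfold StabCat.RedEq at h
  have := congrArg (Polynomial.eval x) h
  simpa only [Polynomial.eval_smul, smul_eq_mul] using this

theorem redEq_of_redLE {d : ℕ} {P Q : ℚ[X]} (h1 : StabCat.RedLE d P Q) (h2 : StabCat.RedLE d Q P) :
    StabCat.RedEq d P Q := by
  rw [redLE_iff] at h1 h2
  unfold StabCat.RedEq
  apply eq_of_eventually_eval_nat
  filter_upwards [h1, h2] with m hm1 hm2
  simp only [Polynomial.eval_smul, smul_eq_mul]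
  exact le_antisymm hm1 hm2

end Groth.Agent.Helper5.ShStabPoly
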