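import Mathlib
import Groth.Prelude.Def_ShStab
import Groth.Agent.Helper5.ShStabPoly
import Groth.Agent.S1528
import Groth.Agent.S1524
import Groth.Agent.S0051
import Groth.Agent.S2325
import Groth.Agent.S0002
import Groth.Agent.Helper4.SN21
import Groth.Agent.Helper4.SN1
import Groth.Agent.Helper1.TwistExact
import Groth.Agent.Lead.EpiPull
import Groth.Agent.Lead.PerfLib5
import Groth.Agent.Lead.ProperFinA
import Groth.Agent.Helper4.TensorInv
import Groth.Agent.Helper4.AmpleLocal
import Groth.Agent.Lead.Ref1B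

/-!
# Hilbert polynomials of coherent sheaves on a proper scheme: toolkit
-/

set_option autoImplicit false
set_option linter.style.haveILetI false

namespace Groth.Agent.Helper5.ShStab1

open CategoryTheory Limits AlgebraicGeometry Opposite Polynomial Filter

universe u

variable (k : Type u) [Field k] (X : Scheme.{u}) [X.Over (Spec (CommRingCat.of k))]

section general

variable {X}

theorem isCoh_twist (L E : X.Modules) (hL : PicF.IsInvertible L) (hE : Coh.IsCoh E) (m : ℕ) :
    Coh.IsCoh (ShStab.twist X L E m) :=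
  Groth.Agent.Lead.Ref1B.isCoh_tensorMod _ _ hE
    (Groth.Agent.Helper1.SerreFin.isCoh_of_isInvertible _
      (Groth.Agent.Helper4.TensorInv.isInvertible_tensorPow hL m))

theorem support_twist (L E : X.Modules) (hL : PicF.IsInvertible L) (m : ℕ) :
    CohB1.support (ShStab.twist X L E m) = CohB1.support E :=
  Groth.Agent.Helper4.SN.support_tensorMod_eq_left E _
    (Groth.Agent.Helper4.TensorInv.isInvertible_tensorPow hL m)

theorem isZero_twist_iff (L E : X.Modules) (hL : PicF.IsInvertible L) (m : ℕ) :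
    IsZero (ShStab.twist X L E m) ↔ IsZero E := by
  rw [Groth.Agent.Lead.EpiPull.isZero_iff_support, support_twist L E hL m,
    ← Groth.Agent.Lead.EpiPull.isZero_iff_support]

/-- a nonzero globally generated module has a nonzero global section -/
theorem not_subsingleton_HH0 (M : X.Modules) (hgg : Curv2.IsGloballyGenerated M)
    (h0 : ¬ IsZero M) : ¬ Subsingleton (Coh.HH X M 0) := by
  intro hsub
  obtain ⟨ι, p, hp⟩ := hgg
  apply h0
  haveI : Subsingleton ((Coh.toAb M).obj.obj (op ⊤)) :=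
    (Groth.Agent.Lead.ProperFinA.h0Equiv M).symm.toEquiv.subsingleton
  have hp0 : p = 0 := by
    apply (SheafOfModules.isColimitFreeCofan (R := X.ringCatSheaf) ι).hom_ext
    rintro ⟨i⟩
    change SheafOfModules.ιFree i ≫ p = SheafOfModules.ιFree i ≫ 0
    rw [Limits.comp_zero]
    apply Groth.Agent.Helper4.AmpleLocal.unit_hom_ext
    exact Subsingleton.elim (α := (Coh.toAb M).obj.obj (op ⊤)) _ _
  rw [IsZero.iff_id_eq_zero]
  haveI := hp
  have h1 : p ≫ 𝟙 M = p ≫ 0 := by rw [hp0]; simp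
  exact (cancel_epi p).mp h1

end general

theorem euler_eq_finrank_of_vanishing (M : X.Modules)
    (h : ∀ p : ℕ, 0 < p → Subsingleton (Coh.HH X M p)) :
    Curv2.euler k X M = (Module.finrank k (Coh.HH X M 0) : ℤ) := by
  unfold Curv2.euler
  rw [finsum_eq_single _ 0 (fun i hi => by
    haveI := h i (by omega)
    rw [Module.finrank_zero_of_subsingleton]
    simp)]
  simp

variable {X}

theorem hilbPoly_unique {L E : X.Modules} {P Q : ℚ[X]} (hP : ShStab.IsHilbPoly k X L E P)
    (hQ : ShStab.IsHilbPoly k X L E Q) : P = Q :=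
  Groth.Agent.Helper5.ShStabPoly.eq_of_eval_nat (fun m => (hP m).symm.trans (hQ m))

theorem hilbPoly_of_iso {L E E' : X.Modules} (e : E ≅ E') {P : ℚ[X]}
    (hP : ShStab.IsHilbPoly k X L E P) : ShStab.IsHilbPoly k X L E' P := by
  intro m
  rw [← hP m]
  congr 1
  exact (Groth.Agent.Helper4.SN.chi_iso k (PicGrp.tensorModIso e (Iso.refl _))).symm

theorem hilbPoly_zero {L E : X.Modules} (hL : PicF.IsInvertible L) (hE : IsZero E) :
    ShStab.IsHilbPoly k X L E 0 := by
  intro m
  rw [Polynomial.eval_zero]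
  have := Groth.Agent.Helper4.SN.chi_of_isZero k ((isZero_twist_iff L E hL m).mpr hE)
  unfold Groth.Agent.Helper4.SN.chi at this
  rw [this]; simp

variable [IsProper (X ↘ Spec (CommRingCat.of k))]

theorem exists_hilbPoly {L : X.Modules} (hL : PicF.IsInvertible L) (E : X.Modules)
    (hE : Coh.IsCoh E) (n : ℕ) (hn : topologicalKrullDim (CohB1.support E) ≤ n) :
    ∃ P : ℚ[X], ShStab.IsHilbPoly k X L E P ∧ P.natDegree ≤ n := by
  obtain ⟨P, hdeg, hP⟩ := Groth.Agent.S1528.result k X E hE n hn 1 (fun _ => L) (fun _ => hL)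
  refine ⟨MvPolynomial.aeval (fun _ : Fin 1 => (Polynomial.X : ℚ[X])) P, ?_, ?_⟩
  · intro m
    have h := hP (fun _ => m)
    have e : ShStab.twist X L E m = Curv2.tensorPows E 1 (fun _ => L) (fun _ => m) := rfl
    rw [e, h]
    have h1 : (Polynomial.aeval ((m : ℕ) : ℚ)).comp
        (MvPolynomial.aeval (fun _ : Fin 1 => (Polynomial.X : Polynomial ℚ))) =
        MvPolynomial.aeval (fun _ : Fin 1 => ((m : ℕ) : ℚ)) := by
      apply MvPolynomial.algHom_ext
      intro i
      simp
    have h2 := congrArg (fun φ : MvPolynomial (Fin 1) ℚ →ₐ[ℚ] ℚ => φ P) h1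
    simp only [AlgHom.comp_apply] at h2
    rw [← Polynomial.coe_aeval_eq_eval, h2]
    rfl
  · have := MvPolynomial.aeval_natDegree_le (m := n) (n := 1) P hdeg
      (fun _ : Fin 1 => (Polynomial.X : ℚ[X])) (fun _ => Polynomial.natDegree_X_le)
    simpa using this

theorem hilbPoly_add {L : X.Modules} (hL : PicF.IsInvertible L) (S : ShortComplex X.Modules)
    (hS : S.ShortExact) (h₁ : Coh.IsCoh S.X₁) (h₂ : Coh.IsCoh S.X₂) (h₃ : Coh.IsCoh S.X₃)
    {P₁ P₃ : ℚ[X]} (hP₁ : ShStab.IsHilbPoly k X L S.X₁ P₁)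
    (hP₃ : ShStab.IsHilbPoly k X L S.X₃ P₃) : ShStab.IsHilbPoly k X L S.X₂ (P₁ + P₃) := by
  intro m
  have hB := Groth.Agent.Helper4.TensorInv.isInvertible_tensorPow hL m
  have hS' := Groth.Agent.Helper1.TwistExact.shortExact_map_tensorRightMod hS _ hB
  have h := Groth.Agent.S1524.result k X (S.map (DCoh.tensorRightMod (CohB1.tensorPow L m))) hS'
    (isCoh_twist L _ hL h₁ m) (isCoh_twist L _ hL h₂ m) (isCoh_twist L _ hL h₃ m)
  have h' : Curv2.euler k X (ShStab.twist X L S.X₂ m) =
      Curv2.euler k X (ShStab.twist X L S.X₁ m) + Curv2.euler k X (ShStab.twist X L S.X₃ m) := h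
  rw [h', Polynomial.eval_add, ← hP₁ m, ← hP₃ m]
  push_cast
  rfl

/-- in a short exact sequence, the Hilbert polynomial of the quotient is the difference -/
theorem hilbPoly_sub {L : X.Modules} (hL : PicF.IsInvertible L) (S : ShortComplex X.Modules)
    (hS : S.ShortExact) (h₁ : Coh.IsCoh S.X₁) (h₂ : Coh.IsCoh S.X₂) (h₃ : Coh.IsCoh S.X₃)
    {P₁ P₂ : ℚ[X]} (hP₁ : ShStab.IsHilbPoly k X L S.X₁ P₁)
    (hP₂ : ShStab.IsHilbPoly k X L S.X₂ P₂) : ShStab.IsHilbPoly k X L S.X₃ (P₂ - P₁) := by
  intro m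
  have hB := Groth.Agent.Helper4.TensorInv.isInvertible_tensorPow hL m
  have hS' := Groth.Agent.Helper1.TwistExact.shortExact_map_tensorRightMod hS _ hB
  have h := Groth.Agent.S1524.result k X (S.map (DCoh.tensorRightMod (CohB1.tensorPow L m))) hS'
    (isCoh_twist L _ hL h₁ m) (isCoh_twist L _ hL h₂ m) (isCoh_twist L _ hL h₃ m)
  have h' : Curv2.euler k X (ShStab.twist X L S.X₂ m) =
      Curv2.euler k X (ShStab.twist X L S.X₁ m) + Curv2.euler k X (ShStab.twist X L S.X₃ m) := h
  have e1 := hP₁ m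
  have e2 := hP₂ m
  rw [h'] at e2
  push_cast at e2
  rw [Polynomial.eval_sub, ← e2, ← e1]
  ring

/-- in a short exact sequence, the Hilbert polynomial of the sub is the difference -/
theorem hilbPoly_sub' {L : X.Modules} (hL : PicF.IsInvertible L) (S : ShortComplex X.Modules)
    (hS : S.ShortExact) (h₁ : Coh.IsCoh S.X₁) (h₂ : Coh.IsCoh S.X₂) (h₃ : Coh.IsCoh S.X₃)
    {P₂ P₃ : ℚ[X]} (hP₂ : ShStab.IsHilbPoly k X L S.X₂ P₂)
    (hP₃ : ShStab.IsHilbPoly k X L S.X₃ P₃) : ShStab.IsHilbPoly k X L S.X₁ (P₂ - P₃) := by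
  intro m
  have hB := Groth.Agent.Helper4.TensorInv.isInvertible_tensorPow hL m
  have hS' := Groth.Agent.Helper1.TwistExact.shortExact_map_tensorRightMod hS _ hB
  have h := Groth.Agent.S1524.result k X (S.map (DCoh.tensorRightMod (CohB1.tensorPow L m))) hS'
    (isCoh_twist L _ hL h₁ m) (isCoh_twist L _ hL h₂ m) (isCoh_twist L _ hL h₃ m)
  have h' : Curv2.euler k X (ShStab.twist X L S.X₂ m) =
      Curv2.euler k X (ShStab.twist X L S.X₁ m) + Curv2.euler k X (ShStab.twist X L S.X₃ m) := h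
  have e3 := hP₃ m
  have e2 := hP₂ m
  rw [h'] at e2
  push_cast at e2
  rw [Polynomial.eval_sub, ← e2, ← e3]
  ring

theorem natDegree_le_of_hilbPoly {L : X.Modules} (hL : PicF.IsInvertible L) (E : X.Modules)
    (hE : Coh.IsCoh E) (n : ℕ) (hn : topologicalKrullDim (CohB1.support E) ≤ n) {P : ℚ[X]}
    (hP : ShStab.IsHilbPoly k X L E P) : P.natDegree ≤ n := by
  obtain ⟨P', hP', hdeg⟩ := exists_hilbPoly k hL E hE n hn
  rw [hilbPoly_unique k hP hP']
  exact hdeg

include k in
theorem isSeparated_of_proper : X.IsSeparated := by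
  constructor
  have : terminal.from X = (X ↘ (Spec (CommRingCat.of k))) ≫ terminal.from _ :=
    (terminal.comp_from _).symm
  rw [this]; infer_instance

include k in
theorem isLocallyNoetherian_of_proper : IsLocallyNoetherian X :=
  LocallyOfFiniteType.isLocallyNoetherian (X ↘ (Spec (CommRingCat.of k)))

/-- the Hilbert polynomial of a nonzero coherent module is eventually positive -/
theorem hilbPoly_pos {L : X.Modules} (hL : CohB1.IsAmple L) (E : X.Modules) (hE : Coh.IsCoh E)
    (h0 : ¬ IsZero E) {P : ℚ[X]} (hP : ShStab.IsHilbPoly k X L E P) :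
    ∀ᶠ m : ℕ in atTop, 0 < P.eval (m : ℚ) := by
  haveI : CompactSpace X := hL.2.1
  haveI : X.IsSeparated := isSeparated_of_proper k
  obtain ⟨n₁, h₁⟩ := (Groth.Agent.S0051.result k X (X ↘ Spec (CommRingCat.of k)) L hL.1).mp hL E hE
  obtain ⟨n₂, h₂⟩ := Groth.Agent.S2325.result X L hL E hE
  rw [eventually_atTop]
  refine ⟨max n₁ n₂, fun m hm => ?_⟩
  rw [← hP m]
  have hcoh : Coh.IsCoh (ShStab.twist X L E m) := isCoh_twist L E hL.1 hE m
  have heul := euler_eq_finrank_of_vanishing k X (ShStab.twist X L E m)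
    (h₁ m (le_trans (le_max_left _ _) hm))
  rw [heul]
  haveI hfin : Module.Finite k (Coh.HH X (ShStab.twist X L E m) 0) :=
    Groth.Agent.S0002.result k X _ hcoh 0
  have hnz : ¬ IsZero (ShStab.twist X L E m) := fun h => h0 ((isZero_twist_iff L E hL.1 m).mp h)
  have hns := not_subsingleton_HH0 _ (h₂ m (le_trans (le_max_right _ _) hm)) hnz
  haveI : Nontrivial (Coh.HH X (ShStab.twist X L E m) 0) := not_subsingleton_iff_nontrivial.mp hns
  have hpos : 0 < Module.finrank k (Coh.HH X (ShStab.twist X L E m) 0) := Module.finrank_pos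
  exact_mod_cast hpos

/-- the Hilbert polynomial of a coherent module is eventually nonnegative -/
theorem hilbPoly_nonneg {L : X.Modules} (hL : CohB1.IsAmple L) (E : X.Modules) (hE : Coh.IsCoh E)
    {P : ℚ[X]} (hP : ShStab.IsHilbPoly k X L E P) :
    ∀ᶠ m : ℕ in atTop, 0 ≤ P.eval (m : ℚ) := by
  by_cases h0 : IsZero E
  · rw [hilbPoly_unique k hP (hilbPoly_zero k hL.1 h0)]
    simp
  · exact (hilbPoly_pos k hL E hE h0 hP).mono (fun m hm => hm.le)

/-- a coherent module with vanishing Hilbert polynomial is zero -/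
theorem isZero_of_hilbPoly_zero {L : X.Modules} (hL : CohB1.IsAmple L) (E : X.Modules)
    (hE : Coh.IsCoh E) (hP : ShStab.IsHilbPoly k X L E 0) : IsZero E := by
  by_contra h0
  obtain ⟨m, hm⟩ := (hilbPoly_pos k hL E hE h0 hP).exists
  simp at hm

theorem alpha_nonneg_of_hilbPoly {L : X.Modules} (hL : CohB1.IsAmple L) (E : X.Modules)
    (hE : Coh.IsCoh E) (d : ℕ) (hd : topologicalKrullDim (CohB1.support E) ≤ d) {P : ℚ[X]}
    (hP : ShStab.IsHilbPoly k X L E P) : 0 ≤ StabCat.alpha d P :=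
  Groth.Agent.Helper5.ShStabPoly.alpha_nonneg (natDegree_le_of_hilbPoly k hL.1 E hE d hd hP)
    (hilbPoly_nonneg k hL E hE hP)

omit [IsProper (X ↘ Spec (CommRingCat.of k))] [X.Over (Spec (CommRingCat.of k))] in
theorem support_eq_empty_of_dim_lt_zero (E : X.Modules)
    (h : topologicalKrullDim (CohB1.support E) < ((0 : ℕ) : WithBot ℕ∞)) : IsZero E := by
  rw [Groth.Agent.Lead.EpiPull.isZero_iff_support]
  by_contra hne
  obtain ⟨x, hx⟩ := Set.nonempty_iff_ne_empty.mpr hne
  haveI : Nonempty (CohB1.support E) := ⟨⟨x, hx⟩⟩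
  have : (0 : WithBot ℕ∞) ≤ topologicalKrullDim (CohB1.support E) := by
    unfold topologicalKrullDim
    haveI : Nonempty (TopologicalSpace.IrreducibleCloseds (CohB1.support E)) :=
      ⟨⟨closure {⟨x, hx⟩}, isIrreducible_singleton.closure, isClosed_closure⟩⟩
    exact Order.krullDim_nonneg
  exact absurd h (not_lt.mpr (by exact_mod_cast this))

theorem alpha_eq_zero_of_dim_lt {L : X.Modules} (hL : PicF.IsInvertible L) (E : X.Modules)
    (hE : Coh.IsCoh E) (d : ℕ) (hd : topologicalKrullDim (CohB1.support E) < (d : WithBot ℕ∞))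
    {P : ℚ[X]} (hP : ShStab.IsHilbPoly k X L E P) : StabCat.alpha d P = 0 := by
  rcases Nat.eq_zero_or_pos d with h0 | hpos
  · subst h0
    have hz := support_eq_empty_of_dim_lt_zero E hd
    rw [hilbPoly_unique k hP (hilbPoly_zero k hL hz)]
    simp [StabCat.alpha]
  · obtain ⟨n, rfl⟩ : ∃ n, d = n + 1 := ⟨d - 1, by omega⟩
    have hle : topologicalKrullDim (CohB1.support E) ≤ (n : WithBot ℕ∞) := by
      generalize topologicalKrullDim (CohB1.support E) = x at hd
      induction x using WithBot.recBotCoe with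
      | bot => exact bot_le
      | coe e =>
        have h1 : e < ((n + 1 : ℕ) : ℕ∞) := by exact_mod_cast hd
        have h2 : e ≤ (n : ℕ∞) := by
          rw [Nat.cast_add, Nat.cast_one] at h1
          exact Order.le_of_lt_add_one h1
        exact_mod_cast h2
    exact Groth.Agent.Helper5.ShStabPoly.alpha_eq_zero_of_natDegree_lt
      (lt_of_le_of_lt (natDegree_le_of_hilbPoly k hL E hE n hle hP) (Nat.lt_succ_self n))

end Groth.Agent.Helper5.ShStab1
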