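import Mathlib
import Groth.Prelude

set_option autoImplicit false
set_option linter.unusedSectionVars false
set_option linter.style.haveILetI false
universe u

open AlgebraicGeometry CategoryTheory CategoryTheory.Limits TopologicalSpace MvPolynomial

namespace Groth.Agent.Helper5.LscDim

variable (n : Type u)

/-- the fibre of affine space over `y` is affine space over the residue field -/
noncomputable def e₁ (Y : Scheme.{u}) (y : Y) :
    𝔸(n; Spec (Y.residueField y)) ≅ (𝔸(n; Y) ↘ Y).fiber y :=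
  (AffineSpace.isPullback_map (n := n) (Y.fromSpecResidueField y)).isoIsPullback _ _
    (IsPullback.of_hasPullback (𝔸(n; Y) ↘ Y) (Y.fromSpecResidueField y))

theorem e₁_hom_fiberι (Y : Scheme.{u}) (y : Y) :
    (e₁ n Y y).hom ≫ (𝔸(n; Y) ↘ Y).fiberι y = AffineSpace.map n (Y.fromSpecResidueField y) :=
  IsPullback.isoIsPullback_hom_fst _ _ _ _

theorem e₁_hom_snd (Y : Scheme.{u}) (y : Y) :
    (e₁ n Y y).hom ≫ (𝔸(n; Y) ↘ Y).fiberToSpecResidueField y =
      𝔸(n; Spec (Y.residueField y)) ↘ Spec (Y.residueField y) :=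
  IsPullback.isoIsPullback_hom_snd _ _ _ _

/-- the fibre of affine space over `y` is `Spec κ(y)[T]` -/
noncomputable def θ (Y : Scheme.{u}) (y : Y) :
    (𝔸(n; Y) ↘ Y).fiber y ≅ Spec (.of (MvPolynomial n (Y.residueField y))) :=
  (e₁ n Y y).symm ≪≫ AffineSpace.SpecIso n (Y.residueField y)

theorem θ_inv_snd (Y : Scheme.{u}) (y : Y) :
    (θ n Y y).inv ≫ (𝔸(n; Y) ↘ Y).fiberToSpecResidueField y =
      Spec.map (CommRingCat.ofHom C) := by
  simp only [θ, Iso.trans_inv, Iso.symm_inv, Category.assoc, e₁_hom_snd]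
  exact AffineSpace.SpecIso_inv_over _

theorem θ_hom_C (Y : Scheme.{u}) (y : Y) :
    (θ n Y y).hom ≫ Spec.map (CommRingCat.ofHom C) =
      (𝔸(n; Y) ↘ Y).fiberToSpecResidueField y := by
  rw [← θ_inv_snd, Iso.hom_inv_id_assoc]

theorem θ_inv_appTop_coord (Y : Scheme.{u}) (y : Y) (i : n) :
    (θ n Y y).inv.appTop (((𝔸(n; Y) ↘ Y).fiberι y).appTop (AffineSpace.coord Y i)) =
      (Scheme.ΓSpecIso (.of _)).inv (X i) := by
  have h1 : (θ n Y y).inv ≫ (𝔸(n; Y) ↘ Y).fiberι y =
      (AffineSpace.SpecIso n (Y.residueField y)).inv ≫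
        AffineSpace.map n (Y.fromSpecResidueField y) := by
    simp only [θ, Iso.trans_inv, Iso.symm_inv, Category.assoc, e₁_hom_fiberι]
  rw [← CommRingCat.comp_apply, ← Scheme.Hom.comp_appTop, h1, Scheme.Hom.comp_appTop,
    CommRingCat.comp_apply, AffineSpace.map_appTop_coord]
  exact AffineSpace.SpecIso_inv_appTop_coord _ i

section
omit n

/-- evaluation at a point of the pullback of a function on an affine target -/
noncomputable def evHom {P : Scheme.{u}} {R : CommRingCat.{u}} (t : P ⟶ Spec R) (p : P) :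
    R →+* P.residueField p :=
  ((Scheme.ΓSpecIso R).inv ≫ t.appTop ≫ P.Γevaluation p).hom

/-- membership in the prime ideal of the image of a point under a morphism to an affine scheme -/
theorem mem_asIdeal_iff {P : Scheme.{u}} {R : CommRingCat.{u}} (t : P ⟶ Spec R) (p : P) (r : R) :
    r ∈ PrimeSpectrum.asIdeal (t p) ↔ evHom t p r = 0 := by
  show _ ↔ P.Γevaluation p (t.appTop ((Scheme.ΓSpecIso R).inv r)) = 0
  rw [Scheme.evaluation_eq_zero_iff_notMem_basicOpen, ← Scheme.preimage_basicOpen_top,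
    basicOpen_eq_of_affine]
  show _ ↔ ¬ (r ∉ PrimeSpectrum.asIdeal (t p))
  exact not_not.symm

/-- a point of a scheme over `Spec κ[T]` at which the coordinates are algebraically independent
maps to the generic point -/
theorem asIdeal_eq_bot {P : Scheme.{u}} {n : Type u} (κ : Type u) [Field κ]
    (t : P ⟶ Spec (.of (MvPolynomial n κ))) (p : P)
    (hind : @AlgebraicIndependent n κ (P.residueField p)
      (fun i => evHom t p (X i)) _ _ ((evHom t p).comp (C : κ →+* MvPolynomial n κ)).toAlgebra) :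
    PrimeSpectrum.asIdeal (t p) = ⊥ := by
  letI alg : Algebra κ (P.residueField p) :=
    ((evHom t p).comp (C : κ →+* MvPolynomial n κ)).toAlgebra
  have hΦ : evHom t p = (aeval (fun i => evHom t p (X i)) :
      MvPolynomial n κ →ₐ[κ] P.residueField p).toRingHom := by
    apply MvPolynomial.ringHom_ext
    · intro c
      simp only [AlgHom.toRingHom_eq_coe, RingHom.coe_coe, aeval_C]
      rfl
    · intro i
      simp only [AlgHom.toRingHom_eq_coe, RingHom.coe_coe, aeval_X]
  rw [eq_bot_iff]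
  intro r hr
  rw [mem_asIdeal_iff, hΦ] at hr
  have := hind (a₁ := r) (a₂ := 0) (by rw [map_zero]; exact hr)
  rw [this]
  exact Ideal.zero_mem _


theorem isField_stalk_of_asIdeal_eq_bot {R : CommRingCat.{u}} (𝔭 : Spec R)
    (h : PrimeSpectrum.asIdeal 𝔭 = ⊥) : IsField ((Spec R).presheaf.stalk 𝔭) := by
  letI k : Algebra ↑R ↑((Spec R).presheaf.stalk 𝔭) := StructureSheaf.stalkAlgebra (↑R) 𝔭
  haveI : IsLocalization.AtPrime (↑((Spec R).presheaf.stalk 𝔭)) (PrimeSpectrum.asIdeal 𝔭) :=
    StructureSheaf.IsLocalization.to_stalk R 𝔭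
  rw [IsLocalRing.isField_iff_maximalIdeal_eq]
  have h1 := IsLocalization.AtPrime.map_eq_maximalIdeal (PrimeSpectrum.asIdeal 𝔭)
    ((Spec R).presheaf.stalk 𝔭)
  rw [← h1, h, Ideal.map_bot]

/-- a ring hom out of a field is flat -/
theorem flat_of_isField {A B : Type u} [CommRing A] [CommRing B] (hA : IsField A) (φ : A →+* B) :
    φ.Flat := by
  letI := hA.toField
  letI := φ.toAlgebra
  show Module.Flat A B
  infer_instance

theorem flat_stalkMap_of_asIdeal_eq_bot {P F : Scheme.{u}} {R : CommRingCat.{u}} (s : P ⟶ F)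
    (θ : F ≅ Spec R) (p : P) (h : PrimeSpectrum.asIdeal ((s ≫ θ.hom) p) = ⊥) :
    (s.stalkMap p).hom.Flat := by
  apply flat_of_isField
  have h1 := isField_stalk_of_asIdeal_eq_bot (θ.hom (s p)) h
  have : IsIso (θ.hom.stalkMap (s p)) := inferInstance
  exact MulEquiv.isField h1 (asIso (θ.hom.stalkMap (s p))).commRingCatIsoToRingEquiv.symm.toMulEquiv


theorem fromSpecResidueField_appTop (P : Scheme.{u}) (p : P) :
    (P.fromSpecResidueField p).appTop = P.Γevaluation p ≫ (Scheme.ΓSpecIso _).inv := by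
  rw [Scheme.fromSpecResidueField, Scheme.Hom.comp_appTop, Scheme.fromSpecStalk_appTop]
  simp only [Category.assoc]
  have : (Spec (P.presheaf.stalk p)).presheaf.map (homOfLE le_top).op = 𝟙 _ := by
    exact (Spec (P.presheaf.stalk p)).presheaf.map_id _
  rw [this, Category.id_comp, ← Scheme.ΓSpecIso_inv_naturality]
  rfl

theorem fromSpecResidueField_comp {P : Scheme.{u}} {R : CommRingCat.{u}} (t : P ⟶ Spec R) (p : P) :
    P.fromSpecResidueField p ≫ t = Spec.map (CommRingCat.ofHom (evHom t p)) := by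
  apply ext_of_isAffine
  rw [Scheme.Hom.comp_appTop, fromSpecResidueField_appTop]
  have h1 := Scheme.ΓSpecIso_inv_naturality (CommRingCat.ofHom (evHom t p))
  have h2 : (Spec.map (CommRingCat.ofHom (evHom t p))).appTop =
      (Scheme.ΓSpecIso R).hom ≫ CommRingCat.ofHom (evHom t p) ≫ (Scheme.ΓSpecIso _).inv := by
    rw [h1]
    exact (Iso.hom_inv_id_assoc (Scheme.ΓSpecIso R) _).symm
  rw [h2]
  simp only [evHom, CommRingCat.ofHom_hom, Category.assoc, Iso.hom_inv_id_assoc]
  rfl

/-- the evaluation hom of a morphism to the spectrum of a residue field -/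
theorem evHom_eq {P Y : Scheme.{u}} (y : Y) (τ : P ⟶ Spec (Y.residueField y)) (p : P) :
    ∃ e : y = (τ ≫ Y.fromSpecResidueField y) p,
      evHom τ p = ((τ ≫ Y.fromSpecResidueField y).residueFieldMap p).hom.comp
        (Y.residueFieldCongr e).hom.hom := by
  have e : y = (τ ≫ Y.fromSpecResidueField y) p := by
    rw [Scheme.Hom.comp_apply, Scheme.fromSpecResidueField_apply]
  refine ⟨e, ?_⟩
  have h1 : Spec.map (CommRingCat.ofHom (evHom τ p)) ≫ Y.fromSpecResidueField y =
      Spec.map ((Y.residueFieldCongr e).hom ≫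
        (τ ≫ Y.fromSpecResidueField y).residueFieldMap p) ≫ Y.fromSpecResidueField y := by
    rw [← fromSpecResidueField_comp, Category.assoc,
      ← Scheme.Hom.SpecMap_residueFieldMap_fromSpecResidueField, Spec.map_comp, Category.assoc,
      Scheme.residueFieldCongr_fromSpecResidueField]
  have h2 := (cancel_mono (Y.fromSpecResidueField y)).1 h1
  have h3 := Spec.map_injective h2
  have h4 := congrArg CommRingCat.Hom.hom h3
  rw [CommRingCat.ofHom_hom] at h4
  exact h4

end
end Groth.Agent.Helper5.LscDim
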