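import Groth.Agent.Helper5.VarDim6

set_option autoImplicit false
universe u
open AlgebraicGeometry CategoryTheory TopologicalSpace

namespace Groth.Agent.Helper5.VarDim

/-- The dimension of the closure of a point of a scheme locally of finite type over a field is the
transcendence degree of its residue field. -/
theorem dim_closure_point (k : Type u) [Field k] {Y : Scheme.{u}}
    (g : Y ⟶ Spec (CommRingCat.of k)) [LocallyOfFiniteType g] (η : Y) :
    ∃ n : ℕ, topologicalKrullDim ↥(closure ({η} : Set Y)) = n ∧
      @Algebra.trdeg k (Y.residueField η) _ _ (resHom k g η).toAlgebra = n := by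
  let Z : Closeds Y := ⟨closure {η}, isClosed_closure⟩
  let I := Scheme.IdealSheafData.vanishingIdeal Z
  let T := I.subscheme
  let ι : T ⟶ Y := I.subschemeι
  have hrange : Set.range ι = closure {η} := by
    rw [Scheme.IdealSheafData.range_subschemeι]
    rfl
  have hη : η ∈ Set.range ι := by rw [hrange]; exact subset_closure rfl
  obtain ⟨t, ht⟩ := hη
  have ht' : closure ({t} : Set T) = Set.univ := by
    rw [ι.isEmbedding.isInducing.closure_eq_preimage_closure_image, Set.image_singleton, ht,
      ← hrange]
    exact Set.preimage_range _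
  obtain ⟨n, hn1, hn2⟩ := dim_eq_trdeg_generic k (ι ≫ g) t ht'
  refine ⟨n, ?_, ?_⟩
  · rw [← hn1, ← hrange]
    exact (IsHomeomorph.topologicalKrullDim_eq _ ι.isEmbedding.toHomeomorph.isHomeomorph).symm
  · rw [← hn2, ← trdeg_resHom_of_bijective k ι g t
      (residueFieldMap_bijective_of_surjectiveOnStalks ι t)]
    exact (trdeg_resHom_congr k g ht).symm

end Groth.Agent.Helper5.VarDim
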