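import Mathlib
import Groth.Prelude

set_option autoImplicit false
set_option linter.unusedSectionVars false
set_option linter.style.haveILetI false
universe u

open AlgebraicGeometry CategoryTheory Limits

namespace Groth.Agent.Helper5.FibStalk

/-- the local rings of the spectrum of a field have zero maximal ideal -/
theorem maximalIdeal_stalk_spec_field (K : CommRingCat.{u}) (hK : IsField K) (p : Spec K) :
    IsLocalRing.maximalIdeal ((Spec K).presheaf.stalk p) = ⊥ := by
  letI : Field K := hK.toField
  haveI : IsLocalRing K := inferInstance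
  have hsub : Subsingleton (Spec K) := inferInstanceAs (Subsingleton (PrimeSpectrum K))
  obtain rfl : p = IsLocalRing.closedPoint K := Subsingleton.elim _ _
  let e := (stalkClosedPointIso K).commRingCatIsoToRingEquiv
  have hf : IsField ((Spec K).presheaf.stalk (IsLocalRing.closedPoint K)) :=
    e.toMulEquiv.isField hK
  exact IsLocalRing.isField_iff_maximalIdeal_eq.1 hf

/-- a morphism factoring through `Spec κ(s)` kills the maximal ideals on stalks -/
theorem stalkMap_eq_zero_of_factors {T S : Scheme.{u}} (s : S) (g : T ⟶ S)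
    (u : T ⟶ Spec (S.residueField s)) (hg : g = u ≫ S.fromSpecResidueField s) (t : T)
    (a : S.presheaf.stalk (g t)) (ha : a ∈ IsLocalRing.maximalIdeal (S.presheaf.stalk (g t))) :
    g.stalkMap t a = 0 := by
  subst hg
  rw [Scheme.Hom.stalkMap_comp]
  have h1 : (S.fromSpecResidueField s).stalkMap (u t) a ∈
      IsLocalRing.maximalIdeal ((Spec (S.residueField s)).presheaf.stalk (u t)) := by
    have h0 : IsLocalHom ((S.fromSpecResidueField s).stalkMap (u t)).hom := inferInstance
    have := ((IsLocalRing.local_hom_TFAE ((S.fromSpecResidueField s).stalkMap (u t)).hom).out 0 2).1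
      h0
    exact this (Ideal.mem_map_of_mem _ ha)
  have hF : IsField (S.residueField s) := Field.toIsField _
  rw [maximalIdeal_stalk_spec_field _ hF] at h1
  have h2 : (S.fromSpecResidueField s).stalkMap (u t) a = 0 := h1
  show (u.stalkMap t) ((S.fromSpecResidueField s).stalkMap (u t) a) = 0
  rw [h2, map_zero]

theorem fiberι_apply {X S : Scheme.{u}} (f : X ⟶ S) (s : S) (y : ↥(f.fiber s)) :
    f (f.fiberι s y) = s := by
  have h1 : f.fiberι s y ∈ Set.range (f.fiberι s) := ⟨y, rfl⟩
  rw [Scheme.Hom.range_fiberι] at h1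
  exact h1

theorem s9501 {X S : Scheme.{u}} (f : X ⟶ S) (s : S) (y : ↥(f.fiber s)) :
    Function.Surjective ((f.fiberι s).stalkMap y).hom ∧
      RingHom.ker ((f.fiberι s).stalkMap y).hom =
        Ideal.map (f.stalkMap ((f.fiberι s) y)).hom
          (IsLocalRing.maximalIdeal (S.presheaf.stalk (f ((f.fiberι s) y)))) := by
  refine ⟨(f.fiberι s).stalkMap_surjective y, le_antisymm ?_ ?_⟩
  · -- `ker ⊆ I`
    let ι := f.fiberι s
    let x : X := ι y
    have hx : f x = s := fiberι_apply f s y
    let R := X.presheaf.stalk x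
    let I : Ideal R := Ideal.map (f.stalkMap x).hom
      (IsLocalRing.maximalIdeal (S.presheaf.stalk (f x)))
    have hI : I ≤ IsLocalRing.maximalIdeal R := by
      have h0 : IsLocalHom (f.stalkMap x).hom := inferInstance
      exact ((IsLocalRing.local_hom_TFAE (f.stalkMap x).hom).out 0 2).1 h0
    have hIne : I ≠ ⊤ := fun h => (IsLocalRing.maximalIdeal.isMaximal R).ne_top
      (top_le_iff.1 (h ▸ hI))
    haveI : Nontrivial (R ⧸ I) := Ideal.Quotient.nontrivial_iff.2 hIne
    haveI : IsLocalRing (R ⧸ I) :=
      IsLocalRing.of_surjective' (Ideal.Quotient.mk I) Ideal.Quotient.mk_surjective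
    let Q : CommRingCat.{u} := CommRingCat.of (R ⧸ I)
    haveI : IsLocalRing Q := inferInstanceAs (IsLocalRing (R ⧸ I))
    let q : R ⟶ Q := CommRingCat.ofHom (Ideal.Quotient.mk I)
    let κmap : S.residueField (f x) ⟶ Q := CommRingCat.ofHom
      (Ideal.Quotient.lift (IsLocalRing.maximalIdeal (S.presheaf.stalk (f x)))
        ((Ideal.Quotient.mk I).comp (f.stalkMap x).hom) (by
          intro a ha
          rw [RingHom.comp_apply, Ideal.Quotient.eq_zero_iff_mem]
          exact Ideal.mem_map_of_mem _ ha))
    have hκ : S.residue (f x) ≫ κmap = f.stalkMap x ≫ q := by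
      ext a
      rfl
    let a₁ : Spec Q ⟶ X := Spec.map q ≫ X.fromSpecStalk x
    let a₂ : Spec Q ⟶ Spec (S.residueField s) :=
      Spec.map ((S.residueFieldCongr hx.symm).hom ≫ κmap)
    have comm : a₁ ≫ f = a₂ ≫ S.fromSpecResidueField s := by
      show (Spec.map q ≫ X.fromSpecStalk x) ≫ f =
        Spec.map ((S.residueFieldCongr hx.symm).hom ≫ κmap) ≫ S.fromSpecResidueField s
      rw [Spec.map_comp, Category.assoc, Category.assoc,
        Scheme.residueFieldCongr_fromSpecResidueField, Scheme.fromSpecResidueField,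
        ← Scheme.SpecMap_stalkMap_fromSpecStalk, ← Spec.map_comp_assoc, ← Spec.map_comp_assoc, hκ]
    let α : Spec Q ⟶ f.fiber s := pullback.lift a₁ a₂ comm
    have hα1 : α ≫ ι = a₁ := pullback.lift_fst _ _ _
    have hinj : Function.Injective ι := ι.isEmbedding.injective
    have hqloc : IsLocalHom q.hom :=
      IsLocalHom.of_surjective _ Ideal.Quotient.mk_surjective
    have hpt : α (IsLocalRing.closedPoint Q) = y := by
      apply hinj
      rw [← Scheme.Hom.comp_apply, hα1]
      show X.fromSpecStalk x (Spec.map q (IsLocalRing.closedPoint Q)) = x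
      have h1 : Spec.map q (IsLocalRing.closedPoint Q) = IsLocalRing.closedPoint R :=
        IsLocalRing.comap_closedPoint q.hom
      rw [h1, Scheme.fromSpecStalk_closedPoint]
    let θ : (f.fiber s).presheaf.stalk y ⟶ Q :=
      (f.fiber s).presheaf.stalkSpecializes (specializes_of_eq hpt) ≫ Scheme.stalkClosedPointTo α
    have hθ : Spec.map θ ≫ (f.fiber s).fromSpecStalk y = α := by
      rw [Spec.map_comp, Category.assoc, Scheme.SpecMap_stalkSpecializes_fromSpecStalk,
        Scheme.Spec_stalkClosedPointTo_fromSpecStalk]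
    have hβ : Spec.map (ι.stalkMap y) ≫ X.fromSpecStalk (ι y) = (f.fiber s).fromSpecStalk y ≫ ι :=
      Scheme.SpecMap_stalkMap_fromSpecStalk ι
    have e : ι.stalkMap y ≫ θ = q := by
      apply Spec.map_injective
      rw [Spec.map_comp, ← cancel_mono (X.fromSpecStalk x), Category.assoc, hβ, ← Category.assoc,
        hθ, hα1]
    intro a ha
    have h1 : q a = 0 := by
      rw [← e]
      show θ (ι.stalkMap y a) = 0
      have h2 : ι.stalkMap y a = 0 := ha
      rw [h2, map_zero]
    exact Ideal.Quotient.eq_zero_iff_mem.1 h1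
  · -- `I ⊆ ker`
    rw [Ideal.map_le_iff_le_comap]
    intro a ha
    have h1 := stalkMap_eq_zero_of_factors s (f.fiberι s ≫ f) (f.fiberToSpecResidueField s)
      (f.fiber_fac s) y a ha
    rw [Scheme.Hom.stalkMap_comp] at h1
    exact h1

end Groth.Agent.Helper5.FibStalk
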