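import Mathlib

set_option autoImplicit false
universe u

namespace Groth.Agent.Helper5.AnClosed

open CategoryTheory CategoryTheory.Limits AlgebraicGeometry IsLocalRing

section Val

variable {R : CommRingCat.{u}} [IsLocalRing R] {Y Y' : Scheme.{u}}

/-- value of a section at the closed point of a local-ring-valued point -/
noncomputable def val (g : Spec R ⟶ Y) (W : Y.Opens) (hW : g (closedPoint R) ∈ W) :
    Γ(Y, W) →+* R :=
  (Y.presheaf.germ W _ hW ≫ Scheme.stalkClosedPointTo g).hom

theorem val_comp (g : Spec R ⟶ Y) (q : Y ⟶ Y') (W : Y'.Opens)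
    (hW : (g ≫ q) (closedPoint R) ∈ W) (s : Γ(Y', W)) :
    val (g ≫ q) W hW s = val g (q ⁻¹ᵁ W) hW (q.app W s) := by
  unfold val
  rw [Scheme.stalkClosedPointTo_comp]
  have := Scheme.Hom.germ_stalkMap_assoc q W (g (closedPoint R)) hW (Scheme.stalkClosedPointTo g)
  exact congr($(this).hom s)

theorem val_congr {g g' : Spec R ⟶ Y} (e : g = g') (W : Y.Opens)
    (hW : g (closedPoint R) ∈ W) (s : Γ(Y, W)) :
    val g W hW s = val g' W (e ▸ hW) s := by
  subst e; rfl

theorem val_res (g : Spec R ⟶ Y) (W W' : Y.Opens) (hle : W' ≤ W)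
    (hW' : g (closedPoint R) ∈ W') (s : Γ(Y, W)) :
    val g W' hW' (Y.presheaf.map (homOfLE hle).op s) = val g W (hle hW') s := by
  unfold val
  simp only [CommRingCat.hom_comp, RingHom.comp_apply]
  rw [TopCat.Presheaf.germ_res_apply]

theorem val_spec {R₀ : CommRingCat.{u}} (φ : R₀ ⟶ R) (r : R₀) :
    val (Spec.map φ) ⊤ trivial ((Scheme.ΓSpecIso R₀).inv r) = φ r := by
  unfold val
  rw [Scheme.germ_stalkClosedPointTo_Spec]
  simp

theorem mem_basicOpen_iff (g : Spec R ⟶ Y) (W : Y.Opens) (hW : g (closedPoint R) ∈ W)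
    (s : Γ(Y, W)) : g (closedPoint R) ∈ Y.basicOpen s ↔ IsUnit (val g W hW s) := by
  rw [Scheme.mem_basicOpen _ _ _ hW]
  unfold val
  constructor
  · intro h
    rw [CommRingCat.hom_comp, RingHom.comp_apply]
    exact h.map (Scheme.stalkClosedPointTo g).hom
  · intro h
    rw [CommRingCat.hom_comp, RingHom.comp_apply] at h
    have : IsLocalHom (Scheme.stalkClosedPointTo g).hom := inferInstance
    exact this.map_nonunit _ h

end Val

/-- In a valuation ring, an element of the fraction field outside the ring has its inverse in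
the maximal ideal. -/
theorem exists_inv_of_not_mem {R K : Type*} [CommRing R] [IsDomain R] [ValuationRing R] [Field K]
    [Algebra R K] [IsFractionRing R K] (k : K) (hk : k ∉ (algebraMap R K).range) :
    ∃ r : R, ¬ IsUnit r ∧ algebraMap R K r * k = 1 := by
  have hk0 : k ≠ 0 := by
    rintro rfl
    exact hk ⟨0, map_zero _⟩
  rcases ValuationRing.isInteger_or_isInteger R k with h | h
  · exact absurd h hk
  · obtain ⟨r, hr⟩ := h
    refine ⟨r, ?_, by rw [hr, inv_mul_cancel₀ hk0]⟩
    intro hu
    obtain ⟨r', hr'⟩ := hu.exists_right_inv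
    apply hk
    refine ⟨r', ?_⟩
    have : algebraMap R K r * algebraMap R K r' = 1 := by rw [← map_mul, hr', map_one]
    rw [hr] at this
    exact (eq_of_inv_mul_eq_one this).symm ▸ rfl
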