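import Mathlib
import Groth.Agent.Helper5.AnVal

set_option autoImplicit false
universe u

namespace Groth.Agent.Helper5.AnClosed

open CategoryTheory CategoryTheory.Limits AlgebraicGeometry IsLocalRing

section Lift

variable {X S : Scheme.{u}} (f : X ⟶ S) (R K : Type u) [CommRing R] [IsDomain R]
  [ValuationRing R] [Field K] [Algebra R K] [IsFractionRing R K]
  (i₁ : Spec (.of K) ⟶ X) (i₂ : Spec (.of R) ⟶ S)
  (w : i₁ ≫ f = Spec.map (CommRingCat.ofHom (algebraMap R K)) ≫ i₂)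

include w in
theorem exists_lift_of_range_le (U : X.Opens) (hU : IsAffineOpen U)
    (hxU : i₁ (closedPoint K) ∈ U)
    (V : S.Opens) (hV : IsAffineOpen V) (hsV : i₂ (closedPoint R) ∈ V) (hUV : U ≤ f ⁻¹ᵁ V)
    (hψ : ∀ c : Γ(X, U), val i₁ U hxU c ∈ (algebraMap R K).range) :
    ∃ l : Spec (.of R) ⟶ X,
      Spec.map (CommRingCat.ofHom (algebraMap R K)) ≫ l = i₁ ∧ l ≫ f = i₂ := by
  classical
  have hinj : Function.Injective (algebraMap R K) := IsFractionRing.injective R K
  let ψ : Γ(X, U) →+* K := val i₁ U hxU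
  let e : R ≃+* (algebraMap R K).range :=
    RingEquiv.ofBijective (algebraMap R K).rangeRestrict
      ⟨fun a b hab => hinj (congrArg Subtype.val hab),
        (algebraMap R K).rangeRestrict_surjective⟩
  let ψ' : Γ(X, U) →+* R := (e.symm : _ →+* R).comp (ψ.codRestrict _ hψ)
  have hψ' : (algebraMap R K).comp ψ' = ψ := by
    ext c
    have := e.apply_symm_apply (ψ.codRestrict _ hψ c)
    exact congrArg Subtype.val this
  let l : Spec (.of R) ⟶ X := Spec.map (CommRingCat.ofHom ψ') ≫ hU.fromSpec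
  have T1 : Spec.map (CommRingCat.ofHom (algebraMap R K)) ≫ l = i₁ := by
    show _ ≫ _ ≫ _ = _
    rw [← Spec.map_comp_assoc, ← CommRingCat.ofHom_comp, hψ']
    have h1 : CommRingCat.ofHom ψ =
        X.presheaf.germ U _ hxU ≫ Scheme.stalkClosedPointTo i₁ := rfl
    rw [h1, Spec.map_comp, Category.assoc]
    have h2 : Spec.map (X.presheaf.germ U _ hxU) ≫ hU.fromSpec = X.fromSpecStalk _ :=
      hU.fromSpecStalk_eq_fromSpecStalk hxU
    rw [h2, Scheme.Spec_stalkClosedPointTo_fromSpecStalk]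
  refine ⟨l, T1, ?_⟩
  have hr1 : Set.range (l ≫ f) ⊆ Set.range hV.fromSpec := by
    rintro _ ⟨p, rfl⟩
    rw [hV.range_fromSpec]
    have : hU.fromSpec (Spec.map (CommRingCat.ofHom ψ') p) ∈ (U : Set X) := by
      rw [← hU.range_fromSpec]; exact ⟨_, rfl⟩
    exact hUV this
  have hr2 : Set.range i₂ ⊆ Set.range hV.fromSpec := by
    rintro _ ⟨p, rfl⟩
    rw [hV.range_fromSpec]
    have : i₂ ⁻¹ᵁ V = ⊤ := Scheme.preimage_eq_top_of_closedPoint_mem i₂ hsV
    have hp : p ∈ i₂ ⁻¹ᵁ V := by rw [this]; trivial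
    exact hp
  let l₁ := IsOpenImmersion.lift hV.fromSpec (l ≫ f) hr1
  let l₂ := IsOpenImmersion.lift hV.fromSpec i₂ hr2
  have h12 : Spec.map (CommRingCat.ofHom (algebraMap R K)) ≫ l₁ =
      Spec.map (CommRingCat.ofHom (algebraMap R K)) ≫ l₂ := by
    rw [← cancel_mono hV.fromSpec, Category.assoc, Category.assoc,
      IsOpenImmersion.lift_fac, IsOpenImmersion.lift_fac, reassoc_of% T1, w]
  have hl : l₁ = l₂ := by
    rw [← Spec.map_preimage l₁, ← Spec.map_preimage l₂] at h12 ⊢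
    rw [← Spec.map_comp, ← Spec.map_comp, Spec.map_inj] at h12
    congr 1
    ext a
    apply hinj
    exact congr($(h12).hom a)
  rw [← IsOpenImmersion.lift_fac hV.fromSpec (l ≫ f) hr1, ← IsOpenImmersion.lift_fac hV.fromSpec i₂ hr2]
  exact congrArg (· ≫ hV.fromSpec) hl

end Lift

end Groth.Agent.Helper5.AnClosed
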