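import Mathlib
import Groth.Agent.Helper5.AnLift

set_option autoImplicit false
universe u

namespace Groth.Agent.Helper5.AnClosed

open CategoryTheory CategoryTheory.Limits AlgebraicGeometry IsLocalRing

section Key

variable {X S : Scheme.{u}} (f : X ⟶ S) [QuasiCompact f]
  (hf : ∀ n : ℕ, IsClosedMap (pullback.snd f (𝔸(ULift.{u} (Fin n); S) ↘ S)).base)
  (R K : Type u) [CommRing R] [IsDomain R] [ValuationRing R] [Field K] [Algebra R K]
  [IsFractionRing R K]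
  (i₁ : Spec (.of K) ⟶ X) (i₂ : Spec (.of R) ⟶ S)
  (w : i₁ ≫ f = Spec.map (CommRingCat.ofHom (algebraMap R K)) ≫ i₂)

include hf w in
theorem exists_affine_range_le :
    ∃ (U : X.Opens) (_ : IsAffineOpen U) (hxU : i₁ (closedPoint K) ∈ U)
      (V : S.Opens) (_ : IsAffineOpen V), i₂ (closedPoint R) ∈ V ∧ U ≤ f ⁻¹ᵁ V ∧
      ∀ c : Γ(X, U), val i₁ U hxU c ∈ (algebraMap R K).range := by
  classical
  set φ := CommRingCat.ofHom (algebraMap R K) with hφ
  obtain ⟨V, hV, hsV, -⟩ :=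
    exists_isAffineOpen_mem_and_subset (X := S) (x := i₂ (closedPoint R)) (U := ⊤) trivial
  have hcomp : IsCompact ((f ⁻¹ᵁ V : X.Opens) : Set X) :=
    QuasiCompact.isCompact_preimage (f := f) _ V.2 hV.isCompact
  obtain ⟨𝒰, h𝒰fin, h𝒰⟩ := isCompact_iff_finite_and_eq_biUnion_affineOpens.mp hcomp
  by_contra hcon
  push Not at hcon
  have hfin : Finite 𝒰 := h𝒰fin.to_subtype
  obtain ⟨n, ⟨e⟩⟩ := Finite.exists_equiv_fin 𝒰
  let ι := ULift.{u} (Fin n)
  let σ : ι → X.affineOpens := fun i => (e.symm i.down).1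
  have hσle : ∀ i, (σ i : X.Opens) ≤ f ⁻¹ᵁ V := fun i => by
    rw [h𝒰]; exact le_iSup₂_of_le (σ i) (e.symm i.down).2 le_rfl
  have hσcov : ∀ p ∈ f ⁻¹ᵁ V, ∃ i, p ∈ (σ i : X.Opens) := by
    intro p hp
    rw [h𝒰] at hp
    simp only [TopologicalSpace.Opens.mem_iSup] at hp
    obtain ⟨U, hU𝒰, hpU⟩ := hp
    exact ⟨⟨e ⟨U, hU𝒰⟩⟩, by simpa [σ] using hpU⟩
  have hdata : ∀ i : ι, ∃ r : R, ∀ hx : i₁ (closedPoint K) ∈ (σ i : X.Opens),
      ¬ IsUnit r ∧ ∃ c : Γ(X, σ i), algebraMap R K r * val i₁ (σ i) hx c = 1 := by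
    intro i
    by_cases hx : i₁ (closedPoint K) ∈ (σ i : X.Opens)
    · obtain ⟨c, hc⟩ := hcon (σ i) (σ i).2 hx V hV hsV (hσle i)
      obtain ⟨r, hr, hrc⟩ := exists_inv_of_not_mem (R := R) _ hc
      exact ⟨r, fun _ => ⟨hr, c, hrc⟩⟩
    · exact ⟨0, fun h => absurd h hx⟩
  choose r hr using hdata
  -- the morphism to affine space
  let a : Spec (.of R) ⟶ 𝔸(ι; S) :=
    AffineSpace.homOfVector i₂ (fun i => (Scheme.ΓSpecIso (.of R)).inv (r i))
  have ha : a ≫ 𝔸(ι; S) ↘ S = i₂ := AffineSpace.homOfVector_over _ _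
  have hacoord : ∀ i, a.appTop (AffineSpace.coord S i) = (Scheme.ΓSpecIso (.of R)).inv (r i) :=
    fun i => AffineSpace.homOfVector_appTop_coord _ _ i
  let P : Scheme.{u} := pullback f (𝔸(ι; S) ↘ S)
  let p₁ : P ⟶ X := pullback.fst f (𝔸(ι; S) ↘ S)
  let p₂ : P ⟶ 𝔸(ι; S) := pullback.snd f (𝔸(ι; S) ↘ S)
  let k : Spec (.of K) ⟶ P :=
    pullback.lift i₁ (Spec.map φ ≫ a) (by rw [w, Category.assoc, ha])
  have hk1 : k ≫ p₁ = i₁ := pullback.lift_fst _ _ _
  have hk2 : k ≫ p₂ = Spec.map φ ≫ a := pullback.lift_snd _ _ _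
  set ξ := k (closedPoint K) with hξ
  have hcl := hf n _ (isClosed_closure (s := {ξ}))
  have ht' : a (closedPoint R) ∈ p₂ '' closure {ξ} := by
    have h1 : p₂ ξ ∈ p₂ '' closure {ξ} :=
      ⟨ξ, subset_closure rfl, rfl⟩
    have h2 : p₂ ξ = a ((Spec.map φ) (closedPoint K)) := by
      rw [hξ, ← Scheme.Hom.comp_apply, hk2, Scheme.Hom.comp_apply]
    have h3 : (Spec.map φ) (closedPoint K) ⤳ closedPoint R := specializes_closedPoint _
    have h4 := h3.map a.continuous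
    rw [← h2] at h4
    exact h4.mem_closed hcl h1
  obtain ⟨z, hzZ, hzt⟩ := ht'
  have hξz : ξ ⤳ z := specializes_iff_mem_closure.2 hzZ
  have hfz : p₁ z ∈ f ⁻¹ᵁ V := by
    show f (p₁ z) ∈ V
    rw [← Scheme.Hom.comp_apply, show p₁ ≫ f = p₂ ≫ 𝔸(ι; S) ↘ S from pullback.condition,
      Scheme.Hom.comp_apply, hzt,
      ← Scheme.Hom.comp_apply, ha]
    exact hsV
  obtain ⟨i, hzi⟩ := hσcov _ hfz
  have hxξ : i₁ (closedPoint K) = p₁ ξ := by
    rw [hξ, ← Scheme.Hom.comp_apply, hk1]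
  have hxi : i₁ (closedPoint K) ∈ (σ i : X.Opens) := by
    rw [hxξ]
    exact (hξz.map p₁.continuous).mem_open (σ i).1.isOpen hzi
  obtain ⟨hru, c, hrc⟩ := hr i hxi
  -- the function `c * y - 1` on the preimage of `σ i`
  set Ũ : P.Opens := p₁ ⁻¹ᵁ (σ i) with hŨ
  set Y : Γ(P, ⊤) := p₂.appTop (AffineSpace.coord S i) with hY
  set y' : Γ(P, Ũ) := P.presheaf.map (homOfLE (le_top : Ũ ≤ ⊤)).op Y with hy'
  set h : Γ(P, Ũ) := p₁.app (σ i) c * y' - 1 with hh
  have hξŨ : ξ ∈ Ũ := by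
    show p₁ ξ ∈ (σ i : X.Opens)
    rw [← hxξ]; exact hxi
  have hzŨ : z ∈ Ũ := hzi
  -- (α) `h` vanishes at `ξ`
  have hα : ξ ∉ P.basicOpen h := by
    rw [hξ, mem_basicOpen_iff k Ũ hξŨ h]
    have e1 : val k Ũ hξŨ (p₁.app (σ i) c) = val i₁ (σ i) hxi c := by
      rw [← val_comp k p₁ (σ i) hξŨ c]
      exact val_congr hk1 _ _ _
    have e2 : val k Ũ hξŨ y' = algebraMap R K (r i) := by
      rw [hy', val_res k ⊤ Ũ le_top hξŨ]
      have h1 := val_comp k p₂ ⊤ trivial (AffineSpace.coord S i)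
      have h2 := val_congr hk2 ⊤ trivial (AffineSpace.coord S i)
      have h3 := val_comp (Spec.map φ) a ⊤ trivial (AffineSpace.coord S i)
      have h4 : val (Spec.map φ) (a ⁻¹ᵁ ⊤) trivial (a.app ⊤ (AffineSpace.coord S i)) =
          algebraMap R K (r i) := by
        have := val_spec φ (r i)
        rw [← hacoord i] at this
        exact this
      exact h1.symm.trans (h2.trans (h3.trans h4))
    have : val k Ũ hξŨ h = 0 := by
      rw [hh, map_sub, map_mul, map_one, e1, e2, mul_comm, hrc, sub_self]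
    rw [this]
    exact not_isUnit_zero
  -- (β) `h` is invertible at `z`
  have hβ : z ∈ P.basicOpen h := by
    rw [Scheme.mem_basicOpen _ _ _ hzŨ]
    have hy : (P.presheaf.germ Ũ z hzŨ).hom y' ∈ nonunits (P.presheaf.stalk z) := by
      intro hu
      have hz1 : z ∈ P.basicOpen y' := (Scheme.mem_basicOpen _ _ _ hzŨ).2 hu
      rw [hy', Scheme.basicOpen_res] at hz1
      have hz2 : z ∈ P.basicOpen Y := hz1.2
      rw [hY, ← Scheme.preimage_basicOpen_top] at hz2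
      have hz3 : p₂ z ∈ (𝔸(ι; S)).basicOpen (AffineSpace.coord S i) := hz2
      rw [hzt] at hz3
      have hz4 : closedPoint R ∈ a ⁻¹ᵁ (𝔸(ι; S)).basicOpen (AffineSpace.coord S i) := hz3
      rw [Scheme.preimage_basicOpen_top, hacoord i, basicOpen_eq_of_affine] at hz4
      apply hru
      have hz5 : r i ∉ (closedPoint R).asIdeal := hz4
      by_contra hnu
      exact hz5 ((IsLocalRing.mem_maximalIdeal _).2 hnu)
    rw [hh, map_sub, map_mul, map_one]
    have hmem : (P.presheaf.germ Ũ z hzŨ).hom (p₁.app (σ i) c) *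
        (P.presheaf.germ Ũ z hzŨ).hom y' ∈ nonunits (P.presheaf.stalk z) := by
      rw [← IsLocalRing.mem_maximalIdeal] at hy ⊢
      exact Ideal.mul_mem_left _ _ hy
    have := IsLocalRing.isUnit_one_sub_self_of_mem_nonunits _ hmem
    rw [← neg_sub]
    exact this.neg
  exact hα (hξz.mem_open (P.basicOpen h).isOpen hβ)

end Key

end Groth.Agent.Helper5.AnClosed
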