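import Mathlib
import Groth.Agent.Helper5.AnKey

set_option autoImplicit false
universe u

namespace Groth.Agent.Helper5.AnClosed

open CategoryTheory CategoryTheory.Limits AlgebraicGeometry IsLocalRing

variable {X S : Scheme.{u}} (f : X ⟶ S)

/-- If all base changes to affine spaces are closed maps, then the existence part of the
valuative criterion holds. -/
theorem existence_of_closed_affineSpace [QuasiCompact f]
    (hf : ∀ n : ℕ, IsClosedMap (pullback.snd f (𝔸(ULift.{u} (Fin n); S) ↘ S)).base) :
    ValuativeCriterion.Existence f := by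
  rintro ⟨R, K, i₁, i₂, ⟨w⟩⟩
  obtain ⟨U, hU, hxU, V, hV, hsV, hUV, hψ⟩ := exists_affine_range_le f hf R K i₁ i₂ w
  obtain ⟨l, h1, h2⟩ := exists_lift_of_range_le f R K i₁ i₂ w U hU hxU V hV hsV hUV hψ
  exact ⟨⟨⟨l, h1, h2⟩⟩⟩

/-- Stacks 05JX: a quasi-compact morphism is universally closed as soon as all its base changes
to affine spaces over the base are closed. -/
theorem universallyClosed_of_closed_affineSpace [QuasiCompact f]
    (hf : ∀ n : ℕ, IsClosedMap (pullback.snd f (𝔸(ULift.{u} (Fin n); S) ↘ S)).base) :
    UniversallyClosed f :=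
  UniversallyClosed.of_valuativeCriterion f (existence_of_closed_affineSpace f hf)

theorem isClosedMap_snd_of_universallyClosed [UniversallyClosed f] {S' : Scheme.{u}} (g : S' ⟶ S) :
    IsClosedMap (pullback.snd f g).base :=
  (pullback.snd f g).isClosedMap

/-- S9205 -/
theorem s9205 [QuasiCompact f] :
    (UniversallyClosed f ↔ ∀ (S' : Scheme.{u}) (g : S' ⟶ S), LocallyOfFinitePresentation g →
        IsClosedMap (pullback.snd f g).base) ∧
      (UniversallyClosed f ↔
        ∀ n : ℕ, IsClosedMap (pullback.snd f (𝔸(ULift.{u} (Fin n); S) ↘ S)).base) := by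
  refine ⟨⟨fun h S' g _ => isClosedMap_snd_of_universallyClosed f g, fun h => ?_⟩,
    ⟨fun h n => isClosedMap_snd_of_universallyClosed f _, fun h =>
      universallyClosed_of_closed_affineSpace f h⟩⟩
  exact universallyClosed_of_closed_affineSpace f fun n => h _ _ inferInstance

/-- S4379 -/
theorem s4379 [IsSeparated f] [LocallyOfFiniteType f] [QuasiCompact f] :
    IsProper f ↔
      ∀ n : ℕ, IsClosedMap (pullback.snd f (𝔸(ULift.{u} (Fin n); S) ↘ S)).base := by
  constructor
  · intro h n
    exact isClosedMap_snd_of_universallyClosed f _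
  · intro h
    have := universallyClosed_of_closed_affineSpace f h
    exact { }

end Groth.Agent.Helper5.AnClosed
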