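import Mathlib
import Groth.Agent.Helper5.KA4

set_option autoImplicit false
set_option linter.style.haveILetI false
set_option linter.unusedSectionVars false

namespace Groth.Agent.Helper5.Dvr

open Groth.Agent.Helper5.KA IsDedekindDomain

section blowup
variable (B : Type*) [CommRing B] [IsDomain B] [IsNoetherianRing B]
  (K : Type*) [Field K] [Algebra B K] [IsFractionRing B K]

/-- blow-up chart in which `P` becomes a proper principal ideal -/
theorem exists_chart (P : Ideal B) (hPtop : P ≠ ⊤) (hPbot : P ≠ ⊥) :
    ∃ (A' : Subalgebra B K) (x : B), x ≠ 0 ∧ x ∈ P ∧ A'.FG ∧ ¬ IsUnit (algebraMap B A' x) ∧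
      ∀ b ∈ P, ∃ c : A', algebraMap B A' b = c * algebraMap B A' x := by
  classical
  have hinj := IsFractionRing.injective B K
  -- valuation ring
  let A₀ : Subring K := (algebraMap B K).range
  let e : B →+* A₀ := (algebraMap B K).rangeRestrict
  have he_surj : Function.Surjective e := (algebraMap B K).rangeRestrict_surjective
  have hI : P.map e ≠ ⊤ := by
    intro h
    have h1 : (1 : A₀) ∈ P.map e := by rw [h]; trivial
    obtain ⟨p, hp, hp1⟩ := (Ideal.mem_map_iff_of_surjective e he_surj).1 h1
    have : p = 1 := by
      apply hinj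
      have h2 : algebraMap B K p = 1 := congrArg Subtype.val hp1
      rw [h2, map_one]
    exact hPtop ((Ideal.eq_top_iff_one _).2 (this ▸ hp))
  obtain ⟨V, hAV, hIV⟩ := Ideal.image_subset_nonunits_valuationSubring (P.map e) hI
  have hBV : ∀ b : B, algebraMap B K b ∈ V := fun b => hAV ⟨b, rfl⟩
  have hPV : ∀ b ∈ P, V.valuation (algebraMap B K b) < 1 := by
    intro b hb
    rw [← ValuationSubring.mem_nonunits_iff]
    exact hIV ⟨e b, Ideal.mem_map_of_mem e hb, rfl⟩
  -- generators
  obtain ⟨s, hs⟩ := (isNoetherianRing_iff_ideal_fg B).1 ‹_› P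
  have hsne : s.Nonempty := by
    by_contra h
    rw [Finset.not_nonempty_iff_eq_empty] at h
    apply hPbot
    rw [← hs, h]; simp
  obtain ⟨x, hxs, hxmax⟩ := Finset.exists_max_image s (fun y => V.valuation (algebraMap B K y)) hsne
  have hxP : x ∈ P := by rw [← hs]; exact Ideal.subset_span hxs
  have hx0 : x ≠ 0 := by
    intro h0
    apply hPbot
    rw [← hs, Ideal.span_eq_bot]
    intro y hy
    have h1 := hxmax y hy
    simp only [h0, map_zero] at h1
    have h2 : V.valuation (algebraMap B K y) = 0 := le_antisymm h1 zero_le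
    rw [map_eq_zero] at h2
    exact hinj (by rw [h2, map_zero])
  have hxK : algebraMap B K x ≠ 0 := fun h => hx0 (hinj (by rw [h, map_zero]))
  set A' : Subalgebra B K :=
    Algebra.adjoin B ((fun y => algebraMap B K y / algebraMap B K x) '' (s : Set B)) with hA'
  have hA'V : ∀ z ∈ A', z ∈ V := by
    intro z hz
    induction hz using Algebra.adjoin_induction with
    | mem z hz =>
      obtain ⟨y, hy, rfl⟩ := hz
      rw [← ValuationSubring.valuation_le_one_iff, map_div₀]
      exact div_le_one_of_le₀ (hxmax y hy) zero_le
    | algebraMap b => exact hBV b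
    | add a b _ _ ha hb => exact V.add_mem _ _ ha hb
    | mul a b _ _ ha hb => exact V.mul_mem _ _ ha hb
  refine ⟨A', x, hx0, hxP, ?_, ?_, ?_⟩
  · exact ⟨s.image (fun y => algebraMap B K y / algebraMap B K x), by rw [hA', Finset.coe_image]⟩
  · intro hu
    obtain ⟨u, hu⟩ := hu.exists_right_inv
    have h1 : algebraMap B K x * (u : K) = 1 := by
      have := congrArg Subtype.val hu
      simpa using this
    have h2 : V.valuation (algebraMap B K x) * V.valuation (u : K) = 1 := by
      rw [← map_mul, h1, map_one]
    have h3 : V.valuation (u : K) ≤ 1 := (ValuationSubring.valuation_le_one_iff V _).2 (hA'V _ u.2)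
    have h4 := hPV x hxP
    have h5 : V.valuation (algebraMap B K x) * V.valuation (u : K) < 1 :=
      lt_of_le_of_lt (mul_le_of_le_one_right' h3) h4
    exact (ne_of_lt h5) h2
  · intro b hb
    rw [← hs] at hb
    induction hb using Submodule.span_induction with
    | mem y hy =>
      refine ⟨⟨algebraMap B K y / algebraMap B K x, Algebra.subset_adjoin ⟨y, hy, rfl⟩⟩, ?_⟩
      apply Subtype.ext
      simp only [Subalgebra.coe_algebraMap, Subalgebra.coe_mul]
      rw [div_mul_cancel₀ _ hxK]
    | zero => exact ⟨0, by simp⟩
    | add a b _ _ ha hb =>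
      obtain ⟨c₁, h₁⟩ := ha
      obtain ⟨c₂, h₂⟩ := hb
      exact ⟨c₁ + c₂, by rw [map_add, h₁, h₂, add_mul]⟩
    | smul r a _ ha =>
      obtain ⟨c, hc⟩ := ha
      exact ⟨algebraMap B A' r * c, by rw [smul_eq_mul, map_mul, hc, mul_assoc]⟩

end blowup

section finite
variable (R : Type*) [CommRing R] [IsDomain R] [IsNoetherianRing R] [Ring.KrullDimLE 1 R]
  (K : Type*) [Field K] [Algebra R K] [IsFractionRing R K]
  (L : Type*) [Field L] [Algebra K L] [FiniteDimensional K L] [Algebra R L] [IsScalarTower R K L]

include K in
theorem isDedekindDomain_integralClosure' : IsDedekindDomain (integralClosure R L) := by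
  have hinj : Function.Injective (algebraMap (integralClosure R L) L) := Subtype.val_injective
  have h1 : IsNoetherianRing (integralClosure R L) :=
    isNoetherianRing_of_between R K L (integralClosure R L) hinj
  have h2 : IsIntegrallyClosed (integralClosure R L) :=
    integralClosure.isIntegrallyClosedOfFiniteExtension K
  have h3 : Ring.DimensionLEOne (integralClosure R L) :=
    ⟨fun {P} hP hPp => isMaximal_of_ne_bot R K L (integralClosure R L) hinj P hP⟩
  exact { }

include K in
/-- a DVR of `L` over a given nonzero maximal ideal of a one-dimensional Noetherian domain -/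
theorem exists_dvr_over (m : Ideal R) [hm : m.IsMaximal] (hm0 : m ≠ ⊥) :
    ∃ O : ValuationSubring L, IsDiscreteValuationRing O ∧ (∀ r : R, algebraMap R L r ∈ O) ∧
      ∀ r ∈ m, O.valuation (algebraMap R L r) < 1 := by
  have hD := isDedekindDomain_integralClosure' R K L
  have hfr : IsFractionRing (integralClosure R L) L :=
    integralClosure.isFractionRing_of_finite_extension K L
  have hRL : Function.Injective (algebraMap R L) := by
    rw [IsScalarTower.algebraMap_eq R K L]
    exact (algebraMap K L).injective.comp (IsFractionRing.injective R K)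
  have hRD : Function.Injective (algebraMap R (integralClosure R L)) := by
    intro a b hab
    apply hRL
    have := congrArg (algebraMap (integralClosure R L) L) hab
    rwa [← IsScalarTower.algebraMap_apply, ← IsScalarTower.algebraMap_apply] at this
  have hker : RingHom.ker (algebraMap R (integralClosure R L)) ≤ m := by
    rw [(RingHom.injective_iff_ker_eq_bot _).1 hRD]; exact bot_le
  obtain ⟨N, hN, hNm⟩ := Ideal.exists_ideal_over_maximal_of_isIntegral m hker
  have hN0 : N ≠ ⊥ := by
    intro h
    apply hm0
    rw [← hNm, h]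
    exact (RingHom.injective_iff_ker_eq_bot _).1 hRD
  obtain ⟨v, hv⟩ : ∃ v : HeightOneSpectrum (integralClosure R L), v.asIdeal = N :=
    ⟨⟨N, hN.isPrime, hN0⟩, rfl⟩
  refine ⟨HeightOneSpectrum.valuationSubringAtPrime L v, ?_, ?_, ?_⟩
  · have hloc : IsLocalization.AtPrime
        (HeightOneSpectrum.valuationSubringAtPrime L v) v.asIdeal :=
      (inferInstance : IsLocalization v.asIdeal.primeCompl
        (HeightOneSpectrum.valuationSubringAtPrime L v))
    exact IsLocalization.AtPrime.isDiscreteValuationRing_of_dedekind_domain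
      (integralClosure R L) v.ne_bot _
  · intro r
    have h1 : algebraMap R L r = algebraMap (integralClosure R L) L
        (algebraMap R (integralClosure R L) r) := IsScalarTower.algebraMap_apply _ _ _ _
    rw [h1, ← ValuationSubring.mem_toSubring,
      HeightOneSpectrum.valuationSubringAtPrime_toSubring]
    exact Subalgebra.algebraMap_mem _ _
  · intro r hr
    have h1 : algebraMap R L r = algebraMap (integralClosure R L) L
        (algebraMap R (integralClosure R L) r) := IsScalarTower.algebraMap_apply _ _ _ _
    have h2 : algebraMap R (integralClosure R L) r ∈ v.asIdeal := by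
      rw [hv, ← Ideal.mem_comap, hNm]; exact hr
    rw [HeightOneSpectrum.valuationSubringAtPrime_eq_valuationSubring, h1,
      ← (Valuation.isEquiv_valuation_valuationSubring _).lt_one_iff_lt_one,
      HeightOneSpectrum.valuation_lt_one_iff_mem]
    exact h2

end finite

section chart
variable (A' : Type*) [CommRing A'] [IsDomain A'] [IsNoetherianRing A']
  (K : Type*) [Field K] [Algebra A' K] [IsFractionRing A' K]
  (L : Type*) [Field L] [Algebra K L] [FiniteDimensional K L] [Algebra A' L] [IsScalarTower A' K L]

include K in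
theorem exists_dvr_of_nonunit (x : A') (hx0 : x ≠ 0) (hxu : ¬ IsUnit x) :
    ∃ O : ValuationSubring L, IsDiscreteValuationRing O ∧ (∀ a : A', algebraMap A' L a ∈ O) ∧
      O.valuation (algebraMap A' L x) < 1 := by
  have hne : Ideal.span {x} ≠ ⊤ := by rwa [Ne, Ideal.span_singleton_eq_top]
  obtain ⟨⟨p', hp'⟩⟩ := Ideal.nonempty_minimalPrimes hne
  haveI : p'.IsPrime := hp'.1.1
  have hht : p'.height ≤ 1 :=
    Ideal.height_le_one_of_isPrincipal_of_mem_minimalPrimes (Ideal.span {x}) p' hp'
  have hunit : ∀ y : p'.primeCompl, IsUnit (algebraMap A' K y) := by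
    intro y
    apply IsUnit.mk0
    intro h0
    have hy : (y : A') = 0 := IsFractionRing.injective A' K (by rw [h0, map_zero])
    exact y.2 (hy ▸ p'.zero_mem)
  letI : Algebra (Localization.AtPrime p') K :=
    (IsLocalization.lift (M := p'.primeCompl) (g := algebraMap A' K) hunit).toAlgebra
  haveI : IsScalarTower A' (Localization.AtPrime p') K :=
    IsScalarTower.of_algebraMap_eq (fun x => (IsLocalization.lift_eq hunit x).symm)
  haveI : IsDomain (Localization.AtPrime p') :=
    IsLocalization.isDomain_of_le_nonZeroDivisors _ p'.primeCompl_le_nonZeroDivisors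
  haveI : IsFractionRing (Localization.AtPrime p') K :=
    IsFractionRing.isFractionRing_of_isDomain_of_isLocalization p'.primeCompl _ K
  letI : Algebra (Localization.AtPrime p') L :=
    ((algebraMap K L).comp (algebraMap (Localization.AtPrime p') K)).toAlgebra
  haveI : IsScalarTower (Localization.AtPrime p') K L := IsScalarTower.of_algebraMap_eq (fun _ => rfl)
  haveI : IsScalarTower A' (Localization.AtPrime p') L := IsScalarTower.of_algebraMap_eq (fun a => by
    change algebraMap A' L a = algebraMap K L (algebraMap (Localization.AtPrime p') K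
      (algebraMap A' (Localization.AtPrime p') a))
    rw [← IsScalarTower.algebraMap_apply A' (Localization.AtPrime p') K,
      ← IsScalarTower.algebraMap_apply A' K L])
  haveI : IsNoetherianRing (Localization.AtPrime p') :=
    IsLocalization.isNoetherianRing p'.primeCompl _ inferInstance
  haveI : Ring.KrullDimLE 1 (Localization.AtPrime p') := by
    rw [Ring.krullDimLE_iff, IsLocalization.AtPrime.ringKrullDim_eq_height p' _]
    exact_mod_cast hht
  have hxmem : algebraMap A' (Localization.AtPrime p') x ∈
      IsLocalRing.maximalIdeal (Localization.AtPrime p') :=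
    (IsLocalization.AtPrime.to_map_mem_maximal_iff _ p' x).2
      (hp'.1.2 (Ideal.mem_span_singleton_self x))
  have hm0 : IsLocalRing.maximalIdeal (Localization.AtPrime p') ≠ ⊥ := by
    intro h
    rw [h, Ideal.mem_bot] at hxmem
    have hinj : Function.Injective (algebraMap A' (Localization.AtPrime p')) :=
      IsLocalization.injective _ p'.primeCompl_le_nonZeroDivisors
    exact hx0 (hinj (by rw [hxmem, map_zero]))
  obtain ⟨O, hO, hC, hlt⟩ := exists_dvr_over (Localization.AtPrime p') K L
    (IsLocalRing.maximalIdeal (Localization.AtPrime p')) hm0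
  refine ⟨O, hO, fun a => ?_, ?_⟩
  · rw [IsScalarTower.algebraMap_apply A' (Localization.AtPrime p') L]; exact hC _
  · rw [IsScalarTower.algebraMap_apply A' (Localization.AtPrime p') L]
    exact hlt _ hxmem

end chart

section finiteCase
variable (B : Type*) [CommRing B] [IsDomain B] [IsNoetherianRing B]
  (K : Type*) [Field K] [Algebra B K] [IsFractionRing B K]
  (L : Type*) [Field L] [Algebra K L] [FiniteDimensional K L] [Algebra B L] [IsScalarTower B K L]

include K in
theorem exists_dvr_finite (P : Ideal B) (hPtop : P ≠ ⊤) (hPbot : P ≠ ⊥) :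
    ∃ O : ValuationSubring L, IsDiscreteValuationRing O ∧ (∀ b : B, algebraMap B L b ∈ O) ∧
      ∀ b ∈ P, O.valuation (algebraMap B L b) < 1 := by
  obtain ⟨A', x, hx0, hxP, hfg, hxu, hPA⟩ := exists_chart B K P hPtop hPbot
  have hinjA : Function.Injective (algebraMap A' K) := Subtype.val_injective
  haveI : Algebra.FiniteType B A' := (Subalgebra.fg_iff_finiteType A').1 hfg
  haveI : IsNoetherianRing A' := Algebra.FiniteType.isNoetherianRing B A'
  haveI : IsFractionRing A' K := isFractionRing_of_between B K A' hinjA
  haveI : IsScalarTower A' K L := IsScalarTower.of_algebraMap_eq (fun _ => rfl)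
  have hBA : ∀ b : B, algebraMap A' L (algebraMap B A' b) = algebraMap B L b := by
    intro b
    change algebraMap K L (algebraMap A' K (algebraMap B A' b)) = _
    rw [← IsScalarTower.algebraMap_apply B A' K, ← IsScalarTower.algebraMap_apply B K L]
  have hx0' : algebraMap B A' x ≠ 0 := by
    intro h
    have := congrArg (algebraMap A' K) h
    rw [← IsScalarTower.algebraMap_apply B A' K, map_zero] at this
    exact hx0 (IsFractionRing.injective B K (by rw [this, map_zero]))
  obtain ⟨O, hO, hA, hlt⟩ := exists_dvr_of_nonunit A' K L (algebraMap B A' x) hx0' hxu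
  refine ⟨O, hO, fun b => ?_, fun b hb => ?_⟩
  · rw [← hBA]; exact hA _
  · obtain ⟨c, hc⟩ := hPA b hb
    rw [← hBA, hc, map_mul, map_mul]
    have h1 : O.valuation (algebraMap A' L c) ≤ 1 := (ValuationSubring.valuation_le_one_iff O _).2 (hA c)
    exact lt_of_le_of_lt (mul_le_of_le_one_left' h1) hlt

end finiteCase

theorem map_adjoin_ne_top {B L ι : Type*} [CommRing B] [CommRing L] [Algebra B L] (x : ι → L)
    (hai : AlgebraicIndependent B x) (P : Ideal B) (hP : P ≠ ⊤) :
    P.map (algebraMap B (Algebra.adjoin B (Set.range x))) ≠ ⊤ := by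
  intro h
  let e : MvPolynomial ι B ≃ₐ[B] Algebra.adjoin B (Set.range x) := hai.aevalEquiv
  have h1 : (1 : Algebra.adjoin B (Set.range x)) ∈
      P.map (algebraMap B (Algebra.adjoin B (Set.range x))) := by rw [h]; trivial
  have h2 := Ideal.mem_map_of_mem (e.symm : Algebra.adjoin B (Set.range x) →+* MvPolynomial ι B) h1
  rw [Ideal.map_map, map_one] at h2
  have h3 : ((e.symm : Algebra.adjoin B (Set.range x) →+* MvPolynomial ι B).comp
      (algebraMap B (Algebra.adjoin B (Set.range x)))) = MvPolynomial.C := by
    ext b
    simp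
  rw [h3, MvPolynomial.mem_map_C_iff] at h2
  have h4 := h2 0
  rw [MvPolynomial.coeff_zero_one] at h4
  exact hP ((Ideal.eq_top_iff_one _).2 h4)

section general
variable (B : Type*) [CommRing B] [IsDomain B] [IsNoetherianRing B]
  (L : Type*) [Field L] [Algebra B L]

theorem exists_dvr_algebraic (hinj : Function.Injective (algebraMap B L))
    [halg : Algebra.IsAlgebraic B L] (S : Finset L)
    (hS : Subfield.closure (Set.range (algebraMap B L) ∪ (S : Set L)) = ⊤)
    (P : Ideal B) (hPtop : P ≠ ⊤) (hPbot : P ≠ ⊥) :
    ∃ O : ValuationSubring L, IsDiscreteValuationRing O ∧ (∀ b : B, algebraMap B L b ∈ O) ∧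
      ∀ b ∈ P, O.valuation (algebraMap B L b) < 1 := by
  classical
  haveI : FaithfulSMul B L := (faithfulSMul_iff_algebraMap_injective B L).2 hinj
  letI : Algebra (FractionRing B) L := FractionRing.liftAlgebra B L
  haveI : IsScalarTower B (FractionRing B) L := FractionRing.isScalarTower_liftAlgebra B L
  haveI halg2 : Algebra.IsAlgebraic (FractionRing B) L :=
    IsFractionRing.comap_isAlgebraic_iff.1 halg
  have hadj : IntermediateField.adjoin (FractionRing B) (S : Set L) = ⊤ := by
    rw [eq_top_iff]
    intro z _
    have hz : z ∈ Subfield.closure (Set.range (algebraMap B L) ∪ (S : Set L)) := by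
      rw [hS]; trivial
    have hle : Subfield.closure (Set.range (algebraMap B L) ∪ (S : Set L)) ≤
        (IntermediateField.adjoin (FractionRing B) (S : Set L)).toSubfield := by
      rw [Subfield.closure_le]
      rintro y (⟨b, rfl⟩ | hy)
      · rw [IsScalarTower.algebraMap_apply B (FractionRing B) L]
        exact IntermediateField.algebraMap_mem _ _
      · exact IntermediateField.subset_adjoin _ _ hy
    exact hle hz
  haveI hfd : FiniteDimensional (FractionRing B) L := by
    haveI : Finite (S : Set L) := S.finite_toSet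
    have h1 : FiniteDimensional (FractionRing B)
        (IntermediateField.adjoin (FractionRing B) (S : Set L)) :=
      IntermediateField.finiteDimensional_adjoin (fun x _ => (halg2.isAlgebraic x).isIntegral)
    refine Module.Finite.of_surjective (IntermediateField.val
      (IntermediateField.adjoin (FractionRing B) (S : Set L))).toLinearMap ?_
    intro z
    exact ⟨⟨z, by rw [hadj]; trivial⟩, rfl⟩
  exact exists_dvr_finite B (FractionRing B) L P hPtop hPbot

/-- **Existence of a DVR** of a finitely generated field extension of the fraction field of a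
Noetherian domain, in which a given proper nonzero ideal generates a proper ideal. -/
theorem exists_dvr (hinj : Function.Injective (algebraMap B L)) (S : Finset L)
    (hS : Subfield.closure (Set.range (algebraMap B L) ∪ (S : Set L)) = ⊤)
    (P : Ideal B) (hPtop : P ≠ ⊤) (hPbot : P ≠ ⊥) :
    ∃ O : ValuationSubring L, IsDiscreteValuationRing O ∧ (∀ b : B, algebraMap B L b ∈ O) ∧
      ∀ b ∈ P, O.valuation (algebraMap B L b) < 1 := by
  classical
  haveI : FaithfulSMul B L := (faithfulSMul_iff_algebraMap_injective B L).2 hinj
  -- L is algebraic over B[S]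
  haveI halgS : Algebra.IsAlgebraic (Algebra.adjoin B (S : Set L)) L := by
    haveI : IsFractionRing (Algebra.adjoin B (S : Set L)) L := by
      refine IsFractionRing.of_field (R := Algebra.adjoin B (S : Set L)) (K := L) fun z => ?_
      have hz : z ∈ Subfield.closure (Set.range (algebraMap B L) ∪ (S : Set L)) := by
        rw [hS]; trivial
      rw [Subfield.mem_closure_iff] at hz
      obtain ⟨y, hy, w, hw, rfl⟩ := hz
      rw [← Algebra.adjoin_eq_ring_closure] at hy hw
      exact ⟨⟨y, hy⟩, ⟨w, hw⟩, rfl⟩
    exact IsLocalization.isAlgebraic L (nonZeroDivisors (Algebra.adjoin B (S : Set L)))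
  obtain ⟨t, htS, ht⟩ := exists_isTranscendenceBasis_subset (R := B) (S : Set L)
  have htfin : t.Finite := S.finite_toSet.subset htS
  haveI halg1 : Algebra.IsAlgebraic (Algebra.adjoin B (Set.range ((↑) : t → L))) L := ht.isAlgebraic
  have hfg : (Algebra.adjoin B (Set.range ((↑) : t → L))).FG :=
    ⟨htfin.toFinset, by rw [Set.Finite.coe_toFinset, Subtype.range_coe]⟩
  haveI : Algebra.FiniteType B (Algebra.adjoin B (Set.range ((↑) : t → L))) := (Subalgebra.fg_iff_finiteType _).1 hfg
  haveI : IsNoetherianRing (Algebra.adjoin B (Set.range ((↑) : t → L))) := Algebra.FiniteType.isNoetherianRing B _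
  have hinj₁ : Function.Injective (algebraMap (Algebra.adjoin B (Set.range ((↑) : t → L))) L) := Subtype.val_injective
  have hS₁ : Subfield.closure (Set.range (algebraMap (Algebra.adjoin B (Set.range ((↑) : t → L))) L) ∪ (S : Set L)) = ⊤ := by
    rw [eq_top_iff, ← hS]
    apply Subfield.closure_mono
    apply Set.union_subset_union_left
    rintro _ ⟨b, rfl⟩
    exact ⟨algebraMap B (Algebra.adjoin B (Set.range ((↑) : t → L))) b, rfl⟩
  have hBB₁ : Function.Injective (algebraMap B (Algebra.adjoin B (Set.range ((↑) : t → L)))) := by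
    intro a b hab
    apply hinj
    have := congrArg (algebraMap (Algebra.adjoin B (Set.range ((↑) : t → L))) L) hab
    rwa [← IsScalarTower.algebraMap_apply, ← IsScalarTower.algebraMap_apply] at this
  have hP₁bot : P.map (algebraMap B (Algebra.adjoin B (Set.range ((↑) : t → L)))) ≠ ⊥ := by
    obtain ⟨b, hb, hb0⟩ := Submodule.exists_mem_ne_zero_of_ne_bot hPbot
    intro h
    have h1 : algebraMap B (Algebra.adjoin B (Set.range ((↑) : t → L))) b ∈ P.map (algebraMap B (Algebra.adjoin B (Set.range ((↑) : t → L)))) :=
      Ideal.mem_map_of_mem _ hb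
    rw [h, Ideal.mem_bot] at h1
    exact hb0 (hBB₁ (by rw [h1, map_zero]))
  have hP₁top : P.map (algebraMap B (Algebra.adjoin B (Set.range ((↑) : t → L)))) ≠ ⊤ :=
    map_adjoin_ne_top _ ht.1 P hPtop
  obtain ⟨O, hO, hB₁, hlt⟩ := exists_dvr_algebraic (Algebra.adjoin B (Set.range ((↑) : t → L))) L hinj₁ S hS₁
    _ hP₁top hP₁bot
  refine ⟨O, hO, fun b => ?_, fun b hb => ?_⟩
  · rw [IsScalarTower.algebraMap_apply B (Algebra.adjoin B (Set.range ((↑) : t → L))) L]; exact hB₁ _
  · rw [IsScalarTower.algebraMap_apply B (Algebra.adjoin B (Set.range ((↑) : t → L))) L]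
    exact hlt _ (Ideal.mem_map_of_mem _ hb)

end general

end Groth.Agent.Helper5.Dvr
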