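import Mathlib.AlgebraicGeometry.ValuativeCriterion

set_option autoImplicit false
universe u

namespace Groth.Agent.Helper5.DvrSpec

open CategoryTheory CategoryTheory.Limits AlgebraicGeometry

open IsLocalRing in
/-- scheme plumbing (following the proof of the valuative criterion) -/
theorem exists_hom_of_factor {X Y : Scheme.{u}} (p : X ⟶ Y) (x : X) (y' : Y)
    (hsp : p.base x ⤳ y') (A : ValuationSubring (X.residueField x))
    (hA : ∀ t, (Y.presheaf.stalkSpecializes hsp ≫ p.stalkMap x ≫ X.residue x).hom t ∈ A.toSubring)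
    (hloc : IsLocalHom
      ((Y.presheaf.stalkSpecializes hsp ≫ p.stalkMap x ≫ X.residue x).hom.codRestrict A.toSubring hA)) :
    ∃ (h : Spec (CommRingCat.of A) ⟶ Y),
      h.base (IsLocalRing.closedPoint A) = y' ∧
      Spec.map (CommRingCat.ofHom A.subtype) ≫ h = X.fromSpecResidueField x ≫ p := by
  let ψ : Y.presheaf.stalk y' ⟶ X.residueField x :=
    Y.presheaf.stalkSpecializes hsp ≫ p.stalkMap x ≫ X.residue x
  let stalk_to_A : Y.presheaf.stalk y' ⟶ .of A :=
    CommRingCat.ofHom (ψ.hom.codRestrict _ hA)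
  have w : X.fromSpecResidueField x ≫ p =
      Spec.map (CommRingCat.ofHom (algebraMap A (X.residueField x))) ≫
        Spec.map stalk_to_A ≫ Y.fromSpecStalk y' := by
    rw [Scheme.fromSpecResidueField, Category.assoc, ← Scheme.SpecMap_stalkMap_fromSpecStalk,
      ← Scheme.SpecMap_stalkSpecializes_fromSpecStalk hsp]
    simp_rw [← Spec.map_comp_assoc]
    rfl
  have hcl : (Spec.map stalk_to_A ≫ Y.fromSpecStalk y') (closedPoint A) = y' := by
    rw [Scheme.Hom.comp_apply]
    have : Spec.map stalk_to_A (closedPoint A) = closedPoint (Y.presheaf.stalk y') :=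
      comap_closedPoint (S := A) (ψ.hom.codRestrict A.toSubring hA)
    rw [this, Y.fromSpecStalk_closedPoint]
  exact ⟨Spec.map stalk_to_A ≫ Y.fromSpecStalk y', hcl, w.symm⟩

open IsLocalRing in
theorem not_isLocalHom {X Y : Scheme.{u}} (p : X ⟶ Y) (x : X) (y' : Y)
    (hsp : p.base x ⤳ y') (hne : y' ≠ p.base x) :
    ¬ IsLocalHom (Y.presheaf.stalkSpecializes hsp ≫ p.stalkMap x ≫ X.residue x).hom := by
  intro hloc
  apply hne
  set ψ := (Y.presheaf.stalkSpecializes hsp ≫ p.stalkMap x ≫ X.residue x).hom with hψ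
  let A : ValuationSubring (X.residueField x) := ⊤
  have hA : ∀ t, ψ t ∈ A.toSubring := fun t => trivial
  have hloc' : IsLocalHom (ψ.codRestrict A.toSubring hA) := by
    constructor
    intro a ha
    apply hloc.map_nonunit
    have := ha.map A.subtype
    exact this
  obtain ⟨h, hcl, w⟩ := exists_hom_of_factor p x y' hsp A hA hloc'
  have : IsLocalHom A.subtype := by
    constructor
    intro a ha
    have ha0 : (a : X.residueField x) ≠ 0 := ha.ne_zero
    have hinv : (a : X.residueField x)⁻¹ ∈ A := trivial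
    refine ⟨⟨a, ⟨_, hinv⟩, ?_, ?_⟩, rfl⟩
    · apply Subtype.ext; simp [mul_inv_cancel₀ ha0]
    · apply Subtype.ext; simp [inv_mul_cancel₀ ha0]
  have h1 : Spec.map (CommRingCat.ofHom A.subtype) (closedPoint (X.residueField x)) =
      closedPoint A := comap_closedPoint A.subtype
  have h2 := congrArg (fun g => g.base (closedPoint (X.residueField x))) w
  simp only [Scheme.Hom.comp_apply] at h2
  have h3 : (X.fromSpecResidueField x) (closedPoint (X.residueField x)) = x :=
    Scheme.fromSpecResidueField_apply _ _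
  rw [h3, h1] at h2
  rw [← h2]
  exact hcl.symm

end Groth.Agent.Helper5.DvrSpec
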