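import Mathlib
import Groth.Agent.Helper5.Dvr
import Groth.Agent.Helper5.DvrSpec1

set_option autoImplicit false
set_option linter.style.haveILetI false
set_option linter.unnecessarySimpa false
universe u

namespace Groth.Agent.Helper5.DvrSpec

open CategoryTheory CategoryTheory.Limits AlgebraicGeometry

/-- DVR version of `IsLocalRing.exists_factor_valuationRing`. -/
theorem exists_factor_dvr {R : Type u} [CommRing R] [IsLocalRing R] [IsNoetherianRing R]
    {L : Type u} [Field L] (ψ : R →+* L) (hfin : ψ.EssFiniteType) (hnl : ¬ IsLocalHom ψ) :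
    ∃ (A : ValuationSubring L) (h : ∀ x, ψ x ∈ A.toSubring), IsDiscreteValuationRing A ∧
      IsLocalHom (ψ.codRestrict A.toSubring h) := by
  classical
  set 𝔭 := RingHom.ker ψ with h𝔭
  haveI : 𝔭.IsPrime := RingHom.ker_isPrime ψ
  let B := R ⧸ 𝔭
  letI : Algebra B L := (RingHom.kerLift ψ).toAlgebra
  have hinj : Function.Injective (algebraMap B L) := RingHom.kerLift_injective ψ
  have hmk : ∀ r : R, algebraMap B L (Ideal.Quotient.mk 𝔭 r) = ψ r := fun r => rfl
  -- essential finiteness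
  letI : Algebra R L := ψ.toAlgebra
  have hess : Algebra.EssFiniteType R L := hfin
  obtain ⟨σ, hσ⟩ := (Algebra.essFiniteType_iff R L).1 hess
  have hS : Subfield.closure (Set.range (algebraMap B L) ∪ (σ : Set L)) = ⊤ := by
    rw [_root_.eq_top_iff]
    intro z _
    set K' := Subfield.closure (Set.range (algebraMap B L) ∪ (σ : Set L)) with hK'
    have hadj : ∀ y ∈ Algebra.adjoin R (σ : Set L), y ∈ K' := by
      intro y hy
      induction hy using Algebra.adjoin_induction with
      | mem x hx => exact Subfield.subset_closure (Or.inr hx)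
      | algebraMap r =>
        exact Subfield.subset_closure (Or.inl ⟨Ideal.Quotient.mk 𝔭 r, rfl⟩)
      | add x y _ _ hx hy => exact K'.add_mem hx hy
      | mul x y _ _ hx hy => exact K'.mul_mem hx hy
    obtain ⟨t, ht, htu, hzt⟩ := hσ z
    have : z = z * t * t⁻¹ := by
      rw [mul_assoc, mul_inv_cancel₀ htu.ne_zero, mul_one]
    rw [this]
    exact K'.mul_mem (hadj _ hzt) (K'.inv_mem (hadj _ ht))
  set P : Ideal B := (IsLocalRing.maximalIdeal R).map (Ideal.Quotient.mk 𝔭) with hP
  have h𝔭le : 𝔭 ≤ IsLocalRing.maximalIdeal R := IsLocalRing.le_maximalIdeal (Ideal.IsPrime.ne_top ‹_›)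
  have hPtop : P ≠ ⊤ := by
    intro h
    have h1 : (1 : B) ∈ P := by rw [h]; trivial
    rw [hP, Ideal.mem_map_iff_of_surjective _ Ideal.Quotient.mk_surjective] at h1
    obtain ⟨m, hm, hm1⟩ := h1
    have h2 : m - 1 ∈ 𝔭 := by
      rw [← Ideal.Quotient.eq_zero_iff_mem, map_sub, hm1, map_one, sub_self]
    have h3 : (1 : R) ∈ IsLocalRing.maximalIdeal R := by
      have := Ideal.sub_mem _ hm (h𝔭le h2)
      simpa using this
    exact (IsLocalRing.maximalIdeal.isMaximal R).ne_top ((Ideal.eq_top_iff_one _).2 h3)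
  have hPbot : P ≠ ⊥ := by
    intro h
    rw [hP, Ideal.map_eq_bot_iff_le_ker, Ideal.mk_ker] at h
    apply hnl
    constructor
    intro a ha
    by_contra hna
    have : a ∈ 𝔭 := h ((IsLocalRing.mem_maximalIdeal a).2 hna)
    rw [h𝔭, RingHom.mem_ker] at this
    rw [this] at ha
    exact not_isUnit_zero ha
  obtain ⟨O, hdvr, hBO, hPO⟩ := Dvr.exists_dvr B L hinj σ hS P hPtop hPbot
  refine ⟨O, fun x => hBO (Ideal.Quotient.mk 𝔭 x), hdvr, ?_⟩
  constructor
  intro a ha
  by_contra hna
  have h1 : Ideal.Quotient.mk 𝔭 a ∈ P :=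
    Ideal.mem_map_of_mem _ ((IsLocalRing.mem_maximalIdeal a).2 hna)
  have h2 := hPO _ h1
  rw [hmk] at h2
  have h3 := (ValuationSubring.valuation_eq_one_iff O _).1 ha
  rw [RingHom.codRestrict_apply] at h3
  exact absurd h3 h2.ne

theorem essFiniteType_stalkSpecializes {Y : Scheme.{u}} {y y' : Y} (hsp : y ⤳ y') :
    (Y.presheaf.stalkSpecializes hsp).hom.EssFiniteType := by
  obtain ⟨V, hV, hy'V, -⟩ :=
    exists_isAffineOpen_mem_and_subset (X := Y) (x := y') (U := ⊤) trivial
  have hyV : y ∈ V := hsp.mem_open V.isOpen hy'V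
  have h1 : (Y.presheaf.germ V y hyV).hom.EssFiniteType := by
    letI : Algebra Γ(Y, V) (Y.presheaf.stalk y) :=
      Y.presheaf.algebra_section_stalk (⟨y, hyV⟩ : V)
    have hloc : IsLocalization.AtPrime (Y.presheaf.stalk y)
      (hV.primeIdealOf ⟨y, hyV⟩).asIdeal := hV.isLocalization_stalk ⟨y, hyV⟩
    have : Algebra.EssFiniteType Γ(Y, V) (Y.presheaf.stalk y) :=
      Algebra.EssFiniteType.of_isLocalization _ (hV.primeIdealOf ⟨y, hyV⟩).asIdeal.primeCompl
    exact RingHom.essFiniteType_algebraMap.2 this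
  have h2 : Y.presheaf.germ V y' hy'V ≫ Y.presheaf.stalkSpecializes hsp =
      Y.presheaf.germ V y hyV := TopCat.Presheaf.germ_stalkSpecializes _ hy'V hsp
  rw [← h2, CommRingCat.hom_comp] at h1
  exact RingHom.EssFiniteType.of_comp _ h1

theorem essFiniteType_psi {X Y : Scheme.{u}} (p : X ⟶ Y) [LocallyOfFiniteType p] (x : X) (y' : Y)
    (hsp : p.base x ⤳ y') :
    (Y.presheaf.stalkSpecializes hsp ≫ p.stalkMap x ≫ X.residue x).hom.EssFiniteType := by
  rw [CommRingCat.hom_comp, CommRingCat.hom_comp]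
  refine RingHom.EssFiniteType.comp (essFiniteType_stalkSpecializes hsp) ?_
  refine RingHom.EssFiniteType.comp (LocallyOfFiniteType.stalkMap p x) ?_
  apply RingHom.FiniteType.essFiniteType
  apply RingHom.FiniteType.of_surjective
  exact Ideal.Quotient.mk_surjective

theorem main {X Y : Scheme.{u}} [IsLocallyNoetherian Y]
    (p : X ⟶ Y) [LocallyOfFiniteType p] (x : X) (y' : Y) (hsp : p.base x ⤳ y')
    (hne : y' ≠ p.base x) :
    ∃ (A : ValuationSubring (X.residueField x)) (h : Spec (CommRingCat.of A) ⟶ Y),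
      IsDiscreteValuationRing A ∧
      h.base (IsLocalRing.closedPoint A) = y' ∧
      Spec.map (CommRingCat.ofHom A.subtype) ≫ h = X.fromSpecResidueField x ≫ p := by
  obtain ⟨A, hA, hdvr, hloc⟩ := exists_factor_dvr
    (Y.presheaf.stalkSpecializes hsp ≫ p.stalkMap x ≫ X.residue x).hom
    (essFiniteType_psi p x y' hsp) (not_isLocalHom p x y' hsp hne)
  obtain ⟨h, hcl, w⟩ := exists_hom_of_factor p x y' hsp A hA hloc
  exact ⟨A, h, hdvr, hcl, w⟩

end Groth.Agent.Helper5.DvrSpec
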