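import Mathlib
import Groth.Agent.Helper5.DvrSpec

set_option autoImplicit false
universe u

namespace Groth.Agent.Helper5.DvrSep

open CategoryTheory CategoryTheory.Limits AlgebraicGeometry

/-- the map `Spec (Frac A) ⟶ Spec A` factors through `Spec K` for any fraction field `K` -/
theorem specMap_fractionRing (A : Type u) [CommRing A] [IsDomain A] (K : Type u) [Field K]
    [Algebra A K] [IsFractionRing A K] :
    Spec.map (CommRingCat.ofHom (algebraMap A (FractionRing A))) =
      Spec.map (CommRingCat.ofHom
        ((FractionRing.algEquiv A K).symm : K →+* FractionRing A)) ≫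
      Spec.map (CommRingCat.ofHom (algebraMap A K)) := by
  rw [← Spec.map_comp, ← CommRingCat.ofHom_comp]
  congr 2
  ext a
  simp

theorem isSeparated_of_dvr {X Y : Scheme.{u}} [IsLocallyNoetherian Y] (f : X ⟶ Y)
    [LocallyOfFiniteType f]
    (H : ∀ (A : Type u) [CommRing A] [IsDomain A] [IsDiscreteValuationRing A]
      (g₁ g₂ : (Spec (CommRingCat.of A)) ⟶ X), g₁ ≫ f = g₂ ≫ f →
      (Spec.map (CommRingCat.ofHom (algebraMap A (FractionRing A)))) ≫ g₁ =
        (Spec.map (CommRingCat.ofHom (algebraMap A (FractionRing A)))) ≫ g₂ → g₁ = g₂) :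
    IsSeparated f := by
  have hX : IsLocallyNoetherian X := LocallyOfFiniteType.isLocallyNoetherian f
  have hqs : QuasiSeparated f := inferInstance
  have hP : IsLocallyNoetherian (pullback f f) :=
    LocallyOfFiniteType.isLocallyNoetherian (pullback.fst f f)
  have hΔlft : LocallyOfFiniteType (pullback.diagonal f) := by
    have : LocallyOfFiniteType (pullback.diagonal f ≫ pullback.fst f f) := by
      rw [pullback.diagonal_fst]; infer_instance
    exact locallyOfFiniteType_of_comp (pullback.diagonal f) (pullback.fst f f)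
  have hΔqc : QuasiCompact (pullback.diagonal f) := inferInstance
  constructor
  suffices hsp : SpecializingMap (pullback.diagonal f).base by
    have hcl : IsClosedMap (pullback.diagonal f).base :=
      (isClosedMap_iff_specializingMap (pullback.diagonal f)).2 hsp
    exact .of_isPreimmersion _ hcl.isClosed_range
  intro x z' hz'
  have hz : (pullback.diagonal f).base x ⤳ z' := hz'
  by_cases hne : z' = (pullback.diagonal f).base x
  · exact ⟨x, specializes_rfl, hne.symm⟩
  obtain ⟨A, h, hdvr, hcl, w⟩ := DvrSpec.main (pullback.diagonal f) x z' hz hne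
  have hg : h ≫ pullback.fst f f = h ≫ pullback.snd f f := by
    apply @H A _ _ hdvr (h ≫ pullback.fst f f) (h ≫ pullback.snd f f)
    · simp [pullback.condition]
    · rw [specMap_fractionRing A (X.residueField x)]
      have hw : Spec.map (CommRingCat.ofHom (algebraMap A (X.residueField x))) ≫ h =
          X.fromSpecResidueField x ≫ pullback.diagonal f := w
      simp only [Category.assoc]
      rw [reassoc_of% hw, reassoc_of% hw]
      simp
  have hh : h = (h ≫ pullback.fst f f) ≫ pullback.diagonal f := by
    apply pullback.hom_ext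
    · simp
    · simp [hg]
  refine ⟨(h ≫ pullback.fst f f).base (IsLocalRing.closedPoint A), ?_, ?_⟩
  · have hemb : Topology.IsEmbedding (pullback.diagonal f).base :=
      (pullback.diagonal f).isEmbedding
    show x ⤳ (h ≫ pullback.fst f f).base (IsLocalRing.closedPoint A)
    rw [← hemb.isInducing.specializes_iff, ← Scheme.Hom.comp_apply, ← hh, hcl]
    exact hz
  · rw [← Scheme.Hom.comp_apply, ← hh]
    exact hcl

theorem dvr_of_isSeparated {X Y : Scheme.{u}} (f : X ⟶ Y) [IsSeparated f]
    (A : Type u) [CommRing A] [IsDomain A] [IsDiscreteValuationRing A]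
    (g₁ g₂ : (Spec (CommRingCat.of A)) ⟶ X) (h1 : g₁ ≫ f = g₂ ≫ f)
    (h2 : (Spec.map (CommRingCat.ofHom (algebraMap A (FractionRing A)))) ≫ g₁ =
        (Spec.map (CommRingCat.ofHom (algebraMap A (FractionRing A)))) ≫ g₂) : g₁ = g₂ := by
  have hu := IsSeparated.valuativeCriterion f
  let S : ValuativeCommSq f :=
    { R := A, K := FractionRing A,
      i₁ := Spec.map (CommRingCat.ofHom (algebraMap A (FractionRing A))) ≫ g₁,
      i₂ := g₁ ≫ f, commSq := ⟨by simp⟩ }
  have := hu S
  let l₁ : S.commSq.LiftStruct := ⟨g₁, rfl, rfl⟩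
  let l₂ : S.commSq.LiftStruct := ⟨g₂, h2.symm, h1.symm⟩
  exact congrArg CommSq.LiftStruct.l (Subsingleton.elim l₁ l₂)

end Groth.Agent.Helper5.DvrSep
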