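import Mathlib
import Groth.Agent.Helper5.DvrSep
import Groth.Agent.Helper4.QCClosure

set_option autoImplicit false
universe u

namespace Groth.Agent.Helper5.DvrSep

open CategoryTheory CategoryTheory.Limits AlgebraicGeometry

/-- core diagonal specialization lemma -/
theorem diag_spec {X S : Scheme.{u}} [IsLocallyNoetherian S] (f : X ⟶ S) [LocallyOfFiniteType f]
    {U : Scheme.{u}} (h : U ⟶ X) [LocallyOfFiniteType h] (u : U) (z' : ↑(pullback f f))
    (hz : (pullback.diagonal f).base (h.base u) ⤳ z')
    (H : ∀ (A : ValuationSubring (U.residueField u)), IsDiscreteValuationRing A →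
        ∀ l₁ l₂ : Spec (CommRingCat.of A) ⟶ X, l₁ ≫ f = l₂ ≫ f →
          Spec.map (CommRingCat.ofHom A.subtype) ≫ l₁ = U.fromSpecResidueField u ≫ h →
          Spec.map (CommRingCat.ofHom A.subtype) ≫ l₂ = U.fromSpecResidueField u ≫ h → l₁ = l₂) :
    z' ∈ Set.range (pullback.diagonal f).base := by
  have hX : IsLocallyNoetherian X := LocallyOfFiniteType.isLocallyNoetherian f
  have hP : IsLocallyNoetherian (pullback f f) :=
    LocallyOfFiniteType.isLocallyNoetherian (pullback.fst f f)
  have hΔlft : LocallyOfFiniteType (pullback.diagonal f) := by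
    have : LocallyOfFiniteType (pullback.diagonal f ≫ pullback.fst f f) := by
      rw [pullback.diagonal_fst]; infer_instance
    exact locallyOfFiniteType_of_comp (pullback.diagonal f) (pullback.fst f f)
  by_cases hne : z' = (h ≫ pullback.diagonal f).base u
  · exact ⟨h.base u, by rw [hne]; rfl⟩
  have hz' : (h ≫ pullback.diagonal f).base u ⤳ z' := hz
  obtain ⟨A, hA, hdvr, hcl, w⟩ := DvrSpec.main (h ≫ pullback.diagonal f) u z' hz' hne
  have hg : hA ≫ pullback.fst f f = hA ≫ pullback.snd f f := by
    apply H A hdvr (hA ≫ pullback.fst f f) (hA ≫ pullback.snd f f)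
    · simp [pullback.condition]
    · rw [reassoc_of% w]; simp
    · rw [reassoc_of% w]; simp
  have hh : hA = (hA ≫ pullback.fst f f) ≫ pullback.diagonal f := by
    apply pullback.hom_ext
    · simp
    · simp [hg]
  refine ⟨(hA ≫ pullback.fst f f).base (IsLocalRing.closedPoint A), ?_⟩
  rw [← Scheme.Hom.comp_apply, ← hh]
  exact hcl

theorem isSeparated_of_diag {X S : Scheme.{u}} [IsLocallyNoetherian S] (f : X ⟶ S)
    [LocallyOfFiniteType f]
    (H : ∀ (x : X) (z' : ↑(pullback f f)), (pullback.diagonal f).base x ⤳ z' →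
      z' ∈ Set.range (pullback.diagonal f).base) : IsSeparated f := by
  have hX : IsLocallyNoetherian X := LocallyOfFiniteType.isLocallyNoetherian f
  have hqs : QuasiSeparated f := inferInstance
  have hΔqc : QuasiCompact (pullback.diagonal f) := inferInstance
  constructor
  suffices hsp : SpecializingMap (pullback.diagonal f).base by
    have hcl : IsClosedMap (pullback.diagonal f).base :=
      (isClosedMap_iff_specializingMap (pullback.diagonal f)).2 hsp
    exact .of_isPreimmersion _ hcl.isClosed_range
  intro x z' hz'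
  have hz : (pullback.diagonal f).base x ⤳ z' := hz'
  obtain ⟨x', rfl⟩ := H x z' hz
  refine ⟨x', ?_, rfl⟩
  have hemb : Topology.IsEmbedding (pullback.diagonal f).base :=
    (pullback.diagonal f).isEmbedding
  show x ⤳ x'
  rw [← hemb.isInducing.specializes_iff]
  exact hz

/-- S9211, `⇐` -/
theorem isSeparated_of_generic {X S : Scheme.{u}} [IsLocallyNoetherian S] (f : X ⟶ S)
    [LocallyOfFiniteType f]
    (H : ∀ (η : X), closure {η} ∈ irreducibleComponents (X : Type u) →
      ∀ (A : ValuationSubring (X.residueField η)), IsDiscreteValuationRing A →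
        ∀ l₁ l₂ : Spec (CommRingCat.of A) ⟶ X, l₁ ≫ f = l₂ ≫ f →
          Spec.map (CommRingCat.ofHom A.subtype) ≫ l₁ = X.fromSpecResidueField η →
          Spec.map (CommRingCat.ofHom A.subtype) ≫ l₂ = X.fromSpecResidueField η → l₁ = l₂) :
    IsSeparated f := by
  apply isSeparated_of_diag
  intro x z' hz
  obtain ⟨η, hη⟩ := QuasiSober.sober (isIrreducible_irreducibleComponent (x := x))
    isClosed_irreducibleComponent
  have hηc : closure {η} = irreducibleComponent x := hη
  have hηx : η ⤳ x := by
    rw [specializes_iff_mem_closure, hηc]; exact mem_irreducibleComponent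
  have hmem : closure {η} ∈ irreducibleComponents (X : Type u) := by
    rw [hηc]; exact irreducibleComponent_mem_irreducibleComponents x
  refine diag_spec f (𝟙 X) η z' ?_ ?_
  · exact (hηx.map (pullback.diagonal f).continuous).trans hz
  · intro A hA l₁ l₂ h1 h2 h3
    rw [Category.comp_id] at h2 h3
    exact H η hmem A hA l₁ l₂ h1 h2 h3

/-- S9210 -/
theorem isSeparated_of_dense {X S U : Scheme.{u}} [IsLocallyNoetherian S] (f : X ⟶ S)
    [LocallyOfFiniteType f] (h : U ⟶ X) [LocallyOfFiniteType h] [QuasiCompact h]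
    (hd : DenseRange h.base)
    (H : ∀ (A : Type u) [CommRing A] [IsDomain A] [IsDiscreteValuationRing A]
      (u : Spec (CommRingCat.of (FractionRing A)) ⟶ U) (y : Spec (CommRingCat.of A) ⟶ S),
      u ≫ h ≫ f = Spec.map (CommRingCat.ofHom (algebraMap A (FractionRing A))) ≫ y →
        ∀ l₁ l₂ : Spec (CommRingCat.of A) ⟶ X, l₁ ≫ f = y →
          Spec.map (CommRingCat.ofHom (algebraMap A (FractionRing A))) ≫ l₁ = u ≫ h →
          l₂ ≫ f = y →
          Spec.map (CommRingCat.ofHom (algebraMap A (FractionRing A))) ≫ l₂ = u ≫ h → l₁ = l₂) :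
    IsSeparated f := by
  apply isSeparated_of_diag
  intro x z' hz
  obtain ⟨u, hu⟩ := Groth.Agent.Helper4.exists_specializes_of_mem_closure_range h x (hd x)
  refine diag_spec f h u z' ?_ ?_
  · exact (hu.map (pullback.diagonal f).continuous).trans hz
  · intro A hA l₁ l₂ h1 h2 h3
    have h2' : Spec.map (CommRingCat.ofHom (algebraMap A (U.residueField u))) ≫ l₁ =
        U.fromSpecResidueField u ≫ h := h2
    have h3' : Spec.map (CommRingCat.ofHom (algebraMap A (U.residueField u))) ≫ l₂ =
        U.fromSpecResidueField u ≫ h := h3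
    refine @H A _ _ hA
      (Spec.map (CommRingCat.ofHom
        ((FractionRing.algEquiv A (U.residueField u)).symm :
          U.residueField u →+* FractionRing A)) ≫ U.fromSpecResidueField u)
      (l₁ ≫ f) ?_ l₁ l₂ rfl ?_ h1.symm ?_
    · rw [specMap_fractionRing A (U.residueField u)]
      simp only [Category.assoc]
      rw [reassoc_of% h2']
    · rw [specMap_fractionRing A (U.residueField u)]
      simp only [Category.assoc]
      rw [h2']
    · rw [specMap_fractionRing A (U.residueField u)]
      simp only [Category.assoc]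
      rw [h3']

/-- S9211, `⇒` -/
theorem generic_of_isSeparated {X S : Scheme.{u}} (f : X ⟶ S) [IsSeparated f] (η : X)
    (A : ValuationSubring (X.residueField η))
    (l₁ l₂ : Spec (CommRingCat.of A) ⟶ X) (h1 : l₁ ≫ f = l₂ ≫ f)
    (h2 : Spec.map (CommRingCat.ofHom A.subtype) ≫ l₁ = X.fromSpecResidueField η)
    (h3 : Spec.map (CommRingCat.ofHom A.subtype) ≫ l₂ = X.fromSpecResidueField η) : l₁ = l₂ := by
  have hu := IsSeparated.valuativeCriterion f
  have h2' : Spec.map (CommRingCat.ofHom (algebraMap A (X.residueField η))) ≫ l₁ =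
      X.fromSpecResidueField η := h2
  have h3' : Spec.map (CommRingCat.ofHom (algebraMap A (X.residueField η))) ≫ l₂ =
      X.fromSpecResidueField η := h3
  let Sq : ValuativeCommSq f :=
    { R := A, K := X.residueField η, i₁ := X.fromSpecResidueField η, i₂ := l₁ ≫ f,
      commSq := ⟨by rw [← reassoc_of% h2']⟩ }
  have := hu Sq
  let s₁ : Sq.commSq.LiftStruct := ⟨l₁, h2', rfl⟩
  let s₂ : Sq.commSq.LiftStruct := ⟨l₂, h3', h1.symm⟩
  exact congrArg CommSq.LiftStruct.l (Subsingleton.elim s₁ s₂)

end Groth.Agent.Helper5.DvrSep
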