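import Mathlib
import Groth.Agent.Helper5.DvrSep2
import Groth.Agent.Helper5.AnMain

set_option autoImplicit false
universe u

namespace Groth.Agent.Helper5.DvrProper

open CategoryTheory CategoryTheory.Limits AlgebraicGeometry IsLocalRing
open Groth.Agent.Helper5.DvrSep

/-- The existence part of the DVR criterion. -/
def DvrExistence {X Y : Scheme.{u}} (f : X ⟶ Y) : Prop :=
  ∀ (A : Type u) [CommRing A] [IsDomain A] [IsDiscreteValuationRing A]
    (x : (Spec (CommRingCat.of (FractionRing A))) ⟶ X) (y : (Spec (CommRingCat.of A)) ⟶ Y),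
    x ≫ f = (Spec.map (CommRingCat.ofHom (algebraMap A (FractionRing A)))) ≫ y →
      ∃ l : (Spec (CommRingCat.of A)) ⟶ X, l ≫ f = y ∧
        (Spec.map (CommRingCat.ofHom (algebraMap A (FractionRing A)))) ≫ l = x

theorem DvrExistence.baseChange {X Y Y' : Scheme.{u}} {f : X ⟶ Y} (hf : DvrExistence f)
    (g : Y' ⟶ Y) : DvrExistence (pullback.snd f g) := by
  intro A _ _ _ x y hxy
  obtain ⟨l, hl1, hl2⟩ := hf A (x ≫ pullback.fst f g) (y ≫ g) (by
    rw [Category.assoc, pullback.condition, reassoc_of% hxy])
  refine ⟨pullback.lift l y hl1, pullback.lift_snd _ _ _, ?_⟩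
  apply pullback.hom_ext
  · rw [Category.assoc, pullback.lift_fst, hl2]
  · rw [Category.assoc, pullback.lift_snd, hxy]

/-- Over a locally Noetherian base, a morphism locally of finite type satisfying the existence
part of the DVR criterion is specializing. -/
theorem DvrExistence.specializingMap {X Y : Scheme.{u}} [IsLocallyNoetherian Y] {f : X ⟶ Y}
    [LocallyOfFiniteType f] (hf : DvrExistence f) : SpecializingMap f.base := by
  intro x y' hy
  have hsp : f.base x ⤳ y' := hy
  by_cases hne : y' = f.base x
  · exact ⟨x, specializes_rfl, hne.symm⟩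
  obtain ⟨A, h, hdvr, hcl, w⟩ := DvrSpec.main f x y' hsp hne
  have hw : Spec.map (CommRingCat.ofHom (algebraMap A (X.residueField x))) ≫ h =
      X.fromSpecResidueField x ≫ f := w
  obtain ⟨l, hl1, hl2⟩ := @hf A _ _ hdvr
    (Spec.map (CommRingCat.ofHom
        ((FractionRing.algEquiv A (X.residueField x)).symm :
          X.residueField x →+* FractionRing A)) ≫ X.fromSpecResidueField x) h (by
      rw [specMap_fractionRing A (X.residueField x)]
      simp only [Category.assoc]
      rw [hw])
  refine ⟨l.base (closedPoint A), ?_, ?_⟩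
  · show x ⤳ l.base (closedPoint A)
    have h1 : l.base ((Spec.map (CommRingCat.ofHom (algebraMap A (FractionRing A)))).base
        (closedPoint (FractionRing A))) = x := by
      rw [← Scheme.Hom.comp_apply, hl2, Scheme.Hom.comp_apply, Scheme.fromSpecResidueField_apply]
    have h2 := (specializes_closedPoint (R := A)
      ((Spec.map (CommRingCat.ofHom (algebraMap A (FractionRing A)))).base
        (closedPoint (FractionRing A)))).map l.continuous
    have key : ∀ (p q r : X), p = q → p ⤳ r → q ⤳ r := by
      rintro p _ r rfl hpr; exact hpr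
    exact key _ _ _ h1 h2
  · rw [← Scheme.Hom.comp_apply, hl1]
    exact hcl

theorem universallyClosed_of_dvrExistence {X Y : Scheme.{u}} [IsLocallyNoetherian Y] (f : X ⟶ Y)
    [LocallyOfFiniteType f] [QuasiCompact f] (hf : DvrExistence f) : UniversallyClosed f := by
  apply AnClosed.universallyClosed_of_closed_affineSpace
  intro n
  have : IsLocallyNoetherian 𝔸(ULift.{u} (Fin n); Y) :=
    LocallyOfFiniteType.isLocallyNoetherian (𝔸(ULift.{u} (Fin n); Y) ↘ Y)
  rw [isClosedMap_iff_specializingMap]
  exact (hf.baseChange _).specializingMap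

/-- S2335 -/
theorem isProper_iff_dvr {X Y : Scheme.{u}} [IsLocallyNoetherian Y] (f : X ⟶ Y)
    [LocallyOfFiniteType f] [QuasiCompact f] :
    IsProper f ↔ ∀ (A : Type u) [CommRing A] [IsDomain A] [IsDiscreteValuationRing A]
      (x : (Spec (CommRingCat.of (FractionRing A))) ⟶ X) (y : (Spec (CommRingCat.of A)) ⟶ Y),
      x ≫ f = (Spec.map (CommRingCat.ofHom (algebraMap A (FractionRing A)))) ≫ y →
        ∃! l : (Spec (CommRingCat.of A)) ⟶ X, l ≫ f = y ∧
          (Spec.map (CommRingCat.ofHom (algebraMap A (FractionRing A)))) ≫ l = x := by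
  constructor
  · intro hp A _ _ _ x y hxy
    have hv : ValuativeCriterion f := by
      have := hp
      rw [IsProper.eq_valuativeCriterion] at this
      exact this.1.1.1
    let Sq : ValuativeCommSq f := { R := A, K := FractionRing A, i₁ := x, i₂ := y, commSq := ⟨hxy⟩ }
    obtain ⟨u⟩ := hv Sq
    refine ⟨u.default.l, ⟨u.default.fac_right, u.default.fac_left⟩, ?_⟩
    rintro l' ⟨h1, h2⟩
    have : (⟨l', h2, h1⟩ : Sq.commSq.LiftStruct) = u.default := u.uniq _
    exact congrArg CommSq.LiftStruct.l this
  · intro H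
    have hsep : IsSeparated f := by
      apply isSeparated_of_dvr
      intro A _ _ _ g₁ g₂ h1 h2
      obtain ⟨l, -, hl⟩ := H A (Spec.map (CommRingCat.ofHom (algebraMap A (FractionRing A))) ≫ g₁)
        (g₁ ≫ f) (by simp)
      rw [hl g₁ ⟨rfl, rfl⟩, hl g₂ ⟨h1.symm, h2.symm⟩]
    have huc : UniversallyClosed f := by
      apply universallyClosed_of_dvrExistence
      intro A _ _ _ x y hxy
      exact (H A x y hxy).exists
    exact { }

end Groth.Agent.Helper5.DvrProper
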