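import Mathlib.LinearAlgebra.TensorProduct.Basis
import Mathlib.RingTheory.SimpleRing.Congr
import Mathlib.RingTheory.TwoSidedIdeal.Operations
import Mathlib.RingTheory.TensorProduct.Basic
import Mathlib.RingTheory.Flat.Basic
import Mathlib.Algebra.Module.Projective
import Mathlib.FieldTheory.JacobsonNoether
import Mathlib.FieldTheory.IsSepClosed
import Mathlib.RingTheory.SimpleModule.WedderburnArtin
import Mathlib.Algebra.Central.Matrix
import Mathlib.Algebra.Central.Basic
import Mathlib.RingTheory.Artinian.Module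

set_option autoImplicit false
universe u v w
open scoped TensorProduct

namespace Groth.Agent.Helper5.CSA

/-- A central division algebra, algebraic over a separably closed field, is trivial. -/
theorem bot_eq_top_of_isSepClosed (k : Type u) [Field k] [IsSepClosed k]
    (D : Type v) [DivisionRing D] [Algebra k D] [Algebra.IsAlgebraic k D] [Algebra.IsCentral k D] :
    (⊥ : Subalgebra k D) = ⊤ := by
  by_contra hne
  obtain ⟨x, hx, hsep⟩ := JacobsonNoether.exists_separable_and_not_isCentral' hne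
  apply hx
  have hint : IsIntegral k x := (Algebra.IsAlgebraic.isAlgebraic x).isIntegral
  have h : (minpoly k x).degree = 1 :=
    IsSepClosed.degree_eq_one_of_irreducible k (minpoly.irreducible hint) hsep
  have := minpoly.mem_range_of_degree_eq_one k x h
  rwa [Algebra.mem_bot]

theorem isCentral_of_matrix (k : Type u) [Field k] (D : Type v) [Ring D] [Algebra k D]
    (n : ℕ) [NeZero n] [Algebra.IsCentral k (Matrix (Fin n) (Fin n) D)] : Algebra.IsCentral k D := by
  constructor
  intro d hd
  have h1 : Matrix.scalarAlgHom (Fin n) k d ∈ Subalgebra.center k (Matrix (Fin n) (Fin n) D) := by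
    rw [Matrix.subalgebraCenter_eq_scalarAlgHom_map]
    exact ⟨d, hd, rfl⟩
  obtain ⟨c, hc⟩ := Algebra.IsCentral.out (K := k) h1
  refine ⟨c, ?_⟩
  have := congrFun (congrFun hc 0) 0
  simpa [Matrix.algebraMap_matrix_apply] using this

theorem exists_algEquiv_matrix (k : Type u) [Field k] [IsSepClosed k]
    (A : Type v) [Ring A] [Algebra k A] [Algebra.IsCentral k A] [IsSimpleRing A] [FiniteDimensional k A] :
    ∃ n : ℕ, Nonempty (A ≃ₐ[k] Matrix (Fin n) (Fin n) k) := by
  have : IsArtinianRing A := IsArtinianRing.of_finite k A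
  obtain ⟨n, hn, D, _, _, _, ⟨e⟩⟩ := IsSimpleRing.exists_algEquiv_matrix_divisionRing_finite k A
  have : Algebra.IsCentral k (Matrix (Fin n) (Fin n) D) := Algebra.IsCentral.of_algEquiv k _ _ e
  have : Algebra.IsCentral k D := isCentral_of_matrix k D n
  have : Algebra.IsAlgebraic k D := Algebra.IsAlgebraic.of_finite k D
  have h := bot_eq_top_of_isSepClosed k D
  let e1 : D ≃ₐ[k] k := (Subalgebra.topEquiv.symm.trans (Subalgebra.equivOfEq _ _ h.symm)).trans (Algebra.botEquiv k D)
  exact ⟨n, ⟨e.trans e1.mapMatrix⟩⟩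



section coef
variable {K : Type*} [Field K] {A : Type*} [Ring A] [Algebra K A] {B : Type*} [Ring B] [Algebra K B]
variable {ι : Type*} [DecidableEq ι] (ℬ : Module.Basis ι K B)

theorem coef_mul_left (u : A) (x : A ⊗[K] B) (j : ι) :
    TensorProduct.equivFinsuppOfBasisRight ℬ ((u ⊗ₜ[K] (1 : B)) * x) j
      = u * TensorProduct.equivFinsuppOfBasisRight ℬ x j := by
  induction x using TensorProduct.induction_on with
  | zero => simp
  | tmul a b => simp
  | add x y hx hy => simp [mul_add, hx, hy]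

theorem coef_mul_right (v : A) (x : A ⊗[K] B) (j : ι) :
    TensorProduct.equivFinsuppOfBasisRight ℬ (x * (v ⊗ₜ[K] (1 : B))) j
      = TensorProduct.equivFinsuppOfBasisRight ℬ x j * v := by
  induction x using TensorProduct.induction_on with
  | zero => simp
  | tmul a b => simp
  | add x y hx hy => simp [add_mul, hx, hy]

/-- If all coefficients of `y` (w.r.t. a basis of `B`) are central in `A`, a central `K`-algebra,
then `y = 1 ⊗ b`. -/
theorem exists_eq_one_tmul_of_coef_central [Algebra.IsCentral K A] (y : A ⊗[K] B)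
    (hy : ∀ (a : A) (j : ι), a * TensorProduct.equivFinsuppOfBasisRight ℬ y j
      = TensorProduct.equivFinsuppOfBasisRight ℬ y j * a) :
    ∃ b : B, y = (1 : A) ⊗ₜ[K] b := by
  set φ := TensorProduct.equivFinsuppOfBasisRight (M := A) ℬ with hφ
  have hy' : y = (φ y).sum fun i m ↦ m ⊗ₜ ℬ i := by
    rw [← TensorProduct.equivFinsuppOfBasisRight_symm_apply, LinearEquiv.symm_apply_apply]
  suffices h : y ∈ LinearMap.range (TensorProduct.mk K A B 1) by
    obtain ⟨b, hb⟩ := h
    exact ⟨b, hb.symm⟩
  rw [hy']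
  refine Submodule.sum_mem _ fun j _ => ?_
  have hc : φ y j ∈ Subalgebra.center K A := by
    rw [Subalgebra.mem_center_iff]
    intro a; exact hy a j
  obtain ⟨c, hc⟩ := (Algebra.IsCentral.mem_center_iff K).1 hc
  refine ⟨c • ℬ j, ?_⟩
  simp only [TensorProduct.mk_apply]
  rw [hc, Algebra.algebraMap_eq_smul_one, TensorProduct.smul_tmul]

end coef

theorem isSimpleRing_tensor (K : Type u) [Field K] (A : Type v) [Ring A] [Algebra K A]
    [Algebra.IsCentral K A] [IsSimpleRing A] (B : Type w) [Ring B] [Algebra K B] [IsSimpleRing B] :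
    IsSimpleRing (A ⊗[K] B) := by
  classical
  let ℬ := Module.Basis.ofVectorSpace K B
  set φ := TensorProduct.equivFinsuppOfBasisRight (M := A) ℬ with hφ
  have hinj : Function.Injective (TensorProduct.mk K A B 1) := by
    intro b b' h
    have := Algebra.TensorProduct.includeRight_injective (R := K) (A := A) (B := B)
      (FaithfulSMul.algebraMap_injective K A)
    exact this h
  rw [isSimpleRing_iff_isTwoSided_imp]
  refine ⟨?_, ?_⟩
  · refine ⟨⟨(1 : A) ⊗ₜ 1, (1 : A) ⊗ₜ 0, ?_⟩⟩
    intro h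
    exact one_ne_zero (hinj h)
  intro I hI
  by_cases hbot : I = ⊥
  · exact Or.inl hbot
  right
  rw [Ideal.eq_top_iff_one]
  -- minimal support element
  have hex : ∃ n, ∃ x ∈ I, x ≠ 0 ∧ (φ x).support.card = n := by
    obtain ⟨x, hx, hx0⟩ := Submodule.exists_mem_ne_zero_of_ne_bot hbot
    exact ⟨_, x, hx, hx0, rfl⟩
  obtain ⟨x, hxI, hx0, hxn⟩ := Nat.find_spec hex
  have hmin : ∀ y ∈ I, y ≠ 0 → Nat.find hex ≤ (φ y).support.card := by
    intro y hy hy0
    exact Nat.find_min' hex ⟨y, hy, hy0, rfl⟩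
  have hφx : φ x ≠ 0 := by simpa using hx0
  obtain ⟨j0, hj0⟩ := Finsupp.support_nonempty_iff.2 hφx
  -- the ideal of `j0`-coefficients
  let J0 : TwoSidedIdeal A := TwoSidedIdeal.mk'
    {a | ∃ y ∈ I, (φ y).support ⊆ (φ x).support ∧ φ y j0 = a}
    ⟨0, I.zero_mem, by simp, by simp⟩
    (by
      rintro a b ⟨y, hy, hys, rfl⟩ ⟨z, hz, hzs, rfl⟩
      refine ⟨y + z, I.add_mem hy hz, ?_, by simp⟩
      rw [map_add]
      exact Finsupp.support_add.trans (Finset.union_subset hys hzs))
    (by
      rintro a ⟨y, hy, hys, rfl⟩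
      refine ⟨-y, I.neg_mem hy, ?_, by simp⟩
      rw [map_neg, Finsupp.support_neg]; exact hys)
    (by
      rintro u a ⟨y, hy, hys, rfl⟩
      refine ⟨(u ⊗ₜ 1) * y, I.mul_mem_left _ hy, ?_, coef_mul_left ℬ u y j0⟩
      intro j hj
      apply hys
      rw [Finsupp.mem_support_iff] at hj ⊢
      intro h0
      apply hj
      rw [hφ, coef_mul_left, ← hφ, h0, mul_zero])
    (by
      rintro a v ⟨y, hy, hys, rfl⟩
      refine ⟨y * (v ⊗ₜ 1), I.mul_mem_right _ hy, ?_, coef_mul_right ℬ v y j0⟩
      intro j hj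
      apply hys
      rw [Finsupp.mem_support_iff] at hj ⊢
      intro h0
      apply hj
      rw [hφ, coef_mul_right, ← hφ, h0, zero_mul])
  have h1 : (1 : A) ∈ J0 := by
    refine IsSimpleRing.one_mem_of_ne_zero_mem J0 (Finsupp.mem_support_iff.1 hj0) ?_
    rw [TwoSidedIdeal.mem_mk']
    exact ⟨x, hxI, subset_rfl, rfl⟩
  rw [TwoSidedIdeal.mem_mk'] at h1
  obtain ⟨y, hyI, hys, hy1⟩ := h1
  have hy0 : y ≠ 0 := by
    intro h; rw [h, map_zero] at hy1; simp at hy1
  -- all coefficients of y are central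
  have hcomm : ∀ (a : A) (j : _), a * φ y j = φ y j * a := by
    intro a j
    by_contra hne
    set z := (a ⊗ₜ[K] (1 : B)) * y - y * (a ⊗ₜ[K] (1 : B)) with hz
    have hzI : z ∈ I := I.sub_mem (I.mul_mem_left _ hyI) (I.mul_mem_right _ hyI)
    have hzc : ∀ j, φ z j = a * φ y j - φ y j * a := by
      intro j
      rw [hz, map_sub, Finsupp.sub_apply, hφ, coef_mul_left, coef_mul_right]
    have hz0 : z ≠ 0 := by
      intro h
      apply hne
      have := hzc j
      rw [h, map_zero, Finsupp.zero_apply] at this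
      exact sub_eq_zero.1 this.symm
    have hsub : (φ z).support ⊆ (φ x).support.erase j0 := by
      intro j hj
      rw [Finset.mem_erase]
      rw [Finsupp.mem_support_iff, hzc] at hj
      constructor
      · rintro rfl
        apply hj
        rw [hy1]; simp
      · apply hys
        rw [Finsupp.mem_support_iff]
        intro h0
        apply hj
        rw [h0]; simp
    have h1 := hmin z hzI hz0
    have h2 := Finset.card_le_card hsub
    rw [Finset.card_erase_of_mem hj0, hxn] at h2
    have h3 : 0 < Nat.find hex := by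
      rw [← hxn]; exact Finset.card_pos.2 ⟨j0, hj0⟩
    omega
  obtain ⟨b, hb⟩ := exists_eq_one_tmul_of_coef_central ℬ y hcomm
  have hb0 : b ≠ 0 := by
    rintro rfl
    apply hy0
    rw [hb, TensorProduct.tmul_zero]
  let J1 : TwoSidedIdeal B := TwoSidedIdeal.mk'
    {b | (1 : A) ⊗ₜ[K] b ∈ I}
    (by simp)
    (by
      intro b b' hb hb'
      simp only [Set.mem_ofPred_eq] at *
      rw [TensorProduct.tmul_add]; exact I.add_mem hb hb')
    (by
      intro b hb
      simp only [Set.mem_ofPred_eq] at *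
      rw [TensorProduct.tmul_neg]; exact I.neg_mem hb)
    (by
      intro b' b hb
      simp only [Set.mem_ofPred_eq] at *
      have : (1 : A) ⊗ₜ[K] (b' * b) = ((1 : A) ⊗ₜ[K] b') * ((1 : A) ⊗ₜ[K] b) := by simp
      rw [this]; exact I.mul_mem_left _ hb)
    (by
      intro b b' hb
      simp only [Set.mem_ofPred_eq] at *
      have : (1 : A) ⊗ₜ[K] (b * b') = ((1 : A) ⊗ₜ[K] b) * ((1 : A) ⊗ₜ[K] b') := by simp
      rw [this]; exact I.mul_mem_right _ hb)
  have h1 : (1 : B) ∈ J1 := by
    refine IsSimpleRing.one_mem_of_ne_zero_mem J1 hb0 ?_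
    rw [TwoSidedIdeal.mem_mk']
    show (1 : A) ⊗ₜ[K] b ∈ I
    rw [← hb]; exact hyI
  rw [TwoSidedIdeal.mem_mk'] at h1
  exact h1


end Groth.Agent.Helper5.CSA
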