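import Mathlib
import Groth.Agent.Helper5.CSA

set_option autoImplicit false
universe u v w
open scoped TensorProduct

namespace Groth.Agent.Helper5.CSA

theorem exists_eq_one_tmul_of_commute {K : Type*} [Field K] {A : Type*} [Ring A] [Algebra K A]
    {B : Type*} [Ring B] [Algebra K B] [Algebra.IsCentral K A] (y : A ⊗[K] B)
    (hy : ∀ a : A, (a ⊗ₜ[K] (1 : B)) * y = y * (a ⊗ₜ[K] (1 : B))) :
    ∃ b : B, y = (1 : A) ⊗ₜ[K] b := by
  classical
  let ℬ := Module.Basis.ofVectorSpace K B
  refine exists_eq_one_tmul_of_coef_central ℬ y fun a j => ?_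
  rw [← coef_mul_left, ← coef_mul_right, hy]

theorem isCentral_baseChange (K : Type u) [Field K] (L : Type w) [Field L] [Algebra K L]
    (A : Type v) [Ring A] [Algebra K A] [Algebra.IsCentral K A] :
    Algebra.IsCentral L (L ⊗[K] A) := by
  constructor
  intro z hz
  rw [Subalgebra.mem_center_iff] at hz
  set e := Algebra.TensorProduct.comm K L A with he
  obtain ⟨l, hl⟩ := exists_eq_one_tmul_of_commute (e z) (fun a => by
    have h1 : (a ⊗ₜ[K] (1 : L)) = e ((1 : L) ⊗ₜ[K] a) := by simp [he]
    rw [h1, ← map_mul, ← map_mul, hz])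
  refine ⟨l, ?_⟩
  apply e.injective
  rw [hl]
  show e (algebraMap L (L ⊗[K] A) l) = _
  rw [Algebra.TensorProduct.algebraMap_apply]
  simp [he]

/-- A finite-dimensional central simple algebra is Azumaya. -/
theorem mulLeftRight_bijective (F : Type u) [Field F] (A : Type v) [Ring A] [Algebra F A]
    [Algebra.IsCentral F A] [IsSimpleRing A] [FiniteDimensional F A] :
    Function.Bijective (AlgHom.mulLeftRight F A) := by
  have : IsSimpleRing (A ⊗[F] Aᵐᵒᵖ) := isSimpleRing_tensor F A Aᵐᵒᵖ
  have hinj : Function.Injective (AlgHom.mulLeftRight F A) :=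
    (AlgHom.mulLeftRight F A).toRingHom.injective
  refine ⟨hinj, ?_⟩
  have hdim : Module.finrank F (A ⊗[F] Aᵐᵒᵖ) = Module.finrank F (Module.End F A) := by
    rw [Module.finrank_tensorProduct, Module.finrank_linearMap]
    congr 1
    exact (MulOpposite.opLinearEquiv F (M := A)).symm.finrank_eq
  exact (LinearMap.injective_iff_surjective_of_finrank_eq_finrank
    (f := (AlgHom.mulLeftRight F A).toLinearMap) hdim).1 hinj

/-- Skolem–Noether for automorphisms of a finite-dimensional central simple algebra. -/
theorem skolem_noether (F : Type u) [Field F] (A : Type v) [Ring A] [Algebra F A]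
    [Algebra.IsCentral F A] [IsSimpleRing A] [FiniteDimensional F A] (φ : A ≃ₐ[F] A) :
    ∃ u : Aˣ, ∀ x : A, φ x = (u : A) * x * (u⁻¹ : Aˣ) := by
  let E : (A ⊗[F] Aᵐᵒᵖ) ≃ₐ[F] Module.End F A :=
    AlgEquiv.ofBijective (AlgHom.mulLeftRight F A) (mulLeftRight_bijective F A)
  let Ψ : Module.End F A ≃ₐ[F] Module.End F A :=
    E.symm.trans ((Algebra.TensorProduct.congr φ AlgEquiv.refl).trans E)
  obtain ⟨T, hT⟩ := Ψ.eq_linearEquivConjAlgEquiv
  have key : ∀ a b x : A, T (a * x * b) = φ a * T x * b := by
    intro a b x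
    have h1 : Ψ (E (a ⊗ₜ[F] MulOpposite.op b)) = E (φ a ⊗ₜ[F] MulOpposite.op b) := by
      simp [Ψ]
    rw [hT] at h1
    have h2 := congrArg (fun f => f (T x)) h1
    simp only [LinearEquiv.conjAlgEquiv_apply, LinearMap.comp_apply, LinearEquiv.coe_coe,
      LinearEquiv.symm_apply_apply] at h2
    simpa [E] using h2
  set u := T 1 with hu
  have h1 : ∀ b, T b = u * b := by
    intro b
    have := key 1 b 1
    simpa using this
  have h2 : ∀ a, T a = φ a * u := by
    intro a
    have := key a 1 1
    simpa using this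
  obtain ⟨x, hx⟩ := T.surjective 1
  have hux : u * x = 1 := by rw [← h1, hx]
  have : IsArtinianRing A := IsArtinianRing.of_finite F A
  have hxu : x * u = 1 := mul_eq_one_symm hux
  refine ⟨⟨u, x, hux, hxu⟩, fun a => ?_⟩
  show φ a = u * a * x
  rw [← h1, h2, mul_assoc, hux, mul_one]



/-- Skolem–Noether for a finite-dimensional simple algebra: a ring automorphism fixing the centre
pointwise is inner. -/
theorem skolem_noether_center (k : Type u) [Field k] (A : Type v) [Ring A] [Algebra k A]
    [IsSimpleRing A] [FiniteDimensional k A] (φ : A ≃+* A)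
    (hφ : ∀ c ∈ Subring.center A, φ c = c) :
    ∃ u : Aˣ, ∀ x : A, φ x = (u : A) * x * (u⁻¹ : Aˣ) := by
  let : Field (Subring.center A) := (IsSimpleRing.isField_center A).toField
  let : Algebra (Subring.center A) A :=
    { algebraMap :=
        { toFun := Subtype.val
          map_one' := rfl
          map_mul' _ _ := rfl
          map_zero' := rfl
          map_add' _ _ := rfl }
      smul := fun z a => (z : A) * a
      commutes' := fun r x => (Subring.mem_center_iff.1 r.2 x).symm
      smul_def' := fun _ _ => rfl }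
  have : Algebra.IsCentral (Subring.center A) A := by
    constructor
    intro z hz
    rw [Subalgebra.mem_center_iff] at hz
    refine ⟨⟨z, Subring.mem_center_iff.2 hz⟩, rfl⟩
  have : FiniteDimensional (Subring.center A) A := by
    obtain ⟨S, hS⟩ := (Module.finite_def (R := k) (M := A)).1 inferInstance
    refine ⟨S, ?_⟩
    rw [eq_top_iff]
    intro x _
    have hx : x ∈ Submodule.span k (S : Set A) := by rw [hS]; trivial
    induction hx using Submodule.span_induction with
    | mem x hx => exact Submodule.subset_span hx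
    | zero => exact Submodule.zero_mem _
    | add x y _ _ hx hy => exact Submodule.add_mem _ (hx trivial) (hy trivial)
    | smul c x _ hx =>
      have : c • x = (⟨algebraMap k A c, Subring.mem_center_iff.2 fun a => (Algebra.commutes c a).symm⟩ : Subring.center A) • x := by
        rw [Algebra.smul_def]; rfl
      rw [this]
      exact Submodule.smul_mem _ _ (hx trivial)
  let φ' : A ≃ₐ[Subring.center A] A := AlgEquiv.ofRingEquiv (f := φ) (fun z => hφ z z.2)
  obtain ⟨u, hu⟩ := skolem_noether (Subring.center A) A φ'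
  exact ⟨u, fun x => hu x⟩


end Groth.Agent.Helper5.CSA
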