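import Mathlib
import Groth.Prelude.Def_Coh
import Groth.Agent.Helper4.QcohLocal
import Groth.Agent.Helper4.SecDict
import Groth.Agent.Helper4.QcohEpi
import Groth.Agent.Helper4.QcqsMod
import Groth.Agent.Helper4.AffineDict

/-!
# The ascending chain condition for coherent submodules on a noetherian scheme
-/

set_option autoImplicit false
set_option linter.style.haveILetI false

namespace Groth.Agent.Helper5.ShStab12

open CategoryTheory Limits AlgebraicGeometry Opposite TopologicalSpace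
open Groth.Agent.Helper4

universe u

variable {X : Scheme.{u}}

/-- the submodule of sections of `E` over `U` coming from a module mapping to `E` -/
noncomputable def secRange {F E : X.Modules} (ι : F ⟶ E) (U : X.Opens) :
    Submodule Γ(X, U) Γ(E, U) := LinearMap.range (QcohEpi.appLin ι U)

theorem secRange_le {F F' E : X.Modules} (ι : F ⟶ E) (ι' : F' ⟶ E) (g : F ⟶ F')
    (hg : g ≫ ι' = ι) (U : X.Opens) : secRange ι U ≤ secRange ι' U := by
  rintro _ ⟨x, rfl⟩
  refine ⟨g.app U x, ?_⟩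
  rw [QcohEpi.appLin_apply, QcohEpi.appLin_apply, ← hg]
  rfl

/-- a factorisation between submodules with the same sections over an affine open is surjective
on stalks there -/
theorem stalk_surjective_of_secRange_eq {F F' E : X.Modules} (ι : F ⟶ E) (ι' : F' ⟶ E) [Mono ι']
    (g : F ⟶ F') (hg : g ≫ ι' = ι) [F'.IsQuasicoherent] {U : X.Opens} (hU : IsAffineOpen U)
    (h : secRange ι U = secRange ι' U) (x : X) (hx : x ∈ U) :
    Function.Surjective (StalkDict.stalkLin g x) := by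
  apply QcohLocal.stalkLin_surjective_of_app_surjective g hU
    (QcqsMod.isLocalizingOn_of_isAffineOpen F' hU) _ x hx
  intro y
  have hy : QcohEpi.appLin ι' U y ∈ secRange ι' U := ⟨y, rfl⟩
  rw [← h] at hy
  obtain ⟨z, hz⟩ := hy
  refine ⟨z, ?_⟩
  apply AffineDict.app_injective_of_mono ι' U
  rw [QcohEpi.appLin_apply, QcohEpi.appLin_apply, ← hg] at hz
  exact hz

/-- **ascending chain condition**: an ascending sequence of quasi-coherent submodules of a coherent
module on a noetherian scheme is eventually stationary -/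
theorem exists_isIso_of_chain [CompactSpace X] [IsLocallyNoetherian X] (E : X.Modules)
    (hE : Coh.IsCoh E) (F : ℕ → X.Modules) (ι : ∀ n, F n ⟶ E) (hm : ∀ n, Mono (ι n))
    (hF : ∀ n, (F n).IsQuasicoherent) (g : ∀ n, F n ⟶ F (n + 1))
    (hg : ∀ n, g n ≫ ι (n + 1) = ι n) : ∃ n, IsIso (g n) := by
  obtain ⟨s, hs, hcov⟩ := (isCompact_iff_finite_and_eq_biUnion_affineOpens
    (U := (⊤ : X.Opens))).mp (by simpa using isCompact_univ)
  -- stabilisation over each affine open
  have hstab : ∀ U : X.affineOpens, ∃ n, ∀ m, n ≤ m → secRange (ι n) U.1 = secRange (ι m) U.1 := by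
    intro U
    haveI : IsNoetherianRing Γ(X, U.1) := IsLocallyNoetherian.component_noetherian U
    haveI : Module.Finite Γ(X, U.1) Γ(E, U.1) := SecDict.finite_sections U.2 E hE.1 hE.2
    haveI : IsNoetherian Γ(X, U.1) Γ(E, U.1) := isNoetherian_of_isNoetherianRing_of_finite _ _
    let f : ℕ →o Submodule Γ(X, U.1) Γ(E, U.1) :=
      ⟨fun n => secRange (ι n) U.1, monotone_nat_of_le_succ
        (fun n => secRange_le (ι n) (ι (n + 1)) (g n) (hg n) U.1)⟩
    exact monotone_stabilizes_iff_noetherian.mpr inferInstance f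
  choose N hN using hstab
  haveI : Fintype s := hs.fintype
  let n₀ : ℕ := Finset.univ.sup fun U : s => N U.1
  have hn₀ : ∀ U : s, N U.1 ≤ n₀ := fun U => Finset.le_sup (f := fun U : s => N U.1) (Finset.mem_univ U)
  refine ⟨n₀, ?_⟩
  haveI := hm n₀
  haveI := hm (n₀ + 1)
  haveI : Mono (g n₀) := by
    haveI : Mono (g n₀ ≫ ι (n₀ + 1)) := by rw [hg]; infer_instance
    exact mono_of_mono (g n₀) (ι (n₀ + 1))
  haveI := hF (n₀ + 1)
  haveI : Epi (g n₀) := by
    apply QcohLocal.epi_of_stalkLin_surjective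
    intro x
    have hx : x ∈ (⊤ : X.Opens) := trivial
    rw [hcov] at hx
    simp only [Opens.mem_iSup] at hx
    obtain ⟨U, hUs, hxU⟩ := hx
    have h1 := hN U n₀ (hn₀ ⟨U, hUs⟩)
    have h2 := hN U (n₀ + 1) ((hn₀ ⟨U, hUs⟩).trans (Nat.le_succ _))
    exact stalk_surjective_of_secRange_eq (ι n₀) (ι (n₀ + 1)) (g n₀) (hg n₀) U.2
      (h1.symm.trans h2) x hxU
  exact isIso_of_mono_of_epi (g n₀)

/-- a nonempty family of coherent submodules of a coherent module has a maximal element above any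
of its members -/
theorem exists_maximal_sub [CompactSpace X] [IsLocallyNoetherian X] (E : X.Modules)
    (hE : Coh.IsCoh E) (P : ∀ F : X.Modules, (F ⟶ E) → Prop)
    (hP : ∀ F ι, P F ι → Mono ι ∧ Coh.IsCoh F)
    (F₀ : X.Modules) (ι₀ : F₀ ⟶ E) (h₀ : P F₀ ι₀) :
    ∃ (F : X.Modules) (ι : F ⟶ E), P F ι ∧ (∃ g₀ : F₀ ⟶ F, g₀ ≫ ι = ι₀) ∧
      ∀ (F' : X.Modules) (ι' : F' ⟶ E), P F' ι' → ∀ g : F ⟶ F', g ≫ ι' = ι → IsIso g := by
  by_contra hcon
  push Not at hcon
  -- the type of members above `F₀`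
  let Mem := {p : Σ F : X.Modules, (F ⟶ E) // P p.1 p.2 ∧ ∃ g₀ : F₀ ⟶ p.1, g₀ ≫ p.2 = ι₀}
  have hnext : ∀ x : Mem, ∃ y : Mem, ∃ g : x.1.1 ⟶ y.1.1, g ≫ y.1.2 = x.1.2 ∧ ¬ IsIso g := by
    intro x
    obtain ⟨F', ι', hP', g, hg, hni⟩ := hcon x.1.1 x.1.2 x.2.1 x.2.2
    obtain ⟨g₀, hg₀⟩ := x.2.2
    exact ⟨⟨⟨F', ι'⟩, hP', g₀ ≫ g, by rw [Category.assoc, hg, hg₀]⟩, g, hg, hni⟩
  choose next gg hgg hni using hnext
  let x₀ : Mem := ⟨⟨F₀, ι₀⟩, h₀, 𝟙 _, Category.id_comp _⟩
  let seq : ℕ → Mem := fun n => Nat.rec x₀ (fun _ y => next y) n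
  obtain ⟨n, hn⟩ := exists_isIso_of_chain E hE (fun n => (seq n).1.1) (fun n => (seq n).1.2)
    (fun n => (hP _ _ (seq n).2.1).1) (fun n => (hP _ _ (seq n).2.1).2.1)
    (fun n => gg (seq n))
    (fun n => hgg (seq n))
  exact hni (seq n) hn

end Groth.Agent.Helper5.ShStab12
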