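import Mathlib
import Groth.Agent.Helper5.ShStab1
import Groth.Agent.Helper4.SN24
import Groth.Agent.Helper4.SN25

/-!
# The multiplicity of a coherent module of dimension `d` is positive
-/

set_option autoImplicit false
set_option linter.style.haveILetI false

namespace Groth.Agent.Helper5.ShStab2

open CategoryTheory Limits AlgebraicGeometry Opposite Polynomial Filter
open Groth.Agent.Helper5.ShStab1 Groth.Agent.Helper5.ShStabPoly
open Groth.Agent.Helper4.SN

universe u

section general

variable {X : Scheme.{u}}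

theorem tensorPows_const_iso' (L F : X.Modules) (hL : PicF.IsInvertible L) :
    ∀ (r : ℕ) (n : Fin r → ℕ),
      Nonempty (Curv2.tensorPows F r (fun _ => L) n ≅
        CohB1.tensorMod F (CohB1.tensorPow L (∑ i, n i))) := by
  intro r
  induction r with
  | zero =>
    intro n
    have h : ∑ i : Fin 0, n i = 0 := by simp
    rw [h]
    exact ⟨(SecTwist.unitorR F).symm⟩
  | succ r ih =>
    intro n
    obtain ⟨e⟩ := ih (fun i => n i.castSucc)
    rw [Fin.sum_univ_castSucc]
    exact ⟨PicGrp.tensorModIso e (Iso.refl _) ≪≫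
      Groth.Agent.Helper4.TensorAssoc.assocIso F _ _
        (Groth.Agent.Helper4.TensorInv.isInvertible_tensorPow hL _)
        (Groth.Agent.Helper4.TensorInv.isInvertible_tensorPow hL _) ≪≫
      PicGrp.tensorModIso (Iso.refl F) (Groth.Agent.Helper4.TensorAssoc.powAddIso L hL _ _)⟩

end general

variable (k : Type u) [Field k] {X : Scheme.{u}} [X.Over (Spec (CommRingCat.of k))]
  [IsProper (X ↘ Spec (CommRingCat.of k))]

/-- **the multiplicity is positive**: the Hilbert polynomial of a coherent module whose support has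
dimension `d` has positive coefficient in degree `d` -/
theorem alpha_pos {L : X.Modules} (hL : CohB1.IsAmple L) (F : X.Modules) (hF : Coh.IsCoh F) (d : ℕ)
    (hdim : topologicalKrullDim (CohB1.support F) = (d : WithBot ℕ∞)) {p : ℚ[X]}
    (hp : ShStab.IsHilbPoly k X L F p) : 0 < StabCat.alpha d p := by
  have hLinv := hL.1
  have hdF : DimLT (CohB1.support F) (d + 1) := by
    apply dimLT_of_krullDim_lt
    rw [hdim]
    exact_mod_cast Nat.lt_succ_self d
  obtain ⟨P, hdeg, hP⟩ := main1528' k F hF d hdF d (fun _ => L) (fun _ => hLinv)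
  have hc1 := coeff_ones_eq_altF k F hF d hdF (fun _ => L) (fun _ => hLinv) P hP
  have hpos := altF_pos_of_dim k (fun _ : Fin d => L) (fun _ => hL) F hF hdim
  have hc2 := coeff_ones_eq_mixedL' k F hF d hdF (fun _ => L) (fun _ => hLinv) P hP
  obtain ⟨p', hp', hpdeg'⟩ := exists_hilbPoly k hLinv F hF d hdim.le
  have hpp : p = p' := hilbPoly_unique k hp hp'
  subst hpp
  set f : ℕ → ℤ := fun n => Curv2.euler k X (ShStab.twist X L F n) with hf
  have hfp : ∀ n : ℕ, (f n : ℚ) = p.eval (n : ℚ) := hp
  have hg : (fun m : Fin d → ℕ => Curv2.euler k X (Curv2.tensorPows F d (fun _ => L) m)) =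
      fun m => f (∑ i, m i) := by
    funext m
    obtain ⟨e⟩ := tensorPows_const_iso' L F hLinv d m
    exact chi_iso k e
  rw [hg, mixedL_sum, List.length_finRange] at hc2
  beta_reduce at hc2
  have hsum0 : ∑ i : Fin d, (0 : Fin d → ℕ) i = 0 := by simp
  rw [hsum0, fwdDiff_iter_cast f p hfp d 0, fwdDiff_iter_eval p d hpdeg'] at hc2
  unfold StabCat.alpha
  rw [← hc2, hc1]
  exact_mod_cast hpos

end Groth.Agent.Helper5.ShStab2
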