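import Mathlib

set_option autoImplicit false

namespace Groth.Agent.Helper5.ShStabArith

theorem arith_cross {aK aQ K Q : ℚ} (h1 : (aK + aQ) * K ≤ aK * (K + Q)) : aQ * K ≤ aK * Q := by
  linarith

theorem arith_cross_lt {aK aQ K Q : ℚ} (h1 : (aK + aQ) * K < aK * (K + Q)) : aQ * K < aK * Q := by
  linarith

/-- S15192 -/
theorem arith192 {aK aQ b K Q G : ℚ} (h1 : (aK + aQ) * K ≤ aK * (K + Q)) (h2 : b * Q ≤ aQ * G)
    (hlt : (aK + aQ) * G < b * (K + Q)) (haK : 0 ≤ aK) (haQ : 0 ≤ aQ) (hb : 0 ≤ b)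
    (hK : 0 ≤ K) (hQ : 0 < Q) (hG : 0 < G) : False := by
  have e1 : aQ * K ≤ aK * Q := arith_cross h1
  rcases eq_or_lt_of_le haQ with h | h
  · rw [← h] at h2 hlt
    have hb0 : b = 0 := by
      by_contra hne
      have : 0 < b := lt_of_le_of_ne hb (Ne.symm hne)
      nlinarith [mul_pos this hQ]
    rw [hb0] at hlt
    nlinarith [mul_nonneg haK hG.le]
  · have t1 := mul_lt_mul_of_pos_left hlt h
    have t2 := mul_le_mul_of_nonneg_left h2 (add_nonneg haK haQ)
    have t3 := mul_le_mul_of_nonneg_left e1 hb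
    linarith

/-- S15193 -/
theorem arith193 {aK aQ b K Q G : ℚ} (h1 : (aK + aQ) * K < aK * (K + Q)) (h2 : b * Q ≤ aQ * G)
    (h3 : b * (K + Q) = (aK + aQ) * G) (haK : 0 ≤ aK) (haQ : 0 ≤ aQ) (hb : 0 ≤ b)
    (hK : 0 ≤ K) (hQ : 0 < Q) (hG : 0 < G) : False := by
  have e1 : aQ * K < aK * Q := arith_cross_lt h1
  rcases eq_or_lt_of_le hb with h | h
  · rw [← h] at h3
    have ha0 : aK + aQ = 0 := by
      have : (aK + aQ) * G = 0 := by linarith
      rcases mul_eq_zero.mp this with h' | h'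
      · exact h'
      · exact absurd h' hG.ne'
    have hK0 : aK = 0 := by linarith
    have hQ0 : aQ = 0 := by linarith
    rw [hK0, hQ0] at e1
    simp at e1
  · have t2 := mul_le_mul_of_nonneg_left h2 (add_nonneg haK haQ)
    have t3 := mul_lt_mul_of_pos_left e1 h
    have t4 : aQ * (b * (K + Q)) = aQ * ((aK + aQ) * G) := by rw [h3]
    linarith

/-- S15194 -/
theorem arith194 {aK aQ b K Q G : ℚ} (h1 : (aK + aQ) * K ≤ aK * (K + Q)) (h2 : b * Q < aQ * G)
    (h3 : b * (K + Q) = (aK + aQ) * G) (haK : 0 ≤ aK) (haQ : 0 ≤ aQ) (hb : 0 ≤ b)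
    (hK : 0 ≤ K) (hQ : 0 < Q) (hG : 0 < G) : False := by
  have e1 : aQ * K ≤ aK * Q := arith_cross h1
  rcases eq_or_lt_of_le (add_nonneg haK haQ) with h | h
  · have hK0 : aK = 0 := by linarith
    have hQ0 : aQ = 0 := by linarith
    rw [hQ0] at h2
    nlinarith [mul_nonneg hb hQ.le]
  · have t2 := mul_lt_mul_of_pos_left h2 h
    have t3 := mul_le_mul_of_nonneg_left e1 hb
    have t4 : aQ * (b * (K + Q)) = aQ * ((aK + aQ) * G) := by rw [h3]
    linarith

end Groth.Agent.Helper5.ShStabArith
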