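import Mathlib
import Groth.Agent.Helper5.ShStab1
import Groth.Agent.Helper5.ShStabArith

/-!
# Kernel / coimage decomposition of a morphism of coherent modules, and Hilbert polynomials
-/

set_option autoImplicit false
set_option linter.style.haveILetI false

namespace Groth.Agent.Helper5.ShStab3

open CategoryTheory Limits AlgebraicGeometry Opposite Polynomial Filter
open Groth.Agent.Helper5.ShStab1 Groth.Agent.Helper5.ShStabPoly

universe u

section abelian

variable {C : Type*} [Category C] [Abelian C] {F G : C}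

/-- the short complex `0 ⟶ A ⟶ B ⟶ coker ⟶ 0` of a morphism -/
noncomputable def cokerSC (j : F ⟶ G) : ShortComplex C :=
  ShortComplex.mk j (cokernel.π j) (cokernel.condition j)

theorem cokerSC_shortExact (j : F ⟶ G) [Mono j] : (cokerSC j).ShortExact :=
  ShortComplex.ShortExact.mk'
    (ShortComplex.exact_of_g_is_cokernel _ (cokernelIsCokernel j))
    (inferInstanceAs (Mono j)) (inferInstanceAs (Epi (cokernel.π j)))

theorem not_isZero_coimage (φ : F ⟶ G) (hφ : φ ≠ 0) : ¬ IsZero (Abelian.coimage φ) := by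
  intro h
  apply hφ
  rw [← Abelian.coimage.fac φ, h.eq_of_tgt (Abelian.coimage.π φ) 0, Limits.zero_comp]

theorem not_isIso_kernel_ι (φ : F ⟶ G) (hφ : φ ≠ 0) : ¬ IsIso (kernel.ι φ) := by
  intro h
  apply hφ
  rw [← cancel_epi (kernel.ι φ), kernel.condition, Limits.comp_zero]

theorem mono_of_isZero_kernel (φ : F ⟶ G) (h : IsZero (kernel φ)) : Mono φ :=
  Preadditive.mono_of_kernel_zero (h.eq_of_src _ _)

theorem epi_of_isIso_factorThruCoimage (φ : F ⟶ G) (h : IsIso (Abelian.factorThruCoimage φ)) :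
    Epi φ := by
  rw [← Abelian.coimage.fac φ]
  infer_instance

theorem isIso_factorThruCoimage_of_isZero_cokernel (φ : F ⟶ G)
    (h : IsZero (cokernel (Abelian.factorThruCoimage φ))) :
    IsIso (Abelian.factorThruCoimage φ) := by
  haveI : Epi (Abelian.factorThruCoimage φ) :=
    Preadditive.epi_of_cokernel_zero (h.eq_of_tgt _ _)
  exact isIso_of_mono_of_epi _

end abelian

variable (k : Type u) [Field k] {X : Scheme.{u}} [X.Over (Spec (CommRingCat.of k))]
  [IsProper (X ↘ Spec (CommRingCat.of k))]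

omit [IsProper (X ↘ Spec (CommRingCat.of k))] in
theorem dim_support_le_of_pure {E : X.Modules} {d : ℕ} (hp : ShStab.IsPure X E d)
    {K : X.Modules} (ι : K ⟶ E) [Mono ι] (hK : Coh.IsCoh K) :
    topologicalKrullDim (CohB1.support K) ≤ (d : WithBot ℕ∞) := by
  by_cases h0 : IsZero K
  · rw [(Groth.Agent.Lead.EpiPull.isZero_iff_support K).mp h0]
    haveI : IsEmpty (TopologicalSpace.IrreducibleCloseds ((∅ : Set X))) :=
      ⟨fun s => (Set.notMem_empty _ s.isIrreducible'.nonempty.some.2).elim⟩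
    unfold topologicalKrullDim
    rw [Order.krullDim_eq_bot]
    exact bot_le
  · exact (hp K ι inferInstance hK h0).le

include k in
theorem isCoh_kernel {F G : X.Modules} (hF : Coh.IsCoh F) (hG : Coh.IsCoh G) (φ : F ⟶ G) :
    Coh.IsCoh (kernel φ) := by
  haveI := isLocallyNoetherian_of_proper k (X := X)
  exact Groth.Agent.Lead.PerfLib.isCoh_kernel hF hG φ

include k in
theorem isCoh_coimage {F G : X.Modules} (hF : Coh.IsCoh F) (hG : Coh.IsCoh G) (φ : F ⟶ G) :
    Coh.IsCoh (Abelian.coimage φ) :=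
  Groth.Agent.Lead.PerfLib.isCoh_cokernel (isCoh_kernel k hF hG φ) hF (kernel.ι φ)

/-- the basic package attached to a nonzero morphism between pure coherent modules -/
theorem package {L : X.Modules} (hL : CohB1.IsAmple L) (d : ℕ) {F G : X.Modules}
    (hF : Coh.IsCoh F) (hG : Coh.IsCoh G) (hpF : ShStab.IsPure X F d) (hpG : ShStab.IsPure X G d)
    (φ : F ⟶ G) (hφ : φ ≠ 0) :
    ∃ pK pQ : ℚ[X], ShStab.IsHilbPoly k X L (kernel φ) pK ∧
      ShStab.IsHilbPoly k X L (Abelian.coimage φ) pQ ∧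
      ShStab.IsHilbPoly k X L F (pK + pQ) ∧
      0 ≤ StabCat.alpha d pK ∧ 0 ≤ StabCat.alpha d pQ ∧
      (∀ᶠ m : ℕ in atTop, 0 ≤ pK.eval (m : ℚ)) ∧ (∀ᶠ m : ℕ in atTop, 0 < pQ.eval (m : ℚ)) := by
  have hKc := isCoh_kernel k hF hG φ
  have hQc := isCoh_coimage k hF hG φ
  have hQ0 := not_isZero_coimage φ hφ
  obtain ⟨pK, hpK, hdK⟩ := exists_hilbPoly k hL.1 (kernel φ) hKc d
    (dim_support_le_of_pure hpF (kernel.ι φ) hKc)
  obtain ⟨pQ, hpQ, hdQ⟩ := exists_hilbPoly k hL.1 (Abelian.coimage φ) hQc d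
    (dim_support_le_of_pure hpG (Abelian.factorThruCoimage φ) hQc)
  have hadd := hilbPoly_add k hL.1 (cokerSC (kernel.ι φ)) (cokerSC_shortExact _) hKc hF hQc hpK hpQ
  have hKnn := hilbPoly_nonneg k hL (kernel φ) hKc hpK
  have hQpos := hilbPoly_pos k hL (Abelian.coimage φ) hQc hQ0 hpQ
  exact ⟨pK, pQ, hpK, hpQ, hadd, alpha_nonneg hdK hKnn,
    alpha_nonneg hdQ (hQpos.mono fun m hm => hm.le), hKnn, hQpos⟩

omit [IsProper (X ↘ Spec (CommRingCat.of k))] in
theorem redLE_refl (d : ℕ) (P : ℚ[X]) : StabCat.RedLE d P P := by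
  rw [redLE_iff]
  exact Eventually.of_forall fun m => le_refl _

omit [IsProper (X ↘ Spec (CommRingCat.of k))] in
theorem redLE_of_redLT {d : ℕ} {P Q : ℚ[X]} (h : StabCat.RedLT d P Q) : StabCat.RedLE d P Q := by
  rw [redLT_iff] at h
  rw [redLE_iff]
  exact h.mono fun m hm => hm.le

omit [IsProper (X ↘ Spec (CommRingCat.of k))] in
theorem isSS_of_isSt {d : ℕ} {E : X.Modules} {L : X.Modules}
    (h : StabCat.IsSt Coh.IsCoh (ShStab.IsHilbPoly k X L) d E) :
    StabCat.IsSS Coh.IsCoh (ShStab.IsHilbPoly k X L) d E :=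
  fun F ι hm hc h0 hi pF pE hF hE => redLE_of_redLT (h F ι hm hc h0 hi pF pE hF hE)

/-- the semistability inequality for the kernel, valid also when the kernel vanishes -/
theorem redLE_kernel {L : X.Modules} (hL : CohB1.IsAmple L) (d : ℕ) {F G : X.Modules}
    (hF : Coh.IsCoh F) (hG : Coh.IsCoh G) (φ : F ⟶ G) (hφ : φ ≠ 0)
    (hss : StabCat.IsSS Coh.IsCoh (ShStab.IsHilbPoly k X L) d F) {pK pF : ℚ[X]}
    (hpK : ShStab.IsHilbPoly k X L (kernel φ) pK) (hpF : ShStab.IsHilbPoly k X L F pF) :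
    StabCat.RedLE d pK pF := by
  by_cases h0 : IsZero (kernel φ)
  · have : pK = 0 := hilbPoly_unique k hpK (hilbPoly_zero k hL.1 h0)
    subst this
    rw [redLE_iff]
    refine Eventually.of_forall fun m => ?_
    simp [StabCat.alpha]
  · exact hss _ (kernel.ι φ) inferInstance (isCoh_kernel k hF hG φ) h0
      (not_isIso_kernel_ι φ hφ) pK pF hpK hpF

/-- the semistability inequality for the coimage, valid also when it is everything -/
theorem redLE_coimage {L : X.Modules} (d : ℕ) {F G : X.Modules}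
    (hF : Coh.IsCoh F) (hG : Coh.IsCoh G) (φ : F ⟶ G) (hφ : φ ≠ 0)
    (hss : StabCat.IsSS Coh.IsCoh (ShStab.IsHilbPoly k X L) d G) {pQ pG : ℚ[X]}
    (hpQ : ShStab.IsHilbPoly k X L (Abelian.coimage φ) pQ) (hpG : ShStab.IsHilbPoly k X L G pG) :
    StabCat.RedLE d pQ pG := by
  by_cases hi : IsIso (Abelian.factorThruCoimage φ)
  · have : pQ = pG := hilbPoly_unique k (hilbPoly_of_iso k (asIso (Abelian.factorThruCoimage φ)) hpQ) hpG
    subst this
    exact redLE_refl d pQ
  · exact hss _ (Abelian.factorThruCoimage φ) inferInstance (isCoh_coimage k hF hG φ)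
      (not_isZero_coimage φ hφ) hi pQ pG hpQ hpG

end Groth.Agent.Helper5.ShStab3
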