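import Mathlib
import Groth.Prelude.Def_StabCat
import Groth.Agent.Helper5.ShStabPoly

set_option autoImplicit false
open Polynomial Filter

namespace Groth.Agent.Helper5.ShStabPoly2

open Groth.Agent.Helper5.ShStabPoly

/-- a polynomial with positive leading coefficient is eventually positive -/
theorem eventually_pos_of_leadingCoeff_pos {P : ℚ[X]} (h : 0 < P.leadingCoeff) :
    ∀ᶠ m : ℕ in atTop, 0 < P.eval (m : ℚ) := by
  rcases Nat.eq_zero_or_pos P.natDegree with h0 | hpos
  · rw [Polynomial.eq_C_of_natDegree_eq_zero h0]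
    refine Eventually.of_forall fun m => ?_
    rw [Polynomial.eval_C]
    rw [Polynomial.leadingCoeff, h0] at h
    exact h
  · have hP0 : P ≠ 0 := by rintro rfl; simp at h
    have hdeg' : 0 < P.degree := by
      rw [Polynomial.degree_eq_natDegree hP0]
      exact_mod_cast hpos
    have ht := Polynomial.tendsto_atTop_of_leadingCoeff_nonneg P hdeg' h.le
    have ht' := ht.comp (tendsto_natCast_atTop_atTop (R := ℚ))
    exact ht'.eventually (eventually_gt_atTop 0)

/-- an eventually nonnegative polynomial has nonnegative leading coefficient -/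
theorem leadingCoeff_nonneg {P : ℚ[X]} (h : ∀ᶠ m : ℕ in atTop, 0 ≤ P.eval (m : ℚ)) :
    0 ≤ P.leadingCoeff :=
  coeff_nonneg (le_refl _) h

theorem coeff_topPart (ℓ d : ℕ) (P : ℚ[X]) (i : ℕ) :
    (StabCat.topPart ℓ d P).coeff i = if i ∈ Finset.Icc (d - ℓ) d then P.coeff i else 0 := by
  unfold StabCat.topPart
  rw [Polynomial.finset_sum_coeff]
  simp only [Polynomial.coeff_monomial]
  rw [Finset.sum_ite_eq' (Finset.Icc (d - ℓ) d) i]

theorem alpha_topPart (ℓ d : ℕ) (P : ℚ[X]) :
    StabCat.alpha d (StabCat.topPart ℓ d P) = StabCat.alpha d P := by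
  unfold StabCat.alpha
  rw [coeff_topPart, if_pos (Finset.mem_Icc.mpr ⟨Nat.sub_le _ _, le_refl _⟩)]

theorem topPart_add (ℓ d : ℕ) (P Q : ℚ[X]) :
    StabCat.topPart ℓ d (P + Q) = StabCat.topPart ℓ d P + StabCat.topPart ℓ d Q := by
  ext i
  rw [Polynomial.coeff_add, coeff_topPart, coeff_topPart, coeff_topPart, Polynomial.coeff_add]
  split_ifs <;> simp

theorem topPart_smul (ℓ d : ℕ) (c : ℚ) (P : ℚ[X]) :
    StabCat.topPart ℓ d (c • P) = c • StabCat.topPart ℓ d P := by
  ext i
  rw [Polynomial.coeff_smul, coeff_topPart, coeff_topPart, Polynomial.coeff_smul]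
  split_ifs <;> simp

theorem topPart_sub (ℓ d : ℕ) (P Q : ℚ[X]) :
    StabCat.topPart ℓ d (P - Q) = StabCat.topPart ℓ d P - StabCat.topPart ℓ d Q := by
  ext i
  rw [Polynomial.coeff_sub, coeff_topPart, coeff_topPart, coeff_topPart, Polynomial.coeff_sub]
  split_ifs <;> simp

/-- the full truncation of a polynomial of degree `≤ d` is the polynomial -/
theorem topPart_self {d : ℕ} {P : ℚ[X]} (hP : P.natDegree ≤ d) : StabCat.topPart d d P = P := by
  ext i
  rw [coeff_topPart]
  split_ifs with h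
  · rfl
  · rw [Finset.mem_Icc] at h
    push Not at h
    have : d < i := h (by omega)
    exact (Polynomial.coeff_eq_zero_of_natDegree_lt (lt_of_le_of_lt hP this)).symm

/-- truncation preserves eventual nonnegativity (for polynomials of degree `≤ d`) -/
theorem topPart_eventually_nonneg {ℓ d : ℕ} {P : ℚ[X]} (hP : P.natDegree ≤ d)
    (h : ∀ᶠ m : ℕ in atTop, 0 ≤ P.eval (m : ℚ)) :
    ∀ᶠ m : ℕ in atTop, 0 ≤ (StabCat.topPart ℓ d P).eval (m : ℚ) := by
  set T := StabCat.topPart ℓ d P with hT
  by_cases hT0 : T = 0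
  · rw [hT0]; simp
  -- the top coefficient of `T`
  have hPn : P.natDegree ∈ Finset.Icc (d - ℓ) d := by
    rw [Finset.mem_Icc]
    refine ⟨?_, hP⟩
    by_contra hlt
    push Not at hlt
    apply hT0
    ext i
    rw [hT, coeff_topPart, Polynomial.coeff_zero]
    split_ifs with hi
    · rw [Finset.mem_Icc] at hi
      exact Polynomial.coeff_eq_zero_of_natDegree_lt (lt_of_lt_of_le hlt hi.1)
    · rfl
  have hP0 : P ≠ 0 := by
    rintro rfl
    apply hT0
    ext i
    rw [hT, coeff_topPart]
    split_ifs <;> simp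
  have hTdeg : T.natDegree = P.natDegree := by
    apply le_antisymm
    · rw [Polynomial.natDegree_le_iff_coeff_eq_zero]
      intro i hi
      rw [hT, coeff_topPart]
      split_ifs
      · exact Polynomial.coeff_eq_zero_of_natDegree_lt hi
      · rfl
    · apply Polynomial.le_natDegree_of_ne_zero
      rw [hT, coeff_topPart, if_pos hPn]
      exact Polynomial.leadingCoeff_ne_zero.mpr hP0
  have hTlc : T.leadingCoeff = P.leadingCoeff := by
    rw [Polynomial.leadingCoeff, hTdeg, hT, coeff_topPart, if_pos hPn]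
    rfl
  have hlc : 0 < T.leadingCoeff := by
    rw [hTlc]
    exact lt_of_le_of_ne (leadingCoeff_nonneg h) (Ne.symm (Polynomial.leadingCoeff_ne_zero.mpr hP0))
  exact (eventually_pos_of_leadingCoeff_pos hlc).mono fun m hm => hm.le

/-- truncation preserves eventual positivity when the multiplicity is positive -/
theorem topPart_eventually_pos {ℓ d : ℕ} {P : ℚ[X]} (hP : P.natDegree ≤ d)
    (h : ∀ᶠ m : ℕ in atTop, 0 < P.eval (m : ℚ)) (hT0 : StabCat.topPart ℓ d P ≠ 0) :
    ∀ᶠ m : ℕ in atTop, 0 < (StabCat.topPart ℓ d P).eval (m : ℚ) := by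
  have hnn := topPart_eventually_nonneg (ℓ := ℓ) hP (h.mono fun m hm => hm.le)
  have hlc0 := leadingCoeff_nonneg hnn
  exact eventually_pos_of_leadingCoeff_pos
    (lt_of_le_of_ne hlc0 (Ne.symm (Polynomial.leadingCoeff_ne_zero.mpr hT0)))

/-- the reduced comparison passes to truncations -/
theorem redLE_topPart {ℓ d : ℕ} {P Q : ℚ[X]} (hP : P.natDegree ≤ d) (hQ : Q.natDegree ≤ d)
    (h : StabCat.RedLE d P Q) : StabCat.RedLE d (StabCat.topPart ℓ d P) (StabCat.topPart ℓ d Q) := by
  rw [redLE_iff] at h ⊢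
  rw [alpha_topPart, alpha_topPart]
  set R : ℚ[X] := StabCat.alpha d P • Q - StabCat.alpha d Q • P with hR
  have hRdeg : R.natDegree ≤ d := by
    refine (Polynomial.natDegree_sub_le _ _).trans (max_le ?_ ?_)
    · exact (Polynomial.natDegree_smul_le _ _).trans hQ
    · exact (Polynomial.natDegree_smul_le _ _).trans hP
  have hRnn : ∀ᶠ m : ℕ in atTop, 0 ≤ R.eval (m : ℚ) := by
    filter_upwards [h] with m hm
    rw [hR, Polynomial.eval_sub, Polynomial.eval_smul, Polynomial.eval_smul, smul_eq_mul, smul_eq_mul]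
    linarith
  have hT := topPart_eventually_nonneg (ℓ := ℓ) hRdeg hRnn
  filter_upwards [hT] with m hm
  rw [hR, topPart_sub, topPart_smul, topPart_smul, Polynomial.eval_sub, Polynomial.eval_smul,
    Polynomial.eval_smul, smul_eq_mul, smul_eq_mul] at hm
  linarith

/-- comparison of `hatSlope` from the reduced comparison -/
theorem hatSlope_le_of_redLE {d : ℕ} (hd : 1 ≤ d) {P Q : ℚ[X]} (hP : P.natDegree ≤ d)
    (hQ : Q.natDegree ≤ d) (haP : 0 < StabCat.alpha d P) (haQ : 0 < StabCat.alpha d Q)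
    (h : StabCat.RedLE d P Q) : StabCat.hatSlope d P ≤ StabCat.hatSlope d Q := by
  rw [redLE_iff] at h
  set R : ℚ[X] := StabCat.alpha d P • Q - StabCat.alpha d Q • P with hR
  have hRdeg : R.natDegree ≤ d := by
    refine (Polynomial.natDegree_sub_le _ _).trans (max_le ?_ ?_)
    · exact (Polynomial.natDegree_smul_le _ _).trans hQ
    · exact (Polynomial.natDegree_smul_le _ _).trans hP
  have hRd : R.coeff d = 0 := by
    rw [hR, Polynomial.coeff_sub, Polynomial.coeff_smul, Polynomial.coeff_smul]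
    unfold StabCat.alpha
    simp only [smul_eq_mul]
    ring
  have hRdeg' : R.natDegree ≤ d - 1 := Polynomial.natDegree_le_pred hRdeg hRd
  have hRnn : ∀ᶠ m : ℕ in atTop, 0 ≤ R.eval (m : ℚ) := by
    filter_upwards [h] with m hm
    rw [hR, Polynomial.eval_sub, Polynomial.eval_smul, Polynomial.eval_smul, smul_eq_mul, smul_eq_mul]
    linarith
  have hc := coeff_nonneg hRdeg' hRnn
  rw [hR, Polynomial.coeff_sub, Polynomial.coeff_smul, Polynomial.coeff_smul, smul_eq_mul,
    smul_eq_mul] at hc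
  unfold StabCat.hatSlope
  rw [div_le_div_iff₀ haP haQ]
  have hf : (0 : ℚ) < ((d - 1).factorial : ℚ) := by positivity
  have e1 : StabCat.alpha (d - 1) P = ((d - 1).factorial : ℚ) * P.coeff (d - 1) := rfl
  have e2 : StabCat.alpha (d - 1) Q = ((d - 1).factorial : ℚ) * Q.coeff (d - 1) := rfl
  rw [e1, e2]
  nlinarith [mul_nonneg hf.le hc]

end Groth.Agent.Helper5.ShStabPoly2
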