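import Mathlib
import Groth.Agent.Helper5.ShStab2
import Groth.Agent.Helper5.ShStab3
import Groth.Agent.Helper5.ShStabPoly2
import Groth.Agent.Helper1.Dev1

/-!
# Semistability, truncations and slopes
-/

set_option autoImplicit false
set_option linter.style.haveILetI false

namespace Groth.Agent.Helper5.ShStab5

open CategoryTheory Limits AlgebraicGeometry Opposite Polynomial Filter
open Groth.Agent.Helper5.ShStab1 Groth.Agent.Helper5.ShStabPoly Groth.Agent.Helper5.ShStab3
open Groth.Agent.Helper5.ShStabPoly2 Groth.Agent.Helper5.ShStab2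

universe u

variable (k : Type u) [Field k] (X : Scheme.{u}) [X.Over (Spec (CommRingCat.of k))]
  [IsProper (X ↘ Spec (CommRingCat.of k))]

omit [IsProper (X ↘ Spec (CommRingCat.of k))] [X.Over (Spec (CommRingCat.of k))] in
theorem dim_support_le_of_mono {F E : X.Modules} (ι : F ⟶ E) [Mono ι] {d : ℕ}
    (hd : topologicalKrullDim (CohB1.support E) ≤ (d : WithBot ℕ∞)) :
    topologicalKrullDim (CohB1.support F) ≤ (d : WithBot ℕ∞) :=
  (Groth.Agent.Helper4.SN.topologicalKrullDim_mono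
    (Groth.Agent.Helper1.Dev.support_subset_of_mono ι)).trans hd

omit [IsProper (X ↘ Spec (CommRingCat.of k))] [X.Over (Spec (CommRingCat.of k))] in
theorem dim_support_le_of_epi {E G : X.Modules} (π : E ⟶ G) [Epi π] {d : ℕ}
    (hd : topologicalKrullDim (CohB1.support E) ≤ (d : WithBot ℕ∞)) :
    topologicalKrullDim (CohB1.support G) ≤ (d : WithBot ℕ∞) :=
  (Groth.Agent.Helper4.SN.topologicalKrullDim_mono
    (Groth.Agent.Helper1.Dev.support_subset_of_epi π)).trans hd

variable {X}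

/-- the package attached to a coherent submodule -/
theorem sub_package {L : X.Modules} (hL : CohB1.IsAmple L) (d : ℕ) {F E : X.Modules}
    (hFc : Coh.IsCoh F) (hEc : Coh.IsCoh E)
    (hd : topologicalKrullDim (CohB1.support E) ≤ (d : WithBot ℕ∞)) (ι : F ⟶ E) [Mono ι]
    {pF pE : ℚ[X]} (hpF : ShStab.IsHilbPoly k X L F pF) (hpE : ShStab.IsHilbPoly k X L E pE) :
    ∃ pC : ℚ[X], ShStab.IsHilbPoly k X L (cokernel ι) pC ∧ pE = pF + pC ∧
      pC.natDegree ≤ d ∧ pF.natDegree ≤ d ∧ pE.natDegree ≤ d ∧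
      (∀ᶠ m : ℕ in atTop, 0 ≤ pC.eval (m : ℚ)) ∧
      (¬ IsIso ι → ∀ᶠ m : ℕ in atTop, 0 < pC.eval (m : ℚ)) := by
  have hCc := Groth.Agent.Lead.PerfLib.isCoh_cokernel hFc hEc ι
  have hC := hilbPoly_sub k hL.1 (cokerSC ι) (cokerSC_shortExact ι) hFc hEc hCc hpF hpE
  refine ⟨pE - pF, hC, by ring, ?_, ?_, ?_, hilbPoly_nonneg k hL _ hCc hC, ?_⟩
  · exact natDegree_le_of_hilbPoly k hL.1 _ hCc d (dim_support_le_of_epi X (cokernel.π ι) hd) hC
  · exact natDegree_le_of_hilbPoly k hL.1 _ hFc d (dim_support_le_of_mono X ι hd) hpF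
  · exact natDegree_le_of_hilbPoly k hL.1 _ hEc d hd hpE
  · intro hiso
    refine hilbPoly_pos k hL _ hCc ?_ hC
    intro hz
    apply hiso
    haveI : Epi ι := Preadditive.epi_of_cokernel_zero (hz.eq_of_tgt _ _)
    exact isIso_of_mono_of_epi ι

/-- S15222 -/
theorem s15222 (L : X.Modules) (hL : CohB1.IsAmple L) (d ℓ : ℕ) (E : X.Modules)
    (hE : ShStab.IsSemistable k X L E d) : ShStab.IsEllSemistable k X L E d ℓ := by
  obtain ⟨hEc, hE0, hEp, hss⟩ := hE
  refine ⟨hEc, hE0, hEp, ?_⟩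
  intro F ι hm hFc pF pE hpF hpE h0 hlt
  haveI := hm
  have hdE := (hEp E (𝟙 E) inferInstance hEc hE0).le
  obtain ⟨pC, -, -, -, hdF, hdE', -, -⟩ := sub_package k hL d hFc hEc hdE ι hpF hpE
  have hF0 : ¬ IsZero F := by
    intro hz
    rw [hilbPoly_unique k hpF (hilbPoly_zero k hL.1 hz)] at h0
    simp [StabCat.alpha] at h0
  have hni : ¬ IsIso ι := by
    intro hi
    rw [hilbPoly_unique k (hilbPoly_of_iso k (asIso ι) hpF) hpE] at hlt
    exact lt_irrefl _ hlt
  exact redLE_topPart hdF hdE' (hss F ι hm hFc hF0 hni pF pE hpF hpE)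

/-- from truncated (with `ℓ = d`) to full semistability -/
theorem isSS_of_isEllSS (L : X.Modules) (hL : CohB1.IsAmple L) (d : ℕ) (E : X.Modules)
    (hEc : Coh.IsCoh E) (hE0 : ¬ IsZero E) (hEp : ShStab.IsPure X E d)
    (hell : StabCat.IsEllSS Coh.IsCoh (ShStab.IsHilbPoly k X L) d d E) :
    StabCat.IsSS Coh.IsCoh (ShStab.IsHilbPoly k X L) d E := by
  intro F ι hm hFc hF0 hni pF pE hpF hpE
  haveI := hm
  have hdE := (hEp E (𝟙 E) inferInstance hEc hE0).le
  obtain ⟨pC, hpC, hsum, hdC, hdF, hdE', hCnn, -⟩ := sub_package k hL d hFc hEc hdE ι hpF hpE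
  have haF : 0 < StabCat.alpha d pF := alpha_pos k hL F hFc d (hEp F ι hm hFc hF0) hpF
  have haC : 0 ≤ StabCat.alpha d pC := alpha_nonneg hdC hCnn
  have hle : StabCat.alpha d pF ≤ StabCat.alpha d pE := by
    rw [hsum, alpha_add]; linarith
  rcases lt_or_eq_of_le hle with hlt | heq
  · have h := hell F ι hm hFc pF pE hpF hpE haF hlt
    rwa [topPart_self hdF, topPart_self hdE'] at h
  · rw [redLE_iff, ← heq]
    filter_upwards [hCnn] with m hm'
    rw [hsum, Polynomial.eval_add]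
    exact mul_le_mul_of_nonneg_left (by linarith) haF.le

/-- S15217 -/
theorem s15217 (L : X.Modules) (hL : CohB1.IsAmple L) (d : ℕ) (E : X.Modules) :
    ShStab.IsSemistable k X L E d ↔ ShStab.IsEllSemistable k X L E d d := by
  constructor
  · exact s15222 k L hL d d E
  · rintro ⟨hEc, hE0, hEp, hell⟩
    exact ⟨hEc, hE0, hEp, isSS_of_isEllSS k L hL d E hEc hE0 hEp hell⟩

/-- S15218 -/
theorem s15218 (L : X.Modules) (hL : CohB1.IsAmple L) (d : ℕ) (E : X.Modules) :
    ShStab.IsStable k X L E d ↔ ShStab.IsEllStable k X L E d d := by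
  constructor
  · rintro ⟨hEc, hE0, hEp, hst⟩
    refine ⟨hEc, hE0, hEp, ?_⟩
    intro F ι hm hFc pF pE hpF hpE h0 hlt
    haveI := hm
    have hdE := (hEp E (𝟙 E) inferInstance hEc hE0).le
    obtain ⟨pC, -, -, -, hdF, hdE', -, -⟩ := sub_package k hL d hFc hEc hdE ι hpF hpE
    have hF0 : ¬ IsZero F := by
      intro hz
      rw [hilbPoly_unique k hpF (hilbPoly_zero k hL.1 hz)] at h0
      simp [StabCat.alpha] at h0
    have hni : ¬ IsIso ι := by
      intro hi
      rw [hilbPoly_unique k (hilbPoly_of_iso k (asIso ι) hpF) hpE] at hlt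
      exact lt_irrefl _ hlt
    rw [topPart_self hdF, topPart_self hdE']
    exact hst F ι hm hFc hF0 hni pF pE hpF hpE
  · rintro ⟨hEc, hE0, hEp, hell⟩
    refine ⟨hEc, hE0, hEp, ?_⟩
    intro F ι hm hFc hF0 hni pF pE hpF hpE
    haveI := hm
    have hdE := (hEp E (𝟙 E) inferInstance hEc hE0).le
    obtain ⟨pC, hpC, hsum, hdC, hdF, hdE', hCnn, hCpos⟩ :=
      sub_package k hL d hFc hEc hdE ι hpF hpE
    have haF : 0 < StabCat.alpha d pF := alpha_pos k hL F hFc d (hEp F ι hm hFc hF0) hpF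
    have haC : 0 ≤ StabCat.alpha d pC := alpha_nonneg hdC hCnn
    have hle : StabCat.alpha d pF ≤ StabCat.alpha d pE := by
      rw [hsum, alpha_add]; linarith
    rcases lt_or_eq_of_le hle with hlt | heq
    · have h := hell F ι hm hFc pF pE hpF hpE haF hlt
      rwa [topPart_self hdF, topPart_self hdE'] at h
    · rw [redLT_iff, ← heq]
      filter_upwards [hCpos hni] with m hm'
      rw [hsum, Polynomial.eval_add]
      exact mul_lt_mul_of_pos_left (by linarith) haF

/-- purity from the cross-multiplied inequalities -/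
theorem isPure_of_isSS (L : X.Modules) (hL : CohB1.IsAmple L) (d : ℕ) (E : X.Modules)
    (hEc : Coh.IsCoh E)
    (hdim : topologicalKrullDim (CohB1.support E) = (d : WithBot ℕ∞))
    (hss : StabCat.IsSS Coh.IsCoh (ShStab.IsHilbPoly k X L) d E) : ShStab.IsPure X E d := by
  intro T ι hm hTc hT0
  haveI := hm
  have hle := dim_support_le_of_mono X ι hdim.le
  by_contra hne
  have hlt : topologicalKrullDim (CohB1.support T) < (d : WithBot ℕ∞) := lt_of_le_of_ne hle hne
  obtain ⟨pT, hpT, -⟩ := exists_hilbPoly k hL.1 T hTc d hle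
  obtain ⟨pE, hpE, -⟩ := exists_hilbPoly k hL.1 E hEc d hdim.le
  have hni : ¬ IsIso ι := by
    intro hi
    apply hne
    rw [Groth.Agent.Helper1.Dev.support_eq_of_iso (asIso ι)]
    exact hdim
  have h := hss T ι hm hTc hT0 hni pT pE hpT hpE
  rw [redLE_iff, alpha_eq_zero_of_dim_lt k hL.1 T hTc d hlt hpT] at h
  have haE := alpha_pos k hL E hEc d hdim hpE
  obtain ⟨m, hm1, hm2⟩ := (h.and (hilbPoly_pos k hL T hTc hT0 hpT)).exists
  rw [zero_mul] at hm1
  nlinarith [mul_pos haE hm2]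

/-- S15213 -/
theorem s15213 (L : X.Modules) (hL : CohB1.IsAmple L) (d : ℕ) (E : X.Modules)
    (hE : Coh.IsCoh E) (h0 : ¬ IsZero E)
    (hdim : topologicalKrullDim (CohB1.support E) = (d : WithBot ℕ∞)) :
    ShStab.IsSemistable k X L E d ↔ StabCat.IsSS Coh.IsCoh (ShStab.IsHilbPoly k X L) d E :=
  ⟨fun h => h.2.2.2, fun h => ⟨hE, h0, isPure_of_isSS k L hL d E hE hdim h, h⟩⟩

/-- S15214 -/
theorem s15214 (L : X.Modules) (hL : CohB1.IsAmple L) (d : ℕ) (E : X.Modules)
    (hE : Coh.IsCoh E) (h0 : ¬ IsZero E)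
    (hdim : topologicalKrullDim (CohB1.support E) = (d : WithBot ℕ∞)) :
    ShStab.IsStable k X L E d ↔ StabCat.IsSt Coh.IsCoh (ShStab.IsHilbPoly k X L) d E :=
  ⟨fun h => h.2.2.2, fun h => ⟨hE, h0, isPure_of_isSS k L hL d E hE hdim (isSS_of_isSt k h), h⟩⟩

/-- S15210 -/
theorem s15210 (L : X.Modules) (hL : CohB1.IsAmple L) (d : ℕ) (hd : 1 ≤ d) (E : X.Modules)
    (hE : ShStab.IsSemistable k X L E d) : ShStab.IsMuSemistable k X L E d := by
  obtain ⟨hEc, hE0, hEp, hss⟩ := hE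
  have hdimE := hEp E (𝟙 E) inferInstance hEc hE0
  refine ⟨hEc, hE0, hdimE, ?_, ?_⟩
  · intro F ι hm hFc
    by_cases hF0 : IsZero F
    · rw [(Groth.Agent.Lead.EpiPull.isZero_iff_support F).mp hF0]
      have : topologicalKrullDim (∅ : Set X) = ⊥ := by
        haveI : IsEmpty (TopologicalSpace.IrreducibleCloseds ((∅ : Set X))) :=
          ⟨fun s => (Set.notMem_empty _ s.isIrreducible'.nonempty.some.2).elim⟩
        unfold topologicalKrullDim
        exact Order.krullDim_eq_bot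
      rw [this, WithBot.bot_add]
      exact WithBot.bot_ne_coe
    · rw [hEp F ι hm hFc hF0]
      intro h
      have h' : ((d + 1 : ℕ) : WithBot ℕ∞) = ((d : ℕ) : WithBot ℕ∞) := by
        rw [← h]; push_cast; rfl
      have h'' : d + 1 = d := by exact_mod_cast h'
      omega
  · intro F ι hm hFc pF pE hpF hpE h0 hlt
    haveI := hm
    obtain ⟨pC, -, -, -, hdF, hdE', -, -⟩ := sub_package k hL d hFc hEc hdimE.le ι hpF hpE
    have hF0 : ¬ IsZero F := by
      intro hz
      rw [hilbPoly_unique k hpF (hilbPoly_zero k hL.1 hz)] at h0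
      simp [StabCat.alpha] at h0
    have hni : ¬ IsIso ι := by
      intro hi
      rw [hilbPoly_unique k (hilbPoly_of_iso k (asIso ι) hpF) hpE] at hlt
      exact lt_irrefl _ hlt
    exact hatSlope_le_of_redLE hd hdF hdE' h0 (h0.trans hlt)
      (hss F ι hm hFc hF0 hni pF pE hpF hpE)

end Groth.Agent.Helper5.ShStab5
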