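import Mathlib
import Groth.Agent.Helper5.ShStab5
import Groth.Agent.Helper5.ShStab12

/-!
# Saturation of a coherent submodule and the criteria for (semi)stability
-/

set_option autoImplicit false
set_option linter.style.haveILetI false

namespace Groth.Agent.Helper5.ShStab13

open CategoryTheory Limits AlgebraicGeometry Opposite Polynomial Filter
open Groth.Agent.Helper5.ShStab1 Groth.Agent.Helper5.ShStabPoly Groth.Agent.Helper5.ShStab3
open Groth.Agent.Helper5.ShStabPoly2 Groth.Agent.Helper5.ShStab2 Groth.Agent.Helper5.ShStab5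

universe u

variable (k : Type u) [Field k] {X : Scheme.{u}} [X.Over (Spec (CommRingCat.of k))]
  [IsProper (X ↘ Spec (CommRingCat.of k))]

/-- the saturation of a coherent submodule of a coherent module of dimension `≤ d` -/
theorem saturation {L : X.Modules} (hL : CohB1.IsAmple L) (d : ℕ) {F E : X.Modules}
    (hFc : Coh.IsCoh F) (hEc : Coh.IsCoh E)
    (hdE : topologicalKrullDim (CohB1.support E) ≤ (d : WithBot ℕ∞)) (ι : F ⟶ E) [Mono ι]
    {pF : ℚ[X]} (hpF : ShStab.IsHilbPoly k X L F pF) :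
    ∃ (F' : X.Modules) (ι' : F' ⟶ E) (g : F ⟶ F') (pF' : ℚ[X]), Mono ι' ∧ Coh.IsCoh F' ∧
      g ≫ ι' = ι ∧ ShStab.IsPure X (cokernel ι') d ∧ ShStab.IsHilbPoly k X L F' pF' ∧
      StabCat.alpha d pF' = StabCat.alpha d pF ∧
      ∀ᶠ m : ℕ in atTop, pF.eval (m : ℚ) ≤ pF'.eval (m : ℚ) := by
  haveI : CompactSpace X := hL.2.1
  haveI := isLocallyNoetherian_of_proper k (X := X)
  let P : ∀ F' : X.Modules, (F' ⟶ E) → Prop := fun F' ι' =>
    Mono ι' ∧ Coh.IsCoh F' ∧
      ∃ p' : ℚ[X], ShStab.IsHilbPoly k X L F' p' ∧ StabCat.alpha d p' = StabCat.alpha d pF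
  obtain ⟨F', ι', ⟨hm', hFc', pF', hpF', ha'⟩, ⟨g, hg⟩, hmax⟩ :=
    Groth.Agent.Helper5.ShStab12.exists_maximal_sub E hEc P (fun _ _ h => ⟨h.1, h.2.1⟩) F ι
      ⟨inferInstance, hFc, pF, hpF, rfl⟩
  haveI := hm'
  refine ⟨F', ι', g, pF', hm', hFc', hg, ?_, hpF', ha', ?_⟩
  · intro T τ hτ hTc hT0
    haveI := hτ
    have hCc : Coh.IsCoh (cokernel ι') := Groth.Agent.Lead.PerfLib.isCoh_cokernel hFc' hEc ι'
    have hdC : topologicalKrullDim (CohB1.support (cokernel ι')) ≤ (d : WithBot ℕ∞) :=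
      dim_support_le_of_epi X (cokernel.π ι') hdE
    have hdT : topologicalKrullDim (CohB1.support T) ≤ (d : WithBot ℕ∞) :=
      dim_support_le_of_mono X τ hdC
    by_contra hne
    have hlt : topologicalKrullDim (CohB1.support T) < (d : WithBot ℕ∞) := lt_of_le_of_ne hdT hne
    obtain ⟨pT, hpT, -⟩ := exists_hilbPoly k hL.1 T hTc d hdT
    have haT : StabCat.alpha d pT = 0 := alpha_eq_zero_of_dim_lt k hL.1 T hTc d hlt hpT
    obtain ⟨pE, hpE, -⟩ := exists_hilbPoly k hL.1 E hEc d hdE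
    have hpC := hilbPoly_sub k hL.1 (cokerSC ι') (cokerSC_shortExact ι') hFc' hEc hCc hpF' hpE
    have hDc : Coh.IsCoh (cokernel τ) := Groth.Agent.Lead.PerfLib.isCoh_cokernel hTc hCc τ
    have hpD := hilbPoly_sub k hL.1 (cokerSC τ) (cokerSC_shortExact τ) hTc hCc hDc hpT hpC
    let ψ : E ⟶ cokernel τ := cokernel.π ι' ≫ cokernel.π τ
    have hKc : Coh.IsCoh (kernel ψ) := isCoh_kernel k hEc hDc ψ
    have hSK : (ShortComplex.mk (kernel.ι ψ) ψ (kernel.condition ψ)).ShortExact :=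
      ShortComplex.ShortExact.mk' (ShortComplex.exact_of_f_is_kernel _ (kernelIsKernel ψ))
        (inferInstanceAs (Mono (kernel.ι ψ))) (inferInstanceAs (Epi ψ))
    have hpK := hilbPoly_sub' k hL.1 _ hSK hKc hEc hDc hpE hpD
    have hψ : ι' ≫ ψ = 0 := by
      simp only [ψ]
      rw [← Category.assoc, cokernel.condition, Limits.zero_comp]
    let l : F' ⟶ kernel ψ := kernel.lift ψ ι' hψ
    have hl : l ≫ kernel.ι ψ = ι' := kernel.lift_ι _ _ _
    have e : pE - (pE - pF' - pT) = pF' + pT := by ring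
    have hiso : IsIso l := hmax (kernel ψ) (kernel.ι ψ)
      ⟨inferInstance, hKc, _, hpK, by
        show StabCat.alpha d (pE - (pE - pF' - pT)) = StabCat.alpha d pF
        rw [e, alpha_add, haT, ha', add_zero]⟩ l hl
    have h1 : pE - (pE - pF' - pT) = pF' :=
      hilbPoly_unique k hpK (hilbPoly_of_iso k (asIso l) hpF')
    have hpT0 : pT = 0 := by
      rw [e] at h1
      exact add_eq_left.mp h1
    rw [hpT0] at hpT
    exact hT0 (isZero_of_hilbPoly_zero k hL T hTc hpT)
  · haveI : Mono g := by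
      haveI : Mono (g ≫ ι') := by rw [hg]; infer_instance
      exact mono_of_mono g ι'
    have hCc := Groth.Agent.Lead.PerfLib.isCoh_cokernel hFc hFc' g
    have h := hilbPoly_sub k hL.1 (cokerSC g) (cokerSC_shortExact g) hFc hFc' hCc hpF hpF'
    refine (hilbPoly_nonneg k hL _ hCc h).mono (fun m hm => ?_)
    rw [Polynomial.eval_sub] at hm
    linarith


theorem alpha_sub (d : ℕ) (P Q : ℚ[X]) :
    StabCat.alpha d (P - Q) = StabCat.alpha d P - StabCat.alpha d Q := by
  unfold StabCat.alpha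
  rw [Polynomial.coeff_sub]; ring

/-- the kernel of a proper nonzero quotient -/
theorem quot_package {L : X.Modules} (hL : CohB1.IsAmple L) {E G : X.Modules}
    (hEc : Coh.IsCoh E) (hGc : Coh.IsCoh G) (π : E ⟶ G) [Epi π] (hG0 : ¬ IsZero G)
    (hni : ¬ IsIso π) {pE pG : ℚ[X]} (hpE : ShStab.IsHilbPoly k X L E pE)
    (hpG : ShStab.IsHilbPoly k X L G pG) :
    Coh.IsCoh (kernel π) ∧ ¬ IsZero (kernel π) ∧ ¬ IsIso (kernel.ι π) ∧
      ShStab.IsHilbPoly k X L (kernel π) (pE - pG) := by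
  have hKc : Coh.IsCoh (kernel π) := isCoh_kernel k hEc hGc π
  refine ⟨hKc, ?_, ?_, ?_⟩
  · intro hz
    haveI := mono_of_isZero_kernel π hz
    exact hni (isIso_of_mono_of_epi π)
  · apply not_isIso_kernel_ι
    intro hπ0
    apply hG0
    rw [IsZero.iff_id_eq_zero]
    apply (cancel_epi π).mp
    rw [hπ0, Limits.zero_comp, Limits.zero_comp]
  · have hSK : (ShortComplex.mk (kernel.ι π) π (kernel.condition π)).ShortExact :=
      ShortComplex.ShortExact.mk' (ShortComplex.exact_of_f_is_kernel _ (kernelIsKernel π))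
        (inferInstanceAs (Mono (kernel.ι π))) (inferInstanceAs (Epi π))
    exact hilbPoly_sub' k hL.1 _ hSK hKc hEc hGc hpE hpG

/-- the cokernel of a proper nonzero submodule -/
theorem sub_package' {L : X.Modules} (hL : CohB1.IsAmple L) {F E : X.Modules}
    (hFc : Coh.IsCoh F) (hEc : Coh.IsCoh E) (ι : F ⟶ E) [Mono ι] (hF0 : ¬ IsZero F)
    (hni : ¬ IsIso ι) {pF pE : ℚ[X]} (hpF : ShStab.IsHilbPoly k X L F pF)
    (hpE : ShStab.IsHilbPoly k X L E pE) :
    Coh.IsCoh (cokernel ι) ∧ ¬ IsZero (cokernel ι) ∧ ¬ IsIso (cokernel.π ι) ∧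
      ShStab.IsHilbPoly k X L (cokernel ι) (pE - pF) := by
  have hCc : Coh.IsCoh (cokernel ι) := Groth.Agent.Lead.PerfLib.isCoh_cokernel hFc hEc ι
  refine ⟨hCc, ?_, ?_, ?_⟩
  · intro hz
    haveI : Epi ι := Preadditive.epi_of_cokernel_zero (hz.eq_of_tgt _ _)
    exact hni (isIso_of_mono_of_epi ι)
  · intro hiso
    apply hF0
    rw [IsZero.iff_id_eq_zero]
    apply (cancel_mono ι).mp
    apply (cancel_mono (cokernel.π ι)).mp
    rw [Category.assoc, cokernel.condition, Limits.comp_zero, Limits.zero_comp, Limits.zero_comp]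
  · exact hilbPoly_sub k hL.1 (cokerSC ι) (cokerSC_shortExact ι) hFc hEc hCc hpF hpE

theorem arithA {aE aG x y : ℚ} (h : aE * (x - y) ≤ (aE - aG) * x) : aG * x ≤ aE * y := by
  have h1 : aE * (x - y) = aE * x - aE * y := by ring
  have h2 : (aE - aG) * x = aE * x - aG * x := by ring
  rw [h1, h2] at h
  linarith

theorem arithA' {aE aG x y : ℚ} (h : aE * (x - y) < (aE - aG) * x) : aG * x < aE * y := by
  have h1 : aE * (x - y) = aE * x - aE * y := by ring
  have h2 : (aE - aG) * x = aE * x - aG * x := by ring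
  rw [h1, h2] at h
  linarith

theorem arithB {aE aF x y : ℚ} (h : (aE - aF) * x ≤ aE * (x - y)) : aE * y ≤ aF * x := by
  have h1 : aE * (x - y) = aE * x - aE * y := by ring
  have h2 : (aE - aF) * x = aE * x - aF * x := by ring
  rw [h1, h2] at h
  linarith

theorem arithB' {aE aF x y : ℚ} (h : (aE - aF) * x < aE * (x - y)) : aE * y < aF * x := by
  have h1 : aE * (x - y) = aE * x - aE * y := by ring
  have h2 : (aE - aF) * x = aE * x - aF * x := by ring
  rw [h1, h2] at h
  linarith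

/-- S15197 -/
theorem s15197 (L : X.Modules) (hL : CohB1.IsAmple L) (d : ℕ) (E : X.Modules)
    (hE : Coh.IsCoh E) (h0 : ¬ IsZero E) (hp : ShStab.IsPure X E d) :
    [ShStab.IsSemistable k X L E d,
      ∀ (F : X.Modules) (ι : F ⟶ E), Mono ι → Coh.IsCoh F → ¬ IsZero F → ¬ IsIso ι →
        ShStab.IsPure X (cokernel ι) d →
        ∀ (pF pE : ℚ[X]), ShStab.IsHilbPoly k X L F pF → ShStab.IsHilbPoly k X L E pE →
          StabCat.RedLE d pF pE,
      ∀ (G : X.Modules) (π : E ⟶ G), Epi π → Coh.IsCoh G → ¬ IsIso π →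
        ∀ (pE pG : ℚ[X]), ShStab.IsHilbPoly k X L E pE → ShStab.IsHilbPoly k X L G pG →
          0 < StabCat.alpha d pG → StabCat.RedLE d pE pG,
      ∀ (G : X.Modules) (π : E ⟶ G), Epi π → Coh.IsCoh G → ¬ IsZero G → ¬ IsIso π →
        ShStab.IsPure X G d →
        ∀ (pE pG : ℚ[X]), ShStab.IsHilbPoly k X L E pE → ShStab.IsHilbPoly k X L G pG →
          StabCat.RedLE d pE pG].TFAE := by
  have hdimE := hp E (𝟙 E) inferInstance hE h0
  tfae_have 1 → 3 := by
    rintro ⟨-, -, -, hss⟩ G π hπ hGc hni pE pG hpE hpG haG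
    haveI := hπ
    have hG0 : ¬ IsZero G := by
      intro hz
      rw [hilbPoly_unique k hpG (hilbPoly_zero k hL.1 hz)] at haG
      simp [StabCat.alpha] at haG
    obtain ⟨hKc, hK0, hKni, hpK⟩ := quot_package k hL hE hGc π hG0 hni hpE hpG
    have h := hss (kernel π) (kernel.ι π) inferInstance hKc hK0 hKni _ _ hpK hpE
    rw [redLE_iff] at h ⊢
    filter_upwards [h] with m hm
    rw [alpha_sub, Polynomial.eval_sub] at hm
    exact arithA hm
  tfae_have 3 → 4 := by
    intro h3 G π hπ hGc hG0 hni hpG pE pG hpE hpG'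
    exact h3 G π hπ hGc hni pE pG hpE hpG'
      (alpha_pos k hL G hGc d (hpG G (𝟙 G) inferInstance hGc hG0) hpG')
  tfae_have 4 → 2 := by
    intro h4 F ι hι hFc hF0 hni hpC pF pE hpF hpE
    haveI := hι
    obtain ⟨hCc, hC0, hCni, hpC'⟩ := sub_package' k hL hFc hE ι hF0 hni hpF hpE
    have h := h4 (cokernel ι) (cokernel.π ι) inferInstance hCc hC0 hCni hpC _ _ hpE hpC'
    rw [redLE_iff] at h ⊢
    filter_upwards [h] with m hm
    rw [alpha_sub, Polynomial.eval_sub] at hm
    exact arithB hm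
  tfae_have 2 → 1 := by
    intro h2
    refine ⟨hE, h0, hp, ?_⟩
    intro F ι hι hFc hF0 hni pF pE hpF hpE
    haveI := hι
    obtain ⟨F', ι', g, pF', hm', hFc', hg, hpure, hpF', ha', hle⟩ :=
      saturation k hL d hFc hE hdimE.le ι hpF
    haveI := hm'
    have haE : 0 < StabCat.alpha d pE := alpha_pos k hL E hE d hdimE hpE
    have hF'0 : ¬ IsZero F' := by
      intro hz
      apply hF0
      rw [IsZero.iff_id_eq_zero]
      apply (cancel_mono ι).mp
      rw [← hg, ← Category.assoc, hz.eq_of_tgt (𝟙 F ≫ g) 0, Limits.zero_comp, Limits.zero_comp]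
    rw [redLE_iff]
    by_cases hi : IsIso ι'
    · have : pF' = pE := hilbPoly_unique k (hilbPoly_of_iso k (asIso ι') hpF') hpE
      subst this
      rw [← ha']
      filter_upwards [hle] with m hm
      exact mul_le_mul_of_nonneg_left hm haE.le
    · have h := h2 F' ι' hm' hFc' hF'0 hi hpure pF' pE hpF' hpE
      rw [redLE_iff, ha'] at h
      filter_upwards [h, hle] with m hm1 hm2
      exact (mul_le_mul_of_nonneg_left hm2 haE.le).trans hm1
  tfae_finish

/-- S15198 -/
theorem s15198 (L : X.Modules) (hL : CohB1.IsAmple L) (d : ℕ) (E : X.Modules)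
    (hE : Coh.IsCoh E) (h0 : ¬ IsZero E) (hp : ShStab.IsPure X E d) :
    [ShStab.IsStable k X L E d,
      ∀ (F : X.Modules) (ι : F ⟶ E), Mono ι → Coh.IsCoh F → ¬ IsZero F → ¬ IsIso ι →
        ShStab.IsPure X (cokernel ι) d →
        ∀ (pF pE : ℚ[X]), ShStab.IsHilbPoly k X L F pF → ShStab.IsHilbPoly k X L E pE →
          StabCat.RedLT d pF pE,
      ∀ (G : X.Modules) (π : E ⟶ G), Epi π → Coh.IsCoh G → ¬ IsIso π →
        ∀ (pE pG : ℚ[X]), ShStab.IsHilbPoly k X L E pE → ShStab.IsHilbPoly k X L G pG →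
          0 < StabCat.alpha d pG → StabCat.RedLT d pE pG,
      ∀ (G : X.Modules) (π : E ⟶ G), Epi π → Coh.IsCoh G → ¬ IsZero G → ¬ IsIso π →
        ShStab.IsPure X G d →
        ∀ (pE pG : ℚ[X]), ShStab.IsHilbPoly k X L E pE → ShStab.IsHilbPoly k X L G pG →
          StabCat.RedLT d pE pG].TFAE := by
  have hdimE := hp E (𝟙 E) inferInstance hE h0
  tfae_have 1 → 3 := by
    rintro ⟨-, -, -, hss⟩ G π hπ hGc hni pE pG hpE hpG haG
    haveI := hπ
    have hG0 : ¬ IsZero G := by
      intro hz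
      rw [hilbPoly_unique k hpG (hilbPoly_zero k hL.1 hz)] at haG
      simp [StabCat.alpha] at haG
    obtain ⟨hKc, hK0, hKni, hpK⟩ := quot_package k hL hE hGc π hG0 hni hpE hpG
    have h := hss (kernel π) (kernel.ι π) inferInstance hKc hK0 hKni _ _ hpK hpE
    rw [redLT_iff] at h ⊢
    filter_upwards [h] with m hm
    rw [alpha_sub, Polynomial.eval_sub] at hm
    exact arithA' hm
  tfae_have 3 → 4 := by
    intro h3 G π hπ hGc hG0 hni hpG pE pG hpE hpG'
    exact h3 G π hπ hGc hni pE pG hpE hpG'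
      (alpha_pos k hL G hGc d (hpG G (𝟙 G) inferInstance hGc hG0) hpG')
  tfae_have 4 → 2 := by
    intro h4 F ι hι hFc hF0 hni hpC pF pE hpF hpE
    haveI := hι
    obtain ⟨hCc, hC0, hCni, hpC'⟩ := sub_package' k hL hFc hE ι hF0 hni hpF hpE
    have h := h4 (cokernel ι) (cokernel.π ι) inferInstance hCc hC0 hCni hpC _ _ hpE hpC'
    rw [redLT_iff] at h ⊢
    filter_upwards [h] with m hm
    rw [alpha_sub, Polynomial.eval_sub] at hm
    exact arithB' hm
  tfae_have 2 → 1 := by
    intro h2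
    refine ⟨hE, h0, hp, ?_⟩
    intro F ι hι hFc hF0 hni pF pE hpF hpE
    haveI := hι
    obtain ⟨F', ι', g, pF', hm', hFc', hg, hpure, hpF', ha', hle⟩ :=
      saturation k hL d hFc hE hdimE.le ι hpF
    haveI := hm'
    have haE : 0 < StabCat.alpha d pE := alpha_pos k hL E hE d hdimE hpE
    have hF'0 : ¬ IsZero F' := by
      intro hz
      apply hF0
      rw [IsZero.iff_id_eq_zero]
      apply (cancel_mono ι).mp
      rw [← hg, ← Category.assoc, hz.eq_of_tgt (𝟙 F ≫ g) 0, Limits.zero_comp, Limits.zero_comp]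
    rw [redLT_iff]
    by_cases hi : IsIso ι'
    · have : pF' = pE := hilbPoly_unique k (hilbPoly_of_iso k (asIso ι') hpF') hpE
      subst this
      rw [← ha']
      obtain ⟨-, -, -, hpC⟩ := sub_package' k hL hFc hE ι hF0 hni hpF hpE
      have hCc : Coh.IsCoh (cokernel ι) := Groth.Agent.Lead.PerfLib.isCoh_cokernel hFc hE ι
      have hC0 : ¬ IsZero (cokernel ι) := by
        intro hz
        haveI : Epi ι := Preadditive.epi_of_cokernel_zero (hz.eq_of_tgt _ _)
        exact hni (isIso_of_mono_of_epi ι)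
      filter_upwards [hilbPoly_pos k hL _ hCc hC0 hpC] with m hm
      rw [Polynomial.eval_sub] at hm
      exact mul_lt_mul_of_pos_left (by linarith) haE
    · have h := h2 F' ι' hm' hFc' hF'0 hi hpure pF' pE hpF' hpE
      rw [redLT_iff, ha'] at h
      filter_upwards [h, hle] with m hm1 hm2
      exact (mul_le_mul_of_nonneg_left hm2 haE.le).trans_lt hm1
  tfae_finish

end Groth.Agent.Helper5.ShStab13
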