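import Mathlib
import Groth.Agent.Helper5.ShStab5

/-!
# Semistable sheaves with a fixed reduced Hilbert polynomial form an abelian subcategory
-/

set_option autoImplicit false
set_option linter.style.haveILetI false

namespace Groth.Agent.Helper5.ShStab11

open CategoryTheory Limits AlgebraicGeometry Opposite Polynomial Filter
open Groth.Agent.Helper5.ShStab1 Groth.Agent.Helper5.ShStabPoly Groth.Agent.Helper5.ShStab3
open Groth.Agent.Helper5.ShStabPoly2 Groth.Agent.Helper5.ShStab2 Groth.Agent.Helper5.ShStab5

universe u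

section Poly

theorem cross_le {aE aK aK' x y z : ℚ} (h : aE * x ≤ aK' * y) (e : aE * z = aK * y)
    (haK : 0 ≤ aK) (haE : 0 < aE) : aK * x ≤ aK' * z := by
  have h1 := mul_le_mul_of_nonneg_left h haK
  have h2 : aE * (aK * x) ≤ aE * (aK' * z) := by
    calc aE * (aK * x) = aK * (aE * x) := by ring
      _ ≤ aK * (aK' * y) := h1
      _ = aK' * (aK * y) := by ring
      _ = aK' * (aE * z) := by rw [e]
      _ = aE * (aK' * z) := by ring
  exact le_of_mul_le_mul_left h2 haE

theorem redEq_symm {d : ℕ} {P Q : ℚ[X]} (h : StabCat.RedEq d P Q) : StabCat.RedEq d Q P :=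
  Eq.symm h

theorem redEq_refl (d : ℕ) (P : ℚ[X]) : StabCat.RedEq d P P := rfl

/-- if `P` and `E` both have the reduced polynomial of `F` (with positive multiplicity), they have
the same reduced polynomial -/
theorem redEq_trans_right {d : ℕ} {P E F : ℚ[X]} (h1 : StabCat.RedEq d P F)
    (h2 : StabCat.RedEq d E F) (haF : 0 < StabCat.alpha d F) : StabCat.RedEq d P E := by
  unfold StabCat.RedEq
  apply Polynomial.funext
  intro x
  have e1 := redEq_eval h1 x
  have e2 := redEq_eval h2 x
  simp only [Polynomial.eval_smul, smul_eq_mul]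
  exact mul_left_cancel₀ haF.ne' (by linear_combination StabCat.alpha d E * e1 - StabCat.alpha d P * e2)

/-- the averaging argument: if `pE = pK + pI`, both summands have reduced polynomial at most that
of `pE`, then both have the reduced polynomial of `pE` -/
theorem redEq_of_sum {d : ℕ} {pK pI : ℚ[X]} (h1 : StabCat.RedLE d pK (pK + pI))
    (h2 : StabCat.RedLE d pI (pK + pI)) :
    StabCat.RedEq d pK (pK + pI) ∧ StabCat.RedEq d pI (pK + pI) := by
  rw [redLE_iff] at h1 h2
  unfold StabCat.RedEq
  constructor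
  · apply eq_of_eventually_eval_nat
    filter_upwards [h1, h2] with m hm1 hm2
    simp only [Polynomial.eval_smul, smul_eq_mul]
    rw [alpha_add, Polynomial.eval_add] at hm1 hm2 ⊢
    linarith
  · apply eq_of_eventually_eval_nat
    filter_upwards [h1, h2] with m hm1 hm2
    simp only [Polynomial.eval_smul, smul_eq_mul]
    rw [alpha_add, Polynomial.eval_add] at hm1 hm2 ⊢
    linarith

end Poly

variable (k : Type u) [Field k] {X : Scheme.{u}} [X.Over (Spec (CommRingCat.of k))]
  [IsProper (X ↘ Spec (CommRingCat.of k))]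

omit [IsProper (X ↘ Spec (CommRingCat.of k))] in
/-- semistability is invariant under isomorphism -/
theorem isSemistable_of_iso {L E E' : X.Modules} (e : E ≅ E') {d : ℕ}
    (h : ShStab.IsSemistable k X L E d) : ShStab.IsSemistable k X L E' d := by
  obtain ⟨hc, h0, hp, hss⟩ := h
  refine ⟨Groth.Agent.Lead.PerfLib.isCoh_of_iso e hc, fun hz => h0 (hz.of_iso e), ?_, ?_⟩
  · intro T τ hm hTc hT0
    haveI := hm
    exact hp T (τ ≫ e.inv) inferInstance hTc hT0
  · intro T τ hm hTc hT0 hni pT pE' hpT hpE'
    haveI := hm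
    refine hss T (τ ≫ e.inv) inferInstance hTc hT0 ?_ pT pE' hpT (hilbPoly_of_iso k e.symm hpE')
    intro hi
    apply hni
    have : τ = (τ ≫ e.inv) ≫ e.hom := by simp
    rw [this]
    infer_instance

/-- a nonzero coherent submodule of a semistable module with the same reduced Hilbert polynomial
is semistable -/
theorem isSemistable_sub {L : X.Modules} (hL : CohB1.IsAmple L) {d : ℕ} {E K : X.Modules}
    (hE : ShStab.IsSemistable k X L E d) (ι : K ⟶ E) [Mono ι] (hKc : Coh.IsCoh K)
    (hK0 : ¬ IsZero K) {pK pE : ℚ[X]} (hpK : ShStab.IsHilbPoly k X L K pK)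
    (hpE : ShStab.IsHilbPoly k X L E pE) (hred : StabCat.RedEq d pK pE) :
    ShStab.IsSemistable k X L K d := by
  obtain ⟨hEc, hE0, hEp, hEss⟩ := hE
  have hEdim := hEp E (𝟙 E) inferInstance hEc hE0
  have haE : 0 < StabCat.alpha d pE := alpha_pos k hL E hEc d hEdim hpE
  have hKdim := hEp K ι inferInstance hKc hK0
  have haK : 0 < StabCat.alpha d pK := alpha_pos k hL K hKc d hKdim hpK
  refine ⟨hKc, hK0, ?_, ?_⟩
  · intro T τ hm hTc hT0
    haveI := hm
    exact hEp T (τ ≫ ι) inferInstance hTc hT0
  · intro K' ι' hm hK'c hK'0 hni pK' pK2 hpK' hpK2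
    haveI := hm
    have : pK2 = pK := hilbPoly_unique k hpK2 hpK
    subst this
    have hni' : ¬ IsIso (ι' ≫ ι) := by
      intro hi
      apply hni
      haveI : Epi ι := epi_of_epi ι' ι
      haveI : IsIso ι := isIso_of_mono_of_epi ι
      have : ι' = (ι' ≫ ι) ≫ inv ι := by simp
      rw [this]
      infer_instance
    have h := hEss K' (ι' ≫ ι) inferInstance hK'c hK'0 hni' pK' pE hpK' hpE
    rw [redLE_iff] at h ⊢
    filter_upwards [h] with m hm'
    have e := redEq_eval hred (m : ℚ)
    exact cross_le hm' e haK.le haE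

/-- the quotient of a semistable module by a nonzero coherent submodule with the same reduced
Hilbert polynomial is semistable with the same reduced Hilbert polynomial (if it is nonzero) -/
theorem isSemistable_quot {L : X.Modules} (hL : CohB1.IsAmple L) {d : ℕ} {F I : X.Modules}
    (hF : ShStab.IsSemistable k X L F d) (j : I ⟶ F) [Mono j] (hIc : Coh.IsCoh I)
    (hI0 : ¬ IsZero I) {pI pF : ℚ[X]} (hpI : ShStab.IsHilbPoly k X L I pI)
    (hpF : ShStab.IsHilbPoly k X L F pF) (hred : StabCat.RedEq d pI pF)
    (hC0 : ¬ IsZero (cokernel j)) :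
    ShStab.IsSemistable k X L (cokernel j) d ∧
      ∀ pC : ℚ[X], ShStab.IsHilbPoly k X L (cokernel j) pC → StabCat.RedEq d pC pF := by
  obtain ⟨hFc, hF0, hFp, hFss⟩ := hF
  have hFdim := hFp F (𝟙 F) inferInstance hFc hF0
  have haF : 0 < StabCat.alpha d pF := alpha_pos k hL F hFc d hFdim hpF
  have hCc := Groth.Agent.Lead.PerfLib.isCoh_cokernel hIc hFc j
  have hpC := hilbPoly_sub k hL.1 (cokerSC j) (cokerSC_shortExact j) hIc hFc hCc hpI hpF
  have hIpos := hilbPoly_pos k hL I hIc hI0 hpI
  have hCdimle : topologicalKrullDim (CohB1.support (cokernel j)) ≤ (d : WithBot ℕ∞) :=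
    dim_support_le_of_epi X (cokernel.π j) hFdim.le
  -- the reduced polynomial of the quotient
  have hR : StabCat.RedEq d (pF - pI) pF := by
    unfold StabCat.RedEq at hred ⊢
    apply Polynomial.funext
    intro x
    have e := congrArg (Polynomial.eval x) hred
    simp only [Polynomial.eval_smul, smul_eq_mul, Polynomial.eval_sub] at e ⊢
    have ha : StabCat.alpha d (pF - pI) = StabCat.alpha d pF - StabCat.alpha d pI := by
      unfold StabCat.alpha; rw [Polynomial.coeff_sub]; ring
    rw [ha]
    linear_combination (-1 : ℚ) * e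
  have haC : 0 ≤ StabCat.alpha d (pF - pI) := alpha_nonneg_of_hilbPoly k hL _ hCc d hCdimle hpC
  -- the key inequality for submodules of the quotient
  have key : ∀ (T : X.Modules) (τ : T ⟶ cokernel j), Mono τ → Coh.IsCoh T → ¬ IsIso τ →
      ∀ pT : ℚ[X], ShStab.IsHilbPoly k X L T pT →
        ∀ᶠ m : ℕ in atTop, StabCat.alpha d pF * pT.eval (m : ℚ) ≤
          StabCat.alpha d pT * pF.eval (m : ℚ) := by
    intro T τ hm hTc hni pT hpT
    haveI := hm
    have hCTc := Groth.Agent.Lead.PerfLib.isCoh_cokernel hTc hCc τ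
    have hpCT := hilbPoly_sub k hL.1 (cokerSC τ) (cokerSC_shortExact τ) hTc hCc hCTc hpT hpC
    set q : F ⟶ cokernel τ := cokernel.π j ≫ cokernel.π τ with hq
    haveI : Epi q := by rw [hq]; infer_instance
    have hIT := isCoh_kernel k hFc hCTc q
    have hSE : (ShortComplex.mk (kernel.ι q) q (kernel.condition q)).ShortExact :=
      ShortComplex.ShortExact.mk' (ShortComplex.exact_of_f_is_kernel _ (kernelIsKernel q))
        (inferInstanceAs (Mono (kernel.ι q))) (inferInstanceAs (Epi q))
    have hpIT := hilbPoly_sub' k hL.1 _ hSE hIT hFc hCTc hpF hpCT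
    have hTnn := hilbPoly_nonneg k hL T hTc hpT
    have hIT0 : ¬ IsZero (kernel q) := by
      intro hz
      have h0 := hilbPoly_unique k hpIT (hilbPoly_zero k hL.1 hz)
      obtain ⟨m, hm1, hm2⟩ := (hIpos.and hTnn).exists
      have := congrArg (Polynomial.eval (m : ℚ)) h0
      simp only [Polynomial.eval_sub, Polynomial.eval_zero] at this
      linarith
    have hITni : ¬ IsIso (kernel.ι q) := by
      intro hi
      apply hni
      have hq0 : q = 0 := by
        rw [← cancel_epi (kernel.ι q), kernel.condition, Limits.comp_zero]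
      have hz : IsZero (cokernel τ) := by
        rw [IsZero.iff_id_eq_zero, ← cancel_epi q, hq0]
        simp
      haveI : Epi τ := Preadditive.epi_of_cokernel_zero (hz.eq_of_tgt _ _)
      exact isIso_of_mono_of_epi τ
    have h := hFss _ (kernel.ι q) inferInstance hIT hIT0 hITni _ pF hpIT hpF
    rw [redLE_iff] at h
    filter_upwards [h] with m hm'
    have e := redEq_eval hred (m : ℚ)
    have ha : StabCat.alpha d (pF - (pF - pI - pT)) = StabCat.alpha d pI + StabCat.alpha d pT := by
      unfold StabCat.alpha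
      simp only [Polynomial.coeff_sub]
      ring
    rw [ha] at hm'
    simp only [Polynomial.eval_sub] at hm'
    linarith
  have hpure : ShStab.IsPure X (cokernel j) d := by
    intro T τ hm hTc hT0
    haveI := hm
    have hle : topologicalKrullDim (CohB1.support T) ≤ (d : WithBot ℕ∞) :=
      dim_support_le_of_mono X τ hCdimle
    by_contra hne
    have hlt := lt_of_le_of_ne hle hne
    obtain ⟨pT, hpT, -⟩ := exists_hilbPoly k hL.1 T hTc d hle
    have haT := alpha_eq_zero_of_dim_lt k hL.1 T hTc d hlt hpT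
    have hTpos := hilbPoly_pos k hL T hTc hT0 hpT
    by_cases hi : IsIso τ
    · have hpC' : pF - pI = pT := hilbPoly_unique k hpC (hilbPoly_of_iso k (asIso τ) hpT)
      rw [hpC'] at hR
      unfold StabCat.RedEq at hR
      rw [haT, zero_smul] at hR
      have hpT0 : pT = 0 := by
        rcases smul_eq_zero.mp hR with h | h
        · exact absurd h haF.ne'
        · exact h
      obtain ⟨m, hm'⟩ := hTpos.exists
      rw [hpT0] at hm'
      simp at hm'
    · have h := key T τ hm hTc hi pT hpT
      obtain ⟨m, hm1, hm2⟩ := (h.and hTpos).exists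
      rw [haT, zero_mul] at hm1
      nlinarith [mul_pos haF hm2]
  refine ⟨⟨hCc, hC0, hpure, ?_⟩, ?_⟩
  · intro C' τ hm hC'c hC'0 hni pC' pC2 hpC' hpC2
    have : pC2 = pF - pI := hilbPoly_unique k hpC2 hpC
    subst this
    have h := key C' τ hm hC'c hni pC' hpC'
    rw [redLE_iff]
    filter_upwards [h] with m hm'
    have e := redEq_eval hR (m : ℚ)
    exact cross_le hm' e haC haF
  · intro pC2 hpC2
    rw [hilbPoly_unique k hpC2 hpC]
    exact hR

/-- S15272, over any field -/
theorem s15272 (L : X.Modules) (hL : CohB1.IsAmple L) (d : ℕ)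
    (E F : X.Modules) (hE : ShStab.IsSemistable k X L E d) (hF : ShStab.IsSemistable k X L F d)
    (pE pF : ℚ[X]) (hpE : ShStab.IsHilbPoly k X L E pE) (hpF : ShStab.IsHilbPoly k X L F pF)
    (hred : StabCat.RedEq d pE pF) (f : E ⟶ F) :
    (IsZero (kernel f) ∨ (ShStab.IsSemistable k X L (kernel f) d ∧
        ∀ pK : ℚ[X], ShStab.IsHilbPoly k X L (kernel f) pK → StabCat.RedEq d pK pE)) ∧
    (IsZero (cokernel f) ∨ (ShStab.IsSemistable k X L (cokernel f) d ∧
        ∀ pQ : ℚ[X], ShStab.IsHilbPoly k X L (cokernel f) pQ → StabCat.RedEq d pQ pE)) := by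
  have hEc := hE.1
  have hFc := hF.1
  have hFdim := hF.2.2.1 F (𝟙 F) inferInstance hFc hF.2.1
  have hEdim := hE.2.2.1 E (𝟙 E) inferInstance hEc hE.2.1
  have haF : 0 < StabCat.alpha d pF := alpha_pos k hL F hFc d hFdim hpF
  have haE : 0 < StabCat.alpha d pE := alpha_pos k hL E hEc d hEdim hpE
  by_cases hf : f = 0
  · subst hf
    constructor
    · right
      refine ⟨isSemistable_of_iso k (asIso (kernel.ι (0 : E ⟶ F))).symm hE, fun pK hpK => ?_⟩
      rw [hilbPoly_unique k (hilbPoly_of_iso k (asIso (kernel.ι (0 : E ⟶ F))) hpK) hpE]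
      exact redEq_refl d pE
    · right
      refine ⟨isSemistable_of_iso k (asIso (cokernel.π (0 : E ⟶ F))) hF, fun pQ hpQ => ?_⟩
      rw [hilbPoly_unique k (hilbPoly_of_iso k (asIso (cokernel.π (0 : E ⟶ F))).symm hpQ) hpF]
      exact redEq_symm hred
  · obtain ⟨pK, pI, hpK, hpI, hadd, -, -, -, -⟩ :=
      package k hL d hEc hFc hE.2.2.1 hF.2.2.1 f hf
    have hsum : pE = pK + pI := hilbPoly_unique k hpE hadd
    subst hsum
    have hKc := isCoh_kernel k hEc hFc f
    have hIc := isCoh_coimage k hEc hFc f
    have hI0 := not_isZero_coimage f hf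
    have h1 := redLE_kernel k hL d hEc hFc f hf hE.2.2.2 hpK hadd
    have h2 := redLE_coimage k d hEc hFc f hf hF.2.2.2 hpI hpF
    -- transfer the second inequality to `pE`
    have h2' : StabCat.RedLE d pI (pK + pI) := by
      rw [redLE_iff] at h2 ⊢
      filter_upwards [h2] with m hm'
      have e := redEq_eval hred (m : ℚ)
      exact cross_le hm' e haE.le haF
    obtain ⟨e1, e2⟩ := redEq_of_sum h1 h2'
    have e3 : StabCat.RedEq d pI pF := by
      unfold StabCat.RedEq
      apply Polynomial.funext
      intro x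
      have a1 := redEq_eval e2 x
      have a2 := redEq_eval hred x
      simp only [Polynomial.eval_smul, smul_eq_mul]
      exact mul_left_cancel₀ haE.ne' (by linear_combination StabCat.alpha d pF * a1 + StabCat.alpha d pI * a2)
    constructor
    · by_cases hK0 : IsZero (kernel f)
      · exact Or.inl hK0
      · right
        refine ⟨isSemistable_sub k hL hE (kernel.ι f) hKc hK0 hpK hadd e1, fun pK' hpK' => ?_⟩
        rw [hilbPoly_unique k hpK' hpK]
        exact e1
    · by_cases hC0 : IsZero (cokernel f)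
      · exact Or.inl hC0
      · right
        let e : cokernel f ≅ cokernel (Abelian.factorThruCoimage f) :=
          cokernelIsoOfEq (Abelian.coimage.fac f).symm ≪≫
            cokernelEpiComp (Abelian.coimage.π f) (Abelian.factorThruCoimage f)
        have hC0' : ¬ IsZero (cokernel (Abelian.factorThruCoimage f)) :=
          fun hz => hC0 (hz.of_iso e)
        obtain ⟨hss, hall⟩ := isSemistable_quot k hL hF (Abelian.factorThruCoimage f) hIc hI0
          hpI hpF e3 hC0'
        refine ⟨isSemistable_of_iso k e.symm hss, fun pQ hpQ => ?_⟩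
        exact redEq_trans_right (hall pQ (hilbPoly_of_iso k e hpQ)) hred haF

end Groth.Agent.Helper5.ShStab11
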