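import Mathlib

/-!
# Lifting a subobject of a quotient: the next term of a filtration
-/

set_option autoImplicit false
set_option linter.style.haveILetI false

namespace Groth.Agent.Helper5.ShStab14

open CategoryTheory Limits

universe v u

variable {C : Type u} [Category.{v} C] [Abelian C]

section general

variable {A E T : C} (a : A ⟶ E) [Mono a] (τ : T ⟶ cokernel a) [Mono τ]

/-- the composite `E ⟶ E/A ⟶ (E/A)/T` -/
noncomputable def psi : E ⟶ cokernel τ := cokernel.π a ≫ cokernel.π τ

instance : Epi (psi a τ) := by unfold psi; infer_instance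

theorem a_psi : a ≫ psi a τ = 0 := by
  unfold psi
  rw [← Category.assoc, cokernel.condition, Limits.zero_comp]

/-- `A ⟶ B`, where `B` is the preimage of `T` -/
noncomputable def liftA : A ⟶ kernel (psi a τ) := kernel.lift _ a (a_psi a τ)

@[reassoc]
theorem liftA_ι : liftA a τ ≫ kernel.ι (psi a τ) = a := kernel.lift_ι _ _ _

instance : Mono (liftA a τ) := mono_of_mono_fac (liftA_ι a τ)

/-- `B ⟶ T` -/
noncomputable def toT : kernel (psi a τ) ⟶ T :=
  Abelian.monoLift τ (kernel.ι (psi a τ) ≫ cokernel.π a) (by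
    rw [Category.assoc]; exact kernel.condition (psi a τ))

@[reassoc]
theorem toT_τ : toT a τ ≫ τ = kernel.ι (psi a τ) ≫ cokernel.π a := Abelian.monoLift_comp _ _ _

theorem liftA_toT : liftA a τ ≫ toT a τ = 0 := by
  apply (cancel_mono τ).mp
  rw [Category.assoc, toT_τ, liftA_ι_assoc, cokernel.condition, Limits.zero_comp]

instance : Epi (toT a τ) := by
  rw [epi_iff_surjective_up_to_refinements]
  intro W x
  obtain ⟨W', p, hp, u, hu⟩ := surjective_up_to_refinements_of_epi (cokernel.π a) (x ≫ τ)
  have hu0 : u ≫ psi a τ = 0 := by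
    unfold psi
    rw [← Category.assoc, ← hu, Category.assoc, Category.assoc, cokernel.condition,
      Limits.comp_zero, Limits.comp_zero]
  refine ⟨W', p, hp, kernel.lift _ u hu0, ?_⟩
  apply (cancel_mono τ).mp
  rw [Category.assoc, Category.assoc, toT_τ, kernel.lift_ι_assoc, hu]

/-- `A ⟶ B` is the kernel of `B ⟶ T` -/
noncomputable def isLimitLiftA : IsLimit (KernelFork.ofι (liftA a τ) (liftA_toT a τ)) :=
  KernelFork.IsLimit.ofι _ _
    (fun {W} x hx => Abelian.monoLift a (x ≫ kernel.ι (psi a τ)) (by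
      rw [Category.assoc, ← toT_τ, ← Category.assoc, hx, Limits.zero_comp]))
    (fun {W} x hx => by
      apply (cancel_mono (kernel.ι (psi a τ))).mp
      rw [Category.assoc, liftA_ι, Abelian.monoLift_comp])
    (fun {W} x hx m hm => by
      apply (cancel_mono (liftA a τ)).mp
      rw [hm]
      apply (cancel_mono (kernel.ι (psi a τ))).mp
      rw [Category.assoc, liftA_ι, Abelian.monoLift_comp])

/-- `B ⟶ T` is the cokernel of `A ⟶ B` -/
noncomputable def isColimitToT : IsColimit (CokernelCofork.ofπ (toT a τ) (liftA_toT a τ)) :=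
  Abelian.epiIsCokernelOfKernel _ (isLimitLiftA a τ)

/-- `B/A ≅ T` -/
noncomputable def cokerLiftIso : cokernel (liftA a τ) ≅ T :=
  (cokernelIsCokernel (liftA a τ)).coconePointUniqueUpToIso (isColimitToT a τ)

@[reassoc]
theorem π_cokerLiftIso_hom : cokernel.π (liftA a τ) ≫ (cokerLiftIso a τ).hom = toT a τ :=
  (cokernelIsCokernel (liftA a τ)).comp_coconePointUniqueUpToIso_hom (isColimitToT a τ)
    WalkingParallelPair.one

/-- `E/B ≅ (E/A)/T` -/
noncomputable def cokerKerIso : cokernel (kernel.ι (psi a τ)) ≅ cokernel τ :=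
  (cokernelIsCokernel (kernel.ι (psi a τ))).coconePointUniqueUpToIso
    (Abelian.epiIsCokernelOfKernel (KernelFork.ofι (kernel.ι (psi a τ)) (kernel.condition _))
      (kernelIsKernel (psi a τ)))

@[reassoc]
theorem π_cokerKerIso_hom :
    cokernel.π (kernel.ι (psi a τ)) ≫ (cokerKerIso a τ).hom = psi a τ :=
  (cokernelIsCokernel (kernel.ι (psi a τ))).comp_coconePointUniqueUpToIso_hom
    (Abelian.epiIsCokernelOfKernel (KernelFork.ofι (kernel.ι (psi a τ)) (kernel.condition _))
      (kernelIsKernel (psi a τ))) WalkingParallelPair.one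

end general

section subobject

variable {E : C} (A : Subobject E) {T : C} (τ : T ⟶ cokernel A.arrow) [Mono τ]

/-- the preimage in `E` of a subobject `T` of `E/A` -/
noncomputable def nextSub : Subobject E := Subobject.mk (kernel.ι (psi A.arrow τ))

theorem le_nextSub : A ≤ nextSub A τ :=
  Subobject.le_mk_of_comm (liftA A.arrow τ) (liftA_ι A.arrow τ)

/-- the underlying object of the preimage -/
noncomputable def nextSubIso : (nextSub A τ : C) ≅ kernel (psi A.arrow τ) :=
  Subobject.underlyingIso _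

omit [Mono τ] in
@[reassoc]
theorem nextSubIso_hom_ι :
    (nextSubIso A τ).hom ≫ kernel.ι (psi A.arrow τ) = (nextSub A τ).arrow :=
  Subobject.underlyingIso_hom_comp_eq_mk _

theorem ofLE_nextSubIso :
    Subobject.ofLE A (nextSub A τ) (le_nextSub A τ) ≫ (nextSubIso A τ).hom = liftA A.arrow τ := by
  apply (cancel_mono (kernel.ι (psi A.arrow τ))).mp
  rw [Category.assoc, nextSubIso_hom_ι, Subobject.ofLE_arrow, liftA_ι]

/-- the factor `B/A` is `T` -/
noncomputable def factorIso :
    cokernel (Subobject.ofLE A (nextSub A τ) (le_nextSub A τ)) ≅ T :=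
  cokernel.mapIso _ (liftA A.arrow τ) (Iso.refl _) (nextSubIso A τ)
    (by rw [ofLE_nextSubIso]; simp) ≪≫ cokerLiftIso A.arrow τ

/-- the quotient `E/B` is `(E/A)/T` -/
noncomputable def quotIso : cokernel (nextSub A τ).arrow ≅ cokernel τ :=
  cokernel.mapIso _ (kernel.ι (psi A.arrow τ)) (nextSubIso A τ) (Iso.refl _)
    (by rw [nextSubIso_hom_ι]; simp) ≪≫ cokerKerIso A.arrow τ

/-- the map `B/A ⟶ E/A` for subobjects `A ≤ B` of `E` -/
noncomputable def subQuotMap (A B : Subobject E) (h : A ≤ B) :
    cokernel (Subobject.ofLE A B h) ⟶ cokernel A.arrow :=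
  cokernel.desc _ (B.arrow ≫ cokernel.π A.arrow)
    (by rw [← Category.assoc, Subobject.ofLE_arrow, cokernel.condition])

@[reassoc]
theorem π_subQuotMap (A B : Subobject E) (h : A ≤ B) :
    cokernel.π (Subobject.ofLE A B h) ≫ subQuotMap A B h = B.arrow ≫ cokernel.π A.arrow :=
  cokernel.π_desc _ _ _

theorem factorIso_hom_τ :
    (factorIso A τ).hom ≫ τ = subQuotMap A (nextSub A τ) (le_nextSub A τ) := by
  apply (cancel_epi (cokernel.π (Subobject.ofLE A (nextSub A τ) (le_nextSub A τ)))).mp
  rw [π_subQuotMap]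
  unfold factorIso
  simp only [Iso.trans_hom, cokernel.mapIso_hom, Category.assoc, cokernel.π_desc_assoc]
  rw [π_cokerLiftIso_hom_assoc, toT_τ, nextSubIso_hom_ι_assoc]

instance mono_subQuotMap_nextSub : Mono (subQuotMap A (nextSub A τ) (le_nextSub A τ)) := by
  rw [← factorIso_hom_τ]
  infer_instance


theorem lt_nextSub (hT : ¬ IsZero T) : A < nextSub A τ := by
  refine lt_of_le_not_ge (le_nextSub A τ) (fun h => hT ?_)
  haveI : IsIso (Subobject.ofLE A (nextSub A τ) (le_nextSub A τ)) :=
    ⟨Subobject.ofLE _ _ h, by simp, by simp⟩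
  exact (isZero_cokernel_of_epi _).of_iso (factorIso A τ).symm

theorem isZero_cokernel_arrow_iff (B : Subobject E) : IsZero (cokernel B.arrow) ↔ B = ⊤ := by
  constructor
  · intro h
    haveI : Epi B.arrow := Preadditive.epi_of_cokernel_zero (h.eq_of_tgt _ _)
    haveI : IsIso B.arrow := isIso_of_mono_of_epi _
    exact Subobject.eq_top_of_isIso_arrow B
  · rintro rfl
    exact isZero_cokernel_of_epi _

theorem nextSub_ne_top_iff : nextSub A τ ≠ ⊤ ↔ ¬ IsZero (cokernel τ) := by
  rw [Ne, ← isZero_cokernel_arrow_iff]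
  exact not_congr ⟨fun h => h.of_iso (quotIso A τ).symm, fun h => h.of_iso (quotIso A τ)⟩

/-- the quotient by the bottom subobject -/
theorem isIso_cokernel_π_bot : IsIso (cokernel.π (⊥ : Subobject E).arrow) := by
  have h : ∀ {Z : C} (f : Z ⟶ E), f = 0 → IsIso (cokernel.π f) := by
    intro Z f hf
    subst hf
    infer_instance
  exact h _ Subobject.bot_arrow

end subobject

end Groth.Agent.Helper5.ShStab14
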