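import Mathlib
import Groth.Agent.Helper5.ShStab12
import Groth.Agent.Helper5.ShStabPoly2

/-!
# Building a filtration by an ascending chain; integrality and trichotomy for polynomials
-/

set_option autoImplicit false
set_option linter.style.haveILetI false

namespace Groth.Agent.Helper5.ShStab15

open CategoryTheory Limits AlgebraicGeometry Opposite Polynomial Filter
open Groth.Agent.Helper5.ShStabPoly Groth.Agent.Helper5.ShStabPoly2

universe u

section Poly

open Function fwdDiff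

/-- a polynomial of degree `≤ d` with integer values at the natural numbers has integral
multiplicity `d! · a_d` -/
theorem alpha_int {P : ℚ[X]} {d : ℕ} (hd : P.natDegree ≤ d)
    (h : ∀ m : ℕ, ∃ z : ℤ, P.eval (m : ℚ) = z) : ∃ z : ℤ, StabCat.alpha d P = z := by
  have hsum : ∃ z : ℤ, (Δ_[1])^[d] P.eval 0 = z := by
    rw [fwdDiff_iter_eq_sum_shift]
    have : ∀ k ∈ Finset.range (d + 1), ∃ z : ℤ,
        ((-1 : ℤ) ^ (d - k) * (d.choose k : ℤ)) • P.eval ((0 : ℚ) + k • (1 : ℚ)) = z := by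
      intro k _
      obtain ⟨z, hz⟩ := h k
      refine ⟨((-1 : ℤ) ^ (d - k) * (d.choose k : ℤ)) * z, ?_⟩
      have e : (0 : ℚ) + k • (1 : ℚ) = (k : ℚ) := by simp
      rw [e, hz, zsmul_eq_mul]
      push_cast
      ring
    choose! f hf using this
    refine ⟨∑ k ∈ Finset.range (d + 1), f k, ?_⟩
    rw [Int.cast_sum]
    exact Finset.sum_congr rfl hf
  obtain ⟨z, hz⟩ := hsum
  rcases lt_or_eq_of_le hd with hlt | heq
  · refine ⟨0, ?_⟩
    rw [alpha_eq_zero_of_natDegree_lt hlt]
    simp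
  · refine ⟨z, ?_⟩
    rw [← hz, ← heq, Polynomial.fwdDiff_iter_degree_eq_factorial]
    unfold StabCat.alpha
    rw [Pi.smul_apply, Pi.natCast_apply, smul_eq_mul, Polynomial.leadingCoeff, mul_comm]

/-- trichotomy for the eventual sign of a rational polynomial -/
theorem poly_trichotomy (R : ℚ[X]) :
    R = 0 ∨ (∀ᶠ m : ℕ in atTop, 0 < R.eval (m : ℚ)) ∨ (∀ᶠ m : ℕ in atTop, R.eval (m : ℚ) < 0) := by
  by_cases h0 : R = 0
  · exact Or.inl h0
  · right
    have hlc : R.leadingCoeff ≠ 0 := Polynomial.leadingCoeff_ne_zero.mpr h0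
    rcases lt_or_gt_of_ne hlc with hneg | hpos
    · right
      have : 0 < (-R).leadingCoeff := by
        rw [Polynomial.leadingCoeff_neg]; linarith
      refine (eventually_pos_of_leadingCoeff_pos this).mono fun m hm => ?_
      rw [Polynomial.eval_neg] at hm
      linarith
    · left
      exact eventually_pos_of_leadingCoeff_pos hpos

theorem polyLT_or_eq_of_polyLE {P Q : ℚ[X]} (h : StabCat.PolyLE P Q) :
    StabCat.PolyLT P Q ∨ P = Q := by
  rw [polyLE_iff] at h
  rcases poly_trichotomy (Q - P) with h0 | hpos | hneg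
  · right
    exact (sub_eq_zero.mp h0).symm
  · left
    rw [polyLT_iff]
    refine hpos.mono fun m hm => ?_
    rw [Polynomial.eval_sub] at hm
    linarith
  · exfalso
    obtain ⟨m, hm1, hm2⟩ := (hneg.and h).exists
    rw [Polynomial.eval_sub] at hm1
    linarith

theorem polyLE_or_polyLT (P Q : ℚ[X]) : StabCat.PolyLE P Q ∨ StabCat.PolyLT Q P := by
  rcases poly_trichotomy (Q - P) with h0 | hpos | hneg
  · left
    rw [polyLE_iff, (sub_eq_zero.mp h0)]
    exact Eventually.of_forall fun m => le_refl _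
  · left
    rw [polyLE_iff]
    refine hpos.mono fun m hm => ?_
    rw [Polynomial.eval_sub] at hm
    linarith
  · right
    rw [polyLT_iff]
    refine hneg.mono fun m hm => ?_
    rw [Polynomial.eval_sub] at hm
    linarith

theorem redLT_or_redEq_of_redLE {d : ℕ} {P Q : ℚ[X]} (h : StabCat.RedLE d P Q) :
    StabCat.RedLT d P Q ∨ StabCat.RedEq d P Q :=
  polyLT_or_eq_of_polyLE h

theorem redLE_or_redLT (d : ℕ) (P Q : ℚ[X]) : StabCat.RedLE d P Q ∨ StabCat.RedLT d Q P :=
  polyLE_or_polyLT _ _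

end Poly

section Series

variable {X : Scheme.{u}}

/-- building a finite filtration of a coherent module from a step function, by the ascending
chain condition -/
theorem exists_series [CompactSpace X] [IsLocallyNoetherian X] (E : X.Modules)
    (hE : Coh.IsCoh E) (Inv : Subobject E → Prop) (Step : ∀ A B : Subobject E, A ≤ B → Prop)
    (hcoh : ∀ A, Inv A → Coh.IsCoh (A : X.Modules)) (h0 : Inv ⊥)
    (hnext : ∀ A, Inv A → A ≠ ⊤ → ∃ (B : Subobject E) (h : A < B), Inv B ∧ Step A B h.le) :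
    ∃ s : LTSeries (Subobject E), s.head = ⊥ ∧ s.last = ⊤ ∧ (∀ i, Inv (s i)) ∧
      ∀ i : Fin s.length, Step (s i.castSucc) (s i.succ) (le_of_lt (s.step i)) := by
  classical
  let Stage := {A : Subobject E // Inv A}
  have hn : ∀ A : Stage, ∃ B : Stage, (A.1 = ⊤ ∧ B = A) ∨
      (A.1 ≠ ⊤ ∧ ∃ h : A.1 < B.1, Step A.1 B.1 h.le) := by
    intro A
    by_cases hA : A.1 = ⊤
    · exact ⟨A, Or.inl ⟨hA, rfl⟩⟩
    · obtain ⟨B, h, hB, hs⟩ := hnext A.1 A.2 hA
      exact ⟨⟨B, hB⟩, Or.inr ⟨hA, h, hs⟩⟩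
  choose next hnext' using hn
  let seq : ℕ → Stage := fun n => Nat.rec ⟨⊥, h0⟩ (fun _ y => next y) n
  have hle : ∀ n, (seq n).1 ≤ (seq (n + 1)).1 := by
    intro n
    rcases hnext' (seq n) with ⟨_, h⟩ | ⟨_, h, _⟩
    · exact le_of_eq (congrArg Subtype.val h.symm)
    · exact h.le
  obtain ⟨n, hn⟩ := Groth.Agent.Helper5.ShStab12.exists_isIso_of_chain E hE
    (fun n => ((seq n).1 : X.Modules)) (fun n => (seq n).1.arrow) (fun n => inferInstance)
    (fun n => (hcoh _ (seq n).2).1) (fun n => Subobject.ofLE _ _ (hle n))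
    (fun n => Subobject.ofLE_arrow _)
  have htop : ∃ n, (seq n).1 = ⊤ := by
    refine ⟨n, ?_⟩
    by_contra hne
    rcases hnext' (seq n) with ⟨h, _⟩ | ⟨_, h, _⟩
    · exact hne h
    · have hge : (seq (n + 1)).1 ≤ (seq n).1 :=
        Subobject.le_of_comm (inv (Subobject.ofLE _ _ (hle n))) (by
          rw [IsIso.inv_comp_eq, Subobject.ofLE_arrow])
      exact absurd h (not_lt_of_ge hge)
  let N := Nat.find htop
  have hN : (seq N).1 = ⊤ := Nat.find_spec htop
  have hlt : ∀ i, i < N → (seq i).1 ≠ ⊤ := fun i hi => Nat.find_min htop hi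
  have hstep : ∀ i, i < N →
      ∃ h : (seq i).1 < (seq (i + 1)).1, Step (seq i).1 (seq (i + 1)).1 h.le := by
    intro i hi
    rcases hnext' (seq i) with ⟨h, _⟩ | ⟨_, h, hs⟩
    · exact absurd h (hlt i hi)
    · exact ⟨h, hs⟩
  refine ⟨LTSeries.mk N (fun i => (seq i.val).1)
    (Fin.strictMono_iff_lt_succ.mpr (fun i => (hstep i.val i.isLt).1)), ?_, hN,
    fun i => (seq i.val).2, fun i => (hstep i.val i.isLt).2⟩
  show (seq ((0 : Fin (N + 1)) : ℕ)).1 = ⊥
  rw [Fin.val_zero]
  rfl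

end Series

end Groth.Agent.Helper5.ShStab15
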