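import Mathlib
import Groth.Agent.Helper5.ShStab11
import Groth.Agent.Helper5.ShStab14
import Groth.Agent.Helper5.ShStab15
import Groth.Agent.Lead.PerfLib7

/-!
# Existence of Jordan-Hölder filtrations
-/

set_option autoImplicit false
set_option linter.style.haveILetI false

namespace Groth.Agent.Helper5.ShStab16

open CategoryTheory Limits AlgebraicGeometry Opposite Polynomial Filter
open Groth.Agent.Helper5.ShStab1 Groth.Agent.Helper5.ShStabPoly Groth.Agent.Helper5.ShStab3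
open Groth.Agent.Helper5.ShStabPoly2 Groth.Agent.Helper5.ShStab2 Groth.Agent.Helper5.ShStab5
open Groth.Agent.Helper5.ShStab11 Groth.Agent.Helper5.ShStab14 Groth.Agent.Helper5.ShStab15

universe u

variable (k : Type u) [Field k] {X : Scheme.{u}} [X.Over (Spec (CommRingCat.of k))]
  [IsProper (X ↘ Spec (CommRingCat.of k))]

omit [IsProper (X ↘ Spec (CommRingCat.of k))] in
theorem isStable_of_iso {L E E' : X.Modules} (e : E ≅ E') {d : ℕ}
    (h : ShStab.IsStable k X L E d) : ShStab.IsStable k X L E' d := by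
  obtain ⟨hc, h0, hp, hss⟩ := h
  refine ⟨Groth.Agent.Lead.PerfLib.isCoh_of_iso e hc, fun hz => h0 (hz.of_iso e), ?_, ?_⟩
  · intro T τ hm hTc hT0
    haveI := hm
    exact hp T (τ ≫ e.inv) inferInstance hTc hT0
  · intro T τ hm hTc hT0 hni pT pE' hpT hpE'
    haveI := hm
    refine hss T (τ ≫ e.inv) inferInstance hTc hT0 ?_ pT pE' hpT (hilbPoly_of_iso k e.symm hpE')
    intro hi
    apply hni
    have : τ = (τ ≫ e.inv) ≫ e.hom := by simp
    rw [this]
    infer_instance

/-- the multiplicity of a coherent module is a natural number -/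
theorem alpha_nat {L : X.Modules} (hL : CohB1.IsAmple L) (E : X.Modules) (hE : Coh.IsCoh E) (d : ℕ)
    (hd : topologicalKrullDim (CohB1.support E) ≤ (d : WithBot ℕ∞)) {P : ℚ[X]}
    (hP : ShStab.IsHilbPoly k X L E P) : ∃ n : ℕ, StabCat.alpha d P = n := by
  obtain ⟨z, hz⟩ := alpha_int (natDegree_le_of_hilbPoly k hL.1 E hE d hd hP)
    (fun m => ⟨Curv2.euler k X (ShStab.twist X L E m), (hP m).symm⟩)
  have h0 := alpha_nonneg_of_hilbPoly k hL E hE d hd hP
  rw [hz] at h0
  have hz0 : 0 ≤ z := by exact_mod_cast h0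
  refine ⟨z.toNat, ?_⟩
  rw [hz]
  have := Int.toNat_of_nonneg hz0
  exact_mod_cast this.symm

/-- a semistable module has a stable submodule with the same reduced Hilbert polynomial -/
theorem exists_stable_sub {L : X.Modules} (hL : CohB1.IsAmple L) {d : ℕ} {Q : X.Modules}
    (hQ : ShStab.IsSemistable k X L Q d) {pQ : ℚ[X]} (hpQ : ShStab.IsHilbPoly k X L Q pQ) :
    ∃ (T : X.Modules) (τ : T ⟶ Q) (pT : ℚ[X]), Mono τ ∧ ShStab.IsStable k X L T d ∧
      ShStab.IsHilbPoly k X L T pT ∧ StabCat.RedEq d pT pQ := by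
  classical
  obtain ⟨hQc, hQ0, hQp, hQss⟩ := hQ
  have hQdim := hQp Q (𝟙 Q) inferInstance hQc hQ0
  let S : ℕ → Prop := fun n => ∃ (T : X.Modules) (τ : T ⟶ Q) (pT : ℚ[X]), Mono τ ∧ Coh.IsCoh T ∧
    ¬ IsZero T ∧ ShStab.IsHilbPoly k X L T pT ∧ StabCat.RedEq d pT pQ ∧ StabCat.alpha d pT = n
  have hS : ∃ n, S n := by
    obtain ⟨n, hn⟩ := alpha_nat k hL Q hQc d hQdim.le hpQ
    exact ⟨n, Q, 𝟙 Q, pQ, inferInstance, hQc, hQ0, hpQ, redEq_refl d pQ, hn⟩
  obtain ⟨T, τ, pT, hτ, hTc, hT0, hpT, hred, hn⟩ := Nat.find_spec hS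
  haveI := hτ
  have hTss : ShStab.IsSemistable k X L T d :=
    isSemistable_sub k hL ⟨hQc, hQ0, hQp, hQss⟩ τ hTc hT0 hpT hpQ hred
  refine ⟨T, τ, pT, hτ, ⟨hTss.1, hTss.2.1, hTss.2.2.1, ?_⟩, hpT, hred⟩
  intro T' ι' hι' hT'c hT'0 hni pT' pT₂ hpT' hpT₂
  have : pT₂ = pT := hilbPoly_unique k hpT₂ hpT
  subst this
  haveI := hι'
  rcases redLT_or_redEq_of_redLE (hTss.2.2.2 T' ι' hι' hT'c hT'0 hni pT' pT₂ hpT' hpT) with h | h
  · exact h
  · exfalso
    have hTdim := hQp T τ hτ hTc hT0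
    have haT : 0 < StabCat.alpha d pT₂ := alpha_pos k hL T hTc d hTdim hpT
    have hT'dim := hQp T' (ι' ≫ τ) inferInstance hT'c hT'0
    have hred' : StabCat.RedEq d pT' pQ := redEq_trans_right h (redEq_symm hred) haT
    obtain ⟨n', hn'⟩ := alpha_nat k hL T' hT'c d hT'dim.le hpT'
    have hmin : Nat.find hS ≤ n' :=
      Nat.find_min' hS ⟨T', ι' ≫ τ, pT', inferInstance, hT'c, hT'0, hpT', hred', hn'⟩
    have hle : StabCat.alpha d pT₂ ≤ StabCat.alpha d pT' := by
      rw [hn, hn']; exact_mod_cast hmin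
    obtain ⟨pC, hpC, hsum, -, -, -, -, hpos⟩ := sub_package k hL d hT'c hTc hTdim.le ι' hpT' hpT
    have hCpos := hpos hni
    have hTpos := hilbPoly_pos k hL T hTc hT0 hpT
    obtain ⟨m, hm1, hm2⟩ := (hCpos.and hTpos).exists
    have e := redEq_eval h (m : ℚ)
    have h1 : StabCat.alpha d pT₂ * pT₂.eval (m : ℚ) ≤ StabCat.alpha d pT' * pT₂.eval (m : ℚ) :=
      mul_le_mul_of_nonneg_right hle hm2.le
    have h2 : 0 < StabCat.alpha d pT₂ * pC.eval (m : ℚ) := mul_pos haT hm1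
    have h3 : pT₂.eval (m : ℚ) = pT'.eval (m : ℚ) + pC.eval (m : ℚ) := by
      rw [hsum, Polynomial.eval_add]
    rw [h3] at h1 e
    rw [mul_add] at h1
    linarith

/-- S15202 -/
theorem s15202 (L : X.Modules) (hL : CohB1.IsAmple L) (d : ℕ) (E : X.Modules)
    (hE : ShStab.IsSemistable k X L E d) :
    ∃ s : LTSeries (Subobject E), ShStab.IsJHFiltration k X L E d s := by
  have hE' := hE
  obtain ⟨hEc, hE0, hEp, hEss⟩ := hE
  haveI : CompactSpace X := hL.2.1
  haveI := isLocallyNoetherian_of_proper k (X := X)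
  have hEdim := hEp E (𝟙 E) inferInstance hEc hE0
  obtain ⟨pE, hpE, -⟩ := exists_hilbPoly k hL.1 E hEc d hEdim.le
  let Inv : Subobject E → Prop := fun A => Coh.IsCoh (A : X.Modules) ∧
    (A = ⊤ ∨ (ShStab.IsSemistable k X L (cokernel A.arrow) d ∧
      ∀ pQ, ShStab.IsHilbPoly k X L (cokernel A.arrow) pQ → StabCat.RedEq d pQ pE))
  let Step : ∀ A B : Subobject E, A ≤ B → Prop := fun A B h =>
    ShStab.IsStable k X L (cokernel (Subobject.ofLE A B h)) d ∧
      ∀ p q, ShStab.IsHilbPoly k X L (cokernel (Subobject.ofLE A B h)) p →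
        ShStab.IsHilbPoly k X L E q → StabCat.RedEq d p q
  have h0 : Inv ⊥ := by
    haveI := isIso_cokernel_π_bot (E := E)
    let e : E ≅ cokernel (⊥ : Subobject E).arrow := asIso (cokernel.π _)
    refine ⟨Groth.Agent.Lead.PerfLib.isCoh_of_isFinLocFree
      (Groth.Agent.Lead.PerfLib.isFinLocFree_of_isZero
        ((isZero_zero _).of_iso Subobject.botCoeIsoZero)),
      Or.inr ⟨isSemistable_of_iso k e hE', fun pQ hpQ => ?_⟩⟩
    rw [hilbPoly_unique k hpQ (hilbPoly_of_iso k e hpE)]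
    exact redEq_refl d pE
  have hnext : ∀ A, Inv A → A ≠ ⊤ → ∃ (B : Subobject E) (h : A < B), Inv B ∧ Step A B h.le := by
    rintro A ⟨hAc, hA⟩ hAtop
    rcases hA with rfl | ⟨hQss, hQred⟩
    · exact absurd rfl hAtop
    · have hQc := hQss.1
      have hQdim := hQss.2.2.1 _ (𝟙 _) inferInstance hQc hQss.2.1
      obtain ⟨pQ, hpQ, -⟩ := exists_hilbPoly k hL.1 _ hQc d hQdim.le
      have haQ : 0 < StabCat.alpha d pQ := alpha_pos k hL _ hQc d hQdim hpQ
      obtain ⟨T, τ, pT, hτ, hTst, hpT, hredT⟩ := exists_stable_sub k hL hQss hpQ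
      haveI := hτ
      have hredTE : StabCat.RedEq d pT pE :=
        redEq_trans_right hredT (redEq_symm (hQred pQ hpQ)) haQ
      refine ⟨nextSub A τ, lt_nextSub A τ hTst.2.1, ⟨?_, ?_⟩, ?_⟩
      · exact Groth.Agent.Lead.PerfLib.isCoh_of_iso (nextSubIso A τ).symm
          (isCoh_kernel k hEc (Groth.Agent.Lead.PerfLib.isCoh_cokernel hTst.1 hQc τ)
            (psi A.arrow τ))
      · by_cases htop : nextSub A τ = ⊤
        · exact Or.inl htop
        · right
          have hC0 : ¬ IsZero (cokernel τ) := (nextSub_ne_top_iff A τ).mp htop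
          obtain ⟨hCss, hCred⟩ :=
            isSemistable_quot k hL hQss τ hTst.1 hTst.2.1 hpT hpQ hredT hC0
          refine ⟨isSemistable_of_iso k (quotIso A τ).symm hCss, fun p hp => ?_⟩
          have h1 := hCred p (hilbPoly_of_iso k (quotIso A τ) hp)
          exact redEq_trans_right h1 (redEq_symm (hQred pQ hpQ)) haQ
      · refine ⟨isStable_of_iso k (factorIso A τ).symm hTst, fun p q hp hq => ?_⟩
        have h1 : p = pT := hilbPoly_unique k hp (hilbPoly_of_iso k (factorIso A τ).symm hpT)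
        have h2 : q = pE := hilbPoly_unique k hq hpE
        rw [h1, h2]
        exact hredTE
  obtain ⟨s, hs0, hs1, -, hstep⟩ := exists_series E hEc Inv Step (fun A h => h.1) h0 hnext
  exact ⟨s, hs0, hs1, fun i => hstep i⟩

end Groth.Agent.Helper5.ShStab16
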