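import Mathlib
import Groth.Agent.Helper5.ShStab13
import Groth.Agent.Helper5.ShStab16
import Groth.Agent.Helper1.Dev3

/-!
# The maximal destabilising submodule
-/

set_option autoImplicit false
set_option linter.style.haveILetI false

namespace Groth.Agent.Helper5.ShStab17

open CategoryTheory Limits AlgebraicGeometry Opposite Polynomial Filter
open Groth.Agent.Helper5.ShStab1 Groth.Agent.Helper5.ShStabPoly Groth.Agent.Helper5.ShStab3
open Groth.Agent.Helper5.ShStabPoly2 Groth.Agent.Helper5.ShStab2 Groth.Agent.Helper5.ShStab5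
open Groth.Agent.Helper5.ShStab11 Groth.Agent.Helper5.ShStab14 Groth.Agent.Helper5.ShStab15
open Groth.Agent.Helper5.ShStab16

universe v u

section Arith

theorem cross_le_le {aP aQ aR p q r : ℚ} (haP : 0 < aP) (haQ : 0 < aQ) (haR : 0 < aR)
    (h1 : aQ * p ≤ aP * q) (h2 : aR * q ≤ aQ * r) : aR * p ≤ aP * r := by
  have h3 := mul_le_mul_of_nonneg_left h1 haR.le
  have h4 := mul_le_mul_of_nonneg_left h2 haP.le
  have h5 : aQ * (aR * p) ≤ aQ * (aP * r) := by
    calc aQ * (aR * p) = aR * (aQ * p) := by ring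
      _ ≤ aR * (aP * q) := h3
      _ = aP * (aR * q) := by ring
      _ ≤ aP * (aQ * r) := h4
      _ = aQ * (aP * r) := by ring
  exact le_of_mul_le_mul_left h5 haQ

theorem cross_lt_le {aP aQ aR p q r : ℚ} (haP : 0 < aP) (haQ : 0 < aQ) (haR : 0 < aR)
    (h1 : aQ * p < aP * q) (h2 : aR * q ≤ aQ * r) : aR * p < aP * r := by
  have h3 := mul_lt_mul_of_pos_left h1 haR
  have h4 := mul_le_mul_of_nonneg_left h2 haP.le
  have h5 : aQ * (aR * p) < aQ * (aP * r) := by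
    calc aQ * (aR * p) = aR * (aQ * p) := by ring
      _ < aR * (aP * q) := h3
      _ = aP * (aR * q) := by ring
      _ ≤ aP * (aQ * r) := h4
      _ = aQ * (aP * r) := by ring
  exact lt_of_mul_lt_mul_left h5 haQ.le

theorem cross_le_lt {aP aQ aR p q r : ℚ} (haP : 0 < aP) (haQ : 0 < aQ) (haR : 0 < aR)
    (h1 : aQ * p ≤ aP * q) (h2 : aR * q < aQ * r) : aR * p < aP * r := by
  have h3 := mul_le_mul_of_nonneg_left h1 haR.le
  have h4 := mul_lt_mul_of_pos_left h2 haP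
  have h5 : aQ * (aR * p) < aQ * (aP * r) := by
    calc aQ * (aR * p) = aR * (aQ * p) := by ring
      _ ≤ aR * (aP * q) := h3
      _ = aP * (aR * q) := by ring
      _ < aP * (aQ * r) := h4
      _ = aQ * (aP * r) := by ring
  exact lt_of_mul_lt_mul_left h5 haQ.le

theorem redLE_trans {d : ℕ} {P Q R : ℚ[X]} (haP : 0 < StabCat.alpha d P)
    (haQ : 0 < StabCat.alpha d Q) (haR : 0 < StabCat.alpha d R) (h1 : StabCat.RedLE d P Q)
    (h2 : StabCat.RedLE d Q R) : StabCat.RedLE d P R := by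
  rw [redLE_iff] at h1 h2 ⊢
  filter_upwards [h1, h2] with m hm1 hm2
  exact cross_le_le haP haQ haR hm1 hm2

theorem redLT_of_lt_of_le {d : ℕ} {P Q R : ℚ[X]} (haP : 0 < StabCat.alpha d P)
    (haQ : 0 < StabCat.alpha d Q) (haR : 0 < StabCat.alpha d R) (h1 : StabCat.RedLT d P Q)
    (h2 : StabCat.RedLE d Q R) : StabCat.RedLT d P R := by
  rw [redLT_iff] at h1 ⊢
  rw [redLE_iff] at h2
  filter_upwards [h1, h2] with m hm1 hm2
  exact cross_lt_le haP haQ haR hm1 hm2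

theorem redLT_of_le_of_lt {d : ℕ} {P Q R : ℚ[X]} (haP : 0 < StabCat.alpha d P)
    (haQ : 0 < StabCat.alpha d Q) (haR : 0 < StabCat.alpha d R) (h1 : StabCat.RedLE d P Q)
    (h2 : StabCat.RedLT d Q R) : StabCat.RedLT d P R := by
  rw [redLT_iff] at h2 ⊢
  rw [redLE_iff] at h1
  filter_upwards [h1, h2] with m hm1 hm2
  exact cross_le_lt haP haQ haR hm1 hm2

theorem not_redLT_of_redLE {d : ℕ} {P Q : ℚ[X]} (h1 : StabCat.RedLE d P Q)
    (h2 : StabCat.RedLT d Q P) : False := by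
  rw [redLE_iff] at h1
  rw [redLT_iff] at h2
  obtain ⟨m, hm1, hm2⟩ := (h1.and h2).exists
  linarith

theorem redLE_of_redEq {d : ℕ} {P Q : ℚ[X]} (h : StabCat.RedEq d P Q) : StabCat.RedLE d P Q := by
  rw [redLE_iff]
  exact Eventually.of_forall fun m => (redEq_eval h (m : ℚ)).le

theorem formula_pt {aF aG aS aI f g s i : ℚ} (haF : 0 < aF) (haG : 0 < aG) (hIG : aI ≤ aG)
    (ha : aF + aG = aI + aS) (hv : f + g = i + s) (h1 : aG * f ≤ aF * g)
    (h2 : aF * s < aS * f) : aI * g < aG * i := by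
  have e1 : aS = aF + aG - aI := by linarith
  have e2 : i = f + g - s := by linarith
  have h3 : aG * (aF * s) < aG * (aS * f) := mul_lt_mul_of_pos_left h2 haG
  have h4 : 0 ≤ (aG - aI) * (aF * g - aG * f) := mul_nonneg (by linarith) (by linarith)
  have key : aF * (aG * i - aI * g) =
      (aG - aI) * (aF * g - aG * f) + (aG * (aS * f) - aG * (aF * s)) := by
    subst e1 e2; ring
  have h5 : 0 < aF * (aG * i - aI * g) := by rw [key]; linarith
  have h6 : 0 < aG * i - aI * g := (mul_pos_iff_of_pos_left haF).mp h5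
  linarith

end Arith

section abelian

variable {C : Type u} [Category.{v} C] [Abelian C] {F G E : C} (ι : F ⟶ E) (κ : G ⟶ E)

/-- `F ⊕ G ⟶ E` -/
noncomputable def sumMap : F ⊞ G ⟶ E := biprod.desc ι κ

/-- the intersection `F ∩ G` mapping to `F` -/
noncomputable def intF : kernel (sumMap ι κ) ⟶ F := kernel.ι _ ≫ biprod.fst

/-- the intersection `F ∩ G` mapping to `G` -/
noncomputable def intG : kernel (sumMap ι κ) ⟶ G := -(kernel.ι _ ≫ biprod.snd)

theorem int_comm : intF ι κ ≫ ι = intG ι κ ≫ κ := by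
  have h : kernel.ι (sumMap ι κ) ≫ (biprod.fst ≫ ι + biprod.snd ≫ κ) = 0 := by
    rw [← biprod.desc_eq]
    exact kernel.condition (sumMap ι κ)
  rw [Preadditive.comp_add] at h
  unfold intF intG
  rw [Preadditive.neg_comp, Category.assoc, Category.assoc, eq_neg_iff_add_eq_zero]
  simpa using h

instance mono_intF [Mono κ] : Mono (intF ι κ) := by
  apply Preadditive.mono_of_cancel_zero
  intro W x hx
  have h2 : (x ≫ intG ι κ) ≫ κ = 0 := by
    rw [Category.assoc, ← int_comm, ← Category.assoc, hx, Limits.zero_comp]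
  have h3 : x ≫ intG ι κ = 0 := zero_of_comp_mono κ h2
  apply (cancel_mono (kernel.ι (sumMap ι κ))).mp
  rw [Limits.zero_comp]
  apply biprod.hom_ext
  · simpa [intF] using hx
  · unfold intG at h3
    simpa using h3

instance mono_intG [Mono ι] : Mono (intG ι κ) := by
  apply Preadditive.mono_of_cancel_zero
  intro W x hx
  have h2 : (x ≫ intF ι κ) ≫ ι = 0 := by
    rw [Category.assoc, int_comm, ← Category.assoc, hx, Limits.zero_comp]
  have h3 : x ≫ intF ι κ = 0 := zero_of_comp_mono ι h2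
  apply (cancel_mono (kernel.ι (sumMap ι κ))).mp
  rw [Limits.zero_comp]
  apply biprod.hom_ext
  · simpa [intF] using h3
  · unfold intG at hx
    simpa using hx

/-- the universal property of the intersection -/
theorem int_lift {W : C} (a : W ⟶ F) (b : W ⟶ G) (h : a ≫ ι = b ≫ κ) :
    ∃ c : W ⟶ kernel (sumMap ι κ), c ≫ intF ι κ = a ∧ c ≫ intG ι κ = b := by
  refine ⟨kernel.lift _ (biprod.lift a (-b)) ?_, ?_, ?_⟩
  · unfold sumMap
    rw [biprod.lift_desc, Preadditive.neg_comp, h, add_neg_cancel]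
  · unfold intF
    rw [kernel.lift_ι_assoc, biprod.lift_fst]
  · unfold intG
    rw [Preadditive.comp_neg, kernel.lift_ι_assoc, biprod.lift_snd, neg_neg]

/-- the sum `F + G` as a subobject of `E` -/
noncomputable def sumι : Abelian.coimage (sumMap ι κ) ⟶ E := Abelian.factorThruCoimage _

instance : Mono (sumι ι κ) := by unfold sumι; infer_instance

/-- `F ⟶ F + G` -/
noncomputable def toSumF : F ⟶ Abelian.coimage (sumMap ι κ) := biprod.inl ≫ Abelian.coimage.π _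

/-- `G ⟶ F + G` -/
noncomputable def toSumG : G ⟶ Abelian.coimage (sumMap ι κ) := biprod.inr ≫ Abelian.coimage.π _

theorem toSumF_ι : toSumF ι κ ≫ sumι ι κ = ι := by
  unfold toSumF sumι
  rw [Category.assoc, Abelian.coimage.fac]
  simp [sumMap]

theorem toSumG_ι : toSumG ι κ ≫ sumι ι κ = κ := by
  unfold toSumG sumι
  rw [Category.assoc, Abelian.coimage.fac]
  simp [sumMap]

theorem exists_factor_of_isIso_toSumF (h : IsIso (toSumF ι κ)) : ∃ φ : G ⟶ F, φ ≫ ι = κ := by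
  refine ⟨toSumG ι κ ≫ inv (toSumF ι κ), ?_⟩
  have h1 : (toSumG ι κ ≫ inv (toSumF ι κ)) ≫ (toSumF ι κ ≫ sumι ι κ) = κ := by
    rw [Category.assoc, IsIso.inv_hom_id_assoc, toSumG_ι]
  rwa [toSumF_ι] at h1

end abelian

section sheaf

variable (k : Type u) [Field k] {X : Scheme.{u}} [X.Over (Spec (CommRingCat.of k))]
  [IsProper (X ↘ Spec (CommRingCat.of k))]

/-- positivity of the multiplicity of a nonzero coherent submodule of a pure module -/
theorem alpha_pos_sub {L : X.Modules} (hL : CohB1.IsAmple L) {d : ℕ} {E : X.Modules}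
    (hp : ShStab.IsPure X E d) {G : X.Modules} (κ : G ⟶ E) [Mono κ] (hGc : Coh.IsCoh G)
    (hG0 : ¬ IsZero G) {pG : ℚ[X]} (hpG : ShStab.IsHilbPoly k X L G pG) :
    0 < StabCat.alpha d pG :=
  alpha_pos k hL G hGc d (hp G κ inferInstance hGc hG0) hpG

/-- Hilbert polynomials of the sum and the intersection of two submodules -/
theorem hilbPoly_sum_int {L : X.Modules} (hL : CohB1.IsAmple L) (d : ℕ) {F G E : X.Modules}
    (hFc : Coh.IsCoh F) (hGc : Coh.IsCoh G) (hEc : Coh.IsCoh E)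
    (hdE : topologicalKrullDim (CohB1.support E) ≤ (d : WithBot ℕ∞)) (ι : F ⟶ E) (κ : G ⟶ E)
    [Mono ι] [Mono κ] {pF pG : ℚ[X]} (hpF : ShStab.IsHilbPoly k X L F pF)
    (hpG : ShStab.IsHilbPoly k X L G pG) :
    Coh.IsCoh (kernel (sumMap ι κ)) ∧ Coh.IsCoh (Abelian.coimage (sumMap ι κ)) ∧
      ∃ pI pS : ℚ[X], ShStab.IsHilbPoly k X L (kernel (sumMap ι κ)) pI ∧
        ShStab.IsHilbPoly k X L (Abelian.coimage (sumMap ι κ)) pS ∧ pF + pG = pI + pS := by
  have hBc : Coh.IsCoh (F ⊞ G) := Groth.Agent.Helper1.Dev.isCoh_biprod hFc hGc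
  have hIc := isCoh_kernel k hBc hEc (sumMap ι κ)
  have hSc := isCoh_coimage k hBc hEc (sumMap ι κ)
  have hB : ShStab.IsHilbPoly k X L (F ⊞ G) (pF + pG) :=
    hilbPoly_add k hL.1 _ (ShortComplex.Splitting.ofHasBinaryBiproduct F G).shortExact
      hFc hBc hGc hpF hpG
  have hdI : topologicalKrullDim (CohB1.support (kernel (sumMap ι κ))) ≤ (d : WithBot ℕ∞) :=
    dim_support_le_of_mono X (intF ι κ) (dim_support_le_of_mono X ι hdE)
  obtain ⟨pI, hpI, -⟩ := exists_hilbPoly k hL.1 _ hIc d hdI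
  have hpS := hilbPoly_sub k hL.1 (cokerSC (kernel.ι (sumMap ι κ))) (cokerSC_shortExact _)
    hIc hBc hSc hpI hB
  exact ⟨hIc, hSc, pI, _, hpI, hpS, by ring⟩

/-- maximal for the order "contained in, with at most the reduced Hilbert polynomial" -/
def IsMaxl (L : X.Modules) (d : ℕ) {F E : X.Modules} (ι : F ⟶ E) (pF : ℚ[X]) : Prop :=
  ∀ (F' : X.Modules) (ι' : F' ⟶ E) (g : F ⟶ F') (pF' : ℚ[X]), Mono ι' → Coh.IsCoh F' →
    ShStab.IsHilbPoly k X L F' pF' → g ≫ ι' = ι → StabCat.RedLE d pF pF' → IsIso g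

theorem exists_maxl {L : X.Modules} (hL : CohB1.IsAmple L) (d : ℕ) {E : X.Modules}
    (hEc : Coh.IsCoh E) (hp : ShStab.IsPure X E d) {F : X.Modules} (ι : F ⟶ E) [Mono ι]
    (hFc : Coh.IsCoh F) (hF0 : ¬ IsZero F) {pF : ℚ[X]} (hpF : ShStab.IsHilbPoly k X L F pF) :
    ∃ (F' : X.Modules) (ι' : F' ⟶ E) (g : F ⟶ F') (pF' : ℚ[X]), Mono ι' ∧ Coh.IsCoh F' ∧
      ¬ IsZero F' ∧ ShStab.IsHilbPoly k X L F' pF' ∧ g ≫ ι' = ι ∧ StabCat.RedLE d pF pF' ∧
      IsMaxl k L d ι' pF' := by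
  haveI : CompactSpace X := hL.2.1
  haveI := isLocallyNoetherian_of_proper k (X := X)
  let P : ∀ F' : X.Modules, (F' ⟶ E) → Prop := fun F' ι' =>
    Mono ι' ∧ Coh.IsCoh F' ∧
      ∃ p' : ℚ[X], ShStab.IsHilbPoly k X L F' p' ∧ StabCat.RedLE d pF p'
  obtain ⟨F', ι', ⟨hm', hFc', pF', hpF', hle⟩, ⟨g, hg⟩, hmax⟩ :=
    Groth.Agent.Helper5.ShStab12.exists_maximal_sub E hEc P (fun _ _ h => ⟨h.1, h.2.1⟩) F ι
      ⟨inferInstance, hFc, pF, hpF, redLE_refl d pF⟩
  haveI := hm'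
  haveI : Mono g := mono_of_mono_fac hg
  have hF'0 : ¬ IsZero F' := fun hz => hF0 (IsZero.of_mono g hz)
  refine ⟨F', ι', g, pF', hm', hFc', hF'0, hpF', hg, hle, ?_⟩
  intro F'' ι'' g' pF'' hm'' hFc'' hpF'' hg' hle'
  haveI := hm''
  haveI : Mono g' := mono_of_mono_fac hg'
  have hF''0 : ¬ IsZero F'' := fun hz => hF'0 (IsZero.of_mono g' hz)
  exact hmax F'' ι'' ⟨hm'', hFc'', pF'', hpF'',
    redLE_trans (alpha_pos_sub k hL hp ι hFc hF0 hpF) (alpha_pos_sub k hL hp ι' hFc' hF'0 hpF')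
      (alpha_pos_sub k hL hp ι'' hFc'' hF''0 hpF'') hle hle'⟩ g' hg'

/-- the key inequality: if `F` is maximal, `p(F) ≤ p(G)` and `G ⊄ F`, then `p(G) < p(F ∩ G)` -/
theorem key {L : X.Modules} (hL : CohB1.IsAmple L) (d : ℕ) {E : X.Modules} (hEc : Coh.IsCoh E)
    (hp : ShStab.IsPure X E d) {F G : X.Modules} (ι : F ⟶ E) (κ : G ⟶ E) [Mono ι] [Mono κ]
    (hFc : Coh.IsCoh F) (hGc : Coh.IsCoh G) (hF0 : ¬ IsZero F) (hG0 : ¬ IsZero G)
    {pF pG : ℚ[X]} (hpF : ShStab.IsHilbPoly k X L F pF) (hpG : ShStab.IsHilbPoly k X L G pG)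
    (hmax : IsMaxl k L d ι pF) (hle : StabCat.RedLE d pF pG)
    (hnot : ¬ ∃ φ : G ⟶ F, φ ≫ ι = κ) :
    Coh.IsCoh (kernel (sumMap ι κ)) ∧ ¬ IsZero (kernel (sumMap ι κ)) ∧
      ∀ pI : ℚ[X], ShStab.IsHilbPoly k X L (kernel (sumMap ι κ)) pI → StabCat.RedLT d pG pI := by
  have hdE := dim_support_le_of_pure hp (𝟙 E) hEc
  obtain ⟨hIc, hSc, pI, pS, hpI, hpS, hsum⟩ := hilbPoly_sum_int k hL d hFc hGc hEc hdE ι κ hpF hpG
  have hni : ¬ IsIso (toSumF ι κ) := fun h => hnot (exists_factor_of_isIso_toSumF ι κ h)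
  have hnle : ¬ StabCat.RedLE d pF pS := fun h =>
    hni (hmax _ (sumι ι κ) (toSumF ι κ) pS inferInstance hSc hpS (toSumF_ι ι κ) h)
  have hlt : StabCat.RedLT d pS pF := (redLE_or_redLT d pF pS).resolve_left hnle
  have haF := alpha_pos_sub k hL hp ι hFc hF0 hpF
  have haG := alpha_pos_sub k hL hp κ hGc hG0 hpG
  obtain ⟨pC, hpC, hsumC, hdC, -, -, hCnn, -⟩ :=
    sub_package k hL d hIc hGc (dim_support_le_of_pure hp κ hGc) (intG ι κ) hpI hpG
  have haC : 0 ≤ StabCat.alpha d pC := alpha_nonneg hdC hCnn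
  have hIG : StabCat.alpha d pI ≤ StabCat.alpha d pG := by
    rw [hsumC, alpha_add]; linarith
  have ha : StabCat.alpha d pF + StabCat.alpha d pG = StabCat.alpha d pI + StabCat.alpha d pS := by
    rw [← alpha_add, ← alpha_add, hsum]
  have hev : ∀ᶠ m : ℕ in atTop,
      StabCat.alpha d pI * pG.eval (m : ℚ) < StabCat.alpha d pG * pI.eval (m : ℚ) := by
    rw [redLE_iff] at hle
    rw [redLT_iff] at hlt
    filter_upwards [hle, hlt] with m hm1 hm2
    have hv : pF.eval (m : ℚ) + pG.eval (m : ℚ) = pI.eval (m : ℚ) + pS.eval (m : ℚ) := by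
      rw [← Polynomial.eval_add, ← Polynomial.eval_add, hsum]
    exact formula_pt haF haG hIG ha hv hm1 hm2
  have hI0 : ¬ IsZero (kernel (sumMap ι κ)) := by
    intro hz
    have : pI = 0 := hilbPoly_unique k hpI (hilbPoly_zero k hL.1 hz)
    subst this
    obtain ⟨m, hm⟩ := hev.exists
    simp [StabCat.alpha] at hm
  refine ⟨hIc, hI0, fun pI' hpI' => ?_⟩
  rw [hilbPoly_unique k hpI' hpI, redLT_iff]
  exact hev

/-- S15200 -/
theorem s15200 (L : X.Modules) (hL : CohB1.IsAmple L) (d : ℕ) (E : X.Modules)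
    (hE : Coh.IsCoh E) (h0 : ¬ IsZero E) (hp : ShStab.IsPure X E d) :
    ∃ (F : X.Modules) (ι : F ⟶ E), ShStab.IsMaxDestab k X L E d F ι := by
  classical
  have hdE := (hp E (𝟙 E) inferInstance hE h0).le
  let S : ℕ → Prop := fun n => ∃ (F : X.Modules) (ι : F ⟶ E) (pF : ℚ[X]), Mono ι ∧ Coh.IsCoh F ∧
    ¬ IsZero F ∧ ShStab.IsHilbPoly k X L F pF ∧ IsMaxl k L d ι pF ∧ StabCat.alpha d pF = n
  have hS : ∃ n, S n := by
    obtain ⟨pE, hpE, -⟩ := exists_hilbPoly k hL.1 E hE d hdE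
    obtain ⟨F', ι', g, pF', hm', hFc', hF'0, hpF', -, -, hmax⟩ :=
      exists_maxl k hL d hE hp (𝟙 E) hE h0 hpE
    haveI := hm'
    obtain ⟨n, hn⟩ := alpha_nat k hL F' hFc' d (dim_support_le_of_pure hp ι' hFc') hpF'
    exact ⟨n, F', ι', pF', hm', hFc', hF'0, hpF', hmax, hn⟩
  obtain ⟨F, ι, pF, hι, hFc, hF0, hpF, hmax, hn⟩ := Nat.find_spec hS
  haveI := hι
  have haF := alpha_pos_sub k hL hp ι hFc hF0 hpF
  have hFp : ShStab.IsPure X F d := fun T τ hτ hTc hT0 => by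
    haveI := hτ
    exact hp T (τ ≫ ι) inferInstance hTc hT0
  -- no submodule of `F` has a bigger reduced polynomial
  have claimB : ∀ (G₁ : X.Modules) (j₁ : G₁ ⟶ F) (pG₁ : ℚ[X]), Mono j₁ → Coh.IsCoh G₁ →
      ¬ IsZero G₁ → ShStab.IsHilbPoly k X L G₁ pG₁ → StabCat.RedLT d pF pG₁ → False := by
    intro G₁ j₁ pG₁ hj₁ hG₁c hG₁0 hpG₁ hlt₁
    haveI := hj₁
    have haG₁ := alpha_pos_sub k hL hFp j₁ hG₁c hG₁0 hpG₁
    obtain ⟨G₂, j₂, g₁, pG₂, hj₂, hG₂c, hG₂0, hpG₂, hg₁, hle₁₂, hmax₂⟩ :=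
      exists_maxl k hL d hFc hFp j₁ hG₁c hG₁0 hpG₁
    haveI := hj₂
    have haG₂ := alpha_pos_sub k hL hFp j₂ hG₂c hG₂0 hpG₂
    have hlt₂ : StabCat.RedLT d pF pG₂ := redLT_of_lt_of_le haF haG₁ haG₂ hlt₁ hle₁₂
    obtain ⟨G', κ', g₂, pG', hκ', hG'c, hG'0, hpG', hg₂, hle₂', hmax'⟩ :=
      exists_maxl k hL d hE hp (j₂ ≫ ι) hG₂c hG₂0 hpG₂
    haveI := hκ'
    have haG' := alpha_pos_sub k hL hp κ' hG'c hG'0 hpG'
    have hlt' : StabCat.RedLT d pF pG' := redLT_of_lt_of_le haF haG₂ haG' hlt₂ hle₂'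
    have hnot : ¬ ∃ φ : G' ⟶ F, φ ≫ ι = κ' := by
      rintro ⟨φ, hφ⟩
      haveI : Mono φ := mono_of_mono_fac hφ
      have hg₂φ : g₂ ≫ φ = j₂ := by
        apply (cancel_mono ι).mp
        rw [Category.assoc, hφ, hg₂]
      obtain ⟨n', hn'⟩ := alpha_nat k hL G' hG'c d (dim_support_le_of_pure hp κ' hG'c) hpG'
      have hmin : Nat.find hS ≤ n' :=
        Nat.find_min' hS ⟨G', κ', pG', hκ', hG'c, hG'0, hpG', hmax', hn'⟩
      have hle : StabCat.alpha d pF ≤ StabCat.alpha d pG' := by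
        rw [hn, hn']; exact_mod_cast hmin
      obtain ⟨pC, -, hsumC, -, -, -, hCnn, -⟩ :=
        sub_package k hL d hG'c hFc (dim_support_le_of_pure hp ι hFc) φ hpG' hpF
      have hG'nn := hilbPoly_nonneg k hL G' hG'c hpG'
      rw [redLT_iff] at hlt'
      obtain ⟨m, hm1, hm2, hm3⟩ := (hlt'.and (hCnn.and hG'nn)).exists
      rw [hsumC, Polynomial.eval_add] at hm1
      have h1 : StabCat.alpha d (pG' + pC) * pG'.eval (m : ℚ) ≤
          StabCat.alpha d pG' * pG'.eval (m : ℚ) := by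
        rw [← hsumC]
        exact mul_le_mul_of_nonneg_right hle hm3
      have h2 : 0 ≤ StabCat.alpha d pG' * pC.eval (m : ℚ) := mul_nonneg haG'.le hm2
      rw [mul_add] at hm1
      linarith
    have hle' : StabCat.RedLE d pF pG' := redLE_of_redLT hlt'
    obtain ⟨hIc, hI0, hI⟩ := key k hL d hE hp ι κ' hFc hG'c hF0 hG'0 hpF hpG' hmax hle' hnot
    have hdI : topologicalKrullDim (CohB1.support (kernel (sumMap ι κ'))) ≤ (d : WithBot ℕ∞) :=
      dim_support_le_of_mono X (intF ι κ') (dim_support_le_of_pure hp ι hFc)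
    obtain ⟨pI, hpI, -⟩ := exists_hilbPoly k hL.1 _ hIc d hdI
    have hltI : StabCat.RedLT d pG' pI := hI pI hpI
    have haI := alpha_pos_sub k hL hFp (intF ι κ') hIc hI0 hpI
    obtain ⟨c, hc1, hc2⟩ := int_lift ι κ' j₂ g₂ hg₂.symm
    have hle₂I : StabCat.RedLE d pG₂ pI :=
      redLE_of_redLT (redLT_of_le_of_lt haG₂ haG' haI hle₂' hltI)
    haveI : IsIso c := hmax₂ _ (intF ι κ') c pI inferInstance hIc hpI hc1 hle₂I
    have : pG₂ = pI := hilbPoly_unique k hpG₂ (hilbPoly_of_iso k (asIso c).symm hpI)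
    subst this
    exact not_redLT_of_redLE hle₂' hltI
  refine ⟨F, ι, hι, hFc, hF0, ?_⟩
  intro G κ hκ hGc hG0 pF' pG hpF' hpG
  have : pF' = pF := hilbPoly_unique k hpF' hpF
  subst this
  haveI := hκ
  have haG := alpha_pos_sub k hL hp κ hGc hG0 hpG
  have claimA : StabCat.RedLE d pF' pG → (¬ ∃ φ : G ⟶ F, φ ≫ ι = κ) → False := by
    intro hle hnot
    obtain ⟨hIc, hI0, hI⟩ := key k hL d hE hp ι κ hFc hGc hF0 hG0 hpF hpG hmax hle hnot
    have hdI : topologicalKrullDim (CohB1.support (kernel (sumMap ι κ))) ≤ (d : WithBot ℕ∞) :=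
      dim_support_le_of_mono X (intF ι κ) (dim_support_le_of_pure hp ι hFc)
    obtain ⟨pI, hpI, -⟩ := exists_hilbPoly k hL.1 _ hIc d hdI
    have haI := alpha_pos_sub k hL hFp (intF ι κ) hIc hI0 hpI
    exact claimB _ (intF ι κ) pI inferInstance hIc hI0 hpI
      (redLT_of_le_of_lt haF haG haI hle (hI pI hpI))
  constructor
  · by_contra hnle
    have hlt : StabCat.RedLT d pF' pG := (redLE_or_redLT d pG pF').resolve_left hnle
    by_cases hex : ∃ φ : G ⟶ F, φ ≫ ι = κ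
    · obtain ⟨φ, hφ⟩ := hex
      exact claimB G φ pG (mono_of_mono_fac hφ) hGc hG0 hpG hlt
    · exact claimA (redLE_of_redLT hlt) hex
  · intro heq
    by_contra hex
    exact claimA (redLE_of_redEq (redEq_symm heq)) hex

end sheaf

end Groth.Agent.Helper5.ShStab17
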