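import Mathlib
import Groth.Agent.Helper5.ShStab3

/-!
# Morphisms between (semi)stable sheaves
-/

set_option autoImplicit false
set_option linter.style.haveILetI false

namespace Groth.Agent.Helper5.ShStab4

open CategoryTheory Limits AlgebraicGeometry Opposite Polynomial Filter
open Groth.Agent.Helper5.ShStab1 Groth.Agent.Helper5.ShStabPoly Groth.Agent.Helper5.ShStab3
open Groth.Agent.Helper5.ShStabArith

universe u

variable (k : Type u) [Field k] (X : Scheme.{u}) [X.Over (Spec (CommRingCat.of k))]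
  [IsProper (X ↘ Spec (CommRingCat.of k))]

theorem dim_support_of_semistable_le {E : X.Modules} {d : ℕ} (hEc : Coh.IsCoh E)
    (hp : ShStab.IsPure X E d) :
    topologicalKrullDim (CohB1.support E) ≤ (d : WithBot ℕ∞) :=
  dim_support_le_of_pure hp (𝟙 E) hEc

/-- S15192 -/
theorem s15192 (L : X.Modules) (hL : CohB1.IsAmple L) (d : ℕ) (F G : X.Modules)
    (hF : ShStab.IsSemistable k X L F d) (hG : ShStab.IsSemistable k X L G d)
    (pF pG : ℚ[X]) (hpF : ShStab.IsHilbPoly k X L F pF) (hpG : ShStab.IsHilbPoly k X L G pG)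
    (hlt : StabCat.RedLT d pG pF) (φ : F ⟶ G) : φ = 0 := by
  by_contra hφ
  obtain ⟨hFc, hF0, hFp, hFss⟩ := hF
  obtain ⟨hGc, hG0, hGp, hGss⟩ := hG
  obtain ⟨pK, pQ, hpK, hpQ, hadd, haK, haQ, hKnn, hQpos⟩ :=
    package k hL d hFc hGc hFp hGp φ hφ
  have hpF' : pF = pK + pQ := hilbPoly_unique k hpF hadd
  subst hpF'
  have h1 := redLE_kernel k hL d hFc hGc φ hφ hFss hpK hadd
  have h2 := redLE_coimage k d hFc hGc φ hφ hGss hpQ hpG
  have hGpos := hilbPoly_pos k hL G hGc hG0 hpG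
  have hb := alpha_nonneg_of_hilbPoly k hL G hGc d (dim_support_of_semistable_le X hGc hGp) hpG
  rw [redLE_iff] at h1 h2
  rw [redLT_iff] at hlt
  rw [alpha_add] at h1 hlt
  obtain ⟨m, hm1, hm2, hm3, hm4, hm5, hm6⟩ :=
    (h1.and (h2.and (hlt.and (hKnn.and (hQpos.and hGpos))))).exists
  rw [Polynomial.eval_add] at hm1 hm3
  exact arith192 hm1 hm2 hm3 haK haQ hb hm4 hm5 hm6

/-- S15193 -/
theorem s15193 (L : X.Modules) (hL : CohB1.IsAmple L) (d : ℕ) (F G : X.Modules)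
    (hF : ShStab.IsStable k X L F d) (hG : ShStab.IsSemistable k X L G d)
    (pF pG : ℚ[X]) (hpF : ShStab.IsHilbPoly k X L F pF) (hpG : ShStab.IsHilbPoly k X L G pG)
    (heq : StabCat.RedEq d pF pG) (φ : F ⟶ G) (hφ : φ ≠ 0) : Mono φ := by
  obtain ⟨hFc, hF0, hFp, hFst⟩ := hF
  obtain ⟨hGc, hG0, hGp, hGss⟩ := hG
  apply mono_of_isZero_kernel
  by_contra hK0
  obtain ⟨pK, pQ, hpK, hpQ, hadd, haK, haQ, hKnn, hQpos⟩ :=
    package k hL d hFc hGc hFp hGp φ hφ
  have hpF' : pF = pK + pQ := hilbPoly_unique k hpF hadd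
  subst hpF'
  have h1 := hFst _ (kernel.ι φ) inferInstance (isCoh_kernel k hFc hGc φ) hK0
    (not_isIso_kernel_ι φ hφ) pK _ hpK hadd
  have h2 := redLE_coimage k d hFc hGc φ hφ hGss hpQ hpG
  have hGpos := hilbPoly_pos k hL G hGc hG0 hpG
  have hb := alpha_nonneg_of_hilbPoly k hL G hGc d (dim_support_of_semistable_le X hGc hGp) hpG
  rw [redLT_iff] at h1
  rw [redLE_iff] at h2
  rw [alpha_add] at h1
  obtain ⟨m, hm1, hm2, hm4, hm5, hm6⟩ :=
    (h1.and (h2.and (hKnn.and (hQpos.and hGpos)))).exists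
  have hm3 := redEq_eval heq (m : ℚ)
  rw [alpha_add, Polynomial.eval_add] at hm3
  rw [Polynomial.eval_add] at hm1
  exact arith193 hm1 hm2 hm3 haK haQ hb hm4 hm5 hm6

/-- S15194 -/
theorem s15194 (L : X.Modules) (hL : CohB1.IsAmple L) (d : ℕ) (F G : X.Modules)
    (hF : ShStab.IsSemistable k X L F d) (hG : ShStab.IsStable k X L G d)
    (pF pG : ℚ[X]) (hpF : ShStab.IsHilbPoly k X L F pF) (hpG : ShStab.IsHilbPoly k X L G pG)
    (heq : StabCat.RedEq d pF pG) (φ : F ⟶ G) (hφ : φ ≠ 0) : Epi φ := by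
  obtain ⟨hFc, hF0, hFp, hFss⟩ := hF
  obtain ⟨hGc, hG0, hGp, hGst⟩ := hG
  apply epi_of_isIso_factorThruCoimage
  by_contra hi
  obtain ⟨pK, pQ, hpK, hpQ, hadd, haK, haQ, hKnn, hQpos⟩ :=
    package k hL d hFc hGc hFp hGp φ hφ
  have hpF' : pF = pK + pQ := hilbPoly_unique k hpF hadd
  subst hpF'
  have h1 := redLE_kernel k hL d hFc hGc φ hφ hFss hpK hadd
  have h2 := hGst _ (Abelian.factorThruCoimage φ) inferInstance (isCoh_coimage k hFc hGc φ)
    (not_isZero_coimage φ hφ) hi pQ pG hpQ hpG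
  have hGpos := hilbPoly_pos k hL G hGc hG0 hpG
  have hb := alpha_nonneg_of_hilbPoly k hL G hGc d (dim_support_of_semistable_le X hGc hGp) hpG
  rw [redLE_iff] at h1
  rw [redLT_iff] at h2
  rw [alpha_add] at h1
  obtain ⟨m, hm1, hm2, hm4, hm5, hm6⟩ :=
    (h1.and (h2.and (hKnn.and (hQpos.and hGpos)))).exists
  have hm3 := redEq_eval heq (m : ℚ)
  rw [alpha_add, Polynomial.eval_add] at hm3
  rw [Polynomial.eval_add] at hm1
  exact arith194 hm1 hm2 hm3 haK haQ hb hm4 hm5 hm6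

/-- a monomorphism of coherent modules with the same Hilbert polynomial is an isomorphism
(stated for the canonical inclusion of the coimage) -/
theorem isIso_factorThruCoimage_of_hilbPoly_eq (L : X.Modules) (hL : CohB1.IsAmple L)
    {F G : X.Modules} (hFc : Coh.IsCoh F) (hGc : Coh.IsCoh G) (φ : F ⟶ G) {P : ℚ[X]}
    (hpQ : ShStab.IsHilbPoly k X L (Abelian.coimage φ) P) (hpG : ShStab.IsHilbPoly k X L G P) :
    IsIso (Abelian.factorThruCoimage φ) := by
  apply isIso_factorThruCoimage_of_isZero_cokernel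
  have hQc := isCoh_coimage k hFc hGc φ
  have hCc := Groth.Agent.Lead.PerfLib.isCoh_cokernel hQc hGc (Abelian.factorThruCoimage φ)
  have hC := hilbPoly_sub k hL.1 (cokerSC (Abelian.factorThruCoimage φ)) (cokerSC_shortExact _)
    hQc hGc hCc hpQ hpG
  rw [sub_self] at hC
  exact isZero_of_hilbPoly_zero k hL _ hCc hC

/-- S15195 -/
theorem s15195 (L : X.Modules) (hL : CohB1.IsAmple L) (d : ℕ) (F G : X.Modules)
    (hF : ShStab.IsSemistable k X L F d) (hG : ShStab.IsSemistable k X L G d)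
    (hst : ShStab.IsStable k X L F d ∨ ShStab.IsStable k X L G d)
    (P : ℚ[X]) (hpF : ShStab.IsHilbPoly k X L F P) (hpG : ShStab.IsHilbPoly k X L G P)
    (φ : F ⟶ G) (hφ : φ ≠ 0) : IsIso φ := by
  obtain ⟨hFc, hF0, hFp, hFss⟩ := hF
  obtain ⟨hGc, hG0, hGp, hGss⟩ := hG
  obtain ⟨pK, pQ, hpK, hpQ, hadd, haK, haQ, hKnn, hQpos⟩ :=
    package k hL d hFc hGc hFp hGp φ hφ
  have hP : P = pK + pQ := hilbPoly_unique k hpF hadd
  subst hP
  have hKc := isCoh_kernel k hFc hGc φ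
  have hQc := isCoh_coimage k hFc hGc φ
  have key : IsZero (kernel φ) ∧ IsIso (Abelian.factorThruCoimage φ) := by
    rcases hst with hFst | hGst
    · have hK0 : IsZero (kernel φ) := by
        by_contra hK0
        have h1 := hFst.2.2.2 _ (kernel.ι φ) inferInstance hKc hK0
          (not_isIso_kernel_ι φ hφ) pK _ hpK hadd
        have h2 := redLE_coimage k d hFc hGc φ hφ hGss hpQ hpG
        rw [redLT_iff] at h1
        rw [redLE_iff] at h2
        obtain ⟨m, hm1, hm2⟩ := (h1.and h2).exists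
        rw [alpha_add, Polynomial.eval_add] at hm1 hm2
        linarith
      refine ⟨hK0, ?_⟩
      have hpK0 : pK = 0 := hilbPoly_unique k hpK (hilbPoly_zero k hL.1 hK0)
      rw [hpK0, zero_add] at hpG
      exact isIso_factorThruCoimage_of_hilbPoly_eq k X L hL hFc hGc φ hpQ hpG
    · have hj : IsIso (Abelian.factorThruCoimage φ) := by
        by_contra hi
        have h1 := redLE_kernel k hL d hFc hGc φ hφ hFss hpK hadd
        have h2 := hGst.2.2.2 _ (Abelian.factorThruCoimage φ) inferInstance hQc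
          (not_isZero_coimage φ hφ) hi pQ _ hpQ hpG
        rw [redLE_iff] at h1
        rw [redLT_iff] at h2
        obtain ⟨m, hm1, hm2⟩ := (h1.and h2).exists
        rw [alpha_add, Polynomial.eval_add] at hm1 hm2
        linarith
      refine ⟨?_, hj⟩
      have hQP : pQ = pK + pQ :=
        hilbPoly_unique k (hilbPoly_of_iso k (asIso (Abelian.factorThruCoimage φ)) hpQ) hpG
      have hpK0 : pK = 0 := by
        have : pK + pQ = 0 + pQ := by rw [zero_add]; exact hQP.symm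
        exact add_right_cancel this
      rw [hpK0] at hpK
      exact isZero_of_hilbPoly_zero k hL _ hKc hpK
  haveI := mono_of_isZero_kernel φ key.1
  haveI := epi_of_isIso_factorThruCoimage φ key.2
  exact isIso_of_mono_of_epi φ

/-- S15204 -/
theorem s15204 (L : X.Modules) (hL : CohB1.IsAmple L) (d : ℕ) (E : X.Modules)
    (hE : ShStab.IsStable k X L E d) (φ : E ⟶ E) (hφ : φ ≠ 0) : IsIso φ := by
  obtain ⟨hEc, hE0, hEp, hEst⟩ := hE
  obtain ⟨pK, pQ, hpK, hpQ, hadd, haK, haQ, hKnn, hQpos⟩ :=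
    package k hL d hEc hEc hEp hEp φ hφ
  have hKc := isCoh_kernel k hEc hEc φ
  have hK0 : IsZero (kernel φ) := by
    by_contra hK0
    have h1 := hEst _ (kernel.ι φ) inferInstance hKc hK0
      (not_isIso_kernel_ι φ hφ) pK _ hpK hadd
    have h2 := redLE_coimage k d hEc hEc φ hφ (isSS_of_isSt k hEst) hpQ hadd
    rw [redLT_iff] at h1
    rw [redLE_iff] at h2
    obtain ⟨m, hm1, hm2⟩ := (h1.and h2).exists
    rw [alpha_add, Polynomial.eval_add] at hm1 hm2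
    linarith
  haveI := mono_of_isZero_kernel φ hK0
  by_contra hiso
  have h := hEst E φ inferInstance hEc hE0 hiso _ _ hadd hadd
  rw [redLT_iff] at h
  obtain ⟨m, hm⟩ := h.exists
  exact lt_irrefl _ hm

/-- S15201 -/
theorem s15201 (L : X.Modules) (hL : CohB1.IsAmple L) (d : ℕ) (E : X.Modules)
    (hp : ShStab.IsPure X E d)
    (F₁ F₂ : X.Modules) (ι₁ : F₁ ⟶ E) (ι₂ : F₂ ⟶ E) (h₁ : ShStab.IsMaxDestab k X L E d F₁ ι₁)
    (h₂ : ShStab.IsMaxDestab k X L E d F₂ ι₂) :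
    ∃ e : F₁ ≅ F₂, e.hom ≫ ι₂ = ι₁ := by
  obtain ⟨hm₁, hc₁, hz₁, H₁⟩ := h₁
  obtain ⟨hm₂, hc₂, hz₂, H₂⟩ := h₂
  obtain ⟨p₁, hp₁, -⟩ := exists_hilbPoly k hL.1 F₁ hc₁ d (hp F₁ ι₁ hm₁ hc₁ hz₁).le
  obtain ⟨p₂, hp₂, -⟩ := exists_hilbPoly k hL.1 F₂ hc₂ d (hp F₂ ι₂ hm₂ hc₂ hz₂).le
  obtain ⟨hle₂₁, hfac₂₁⟩ := H₁ F₂ ι₂ hm₂ hc₂ hz₂ p₁ p₂ hp₁ hp₂
  obtain ⟨hle₁₂, hfac₁₂⟩ := H₂ F₁ ι₁ hm₁ hc₁ hz₁ p₂ p₁ hp₂ hp₁
  obtain ⟨φ, hφ⟩ := hfac₂₁ (redEq_of_redLE hle₂₁ hle₁₂)
  obtain ⟨ψ, hψ⟩ := hfac₁₂ (redEq_of_redLE hle₁₂ hle₂₁)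
  haveI := hm₁
  haveI := hm₂
  refine ⟨⟨ψ, φ, ?_, ?_⟩, hψ⟩
  · rw [← cancel_mono ι₁, Category.assoc, hφ, hψ, Category.id_comp]
  · rw [← cancel_mono ι₂, Category.assoc, hψ, hφ, Category.id_comp]

/-- S16340 -/
theorem s16340 (L : X.Modules) (hL : CohB1.IsAmple L) (d : ℕ) (E E' : X.Modules)
    (hE : Coh.IsCoh E) (hE' : Coh.IsCoh E') (ι : E ⟶ E') [Mono ι]
    (pE pE' : ℚ[X]) (hpE : ShStab.IsHilbPoly k X L E pE) (hpE' : ShStab.IsHilbPoly k X L E' pE') :
    StabCat.PolyLE pE pE' ∧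
      (topologicalKrullDim (CohB1.support (cokernel ι)) < (d : WithBot ℕ∞) →
        StabCat.alpha d pE = StabCat.alpha d pE') := by
  have hCc := Groth.Agent.Lead.PerfLib.isCoh_cokernel hE hE' ι
  have hC := hilbPoly_sub k hL.1 (cokerSC ι) (cokerSC_shortExact ι) hE hE' hCc hpE hpE'
  have hCnn := hilbPoly_nonneg k hL _ hCc hC
  constructor
  · rw [polyLE_iff]
    filter_upwards [hCnn] with m hm
    rw [Polynomial.eval_sub] at hm
    linarith
  · intro hdim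
    have h0 := alpha_eq_zero_of_dim_lt k hL.1 _ hCc d hdim hC
    have : pE' = pE + (pE' - pE) := by ring
    rw [this, alpha_add, h0, add_zero]

end Groth.Agent.Helper5.ShStab4
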