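import Mathlib
import Groth.Agent.Helper5.ShStab17
import Groth.Agent.Helper5.ShStab4

/-!
# Harder-Narasimhan filtrations: existence and uniqueness
-/

set_option autoImplicit false
set_option linter.style.haveILetI false

namespace Groth.Agent.Helper5.ShStab18

open CategoryTheory Limits AlgebraicGeometry Opposite Polynomial Filter
open Groth.Agent.Helper5.ShStab1 Groth.Agent.Helper5.ShStabPoly Groth.Agent.Helper5.ShStab3
open Groth.Agent.Helper5.ShStabPoly2 Groth.Agent.Helper5.ShStab2 Groth.Agent.Helper5.ShStab5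
open Groth.Agent.Helper5.ShStab11 Groth.Agent.Helper5.ShStab14 Groth.Agent.Helper5.ShStab15
open Groth.Agent.Helper5.ShStab16 Groth.Agent.Helper5.ShStab17

universe v u

section abelian

variable {C : Type u} [Category.{v} C] [Abelian C] {E : C}

/-- `B/A ⟶ E/A` is a monomorphism -/
instance mono_subQuotMap (A B : Subobject E) (h : A ≤ B) : Mono (subQuotMap A B h) := by
  apply Preadditive.mono_of_cancel_zero
  intro W x hx
  obtain ⟨W', e, he, y, hy⟩ :=
    surjective_up_to_refinements_of_epi (cokernel.π (Subobject.ofLE A B h)) x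
  have h1 : (y ≫ B.arrow) ≫ cokernel.π A.arrow = 0 := by
    rw [Category.assoc, ← π_subQuotMap A B h, ← Category.assoc, ← hy, Category.assoc, hx,
      Limits.comp_zero]
  have h2 : y = Abelian.monoLift A.arrow (y ≫ B.arrow) h1 ≫ Subobject.ofLE A B h := by
    apply (cancel_mono B.arrow).mp
    rw [Category.assoc, Subobject.ofLE_arrow, Abelian.monoLift_comp]
  have h3 : e ≫ x = 0 := by
    rw [hy, h2, Category.assoc, cokernel.condition, Limits.comp_zero]
  exact (cancel_epi e).mp (by rw [h3, Limits.comp_zero])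

/-- if `C'/A` factors through `B/A` inside `E/A`, then `C' ≤ B` -/
theorem le_of_factor_subQuot (A B C' : Subobject E) (hAB : A ≤ B) (hAC : A ≤ C')
    (φ : cokernel (Subobject.ofLE A C' hAC) ⟶ cokernel (Subobject.ofLE A B hAB))
    (hφ : φ ≫ subQuotMap A B hAB = subQuotMap A C' hAC) : C' ≤ B := by
  let ρ : cokernel A.arrow ⟶ cokernel B.arrow :=
    cokernel.desc A.arrow (cokernel.π B.arrow) (by
      rw [← Subobject.ofLE_arrow hAB, Category.assoc, cokernel.condition, Limits.comp_zero])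
  have hρ : cokernel.π A.arrow ≫ ρ = cokernel.π B.arrow := cokernel.π_desc _ _ _
  have h1 : subQuotMap A B hAB ≫ ρ = 0 := by
    apply (cancel_epi (cokernel.π (Subobject.ofLE A B hAB))).mp
    rw [π_subQuotMap_assoc, hρ, cokernel.condition, Limits.comp_zero]
  have h2 : C'.arrow ≫ cokernel.π B.arrow = 0 := by
    rw [← hρ, ← Category.assoc, ← π_subQuotMap A C' hAC, ← hφ, Category.assoc, Category.assoc,
      h1, Limits.comp_zero, Limits.comp_zero]
  exact Subobject.le_of_comm (Abelian.monoLift B.arrow C'.arrow h2) (Abelian.monoLift_comp _ _ _)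

/-- the morphism `B/A ⟶ B'/A'` induced by inclusions `A ≤ A'`, `B ≤ B'` -/
noncomputable def subQuotHom (A B A' B' : Subobject E) (hAB : A ≤ B) (hAB' : A' ≤ B')
    (hA : A ≤ A') (hB : B ≤ B') :
    cokernel (Subobject.ofLE A B hAB) ⟶ cokernel (Subobject.ofLE A' B' hAB') :=
  cokernel.desc _ (Subobject.ofLE B B' hB ≫ cokernel.π (Subobject.ofLE A' B' hAB')) (by
    rw [← Category.assoc, Subobject.ofLE_comp_ofLE, ← Subobject.ofLE_comp_ofLE A A' B' hA hAB',
      Category.assoc, cokernel.condition, Limits.comp_zero])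

theorem subQuotHom_ne_zero (A B A' B' : Subobject E) (hAB : A ≤ B) (hAB' : A' ≤ B')
    (hA : A ≤ A') (hB : B ≤ B') (hn : ¬ B ≤ A') : subQuotHom A B A' B' hAB hAB' hA hB ≠ 0 := by
  intro h0
  apply hn
  have h1 : Subobject.ofLE B B' hB ≫ cokernel.π (Subobject.ofLE A' B' hAB') = 0 := by
    have := cokernel.π_desc (Subobject.ofLE A B hAB)
      (Subobject.ofLE B B' hB ≫ cokernel.π (Subobject.ofLE A' B' hAB')) (by
        rw [← Category.assoc, Subobject.ofLE_comp_ofLE,
          ← Subobject.ofLE_comp_ofLE A A' B' hA hAB', Category.assoc, cokernel.condition,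
          Limits.comp_zero])
    rw [← this]
    show _ ≫ subQuotHom A B A' B' hAB hAB' hA hB = 0
    rw [h0, Limits.comp_zero]
  refine Subobject.le_of_comm
    (Abelian.monoLift (Subobject.ofLE A' B' hAB') (Subobject.ofLE B B' hB) h1) ?_
  rw [← Subobject.ofLE_arrow hAB', ← Category.assoc, Abelian.monoLift_comp, Subobject.ofLE_arrow]

theorem not_isZero_cokernel_ofLE (A B : Subobject E) (h : A < B) :
    ¬ IsZero (cokernel (Subobject.ofLE A B h.le)) := by
  intro hz
  haveI : Epi (Subobject.ofLE A B h.le) := Preadditive.epi_of_cokernel_zero (hz.eq_of_tgt _ _)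
  haveI : IsIso (Subobject.ofLE A B h.le) := isIso_of_mono_of_epi _
  have : B ≤ A := Subobject.le_of_comm (inv (Subobject.ofLE A B h.le)) (by
    rw [IsIso.inv_comp_eq, Subobject.ofLE_arrow])
  exact absurd h (not_lt_of_ge this)

end abelian

section sheaf

variable (k : Type u) [Field k] {X : Scheme.{u}} [X.Over (Spec (CommRingCat.of k))]
  [IsProper (X ↘ Spec (CommRingCat.of k))]

omit [X.Over (Spec (CommRingCat.of k))] [IsProper (X ↘ Spec (CommRingCat.of k))] in
theorem isPure_of_iso {E E' : X.Modules} (e : E ≅ E') {d : ℕ} (hp : ShStab.IsPure X E d) :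
    ShStab.IsPure X E' d := fun T τ hm hTc hT0 => by
  haveI := hm
  exact hp T (τ ≫ e.inv) inferInstance hTc hT0

omit [IsProper (X ↘ Spec (CommRingCat.of k))] in
theorem isMaxDestab_of_iso {L Q T T' : X.Modules} {d : ℕ} (e : T' ≅ T) {τ : T ⟶ Q}
    (h : ShStab.IsMaxDestab k X L Q d T τ) : ShStab.IsMaxDestab k X L Q d T' (e.hom ≫ τ) := by
  obtain ⟨hm, hc, h0, hmax⟩ := h
  haveI := hm
  refine ⟨inferInstance, Groth.Agent.Lead.PerfLib.isCoh_of_iso e.symm hc,
    fun hz => h0 (hz.of_iso e.symm), ?_⟩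
  intro G κ hκ hGc hG0 pT' pG hpT' hpG
  obtain ⟨h1, h2⟩ := hmax G κ hκ hGc hG0 pT' pG (hilbPoly_of_iso k e hpT') hpG
  refine ⟨h1, fun heq => ?_⟩
  obtain ⟨φ, hφ⟩ := h2 heq
  exact ⟨φ ≫ e.inv, by rw [Category.assoc, Iso.inv_hom_id_assoc, hφ]⟩

omit [IsProper (X ↘ Spec (CommRingCat.of k))] in
theorem isSemistable_of_isMaxDestab {L Q T : X.Modules} {d : ℕ} (hQp : ShStab.IsPure X Q d)
    {τ : T ⟶ Q} (h : ShStab.IsMaxDestab k X L Q d T τ) : ShStab.IsSemistable k X L T d := by
  obtain ⟨hm, hc, h0, hmax⟩ := h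
  haveI := hm
  refine ⟨hc, h0, fun T' ι' hι' hc' h0' => by
    haveI := hι'
    exact hQp T' (ι' ≫ τ) inferInstance hc' h0', ?_⟩
  intro T' ι' hι' hc' h0' hni pT' pT hpT' hpT
  haveI := hι'
  exact (hmax T' (ι' ≫ τ) inferInstance hc' h0' pT pT' hpT hpT').1

/-- the maximal destabilising submodule is saturated -/
theorem isPure_cokernel_of_isMaxDestab {L : X.Modules} (hL : CohB1.IsAmple L) {d : ℕ}
    {Q T : X.Modules} (hQc : Coh.IsCoh Q) (hQp : ShStab.IsPure X Q d) {τ : T ⟶ Q}
    (h : ShStab.IsMaxDestab k X L Q d T τ) : ShStab.IsPure X (cokernel τ) d := by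
  obtain ⟨hm, hTc, hT0, hmax⟩ := h
  haveI := hm
  intro U u hu hUc hU0
  haveI := hu
  have hdQ := dim_support_le_of_pure hQp (𝟙 Q) hQc
  have hCc := Groth.Agent.Lead.PerfLib.isCoh_cokernel hTc hQc τ
  have hdC : topologicalKrullDim (CohB1.support (cokernel τ)) ≤ (d : WithBot ℕ∞) :=
    dim_support_le_of_epi X (cokernel.π τ) hdQ
  have hdU : topologicalKrullDim (CohB1.support U) ≤ (d : WithBot ℕ∞) :=
    dim_support_le_of_mono X u hdC
  by_contra hne
  have hlt := lt_of_le_of_ne hdU hne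
  obtain ⟨pU, hpU, -⟩ := exists_hilbPoly k hL.1 U hUc d hdU
  have haU := alpha_eq_zero_of_dim_lt k hL.1 U hUc d hlt hpU
  obtain ⟨pQ, hpQ, -⟩ := exists_hilbPoly k hL.1 Q hQc d hdQ
  obtain ⟨pT, hpT, -⟩ := exists_hilbPoly k hL.1 T hTc d (dim_support_le_of_mono X τ hdQ)
  have hpC := hilbPoly_sub k hL.1 (cokerSC τ) (cokerSC_shortExact τ) hTc hQc hCc hpT hpQ
  have hDc := Groth.Agent.Lead.PerfLib.isCoh_cokernel hUc hCc u
  have hpD := hilbPoly_sub k hL.1 (cokerSC u) (cokerSC_shortExact u) hUc hCc hDc hpU hpC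
  let ψ : Q ⟶ cokernel u := cokernel.π τ ≫ cokernel.π u
  have hKc : Coh.IsCoh (kernel ψ) := isCoh_kernel k hQc hDc ψ
  have hSK : (ShortComplex.mk (kernel.ι ψ) ψ (kernel.condition ψ)).ShortExact :=
    ShortComplex.ShortExact.mk' (ShortComplex.exact_of_f_is_kernel _ (kernelIsKernel ψ))
      (inferInstanceAs (Mono (kernel.ι ψ))) (inferInstanceAs (Epi ψ))
  have hpK := hilbPoly_sub' k hL.1 _ hSK hKc hQc hDc hpQ hpD
  have e : pQ - (pQ - pT - pU) = pT + pU := by ring
  rw [e] at hpK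
  have hψ : τ ≫ ψ = 0 := by
    simp only [ψ]
    rw [← Category.assoc, cokernel.condition, Limits.zero_comp]
  haveI : Mono (kernel.lift ψ τ hψ) := mono_of_mono_fac (kernel.lift_ι ψ τ hψ)
  have hK0 : ¬ IsZero (kernel ψ) := fun hz => hT0 (IsZero.of_mono (kernel.lift ψ τ hψ) hz)
  obtain ⟨hle, -⟩ := hmax (kernel ψ) (kernel.ι ψ) inferInstance hKc hK0 pT (pT + pU) hpT hpK
  have haT : 0 < StabCat.alpha d pT := alpha_pos_sub k hL hQp τ hTc hT0 hpT
  rw [redLE_iff] at hle
  have hUpos := hilbPoly_pos k hL U hUc hU0 hpU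
  obtain ⟨m, hm1, hm2⟩ := (hle.and hUpos).exists
  rw [alpha_add, haU, add_zero, Polynomial.eval_add, mul_add] at hm1
  have := mul_pos haT hm2
  linarith

/-- Hilbert polynomial of a subquotient -/
theorem hilbPoly_subQuot {L : X.Modules} (hL : CohB1.IsAmple L) {E : X.Modules}
    (A B : Subobject E) (h : A ≤ B) (hAc : Coh.IsCoh (A : X.Modules))
    (hBc : Coh.IsCoh (B : X.Modules)) {pA pB : ℚ[X]}
    (hpA : ShStab.IsHilbPoly k X L (A : X.Modules) pA)
    (hpB : ShStab.IsHilbPoly k X L (B : X.Modules) pB) :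
    ShStab.IsHilbPoly k X L (cokernel (Subobject.ofLE A B h)) (pB - pA) :=
  hilbPoly_sub k hL.1 (cokerSC (Subobject.ofLE A B h)) (cokerSC_shortExact _) hAc hBc
    (Groth.Agent.Lead.PerfLib.isCoh_cokernel hAc hBc _) hpA hpB

/-- consecutive factors of a filtration by maximal destabilising submodules have strictly
decreasing reduced Hilbert polynomials -/
theorem step_rel {L : X.Modules} (hL : CohB1.IsAmple L) {d : ℕ} {E : X.Modules}
    (hdE : topologicalKrullDim (CohB1.support E) ≤ (d : WithBot ℕ∞))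
    (A B C' : Subobject E) (hAB : A ≤ B) (hBC : B < C')
    (hAc : Coh.IsCoh (A : X.Modules)) (hBc : Coh.IsCoh (B : X.Modules))
    (hCc : Coh.IsCoh (C' : X.Modules))
    (hstep : ShStab.IsMaxDestab k X L (cokernel A.arrow) d (cokernel (Subobject.ofLE A B hAB))
      (subQuotMap A B hAB))
    {p q : ℚ[X]} (hp : ShStab.IsHilbPoly k X L (cokernel (Subobject.ofLE A B hAB)) p)
    (hq : ShStab.IsHilbPoly k X L (cokernel (Subobject.ofLE B C' hBC.le)) q) :
    StabCat.RedLT d q p := by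
  have hAC : A < C' := lt_of_le_of_lt hAB hBC
  obtain ⟨pA, hpA, -⟩ := exists_hilbPoly k hL.1 _ hAc d (dim_support_le_of_mono X A.arrow hdE)
  obtain ⟨pB, hpB, -⟩ := exists_hilbPoly k hL.1 _ hBc d (dim_support_le_of_mono X B.arrow hdE)
  obtain ⟨pC, hpC, -⟩ := exists_hilbPoly k hL.1 _ hCc d (dim_support_le_of_mono X C'.arrow hdE)
  have e1 : p = pB - pA := hilbPoly_unique k hp (hilbPoly_subQuot k hL A B hAB hAc hBc hpA hpB)
  have e2 : q = pC - pB :=
    hilbPoly_unique k hq (hilbPoly_subQuot k hL B C' hBC.le hBc hCc hpB hpC)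
  have hpAC : ShStab.IsHilbPoly k X L (cokernel (Subobject.ofLE A C' hAC.le)) (p + q) := by
    have e3 : p + q = pC - pA := by rw [e1, e2]; ring
    rw [e3]
    exact hilbPoly_subQuot k hL A C' hAC.le hAc hCc hpA hpC
  obtain ⟨-, -, -, hmax⟩ := hstep
  obtain ⟨h1, h2⟩ := hmax _ (subQuotMap A C' hAC.le) inferInstance
    (Groth.Agent.Lead.PerfLib.isCoh_cokernel hAc hCc _) (not_isZero_cokernel_ofLE A C' hAC)
    p (p + q) hp hpAC
  by_contra hnlt
  have hle : StabCat.RedLE d p q := (redLE_or_redLT d p q).resolve_right hnlt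
  have hle' : StabCat.RedLE d p (p + q) := by
    rw [redLE_iff] at hle ⊢
    filter_upwards [hle] with m hm
    rw [alpha_add, Polynomial.eval_add]
    linarith [add_mul (StabCat.alpha d p) (StabCat.alpha d q) (p.eval (m : ℚ)),
      mul_add (StabCat.alpha d p) (p.eval (m : ℚ)) (q.eval (m : ℚ))]
  obtain ⟨φ, hφ⟩ := h2 (redEq_of_redLE h1 hle')
  exact absurd hBC (not_lt_of_ge (le_of_factor_subQuot A B C' hAB hAC.le φ hφ))

/-- existence of a Harder-Narasimhan filtration -/
theorem exists_hn (L : X.Modules) (hL : CohB1.IsAmple L) (d : ℕ) (E : X.Modules)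
    (hE : Coh.IsCoh E) (h0 : ¬ IsZero E) (hp : ShStab.IsPure X E d) :
    ∃ s : LTSeries (Subobject E), ShStab.IsHNFiltration k X L E d s ∧
      ∀ i, Coh.IsCoh (s i : X.Modules) := by
  haveI : CompactSpace X := hL.2.1
  haveI := isLocallyNoetherian_of_proper k (X := X)
  have hdE := (hp E (𝟙 E) inferInstance hE h0).le
  let Inv : Subobject E → Prop := fun A =>
    Coh.IsCoh (A : X.Modules) ∧ ShStab.IsPure X (cokernel A.arrow) d
  let Step : ∀ A B : Subobject E, A ≤ B → Prop := fun A B h =>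
    ShStab.IsMaxDestab k X L (cokernel A.arrow) d (cokernel (Subobject.ofLE A B h))
      (subQuotMap A B h)
  have h0' : Inv ⊥ := by
    haveI := isIso_cokernel_π_bot (E := E)
    exact ⟨Groth.Agent.Lead.PerfLib.isCoh_of_isFinLocFree
      (Groth.Agent.Lead.PerfLib.isFinLocFree_of_isZero
        ((isZero_zero _).of_iso Subobject.botCoeIsoZero)),
      isPure_of_iso (asIso (cokernel.π (⊥ : Subobject E).arrow)) hp⟩
  have hnext : ∀ A, Inv A → A ≠ ⊤ → ∃ (B : Subobject E) (h : A < B), Inv B ∧ Step A B h.le := by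
    rintro A ⟨hAc, hAp⟩ hAtop
    have hQc := Groth.Agent.Lead.PerfLib.isCoh_cokernel hAc hE A.arrow
    have hQ0 : ¬ IsZero (cokernel A.arrow) := fun hz =>
      hAtop ((isZero_cokernel_arrow_iff A).mp hz)
    obtain ⟨T, τ, hmd⟩ := s15200 k L hL d _ hQc hQ0 hAp
    have hmd' := hmd
    obtain ⟨hτ, hTc, hT0, -⟩ := hmd
    haveI := hτ
    refine ⟨nextSub A τ, lt_nextSub A τ hT0, ⟨?_, ?_⟩, ?_⟩
    · exact Groth.Agent.Lead.PerfLib.isCoh_of_iso (nextSubIso A τ).symm
        (isCoh_kernel k hE (Groth.Agent.Lead.PerfLib.isCoh_cokernel hTc hQc τ) (psi A.arrow τ))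
    · exact isPure_of_iso (quotIso A τ).symm
        (isPure_cokernel_of_isMaxDestab k hL hQc hAp hmd')
    · have h1 := isMaxDestab_of_iso k (factorIso A τ) hmd'
      rw [factorIso_hom_τ] at h1
      exact h1
  obtain ⟨s, hs0, hs1, hinv, hstep⟩ := exists_series E hE Inv Step (fun A h => h.1) h0' hnext
  refine ⟨s, ⟨hs0, hs1, fun i => ?_, ?_⟩, fun i => (hinv i).1⟩
  · exact isSemistable_of_isMaxDestab k (hinv i.castSucc).2 (hstep i)
  · intro i j hij p q hp hq
    obtain ⟨jv, hjv⟩ := j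
    simp only at hij
    subst hij
    exact step_rel k hL hdE (s i.castSucc) (s i.succ) (s (Fin.succ ⟨i.val + 1, hjv⟩))
      (le_of_lt (s.step i)) (s.step ⟨i.val + 1, hjv⟩) (hinv _).1 (hinv _).1 (hinv _).1
      (hstep i) hp hq

theorem alpha_pos_of_isSemistable {L : X.Modules} (hL : CohB1.IsAmple L) {d : ℕ} {G : X.Modules}
    (hG : ShStab.IsSemistable k X L G d) {p : ℚ[X]} (hp : ShStab.IsHilbPoly k X L G p) :
    0 < StabCat.alpha d p :=
  alpha_pos k hL G hG.1 d (hG.2.2.1 G (𝟙 G) inferInstance hG.1 hG.2.1) hp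

theorem exists_hilbPoly_of_isSemistable {L : X.Modules} (hL : CohB1.IsAmple L) {d : ℕ}
    {G : X.Modules} (hG : ShStab.IsSemistable k X L G d) :
    ∃ p : ℚ[X], ShStab.IsHilbPoly k X L G p := by
  obtain ⟨p, hp, -⟩ := exists_hilbPoly k hL.1 G hG.1 d
    (hG.2.2.1 G (𝟙 G) inferInstance hG.1 hG.2.1).le
  exact ⟨p, hp⟩

/-- a nonzero morphism between semistable modules does not decrease the reduced Hilbert
polynomial -/
theorem redLE_of_hom_ne_zero {L : X.Modules} (hL : CohB1.IsAmple L) {d : ℕ} {F G : X.Modules}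
    (hF : ShStab.IsSemistable k X L F d) (hG : ShStab.IsSemistable k X L G d) (f : F ⟶ G)
    (hf : f ≠ 0) {pF pG : ℚ[X]} (hpF : ShStab.IsHilbPoly k X L F pF)
    (hpG : ShStab.IsHilbPoly k X L G pG) : StabCat.RedLE d pF pG := by
  by_contra hn
  have hlt : StabCat.RedLT d pG pF := (redLE_or_redLT d pF pG).resolve_left hn
  exact hf (Groth.Agent.Helper5.ShStab4.s15192 k X L hL d F G hF hG pF pG hpF hpG hlt f)

/-- the reduced Hilbert polynomials of the factors of a Harder-Narasimhan filtration decrease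
strictly -/
theorem hn_decreasing {L : X.Modules} (hL : CohB1.IsAmple L) {d : ℕ} {E : X.Modules}
    (s : LTSeries (Subobject E)) (hs : ShStab.IsHNFiltration k X L E d s) :
    ∀ (n : ℕ) (i j : Fin s.length), i.val + 1 + n = j.val →
      ∀ p q : ℚ[X], ShStab.IsHilbPoly k X L (StabCat.factor s i) p →
        ShStab.IsHilbPoly k X L (StabCat.factor s j) q → StabCat.RedLT d q p := by
  intro n
  induction n with
  | zero =>
    intro i j hij p q hp hq
    exact hs.2.2.2 i j (by omega) p q hp hq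
  | succ n ih =>
    intro i j hij p q hp hq
    let j' : Fin s.length := ⟨j.val - 1, by omega⟩
    obtain ⟨q', hq'⟩ := exists_hilbPoly_of_isSemistable k hL (hs.2.2.1 j')
    have h1 : StabCat.RedLT d q' p := ih i j' (by simp only [j']; omega) p q' hp hq'
    have h2 : StabCat.RedLT d q q' := hs.2.2.2 j' j (by simp only [j']; omega) q' q hq' hq
    exact redLT_of_lt_of_le (alpha_pos_of_isSemistable k hL (hs.2.2.1 j) hq)
      (alpha_pos_of_isSemistable k hL (hs.2.2.1 j') hq')
      (alpha_pos_of_isSemistable k hL (hs.2.2.1 i) hp) h2 (redLE_of_redLT h1)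

theorem hn_compare {L : X.Modules} (hL : CohB1.IsAmple L) {d : ℕ} {E : X.Modules}
    (s t : LTSeries (Subobject E)) (hs : ShStab.IsHNFiltration k X L E d s)
    (ht : ShStab.IsHNFiltration k X L E d t) (a : Fin s.length) (b : Fin t.length)
    (hab : s a.castSucc = t b.castSucc) {p q : ℚ[X]}
    (hp : ShStab.IsHilbPoly k X L (StabCat.factor s a) p)
    (hq : ShStab.IsHilbPoly k X L (StabCat.factor t b) q) :
    s a.succ ≤ t b.succ ∨ StabCat.RedLT d p q := by
  classical
  have hex : ∃ n, ∃ h : n ≤ t.length, s a.succ ≤ t ⟨n, Nat.lt_succ_of_le h⟩ := by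
    refine ⟨t.length, le_refl _, ?_⟩
    have : t ⟨t.length, Nat.lt_succ_of_le (le_refl _)⟩ = ⊤ := ht.2.1
    rw [this]
    exact le_top
  obtain ⟨hn, hB⟩ := Nat.find_spec hex
  by_cases hcmp : Nat.find hex ≤ b.val + 1
  · left
    refine hB.trans (t.monotone ?_)
    exact hcmp
  · right
    push Not at hcmp
    obtain ⟨m, hm⟩ : ∃ m, Nat.find hex = m + 1 := ⟨Nat.find hex - 1, by omega⟩
    have hmlt : m < t.length := by omega
    let mF : Fin t.length := ⟨m, hmlt⟩
    have hB' : s a.succ ≤ t mF.succ := by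
      have e : mF.succ = ⟨Nat.find hex, Nat.lt_succ_of_le hn⟩ := Fin.ext (by simp [mF, hm])
      rw [e]
      exact hB
    have hnB : ¬ s a.succ ≤ t mF.castSucc := by
      intro hle
      exact Nat.find_min hex (show m < Nat.find hex by omega) ⟨hmlt.le, hle⟩
    have hA : s a.castSucc ≤ t mF.castSucc := by
      rw [hab]
      apply t.monotone
      show b.val ≤ m
      omega
    obtain ⟨r, hr⟩ := exists_hilbPoly_of_isSemistable k hL (ht.2.2.1 mF)
    have h1 : StabCat.RedLE d p r :=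
      redLE_of_hom_ne_zero k hL (hs.2.2.1 a) (ht.2.2.1 mF)
        (subQuotHom (s a.castSucc) (s a.succ) (t mF.castSucc) (t mF.succ)
          (le_of_lt (s.step a)) (le_of_lt (t.step mF)) hA hB')
        (subQuotHom_ne_zero _ _ _ _ _ _ hA hB' hnB) hp hr
    have h2 : StabCat.RedLT d r q :=
      hn_decreasing k hL t ht (m - b.val - 1) b mF (by simp only [mF]; omega) q r hq hr
    exact redLT_of_le_of_lt (alpha_pos_of_isSemistable k hL (hs.2.2.1 a) hp)
      (alpha_pos_of_isSemistable k hL (ht.2.2.1 mF) hr)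
      (alpha_pos_of_isSemistable k hL (ht.2.2.1 b) hq) h1 h2

theorem hn_le_redLE {L : X.Modules} (hL : CohB1.IsAmple L) {d : ℕ} {E : X.Modules}
    (s t : LTSeries (Subobject E)) (hs : ShStab.IsHNFiltration k X L E d s)
    (ht : ShStab.IsHNFiltration k X L E d t) (a : Fin s.length) (b : Fin t.length)
    (hab : s a.castSucc = t b.castSucc) (hle : s a.succ ≤ t b.succ) {p q : ℚ[X]}
    (hp : ShStab.IsHilbPoly k X L (StabCat.factor s a) p)
    (hq : ShStab.IsHilbPoly k X L (StabCat.factor t b) q) : StabCat.RedLE d p q := by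
  have hn : ¬ s a.succ ≤ t b.castSucc := by
    rw [← hab]
    exact not_le_of_gt (s.step a)
  exact redLE_of_hom_ne_zero k hL (hs.2.2.1 a) (ht.2.2.1 b)
    (subQuotHom (s a.castSucc) (s a.succ) (t b.castSucc) (t b.succ)
      (le_of_lt (s.step a)) (le_of_lt (t.step b)) (le_of_eq hab) hle)
    (subQuotHom_ne_zero _ _ _ _ _ _ (le_of_eq hab) hle hn) hp hq

theorem hn_succ_eq {L : X.Modules} (hL : CohB1.IsAmple L) {d : ℕ} {E : X.Modules}
    (s t : LTSeries (Subobject E)) (hs : ShStab.IsHNFiltration k X L E d s)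
    (ht : ShStab.IsHNFiltration k X L E d t) (a : Fin s.length) (b : Fin t.length)
    (hab : s a.castSucc = t b.castSucc) : s a.succ = t b.succ := by
  obtain ⟨p, hp⟩ := exists_hilbPoly_of_isSemistable k hL (hs.2.2.1 a)
  obtain ⟨q, hq⟩ := exists_hilbPoly_of_isSemistable k hL (ht.2.2.1 b)
  rcases hn_compare k hL s t hs ht a b hab hp hq with h1 | h1 <;>
  rcases hn_compare k hL t s ht hs b a hab.symm hq hp with h2 | h2
  · exact le_antisymm h1 h2
  · exact (not_redLT_of_redLE (hn_le_redLE k hL s t hs ht a b hab h1 hp hq) h2).elim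
  · exact (not_redLT_of_redLE (hn_le_redLE k hL t s ht hs b a hab.symm h2 hq hp) h1).elim
  · exact (not_redLT_of_redLE (redLE_of_redLT h1) h2).elim

theorem hn_unique {L : X.Modules} (hL : CohB1.IsAmple L) {d : ℕ} {E : X.Modules}
    (s t : LTSeries (Subobject E)) (hs : ShStab.IsHNFiltration k X L E d s)
    (ht : ShStab.IsHNFiltration k X L E d t) : s = t := by
  have key : ∀ n : ℕ, ∀ h : n ≤ s.length, ∃ h' : n ≤ t.length,
      s ⟨n, Nat.lt_succ_of_le h⟩ = t ⟨n, Nat.lt_succ_of_le h'⟩ := by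
    intro n
    induction n with
    | zero =>
      intro h
      refine ⟨Nat.zero_le _, ?_⟩
      have h1 : s ⟨0, Nat.lt_succ_of_le h⟩ = ⊥ := hs.1
      have h2 : t ⟨0, Nat.lt_succ_of_le (Nat.zero_le _)⟩ = ⊥ := ht.1
      rw [h1, h2]
    | succ n ih =>
      intro h
      obtain ⟨h', heq⟩ := ih (Nat.le_of_succ_le h)
      have hlt : n < t.length := by
        by_contra hge
        have hn : n = t.length := le_antisymm h' (not_lt.mp hge)
        have h1 : t ⟨n, Nat.lt_succ_of_le h'⟩ = ⊤ := by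
          have : (⟨n, Nat.lt_succ_of_le h'⟩ : Fin (t.length + 1)) = Fin.last _ := Fin.ext hn
          rw [this]
          exact ht.2.1
        have h2 : s ⟨n, Nat.lt_succ_of_le (Nat.le_of_succ_le h)⟩ = s (Fin.last _) := by
          rw [heq, h1]
          exact hs.2.1.symm
        have h3 := s.strictMono.injective h2
        have h4 : n = s.length := congrArg Fin.val h3
        omega
      refine ⟨hlt, ?_⟩
      exact hn_succ_eq k hL s t hs ht ⟨n, h⟩ ⟨n, hlt⟩ heq
  obtain ⟨hle, hlast⟩ := key s.length (le_refl _)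
  have hlen : s.length = t.length := by
    have h1 : s ⟨s.length, Nat.lt_succ_of_le (le_refl _)⟩ = ⊤ := hs.2.1
    have h2 : t ⟨s.length, Nat.lt_succ_of_le hle⟩ = t (Fin.last _) := by
      rw [← hlast, h1]
      exact ht.2.1.symm
    exact congrArg Fin.val (t.strictMono.injective h2)
  apply RelSeries.ext hlen
  funext i
  obtain ⟨h', heq⟩ := key i.val (Nat.le_of_lt_succ i.isLt)
  exact heq

/-- S15191 -/
theorem s15191 (L : X.Modules) (hL : CohB1.IsAmple L) (d : ℕ) (E : X.Modules)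
    (hE : Coh.IsCoh E) (h0 : ¬ IsZero E) (hp : ShStab.IsPure X E d) :
    ∃! s : LTSeries (Subobject E), ShStab.IsHNFiltration k X L E d s := by
  obtain ⟨s, hs, -⟩ := exists_hn k L hL d E hE h0 hp
  exact ⟨s, hs, fun t ht => hn_unique k hL t s ht hs⟩

end sheaf

end Groth.Agent.Helper5.ShStab18
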