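import Mathlib
import Groth.Agent.Helper5.ShStab18
import Groth.Agent.Helper4.SN13
import Groth.Agent.Helper4.SN78
import Groth.Agent.Helper4.PullUnit
import Groth.Agent.Helper1.TwistMul6
import Groth.Agent.S2426
import Groth.Agent.S10829

/-!
# Bridge between the twists `F ⊗ ι^* O(m)` on a closed subscheme of projective space and the
polarised setting of `ShStab` (`L = ι^* O(1)`, `E ⊗ L^{⊗ m}`).
-/

set_option autoImplicit false

namespace Groth.Agent.Helper5.PnBridge

open CategoryTheory Limits AlgebraicGeometry Opposite TopologicalSpace Polynomial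

universe u

section Family

variable {X : Scheme.{u}} (T : ℤ → X.Modules)

theorem nonempty_iso_tensorPow (h0 : Nonempty (T 0 ≅ Coh.structureModule X))
    (hadd : ∀ a b c : ℤ, c = a + b → Nonempty (CohB1.tensorMod (T a) (T b) ≅ T c)) (m : ℕ) :
    Nonempty (T (m : ℤ) ≅ CohB1.tensorPow (T 1) m) := by
  induction m with
  | zero => exact h0
  | succ m ih =>
    obtain ⟨e⟩ := ih
    obtain ⟨e'⟩ := hadd (m : ℤ) 1 ((m + 1 : ℕ) : ℤ) (by push_cast; ring)
    exact ⟨e'.symm ≪≫ PicGrp.tensorModIso e (Iso.refl _)⟩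

end Family

section Proj

variable (k : Type u) [Field k] {n : ℕ} {X : Scheme.{u}} [X.Over (Spec (CommRingCat.of k))]
  (i : X ⟶ CohB1.ProjSpace n k) [IsClosedImmersion i]

open Groth.Agent.Helper4.SN

/-- the polarisation `O_X(1)` -/
noncomputable abbrev LL : X.Modules := OX k i 1

theorem nonempty_OX_zero : Nonempty (OX k i 0 ≅ Coh.structureModule X) := by
  obtain ⟨e⟩ := Groth.Agent.Helper1.TwistMul.nonempty_twist_zero_iso (CohB1.polyGrading n k)
  exact ⟨(Scheme.Modules.pullback i).mapIso e ≪≫ Groth.Agent.Helper4.PullUnit.pullbackUnitIso i⟩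

theorem nonempty_OX_iso_tensorPow (m : ℕ) :
    Nonempty (OX k i (m : ℤ) ≅ CohB1.tensorPow (LL k i) m) :=
  nonempty_iso_tensorPow (fun d => OX k i d) (nonempty_OX_zero k i)
    (fun a b c h => nonempty_OX_add k i a b c h) m

theorem nonempty_twistOn_iso (E : X.Modules) (m : ℕ) :
    Nonempty (Pic13.twistOn k i E (m : ℤ) ≅ ShStab.twist X (LL k i) E m) := by
  obtain ⟨e⟩ := nonempty_OX_iso_tensorPow k i m
  exact ⟨PicGrp.tensorModIso (Iso.refl E) e⟩

theorem isAmple_LL : CohB1.IsAmple (LL k i) := by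
  haveI : CompactSpace (Proj (CohB1.polyGrading n k)) :=
    Groth.Agent.Helper1.VA.compactSpace_proj k n
  have hamp1 : CohB1.IsAmple (Twist.twist (CohB1.polyGrading n k) ((1 : ℕ) : ℤ)) :=
    Groth.Agent.Helper1.TwistMul.isAmple_twist (CohB1.polyGrading n k)
      (Groth.Agent.Helper1.PUP.hcovP n) 1 one_pos
  exact Groth.Agent.Helper4.PullAmple.isAmple_pullback_of_isAffineHom i hamp1

theorem isHilbPoly_of_forall_int (E : X.Modules) (P : ℚ[X])
    (hP : ∀ m : ℤ, (Curv2.euler k X (Pic13.twistOn k i E m) : ℚ) = P.eval (m : ℚ)) :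
    ShStab.IsHilbPoly k X (LL k i) E P := by
  intro m
  obtain ⟨e⟩ := nonempty_twistOn_iso k i E m
  have h := hP (m : ℤ)
  have he : Curv2.euler k X (Pic13.twistOn k i E (m : ℤ)) =
      Curv2.euler k X (ShStab.twist X (LL k i) E m) := chi_iso k e
  rw [he] at h
  rw [h]
  simp

end Proj

end Groth.Agent.Helper5.PnBridge
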