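import Mathlib
import Groth.Agent.Helper5.PnBridge1

/-!
# Hilbert polynomials for all integer twists on a closed subscheme of projective space
-/

set_option autoImplicit false

namespace Groth.Agent.Helper5.PnBridge

open CategoryTheory Limits AlgebraicGeometry Opposite TopologicalSpace Polynomial

universe u

section Proj

variable (k : Type u) [Field k] {n : ℕ} {X : Scheme.{u}} [X.Over (Spec (CommRingCat.of k))]
  (i : X ⟶ CohB1.ProjSpace n k) [IsClosedImmersion i]

open Groth.Agent.Helper4.SN

theorem length_toNat_eq_finrank (M : Type*) [AddCommGroup M] [Module k M] :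
    (Module.length k M).toNat = Module.finrank k M := by
  rw [Module.length_eq_rank, Module.finrank]
  simp

include i in
theorem dim_le : topologicalKrullDim X ≤ (n : WithBot ℕ∞) := by
  rw [← Groth.Agent.S10829.result k n]
  exact i.isClosedEmbedding.isEmbedding.isInducing.topologicalKrullDim_le

variable [IsProper (X ↘ Spec (CommRingCat.of k))]

include i in
theorem euler_eq_sum (G : X.Modules) :
    (Curv2.euler k X G : ℚ) = (Finset.range (n + 1)).sum fun j => (-1 : ℚ) ^ j *
        (Module.finrank k (Coh.HH X G j) : ℚ) := by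
  haveI := Groth.Agent.Helper4.NApx82.isNoetherian_of_proper k X
  have h := eulerCharLE_eq_chi k n (dim_le k i) G
  have h2 : Curv2.euler k X G = FGA.eulerCharLE k X G n := h.symm
  rw [h2]
  unfold FGA.eulerCharLE
  push_cast
  rfl

theorem exists_poly_int (hi : i ≫ CohB1.ProjSpace.toSpec n k = X ↘ Spec (CommRingCat.of k))
    (E : X.Modules) (hE : Coh.IsCoh E) :
    ∃ P : ℚ[X], ∀ m : ℤ, (Curv2.euler k X (Pic13.twistOn k i E m) : ℚ) = P.eval (m : ℚ) := by
  obtain ⟨P, hP⟩ := Groth.Agent.S2426.result k n X i hi E hE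
  refine ⟨P, fun m => ?_⟩
  rw [← hP m, euler_eq_sum k i]
  refine Finset.sum_congr rfl (fun j _ => ?_)
  rw [length_toNat_eq_finrank]
  rfl

theorem forall_int_of_isHilbPoly
    (hi : i ≫ CohB1.ProjSpace.toSpec n k = X ↘ Spec (CommRingCat.of k))
    (E : X.Modules) (hE : Coh.IsCoh E) (P : ℚ[X]) (h : ShStab.IsHilbPoly k X (LL k i) E P) :
    ∀ m : ℤ, (Curv2.euler k X (Pic13.twistOn k i E m) : ℚ) = P.eval (m : ℚ) := by
  obtain ⟨P', hP'⟩ := exists_poly_int k i hi E hE
  have h' := isHilbPoly_of_forall_int k i E P' hP'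
  have : P' = P := Groth.Agent.Helper5.ShStab1.hilbPoly_unique k h' h
  rw [← this]
  exact hP'

end Proj

end Groth.Agent.Helper5.PnBridge
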