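import Mathlib
import Groth.Agent.Helper2.Dim

set_option autoImplicit false
universe u
open TensorProduct

namespace Groth.Agent.Helper5.DimBC

/-- The Krull dimension of a polynomial ring in `s` variables over a field. -/
theorem dim_mvPolynomial (k : Type*) [Field k] (s : ℕ) :
    ringKrullDim (MvPolynomial (Fin s) k) = s := by
  rw [MvPolynomial.ringKrullDim_of_isNoetherianRing, ringKrullDim_eq_zero_of_field, zero_add,
    Nat.card_fin]

set_option maxHeartbeats 1000000 in
/-- Krull dimension of a finite type algebra over a field is invariant under base field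
extension. -/
theorem ringKrullDim_tensor_field (k K A : Type u) [Field k] [Field K] [Algebra k K] [CommRing A]
    [Algebra k A] [Algebra.FiniteType k A] :
    ringKrullDim (A ⊗[k] K) = ringKrullDim A := by
  rcases subsingleton_or_nontrivial A with hA | hA
  · have : Subsingleton (A ⊗[k] K) := by
      refine ⟨fun a b => ?_⟩
      have h0 : ∀ x : A ⊗[k] K, x = 0 := by
        intro x
        induction x using TensorProduct.induction_on with
        | zero => rfl
        | tmul a b => rw [Subsingleton.elim a 0, TensorProduct.zero_tmul]
        | add x y hx hy => rw [hx, hy, add_zero]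
      rw [h0 a, h0 b]
    rw [ringKrullDim_eq_bot_of_subsingleton, ringKrullDim_eq_bot_of_subsingleton]
  obtain ⟨s, g, hinj, hfin⟩ := exists_finite_inj_algHom_of_fg k A
  have hint : g.toRingHom.IsIntegral := RingHom.IsIntegral.of_finite hfin
  have hA : ringKrullDim A = s := by
    rw [Groth.Agent.Helper2.Dim.dim_eq_of_integral_injective g.toRingHom hint hinj,
      dim_mvPolynomial]
  rw [hA]
  -- base change
  let P := MvPolynomial (Fin s) k
  algebraize [g.toRingHom]
  have : IsScalarTower k P A := IsScalarTower.of_algebraMap_eq' g.comp_algebraMap.symm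
  have hintA : Algebra.IsIntegral P A := ⟨hint⟩
  let S := P ⊗[k] K
  have hS : ringKrullDim S = s := by
    have e1 : S ≃+* MvPolynomial (Fin s) K :=
      ((Algebra.TensorProduct.comm k P K).toRingEquiv).trans
        (MvPolynomial.algebraTensorAlgEquiv k K).toRingEquiv
    rw [ringKrullDim_eq_of_ringEquiv e1, dim_mvPolynomial]
  have hflat : Module.Flat P S := inferInstance
  have hinj' : Function.Injective (Algebra.TensorProduct.includeLeft : S →ₐ[P] S ⊗[P] A) :=
    Algebra.TensorProduct.includeLeft_injective hinj
  have hintB : Algebra.IsIntegral S (S ⊗[P] A) := inferInstance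
  have hB : ringKrullDim (S ⊗[P] A) = s := by
    rw [← hS]
    refine Groth.Agent.Helper2.Dim.dim_eq_of_integral_injective
      (algebraMap S (S ⊗[P] A)) ?_ ?_
    · exact hintB.isIntegral
    · exact hinj'
  rw [← hB]
  -- `S ⊗[P] A ≃ A ⊗[k] K`
  have e2 : (S ⊗[P] A) ≃+* (A ⊗[k] K) :=
    ((Algebra.TensorProduct.comm P S A).toRingEquiv).trans
      (Algebra.TensorProduct.cancelBaseChange k P P A K).toRingEquiv
  exact (ringKrullDim_eq_of_ringEquiv e2).symm

end Groth.Agent.Helper5.DimBC
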