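import Mathlib
import Groth.Agent.Helper5.DimBC
import Groth.Agent.Helper5.EtDim

set_option autoImplicit false
universe u
open CategoryTheory CategoryTheory.Limits AlgebraicGeometry TensorProduct

namespace Groth.Agent.Helper5.DimBC

theorem dim_le_of_openCover (X : Scheme.{u}) (𝒰 : X.OpenCover) (d : WithBot ℕ∞)
    (h : ∀ i, topologicalKrullDim ↥(𝒰.X i) ≤ d) : topologicalKrullDim ↥X ≤ d := by
  let _ : PartialOrder ↥X := specializationOrder ↥X
  rw [Groth.Agent.Helper5.EtDim.topologicalKrullDim_eq_iSup_coheight]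
  refine iSup_le fun x => ?_
  obtain ⟨y, hy⟩ := 𝒰.covers x
  let _ : PartialOrder ↥(𝒰.X (𝒰.idx x)) := specializationOrder _
  have h1 : ((Order.coheight x : ℕ∞) : WithBot ℕ∞) ≤ topologicalKrullDim ↥(𝒰.X (𝒰.idx x)) := by
    have e : Order.coheight ((𝒰.f (𝒰.idx x)) y) = Order.coheight y :=
      coheight_eq_of_isOpenImmersion _
    rw [hy] at e
    rw [e, Groth.Agent.Helper5.EtDim.topologicalKrullDim_eq_iSup_coheight]
    exact le_iSup (fun z : ↥(𝒰.X (𝒰.idx x)) => ((Order.coheight z : ℕ∞) : WithBot ℕ∞)) y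
  exact h1.trans (h _)

theorem dim_openCover_le (X : Scheme.{u}) (𝒰 : X.OpenCover) (i : 𝒰.I₀) :
    topologicalKrullDim ↥(𝒰.X i) ≤ topologicalKrullDim ↥X :=
  (𝒰.f i).isOpenEmbedding.isInducing.topologicalKrullDim_le

/-- Two schemes with open covers indexed by the same type whose members have the same dimensions
have the same dimension. -/
theorem dim_eq_of_openCovers (X Y : Scheme.{u}) (𝒰 : X.OpenCover) (𝒱 : Y.OpenCover)
    (e : 𝒰.I₀ ≃ 𝒱.I₀)
    (h : ∀ i, topologicalKrullDim ↥(𝒰.X i) = topologicalKrullDim ↥(𝒱.X (e i))) :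
    topologicalKrullDim ↥X = topologicalKrullDim ↥Y := by
  apply le_antisymm
  · exact dim_le_of_openCover X 𝒰 _ fun i => (h i).le.trans (dim_openCover_le Y 𝒱 _)
  · refine dim_le_of_openCover Y 𝒱 _ fun j => ?_
    obtain ⟨i, rfl⟩ := e.surjective j
    exact (h i).ge.trans (dim_openCover_le X 𝒰 _)

end Groth.Agent.Helper5.DimBC

namespace Groth.Agent.Helper5.DimBC

theorem dim_Spec (R : CommRingCat.{u}) : topologicalKrullDim ↥(Spec R) = ringKrullDim R :=
  PrimeSpectrum.topologicalKrullDim_eq_ringKrullDim (R := R)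

set_option maxHeartbeats 1000000 in
theorem dim_pullback_Spec (k K : Type u) [Field k] [Field K] (φ : k →+* K) (R : CommRingCat.{u})
    (w : Spec R ⟶ Spec (CommRingCat.of k)) [LocallyOfFiniteType w] :
    topologicalKrullDim ↥(pullback w (Spec.map (CommRingCat.ofHom φ))) =
      topologicalKrullDim ↥(Spec R) := by
  obtain ⟨ψ, rfl⟩ := Spec.map_surjective w
  have hft : ψ.hom.FiniteType := (HasRingHomProperty.Spec_iff (P := @LocallyOfFiniteType)).1 ‹_›
  algebraize [ψ.hom, φ]
  let e := pullbackSpecIso k R K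
  have h1 : topologicalKrullDim ↥(pullback (Spec.map ψ) (Spec.map (CommRingCat.ofHom φ))) =
      topologicalKrullDim ↥(Spec (CommRingCat.of (TensorProduct k R K))) :=
    IsHomeomorph.topologicalKrullDim_eq _ e.hom.homeomorph.isHomeomorph
  rw [h1, dim_Spec, dim_Spec]
  exact ringKrullDim_tensor_field k K R

set_option maxHeartbeats 1000000 in
/-- Dimension of a scheme locally of finite type over a field is invariant under extension of the
base field. -/
theorem dim_pullback_field {Z : Scheme.{u}} (k K : Type u) [Field k] [Field K] (φ : k →+* K)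
    (h : Z ⟶ Spec (CommRingCat.of k)) [LocallyOfFiniteType h] :
    topologicalKrullDim ↥(pullback h (Spec.map (CommRingCat.ofHom φ))) =
      topologicalKrullDim ↥Z := by
  let g := Spec.map (CommRingCat.ofHom φ)
  refine (dim_eq_of_openCovers Z (pullback h g) Z.affineOpenCover.openCover
    (Scheme.Pullback.openCoverOfLeft Z.affineOpenCover.openCover h g) (Equiv.refl _)
    fun i => ?_).symm
  have hoi : IsOpenImmersion (Z.affineOpenCover.openCover.f i) :=
    Z.affineOpenCover.openCover.map_prop i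
  have : LocallyOfFiniteType (Z.affineOpenCover.openCover.f i ≫ h) := inferInstance
  exact (@dim_pullback_Spec k K _ _ φ (Z.affineOpenCover.X i)
    (Z.affineOpenCover.openCover.f i ≫ h) this).symm

end Groth.Agent.Helper5.DimBC
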