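import Mathlib

set_option autoImplicit false
universe u

namespace Groth.Agent.Helper5.ConsLc

open TopologicalSpace Topology Set

/-- in a Noetherian space every set is retrocompact -/
theorem isRetrocompact_of_noeth {Y : Type*} [TopologicalSpace Y] [NoetherianSpace Y] (s : Set Y) :
    IsRetrocompact s := fun _ _ _ => NoetherianSpace.isCompact _

/-- in a Noetherian space open sets are constructible -/
theorem isConstructible_of_isOpen_noeth {Y : Type*} [TopologicalSpace Y] [NoetherianSpace Y]
    {s : Set Y} (hs : IsOpen s) : IsConstructible s :=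
  (isRetrocompact_of_noeth s).isConstructible hs

/-- in a Noetherian space closed sets are constructible -/
theorem isConstructible_of_isClosed_noeth {Y : Type*} [TopologicalSpace Y] [NoetherianSpace Y]
    {s : Set Y} (hs : IsClosed s) : IsConstructible s := by
  rw [← isConstructible_compl]
  exact isConstructible_of_isOpen_noeth hs.isOpen_compl

/-- Noetherian induction: a subset of a Noetherian space that is generically decided on every
irreducible closed subset is constructible. -/
theorem isConstructible_of_noeth {Y : Type*} [TopologicalSpace Y] [NoetherianSpace Y] (E : Set Y)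
    (H : ∀ Z : Set Y, IsClosed Z → IsIrreducible Z →
      ∃ O : Set Y, IsOpen O ∧ (Z ∩ O).Nonempty ∧ (Z ∩ O ⊆ E ∨ Z ∩ O ⊆ Eᶜ)) :
    IsConstructible E := by
  suffices hQ : ∀ Z : Closeds Y, IsConstructible (E ∩ (Z : Set Y)) by
    have := hQ ⊤
    simpa using this
  intro Z
  induction Z using WellFoundedLT.induction with
  | ind Z ih =>
  by_cases hne : (Z : Set Y).Nonempty
  swap
  · rw [Set.not_nonempty_iff_eq_empty] at hne
    rw [hne, Set.inter_empty]
    exact IsConstructible.empty
  by_cases hirr : IsPreirreducible (Z : Set Y)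
  · have hZirr : IsIrreducible (Z : Set Y) := ⟨hne, hirr⟩
    obtain ⟨O, hO, hWne, hW⟩ := H Z Z.isClosed hZirr
    let Z' : Closeds Y := ⟨(Z : Set Y) ∩ Oᶜ, Z.isClosed.inter hO.isClosed_compl⟩
    have hZ'lt : Z' < Z := by
      refine lt_of_le_of_ne (fun y hy => hy.1) ?_
      intro heq
      obtain ⟨w, hwZ, hwO⟩ := hWne
      have : w ∈ (Z' : Set Y) := by rw [heq]; exact hwZ
      exact this.2 hwO
    have h1 := ih Z' hZ'lt
    have hZO : IsConstructible ((Z : Set Y) ∩ O) :=
      (isConstructible_of_isClosed_noeth Z.isClosed).inter (isConstructible_of_isOpen_noeth hO)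
    have hsplit : E ∩ (Z : Set Y) = (E ∩ (Z' : Set Y)) ∪ (E ∩ ((Z : Set Y) ∩ O)) := by
      ext y
      constructor
      · rintro ⟨hyE, hyZ⟩
        by_cases hyO : y ∈ O
        · exact Or.inr ⟨hyE, hyZ, hyO⟩
        · exact Or.inl ⟨hyE, hyZ, hyO⟩
      · rintro (⟨hyE, hyZ, -⟩ | ⟨hyE, hyZ, -⟩)
        · exact ⟨hyE, hyZ⟩
        · exact ⟨hyE, hyZ⟩
    rw [hsplit]
    refine h1.union ?_
    rcases hW with hW | hW
    · rw [Set.inter_eq_right.mpr hW]
      exact hZO
    · have : E ∩ ((Z : Set Y) ∩ O) = ∅ := by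
        ext y
        simp only [Set.mem_inter_iff, Set.mem_empty_iff_false, iff_false]
        rintro ⟨hyE, hy⟩
        exact hW hy hyE
      rw [this]
      exact IsConstructible.empty
  · rw [isPreirreducible_iff_isClosed_union_isClosed] at hirr
    push_neg at hirr
    obtain ⟨z₁, z₂, hz₁, hz₂, hsub, hn₁, hn₂⟩ := hirr
    let Z₁ : Closeds Y := ⟨(Z : Set Y) ∩ z₁, Z.isClosed.inter hz₁⟩
    let Z₂ : Closeds Y := ⟨(Z : Set Y) ∩ z₂, Z.isClosed.inter hz₂⟩
    have hlt₁ : Z₁ < Z := by
      refine lt_of_le_of_ne (fun y hy => hy.1) ?_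
      intro heq
      apply hn₁
      intro y hy
      have : y ∈ (Z₁ : Set Y) := by rw [heq]; exact hy
      exact this.2
    have hlt₂ : Z₂ < Z := by
      refine lt_of_le_of_ne (fun y hy => hy.1) ?_
      intro heq
      apply hn₂
      intro y hy
      have : y ∈ (Z₂ : Set Y) := by rw [heq]; exact hy
      exact this.2
    have h1 := ih Z₁ hlt₁
    have h2 := ih Z₂ hlt₂
    have hsplit : E ∩ (Z : Set Y) = (E ∩ (Z₁ : Set Y)) ∪ (E ∩ (Z₂ : Set Y)) := by
      ext y
      constructor
      · rintro ⟨hyE, hyZ⟩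
        rcases hsub hyZ with h | h
        · exact Or.inl ⟨hyE, hyZ, h⟩
        · exact Or.inr ⟨hyE, hyZ, h⟩
      · rintro (⟨hyE, hyZ, -⟩ | ⟨hyE, hyZ, -⟩)
        · exact ⟨hyE, hyZ⟩
        · exact ⟨hyE, hyZ⟩
    rw [hsplit]
    exact h1.union h2

/-- ind-constructible version: a subset of a Noetherian `T0` space containing, with the generic
point of an irreducible closed subset, a nonempty open part of it, is a union of constructible
sets. -/
theorem exists_constructible_cover_of_noeth {Y : Type*} [TopologicalSpace Y] [NoetherianSpace Y]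
    [T0Space Y] (E : Set Y)
    (H : ∀ Z : Set Y, IsClosed Z → IsIrreducible Z → (∀ z, IsGenericPoint z Z → z ∈ E) →
      ∃ O : Set Y, IsOpen O ∧ (Z ∩ O).Nonempty ∧ Z ∩ O ⊆ E) :
    ∃ 𝒮 : Set (Set Y), (∀ T ∈ 𝒮, IsConstructible T) ∧ E = ⋃₀ 𝒮 := by
  refine ⟨{T | IsConstructible T ∧ T ⊆ E}, fun T hT => hT.1, ?_⟩
  apply Set.Subset.antisymm
  · intro x hx
    have hirr : IsIrreducible (closure ({x} : Set Y)) := isIrreducible_singleton.closure
    obtain ⟨O, hO, ⟨w, hwZ, hwO⟩, hsub⟩ := H (closure {x}) isClosed_closure hirr (by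
      intro z hz
      have : z = x := hz.eq (isGenericPoint_closure)
      rw [this]; exact hx)
    have hxO : x ∈ O := by
      have hsp : x ⤳ w := specializes_iff_mem_closure.mpr hwZ
      exact hsp.mem_open hO hwO
    refine ⟨closure {x} ∩ O, ⟨?_, hsub⟩, subset_closure rfl, hxO⟩
    exact (isConstructible_of_isClosed_noeth isClosed_closure).inter
      (isConstructible_of_isOpen_noeth hO)
  · rintro x ⟨T, ⟨-, hT⟩, hxT⟩
    exact hT hxT

end Groth.Agent.Helper5.ConsLc
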