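import Mathlib
import Groth.Prelude.Def_EGA4Misc
import Groth.Prelude.Def_MoreMor

set_option autoImplicit false
universe u

namespace Groth.Agent.Helper5.ConsPr

open CategoryTheory CategoryTheory.Limits AlgebraicGeometry TopologicalSpace Topology

instance subsingleton_spec_residueField {Y : Scheme.{u}} (y : Y) :
    Subsingleton ↥(Spec (Y.residueField y)) :=
  inferInstanceAs (Subsingleton (PrimeSpectrum (Y.residueField y)))

instance lft_fiberToSpec {X Y : Scheme.{u}} (f : X ⟶ Y) [LocallyOfFiniteType f] (y : Y) :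
    LocallyOfFiniteType (f.fiberToSpecResidueField y) :=
  inferInstanceAs (LocallyOfFiniteType (pullback.snd f (Y.fromSpecResidueField y)))

instance qc_fiberToSpec {X Y : Scheme.{u}} (f : X ⟶ Y) [QuasiCompact f] (y : Y) :
    QuasiCompact (f.fiberToSpecResidueField y) :=
  inferInstanceAs (QuasiCompact (pullback.snd f (Y.fromSpecResidueField y)))

/-- a field-stable relation takes the same value on the fibres of a base change -/
theorem fibre_iff_of_isPullback {P : ∀ ⦃Y T : Scheme.{u}⦄, (Y ⟶ T) → Prop}
    (hP : ConsProp.IsFieldStable P)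
    {X' X Y' Y : Scheme.{u}} {e : X' ⟶ X} {f' : X' ⟶ Y'} {f : X ⟶ Y} {g : Y' ⟶ Y}
    (sq : IsPullback e f' f g) [LocallyOfFiniteType f] [QuasiCompact f] (y' : Y') :
    P (f'.fiberToSpecResidueField y') ↔ P (f.fiberToSpecResidueField (g y')) :=
  (hP (f.fiberToSpecResidueField (g y')) (f'.fiberToSpecResidueField y') _
    (Spec.map (g.residueFieldMap y'))
    (isPullback_fiberToSpecResidueField_of_isPullback sq y')).symm

/-- the locus of a field-stable relation is compatible with base change -/
theorem locus_of_isPullback {P : ∀ ⦃Y T : Scheme.{u}⦄, (Y ⟶ T) → Prop}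
    (hP : ConsProp.IsFieldStable P)
    {X' X Y' Y : Scheme.{u}} {e : X' ⟶ X} {f' : X' ⟶ Y'} {f : X ⟶ Y} {g : Y' ⟶ Y}
    (sq : IsPullback e f' f g) [LocallyOfFiniteType f] [QuasiCompact f] :
    ConsProp.locus P f' = g ⁻¹' ConsProp.locus P f := by
  ext y'
  exact fibre_iff_of_isPullback hP sq y'

/-- the fibre map is the base change of `f` along the inclusion of the fibre -/
theorem isPullback_fiberMap {X Y S : Scheme.{u}} (f : X ⟶ Y) (g : Y ⟶ S) (s : S) :
    IsPullback ((f ≫ g).fiberι s) (MoreMor.fiberMap f g s) f (g.fiberι s) := by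
  have h2 : MoreMor.fiberMap f g s ≫ g.fiberToSpecResidueField s =
      (f ≫ g).fiberToSpecResidueField s := pullback.lift_snd _ _ _
  refine IsPullback.of_bot (v₂₁ := g.fiberToSpecResidueField s) (v₂₂ := g)
    (h₃₁ := S.fromSpecResidueField s) ?_ ?_
    (IsPullback.of_hasPullback g (S.fromSpecResidueField s))
  · rw [h2]
    exact IsPullback.of_hasPullback (f ≫ g) (S.fromSpecResidueField s)
  · exact (pullback.lift_fst _ _ _).symm

end Groth.Agent.Helper5.ConsPr
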