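import Mathlib
import Groth.Prelude.Def_EGA4Misc
import Groth.Prelude.Def_MoreMor
import Groth.Prelude.Def_W4ega4s0809p4Pair
import Groth.Agent.Helper5.ConsPr1

set_option autoImplicit false
universe u

namespace Groth.Agent.Helper5.ConsLc

open CategoryTheory CategoryTheory.Limits AlgebraicGeometry TopologicalSpace Topology
open Groth.Agent.Helper5.ConsPr

/-- the locus of a field-stable relation on pairs is compatible with base change -/
theorem locusPair_of_isPullback {P : ∀ ⦃X Y T : Scheme.{u}⦄, (X ⟶ T) → (Y ⟶ T) → Prop}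
    (hP : ConsPropPair.IsFieldStablePair P)
    {X' X Y' Y S' S : Scheme.{u}} {eX : X' ⟶ X} {u' : X' ⟶ S'} {u : X ⟶ S}
    {eY : Y' ⟶ Y} {v' : Y' ⟶ S'} {v : Y ⟶ S} {h : S' ⟶ S}
    (sqX : IsPullback eX u' u h) (sqY : IsPullback eY v' v h)
    [LocallyOfFiniteType u] [QuasiCompact u] [LocallyOfFiniteType v] [QuasiCompact v] :
    ConsPropPair.locusPair P u' v' = h ⁻¹' ConsPropPair.locusPair P u v := by
  ext s'
  exact (hP (u.fiberToSpecResidueField (h s')) (v.fiberToSpecResidueField (h s'))
    (u'.fiberToSpecResidueField s') (v'.fiberToSpecResidueField s') _ _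
    (Spec.map (h.residueFieldMap s'))
    (isPullback_fiberToSpecResidueField_of_isPullback sqX s')
    (isPullback_fiberToSpecResidueField_of_isPullback sqY s')).symm

set_option backward.isDefEq.respectTransparency false in
/-- the locus of a field-stable relation on morphisms is compatible with base change -/
theorem locusMor_of_isPullback {P : ∀ ⦃X Y T : Scheme.{u}⦄, (X ⟶ Y) → (Y ⟶ T) → Prop}
    (hP : ConsProp.IsFieldStableMor P)
    {X' X Y' Y S' S : Scheme.{u}} {eX : X' ⟶ X} {f' : X' ⟶ Y'} {f : X ⟶ Y}
    {eY : Y' ⟶ Y} {g' : Y' ⟶ S'} {g : Y ⟶ S} {h : S' ⟶ S}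
    (sqY : IsPullback eY g' g h) (sqX : IsPullback eX f' f eY)
    [LocallyOfFiniteType g] [QuasiCompact g] [LocallyOfFiniteType (f ≫ g)] [QuasiCompact (f ≫ g)] :
    ConsProp.locusMor P f' g' = h ⁻¹' ConsProp.locusMor P f g := by
  ext s'
  have sqXS : IsPullback eX (f' ≫ g') (f ≫ g) h := sqX.paste_vert sqY
  have hY := isPullback_fiberToSpecResidueField_of_isPullback sqY s'
  have hXS := isPullback_fiberToSpecResidueField_of_isPullback sqXS s'
  have h2 : MoreMor.fiberMap f g (h s') ≫ g.fiberToSpecResidueField (h s') =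
      (f ≫ g).fiberToSpecResidueField (h s') := pullback.lift_snd _ _ _
  have h2' : MoreMor.fiberMap f' g' s' ≫ g'.fiberToSpecResidueField s' =
      (f' ≫ g').fiberToSpecResidueField s' := pullback.lift_snd _ _ _
  have h1 : MoreMor.fiberMap f g (h s') ≫ g.fiberι (h s') = (f ≫ g).fiberι (h s') ≫ f :=
    pullback.lift_fst _ _ _
  have h1' : MoreMor.fiberMap f' g' s' ≫ g'.fiberι s' = (f' ≫ g').fiberι s' ≫ f' :=
    pullback.lift_fst _ _ _
  have hsq : IsPullback
      (pullback.map _ _ _ _ eX (Spec.map (h.residueFieldMap s')) h sqXS.w.symm (by simp))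
      (MoreMor.fiberMap f' g' s') (MoreMor.fiberMap f g (h s'))
      (pullback.map _ _ _ _ eY (Spec.map (h.residueFieldMap s')) h sqY.w.symm (by simp)) := by
    refine IsPullback.of_bot (v₂₁ := g'.fiberToSpecResidueField s')
      (v₂₂ := g.fiberToSpecResidueField (h s')) (h₃₁ := Spec.map (h.residueFieldMap s')) ?_ ?_ hY
    · rw [h2, h2']
      exact hXS
    · have key : pullback.map (f' ≫ g') (S'.fromSpecResidueField s') (f ≫ g)
            (S.fromSpecResidueField (h s')) eX (Spec.map (h.residueFieldMap s')) h sqXS.w.symm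
            (by simp) ≫
          pullback.lift (pullback.fst (f ≫ g) (S.fromSpecResidueField (h s')) ≫ f)
            (pullback.snd (f ≫ g) (S.fromSpecResidueField (h s')))
            (by rw [Category.assoc]; exact pullback.condition) =
          pullback.lift (pullback.fst (f' ≫ g') (S'.fromSpecResidueField s') ≫ f')
            (pullback.snd (f' ≫ g') (S'.fromSpecResidueField s'))
            (by rw [Category.assoc]; exact pullback.condition) ≫
          pullback.map g' (S'.fromSpecResidueField s') g (S.fromSpecResidueField (h s')) eY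
            (Spec.map (h.residueFieldMap s')) h sqY.w.symm (by simp) := by
        apply pullback.hom_ext
        · simp [sqX.w]
        · simp
      exact key
  have hlft : LocallyOfFiniteType (MoreMor.fiberMap f g (h s') ≫ g.fiberToSpecResidueField (h s')) := by
    rw [h2]; infer_instance
  have hqc : QuasiCompact (MoreMor.fiberMap f g (h s') ≫ g.fiberToSpecResidueField (h s')) := by
    rw [h2]; infer_instance
  exact (hP (MoreMor.fiberMap f g (h s')) (g.fiberToSpecResidueField (h s'))
    (MoreMor.fiberMap f' g' s') (g'.fiberToSpecResidueField s') _ _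
    (Spec.map (h.residueFieldMap s')) hY hsq).symm

end Groth.Agent.Helper5.ConsLc
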