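import Mathlib
import Groth.Agent.Helper5.DimBC

set_option autoImplicit false
universe u
open TensorProduct

namespace Groth.Agent.Helper5.BCMin

/-- `FractionRing A` is flat over a domain `P` over which the domain `A` is a faithful algebra. -/
theorem flat_fractionRing (P A : Type*) [CommRing P] [IsDomain P] [CommRing A] [IsDomain A]
    [Algebra P A] [FaithfulSMul P A] : Module.Flat P (FractionRing A) := by
  have hinj : Function.Injective (algebraMap P (FractionRing A)) := by
    rw [IsScalarTower.algebraMap_eq P A (FractionRing A)]
    exact (IsFractionRing.injective A (FractionRing A)).comp (FaithfulSMul.algebraMap_injective P A)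
  have : FaithfulSMul P (FractionRing A) := (faithfulSMul_iff_algebraMap_injective _ _).2 hinj
  let _ : Algebra (FractionRing P) (FractionRing A) := FractionRing.liftAlgebra P (FractionRing A)
  have : IsScalarTower P (FractionRing P) (FractionRing A) :=
    FractionRing.isScalarTower_liftAlgebra P (FractionRing A)
  exact Module.Flat.trans P (FractionRing P) (FractionRing A)

/-- Torsion-freeness of `S ⊗[P] A` over `S` for `S` a flat domain over the domain `P` and `A` a
domain which is a faithful `P`-algebra. -/
theorem eq_zero_of_smul_eq_zero {P S A : Type*} [CommRing P] [IsDomain P] [CommRing S] [IsDomain S]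
    [Algebra P S] [Module.Flat P S] [CommRing A] [IsDomain A] [Algebra P A] [FaithfulSMul P A]
    (d : S) (hd : d ≠ 0) (c : S ⊗[P] A) (h : d • c = 0) : c = 0 := by
  have hL : Module.Flat P (FractionRing A) := flat_fractionRing P A
  let j : A →ₗ[P] FractionRing A := (IsScalarTower.toAlgHom P A (FractionRing A)).toLinearMap
  have hj : Function.Injective j := IsFractionRing.injective A (FractionRing A)
  let J : S ⊗[P] A →ₗ[P] S ⊗[P] FractionRing A := LinearMap.lTensor S j
  have hJ : Function.Injective J := Module.Flat.lTensor_preserves_injective_linearMap j hj
  let m : S →ₗ[P] S := LinearMap.mulLeft P d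
  have hm : Function.Injective m := fun a b hab => mul_left_cancel₀ hd hab
  let M : S ⊗[P] FractionRing A →ₗ[P] S ⊗[P] FractionRing A := LinearMap.rTensor _ m
  have hM : Function.Injective M := Module.Flat.rTensor_preserves_injective_linearMap m hm
  have key : ∀ x : S ⊗[P] A, M (J x) = J (d • x) := by
    intro x
    induction x using TensorProduct.induction_on with
    | zero => simp
    | tmul s a => simp [M, J, m, TensorProduct.smul_tmul']
    | add x y hx hy => simp only [map_add, smul_add, hx, hy]
  apply hJ
  apply hM
  rw [key, h]
  simp

end Groth.Agent.Helper5.BCMin
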