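import Mathlib
import Groth.Agent.Helper5.BCMin1

set_option autoImplicit false
universe u
open TensorProduct

namespace Groth.Agent.Helper5.BCMin

/-- Transfer of a minimal prime along a ring isomorphism. -/
theorem transfer_minimalPrime {B C : Type*} [CommRing B] [CommRing C] (e : B ≃+* C) (Q : Ideal C)
    (hQ : Q ∈ minimalPrimes C) :
    ∃ Q' : Ideal B, Q' ∈ minimalPrimes B ∧ ringKrullDim (B ⧸ Q') = ringKrullDim (C ⧸ Q) ∧
      ∀ b, b ∈ Q' ↔ e b ∈ Q := by
  let f2 : B →+* C := e.toRingHom
  have hf2s : Function.Surjective f2 := e.surjective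
  have hf2i : Function.Injective f2 := e.injective
  refine ⟨Q.comap f2, ?_, ?_, fun b => Iff.rfl⟩
  · have h1 := Ideal.minimalPrimes_comap_of_surjective hf2s hQ
    have h2 : (⊥ : Ideal C).comap f2 = ⊥ := by
      rw [← RingHom.ker_eq_comap_bot]
      exact (RingHom.injective_iff_ker_eq_bot _).1 hf2i
    rw [h2] at h1
    exact h1
  · have hmap : Q = (Q.comap f2).map (e : B →+* C) :=
      (Ideal.map_comap_of_surjective f2 hf2s Q).symm
    exact ringKrullDim_eq_of_ringEquiv (Ideal.quotientEquiv (Q.comap f2) Q e hmap)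

/-- Abstract form: `S` a flat domain over the domain `P`, `A` a domain integral and faithful over
`P`; then the quotient of `S ⊗[P] A` by a minimal prime has the dimension of `S`. -/
theorem dim_quotient_minimalPrime_abstract {P S A : Type*} [CommRing P] [IsDomain P] [CommRing S]
    [IsDomain S] [Algebra P S] [Module.Flat P S] [CommRing A] [IsDomain A] [Algebra P A]
    [FaithfulSMul P A] [Algebra.IsIntegral P A] (Q' : Ideal (S ⊗[P] A))
    (hQ' : Q' ∈ minimalPrimes (S ⊗[P] A)) :
    ringKrullDim ((S ⊗[P] A) ⧸ Q') = ringKrullDim S := by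
  have hintB : Algebra.IsIntegral S (S ⊗[P] A) := inferInstance
  have hprime : Q'.IsPrime := hQ'.1.1
  have hcontr : ∀ d : S, algebraMap S (S ⊗[P] A) d ∈ Q' → d = 0 := by
    intro d hd
    by_contra hne
    have hnzd : algebraMap S (S ⊗[P] A) d ∈ nonZeroDivisors (S ⊗[P] A) := by
      rw [mem_nonZeroDivisors_iff_right]
      intro c hc
      apply eq_zero_of_smul_eq_zero d hne c
      rw [Algebra.smul_def, mul_comm]
      exact hc
    exact Set.disjoint_left.1 (Ideal.disjoint_nonZeroDivisors_of_mem_minimalPrimes hQ') hd hnzd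
  let ψ : S →+* (S ⊗[P] A) ⧸ Q' := (Ideal.Quotient.mk Q').comp (algebraMap S (S ⊗[P] A))
  have hψint : ψ.IsIntegral := by
    refine RingHom.IsIntegral.trans _ _ hintB.isIntegral ?_
    exact RingHom.isIntegral_of_surjective _ Ideal.Quotient.mk_surjective
  have hψinj : Function.Injective ψ := by
    rw [injective_iff_map_eq_zero]
    intro d hd
    apply hcontr d
    exact Ideal.Quotient.eq_zero_iff_mem.1 hd
  exact Groth.Agent.Helper2.Dim.dim_eq_of_integral_injective ψ hψint hψinj

open Groth.Agent.Helper5.DimBC in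
set_option maxHeartbeats 1000000 in
/-- For a finite type domain `A` over a field `k` and a field extension `K`, every minimal prime
`Q` of `A ⊗[k] K` satisfies `dim (A ⊗[k] K)/Q = dim A`. -/
theorem dim_quotient_of_mem_minimalPrimes (k K A : Type u) [Field k] [Field K] [Algebra k K]
    [CommRing A] [IsDomain A] [Algebra k A] [Algebra.FiniteType k A] (Q : Ideal (A ⊗[k] K))
    (hQ : Q ∈ minimalPrimes (A ⊗[k] K)) :
    ringKrullDim ((A ⊗[k] K) ⧸ Q) = ringKrullDim A := by
  obtain ⟨s, g, hinj, hfin⟩ := exists_finite_inj_algHom_of_fg k A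
  have hint : g.toRingHom.IsIntegral := RingHom.IsIntegral.of_finite hfin
  have hA : ringKrullDim A = s := by
    rw [Groth.Agent.Helper2.Dim.dim_eq_of_integral_injective g.toRingHom hint hinj,
      dim_mvPolynomial]
  rw [hA]
  algebraize [g.toRingHom]
  have : IsScalarTower k (MvPolynomial (Fin s) k) A :=
    IsScalarTower.of_algebraMap_eq' g.comp_algebraMap.symm
  have hintA : Algebra.IsIntegral (MvPolynomial (Fin s) k) A := ⟨hint⟩
  have hfaith : FaithfulSMul (MvPolynomial (Fin s) k) A :=
    (faithfulSMul_iff_algebraMap_injective _ A).2 hinj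
  let e1 : (MvPolynomial (Fin s) k ⊗[k] K) ≃+* MvPolynomial (Fin s) K :=
    ((Algebra.TensorProduct.comm k (MvPolynomial (Fin s) k) K).toRingEquiv).trans
      (MvPolynomial.algebraTensorAlgEquiv k K).toRingEquiv
  have hSdom : IsDomain (MvPolynomial (Fin s) k ⊗[k] K) :=
    MulEquiv.isDomain (MvPolynomial (Fin s) K) e1.toMulEquiv
  have hS : ringKrullDim (MvPolynomial (Fin s) k ⊗[k] K) = s := by
    rw [ringKrullDim_eq_of_ringEquiv e1, dim_mvPolynomial]
  have hflat : Module.Flat (MvPolynomial (Fin s) k) (MvPolynomial (Fin s) k ⊗[k] K) :=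
    inferInstance
  let e2 : ((MvPolynomial (Fin s) k ⊗[k] K) ⊗[MvPolynomial (Fin s) k] A) ≃+* (A ⊗[k] K) :=
    ((Algebra.TensorProduct.comm (MvPolynomial (Fin s) k) (MvPolynomial (Fin s) k ⊗[k] K)
      A).toRingEquiv).trans
      (Algebra.TensorProduct.cancelBaseChange k (MvPolynomial (Fin s) k)
        (MvPolynomial (Fin s) k) A K).toRingEquiv
  obtain ⟨Q', hQ', hdimQ', -⟩ := transfer_minimalPrime
    (B := (MvPolynomial (Fin s) k ⊗[k] K) ⊗[MvPolynomial (Fin s) k] A) (C := A ⊗[k] K) e2 Q hQ
  rw [← hdimQ', dim_quotient_minimalPrime_abstract Q' hQ', hS]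

end Groth.Agent.Helper5.BCMin
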