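import Mathlib
import Groth.Agent.Helper5.BCMin2

set_option autoImplicit false
universe u
open TensorProduct

namespace Groth.Agent.Helper5.BCMin

/-- Transfer of a minimal prime along a surjection whose kernel it contains. -/
theorem transfer_minimalPrime_surj {B C : Type*} [CommRing B] [CommRing C] (Ψ : B →+* C)
    (hΨ : Function.Surjective Ψ) (Q : Ideal B) (hQ : Q ∈ minimalPrimes B)
    (hker : RingHom.ker Ψ ≤ Q) :
    ∃ Qb : Ideal C, Qb ∈ minimalPrimes C ∧ ringKrullDim (C ⧸ Qb) = ringKrullDim (B ⧸ Q) := by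
  have hprime : Q.IsPrime := hQ.1.1
  have hcomap : (Q.map Ψ).comap Ψ = Q := by
    rw [Ideal.comap_map_of_surjective' Ψ hΨ]
    exact sup_eq_left.2 hker
  have hQbprime : (Q.map Ψ).IsPrime := Ideal.map_isPrime_of_surjective hΨ hker
  refine ⟨Q.map Ψ, ⟨⟨hQbprime, bot_le⟩, ?_⟩, ?_⟩
  · rintro J ⟨hJ, -⟩ hJle
    have h1 : J.comap Ψ ≤ Q := by
      rw [← hcomap]
      exact Ideal.comap_mono hJle
    have h2 : Q ≤ J.comap Ψ := hQ.2 ⟨Ideal.comap_isPrime Ψ J, bot_le⟩ h1
    calc Q.map Ψ ≤ (J.comap Ψ).map Ψ := Ideal.map_mono h2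
      _ = J := Ideal.map_comap_of_surjective Ψ hΨ J
  · let φ : B →+* C ⧸ Q.map Ψ := (Ideal.Quotient.mk (Q.map Ψ)).comp Ψ
    have hφ : Function.Surjective φ := Ideal.Quotient.mk_surjective.comp hΨ
    have hkerφ : RingHom.ker φ = Q := by
      rw [← RingHom.comap_ker, Ideal.mk_ker, hcomap]
    have e1 : (B ⧸ RingHom.ker φ) ≃+* (C ⧸ Q.map Ψ) := RingHom.quotientKerEquivOfSurjective hφ
    have e2 : (B ⧸ RingHom.ker φ) ≃+* (B ⧸ Q) := Ideal.quotEquivOfEq hkerφ
    rw [← ringKrullDim_eq_of_ringEquiv e1, ringKrullDim_eq_of_ringEquiv e2]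

set_option maxHeartbeats 1000000 in
/-- For a finite type algebra `A` over a field `k` and a field extension `K`, every minimal prime
`Q` of `A ⊗[k] K`, with contraction `q` to `A`, satisfies `dim (A ⊗[k] K)/Q = dim A/q`. -/
theorem dim_quotient_of_mem_minimalPrimes' (k K A : Type u) [Field k] [Field K] [Algebra k K]
    [CommRing A] [Algebra k A] [Algebra.FiniteType k A] (Q : Ideal (A ⊗[k] K))
    (hQ : Q ∈ minimalPrimes (A ⊗[k] K)) (q : Ideal A)
    (hq : q = Q.comap (Algebra.TensorProduct.includeLeft : A →ₐ[k] A ⊗[k] K).toRingHom) :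
    ringKrullDim ((A ⊗[k] K) ⧸ Q) = ringKrullDim (A ⧸ q) := by
  have hprime : Q.IsPrime := hQ.1.1
  have hqprime : q.IsPrime := by rw [hq]; exact Ideal.comap_isPrime _ _
  let f : A →ₐ[k] A ⧸ q := Ideal.Quotient.mkₐ k q
  have hf : Function.Surjective f := Ideal.Quotient.mkₐ_surjective k q
  have hft : Algebra.FiniteType k (A ⧸ q) := Algebra.FiniteType.of_surjective f hf
  let Ψ : A ⊗[k] K →ₐ[k] (A ⧸ q) ⊗[k] K := Algebra.TensorProduct.map f (AlgHom.id k K)
  have hΨ : Function.Surjective Ψ :=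
    Algebra.TensorProduct.map_surjective f (AlgHom.id k K) hf Function.surjective_id
  have hker : RingHom.ker Ψ.toRingHom ≤ Q := by
    have h1 : RingHom.ker Ψ.toRingHom = RingHom.ker Ψ := rfl
    rw [h1, Algebra.TensorProduct.rTensor_ker f hf, Ideal.map_le_iff_le_comap]
    intro a ha
    have ha' : a ∈ q := by
      have : f a = 0 := ha
      exact Ideal.Quotient.eq_zero_iff_mem.1 this
    rw [hq] at ha'
    exact ha'
  obtain ⟨Qb, hQb, hdim⟩ := transfer_minimalPrime_surj (B := A ⊗[k] K) (C := (A ⧸ q) ⊗[k] K)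
    Ψ.toRingHom hΨ Q hQ hker
  rw [← hdim]
  exact dim_quotient_of_mem_minimalPrimes k K (A ⧸ q) Qb hQb

end Groth.Agent.Helper5.BCMin
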