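import Groth.Agent.Helper5.FibDim4

set_option autoImplicit false
universe u
open CategoryTheory CategoryTheory.Limits AlgebraicGeometry Opposite

namespace Groth.Agent.Helper5.FibDim

theorem dim_image_eq {X' X : Type*} [TopologicalSpace X'] [TopologicalSpace X]
    (ι : X' → X) (hι : Topology.IsEmbedding ι) (S : Set X') :
    topologicalKrullDim ↥(ι '' S) = topologicalKrullDim ↥S := by
  have h := dim_range_inter_eq ι hι (ι '' S)
  have e : Set.range ι ∩ ι '' S = ι '' S := Set.inter_eq_right.2 (Set.image_subset_range ι S)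
  rw [Set.preimage_image_eq _ hι.injective, e] at h
  exact h

theorem dim_empty {X : Type*} [TopologicalSpace X] (S : Set X) (hS : S = ∅) :
    topologicalKrullDim ↥S = ⊥ := by
  subst hS
  have : IsEmpty (TopologicalSpace.IrreducibleCloseds ↥(∅ : Set X)) := by
    refine ⟨fun Z => ?_⟩
    obtain ⟨z, -⟩ := Z.isIrreducible.nonempty
    exact z.2
  exact Order.krullDim_eq_bot

theorem dim_subset_le {X : Type*} [TopologicalSpace X] {S T : Set X} (h : S ⊆ T) :
    topologicalKrullDim ↥S ≤ topologicalKrullDim ↥T := by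
  have : Topology.IsInducing (Set.inclusion h) := (Topology.IsEmbedding.inclusion h).isInducing
  exact this.topologicalKrullDim_le

set_option maxHeartbeats 800000 in
/-- Scheme form of the key local statement. -/
theorem scheme_key {X Y : Scheme.{u}} (f : X ⟶ Y) [LocallyOfFiniteType f] (x : ↥X)
    (d : WithBot ℕ∞) (hd : topologicalKrullDim ↥(f ⁻¹' {f x}) ≤ d) :
    ∃ W : Set ↥X, IsOpen W ∧ x ∈ W ∧ ∀ y : ↥Y, topologicalKrullDim ↥(W ∩ f ⁻¹' {y}) ≤ d := by
  obtain ⟨_, ⟨V : Y.Opens, hV, rfl⟩, hxV, -⟩ := Y.isBasis_affineOpens.exists_subset_of_mem_open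
      (Set.mem_univ (f x)) isOpen_univ
  obtain ⟨_, ⟨U : X.Opens, hU, rfl⟩, hxU, hUV⟩ := X.isBasis_affineOpens.exists_subset_of_mem_open
      hxV (f ⁻¹ᵁ V).2
  let φ := f.appLE V U hUV
  have hφ : φ.hom.FiniteType := f.finiteType_appLE hV hU hUV
  let g := Spec.map φ
  let ι := hU.fromSpec
  let j := hV.fromSpec
  have hsq : g ≫ j = ι ≫ f := IsAffineOpen.SpecMap_appLE_fromSpec f hV hU hUV
  have hsq' : ∀ z, j (g z) = f (ι z) := by
    intro z
    rw [← Scheme.Hom.comp_apply, ← Scheme.Hom.comp_apply, hsq]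
  let q : ↥(Spec Γ(X, U)) := hU.primeIdealOf ⟨x, hxU⟩
  have hq : ι q = x := hU.fromSpec_primeIdealOf ⟨x, hxU⟩
  have hιemb : Topology.IsEmbedding ι := ι.isOpenEmbedding.isEmbedding
  have hjinj : Function.Injective j := j.isOpenEmbedding.injective
  algebraize [φ.hom]
  have hft : Algebra.FiniteType ↑Γ(Y, V) ↑Γ(X, U) := hφ
  have hfib : ∀ p' : ↥(Spec Γ(Y, V)), (g ⁻¹' {p'} : Set ↥(Spec Γ(X, U))) =
      ι ⁻¹' (f ⁻¹' {j p'}) := by
    intro p'
    ext z
    show g z = p' ↔ f (ι z) = j p'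
    rw [← hsq' z]
    exact hjinj.eq_iff.symm
  have hd' : topologicalKrullDim ↥(g ⁻¹' {g q}) ≤ d := by
    rw [hfib]
    have e1 : j (g q) = f x := by
      rw [← hq]
      exact hsq' q
    rw [e1]
    have e2 := dim_range_inter_eq (⇑ι) hιemb (f ⁻¹' {f x})
    exact (e2.symm.le.trans (dim_subset_le Set.inter_subset_right)).trans hd
  obtain ⟨W', hW'open, hqW', hW'⟩ : ∃ W' : Set ↥(Spec Γ(X, U)), IsOpen W' ∧ q ∈ W' ∧
      ∀ p' : ↥(Spec Γ(Y, V)), topologicalKrullDim ↥(W' ∩ g ⁻¹' {p'}) ≤ d :=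
    primeSpectrum_key (R := ↑Γ(Y, V)) (A := ↑Γ(X, U)) q d hd'
  refine ⟨ι '' W', ι.isOpenEmbedding.isOpenMap _ hW'open, ⟨q, hqW', hq⟩, fun y => ?_⟩
  by_cases hy : y ∈ Set.range j
  · obtain ⟨p', rfl⟩ := hy
    have : ι '' W' ∩ f ⁻¹' {j p'} = ι '' (W' ∩ g ⁻¹' {p'}) := by
      rw [hfib, Set.image_inter_preimage]
    rw [this, dim_image_eq ι hιemb]
    exact hW' p'
  · rw [dim_empty]
    · exact bot_le
    · ext w
      simp only [Set.mem_inter_iff, Set.mem_image, Set.mem_preimage, Set.mem_singleton_iff,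
        Set.mem_empty_iff_false, iff_false, not_and]
      rintro ⟨z, -, rfl⟩ hfw
      exact hy ⟨g z, (hsq' z).trans hfw⟩

end Groth.Agent.Helper5.FibDim
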