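import Groth.Agent.Helper5.FtDim5
import Groth.Agent.Helper5.EtDim

set_option autoImplicit false
universe u
open AlgebraicGeometry

namespace Groth.Agent.Helper5.FtDim

/-- Dimension of an open subset of a prime spectrum: supremum of the heights of its points. -/
theorem dim_open_eq_iSup_height (B : Type u) [CommRing B]
    (W : Set (PrimeSpectrum B)) (hW : IsOpen W) :
    topologicalKrullDim W = ⨆ y : W, ((y : PrimeSpectrum B).asIdeal.height : WithBot ℕ∞) := by
  have h := Groth.Agent.Helper5.EtDim.topologicalKrullDim_opens (Spec (CommRingCat.of B)) ⟨W, hW⟩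
  refine h.trans ?_
  refine iSup_congr fun y => ?_
  have := idealHeight_eq_coheight (CommRingCat.of B) (y : ↥(Spec (CommRingCat.of B)))
  rw [← this]

/-- Nonempty opens of the spectrum of a finite type domain over a field have full dimension. -/
theorem dim_open_of_domain (k B : Type u) [Field k] [CommRing B] [IsDomain B] [Algebra k B]
    [Algebra.FiniteType k B] (W : Set (PrimeSpectrum B)) (hW : IsOpen W) (hne : W.Nonempty) :
    topologicalKrullDim W = ringKrullDim B := by
  apply le_antisymm
  · exact (topologicalKrullDim_subspace_le _ W).trans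
      (le_of_eq (PrimeSpectrum.topologicalKrullDim_eq_ringKrullDim B))
  · have hJ : IsJacobsonRing B := isJacobsonRing_of_finiteType (A := k)
    have hJ' : JacobsonSpace (PrimeSpectrum B) := PrimeSpectrum.isJacobsonRing_iff_jacobsonSpace.1 hJ
    obtain ⟨m, hmW, hm⟩ := nonempty_inter_closedPoints hne hW.isLocallyClosed
    have hmax : m.asIdeal.IsMaximal := (PrimeSpectrum.isClosed_singleton_iff_isMaximal m).1 hm
    have h1 := height_of_isMaximal k B m.asIdeal
    rw [dim_open_eq_iSup_height B W hW, ← h1]
    exact le_iSup (fun y : W => ((y : PrimeSpectrum B).asIdeal.height : WithBot ℕ∞)) ⟨m, hmW⟩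

end Groth.Agent.Helper5.FtDim

namespace Groth.Agent.Helper5.FtDim

/-- Transfer of dimension of subsets along a homeomorphism. -/
theorem dim_preimage_of_isHomeomorph {X Y : Type*} [TopologicalSpace X] [TopologicalSpace Y]
    (φ : X → Y) (hφ : IsHomeomorph φ) (W : Set Y) :
    topologicalKrullDim ↥(φ ⁻¹' W) = topologicalKrullDim ↥W := by
  let e := hφ.homeomorph φ
  let e' : ↥(φ ⁻¹' W) ≃ₜ ↥W := e.subtype (fun x => Iff.rfl)
  exact IsHomeomorph.topologicalKrullDim_eq e' e'.isHomeomorph

/-- Nonempty opens of an irreducible spectrum of a finite type algebra over a field have full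
dimension. -/
theorem dim_open_of_irreducible (k A : Type u) [Field k] [CommRing A] [Algebra k A]
    [Algebra.FiniteType k A] [hirr : IrreducibleSpace (PrimeSpectrum A)]
    (W : Set (PrimeSpectrum A)) (hW : IsOpen W) (hne : W.Nonempty) :
    topologicalKrullDim W = ringKrullDim A := by
  have hprime : (nilradical A).IsPrime := PrimeSpectrum.irreducibleSpace_iff_isPrime_nilradical.1 hirr
  let B := A ⧸ nilradical A
  let f : A →+* B := Ideal.Quotient.mk (nilradical A)
  have hf : Function.Surjective f := Ideal.Quotient.mk_surjective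
  have hφ : IsHomeomorph (PrimeSpectrum.comap f) := by
    refine PrimeSpectrum.isHomeomorph_comap f (fun x => ⟨1, Nat.one_pos, ?_⟩) ?_
    · obtain ⟨a, rfl⟩ := hf x
      exact ⟨a, (pow_one _).symm⟩
    · rw [Ideal.mk_ker]
  have h1 := dim_preimage_of_isHomeomorph _ hφ W
  have h2 := dim_open_of_domain k B (PrimeSpectrum.comap f ⁻¹' W) (hW.preimage hφ.continuous)
    (hne.preimage hφ.surjective)
  rw [← h1, h2, ← PrimeSpectrum.topologicalKrullDim_eq_ringKrullDim B,
    ← PrimeSpectrum.topologicalKrullDim_eq_ringKrullDim A]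
  exact IsHomeomorph.topologicalKrullDim_eq _ hφ

end Groth.Agent.Helper5.FtDim
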