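import Mathlib
import Groth.Agent.Helper5.BCMin3
import Groth.Agent.Helper5.DimBC2
import Groth.Agent.Helper5.FibDim5
import Groth.Agent.Helper5.FtDim6

set_option autoImplicit false
universe u
open CategoryTheory CategoryTheory.Limits AlgebraicGeometry TensorProduct

namespace Groth.Agent.Helper5.BCMin

/-- The dimension of the closure of a point of a prime spectrum is the dimension of the quotient. -/
theorem dim_closure_singleton_primeSpectrum {R : Type*} [CommRing R] (q : PrimeSpectrum R) :
    topologicalKrullDim ↥(closure ({q} : Set (PrimeSpectrum R))) = ringKrullDim (R ⧸ q.asIdeal) := by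
  rw [PrimeSpectrum.closure_singleton]
  have hsurj : Function.Surjective (Ideal.Quotient.mk q.asIdeal) := Ideal.Quotient.mk_surjective
  have hemb := (PrimeSpectrum.isClosedEmbedding_comap_of_surjective _ (Ideal.Quotient.mk q.asIdeal)
    hsurj).isEmbedding
  have hrange := _root_.range_comap_of_surjective _ (Ideal.Quotient.mk q.asIdeal) hsurj
  rw [Ideal.mk_ker] at hrange
  rw [← hrange, ← Set.image_univ, Groth.Agent.Helper5.FibDim.dim_image_eq _ hemb Set.univ]
  rw [← PrimeSpectrum.topologicalKrullDim_eq_ringKrullDim]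
  exact IsHomeomorph.topologicalKrullDim_eq _ (Homeomorph.Set.univ _).isHomeomorph

theorem dim_closure_singleton_Spec (R : CommRingCat.{u}) (q : ↥(Spec R)) :
    topologicalKrullDim ↥(closure ({q} : Set ↥(Spec R))) = ringKrullDim (R ⧸ q.asIdeal) :=
  dim_closure_singleton_primeSpectrum (R := R) q

set_option maxHeartbeats 1000000 in
/-- Affine case: the closure of a maximal point of `Spec R ×_k K` has the dimension of the closure
of its image in `Spec R`. -/
theorem dim_closure_bc_Spec (k K : Type u) [Field k] [Field K] (φ : k →+* K) (R : CommRingCat.{u})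
    (w : Spec R ⟶ Spec (CommRingCat.of k)) [LocallyOfFiniteType w]
    (t' : ↥(pullback w (Spec.map (CommRingCat.ofHom φ)))) (hmax : ∀ y, y ⤳ t' → y = t') :
    topologicalKrullDim ↥(closure ({t'} : Set ↥(pullback w (Spec.map (CommRingCat.ofHom φ))))) =
      topologicalKrullDim ↥(closure
        ({pullback.fst w (Spec.map (CommRingCat.ofHom φ)) t'} : Set ↥(Spec R))) := by
  obtain ⟨ψ, rfl⟩ := Spec.map_surjective w
  have hft : ψ.hom.FiniteType := (HasRingHomProperty.Spec_iff (P := @LocallyOfFiniteType)).1 ‹_›
  algebraize [ψ.hom, φ]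
  let e := pullbackSpecIso k R K
  let h := Scheme.homeoOfIso e
  let Q : ↥(Spec (CommRingCat.of (R ⊗[k] K))) := h t'
  have hcl : closure ({t'} : Set ↥(pullback (Spec.map ψ) (Spec.map (CommRingCat.ofHom φ)))) =
      h ⁻¹' closure ({Q} : Set ↥(Spec (CommRingCat.of (R ⊗[k] K)))) := by
    rw [h.preimage_closure]
    congr 1
    ext y
    constructor
    · intro hy
      rw [Set.mem_singleton_iff] at hy
      rw [hy]
      exact Set.mem_singleton _
    · intro hy
      exact Set.mem_singleton_iff.2 (h.injective (Set.mem_singleton_iff.1 hy))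
  rw [hcl, Groth.Agent.Helper5.FtDim.dim_preimage_of_isHomeomorph _ h.isHomeomorph,
    dim_closure_singleton_Spec]
  have hfst : pullback.fst (Spec.map ψ) (Spec.map (CommRingCat.ofHom φ)) t' =
      Spec.map (CommRingCat.ofHom (Algebra.TensorProduct.includeLeftRingHom)) Q := by
    have h1 : e.hom ≫ Spec.map (CommRingCat.ofHom Algebra.TensorProduct.includeLeftRingHom) =
        pullback.fst (Spec.map ψ) (Spec.map (CommRingCat.ofHom φ)) := pullbackSpecIso_hom_fst k R K
    rw [← h1]
    rfl
  rw [hfst, dim_closure_singleton_Spec]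
  have hQmin : Q.asIdeal ∈ minimalPrimes (R ⊗[k] K) := by
    refine ⟨⟨Q.2, bot_le⟩, ?_⟩
    rintro J ⟨hJ, -⟩ hJle
    let J' : ↥(Spec (CommRingCat.of (R ⊗[k] K))) := ⟨J, hJ⟩
    have hsp : J' ⤳ Q := (PrimeSpectrum.le_iff_specializes (R := R ⊗[k] K) J' Q).1 hJle
    have hsp' : h.symm J' ⤳ t' := by
      have h1 := hsp.map h.symm.continuous
      have hQ : h.symm Q = t' := h.symm_apply_apply t'
      rwa [hQ] at h1
    have h2 := hmax _ hsp'
    have h3 : J' = Q := by
      have : h (h.symm J') = h t' := by rw [h2]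
      rwa [h.apply_symm_apply] at this
    exact (congrArg PrimeSpectrum.asIdeal h3).ge
  exact dim_quotient_of_mem_minimalPrimes' k K R Q.asIdeal hQmin _ rfl

end Groth.Agent.Helper5.BCMin
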