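import Mathlib
import Groth.Agent.Helper5.BCMin4
import Groth.Agent.Helper5.VarDim7

set_option autoImplicit false
universe u
open CategoryTheory CategoryTheory.Limits AlgebraicGeometry TensorProduct

namespace Groth.Agent.Helper5.BCMin

open Groth.Agent.Helper5.VarDim in
/-- For schemes locally of finite type over a field, the dimension of the closure of a point can be
computed in an open subscheme. -/
theorem dim_closure_of_isOpenImmersion (k : Type u) [Field k] {U X : Scheme.{u}} (j : U ⟶ X)
    [IsOpenImmersion j] (f : X ⟶ Spec (CommRingCat.of k)) [LocallyOfFiniteType f] (x : U) :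
    topologicalKrullDim ↥(closure ({x} : Set U)) =
      topologicalKrullDim ↥(closure ({j x} : Set X)) := by
  obtain ⟨n, hn1, hn2⟩ := dim_closure_point k f (j x)
  obtain ⟨m, hm1, hm2⟩ := dim_closure_point k (j ≫ f) x
  rw [hn1, hm1]
  have h := trdeg_resHom_of_isOpenImmersion k j f x
  rw [hn2, hm2] at h
  have : n = m := by exact_mod_cast h
  rw [this]

set_option maxHeartbeats 1000000 in
/-- The closure of a maximal point of `T ×_k K` has the dimension of the closure of its image in
`T`, for `T` locally of finite type over the field `k`. -/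
theorem dim_closure_bc {T : Scheme.{u}} (k K : Type u) [Field k] [Field K] (φ : k →+* K)
    (h : T ⟶ Spec (CommRingCat.of k)) [LocallyOfFiniteType h]
    (t' : ↥(pullback h (Spec.map (CommRingCat.ofHom φ)))) (hmax : ∀ y, y ⤳ t' → y = t') :
    topologicalKrullDim ↥(closure ({t'} : Set ↥(pullback h (Spec.map (CommRingCat.ofHom φ))))) =
      topologicalKrullDim ↥(closure
        ({pullback.fst h (Spec.map (CommRingCat.ofHom φ)) t'} : Set ↥T)) := by
  let g := Spec.map (CommRingCat.ofHom φ)
  let 𝒰 := T.affineOpenCover.openCover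
  let 𝒰' := Scheme.Pullback.openCoverOfLeft 𝒰 h g
  obtain ⟨u', hu'⟩ := 𝒰'.covers t'
  let i := 𝒰'.idx t'
  have hoi : IsOpenImmersion (𝒰.f i) := 𝒰.map_prop i
  have hoi' : IsOpenImmersion (𝒰'.f i) := 𝒰'.map_prop i
  have hlft : LocallyOfFiniteType (𝒰.f i ≫ h) := inferInstance
  have hmax' : ∀ y, y ⤳ u' → y = u' := by
    intro y hy
    apply (𝒰'.f i).isOpenEmbedding.injective
    have h1 : (𝒰'.f i) y ⤳ t' := by
      rw [← hu']
      exact hy.map (𝒰'.f i).continuous
    rw [hmax _ h1]
    exact hu'.symm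
  have key := @dim_closure_bc_Spec k K _ _ φ (T.affineOpenCover.X i) (𝒰.f i ≫ h) hlft u' hmax'
  have hL := dim_closure_of_isOpenImmersion K (𝒰'.f i) (pullback.snd h g) u'
  rw [hu'] at hL
  have hfst : pullback.fst h g t' = 𝒰.f i (pullback.fst (𝒰.f i ≫ h) g u') := by
    rw [← hu']
    have h1 : 𝒰'.f i ≫ pullback.fst h g = pullback.fst (𝒰.f i ≫ h) g ≫ 𝒰.f i :=
      pullback.lift_fst _ _ _
    exact congrArg (fun ψ : _ ⟶ T => ψ u') h1
  have hR := dim_closure_of_isOpenImmersion k (𝒰.f i) h (pullback.fst (𝒰.f i ≫ h) g u')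
  rw [← hfst] at hR
  rw [← hL, ← hR]
  exact key

end Groth.Agent.Helper5.BCMin
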