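import Groth.Agent.Helper5.StalkDict

set_option autoImplicit false
universe u
open AlgebraicGeometry CategoryTheory TopologicalSpace

namespace Groth.Agent.Helper5.EqAt

open Groth.Agent.Helper5.LocDE Groth.Agent.Helper5.VarDim Groth.Agent.Helper5.MaxPt
  Groth.Agent.Helper5.SubDim

theorem trdeg_preimmersion_comp {T X Y : Scheme.{u}} (ιX : T ⟶ X) [SurjectiveOnStalks ιX]
    (f : X ⟶ Y) (w : T) :
    @Algebra.trdeg (Y.residueField ((ιX ≫ f) w)) (T.residueField w) _ _
        ((ιX ≫ f).residueFieldMap w).hom.toAlgebra =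
      @Algebra.trdeg (Y.residueField (f (ιX w))) (X.residueField (ιX w)) _ _
        (f.residueFieldMap (ιX w)).hom.toAlgebra := by
  have e1 : (ιX ≫ f).residueFieldMap w = f.residueFieldMap (ιX w) ≫ ιX.residueFieldMap w :=
    Scheme.residueFieldMap_comp ιX f w
  have hsurj : Function.Surjective (ιX.residueFieldMap w).hom :=
    (residueFieldMap_bijective_of_surjectiveOnStalks ιX w).2
  have h2 := trdeg_top_surjective (f.residueFieldMap (ιX w)).hom (ιX.residueFieldMap w).hom hsurj
  rw [← h2]
  congr 2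
  rw [e1]
  rfl

/-- The local fibre dimension does not change under restriction to an open subscheme. -/
theorem fibreDimAt_open_restrict {X Y : Scheme.{u}} (f : X ⟶ Y) [LocallyOfFiniteType f]
    (U : X.Opens) (w : ↥(U : Scheme.{u})) :
    FlatMor.fibreDimAt (U.ι ≫ f) w = FlatMor.fibreDimAt f (U.ι w) := by
  let g : (U : Scheme.{u}) ⟶ Y := U.ι ≫ f
  obtain ⟨k', n', -, hk', hn', hfd'⟩ := fibreDimAt_eq g w
  obtain ⟨k, n, -, hk, hn, hfd⟩ := fibreDimAt_eq f (U.ι w)
  have hnn : n' = n := by
    have h3 := trdeg_preimmersion_comp U.ι f w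
    have : (n' : Cardinal.{u}) = (n : Cardinal.{u}) := hn'.symm.trans (h3.trans hn)
    exact_mod_cast this
  have hkk : k' = k := by
    let j1 : g.fiber (g w) ⟶ X := g.fiberι (g w) ≫ U.ι
    have hemb1 : Topology.IsEmbedding j1 := j1.isEmbedding
    have h1 := coheight_eq_krullDim_of_isEmbedding j1 hemb1 (g.asFiber w)
    have h2 := coheight_eq_krullDim_of_isEmbedding (f.fiberι (f (U.ι w)))
      (f.fiberι (f (U.ι w))).isEmbedding (f.asFiber (U.ι w))
    have hj1 : j1 (g.asFiber w) = U.ι w := by
      show U.ι (g.fiberι (g w) (g.asFiber w)) = U.ι w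
      rw [g.fiberι_asFiber]
    have hset : {t : X | t ∈ Set.range j1 ∧ j1 (g.asFiber w) ≤ t} =
        {t : X | t ∈ Set.range (f.fiberι (f (U.ι w))) ∧
          (f.fiberι (f (U.ι w))) (f.asFiber (U.ι w)) ≤ t} := by
      ext t
      rw [Set.mem_ofPred_eq, Set.mem_ofPred_eq, hj1, f.fiberι_asFiber, Scheme.Hom.range_fiberι]
      constructor
      · rintro ⟨⟨z, rfl⟩, h2⟩
        refine ⟨?_, h2⟩
        show f (U.ι (g.fiberι (g w) z)) = f (U.ι w)
        exact apply_fiberι g (g w) z
      · rintro ⟨h1, h2⟩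
        refine ⟨?_, h2⟩
        have htU : t ∈ U := (Scheme.le_iff_specializes.1 h2).mem_open U.2 w.2
        have hz' : (⟨t, htU⟩ : ↥(U : Scheme.{u})) ∈ Set.range (g.fiberι (g w)) := by
          rw [Scheme.Hom.range_fiberι]; exact h1
        obtain ⟨z', hz'⟩ := hz'
        refine ⟨z', ?_⟩
        show U.ι (g.fiberι (g w) z') = t
        rw [hz']
        rfl
    rw [hset, ← h2, hk', hk] at h1
    exact_mod_cast h1
  rw [hfd', hfd, hnn, hkk]


theorem closure_singleton_mem_irreducibleComponents {T : Type*} [TopologicalSpace T]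
    [QuasiSober T] (ξ : T) (hmax : ∀ w : T, w ⤳ ξ → w = ξ) :
    closure ({ξ} : Set T) ∈ irreducibleComponents T := by
  refine ⟨isIrreducible_singleton.closure, ?_⟩
  intro S hS hle
  obtain ⟨w', hw'⟩ := QuasiSober.sober hS.closure isClosed_closure
  have hw'def : closure ({w'} : Set T) = closure S := hw'.def
  have h1 : ξ ∈ closure S := subset_closure (hle (subset_closure rfl))
  have h2 : w' ⤳ ξ := by
    rw [specializes_iff_mem_closure, hw'def]; exact h1
  have h3 := hmax w' h2
  rw [h3] at hw'def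
  show S ⊆ closure {ξ}
  rw [hw'def]
  exact subset_closure

theorem max_of_closure_mem_irreducibleComponents {T : Type*} [TopologicalSpace T] [T0Space T]
    (η : T) (h : closure ({η} : Set T) ∈ irreducibleComponents T) (w : T) (hw : w ⤳ η) :
    w = η := by
  have h1 : closure ({η} : Set T) ≤ closure ({w} : Set T) :=
    specializes_iff_closure_subset.1 hw
  have h2 : closure ({w} : Set T) ≤ closure ({η} : Set T) :=
    h.2 (isIrreducible_singleton.closure) h1
  have h3 : η ⤳ w := specializes_iff_closure_subset.2 h2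
  exact (hw.antisymm h3).eq

/-- (P1): all points of the open set in the definition of equidimensionality have local fibre
dimension `e`. -/
theorem fibreDimAt_of_components {X Y : Scheme.{u}} (f : X ⟶ Y) [LocallyOfFiniteType f]
    (U : X.Opens) (e : ℕ)
    (C2 : ∀ x' : (↥U : Type u),
      ∀ Z ∈ irreducibleComponents (↥((U.ι ≫ f).fiber ((U.ι ≫ f).base x')) : Type u),
        topologicalKrullDim (↥Z : Type u) = e) (x' : ↥(U : Scheme.{u})) :
    FlatMor.fibreDimAt f (U.ι x') = (e : WithBot ℕ∞) := by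
  rw [← fibreDimAt_open_restrict]
  let g : (U : Scheme.{u}) ⟶ Y := U.ι ≫ f
  have hftF : LocallyOfFiniteType (g.fiberToSpecResidueField (g x')) :=
    inferInstanceAs (LocallyOfFiniteType (Limits.pullback.snd g (Y.fromSpecResidueField _)))
  exact localDim_eq_of_components (Y.residueField (g x')) (g.fiberToSpecResidueField (g x'))
    (e : WithBot ℕ∞) (C2 x') (g.asFiber x')

/-- (P2): maximal points of `X` lying in the open set map to maximal points of `Y`. -/
theorem max_map_of_components {X Y : Scheme.{u}} (f : X ⟶ Y) (U : X.Opens) (y : Y)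
    (C1 : ∀ Z ∈ irreducibleComponents (↥U : Type u),
      ∃ W ∈ irreducibleComponents (Y : Type u), y ∈ W ∧ closure ((U.ι ≫ f).base '' Z) = W)
    (ξ : ↥(U : Scheme.{u})) (hξ : Order.coheight (U.ι ξ) = 0) (η : Y) (hη : η ⤳ f (U.ι ξ)) :
    η = f (U.ι ξ) := by
  have hmaxX : IsMax (U.ι ξ) := Order.coheight_eq_zero.1 hξ
  have hmaxU : ∀ w : ↥(U : Scheme.{u}), w ⤳ ξ → w = ξ := by
    intro w hw
    have h1 : U.ι w ⤳ U.ι ξ := hw.map U.ι.continuous
    have h2 : U.ι w ≤ U.ι ξ := hmaxX (Scheme.le_iff_specializes.2 h1)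
    have h3 : U.ι ξ ⤳ U.ι w := Scheme.le_iff_specializes.1 h2
    exact U.ι.isEmbedding.injective (h1.antisymm h3).eq
  have hZ := closure_singleton_mem_irreducibleComponents ξ hmaxU
  obtain ⟨W, hW, -, hcl⟩ := C1 _ hZ
  have hcl2 : closure ((U.ι ≫ f).base '' closure ({ξ} : Set ↥(U : Scheme.{u}))) =
      closure ({f (U.ι ξ)} : Set Y) := by
    apply subset_antisymm
    · refine closure_minimal ?_ isClosed_closure
      have := image_closure_subset_closure_image (s := ({ξ} : Set ↥(U : Scheme.{u})))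
        (U.ι ≫ f).continuous
      rw [Set.image_singleton] at this
      exact this
    · refine closure_mono ?_
      rw [Set.singleton_subset_iff]
      exact ⟨ξ, subset_closure rfl, rfl⟩
  rw [hcl2] at hcl
  rw [← hcl] at hW
  exact max_of_closure_mem_irreducibleComponents _ hW η hη

end Groth.Agent.Helper5.EqAt
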