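import Groth.Agent.Helper5.LocDim2

set_option autoImplicit false
universe u
open AlgebraicGeometry CategoryTheory TopologicalSpace

namespace Groth.Agent.Helper5.LocDim

/-- Local finiteness of irreducible components: a neighbourhood meeting only the components
through the point. -/
theorem exists_good_open {X : Scheme.{u}} [IsLocallyNoetherian X] (Y : Set X) (x : X)
    (hx : x ∈ Y) :
    ∃ U : Set X, IsOpen U ∧ x ∈ U ∧ ∀ C ∈ irreducibleComponents ↥Y, (⟨x, hx⟩ : ↥Y) ∉ C →
      Disjoint (Subtype.val ⁻¹' U : Set ↥Y) C := by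
  obtain ⟨W, hW, hxW⟩ : ∃ W : X.Opens, IsAffineOpen W ∧ x ∈ W := by
    obtain ⟨_, ⟨W, hW, rfl⟩, hxW, -⟩ :=
      (X.isBasis_affineOpens).exists_subset_of_mem_open (Set.mem_univ x) isOpen_univ
    exact ⟨W, hW, hxW⟩
  have hN : IsNoetherianRing Γ(X, W) := IsLocallyNoetherian.component_noetherian ⟨W, hW⟩
  have hNS : NoetherianSpace ↥W := noetherianSpace_of_isAffineOpen W hW
  let t : ↥Y := ⟨x, hx⟩
  let W' : Set ↥Y := Subtype.val ⁻¹' (W : Set X)
  have hW'o : IsOpen W' := W.2.preimage continuous_subtype_val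
  have htW' : t ∈ W' := hxW
  let i : ↥W' → ↥W := fun a => ⟨a.1.1, a.2⟩
  have hi : Topology.IsInducing i := by
    have h1 : Topology.IsInducing ((Subtype.val : ↥W → X) ∘ i) := by
      have : ((Subtype.val : ↥W → X) ∘ i) = (Subtype.val : ↥Y → X) ∘ (Subtype.val : ↥W' → ↥Y) := rfl
      rw [this]
      exact Topology.IsInducing.subtypeVal.comp Topology.IsInducing.subtypeVal
    have hci : Continuous i :=
      Continuous.subtype_mk (continuous_subtype_val.comp continuous_subtype_val) _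
    exact Topology.IsInducing.of_comp hci continuous_subtype_val h1
  have hNS' : NoetherianSpace ↥W' := hi.noetherianSpace
  have hfin : (irreducibleComponents ↥W').Finite := NoetherianSpace.finite_irreducibleComponents
  let ι : ↥W' → ↥Y := Subtype.val
  have hι : Topology.IsOpenEmbedding ι := hW'o.isOpenEmbedding_subtypeVal
  let bad : Set (Set ↥W') := {D | D ∈ irreducibleComponents ↥W' ∧ t ∉ closure (ι '' D)}
  have hbadfin : bad.Finite := hfin.subset (fun D hD => hD.1)
  let F : Set ↥Y := ⋃ D ∈ bad, closure (ι '' D)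
  have hFcl : IsClosed F := hbadfin.isClosed_biUnion (fun D _ => isClosed_closure)
  have htF : t ∉ F := by
    intro h
    simp only [F, Set.mem_iUnion] at h
    obtain ⟨D, hD, htD⟩ := h
    exact hD.2 htD
  let U' : Set ↥Y := W' \ F
  have hU'o : IsOpen U' := hW'o.sdiff hFcl
  obtain ⟨U, hUo, hUeq⟩ := isOpen_induced_iff.1 hU'o
  refine ⟨U, hUo, ?_, ?_⟩
  · have : t ∈ Subtype.val ⁻¹' U := by rw [hUeq]; exact ⟨htW', htF⟩
    exact this
  · intro C hC htC
    rw [hUeq, Set.disjoint_left]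
    rintro z ⟨hzW, hzF⟩ hzC
    have hCcl : IsClosed C := isClosed_of_mem_irreducibleComponents C hC
    have hne : (C ∩ Set.range ι).Nonempty := ⟨z, hzC, ⟨⟨z, hzW⟩, rfl⟩⟩
    have hD : ι ⁻¹' C ∈ irreducibleComponents ↥W' := preimage_mem_irreducibleComponents hC hι hne
    have hcl : closure (ι '' (ι ⁻¹' C)) = C :=
      closure_image_preimage_of_isPreirreducible ι hι.isOpenMap C ⟨⟨z, hzW⟩, hzC⟩
        hC.1.isPreirreducible hCcl
    have hbad : ι ⁻¹' C ∈ bad := ⟨hD, by rw [hcl]; exact htC⟩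
    apply hzF
    simp only [F, Set.mem_iUnion]
    exact ⟨ι ⁻¹' C, hbad, by rw [hcl]; exact hzC⟩

/-- The generic point of (the image of) an irreducible component of a closed subset. -/
theorem exists_generic_of_component {X : Scheme.{u}} (Y : Set X) (hY : IsClosed Y) (C : Set ↥Y)
    (hC : C ∈ irreducibleComponents ↥Y) :
    ∃ ζ : X, closure ({ζ} : Set X) = Subtype.val '' C := by
  have h1 : IsIrreducible (Subtype.val '' C : Set X) :=
    hC.1.image Subtype.val continuous_subtype_val.continuousOn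
  have h2 : IsClosed (Subtype.val '' C : Set X) :=
    hY.isClosedEmbedding_subtypeVal.isClosedMap _ (isClosed_of_mem_irreducibleComponents C hC)
  obtain ⟨ζ, hζ⟩ := QuasiSober.sober h1 h2
  exact ⟨ζ, hζ.def⟩

theorem exists_component_mem {T : Type*} [TopologicalSpace T] (t : T) :
    ∃ C ∈ irreducibleComponents T, t ∈ C := by
  obtain ⟨C, hC, hsub⟩ := exists_mem_irreducibleComponents_subset_of_isIrreducible
    ({t} : Set T) isIrreducible_singleton
  exact ⟨C, hC, hsub rfl⟩

/-- (i): each component through `x` has dimension at most that of any neighbourhood. -/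
theorem dim_component_le {X : Scheme.{u}} [JacobsonSpace X] (hE : EquiCodim X)
    (Y : Set X) (hY : IsClosed Y) (x : X) (hx : x ∈ Y) (C : Set ↥Y)
    (hC : C ∈ irreducibleComponents ↥Y) (hxC : (⟨x, hx⟩ : ↥Y) ∈ C) (U : Set X) (hU : IsOpen U)
    (hxU : x ∈ U) : topologicalKrullDim ↥C ≤ topologicalKrullDim ↥(U ∩ Y) := by
  obtain ⟨ζ, hζ⟩ := exists_generic_of_component Y hY C hC
  have hx' : x ∈ closure ({ζ} : Set X) := by rw [hζ]; exact ⟨⟨x, hx⟩, hxC, rfl⟩
  have hζU : ζ ∈ U := (specializes_iff_mem_closure.2 hx').mem_open hU hxU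
  rw [← dim_image_val Y C, ← hζ, ← dim_open_inter_closure hE ζ U hU hζU]
  refine dim_subset_le (Set.inter_subset_inter_right U ?_)
  rw [hζ]
  rintro _ ⟨c, -, rfl⟩
  exact c.2

/-- (ii): a good neighbourhood has dimension at most the supremum over components through `x`. -/
theorem dim_good_open_le {X : Scheme.{u}} (Y : Set X) (hY : IsClosed Y) (x : X) (hx : x ∈ Y)
    (U : Set X) (hU : IsOpen U)
    (hdisj : ∀ C ∈ irreducibleComponents ↥Y, (⟨x, hx⟩ : ↥Y) ∉ C →
      Disjoint (Subtype.val ⁻¹' U : Set ↥Y) C) :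
    topologicalKrullDim ↥(U ∩ Y) ≤
      ⨆ C ∈ {C : Set ↥Y | C ∈ irreducibleComponents ↥Y ∧ (⟨x, hx⟩ : ↥Y) ∈ C},
        topologicalKrullDim ↥C := by
  refine dim_le_of_chains _ (genStable_of_isOpen_inter_isClosed U Y hU hY) _ ?_
  intro l hl
  let top : X := l (Fin.last _)
  have htop : top ∈ U ∩ Y := hl _
  obtain ⟨C, hC, htC⟩ := exists_component_mem (⟨top, htop.2⟩ : ↥Y)
  have hxC : (⟨x, hx⟩ : ↥Y) ∈ C := by
    by_contra hcon
    exact Set.disjoint_left.1 (hdisj C hC hcon) (show (⟨top, htop.2⟩ : ↥Y) ∈ _ from htop.1) htC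
  have hCcl : IsClosed (Subtype.val '' C : Set X) :=
    hY.isClosedEmbedding_subtypeVal.isClosedMap _ (isClosed_of_mem_irreducibleComponents C hC)
  have hmem : ∀ i, l i ∈ (Subtype.val '' C : Set X) := by
    intro i
    have h1 : l i ≤ top := l.monotone (Fin.le_last i)
    have h2 : top ⤳ l i := Scheme.le_iff_specializes.1 h1
    have h3 : l i ∈ closure ({top} : Set X) := specializes_iff_mem_closure.1 h2
    refine closure_minimal ?_ hCcl h3
    rintro _ rfl
    exact ⟨⟨top, htop.2⟩, htC, rfl⟩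
  have h4 := EquiDim.length_le_dim_of_forall_mem (Subtype.val '' C : Set X) l hmem
  rw [dim_image_val Y C] at h4
  exact le_trans h4 (le_biSup (fun C : Set ↥Y => topologicalKrullDim ↥C) ⟨hC, hxC⟩)

end Groth.Agent.Helper5.LocDim
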