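import Mathlib
import Groth.Agent.Helper5.BCMin5
import Groth.Agent.Helper5.EqAt1
import Groth.Agent.Helper5.LocDim3

set_option autoImplicit false
universe u
open CategoryTheory CategoryTheory.Limits AlgebraicGeometry TensorProduct

namespace Groth.Agent.Helper5.BCMin

instance flat_SpecMap_field (k K : Type u) [Field k] [Field K] (φ : k →+* K) :
    Flat (Spec.map (CommRingCat.ofHom φ)) := by
  rw [HasRingHomProperty.Spec_iff (P := @Flat)]
  algebraize [φ]
  show (algebraMap k K).Flat
  rw [RingHom.flat_algebraMap_iff]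
  infer_instance

instance surjective_SpecMap_field (k K : Type u) [Field k] [Field K] (φ : k →+* K) :
    Surjective (Spec.map (CommRingCat.ofHom φ)) := by
  refine ⟨fun x => ?_⟩
  have : Nonempty ↥(Spec (CommRingCat.of K)) := ⟨(⊥ : PrimeSpectrum K)⟩
  obtain ⟨y⟩ := this
  refine ⟨y, ?_⟩
  have : Subsingleton (PrimeSpectrum k) := inferInstance
  exact Subsingleton.elim (α := PrimeSpectrum k) _ _

/-- The projection `T ×_k K ⟶ T` sends maximal points to maximal points. -/
theorem max_fst_of_max {T : Scheme.{u}} (k K : Type u) [Field k] [Field K] (φ : k →+* K)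
    (h : T ⟶ Spec (CommRingCat.of k))
    (t' : ↥(pullback h (Spec.map (CommRingCat.ofHom φ)))) (hmax : ∀ y, y ⤳ t' → y = t') :
    ∀ y : T, y ⤳ pullback.fst h (Spec.map (CommRingCat.ofHom φ)) t' →
      y = pullback.fst h (Spec.map (CommRingCat.ofHom φ)) t' := by
  intro y hy
  have hgen : GeneralizingMap (pullback.fst h (Spec.map (CommRingCat.ofHom φ))) :=
    Flat.generalizingMap _
  obtain ⟨x', hx', rfl⟩ := hgen hy
  rw [hmax x' hx']

/-- Every point has a maximal generization. -/
theorem exists_max_generization {X : Scheme.{u}} (x : X) :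
    ∃ ξ : X, ξ ⤳ x ∧ ∀ y : X, y ⤳ ξ → y = ξ := by
  obtain ⟨C, hC, hxC⟩ := Groth.Agent.Helper5.LocDim.exists_component_mem x
  obtain ⟨ξ, hξ⟩ := QuasiSober.sober hC.1 (isClosed_of_mem_irreducibleComponents C hC)
  have hcl : closure ({ξ} : Set X) = C := hξ.def
  refine ⟨ξ, ?_, ?_⟩
  · rw [specializes_iff_mem_closure, hcl]
    exact hxC
  · intro y hy
    exact Groth.Agent.Helper5.EqAt.max_of_closure_mem_irreducibleComponents ξ (hcl ▸ hC) y hy

/-- Lifting maximal generizations along `T ×_k K ⟶ T`. -/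
theorem exists_max_lift {T : Scheme.{u}} (k K : Type u) [Field k] [Field K] (φ : k →+* K)
    (h : T ⟶ Spec (CommRingCat.of k))
    (x' : ↥(pullback h (Spec.map (CommRingCat.ofHom φ)))) (t : T)
    (ht : t ⤳ pullback.fst h (Spec.map (CommRingCat.ofHom φ)) x')
    (htmax : ∀ y : T, y ⤳ t → y = t) :
    ∃ t' : ↥(pullback h (Spec.map (CommRingCat.ofHom φ))), t' ⤳ x' ∧
      pullback.fst h (Spec.map (CommRingCat.ofHom φ)) t' = t ∧ ∀ y, y ⤳ t' → y = t' := by
  have hgen : GeneralizingMap (pullback.fst h (Spec.map (CommRingCat.ofHom φ))) :=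
    Flat.generalizingMap _
  obtain ⟨t'', ht'', hfst⟩ := hgen ht
  obtain ⟨t', ht', hmax⟩ := exists_max_generization t''
  refine ⟨t', ht'.trans ht'', ?_, hmax⟩
  apply htmax
  rw [← hfst]
  exact ht'.map (pullback.fst h (Spec.map (CommRingCat.ofHom φ))).continuous

/-- Every maximal point of `T` is the image of a maximal point of `T ×_k K`. -/
theorem exists_max_over {T : Scheme.{u}} (k K : Type u) [Field k] [Field K] (φ : k →+* K)
    (h : T ⟶ Spec (CommRingCat.of k)) (t : T) (htmax : ∀ y : T, y ⤳ t → y = t) :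
    ∃ t' : ↥(pullback h (Spec.map (CommRingCat.ofHom φ))),
      pullback.fst h (Spec.map (CommRingCat.ofHom φ)) t' = t ∧ ∀ y, y ⤳ t' → y = t' := by
  obtain ⟨x', hx'⟩ := (pullback.fst h (Spec.map (CommRingCat.ofHom φ))).surjective t
  obtain ⟨t', -, h1, h2⟩ := exists_max_lift k K φ h x' t (by rw [hx']) htmax
  exact ⟨t', h1, h2⟩

end Groth.Agent.Helper5.BCMin
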