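import Mathlib
import Groth.Agent.Helper5.BCMin6

set_option autoImplicit false
universe u
open CategoryTheory CategoryTheory.Limits AlgebraicGeometry TensorProduct

namespace Groth.Agent.Helper5.BCMin

/-- The set of dimensions of the irreducible components of `T ×_k K` equals that of `T`. -/
theorem image_dim_components_bc {T : Scheme.{u}} (k K : Type u) [Field k] [Field K] (φ : k →+* K)
    (h : T ⟶ Spec (CommRingCat.of k)) [LocallyOfFiniteType h] :
    (fun Z : Set ↥(pullback h (Spec.map (CommRingCat.ofHom φ))) => topologicalKrullDim ↥Z) ''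
        irreducibleComponents ↥(pullback h (Spec.map (CommRingCat.ofHom φ))) =
      (fun Z : Set ↥T => topologicalKrullDim ↥Z) '' irreducibleComponents ↥T := by
  ext d
  constructor
  · rintro ⟨Z', hZ', rfl⟩
    obtain ⟨t', ht'⟩ := QuasiSober.sober hZ'.1 (isClosed_of_mem_irreducibleComponents Z' hZ')
    have hcl : closure ({t'} : Set ↥(pullback h (Spec.map (CommRingCat.ofHom φ)))) = Z' := ht'.def
    have hmax : ∀ y, y ⤳ t' → y = t' := fun y hy =>
      Groth.Agent.Helper5.EqAt.max_of_closure_mem_irreducibleComponents t' (hcl ▸ hZ') y hy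
    refine ⟨closure {pullback.fst h (Spec.map (CommRingCat.ofHom φ)) t'},
      Groth.Agent.Helper5.EqAt.closure_singleton_mem_irreducibleComponents _
        (max_fst_of_max k K φ h t' hmax), ?_⟩
    show topologicalKrullDim _ = topologicalKrullDim ↥Z'
    rw [← hcl]
    exact (dim_closure_bc k K φ h t' hmax).symm
  · rintro ⟨Z, hZ, rfl⟩
    obtain ⟨t, ht⟩ := QuasiSober.sober hZ.1 (isClosed_of_mem_irreducibleComponents Z hZ)
    have hcl : closure ({t} : Set ↥T) = Z := ht.def
    have hmax : ∀ y, y ⤳ t → y = t := fun y hy =>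
      Groth.Agent.Helper5.EqAt.max_of_closure_mem_irreducibleComponents t (hcl ▸ hZ) y hy
    obtain ⟨t', hfst, hmax'⟩ := exists_max_over k K φ h t hmax
    refine ⟨closure {t'},
      Groth.Agent.Helper5.EqAt.closure_singleton_mem_irreducibleComponents _ hmax', ?_⟩
    show topologicalKrullDim _ = topologicalKrullDim ↥Z
    rw [← hcl, ← hfst]
    exact dim_closure_bc k K φ h t' hmax'

end Groth.Agent.Helper5.BCMin
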