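import Groth.Agent.Helper5.VarDim15
import Mathlib.AlgebraicGeometry.Morphisms.Etale
import Mathlib.AlgebraicGeometry.Morphisms.FormallyUnramified

set_option autoImplicit false
universe u
open AlgebraicGeometry CategoryTheory TopologicalSpace

namespace Groth.Agent.Helper5.EtTrdeg

/-- Additivity of the transcendence degree in a tower of fields given by ring homomorphisms. -/
theorem trdeg_tower_hom {K M L : Type u} [Field K] [Field M] [Field L] (f : K →+* M) (g : M →+* L) :
    @Algebra.trdeg K L _ _ (g.comp f).toAlgebra =
      @Algebra.trdeg K M _ _ f.toAlgebra + @Algebra.trdeg M L _ _ g.toAlgebra := by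
  let _ : Algebra K M := f.toAlgebra
  let _ : Algebra M L := g.toAlgebra
  let _ : Algebra K L := (g.comp f).toAlgebra
  have : IsScalarTower K M L := IsScalarTower.of_algebraMap_eq (fun c => rfl)
  exact (trdeg_add_eq K M (A := L)).symm

/-- Changing the base field along an isomorphism does not change the transcendence degree. -/
theorem trdeg_base_iso {K K' L : Type u} [Field K] [Field K'] [Field L] (e : K →+* K')
    (he : Function.Surjective e) (f' : K' →+* L) :
    @Algebra.trdeg K L _ _ (f'.comp e).toAlgebra = @Algebra.trdeg K' L _ _ f'.toAlgebra := by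
  rw [trdeg_tower_hom e f']
  let _ : Algebra K K' := e.toAlgebra
  have hint : Algebra.IsIntegral K K' := Algebra.isIntegral_of_surjective he
  have : Algebra.IsAlgebraic K K' := inferInstance
  rw [trdeg_eq_zero, zero_add]

/-- The residue field extension of a formally unramified morphism locally of finite type has
transcendence degree zero. -/
theorem trdeg_residueFieldMap_eq_zero {X Y : Scheme.{u}} (f : X ⟶ Y) [FormallyUnramified f]
    [LocallyOfFiniteType f] (x : X) :
    @Algebra.trdeg (Y.residueField (f x)) (X.residueField x) _ _
      (f.residueFieldMap x).hom.toAlgebra = 0 := by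
  let _ : Algebra (Y.residueField (f x)) (X.residueField x) := (f.residueFieldMap x).hom.toAlgebra
  have hs : Algebra.IsSeparable (Y.residueField (f x)) (X.residueField x) := inferInstance
  have : Algebra.IsAlgebraic (Y.residueField (f x)) (X.residueField x) :=
    Algebra.IsSeparable.isAlgebraic _ _
  exact trdeg_eq_zero

/-- The transcendence degree of the residue field extension is étale local on source and
target. -/
theorem trdeg_etale_square {U U' V V' : Scheme.{u}} (h : U ⟶ V) (h' : U' ⟶ V') (a : U' ⟶ U)
    (b : V' ⟶ V) [Etale a] [Etale b] (comm : h' ≫ b = a ≫ h) (u' : U') :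
    @Algebra.trdeg (V.residueField (h (a u'))) (U.residueField (a u')) _ _
        (h.residueFieldMap (a u')).hom.toAlgebra =
      @Algebra.trdeg (V'.residueField (h' u')) (U'.residueField u') _ _
        (h'.residueFieldMap u').hom.toAlgebra := by
  have e1 : (a ≫ h).residueFieldMap u' = h.residueFieldMap (a u') ≫ a.residueFieldMap u' :=
    Scheme.residueFieldMap_comp a h u'
  have e2 : (h' ≫ b).residueFieldMap u' = b.residueFieldMap (h' u') ≫ h'.residueFieldMap u' :=
    Scheme.residueFieldMap_comp h' b u'
  have e3 := Scheme.Hom.residueFieldMap_congr comm.symm u'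
  have T1 := trdeg_tower_hom (h.residueFieldMap (a u')).hom (a.residueFieldMap u').hom
  have T2 := trdeg_tower_hom (b.residueFieldMap (h' u')).hom (h'.residueFieldMap u').hom
  rw [trdeg_residueFieldMap_eq_zero a u', add_zero] at T1
  rw [trdeg_residueFieldMap_eq_zero b (h' u'), zero_add] at T2
  rw [← T1, ← T2]
  have hsurj : Function.Surjective (V.residueFieldCongr
      (show (a ≫ h) u' = (h' ≫ b) u' by rw [comm])).hom.hom :=
    (ConcreteCategory.bijective_of_isIso (V.residueFieldCongr
      (show (a ≫ h) u' = (h' ≫ b) u' by rw [comm])).hom).2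
  have T3 := trdeg_base_iso _ hsurj ((h' ≫ b).residueFieldMap u').hom
  have c1 : (a.residueFieldMap u').hom.comp (h.residueFieldMap (a u')).hom =
      ((a ≫ h).residueFieldMap u').hom := by
    rw [e1]; rfl
  have c2 : (h'.residueFieldMap u').hom.comp (b.residueFieldMap (h' u')).hom =
      ((h' ≫ b).residueFieldMap u').hom := by
    rw [e2]; rfl
  have c3 : ((h' ≫ b).residueFieldMap u').hom.comp (V.residueFieldCongr
      (show (a ≫ h) u' = (h' ≫ b) u' by rw [comm])).hom.hom =
      ((a ≫ h).residueFieldMap u').hom := by
    rw [e3]; rfl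
  rw [c1, c2, ← c3]
  exact T3

end Groth.Agent.Helper5.EtTrdeg
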