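import Groth.Agent.Helper5.SubDim4
import Groth.Agent.Helper5.EtTrdeg

set_option autoImplicit false
universe u
open AlgebraicGeometry CategoryTheory TopologicalSpace

namespace Groth.Agent.Helper5.SubDim

open Groth.Agent.Helper5.LocDE Groth.Agent.Helper5.VarDim Groth.Agent.Helper5.MaxPt

/-- Local dimension is invariant under homeomorphisms. -/
theorem localDim_homeomorph {A B : Type*} [TopologicalSpace A] [TopologicalSpace B] (e : A ≃ₜ B)
    (a : A) : FlatMor.localDim A a = FlatMor.localDim B (e a) := by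
  unfold FlatMor.localDim
  apply le_antisymm
  · refine le_iInf fun V => ?_
    refine iInf_le_of_le ⟨⟨e ⁻¹' (V.1 : Set B), V.1.2.preimage e.continuous⟩, V.2⟩ ?_
    exact le_of_eq (Groth.Agent.Helper5.FtDim.dim_preimage_of_isHomeomorph e e.isHomeomorph _)
  · refine le_iInf fun U => ?_
    refine iInf_le_of_le ⟨⟨e.symm ⁻¹' (U.1 : Set A), U.1.2.preimage e.symm.continuous⟩, by
      show e.symm (e a) ∈ U.1
      rw [e.symm_apply_apply]; exact U.2⟩ ?_
    exact le_of_eq (Groth.Agent.Helper5.FtDim.dim_preimage_of_isHomeomorph e.symm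
      e.symm.isHomeomorph _)

/-- Enlarging the top field along a surjection does not change the transcendence degree. -/
theorem trdeg_top_surjective {K M L : Type u} [Field K] [Field M] [Field L] (f : K →+* M)
    (g : M →+* L) (hg : Function.Surjective g) :
    @Algebra.trdeg K L _ _ (g.comp f).toAlgebra = @Algebra.trdeg K M _ _ f.toAlgebra := by
  rw [Groth.Agent.Helper5.EtTrdeg.trdeg_tower_hom f g]
  let _ : Algebra M L := g.toAlgebra
  have hint : Algebra.IsIntegral M L := Algebra.isIntegral_of_surjective hg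
  have : Algebra.IsAlgebraic M L := inferInstance
  rw [trdeg_eq_zero (R := M) (A := L), add_zero]

/-- The residue field extension of a point of a closed subscheme over the base agrees (in
transcendence degree) with that of its image. -/
theorem trdeg_closedImmersion_comp {T X Y : Scheme.{u}} (ιX : T ⟶ X) [IsClosedImmersion ιX]
    (f : X ⟶ Y) (w : T) :
    @Algebra.trdeg (Y.residueField ((ιX ≫ f) w)) (T.residueField w) _ _
        ((ιX ≫ f).residueFieldMap w).hom.toAlgebra =
      @Algebra.trdeg (Y.residueField (f (ιX w))) (X.residueField (ιX w)) _ _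
        (f.residueFieldMap (ιX w)).hom.toAlgebra := by
  have e1 : (ιX ≫ f).residueFieldMap w = f.residueFieldMap (ιX w) ≫ ιX.residueFieldMap w :=
    Scheme.residueFieldMap_comp ιX f w
  have hsurj : Function.Surjective (ιX.residueFieldMap w).hom :=
    (residueFieldMap_bijective_of_surjectiveOnStalks ιX w).2
  have h2 := trdeg_top_surjective (f.residueFieldMap (ιX w)).hom (ιX.residueFieldMap w).hom hsurj
  rw [← h2]
  congr 2
  rw [e1]
  rfl

end Groth.Agent.Helper5.SubDim

namespace Groth.Agent.Helper5.SubDim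

open Groth.Agent.Helper5.LocDE Groth.Agent.Helper5.VarDim Groth.Agent.Helper5.MaxPt

/-- (X1): the local fibre dimensions of `f` at `x` and of the restriction to a closed subscheme
differ from the dimensions of the fibre local rings by the same transcendence degree. -/
theorem fibreDimAt_sub_pair {X Y T : Scheme.{u}} (f : X ⟶ Y) [LocallyOfFiniteType f]
    (ιX : T ⟶ X) [IsClosedImmersion ιX] (w : T) :
    ∃ t : ℕ,
      FlatMor.fibreDimAt (ιX ≫ f) w =
        ringKrullDim (((ιX ≫ f).fiber ((ιX ≫ f) w)).presheaf.stalk ((ιX ≫ f).asFiber w)) +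
          (t : WithBot ℕ∞) ∧
      FlatMor.fibreDimAt f (ιX w) =
        ringKrullDim ((f.fiber (f (ιX w))).presheaf.stalk (f.asFiber (ιX w))) + (t : WithBot ℕ∞) := by
  let g : T ⟶ Y := ιX ≫ f
  have hftF : LocallyOfFiniteType (f.fiberToSpecResidueField (f (ιX w))) :=
    inferInstanceAs (LocallyOfFiniteType (Limits.pullback.snd f (Y.fromSpecResidueField _)))
  have hftF' : LocallyOfFiniteType (g.fiberToSpecResidueField (g w)) :=
    inferInstanceAs (LocallyOfFiniteType (Limits.pullback.snd g (Y.fromSpecResidueField _)))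
  obtain ⟨n1, hn1a, hn1b, -⟩ := localDim_formula (Y.residueField (g w))
    (g.fiberToSpecResidueField (g w)) (g.asFiber w)
  obtain ⟨n2, hn2a, hn2b, -⟩ := localDim_formula (Y.residueField (f (ιX w)))
    (f.fiberToSpecResidueField (f (ιX w))) (f.asFiber (ιX w))
  have h12 : n1 = n2 := by
    have h1 := trdeg_fiber g w
    have h2 := trdeg_fiber f (ιX w)
    have h3 := trdeg_closedImmersion_comp ιX f w
    have : (n1 : Cardinal.{u}) = (n2 : Cardinal.{u}) :=
      hn1a.symm.trans (h1.trans (h3.trans (h2.symm.trans hn2a)))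
    exact_mod_cast this
  refine ⟨n1, hn1b, ?_⟩
  rw [h12]
  exact hn2b

/-- (X2): the local dimension at `x` of `X' ∩ f⁻¹(f x)` is the local fibre dimension of the
restriction of `f` to the closed subscheme. -/
theorem localDim_inter_fibre {X Y T : Scheme.{u}} (f : X ⟶ Y)
    (ιX : T ⟶ X) [IsClosedImmersion ιX] (w : T)
    (hmem : ιX w ∈ Set.range ιX ∩ f ⁻¹' {f (ιX w)}) :
    FlatMor.localDim ↥(Set.range ιX ∩ f ⁻¹' {f (ιX w)}) ⟨ιX w, hmem⟩ =
      FlatMor.fibreDimAt (ιX ≫ f) w := by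
  let g : T ⟶ Y := ιX ≫ f
  let j1 : g.fiber (g w) ⟶ X := g.fiberι (g w) ≫ ιX
  have hemb1 : Topology.IsEmbedding j1 := j1.isEmbedding
  have hrange : Set.range j1 = Set.range ιX ∩ f ⁻¹' {f (ιX w)} := by
    ext s
    constructor
    · rintro ⟨z, rfl⟩
      refine ⟨⟨g.fiberι (g w) z, rfl⟩, ?_⟩
      show f (ιX (g.fiberι (g w) z)) = f (ιX w)
      exact apply_fiberι g (g w) z
    · rintro ⟨⟨z, rfl⟩, hz⟩
      have hz' : z ∈ Set.range (g.fiberι (g w)) := by
        rw [Scheme.Hom.range_fiberι]; exact hz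
      obtain ⟨z', rfl⟩ := hz'
      exact ⟨z', rfl⟩
  let e : ↥(g.fiber (g w)) ≃ₜ ↥(Set.range ιX ∩ f ⁻¹' {f (ιX w)}) :=
    hemb1.toHomeomorph.trans (Homeomorph.setCongr hrange)
  have he : e (g.asFiber w) = ⟨ιX w, hmem⟩ := by
    apply Subtype.ext
    show ιX (g.fiberι (g w) (g.asFiber w)) = ιX w
    rw [g.fiberι_asFiber]
  rw [← he, ← localDim_homeomorph e (g.asFiber w)]
  rfl

end Groth.Agent.Helper5.SubDim

namespace Groth.Agent.Helper5.SubDim

theorem localDim_congr_set {X : Type*} [TopologicalSpace X] (A B : Set X) (h : A = B) (x : X)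
    (hA : x ∈ A) (hB : x ∈ B) :
    FlatMor.localDim ↥A ⟨x, hA⟩ = FlatMor.localDim ↥B ⟨x, hB⟩ := by
  subst h
  rfl

theorem arith_iff2 (D k a c t e k' : ℕ) (h1 : a + t ≤ c + e) (h2 : e ≤ k' + t) (h3 : c ≤ D)
    (h4 : k' ≤ k) :
    (((c : WithBot ℕ∞) = (D : WithBot ℕ∞) ∧
        ((k' + t : ℕ) : WithBot ℕ∞) = (k : WithBot ℕ∞) + (t : WithBot ℕ∞) ∧
        ((k' + t : ℕ) : WithBot ℕ∞) = (e : WithBot ℕ∞) ∧
        (a : WithBot ℕ∞) = (c : WithBot ℕ∞) + (k' : WithBot ℕ∞)) ↔
      (a : WithBot ℕ∞) = (D : WithBot ℕ∞) + (k : WithBot ℕ∞)) := by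
  have e1 : ((a : WithBot ℕ∞) = (D : WithBot ℕ∞) + (k : WithBot ℕ∞)) ↔ a = D + k := by norm_cast
  have e2 : ((c : WithBot ℕ∞) = (D : WithBot ℕ∞)) ↔ c = D := by norm_cast
  have e3 : (((k' + t : ℕ) : WithBot ℕ∞) = (k : WithBot ℕ∞) + (t : WithBot ℕ∞)) ↔ k' + t = k + t := by
    norm_cast
  have e4 : (((k' + t : ℕ) : WithBot ℕ∞) = (e : WithBot ℕ∞)) ↔ k' + t = e := by norm_cast
  have e5 : ((a : WithBot ℕ∞) = (c : WithBot ℕ∞) + (k' : WithBot ℕ∞)) ↔ a = c + k' := by norm_cast
  rw [e1, e2, e3, e4, e5]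
  omega

theorem nat_of_add_eq (k' t t' : ℕ)
    (h : ((k' + t : ℕ) : WithBot ℕ∞) = (k' : WithBot ℕ∞) + (t' : WithBot ℕ∞)) : t' = t := by
  have : k' + t = k' + t' := by exact_mod_cast h
  omega

end Groth.Agent.Helper5.SubDim
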