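import Groth.Agent.Helper5.VarDim10

set_option autoImplicit false
universe u
open AlgebraicGeometry CategoryTheory TopologicalSpace

namespace Groth.Agent.Helper5.VarDim

theorem localDim_mono_of_specializes {T : Type*} [TopologicalSpace T] {a b : T} (h : a ⤳ b) :
    FlatMor.localDim T a ≤ FlatMor.localDim T b := by
  unfold FlatMor.localDim
  refine le_iInf fun U => ?_
  exact iInf_le (fun V : {V : Opens T // a ∈ V} => topologicalKrullDim ↥(V.1 : Set T))
    ⟨U.1, h.mem_open U.1.isOpen U.2⟩

/-- The local dimension at `x` is attained by the closure of some generization of `x`. -/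
theorem exists_generization_localDim_le (k : Type u) [Field k] {F : Scheme.{u}}
    (g : F ⟶ Spec (CommRingCat.of k)) [LocallyOfFiniteType g] (x : F) :
    ∃ ξ : F, ξ ⤳ x ∧ FlatMor.localDim F x ≤ topologicalKrullDim ↥(closure ({ξ} : Set F)) := by
  obtain ⟨V, hV, hxV⟩ : ∃ V : F.Opens, IsAffineOpen V ∧ x ∈ V := by
    obtain ⟨_, ⟨V, hV, rfl⟩, hxV, -⟩ :=
      (F.isBasis_affineOpens).exists_subset_of_mem_open (Set.mem_univ x) isOpen_univ
    exact ⟨V, hV, hxV⟩
  let A := Γ(F, V)
  let j : Spec A ⟶ F := hV.fromSpec
  let _ : Algebra k A := (Groth.Agent.Helper5.FieldUnram.ρ k g V).hom.toAlgebra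
  have hft : Algebra.FiniteType k A := Groth.Agent.Helper5.FieldUnram.ρ_finiteType k g V hV
  have hN : IsNoetherianRing A := Algebra.FiniteType.isNoetherianRing k A
  have hxr : x ∈ Set.range j := by rw [hV.range_fromSpec]; exact hxV
  obtain ⟨q, rfl⟩ := hxr
  obtain ⟨P, hPq, hge⟩ := Groth.Agent.Helper5.FtDim.exists_le_with_coheight_ge hN q
  refine ⟨j P, ?_, ?_⟩
  · exact ((PrimeSpectrum.le_iff_specializes P q).1 hPq).map j.continuous
  · rw [← Groth.Agent.Helper5.EtDim.localDim_eq_of_etale j q]
    have h1 := Groth.Agent.Helper5.FtDim.localDim_eq k A q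
    refine h1.le.trans ?_
    have h2 : ((Order.height (α := PrimeSpectrum A) q + Order.coheight (α := PrimeSpectrum A) q : ℕ∞) :
        WithBot ℕ∞) ≤ ((Order.coheight (α := PrimeSpectrum A) P : ℕ∞) : WithBot ℕ∞) := by
      exact_mod_cast hge
    refine h2.trans ?_
    rw [← Groth.Agent.Helper5.FtDim.ringKrullDim_quotient_eq_coheight P,
      ← PrimeSpectrum.topologicalKrullDim_eq_ringKrullDim]
    let φ : PrimeSpectrum (A ⧸ P.asIdeal) → PrimeSpectrum A :=
      PrimeSpectrum.comap (Ideal.Quotient.mk P.asIdeal)
    have hφ : Topology.IsClosedEmbedding φ :=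
      PrimeSpectrum.isClosedEmbedding_comap_of_surjective _ _ Ideal.Quotient.mk_surjective
    have hmem : ∀ z : PrimeSpectrum (A ⧸ P.asIdeal), j (φ z) ∈ closure ({j P} : Set F) := by
      intro z
      have hz : φ z ∈ closure ({P} : Set (PrimeSpectrum A)) := by
        rw [← specializes_iff_mem_closure, ← PrimeSpectrum.le_iff_specializes]
        show P.asIdeal ≤ Ideal.comap (Ideal.Quotient.mk P.asIdeal) z.asIdeal
        intro a ha
        rw [Ideal.mem_comap, Ideal.Quotient.eq_zero_iff_mem.2 ha]
        exact zero_mem _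
      have h3 := image_closure_subset_closure_image j.continuous ⟨φ z, hz, rfl⟩
      have h4 : (⇑j '' ({P} : Set (PrimeSpectrum A))) = {j P} := Set.image_singleton
      rwa [h4] at h3
    have hind : Topology.IsInducing (fun z => j (φ z)) :=
      j.isOpenEmbedding.isInducing.comp hφ.isInducing
    exact (hind.codRestrict hmem).topologicalKrullDim_le

/-- If all irreducible components of a scheme locally of finite type over a field have dimension
`d`, then the local dimension at every point is `d`. -/
theorem localDim_eq_of_components (k : Type u) [Field k] {F : Scheme.{u}}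
    (g : F ⟶ Spec (CommRingCat.of k)) [LocallyOfFiniteType g] (d : WithBot ℕ∞)
    (h : ∀ Z ∈ irreducibleComponents F, topologicalKrullDim ↥Z = d) (x : F) :
    FlatMor.localDim F x = d := by
  apply le_antisymm
  · obtain ⟨ξ, -, hle⟩ := exists_generization_localDim_le k g x
    obtain ⟨Z, hZ, hsub⟩ := exists_mem_irreducibleComponents_subset_of_isIrreducible
      (closure ({ξ} : Set F)) isIrreducible_singleton.closure
    rw [← h Z hZ]
    exact hle.trans (Groth.Agent.Helper5.FibDim.dim_subset_le hsub)
  · have hZ := irreducibleComponent_mem_irreducibleComponents x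
    obtain ⟨ζ, hζ1, hζ2⟩ := exists_generic_component k g _ hZ
    rw [← h _ hZ, ← hζ2]
    apply localDim_mono_of_specializes
    rw [specializes_iff_mem_closure, hζ1]
    exact mem_irreducibleComponent

end Groth.Agent.Helper5.VarDim
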