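import Mathlib
import Groth.Agent.Helper5.BCMin7
import Groth.Agent.Helper5.VarDim11
import Groth.Agent.Helper5.SubDim5

set_option autoImplicit false
universe u
open CategoryTheory CategoryTheory.Limits AlgebraicGeometry TensorProduct

namespace Groth.Agent.Helper5.BCMin

open Groth.Agent.Helper5.VarDim

/-- Closures of maximal generizations bound the local dimension from below. -/
theorem dim_closure_le_localDim (k : Type u) [Field k] {F : Scheme.{u}}
    (g : F ⟶ Spec (CommRingCat.of k)) [LocallyOfFiniteType g] (x ξ : F) (hξ : ξ ⤳ x)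
    (hmax : ∀ y : F, y ⤳ ξ → y = ξ) :
    topologicalKrullDim ↥(closure ({ξ} : Set F)) ≤ FlatMor.localDim F x := by
  have hZ := Groth.Agent.Helper5.EqAt.closure_singleton_mem_irreducibleComponents ξ hmax
  obtain ⟨ζ, hζ1, hζ2⟩ := exists_generic_component k g _ hZ
  rw [← hζ2]
  apply localDim_mono_of_specializes
  rw [specializes_iff_mem_closure, hζ1]
  exact specializes_iff_mem_closure.1 hξ

/-- The local dimension is attained by the closure of a maximal generization. -/
theorem exists_max_localDim_eq (k : Type u) [Field k] {F : Scheme.{u}}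
    (g : F ⟶ Spec (CommRingCat.of k)) [LocallyOfFiniteType g] (x : F) :
    ∃ ξ : F, ξ ⤳ x ∧ (∀ y : F, y ⤳ ξ → y = ξ) ∧
      FlatMor.localDim F x = topologicalKrullDim ↥(closure ({ξ} : Set F)) := by
  obtain ⟨ξ₀, hξ₀, hle⟩ := exists_generization_localDim_le k g x
  obtain ⟨ξ, hξ, hmax⟩ := exists_max_generization ξ₀
  refine ⟨ξ, hξ.trans hξ₀, hmax, le_antisymm ?_ (dim_closure_le_localDim k g x ξ (hξ.trans hξ₀) hmax)⟩
  refine hle.trans (Groth.Agent.Helper5.FibDim.dim_subset_le ?_)
  exact specializes_iff_closure_subset.1 hξ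

/-- Local dimension of a scheme locally of finite type over a field is invariant under extension
of the base field. -/
theorem localDim_bc {T : Scheme.{u}} (k K : Type u) [Field k] [Field K] (φ : k →+* K)
    (h : T ⟶ Spec (CommRingCat.of k)) [LocallyOfFiniteType h]
    (x' : ↥(pullback h (Spec.map (CommRingCat.ofHom φ)))) :
    FlatMor.localDim ↥(pullback h (Spec.map (CommRingCat.ofHom φ))) x' =
      FlatMor.localDim ↥T (pullback.fst h (Spec.map (CommRingCat.ofHom φ)) x') := by
  apply le_antisymm
  · obtain ⟨ξ', hξ', hmax', heq⟩ := exists_max_localDim_eq K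
      (pullback.snd h (Spec.map (CommRingCat.ofHom φ))) x'
    rw [heq, dim_closure_bc k K φ h ξ' hmax']
    exact dim_closure_le_localDim k h _ _
      (hξ'.map (pullback.fst h (Spec.map (CommRingCat.ofHom φ))).continuous)
      (max_fst_of_max k K φ h ξ' hmax')
  · obtain ⟨ξ, hξ, hmax, heq⟩ := exists_max_localDim_eq k h
      (pullback.fst h (Spec.map (CommRingCat.ofHom φ)) x')
    obtain ⟨ξ', hξ', hfst, hmax'⟩ := exists_max_lift k K φ h x' ξ hξ hmax
    rw [heq, ← hfst, ← dim_closure_bc k K φ h ξ' hmax']
    exact dim_closure_le_localDim K (pullback.snd h (Spec.map (CommRingCat.ofHom φ))) x' ξ' hξ' hmax'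

end Groth.Agent.Helper5.BCMin
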