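import Groth.Agent.Helper5.DimIneq

set_option autoImplicit false
universe u
open CategoryTheory CategoryTheory.Limits AlgebraicGeometry Opposite

namespace Groth.Agent.Helper5.DimIneq

set_option backward.isDefEq.respectTransparency false in
set_option maxHeartbeats 800000 in
/-- The local ring of the fibre at `x` has the dimension of `𝒪_{X,x} / 𝔪_y 𝒪_{X,x}`. -/
theorem fiber_stalk_dim_eq {X Y : Scheme.{u}} (f : X ⟶ Y) (x : ↥X) :
    letI : Algebra (Y.presheaf.stalk (f x)) (X.presheaf.stalk x) := (f.stalkMap x).hom.toAlgebra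
    ringKrullDim ((f.fiber (f x)).presheaf.stalk (f.asFiber x)) =
      ringKrullDim (X.presheaf.stalk x ⧸ (IsLocalRing.maximalIdeal (Y.presheaf.stalk (f x))).map
        (algebraMap (Y.presheaf.stalk (f x)) (X.presheaf.stalk x))) := by
  let A := Y.presheaf.stalk (f x)
  let B := X.presheaf.stalk x
  let φ : A →+* B := (f.stalkMap x).hom
  let _ : Algebra A B := φ.toAlgebra
  let mA := IsLocalRing.maximalIdeal A
  let mB := IsLocalRing.maximalIdeal B
  have hlies : mB.LiesOver mA := by
    constructor
    have h0 : IsLocalHom φ := inferInstanceAs (IsLocalHom (f.stalkMap x).hom)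
    have h := ((IsLocalRing.local_hom_TFAE φ).out 0 4).1 h0
    exact h.symm
  let I : Ideal B := mA.map (algebraMap A B)
  have hI : I ≤ mB := by
    rw [Ideal.map_le_iff_le_comap]
    exact hlies.over.le
  let P' : Ideal (B ⧸ I) := mB.map (Ideal.Quotient.mk I)
  have hP' : P'.IsPrime := Ideal.isPrime_map_quotientMk_of_isPrime hI
  let ψ : Y.residueField (f x) →+* (B ⧸ I) :=
    Ideal.Quotient.lift mA ((Ideal.Quotient.mk I).comp φ) (fun a ha => by
      simp only [RingHom.comp_apply]
      exact Ideal.Quotient.eq_zero_iff_mem.2 (Ideal.mem_map_of_mem _ ha))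
  let C : CommRingCat.{u} := CommRingCat.of (B ⧸ I)
  have comm : (Spec.map (CommRingCat.ofHom (Ideal.Quotient.mk I)) ≫ X.fromSpecStalk x) ≫ f =
      Spec.map (CommRingCat.ofHom ψ) ≫ Y.fromSpecResidueField (f x) := by
    rw [Category.assoc, ← Scheme.SpecMap_stalkMap_fromSpecStalk, Scheme.fromSpecResidueField,
      ← Spec.map_comp_assoc, ← Spec.map_comp_assoc]
    congr 2
  let g : Spec C ⟶ f.fiber (f x) :=
    pullback.lift (Spec.map (CommRingCat.ofHom (Ideal.Quotient.mk I)) ≫ X.fromSpecStalk x)
      (Spec.map (CommRingCat.ofHom ψ)) comm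
  have hg : g ≫ f.fiberι (f x) =
      Spec.map (CommRingCat.ofHom (Ideal.Quotient.mk I)) ≫ X.fromSpecStalk x :=
    pullback.lift_fst _ _ _
  have hemb : Topology.IsEmbedding g.base := by
    have h1 : Topology.IsEmbedding (g ≫ f.fiberι (f x)).base := by
      rw [hg]
      have : IsClosedImmersion (Spec.map (CommRingCat.ofHom (Ideal.Quotient.mk I))) :=
        IsClosedImmersion.spec_of_surjective _ Ideal.Quotient.mk_surjective
      exact (Spec.map (CommRingCat.ofHom (Ideal.Quotient.mk I)) ≫ X.fromSpecStalk x).isEmbedding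
    exact Topology.IsEmbedding.of_comp g.continuous (f.fiberι (f x)).continuous
      (by simpa using h1)
  let pt : Spec C := ⟨P', hP'⟩
  have hptcl : (Spec.map (CommRingCat.ofHom (Ideal.Quotient.mk I))) pt =
      IsLocalRing.closedPoint B := by
    apply PrimeSpectrum.ext
    show Ideal.comap (Ideal.Quotient.mk I) P' = mB
    rw [Ideal.comap_map_of_surjective' _ Ideal.Quotient.mk_surjective, Ideal.mk_ker,
      sup_of_le_left hI]
  have hpt : g pt = f.asFiber x := by
    apply (f.fiberι (f x)).isEmbedding.injective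
    rw [Scheme.Hom.fiberι_asFiber, ← Scheme.Hom.comp_apply, hg, Scheme.Hom.comp_apply, hptcl]
    exact Scheme.fromSpecStalk_closedPoint
  -- every point of `Spec C` generizes `pt`
  have hgen : ∀ a : Spec C, a ⤳ pt := by
    intro a
    have hloc : IsLocalRing (B ⧸ I) := by
      have : Nontrivial (B ⧸ I) := Ideal.Quotient.nontrivial_iff.2
        (fun h => (IsLocalRing.maximalIdeal.isMaximal B).ne_top (top_le_iff.1 (h ▸ hI)))
      exact IsLocalRing.of_surjective' (Ideal.Quotient.mk I) Ideal.Quotient.mk_surjective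
    have hcl : pt = IsLocalRing.closedPoint (B ⧸ I) := by
      apply PrimeSpectrum.ext
      show P' = IsLocalRing.maximalIdeal (B ⧸ I)
      have hmax : P'.IsMaximal := by
        have : mB.IsMaximal := IsLocalRing.maximalIdeal.isMaximal B
        exact Ideal.IsMaximal.map_of_surjective_of_ker_le Ideal.Quotient.mk_surjective
          (by rw [Ideal.mk_ker]; exact hI)
      exact IsLocalRing.eq_maximalIdeal hmax
    rw [hcl]
    exact IsLocalRing.specializes_closedPoint a
  -- lifting of generizations
  have hlift : ∀ a : Spec C, ∀ b : ↥(f.fiber (f x)), g a < b → ∃ a' : Spec C, a < a' ∧ g a' = b := by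
    intro a b hab
    have hb1 : b ⤳ g a := hab.le
    have hb2 : b ⤳ f.asFiber x := by
      rw [← hpt]
      exact hb1.trans ((hgen a).map g.continuous)
    have hb3 : f.fiberι (f x) b ⤳ x := by
      have := hb2.map (f.fiberι (f x)).continuous
      rwa [Scheme.Hom.fiberι_asFiber] at this
    have hb4 : f.fiberι (f x) b ∈ Set.range (X.fromSpecStalk x) := by
      rw [Scheme.range_fromSpecStalk]; exact hb3
    obtain ⟨q, hq⟩ := hb4
    have hfb : f (f.fiberι (f x) b) = f x := by
      have : f.fiberι (f x) b ∈ Set.range (f.fiberι (f x)) := ⟨b, rfl⟩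
      rw [f.range_fiberι] at this
      exact this
    have hqA : (Spec.map (f.stalkMap x)) q = IsLocalRing.closedPoint A := by
      apply (Y.fromSpecStalk (f x)).isEmbedding.injective
      rw [← Scheme.Hom.comp_apply, Scheme.SpecMap_stalkMap_fromSpecStalk, Scheme.Hom.comp_apply,
        hq, hfb]
      exact Scheme.fromSpecStalk_closedPoint.symm
    have hIq : I ≤ q.asIdeal := by
      rw [Ideal.map_le_iff_le_comap]
      have : Ideal.comap φ q.asIdeal = mA := congrArg PrimeSpectrum.asIdeal hqA
      exact this.ge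
    let q' : Spec C := ⟨q.asIdeal.map (Ideal.Quotient.mk I),
      Ideal.isPrime_map_quotientMk_of_isPrime hIq⟩
    have hq' : (Spec.map (CommRingCat.ofHom (Ideal.Quotient.mk I))) q' = q := by
      apply PrimeSpectrum.ext
      show Ideal.comap (Ideal.Quotient.mk I) (q.asIdeal.map (Ideal.Quotient.mk I)) = q.asIdeal
      rw [Ideal.comap_map_of_surjective' _ Ideal.Quotient.mk_surjective, Ideal.mk_ker,
        sup_of_le_left hIq]
    have hgq' : g q' = b := by
      apply (f.fiberι (f x)).isEmbedding.injective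
      rw [← Scheme.Hom.comp_apply, hg, Scheme.Hom.comp_apply, hq']
      exact hq
    refine ⟨q', ?_, hgq'⟩
    rw [← hgq'] at hab
    obtain ⟨h1, h2⟩ := hab
    refine ⟨hemb.toIsInducing.specializes_iff.1 h1, fun h3 => h2 ?_⟩
    exact (show a ⤳ q' from h3).map g.continuous
  have hco := Order.coheight_eq_of_strictMono (fun a : Spec C => g a)
    (strictMono_of_isEmbedding g hemb) hlift pt
  show ringKrullDim ((f.fiber (f x)).presheaf.stalk (f.asFiber x)) = ringKrullDim (B ⧸ I)
  rw [ringKrullDim_stalk_eq_coheight, ← hpt, ← hco, ← idealHeight_eq_coheight C pt]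
  have hloc : IsLocalRing (B ⧸ I) := by
    have : Nontrivial (B ⧸ I) := Ideal.Quotient.nontrivial_iff.2
      (fun h => (IsLocalRing.maximalIdeal.isMaximal B).ne_top (top_le_iff.1 (h ▸ hI)))
    exact IsLocalRing.of_surjective' (Ideal.Quotient.mk I) Ideal.Quotient.mk_surjective
  have hmax : P'.IsMaximal := by
    have : mB.IsMaximal := IsLocalRing.maximalIdeal.isMaximal B
    exact Ideal.IsMaximal.map_of_surjective_of_ker_le Ideal.Quotient.mk_surjective
      (by rw [Ideal.mk_ker]; exact hI)
  show ((P'.height : ℕ∞) : WithBot ℕ∞) = _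
  rw [IsLocalRing.eq_maximalIdeal hmax, IsLocalRing.maximalIdeal_height_eq_ringKrullDim]

end Groth.Agent.Helper5.DimIneq

namespace Groth.Agent.Helper5.DimIneq

/-- For a morphism flat at `x`: `dim 𝒪_{X,x} = dim 𝒪_{Y,y} + dim 𝒪_{X_y,x}`. -/
theorem stalk_dim_eq_of_flat {X Y : Scheme.{u}} (f : X ⟶ Y) (x : ↥X)
    [IsNoetherianRing (X.presheaf.stalk x)] [IsNoetherianRing (Y.presheaf.stalk (f x))]
    (hflat : (f.stalkMap x).hom.Flat) :
    ringKrullDim (X.presheaf.stalk x) =
      ringKrullDim (Y.presheaf.stalk (f x)) +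
        ringKrullDim ((f.fiber (f x)).presheaf.stalk (f.asFiber x)) := by
  rw [fiber_stalk_dim_eq]
  let A := Y.presheaf.stalk (f x)
  let B := X.presheaf.stalk x
  let φ : A →+* B := (f.stalkMap x).hom
  let _ : Algebra A B := φ.toAlgebra
  have hfl : Module.Flat A B := hflat
  let mA := IsLocalRing.maximalIdeal A
  let mB := IsLocalRing.maximalIdeal B
  have hlies : mB.LiesOver mA := by
    constructor
    have h0 : IsLocalHom φ := inferInstanceAs (IsLocalHom (f.stalkMap x).hom)
    have h := ((IsLocalRing.local_hom_TFAE φ).out 0 4).1 h0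
    exact h.symm
  let I : Ideal B := mA.map (algebraMap A B)
  have hI : I ≤ mB := by
    rw [Ideal.map_le_iff_le_comap]
    exact hlies.over.le
  let P' : Ideal (B ⧸ I) := mB.map (Ideal.Quotient.mk I)
  have key := Ideal.height_eq_height_add_of_liesOver_of_hasGoingDown mA mB
  have hloc : IsLocalRing (B ⧸ I) := by
    have : Nontrivial (B ⧸ I) := Ideal.Quotient.nontrivial_iff.2
      (fun h => (IsLocalRing.maximalIdeal.isMaximal B).ne_top (top_le_iff.1 (h ▸ hI)))
    exact IsLocalRing.of_surjective' (Ideal.Quotient.mk I) Ideal.Quotient.mk_surjective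
  have hmax : P'.IsMaximal := by
    have : mB.IsMaximal := IsLocalRing.maximalIdeal.isMaximal B
    exact Ideal.IsMaximal.map_of_surjective_of_ker_le Ideal.Quotient.mk_surjective
      (by rw [Ideal.mk_ker]; exact hI)
  have hP'h : (P'.height : WithBot ℕ∞) = ringKrullDim (B ⧸ I) := by
    rw [IsLocalRing.eq_maximalIdeal hmax, IsLocalRing.maximalIdeal_height_eq_ringKrullDim]
  show ringKrullDim B = ringKrullDim A + ringKrullDim (B ⧸ I)
  rw [← hP'h, ← IsLocalRing.maximalIdeal_height_eq_ringKrullDim (R := B),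
    ← IsLocalRing.maximalIdeal_height_eq_ringKrullDim (R := A)]
  exact_mod_cast key

end Groth.Agent.Helper5.DimIneq
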