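import Groth.Agent.Helper5.VarDim8
import Groth.Agent.Helper5.DimIneq4

set_option autoImplicit false
universe u
open AlgebraicGeometry CategoryTheory TopologicalSpace

namespace Groth.Agent.Helper5.VarDim

/-- The local dimension of a fibre at a point, as a local fibre dimension. -/
theorem localDim_fiber_eq_fibreDimAt {X Y : Scheme.{u}} (f : X ⟶ Y) (y : Y) (ζ : ↥(f.fiber y))
    (x : X) (hx : f.fiberι y ζ = x) (hy : f x = y) :
    FlatMor.localDim ↥(f.fiber y) ζ = FlatMor.fibreDimAt f x := by
  subst hy
  have : ζ = f.asFiber x := by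
    apply (f.fiberι (f x)).isEmbedding.injective
    rw [hx, f.fiberι_asFiber]
  rw [this]
  rfl

theorem apply_fiberι {X Y : Scheme.{u}} (f : X ⟶ Y) (y : Y) (ζ : ↥(f.fiber y)) :
    f (f.fiberι y ζ) = y := by
  have : f.fiberι y ζ ∈ Set.range (f.fiberι y) := ⟨ζ, rfl⟩
  rw [f.range_fiberι] at this
  exact this

/-- The additivity of local dimensions for a morphism of schemes locally of finite type over a
field which is flat at `x`. -/
theorem flat_formula (k : Type u) [Field k] {X Y : Scheme.{u}}
    (gX : X ⟶ Spec (CommRingCat.of k)) (gY : Y ⟶ Spec (CommRingCat.of k))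
    [LocallyOfFiniteType gX] [LocallyOfFiniteType gY]
    (f : X ⟶ Y) (hf : f ≫ gY = gX) (x : X) (hflat : (f.stalkMap x).hom.Flat) :
    FlatMor.localDim X x = FlatMor.localDim Y (f x) + FlatMor.fibreDimAt f x := by
  have hflft : LocallyOfFiniteType f := by
    have : LocallyOfFiniteType (f ≫ gY) := hf ▸ inferInstance
    exact locallyOfFiniteType_of_comp f gY
  have hXN : IsLocallyNoetherian X := LocallyOfFiniteType.isLocallyNoetherian gX
  have hYN : IsLocallyNoetherian Y := LocallyOfFiniteType.isLocallyNoetherian gY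
  obtain ⟨nX, hX1, hX2, -⟩ := localDim_formula k gX x
  obtain ⟨nY, hY1, hY2, -⟩ := localDim_formula k gY (f x)
  have hft : LocallyOfFiniteType (f.fiberToSpecResidueField (f x)) :=
    inferInstanceAs (LocallyOfFiniteType (Limits.pullback.snd f (Y.fromSpecResidueField (f x))))
  obtain ⟨nF, hF1, hF2, -⟩ := localDim_formula (Y.residueField (f x))
    (f.fiberToSpecResidueField (f x)) (f.asFiber x)
  rw [trdeg_fiber f x] at hF1
  have htower := trdeg_tower k f gY x
  rw [hf, hX1, hY1, hF1] at htower
  have hnat : nX = nY + nF := by exact_mod_cast htower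
  have hst := Groth.Agent.Helper5.DimIneq.stalk_dim_eq_of_flat f x hflat
  show FlatMor.localDim X x = FlatMor.localDim Y (f x) +
    FlatMor.localDim ↥(f.fiber (f x)) (f.asFiber x)
  rw [hX2, hY2, hF2, hst, hnat]
  push_cast
  abel

end Groth.Agent.Helper5.VarDim
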