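import Mathlib
import Groth.Agent.Helper5.BCMin8
import Groth.Agent.Helper5.VarDim9

set_option autoImplicit false
universe u
open CategoryTheory CategoryTheory.Limits AlgebraicGeometry TensorProduct

namespace Groth.Agent.Helper5.BCMin

set_option maxHeartbeats 1000000 in
/-- The local fibre dimension is invariant under base change. -/
theorem fibreDimAt_baseChange {X S S' : Scheme.{u}} (f : X ⟶ S) [LocallyOfFiniteType f]
    (g : S' ⟶ S) (x' : ↥(pullback f g)) :
    FlatMor.fibreDimAt (pullback.snd f g) x' = FlatMor.fibreDimAt f (pullback.fst f g x') := by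
  let f' := pullback.snd f g
  let s' : S' := f' x'
  let y : S := g s'
  let ρ := g.residueFieldMap s'
  have hsq : IsPullback (pullback.fst f g) (pullback.snd f g) f g := IsPullback.of_hasPullback f g
  have H := isPullback_fiberToSpecResidueField_of_isPullback hsq s'
  let h : f.fiber y ⟶ Spec (S.residueField y) := f.fiberToSpecResidueField y
  have hlft : LocallyOfFiniteType h :=
    inferInstanceAs (LocallyOfFiniteType (Limits.pullback.snd f (S.fromSpecResidueField y)))
  let e : f'.fiber s' ≅ pullback h (Spec.map ρ) := H.isoPullback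
  let x'F : ↥(f'.fiber s') := f'.asFiber x'
  let x'' : ↥(pullback h (Spec.map ρ)) := e.hom x'F
  let ζ : ↥(f.fiber y) := pullback.fst h (Spec.map ρ) x''
  have e1 : FlatMor.fibreDimAt f' x' = FlatMor.localDim ↥(pullback h (Spec.map ρ)) x'' :=
    Groth.Agent.Helper5.SubDim.localDim_homeomorph (Scheme.homeoOfIso e) x'F
  have e2 : FlatMor.localDim ↥(pullback h (Spec.map ρ)) x'' = FlatMor.localDim ↥(f.fiber y) ζ :=
    @localDim_bc (f.fiber y) (S.residueField y) (S'.residueField s') _ _ ρ.hom h hlft x''
  have hζ : f.fiberι y ζ = pullback.fst f g x' := by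
    have h1 : e.hom ≫ pullback.fst h (Spec.map ρ) ≫ f.fiberι y =
        f'.fiberι s' ≫ pullback.fst f g := by
      have h0 : e.hom ≫ pullback.fst h (Spec.map ρ) = _ := H.isoPullback_hom_fst
      rw [← Category.assoc, h0]
      exact pullback.lift_fst _ _ _
    have h2 := congrArg (fun ψ : f'.fiber s' ⟶ X => ψ x'F) h1
    simp only [Scheme.Hom.comp_apply] at h2
    rw [f'.fiberι_asFiber] at h2
    exact h2
  have hy : f (pullback.fst f g x') = y := by
    have := congrArg (fun ψ : pullback f g ⟶ S => ψ x') (pullback.condition (f := f) (g := g))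
    simpa using this
  have e3 := Groth.Agent.Helper5.VarDim.localDim_fiber_eq_fibreDimAt f y ζ _ hζ hy
  exact e1.trans (e2.trans e3)

end Groth.Agent.Helper5.BCMin
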