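import Groth.Agent.Helper5.LocDE5

set_option autoImplicit false
universe u
open AlgebraicGeometry CategoryTheory TopologicalSpace

namespace Groth.Agent.Helper5.MaxPt

open Groth.Agent.Helper5.LocDE Groth.Agent.Helper5.VarDim

/-- P1: the local fibre dimension at a maximal point of a fibre is the transcendence degree of
its residue field. -/
theorem fibreDimAt_of_maximal {X Y : Scheme.{u}} (f : X ⟶ Y) [LocallyOfFiniteType f] (x : X)
    (h0 : Order.coheight (f.asFiber x) = 0) :
    ∃ n : ℕ, @Algebra.trdeg (Y.residueField (f x)) (X.residueField x) _ _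
        (f.residueFieldMap x).hom.toAlgebra = n ∧ FlatMor.fibreDimAt f x = (n : WithBot ℕ∞) := by
  have hft : LocallyOfFiniteType (f.fiberToSpecResidueField (f x)) :=
    inferInstanceAs (LocallyOfFiniteType (Limits.pullback.snd f (Y.fromSpecResidueField (f x))))
  obtain ⟨n, hn1, hn2, -⟩ := localDim_formula
    (Y.residueField (f x)) (f.fiberToSpecResidueField (f x)) (f.asFiber x)
  refine ⟨n, (trdeg_fiber f x).symm.trans hn1, ?_⟩
  unfold FlatMor.fibreDimAt
  rw [hn2, ringKrullDim_stalk_eq_coheight, h0]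
  simp

/-- P2: a point that is maximal in its fibre has fibre local ring of dimension zero. -/
theorem coheight_asFiber_eq_zero {X Y : Scheme.{u}} (f : X ⟶ Y) (x : X)
    (hmax : ∀ w : X, f w = f x → w ⤳ x → w = x) : Order.coheight (f.asFiber x) = 0 := by
  rw [Order.coheight_eq_zero]
  intro w hw
  have h1 : w ⤳ f.asFiber x := Scheme.le_iff_specializes.1 hw
  have h2 : f.fiberι (f x) w ⤳ x := by
    have := h1.map (f.fiberι (f x)).continuous
    rwa [f.fiberι_asFiber] at this
  have h3 : f (f.fiberι (f x) w) = f x := by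
    have : f.fiberι (f x) w ∈ Set.range (f.fiberι (f x)) := ⟨w, rfl⟩
    rw [Scheme.Hom.range_fiberι] at this
    exact this
  have h4 := hmax _ h3 h2
  have h5 : w = f.asFiber x := by
    apply (f.fiberι (f x)).isEmbedding.injective
    rw [h4, f.fiberι_asFiber]
  rw [h5]

/-- P3: the dimension of the closure of a point of a fibre. -/
theorem dim_closure_fibre_point {X Y : Scheme.{u}} (f : X ⟶ Y) [LocallyOfFiniteType f] (y : Y)
    (ζ : ↥(f.fiber y)) (x : X) (hx : f.fiberι y ζ = x) (hy : f x = y) :
    ∃ n : ℕ, topologicalKrullDim ↥(closure ({ζ} : Set ↥(f.fiber y))) = n ∧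
      @Algebra.trdeg (Y.residueField (f x)) (X.residueField x) _ _
        (f.residueFieldMap x).hom.toAlgebra = n := by
  have hft : LocallyOfFiniteType (f.fiberToSpecResidueField y) :=
    inferInstanceAs (LocallyOfFiniteType (Limits.pullback.snd f (Y.fromSpecResidueField y)))
  obtain ⟨n, hn1, hn2⟩ := dim_closure_point (Y.residueField y) (f.fiberToSpecResidueField y) ζ
  exact ⟨n, hn1, (trdeg_fiber' f y ζ x hx hy).symm.trans hn2⟩

/-- P4: Chevalley semicontinuity along a specialisation. -/
theorem fibreDimAt_le_of_specializes {X Y : Scheme.{u}} (f : X ⟶ Y) [LocallyOfFiniteType f]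
    (ξ z : X) (h : ξ ⤳ z) : FlatMor.fibreDimAt f ξ ≤ FlatMor.fibreDimAt f z := by
  have hopen := Groth.Agent.Helper5.FibDim.isOpen_fibreDimAt_le f (FlatMor.fibreDimAt f z)
  have hz : z ∈ {x : ↥X | FlatMor.fibreDimAt f x ≤ FlatMor.fibreDimAt f z} :=
    le_refl (FlatMor.fibreDimAt f z)
  exact h.mem_open hopen hz

end Groth.Agent.Helper5.MaxPt
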