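import Mathlib
import Groth.Agent.Helper5.BCMin11
import Groth.Agent.Helper5.MaxPt1

set_option autoImplicit false
universe u
open CategoryTheory CategoryTheory.Limits AlgebraicGeometry TensorProduct

namespace Groth.Agent.Helper5.BCMin

open Groth.Agent.Helper5.VarDim Groth.Agent.Helper5.MaxPt

/-- Flat morphisms send maximal points to maximal points. -/
theorem max_map_of_flat {X Y : Scheme.{u}} (f : X ⟶ Y) [Flat f] (x : X)
    (hmax : ∀ y : X, y ⤳ x → y = x) : ∀ y : Y, y ⤳ f x → y = f x := by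
  intro y hy
  have hgen : GeneralizingMap f := Flat.generalizingMap _
  obtain ⟨x', hx', rfl⟩ := hgen hy
  rw [hmax x' hx']

/-- A maximal point of an irreducible space is generic. -/
theorem closure_eq_univ_of_max {T : Type*} [TopologicalSpace T] [QuasiSober T] [IrreducibleSpace T]
    (ξ : T) (hmax : ∀ w : T, w ⤳ ξ → w = ξ) : closure ({ξ} : Set T) = Set.univ := by
  have h := Groth.Agent.Helper5.EqAt.closure_singleton_mem_irreducibleComponents ξ hmax
  rw [irreducibleComponents_eq_singleton] at h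
  exact h

/-- The residue field of the point of `Spec k` has transcendence degree zero over `k`. -/
theorem trdeg_point_Spec_field (k : Type u) [Field k] (pt : ↥(Spec (CommRingCat.of k))) :
    @Algebra.trdeg k ((Spec (CommRingCat.of k)).residueField pt) _ _
      (resHom k (𝟙 (Spec (CommRingCat.of k))) pt).toAlgebra = 0 := by
  obtain ⟨n, hn1, hn2⟩ := dim_closure_point k (𝟙 (Spec (CommRingCat.of k))) pt
  rw [hn2]
  have h1 : topologicalKrullDim ↥(closure ({pt} : Set ↥(Spec (CommRingCat.of k)))) ≤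
      topologicalKrullDim ↥(Spec (CommRingCat.of k)) :=
    (Topology.IsInducing.subtypeVal).topologicalKrullDim_le
  rw [hn1, Groth.Agent.Helper5.DimBC.dim_Spec] at h1
  have h2 : ringKrullDim (CommRingCat.of k) = 0 := ringKrullDim_eq_zero_of_field k
  rw [h2] at h1
  have h3 : n = 0 := by
    have : (n : WithBot ℕ∞) ≤ ((0 : ℕ) : WithBot ℕ∞) := by simpa using h1
    exact Nat.le_zero.1 (by exact_mod_cast this)
  rw [h3]
  simp

set_option maxHeartbeats 1000000 in
/-- Every irreducible component of the product of two integral schemes locally of finite type over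
a field has dimension the sum of the dimensions. -/
theorem dim_component_product (k : Type u) [Field k] {X Y : Scheme.{u}}
    (f : X ⟶ Spec (CommRingCat.of k)) (g : Y ⟶ Spec (CommRingCat.of k)) [IsIntegral X]
    [IsIntegral Y] [LocallyOfFiniteType f] [LocallyOfFiniteType g] (Z : Set ↥(pullback f g))
    (hZ : Z ∈ irreducibleComponents ↥(pullback f g)) :
    topologicalKrullDim ↥Z = topologicalKrullDim ↥X + topologicalKrullDim ↥Y := by
  let p1 := pullback.fst f g
  let p2 := pullback.snd f g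
  obtain ⟨ζ, hζ⟩ := QuasiSober.sober hZ.1 (isClosed_of_mem_irreducibleComponents Z hZ)
  have hcl : closure ({ζ} : Set ↥(pullback f g)) = Z := hζ.def
  have hmax : ∀ y, y ⤳ ζ → y = ζ := fun y hy =>
    Groth.Agent.Helper5.EqAt.max_of_closure_mem_irreducibleComponents ζ (hcl ▸ hZ) y hy
  have hξmax := max_map_of_flat p1 ζ hmax
  have hηmax := max_map_of_flat p2 ζ hmax
  have hξcl := closure_eq_univ_of_max (p1 ζ) hξmax
  have hηcl := closure_eq_univ_of_max (p2 ζ) hηmax
  have h0 : Order.coheight (p2.asFiber ζ) = 0 :=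
    coheight_asFiber_eq_zero p2 ζ (fun w _ hw => hmax w hw)
  obtain ⟨n₂, hn₂a, hn₂b⟩ := fibreDimAt_of_maximal p2 ζ h0
  have hB := fibreDimAt_baseChange f g ζ
  have h0' : Order.coheight (f.asFiber (p1 ζ)) = 0 :=
    coheight_asFiber_eq_zero f (p1 ζ) (fun w _ hw => hξmax w hw)
  obtain ⟨n₁, hn₁a, hn₁b⟩ := fibreDimAt_of_maximal f (p1 ζ) h0'
  have hn : n₂ = n₁ := by
    have h1 : FlatMor.fibreDimAt p2 ζ = FlatMor.fibreDimAt f (p1 ζ) := hB
    rw [hn₂b, hn₁b] at h1
    exact_mod_cast h1
  have hD := trdeg_tower k f (𝟙 (Spec (CommRingCat.of k))) (p1 ζ)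
  rw [trdeg_point_Spec_field, zero_add, hn₁a, Category.comp_id] at hD
  obtain ⟨a, ha1, ha2⟩ := dim_eq_trdeg_generic k f (p1 ζ) hξcl
  obtain ⟨b, hb1, hb2⟩ := dim_eq_trdeg_generic k g (p2 ζ) hηcl
  have hG := trdeg_tower k p2 g ζ
  obtain ⟨N, hN1, hN2⟩ := dim_closure_point k (p2 ≫ g) ζ
  rw [hN2, hb2, hn₂a] at hG
  rw [ha2] at hD
  have hNeq : N = b + n₂ := by exact_mod_cast hG
  have han : a = n₁ := by exact_mod_cast hD
  rw [← hcl, hN1, ha1, hb1, hNeq, hn, ← han]
  push_cast
  rw [add_comm]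

end Groth.Agent.Helper5.BCMin
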