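import Mathlib
import Groth.Agent.Helper5.BCMin11

set_option autoImplicit false
universe u
open CategoryTheory CategoryTheory.Limits AlgebraicGeometry TensorProduct

namespace Groth.Agent.Helper5.BCMin

set_option maxHeartbeats 1000000 in
/-- The fibre of the base change is the base change of the fibre to the residue field extension. -/
theorem fibre_iso_of_isPullback {X S X' S' : Scheme.{u}} (f : X ⟶ S)
    (g : S' ⟶ S) (g' : X' ⟶ X) (f' : X' ⟶ S') (hsq : IsPullback g' f' f g) (s' : S') :
    ∃ e : f'.fiber s' ≅ pullback (f.fiberToSpecResidueField (g s')) (Spec.map (g.residueFieldMap s')),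
      e.hom ≫ pullback.fst (f.fiberToSpecResidueField (g s')) (Spec.map (g.residueFieldMap s')) ≫
        f.fiberι (g s') = f'.fiberι s' ≫ g' := by
  have H := isPullback_fiberToSpecResidueField_of_isPullback hsq s'
  let ρ := g.residueFieldMap s'
  let h : f.fiber (g s') ⟶ Spec (S.residueField (g s')) := f.fiberToSpecResidueField (g s')
  let e : f'.fiber s' ≅ pullback h (Spec.map ρ) := H.isoPullback
  have h1 : e.hom ≫ pullback.fst h (Spec.map ρ) ≫ f.fiberι (g s') = f'.fiberι s' ≫ g' := by
    have h0 : e.hom ≫ pullback.fst h (Spec.map ρ) = _ := H.isoPullback_hom_fst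
    rw [← Category.assoc, h0]
    exact pullback.lift_fst _ _ _
  exact ⟨e, h1⟩

set_option maxHeartbeats 1000000 in
/-- The local fibre dimension is invariant under base change (general cartesian square). -/
theorem fibreDimAt_of_isPullback {X S X' S' : Scheme.{u}} (f : X ⟶ S) [LocallyOfFiniteType f]
    (g : S' ⟶ S) (g' : X' ⟶ X) (f' : X' ⟶ S') (hsq : IsPullback g' f' f g) (x' : X') :
    FlatMor.fibreDimAt f' x' = FlatMor.fibreDimAt f (g' x') := by
  let s' : S' := f' x'
  let y : S := g s'
  let ρ := g.residueFieldMap s'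
  let h : f.fiber y ⟶ Spec (S.residueField y) := f.fiberToSpecResidueField y
  have hlft : LocallyOfFiniteType h :=
    inferInstanceAs (LocallyOfFiniteType (Limits.pullback.snd f (S.fromSpecResidueField y)))
  obtain ⟨e, he⟩ := fibre_iso_of_isPullback f g g' f' hsq s'
  let x'F : ↥(f'.fiber s') := f'.asFiber x'
  let x'' : ↥(pullback h (Spec.map ρ)) := e.hom x'F
  let ζ : ↥(f.fiber y) := pullback.fst h (Spec.map ρ) x''
  have e1 : FlatMor.fibreDimAt f' x' = FlatMor.localDim ↥(pullback h (Spec.map ρ)) x'' :=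
    Groth.Agent.Helper5.SubDim.localDim_homeomorph (Scheme.homeoOfIso e) x'F
  have e2 : FlatMor.localDim ↥(pullback h (Spec.map ρ)) x'' = FlatMor.localDim ↥(f.fiber y) ζ :=
    @localDim_bc (f.fiber y) (S.residueField y) (S'.residueField s') _ _ ρ.hom h hlft x''
  have hζ : f.fiberι y ζ = g' x' := by
    have h2 := congrArg (fun ψ : f'.fiber s' ⟶ X => ψ x'F) he
    simp only [Scheme.Hom.comp_apply] at h2
    rw [f'.fiberι_asFiber] at h2
    exact h2
  have hy : f (g' x') = y := by
    have := congrArg (fun ψ : X' ⟶ S => ψ x') hsq.w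
    simpa using this
  have e3 := Groth.Agent.Helper5.VarDim.localDim_fiber_eq_fibreDimAt f y ζ _ hζ hy
  exact e1.trans (e2.trans e3)

set_option maxHeartbeats 1000000 in
/-- Equidimensionality of all fibres is preserved by base change. -/
theorem hasRelDim_of_isPullback {X S X' S' : Scheme.{u}} (f : X ⟶ S) [LocallyOfFiniteType f]
    (g : S' ⟶ S) (g' : X' ⟶ X) (f' : X' ⟶ S') (hsq : IsPullback g' f' f g) (d : ℕ)
    (hf : Cyc.HasRelDim f d) : Cyc.HasRelDim f' d := by
  intro s' T hT
  let y : S := g s'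
  let ρ := g.residueFieldMap s'
  let h : f.fiber y ⟶ Spec (S.residueField y) := f.fiberToSpecResidueField y
  have hlft : LocallyOfFiniteType h :=
    inferInstanceAs (LocallyOfFiniteType (Limits.pullback.snd f (S.fromSpecResidueField y)))
  obtain ⟨e, -⟩ := fibre_iso_of_isPullback f g g' f' hsq s'
  let E : ↥(f'.fiber s') ≃ₜ ↥(pullback h (Spec.map ρ)) := Scheme.homeoOfIso e
  have hne : (T ∩ Set.range ⇑E.symm).Nonempty := by
    obtain ⟨t, ht⟩ := hT.1.nonempty
    exact ⟨t, ht, E t, E.symm_apply_apply t⟩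
  have hT' : E.symm ⁻¹' T ∈ irreducibleComponents ↥(pullback h (Spec.map ρ)) :=
    preimage_mem_irreducibleComponents hT E.symm.isOpenEmbedding hne
  have hdim : topologicalKrullDim ↥(E.symm ⁻¹' T) = topologicalKrullDim ↥T :=
    Groth.Agent.Helper5.FtDim.dim_preimage_of_isHomeomorph E.symm E.symm.isHomeomorph T
  have hset := @image_dim_components_bc (f.fiber y) (S.residueField y) (S'.residueField s') _ _
    ρ.hom h hlft
  have hmem : topologicalKrullDim ↥(E.symm ⁻¹' T) ∈
      (fun Z : Set ↥(f.fiber y) => topologicalKrullDim ↥Z) '' irreducibleComponents ↥(f.fiber y) := by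
    rw [← hset]
    exact ⟨_, hT', rfl⟩
  obtain ⟨C, hC, hCdim⟩ := hmem
  rw [← hdim, ← hCdim]
  exact hf y C hC

end Groth.Agent.Helper5.BCMin
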