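import Groth.Agent.Helper5.EqAt8

set_option autoImplicit false
universe u
open AlgebraicGeometry CategoryTheory TopologicalSpace

namespace Groth.Agent.Helper5.EqAt

open Groth.Agent.Helper5.LocDE Groth.Agent.Helper5.VarDim Groth.Agent.Helper5.MaxPt
  Groth.Agent.Helper5.SubDim Groth.Agent.Helper5.StalkDict Groth.Agent.Helper5.OpenAt

/-- Variant of `isEquidimAt_of_generic` without irreducibility of the target. -/
theorem isEquidimAt_of_generic' {T Y : Scheme.{u}} (g : T ⟶ Y)
    [LocallyOfFiniteType g] (w ξT : T) (hξT : closure ({ξT} : Set T) = Set.univ) (m : ℕ)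
    (hcomp : closure ({g ξT} : Set Y) ∈ irreducibleComponents (Y : Type u))
    (hξm : FlatMor.fibreDimAt g ξT = (m : WithBot ℕ∞))
    (hwm : FlatMor.fibreDimAt g w = (m : WithBot ℕ∞)) :
    EGA43.IsEquidimAt g w := by
  have hgen : ∀ t : T, ξT ⤳ t := fun t => by
    rw [specializes_iff_mem_closure, hξT]; trivial
  let UT : T.Opens := ⟨{t | FlatMor.fibreDimAt g t ≤ (m : WithBot ℕ∞)},
    Groth.Agent.Helper5.FibDim.isOpen_fibreDimAt_le g m⟩
  have hξU : ξT ∈ UT := le_of_eq hξm
  refine ⟨m, UT, (le_of_eq hwm : w ∈ UT), ?_, ?_⟩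
  · intro Z hZ
    refine ⟨closure {g ξT}, hcomp,
      specializes_iff_mem_closure.1 ((hgen w).map g.continuous), ?_⟩
    let ξU : ↥(UT : Scheme.{u}) := ⟨ξT, hξU⟩
    have hξUgen : closure ({ξU} : Set ↥(UT : Scheme.{u})) = Set.univ := by
      refine Set.eq_univ_of_forall fun t => ?_
      rw [← specializes_iff_mem_closure, ← UT.ι.isEmbedding.toIsInducing.specializes_iff]
      exact hgen _
    have hZu := irreducibleComponents_of_generic ξU hξUgen Z hZ
    rw [hZu]
    apply subset_antisymm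
    · refine closure_minimal ?_ isClosed_closure
      rintro _ ⟨t, -, rfl⟩
      exact specializes_iff_mem_closure.1 ((hgen (UT.ι t)).map g.continuous)
    · refine closure_mono ?_
      rw [Set.singleton_subset_iff]
      exact ⟨ξU, trivial, rfl⟩
  · intro t Z hZ
    obtain ⟨t₀, -, hdimZ⟩ := dim_component_fibre_eq (UT.ι ≫ g) _ Z hZ
    rw [hdimZ, fibreDimAt_open_restrict g UT t₀]
    apply le_antisymm
    · exact t₀.2
    · rw [← hξm]
      exact fibreDimAt_le_of_specializes g ξT _ (hgen _)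

/-- S14076: if `f` is equidimensional at `x`, then so is its restriction to any irreducible
component of `X` through `x`. -/
theorem isEquidimAt_component {X S : Scheme.{u}} (f : X ⟶ S) [LocallyOfFiniteType f] (x : X)
    (h : EGA43.IsEquidimAt f x) (W : TopologicalSpace.Closeds X)
    (hW : (W : Set X) ∈ irreducibleComponents (X : Type u)) (hxW : x ∈ (W : Set X)) :
    ∃ w : ↥((Scheme.IdealSheafData.vanishingIdeal W).subscheme),
      (Scheme.IdealSheafData.vanishingIdeal W).subschemeι.base w = x ∧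
      EGA43.IsEquidimAt ((Scheme.IdealSheafData.vanishingIdeal W).subschemeι ≫ f) w := by
  obtain ⟨e, U, hxU, C1, C2⟩ := h
  obtain ⟨ξ, hξ⟩ := QuasiSober.sober hW.1 W.2
  have hξdef : closure ({ξ} : Set X) = (W : Set X) := hξ.def
  have hξx : ξ ⤳ x := by rw [specializes_iff_mem_closure, hξdef]; exact hxW
  have hξU : ξ ∈ U := hξx.mem_open U.2 hxU
  have hmaxξ : ∀ w : X, w ⤳ ξ → w = ξ := fun w hw =>
    max_of_closure_mem_irreducibleComponents ξ (by rw [hξdef]; exact hW) w hw
  have hξ0 : Order.coheight ξ = 0 := by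
    rw [Order.coheight_eq_zero]
    intro b hb
    rw [hmaxξ b (Scheme.le_iff_specializes.1 hb)]
  have hmaxf : ∀ η : S, η ⤳ f ξ → η = f ξ := fun η hη =>
    max_map_of_components f U (f x) C1 ⟨ξ, hξU⟩ hξ0 η hη
  have heξ : FlatMor.fibreDimAt f ξ = (e : WithBot ℕ∞) :=
    fibreDimAt_of_components f U e C2 ⟨ξ, hξU⟩
  have hex : FlatMor.fibreDimAt f x = (e : WithBot ℕ∞) :=
    fibreDimAt_of_components f U e C2 ⟨x, hxU⟩
  obtain ⟨n0, hn0a, hn0b⟩ := fibreDimAt_of_maximal f ξ
    (coheight_asFiber_eq_zero f ξ (fun w _ hw => hmaxξ w hw))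
  have q0 : n0 = e := by
    rw [hn0b] at heξ
    exact_mod_cast heξ
  have hrange : Set.range (Scheme.IdealSheafData.vanishingIdeal W).subschemeι = (W : Set X) := by
    rw [Scheme.IdealSheafData.range_subschemeι]; rfl
  obtain ⟨w, hw⟩ : x ∈ Set.range (Scheme.IdealSheafData.vanishingIdeal W).subschemeι := by
    rw [hrange]; exact hxW
  obtain ⟨ξT, hξT⟩ : ξ ∈ Set.range (Scheme.IdealSheafData.vanishingIdeal W).subschemeι := by
    rw [hrange, ← hξdef]; exact subset_closure rfl
  have hξTgen : closure ({ξT} : Set ↥(Scheme.IdealSheafData.vanishingIdeal W).subscheme) =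
      Set.univ := by
    rw [(Scheme.IdealSheafData.vanishingIdeal W).subschemeι.isEmbedding.toIsInducing.closure_eq_preimage_closure_image,
      Set.image_singleton, hξT, hξdef]
    refine Set.eq_univ_of_forall fun t => ?_
    show (Scheme.IdealSheafData.vanishingIdeal W).subschemeι t ∈ (W : Set X)
    rw [← hrange]
    exact ⟨t, rfl⟩
  refine ⟨w, hw, ?_⟩
  obtain ⟨n3, hn3a, hn3b⟩ := trdeg_generic_le_fibreDimAt_sub f W ξ hξdef w
  have q3 : n3 = n0 := by
    have := hn3a.symm.trans hn0a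
    exact_mod_cast this
  obtain ⟨n4, hn4a, hn4b⟩ := trdeg_generic_le_fibreDimAt_sub f W ξ hξdef ξT
  have q4 : n4 = n0 := by
    have := hn4a.symm.trans hn0a
    exact_mod_cast this
  have hle1 := fibreDimAt_closedImmersion_le (Scheme.IdealSheafData.vanishingIdeal W).subschemeι f w
  have hle2 := fibreDimAt_closedImmersion_le (Scheme.IdealSheafData.vanishingIdeal W).subschemeι f ξT
  rw [hw, hex] at hle1
  rw [hξT, heξ] at hle2
  rw [q3, q0] at hn3b
  rw [q4, q0] at hn4b
  refine isEquidimAt_of_generic' _ w ξT hξTgen e ?_ (le_antisymm hle2 hn4b) (le_antisymm hle1 hn3b)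
  show closure ({f ((Scheme.IdealSheafData.vanishingIdeal W).subschemeι ξT)} : Set S) ∈ _
  rw [hξT]
  exact closure_singleton_mem_irreducibleComponents (f ξ) hmaxf

end Groth.Agent.Helper5.EqAt
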