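import Mathlib
import Groth.Agent.Helper5.BCMin13
import Groth.Agent.Helper5.EqAt9

set_option autoImplicit false
universe u
open CategoryTheory CategoryTheory.Limits AlgebraicGeometry

namespace Groth.Agent.Helper5.EqBC

set_option maxHeartbeats 1000000 in
/-- The projection `X' ×_{Y'} Y'_η ⟶ Y'_η` is flat: it is a base change of `X_η ⟶ Spec κ(η)`. -/
theorem flat_snd_fibre {X Y Y' : Scheme.{u}} (f : X ⟶ Y) (g : Y' ⟶ Y) (η : Y) :
    Flat (pullback.snd (pullback.snd f g) (g.fiberι η)) := by
  let i := Y.fromSpecResidueField η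
  let j : g.fiber η ⟶ Y' := g.fiberι η
  let s : g.fiber η ⟶ Spec (Y.residueField η) := pullback.snd g i
  have hcond : j ≫ g = s ≫ i := pullback.condition
  let e1 : pullback (pullback.snd f g) j ≅ pullback f (j ≫ g) := pullbackLeftPullbackSndIso f g j
  let e2 : pullback f (j ≫ g) ≅ pullback f (s ≫ i) := pullback.congrHom rfl hcond
  let e3 : pullback (pullback.snd f i) s ≅ pullback f (s ≫ i) := pullbackLeftPullbackSndIso f i s
  have hfl : Flat (pullback.snd (pullback.snd f i) s) := inferInstance
  have heq : pullback.snd (pullback.snd f g) j =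
      (e1 ≪≫ e2 ≪≫ e3.symm).hom ≫ pullback.snd (pullback.snd f i) s := by
    simp only [Iso.trans_hom, Iso.symm_hom, Category.assoc, e1, e2, e3,
      pullbackLeftPullbackSndIso_inv_snd_snd, pullback.congrHom_hom, pullback.lift_snd,
      Category.comp_id, pullbackLeftPullbackSndIso_hom_snd]
  show Flat (pullback.snd (pullback.snd f g) j)
  rw [heq]
  infer_instance

/-- If `ξ'` is a maximal point of `X ×_Y Y'` whose image in `Y` is a maximal point, then its image
in `Y'` is a maximal point. -/
theorem max_snd_of_max {X Y Y' : Scheme.{u}} (f : X ⟶ Y) (g : Y' ⟶ Y) (ξ' : ↥(pullback f g))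
    (hmax : ∀ y, y ⤳ ξ' → y = ξ')
    (hη : ∀ η : Y, η ⤳ g (pullback.snd f g ξ') → η = g (pullback.snd f g ξ')) :
    ∀ η'' : Y', η'' ⤳ pullback.snd f g ξ' → η'' = pullback.snd f g ξ' := by
  intro η'' hsp
  let f' := pullback.snd f g
  let η' : Y' := f' ξ'
  let η : Y := g η'
  let j : g.fiber η ⟶ Y' := g.fiberι η
  have hgη'' : g η'' = η := hη _ (hsp.map g.continuous)
  have hr'' : η'' ∈ Set.range j := by rw [Scheme.Hom.range_fiberι]; exact hgη''
  have hr' : η' ∈ Set.range j := by rw [Scheme.Hom.range_fiberι]; rfl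
  obtain ⟨a'', ha''⟩ := hr''
  obtain ⟨a', ha'⟩ := hr'
  have hemb : Topology.IsEmbedding j := (g.fiberι η).isEmbedding
  have ha : a'' ⤳ a' := by
    rw [← hemb.toIsInducing.specializes_iff, ha'', ha']
    exact hsp
  obtain ⟨c', hc'1, hc'2⟩ := Scheme.Pullback.exists_preimage_pullback (f := f') (g := j) ξ' a'
    ha'.symm
  have hfl : Flat (pullback.snd f' j) := flat_snd_fibre f g η
  have hgen : GeneralizingMap (pullback.snd f' j) := Flat.generalizingMap _
  have ha2 : a'' ⤳ pullback.snd f' j c' := by rw [hc'2]; exact ha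
  obtain ⟨c'', hc'', hc''2⟩ := hgen ha2
  have h1 : pullback.fst f' j c'' ⤳ ξ' := by
    rw [← hc'1]
    exact hc''.map (pullback.fst f' j).continuous
  have h2 : pullback.fst f' j c'' = ξ' := hmax _ h1
  have h3 : f' (pullback.fst f' j c'') = j (pullback.snd f' j c'') := by
    have := congrArg (fun ψ : pullback f' j ⟶ Y' => ψ c'') (pullback.condition (f := f') (g := j))
    simpa using this
  rw [h2, hc''2, ha''] at h3
  exact h3.symm

end Groth.Agent.Helper5.EqBC
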