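import Mathlib
import Groth.Agent.Helper5.EqBC1
import Groth.Agent.Helper5.BCMin12

set_option autoImplicit false
universe u
open CategoryTheory CategoryTheory.Limits AlgebraicGeometry

namespace Groth.Agent.Helper5.EqBC

open Groth.Agent.Helper5.EqAt Groth.Agent.Helper5.BCMin

set_option maxHeartbeats 1000000 in
/-- Equidimensionality at a point is preserved by flat base change to a locally Noetherian
scheme. -/
theorem isEquidimAt_baseChange {X Y Y' : Scheme.{u}} (f : X ⟶ Y) [LocallyOfFiniteType f]
    (g : Y' ⟶ Y) [Flat g] [IsLocallyNoetherian Y'] (x : X) (h : EGA43.IsEquidimAt f x)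
    (x' : ↥(pullback f g)) (hx' : (pullback.fst f g) x' = x) :
    EGA43.IsEquidimAt (pullback.snd f g) x' := by
  obtain ⟨e, U, hxU, C1, C2⟩ := h
  have hN : IsLocallyNoetherian (pullback f g) :=
    LocallyOfFiniteType.isLocallyNoetherian (pullback.snd f g)
  have hP1 : ∀ t : X, t ∈ U → FlatMor.fibreDimAt f t = (e : WithBot ℕ∞) := fun t ht =>
    fibreDimAt_of_components f U e C2 ⟨t, ht⟩
  apply isEquidimAt_of_key (pullback.snd f g) x' e
  · rw [fibreDimAt_baseChange, hx', hP1 x hxU]
  · intro ξ' hξ' h0
    have hIsMax : IsMax ξ' := Order.coheight_eq_zero.1 h0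
    have hmax : ∀ y, y ⤳ ξ' → y = ξ' := by
      intro y hy
      have h1 : y ≤ ξ' := hIsMax (Scheme.le_iff_specializes.2 hy)
      exact (hy.antisymm (Scheme.le_iff_specializes.1 h1)).eq
    have hξx : pullback.fst f g ξ' ⤳ x := by
      rw [← hx']
      exact hξ'.map (pullback.fst f g).continuous
    have hξU : pullback.fst f g ξ' ∈ U := hξx.mem_open U.2 hxU
    refine ⟨by rw [fibreDimAt_baseChange]; exact hP1 _ hξU, ?_⟩
    have hξmax := max_map_of_flat (pullback.fst f g) ξ' hmax
    have hξ0 : Order.coheight (pullback.fst f g ξ') = 0 := by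
      rw [Order.coheight_eq_zero]
      intro b hb
      have : b = pullback.fst f g ξ' := hξmax b (Scheme.le_iff_specializes.1 hb)
      exact le_of_eq this
    have hfξ : ∀ η : Y, η ⤳ f (pullback.fst f g ξ') → η = f (pullback.fst f g ξ') :=
      fun η hη => max_map_of_components f U (f x) C1 ⟨pullback.fst f g ξ', hξU⟩ hξ0 η hη
    have hcond : g (pullback.snd f g ξ') = f (pullback.fst f g ξ') := by
      have := congrArg (fun ψ : pullback f g ⟶ Y => ψ ξ') (pullback.condition (f := f) (g := g))
      simpa using this.symm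
    have hmax' := max_snd_of_max f g ξ' hmax (by rw [hcond]; exact hfξ)
    exact closure_singleton_mem_irreducibleComponents _ hmax'

end Groth.Agent.Helper5.EqBC
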