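import Mathlib
import Groth.Agent.Helper5.EqBC2

set_option autoImplicit false
universe u
open CategoryTheory CategoryTheory.Limits AlgebraicGeometry

namespace Groth.Agent.Helper5.CutSec

set_option maxHeartbeats 1000000 in
/-- Prime avoidance in the fibre: a section on an affine open neighbourhood of a non-maximal point
`x` of its fibre vanishing at `x` but at no maximal point of the fibre. -/
theorem exists_section_avoiding {X Y : Scheme.{u}} [IsLocallyNoetherian Y] (f : X ⟶ Y)
    [LocallyOfFiniteType f] (x : X)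
    (hx : ∃ x' : X, f.base x' = f.base x ∧ x' ≠ x ∧ x ∈ closure ({x'} : Set X)) :
    ∃ U : X.Opens, IsAffineOpen U ∧ x ∈ U ∧ ∃ g : Γ(X, U), x ∉ X.basicOpen g ∧
      ∀ z : X, f.base z = f.base x →
        (∀ z' : X, f.base z' = f.base x → z ∈ closure ({z'} : Set X) → z' = z) →
        z ∈ U → z ∈ X.basicOpen g := by
  have hXN : IsLocallyNoetherian X := LocallyOfFiniteType.isLocallyNoetherian f
  obtain ⟨V, hV, hyV⟩ : ∃ V : Y.Opens, IsAffineOpen V ∧ f x ∈ V := by
    obtain ⟨_, ⟨V, hV, rfl⟩, hxV, -⟩ :=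
      (Y.isBasis_affineOpens).exists_subset_of_mem_open (Set.mem_univ (f x)) isOpen_univ
    exact ⟨V, hV, hxV⟩
  obtain ⟨U, hU, hxU, hUV⟩ : ∃ U : X.Opens, IsAffineOpen U ∧ x ∈ U ∧ U ≤ f ⁻¹ᵁ V := by
    obtain ⟨_, ⟨U, hU, rfl⟩, hxU, hsub⟩ :=
      (X.isBasis_affineOpens).exists_subset_of_mem_open (show x ∈ (f ⁻¹ᵁ V : Set X) from hyV)
        (f ⁻¹ᵁ V).2
    exact ⟨U, hU, hxU, hsub⟩
  have hN : IsNoetherianRing Γ(X, U) := IsLocallyNoetherian.component_noetherian ⟨U, hU⟩
  let φ : Γ(Y, V) →+* Γ(X, U) := (f.appLE V U hUV).hom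
  let j := hU.fromSpec
  let jV := hV.fromSpec
  have hjf : Spec.map (f.appLE V U hUV) ≫ jV = j ≫ f := IsAffineOpen.SpecMap_appLE_fromSpec f hV hU hUV
  have hjemb : Topology.IsEmbedding j := j.isEmbedding
  have hjVinj : Function.Injective jV := jV.isEmbedding.injective
  obtain ⟨Px, hPx⟩ : x ∈ Set.range j := by rw [hU.range_fromSpec]; exact hxU
  -- the prime of `y`
  let q : ↥(Spec Γ(Y, V)) := Spec.map (f.appLE V U hUV) Px
  have hfj : ∀ P : ↥(Spec Γ(X, U)), f (j P) = jV (Spec.map (f.appLE V U hUV) P) := by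
    intro P
    have := congrArg (fun ψ : Spec Γ(X, U) ⟶ Y => ψ P) hjf
    exact this.symm
  have hq : jV q = f x := by rw [← hPx, hfj]
  -- the finite set of minimal primes
  let I : Ideal Γ(X, U) := q.asIdeal.map φ
  have hfin : I.minimalPrimes.Finite := Ideal.finite_minimalPrimes_of_isNoetherianRing _ I
  -- maximal points of the fibre in `U` give minimal primes of `I`
  have hmin : ∀ P : ↥(Spec Γ(X, U)), f (j P) = f x →
      (∀ z' : X, f z' = f x → j P ∈ closure ({z'} : Set X) → z' = j P) →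
      P.asIdeal ∈ I.minimalPrimes := by
    intro P hP hmax
    have hcomap : Spec.map (f.appLE V U hUV) P = q := by
      apply hjVinj
      rw [← hfj, hP, hq]
    have hle : I ≤ P.asIdeal := by
      rw [Ideal.map_le_iff_le_comap]
      have : q.asIdeal = P.asIdeal.comap φ := by rw [← hcomap]; rfl
      rw [this]
    refine ⟨⟨P.isPrime, hle⟩, ?_⟩
    rintro P' ⟨hP'prime, hP'I⟩ hP'P
    let P'' : ↥(Spec Γ(X, U)) := ⟨P', hP'prime⟩
    have hsp : j P'' ⤳ j P := by
      rw [hjemb.toIsInducing.specializes_iff]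
      exact (PrimeSpectrum.le_iff_specializes P'' P).1 hP'P
    have hcomap' : Spec.map (f.appLE V U hUV) P'' = q := by
      apply PrimeSpectrum.ext
      apply le_antisymm
      · have h1 : (Spec.map (f.appLE V U hUV) P'').asIdeal ≤ (Spec.map (f.appLE V U hUV) P).asIdeal :=
          Ideal.comap_mono hP'P
        rw [hcomap] at h1
        exact h1
      · exact Ideal.map_le_iff_le_comap.1 hP'I
    have hfP'' : f (j P'') = f x := by rw [hfj, hcomap', hq]
    have heq : j P'' = j P := hmax _ hfP'' (specializes_iff_mem_closure.1 hsp)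
    have : P'' = P := hjemb.injective heq
    exact (congrArg PrimeSpectrum.asIdeal this).ge
  -- prime avoidance
  let T : Set (Ideal Γ(X, U)) := {P | P ∈ I.minimalPrimes ∧ ¬ Px.asIdeal ≤ P}
  have hTfin : T.Finite := hfin.subset (fun P hP => hP.1)
  have havoid : ¬ ((Px.asIdeal : Set Γ(X, U)) ⊆ ⋃ P ∈ (↑hTfin.toFinset : Set (Ideal Γ(X, U))), (P : Set Γ(X, U))) := by
    intro hsub
    have h1 := (Ideal.subset_union_prime (s := hTfin.toFinset) (f := fun P : Ideal Γ(X, U) => P)
      (⊥ : Ideal Γ(X, U)) (⊥ : Ideal Γ(X, U)) (fun P hP _ _ => by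
        have : P ∈ T := hTfin.mem_toFinset.1 hP
        exact this.1.1.1) (I := Px.asIdeal)).1 hsub
    obtain ⟨P, hP, hle⟩ := h1
    have : P ∈ T := hTfin.mem_toFinset.1 hP
    exact this.2 hle
  obtain ⟨g, hgPx, hgT⟩ := Set.not_subset.1 havoid
  refine ⟨U, hU, hxU, g, ?_, ?_⟩
  · intro hxg
    have h1 : Px ∈ j ⁻¹ᵁ X.basicOpen g := by
      show j Px ∈ X.basicOpen g
      rw [hPx]; exact hxg
    rw [hU.fromSpec_preimage_basicOpen] at h1
    exact h1 hgPx
  · intro z hfz hzmax hzU
    obtain ⟨P, rfl⟩ : z ∈ Set.range j := by rw [hU.range_fromSpec]; exact hzU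
    have hPmin := hmin P hfz hzmax
    have hPT : P.asIdeal ∈ T := by
      refine ⟨hPmin, ?_⟩
      intro hle
      have hsp : j Px ⤳ j P := by
        rw [hjemb.toIsInducing.specializes_iff]
        exact (PrimeSpectrum.le_iff_specializes Px P).1 hle
      rw [hPx] at hsp
      have hxz : x = j P := hzmax x rfl (specializes_iff_mem_closure.1 hsp)
      obtain ⟨x', hfx', hne, hxx'⟩ := hx
      apply hne
      have : x' = j P := hzmax x' hfx' (by rw [← hxz]; exact hxx')
      rw [this, ← hxz]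
    have hgP : g ∉ P.asIdeal := by
      intro hg
      apply hgT
      simp only [Set.mem_iUnion]
      exact ⟨P.asIdeal, hTfin.mem_toFinset.2 hPT, hg⟩
    have h1 : P ∈ j ⁻¹ᵁ X.basicOpen g := by
      rw [hU.fromSpec_preimage_basicOpen]
      exact hgP
    exact h1

end Groth.Agent.Helper5.CutSec
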