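import Groth.Agent.Helper5.DimFormula6
import Mathlib.AlgebraicGeometry.ResidueField
import Mathlib.AlgebraicGeometry.Morphisms.FiniteType
import Mathlib.AlgebraicGeometry.Noetherian

set_option autoImplicit false
universe u
open AlgebraicGeometry CategoryTheory TopologicalSpace

namespace Groth.Agent.Helper5.DimFormula

/-- The kernel of the evaluation map at a point of an affine open is the corresponding prime. -/
theorem ker_evaluation {X : Scheme.{u}} (W : X.Opens) (hW : IsAffineOpen W) (z : X) (hz : z ∈ W) :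
    RingHom.ker (X.evaluation W z hz).hom = (hW.primeIdealOf ⟨z, hz⟩).asIdeal := by
  rw [hW.primeIdealOf_eq_map_closedPoint ⟨z, hz⟩]
  ext g
  rw [RingHom.mem_ker]
  show (X.evaluation W z hz).hom g = 0 ↔
    (X.presheaf.germ W z hz).hom g ∈ IsLocalRing.maximalIdeal (X.presheaf.stalk z)
  rw [← IsLocalRing.residue_eq_zero_iff]
  rfl

/-- Every element of the residue field is a fraction of evaluations of sections over an affine
open neighbourhood. -/
theorem evaluation_fraction {X : Scheme.{u}} (W : X.Opens) (hW : IsAffineOpen W) (z : X)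
    (hz : z ∈ W) (t : X.residueField z) :
    ∃ x y : Γ(X, W), (X.evaluation W z hz).hom y ≠ 0 ∧
      t * (X.evaluation W z hz).hom y = (X.evaluation W z hz).hom x := by
  obtain ⟨s, rfl⟩ := IsLocalRing.residue_surjective (R := X.presheaf.stalk z) t
  let _ : Algebra Γ(X, W) (X.presheaf.stalk z) :=
    TopCat.Presheaf.algebra_section_stalk X.presheaf (⟨z, hz⟩ : W)
  have hloc := hW.isLocalization_stalk ⟨z, hz⟩
  obtain ⟨⟨x, y⟩, hxy⟩ := IsLocalization.surj (M := (hW.primeIdealOf ⟨z, hz⟩).asIdeal.primeCompl) s
  refine ⟨x, y.1, ?_, ?_⟩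
  · intro h0
    have : y.1 ∈ RingHom.ker (X.evaluation W z hz).hom := h0
    rw [ker_evaluation W hW z hz] at this
    exact y.2 this
  · have := congrArg (IsLocalRing.residue (X.presheaf.stalk z)) hxy
    rw [map_mul] at this
    exact this

/-- The dimension of the stalk is the height of the corresponding prime in an affine chart. -/
theorem ringKrullDim_stalk_eq_height {X : Scheme.{u}} (W : X.Opens) (hW : IsAffineOpen W) (z : X)
    (hz : z ∈ W) :
    ringKrullDim (X.presheaf.stalk z) = ((hW.primeIdealOf ⟨z, hz⟩).asIdeal.height : WithBot ℕ∞) := by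
  let _ : Algebra Γ(X, W) (X.presheaf.stalk z) :=
    TopCat.Presheaf.algebra_section_stalk X.presheaf (⟨z, hz⟩ : W)
  have hloc := hW.isLocalization_stalk ⟨z, hz⟩
  exact IsLocalization.AtPrime.ringKrullDim_eq_height (hW.primeIdealOf ⟨z, hz⟩).asIdeal
    (X.presheaf.stalk z)

/-- Compatibility of the evaluation maps with a morphism, in affine charts. -/
theorem evaluation_appLE {X S : Scheme.{u}} (f : X ⟶ S) (U : S.Opens) (W : X.Opens)
    (e : W ≤ f ⁻¹ᵁ U) (z : X) (hz : z ∈ W) (x : Γ(S, U)) :
    (f.residueFieldMap z).hom ((S.evaluation U (f z) (e hz)).hom x) =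
      (X.evaluation W z hz).hom ((f.appLE U W e).hom x) := by
  have h1 := Scheme.evaluation_naturality_apply f z (e hz) x
  rw [h1]
  show (X.evaluation (f ⁻¹ᵁ U) z (e hz)).hom ((f.app U).hom x) =
    (X.evaluation W z hz).hom ((f.appLE U W e).hom x)
  rw [Scheme.Hom.appLE]
  rw [← Scheme.germ_residue, ← Scheme.germ_residue]
  simp only [CommRingCat.hom_comp, RingHom.coe_comp, Function.comp_apply]
  congr 1
  exact (X.presheaf.germ_res_apply (homOfLE e) z hz ((f.app U).hom x)).symm

end Groth.Agent.Helper5.DimFormula
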