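import Mathlib
import Groth.Agent.Helper5.CutSec1
import Groth.Agent.Helper5.DimFormula7

set_option autoImplicit false
universe u
open CategoryTheory CategoryTheory.Limits AlgebraicGeometry

namespace Groth.Agent.Helper5.CutSec

set_option maxHeartbeats 1000000 in
/-- Krull's principal ideal theorem on a locally Noetherian scheme: the generic point of an
irreducible component of the zero locus of a global section has a local ring of dimension at most
one. -/
theorem stalk_dim_le_one_of_max_zeroLocus {X : Scheme.{u}} [IsLocallyNoetherian X]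
    (g : Γ(X, ⊤)) (ξ : X) (hξ : ξ ∈ X.zeroLocus ({g} : Set Γ(X, ⊤)))
    (hmax : ∀ t : X, t ∈ X.zeroLocus ({g} : Set Γ(X, ⊤)) → t ⤳ ξ → t = ξ) :
    ringKrullDim (X.presheaf.stalk ξ) ≤ 1 := by
  obtain ⟨W, hW, hξW⟩ : ∃ W : X.Opens, IsAffineOpen W ∧ ξ ∈ W := by
    obtain ⟨_, ⟨W, hW, rfl⟩, hxW, -⟩ :=
      (X.isBasis_affineOpens).exists_subset_of_mem_open (Set.mem_univ ξ) isOpen_univ
    exact ⟨W, hW, hxW⟩
  have hN : IsNoetherianRing Γ(X, W) := IsLocallyNoetherian.component_noetherian ⟨W, hW⟩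
  let gW : Γ(X, W) := X.presheaf.map (homOfLE (le_top : W ≤ ⊤)).op g
  have hbo : X.basicOpen gW = W ⊓ X.basicOpen g := Scheme.basicOpen_res X g _
  let j := hW.fromSpec
  have hjemb : Topology.IsEmbedding j := j.isEmbedding
  have hjW : ∀ P : ↥(Spec Γ(X, W)), j P ∈ W := by
    intro P
    have : j P ∈ Set.range j := ⟨P, rfl⟩
    rw [hW.range_fromSpec] at this
    exact this
  -- dictionary
  have hdict : ∀ P : ↥(Spec Γ(X, W)), j P ∈ X.zeroLocus ({g} : Set Γ(X, ⊤)) ↔ gW ∈ P.asIdeal := by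
    intro P
    rw [Scheme.mem_zeroLocus_iff]
    have h1 : j P ∈ X.basicOpen gW ↔ gW ∉ P.asIdeal := by
      have h2 : P ∈ j ⁻¹ᵁ X.basicOpen gW ↔ P ∈ PrimeSpectrum.basicOpen gW := by
        rw [hW.fromSpec_preimage_basicOpen]
        exact Iff.rfl
      exact h2
    constructor
    · intro h
      by_contra hg
      have h3 : j P ∈ X.basicOpen gW := h1.2 hg
      rw [hbo] at h3
      exact h g rfl h3.2
    · intro h f hf
      rw [Set.mem_singleton_iff] at hf
      subst hf
      intro h3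
      have h4 : j P ∈ X.basicOpen gW := by rw [hbo]; exact ⟨hjW P, h3⟩
      exact h1.1 h4 h
  let P0 := hW.primeIdealOf ⟨ξ, hξW⟩
  have hP0 : j P0 = ξ := hW.fromSpec_primeIdealOf ⟨ξ, hξW⟩
  have hmin : P0.asIdeal ∈ (Ideal.span ({gW} : Set Γ(X, W))).minimalPrimes := by
    refine ⟨⟨P0.isPrime, ?_⟩, ?_⟩
    · rw [Ideal.span_le, Set.singleton_subset_iff]
      exact (hdict P0).1 (by rw [hP0]; exact hξ)
    · rintro P' ⟨hP'prime, hP'I⟩ hP'P
      let P'' : ↥(Spec Γ(X, W)) := ⟨P', hP'prime⟩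
      have hsp : j P'' ⤳ ξ := by
        rw [← hP0, hjemb.toIsInducing.specializes_iff]
        exact (PrimeSpectrum.le_iff_specializes P'' P0).1 hP'P
      have hmem : j P'' ∈ X.zeroLocus ({g} : Set Γ(X, ⊤)) := by
        rw [hdict]
        exact hP'I (Ideal.subset_span rfl)
      have heq : j P'' = j P0 := by rw [hP0]; exact hmax _ hmem hsp
      have : P'' = P0 := hjemb.injective heq
      exact (congrArg PrimeSpectrum.asIdeal this).ge
  have hht : P0.asIdeal.height ≤ 1 :=
    Ideal.height_le_one_of_isPrincipal_of_mem_minimalPrimes _ _ hmin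
  rw [Groth.Agent.Helper5.DimFormula.ringKrullDim_stalk_eq_height W hW ξ hξW]
  exact_mod_cast hht

end Groth.Agent.Helper5.CutSec
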