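import Groth.Agent.Helper5.OpenAt3

set_option autoImplicit false
universe u
open AlgebraicGeometry CategoryTheory TopologicalSpace

namespace Groth.Agent.Helper5.OpenAt

open Groth.Agent.Helper5.LocDE Groth.Agent.Helper5.VarDim Groth.Agent.Helper5.MaxPt
  Groth.Agent.Helper5.SubDim Groth.Agent.Helper5.EqAt

theorem isIrreducible_of_mem_of_subset_closure {X : Type*} [TopologicalSpace X] (ζ : X)
    (S : Set X) (hS : ζ ∈ S) (hS2 : S ⊆ closure ({ζ} : Set X)) : IsIrreducible S := by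
  refine ⟨⟨ζ, hS⟩, ?_⟩
  intro u v hu hv ⟨a, haS, hau⟩ ⟨b, hbS, hbv⟩
  have h1 : ζ ∈ u := by
    obtain ⟨c, hc1, hc2⟩ := mem_closure_iff.1 (hS2 haS) u hu hau
    rwa [Set.mem_singleton_iff.1 hc2] at hc1
  have h2 : ζ ∈ v := by
    obtain ⟨c, hc1, hc2⟩ := mem_closure_iff.1 (hS2 hbS) v hv hbv
    rwa [Set.mem_singleton_iff.1 hc2] at hc1
  exact ⟨ζ, hS, h1, h2⟩

/-- A maximal irreducible subset of a fibre has a generic point, which is a maximal point of the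
fibre. -/
theorem exists_generic_of_fibre_component {X Y : Scheme.{u}} (f : X ⟶ Y) (y : Y) (Z : Set X)
    (hZy : Z ⊆ f.base ⁻¹' {y}) (hZ : IsIrreducible Z)
    (hZmax : ∀ Z' : Set X, IsIrreducible Z' → Z' ⊆ f.base ⁻¹' {y} → Z ⊆ Z' → Z' = Z) :
    ∃ ζ : X, ζ ∈ Z ∧ f ζ = y ∧ Z = closure {ζ} ∩ f.base ⁻¹' {y} ∧
      ∀ t : X, f t = y → t ⤳ ζ → t = ζ := by
  obtain ⟨ζ, hζ⟩ := QuasiSober.sober hZ.closure isClosed_closure
  have hζdef : closure ({ζ} : Set X) = closure Z := hζ.def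
  obtain ⟨z₀, hz₀⟩ := hZ.nonempty
  have hfz₀ : f z₀ = y := hZy hz₀
  have hζz₀ : ζ ⤳ z₀ := by
    rw [specializes_iff_mem_closure, hζdef]; exact subset_closure hz₀
  have hfζ1 : f ζ ⤳ y := by rw [← hfz₀]; exact hζz₀.map f.continuous
  have hfζ2 : y ⤳ f ζ := by
    rw [specializes_iff_mem_closure]
    have h1 : ζ ∈ closure Z := by rw [← hζdef]; exact subset_closure rfl
    have h2 : f ζ ∈ f.base '' closure Z := ⟨ζ, h1, rfl⟩
    have h3 := image_closure_subset_closure_image (s := Z) f.continuous h2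
    refine closure_mono ?_ h3
    rintro _ ⟨t, ht, rfl⟩
    exact hZy ht
  have hfζ : f ζ = y := (hfζ1.antisymm hfζ2).eq
  have hZsub : Z ⊆ closure ({ζ} : Set X) := by rw [hζdef]; exact subset_closure
  have hirr : IsIrreducible (closure ({ζ} : Set X) ∩ f.base ⁻¹' {y}) :=
    isIrreducible_of_mem_of_subset_closure ζ _ ⟨subset_closure rfl, hfζ⟩ Set.inter_subset_left
  have hZeq : closure ({ζ} : Set X) ∩ f.base ⁻¹' {y} = Z :=
    hZmax _ hirr Set.inter_subset_right (fun t ht => ⟨hZsub ht, hZy ht⟩)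
  have hζZ : ζ ∈ Z := by rw [← hZeq]; exact ⟨subset_closure rfl, hfζ⟩
  refine ⟨ζ, hζZ, hfζ, hZeq.symm, ?_⟩
  intro t hft htζ
  have hirr2 : IsIrreducible (closure ({t} : Set X) ∩ f.base ⁻¹' {y}) :=
    isIrreducible_of_mem_of_subset_closure t _ ⟨subset_closure rfl, hft⟩ Set.inter_subset_left
  have hsub : Z ⊆ closure ({t} : Set X) ∩ f.base ⁻¹' {y} := by
    intro s hs
    refine ⟨?_, hZy hs⟩
    have h1 : closure ({ζ} : Set X) ⊆ closure ({t} : Set X) :=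
      specializes_iff_closure_subset.1 htζ
    exact h1 (hZsub hs)
  have h2 := hZmax _ hirr2 Set.inter_subset_right hsub
  have h3 : t ∈ Z := by rw [← h2]; exact ⟨subset_closure rfl, hft⟩
  have h4 : ζ ⤳ t := specializes_iff_mem_closure.2 (hZsub h3)
  exact (htζ.antisymm h4).eq


theorem dim_closure_inter_fibre_eq_trdeg {X Y : Scheme.{u}} (f : X ⟶ Y) [LocallyOfFiniteType f]
    (ζ : X) :
    ∃ n : ℕ, @Algebra.trdeg (Y.residueField (f ζ)) (X.residueField ζ) _ _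
        (f.residueFieldMap ζ).hom.toAlgebra = n ∧
      topologicalKrullDim ↥(closure ({ζ} : Set X) ∩ f.base ⁻¹' {f ζ}) = (n : WithBot ℕ∞) := by
  obtain ⟨n, hn1, hn2⟩ := dim_closure_fibre_point f (f ζ) (f.asFiber ζ) ζ (f.fiberι_asFiber ζ) rfl
  refine ⟨n, hn2, ?_⟩
  have h1 := dim_closure_inter_fibre f (f ζ) (f.asFiber ζ)
  rw [f.fiberι_asFiber] at h1
  rw [← hn1, ← h1]

/-- The local dimension, at a maximal point `ζ` of a fibre, of the trace on the fibre of the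
closure of a generisation. -/
theorem localDim_closure_inter_fibre_eq {X Y : Scheme.{u}} (f : X ⟶ Y) [LocallyOfFiniteType f]
    (ξ ζ : X) (hξζ : ξ ⤳ ζ) (hmaxζ : ∀ t : X, f t = f ζ → t ⤳ ζ → t = ζ)
    (hζ : ζ ∈ closure ({ξ} : Set X) ∩ f.base ⁻¹' {f ζ}) :
    ∃ n : ℕ, @Algebra.trdeg (Y.residueField (f ζ)) (X.residueField ζ) _ _
        (f.residueFieldMap ζ).hom.toAlgebra = n ∧
      FlatMor.localDim ↥(closure ({ξ} : Set X) ∩ f.base ⁻¹' {f ζ}) ⟨ζ, hζ⟩ = (n : WithBot ℕ∞) := by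
  let X'c : TopologicalSpace.Closeds X := ⟨closure {ξ}, isClosed_closure⟩
  have hrange : Set.range (Scheme.IdealSheafData.vanishingIdeal X'c).subschemeι =
      closure ({ξ} : Set X) := by
    rw [Scheme.IdealSheafData.range_subschemeι]; rfl
  obtain ⟨w, hw⟩ : ζ ∈ Set.range (Scheme.IdealSheafData.vanishingIdeal X'c).subschemeι := by
    rw [hrange]; exact specializes_iff_mem_closure.1 hξζ
  subst hw
  have hmem : (Scheme.IdealSheafData.vanishingIdeal X'c).subschemeι w ∈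
      Set.range (Scheme.IdealSheafData.vanishingIdeal X'c).subschemeι ∩
        f ⁻¹' {f ((Scheme.IdealSheafData.vanishingIdeal X'c).subschemeι w)} := ⟨⟨w, rfl⟩, rfl⟩
  have F1 := localDim_inter_fibre f (Scheme.IdealSheafData.vanishingIdeal X'c).subschemeι w hmem
  have hmaxw : ∀ t : ↥(Scheme.IdealSheafData.vanishingIdeal X'c).subscheme,
      ((Scheme.IdealSheafData.vanishingIdeal X'c).subschemeι ≫ f) t =
        ((Scheme.IdealSheafData.vanishingIdeal X'c).subschemeι ≫ f) w → t ⤳ w → t = w := by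
    intro t ht hsp
    have h1 := hmaxζ ((Scheme.IdealSheafData.vanishingIdeal X'c).subschemeι t) ht
      (hsp.map (Scheme.IdealSheafData.vanishingIdeal X'c).subschemeι.continuous)
    exact (Scheme.IdealSheafData.vanishingIdeal X'c).subschemeι.isEmbedding.injective h1
  obtain ⟨n0, hn0a, hn0b⟩ := fibreDimAt_of_maximal
    ((Scheme.IdealSheafData.vanishingIdeal X'c).subschemeι ≫ f) w
    (coheight_asFiber_eq_zero _ w hmaxw)
  have htr := trdeg_closedImmersion_comp (Scheme.IdealSheafData.vanishingIdeal X'c).subschemeι f w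
  refine ⟨n0, htr.symm.trans hn0a, ?_⟩
  rw [← hn0b, ← F1]
  exact localDim_congr_set _ _ (by rw [hrange]) _ _ _


/-- EGA IV 14.2.? (S4919 form). -/
theorem exists_dominant_component_of_isOpenAt {X Y : Scheme.{u}} [IrreducibleSpace Y]
    [IsLocallyNoetherian Y] (f : X ⟶ Y) [LocallyOfFiniteType f] (y : Y) (Z : Set X)
    (hZy : Z ⊆ f.base ⁻¹' {y}) (hZ : IsIrreducible Z)
    (hZmax : ∀ Z' : Set X, IsIrreducible Z' → Z' ⊆ f.base ⁻¹' {y} → Z ⊆ Z' → Z' = Z)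
    (hopen : ∀ ζ ∈ Z, Z ⊆ closure {ζ} → EGA43.IsOpenAt f.base ζ) :
    ∃ X' ∈ irreducibleComponents (X : Type u), Z ⊆ X' ∧ Dense (f.base '' X') ∧
      (∀ ζ ∈ Z, Z ⊆ closure {ζ} → ∀ hζ : ζ ∈ X' ∩ f.base ⁻¹' {y},
        FlatMor.localDim ↥(X' ∩ f.base ⁻¹' {y}) ⟨ζ, hζ⟩ = topologicalKrullDim ↥Z) ∧
      topologicalKrullDim ↥Z = topologicalKrullDim ↥(X' ∩ f.base ⁻¹' {genericPoint Y}) := by
  have hX : IsLocallyNoetherian X := LocallyOfFiniteType.isLocallyNoetherian f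
  obtain ⟨ζ, hζZ, hfζ, hZeq, hmaxζ⟩ := exists_generic_of_fibre_component f y Z hZy hZ hZmax
  subst hfζ
  have hZcl : Z ⊆ closure ({ζ} : Set X) := by rw [hZeq]; exact Set.inter_subset_left
  have hop := hopen ζ hζZ hZcl
  have hdim := stalk_dim_eq_of_isOpenAt_of_max f ζ hmaxζ hop
  obtain ⟨ξ, hξζ, hξ0, hfξ, n, hnξ, hnζ⟩ := exists_generic_maximal' f ζ hmaxζ hdim
  have hmaxξ : ∀ w : X, w ⤳ ξ → w = ξ := max_of_coheight_zero ξ hξ0
  obtain ⟨n1, hn1a, hn1b⟩ := dim_closure_inter_fibre_eq_trdeg f ζ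
  obtain ⟨n2, hn2a, hn2b⟩ := dim_closure_inter_fibre_eq_trdeg f ξ
  have q1 : n1 = n := by
    have := hn1a.symm.trans hnζ
    exact_mod_cast this
  have q2 : n2 = n := by
    have := hn2a.symm.trans hnξ
    exact_mod_cast this
  have hdimZ : topologicalKrullDim ↥Z = (n : WithBot ℕ∞) := by
    rw [hZeq, hn1b, q1]
  refine ⟨closure {ξ}, closure_singleton_mem_irreducibleComponents ξ hmaxξ, ?_, ?_, ?_, ?_⟩
  · exact hZcl.trans (specializes_iff_closure_subset.1 hξζ)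
  · rw [dense_iff_closure_eq]
    refine Set.eq_univ_of_univ_subset ?_
    rw [← (genericPoint_spec Y).def, ← hfξ]
    refine closure_mono ?_
    rw [Set.singleton_subset_iff]
    exact ⟨ξ, subset_closure rfl, rfl⟩
  · intro ζ₂ hζ₂Z hZζ₂ hζ₂
    have hζeq : ζ₂ = ζ :=
      ((specializes_iff_mem_closure.2 (hZζ₂ hζZ)).antisymm
        (specializes_iff_mem_closure.2 (hZcl hζ₂Z))).eq
    subst hζeq
    obtain ⟨n3, hn3a, hn3b⟩ := localDim_closure_inter_fibre_eq f ξ ζ₂ hξζ hmaxζ hζ₂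
    have q3 : n3 = n := by
      have := hn3a.symm.trans hnζ
      exact_mod_cast this
    rw [hn3b, hdimZ, q3]
  · rw [hdimZ, ← hfξ, hn2b, q2]

end Groth.Agent.Helper5.OpenAt
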