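import Mathlib
import Groth.Agent.Helper5.CutSec2
import Groth.Agent.Helper5.OpenAt4

set_option autoImplicit false
universe u
open CategoryTheory CategoryTheory.Limits AlgebraicGeometry

namespace Groth.Agent.Helper5.CutSec

open Groth.Agent.Helper5.EqAt Groth.Agent.Helper5.MaxPt Groth.Agent.Helper5.VarDim
  Groth.Agent.Helper5.SubDim Groth.Agent.Helper5.OpenAt

set_option maxHeartbeats 1000000 in
/-- A closed subscheme containing no maximal point of the fibre has strictly smaller local fibre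
dimension. -/
theorem fibreDimAt_closed_succ_le {X Y T : Scheme.{u}} (f : X ⟶ Y) [LocallyOfFiniteType f]
    (ι : T ⟶ X) [IsClosedImmersion ι] (w : T)
    (hmax : ∀ z : X, f z = f (ι w) → (∀ z' : X, f z' = f (ι w) → z' ⤳ z → z' = z) →
      z ∉ Set.range ι) :
    FlatMor.fibreDimAt (ι ≫ f) w + 1 ≤ FlatMor.fibreDimAt f (ι w) := by
  obtain ⟨τ, hfτ, hτw, hτmax, hfdτ, t, ht1, ht2⟩ := exists_max_generization_fibreDimAt_eq (ι ≫ f) w
  have hfτ' : f (ι τ) = f (ι w) := hfτ
  obtain ⟨z, hfz, hzτ, hzmax⟩ := exists_max_fibre_point f (ι τ)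
  have hzmax' : ∀ z' : X, f z' = f (ι w) → z' ⤳ z → z' = z := by
    intro z' hz' hsp
    exact hzmax z' (hz'.trans hfτ'.symm) hsp
  have hznot : z ∉ Set.range ι := hmax z (hfz.trans hfτ') hzmax'
  have hne : z ≠ ι τ := fun h => hznot ⟨τ, h.symm⟩
  have hlt := trdeg_lt_of_specializes_fiber f z (ι τ) hzτ hne hfz
  have hci := trdeg_closedImmersion_comp ι f τ
  have h0 : Order.coheight (f.asFiber z) = 0 :=
    coheight_asFiber_eq_zero f z (fun w' hw' hsp => hzmax w' (hw'.trans hfz) hsp)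
  obtain ⟨n, hn1, hn2⟩ := fibreDimAt_of_maximal f z h0
  have hchev := fibreDimAt_le_of_specializes f z (ι w) (hzτ.trans (hτw.map ι.continuous))
  rw [← hci, ht1, hn1] at hlt
  have htn : t + 1 ≤ n := by exact_mod_cast hlt
  rw [← hfdτ, ht2]
  rw [hn2] at hchev
  refine le_trans ?_ hchev
  exact_mod_cast htn

end Groth.Agent.Helper5.CutSec
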