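import Mathlib
import Groth.Agent.Helper5.CutSec3

set_option autoImplicit false
universe u
open CategoryTheory CategoryTheory.Limits AlgebraicGeometry

namespace Groth.Agent.Helper5.CutSec

open Groth.Agent.Helper5.EqAt Groth.Agent.Helper5.MaxPt Groth.Agent.Helper5.VarDim
  Groth.Agent.Helper5.SubDim Groth.Agent.Helper5.OpenAt

set_option maxHeartbeats 1000000 in
/-- Core: the generic point `ξ` of a component through `x` of the zero locus of `g` (which avoids
the maximal points of the fibre through `x`) has codimension one, maps to the generic point of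
`Y`, and its residue field has transcendence degree `e - 1` over the function field of `Y`. -/
theorem core {X Y : Scheme.{u}} [IrreducibleSpace Y] [IsLocallyNoetherian Y] (f : X ⟶ Y)
    [LocallyOfFiniteType f] (x : X) (hf : EGA43.IsEquidimAt f x) (g : Γ(X, ⊤))
    (hmax : ∀ z : X, f z = f x → (∀ z' : X, f z' = f x → z' ⤳ z → z' = z) →
      z ∉ X.zeroLocus ({g} : Set Γ(X, ⊤)))
    (ξ : X) (hξ : ξ ∈ X.zeroLocus ({g} : Set Γ(X, ⊤)))
    (hξmax : ∀ t : X, t ∈ X.zeroLocus ({g} : Set Γ(X, ⊤)) → t ⤳ ξ → t = ξ) (hξx : ξ ⤳ x)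
    (e : ℕ) (he : FlatMor.fibreDimAt f x = (e : WithBot ℕ∞)) :
    ringKrullDim (X.presheaf.stalk ξ) = 1 ∧ f ξ = genericPoint Y ∧ ∃ m : ℕ, m + 1 = e ∧
      @Algebra.trdeg (Y.residueField (f ξ)) (X.residueField ξ) _ _
        (f.residueFieldMap ξ).hom.toAlgebra = m := by
  have hXN : IsLocallyNoetherian X := LocallyOfFiniteType.isLocallyNoetherian f
  obtain ⟨e0, U, hxU, C1, C2⟩ := hf
  have he0 : FlatMor.fibreDimAt f x = (e0 : WithBot ℕ∞) :=
    fibreDimAt_of_components f U e0 C2 ⟨x, hxU⟩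
  have hee : e0 = e := by
    rw [he0] at he
    exact_mod_cast he
  subst hee
  let Zα : TopologicalSpace.Closeds X := ⟨closure {ξ}, isClosed_closure⟩
  let I := Scheme.IdealSheafData.vanishingIdeal Zα
  let ι : I.subscheme ⟶ X := I.subschemeι
  have hrange : Set.range ι = closure ({ξ} : Set X) := by
    rw [Scheme.IdealSheafData.range_subschemeι]; rfl
  have hsub : closure ({ξ} : Set X) ⊆ X.zeroLocus ({g} : Set Γ(X, ⊤)) :=
    closure_minimal (Set.singleton_subset_iff.2 hξ) (X.zeroLocus_isClosed _)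
  obtain ⟨w, hw⟩ : x ∈ Set.range ι := by
    rw [hrange]; exact specializes_iff_mem_closure.1 hξx
  obtain ⟨ξT, hξT⟩ : ξ ∈ Set.range ι := by
    rw [hrange]; exact subset_closure rfl
  have hξTgen : closure ({ξT} : Set ↥I.subscheme) = Set.univ := by
    rw [ι.isEmbedding.toIsInducing.closure_eq_preimage_closure_image, Set.image_singleton, hξT]
    refine Set.eq_univ_of_forall fun t => ?_
    show ι t ∈ closure ({ξ} : Set X)
    rw [← hrange]
    exact ⟨t, rfl⟩
  subst hw
  have hD := fibreDimAt_closed_succ_le f ι w (by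
    intro z hz hzmax hzr
    rw [hrange] at hzr
    exact hmax z hz hzmax (hsub hzr))
  rw [he0] at hD
  have hcodim : ringKrullDim (X.presheaf.stalk (ι ξT)) ≤ ((1 : ℕ) : WithBot ℕ∞) := by
    rw [hξT]
    exact_mod_cast stalk_dim_le_one_of_max_zeroLocus g ξ hξ hξmax
  have hdim : FlatMor.fibreDimAt (ι ≫ f) w + ((1 : ℕ) : WithBot ℕ∞) ≤ (e0 : WithBot ℕ∞) := by
    exact_mod_cast hD
  obtain ⟨r1, r2, r3, m, r4, r5⟩ := codim_fibre_data f U e0 _ C1 C2 ι w ξT hxU hξTgen 1 hcodim hdim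
  have hgen : ∀ t : ↥I.subscheme, ξT ⤳ t := fun t => by
    rw [specializes_iff_mem_closure, hξTgen]; trivial
  have hmaxξ : ∀ t : ↥I.subscheme, (ι ≫ f) t = (ι ≫ f) ξT → t ⤳ ξT → t = ξT :=
    fun t _ ht => (ht.antisymm (hgen t)).eq
  obtain ⟨n0, hn0a, hn0b⟩ := fibreDimAt_of_maximal (ι ≫ f) ξT
    (coheight_asFiber_eq_zero (ι ≫ f) ξT hmaxξ)
  have htr := trdeg_closedImmersion_comp ι f ξT
  have hn0m : n0 = m := by
    rw [hn0b] at r4
    exact_mod_cast r4
  refine ⟨?_, ?_, m, ?_, ?_⟩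
  · rw [← hξT, r1]; rfl
  · rw [← hξT]; exact r3
  · rw [r5] at r2
    exact_mod_cast r2
  · rw [← Groth.Agent.Helper5.SubDim.trdeg_congr_point f _ _ hξT, ← htr, hn0a, hn0m]

end Groth.Agent.Helper5.CutSec
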