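import Mathlib
import Groth.Agent.Helper5.CutSec4
import Groth.Agent.Helper5.BCMin6

set_option autoImplicit false
universe u
open CategoryTheory CategoryTheory.Limits AlgebraicGeometry

namespace Groth.Agent.Helper5.CutSec

open Groth.Agent.Helper5.EqAt Groth.Agent.Helper5.MaxPt Groth.Agent.Helper5.VarDim
  Groth.Agent.Helper5.SubDim Groth.Agent.Helper5.OpenAt Groth.Agent.Helper5.BCMin

set_option maxHeartbeats 1000000 in
/-- EGA IV 13.3.8-type: cutting an equidimensional morphism by a section avoiding the maximal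
points of the fibre (specialisation form of the hypothesis). -/
theorem cut_main {X Y : Scheme.{u}} [IrreducibleSpace Y] [IsLocallyNoetherian Y] (f : X ⟶ Y)
    [LocallyOfFiniteType f] (x : X) (hf : EGA43.IsEquidimAt f x) (g : Γ(X, ⊤))
    (hgx : x ∈ X.zeroLocus ({g} : Set Γ(X, ⊤)))
    (hmax : ∀ z : X, f z = f x → (∀ z' : X, f z' = f x → z' ⤳ z → z' = z) →
      z ∉ X.zeroLocus ({g} : Set Γ(X, ⊤))) :
    (∀ w : ↥(Scheme.IdealSheafData.vanishingIdeal ⟨X.zeroLocus ({g} : Set Γ(X, ⊤)), X.zeroLocus_isClosed _⟩).subscheme,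
        (Scheme.IdealSheafData.vanishingIdeal ⟨X.zeroLocus ({g} : Set Γ(X, ⊤)), X.zeroLocus_isClosed _⟩).subschemeι.base w = x →
        EGA43.IsEquidimAt ((Scheme.IdealSheafData.vanishingIdeal ⟨X.zeroLocus ({g} : Set Γ(X, ⊤)), X.zeroLocus_isClosed _⟩).subschemeι ≫ f) w) ∧
      FlatMor.localDim ↥(X.zeroLocus ({g} : Set Γ(X, ⊤)) ∩ f.base ⁻¹' {f.base x}) ⟨x, ⟨hgx, rfl⟩⟩ + 1 = FlatMor.fibreDimAt f x ∧
      ∀ Z ∈ irreducibleComponents ↥(X.zeroLocus ({g} : Set Γ(X, ⊤))), (⟨x, hgx⟩ : ↥(X.zeroLocus ({g} : Set Γ(X, ⊤)))) ∈ Z →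
        ∀ ξ : ↥(X.zeroLocus ({g} : Set Γ(X, ⊤))), closure ({ξ} : Set ↥(X.zeroLocus ({g} : Set Γ(X, ⊤)))) = Z →
          ringKrullDim (X.presheaf.stalk (ξ : X)) = 1 := by
  have hXN : IsLocallyNoetherian X := LocallyOfFiniteType.isLocallyNoetherian f
  obtain ⟨e, he⟩ := Groth.Agent.Helper5.SubDim.fibreDimAt_nat f x
  let X' : TopologicalSpace.Closeds X :=
    ⟨X.zeroLocus ({g} : Set Γ(X, ⊤)), X.zeroLocus_isClosed _⟩
  let I := Scheme.IdealSheafData.vanishingIdeal X'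
  let ι : I.subscheme ⟶ X := I.subschemeι
  have hrange : Set.range ι = X.zeroLocus ({g} : Set Γ(X, ⊤)) := by
    rw [Scheme.IdealSheafData.range_subschemeι]; rfl
  have hTN : IsLocallyNoetherian I.subscheme := LocallyOfFiniteType.isLocallyNoetherian (ι ≫ f)
  obtain ⟨w, hw⟩ : x ∈ Set.range ι := by rw [hrange]; exact hgx
  have hD := fibreDimAt_closed_succ_le f ι w (by
    intro z hz hzmax hzr
    rw [hrange] at hzr
    rw [hw] at hz hzmax
    exact hmax z hz hzmax hzr)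
  obtain ⟨n1, hn1⟩ := Groth.Agent.Helper5.SubDim.fibreDimAt_nat (ι ≫ f) w
  rw [hw, he, hn1] at hD
  have hn1e : n1 + 1 ≤ e := by exact_mod_cast hD
  obtain ⟨m₀, rfl⟩ : ∃ m₀ : ℕ, e = m₀ + 1 := ⟨e - 1, by omega⟩
  -- the key claim
  have key : ∀ τ : ↥I.subscheme, τ ⤳ w → Order.coheight τ = 0 →
      FlatMor.fibreDimAt (ι ≫ f) τ = (m₀ : WithBot ℕ∞) ∧
        closure ({(ι ≫ f) τ} : Set Y) ∈ irreducibleComponents (Y : Type u) := by
    intro τ hτw hτ0
    rw [Order.coheight_eq_zero] at hτ0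
    have hτmax : ∀ t : ↥I.subscheme, t ⤳ τ → t = τ := fun t ht => by
      have h1 : τ ≤ t := Scheme.le_iff_specializes.2 ht
      have h2 : τ ⤳ t := Scheme.le_iff_specializes.1 (hτ0 h1)
      exact (ht.antisymm h2).eq
    have hξ : ι τ ∈ X.zeroLocus ({g} : Set Γ(X, ⊤)) := by rw [← hrange]; exact ⟨τ, rfl⟩
    have hξmax : ∀ t : X, t ∈ X.zeroLocus ({g} : Set Γ(X, ⊤)) → t ⤳ ι τ → t = ι τ := by
      intro t ht hts
      rw [← hrange] at ht
      obtain ⟨t', rfl⟩ := ht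
      rw [ι.isEmbedding.toIsInducing.specializes_iff] at hts
      rw [hτmax t' hts]
    have hξx : ι τ ⤳ x := by rw [← hw]; exact hτw.map ι.continuous
    obtain ⟨-, c2, m, c3, c4⟩ := core f x hf g hmax (ι τ) hξ hξmax hξx (m₀ + 1) he
    have hm : m = m₀ := by omega
    subst hm
    obtain ⟨n0, hn0a, hn0b⟩ := fibreDimAt_of_maximal (ι ≫ f) τ
      (coheight_asFiber_eq_zero (ι ≫ f) τ (fun t _ ht => hτmax t ht))
    have htr := trdeg_closedImmersion_comp ι f τ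
    rw [hn0a, c4] at htr
    have hn0m : n0 = m := by exact_mod_cast htr
    refine ⟨by rw [hn0b, hn0m], ?_⟩
    have hgen : (ι ≫ f) τ = genericPoint Y := c2
    rw [hgen, (genericPoint_spec Y).def]
    rw [irreducibleComponents_eq_singleton]
    rfl
  have hxe : FlatMor.fibreDimAt (ι ≫ f) w ≤ (m₀ : WithBot ℕ∞) := by
    rw [hn1]
    have : n1 ≤ m₀ := by omega
    exact_mod_cast this
  have hwe : FlatMor.fibreDimAt (ι ≫ f) w = (m₀ : WithBot ℕ∞) := by
    apply le_antisymm hxe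
    obtain ⟨τ, hτw, hτmax⟩ := exists_max_generization w
    have hτ0 : Order.coheight τ = 0 := by
      rw [Order.coheight_eq_zero]
      intro b hb
      have := hτmax b (Scheme.le_iff_specializes.1 hb)
      rw [this]
    rw [← (key τ hτw hτ0).1]
    exact fibreDimAt_le_of_specializes (ι ≫ f) τ w hτw
  refine ⟨?_, ?_, ?_⟩
  · intro w' hw'
    have hww : w' = w := ι.isEmbedding.injective (hw'.trans hw.symm)
    subst hww
    exact isEquidimAt_of_key (ι ≫ f) w' m₀ hxe key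
  · subst hw
    have hmem : ι w ∈ Set.range ι ∩ f ⁻¹' {f (ι w)} := ⟨⟨w, rfl⟩, rfl⟩
    have F1 := localDim_inter_fibre f ι w hmem
    have F1' : FlatMor.localDim ↥(X.zeroLocus ({g} : Set Γ(X, ⊤)) ∩ f.base ⁻¹' {f.base (ι w)})
          ⟨ι w, ⟨hgx, rfl⟩⟩ = FlatMor.fibreDimAt (ι ≫ f) w := by
      rw [← F1]
      exact localDim_congr_set _ _ (by rw [hrange]) _ _ _
    rw [F1', hwe, he]
    rfl
  · intro Z hZ hxZ ξ' hξ'
    have hξ'max : ∀ t : X, t ∈ X.zeroLocus ({g} : Set Γ(X, ⊤)) → t ⤳ (ξ' : X) → t = ξ' := by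
      intro t ht hts
      have h1 : (⟨t, ht⟩ : ↥(X.zeroLocus ({g} : Set Γ(X, ⊤)))) ⤳ ξ' := by
        rw [← Topology.IsInducing.subtypeVal.specializes_iff]
        exact hts
      have h2 := max_of_closure_mem_irreducibleComponents ξ' (by rw [hξ']; exact hZ) _ h1
      rw [← h2]
    have hξ'x : (ξ' : X) ⤳ x := by
      have h1 : ξ' ⤳ (⟨x, hgx⟩ : ↥(X.zeroLocus ({g} : Set Γ(X, ⊤)))) := by
        rw [specializes_iff_mem_closure, hξ']; exact hxZ
      exact h1.map continuous_subtype_val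
    exact (core f x hf g hmax (ξ' : X) ξ'.2 hξ'max hξ'x (m₀ + 1) he).1

end Groth.Agent.Helper5.CutSec
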