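import Mathlib
import Groth.Agent.Helper5.CutSec5

set_option autoImplicit false
universe u
open CategoryTheory CategoryTheory.Limits AlgebraicGeometry

namespace Groth.Agent.Helper5.CutSec

open Groth.Agent.Helper5.EqAt Groth.Agent.Helper5.MaxPt Groth.Agent.Helper5.VarDim
  Groth.Agent.Helper5.SubDim Groth.Agent.Helper5.OpenAt Groth.Agent.Helper5.BCMin

/-- Equidimensionality at a point restricts to open neighbourhoods. -/
theorem isEquidimAt_open_restrict {X Y : Scheme.{u}} [IsLocallyNoetherian Y] (f : X ⟶ Y)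
    [LocallyOfFiniteType f] (x : X) (hf : EGA43.IsEquidimAt f x) (V : X.Opens) (hxV : x ∈ V) :
    EGA43.IsEquidimAt (V.ι ≫ f) ⟨x, hxV⟩ := by
  obtain ⟨e, U, hxU, C1, C2⟩ := hf
  have hVN : IsLocallyNoetherian (V : Scheme.{u}) :=
    LocallyOfFiniteType.isLocallyNoetherian (V.ι ≫ f)
  refine isEquidimAt_of_key (V.ι ≫ f) ⟨x, hxV⟩ e ?_ ?_
  · rw [fibreDimAt_open_restrict f V]
    exact le_of_eq (fibreDimAt_of_components f U e C2 ⟨x, hxU⟩)
  · intro ξ hξx hξ0
    have hsp : V.ι ξ ⤳ x := hξx.map V.ι.continuous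
    have hξU : V.ι ξ ∈ U := hsp.mem_open U.2 hxU
    have hξX0 : Order.coheight (V.ι ξ) = 0 := by
      rw [Order.coheight_eq_zero]
      intro b hb
      have hbsp : b ⤳ V.ι ξ := Scheme.le_iff_specializes.1 hb
      have hbV : b ∈ V := hbsp.mem_open V.2 ξ.2
      let bV : ↥(V : Scheme.{u}) := ⟨b, hbV⟩
      have hbb : V.ι bV = b := rfl
      have h1 : bV ⤳ ξ := by
        rw [← V.ι.isEmbedding.toIsInducing.specializes_iff, hbb]; exact hbsp
      have h2 := max_of_coheight_zero ξ hξ0 _ h1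
      have h3 : b = V.ι ξ := by rw [← h2, hbb]
      rw [h3]
    refine ⟨?_, ?_⟩
    · rw [fibreDimAt_open_restrict f V]
      exact fibreDimAt_of_components f U e C2 ⟨V.ι ξ, hξU⟩
    · have hmaxY : ∀ η : Y, η ⤳ f (V.ι ξ) → η = f (V.ι ξ) := fun η hη =>
        max_map_of_components f U (f x) C1 ⟨V.ι ξ, hξU⟩ hξX0 η hη
      exact closure_singleton_mem_irreducibleComponents _ hmaxY

/-- If the fibre dimension at a point closed in its fibre is positive, some other point of the
fibre specialises to it. -/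
theorem exists_ne_generization_of_closed {X Y : Scheme.{u}} (f : X ⟶ Y) [LocallyOfFiniteType f]
    (x : X) (hcl : ∀ x' : X, f x' = f x → x ⤳ x' → x' = x) (e : ℕ)
    (he : FlatMor.fibreDimAt f x = ((e + 1 : ℕ) : WithBot ℕ∞)) :
    ∃ x' : X, f x' = f x ∧ x' ≠ x ∧ x ∈ closure ({x'} : Set X) := by
  have hft : LocallyOfFiniteType (f.fiberToSpecResidueField (f x)) :=
    inferInstanceAs (LocallyOfFiniteType (Limits.pullback.snd f (Y.fromSpecResidueField (f x))))
  have hF : IsLocallyNoetherian (f.fiber (f x)) :=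
    LocallyOfFiniteType.isLocallyNoetherian (f.fiberToSpecResidueField (f x))
  let z : ↥(f.fiber (f x)) := f.asFiber x
  have hz : IsClosed ({z} : Set ↥(f.fiber (f x))) := by
    rw [← closure_subset_iff_isClosed]
    intro z' hz'
    have hsp : z ⤳ z' := specializes_iff_mem_closure.2 hz'
    have h1 : f.fiberι (f x) z ⤳ f.fiberι (f x) z' := hsp.map (f.fiberι (f x)).continuous
    rw [f.fiberι_asFiber] at h1
    have h2 : f (f.fiberι (f x) z') = f x := apply_fiberι f (f x) z'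
    have h3 := hcl _ h2 h1
    have h4 : z' = z := by
      apply (f.fiberι (f x)).isEmbedding.injective
      rw [h3, f.fiberι_asFiber]
    exact h4
  obtain ⟨n, -, hn2, hn3⟩ := localDim_formula (Y.residueField (f x))
    (f.fiberToSpecResidueField (f x)) z
  have hn0 : n = 0 := hn3 hz
  have hfd : FlatMor.fibreDimAt f x = FlatMor.localDim ↥(f.fiber (f x)) z := rfl
  rw [hfd, hn2, hn0, AlgebraicGeometry.ringKrullDim_stalk_eq_coheight] at he
  have hco : Order.coheight z ≠ 0 := by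
    intro h0
    rw [h0] at he
    simp at he
    have : ((0 : ℕ) : WithBot ℕ∞) = ((e + 1 : ℕ) : WithBot ℕ∞) := by exact_mod_cast he
    have h2 : (0 : ℕ) = e + 1 := by exact_mod_cast this
    omega
  rw [Ne, Order.coheight_eq_zero] at hco
  rw [not_isMax_iff] at hco
  obtain ⟨ζ, hζ⟩ := hco
  have hζsp : ζ ⤳ z := Scheme.le_iff_specializes.1 hζ.le
  refine ⟨f.fiberι (f x) ζ, apply_fiberι f (f x) ζ, ?_, ?_⟩
  · intro heq
    have : ζ = z := by
      apply (f.fiberι (f x)).isEmbedding.injective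
      rw [heq, f.fiberι_asFiber]
    exact hζ.ne' this
  · rw [← specializes_iff_mem_closure]
    have := hζsp.map (f.fiberι (f x)).continuous
    rwa [f.fiberι_asFiber] at this

/-- In the situation of `cut_main`, the fibre dimension of the cut at a point over `x` drops by
exactly one. -/
theorem cut_fibreDim {X Y : Scheme.{u}} [IrreducibleSpace Y] [IsLocallyNoetherian Y] (f : X ⟶ Y)
    [LocallyOfFiniteType f] (x : X) (hf : EGA43.IsEquidimAt f x) (g : Γ(X, ⊤))
    (hgx : x ∈ X.zeroLocus ({g} : Set Γ(X, ⊤)))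
    (hmax : ∀ z : X, f z = f x → (∀ z' : X, f z' = f x → z' ⤳ z → z' = z) →
      z ∉ X.zeroLocus ({g} : Set Γ(X, ⊤)))
    (w : ↥(Scheme.IdealSheafData.vanishingIdeal ⟨X.zeroLocus ({g} : Set Γ(X, ⊤)), X.zeroLocus_isClosed _⟩).subscheme)
    (hw : (Scheme.IdealSheafData.vanishingIdeal ⟨X.zeroLocus ({g} : Set Γ(X, ⊤)), X.zeroLocus_isClosed _⟩).subschemeι.base w = x) :
    FlatMor.fibreDimAt ((Scheme.IdealSheafData.vanishingIdeal ⟨X.zeroLocus ({g} : Set Γ(X, ⊤)), X.zeroLocus_isClosed _⟩).subschemeι ≫ f) w + 1 =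
      FlatMor.fibreDimAt f x := by
  obtain ⟨-, h2, -⟩ := cut_main f x hf g hgx hmax
  let X' : TopologicalSpace.Closeds X :=
    ⟨X.zeroLocus ({g} : Set Γ(X, ⊤)), X.zeroLocus_isClosed _⟩
  let I := Scheme.IdealSheafData.vanishingIdeal X'
  let ι : I.subscheme ⟶ X := I.subschemeι
  have hrange : Set.range ι = X.zeroLocus ({g} : Set Γ(X, ⊤)) := by
    rw [Scheme.IdealSheafData.range_subschemeι]; rfl
  subst hw
  have hmem : ι w ∈ Set.range ι ∩ f ⁻¹' {f (ι w)} := ⟨⟨w, rfl⟩, rfl⟩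
  have F1 := localDim_inter_fibre f ι w hmem
  have F1' : FlatMor.localDim ↥(X.zeroLocus ({g} : Set Γ(X, ⊤)) ∩ f.base ⁻¹' {f.base (ι w)})
        ⟨ι w, ⟨hgx, rfl⟩⟩ = FlatMor.fibreDimAt (ι ≫ f) w := by
    rw [← F1]
    exact localDim_congr_set _ _ (by rw [hrange]) _ _ _
  rw [F1'] at h2
  exact h2

end Groth.Agent.Helper5.CutSec
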