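import Mathlib
import Groth.Agent.Helper5.CutSec6
import Groth.Agent.Helper5.EtDim

set_option autoImplicit false
universe u
open CategoryTheory CategoryTheory.Limits AlgebraicGeometry

namespace Groth.Agent.Helper5.CutSec

open Groth.Agent.Helper5.EqAt Groth.Agent.Helper5.MaxPt Groth.Agent.Helper5.VarDim
  Groth.Agent.Helper5.SubDim Groth.Agent.Helper5.OpenAt Groth.Agent.Helper5.BCMin
  Groth.Agent.Helper5.LocDim

theorem isReduced_subscheme_of_radical (X : Scheme.{u}) (I : X.IdealSheafData)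
    (h : I.radical = I) : IsReduced I.subscheme := by
  rw [IsReduced.iff_of_openCover (X := I.subscheme) I.subschemeCover.openCover]
  intro (U : X.affineOpens)
  change IsReduced (Spec (CommRingCat.of (Γ(X, U) ⧸ I.ideal U)))
  rw [affine_isReduced_iff]
  have h2 : (I.ideal U).IsRadical := by
    have := congrArg (fun J : X.IdealSheafData => J.ideal U) h
    exact Ideal.radical_eq_iff.mp this
  exact (Ideal.isRadical_iff_quotient_reduced _).mp h2

theorem isReduced_vanishingIdeal_subscheme {X : Scheme.{u}} (C : TopologicalSpace.Closeds X) :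
    IsReduced (Scheme.IdealSheafData.vanishingIdeal C).subscheme := by
  apply isReduced_subscheme_of_radical
  have hs : (Scheme.IdealSheafData.vanishingIdeal C).support = C :=
    TopologicalSpace.Closeds.ext (Scheme.IdealSheafData.coe_support_vanishingIdeal C)
  rw [← Scheme.IdealSheafData.vanishingIdeal_support, hs]

/-- A morphism locally of finite type all of whose fibres have only zero-dimensional irreducible
components is locally quasi-finite. -/
theorem locallyQuasiFinite_of_components {X Y : Scheme.{u}} (g : X ⟶ Y) [LocallyOfFiniteType g]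
    (C2 : ∀ x' : X, ∀ Z ∈ irreducibleComponents (↥(g.fiber (g x')) : Type u),
      topologicalKrullDim (↥Z : Type u) = ((0 : ℕ) : WithBot ℕ∞)) :
    LocallyQuasiFinite g := by
  rw [locallyQuasiFinite_iff_isDiscrete_preimage_singleton]
  intro y
  by_cases hne : (g ⁻¹' {y}).Nonempty
  · obtain ⟨x₀, hx₀⟩ := hne
    obtain rfl : g x₀ = y := hx₀
    have hft : LocallyOfFiniteType (g.fiberToSpecResidueField (g x₀)) :=
      inferInstanceAs (LocallyOfFiniteType (Limits.pullback.snd g (Y.fromSpecResidueField (g x₀))))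
    have hF : IsLocallyNoetherian (g.fiber (g x₀)) :=
      LocallyOfFiniteType.isLocallyNoetherian (g.fiberToSpecResidueField (g x₀))
    have hdim : topologicalKrullDim ↥(g.fiber (g x₀)) ≤ 0 := by
      rw [Groth.Agent.Helper5.EtDim.topologicalKrullDim_eq_iSup_coheight]
      refine iSup_le fun z => ?_
      have hmax : IsMax z := by
        intro z' hzz'
        obtain ⟨Z, hZ, hz'Z⟩ := exists_component_mem z'
        have hZcl := isClosed_of_mem_irreducibleComponents Z hZ
        have hzZ : z ∈ Z := (Scheme.le_iff_specializes.1 hzz').mem_closed hZcl hz'Z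
        have hd := C2 x₀ Z hZ
        rw [topologicalKrullDim_eq_krullDim Z (genStable_of_isClosed Z hZcl)] at hd
        have hle : Order.krullDim ↥Z ≤ 0 := by rw [hd]; simp
        rw [Order.krullDim_nonpos_iff_forall_isMax] at hle
        exact hle ⟨z, hzZ⟩ (b := ⟨z', hz'Z⟩) hzz'
      rw [Order.coheight_eq_zero.2 hmax]
      simp
    have hArt : IsLocallyArtinian (g.fiber (g x₀)) := .of_topologicalKrullDim_le_zero hdim
    have hdisc : DiscreteTopology ↥(g.fiber (g x₀)) := inferInstance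
    simpa [Scheme.Hom.range_fiberι] using
      (isDiscrete_univ_iff.mpr hdisc).image (g.fiberι (g x₀)).isEmbedding.toIsInducing
  · rw [Set.not_nonempty_iff_eq_empty] at hne
    rw [hne]
    exact Set.subsingleton_empty.isDiscrete

set_option maxHeartbeats 1000000 in
/-- Base case: fibre dimension zero. -/
theorem exists_qf_of_fibreDim_zero {X Y : Scheme.{u}} [IrreducibleSpace Y] [IsLocallyNoetherian Y]
    (f : X ⟶ Y) [LocallyOfFiniteType f] (x : X) (hf : EGA43.IsEquidimAt f x)
    (h0 : FlatMor.fibreDimAt f x = ((0 : ℕ) : WithBot ℕ∞)) :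
    ∃ (T : Scheme.{u}) (i : T ⟶ X), IsImmersion i ∧ IrreducibleSpace ↥T ∧ IsReduced T ∧
      x ∈ Set.range i.base ∧ LocallyOfFiniteType (i ≫ f) ∧ LocallyQuasiFinite (i ≫ f) ∧
        QuasiCompact (i ≫ f) ∧ IsDominant (i ≫ f) := by
  obtain ⟨e, U, hxU, C1, C2⟩ := hf
  have he0 := fibreDimAt_of_components f U e C2 ⟨x, hxU⟩
  have hee : e = 0 := by
    rw [show U.ι ⟨x, hxU⟩ = x from rfl, h0] at he0
    exact_mod_cast he0.symm
  subst hee
  let fU : (U : Scheme.{u}) ⟶ Y := U.ι ≫ f
  have hqf : LocallyQuasiFinite fU := locallyQuasiFinite_of_components fU C2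
  let xU : ↥(U : Scheme.{u}) := ⟨x, hxU⟩
  obtain ⟨Z, hZ, hxZ⟩ := exists_component_mem xU
  have hZcl := isClosed_of_mem_irreducibleComponents Z hZ
  obtain ⟨W, hW, -, hcl⟩ := C1 Z hZ
  have hWuniv : W = Set.univ := by
    rw [irreducibleComponents_eq_singleton] at hW; exact hW
  let Zc : TopologicalSpace.Closeds ↥(U : Scheme.{u}) := ⟨Z, hZcl⟩
  let I := Scheme.IdealSheafData.vanishingIdeal Zc
  let ι₀ : I.subscheme ⟶ (U : Scheme.{u}) := I.subschemeι
  have hrange : Set.range ι₀ = Z := by rw [Scheme.IdealSheafData.range_subschemeι]; rfl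
  have hred : IsReduced I.subscheme := isReduced_vanishingIdeal_subscheme Zc
  obtain ⟨ξ, hξ⟩ := QuasiSober.sober hZ.1 hZcl
  have hξdef : closure ({ξ} : Set ↥(U : Scheme.{u})) = Z := hξ.def
  obtain ⟨ξT, hξT⟩ : ξ ∈ Set.range ι₀ := by rw [hrange, ← hξdef]; exact subset_closure rfl
  have hξTgen : closure ({ξT} : Set ↥I.subscheme) = Set.univ := by
    rw [ι₀.isEmbedding.toIsInducing.closure_eq_preimage_closure_image, Set.image_singleton, hξT,
      hξdef]
    refine Set.eq_univ_of_forall fun t => ?_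
    show ι₀ t ∈ Z
    rw [← hrange]; exact ⟨t, rfl⟩
  have hirr : IrreducibleSpace ↥I.subscheme := by
    have h1 : IsIrreducible (Set.univ : Set ↥I.subscheme) := by
      rw [← hξTgen]; exact isIrreducible_singleton.closure
    exact (irreducibleSpace_def _).2 h1
  have hint : IsIntegral I.subscheme := isIntegral_of_irreducibleSpace_of_isReduced _
  obtain ⟨t₀, ht₀⟩ : xU ∈ Set.range ι₀ := by rw [hrange]; exact hxZ
  obtain ⟨V, hV, ht₀V⟩ : ∃ V : I.subscheme.Opens, IsAffineOpen V ∧ t₀ ∈ V := by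
    obtain ⟨_, ⟨V, hV, rfl⟩, hxV, -⟩ :=
      (I.subscheme.isBasis_affineOpens).exists_subset_of_mem_open (Set.mem_univ t₀) isOpen_univ
    exact ⟨V, hV, hxV⟩
  let i : (V : Scheme.{u}) ⟶ X := V.ι ≫ ι₀ ≫ U.ι
  have hne : Nonempty ↥(V : Scheme.{u}) := ⟨⟨t₀, ht₀V⟩⟩
  have hVint : IsIntegral (V : Scheme.{u}) := isIntegral_of_isOpenImmersion V.ι
  have hif : i ≫ f = V.ι ≫ (ι₀ ≫ fU) := by simp [i, fU]
  have hlft : LocallyOfFiniteType (i ≫ f) := inferInstance
  refine ⟨V, i, inferInstance, inferInstance, inferInstance, ⟨⟨t₀, ht₀V⟩, ?_⟩, hlft, ?_, ?_, ?_⟩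
  · show U.ι (ι₀ (V.ι ⟨t₀, ht₀V⟩)) = x
    have : V.ι ⟨t₀, ht₀V⟩ = t₀ := rfl
    rw [this, ht₀]
    rfl
  · rw [hif]; infer_instance
  · have hVN : IsLocallyNoetherian (V : Scheme.{u}) :=
      LocallyOfFiniteType.isLocallyNoetherian (i ≫ f)
    have hVaff : IsAffine (V : Scheme.{u}) := hV
    have hVNoe : IsNoetherian (V : Scheme.{u}) := {}
    exact ⟨fun S _ _ => TopologicalSpace.NoetherianSpace.isCompact _⟩
  · have hd1 : IsDominant V.ι := Opens.isDominant_ι (V.2.dense ⟨t₀, ht₀V⟩)
    have hd2 : IsDominant (ι₀ ≫ fU) := by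
      refine ⟨?_⟩
      rw [DenseRange, dense_iff_closure_eq]
      have : Set.range (ι₀ ≫ fU) = fU '' Z := by
        rw [← hrange]
        ext y
        simp only [Set.mem_range, Set.mem_image, Scheme.Hom.comp_apply]
        constructor
        · rintro ⟨t, rfl⟩; exact ⟨ι₀ t, ⟨t, rfl⟩, rfl⟩
        · rintro ⟨_, ⟨t, rfl⟩, rfl⟩; exact ⟨t, rfl⟩
      rw [this, ← hWuniv, ← hcl]
    rw [hif]; infer_instance

end Groth.Agent.Helper5.CutSec
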