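import Groth.Agent.Helper5.EtFib
import Groth.Agent.Helper5.SubDim5

set_option autoImplicit false
universe u
open AlgebraicGeometry CategoryTheory CategoryTheory.Limits TopologicalSpace

namespace Groth.Agent.Helper5.EtLoc

/-- Local dimension is invariant under open embeddings. -/
theorem localDim_of_isOpenEmbedding {A B : Type*} [TopologicalSpace A] [TopologicalSpace B]
    (e : A → B) (he : Topology.IsOpenEmbedding e) (a : A) :
    FlatMor.localDim A a = FlatMor.localDim B (e a) := by
  unfold FlatMor.localDim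
  apply le_antisymm
  · refine le_iInf fun V => ?_
    refine iInf_le_of_le ⟨⟨e ⁻¹' (V.1 : Set B), V.1.2.preimage he.continuous⟩, V.2⟩ ?_
    let φ : ↥(e ⁻¹' (V.1 : Set B)) → ↥(V.1 : Set B) := fun z => ⟨e z.1, z.2⟩
    have hφ : Topology.IsInducing φ := by
      have h1 : Topology.IsInducing (fun z : ↥(e ⁻¹' (V.1 : Set B)) => e z.1) :=
        he.isInducing.comp Topology.IsInducing.subtypeVal
      exact Topology.IsInducing.of_comp (by fun_prop) continuous_subtype_val h1
    exact hφ.topologicalKrullDim_le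
  · refine le_iInf fun U => ?_
    have hopen : IsOpen (e '' (U.1 : Set A)) := he.isOpenMap _ U.1.2
    refine iInf_le_of_le ⟨⟨e '' (U.1 : Set A), hopen⟩, ⟨a, U.2, rfl⟩⟩ ?_
    let ψ : ↥(U.1 : Set A) ≃ₜ ↥(e '' (U.1 : Set A)) := he.isEmbedding.homeomorphImage _
    exact le_of_eq (IsHomeomorph.topologicalKrullDim_eq ψ ψ.isHomeomorph).symm

/-- The local fibre dimension as the local dimension of the set-theoretic fibre. -/
theorem fibreDimAt_eq_localDim_preimage {X Y : Scheme.{u}} (f : X ⟶ Y) (x : X) :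
    FlatMor.fibreDimAt f x = FlatMor.localDim ↥(f ⁻¹' {f x}) ⟨x, rfl⟩ := by
  let j := f.fiberι (f x)
  have hemb : Topology.IsEmbedding j := j.isEmbedding
  have hrange : Set.range j = f ⁻¹' {f x} := f.range_fiberι (f x)
  let e : ↥(f.fiber (f x)) ≃ₜ ↥(f ⁻¹' {f x}) :=
    hemb.toHomeomorph.trans (Homeomorph.setCongr hrange)
  have he : e (f.asFiber x) = ⟨x, rfl⟩ := by
    apply Subtype.ext
    show j (f.asFiber x) = x
    exact f.fiberι_asFiber x
  rw [← he, ← Groth.Agent.Helper5.SubDim.localDim_homeomorph e (f.asFiber x)]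
  rfl

/-- (E3) The local fibre dimension is unchanged by composing with a locally quasi-finite
morphism on the target. -/
theorem fibreDimAt_comp_lqf {U' V' V : Scheme.{u}} (g : U' ⟶ V') (b : V' ⟶ V)
    [LocallyQuasiFinite b] (x : U') :
    FlatMor.fibreDimAt (g ≫ b) x = FlatMor.fibreDimAt g x := by
  rw [fibreDimAt_eq_localDim_preimage, fibreDimAt_eq_localDim_preimage]
  have hd := Scheme.Hom.isDiscrete_preimage_singleton b (b (g x))
  rw [isDiscrete_iff_forall_mem_exists_isOpen] at hd
  obtain ⟨O, hO, hOeq⟩ := hd (g x) rfl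
  have hsub : g ⁻¹' {g x} ⊆ (g ≫ b) ⁻¹' {(g ≫ b) x} := by
    intro z hz
    show b (g z) = b (g x)
    rw [show g z = g x from hz]
  let ι : ↥(g ⁻¹' {g x}) → ↥((g ≫ b) ⁻¹' {(g ≫ b) x}) := Set.inclusion hsub
  have hι : Topology.IsOpenEmbedding ι := by
    refine ⟨Topology.IsEmbedding.inclusion hsub, ?_⟩
    have hr : Set.range ι = Subtype.val ⁻¹' (g ⁻¹' O) := by
      ext ⟨z, hz⟩
      constructor
      · rintro ⟨⟨w, hw⟩, hwz⟩
        have hwz' : w = z := congrArg Subtype.val hwz
        subst hwz'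
        show g w ∈ O
        have : g w ∈ O ∩ b ⁻¹' {b (g x)} := by
          rw [hOeq]; exact hw
        exact this.1
      · intro hzO
        have hzO' : g z ∈ O := hzO
        have hz' : b (g z) = b (g x) := hz
        have : g z ∈ O ∩ b ⁻¹' {b (g x)} := ⟨hzO', hz'⟩
        rw [hOeq] at this
        exact ⟨⟨z, this⟩, rfl⟩
    rw [hr]
    exact (hO.preimage g.continuous).preimage continuous_subtype_val
  exact (localDim_of_isOpenEmbedding ι hι ⟨x, rfl⟩).symm

theorem s7408 {U U' V V' : Scheme.{u}} (h : U ⟶ V) (h' : U' ⟶ V') (a : U' ⟶ U)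
    (b : V' ⟶ V) [Etale a] [Etale b] (comm : h' ≫ b = a ≫ h) (u' : U') :
    FlatMor.fibreDimAt h (a u') = FlatMor.fibreDimAt h' u' := by
  have : LocallyQuasiFinite b := Groth.Agent.Helper5.UnramLqf.locallyQuasiFinite_of_unramified b
  rw [← Groth.Agent.Helper5.EtFib.fibreDimAt_etale_comp a h u', ← comm, fibreDimAt_comp_lqf]

end Groth.Agent.Helper5.EtLoc
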