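import Groth.Agent.Helper5.VarCodim

set_option autoImplicit false
universe u
open AlgebraicGeometry CategoryTheory TopologicalSpace

namespace Groth.Agent.Helper5.SubDim

open Groth.Agent.Helper5.LocDE Groth.Agent.Helper5.VarDim Groth.Agent.Helper5.MaxPt

theorem coheight_add_le_of_le_krullDim_Icc {α : Type*} [Preorder α] (a b : α) (r : ℕ)
    (hr : (r : WithBot ℕ∞) ≤ Order.krullDim ↥(Set.Icc a b)) :
    Order.coheight b + (r : ℕ∞) ≤ Order.coheight a := by
  obtain ⟨l, hl⟩ := Order.le_krullDim_iff.1 hr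
  let l' : LTSeries α := l.map Subtype.val (fun _ _ h => h)
  have h1 := coheight_last_add_length_le l'
  have h2 : Order.coheight b ≤ Order.coheight l'.last := Order.coheight_anti (l.last.2.2)
  have h3 : Order.coheight l'.head ≤ Order.coheight a := Order.coheight_anti (l.head.2.1)
  have h4 : l'.length = r := hl
  rw [h4] at h1
  calc Order.coheight b + (r : ℕ∞) ≤ Order.coheight l'.last + (r : ℕ∞) := by gcongr
    _ ≤ Order.coheight l'.head := h1
    _ ≤ Order.coheight a := h3

/-- (FC): codimension between two points of a fibre, in terms of the residue field extensions of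
the morphism. -/
theorem fibre_codim {X Y : Scheme.{u}} (f : X ⟶ Y) [LocallyOfFiniteType f] (y : Y)
    (ζx ζz : ↥(f.fiber y)) (hsp : ζz ⤳ ζx) :
    ∃ a tx tz : ℕ, Order.krullDim ↥(Set.Icc ζx ζz) = a ∧
      @Algebra.trdeg (Y.residueField (f (f.fiberι y ζx))) (X.residueField (f.fiberι y ζx)) _ _
        (f.residueFieldMap (f.fiberι y ζx)).hom.toAlgebra = tx ∧
      @Algebra.trdeg (Y.residueField (f (f.fiberι y ζz))) (X.residueField (f.fiberι y ζz)) _ _
        (f.residueFieldMap (f.fiberι y ζz)).hom.toAlgebra = tz ∧ a + tx = tz := by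
  have hft : LocallyOfFiniteType (f.fiberToSpecResidueField y) :=
    inferInstanceAs (LocallyOfFiniteType (Limits.pullback.snd f (Y.fromSpecResidueField y)))
  obtain ⟨a, tx, tz, ha, htx, htz, hsum⟩ :=
    variety_codim (Y.residueField y) (f.fiberToSpecResidueField y) ζx ζz hsp
  refine ⟨a, tx, tz, ha, ?_, ?_, hsum⟩
  · rw [← trdeg_fiber' f y ζx (f.fiberι y ζx) rfl (apply_fiberι f y ζx)]
    exact htx
  · rw [← trdeg_fiber' f y ζz (f.fiberι y ζz) rfl (apply_fiberι f y ζz)]
    exact htz

end Groth.Agent.Helper5.SubDim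

namespace Groth.Agent.Helper5.SubDim

open Groth.Agent.Helper5.LocDE Groth.Agent.Helper5.VarDim Groth.Agent.Helper5.MaxPt

theorem trdeg_congr_point {X Y : Scheme.{u}} (f : X ⟶ Y) (p q : X) (h : p = q) :
    @Algebra.trdeg (Y.residueField (f p)) (X.residueField p) _ _
        (f.residueFieldMap p).hom.toAlgebra =
      @Algebra.trdeg (Y.residueField (f q)) (X.residueField q) _ _
        (f.residueFieldMap q).hom.toAlgebra := by
  subst h
  rfl

/-- The interval between two points of the same fibre, inside the fibre, as a subset of `X`. -/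
def FibIcc {X Y : Scheme.{u}} (f : X ⟶ Y) (x z : X) : Set X :=
  {s : X | f s = f x ∧ x ≤ s ∧ s ≤ z}

/-- (FC'): codimension between two points of a fibre. -/
theorem fibre_codim' {X Y : Scheme.{u}} (f : X ⟶ Y) [LocallyOfFiniteType f] (x z : X)
    (hfz : f z = f x) (hzx : z ⤳ x) :
    ∃ a tx tz : ℕ, Order.krullDim ↥(FibIcc f x z) = a ∧
      @Algebra.trdeg (Y.residueField (f x)) (X.residueField x) _ _
        (f.residueFieldMap x).hom.toAlgebra = tx ∧
      @Algebra.trdeg (Y.residueField (f z)) (X.residueField z) _ _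
        (f.residueFieldMap z).hom.toAlgebra = tz ∧ a + tx = tz := by
  let y := f x
  let j := f.fiberι y
  have hemb : Topology.IsEmbedding j := j.isEmbedding
  have hzr : z ∈ Set.range j := by rw [Scheme.Hom.range_fiberι]; exact hfz
  obtain ⟨ζz, hζz⟩ := hzr
  let ζx : ↥(f.fiber y) := f.asFiber x
  have hζx : j ζx = x := f.fiberι_asFiber x
  have hle : ∀ a b : ↥(f.fiber y), a ≤ b ↔ j a ≤ j b := by
    intro a b
    rw [Scheme.le_iff_specializes, Scheme.le_iff_specializes, hemb.toIsInducing.specializes_iff]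
  have hlt : ∀ a b : ↥(f.fiber y), a < b ↔ j a < j b := by
    intro a b
    rw [lt_iff_le_not_ge, lt_iff_le_not_ge, hle a b, hle b a]
  have hsp : ζz ⤳ ζx := by
    rw [← Scheme.le_iff_specializes, hle, hζx, hζz, Scheme.le_iff_specializes]
    exact hzx
  obtain ⟨a, tx, tz, ha, htx, htz, hsum⟩ := fibre_codim f y ζx ζz hsp
  refine ⟨a, tx, tz, ?_, ?_, ?_, hsum⟩
  · rw [← ha]
    apply le_antisymm
    · have hex : ∀ t : ↥(FibIcc f x z), ∃ s : ↥(f.fiber y), j s = t.1 := by
        intro t
        have : t.1 ∈ Set.range j := by rw [Scheme.Hom.range_fiberι]; exact t.2.1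
        exact this
      refine Order.krullDim_le_of_strictMono
        (fun t => (⟨(hex t).choose, by
          refine ⟨?_, ?_⟩
          · rw [hle, (hex t).choose_spec, hζx]; exact t.2.2.1
          · rw [hle, (hex t).choose_spec, hζz]; exact t.2.2.2⟩ : ↥(Set.Icc ζx ζz))) ?_
      intro s t hst
      show (hex s).choose < (hex t).choose
      rw [hlt, (hex s).choose_spec, (hex t).choose_spec]
      exact hst
    · refine Order.krullDim_le_of_strictMono
        (fun s : ↥(Set.Icc ζx ζz) => (⟨j s.1, apply_fiberι f y s.1, by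
          rw [← hζx, ← hle]; exact s.2.1, by rw [← hζz, ← hle]; exact s.2.2⟩ :
            ↥(FibIcc f x z))) ?_
      intro s t hst
      exact (hlt s.1 t.1).1 hst
  · rw [← trdeg_congr_point f _ _ hζx]
    exact htx
  · rw [← trdeg_congr_point f _ _ hζz]
    exact htz

/-- The local fibre dimension in terms of the fibre local ring and the residue field. -/
theorem fibreDimAt_eq {X Y : Scheme.{u}} (f : X ⟶ Y) [LocallyOfFiniteType f] (x : X) :
    ∃ k n : ℕ, ringKrullDim ((f.fiber (f x)).presheaf.stalk (f.asFiber x)) = (k : WithBot ℕ∞) ∧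
      Order.coheight (f.asFiber x) = (k : ℕ∞) ∧
      @Algebra.trdeg (Y.residueField (f x)) (X.residueField x) _ _
        (f.residueFieldMap x).hom.toAlgebra = n ∧
      FlatMor.fibreDimAt f x = ((k + n : ℕ) : WithBot ℕ∞) := by
  have hftF : LocallyOfFiniteType (f.fiberToSpecResidueField (f x)) :=
    inferInstanceAs (LocallyOfFiniteType (Limits.pullback.snd f (Y.fromSpecResidueField _)))
  have hF : IsLocallyNoetherian (f.fiber (f x)) :=
    LocallyOfFiniteType.isLocallyNoetherian (f.fiberToSpecResidueField (f x))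
  obtain ⟨k, hk1, hk2⟩ := ringKrullDim_stalk_nat (f.fiber (f x)) (f.asFiber x)
  obtain ⟨n', hn'1, hn'2, -⟩ := localDim_formula (Y.residueField (f x))
    (f.fiberToSpecResidueField (f x)) (f.asFiber x)
  refine ⟨k, n', hk1, hk2, (trdeg_fiber f x).symm.trans hn'1, ?_⟩
  show FlatMor.localDim ↥(f.fiber (f x)) (f.asFiber x) = _
  rw [hn'2, hk1]
  push_cast
  rfl

end Groth.Agent.Helper5.SubDim
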