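import Groth.Prelude.Def_Dual3
import Mathlib

set_option autoImplicit false
universe u
open CategoryTheory CategoryTheory.Limits AlgebraicGeometry Opposite

namespace Groth.Agent.Helper5.ResTr

theorem resTrdeg_comp {A B C : Scheme.{u}} (h : A ⟶ B) (k : B ⟶ C) (a : ↥A) :
    Dual3.resTrdeg (h ≫ k) a = Dual3.resTrdeg k (h a) + Dual3.resTrdeg h a := by
  unfold Dual3.resTrdeg
  let i1 : Algebra (C.residueField (k (h a))) (B.residueField (h a)) :=
    (k.residueFieldMap (h a)).hom.toAlgebra
  let i2 : Algebra (B.residueField (h a)) (A.residueField a) := (h.residueFieldMap a).hom.toAlgebra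
  let i3 : Algebra (C.residueField (k (h a))) (A.residueField a) :=
    ((h ≫ k).residueFieldMap a).hom.toAlgebra
  have : IsScalarTower (C.residueField (k (h a))) (B.residueField (h a)) (A.residueField a) := by
    refine IsScalarTower.of_algebraMap_eq' ?_
    show ((h ≫ k).residueFieldMap a).hom = (h.residueFieldMap a).hom.comp (k.residueFieldMap (h a)).hom
    rw [Scheme.residueFieldMap_comp]
    rfl
  exact (_root_.trdeg_add_eq (C.residueField (k (h a))) (B.residueField (h a))
    (A := A.residueField a)).symm

theorem resTrdeg_eq_zero_of_etale {A B : Scheme.{u}} (h : A ⟶ B) [Etale h] (a : ↥A) :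
    Dual3.resTrdeg h a = 0 := by
  unfold Dual3.resTrdeg
  let i2 : Algebra (B.residueField (h a)) (A.residueField a) := (h.residueFieldMap a).hom.toAlgebra
  have : Algebra.IsSeparable (B.residueField (h a)) (A.residueField a) := inferInstance
  have : Algebra.IsAlgebraic (B.residueField (h a)) (A.residueField a) := inferInstance
  exact _root_.trdeg_eq_zero

theorem resTrdeg_eq_zero_of_lqf {A B : Scheme.{u}} (h : A ⟶ B) [LocallyQuasiFinite h] (a : ↥A) :
    Dual3.resTrdeg h a = 0 := by
  unfold Dual3.resTrdeg
  have hqf : (h.stalkMap a).hom.QuasiFinite := h.quasiFiniteAt a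
  let i0 : Algebra (B.presheaf.stalk (h a)) (A.presheaf.stalk a) := (h.stalkMap a).hom.toAlgebra
  have hqf' : Algebra.QuasiFinite (B.presheaf.stalk (h a)) (A.presheaf.stalk a) := hqf
  let i2 : Algebra (B.residueField (h a)) (A.residueField a) := (h.residueFieldMap a).hom.toAlgebra
  let i1 : Algebra (A.presheaf.stalk a) (A.residueField a) := (A.residue a).hom.toAlgebra
  let i4 : Algebra (B.presheaf.stalk (h a)) (B.residueField (h a)) := (B.residue (h a)).hom.toAlgebra
  let i3 : Algebra (B.presheaf.stalk (h a)) (A.residueField a) :=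
    ((A.residue a).hom.comp (h.stalkMap a).hom).toAlgebra
  have t1 : IsScalarTower (B.presheaf.stalk (h a)) (A.presheaf.stalk a) (A.residueField a) :=
    IsScalarTower.of_algebraMap_eq' rfl
  have t2 : IsScalarTower (B.presheaf.stalk (h a)) (B.residueField (h a)) (A.residueField a) := by
    refine IsScalarTower.of_algebraMap_eq' ?_
    ext x
    rfl
  have f1 : Module.Finite (A.presheaf.stalk a) (A.residueField a) :=
    Module.Finite.of_surjective (Algebra.linearMap (A.presheaf.stalk a) (A.residueField a))
      (IsLocalRing.residue_surjective (R := A.presheaf.stalk a))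
  have q1 : Algebra.QuasiFinite (B.presheaf.stalk (h a)) (A.residueField a) :=
    Algebra.QuasiFinite.trans _ (A.presheaf.stalk a) _
  have q2 : Algebra.QuasiFinite (B.residueField (h a)) (A.residueField a) :=
    Algebra.QuasiFinite.of_restrictScalars (B.presheaf.stalk (h a)) _ _
  have f2 : Module.Finite (B.residueField (h a)) (A.residueField a) := Module.Finite.of_quasiFinite
  have : Algebra.IsAlgebraic (B.residueField (h a)) (A.residueField a) := inferInstance
  exact _root_.trdeg_eq_zero

end Groth.Agent.Helper5.ResTr
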