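import Groth.Agent.Helper5.CompFib1
import Groth.Agent.Helper5.VarDim9
import Groth.Agent.Helper5.BCMin13
import Groth.Agent.Helper5.FibCodim
import Groth.Agent.Helper5.ResTr

set_option autoImplicit false
universe u
open CategoryTheory CategoryTheory.Limits AlgebraicGeometry TopologicalSpace

namespace Groth.Agent.Helper5.CompFib

open Groth.Agent.Helper5.VarDim

/-- The inequality of local dimensions for a morphism of schemes locally of finite type over a
field. -/
theorem le_formula (k : Type u) [Field k] {X Y : Scheme.{u}}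
    (gX : X ⟶ Spec (CommRingCat.of k)) (gY : Y ⟶ Spec (CommRingCat.of k))
    [LocallyOfFiniteType gX] [LocallyOfFiniteType gY]
    (f : X ⟶ Y) (hf : f ≫ gY = gX) (x : X) :
    FlatMor.localDim X x ≤ FlatMor.localDim Y (f x) + FlatMor.fibreDimAt f x := by
  have hflft : LocallyOfFiniteType f := by
    have : LocallyOfFiniteType (f ≫ gY) := hf ▸ inferInstance
    exact locallyOfFiniteType_of_comp f gY
  have hXN : IsLocallyNoetherian X := LocallyOfFiniteType.isLocallyNoetherian gX
  have hYN : IsLocallyNoetherian Y := LocallyOfFiniteType.isLocallyNoetherian gY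
  obtain ⟨nX, hX1, hX2, -⟩ := localDim_formula k gX x
  obtain ⟨nY, hY1, hY2, -⟩ := localDim_formula k gY (f x)
  have hft : LocallyOfFiniteType (f.fiberToSpecResidueField (f x)) :=
    inferInstanceAs (LocallyOfFiniteType (Limits.pullback.snd f (Y.fromSpecResidueField (f x))))
  obtain ⟨nF, hF1, hF2, -⟩ := localDim_formula (Y.residueField (f x))
    (f.fiberToSpecResidueField (f x)) (f.asFiber x)
  rw [trdeg_fiber f x] at hF1
  have htower := trdeg_tower k f gY x
  rw [hf, hX1, hY1, hF1] at htower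
  have hnat : nX = nY + nF := by exact_mod_cast htower
  have hst := Groth.Agent.Helper5.DimIneq.stalk_dim_le f x
  show FlatMor.localDim X x ≤ FlatMor.localDim Y (f x) +
    FlatMor.localDim ↥(f.fiber (f x)) (f.asFiber x)
  rw [hX2, hY2, hF2, hnat]
  push_cast
  calc ringKrullDim ↑(X.presheaf.stalk x) + ((nY : WithBot ℕ∞) + (nF : WithBot ℕ∞))
      ≤ (ringKrullDim ↑(Y.presheaf.stalk (f x)) +
        ringKrullDim ↑((f.fiber (f x)).presheaf.stalk (f.asFiber x))) +
          ((nY : WithBot ℕ∞) + (nF : WithBot ℕ∞)) := add_le_add_left hst _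
    _ = _ := by abel

end Groth.Agent.Helper5.CompFib

namespace Groth.Agent.Helper5.CompFib

open Groth.Agent.Helper5.VarDim

/-- The local fibre dimension of a composite is at most the sum of the local fibre dimensions. -/
theorem fibreDimAt_comp_le {X Y Z : Scheme.{u}} (f : X ⟶ Y) (g : Y ⟶ Z)
    [LocallyOfFiniteType f] [LocallyOfFiniteType g] (x : X) :
    FlatMor.fibreDimAt (f ≫ g) x ≤ FlatMor.fibreDimAt g (f x) + FlatMor.fibreDimAt f x := by
  let z : Z := (f ≫ g) x
  have hz : g (f x) = z := rfl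
  let k := Z.residueField z
  let qX : (f ≫ g).fiber z ⟶ Spec k := (f ≫ g).fiberToSpecResidueField z
  let qY : g.fiber z ⟶ Spec k := g.fiberToSpecResidueField z
  have hqX : LocallyOfFiniteType qX :=
    inferInstanceAs (LocallyOfFiniteType (pullback.snd (f ≫ g) (Z.fromSpecResidueField z)))
  have hqY : LocallyOfFiniteType qY :=
    inferInstanceAs (LocallyOfFiniteType (pullback.snd g (Z.fromSpecResidueField z)))
  let fz : (f ≫ g).fiber z ⟶ g.fiber z :=
    pullback.lift ((f ≫ g).fiberι z ≫ f) qX (by rw [Category.assoc]; exact pullback.condition)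
  have hfz1 : fz ≫ g.fiberι z = (f ≫ g).fiberι z ≫ f := pullback.lift_fst _ _ _
  have hfz2 : fz ≫ qY = qX := pullback.lift_snd _ _ _
  have sqR : IsPullback (g.fiberι z) qY g (Z.fromSpecResidueField z) :=
    IsPullback.of_hasPullback _ _
  have sqO : IsPullback ((f ≫ g).fiberι z) qX (f ≫ g) (Z.fromSpecResidueField z) :=
    IsPullback.of_hasPullback _ _
  have sqL : IsPullback ((f ≫ g).fiberι z) fz f (g.fiberι z) := by
    refine (IsPullback.of_right ?_ hfz1 sqR.flip).flip
    rw [hfz2]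
    exact sqO.flip
  let x' : ↥((f ≫ g).fiber z) := (f ≫ g).asFiber x
  have hx' : (f ≫ g).fiberι z x' = x := (f ≫ g).fiberι_asFiber x
  have e1 : FlatMor.fibreDimAt fz x' = FlatMor.fibreDimAt f x := by
    rw [Groth.Agent.Helper5.BCMin.fibreDimAt_of_isPullback f (g.fiberι z) ((f ≫ g).fiberι z) fz
      sqL x', hx']
  have e2 : FlatMor.localDim ↥(g.fiber z) (fz x') = FlatMor.fibreDimAt g (f x) := by
    refine localDim_fiber_eq_fibreDimAt g z (fz x') (f x) ?_ hz
    have h1 := congrArg (fun ψ : (f ≫ g).fiber z ⟶ Y => ψ x') hfz1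
    have h2 : f ((f ≫ g).fiberι z x') = f x := congrArg (fun t => f t) hx'
    exact h1.trans h2
  have e3 : FlatMor.fibreDimAt (f ≫ g) x = FlatMor.localDim ↥((f ≫ g).fiber z) x' := rfl
  rw [e3, ← e1, ← e2]
  exact le_formula k qX qY fz hfz2 x'

end Groth.Agent.Helper5.CompFib

namespace Groth.Agent.Helper5.CompFib

open Groth.Agent.Helper5.VarDim

set_option backward.isDefEq.respectTransparency false in
/-- Under flatness at `x`, the dimensions of the local rings of the fibres add up. -/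
theorem stalkdims_add_le {X Y Z : Scheme.{u}} (f : X ⟶ Y) (g : Y ⟶ Z) (x : X)
    (hflat : (f.stalkMap x).hom.Flat) (k₁ k₂ : ℕ)
    (h1 : ringKrullDim ((f.fiber (f x)).presheaf.stalk (f.asFiber x)) = k₁)
    (h2 : ringKrullDim ((g.fiber (g (f x))).presheaf.stalk (g.asFiber (f x))) = k₂) :
    ((k₁ + k₂ : ℕ) : WithBot ℕ∞) ≤
      ringKrullDim (((f ≫ g).fiber ((f ≫ g) x)).presheaf.stalk ((f ≫ g).asFiber x)) := by
  rw [Groth.Agent.Helper5.DimIneq.fiber_stalk_dim_eq] at h1 h2 ⊢
  let C := Z.presheaf.stalk (g (f x))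
  let A := Y.presheaf.stalk (f x)
  let B := X.presheaf.stalk x
  let φ : C →+* A := (g.stalkMap (f x)).hom
  let ψ : A →+* B := (f.stalkMap x).hom
  have hloc : IsLocalHom φ := inferInstanceAs (IsLocalHom (g.stalkMap (f x)).hom)
  have hI : (IsLocalRing.maximalIdeal C).map φ ≤ IsLocalRing.maximalIdeal A := by
    rw [Ideal.map_le_iff_le_comap]
    have h := ((IsLocalRing.local_hom_TFAE φ).out 0 4).1 hloc
    exact h.ge
  have key := dim_add_le ψ hflat.generalizingMap_comap ((IsLocalRing.maximalIdeal C).map φ) hI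
    k₂ k₁ h2.ge h1.ge
  rw [Ideal.map_map, add_comm] at key
  have hcomp : ((f ≫ g).stalkMap x).hom = ψ.comp φ := by
    rw [Scheme.Hom.stalkMap_comp]
    rfl
  show ((k₁ + k₂ : ℕ) : WithBot ℕ∞) ≤
    ringKrullDim (B ⧸ (IsLocalRing.maximalIdeal C).map ((f ≫ g).stalkMap x).hom)
  rw [hcomp]
  exact key

/-- The local fibre dimension of a composite. -/
theorem fibreDimAt_comp {X Y Z : Scheme.{u}} (f : X ⟶ Y) (g : Y ⟶ Z)
    [LocallyOfFiniteType f] [LocallyOfFiniteType g] (x : X) :
    FlatMor.fibreDimAt (f ≫ g) x ≤ FlatMor.fibreDimAt f x + FlatMor.fibreDimAt g (f x) ∧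
      ((f.stalkMap x).hom.Flat →
        FlatMor.fibreDimAt (f ≫ g) x = FlatMor.fibreDimAt f x + FlatMor.fibreDimAt g (f x)) := by
  have hle : FlatMor.fibreDimAt (f ≫ g) x ≤
      FlatMor.fibreDimAt f x + FlatMor.fibreDimAt g (f x) := by
    rw [add_comm]; exact fibreDimAt_comp_le f g x
  refine ⟨hle, fun hflat => le_antisymm hle ?_⟩
  obtain ⟨k₁, n₁, h11, -, h13, h14⟩ := Groth.Agent.Helper5.SubDim.fibreDimAt_eq f x
  obtain ⟨k₂, n₂, h21, -, h23, h24⟩ := Groth.Agent.Helper5.SubDim.fibreDimAt_eq g (f x)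
  obtain ⟨k₃, n₃, h31, -, h33, h34⟩ := Groth.Agent.Helper5.SubDim.fibreDimAt_eq (f ≫ g) x
  have hk := stalkdims_add_le f g x hflat k₁ k₂ h11 h21
  rw [h31] at hk
  have hk' : k₁ + k₂ ≤ k₃ := by exact_mod_cast hk
  have htr := Groth.Agent.Helper5.ResTr.resTrdeg_comp f g x
  have hn : (n₃ : Cardinal.{u}) = (n₂ : Cardinal.{u}) + n₁ := by
    rw [← h13, ← h23, ← h33]
    exact htr
  have hn' : n₃ = n₂ + n₁ := by exact_mod_cast hn
  rw [h14, h24, h34]
  have : k₁ + n₁ + (k₂ + n₂) ≤ k₃ + n₃ := by omega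
  exact_mod_cast this

end Groth.Agent.Helper5.CompFib
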