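import Groth.Agent.Helper5.SubDim6
import Groth.Agent.Helper2.TopDim

set_option autoImplicit false
universe u
open AlgebraicGeometry CategoryTheory TopologicalSpace

namespace Groth.Agent.Helper5.SubDim

open Groth.Agent.Helper5.LocDE Groth.Agent.Helper5.VarDim Groth.Agent.Helper5.MaxPt

theorem fibreDimAt_nat {X Y : Scheme.{u}} (f : X ⟶ Y) [LocallyOfFiniteType f] (x : X) :
    ∃ m : ℕ, FlatMor.fibreDimAt f x = (m : WithBot ℕ∞) := by
  have hftF : LocallyOfFiniteType (f.fiberToSpecResidueField (f x)) :=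
    inferInstanceAs (LocallyOfFiniteType (Limits.pullback.snd f (Y.fromSpecResidueField _)))
  have hF : IsLocallyNoetherian (f.fiber (f x)) :=
    LocallyOfFiniteType.isLocallyNoetherian (f.fiberToSpecResidueField (f x))
  obtain ⟨k, hk1, -⟩ := ringKrullDim_stalk_nat (f.fiber (f x)) (f.asFiber x)
  obtain ⟨n', -, hn'2, -⟩ := localDim_formula (Y.residueField (f x))
    (f.fiberToSpecResidueField (f x)) (f.asFiber x)
  refine ⟨k + n', ?_⟩
  show FlatMor.localDim ↥(f.fiber (f x)) (f.asFiber x) = _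
  rw [hn'2, hk1]
  push_cast
  rfl

/-- The fibre dimensions of a morphism of finite type to a quasi-compact scheme are bounded. -/
theorem exists_fibre_dim_le {X Y : Scheme.{u}} [CompactSpace Y] (f : X ⟶ Y)
    [LocallyOfFiniteType f] [QuasiCompact f] :
    ∃ n : ℕ, ∀ y : Y, topologicalKrullDim ↥(f.fiber y) ≤ n := by
  have hXc : CompactSpace X := QuasiCompact.compactSpace_of_compactSpace f
  let U : ℕ → Set X := fun m => {x : X | FlatMor.fibreDimAt f x ≤ (m : WithBot ℕ∞)}
  have hUo : ∀ m, IsOpen (U m) := fun m => Groth.Agent.Helper5.FibDim.isOpen_fibreDimAt_le f _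
  have hUcov : (Set.univ : Set X) ⊆ ⋃ m, U m := by
    intro x _
    obtain ⟨m, hm⟩ := fibreDimAt_nat f x
    exact Set.mem_iUnion.2 ⟨m, le_of_eq hm⟩
  have hdir : Directed (· ⊆ ·) U := by
    intro a b
    refine ⟨max a b, ?_, ?_⟩
    · intro x hx
      have hx' : FlatMor.fibreDimAt f x ≤ (a : WithBot ℕ∞) := hx
      have h2 : (a : WithBot ℕ∞) ≤ ((max a b : ℕ) : WithBot ℕ∞) := by
        exact_mod_cast le_max_left a b
      exact le_trans hx' h2
    · intro x hx
      have hx' : FlatMor.fibreDimAt f x ≤ (b : WithBot ℕ∞) := hx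
      have h2 : (b : WithBot ℕ∞) ≤ ((max a b : ℕ) : WithBot ℕ∞) := by
        exact_mod_cast le_max_right a b
      exact le_trans hx' h2
  obtain ⟨N, hN⟩ := isCompact_univ.elim_directed_cover U hUo hUcov hdir
  refine ⟨N, fun y => ?_⟩
  rw [Groth.Agent.Helper2.TopDim.dim_eq_iSup_localDim]
  refine iSup_le fun ζ => ?_
  rw [localDim_fiber_eq_fibreDimAt f y ζ (f.fiberι y ζ) rfl (apply_fiberι f y ζ)]
  exact hN (Set.mem_univ _)

end Groth.Agent.Helper5.SubDim
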