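import Mathlib
import Groth.Prelude.Def_FlatCA

set_option autoImplicit false
universe u
open TensorProduct

namespace Groth.Agent.Helper5.FibAss

attribute [local instance] Algebra.TensorProduct.rightAlgebra

variable {R S : Type u} [CommRing R] [CommRing S] [Algebra R S]

theorem isNoetherianRing_fiber [Algebra.FiniteType R S] (p : Ideal R) [p.IsPrime] :
    IsNoetherianRing (p.Fiber S) := by
  haveI : Algebra.FiniteType p.ResidueField (p.Fiber S) :=
    inferInstanceAs (Algebra.FiniteType p.ResidueField (p.ResidueField ⊗[R] S))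
  exact Algebra.FiniteType.isNoetherianRing p.ResidueField (p.Fiber S)

/-- elements of `R` outside `p` act invertibly on the fibre ring -/
theorem mem_of_smul_mem (p : Ideal R) [p.IsPrime] (I : Ideal (p.Fiber S)) (a : R) (ha : a ∉ p)
    (x : p.Fiber S) (h : a • x ∈ I) : x ∈ I := by
  have hne : algebraMap R p.ResidueField a ≠ 0 := by
    intro h0
    apply ha
    rw [← Ideal.ker_algebraMap_residueField p]
    exact h0
  have hx : x = ((algebraMap R p.ResidueField a)⁻¹ ⊗ₜ[R] (1 : S)) * (a • x) := by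
    rw [Algebra.smul_def, ← mul_assoc]
    have h1 : algebraMap R (p.Fiber S) a = (algebraMap R p.ResidueField a) ⊗ₜ[R] (1 : S) := by
      rw [Algebra.TensorProduct.algebraMap_apply]
    rw [h1, Algebra.TensorProduct.tmul_mul_tmul, inv_mul_cancel₀ hne, mul_one]
    exact (one_mul x).symm
  rw [hx]
  exact I.mul_mem_left _ h

theorem s1191 [Algebra.FinitePresentation R S]
    (N : Type u) [AddCommGroup N] [Module S N] [Module R N] [IsScalarTower R S N] [Module.FinitePresentation S N]
    (p : Ideal R) [p.IsPrime] (q : Ideal S) [q.IsPrime] [q.LiesOver p] :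
    ∃ g : S, g ∉ q ∧ ∀ r ∈ associatedPrimes (p.Fiber S) (FlatCA.fiberMod p S N),
      ¬ r ≤ FlatCA.fiberIdeal p q → (1 : p.ResidueField) ⊗ₜ[R] g ∈ r := by
  classical
  haveI : IsNoetherianRing (p.Fiber S) := isNoetherianRing_fiber p
  haveI : Module.Finite (p.Fiber S) (FlatCA.fiberMod p S N) :=
    inferInstanceAs (Module.Finite (p.Fiber S) ((p.Fiber S) ⊗[S] N))
  have hfin : (associatedPrimes (p.Fiber S) (FlatCA.fiberMod p S N)).Finite :=
    associatedPrimes.finite _ _
  -- for each relevant `r` an element `s_r`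
  have key : ∀ r : Ideal (p.Fiber S), ¬ r ≤ FlatCA.fiberIdeal p q →
      ∃ s : S, s ∉ q ∧ (1 : p.ResidueField) ⊗ₜ[R] s ∈ r := by
    intro r hr
    obtain ⟨x, hxr, hxq⟩ := SetLike.not_le_iff_exists.mp hr
    obtain ⟨a, ha, s, hs⟩ := Ideal.Fiber.exists_smul_eq_one_tmul p x
    refine ⟨s, fun hsq => hxq ?_, ?_⟩
    · apply mem_of_smul_mem p _ a ha
      rw [hs]
      exact Ideal.mem_map_of_mem _ hsq
    · rw [← hs, Algebra.smul_def]
      exact r.mul_mem_left _ hxr
  choose! s hs1 hs2 using key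
  let T : Finset (Ideal (p.Fiber S)) := hfin.toFinset.filter (fun r => ¬ r ≤ FlatCA.fiberIdeal p q)
  refine ⟨∏ r ∈ T, s r, ?_, ?_⟩
  · intro hmem
    obtain ⟨r, hrT, hr⟩ := (Ideal.IsPrime.prod_mem_iff (hp := inferInstance)).mp hmem
    exact hs1 r (Finset.mem_filter.mp hrT).2 hr
  · intro r hr hrq
    have hrT : r ∈ T := Finset.mem_filter.mpr ⟨hfin.mem_toFinset.mpr hr, hrq⟩
    have h1 : ((1 : p.ResidueField) ⊗ₜ[R] (∏ r ∈ T, s r) : p.Fiber S) =
        ∏ r ∈ T, ((1 : p.ResidueField) ⊗ₜ[R] s r : p.Fiber S) := by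
      exact map_prod (Algebra.TensorProduct.includeRight (R := R) (A := p.ResidueField) (B := S))
        s T
    rw [h1]
    exact Ideal.prod_mem r hrT (hs2 r hrq)

end Groth.Agent.Helper5.FibAss
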