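import Mathlib
import Groth.Prelude.Def_FlatCA

set_option autoImplicit false
universe u
open TensorProduct

namespace Groth.Agent.Helper5.Pure

attribute [local instance] Algebra.TensorProduct.rightAlgebra

section going

variable {A' B' : Type u} [CommRing A'] [CommRing B'] [Algebra A' B']

/-- going up along a prime with integral quotient -/
theorem exists_prime_ge_liesOver (P : Ideal B') [P.IsPrime]
    (hint : Algebra.IsIntegral A' (B' ⧸ P)) (t : Ideal A') [t.IsPrime]
    (h : P.comap (algebraMap A' B') ≤ t) :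
    ∃ P' : Ideal B', P ≤ P' ∧ P'.IsPrime ∧ P'.LiesOver t := by
  have h0 : (⊥ : Ideal (B' ⧸ P)).comap (algebraMap A' (B' ⧸ P)) ≤ t := by
    intro a ha
    apply h
    rw [Ideal.mem_comap] at ha ⊢
    rw [Ideal.mem_bot, IsScalarTower.algebraMap_apply A' B' (B' ⧸ P)] at ha
    exact Ideal.Quotient.eq_zero_iff_mem.mp ha
  haveI : (⊥ : Ideal (B' ⧸ P)).IsPrime := Ideal.isPrime_bot
  obtain ⟨Q, -, hQ, hQt⟩ := Ideal.exists_ideal_over_prime_of_isIntegral_of_isPrime t
    (⊥ : Ideal (B' ⧸ P)) h0
  refine ⟨Q.comap (Ideal.Quotient.mk P), ?_, inferInstance, ⟨?_⟩⟩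
  · intro x hx
    rw [Ideal.mem_comap, Ideal.Quotient.eq_zero_iff_mem.mpr hx]
    exact Q.zero_mem
  · rw [Ideal.under_def, Ideal.comap_comap, ← hQt]
    rfl

/-- for `P` over `t'`, the extension of `P` to the fibre ring contracts to `P` -/
theorem mem_of_tmul_mem_fiberIdeal (t' : Ideal A') [t'.IsPrime] (P : Ideal B') [P.IsPrime]
    [hP : P.LiesOver t'] (b : B') (hb : (1 : t'.ResidueField) ⊗ₜ[A'] b ∈ FlatCA.fiberIdeal t' P) :
    b ∈ P := by
  let ψ : t'.Fiber B' →ₐ[A'] P.ResidueField :=
    Algebra.TensorProduct.lift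
      (Ideal.ResidueField.mapₐ t' P (Algebra.ofId A' B') hP.over)
      (IsScalarTower.toAlgHom A' B' P.ResidueField) (fun _ _ => .all _ _)
  have hle : FlatCA.fiberIdeal t' P ≤ RingHom.ker ψ.toRingHom := by
    unfold FlatCA.fiberIdeal
    rw [Ideal.map_le_iff_le_comap]
    intro x hx
    rw [Ideal.mem_comap, RingHom.mem_ker]
    show ψ ((1 : t'.ResidueField) ⊗ₜ[A'] x) = 0
    simp only [ψ, Algebra.TensorProduct.lift_tmul, map_one, one_mul]
    exact (Ideal.algebraMap_residueField_eq_zero).mpr hx
  have h1 := hle hb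
  rw [RingHom.mem_ker] at h1
  have h2 : ψ ((1 : t'.ResidueField) ⊗ₜ[A'] b) = algebraMap B' P.ResidueField b := by
    simp only [ψ, Algebra.TensorProduct.lift_tmul, map_one, one_mul]
    rfl
  exact (Ideal.algebraMap_residueField_eq_zero).mp (h2 ▸ h1)

end going
section ann

variable {A' B' : Type u} [CommRing A'] [CommRing B'] [Algebra A' B']
  (N' : Type u) [AddCommGroup N'] [Module B' N'] [Module A' N'] [IsScalarTower A' B' N']

theorem tmul_smul_eq_zero' (t' : Ideal A') [t'.IsPrime] (b : B')
    (hb : ∀ n : N', b • n = 0) (m : (t'.Fiber B') ⊗[B'] N') :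
    ((1 : t'.ResidueField) ⊗ₜ[A'] b : t'.Fiber B') • m = 0 := by
  induction m using TensorProduct.induction_on with
  | zero => exact smul_zero _
  | add x y hx hy => rw [smul_add, hx, hy, add_zero]
  | tmul x n =>
    rw [TensorProduct.smul_tmul', smul_eq_mul]
    have h1 : ((1 : t'.ResidueField) ⊗ₜ[A'] b : t'.Fiber B') * x = b • x := by
      rw [Algebra.smul_def]; rfl
    rw [h1, TensorProduct.smul_tmul, hb, TensorProduct.tmul_zero]

/-- an element of `B'` killing `N'` lies in every associated prime of a fibre module. -/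
theorem tmul_mem_of_isAssociatedPrime (t' : Ideal A') [t'.IsPrime] (b : B')
    (hb : ∀ n : N', b • n = 0) (r : Ideal (t'.Fiber B'))
    (hr : r ∈ associatedPrimes (t'.Fiber B') (FlatCA.fiberMod t' B' N')) :
    (1 : t'.ResidueField) ⊗ₜ[A'] b ∈ r := by
  obtain ⟨hprime, m, hm⟩ := hr
  rw [hm]
  apply Ideal.le_radical
  rw [Submodule.mem_colon_singleton, Submodule.mem_bot]
  exact tmul_smul_eq_zero' N' t' b hb m

end ann

section bc

variable {A B : Type u} [CommRing A] [CommRing B] [Algebra A B]
  (N : Type u) [AddCommGroup N] [Module B N]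
  {A' B' N' : Type u} [CommRing A'] [CommRing B'] [Algebra A A'] [Algebra B B']
    [Algebra A' B'] [Algebra A B'] [IsScalarTower A B B'] [IsScalarTower A A' B']
    [AddCommGroup N'] [Module B' N'] [Module B N'] [IsScalarTower B B' N']

theorem smul_eq_zero_of_isBaseChange (f : N →ₗ[B] N') (hf : IsBaseChange B' f)
    (b : B) (hb : b ∈ Module.annihilator B N) (n' : N') : (algebraMap B B' b) • n' = 0 := by
  induction n' using hf.inductionOn with
  | zero => exact smul_zero _
  | tmul n =>
    rw [algebraMap_smul, ← map_smul, Module.mem_annihilator.mp hb n, map_zero]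
  | smul s n' h => rw [smul_comm, h, smul_zero]
  | add x y hx hy => rw [smul_add, hx, hy, add_zero]

/-- `B'/P` is integral over `A'` when `B/Ann N` is integral over `A` and the image of `Ann N` lies in `P`. -/
theorem isIntegral_quotient [Algebra.IsIntegral A (B ⧸ Module.annihilator B N)]
    (hpo : Algebra.IsPushout A B A' B') (P : Ideal B') [P.IsPrime]
    (hP : ∀ b ∈ Module.annihilator B N, algebraMap B B' b ∈ P) :
    Algebra.IsIntegral A' (B' ⧸ P) := by
  constructor
  intro y
  obtain ⟨x, rfl⟩ := Ideal.Quotient.mk_surjective y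
  induction x using hpo.out.inductionOn with
  | zero => rw [map_zero]; exact isIntegral_zero
  | tmul a' =>
    exact isIntegral_algebraMap (R := A') (A := B' ⧸ P) (x := a')
  | smul b x h =>
    rw [Algebra.smul_def, map_mul]
    refine IsIntegral.mul ?_ h
    -- the induced map `B ⧸ Ann N → B' ⧸ P`
    let φ : (B ⧸ Module.annihilator B N) →ₐ[A] (B' ⧸ P) :=
      Ideal.Quotient.liftₐ (Module.annihilator B N)
        ((Ideal.Quotient.mkₐ A P).comp (IsScalarTower.toAlgHom A B B'))
        (fun b hb => by
          show Ideal.Quotient.mk P (algebraMap B B' b) = 0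
          exact Ideal.Quotient.eq_zero_iff_mem.mpr (hP b hb))
    have h1 : IsIntegral A (Ideal.Quotient.mk (Module.annihilator B N) b) :=
      Algebra.IsIntegral.isIntegral _
    have h2 := h1.map φ
    have h3 : φ (Ideal.Quotient.mk (Module.annihilator B N) b) =
        Ideal.Quotient.mk P (algebraMap B B' b) := rfl
    rw [h3] at h2
    exact h2.tower_top
  | add x y hx hy => rw [map_add]; exact hx.add hy

end bc

/-- no impurity when the support is integral over the base. -/
theorem not_isImpurity_of_integral {A B : Type u} [CommRing A] [CommRing B] [Algebra A B]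
    (N : Type u) [AddCommGroup N] [Module B N]
    [Algebra.IsIntegral A (B ⧸ Module.annihilator B N)] (p : Ideal A) [p.IsPrime]
    (A' B' N' : Type u) [CommRing A'] [CommRing B'] [Algebra A A'] [Algebra B B']
    [Algebra A' B'] [Algebra A B'] [IsScalarTower A B B'] [IsScalarTower A A' B']
    [AddCommGroup N'] [Module B' N'] [Module B N'] [IsScalarTower B B' N'] [Module A' N']
    [IsScalarTower A' B' N'] (f : N →ₗ[B] N') (t' t : Ideal A') [t'.IsPrime] [t.IsPrime]
    (P : Ideal B') [P.IsPrime] : ¬ FlatCA.IsImpurity A B N p A' B' N' f t' t P := by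
  rintro ⟨hpo, hbc, hle, -, hPt', hass, hno⟩
  have hP : ∀ b ∈ Module.annihilator B N, algebraMap B B' b ∈ P := by
    intro b hb
    apply mem_of_tmul_mem_fiberIdeal t' P
    exact tmul_mem_of_isAssociatedPrime N' t' _ (smul_eq_zero_of_isBaseChange N f hbc b hb) _ hass
  have hint := isIntegral_quotient N hpo P hP
  have hcomap : P.comap (algebraMap A' B') ≤ t := by
    have := hPt'.over
    rw [Ideal.under_def] at this
    rw [← this]; exact hle
  obtain ⟨P', hPP', hP'prime, hP't⟩ := exists_prime_ge_liesOver P hint t hcomap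
  exact hno P' hPP' hP't

theorem s1224 {A B : Type u} [CommRing A] [CommRing B] [Algebra A B]
    (N : Type u) [AddCommGroup N] [Module B N]
    [Module.Finite A (B ⧸ Module.annihilator B N)] : FlatCA.IsUnivPure A B N := by
  intro p _ A' B' N' _ _ _ _ _ _ _ _ _ _ _ _ _ _ f t' t _ _ P _
  exact not_isImpurity_of_integral N p A' B' N' f t' t P

end Groth.Agent.Helper5.Pure
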