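import Mathlib
import Groth.Prelude.Def_FlatCA
import Groth.Agent.Helper5.FibAss1
import Groth.Agent.Helper5.Pure1

set_option autoImplicit false
universe u
open TensorProduct

namespace Groth.Agent.Helper5.FlatAss

attribute [local instance] Algebra.TensorProduct.rightAlgebra

variable {R S : Type u} [CommRing R] [CommRing S] [Algebra R S]

section fibprime

variable (p : Ideal R) [p.IsPrime] (q : Ideal S) [q.IsPrime] [hq : q.LiesOver p]

/-- the canonical map from the fibre ring to the residue field of a prime over `p`. -/
noncomputable def toResidue : p.Fiber S →ₐ[R] q.ResidueField :=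
  Algebra.TensorProduct.lift
    (Ideal.ResidueField.mapₐ p q (Algebra.ofId R S) hq.over)
    (IsScalarTower.toAlgHom R S q.ResidueField) (fun _ _ => .all _ _)

theorem toResidue_one_tmul (s : S) :
    toResidue p q ((1 : p.ResidueField) ⊗ₜ[R] s) = algebraMap S q.ResidueField s := by
  simp only [toResidue, Algebra.TensorProduct.lift_tmul, map_one, one_mul]
  rfl

theorem fiberIdeal_eq_ker : FlatCA.fiberIdeal p q = RingHom.ker (toResidue p q).toRingHom := by
  apply le_antisymm
  · unfold FlatCA.fiberIdeal
    rw [Ideal.map_le_iff_le_comap]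
    intro x hx
    rw [Ideal.mem_comap, RingHom.mem_ker]
    show toResidue p q ((1 : p.ResidueField) ⊗ₜ[R] x) = 0
    rw [toResidue_one_tmul]
    exact (Ideal.algebraMap_residueField_eq_zero).mpr hx
  · intro x hx
    rw [RingHom.mem_ker] at hx
    obtain ⟨r, hr, s, hs⟩ := Ideal.Fiber.exists_smul_eq_one_tmul p x
    apply FibAss.mem_of_smul_mem p _ r hr
    rw [hs]
    apply Ideal.mem_map_of_mem
    apply (Ideal.algebraMap_residueField_eq_zero).mp
    rw [← toResidue_one_tmul p q, ← hs]
    show toResidue p q (r • x) = 0
    rw [map_smul]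
    show r • (toResidue p q).toRingHom x = 0
    rw [hx, smul_zero]

instance isPrime_fiberIdeal : (FlatCA.fiberIdeal p q).IsPrime := by
  rw [fiberIdeal_eq_ker]
  exact RingHom.ker_isPrime _

end fibprime


section transfer

variable [IsNoetherianRing S] (p : Ideal R) [p.IsPrime] (N : Type u) [AddCommGroup N] [Module S N]
  [Module R N] [IsScalarTower R S N]

theorem tmul_smul_fiberMod (s : S) (η : FlatCA.fiberMod p S N) :
    ((1 : p.ResidueField) ⊗ₜ[R] s : p.Fiber S) • η = s • η := by
  change (p.Fiber S) ⊗[S] N at η
  show ((1 : p.ResidueField) ⊗ₜ[R] s : p.Fiber S) • η = s • η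
  induction η using TensorProduct.induction_on with
  | zero => rw [smul_zero, smul_zero]
  | add x y hx hy => rw [smul_add, smul_add, hx, hy]
  | tmul x n =>
    rw [TensorProduct.smul_tmul', TensorProduct.smul_tmul', smul_eq_mul, Algebra.smul_def]
    rfl

/-- an associated prime of the fibre module as an `S`-module, lying over `p`, gives an associated
prime of the fibre module over the fibre ring. -/
theorem fiberIdeal_mem_associatedPrimes (q : Ideal S) [q.IsPrime] [q.LiesOver p]
    (h : q ∈ associatedPrimes S (FlatCA.fiberMod p S N)) :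
    FlatCA.fiberIdeal p q ∈ associatedPrimes (p.Fiber S) (FlatCA.fiberMod p S N) := by
  obtain ⟨-, η, hη⟩ := (isAssociatedPrime_iff (I := q) (M := FlatCA.fiberMod p S N)).mp h
  refine ⟨isPrime_fiberIdeal p q, η, ?_⟩
  have hcol : (⊥ : Submodule (p.Fiber S) (FlatCA.fiberMod p S N)).colon {η} =
      FlatCA.fiberIdeal p q := by
    apply le_antisymm
    · intro x hx
      rw [Submodule.mem_colon_singleton, Submodule.mem_bot] at hx
      obtain ⟨r, hr, s, hs⟩ := Ideal.Fiber.exists_smul_eq_one_tmul p x
      apply FibAss.mem_of_smul_mem p _ r hr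
      rw [hs]
      apply Ideal.mem_map_of_mem
      rw [hη, Submodule.mem_colon_singleton, Submodule.mem_bot, ← tmul_smul_fiberMod, ← hs,
        Algebra.smul_def, mul_smul, hx, smul_zero]
    · unfold FlatCA.fiberIdeal
      rw [Ideal.map_le_iff_le_comap]
      intro s hs
      rw [hη, Submodule.mem_colon_singleton, Submodule.mem_bot] at hs
      rw [Ideal.mem_comap, Submodule.mem_colon_singleton, Submodule.mem_bot]
      show ((1 : p.ResidueField) ⊗ₜ[R] s : p.Fiber S) • η = 0
      rw [tmul_smul_fiberMod, hs]
  rw [hcol]
  exact (isPrime_fiberIdeal p q).radical.symm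

end transfer


section quot

variable (p : Ideal R) [p.IsPrime] (N : Type u) [AddCommGroup N] [Module S N]
  [Module R N] [IsScalarTower R S N]

/-- the fibre module is `N ⊗ κ(p)` as an `S`-module. -/
noncomputable def fiberModEquiv : FlatCA.fiberMod p S N ≃ₗ[S] N ⊗[R] p.ResidueField :=
  (TensorProduct.comm S (p.Fiber S) N) ≪≫ₗ
    (TensorProduct.AlgebraTensorModule.congr (LinearEquiv.refl S N)
      (Algebra.TensorProduct.commRight R S p.ResidueField).symm.toLinearEquiv) ≪≫ₗ
    (TensorProduct.AlgebraTensorModule.cancelBaseChange R S S N p.ResidueField)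

/-- the inclusion `R ⧸ p → κ(p)` -/
noncomputable def quotToResidue : (R ⧸ p) →ₗ[R] p.ResidueField :=
  (IsScalarTower.toAlgHom R (R ⧸ p) p.ResidueField).toLinearMap

theorem quotToResidue_injective : Function.Injective (quotToResidue p) := by
  intro a b hab
  exact IsFractionRing.injective (R ⧸ p) p.ResidueField hab

/-- associated primes of `N ⊗ R/p` are associated primes of the fibre module (as `S`-modules). -/
theorem mem_associatedPrimes_fiberMod [Module.Flat R N] (q : Ideal S)
    (h : q ∈ associatedPrimes S (N ⊗[R] (R ⧸ p))) :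
    q ∈ associatedPrimes S (FlatCA.fiberMod p S N) := by
  have hinj : Function.Injective
      (TensorProduct.AlgebraTensorModule.lTensor S N (quotToResidue p)) :=
    Module.Flat.lTensor_preserves_injective_linearMap (M := N) (quotToResidue p)
      (quotToResidue_injective p)
  have h1 : q ∈ associatedPrimes S (N ⊗[R] p.ResidueField) :=
    associatedPrimes.subset_of_injective hinj h
  rw [LinearEquiv.AssociatedPrimes.eq (fiberModEquiv p N)]
  exact h1

theorem under_eq_of_mem_associatedPrimes [Module.Flat R N] (q : Ideal S)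
    (h : q ∈ associatedPrimes S (N ⊗[R] (R ⧸ p))) : q.under R = p := by
  obtain ⟨hprime, ξ, hξ⟩ := h
  have hξ0 : ξ ≠ 0 := by
    rintro rfl
    apply hprime.ne_top
    rw [hξ, Ideal.radical_eq_top, Ideal.eq_top_iff_one, Submodule.mem_colon_singleton]
    simp
  have hsm : ∀ (a : R) (ζ : N ⊗[R] (R ⧸ p)), algebraMap R S a • ζ = a • ζ := fun a ζ =>
    algebraMap_smul S a ζ
  apply le_antisymm
  · intro a ha
    by_contra hap
    rw [Ideal.under_def, Ideal.mem_comap, hξ] at ha
    obtain ⟨k, hk⟩ := ha
    rw [Submodule.mem_colon_singleton, Submodule.mem_bot, ← map_pow, hsm] at hk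
    have hak : a ^ k ∉ p := fun h' => hap (Ideal.IsPrime.mem_of_pow_mem inferInstance k h')
    -- multiplication by `a ^ k` is injective on `R ⧸ p`, hence on `N ⊗ R ⧸ p`
    have hinj0 : Function.Injective (LinearMap.lsmul R (R ⧸ p) (a ^ k)) := by
      intro x y hxy
      simp only [LinearMap.lsmul_apply] at hxy
      rw [Algebra.smul_def, Algebra.smul_def] at hxy
      have hne : algebraMap R (R ⧸ p) (a ^ k) ≠ 0 := by
        rw [Ideal.Quotient.algebraMap_eq, Ne, Ideal.Quotient.eq_zero_iff_mem]
        exact hak
      exact mul_left_cancel₀ hne hxy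
    have hinj : Function.Injective ((LinearMap.lsmul R (R ⧸ p) (a ^ k)).lTensor N) :=
      Module.Flat.lTensor_preserves_injective_linearMap _ hinj0
    apply hξ0
    apply hinj
    rw [map_zero]
    have : ∀ ζ : N ⊗[R] (R ⧸ p), (LinearMap.lsmul R (R ⧸ p) (a ^ k)).lTensor N ζ = a ^ k • ζ := by
      intro ζ
      induction ζ using TensorProduct.induction_on with
      | zero => simp
      | add x y hx hy => rw [map_add, smul_add, hx, hy]
      | tmul n b => rw [LinearMap.lTensor_tmul, LinearMap.lsmul_apply, TensorProduct.tmul_smul]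
    rw [this, hk]
  · intro a ha
    rw [Ideal.under_def, Ideal.mem_comap, hξ]
    apply Ideal.le_radical
    rw [Submodule.mem_colon_singleton, Submodule.mem_bot, hsm]
    have : ∀ ζ : N ⊗[R] (R ⧸ p), a • ζ = 0 := by
      intro ζ
      induction ζ using TensorProduct.induction_on with
      | zero => simp
      | add x y hx hy => rw [smul_add, hx, hy, add_zero]
      | tmul n b =>
        rw [← TensorProduct.tmul_smul]
        have : a • b = 0 := by
          obtain ⟨b, rfl⟩ := Ideal.Quotient.mk_surjective b
          rw [Algebra.smul_def, Ideal.Quotient.algebraMap_eq, ← map_mul,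
            Ideal.Quotient.eq_zero_iff_mem]
          exact p.mul_mem_right _ ha
        rw [this, TensorProduct.tmul_zero]
    exact this ξ

end quot


section devissage

variable [IsNoetherianRing R] (N : Type u) [AddCommGroup N] [Module S N]
  [Module R N] [IsScalarTower R S N] [Module.Flat R N]

theorem exists_prime_of_mem_associatedPrimes_tensor (Q : Type u) [AddCommGroup Q] [Module R Q]
    (hQ : Module.Finite R Q) (q : Ideal S) (h : q ∈ associatedPrimes S (N ⊗[R] Q)) :
    ∃ p : PrimeSpectrum R, q ∈ associatedPrimes S (N ⊗[R] (R ⧸ p.asIdeal)) := by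
  induction hQ using IsNoetherianRing.induction_on_isQuotientEquivQuotientPrime R with
  | subsingleton Q =>
    rw [associatedPrimes.eq_empty_of_subsingleton] at h
    exact absurd h (Set.notMem_empty q)
  | quotient Q p f =>
    refine ⟨p, ?_⟩
    rw [← LinearEquiv.AssociatedPrimes.eq
      (TensorProduct.AlgebraTensorModule.congr (LinearEquiv.refl S N) f)]
    exact h
  | exact Q₁ Q₂ Q₃ f g hf hg hfg h₁ h₃ =>
    have hinj : Function.Injective (TensorProduct.AlgebraTensorModule.lTensor S N f) :=
      Module.Flat.lTensor_preserves_injective_linearMap (M := N) f hf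
    have hex : Function.Exact (TensorProduct.AlgebraTensorModule.lTensor S N f)
        (TensorProduct.AlgebraTensorModule.lTensor S N g) :=
      lTensor_exact N hfg hg
    rcases associatedPrimes.subset_union_of_exact hinj hex h with h' | h'
    · exact h₁ h'
    · exact h₃ h'

end devissage


section main

variable [IsNoetherianRing R] [IsNoetherianRing S] (N : Type u) [AddCommGroup N] [Module S N]
  [Module R N] [IsScalarTower R S N] [Module.Flat R N]

/-- **Matsumura 23.2 (⊆)**: for `N` flat over `R`, every associated prime `q` of `N ⊗ Q`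
(`Q` a finite `R`-module) gives an associated prime of a fibre module of `N`. -/
theorem exists_fiberIdeal_mem_associatedPrimes (Q : Type u) [AddCommGroup Q] [Module R Q]
    (hQ : Module.Finite R Q) (q : Ideal S) (h : q ∈ associatedPrimes S (N ⊗[R] Q)) :
    ∃ (p : Ideal R) (_ : p.IsPrime) (_ : q.IsPrime) (_ : q.LiesOver p),
      FlatCA.fiberIdeal p q ∈ associatedPrimes (p.Fiber S) (FlatCA.fiberMod p S N) := by
  obtain ⟨p, hp⟩ := exists_prime_of_mem_associatedPrimes_tensor N Q hQ q h
  haveI : q.IsPrime := h.1
  have hover : q.LiesOver p.asIdeal := ⟨(under_eq_of_mem_associatedPrimes p.asIdeal N q hp).symm⟩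
  exact ⟨p.asIdeal, p.2, h.1, hover,
    fiberIdeal_mem_associatedPrimes p.asIdeal N q (mem_associatedPrimes_fiberMod p.asIdeal N q hp)⟩

end main

end Groth.Agent.Helper5.FlatAss
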