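import Mathlib
import Groth.Prelude

set_option autoImplicit false
universe u

namespace Groth.Agent.Helper5.NzdLoc

open Submodule

section bridge

variable {S Sb : Type*} [CommRing S] [CommRing Sb] {F : Type*} [AddCommGroup F] [Module S F]
  [Module Sb F] (φ : S →+* Sb) (hφ : Function.Surjective φ)
  (hsm : ∀ (s : S) (η : F), φ s • η = s • η)

include hsm in
theorem colon_eq_comap (x : F) :
    (⊥ : Submodule S F).colon {x} = ((⊥ : Submodule Sb F).colon {x}).comap φ := by
  ext s
  rw [Ideal.mem_comap, Submodule.mem_colon_singleton, Submodule.mem_colon_singleton,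
    Submodule.mem_bot, Submodule.mem_bot, hsm]

include hφ hsm in
theorem mem_associatedPrimes_iff (q : Ideal S) :
    q ∈ associatedPrimes S F ↔ ∃ Q ∈ associatedPrimes Sb F, q = Q.comap φ := by
  constructor
  · rintro ⟨hq, x, hx⟩
    rw [colon_eq_comap φ hsm, ← Ideal.comap_radical] at hx
    set Q : Ideal Sb := ((⊥ : Submodule Sb F).colon {x}).radical with hQ
    have hker : RingHom.ker φ ≤ q := by
      rw [hx]
      exact Ideal.comap_mono bot_le
    have hQmap : Q = q.map φ := by
      rw [hx, Ideal.map_comap_of_surjective φ hφ]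
    have hQprime : Q.IsPrime := by
      rw [hQmap]
      exact Ideal.map_isPrime_of_surjective hφ hker
    exact ⟨Q, ⟨hQprime, x, rfl⟩, hx⟩
  · rintro ⟨Q, ⟨hQ, x, hx⟩, rfl⟩
    refine ⟨Ideal.IsPrime.comap φ, x, ?_⟩
    rw [colon_eq_comap φ hsm, ← Ideal.comap_radical, ← hx]

include hφ hsm in
theorem associatedPrimes_eq_image :
    associatedPrimes S F = (Ideal.comap φ) '' (associatedPrimes Sb F) := by
  ext q
  rw [mem_associatedPrimes_iff φ hφ hsm, Set.mem_image]
  constructor
  · rintro ⟨Q, hQ, rfl⟩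
    exact ⟨Q, hQ, rfl⟩
  · rintro ⟨Q, hQ, rfl⟩
    exact ⟨Q, hQ, rfl⟩

include hφ hsm in
theorem finite_associatedPrimes [IsNoetherianRing Sb] [Module.Finite Sb F] :
    (associatedPrimes S F).Finite := by
  rw [associatedPrimes_eq_image φ hφ hsm]
  exact (associatedPrimes.finite Sb F).image _

include hφ hsm in
theorem not_mem_nonZeroSMulDivisors_iff [IsNoetherianRing Sb] (s : S) :
    s ∉ nonZeroSMulDivisors S F ↔ ∃ q ∈ associatedPrimes S F, s ∈ q := by
  have hzd := biUnion_associatedPrimes_eq_zero_divisors Sb F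
  have h1 : s ∉ nonZeroSMulDivisors S F ↔ φ s ∈ {r : Sb | ∃ x : F, x ≠ 0 ∧ r • x = 0} := by
    rw [mem_nonZeroSMulDivisors_iff]
    simp only [Set.mem_setOf_eq, hsm]
    push_neg
    constructor
    · rintro ⟨x, h1, h2⟩; exact ⟨x, h2, h1⟩
    · rintro ⟨x, h1, h2⟩; exact ⟨x, h2, h1⟩
  rw [h1, ← hzd]
  simp only [Set.mem_iUnion, SetLike.mem_coe, exists_prop]
  constructor
  · rintro ⟨Q, hQ, hs⟩
    exact ⟨Q.comap φ, (mem_associatedPrimes_iff φ hφ hsm _).mpr ⟨Q, hQ, rfl⟩, hs⟩
  · rintro ⟨q, hq, hs⟩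
    obtain ⟨Q, hQ, rfl⟩ := (mem_associatedPrimes_iff φ hφ hsm _).mp hq
    exact ⟨Q, hQ, hs⟩

include hφ hsm in
theorem disjoint_iff [IsNoetherianRing Sb] [Module.Finite Sb F] (q : Ideal S) [q.IsPrime] :
    Disjoint (q : Set S) (nonZeroSMulDivisors S F : Set S) ↔
      ∃ q' ∈ associatedPrimes S F, q ≤ q' := by
  classical
  have hfin := finite_associatedPrimes (F := F) φ hφ hsm
  have h1 : Disjoint (q : Set S) (nonZeroSMulDivisors S F : Set S) ↔
      (q : Set S) ⊆ ⋃ i ∈ (↑hfin.toFinset : Set (Ideal S)), ((fun i => i) i : Ideal S) := by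
    rw [Set.disjoint_left]
    constructor
    · intro h s hs
      have := h hs
      rw [SetLike.mem_coe, not_mem_nonZeroSMulDivisors_iff φ hφ hsm] at this
      obtain ⟨q', hq', hs'⟩ := this
      simp only [Set.mem_iUnion, SetLike.mem_coe, exists_prop, Set.Finite.coe_toFinset]
      exact ⟨q', hq', hs'⟩
    · intro h s hs
      have := h hs
      simp only [Set.mem_iUnion, SetLike.mem_coe, exists_prop, Set.Finite.coe_toFinset] at this
      obtain ⟨q', hq', hs'⟩ := this
      rw [SetLike.mem_coe, not_mem_nonZeroSMulDivisors_iff φ hφ hsm]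
      exact ⟨q', hq', hs'⟩
  rw [h1, Ideal.subset_union_prime (⊥ : Ideal S) ⊥]
  · simp only [Set.Finite.mem_toFinset]
  · intro i hi _ _
    rw [Set.Finite.mem_toFinset] at hi
    exact hi.1

end bridge

section loc

variable {S : Type*} [CommRing S] (M : Submonoid S) (L : Type*) [CommRing L] [Algebra S L]
  [IsLocalization M L] (𝒜 : Set (Ideal S)) (hfin : 𝒜.Finite)
  (hprime : ∀ q ∈ 𝒜, q.IsPrime)
  (hdisj : ∀ (q : Ideal S) [q.IsPrime], Disjoint (q : Set S) (M : Set S) ↔ ∃ q' ∈ 𝒜, q ≤ q')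

include hfin hprime hdisj in
theorem isMaximal_iff (Q : Ideal L) :
    Q.IsMaximal ↔ Q.IsPrime ∧ Maximal (fun r => r ∈ 𝒜) (Q.comap (algebraMap S L)) := by
  have hd𝒜 : ∀ q ∈ 𝒜, Disjoint (M : Set S) (q : Set S) := by
    intro q hq
    haveI := hprime q hq
    exact ((hdisj q).mpr ⟨q, hq, le_rfl⟩).symm
  -- forward direction as a standalone fact
  have fwd : ∀ Q : Ideal L, Q.IsMaximal → Maximal (fun r => r ∈ 𝒜) (Q.comap (algebraMap S L)) := by
    intro Q hQ
    have hQp : Q.IsPrime := hQ.isPrime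
    obtain ⟨hqp, hqd⟩ := (IsLocalization.isPrime_iff_isPrime_disjoint M L Q).mp hQp
    set q := Q.comap (algebraMap S L) with hq
    haveI := hqp
    obtain ⟨q', hq', hle⟩ := (hdisj q).mp hqd.symm
    -- choose a maximal element of 𝒜 above q'
    obtain ⟨q'', hle', hmax⟩ := hfin.exists_le_maximal hq'
    have hq''p : q''.IsPrime := hprime q'' hmax.prop
    have hne : Ideal.map (algebraMap S L) q'' ≠ ⊤ :=
      (IsLocalization.isPrime_of_isPrime_disjoint M L q'' hq''p (hd𝒜 q'' hmax.prop)).ne_top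
    have hQle : Q ≤ Ideal.map (algebraMap S L) q'' := by
      rw [← IsLocalization.map_under M L Q]
      exact Ideal.map_mono (hle.trans hle')
    have hQeq : Q = Ideal.map (algebraMap S L) q'' := hQ.eq_of_le hne hQle
    have : q = q'' := by
      rw [hq, hQeq]
      exact IsLocalization.under_map_of_isPrime_disjoint M L hq''p (hd𝒜 q'' hmax.prop)
    rw [this]
    exact hmax
  constructor
  · intro hQ
    exact ⟨hQ.isPrime, fwd Q hQ⟩
  · rintro ⟨hQp, hmax⟩
    obtain ⟨Q', hQ'max, hQQ'⟩ := Ideal.exists_le_maximal Q hQp.ne_top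
    have h1 := fwd Q' hQ'max
    have hle : Q.comap (algebraMap S L) ≤ Q'.comap (algebraMap S L) := Ideal.comap_mono hQQ'
    have hge := hmax.le_of_ge h1.prop hle
    have : Q = Q' := by
      rw [← IsLocalization.map_under M L Q, ← IsLocalization.map_under M L Q']
      show Ideal.map (algebraMap S L) (Q.comap (algebraMap S L)) =
        Ideal.map (algebraMap S L) (Q'.comap (algebraMap S L))
      rw [le_antisymm hle hge]
    rw [this]
    exact hQ'max

include hfin hprime hdisj in
theorem finite_maximal : {Q : Ideal L | Q.IsMaximal}.Finite := by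
  apply (hfin.image (Ideal.map (algebraMap S L))).subset
  intro Q hQ
  have := ((isMaximal_iff M L 𝒜 hfin hprime hdisj Q).mp hQ).2
  exact ⟨Q.comap (algebraMap S L), this.prop, IsLocalization.map_under M L Q⟩

end loc

end Groth.Agent.Helper5.NzdLoc
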