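import Mathlib
import Groth.Prelude
import Groth.Agent.Helper5.NzdLoc1

set_option autoImplicit false
universe u

namespace Groth.Agent.Helper5.NzdLoc

open IsLocalRing TensorProduct

attribute [local instance] Algebra.TensorProduct.rightAlgebra in
theorem tmul_smul_fiberMod {R S : Type u} [CommRing R] [CommRing S] [Algebra R S]
    (p : Ideal R) [p.IsPrime] (N : Type u) [AddCommGroup N] [Module S N]
    [Module R N] [IsScalarTower R S N] (s : S) (η : FlatCA.fiberMod p S N) :
    ((1 : p.ResidueField) ⊗ₜ[R] s : p.Fiber S) • η = s • η := by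
  change (p.Fiber S) ⊗[S] N at η
  show ((1 : p.ResidueField) ⊗ₜ[R] s : p.Fiber S) • η = s • η
  induction η using TensorProduct.induction_on with
  | zero => rw [smul_zero, smul_zero]
  | add x y hx hy => rw [smul_add, smul_add, hx, hy]
  | tmul x n =>
    rw [TensorProduct.smul_tmul', TensorProduct.smul_tmul', smul_eq_mul, Algebra.smul_def]
    rfl

theorem s1193 {R S : Type u} [CommRing R] [IsLocalRing R] [CommRing S] [Algebra R S]
    (N : Type u) [AddCommGroup N] [Module S N] [Module R N] [IsScalarTower R S N]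
    [IsNoetherianRing ((maximalIdeal R).Fiber S)]
    [Module.Finite ((maximalIdeal R).Fiber S) (FlatCA.fiberMod (maximalIdeal R) S N)] :
    (∀ (q : Ideal S) [q.IsPrime], Disjoint (q : Set S) (FlatCA.nzdFiber R S N) ↔
        ∃ q' ∈ associatedPrimes S (FlatCA.fiberMod (maximalIdeal R) S N), q ≤ q') ∧
    {Q : Ideal (Localization (FlatCA.nzdFiber R S N)) | Q.IsMaximal}.Finite ∧
    (∀ Q : Ideal (Localization (FlatCA.nzdFiber R S N)), Q.IsMaximal ↔ (Q.IsPrime ∧
        Maximal (fun r => r ∈ associatedPrimes S (FlatCA.fiberMod (maximalIdeal R) S N))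
          (Q.comap (algebraMap S (Localization (FlatCA.nzdFiber R S N)))))) := by
  set φ : S →+* (maximalIdeal R).Fiber S :=
    (Algebra.TensorProduct.includeRight (R := R) (A := (maximalIdeal R).ResidueField)
      (B := S)).toRingHom with hφdef
  have hφ : Function.Surjective φ :=
    Algebra.TensorProduct.includeRight_surjective S
      (Ideal.algebraMap_residueField_surjective (maximalIdeal R))
  have hsm : ∀ (s : S) (η : FlatCA.fiberMod (maximalIdeal R) S N), φ s • η = s • η := by
    intro s η
    exact tmul_smul_fiberMod (maximalIdeal R) N s η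
  have hd : ∀ (q : Ideal S) [q.IsPrime], Disjoint (q : Set S) (FlatCA.nzdFiber R S N) ↔
        ∃ q' ∈ associatedPrimes S (FlatCA.fiberMod (maximalIdeal R) S N), q ≤ q' := by
    intro q _
    exact disjoint_iff φ hφ hsm q
  have hfin := finite_associatedPrimes (F := FlatCA.fiberMod (maximalIdeal R) S N) φ hφ hsm
  have hprime : ∀ q ∈ associatedPrimes S (FlatCA.fiberMod (maximalIdeal R) S N), q.IsPrime :=
    fun q hq => hq.1
  refine ⟨hd, ?_, ?_⟩
  · exact finite_maximal (FlatCA.nzdFiber R S N) _ _ hfin hprime hd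
  · intro Q
    exact isMaximal_iff (FlatCA.nzdFiber R S N) _ _ hfin hprime hd Q

end Groth.Agent.Helper5.NzdLoc
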