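import Mathlib
import Groth.Prelude
import Groth.Agent.Helper2.FibCritSch
import Groth.Agent.Helper5.FibStalk

set_option autoImplicit false
set_option linter.unusedSectionVars false
set_option linter.style.haveILetI false
universe u

open AlgebraicGeometry CategoryTheory CategoryTheory.Limits

namespace Groth.Agent.Helper5.FibFlat

/-- flatness of a quotient module over a quotient ring from a flat map of quotients -/
theorem flat_quot_of_square {B C B' C' : Type u} [CommRing B] [CommRing C] [CommRing B']
    [CommRing C'] [Algebra B C] (I : Ideal B)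
    (πB : B →+* B') (hπB : Function.Surjective πB) (hkB : RingHom.ker πB = I)
    (πC : C →+* C') (hπC : Function.Surjective πC)
    (hkC : RingHom.ker πC = I.map (algebraMap B C))
    (φ' : B' →+* C') (hsq : φ'.comp πB = πC.comp (algebraMap B C)) (hflat : φ'.Flat) :
    Module.Flat (B ⧸ I) (C ⧸ I • (⊤ : Submodule B C)) := by
  subst hkB
  let eB : B ⧸ RingHom.ker πB ≃+* B' := RingHom.quotientKerEquivOfSurjective hπB
  let ψ : B ⧸ RingHom.ker πB →+* C' := φ'.comp eB.toRingHom
  have hψ : ψ.Flat := RingHom.Flat.comp (RingHom.Flat.of_bijective eB.bijective) hflat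
  letI algQ : Algebra (B ⧸ RingHom.ker πB) C' := ψ.toAlgebra
  have hfl : Module.Flat (B ⧸ RingHom.ker πB) C' := hψ
  letI algB : Algebra B C' := (πC.comp (algebraMap B C)).toAlgebra
  haveI : IsScalarTower B (B ⧸ RingHom.ker πB) C' := by
    refine IsScalarTower.of_algebraMap_eq (fun b => ?_)
    show πC (algebraMap B C b) = φ' (eB (Ideal.Quotient.mk _ b))
    have : eB (Ideal.Quotient.mk _ b) = πB b := RingHom.quotientKerEquivOfSurjective_apply_mk hπB b
    rw [this]
    exact (congrArg (fun h => h b) hsq).symm
  let l : C →ₗ[B] C' :=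
    { toFun := πC
      map_add' := map_add πC
      map_smul' := fun b c => by
        simp only [RingHom.id_apply, Algebra.smul_def, map_mul]
        rfl }
  have hl : Function.Surjective l := hπC
  have hker : LinearMap.ker l = (RingHom.ker πB) • (⊤ : Submodule B C) := by
    rw [Ideal.smul_top_eq_map, ← hkC]
    ext c
    simp [l, RingHom.mem_ker]
  let e1 : (C ⧸ (RingHom.ker πB) • (⊤ : Submodule B C)) ≃ₗ[B] C' :=
    (Submodule.quotEquivOfEq _ _ hker.symm).trans (l.quotKerEquivOfSurjective hl)
  let e2 : (C ⧸ (RingHom.ker πB) • (⊤ : Submodule B C)) ≃ₗ[B ⧸ RingHom.ker πB] C' :=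
    e1.extendScalarsOfSurjective Ideal.Quotient.mk_surjective
  exact Module.Flat.of_linearEquiv e2

end Groth.Agent.Helper5.FibFlat
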