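import Mathlib
import Groth.Prelude
import Groth.Agent.Helper5.FibFlat1

set_option autoImplicit false
set_option linter.unusedSectionVars false
set_option linter.style.haveILetI false
universe u

open AlgebraicGeometry CategoryTheory CategoryTheory.Limits

namespace Groth.Agent.Helper5.FibFlat

/-- the fibre ideal is natural in the point -/
theorem comap_stalkCongr_map {Y S : Scheme.{u}} (g : Y ⟶ S) (y₁ y₂ : Y) (hy : y₁ = y₂) :
    Ideal.comap (Y.presheaf.stalkCongr (.of_eq hy)).hom.hom
      (Ideal.map (g.stalkMap y₂).hom (IsLocalRing.maximalIdeal (S.presheaf.stalk (g y₂)))) =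
    Ideal.map (g.stalkMap y₁).hom (IsLocalRing.maximalIdeal (S.presheaf.stalk (g y₁))) := by
  subst hy
  have h : (Y.presheaf.stalkCongr (Inseparable.of_eq (rfl : y₁ = y₁))).hom = 𝟙 _ := by
    simp [TopCat.Presheaf.stalkCongr]
  rw [h]
  rfl

/-- the stalk of `X ×_Y Y_s` at `p` is the quotient of the stalk of `X` by the fibre ideal -/
theorem fst_stalkMap {X Y S : Scheme.{u}} (f : X ⟶ Y) (g : Y ⟶ S) (s : S)
    (p : ↥(pullback f (g.fiberι s))) :
    Function.Surjective ((pullback.fst f (g.fiberι s)).stalkMap p).hom ∧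
    RingHom.ker ((pullback.fst f (g.fiberι s)).stalkMap p).hom =
      Ideal.map ((f ≫ g).stalkMap (pullback.fst f (g.fiberι s) p)).hom
        (IsLocalRing.maximalIdeal (S.presheaf.stalk ((f ≫ g) (pullback.fst f (g.fiberι s) p)))) := by
  refine ⟨(pullback.fst f (g.fiberι s)).stalkMap_surjective p, ?_⟩
  let ι₀ := S.fromSpecResidueField s
  let e : pullback f (g.fiberι s) ≅ (f ≫ g).fiber s := pullbackRightPullbackFstIso g ι₀ f
  have he : e.hom ≫ (f ≫ g).fiberι s = pullback.fst f (g.fiberι s) :=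
    pullbackRightPullbackFstIso_hom_fst g ι₀ f
  have h1 := Scheme.Hom.stalkMap_congr_hom _ _ he.symm p
  rw [Scheme.Hom.stalkMap_comp] at h1
  have hk := (Groth.Agent.Helper5.FibStalk.s9501 (f ≫ g) s (e.hom p)).2
  have hpt : pullback.fst f (g.fiberι s) p = ((f ≫ g).fiberι s) (e.hom p) := by
    rw [← Scheme.Hom.comp_apply, he]
  rw [← comap_stalkCongr_map (f ≫ g) _ _ hpt, ← hk]
  ext a
  simp only [RingHom.mem_ker, Ideal.mem_comap]
  rw [h1]
  have hinj : Function.Injective (e.hom.stalkMap p).hom :=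
    ((ConcreteCategory.isIso_iff_bijective (e.hom.stalkMap p)).1 inferInstance).1
  change (e.hom.stalkMap p).hom ((((f ≫ g).fiberι s).stalkMap (e.hom p)).hom
    ((X.presheaf.stalkCongr _).hom.hom a)) = 0 ↔ _
  constructor
  · intro h
    apply hinj
    rw [map_zero]
    exact h
  · intro h
    rw [h, map_zero]

end Groth.Agent.Helper5.FibFlat
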