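import Mathlib
import Groth.Prelude
import Groth.Agent.Helper5.FibFlat2

set_option autoImplicit false
set_option linter.unusedSectionVars false
set_option linter.style.haveILetI false
universe u

open AlgebraicGeometry CategoryTheory CategoryTheory.Limits IsLocalRing

namespace Groth.Agent.Helper5.FibFlat

theorem flat_of_fibre_flat_core {X Y S P Y' : Scheme.{u}} (f : X ⟶ Y) (g : Y ⟶ S)
    (π₁ : P ⟶ X) (π₂ : P ⟶ Y') (ι : Y' ⟶ Y) (hcond : π₁ ≫ f = π₂ ≫ ι) (p : P)
    (h₁ : Function.Surjective (ι.stalkMap (π₂ p)).hom)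
    (h₂ : RingHom.ker (ι.stalkMap (π₂ p)).hom =
      Ideal.map (g.stalkMap (ι (π₂ p))).hom (maximalIdeal (S.presheaf.stalk (g (ι (π₂ p))))))
    (h₃ : Function.Surjective (π₁.stalkMap p).hom)
    (h₄ : RingHom.ker (π₁.stalkMap p).hom =
      Ideal.map ((f ≫ g).stalkMap (π₁ p)).hom
        (maximalIdeal (S.presheaf.stalk ((f ≫ g) (π₁ p)))))
    [LocallyOfFinitePresentation (f ≫ g)] [LocallyOfFiniteType g] [Flat (f ≫ g)]
    (hp : (π₂.stalkMap p).hom.Flat) :
    (g.stalkMap (f (π₁ p))).hom.Flat ∧ (f.stalkMap (π₁ p)).hom.Flat := by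
  have hy : f (π₁ p) = ι (π₂ p) := by
    rw [← Scheme.Hom.comp_apply, ← Scheme.Hom.comp_apply, hcond]
  haveI : LocallyOfFinitePresentation f :=
    Groth.Agent.Helper2.LfpComp.locallyOfFinitePresentation_of_comp f g inferInstance inferInstance
  let R := S.presheaf.stalk (g (f (π₁ p)))
  let B := Y.presheaf.stalk (f (π₁ p))
  let C := X.presheaf.stalk (π₁ p)
  letI algRB : Algebra R B := (g.stalkMap (f (π₁ p))).hom.toAlgebra
  letI algBC : Algebra B C := (f.stalkMap (π₁ p)).hom.toAlgebra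
  letI algRC : Algebra R C :=
    ((f.stalkMap (π₁ p)).hom.comp (g.stalkMap (f (π₁ p))).hom).toAlgebra
  haveI : IsScalarTower R B C := IsScalarTower.of_algebraMap_eq (fun _ => rfl)
  haveI : IsLocalHom (algebraMap R B) :=
    inferInstanceAs (IsLocalHom (g.stalkMap (f (π₁ p))).hom)
  haveI : IsLocalHom (algebraMap B C) := inferInstanceAs (IsLocalHom (f.stalkMap (π₁ p)).hom)
  have hess := Groth.Agent.Helper2.StalkEssFP.essFP_stalk f (π₁ p)
  haveI : Module.Flat R C := by
    have h := Flat.stalkMap (f ≫ g) (π₁ p)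
    rw [Scheme.Hom.stalkMap_comp] at h
    exact h
  let I : Ideal B := (maximalIdeal R).map (algebraMap R B)
  have hfib : Module.Flat (B ⧸ I) (C ⧸ I • (⊤ : Submodule B C)) := by
    let θ := Y.presheaf.stalkCongr (.of_eq hy)
    have hθbij : Function.Bijective θ.hom.hom :=
      (ConcreteCategory.isIso_iff_bijective θ.hom).1 inferInstance
    refine flat_quot_of_square I ((ι.stalkMap (π₂ p)).hom.comp θ.hom.hom) ?_ ?_
      (π₁.stalkMap p).hom h₃ ?_ (π₂.stalkMap p).hom ?_ hp
    · exact h₁.comp hθbij.2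
    · rw [← RingHom.comap_ker, h₂]
      exact comap_stalkCongr_map g _ _ hy
    · rw [h₄, Scheme.Hom.stalkMap_comp]
      show Ideal.map ((f.stalkMap (π₁ p)).hom.comp (g.stalkMap (f (π₁ p))).hom) _ = _
      rw [← Ideal.map_map]
      rfl
    · have h1 := Scheme.Hom.stalkMap_congr_hom _ _ hcond p
      rw [Scheme.Hom.stalkMap_comp, Scheme.Hom.stalkMap_comp] at h1
      ext b
      have h2 := congrArg (fun k => k.hom b) h1
      exact h2.symm
  exact Groth.Agent.Helper2.FibCritFP.fibre_criterion (R := R) (S := B) (S' := C) (M := C) hess hfib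

/-- **Fibrewise criterion of flatness** for schemes: `X → Y → S` with `X` flat and locally of
finite presentation over `S`, `Y` locally of finite type over `S`; if the fibre map
`X ×_Y Y_s → Y_s` is flat at a point `p`, then `f` is flat at the image `x` of `p` and `g` is flat at
`f x`. -/
theorem flat_of_fibre_flat {X Y S : Scheme.{u}} (f : X ⟶ Y) (g : Y ⟶ S)
    [LocallyOfFinitePresentation (f ≫ g)] [LocallyOfFiniteType g] [Flat (f ≫ g)]
    (s : S) (p : ↥(pullback f (g.fiberι s)))
    (hp : ((pullback.snd f (g.fiberι s)).stalkMap p).hom.Flat) :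
    (g.stalkMap (f (pullback.fst f (g.fiberι s) p))).hom.Flat ∧
    (f.stalkMap (pullback.fst f (g.fiberι s) p)).hom.Flat := by
  have h9 := Groth.Agent.Helper5.FibStalk.s9501 g s (pullback.snd f (g.fiberι s) p)
  have h8 := fst_stalkMap f g s p
  exact flat_of_fibre_flat_core f g _ _ _ pullback.condition p h9.1 h9.2 h8.1 h8.2 hp

end Groth.Agent.Helper5.FibFlat
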