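import Mathlib
import Groth.Prelude

set_option autoImplicit false
set_option linter.unusedSectionVars false
set_option linter.style.haveILetI false
universe u

open TensorProduct

namespace Groth.Agent.Helper5.UnrFib

/-- a finite type algebra all of whose fibres are formally unramified is formally unramified -/
theorem formallyUnramified_of_fiber {R S : Type u} [CommRing R] [CommRing S] [Algebra R S]
    [Algebra.FiniteType R S]
    (h : ∀ (p : Ideal R) [p.IsPrime], Algebra.FormallyUnramified p.ResidueField (p.Fiber S)) :
    Algebra.FormallyUnramified R S := by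
  constructor
  have hfin : Module.Finite S Ω[S⁄R] := inferInstance
  rw [← Module.support_eq_empty_iff (R := S), Set.eq_empty_iff_forall_notMem]
  intro q hq
  rw [Module.mem_support_iff_nontrivial_residueField_tensorProduct] at hq
  let p : Ideal R := q.asIdeal.under R
  haveI : p.IsPrime := inferInstance
  let F := p.Fiber S
  haveI : Algebra.FormallyUnramified p.ResidueField F := h p
  letI : Algebra S F := Algebra.TensorProduct.rightAlgebra
  let e : F ⊗[S] Ω[S⁄R] ≃ₗ[F] Ω[F⁄p.ResidueField] :=
    KaehlerDifferential.tensorKaehlerEquiv R p.ResidueField S F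
  have h0 : Subsingleton (F ⊗[S] Ω[S⁄R]) := e.toEquiv.subsingleton
  let K := q.asIdeal.ResidueField
  let ψ₀ : p.ResidueField →+* K := Ideal.ResidueField.lift p (algebraMap R K)
    (by
      intro r hr
      rw [RingHom.mem_ker, IsScalarTower.algebraMap_apply R S K,
        Ideal.algebraMap_residueField_eq_zero]
      exact hr)
    (by
      intro r hr
      show IsUnit (algebraMap R K r)
      rw [isUnit_iff_ne_zero, IsScalarTower.algebraMap_apply R S K, Ne,
        Ideal.algebraMap_residueField_eq_zero]
      exact hr)
  let ψ : p.ResidueField →ₐ[R] K :=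
    { ψ₀ with commutes' := fun r => Ideal.ResidueField.lift_algebraMap _ _ _ _ r }
  let φ : F →ₐ[R] K := Algebra.TensorProduct.lift ψ
    (IsScalarTower.toAlgHom R S K) (fun _ _ => Commute.all _ _)
  letI : Algebra F K := φ.toRingHom.toAlgebra
  haveI : IsScalarTower S F K := by
    refine IsScalarTower.of_algebraMap_eq (fun s => ?_)
    show algebraMap S K s = φ (1 ⊗ₜ s)
    rw [Algebra.TensorProduct.lift_tmul, map_one, one_mul]
    rfl
  let e2 : K ⊗[F] (F ⊗[S] Ω[S⁄R]) ≃ₗ[K] K ⊗[S] Ω[S⁄R] :=
    AlgebraTensorModule.cancelBaseChange S F K K Ω[S⁄R]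
  have : Subsingleton (K ⊗[S] Ω[S⁄R]) := e2.symm.toEquiv.subsingleton
  exact not_subsingleton _ this

end Groth.Agent.Helper5.UnrFib
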