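import Mathlib
import Groth.Prelude
import Groth.Agent.Helper5.UnrFib1

set_option autoImplicit false
set_option linter.unusedSectionVars false
set_option linter.style.haveILetI false
universe u

open AlgebraicGeometry CategoryTheory CategoryTheory.Limits

namespace Groth.Agent.Helper5.UnrFib

set_option backward.isDefEq.respectTransparency false in
/-- a morphism locally of finite type with formally unramified fibres is formally unramified -/
theorem formallyUnramified_of_fiberToSpecResidueField {X Y : Scheme.{u}} (f : X ⟶ Y)
    [LocallyOfFiniteType f]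
    (h : ∀ y, FormallyUnramified (f.fiberToSpecResidueField y)) : FormallyUnramified f := by
  wlog hY : ∃ R, Y = Spec R
  · rw [IsZariskiLocalAtTarget.iff_of_openCover (P := @FormallyUnramified) Y.affineCover]
    intro i
    dsimp [Scheme.Cover.pullbackHom]
    refine this _ (fun y ↦ ?_) ⟨_, rfl⟩
    apply MorphismProperty.of_isPullback
    · exact isPullback_fiberToSpecResidueField_of_isPullback (IsPullback.of_hasPullback _ _) _
    · exact h _
  obtain ⟨R, rfl⟩ := hY
  wlog hX : ∃ S, X = Spec S generalizing f X
  · rw [IsZariskiLocalAtSource.iff_of_openCover (P := @FormallyUnramified) X.affineCover]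
    intro i
    have _ (y) : FormallyUnramified (pullback.snd f ((Spec R).fromSpecResidueField y)) := h y
    refine this _ (fun y ↦ ?_) ⟨_, rfl⟩
    rw [Scheme.Hom.fiberToSpecResidueField, ← pullbackRightPullbackFstIso_inv_snd_snd]
    exact MorphismProperty.comp_mem _ _ _ inferInstance
      (MorphismProperty.comp_mem _ _ _ inferInstance inferInstance)
  obtain ⟨S, rfl⟩ := hX
  obtain ⟨φ, rfl⟩ := Spec.map_surjective f
  simp only [HasRingHomProperty.Spec_iff] at *
  algebraize [φ.hom]
  show Algebra.FormallyUnramified R S
  haveI : Algebra.FiniteType R S := ‹_›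
  refine formallyUnramified_of_fiber (fun p hp ↦ ?_)
  rw [← RingHom.formallyUnramified_algebraMap,
    ← CommRingCat.hom_ofHom (algebraMap p.ResidueField (p.Fiber ↑S)),
    ← HasRingHomProperty.Spec_iff (P := @FormallyUnramified),
    ← MorphismProperty.arrow_mk_iso_iff (P := @FormallyUnramified)
    (Spec.fiberToSpecResidueFieldIso R S ⟨p, hp⟩)]
  exact h ⟨p, hp⟩

end Groth.Agent.Helper5.UnrFib
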