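import Mathlib
import Groth.Prelude
import Groth.Agent.Helper5.FibFlat3
import Groth.Agent.Helper5.UnrFib2

set_option autoImplicit false
set_option linter.unusedSectionVars false
set_option linter.style.haveILetI false
universe u

open AlgebraicGeometry CategoryTheory CategoryTheory.Limits

namespace Groth.Agent.Helper5.FibFlat

/-- the fibre of `f` over `y` is a base change of the fibre map `X ×_Y Y_s → Y_s`, `s = g y` -/
theorem of_fibreMap (P : MorphismProperty Scheme.{u}) [P.IsStableUnderBaseChange]
    {X Y S : Scheme.{u}} (f : X ⟶ Y) (g : Y ⟶ S) (y : Y)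
    (h : P (pullback.snd f (g.fiberι (g y)))) : P (f.fiberToSpecResidueField y) := by
  let t : Spec (Y.residueField y) ⟶ g.fiber (g y) :=
    pullback.lift (Y.fromSpecResidueField y) (Spec.map (g.residueFieldMap y))
      (Scheme.Hom.SpecMap_residueFieldMap_fromSpecResidueField g y).symm
  have ht : t ≫ g.fiberι (g y) = Y.fromSpecResidueField y := pullback.lift_fst _ _ _
  let l : pullback f (Y.fromSpecResidueField y) ⟶ pullback f (g.fiberι (g y)) :=
    pullback.lift (pullback.fst f (Y.fromSpecResidueField y))
      (pullback.snd f (Y.fromSpecResidueField y) ≫ t)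
      (by rw [Category.assoc, ht]; exact pullback.condition)
  have hl1 : l ≫ pullback.fst f (g.fiberι (g y)) = pullback.fst f (Y.fromSpecResidueField y) :=
    pullback.lift_fst _ _ _
  have hl2 : l ≫ pullback.snd f (g.fiberι (g y)) = pullback.snd f (Y.fromSpecResidueField y) ≫ t :=
    pullback.lift_snd _ _ _
  have sq : IsPullback l (pullback.snd f (Y.fromSpecResidueField y))
      (pullback.snd f (g.fiberι (g y))) t := by
    refine IsPullback.of_right (h₁₂ := pullback.fst f (g.fiberι (g y))) (h₂₂ := g.fiberι (g y))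
      ?_ hl2 (IsPullback.of_hasPullback f (g.fiberι (g y)))
    rw [hl1, ht]
    exact IsPullback.of_hasPullback f (Y.fromSpecResidueField y)
  exact MorphismProperty.of_isPullback sq h

/-- every point of `X` lifts to the fibre product `X ×_Y Y_s`, `s = g (f x)` -/
theorem exists_lift_point {X Y S : Scheme.{u}} (f : X ⟶ Y) (g : Y ⟶ S) (x : X) :
    ∃ p : ↥(pullback f (g.fiberι (g (f x)))), pullback.fst f (g.fiberι (g (f x))) p = x := by
  have h1 : f x ∈ Set.range (g.fiberι (g (f x))) := by
    rw [Scheme.Hom.range_fiberι]; rfl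
  obtain ⟨y', hy'⟩ := h1
  obtain ⟨p, hp1, -⟩ := Scheme.Pullback.exists_preimage_pullback (f := f)
    (g := g.fiberι (g (f x))) x y' hy'.symm
  exact ⟨p, hp1⟩

/-- fibrewise flat implies flat (both for `f` and for `g` along the image of `f`) -/
theorem flat_of_fibreMap_flat {X Y S : Scheme.{u}} (f : X ⟶ Y) (g : Y ⟶ S)
    [LocallyOfFinitePresentation (f ≫ g)] [LocallyOfFiniteType g] [Flat (f ≫ g)]
    (hf : ∀ s : S, Flat (pullback.snd f (g.fiberι s))) (x : X) :
    (g.stalkMap (f x)).hom.Flat ∧ (f.stalkMap x).hom.Flat := by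
  obtain ⟨p, hp⟩ := exists_lift_point f g x
  haveI := hf (g (f x))
  have h := flat_of_fibre_flat f g (g (f x)) p (Flat.stalkMap _ p)
  rw [hp] at h
  exact h

theorem s2764 {X Y S : Scheme.{u}} (g : Y ⟶ S) (h : X ⟶ S)
    [LocallyOfFinitePresentation g] [LocallyOfFinitePresentation h] [Flat h]
    (f : X ⟶ Y) (w : f ≫ g = h) (hf : ∀ s : S, Smooth (pullback.snd f (g.fiberι s))) (x : X) :
    (g.stalkMap (f.base x)).hom.Flat := by
  subst w
  exact (flat_of_fibreMap_flat f g (fun s => by haveI := hf s; infer_instance) x).1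

theorem flat_of_fibres {X Y S : Scheme.{u}} (f : X ⟶ Y) (g : Y ⟶ S)
    [LocallyOfFinitePresentation (f ≫ g)] [LocallyOfFiniteType g] [Flat (f ≫ g)]
    (hf : ∀ s : S, Flat (pullback.snd f (g.fiberι s))) : Flat f :=
  (Flat.iff_flat_stalkMap f).2 fun x => (flat_of_fibreMap_flat f g hf x).2

theorem s2762 {X Y S : Scheme.{u}} (g : Y ⟶ S) (h : X ⟶ S)
    [LocallyOfFinitePresentation g] [LocallyOfFinitePresentation h] [Flat h]
    (f : X ⟶ Y) (w : f ≫ g = h) :
    Smooth f ↔ ∀ s : S, Smooth (pullback.snd f (g.fiberι s)) := by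
  subst w
  constructor
  · intro hsm s
    infer_instance
  · intro hf
    haveI : Flat f := flat_of_fibres f g (fun s => by haveI := hf s; infer_instance)
    haveI : LocallyOfFinitePresentation f :=
      Groth.Agent.Helper2.LfpComp.locallyOfFinitePresentation_of_comp f g inferInstance
        inferInstance
    exact Smooth.of_smooth_fiberToSpecResidueField f
      (fun y => of_fibreMap @Smooth f g y (hf (g y)))

theorem s2763 {X Y S : Scheme.{u}} (g : Y ⟶ S) (h : X ⟶ S)
    [LocallyOfFinitePresentation g] [LocallyOfFinitePresentation h] [Flat h]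
    (f : X ⟶ Y) (w : f ≫ g = h) :
    Etale f ↔ ∀ s : S, Etale (pullback.snd f (g.fiberι s)) := by
  subst w
  constructor
  · intro hsm s
    infer_instance
  · intro hf
    haveI : Flat f := flat_of_fibres f g (fun s => by haveI := hf s; infer_instance)
    haveI : LocallyOfFinitePresentation f :=
      Groth.Agent.Helper2.LfpComp.locallyOfFinitePresentation_of_comp f g inferInstance
        inferInstance
    haveI : FormallyUnramified f :=
      Groth.Agent.Helper5.UnrFib.formallyUnramified_of_fiberToSpecResidueField f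
        (fun y => of_fibreMap @FormallyUnramified f g y
          (by haveI := hf (g y); infer_instance))
    exact Etale.of_formallyUnramified_of_flat f

end Groth.Agent.Helper5.FibFlat
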