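import Mathlib
import Groth.Prelude
import Groth.Agent.Helper5.LscDim1
import Groth.Agent.Helper5.FibFlat4

set_option autoImplicit false
set_option linter.unusedSectionVars false
set_option linter.style.haveILetI false
universe u

open AlgebraicGeometry CategoryTheory CategoryTheory.Limits TopologicalSpace MvPolynomial

namespace Groth.Agent.Helper5.LscDim

theorem evHom_comp_SpecMap {P : Scheme.{u}} {R S : CommRingCat.{u}} (t : P ⟶ Spec S) (φ : R ⟶ S)
    (p : P) : evHom (t ≫ Spec.map φ) p = (evHom t p).comp φ.hom := by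
  unfold evHom
  rw [Scheme.Hom.comp_appTop, ← Category.assoc, ← Category.assoc,
    ← Scheme.ΓSpecIso_inv_naturality]
  rfl

variable {n : Type u}

theorem flat_snd_of_algIndep {X Y : Scheme.{u}} (g : X ⟶ 𝔸(n; Y)) (y : Y)
    (p : ↥(pullback g ((𝔸(n; Y) ↘ Y).fiberι y)))
    (hind : @AlgebraicIndependent n
      (Y.residueField ((g ≫ 𝔸(n; Y) ↘ Y) (pullback.fst g ((𝔸(n; Y) ↘ Y).fiberι y) p)))
      (X.residueField (pullback.fst g ((𝔸(n; Y) ↘ Y).fiberι y) p))
      (fun i => X.Γevaluation (pullback.fst g ((𝔸(n; Y) ↘ Y).fiberι y) p)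
        (g.appTop (AffineSpace.coord Y i))) _ _
      ((g ≫ 𝔸(n; Y) ↘ Y).residueFieldMap
        (pullback.fst g ((𝔸(n; Y) ↘ Y).fiberι y) p)).hom.toAlgebra) :
    ((pullback.snd g ((𝔸(n; Y) ↘ Y).fiberι y)).stalkMap p).hom.Flat := by
  let π : 𝔸(n; Y) ⟶ Y := 𝔸(n; Y) ↘ Y
  let fst := pullback.fst g (π.fiberι y)
  let snd := pullback.snd g (π.fiberι y)
  let t := snd ≫ (θ n Y y).hom
  apply flat_stalkMap_of_asIdeal_eq_bot snd (θ n Y y) p
  apply asIdeal_eq_bot (Y.residueField y) t p
  let τ : pullback g (π.fiberι y) ⟶ Spec (Y.residueField y) := snd ≫ π.fiberToSpecResidueField y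
  have hτ : t ≫ Spec.map (CommRingCat.ofHom C) = τ := by
    show (snd ≫ (θ n Y y).hom) ≫ _ = _
    rw [Category.assoc, θ_hom_C]
  have halg : (evHom t p).comp (C : Y.residueField y →+* MvPolynomial n (Y.residueField y)) =
      evHom τ p := by
    rw [← hτ, evHom_comp_SpecMap]
    rfl
  have hh : τ ≫ Y.fromSpecResidueField y = fst ≫ (g ≫ π) := by
    show (snd ≫ π.fiberToSpecResidueField y) ≫ _ = _
    rw [Category.assoc, ← Scheme.Hom.fiber_fac, ← pullback.condition_assoc]
  obtain ⟨e, he⟩ := evHom_eq y τ p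
  revert e he
  rw [hh]
  intro e he
  rw [Scheme.residueFieldMap_comp] at he
  -- the coordinates
  have hcoord : ∀ i, evHom t p (MvPolynomial.X i) =
      (fst.residueFieldMap p).hom (X.Γevaluation (fst p) (g.appTop (AffineSpace.coord Y i))) := by
    intro i
    show (pullback g (π.fiberι y)).Γevaluation p (t.appTop ((Scheme.ΓSpecIso _).inv (MvPolynomial.X i))) = _
    have h1 : (θ n Y y).hom.appTop ((Scheme.ΓSpecIso _).inv (MvPolynomial.X i)) =
        (π.fiberι y).appTop (AffineSpace.coord Y i) := by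
      rw [← θ_inv_appTop_coord, ← CommRingCat.comp_apply, ← Scheme.Hom.comp_appTop,
        Iso.hom_inv_id]
      rfl
    have h2 : t.appTop ((Scheme.ΓSpecIso _).inv (MvPolynomial.X i)) =
        fst.appTop (g.appTop (AffineSpace.coord Y i)) := by
      show (snd ≫ (θ n Y y).hom).appTop _ = _
      rw [Scheme.Hom.comp_appTop, CommRingCat.comp_apply, h1, ← CommRingCat.comp_apply,
        ← Scheme.Hom.comp_appTop, ← pullback.condition, Scheme.Hom.comp_appTop,
        CommRingCat.comp_apply]
    rw [h2]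
    exact (Scheme.Γevaluation_naturality_apply fst p _).symm
  letI algR : Algebra (Y.residueField ((g ≫ π) (fst p))) (X.residueField (fst p)) :=
    ((g ≫ π).residueFieldMap (fst p)).hom.toAlgebra
  letI algS : Algebra (Y.residueField y) ((pullback g (π.fiberι y)).residueField p) :=
    ((evHom t p).comp (C : Y.residueField y →+* MvPolynomial n (Y.residueField y))).toAlgebra
  have key := AlgebraicIndependent.ringHom_of_comp_eq (R := Y.residueField ((g ≫ π) (fst p)))
    (A := X.residueField (fst p)) (S := Y.residueField y)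
    (B := (pullback g (π.fiberι y)).residueField p)
    (Y.residueFieldCongr e).inv.hom (fst.residueFieldMap p).hom hind
    ((ConcreteCategory.bijective_of_isIso (Y.residueFieldCongr e).inv).2)
    (fst.residueFieldMap p).hom.injective ?_
  · convert key using 1
    · funext i
      exact hcoord i
    · rfl
  · show ((evHom t p).comp C).comp _ = _
    rw [halg, he]
    ext a
    show (fst.residueFieldMap p).hom (((g ≫ π).residueFieldMap (fst p)).hom
      ((Y.residueFieldCongr e).hom.hom ((Y.residueFieldCongr e).inv.hom a))) =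
      (fst.residueFieldMap p).hom (((g ≫ π).residueFieldMap (fst p)).hom a)
    congr 2
    exact Iso.inv_hom_id_apply (Y.residueFieldCongr e) a

/-- **Flatness of a map to affine space at a point where the coordinates are algebraically
independent in the residue field.** -/
theorem flatAt_of_algIndep {X Y : Scheme.{u}} [Finite n] (g : X ⟶ 𝔸(n; Y))
    [Flat (g ≫ 𝔸(n; Y) ↘ Y)] [LocallyOfFinitePresentation (g ≫ 𝔸(n; Y) ↘ Y)] (z : X)
    (hind : @AlgebraicIndependent n (Y.residueField ((g ≫ 𝔸(n; Y) ↘ Y) z)) (X.residueField z)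
      (fun i => X.Γevaluation z (g.appTop (AffineSpace.coord Y i))) _ _
      ((g ≫ 𝔸(n; Y) ↘ Y).residueFieldMap z).hom.toAlgebra) :
    (g.stalkMap z).hom.Flat := by
  obtain ⟨p, hp⟩ := Groth.Agent.Helper5.FibFlat.exists_lift_point g (𝔸(n; Y) ↘ Y) z
  have hind' : ∀ z' : X, z' = z →
      @AlgebraicIndependent n (Y.residueField ((g ≫ 𝔸(n; Y) ↘ Y) z')) (X.residueField z')
      (fun i => X.Γevaluation z' (g.appTop (AffineSpace.coord Y i))) _ _
      ((g ≫ 𝔸(n; Y) ↘ Y).residueFieldMap z').hom.toAlgebra := by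
    rintro z' rfl
    exact hind
  have h1 := flat_snd_of_algIndep g _ p (hind' _ hp)
  have h2 := (Groth.Agent.Helper5.FibFlat.flat_of_fibre_flat g (𝔸(n; Y) ↘ Y) _ p h1).2
  rw [hp] at h2
  exact h2

end Groth.Agent.Helper5.LscDim
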