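import Groth.Agent.Helper5.SubDim5
import Groth.Agent.Helper5.VarDim9
import Groth.Agent.Helper5.BCMin13
import Mathlib

set_option autoImplicit false
universe u
open CategoryTheory CategoryTheory.Limits AlgebraicGeometry TopologicalSpace

namespace Groth.Agent.Helper5.OverField

/-- For a morphism to a one-point scheme the local fibre dimension is the local dimension. -/
theorem fibreDimAt_of_subsingleton {Y T : Scheme.{u}} [Subsingleton ↥T] (q : Y ⟶ T) (y : Y) :
    FlatMor.fibreDimAt q y = FlatMor.localDim ↥Y y := by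
  have huniv : (q ⁻¹' {q y} : Set ↥Y) = Set.univ := by
    ext w
    simp only [Set.mem_preimage, Set.mem_singleton_iff, Set.mem_univ, iff_true]
    exact Subsingleton.elim _ _
  let e1 : ↥(q.fiber (q y)) ≃ₜ ↥(q ⁻¹' {q y} : Set ↥Y) := q.fiberHomeo (q y)
  let e2 : ↥(q ⁻¹' {q y} : Set ↥Y) ≃ₜ ↥(Set.univ : Set ↥Y) := Homeomorph.setCongr huniv
  let e3 : ↥(Set.univ : Set ↥Y) ≃ₜ ↥Y := Homeomorph.Set.univ ↥Y
  let e := (e1.trans e2).trans e3
  have he : e (q.asFiber y) = y := by
    show q.fiberι (q y) (q.asFiber y) = y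
    exact q.fiberι_asFiber y
  show FlatMor.localDim ↥(q.fiber (q y)) (q.asFiber y) = _
  rw [Groth.Agent.Helper5.SubDim.localDim_homeomorph e (q.asFiber y), he]

/-- The local dimension of a product of schemes locally of finite type over a field. -/
theorem localDim_pullback (k : Type u) [Field k] {X Y : Scheme.{u}}
    (gX : X ⟶ Spec (CommRingCat.of k)) (gY : Y ⟶ Spec (CommRingCat.of k))
    [LocallyOfFiniteType gX] [LocallyOfFiniteType gY] (z : ↥(pullback gX gY)) :
    FlatMor.localDim ↥(pullback gX gY) z =
      FlatMor.localDim ↥X (pullback.fst gX gY z) + FlatMor.localDim ↥Y (pullback.snd gX gY z) := by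
  have hsub : Subsingleton ↥(Spec (CommRingCat.of k)) :=
    inferInstanceAs (Subsingleton (PrimeSpectrum k))
  have hflatY : Flat gY := inferInstance
  have hflat : Flat (pullback.fst gX gY) := inferInstance
  have hlft : LocallyOfFiniteType (pullback.fst gX gY ≫ gX) := inferInstance
  have h1 := Groth.Agent.Helper5.VarDim.flat_formula k (pullback.fst gX gY ≫ gX) gX
    (pullback.fst gX gY) rfl z (Flat.stalkMap _ z)
  have hsq : IsPullback (pullback.snd gX gY) (pullback.fst gX gY) gY gX :=
    (IsPullback.of_hasPullback gX gY).flip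
  have h2 := Groth.Agent.Helper5.BCMin.fibreDimAt_of_isPullback gY gX (pullback.snd gX gY)
    (pullback.fst gX gY) hsq z
  rw [h1, h2, fibreDimAt_of_subsingleton gY]

end Groth.Agent.Helper5.OverField
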