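import Groth.Agent.Helper5.FibDim7

set_option autoImplicit false
universe u
open TensorProduct PrimeSpectrum TopologicalSpace

namespace Groth.Agent.Helper5.FibDim

/-- Dimension of the fibre ring of a localisation away from `s` as the dimension of a basic open
subset of the spectrum of the fibre ring. -/
theorem dim_fiber_away {R S : Type u} [CommRing R] [CommRing S] [Algebra R S]
    (p : Ideal R) [p.IsPrime] (s : S) :
    ringKrullDim (p.Fiber (Localization.Away s)) =
      topologicalKrullDim ↥(PrimeSpectrum.basicOpen ((1 : p.ResidueField) ⊗ₜ[R] s) :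
        Set (PrimeSpectrum (p.Fiber S))) := by
  let ps : PrimeSpectrum R := ⟨p, inferInstance⟩
  let j : PrimeSpectrum (p.Fiber S) → PrimeSpectrum S :=
    fun Q => Q.comap (Algebra.TensorProduct.includeRight : S →ₐ[R] p.Fiber S).toRingHom
  have hj : Topology.IsEmbedding j := by
    have : j = Subtype.val ∘ (PrimeSpectrum.preimageHomeomorphFiber R S ps).symm := by
      ext1 Q
      rfl
    rw [this]
    exact Topology.IsEmbedding.subtypeVal.comp
      (PrimeSpectrum.preimageHomeomorphFiber R S ps).symm.isEmbedding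
  have hjrange : Set.range j = PrimeSpectrum.comap (algebraMap R S) ⁻¹' {ps} := by
    have : j = Subtype.val ∘ (PrimeSpectrum.preimageHomeomorphFiber R S ps).symm := by
      ext1 Q
      rfl
    rw [this, Set.range_comp, (PrimeSpectrum.preimageHomeomorphFiber R S ps).symm.surjective.range_eq,
      Set.image_univ, Subtype.range_coe]
  let ι : PrimeSpectrum (Localization.Away s) → PrimeSpectrum S :=
    PrimeSpectrum.comap (algebraMap S (Localization.Away s))
  have hι : Topology.IsOpenEmbedding ι := PrimeSpectrum.localization_away_isOpenEmbedding _ s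
  have hιrange : Set.range ι = (PrimeSpectrum.basicOpen s : Set (PrimeSpectrum S)) :=
    PrimeSpectrum.localization_away_comap_range _ s
  have h1 : (PrimeSpectrum.basicOpen ((1 : p.ResidueField) ⊗ₜ[R] s) :
      Set (PrimeSpectrum (p.Fiber S))) = j ⁻¹' (PrimeSpectrum.basicOpen s : Set (PrimeSpectrum S)) := by
    ext Q
    rfl
  have h2 : ι ⁻¹' (PrimeSpectrum.comap (algebraMap R S) ⁻¹' {ps}) =
      PrimeSpectrum.comap (algebraMap R (Localization.Away s)) ⁻¹' {ps} := by
    ext z
    simp only [Set.mem_preimage, Set.mem_singleton_iff, ι]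
    rw [← PrimeSpectrum.comap_comp_apply, ← IsScalarTower.algebraMap_eq]
  rw [h1, ← dim_range_inter_eq j hj, hjrange, Set.inter_comm, ← hιrange,
    dim_range_inter_eq ι hι.isEmbedding, h2,
    (PrimeSpectrum.preimageHomeomorphFiber R (Localization.Away s) ps).isHomeomorph.topologicalKrullDim_eq,
    PrimeSpectrum.topologicalKrullDim_eq_ringKrullDim]

/-- The local dimension of the fibre at `Q` is realised on a basic open `D(s)`, `s ∈ S`. -/
theorem exists_away_fiber_dim_eq_localDim {R S : Type u} [CommRing R] [CommRing S] [Algebra R S]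
    (p : Ideal R) [p.IsPrime] (q : Ideal S) [q.IsPrime] (Q : PrimeSpectrum (p.Fiber S))
    (hQ : Q.asIdeal.comap (Algebra.TensorProduct.includeRight.toRingHom) = q) :
    ∃ s : S, s ∉ q ∧ ringKrullDim (p.Fiber (Localization.Away s)) =
      FlatMor.localDim (PrimeSpectrum (p.Fiber S)) Q := by
  have : Nonempty {U : Opens (PrimeSpectrum (p.Fiber S)) // Q ∈ U} := ⟨⟨⊤, trivial⟩⟩
  obtain ⟨⟨U, hQU⟩, hU⟩ := ciInf_mem (fun U : {U : Opens (PrimeSpectrum (p.Fiber S)) // Q ∈ U} =>
    topologicalKrullDim ↥(U.1 : Set (PrimeSpectrum (p.Fiber S))))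
  obtain ⟨_, ⟨_, ⟨t, rfl⟩, rfl⟩, hQt, htU⟩ :=
    PrimeSpectrum.isBasis_basic_opens.exists_subset_of_mem_open hQU U.isOpen
  obtain ⟨r, hr, s, hs⟩ := Ideal.Fiber.exists_smul_eq_one_tmul p t
  have hunit : IsUnit (algebraMap p.ResidueField (p.Fiber S) (algebraMap R p.ResidueField r)) := by
    apply IsUnit.map
    rw [isUnit_iff_ne_zero]
    intro h
    exact hr ((Ideal.algebraMap_residueField_eq_zero).1 h)
  have hrt : (1 : p.ResidueField) ⊗ₜ[R] s =
      algebraMap p.ResidueField (p.Fiber S) (algebraMap R p.ResidueField r) * t := by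
    rw [← hs, ← Algebra.smul_def, algebraMap_smul]
  have hQs : Q ∈ PrimeSpectrum.basicOpen ((1 : p.ResidueField) ⊗ₜ[R] s) := by
    show (1 : p.ResidueField) ⊗ₜ[R] s ∉ Q.asIdeal
    rw [hrt]
    intro h
    rcases Q.isPrime.mem_or_mem h with h1 | h1
    · exact Q.isPrime.ne_top (Ideal.eq_top_of_isUnit_mem _ h1 hunit)
    · exact hQt h1
  have hsub : (PrimeSpectrum.basicOpen ((1 : p.ResidueField) ⊗ₜ[R] s) :
      Set (PrimeSpectrum (p.Fiber S))) ⊆ (PrimeSpectrum.basicOpen t : Set _) := by
    intro P hP ht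
    apply hP
    show (1 : p.ResidueField) ⊗ₜ[R] s ∈ P.asIdeal
    rw [hrt]
    exact Ideal.mul_mem_left _ _ ht
  refine ⟨s, ?_, ?_⟩
  · intro hsq
    apply hQs
    show (1 : p.ResidueField) ⊗ₜ[R] s ∈ Q.asIdeal
    rw [← hQ] at hsq
    exact hsq
  · rw [dim_fiber_away]
    apply le_antisymm
    · have h1 : topologicalKrullDim ↥(PrimeSpectrum.basicOpen ((1 : p.ResidueField) ⊗ₜ[R] s) :
          Set (PrimeSpectrum (p.Fiber S))) ≤ topologicalKrullDim ↥(U : Set (PrimeSpectrum (p.Fiber S))) :=
        dim_subset_le (hsub.trans htU)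
      exact h1.trans hU.le
    · exact iInf_le (fun U : {U : Opens (PrimeSpectrum (p.Fiber S)) // Q ∈ U} =>
        topologicalKrullDim ↥(U.1 : Set (PrimeSpectrum (p.Fiber S))))
        ⟨PrimeSpectrum.basicOpen ((1 : p.ResidueField) ⊗ₜ[R] s), hQs⟩

end Groth.Agent.Helper5.FibDim
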