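import Groth.Agent.Helper5.VarDim
import Groth.Agent.Helper5.FibDim8

set_option autoImplicit false
universe u
open AlgebraicGeometry CategoryTheory TopologicalSpace

namespace Groth.Agent.Helper5.VarDim

/-- In an irreducible scheme locally of finite type over a field, the local dimension at every
point is the dimension of the scheme. -/
theorem localDim_eq_dim_of_irreducible (k : Type u) [Field k] {Z : Scheme.{u}}
    (f : Z ⟶ Spec (CommRingCat.of k)) [LocallyOfFiniteType f] [IrreducibleSpace Z] (z : Z) :
    FlatMor.localDim Z z = topologicalKrullDim Z := by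
  unfold FlatMor.localDim
  apply le_antisymm
  · refine (iInf_le _ ⟨(⊤ : Opens Z), trivial⟩).trans ?_
    exact topologicalKrullDim_subspace_le _ _
  · refine le_iInf fun U => ?_
    exact (dim_open_eq k f U.1 ⟨z, U.2⟩).ge

/-- A subset containing a generic point of the space is irreducible. -/
theorem isIrreducible_of_mem_of_generic {X : Type*} [TopologicalSpace X] (ξ : X)
    (hξ : closure ({ξ} : Set X) = Set.univ) (S : Set X) (hS : ξ ∈ S) : IsIrreducible S := by
  refine ⟨⟨ξ, hS⟩, ?_⟩
  intro u v hu hv ⟨a, _, hau⟩ ⟨b, _, hbv⟩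
  have h1 : ξ ∈ u := by
    have : a ∈ closure ({ξ} : Set X) := by rw [hξ]; trivial
    obtain ⟨c, hc1, hc2⟩ := mem_closure_iff.1 this u hu hau
    rwa [Set.mem_singleton_iff.1 hc2] at hc1
  have h2 : ξ ∈ v := by
    have : b ∈ closure ({ξ} : Set X) := by rw [hξ]; trivial
    obtain ⟨c, hc1, hc2⟩ := mem_closure_iff.1 this v hv hbv
    rwa [Set.mem_singleton_iff.1 hc2] at hc1
  exact ⟨ξ, hS, h1, h2⟩

theorem irreducibleSpace_of_homeomorph {A B : Type*} [TopologicalSpace A] [TopologicalSpace B]
    (e : A ≃ₜ B) [IrreducibleSpace B] : IrreducibleSpace A := by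
  have h1 : IsIrreducible (e.symm '' (Set.univ : Set B)) :=
    (IrreducibleSpace.isIrreducible_univ B).image e.symm e.symm.continuous.continuousOn
  rw [Set.image_univ, e.symm.surjective.range_eq] at h1
  have hne : Nonempty A := ⟨h1.nonempty.some⟩
  exact { toPreirreducibleSpace := ⟨h1.isPreirreducible⟩, toNonempty := hne }

theorem irreducibleSpace_fiber_of_generic {X Y : Scheme.{u}} (f : X ⟶ Y) (ξ : X)
    (hξ : closure ({ξ} : Set X) = Set.univ) : IrreducibleSpace ↥(f.fiber (f ξ)) := by
  have h1 : IsIrreducible (f ⁻¹' {f ξ}) := isIrreducible_of_mem_of_generic ξ hξ _ rfl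
  have : IrreducibleSpace ↥(f ⁻¹' {f ξ}) := Subtype.irreducibleSpace h1
  exact irreducibleSpace_of_homeomorph (f.fiberHomeo (f ξ))

/-- At a generic point of the source, the local fibre dimension is the dimension of the fibre. -/
theorem fibreDimAt_generic {X Y : Scheme.{u}} (f : X ⟶ Y) [LocallyOfFiniteType f] (ξ : X)
    (hξ : closure ({ξ} : Set X) = Set.univ) :
    FlatMor.fibreDimAt f ξ = topologicalKrullDim ↥(f.fiber (f ξ)) := by
  have := irreducibleSpace_fiber_of_generic f ξ hξ
  have hft : LocallyOfFiniteType (f.fiberToSpecResidueField (f ξ)) :=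
    inferInstanceAs (LocallyOfFiniteType (Limits.pullback.snd f (Y.fromSpecResidueField (f ξ))))
  exact localDim_eq_dim_of_irreducible (Y.residueField (f ξ))
    (f.fiberToSpecResidueField (f ξ)) (f.asFiber ξ)

/-- Chevalley: the local fibre dimension at any point is at least the dimension of the fibre
through the generic point. -/
theorem generic_fibre_dim_le_fibreDimAt {X Y : Scheme.{u}} (f : X ⟶ Y) [LocallyOfFiniteType f]
    [IrreducibleSpace X] (x : X) :
    topologicalKrullDim ↥(f.fiber (f (genericPoint X))) ≤ FlatMor.fibreDimAt f x := by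
  have hopen := Groth.Agent.Helper5.FibDim.isOpen_fibreDimAt_le f (FlatMor.fibreDimAt f x)
  have hmem : genericPoint X ∈ {x' : ↥X | FlatMor.fibreDimAt f x' ≤ FlatMor.fibreDimAt f x} := by
    rw [(genericPoint_spec X).mem_open_set_iff hopen]
    exact ⟨x, trivial, le_refl (FlatMor.fibreDimAt f x)⟩
  rw [← fibreDimAt_generic f (genericPoint X) (genericPoint_closure X)]
  exact hmem

end Groth.Agent.Helper5.VarDim
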