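import Mathlib
import Groth.Prelude
import Groth.Agent.Helper5.LscDim1
import Groth.Agent.Helper5.BCMin13
import Groth.Agent.Helper5.OverField
import Groth.Agent.Helper5.VarDim2

set_option autoImplicit false
set_option linter.unusedSectionVars false
set_option linter.style.haveILetI false
universe u

open AlgebraicGeometry CategoryTheory CategoryTheory.Limits TopologicalSpace MvPolynomial

namespace Groth.Agent.Helper5.LscDim

variable (n : Type u) [Finite n]

/-- dimension of affine space over a field -/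
theorem dim_affineSpace_field (κ : Type u) [Field κ] :
    topologicalKrullDim ↥(𝔸(n; Spec (.of κ))) = (Nat.card n : WithBot ℕ∞) := by
  have e : ↥(𝔸(n; Spec (.of κ))) ≃ₜ PrimeSpectrum (MvPolynomial n κ) :=
    (AffineSpace.SpecIso n (.of κ)).hom.homeomorph
  rw [← IsHomeomorph.topologicalKrullDim_eq _ e.symm.isHomeomorph,
    PrimeSpectrum.topologicalKrullDim_eq_ringKrullDim,
    MvPolynomial.ringKrullDim_of_isNoetherianRing, ringKrullDim_eq_zero_of_field, zero_add]

/-- local dimension of affine space over a field -/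
theorem localDim_affineSpace_field (κ : Type u) [Field κ] (a : ↥(𝔸(n; Spec (.of κ)))) :
    FlatMor.localDim ↥(𝔸(n; Spec (.of κ))) a = (Nat.card n : WithBot ℕ∞) := by
  haveI : IrreducibleSpace ↥(Spec (.of κ)) := inferInstanceAs (IrreducibleSpace (PrimeSpectrum κ))
  rw [Groth.Agent.Helper5.VarDim.localDim_eq_dim_of_irreducible κ
    (𝔸(n; Spec (.of κ)) ↘ Spec (.of κ)) a, dim_affineSpace_field]

/-- all fibres of affine space have dimension `card n` at every point -/
theorem fibreDimAt_affineSpace (Y : Scheme.{u}) (a : ↥(𝔸(n; Y))) :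
    FlatMor.fibreDimAt (𝔸(n; Y) ↘ Y) a = (Nat.card n : WithBot ℕ∞) := by
  let π : 𝔸(n; Y) ⟶ Y := 𝔸(n; Y) ↘ Y
  let y := π a
  let a' : ↥(𝔸(n; Spec (Y.residueField y))) := (e₁ n Y y).inv (π.asFiber a)
  have ha' : AffineSpace.map n (Y.fromSpecResidueField y) a' = a := by
    rw [← e₁_hom_fiberι]
    show ((e₁ n Y y).inv ≫ (e₁ n Y y).hom ≫ π.fiberι y) (π.asFiber a) = a
    rw [Iso.inv_hom_id_assoc, Scheme.Hom.fiberι_asFiber]
  have h1 := Groth.Agent.Helper5.BCMin.fibreDimAt_of_isPullback π (Y.fromSpecResidueField y)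
    (AffineSpace.map n (Y.fromSpecResidueField y))
    (𝔸(n; Spec (Y.residueField y)) ↘ Spec (Y.residueField y))
    (AffineSpace.isPullback_map (n := n) (Y.fromSpecResidueField y)) a'
  rw [ha'] at h1
  rw [← h1, Groth.Agent.Helper5.OverField.fibreDimAt_of_subsingleton]
  exact localDim_affineSpace_field n (Y.residueField y) a'

end Groth.Agent.Helper5.LscDim
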