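import Groth.Agent.Helper5.OpenAt2

set_option autoImplicit false
universe u
open AlgebraicGeometry CategoryTheory TopologicalSpace

namespace Groth.Agent.Helper5.OpenAt

open Groth.Agent.Helper5.LocDE Groth.Agent.Helper5.VarDim Groth.Agent.Helper5.MaxPt
  Groth.Agent.Helper5.SubDim Groth.Agent.Helper5.EqAt

/-- A maximal point of the fibre above `x` realising the local fibre dimension at `x`. -/
theorem exists_max_generization_fibreDimAt_eq {X Y : Scheme.{u}} (f : X ⟶ Y)
    [LocallyOfFiniteType f] (x : X) :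
    ∃ z : X, f z = f x ∧ z ⤳ x ∧ (∀ z' : X, f z' = f x → z' ⤳ z → z' = z) ∧
      FlatMor.fibreDimAt f z = FlatMor.fibreDimAt f x ∧
      ∃ tz : ℕ, @Algebra.trdeg (Y.residueField (f z)) (X.residueField z) _ _
        (f.residueFieldMap z).hom.toAlgebra = tz ∧ FlatMor.fibreDimAt f z = (tz : WithBot ℕ∞) := by
  obtain ⟨k, n, hk1, hk2, hn, hfd⟩ := fibreDimAt_eq f x
  obtain ⟨z, hfz, hzx, hFib⟩ := exists_fibre_top f x k (le_of_eq hk2.symm)
  obtain ⟨a'', tx, tz, ha'', htx, htz, hsum⟩ := fibre_codim' f x z hfz hzx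
  obtain ⟨kz, nz, hkz1, hkz2, hnz, hfdz⟩ := fibreDimAt_eq f z
  have hchev := fibreDimAt_le_of_specializes f z x hzx
  have h_tx : tx = n := by
    have := htx.symm.trans hn
    exact_mod_cast this
  have h_tz : nz = tz := by
    have := hnz.symm.trans htz
    exact_mod_cast this
  have hka : k ≤ a'' := by
    rw [ha''] at hFib
    exact_mod_cast hFib
  have hle2 : kz + nz ≤ k + n := by
    rw [hfdz, hfd] at hchev
    exact_mod_cast hchev
  have hkz0 : kz = 0 := by omega
  have htzk : tz = k + n := by omega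
  have hmaxz : ∀ z' : X, f z' = f x → z' ⤳ z → z' = z := by
    intro z' hz' hsp'
    exact max_of_coheight_asFiber f z (by rw [hkz2, hkz0]; rfl) z' (hz'.trans hfz.symm) hsp'
  refine ⟨z, hfz, hzx, hmaxz, ?_, tz, htz, ?_⟩
  · rw [hfdz, hfd, hkz0, h_tz, htzk]; simp
  · rw [hfdz, hkz0, h_tz]; simp

theorem irreducibleSpace_of_isDominant {X Y : Scheme.{u}} [IrreducibleSpace X] (f : X ⟶ Y)
    [IsDominant f] : IrreducibleSpace Y := by
  have h1 : IsIrreducible (Set.range f) := by
    rw [← Set.image_univ]
    exact (IrreducibleSpace.isIrreducible_univ X).image f f.continuous.continuousOn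
  have h2 : IsIrreducible (closure (Set.range f)) := h1.closure
  have h3 : closure (Set.range f) = Set.univ := (IsDominant.denseRange (f := f)).closure_range
  rw [h3] at h2
  exact { toPreirreducibleSpace := ⟨h2.isPreirreducible⟩, toNonempty := ⟨h2.nonempty.some⟩ }

theorem map_genericPoint_of_isDominant {X Y : Scheme.{u}} [IrreducibleSpace X]
    [IrreducibleSpace Y] (f : X ⟶ Y) [IsDominant f] :
    f (genericPoint X) = genericPoint Y := by
  have h1 : IsGenericPoint (f (genericPoint X)) (Set.univ : Set Y) := by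
    show closure {f (genericPoint X)} = Set.univ
    have h2 : closure (f '' closure ({genericPoint X} : Set X)) ⊆
        closure ({f (genericPoint X)} : Set Y) := by
      refine closure_minimal ?_ isClosed_closure
      have := image_closure_subset_closure_image (s := ({genericPoint X} : Set X)) f.continuous
      rw [Set.image_singleton] at this
      exact this
    rw [(genericPoint_spec X).def, Set.image_univ, (IsDominant.denseRange (f := f)).closure_range]
      at h2
    exact Set.eq_univ_of_univ_subset h2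
  exact h1.eq (genericPoint_spec Y)


/-- EGA IV 14.2.? (S4917 form). -/
theorem isEquidimAt_of_isOpenAt_of_irreducible {X Y : Scheme.{u}} [IsLocallyNoetherian Y]
    [IrreducibleSpace X] (f : X ⟶ Y) [LocallyOfFiniteType f] [IsDominant f] (x : X)
    (h : ∀ z : ↥(f.fiber (f.base x)), f.asFiber x ∈ closure {z} →
      (∀ z' : ↥(f.fiber (f.base x)), z ∈ closure {z'} → z' = z) →
      EGA43.IsOpenAt f.base ((f.fiberι (f.base x)).base z)) :
    EGA43.IsEquidimAt f x := by
  have hX : IsLocallyNoetherian X := LocallyOfFiniteType.isLocallyNoetherian f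
  have : IrreducibleSpace Y := irreducibleSpace_of_isDominant f
  have hgenY := map_genericPoint_of_isDominant f
  obtain ⟨z, hfz, hzx, hmaxz, hfdz, tz, htz1, htz2⟩ := exists_max_generization_fibreDimAt_eq f x
  have hemb : Topology.IsEmbedding (f.fiberι (f x)) := (f.fiberι (f x)).isEmbedding
  have hzr : z ∈ Set.range (f.fiberι (f x)) := by
    rw [Scheme.Hom.range_fiberι]; exact hfz
  obtain ⟨ζ, hζ⟩ := hzr
  have hopen : EGA43.IsOpenAt f.base z := by
    have h1 := h ζ (by
      rw [← specializes_iff_mem_closure, ← hemb.toIsInducing.specializes_iff, hζ,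
        f.fiberι_asFiber]
      exact hzx) (by
      intro z' hz'
      have h2 : z' ⤳ ζ := specializes_iff_mem_closure.2 hz'
      have h3 : f.fiberι (f x) z' ⤳ z := by
        rw [← hζ]; exact h2.map (f.fiberι (f x)).continuous
      have h4 := hmaxz _ (apply_fiberι f (f x) z') h3
      exact hemb.injective (h4.trans hζ.symm))
    have h5 : (f.fiberι (f.base x)).base ζ = z := hζ
    rw [h5] at h1
    exact h1
  have hmaxz' : ∀ t : X, f t = f z → t ⤳ z → t = z := fun t ht hsp => hmaxz t (ht.trans hfz) hsp
  have hdim := stalk_dim_eq_of_isOpenAt_of_max f z hmaxz' hopen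
  obtain ⟨ξ, hξz, hξ0, hfξ, n, hnξ, hnz⟩ := exists_generic_maximal' f z hmaxz' hdim
  have hξgen : genericPoint X = ξ :=
    max_of_coheight_zero ξ hξ0 (genericPoint X) ((genericPoint_spec X).specializes trivial)
  have hmaxξ : ∀ w : X, f w = f ξ → w ⤳ ξ → w = ξ := fun w _ hw => max_of_coheight_zero ξ hξ0 w hw
  obtain ⟨n0, hn0a, hn0b⟩ := fibreDimAt_of_maximal f ξ (coheight_asFiber_eq_zero f ξ hmaxξ)
  have q1 : n0 = n := by
    have := hn0a.symm.trans hnξ
    exact_mod_cast this
  have q2 : tz = n := by
    have := htz1.symm.trans hnz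
    exact_mod_cast this
  have hξgenT : closure ({ξ} : Set X) = Set.univ := by
    rw [← hξgen]; exact (genericPoint_spec X).def
  refine isEquidimAt_of_generic f x ξ hξgenT tz hfξ ?_ ?_
  · rw [hn0b, q1, q2]
  · rw [← hfdz, htz2]

end Groth.Agent.Helper5.OpenAt
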