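import Mathlib
import Groth.Prelude
import Groth.Agent.Helper5.LscDim2
import Groth.Agent.Helper5.LscDim3
import Groth.Agent.Helper5.OpenAt3
import Groth.Agent.Helper5.CompFib2
import Groth.Agent.Helper5.FibBound
import Groth.Agent.Helper2.FlatLocusSch
import Groth.Agent.Helper5.EqAt1

set_option autoImplicit false
set_option linter.unusedSectionVars false
set_option linter.style.haveILetI false
universe u

open AlgebraicGeometry CategoryTheory CategoryTheory.Limits TopologicalSpace MvPolynomial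

namespace Groth.Agent.Helper5.LscDim

/-- a field extension of transcendence degree `d` in which every element is a quotient of elements
of the image of a ring `A` has an algebraically independent family of `d` elements coming from
`A` -/
theorem exists_algIndep_of_trdeg {K L A : Type u} [Field K] [Field L] [Algebra K L] [CommRing A]
    (ev : A →+* L) (hev : ∀ l : L, ∃ a t : A, ev t ≠ 0 ∧ l = ev a / ev t) (d : ℕ)
    (hd : Algebra.trdeg K L = d) :
    ∃ v : ULift.{u} (Fin d) → A, AlgebraicIndependent K (fun i => ev (v i)) := by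
  haveI : Algebra.IsAlgebraic (Algebra.adjoin K (Set.range ev)) L := by
    refine ⟨fun l => ?_⟩
    obtain ⟨a, t, ht, rfl⟩ := hev l
    have ha : IsAlgebraic (Algebra.adjoin K (Set.range ev)) (ev a) :=
      isAlgebraic_algebraMap (⟨ev a, Algebra.subset_adjoin ⟨a, rfl⟩⟩ :
        Algebra.adjoin K (Set.range ev))
    have ht' : IsAlgebraic (Algebra.adjoin K (Set.range ev)) (ev t) :=
      isAlgebraic_algebraMap (⟨ev t, Algebra.subset_adjoin ⟨t, rfl⟩⟩ :
        Algebra.adjoin K (Set.range ev))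
    rw [div_eq_mul_inv]
    exact ha.mul ht'.inv
  obtain ⟨u, -, hut, hu⟩ := exists_isTranscendenceBasis_between (R := K) (A := L) ∅
    (Set.range ev) (Set.empty_subset _) (by
      rw [AlgebraicIndepOn, algebraicIndependent_empty_type_iff]
      exact (algebraMap K L).injective)
  have hcard : Cardinal.mk u = d := hu.cardinalMk_eq_trdeg.trans hd
  have hcard' : Cardinal.mk u = Cardinal.mk (ULift.{u} (Fin d)) := by
    rw [hcard]; simp
  obtain ⟨e⟩ := Cardinal.eq.1 hcard'
  have hsurj : ∀ i : ULift.{u} (Fin d), ∃ a : A, ev a = (e.symm i : L) := fun i => hut (e.symm i).2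
  choose v hv using hsurj
  refine ⟨v, ?_⟩
  have h1 : AlgebraicIndependent K (fun i : ULift.{u} (Fin d) => ((e.symm i : u) : L)) :=
    hu.1.comp e.symm e.symm.injective
  convert h1 using 1
  funext i
  exact hv i


theorem exists_quot_of_isAffine {X : Scheme.{u}} [IsAffine X] (z : X) (l : X.residueField z) :
    ∃ a t : Γ(X, ⊤), (X.Γevaluation z).hom t ≠ 0 ∧
      l = (X.Γevaluation z).hom a / (X.Γevaluation z).hom t := by
  have hW := isAffineOpen_top X
  letI algBS : Algebra Γ(X, ⊤) (X.presheaf.stalk z) :=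
    (X.presheaf.germ ⊤ z trivial).hom.toAlgebra
  haveI : IsLocalization.AtPrime (X.presheaf.stalk z) (hW.primeIdealOf ⟨z, trivial⟩).asIdeal :=
    hW.isLocalization_stalk ⟨z, trivial⟩
  obtain ⟨c, rfl⟩ := X.residue_surjective z l
  obtain ⟨⟨a, t⟩, hc⟩ := IsLocalization.surj (hW.primeIdealOf ⟨z, trivial⟩).asIdeal.primeCompl c
  have hunit : IsUnit (algebraMap Γ(X, ⊤) (X.presheaf.stalk z) t) :=
    IsLocalization.map_units _ t
  have hne : (X.Γevaluation z).hom (t : Γ(X, ⊤)) ≠ 0 := by
    have : IsUnit ((X.residue z).hom (algebraMap Γ(X, ⊤) (X.presheaf.stalk z) t)) := hunit.map _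
    exact this.ne_zero
  refine ⟨a, t, hne, ?_⟩
  rw [eq_div_iff hne]
  have h2 := congrArg (X.residue z).hom hc
  rw [map_mul] at h2
  exact h2


/-- a morphism flat at all points of an open is flat on the open -/
theorem flat_restrict {X Y : Scheme.{u}} (g : X ⟶ Y) (W : X.Opens)
    (h : ∀ w : X, w ∈ W → (g.stalkMap w).hom.Flat) : Flat (W.ι ≫ g) := by
  rw [Flat.iff_flat_stalkMap]
  intro w
  rw [Scheme.Hom.stalkMap_comp]
  have h1 : (g.stalkMap (W.ι w)).hom.Flat := h _ w.2
  have h2 : (W.ι.stalkMap w).hom.Flat :=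
    RingHom.Flat.of_bijective ((ConcreteCategory.isIso_iff_bijective _).1 inferInstance)
  exact RingHom.Flat.comp h1 h2

/-- **Key lemma, affine source**: near `f x` all fibres contain points of local fibre dimension
at least that at `x`. -/
theorem exists_nhd_affine {X Y : Scheme.{u}} [IsAffine X] (f : X ⟶ Y) [Flat f]
    [LocallyOfFinitePresentation f] (x : X) :
    ∃ N : Y.Opens, f x ∈ N ∧ ∀ y' ∈ N, ∃ x' : X, f x' = y' ∧
      FlatMor.fibreDimAt f x ≤ FlatMor.fibreDimAt f x' := by
  obtain ⟨z, hfz, hzx, hmax, hdim, tz, htr, hdz⟩ :=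
    Groth.Agent.Helper5.OpenAt.exists_max_generization_fibreDimAt_eq f x
  letI algK : Algebra (Y.residueField (f z)) (X.residueField z) :=
    (f.residueFieldMap z).hom.toAlgebra
  obtain ⟨v, hv⟩ := exists_algIndep_of_trdeg (K := Y.residueField (f z))
    (L := X.residueField z) (X.Γevaluation z).hom (exists_quot_of_isAffine z) tz htr
  let n := ULift.{u} (Fin tz)
  let π : 𝔸(n; Y) ⟶ Y := 𝔸(n; Y) ↘ Y
  let g : X ⟶ 𝔸(n; Y) := AffineSpace.homOfVector f v
  have hg : g ≫ π = f := AffineSpace.homOfVector_over f v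
  haveI : Flat (g ≫ π) := by rw [hg]; infer_instance
  haveI : LocallyOfFinitePresentation (g ≫ π) := by rw [hg]; infer_instance
  have hflat : (g.stalkMap z).hom.Flat := by
    apply flatAt_of_algIndep g z
    have : ∀ h : X ⟶ Y, h = f → @AlgebraicIndependent n (Y.residueField (h z))
        (X.residueField z) (fun i => X.Γevaluation z (g.appTop (AffineSpace.coord Y i))) _ _
        (h.residueFieldMap z).hom.toAlgebra := by
      rintro h rfl
      convert hv using 1
      · funext i
        rw [AffineSpace.homOfVector_appTop_coord]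
      all_goals rfl
    exact this _ hg
  haveI : LocallyOfFinitePresentation g :=
    Groth.Agent.Helper2.LfpComp.locallyOfFinitePresentation_of_comp g π inferInstance
      inferInstance
  have hopen := Groth.Agent.Helper2.FlatLocusSch.isOpen_flat_locus g
  let W : X.Opens := ⟨_, hopen⟩
  have hzW : z ∈ W := hflat
  let gW := W.ι ≫ g
  haveI : Flat gW := flat_restrict g W (fun w hw => hw)
  have hopen2 : IsOpen (Set.range gW) := gW.isOpenMap.isOpen_range
  let N : Y.Opens := ⟨π '' (Set.range gW), AffineSpace.isOpenMap_over (n := n) (S := Y) _ hopen2⟩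
  have hfπ : ∀ w : X, π (g w) = f w := by
    intro w
    rw [← Scheme.Hom.comp_apply, hg]
  have hcard : (Nat.card n : WithBot ℕ∞) = (tz : WithBot ℕ∞) := by
    simp [n]
  refine ⟨N, ?_, ?_⟩
  · rw [← hfz]
    exact ⟨g z, ⟨⟨z, hzW⟩, rfl⟩, hfπ z⟩
  · rintro y' ⟨_, ⟨w, rfl⟩, rfl⟩
    refine ⟨W.ι w, (hfπ _).symm, ?_⟩
    have h1 := (Groth.Agent.Helper5.CompFib.fibreDimAt_comp g π (W.ι w)).2 w.2
    rw [fibreDimAt_affineSpace, hcard] at h1
    have h2 : FlatMor.fibreDimAt (g ≫ π) (W.ι w) = FlatMor.fibreDimAt f (W.ι w) := by rw [hg]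
    rw [h2] at h1
    obtain ⟨m, hm⟩ := Groth.Agent.Helper5.SubDim.fibreDimAt_nat g (W.ι w)
    rw [← hdim, hdz, h1, hm]
    exact_mod_cast Nat.le_add_left tz m

/-- **Key lemma**: for a flat morphism locally of finite presentation, near `f x` all fibres
contain points (in any prescribed open neighbourhood `V` of `x`) of local fibre dimension at least
that at `x`. -/
theorem exists_nhd_in {X Y : Scheme.{u}} (f : X ⟶ Y) [Flat f] [LocallyOfFinitePresentation f]
    (V : X.Opens) (x : X) (hx : x ∈ V) :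
    ∃ N : Y.Opens, f x ∈ N ∧ ∀ y' ∈ N, ∃ x' : X, x' ∈ V ∧ f x' = y' ∧
      FlatMor.fibreDimAt f x ≤ FlatMor.fibreDimAt f x' := by
  obtain ⟨(U : X.Opens), hU, hxU, hUV⟩ := (Opens.isBasis_iff_nbhd.1 X.isBasis_affineOpens) hx
  haveI : IsAffine (U : Scheme.{u}) := hU
  obtain ⟨N, hN, h⟩ := exists_nhd_affine (U.ι ≫ f) ⟨x, hxU⟩
  refine ⟨N, hN, fun y' hy' => ?_⟩
  obtain ⟨x', hx'1, hx'2⟩ := h y' hy'
  refine ⟨U.ι x', hUV x'.2, hx'1, ?_⟩
  rw [Groth.Agent.Helper5.EqAt.fibreDimAt_open_restrict,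
    Groth.Agent.Helper5.EqAt.fibreDimAt_open_restrict] at hx'2
  exact hx'2

theorem exists_nhd {X Y : Scheme.{u}} (f : X ⟶ Y) [Flat f] [LocallyOfFinitePresentation f]
    (x : X) :
    ∃ N : Y.Opens, f x ∈ N ∧ ∀ y' ∈ N, ∃ x' : X, f x' = y' ∧
      FlatMor.fibreDimAt f x ≤ FlatMor.fibreDimAt f x' := by
  obtain ⟨N, hN, h⟩ := exists_nhd_in f ⊤ x trivial
  exact ⟨N, hN, fun y' hy' => by
    obtain ⟨x', -, h1, h2⟩ := h y' hy'
    exact ⟨x', h1, h2⟩⟩

end Groth.Agent.Helper5.LscDim
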