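import Mathlib
import Groth.Prelude
import Groth.Agent.Helper5.LscDim4
import Groth.Agent.Helper5.EtLoc1
import Groth.Agent.Helper2.TopDim

set_option autoImplicit false
set_option linter.unusedSectionVars false
set_option linter.style.haveILetI false
universe u

open AlgebraicGeometry CategoryTheory CategoryTheory.Limits TopologicalSpace

namespace Groth.Agent.Helper5.LscDim

theorem localDim_preimage {X Y : Scheme.{u}} (f : X ⟶ Y) (s : Y) (x : X) (hx : f x = s) :
    FlatMor.localDim ↥(f ⁻¹' {s}) ⟨x, hx⟩ = FlatMor.fibreDimAt f x := by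
  subst hx
  exact (Groth.Agent.Helper5.EtLoc.fibreDimAt_eq_localDim_preimage f x).symm

/-- the dimension of a set-theoretic fibre is the supremum of the local fibre dimensions -/
theorem dim_preimage_eq_iSup {X Y : Scheme.{u}} (f : X ⟶ Y) (s : Y) :
    topologicalKrullDim ↥(f ⁻¹' {s}) = ⨆ x : ↥(f ⁻¹' {s}), FlatMor.fibreDimAt f x.1 := by
  rw [Groth.Agent.Helper2.TopDim.dim_eq_iSup_localDim]
  congr 1
  funext x
  exact localDim_preimage f s x.1 x.2

theorem dim_fiber_eq_dim_preimage {X Y : Scheme.{u}} (f : X ⟶ Y) (s : Y) :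
    topologicalKrullDim ↥(f.fiber s) = topologicalKrullDim ↥(f ⁻¹' {s}) :=
  IsHomeomorph.topologicalKrullDim_eq _ (f.fiberHomeo s).isHomeomorph

theorem isOpen_lt_dim_preimage {X S : Scheme.{u}} (f : X ⟶ S) [Flat f]
    [LocallyOfFinitePresentation f] (c : WithBot ℕ∞) :
    IsOpen {s : S | c < topologicalKrullDim ↥(f ⁻¹' {s})} := by
  rw [isOpen_iff_forall_mem_open]
  intro s₀ hs₀
  rw [Set.mem_setOf_eq, dim_preimage_eq_iSup, lt_iSup_iff] at hs₀
  obtain ⟨⟨x, hx⟩, hlt⟩ := hs₀
  obtain ⟨N, hN, h⟩ := exists_nhd f x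
  refine ⟨N, ?_, N.2, ?_⟩
  · intro s hs
    obtain ⟨x', hx', hle⟩ := h s hs
    show c < topologicalKrullDim ↥(f ⁻¹' {s})
    rw [dim_preimage_eq_iSup]
    exact lt_of_lt_of_le (hlt.trans_le hle)
      (le_iSup (fun x : ↥(f ⁻¹' {s}) => FlatMor.fibreDimAt f x.1) ⟨x', hx'⟩)
  · have : f x = s₀ := hx
    rw [← this]
    exact hN

theorem s0404 {X S : Scheme.{u}} (f : X ⟶ S) [Flat f] [LocallyOfFinitePresentation f]
    (c : WithBot ℕ∞) : IsOpen {s : S | c < topologicalKrullDim (f.fiber s)} := by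
  have := isOpen_lt_dim_preimage f c
  convert this using 3 with s
  rw [dim_fiber_eq_dim_preimage f s]

end Groth.Agent.Helper5.LscDim
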