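import Mathlib
import Groth.Prelude

set_option autoImplicit false
set_option linter.unusedSectionVars false
set_option linter.style.haveILetI false
universe u

open AlgebraicGeometry CategoryTheory Limits

namespace Groth.Agent.Helper5.RadAt

variable {X Y : Scheme.{u}} (f : X ⟶ Y) (y : Y)

/-- field-valued points criterion at `y` -/
def PtCrit : Prop :=
  ∀ (K : Type u) [Field K] (a b : Spec (.of K) ⟶ X), a ≫ f = b ≫ f →
    (a ≫ f) (IsLocalRing.closedPoint K) = y → a = b

set_option backward.isDefEq.respectTransparency.types false in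
set_option backward.defeqAttrib.useBackward true in
theorem ptCrit_of_isRadicialAt (hr : RadPt.IsRadicialAt f y) : PtCrit f y := by
  intro K _ g₁ g₂ hg hy
  obtain ⟨h_inj, hf⟩ := hr
  obtain ⟨e, h⟩ := Scheme.SpecToEquivOfField_eq_iff.mp congr((Y.SpecToEquivOfField K) $(hg))
  apply (X.SpecToEquivOfField K).injective
  dsimp at e h
  simp only [Scheme.descResidueField_stalkClosedPointTo_comp] at e h
  have hx1 : f (g₁ (IsLocalRing.closedPoint K)) = y := by
    rw [← Scheme.Hom.comp_apply]; exact hy
  have hx2 : f (g₂ (IsLocalRing.closedPoint K)) = y := by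
    rw [← Scheme.Hom.comp_apply, ← hg]; exact hy
  have e' : g₁ (IsLocalRing.closedPoint K) = g₂ (IsLocalRing.closedPoint K) :=
    h_inj _ _ hx1 hx2
  rw [← f.residueFieldMap_congr'_assoc e', CommRingCat.hom_ext_iff] at h
  rw [Scheme.SpecToEquivOfField_eq_iff]
  let x := g₁ (IsLocalRing.closedPoint K)
  have hfx := hf x hx1
  algebraize [(f.residueFieldMap (g₁ (IsLocalRing.closedPoint K))).hom]
  refine ⟨e', CommRingCat.hom_ext ?_⟩
  exact IsPurelyInseparable.injective_comp_algebraMap
    (Y.residueField (f x)) (X.residueField x) _ h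

set_option backward.isDefEq.respectTransparency.types false in
set_option backward.defeqAttrib.useBackward true in
theorem isRadicialAt_of_ptCrit (hc : PtCrit f y) : RadPt.IsRadicialAt f y := by
  refine ⟨fun x x' hx hx' => ?_, fun x hx => ?_⟩
  · obtain ⟨z, hz1, hz2⟩ := Scheme.Pullback.exists_preimage_pullback (f := f) (g := f) x x'
      (hx.trans hx'.symm)
    let φ := (pullback f f).fromSpecResidueField z
    have hφ : φ ≫ pullback.fst f f = φ ≫ pullback.snd f f := by
      refine hc ((pullback f f).residueField z) _ _ (by simp [pullback.condition]) ?_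
      rw [Scheme.Hom.comp_apply, Scheme.Hom.comp_apply, Scheme.fromSpecResidueField_apply, hz1, hx]
    have h1 := congr($(hφ) (IsLocalRing.closedPoint _))
    rw [Scheme.Hom.comp_apply, Scheme.Hom.comp_apply, Scheme.fromSpecResidueField_apply,
      hz1, hz2] at h1
    exact h1
  · algebraize [(f.residueFieldMap x).hom]
    rw [RingHom.IsPurelyInseparable, isPurelyInseparable_iff_subsingleton_emb, subsingleton_iff]
    intro σ₁ σ₂
    apply AlgHom.coe_ringHom_injective
    let g₁ := (X.SpecToEquivOfField _).symm ⟨_, CommRingCat.ofHom σ₁.toRingHom⟩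
    let g₂ := (X.SpecToEquivOfField _).symm ⟨_, CommRingCat.ofHom σ₂.toRingHom⟩
    suffices X.SpecToEquivOfField _ g₁ = X.SpecToEquivOfField _ g₂ by
      rw [Equiv.apply_symm_apply, Equiv.apply_symm_apply] at this
      exact congr($(this).2.hom)
    have hgg : g₁ ≫ f = g₂ ≫ f := by
      simp only [g₁, g₂, Scheme.SpecToEquivOfField_symm_apply, AlgHom.toRingHom_eq_coe,
        Category.assoc, ← f.SpecMap_residueFieldMap_fromSpecResidueField x, ← Spec.map_comp_assoc]
      congr 2
      ext a
      simp only [CommRingCat.hom_comp, RingHom.comp_apply]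
      exact (AlgHom.commutes σ₁ a).trans (AlgHom.commutes σ₂ a).symm
    have hpt : (g₁ ≫ f) (IsLocalRing.closedPoint _) = y := by
      simp only [g₁, Scheme.SpecToEquivOfField_symm_apply, Scheme.Hom.comp_apply,
        Scheme.fromSpecResidueField_apply]
      exact hx
    rw [hc _ g₁ g₂ hgg hpt]

theorem isRadicialAt_iff_ptCrit : RadPt.IsRadicialAt f y ↔ PtCrit f y :=
  ⟨ptCrit_of_isRadicialAt f y, isRadicialAt_of_ptCrit f y⟩

end Groth.Agent.Helper5.RadAt

namespace Groth.Agent.Helper5.RadAt

theorem epi_spec_field {K L : Type u} [Field K] [Field L]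
    (e : Spec (.of L) ⟶ Spec (.of K)) : Epi e := by
  haveI : Subsingleton ↥(Spec (CommRingCat.of K)) :=
    inferInstanceAs (Subsingleton (PrimeSpectrum K))
  haveI : Flat e := inferInstance
  haveI : Surjective e := by
    refine ⟨fun p => ⟨IsLocalRing.closedPoint L, Subsingleton.elim _ _⟩⟩
  exact Flat.epi_of_flat_of_surjective e

theorem s5863 {X Y X' Y' : Scheme.{u}} {f : X ⟶ Y} {h : Y' ⟶ Y} {f' : X' ⟶ Y'} {h' : X' ⟶ X}
    (sq : IsPullback h' f' f h) (y' : Y') :
    RadPt.IsRadicialAt f (h y') ↔ RadPt.IsRadicialAt f' y' := by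
  rw [isRadicialAt_iff_ptCrit, isRadicialAt_iff_ptCrit]
  constructor
  · intro hc K _ a' b' hab hpt
    have h1 : (a' ≫ h') ≫ f = (b' ≫ h') ≫ f := by
      rw [Category.assoc, Category.assoc, sq.w, ← Category.assoc, ← Category.assoc, hab]
    have h2 : ((a' ≫ h') ≫ f) (IsLocalRing.closedPoint K) = h y' := by
      rw [Category.assoc, sq.w, ← Category.assoc, Scheme.Hom.comp_apply, hpt]
    have h3 := hc K _ _ h1 h2
    exact sq.hom_ext h3 hab
  · intro hc K _ a b hab hpt
    set c := a ≫ f with hcdef
    obtain ⟨w, hw1, hw2⟩ := Scheme.Pullback.exists_preimage_pullback (f := c) (g := h)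
      (IsLocalRing.closedPoint K) y' hpt
    let ψ := (pullback c h).fromSpecResidueField w
    let e : Spec (.of ((pullback c h).residueField w)) ⟶ Spec (.of K) := ψ ≫ pullback.fst c h
    let d : Spec (.of ((pullback c h).residueField w)) ⟶ Y' := ψ ≫ pullback.snd c h
    have hed : e ≫ c = d ≫ h := by
      simp only [e, d, Category.assoc, pullback.condition]
    have ha : (e ≫ a) ≫ f = d ≫ h := by rw [Category.assoc, ← hed]
    have hb : (e ≫ b) ≫ f = d ≫ h := by rw [Category.assoc, ← hab, ← hed]
    have h1 : sq.lift (e ≫ a) d ha ≫ f' = sq.lift (e ≫ b) d hb ≫ f' := by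
      rw [sq.lift_snd, sq.lift_snd]
    have h2 : (sq.lift (e ≫ a) d ha ≫ f') (IsLocalRing.closedPoint _) = y' := by
      rw [sq.lift_snd]
      show (ψ ≫ pullback.snd c h) _ = y'
      rw [Scheme.Hom.comp_apply, Scheme.fromSpecResidueField_apply, hw2]
    have h3 := hc _ _ _ h1 h2
    have h4 : e ≫ a = e ≫ b := by
      rw [← sq.lift_fst (e ≫ a) d ha, h3, sq.lift_fst]
    haveI := epi_spec_field e
    exact (cancel_epi e).1 h4

end Groth.Agent.Helper5.RadAt
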