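import Mathlib
import Groth.Agent.Helper5.RadAt
import Groth.Prelude

set_option autoImplicit false
set_option linter.unusedSectionVars false
set_option linter.style.haveILetI false
universe u

open AlgebraicGeometry CategoryTheory Limits

namespace Groth.Agent.Helper5.BirBC

/-- generic points of irreducible components are the maximal points -/
theorem mem_genericPoints_iff {α : Type*} [TopologicalSpace α] [QuasiSober α] [T0Space α] (x : α) :
    x ∈ genericPoints α ↔ ∀ z : α, z ⤳ x → z = x := by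
  constructor
  · intro hx z hz
    have h1 : closure {x} ⊆ closure {z} := by
      rw [← specializes_iff_closure_subset]; exact hz
    have h2 : closure {z} ⊆ closure {x} :=
      hx.2 (isIrreducible_singleton.closure) h1
    have h3 : x ⤳ z := by
      rw [specializes_iff_closure_subset]; exact h2
    exact (hz.antisymm h3).eq
  · intro hmax
    refine ⟨isIrreducible_singleton.closure, ?_⟩
    intro S hS hxS
    have hSc : IsIrreducible (closure S) := hS.closure
    obtain ⟨z, hz⟩ := QuasiSober.sober hSc isClosed_closure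
    have hzx : z ⤳ x := by
      rw [specializes_iff_mem_closure, hz.def]
      exact subset_closure (hxS (subset_closure rfl))
    obtain rfl := hmax z hzx
    rw [hz.def]
    exact subset_closure

theorem map_mem_genericPoints_of_flat {X Y : Scheme.{u}} (g : X ⟶ Y) [Flat g] (x : X)
    (hx : x ∈ genericPoints X) : g x ∈ genericPoints Y := by
  rw [mem_genericPoints_iff] at hx ⊢
  intro w hw
  obtain ⟨x', hx', rfl⟩ := Flat.generalizingMap g hw
  rw [hx x' hx']

/-- the pointwise birationality condition over `y` -/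
def BirAt {X Y : Scheme.{u}} (f : X ⟶ Y) (y : Y) : Prop :=
  (∀ x x' : X, f x = y → f x' = y → x = x') ∧
    ∀ x : X, f x = y → Function.Bijective (f.residueFieldMap x).hom

theorem exists_section {X Y : Scheme.{u}} (f : X ⟶ Y) (x : X)
    (hb : Function.Bijective (f.residueFieldMap x).hom) :
    ∃ s : Spec (Y.residueField (f x)) ⟶ X, s ≫ f = Y.fromSpecResidueField (f x) := by
  haveI : IsIso (f.residueFieldMap x) := (ConcreteCategory.isIso_iff_bijective _).2 hb
  refine ⟨Spec.map (inv (f.residueFieldMap x)) ≫ X.fromSpecResidueField x, ?_⟩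
  rw [Category.assoc, ← Scheme.Hom.SpecMap_residueFieldMap_fromSpecResidueField,
    ← Spec.map_comp_assoc, IsIso.hom_inv_id, Spec.map_id, Category.id_comp]

theorem isRadicialAt_of_birAt {X Y : Scheme.{u}} (f : X ⟶ Y) (y : Y) (h : BirAt f y) :
    RadPt.IsRadicialAt f y := by
  refine ⟨h.1, fun x hx => ?_⟩
  have hb := h.2 x hx
  algebraize [(f.residueFieldMap x).hom]
  rw [RingHom.IsPurelyInseparable, isPurelyInseparable_iff]
  intro z
  obtain ⟨w, rfl⟩ := hb.2 z
  exact ⟨isIntegral_algebraMap, fun _ => ⟨w, rfl⟩⟩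

theorem exists_factor {K : Type u} [Field K] (X : Scheme.{u}) (s : Spec (.of K) ⟶ X) :
    ∃ φ : X.residueField (s (IsLocalRing.closedPoint K)) ⟶ .of K,
      Spec.map φ ≫ X.fromSpecResidueField _ = s :=
  ⟨_, Scheme.descResidueField_stalkClosedPointTo_fromSpecResidueField K X s⟩

theorem birAt_of_radicial_section {X Y : Scheme.{u}} (f : X ⟶ Y) (y : Y)
    (hr : RadPt.IsRadicialAt f y) (s : Spec (Y.residueField y) ⟶ X)
    (hs : s ≫ f = Y.fromSpecResidueField y) : BirAt f y ∧ ∃ x, f x = y := by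
  set x₀ := s (IsLocalRing.closedPoint _) with hx₀
  have h0 : f x₀ = y := by
    rw [hx₀, ← Scheme.Hom.comp_apply, hs, Scheme.fromSpecResidueField_apply]
  refine ⟨⟨hr.1, fun x hx => ?_⟩, x₀, h0⟩
  obtain rfl : x = x₀ := hr.1 x x₀ hx h0
  obtain ⟨φ, hφ⟩ : ∃ φ : X.residueField x₀ ⟶ Y.residueField y,
      Spec.map φ ≫ X.fromSpecResidueField x₀ = s :=
    exists_factor (K := IsLocalRing.ResidueField (Y.presheaf.stalk y)) X s
  set ψ : Y.residueField y ⟶ Y.residueField y :=
    (Y.residueFieldCongr h0.symm).hom ≫ f.residueFieldMap x₀ ≫ φ with hψ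
  have h1 : Spec.map ψ ≫ Y.fromSpecResidueField y = 𝟙 _ ≫ Y.fromSpecResidueField y := by
    rw [hψ, Spec.map_comp, Spec.map_comp, Category.assoc, Category.assoc,
      Scheme.residueFieldCongr_fromSpecResidueField,
      Scheme.Hom.SpecMap_residueFieldMap_fromSpecResidueField, ← Category.assoc, hφ, hs,
      Category.id_comp]
  have h2 : Spec.map ψ = 𝟙 _ := (cancel_mono _).1 h1
  have h3 : ψ = 𝟙 _ := by
    apply Spec.map_injective
    rw [h2, Spec.map_id]
  have h4 : ∀ t, φ.hom ((f.residueFieldMap x₀).hom ((Y.residueFieldCongr h0.symm).hom.hom t)) = t := by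
    intro t
    have := congrArg (fun θ : Y.residueField y ⟶ Y.residueField y => θ.hom t) h3
    exact this
  have hφinj : Function.Injective φ.hom := RingHom.injective _
  refine ⟨RingHom.injective _, fun w => ?_⟩
  exact ⟨(Y.residueFieldCongr h0.symm).hom.hom (φ.hom w), hφinj (h4 _)⟩

section Main
variable {X Y X' Y' : Scheme.{u}} {f : X ⟶ Y} {g : Y' ⟶ Y} [Flat g] {f' : X' ⟶ Y'} {g' : X' ⟶ X}
  (sq : IsPullback g' f' f g)

omit [Flat g] in
theorem exists_section_of_birAt (y : Y) (h : BirAt f y) (hne : ∃ x, f x = y) :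
    ∃ s : Spec (Y.residueField y) ⟶ X, s ≫ f = Y.fromSpecResidueField y := by
  obtain ⟨x, rfl⟩ := hne
  exact exists_section f x (h.2 x rfl)

include sq in
omit [Flat g] in
theorem birAt_baseChange (y' : Y') (h : BirAt f (g y')) (hne : ∃ x, f x = g y') :
    BirAt f' y' ∧ ∃ x', f' x' = y' := by
  have hr : RadPt.IsRadicialAt f (g y') := isRadicialAt_of_birAt f _ h
  have hr' : RadPt.IsRadicialAt f' y' := (Groth.Agent.Helper5.RadAt.s5863 sq y').1 hr
  obtain ⟨s, hs⟩ := exists_section_of_birAt (g y') h hne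
  let s' : Spec (Y'.residueField y') ⟶ X' :=
    sq.lift (Spec.map (g.residueFieldMap y') ≫ s) (Y'.fromSpecResidueField y') (by
      rw [Category.assoc, hs, Scheme.Hom.SpecMap_residueFieldMap_fromSpecResidueField])
  have hs' : s' ≫ f' = Y'.fromSpecResidueField y' := sq.lift_snd _ _ _
  exact birAt_of_radicial_section f' y' hr' s' hs'

include sq in
theorem isBirational_baseChange (hf : RadPt.IsBirational f) : RadPt.IsBirational f' := by
  haveI : Flat g' := MorphismProperty.of_isPullback sq.flip inferInstance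
  have key : ∀ y' : Y', g y' ∈ genericPoints Y → BirAt f' y' ∧ ∃ x', f' x' = y' := by
    intro y' hy
    obtain ⟨x, -, hx⟩ := hf.1.surjOn hy
    exact birAt_baseChange sq y' (hf.2 _ hy) ⟨x, hx⟩
  have hover : ∀ ξ' ∈ genericPoints X', g (f' ξ') ∈ genericPoints Y := by
    intro ξ' hξ'
    have h1 : g' ξ' ∈ genericPoints X := map_mem_genericPoints_of_flat g' ξ' hξ'
    have h2 : f (g' ξ') ∈ genericPoints Y := hf.1.mapsTo h1
    have h3 : g (f' ξ') = f (g' ξ') := by
      rw [← Scheme.Hom.comp_apply, ← Scheme.Hom.comp_apply, sq.w]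
    rw [h3]; exact h2
  refine ⟨⟨?_, ?_, ?_⟩, ?_⟩
  · intro ξ' hξ'
    have hy := hover ξ' hξ'
    rw [mem_genericPoints_iff]
    intro z hz
    have hgz : g z = g (f' ξ') := by
      have : g z ⤳ g (f' ξ') := hz.map g.continuous
      exact (mem_genericPoints_iff _).1 hy _ this
    have hzr : z ∈ Set.range (g.fiberι (g (f' ξ'))) := by
      rw [Scheme.Hom.range_fiberι]; exact hgz
    have hyr : f' ξ' ∈ Set.range (g.fiberι (g (f' ξ'))) := by
      rw [Scheme.Hom.range_fiberι]; rfl
    obtain ⟨zT, hzT⟩ := hzr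
    obtain ⟨yT, hyT⟩ := hyr
    have hsp : zT ⤳ yT := by
      rw [← ((g.fiberι (g (f' ξ'))).isEmbedding.isInducing).specializes_iff, hzT, hyT]; exact hz
    obtain ⟨x, -, hx⟩ := hf.1.surjOn hy
    obtain ⟨s, hs⟩ := exists_section_of_birAt (g (f' ξ')) (hf.2 _ hy) ⟨x, hx⟩
    let σ : g.fiber (g (f' ξ')) ⟶ X' :=
      sq.lift (g.fiberToSpecResidueField (g (f' ξ')) ≫ s) (g.fiberι (g (f' ξ'))) (by
        rw [Category.assoc, hs]; exact (g.fiber_fac _).symm)
    have hσ : σ ≫ f' = g.fiberι (g (f' ξ')) := sq.lift_snd _ _ _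
    have h1 : σ zT ⤳ σ yT := hsp.map σ.continuous
    have h2 : f' (σ yT) = f' ξ' := by rw [← Scheme.Hom.comp_apply, hσ, hyT]
    have h3 : σ yT = ξ' := (key (f' ξ') hy).1.1 _ _ h2 rfl
    have h4 : σ zT = ξ' := by
      rw [h3] at h1
      exact (mem_genericPoints_iff ξ').1 hξ' _ h1
    rw [← hzT, ← hσ, Scheme.Hom.comp_apply, h4]
  · intro a ha b hb hab
    exact (key (f' a) (hover a ha)).1.1 a b rfl hab.symm
  · intro y' hy'
    have hy : g y' ∈ genericPoints Y := map_mem_genericPoints_of_flat g y' hy'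
    obtain ⟨hbir, x', hx'⟩ := key y' hy
    refine ⟨x', ?_, hx'⟩
    rw [mem_genericPoints_iff]
    intro z hz
    have h1 : f' z ⤳ y' := hx' ▸ hz.map f'.continuous
    have h2 : f' z = y' := (mem_genericPoints_iff y').1 hy' _ h1
    exact hbir.1 z x' h2 hx'
  · intro y' hy'
    exact (key y' (map_mem_genericPoints_of_flat g y' hy')).1

end Main

end Groth.Agent.Helper5.BirBC
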