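import Mathlib
import Groth.Agent.Helper5.BirBC
import Groth.Prelude

set_option autoImplicit false
set_option linter.unusedSectionVars false
set_option linter.style.haveILetI false
universe u

open AlgebraicGeometry CategoryTheory Limits TopologicalSpace

namespace Groth.Agent.Helper5.NeronEt

open Groth.Agent.Helper5.BirBC

/-- every point has a generization which is a maximal point -/
theorem exists_generic_specializes {X : Type*} [TopologicalSpace X] [QuasiSober X] (z : X) :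
    ∃ η ∈ genericPoints X, η ⤳ z := by
  let η := genericPoints.ofComponent
    (⟨irreducibleComponent z, irreducibleComponent_mem_irreducibleComponents z⟩ :
      irreducibleComponents X)
  have h1 : IsGenericPoint (η : X) (irreducibleComponent z) :=
    genericPoints.isGenericPoint_ofComponent _
  refine ⟨η, η.2, ?_⟩
  rw [specializes_iff_mem_closure, h1.def]
  exact mem_irreducibleComponent

/-- a point with a domain as local ring has a unique maximal generization -/
theorem unique_generic_of_isDomain {S : Scheme.{u}} (z : S) (hz : IsDomain (S.presheaf.stalk z))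
    (η₁ η₂ : S) (h₁ : η₁ ∈ genericPoints S) (h₂ : η₂ ∈ genericPoints S) (hs₁ : η₁ ⤳ z)
    (hs₂ : η₂ ⤳ z) : η₁ = η₂ := by
  rw [mem_genericPoints_iff] at h₁ h₂
  let j := S.fromSpecStalk z
  let p₀ : Spec (S.presheaf.stalk z) := ⟨⊥, Ideal.isPrime_bot⟩
  have key : ∀ η : S, (∀ w : S, w ⤳ η → w = η) → η ⤳ z → j p₀ = η := by
    intro η hη hs
    have h3 : η ∈ Set.range j := by
      rw [Scheme.range_fromSpecStalk]; exact hs
    obtain ⟨p, rfl⟩ := h3
    have h4 : p₀ ⤳ p := (PrimeSpectrum.le_iff_specializes p₀ p).1 bot_le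
    exact hη _ (h4.map j.continuous)
  rw [← key η₁ h₁ hs₁, ← key η₂ h₂ hs₂]

/-- a quasi-compact dominant morphism hits every maximal point -/
theorem mem_range_of_mem_genericPoints {X S : Scheme.{u}} (f : X ⟶ S) [QuasiCompact f]
    [IsDominant f] (η : S) (hη : η ∈ genericPoints S) : η ∈ Set.range f := by
  rw [mem_genericPoints_iff] at hη
  by_contra hnot
  obtain ⟨V, hV, hηV, -⟩ := exists_isAffineOpen_mem_and_subset (X := S) (x := η) (U := ⊤) trivial
  let w := hV.primeIdealOf ⟨η, hηV⟩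
  have hw : hV.fromSpec w = η := hV.fromSpec_primeIdealOf ⟨η, hηV⟩
  have hc : IsCompact (f ⁻¹ᵁ V : Set X) := f.isCompact_preimage hV.isCompact
  obtain ⟨s, hsfin, hs⟩ := isCompact_and_isOpen_iff_finite_and_eq_biUnion_affineOpens.1
    ⟨hc, (f ⁻¹ᵁ V).isOpen⟩
  have hle : ∀ W ∈ s, (W : X.Opens) ≤ f ⁻¹ᵁ V := by
    intro W hW x hx
    have : x ∈ ⋃ i ∈ s, ((i : X.Opens) : Set X) := Set.mem_biUnion hW hx
    rw [← hs] at this
    exact this
  have key : ∀ W : X.affineOpens, W ∈ s → ∃ a : Γ(S, V), a ∉ w.asIdeal ∧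
      ∀ e : (W : X.Opens) ≤ f ⁻¹ᵁ V, f.appLE V W e a = 0 := by
    intro W hWs
    have e := hle W hWs
    by_contra hcon
    push_neg at hcon
    let φ := (f.appLE V W e).hom
    let M : Submonoid Γ(X, W) := Submonoid.map φ w.asIdeal.primeCompl
    have hdisj : Disjoint ((⊥ : Ideal Γ(X, W)) : Set Γ(X, W)) (M : Set Γ(X, W)) := by
      rw [Set.disjoint_left]
      rintro b hb ⟨a, ha, rfl⟩
      obtain ⟨e', he'⟩ := hcon a ha
      exact he' ((Submodule.mem_bot _).1 hb)
    obtain ⟨Q, hQ, -, hQM⟩ := Ideal.exists_le_prime_disjoint (⊥ : Ideal Γ(X, W)) M hdisj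
    let Q' : Spec Γ(X, W) := ⟨Q, hQ⟩
    let z' := Spec.map (f.appLE V W e) Q'
    have hz'le : z'.asIdeal ≤ w.asIdeal := by
      intro a ha
      by_contra hna
      exact Set.disjoint_left.1 hQM ha ⟨a, hna, rfl⟩
    have h1 : z' ⤳ w := (PrimeSpectrum.le_iff_specializes z' w).1 hz'le
    have h2 : hV.fromSpec z' ⤳ hV.fromSpec w := h1.map hV.fromSpec.continuous
    rw [hw] at h2
    have h3 : hV.fromSpec z' = η := hη _ h2
    have h4 : hV.fromSpec z' = f (W.2.fromSpec Q') := by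
      rw [← Scheme.Hom.comp_apply, IsAffineOpen.SpecMap_appLE_fromSpec f hV W.2 e,
        Scheme.Hom.comp_apply]
    exact hnot ⟨_, (h4.symm.trans h3)⟩
  choose! a ha using key
  let g : Γ(S, V) := ∏ W ∈ hsfin.toFinset, a W
  have hg : g ∉ w.asIdeal := by
    intro hmem
    obtain ⟨W, hW, hWm⟩ := (Ideal.IsPrime.prod_mem_iff (p := w.asIdeal)).1 hmem
    exact (ha W (hsfin.mem_toFinset.1 hW)).1 hWm
  have hηg : η ∈ S.basicOpen g := by
    have h5 : w ∈ hV.fromSpec ⁻¹ᵁ S.basicOpen g := by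
      rw [hV.fromSpec_preimage_basicOpen]
      exact hg
    rw [← hw]
    exact h5
  obtain ⟨x, hx⟩ := f.denseRange.exists_mem_open (S.basicOpen g).isOpen ⟨η, hηg⟩
  have hxV : f x ∈ V := S.basicOpen_le g hx
  have hxU : x ∈ (f ⁻¹ᵁ V : Set X) := hxV
  rw [hs] at hxU
  obtain ⟨W, hWs, hxW⟩ := Set.mem_iUnion₂.1 hxU
  have e := hle W hWs
  have hzero : f.appLE V W e g = 0 := by
    show f.appLE V W e (∏ W' ∈ hsfin.toFinset, a W') = 0
    rw [map_prod]
    exact Finset.prod_eq_zero (hsfin.mem_toFinset.2 hWs) ((ha W hWs).2 e)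
  have hcomap := IsAffineOpen.comap_primeIdealOf_appLE V hV (W : X.Opens) W.2 e hxW
  have hgmem : g ∈ (hV.primeIdealOf ⟨f x, e hxW⟩).asIdeal := by
    rw [← hcomap]
    show (f.appLE V W e).hom g ∈ (W.2.primeIdealOf ⟨x, hxW⟩).asIdeal
    have : (f.appLE V W e).hom g = 0 := hzero
    rw [this]
    exact Ideal.zero_mem _
  have hnotmem : g ∉ (hV.primeIdealOf ⟨f x, e hxW⟩).asIdeal := by
    have h6 : hV.primeIdealOf ⟨f x, e hxW⟩ ∈ hV.fromSpec ⁻¹ᵁ S.basicOpen g := by
      show hV.fromSpec (hV.primeIdealOf ⟨f x, e hxW⟩) ∈ S.basicOpen g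
      rw [hV.fromSpec_primeIdealOf ⟨f x, e hxW⟩]
      exact hx
    rw [hV.fromSpec_preimage_basicOpen] at h6
    exact h6
  exact hnotmem hgmem

end Groth.Agent.Helper5.NeronEt
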