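import Mathlib
import Groth.Prelude
import Groth.Agent.Helper5.LscDim5
import Groth.Agent.Helper5.MaxPt1
import Groth.Agent.Helper5.NeronEt3
import Groth.Agent.Helper3.RedGF6
import Groth.Agent.Helper7.UHImg

set_option autoImplicit false
set_option linter.unusedSectionVars false
set_option linter.style.haveILetI false
universe u

open AlgebraicGeometry CategoryTheory CategoryTheory.Limits TopologicalSpace

namespace Groth.Agent.Helper5.GenFib

/-- generic openness: a quasi-compact morphism locally of finite type from a reduced scheme to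
an irreducible scheme hitting the generic point has image containing a non-empty open. -/
theorem exists_open_subset_range {T Y : Scheme.{u}} (g : T ⟶ Y) [IsReduced T] [IrreducibleSpace Y]
    [LocallyOfFiniteType g] [QuasiCompact g] (hη : genericPoint Y ∈ Set.range g) :
    ∃ V : Y.Opens, (V : Set Y).Nonempty ∧ (V : Set Y) ⊆ Set.range g := by
  haveI : IsReduced g.image := Groth.Agent.Helper7.UHImg.isReduced_image g
  haveI : LocallyOfFiniteType (g.toImage ≫ g.imageι) := by
    rw [g.toImage_imageι]; infer_instance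
  haveI : LocallyOfFiniteType g.toImage := locallyOfFiniteType_of_comp g.toImage g.imageι
  obtain ⟨U, hUd, hUflat, hUfp⟩ := Groth.Agent.Helper3.RedGF6.main g.toImage
  -- the range of `imageι` is everything
  have hrange : Set.range g.imageι = Set.univ := by
    rw [Scheme.IdealSheafData.range_subschemeι, Scheme.Hom.support_ker]
    rw [Set.eq_univ_iff_forall]
    intro y
    have h1 : closure {genericPoint Y} ⊆ closure (Set.range g) :=
      closure_mono (Set.singleton_subset_iff.2 hη)
    apply h1
    have := genericPoint_spec Y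
    rw [this.def]
    trivial
  have hsurj : Function.Surjective g.imageι := Set.range_eq_univ.1 hrange
  have hce : Topology.IsClosedEmbedding g.imageι := g.imageι.isClosedEmbedding
  have hopenmap : IsOpenMap g.imageι :=
    (hce.isEmbedding.toHomeomorphOfSurjective hsurj).isOpenMap
  -- the open part of the range of `toImage`
  haveI := hUflat
  haveI := hUfp
  have hopen' : IsOpenMap (g.toImage ∣_ U) := (g.toImage ∣_ U).isOpenMap
  have hO : IsOpen (U.ι '' Set.range (g.toImage ∣_ U)) :=
    U.ι.isOpenEmbedding.isOpenMap _ hopen'.isOpen_range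
  have hOsub : U.ι '' Set.range (g.toImage ∣_ U) ⊆ Set.range g.toImage := by
    rintro _ ⟨_, ⟨t, rfl⟩, rfl⟩
    refine ⟨(g.toImage ⁻¹ᵁ U).ι t, ?_⟩
    rw [← Scheme.Hom.comp_apply, ← Scheme.Hom.comp_apply, morphismRestrict_ι]
  have hOne : (U.ι '' Set.range (g.toImage ∣_ U)).Nonempty := by
    have hdom : DenseRange g.toImage := g.toImage.denseRange
    have hUne : (U : Set g.image).Nonempty := by
      obtain ⟨t, ht⟩ := hη
      exact hUd.nonempty_iff.2 ⟨g.toImage t⟩
    obtain ⟨_, hyU, ⟨t, rfl⟩⟩ := hdom.inter_open_nonempty U U.isOpen hUne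
    let t' : ↥(g.toImage ⁻¹ᵁ U : Scheme.{u}) := ⟨t, hyU⟩
    refine ⟨g.toImage t, ⟨(g.toImage ∣_ U) t', ⟨t', rfl⟩, ?_⟩⟩
    rw [← Scheme.Hom.comp_apply, morphismRestrict_ι]
    rfl
  refine ⟨⟨g.imageι '' (U.ι '' Set.range (g.toImage ∣_ U)), hopenmap _ hO⟩, ?_, ?_⟩
  · exact hOne.image _
  · rintro _ ⟨z, hz, rfl⟩
    obtain ⟨t, rfl⟩ := hOsub hz
    exact ⟨t, by rw [← Scheme.Hom.comp_apply, g.toImage_imageι]⟩

end Groth.Agent.Helper5.GenFib
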