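import Mathlib
import Groth.Prelude
import Groth.Agent.Helper5.GenFib1
import Groth.Agent.Helper5.CutSec7

set_option autoImplicit false
set_option linter.unusedSectionVars false
set_option linter.style.haveILetI false
universe u

open AlgebraicGeometry CategoryTheory CategoryTheory.Limits TopologicalSpace

namespace Groth.Agent.Helper5.GenFib

theorem genericPoint_mem_genericPoints (Y : Scheme.{u}) [IrreducibleSpace Y] :
    genericPoint Y ∈ genericPoints Y := by
  rw [Groth.Agent.Helper5.BirBC.mem_genericPoints_iff]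
  intro w hw
  have h2 : genericPoint Y ⤳ w := (genericPoint_spec Y).specializes (Set.mem_univ w)
  exact (hw.antisymm h2).eq

/-- a closed subset of the source missing the generic fibre misses the preimage of a non-empty
open -/
theorem exists_open_disjoint {X Y : Scheme.{u}} (f : X ⟶ Y) [IrreducibleSpace Y] [QuasiCompact f]
    (Z : Set X) (hZ : IsClosed Z) (hη : ∀ z ∈ Z, f z ≠ genericPoint Y) :
    ∃ V : Y.Opens, (V : Set Y).Nonempty ∧ ∀ z ∈ Z, f z ∉ V := by
  let C : Closeds X := ⟨Z, hZ⟩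
  let I := Scheme.IdealSheafData.vanishingIdeal C
  have hrange : Set.range I.subschemeι = Z := by
    rw [Scheme.IdealSheafData.range_subschemeι, Scheme.IdealSheafData.coe_support_vanishingIdeal]
    rfl
  let g : I.subscheme ⟶ Y := I.subschemeι ≫ f
  have hrg : Set.range g = f '' Z := by
    rw [← hrange, ← Set.range_comp]
    rfl
  refine ⟨⟨(closure (f '' Z))ᶜ, isClosed_closure.isOpen_compl⟩, ?_, ?_⟩
  · by_contra hne
    rw [Set.not_nonempty_iff_eq_empty] at hne
    have hcl : closure (f '' Z) = Set.univ := by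
      have : (closure (f '' Z))ᶜ = ∅ := hne
      rwa [Set.compl_empty_iff] at this
    haveI : IsDominant g := ⟨by
      rw [DenseRange, dense_iff_closure_eq, hrg, hcl]⟩
    obtain ⟨t, ht⟩ := Groth.Agent.Helper5.NeronEt.mem_range_of_mem_genericPoints g
      (genericPoint Y) (genericPoint_mem_genericPoints Y)
    have h1 : I.subschemeι t ∈ Z := by rw [← hrange]; exact ⟨t, rfl⟩
    exact hη _ h1 ht
  · intro z hz hzV
    exact hzV (subset_closure ⟨z, hz, rfl⟩)

end Groth.Agent.Helper5.GenFib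

namespace Groth.Agent.Helper5.GenFib

open AlgebraicGeometry CategoryTheory CategoryTheory.Limits TopologicalSpace

theorem le_pred_of_lt (a : WithBot ℕ∞) (n : ℕ) (h : a < (n : WithBot ℕ∞)) :
    a ≤ (if n = 0 then ⊥ else ((n - 1 : ℕ) : WithBot ℕ∞)) := by
  induction a using WithBot.recBotCoe with
  | bot => exact bot_le
  | coe m =>
    have hm : m < (n : ℕ∞) := by exact_mod_cast h
    obtain ⟨k, rfl⟩ := ENat.ne_top_iff_exists.1 (ne_top_of_lt hm)
    have hk : k < n := by exact_mod_cast hm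
    have hn : n ≠ 0 := by omega
    rw [if_neg hn]
    have : k ≤ n - 1 := by omega
    show ((k : ℕ∞) : WithBot ℕ∞) ≤ (((n - 1 : ℕ) : ℕ∞) : WithBot ℕ∞)
    exact WithBot.coe_le_coe.2 (by exact_mod_cast this)

theorem pred_lt (n : ℕ) :
    (if n = 0 then ⊥ else ((n - 1 : ℕ) : WithBot ℕ∞)) < (n : WithBot ℕ∞) := by
  split_ifs with hn
  · exact WithBot.bot_lt_coe _
  · have : n - 1 < n := by omega
    show (((n - 1 : ℕ) : ℕ∞) : WithBot ℕ∞) < ((n : ℕ∞) : WithBot ℕ∞)
    exact WithBot.coe_lt_coe.2 (by exact_mod_cast this)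

theorem exists_eq_of_iSup_eq {ι : Type*} (a : ι → WithBot ℕ∞) (n : ℕ)
    (h : ⨆ i, a i = (n : WithBot ℕ∞)) : ∃ i, a i = n := by
  by_contra hcon
  push_neg at hcon
  have hle : ∀ i, a i ≤ n := fun i => h ▸ le_iSup a i
  have hlt : ∀ i, a i < n := fun i => lt_of_le_of_ne (hle i) (hcon i)
  have h2 : ⨆ i, a i ≤ (if n = 0 then ⊥ else ((n - 1 : ℕ) : WithBot ℕ∞)) :=
    iSup_le fun i => le_pred_of_lt _ n (hlt i)
  rw [h] at h2
  exact absurd h2 (not_le.2 (pred_lt n))

theorem s1332 {X Y : Scheme.{u}} (f : X ⟶ Y) [IrreducibleSpace ↑Y] [LocallyOfFiniteType f]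
    [QuasiCompact f] (n : ℕ)
    (h : topologicalKrullDim ↑(f.fiber (genericPoint ↑Y)) = n) :
    ∃ V : Y.Opens, (V : Set ↑Y).Nonempty ∧ ∀ y ∈ V, topologicalKrullDim ↑(f.fiber y) = n := by
  rw [LscDim.dim_fiber_eq_dim_preimage, LscDim.dim_preimage_eq_iSup] at h
  -- upper bound
  obtain ⟨V₁, hV₁ne, hV₁⟩ := exists_open_disjoint f {x | ¬ FlatMor.fibreDimAt f x ≤ n}
    (Groth.Agent.Helper5.FibDim.isOpen_fibreDimAt_le f n).isClosed_compl (by
      intro z hz hzη
      exact hz (h ▸ le_iSup (fun x : ↥(f ⁻¹' {genericPoint Y}) => FlatMor.fibreDimAt f x.1)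
        ⟨z, hzη⟩))
  -- lower bound
  obtain ⟨⟨x₀, hx₀⟩, hx₀n⟩ := exists_eq_of_iSup_eq _ n h
  let C : Closeds X := ⟨closure {x₀}, isClosed_closure⟩
  let I := Scheme.IdealSheafData.vanishingIdeal C
  have hrange : Set.range I.subschemeι = closure {x₀} := by
    rw [Scheme.IdealSheafData.range_subschemeι, Scheme.IdealSheafData.coe_support_vanishingIdeal]
    rfl
  haveI : IsReduced I.subscheme := Groth.Agent.Helper5.CutSec.isReduced_vanishingIdeal_subscheme C
  let g : I.subscheme ⟶ Y := I.subschemeι ≫ f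
  have hηg : genericPoint Y ∈ Set.range g := by
    have : x₀ ∈ Set.range I.subschemeι := by rw [hrange]; exact subset_closure rfl
    obtain ⟨t, ht⟩ := this
    exact ⟨t, by rw [Scheme.Hom.comp_apply, ht]; exact hx₀⟩
  obtain ⟨V₂, hV₂ne, hV₂⟩ := exists_open_subset_range g hηg
  refine ⟨V₁ ⊓ V₂, ?_, ?_⟩
  · exact nonempty_preirreducible_inter V₁.isOpen V₂.isOpen hV₁ne hV₂ne
  · rintro y ⟨hy₁, hy₂⟩
    rw [LscDim.dim_fiber_eq_dim_preimage, LscDim.dim_preimage_eq_iSup]
    apply le_antisymm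
    · refine iSup_le ?_
      rintro ⟨x, hx⟩
      by_contra hcon
      have := hV₁ x hcon
      rw [show f x = y from hx] at this
      exact this hy₁
    · obtain ⟨t, ht⟩ := hV₂ hy₂
      have hsp : x₀ ⤳ I.subschemeι t := by
        rw [specializes_iff_mem_closure, ← hrange]
        exact ⟨t, rfl⟩
      have h1 := Groth.Agent.Helper5.MaxPt.fibreDimAt_le_of_specializes f x₀ _ hsp
      rw [hx₀n] at h1
      exact h1.trans (le_iSup (fun x : ↥(f ⁻¹' {y}) => FlatMor.fibreDimAt f x.1)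
        ⟨I.subschemeι t, ht⟩)

end Groth.Agent.Helper5.GenFib
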