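import Mathlib
import Groth.Prelude

set_option autoImplicit false
set_option linter.unusedSectionVars false
universe u

open AlgebraicGeometry CategoryTheory CategoryTheory.Limits
open MonoidalCategory CartesianMonoidalCategory MonObj

namespace Groth.Agent.Helper5.FlatOrbit

variable {S : Scheme.{u}} {G X : Over S} [GrpObj G] (a : AlgGrp.Action G X)

/-- the action on `T`-points -/
noncomputable def sm {T : Over S} (g : T ⟶ G) (x : T ⟶ X) : T ⟶ X := lift g x ≫ a.act

theorem comp_sm {T T' : Over S} (f : T' ⟶ T) (g : T ⟶ G) (x : T ⟶ X) :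
    f ≫ sm a g x = sm a (f ≫ g) (f ≫ x) := by
  simp only [sm, ← Category.assoc, comp_lift]

theorem one_sm {T : Over S} (x : T ⟶ X) : sm a (1 : T ⟶ G) x = x := by
  have h1 : lift (1 : T ⟶ G) x = lift (toUnit T) x ≫ (η[G] ▷ X) := by
    ext
    · simp [Hom.one_def]
    · simp
  rw [sm, h1, Category.assoc, a.one_act]
  simp

theorem mul_sm {T : Over S} (g h : T ⟶ G) (x : T ⟶ X) :
    sm a (g * h) x = sm a g (sm a h x) := by
  have h1 : lift (g * h) x = lift (lift g h) x ≫ (μ[G] ▷ X) := by
    ext
    · simp [Hom.mul_def]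
    · simp
  have h2 : lift (lift g h) x ≫ (α_ G G X).hom = lift g (lift h x) := by
    ext <;> simp
  have h3 : lift g (lift h x) ≫ (G ◁ a.act) = lift g (lift h x ≫ a.act) := by
    ext <;> simp
  rw [sm, h1, Category.assoc, a.mul_act, reassoc_of% h2, reassoc_of% h3]
  rfl

theorem act_eq : a.act = sm a (fst G X) (snd G X) := by
  simp [sm]

/-- the shear map `(g, x) ↦ (g, g x)` -/
noncomputable def shear : G ⊗ X ⟶ G ⊗ X := lift (fst G X) a.act

/-- the inverse shear map `(g, x) ↦ (g, g⁻¹ x)` -/
noncomputable def shearInv : G ⊗ X ⟶ G ⊗ X := lift (fst G X) (sm a (fst G X)⁻¹ (snd G X))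

theorem shear_shearInv : shear a ≫ shearInv a = 𝟙 _ := by
  have h1 : shear a ≫ fst G X = fst G X := by simp [shear]
  have h2 : shear a ≫ snd G X = sm a (fst G X) (snd G X) := by simp [shear, act_eq a]
  ext
  · simp [shearInv, h1]
  · simp only [shearInv, Category.assoc, lift_snd, Category.id_comp, comp_sm, GrpObj.comp_inv,
      h1, h2]
    rw [← mul_sm, inv_mul_cancel, one_sm]

theorem shearInv_shear : shearInv a ≫ shear a = 𝟙 _ := by
  have h1 : shearInv a ≫ fst G X = fst G X := by simp [shearInv]
  have h2 : shearInv a ≫ snd G X = sm a (fst G X)⁻¹ (snd G X) := by simp [shearInv]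
  ext
  · simp [shear, h1]
  · simp only [shear, Category.assoc, lift_snd, Category.id_comp]
    rw [act_eq a, comp_sm, h1, h2, ← mul_sm, mul_inv_cancel, one_sm]

theorem shear_snd : shear a ≫ snd G X = a.act := by simp [shear]

instance : IsIso (shear a) := ⟨shearInv a, shear_shearInv a, shearInv_shear a⟩

/-- the action morphism is flat if `G` is -/
theorem flat_act [Flat G.hom] : Flat a.act.left := by
  have h : a.act.left = (shear a).left ≫ (snd G X).left := by
    rw [← Over.comp_left, shear_snd]
  rw [h]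
  have : Flat (snd G X).left := by
    change Flat (pullback.snd G.hom X.hom)
    infer_instance
  have : IsIso (shear a).left := (Over.forget S).map_isIso (shear a)
  infer_instance

/-- orbit map on points -/
theorem comp_orbitMap {T : Over S} (o : 𝟙_ (Over S) ⟶ X) (g : T ⟶ G) :
    g ≫ a.orbitMap o = sm a g (toUnit T ≫ o) := by
  have : g ≫ lift (𝟙 G) (toUnit G ≫ o) = lift g (toUnit T ≫ o) := by
    ext <;> simp
  rw [AlgGrp.Action.orbitMap, reassoc_of% this, sm]

/-- equivariance of the orbit map -/
theorem whiskerLeft_orbitMap_act (o : 𝟙_ (Over S) ⟶ X) :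
    (G ◁ a.orbitMap o) ≫ a.act = μ[G] ≫ a.orbitMap o := by
  have h1 : (G ◁ a.orbitMap o) = lift (fst G G) (snd G G ≫ a.orbitMap o) := by
    ext <;> simp
  have h2 : (μ[G] : G ⊗ G ⟶ G) = fst G G * snd G G := by
    rw [Hom.mul_def]; simp
  rw [h1, comp_orbitMap, comp_orbitMap, h2, mul_sm]
  rfl

/-- the regular action -/
noncomputable def regular (G : Over S) [GrpObj G] : AlgGrp.Action G G where
  act := μ[G]
  one_act := MonObj.one_mul G
  mul_act := MonObj.mul_assoc G

end Groth.Agent.Helper5.FlatOrbit
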