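import Mathlib
import Groth.Prelude

set_option autoImplicit false
set_option linter.unusedSectionVars false
set_option linter.style.haveILetI false
universe u v

open CategoryTheory MonoidalCategory CartesianMonoidalCategory MonObj GrpObj

namespace Groth.Agent.Helper5.GrpDense

section
variable {C : Type u} [Category.{v} C] [CartesianMonoidalCategory C]

/-- left translation by a `T`-valued point, as an endomorphism of `G ⊗ T` over `T` -/
def transl (G T : C) [GrpObj G] (x₀ : T ⟶ G) : G ⊗ T ⟶ G ⊗ T :=
  lift ((snd G T ≫ x₀) * fst G T) (snd G T)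

theorem transl_fst (G T : C) [GrpObj G] (x₀ : T ⟶ G) :
    transl G T x₀ ≫ fst G T = (snd G T ≫ x₀) * fst G T := lift_fst _ _

theorem transl_snd (G T : C) [GrpObj G] (x₀ : T ⟶ G) :
    transl G T x₀ ≫ snd G T = snd G T := lift_snd _ _

theorem transl_comp (G T : C) [GrpObj G] (x₀ y₀ : T ⟶ G) :
    transl G T x₀ ≫ transl G T y₀ = transl G T (y₀ * x₀) := by
  apply CartesianMonoidalCategory.hom_ext
  · rw [Category.assoc, transl_fst, MonObj.comp_mul, ← Category.assoc, transl_snd, transl_fst,
      transl_fst, MonObj.comp_mul, _root_.mul_assoc]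
  · rw [Category.assoc, transl_snd, transl_snd, transl_snd]

theorem transl_one (G T : C) [GrpObj G] : transl G T (1 : T ⟶ G) = 𝟙 _ := by
  apply CartesianMonoidalCategory.hom_ext
  · rw [transl_fst, MonObj.comp_one, _root_.one_mul, Category.id_comp]
  · rw [transl_snd, Category.id_comp]

instance isIso_transl (G T : C) [GrpObj G] (x₀ : T ⟶ G) : IsIso (transl G T x₀) :=
  ⟨transl G T x₀⁻¹, by rw [transl_comp, inv_mul_cancel, transl_one],
    by rw [transl_comp, mul_inv_cancel, transl_one]⟩

end

end Groth.Agent.Helper5.GrpDense
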