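import Mathlib
import Groth.Agent.Helper5.GrpDense1
import Groth.Prelude

set_option autoImplicit false
set_option linter.unusedSectionVars false
set_option linter.style.haveILetI false
universe u v

open CategoryTheory MonoidalCategory CartesianMonoidalCategory MonObj GrpObj

namespace Groth.Agent.Helper5.GrpDense

section
variable {C : Type u} [Category.{v} C] [CartesianMonoidalCategory C]

/-- `u ↦ u⁻¹ · x₀` on `G ⊗ T` over `T` -/
def invTransl (G T : C) [GrpObj G] (x₀ : T ⟶ G) : G ⊗ T ⟶ G ⊗ T :=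
  lift ((fst G T)⁻¹ * (snd G T ≫ x₀)) (snd G T)

/-- `v ↦ x₀ · v⁻¹` on `G ⊗ T` over `T` -/
def invTransl' (G T : C) [GrpObj G] (x₀ : T ⟶ G) : G ⊗ T ⟶ G ⊗ T :=
  lift ((snd G T ≫ x₀) * (fst G T)⁻¹) (snd G T)

theorem invTransl_fst (G T : C) [GrpObj G] (x₀ : T ⟶ G) :
    invTransl G T x₀ ≫ fst G T = (fst G T)⁻¹ * (snd G T ≫ x₀) := lift_fst _ _

theorem invTransl_snd (G T : C) [GrpObj G] (x₀ : T ⟶ G) :
    invTransl G T x₀ ≫ snd G T = snd G T := lift_snd _ _

theorem invTransl'_fst (G T : C) [GrpObj G] (x₀ : T ⟶ G) :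
    invTransl' G T x₀ ≫ fst G T = (snd G T ≫ x₀) * (fst G T)⁻¹ := lift_fst _ _

theorem invTransl'_snd (G T : C) [GrpObj G] (x₀ : T ⟶ G) :
    invTransl' G T x₀ ≫ snd G T = snd G T := lift_snd _ _

theorem invTransl_comp (G T : C) [GrpObj G] (x₀ : T ⟶ G) :
    invTransl G T x₀ ≫ invTransl' G T x₀ = 𝟙 _ := by
  apply CartesianMonoidalCategory.hom_ext
  · rw [Category.assoc, invTransl'_fst, MonObj.comp_mul, GrpObj.comp_inv, ← Category.assoc,
      invTransl_snd, invTransl_fst, Category.id_comp, _root_.mul_inv_rev, _root_.inv_inv,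
      mul_inv_cancel_left]
  · rw [Category.assoc, invTransl'_snd, invTransl_snd, Category.id_comp]

theorem invTransl'_comp (G T : C) [GrpObj G] (x₀ : T ⟶ G) :
    invTransl' G T x₀ ≫ invTransl G T x₀ = 𝟙 _ := by
  apply CartesianMonoidalCategory.hom_ext
  · rw [Category.assoc, invTransl_fst, MonObj.comp_mul, GrpObj.comp_inv, ← Category.assoc,
      invTransl'_snd, invTransl'_fst, Category.id_comp, _root_.mul_inv_rev, _root_.inv_inv,
      inv_mul_cancel_right]
  · rw [Category.assoc, invTransl_snd, invTransl'_snd, Category.id_comp]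

instance isIso_invTransl (G T : C) [GrpObj G] (x₀ : T ⟶ G) : IsIso (invTransl G T x₀) :=
  ⟨invTransl' G T x₀, invTransl_comp G T x₀, invTransl'_comp G T x₀⟩

/-- `u · (u⁻¹ · x₀) = x₀` -/
theorem fst_mul_invTransl_fst (G T : C) [GrpObj G] (x₀ : T ⟶ G) :
    fst G T * (invTransl G T x₀ ≫ fst G T) = snd G T ≫ x₀ := by
  rw [invTransl_fst, mul_inv_cancel_left]

end

end Groth.Agent.Helper5.GrpDense
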