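import Mathlib
import Groth.Agent.Helper5.GrpDense4
import Groth.Prelude

set_option autoImplicit false
set_option linter.unusedSectionVars false
set_option linter.style.haveILetI false
universe u

open AlgebraicGeometry CategoryTheory CategoryTheory.Limits TopologicalSpace
open MonoidalCategory CartesianMonoidalCategory MonObj GrpObj

namespace Groth.Agent.Helper5.GrpDense

/-- a surjective closed immersion is universally open -/
theorem universallyOpen_of_isClosedImmersion_of_surjective {X Y : Scheme.{u}} (f : X ⟶ Y)
    [IsClosedImmersion f] [Surjective f] : UniversallyOpen f := by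
  rw [UniversallyOpen.eq]
  refine MorphismProperty.universally_mk' _ _ fun {T} g _ => ?_
  have h1 : Topology.IsClosedEmbedding (pullback.fst g f) :=
    (pullback.fst g f).isClosedEmbedding
  have h2 : Function.Surjective (pullback.fst g f) := (pullback.fst g f).surjective
  have h3 : Topology.IsOpenEmbedding (pullback.fst g f) :=
    ⟨h1.isEmbedding, by rw [h2.range_eq]; exact isOpen_univ⟩
  exact h3.isOpenMap

/-- a morphism from the spectrum of a field to the spectrum of an artinian local ring is
universally open -/
theorem universallyOpen_of_field_of_artinian (A : Type u) [CommRing A] [IsArtinianRing A]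
    [IsLocalRing A] (K : Type u) [Field K]
    (t : Spec (.of K) ⟶ Spec (.of A)) : UniversallyOpen t := by
  obtain ⟨φ, rfl⟩ := Spec.map_surjective t
  let k := IsLocalRing.ResidueField A
  -- `φ` kills the maximal ideal
  have hker : IsLocalRing.maximalIdeal A ≤ RingHom.ker φ.hom := by
    haveI : (RingHom.ker φ.hom).IsPrime := RingHom.ker_isPrime φ.hom
    haveI : (RingHom.ker φ.hom).IsMaximal := IsArtinianRing.isMaximal_of_isPrime _
    exact (IsLocalRing.eq_maximalIdeal inferInstance).ge
  let ψ : k →+* K := Ideal.Quotient.lift _ φ.hom (fun a ha => hker ha)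
  have hψ : ψ.comp (IsLocalRing.residue A) = φ.hom := Ideal.Quotient.lift_comp_mk _ _ _
  have hfac : Spec.map φ = Spec.map (CommRingCat.ofHom ψ) ≫
      Spec.map (CommRingCat.ofHom (IsLocalRing.residue A)) := by
    rw [← Spec.map_comp, ← CommRingCat.ofHom_comp, hψ, CommRingCat.ofHom_hom]
  rw [hfac]
  haveI : IsClosedImmersion (Spec.map (CommRingCat.ofHom (IsLocalRing.residue A))) :=
    IsClosedImmersion.spec_of_surjective _ Ideal.Quotient.mk_surjective
  haveI : Surjective (Spec.map (CommRingCat.ofHom (IsLocalRing.residue A))) := by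
    constructor
    intro y
    haveI : Subsingleton (Spec (.of A)) := by
      show Subsingleton (PrimeSpectrum A)
      infer_instance
    haveI : Nonempty (Spec (.of k)) := by
      show Nonempty (PrimeSpectrum k)
      infer_instance
    obtain ⟨x⟩ := (inferInstance : Nonempty (Spec (.of k)))
    exact ⟨x, Subsingleton.elim _ _⟩
  haveI : UniversallyOpen (Spec.map (CommRingCat.ofHom (IsLocalRing.residue A))) :=
    universallyOpen_of_isClosedImmersion_of_surjective _
  haveI : UniversallyOpen (Spec.map (CommRingCat.ofHom ψ)) := by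
    haveI : Subsingleton (Spec (.of k)) := by
      show Subsingleton (PrimeSpectrum k)
      infer_instance
    infer_instance
  infer_instance

theorem s3015 (A : Type u) [CommRing A] [IsArtinianRing A] [IsLocalRing A]
    (G : Over (Spec (CommRingCat.of A))) [GrpObj G] (U V : G.left.Opens)
    (hU : Dense (U : Set G.left)) (hV : Dense (V : Set G.left)) (g : G.left) :
    ∃ z : ↥(G ⊗ G).left, (fst G G).left.base z ∈ U ∧ (snd G G).left.base z ∈ V ∧
      μ[G].left.base z = g := by
  let T₀ : Over (Spec (CommRingCat.of A)) := Over.mk (G.left.fromSpecResidueField g ≫ G.hom)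
  let x₀ : T₀ ⟶ G := Over.homMk (G.left.fromSpecResidueField g) rfl
  let P : Over (Spec (CommRingCat.of A)) := G ⊗ T₀
  haveI : UniversallyOpen T₀.hom :=
    universallyOpen_of_field_of_artinian A (G.left.residueField g) _
  have hopen : IsOpenMap (fst G T₀).left := by
    haveI : UniversallyOpen (pullback.fst G.hom T₀.hom) := inferInstance
    exact (pullback.fst G.hom T₀.hom).isOpenMap
  let UT : P.left.Opens := (fst G T₀).left ⁻¹ᵁ U
  let VT : P.left.Opens := (fst G T₀).left ⁻¹ᵁ V
  have hUT : Dense (UT : Set P.left) := hU.preimage hopen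
  have hVT : Dense (VT : Set P.left) := hV.preimage hopen
  let σ : P ⟶ P := invTransl G T₀ x₀
  haveI : IsIso σ.left := inferInstanceAs (IsIso ((Over.forget _).map σ))
  let W2 : P.left.Opens := σ.left ⁻¹ᵁ VT
  have hW2 : Dense (W2 : Set P.left) :=
    hVT.preimage (Scheme.Hom.homeomorph σ.left).isOpenMap
  have hne : Nonempty P.left := by
    let p0 : T₀.left ⟶ P.left := pullback.lift (G.left.fromSpecResidueField g) (𝟙 _)
      (by simp [T₀])
    exact ⟨p0 (IsLocalRing.closedPoint _)⟩
  have hW12 : Dense ((UT : Set P.left) ∩ (W2 : Set P.left)) :=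
    hUT.inter_of_isOpen_right hW2 W2.isOpen
  obtain ⟨w, hw1, hw2⟩ := hW12.nonempty
  let q : P ⟶ G ⊗ G := lift (fst G T₀) (σ ≫ fst G T₀)
  refine ⟨q.left w, ?_, ?_, ?_⟩
  · have h1 : q ≫ fst G G = fst G T₀ := lift_fst _ _
    have h2 : (fst G G).left (q.left w) = (fst G T₀).left w := by
      rw [← Scheme.Hom.comp_apply, ← Over.comp_left, h1]
    exact h2 ▸ hw1
  · have h1 : q ≫ snd G G = σ ≫ fst G T₀ := lift_snd _ _
    have h2 : (snd G G).left (q.left w) = (fst G T₀).left (σ.left w) := by
      rw [← Scheme.Hom.comp_apply, ← Over.comp_left, h1, Over.comp_left, Scheme.Hom.comp_apply]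
    exact h2 ▸ hw2
  · have h1 : q ≫ μ[G] = snd G T₀ ≫ x₀ := by
      show lift (fst G T₀) (σ ≫ fst G T₀) ≫ μ[G] = _
      exact fst_mul_invTransl_fst G T₀ x₀
    have h2 : μ[G].left (q.left w) = x₀.left ((snd G T₀).left w) := by
      rw [← Scheme.Hom.comp_apply, ← Over.comp_left, h1, Over.comp_left, Scheme.Hom.comp_apply]
    refine h2.trans ?_
    exact Scheme.fromSpecResidueField_apply _ _

end Groth.Agent.Helper5.GrpDense
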