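import Mathlib
import Groth.Agent.Helper5.GrpDense5
import Groth.Prelude

set_option autoImplicit false
set_option linter.unusedSectionVars false
set_option linter.style.haveILetI false
universe u

open AlgebraicGeometry CategoryTheory CategoryTheory.Limits TopologicalSpace

namespace Groth.Agent.Helper5.GrpDense

/-- a surjective closed immersion is a homeomorphism on underlying spaces -/
theorem isHomeomorph_of_isClosedImmersion_of_surjective {X Y : Scheme.{u}} (f : X ⟶ Y)
    [IsClosedImmersion f] [Surjective f] : IsHomeomorph f := by
  have h1 : Topology.IsClosedEmbedding f := f.isClosedEmbedding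
  have h2 : Function.Surjective f := f.surjective
  have h3 : Topology.IsOpenEmbedding f :=
    ⟨h1.isEmbedding, by rw [h2.range_eq]; exact isOpen_univ⟩
  exact ⟨h1.continuous, h3.isOpenMap, h1.injective, h2⟩

/-- universal openness can be checked after base change along a surjective closed immersion -/
theorem universallyOpen_of_pullback_snd_closedImmersion {X Y Y₀ : Scheme.{u}} (f : X ⟶ Y)
    (i : Y₀ ⟶ Y) [IsClosedImmersion i] [Surjective i]
    [h : UniversallyOpen (pullback.snd f i)] : UniversallyOpen f := by
  rw [UniversallyOpen.eq]
  refine MorphismProperty.universally_mk' _ _ fun {T} g _ => ?_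
  -- `fT : X ×_Y T → T`
  let fT := pullback.fst g f
  -- base change of `i` to `T`
  let j : pullback g i ⟶ T := pullback.fst g i
  let j' : pullback fT j ⟶ pullback g f := pullback.fst fT j
  let f' : pullback fT j ⟶ pullback g i := pullback.snd fT j
  have hj : IsHomeomorph j := isHomeomorph_of_isClosedImmersion_of_surjective j
  have hj' : IsHomeomorph j' := isHomeomorph_of_isClosedImmersion_of_surjective j'
  -- `f'` is a base change of `pullback.snd f i`
  have hf' : UniversallyOpen f' := by
    have big : IsPullback (j' ≫ pullback.snd g f) f' f (j ≫ g) :=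
      (IsPullback.of_hasPullback fT j).paste_horiz (IsPullback.of_hasPullback g f).flip
    have e : j ≫ g = pullback.snd g i ≫ i := pullback.condition
    rw [e] at big
    have hl : IsPullback (pullback.lift (j' ≫ pullback.snd g f) (f' ≫ pullback.snd g i)
        (by rw [Category.assoc, Category.assoc]; exact big.w)) f' (pullback.snd f i)
        (pullback.snd g i) :=
      IsPullback.of_right (by rw [pullback.lift_fst]; exact big)
        (by rw [pullback.lift_snd]) (IsPullback.of_hasPullback f i)
    exact MorphismProperty.of_isPullback hl h
  have hopen : IsOpenMap f' := f'.isOpenMap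
  have hw : j' ≫ fT = f' ≫ j := pullback.condition
  intro U hU
  have hU' : IsOpen (j' ⁻¹' U) := hU.preimage j'.continuous
  have h1 : fT '' U = j '' (f' '' (j' ⁻¹' U)) := by
    ext t
    constructor
    · rintro ⟨x, hx, rfl⟩
      obtain ⟨x', rfl⟩ := hj'.surjective x
      refine ⟨f' x', ⟨x', hx, rfl⟩, ?_⟩
      rw [← Scheme.Hom.comp_apply, ← hw, Scheme.Hom.comp_apply]
    · rintro ⟨_, ⟨x', hx', rfl⟩, rfl⟩
      refine ⟨j' x', hx', ?_⟩
      rw [← Scheme.Hom.comp_apply, hw, Scheme.Hom.comp_apply]
  show IsOpen (fT '' U)
  rw [h1]
  exact hj.isOpenMap _ (hopen _ hU')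

/-- every morphism to the spectrum of an artinian local ring is universally open -/
theorem universallyOpen_of_artinian (A : Type u) [CommRing A] [IsArtinianRing A]
    [IsLocalRing A] {X : Scheme.{u}} (f : X ⟶ Spec (CommRingCat.of A)) : UniversallyOpen f := by
  let k := IsLocalRing.ResidueField A
  let i : Spec (CommRingCat.of k) ⟶ Spec (CommRingCat.of A) :=
    Spec.map (CommRingCat.ofHom (IsLocalRing.residue A))
  haveI : IsClosedImmersion i :=
    IsClosedImmersion.spec_of_surjective _ Ideal.Quotient.mk_surjective
  haveI : Surjective i := by
    constructor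
    intro y
    haveI : Subsingleton (Spec (.of A)) := by
      show Subsingleton (PrimeSpectrum A)
      infer_instance
    haveI : Nonempty (Spec (.of k)) := by
      show Nonempty (PrimeSpectrum k)
      infer_instance
    obtain ⟨x⟩ := (inferInstance : Nonempty (Spec (.of k)))
    exact ⟨x, Subsingleton.elim _ _⟩
  haveI : UniversallyOpen (pullback.snd f i) := by
    haveI : Subsingleton (Spec (.of k)) := by
      show Subsingleton (PrimeSpectrum k)
      infer_instance
    infer_instance
  exact universallyOpen_of_pullback_snd_closedImmersion f i

end Groth.Agent.Helper5.GrpDense
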