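import Mathlib
import Groth.Agent.Helper5.ArtUO
import Groth.Prelude

set_option autoImplicit false
set_option linter.unusedSectionVars false
set_option linter.style.haveILetI false
universe u

open AlgebraicGeometry CategoryTheory CategoryTheory.Limits TopologicalSpace
open MonoidalCategory CartesianMonoidalCategory MonObj GrpObj

namespace Groth.Agent.Helper5.GrpDense

section
variable {S : Scheme.{u}}

/-- `u ▷ Y` is the base change of `u` along the first projection -/
theorem isPullback_whiskerRight {H G : Over S} (u : H ⟶ G) (Y : Over S) :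
    IsPullback (u ▷ Y).left (fst H Y).left (fst G Y).left u.left := by
  have hr : IsPullback (snd G Y).left (fst G Y).left Y.hom G.hom :=
    (IsPullback.of_hasPullback G.hom Y.hom).flip
  have hb : IsPullback (snd H Y).left (fst H Y).left Y.hom H.hom :=
    (IsPullback.of_hasPullback H.hom Y.hom).flip
  have e1 : (u ▷ Y).left ≫ (snd G Y).left = (snd H Y).left := by
    rw [← Over.comp_left, whiskerRight_snd]
  have e2 : u.left ≫ G.hom = H.hom := Over.w u
  have e3 : (u ▷ Y).left ≫ (fst G Y).left = (fst H Y).left ≫ u.left := by
    rw [← Over.comp_left, ← Over.comp_left, whiskerRight_fst]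
  refine IsPullback.of_right ?_ e3 hr
  rw [e1, e2]
  exact hb

theorem range_whiskerRight {H G : Over S} (u : H ⟶ G) (Y : Over S) :
    Set.range (u ▷ Y).left = (fst G Y).left ⁻¹' Set.range u.left := by
  have hp := isPullback_whiskerRight u Y
  ext z
  constructor
  · rintro ⟨w, rfl⟩
    refine ⟨(fst H Y).left w, ?_⟩
    rw [← Scheme.Hom.comp_apply, ← hp.w, Scheme.Hom.comp_apply]
  · rintro ⟨h, hh⟩
    obtain ⟨w, hw1, hw2⟩ := Scheme.Pullback.exists_preimage_pullback
      (f := (fst G Y).left) (g := u.left) z h hh.symm
    refine ⟨hp.isoPullback.inv w, ?_⟩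
    rw [← Scheme.Hom.comp_apply, IsPullback.isoPullback_inv_fst]
    exact hw1

end

end Groth.Agent.Helper5.GrpDense
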