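import Mathlib
import Groth.Agent.Helper5.GrpClosed1
import Groth.Prelude

set_option autoImplicit false
set_option linter.unusedSectionVars false
set_option linter.style.haveILetI false
universe u

open AlgebraicGeometry CategoryTheory CategoryTheory.Limits TopologicalSpace
open MonoidalCategory CartesianMonoidalCategory MonObj GrpObj

namespace Groth.Agent.Helper5.GrpDense

/-- a locally closed set is the trace of an open set on its closure -/
theorem exists_isOpen_eq_closure_inter {X : Type*} [TopologicalSpace X] (s : Set X)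
    (hs : IsLocallyClosed s) : ∃ W : Set X, IsOpen W ∧ s = closure s ∩ W := by
  have ho := hs.isOpen_preimage_val_closure
  obtain ⟨W, hWo, hWe⟩ := isOpen_induced_iff.1 ho
  refine ⟨W, hWo, ?_⟩
  ext x
  constructor
  · intro hx
    have hxc : x ∈ closure s := subset_closure hx
    refine ⟨hxc, ?_⟩
    have : (⟨x, hxc⟩ : closure s) ∈ Subtype.val ⁻¹' W := by rw [hWe]; exact hx
    exact this
  · rintro ⟨hxc, hxW⟩
    have : (⟨x, hxc⟩ : closure s) ∈ Subtype.val ⁻¹' s := by rw [← hWe]; exact hxW
    exact this

section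
variable {S : Scheme.{u}} {G H : Over S} [GrpObj G] [GrpObj H] (u : H ⟶ G) [IsMonHom u]

/-- the map `(x, h) ↦ x u(h)⁻¹` -/
noncomputable def αbar : G ⊗ H ⟶ G := fst G H * (snd G H ≫ u)⁻¹

theorem whiskerRight_αbar : (u ▷ H) ≫ αbar u = (fst H H * (snd H H)⁻¹) ≫ u := by
  unfold αbar
  rw [MonObj.comp_mul, GrpObj.comp_inv, whiskerRight_fst, ← Category.assoc,
    whiskerRight_snd, MonObj.mul_comp, GrpObj.inv_comp]

/-- the closure of the image of a subgroup is stable under right translation by the subgroup -/
theorem claim1 (hopen : IsOpenMap (fst G H).left) :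
    (fst G H).left ⁻¹' closure (Set.range u.left) ⊆
      (αbar u).left ⁻¹' closure (Set.range u.left) := by
  have h1 : (fst G H).left ⁻¹' closure (Set.range u.left) =
      closure ((fst G H).left ⁻¹' Set.range u.left) :=
    hopen.preimage_closure_eq_closure_preimage (fst G H).left.continuous _
  rw [h1]
  apply closure_minimal _ (isClosed_closure.preimage (αbar u).left.continuous)
  rw [← range_whiskerRight u H]
  rintro _ ⟨w, rfl⟩
  apply subset_closure
  show (αbar u).left ((u ▷ H).left w) ∈ Set.range u.left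
  rw [← Scheme.Hom.comp_apply, ← Over.comp_left, whiskerRight_αbar, Over.comp_left,
    Scheme.Hom.comp_apply]
  exact ⟨_, rfl⟩

/-- the shear map `(x, h) ↦ (x u(h)⁻¹, h)` -/
noncomputable def shb : G ⊗ H ⟶ G ⊗ H := lift (αbar u) (snd G H)
/-- the inverse shear map -/
noncomputable def sh : G ⊗ H ⟶ G ⊗ H := lift (fst G H * (snd G H ≫ u)) (snd G H)

theorem shb_sh : shb u ≫ sh u = 𝟙 _ := by
  unfold shb sh
  apply CartesianMonoidalCategory.hom_ext
  · rw [Category.assoc, lift_fst, MonObj.comp_mul, lift_fst, ← Category.assoc, lift_snd,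
      Category.id_comp]
    unfold αbar
    rw [inv_mul_cancel_right]
  · rw [Category.assoc, lift_snd, lift_snd, Category.id_comp]

theorem shb_fst : shb u ≫ fst G H = αbar u := lift_fst _ _

theorem whisker_sh_fst : (u ▷ H) ≫ sh u ≫ fst G H = (fst H H * snd H H) ≫ u := by
  unfold sh
  rw [lift_fst, MonObj.comp_mul, whiskerRight_fst, ← Category.assoc, whiskerRight_snd,
    MonObj.mul_comp]

/-- if `x u(h)⁻¹` lies in the image of `u` then so does `x` -/
theorem mem_range_of_αbar_mem (z₁ : (G ⊗ H).left)
    (hz : (αbar u).left z₁ ∈ Set.range u.left) : (fst G H).left z₁ ∈ Set.range u.left := by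
  have hz₂ : (shb u).left z₁ ∈ Set.range (u ▷ H).left := by
    rw [range_whiskerRight u H]
    show (fst G H).left ((shb u).left z₁) ∈ Set.range u.left
    rw [← Scheme.Hom.comp_apply, ← Over.comp_left, shb_fst]
    exact hz
  obtain ⟨w, hw⟩ := hz₂
  have hz₁' : (sh u).left ((shb u).left z₁) = z₁ := by
    rw [← Scheme.Hom.comp_apply, ← Over.comp_left, shb_sh]
    rfl
  have h5 : (fst G H).left z₁ = u.left ((fst H H * snd H H).left w) := by
    rw [← Scheme.Hom.comp_apply, ← Over.comp_left, ← whisker_sh_fst, Over.comp_left,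
      Over.comp_left, Scheme.Hom.comp_apply, Scheme.Hom.comp_apply, hw, hz₁']
  rw [h5]
  exact ⟨_, rfl⟩

end

end Groth.Agent.Helper5.GrpDense
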