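import Mathlib
import Groth.Agent.Helper5.GrpClosed2
import Groth.Prelude

set_option autoImplicit false
set_option linter.unusedSectionVars false
set_option linter.style.haveILetI false
universe u

open AlgebraicGeometry CategoryTheory CategoryTheory.Limits TopologicalSpace
open MonoidalCategory CartesianMonoidalCategory MonObj GrpObj

namespace Groth.Agent.Helper5.GrpDense

section
variable {S : Scheme.{u}} {G H : Over S} [GrpObj G] [GrpObj H] (u : H ⟶ G) [IsMonHom u]
variable (T : Over S) (x₀ : T ⟶ G)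

/-- `(h, t) ↦ (x₀(t), h)` -/
noncomputable def q₁ : H ⊗ T ⟶ G ⊗ H := lift (snd H T ≫ x₀) (fst H T)

omit [GrpObj G] [GrpObj H] in
theorem q₁_fst : q₁ (G := G) T x₀ ≫ fst G H = snd H T ≫ x₀ := lift_fst _ _

theorem q₁_αbar : q₁ T x₀ ≫ αbar u = (u ▷ T) ≫ invTransl' G T x₀ ≫ fst G T := by
  unfold q₁ αbar
  rw [MonObj.comp_mul, GrpObj.comp_inv, lift_fst, ← Category.assoc, lift_snd,
    invTransl'_fst, MonObj.comp_mul, GrpObj.comp_inv, ← Category.assoc,
    whiskerRight_snd, whiskerRight_fst]

/-- the section of `G ⊗ T → T` given by `x₀` -/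
noncomputable def gsec : T ⟶ G ⊗ T := lift x₀ (𝟙 T)

omit [GrpObj G] in
theorem gsec_fst : gsec T x₀ ≫ fst G T = x₀ := lift_fst _ _

theorem gsec_invTransl'_fst : gsec T x₀ ≫ invTransl' G T x₀ ≫ fst G T = 1 := by
  unfold gsec
  rw [invTransl'_fst, MonObj.comp_mul, GrpObj.comp_inv, ← Category.assoc, lift_snd, lift_fst,
    Category.id_comp, mul_inv_cancel]

theorem one_left_mem_range (t : T.left) : (1 : T ⟶ G).left t ∈ Set.range u.left := by
  have e3 : (1 : T ⟶ G) = (toUnit T ≫ η[H]) ≫ u := by
    rw [CategoryTheory.Hom.one_def, Category.assoc, IsMonHom.one_hom]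
  rw [e3, Over.comp_left, Scheme.Hom.comp_apply]
  exact ⟨_, rfl⟩

/-- the key step: a point of the closure of the image lies in the image -/
theorem mem_range_of_mem_closure (hopenH : IsOpenMap (fst G H).left)
    (g : G.left) (hg : g ∈ closure (Set.range u.left))
    (W : Set G.left) (hWo : IsOpen W)
    (hW : Set.range u.left = closure (Set.range u.left) ∩ W)
    (hopenT : IsOpenMap (fst G T).left) (pt₀ : T.left) (hx₀ : ∀ t, x₀.left t = g) :
    g ∈ Set.range u.left := by
  have hRcl : closure (Set.range (u ▷ T).left) =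
      (fst G T).left ⁻¹' closure (Set.range u.left) := by
    rw [range_whiskerRight u T]
    exact (hopenT.preimage_closure_eq_closure_preimage (fst G T).left.continuous _).symm
  have hg'cl : (gsec T x₀).left pt₀ ∈ closure (Set.range (u ▷ T).left) := by
    rw [hRcl]
    show (fst G T).left ((gsec T x₀).left pt₀) ∈ closure (Set.range u.left)
    rw [← Scheme.Hom.comp_apply, ← Over.comp_left, gsec_fst, hx₀]
    exact hg
  have hOo : IsOpen ((invTransl' G T x₀).left ⁻¹' ((fst G T).left ⁻¹' W)) :=
    (hWo.preimage (fst G T).left.continuous).preimage (invTransl' G T x₀).left.continuous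
  have hg'O : (gsec T x₀).left pt₀ ∈ (invTransl' G T x₀).left ⁻¹' ((fst G T).left ⁻¹' W) := by
    show (fst G T).left ((invTransl' G T x₀).left ((gsec T x₀).left pt₀)) ∈ W
    rw [← Scheme.Hom.comp_apply, ← Scheme.Hom.comp_apply, ← Over.comp_left, ← Over.comp_left,
      gsec_invTransl'_fst]
    have := one_left_mem_range u T pt₀
    rw [hW] at this
    exact this.2
  obtain ⟨v, hvO, ⟨h₁, hh₁⟩⟩ := mem_closure_iff.1 hg'cl _ hOo hg'O
  have hz₁fst : (fst G H).left ((q₁ T x₀).left h₁) = g := by
    rw [← Scheme.Hom.comp_apply, ← Over.comp_left, q₁_fst, Over.comp_left, Scheme.Hom.comp_apply,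
      hx₀]
  have hz₁α : (αbar u).left ((q₁ T x₀).left h₁) =
      (fst G T).left ((invTransl' G T x₀).left v) := by
    rw [← hh₁, ← Scheme.Hom.comp_apply, ← Over.comp_left, q₁_αbar, Over.comp_left,
      Over.comp_left, Scheme.Hom.comp_apply, Scheme.Hom.comp_apply]
  have hαRu : (αbar u).left ((q₁ T x₀).left h₁) ∈ Set.range u.left := by
    rw [hW]
    refine ⟨claim1 u hopenH ?_, ?_⟩
    · show (fst G H).left ((q₁ T x₀).left h₁) ∈ closure (Set.range u.left)
      rw [hz₁fst]; exact hg
    · rw [hz₁α]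
      exact hvO
  have := mem_range_of_αbar_mem u _ hαRu
  rwa [hz₁fst] at this

end

end Groth.Agent.Helper5.GrpDense
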