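import Mathlib
import Groth.Agent.Helper5.GrpClosed3
import Groth.Prelude

set_option autoImplicit false
set_option linter.unusedSectionVars false
set_option linter.style.haveILetI false
universe u

open AlgebraicGeometry CategoryTheory CategoryTheory.Limits TopologicalSpace
open MonoidalCategory CartesianMonoidalCategory MonObj GrpObj

namespace Groth.Agent.Helper5.GrpDense

theorem isOpenMap_fst_of_artinian (A : Type u) [CommRing A] [IsArtinianRing A] [IsLocalRing A]
    (G Y : Over (Spec (CommRingCat.of A))) : IsOpenMap (fst G Y).left := by
  haveI : UniversallyOpen Y.hom := universallyOpen_of_artinian A Y.hom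
  haveI : UniversallyOpen (pullback.fst G.hom Y.hom) := inferInstance
  exact (pullback.fst G.hom Y.hom).isOpenMap

theorem s5384 (A : Type u) [CommRing A] [IsArtinianRing A] [IsLocalRing A]
    (G H : Over (Spec (CommRingCat.of A))) [GrpObj G] [GrpObj H]
    (u : H ⟶ G) [IsMonHom u] [IsImmersion u.left] : IsClosedImmersion u.left := by
  suffices hcl : IsClosed (Set.range u.left) from IsClosedImmersion.of_isPreimmersion _ hcl
  obtain ⟨W, hWo, hW⟩ := exists_isOpen_eq_closure_inter (Set.range u.left)
    u.left.isLocallyClosed_range
  suffices hZ : closure (Set.range u.left) ⊆ Set.range u.left by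
    have : Set.range u.left = closure (Set.range u.left) := subset_antisymm subset_closure hZ
    rw [this]; exact isClosed_closure
  intro g hg
  exact mem_range_of_mem_closure u (Over.mk (G.left.fromSpecResidueField g ≫ G.hom))
    (Over.homMk (G.left.fromSpecResidueField g) rfl) (isOpenMap_fst_of_artinian A G H) g hg W hWo hW
    (isOpenMap_fst_of_artinian A G _) (IsLocalRing.closedPoint (G.left.residueField g))
    (fun t => Scheme.fromSpecResidueField_apply _ _)

end Groth.Agent.Helper5.GrpDense
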