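import Mathlib
import Groth.Agent.Helper5.GrpClosed4
import Groth.Prelude

set_option autoImplicit false
set_option linter.unusedSectionVars false
set_option linter.style.haveILetI false
universe u

open AlgebraicGeometry CategoryTheory CategoryTheory.Limits TopologicalSpace
open MonoidalCategory CartesianMonoidalCategory

namespace Groth.Agent.Helper5.GrpDense

section
variable {S : Scheme.{u}}

/-- `Y ◁ u` is the base change of `u` along the second projection -/
theorem isPullback_whiskerLeft {H G : Over S} (Y : Over S) (u : H ⟶ G) :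
    IsPullback (Y ◁ u).left (snd Y H).left (snd Y G).left u.left := by
  have hr : IsPullback (fst Y G).left (snd Y G).left Y.hom G.hom :=
    IsPullback.of_hasPullback Y.hom G.hom
  have hb : IsPullback (fst Y H).left (snd Y H).left Y.hom H.hom :=
    IsPullback.of_hasPullback Y.hom H.hom
  have e1 : (Y ◁ u).left ≫ (fst Y G).left = (fst Y H).left := by
    rw [← Over.comp_left, whiskerLeft_fst]
  have e2 : u.left ≫ G.hom = H.hom := Over.w u
  have e3 : (Y ◁ u).left ≫ (snd Y G).left = (snd Y H).left ≫ u.left := by
    rw [← Over.comp_left, ← Over.comp_left, whiskerLeft_snd]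
  refine IsPullback.of_right ?_ e3 hr
  rw [e1, e2]
  exact hb

theorem range_whiskerLeft {H G : Over S} (Y : Over S) (u : H ⟶ G) :
    Set.range (Y ◁ u).left = (snd Y G).left ⁻¹' Set.range u.left := by
  have hp := isPullback_whiskerLeft Y u
  ext z
  constructor
  · rintro ⟨w, rfl⟩
    refine ⟨(snd Y H).left w, ?_⟩
    rw [← Scheme.Hom.comp_apply, ← hp.w, Scheme.Hom.comp_apply]
  · rintro ⟨h, hh⟩
    obtain ⟨w, hw1, hw2⟩ := Scheme.Pullback.exists_preimage_pullback
      (f := (snd Y G).left) (g := u.left) z h hh.symm
    refine ⟨hp.isoPullback.inv w, ?_⟩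
    rw [← Scheme.Hom.comp_apply, IsPullback.isoPullback_inv_fst]
    exact hw1

end

theorem isOpenMap_snd_of_artinian (A : Type u) [CommRing A] [IsArtinianRing A] [IsLocalRing A]
    (Y G : Over (Spec (CommRingCat.of A))) : IsOpenMap (snd Y G).left := by
  haveI : UniversallyOpen Y.hom := universallyOpen_of_artinian A Y.hom
  haveI : UniversallyOpen (pullback.snd Y.hom G.hom) := inferInstance
  exact (pullback.snd Y.hom G.hom).isOpenMap

theorem s5335 (A : Type u) [CommRing A] [IsArtinianRing A] [IsLocalRing A]
    (X X' Y Y' : Over (Spec (CommRingCat.of A)))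
    (f : X' ⟶ X) (g : Y' ⟶ Y) [QuasiCompact f.left] [QuasiCompact g.left]
    (hf : DenseRange f.left.base) (hg : DenseRange g.left.base) :
    DenseRange (f ⊗ₘ g).left.base ∧ QuasiCompact (f ⊗ₘ g).left := by
  have hfg : f ⊗ₘ g = (f ▷ Y') ≫ (X ◁ g) := tensorHom_def f g
  have hd1 : DenseRange (f ▷ Y').left := by
    show Dense (Set.range (f ▷ Y').left)
    rw [range_whiskerRight f Y']
    exact Dense.preimage hf (isOpenMap_fst_of_artinian A X Y')
  have hd2 : DenseRange (X ◁ g).left := by
    show Dense (Set.range (X ◁ g).left)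
    rw [range_whiskerLeft X g]
    exact Dense.preimage hg (isOpenMap_snd_of_artinian A X Y)
  haveI : QuasiCompact (f ▷ Y').left :=
    MorphismProperty.of_isPullback (isPullback_whiskerRight f Y').flip inferInstance
  haveI : QuasiCompact (X ◁ g).left :=
    MorphismProperty.of_isPullback (isPullback_whiskerLeft X g).flip inferInstance
  constructor
  · rw [hfg, Over.comp_left]
    exact hd2.comp hd1 (X ◁ g).left.continuous
  · rw [hfg, Over.comp_left]
    infer_instance

end Groth.Agent.Helper5.GrpDense
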