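import Groth.Prelude.Def_AlgSp4
import Groth.Agent.Helper4.AlgSpBasic
import Groth.Agent.Helper4.AlgSpPts
import Groth.Agent.Helper4.AlgSpPtsDesc
import Groth.Agent.Helper4.AlgSpSrc
import Mathlib

set_option autoImplicit false
universe u
open CategoryTheory CategoryTheory.Limits AlgebraicGeometry Opposite

namespace Groth.Agent.Helper5.AlgSpIso

open AlgSp

variable {S : Scheme.{u}}

/-- A morphism of sheaves representable by isomorphisms is an epimorphism. -/
theorem epi_of_repWith_iso {F G : Sp S} (f : F ⟶ G)
    (hf : RepWith (MorphismProperty.isomorphisms Scheme.{u}) f) : Epi f := by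
  constructor
  intro H h k hhk
  apply Groth.Agent.Helper4.AlgSpBasic.hom_ext_yon
  intro T g
  have hr := hf.rep
  have hpb : IsPullback (hr.fst g) ((yon S).map (hr.snd g)) f g := hr.isPullback g
  have hiso : IsIso (hr.snd g).left := hf.property _ _ _ hpb
  have hiso' : IsIso (hr.snd g) := by
    have : IsIso ((Over.forget S).map (hr.snd g)) := hiso
    exact isIso_of_reflects_iso _ (Over.forget S)
  have hiso'' : IsIso ((yon S).map (hr.snd g)) := inferInstance
  have e : g = inv ((yon S).map (hr.snd g)) ≫ hr.fst g ≫ f := by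
    rw [hpb.w, IsIso.inv_hom_id_assoc]
  rw [e]
  simp only [Category.assoc, hhk]

/-- A morphism of sheaves representable by isomorphisms is an isomorphism. -/
theorem isIso_of_repWith_iso {F G : Sp S} (f : F ⟶ G)
    (hf : RepWith (MorphismProperty.isomorphisms Scheme.{u}) f) : IsIso f := by
  have h1 : Mono f := Groth.Agent.Helper4.AlgSpBasic.mono_of_repWith
    (P := MorphismProperty.isomorphisms Scheme.{u}) (fun g hg => by
      have : IsIso g := hg
      infer_instance) f hf
  have h2 : Epi f := epi_of_repWith_iso f hf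
  exact isIso_of_mono_of_epi f

/-- A representable surjective open immersion is an isomorphism. -/
theorem isIso_of_openImmersion_surjective {F G : Sp S} (f : F ⟶ G)
    (hf : RepWith @IsOpenImmersion f) (hs : RepWith @Surjective f) : IsIso f := by
  apply isIso_of_repWith_iso
  refine ⟨hf.rep, ?_⟩
  intro T E ξ c e sq
  have h1 : IsOpenImmersion e.left := hf.property _ _ _ sq
  have h2 : Surjective e.left := hs.property _ _ _ sq
  show IsIso e.left
  exact (isIso_iff_isOpenImmersion_and_surjective e.left).2 ⟨h1, h2⟩


/-- Base change of a representable open immersion along a map whose image lies in the open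
subspace is an isomorphism. -/
theorem isIso_snd_of_range_subset {X X' Y P : Sp S} (j : X' ⟶ X) (hj : RepWith @IsOpenImmersion j)
    (f : Y ⟶ X) {fst : P ⟶ X'} {snd : P ⟶ Y} (sq : IsPullback fst snd j f)
    (h : Set.range (Points.map f) ⊆ Set.range (Points.map j)) : IsIso snd := by
  have h1 : RepWith @IsOpenImmersion snd :=
    (RepWith (S := S) @IsOpenImmersion).of_isPullback sq hj
  have h2 : IsSurjectiveMor snd := by
    intro y
    obtain ⟨x', hx'⟩ := h ⟨y, rfl⟩
    obtain ⟨p, -, hp⟩ :=
      Groth.Agent.Helper4.AlgSpPtsDesc.exists_point_of_isPullback sq x' y hx'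
    exact ⟨p, hp⟩
  exact isIso_of_openImmersion_surjective snd h1
    (Groth.Agent.Helper4.AlgSpPts.repWith_surjective_of_isSurjectiveMor snd h1.rep h2)

/-- Factorisation through an open subspace. -/
theorem exists_factor_open {X X' Y : Sp S} (j : X' ⟶ X) (hj : RepWith @IsOpenImmersion j)
    (f : Y ⟶ X) (h : Set.range (Points.map f) ⊆ Set.range (Points.map j)) :
    ∃ g : Y ⟶ X', g ≫ j = f := by
  have sq : IsPullback (pullback.fst j f) (pullback.snd j f) j f := IsPullback.of_hasPullback j f
  have := isIso_snd_of_range_subset j hj f sq h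
  refine ⟨inv (pullback.snd j f) ≫ pullback.fst j f, ?_⟩
  rw [Category.assoc, sq.w, IsIso.inv_hom_id_assoc]

theorem range_subset_of_factor {X X' Y : Sp S} (j : X' ⟶ X) (f : Y ⟶ X) (g : Y ⟶ X')
    (hg : g ≫ j = f) : Set.range (Points.map f) ⊆ Set.range (Points.map j) := by
  rintro _ ⟨y, rfl⟩
  exact ⟨Points.map g y, by rw [← Points.map_comp, hg]⟩

end Groth.Agent.Helper5.AlgSpIso
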