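import Groth.Prelude.Def_AlgSp4
import Groth.Agent.Helper4.AlgSpOpenImage
import Groth.Agent.Helper4.AlgSpQC2
import Groth.Agent.Helper5.AlgSpIso
import Mathlib

set_option autoImplicit false
universe u
open CategoryTheory CategoryTheory.Limits AlgebraicGeometry Opposite

namespace Groth.Agent.Helper5.AlgSpOpen

open AlgSp Groth.Agent.Helper4.AlgSpOpenImage Groth.Agent.Helper4.AlgSpQC2
  Groth.Agent.Helper4.AlgSpPtsDesc

variable {S : Scheme.{u}}

theorem ofPt_surjective_of_repWith {X : Sp S} {U : Over S} (p : (yon S).obj U ⟶ X)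
    (hps : RepWith @Surjective p) : Function.Surjective (Points.ofPt p) := by
  have h1 : Points.ofPt p = Points.map p ∘ Points.schemeHomeo U := by
    funext t
    exact (ofPt_eq_map_schemeHomeo p t).symm
  rw [h1]
  exact (Groth.Agent.Helper4.AlgSpPts.isSurjectiveMor_of_repWith p hps).comp
    (Points.schemeHomeo U).surjective

theorem range_map_eq_range_ofPt {X : Sp S} {U : Over S} (p : (yon S).obj U ⟶ X) :
    Set.range (Points.map p) = Set.range (Points.ofPt p) := by
  ext x
  constructor
  · rintro ⟨y, rfl⟩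
    obtain ⟨t, rfl⟩ := (Points.schemeHomeo U).surjective y
    exact ⟨t, (ofPt_eq_map_schemeHomeo p t).symm⟩
  · rintro ⟨t, rfl⟩
    exact ⟨_, ofPt_eq_map_schemeHomeo p t⟩

/-- The image of `imgι a` on points is the image of `a`. -/
theorem range_imgι {X : Sp S} {W : Over S} (a : (yon S).obj W ⟶ X) (ha : RepWith @Etale a) :
    Set.range (Points.map (imgι a)) = Set.range (Points.ofPt a) := by
  rw [← range_map_eq_range_ofPt]
  have hs : Function.Surjective (Points.map (toImg a)) :=
    Groth.Agent.Helper4.AlgSpPts.isSurjectiveMor_of_repWith _ (toImg_surjective a ha)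
  have e : Points.map a = Points.map (imgι a) ∘ Points.map (toImg a) := by
    funext x
    rw [Function.comp_apply, ← Points.map_comp, toImg_ι]
  rw [e, Set.range_comp, hs.range_eq, Set.image_univ]

/-- Every open subset of the points of an algebraic space is the image of an open subspace. -/
theorem exists_open_subspace {X : Sp S} (hX : IsAlgSpace X) (W : Set (Points X))
    (hW : IsOpen W) :
    ∃ (X' : Sp S) (j : X' ⟶ X), IsAlgSpace X' ∧ RepWith @IsOpenImmersion j ∧
      Set.range (Points.map j) = W := by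
  obtain ⟨U, p, hpe, hps⟩ := hX.atlas
  let O : U.left.Opens := ⟨Points.ofPt p ⁻¹' W, hW.preimage (Points.continuous_ofPt p)⟩
  let a : (yon S).obj (opOver U O) ⟶ X := (yon S).map (opι U O) ≫ p
  have hae : RepWith @Etale a :=
    Groth.Agent.Helper4.AlgSpSrc.repWith_comp _
      ((repWith_yon_map_iff _ _).2 (by
        show Etale O.ι
        infer_instance)) hpe
  refine ⟨img a, imgι a, isAlgSpace_img a hX.diag hae, imgι_isOpenImmersion a hae, ?_⟩
  rw [range_imgι a hae]
  ext x
  constructor
  · rintro ⟨t, rfl⟩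
    rw [ofPt_yon_map_comp]
    exact t.2
  · intro hx
    obtain ⟨u, rfl⟩ := ofPt_surjective_of_repWith p hps x
    have key : Points.ofPt a ((⟨u, hx⟩ : ↥O) : ↥(opOver U O).left) =
        Points.ofPt p ((opι U O).left ((⟨u, hx⟩ : ↥O) : ↥(opOver U O).left)) :=
      ofPt_yon_map_comp (opι U O) p _
    exact ⟨_, key⟩

end Groth.Agent.Helper5.AlgSpOpen
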