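import Groth.Agent.Helper4.AlgSpSrc
import Mathlib

set_option autoImplicit false
universe u
open CategoryTheory CategoryTheory.Limits AlgebraicGeometry Opposite

namespace Groth.Agent.Helper5.EtLocTransfer

open AlgSp Groth.Agent.Helper4

variable {S : Scheme.{u}}

/-- Transfer of an étale-local property of schemes along a morphism with a chart-wise property:
if `Q` passes from the target to the source of scheme morphisms with `Pm`, then it passes from `X` to `Y`
along `f : Y ⟶ X` with `LocP Pm f`. -/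
theorem etaleLocally_of_locP (Pm : MorphismProperty Scheme.{u}) (Q : Scheme.{u} → Prop)
    (hQ : ∀ {A B : Scheme.{u}} (g : A ⟶ B), Pm g → Q B → Q A)
    {X Y : Sp S} (hY : IsAlgSpace Y) (f : Y ⟶ X) (hf : LocP Pm f) (hX : EtaleLocally Q X) :
    EtaleLocally Q Y := by
  obtain ⟨U₀, p₀, hpe, hps, hU₀⟩ := hX
  obtain ⟨A₀, a, hae, has⟩ := hY.atlas
  have hrep := hpe.1
  let g := a ≫ f
  let A := hrep.pullback g
  have sq : IsPullback (hrep.fst g) ((yon S).map (hrep.snd g)) p₀ g := hrep.isPullback g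
  obtain ⟨k, hk⟩ := (yon S).map_surjective (hrep.fst g)
  have h1 : Etale (hrep.snd g).left := hpe.2 g _ _ sq
  have h2 : Surjective (hrep.snd g).left := hps.2 g _ _ sq
  have hce : RepWith @Etale ((yon S).map (hrep.snd g) ≫ a) :=
    AlgSpSrc.repWith_comp _ ((repWith_yon_map_iff _ _).2 h1) hae
  have hcs : RepWith @Surjective ((yon S).map (hrep.snd g) ≫ a) :=
    AlgSpSrc.repWith_comp _ ((repWith_yon_map_iff _ _).2 h2) has
  have hcomm : ((yon S).map (hrep.snd g) ≫ a) ≫ f = (yon S).map k ≫ p₀ := by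
    rw [hk, sq.w, Category.assoc]
  exact ⟨A, _, hce, hcs, hQ k.left (hf _ p₀ k hce hpe hcomm) hU₀⟩

end Groth.Agent.Helper5.EtLocTransfer
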