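import Groth.Prelude.Def_AlgSp4
import Groth.Prelude.Def_AlgSpSub
import Groth.Agent.Helper1.EtRed
import Groth.Agent.Helper5.EtLocTransfer
import Groth.Agent.Helper5.AlgSpOpen
import Groth.Agent.Helper4.AlgSpPtsDesc
import Groth.Agent.Helper4.AlgSpSrc
import Mathlib

set_option autoImplicit false
universe u
open CategoryTheory CategoryTheory.Limits AlgebraicGeometry Opposite

namespace Groth.Agent.Helper5.RedDesc

open AlgSp Groth.Agent.Helper4 Groth.Agent.Helper4.AlgSpPtsDesc

variable {S : Scheme.{u}}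

/-- A scheme smooth over a reduced scheme is reduced. -/
theorem isReduced_of_smooth {A B : Scheme.{u}} (g : A ⟶ B) [Smooth g] [IsReduced B] :
    IsReduced A := by
  have : ∀ x : A, _root_.IsReduced (A.presheaf.stalk x) := by
    intro x
    obtain ⟨_, ⟨V, hV, rfl⟩, hxV, -⟩ :=
      B.isBasis_affineOpens.exists_subset_of_mem_open (Set.mem_univ (g x)) isOpen_univ
    obtain ⟨_, ⟨U, hU, rfl⟩, hxU, hUV⟩ :=
      A.isBasis_affineOpens.exists_subset_of_mem_open (show x ∈ (g ⁻¹ᵁ V : Set A) from hxV)
        (g ⁻¹ᵁ V).isOpen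
    have e : U ≤ g ⁻¹ᵁ V := hUV
    have hsm : (g.appLE V U e).hom.Smooth :=
      (HasRingHomProperty.iff_appLE (P := @Smooth)).1 inferInstance ⟨V, hV⟩ ⟨U, hU⟩ e
    have hredV : _root_.IsReduced Γ(B, V) := inferInstance
    have hredU : _root_.IsReduced Γ(A, U) := by
      algebraize [(g.appLE V U e).hom]
      exact Groth.Agent.Helper1.EtRed.isReduced_of_smooth Γ(B, V) Γ(A, U)
    let _ := TopCat.Presheaf.algebra_section_stalk A.presheaf (⟨x, hxU⟩ : U)
    have hloc := hU.isLocalization_stalk ⟨x, hxU⟩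
    exact isReduced_localizationPreserves (hU.primeIdealOf ⟨x, hxU⟩).asIdeal.primeCompl _ hredU
  exact isReduced_of_isReduced_stalk A

/-- Reducedness descends along flat surjective morphisms of schemes. -/
theorem isReduced_of_flat_surjective {A B : Scheme.{u}} (g : A ⟶ B) [Flat g] [Surjective g]
    [IsReduced A] : IsReduced B := by
  have : ∀ y : B, _root_.IsReduced (B.presheaf.stalk y) := by
    intro y
    obtain ⟨x, rfl⟩ := g.surjective y
    have hfl : (g.stalkMap x).hom.Flat := Flat.stalkMap g x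
    algebraize [(g.stalkMap x).hom]
    have : IsLocalHom (algebraMap (B.presheaf.stalk (g x)) (A.presheaf.stalk x)) := by
      show IsLocalHom (g.stalkMap x).hom
      infer_instance
    have hff : Module.FaithfullyFlat (B.presheaf.stalk (g x)) (A.presheaf.stalk x) :=
      Module.FaithfullyFlat.of_flat_of_isLocalHom
    have hinj : Function.Injective (algebraMap (B.presheaf.stalk (g x)) (A.presheaf.stalk x)) :=
      FaithfulSMul.algebraMap_injective _ _
    exact isReduced_of_injective _ hinj
  exact isReduced_of_isReduced_stalk B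

set_option backward.isDefEq.respectTransparency.types false in
/-- Descent of an étale-local property of schemes along surjective morphisms with a chart-wise
property. -/
theorem etaleLocally_descend (Pm : MorphismProperty Scheme.{u}) (Q : Scheme.{u} → Prop)
    (hQet : ∀ {A B : Scheme.{u}} (g : A ⟶ B), Etale g → Q B → Q A)
    (hQdesc : ∀ {A B : Scheme.{u}} (g : A ⟶ B), Pm g → Surjective g → Q A → Q B)
    {X Y : Sp S} (hY : IsAlgSpace Y) (f : X ⟶ Y) (hf : LocP Pm f)
    (hs : IsSurjectiveMor f) (hX : EtaleLocally Q X) : EtaleLocally Q Y := by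
  obtain ⟨U₀, p₀, hpe, hps, hU₀⟩ := hX
  obtain ⟨V₀, b, hbe, hbs⟩ := hY.atlas
  have hrep := hbe.1
  let g := p₀ ≫ f
  let A := hrep.pullback g
  have sq : IsPullback (hrep.fst g) ((yon S).map (hrep.snd g)) b g := hrep.isPullback g
  obtain ⟨k, hk⟩ := (yon S).map_surjective (hrep.fst g)
  have hsnd_e : Etale (hrep.snd g).left := hbe.2 g _ _ sq
  have hA : Q A.left := hQet (hrep.snd g).left hsnd_e hU₀
  have ha_e : RepWith @Etale ((yon S).map (hrep.snd g) ≫ p₀) :=
    AlgSpSrc.repWith_comp _ ((repWith_yon_map_iff _ _).2 hsnd_e) hpe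
  have hcomm : ((yon S).map (hrep.snd g) ≫ p₀) ≫ f = (yon S).map k ≫ b := by
    rw [hk, sq.w, Category.assoc]
  have hk1 : Pm k.left := hf _ b k ha_e hbe hcomm
  have hk3 : Surjective k.left := by
    refine ⟨fun v => ?_⟩
    obtain ⟨x, hx⟩ := hs (Points.map b (Points.schemeHomeo V₀ v))
    obtain ⟨u, hu⟩ := AlgSpPts.isSurjectiveMor_of_repWith p₀ hps x
    have hgu : Points.map b (Points.schemeHomeo V₀ v) = Points.map g u := by
      rw [Points.map_comp]
      show _ = Points.map f (Points.map p₀ u)
      rw [hu, hx]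
    obtain ⟨a, ha1, ha2⟩ := exists_point_of_isPullback sq (Points.schemeHomeo V₀ v) u hgu
    obtain ⟨a', rfl⟩ := (Points.schemeHomeo A).surjective a
    refine ⟨a', ?_⟩
    apply (Points.schemeHomeo V₀).injective
    rw [← Points.map_yon_map_apply, hk, ha1]
  exact ⟨V₀, b, hbe, hbs, hQdesc k.left hk1 hk3 hA⟩

theorem isReducedSp_of_flat_surjective {X Y : Sp S} (hY : IsAlgSpace Y) (f : X ⟶ Y)
    (hfl : LocP @Flat f) (hs : IsSurjectiveMor f) (hX : IsReducedSp X) : IsReducedSp Y := by
  refine etaleLocally_descend @Flat (fun U => IsReduced U) ?_ ?_ hY f hfl hs hX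
  · intro A B g hg hB
    have : Etale g := hg
    have : IsReduced B := hB
    exact isReduced_of_smooth g
  · intro A B g hg hsurj hA
    have : Flat g := hg
    have : Surjective g := hsurj
    have : IsReduced A := hA
    exact isReduced_of_flat_surjective g

theorem isReducedSp_of_smooth {X Y : Sp S} (hX : IsAlgSpace X) (f : X ⟶ Y)
    (hf : LocP @Smooth f) (hY : IsReducedSp Y) : IsReducedSp X := by
  refine Groth.Agent.Helper5.EtLocTransfer.etaleLocally_of_locP @Smooth (fun U => IsReduced U) ?_
    hX f hf hY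
  intro A B g hg hB
  have : Smooth g := hg
  have : IsReduced B := hB
  exact isReduced_of_smooth g

end Groth.Agent.Helper5.RedDesc
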