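import Groth.Prelude.Def_FDesc
import Groth.Agent.Helper5.RedDesc
import Mathlib

set_option autoImplicit false
universe u
open CategoryTheory CategoryTheory.Limits AlgebraicGeometry Opposite

namespace Groth.Agent.Helper5.StalkRed

/-- The canonical morphism `Spec 𝒪_{X,x} ⟶ X` is flat. -/
theorem flat_fromSpecStalk (X : Scheme.{u}) (x : X) : Flat (X.fromSpecStalk x) := by
  obtain ⟨_, ⟨U, hU, rfl⟩, hxU, -⟩ :=
    X.isBasis_affineOpens.exists_subset_of_mem_open (Set.mem_univ x) isOpen_univ
  rw [← hU.fromSpecStalk_eq_fromSpecStalk hxU]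
  unfold IsAffineOpen.fromSpecStalk
  have : Flat (Spec.map (X.presheaf.germ U x hxU)) := by
    rw [HasRingHomProperty.Spec_iff (P := @Flat)]
    let _ := TopCat.Presheaf.algebra_section_stalk X.presheaf (⟨x, hxU⟩ : U)
    have hloc := hU.isLocalization_stalk ⟨x, hxU⟩
    have : Module.Flat Γ(X, U) (X.presheaf.stalk x) :=
      IsLocalization.flat _ (hU.primeIdealOf ⟨x, hxU⟩).asIdeal.primeCompl
    exact this
  have h2 : IsOpenImmersion (IsAffineOpen.fromSpec hU) := IsAffineOpen.isOpenImmersion_fromSpec hU
  have h3 : Flat (IsAffineOpen.fromSpec hU) := inferInstance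
  exact Flat.comp _ _

/-- Reducedness of a stalk descends along flat morphisms. -/
theorem isReduced_stalk_of_flat {A B : Scheme.{u}} (g : A ⟶ B) [Flat g] (x : A)
    (h : _root_.IsReduced (A.presheaf.stalk x)) : _root_.IsReduced (B.presheaf.stalk (g x)) := by
  have hfl : (g.stalkMap x).hom.Flat := Flat.stalkMap g x
  algebraize [(g.stalkMap x).hom]
  have : IsLocalHom (algebraMap (B.presheaf.stalk (g x)) (A.presheaf.stalk x)) := by
    show IsLocalHom (g.stalkMap x).hom
    infer_instance
  have hff : Module.FaithfullyFlat (B.presheaf.stalk (g x)) (A.presheaf.stalk x) :=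
    Module.FaithfullyFlat.of_flat_of_isLocalHom
  have hinj : Function.Injective (algebraMap (B.presheaf.stalk (g x)) (A.presheaf.stalk x)) :=
    FaithfulSMul.algebraMap_injective _ _
  exact isReduced_of_injective _ hinj

/-- Reducedness of a stalk ascends along smooth morphisms. -/
theorem isReduced_stalk_of_smooth {A B : Scheme.{u}} (g : A ⟶ B) [Smooth g] (x : A)
    (h : _root_.IsReduced (B.presheaf.stalk (g x))) : _root_.IsReduced (A.presheaf.stalk x) := by
  let j := B.fromSpecStalk (g x)
  have hj : Flat j := flat_fromSpecStalk B (g x)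
  have hred : IsReduced (pullback g j) :=
    Groth.Agent.Helper5.RedDesc.isReduced_of_smooth (pullback.snd g j)
  obtain ⟨z, hz1, -⟩ := Scheme.Pullback.exists_preimage_pullback (f := g) (g := j) x
    (IsLocalRing.closedPoint _) (Scheme.fromSpecStalk_closedPoint).symm
  have h1 : _root_.IsReduced ((pullback g j).presheaf.stalk z) := inferInstance
  have h2 := isReduced_stalk_of_flat (pullback.fst g j) z h1
  rw [hz1] at h2
  exact h2

end Groth.Agent.Helper5.StalkRed
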