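import Mathlib
import Groth.Prelude
import Groth.Agent.Helper5.FlatOrbit1
import Groth.Agent.Helper5.ProdDom
import Groth.Agent.Helper5.StalkRed
import Groth.Agent.Helper2.FibCrit

set_option autoImplicit false
set_option linter.unusedSectionVars false
set_option linter.style.haveILetI false
universe u

open AlgebraicGeometry CategoryTheory CategoryTheory.Limits
open MonoidalCategory CartesianMonoidalCategory MonObj

namespace Groth.Agent.Helper5.FlatOrbit

open Groth.Agent.Helper5.GrpDense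

/-- descent of flatness at a point along a flat morphism -/
theorem flat_stalkMap_of_comp {Z Y X : Scheme.{u}} (ν : Z ⟶ Y) (φ : Y ⟶ X) [Flat ν]
    [Flat (ν ≫ φ)] (z : Z) : (φ.stalkMap (ν z)).hom.Flat := by
  have h1 : ((ν ≫ φ).stalkMap z).hom.Flat := Flat.stalkMap (ν ≫ φ) z
  have h2 : (ν.stalkMap z).hom.Flat := Flat.stalkMap ν z
  rw [Scheme.Hom.stalkMap_comp] at h1
  algebraize [(φ.stalkMap (ν z)).hom, (ν.stalkMap z).hom,
    (ν.stalkMap z).hom.comp (φ.stalkMap (ν z)).hom]
  have hff : Module.FaithfullyFlat (Y.presheaf.stalk (ν z)) (Z.presheaf.stalk z) :=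
    @Module.FaithfullyFlat.of_flat_of_isLocalHom _ _ _ _ _ _ _ h2 (ν.toLRSHom.prop z)
  have hfl : Module.Flat (X.presheaf.stalk (φ (ν z))) (Z.presheaf.stalk z) := h1
  exact Groth.Agent.Helper2.FibCrit.flat_of_faithfullyFlat
    (A := X.presheaf.stalk (φ (ν z))) (B := Y.presheaf.stalk (ν z)) (M := Z.presheaf.stalk z)

variable {S : Scheme.{u}} {G X : Over S} [GrpObj G]

theorem exists_shear_point (x y : G.left) (hxy : G.hom x = G.hom y) :
    ∃ z : (G ⊗ G).left, (snd G G).left z = x ∧ (μ[G]).left z = y := by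
  obtain ⟨q, hq1, hq2⟩ := Scheme.Pullback.exists_preimage_pullback (f := G.hom) (g := G.hom)
    y x hxy.symm
  let ρ : G ⊗ G ⟶ G ⊗ G := lift (fst G G * (snd G G)⁻¹) (snd G G)
  have hρ1 : ρ ≫ snd G G = snd G G := by simp [ρ]
  have hρ2 : ρ ≫ μ[G] = fst G G := by
    have : ρ ≫ μ[G] = (fst G G * (snd G G)⁻¹) * snd G G := by
      rw [Hom.mul_def (fst G G * (snd G G)⁻¹)]
    rw [this, inv_mul_cancel_right]
  refine ⟨ρ.left q, ?_, ?_⟩
  · rw [← Scheme.Hom.comp_apply, ← Over.comp_left, hρ1]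
    exact hq2
  · rw [← Scheme.Hom.comp_apply, ← Over.comp_left, hρ2]
    exact hq1

/-- the key transfer lemma -/
theorem flat_stalkMap_transfer [Flat G.hom] (φ : G ⟶ X) (act : G ⊗ X ⟶ X) [Flat act.left]
    (heq : (G ◁ φ) ≫ act = μ[G] ≫ φ) (x y : G.left) (hxy : G.hom x = G.hom y)
    (hx : (φ.left.stalkMap x).hom.Flat) : (φ.left.stalkMap y).hom.Flat := by
  let T : Scheme.{u} := Spec (G.left.presheaf.stalk x)
  let j : T ⟶ G.left := G.left.fromSpecStalk x
  let To : Over S := Over.mk (j ≫ G.hom)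
  let jo : To ⟶ G := Over.homMk j rfl
  haveI hj : Flat jo.left := Groth.Agent.Helper5.StalkRed.flat_fromSpecStalk G.left x
  have hjφ : Flat (jo ≫ φ).left := by
    have e : (jo ≫ φ).left =
        Spec.map (φ.left.stalkMap x) ≫ X.left.fromSpecStalk (φ.left x) := by
      rw [Scheme.SpecMap_stalkMap_fromSpecStalk]
      rfl
    rw [e]
    haveI := Groth.Agent.Helper5.StalkRed.flat_fromSpecStalk X.left (φ.left x)
    haveI : Flat (Spec.map (φ.left.stalkMap x)) := Flat.SpecMap_iff.mpr hx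
    infer_instance
  haveI hμ : Flat (μ[G]).left := flat_act (regular G)
  let ν : G ⊗ To ⟶ G := (G ◁ jo) ≫ μ[G]
  haveI hwl : Flat (G ◁ jo).left :=
    MorphismProperty.of_isPullback (P := @Flat) (isPullback_whiskerLeft G jo).flip hj
  haveI hν : Flat ν.left := by
    show Flat ((G ◁ jo) ≫ μ[G]).left
    rw [Over.comp_left]
    infer_instance
  haveI hνφ : Flat (ν.left ≫ φ.left) := by
    have e : ν ≫ φ = (G ◁ (jo ≫ φ)) ≫ act := by
      simp only [ν, Category.assoc, ← heq, MonoidalCategory.whiskerLeft_comp]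
    rw [← Over.comp_left, e, Over.comp_left]
    haveI : Flat (G ◁ (jo ≫ φ)).left :=
      MorphismProperty.of_isPullback (P := @Flat) (isPullback_whiskerLeft G (jo ≫ φ)).flip hjφ
    infer_instance
  obtain ⟨z, hz1, hz2⟩ := exists_shear_point x y hxy
  have hzr : z ∈ Set.range (G ◁ jo).left := by
    rw [range_whiskerLeft G jo]
    show (snd G G).left z ∈ Set.range jo.left
    rw [hz1]
    exact ⟨IsLocalRing.closedPoint _, Scheme.fromSpecStalk_closedPoint⟩
  obtain ⟨z', hz'⟩ := hzr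
  have hνz : ν.left z' = y := by
    show ((G ◁ jo) ≫ μ[G]).left z' = y
    rw [Over.comp_left, Scheme.Hom.comp_apply, hz', hz2]
  have key := flat_stalkMap_of_comp ν.left φ.left z'
  rw [hνz] at key
  exact key

end Groth.Agent.Helper5.FlatOrbit
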