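import Groth.Agent.Helper5.GenLift

set_option autoImplicit false
universe u
open IsLocalRing

namespace Groth.Agent.Helper5.SurjDim

/-- If every chain of length `n` in `Z` gives a chain of length `n + 1` in `α`, then
`dim Z + 1 ≤ dim α`. -/
theorem krullDim_succ_le_of_forall {Z α : Type*} [Preorder Z] [Preorder α]
    (h : ∀ l : LTSeries Z, ∃ l' : LTSeries α, l'.length = l.length + 1) :
    Order.krullDim Z + 1 ≤ Order.krullDim α := by
  induction hZ : Order.krullDim Z using WithBot.recBotCoe with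
  | bot => simp
  | coe m =>
    induction m using ENat.recTopCoe with
    | top =>
      have hα : Order.krullDim α = ⊤ := by
        rw [Order.krullDim_eq_top_iff]
        refine ⟨fun n => ?_⟩
        have h1 : (n : WithBot ℕ∞) ≤ Order.krullDim Z := by rw [hZ]; exact le_top
        obtain ⟨l, hl⟩ := Order.le_krullDim_iff.1 h1
        obtain ⟨l', hl'⟩ := h l
        exact ⟨l'.take ⟨n, by omega⟩, by simp⟩
      rw [hα]
      exact le_top
    | coe n =>
      have h1 : (n : WithBot ℕ∞) ≤ Order.krullDim Z := by rw [hZ]; rfl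
      obtain ⟨l, hl⟩ := Order.le_krullDim_iff.1 h1
      obtain ⟨l', hl'⟩ := h l
      have h2 : ((n + 1 : ℕ) : WithBot ℕ∞) ≤ Order.krullDim α :=
        Order.le_krullDim_iff.2 ⟨l', by omega⟩
      exact_mod_cast h2

/-- (K2): cutting by an element outside all minimal primes drops the dimension. -/
theorem ringKrullDim_quotient_succ_le {R : Type*} [CommRing R] (b : R)
    (hb : ∀ q ∈ minimalPrimes R, b ∉ q) :
    ringKrullDim (R ⧸ Ideal.span {b}) + 1 ≤ ringKrullDim R := by
  rw [ringKrullDim_quotient]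
  refine krullDim_succ_le_of_forall fun l => ?_
  let l' : LTSeries (PrimeSpectrum R) := l.map Subtype.val (fun _ _ h => h)
  have hbh : b ∈ l'.head.asIdeal := by
    have := l.head.2
    rw [PrimeSpectrum.mem_zeroLocus] at this
    exact this (Ideal.subset_span rfl)
  obtain ⟨q₀, hq₀, hq₀l⟩ := Ideal.exists_minimalPrimes_le (bot_le : ⊥ ≤ l'.head.asIdeal)
  have hq₀p : q₀.IsPrime := hq₀.1.1
  have hlt : (⟨q₀, hq₀p⟩ : PrimeSpectrum R) < l'.head := by
    rw [← PrimeSpectrum.asIdeal_lt_asIdeal]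
    refine lt_of_le_of_ne hq₀l ?_
    intro heq
    have heq' : q₀ = l'.head.asIdeal := heq
    exact hb q₀ hq₀ (by rw [heq']; exact hbh)
  exact ⟨l'.cons ⟨q₀, hq₀p⟩ hlt, by simp [l']⟩


theorem exists_avoiding {A B : Type u} [CommRing A] [CommRing B] [IsNoetherianRing B]
    [IsLocalRing A] [IsLocalRing B] (φ : A →+* B)
    (hsurj : ∀ p : Ideal A, p.IsPrime → ∃ q : Ideal B, q.IsPrime ∧ q.comap φ = p)
    (hfib : ∀ q : Ideal B, q.IsPrime → q.comap φ = maximalIdeal A → q = maximalIdeal B)
    (hA : ¬ ringKrullDim A ≤ 0) :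
    ∃ a ∈ maximalIdeal A, ∀ q ∈ minimalPrimes B, φ a ∉ q := by
  by_contra hcon
  push Not at hcon
  have hfin : (minimalPrimes B).Finite := minimalPrimes.finite_of_isNoetherianRing B
  have hsub : ((maximalIdeal A : Ideal A) : Set A) ⊆
      ⋃ q ∈ (↑hfin.toFinset : Set (Ideal B)), ((q.comap φ : Ideal A) : Set A) := by
    intro a ha
    obtain ⟨q, hq, hqa⟩ := hcon a ha
    simp only [Set.mem_iUnion]
    exact ⟨q, by simpa using hq, hqa⟩
  rw [Ideal.subset_union_prime (⊤ : Ideal B) ⊤ (fun q hq _ _ => by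
    have hq' : q ∈ minimalPrimes B := by simpa using hq
    have : q.IsPrime := hq'.1.1
    exact Ideal.comap_isPrime φ q)] at hsub
  obtain ⟨q₀, hq₀, hle⟩ := hsub
  have hq₀' : q₀ ∈ minimalPrimes B := by simpa using hq₀
  have hq₀p : q₀.IsPrime := hq₀'.1.1
  have hcomap : q₀.comap φ = maximalIdeal A :=
    le_antisymm (le_maximalIdeal (Ideal.comap_isPrime φ q₀).ne_top) hle
  have hq₀m : q₀ = maximalIdeal B := hfib q₀ hq₀p hcomap
  have hallB : ∀ q : Ideal B, q.IsPrime → q = maximalIdeal B := by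
    intro q hq
    refine le_antisymm (le_maximalIdeal hq.ne_top) ?_
    have h1 : q ≤ q₀ := hq₀m ▸ le_maximalIdeal hq.ne_top
    have h2 : q₀ ≤ q := hq₀'.2 ⟨hq, bot_le⟩ h1
    rw [← hq₀m]; exact h2
  have hallA : ∀ p : Ideal A, p.IsPrime → p = maximalIdeal A := by
    intro p hp
    obtain ⟨q, hq, rfl⟩ := hsurj p hp
    rw [hallB q hq, ← hq₀m]
    exact hcomap
  apply hA
  have : Subsingleton (PrimeSpectrum A) :=
    ⟨fun p p' => PrimeSpectrum.ext ((hallA _ p.2).trans (hallA _ p'.2).symm)⟩
  exact Order.krullDim_nonpos_of_subsingleton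

theorem quotient_hyps {A B : Type u} [CommRing A] [CommRing B] [IsLocalRing A] [IsLocalRing B]
    (φ : A →+* B) (a : A) (hle : Ideal.span {a} ≤ (Ideal.span {φ a}).comap φ)
    [IsLocalRing (A ⧸ Ideal.span {a})] [IsLocalRing (B ⧸ Ideal.span {φ a})]
    (hsurj : ∀ p : Ideal A, p.IsPrime → ∃ q : Ideal B, q.IsPrime ∧ q.comap φ = p)
    (hfib : ∀ q : Ideal B, q.IsPrime → q.comap φ = maximalIdeal A → q = maximalIdeal B) :
    (∀ p : Ideal (A ⧸ Ideal.span {a}), p.IsPrime →
      ∃ q : Ideal (B ⧸ Ideal.span {φ a}), q.IsPrime ∧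
        q.comap (Ideal.quotientMap (Ideal.span {φ a}) φ hle) = p) ∧
    (∀ q : Ideal (B ⧸ Ideal.span {φ a}), q.IsPrime →
      q.comap (Ideal.quotientMap (Ideal.span {φ a}) φ hle) = maximalIdeal (A ⧸ Ideal.span {a}) →
        q = maximalIdeal (B ⧸ Ideal.span {φ a})) := by
  have hcomm : (Ideal.quotientMap (Ideal.span {φ a}) φ hle).comp (Ideal.Quotient.mk (Ideal.span {a})) =
      (Ideal.Quotient.mk (Ideal.span {φ a})).comp φ := Ideal.quotientMap_comp_mk hle
  have hmA : (maximalIdeal (A ⧸ Ideal.span {a})).comap (Ideal.Quotient.mk (Ideal.span {a})) =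
      maximalIdeal A := by
    have : ((maximalIdeal (A ⧸ Ideal.span {a})).comap
        (Ideal.Quotient.mk (Ideal.span {a}))).IsMaximal :=
      Ideal.comap_isMaximal_of_surjective _ Ideal.Quotient.mk_surjective
    exact IsLocalRing.eq_maximalIdeal this
  have hmB : (maximalIdeal (B ⧸ Ideal.span {φ a})).comap (Ideal.Quotient.mk (Ideal.span {φ a})) =
      maximalIdeal B := by
    have : ((maximalIdeal (B ⧸ Ideal.span {φ a})).comap
        (Ideal.Quotient.mk (Ideal.span {φ a}))).IsMaximal :=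
      Ideal.comap_isMaximal_of_surjective _ Ideal.Quotient.mk_surjective
    exact IsLocalRing.eq_maximalIdeal this
  constructor
  · intro p hp
    have hpp : (p.comap (Ideal.Quotient.mk (Ideal.span {a}))).IsPrime := Ideal.comap_isPrime _ p
    obtain ⟨q, hq, hqc⟩ := hsurj _ hpp
    have haq : φ a ∈ q := by
      have : a ∈ q.comap φ := by
        rw [hqc]
        show Ideal.Quotient.mk (Ideal.span {a}) a ∈ p
        have h0 : Ideal.Quotient.mk (Ideal.span {a}) a = 0 :=
          Ideal.Quotient.eq_zero_iff_mem.2 (Ideal.subset_span rfl)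
        rw [h0]
        exact p.zero_mem
      exact this
    have hker : RingHom.ker (Ideal.Quotient.mk (Ideal.span {φ a})) ≤ q := by
      rw [Ideal.mk_ker, Ideal.span_le, Set.singleton_subset_iff]; exact haq
    have hqbp : (q.map (Ideal.Quotient.mk (Ideal.span {φ a}))).IsPrime :=
      Ideal.map_isPrime_of_surjective Ideal.Quotient.mk_surjective hker
    have hcm : (q.map (Ideal.Quotient.mk (Ideal.span {φ a}))).comap
        (Ideal.Quotient.mk (Ideal.span {φ a})) = q := by
      rw [Ideal.comap_map_of_surjective _ Ideal.Quotient.mk_surjective, ← RingHom.ker_eq_comap_bot]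
      exact sup_eq_left.2 hker
    refine ⟨_, hqbp, ?_⟩
    apply Ideal.comap_injective_of_surjective _
      (Ideal.Quotient.mk_surjective (I := Ideal.span {a}))
    rw [Ideal.comap_comap, hcomm, ← Ideal.comap_comap, hcm, hqc]
  · intro q hq hqc
    have hqp : (q.comap (Ideal.Quotient.mk (Ideal.span {φ a}))).IsPrime := Ideal.comap_isPrime _ q
    have h1 : (q.comap (Ideal.Quotient.mk (Ideal.span {φ a}))).comap φ = maximalIdeal A := by
      rw [Ideal.comap_comap, ← hcomm, ← Ideal.comap_comap, hqc, hmA]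
    have h2 := hfib _ hqp h1
    rw [← Ideal.map_comap_of_surjective _ (Ideal.Quotient.mk_surjective (I := Ideal.span {φ a})) q,
      h2, ← hmB, Ideal.map_comap_of_surjective _ Ideal.Quotient.mk_surjective]


theorem exists_nat_ringKrullDim (R : Type*) [CommRing R] [IsNoetherianRing R] [IsLocalRing R] :
    ∃ n : ℕ, ringKrullDim R = (n : WithBot ℕ∞) := by
  have h1 : ringKrullDim R ≠ ⊤ := ringKrullDim_ne_top
  have h2 : ringKrullDim R ≠ ⊥ := ringKrullDim_ne_bot
  obtain ⟨m, hm⟩ := WithBot.ne_bot_iff_exists.1 h2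
  have h3 : m ≠ ⊤ := by
    intro h
    apply h1
    rw [← hm, h]
    rfl
  obtain ⟨n, hn⟩ := ENat.ne_top_iff_exists.1 h3
  exact ⟨n, by rw [← hm, ← hn]; rfl⟩

theorem ringKrullDim_le_aux (d : ℕ) :
    ∀ (A B : Type u) [CommRing A] [CommRing B] [IsNoetherianRing A] [IsNoetherianRing B]
      [IsLocalRing A] [IsLocalRing B] (φ : A →+* B)
      (_ : ∀ p : Ideal A, p.IsPrime → ∃ q : Ideal B, q.IsPrime ∧ q.comap φ = p)
      (_ : ∀ q : Ideal B, q.IsPrime → q.comap φ = maximalIdeal A → q = maximalIdeal B),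
      ringKrullDim B ≤ d → ringKrullDim A ≤ ringKrullDim B := by
  induction d using Nat.strong_induction_on with
  | _ d ih =>
    intro A B _ _ _ _ _ _ φ hsurj hfib hd
    by_cases hA : ringKrullDim A ≤ 0
    · exact hA.trans ringKrullDim_nonneg_of_nontrivial
    obtain ⟨a, ha, havoid⟩ := exists_avoiding φ hsurj hfib hA
    have hmm : (maximalIdeal B).comap φ = maximalIdeal A := by
      obtain ⟨q, hq, hqc⟩ := hsurj (maximalIdeal A) inferInstance
      rw [← hfib q hq hqc]; exact hqc
    have hφa : φ a ∈ maximalIdeal B := by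
      have : a ∈ (maximalIdeal B).comap φ := by rw [hmm]; exact ha
      exact this
    have hle : Ideal.span {a} ≤ (Ideal.span {φ a}).comap φ := by
      rw [Ideal.span_le, Set.singleton_subset_iff]
      exact Ideal.subset_span rfl
    have hIA : Ideal.span {a} ≠ ⊤ := by
      intro h
      have h1 : Ideal.span {a} ≤ maximalIdeal A := by
        rw [Ideal.span_le, Set.singleton_subset_iff]; exact ha
      rw [h] at h1
      exact (maximalIdeal.isMaximal A).ne_top (top_le_iff.1 h1)
    have hIB : Ideal.span {φ a} ≠ ⊤ := by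
      intro h
      have h1 : Ideal.span {φ a} ≤ maximalIdeal B := by
        rw [Ideal.span_le, Set.singleton_subset_iff]; exact hφa
      rw [h] at h1
      exact (maximalIdeal.isMaximal B).ne_top (top_le_iff.1 h1)
    have : Nontrivial (A ⧸ Ideal.span {a}) := Ideal.Quotient.nontrivial_iff.2 hIA
    have : Nontrivial (B ⧸ Ideal.span {φ a}) := Ideal.Quotient.nontrivial_iff.2 hIB
    have : IsLocalRing (A ⧸ Ideal.span {a}) :=
      IsLocalRing.of_surjective' (Ideal.Quotient.mk _) Ideal.Quotient.mk_surjective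
    have : IsLocalRing (B ⧸ Ideal.span {φ a}) :=
      IsLocalRing.of_surjective' (Ideal.Quotient.mk _) Ideal.Quotient.mk_surjective
    obtain ⟨hsurj', hfib'⟩ := quotient_hyps φ a hle hsurj hfib
    have k1 : ringKrullDim A ≤ ringKrullDim (A ⧸ Ideal.span {a}) + 1 := by
      have := ringKrullDim_le_ringKrullDim_quotient_add_encard ({a} : Set A) (by
        rw [IsLocalRing.ringJacobson_eq_maximalIdeal, Set.singleton_subset_iff]; exact ha)
      rw [Set.encard_singleton] at this
      exact_mod_cast this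
    have k2 : ringKrullDim (B ⧸ Ideal.span {φ a}) + 1 ≤ ringKrullDim B :=
      ringKrullDim_quotient_succ_le (φ a) havoid
    obtain ⟨nB, hnB⟩ := exists_nat_ringKrullDim B
    obtain ⟨nB', hnB'⟩ := exists_nat_ringKrullDim (B ⧸ Ideal.span {φ a})
    obtain ⟨nA, hnA⟩ := exists_nat_ringKrullDim A
    obtain ⟨nA', hnA'⟩ := exists_nat_ringKrullDim (A ⧸ Ideal.span {a})
    rw [hnB', hnB] at k2
    rw [hnA, hnA'] at k1
    rw [hnB] at hd
    have k2' : nB' + 1 ≤ nB := by exact_mod_cast k2
    have k1' : nA ≤ nA' + 1 := by exact_mod_cast k1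
    have hd' : nB ≤ d := by exact_mod_cast hd
    have hlt : nB' < d := by omega
    have h3 := ih nB' hlt (A ⧸ Ideal.span {a}) (B ⧸ Ideal.span {φ a})
      (Ideal.quotientMap (Ideal.span {φ a}) φ hle) hsurj' hfib' (le_of_eq hnB')
    rw [hnA', hnB'] at h3
    have h3' : nA' ≤ nB' := by exact_mod_cast h3
    rw [hnA, hnB]
    have : nA ≤ nB := by omega
    exact_mod_cast this

/-- (SURJ): a homomorphism of Noetherian local rings which is surjective on spectra and whose
closed fibre is a single point does not lower the dimension. -/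
theorem ringKrullDim_le_of_comap_surjective {A B : Type u} [CommRing A] [CommRing B]
    [IsNoetherianRing A] [IsNoetherianRing B] [IsLocalRing A] [IsLocalRing B] (φ : A →+* B)
    (hsurj : ∀ p : Ideal A, p.IsPrime → ∃ q : Ideal B, q.IsPrime ∧ q.comap φ = p)
    (hfib : ∀ q : Ideal B, q.IsPrime → q.comap φ = maximalIdeal A → q = maximalIdeal B) :
    ringKrullDim A ≤ ringKrullDim B := by
  obtain ⟨nB, hnB⟩ := exists_nat_ringKrullDim B
  exact ringKrullDim_le_aux nB A B φ hsurj hfib (le_of_eq hnB)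

end Groth.Agent.Helper5.SurjDim
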