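import Groth.Agent.Helper5.VarDim9

set_option autoImplicit false
universe u
open AlgebraicGeometry CategoryTheory TopologicalSpace

namespace Groth.Agent.Helper5.VarDim

/-- An irreducible component of a scheme locally of finite type over a field has a generic point
at which the local dimension is the dimension of the component. -/
theorem exists_generic_component (k : Type u) [Field k] {F : Scheme.{u}}
    (g : F ⟶ Spec (CommRingCat.of k)) [LocallyOfFiniteType g] (Z : Set F)
    (hZ : Z ∈ irreducibleComponents F) :
    ∃ ζ : F, closure {ζ} = Z ∧ FlatMor.localDim F ζ = topologicalKrullDim ↥Z := by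
  have hcl : IsClosed Z := isClosed_of_mem_irreducibleComponents Z hZ
  have hirr : IsIrreducible Z := hZ.1
  obtain ⟨ζ, hζ⟩ := QuasiSober.sober hirr hcl
  have hζ' : closure {ζ} = Z := hζ.def
  refine ⟨ζ, hζ', ?_⟩
  obtain ⟨n, h1, h2⟩ := dim_closure_point k g ζ
  obtain ⟨m, hm1, hm2, -⟩ := localDim_formula k g ζ
  rw [h2] at hm1
  have hmn : n = m := by exact_mod_cast hm1
  have h0 : Order.coheight ζ = 0 := by
    rw [Order.coheight_eq_zero]
    intro z hz
    have hz' : z ⤳ ζ := hz
    show ζ ⤳ z
    rw [specializes_iff_mem_closure, hζ']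
    have h3 : Z ≤ closure {z} := by
      rw [← hζ']
      exact (specializes_iff_closure_subset.1 hz')
    have h4 : closure {z} ≤ Z := hZ.2 isIrreducible_singleton.closure h3
    exact h4 (subset_closure rfl)
  rw [hm2, ringKrullDim_stalk_eq_coheight, h0, ← hζ', h1, hmn]
  simp

end Groth.Agent.Helper5.VarDim
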