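import Mathlib
import Groth.Prelude
import Groth.Agent.Helper5.FlatOrbit2
import Groth.Agent.Helper5.OverField
import Groth.Agent.Helper5.VarDim10
import Groth.Agent.Helper5.VarDim4
import Groth.Agent.Helper5.SurjDim
import Groth.Agent.Helper2.TopDim

set_option autoImplicit false
set_option linter.unusedSectionVars false
set_option linter.style.haveILetI false
universe u

open AlgebraicGeometry CategoryTheory CategoryTheory.Limits
open MonoidalCategory CartesianMonoidalCategory MonObj

namespace Groth.Agent.Helper5.GrpDim

open Groth.Agent.Helper5.FlatOrbit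

/-- local dimensions of schemes locally of finite type over a field are natural numbers -/
theorem exists_nat_localDim (k : Type u) [Field k] {X : Scheme.{u}}
    (f : X ⟶ Spec (CommRingCat.of k)) [LocallyOfFiniteType f] (x : X) :
    ∃ n : ℕ, FlatMor.localDim X x = (n : WithBot ℕ∞) := by
  obtain ⟨n, -, h2, -⟩ := Groth.Agent.Helper5.VarDim.localDim_formula k f x
  haveI : IsLocallyNoetherian X := LocallyOfFiniteType.isLocallyNoetherian f
  obtain ⟨m, hm⟩ := Groth.Agent.Helper5.SurjDim.exists_nat_ringKrullDim (X.presheaf.stalk x)
  refine ⟨m + n, ?_⟩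
  rw [h2, hm]
  push_cast
  rfl

variable (k : Type u) [Field k] (G : Over (Spec (CommRingCat.of k))) [GrpObj G]
  [LocallyOfFiniteType G.hom]

/-- the local dimension of a group scheme locally of finite type over a field is constant -/
theorem localDim_eq (g h : G.left) :
    FlatMor.localDim G.left g = FlatMor.localDim G.left h := by
  have hsub : Subsingleton ↥(Spec (CommRingCat.of k)) :=
    inferInstanceAs (Subsingleton (PrimeSpectrum k))
  obtain ⟨z, hz1, hz2⟩ := exists_shear_point g h (Subsingleton.elim _ _)
  let Φ : G ⊗ G ⟶ G ⊗ G := shear (regular G)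
  haveI : IsIso Φ.left := (Over.forget _).map_isIso Φ
  let e : (G ⊗ G).left ≃ₜ (G ⊗ G).left := (asIso Φ.left).schemeIsoToHomeo
  have h1 := Groth.Agent.Helper5.SubDim.localDim_homeomorph e z
  have hfst : (fst G G).left (e z) = (fst G G).left z := by
    show (fst G G).left (Φ.left z) = _
    rw [← Scheme.Hom.comp_apply, ← Over.comp_left]
    simp [Φ, shear]
  have hsnd : (snd G G).left (e z) = h := by
    show (snd G G).left (Φ.left z) = _
    rw [← Scheme.Hom.comp_apply, ← Over.comp_left, shear_snd]
    exact hz2
  have h2 := Groth.Agent.Helper5.OverField.localDim_pullback k G.hom G.hom z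
  have h3 := Groth.Agent.Helper5.OverField.localDim_pullback k G.hom G.hom (e z)
  have h2' : FlatMor.localDim ↥(G ⊗ G).left z =
      FlatMor.localDim ↥G.left ((fst G G).left z) + FlatMor.localDim ↥G.left g := by
    rw [← hz1]; exact h2
  have h3' : FlatMor.localDim ↥(G ⊗ G).left (e z) =
      FlatMor.localDim ↥G.left ((fst G G).left z) + FlatMor.localDim ↥G.left h := by
    rw [← hsnd, ← hfst]; exact h3
  rw [h2', h3'] at h1
  obtain ⟨a, ha⟩ := exists_nat_localDim k G.hom ((fst G G).left z)
  obtain ⟨b, hb⟩ := exists_nat_localDim k G.hom g
  obtain ⟨c, hc⟩ := exists_nat_localDim k G.hom h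
  rw [ha, hb, hc] at h1
  rw [hb, hc]
  have : a + b = a + c := by exact_mod_cast h1
  have : b = c := by omega
  rw [this]

/-- the local dimension of a group scheme locally of finite type over a field at any point is the
dimension of the group scheme -/
theorem localDim_eq_dim (g : G.left) :
    FlatMor.localDim G.left g = topologicalKrullDim G.left := by
  rw [Groth.Agent.Helper2.TopDim.dim_eq_iSup_localDim]
  apply le_antisymm
  · exact le_iSup (fun x => FlatMor.localDim G.left x) g
  · exact iSup_le fun x => (localDim_eq k G x g).le

/-- every irreducible component of a group scheme locally of finite type over a field has the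
dimension of the group scheme -/
theorem dim_irreducibleComponent (Z : Set G.left) (hZ : Z ∈ irreducibleComponents ↥G.left) :
    topologicalKrullDim ↥Z = topologicalKrullDim ↥G.left := by
  obtain ⟨ζ, -, hζ⟩ := Groth.Agent.Helper5.VarDim.exists_generic_component k G.hom Z hZ
  rw [← hζ, localDim_eq_dim]

/-- local rings at closed points have the dimension of the group scheme -/
theorem ringKrullDim_stalk_closedPoint (g : G.left) (hg : IsClosed ({g} : Set G.left)) :
    ringKrullDim (G.left.presheaf.stalk g) = topologicalKrullDim G.left := by
  obtain ⟨n, -, h2, h3⟩ := Groth.Agent.Helper5.VarDim.localDim_formula k G.hom g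
  rw [← localDim_eq_dim k G g, h2, h3 hg]
  simp

end Groth.Agent.Helper5.GrpDim
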