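import Mathlib
import Groth.Prelude
import Groth.Agent.Helper2.Grpd2
import Groth.Agent.Helper5.OverField
import Groth.Agent.Helper5.GrpDim1

set_option autoImplicit false
set_option linter.unusedSectionVars false
set_option linter.style.haveILetI false
universe u

open AlgebraicGeometry CategoryTheory CategoryTheory.Limits TopologicalSpace

namespace Groth.Agent.Helper5.GrpdDim

theorem isPullback_comp_mono {C : Type*} [Category C] {P X Y Z W : C} {fst : P ⟶ X} {snd : P ⟶ Y}
    {f : X ⟶ Z} {g : Y ⟶ Z} (h : IsPullback fst snd f g) (e : Z ⟶ W) [Mono e] :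
    IsPullback fst snd (f ≫ e) (g ≫ e) := by
  refine ⟨⟨by rw [← Category.assoc, h.w, Category.assoc]⟩,
    ⟨PullbackCone.IsLimit.mk _
      (fun c => h.lift c.fst c.snd ((cancel_mono e).1 (by simpa using c.condition)))
      (fun c => h.lift_fst _ _ _) (fun c => h.lift_snd _ _ _)
      (fun c m h1 h2 => h.hom_ext (by rw [h1, h.lift_fst]) (by rw [h2, h.lift_snd]))⟩⟩

/-- additivity of the local dimension for a cartesian square over a field -/
theorem localDim_of_isPullback (k : Type u) [Field k] {P X Y : Scheme.{u}}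
    (gX : X ⟶ Spec (CommRingCat.of k)) (gY : Y ⟶ Spec (CommRingCat.of k))
    [LocallyOfFiniteType gX] [LocallyOfFiniteType gY] (p : P ⟶ X) (q : P ⟶ Y)
    (h : IsPullback p q gX gY) (w : P) :
    FlatMor.localDim ↥P w = FlatMor.localDim ↥X (p w) + FlatMor.localDim ↥Y (q w) := by
  let e : P ≅ pullback gX gY := h.isoPullback
  have h1 := Groth.Agent.Helper5.SubDim.localDim_homeomorph e.schemeIsoToHomeo w
  have h2 := Groth.Agent.Helper5.OverField.localDim_pullback k gX gY (e.hom w)
  have h3 : pullback.fst gX gY (e.hom w) = p w := by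
    rw [← Scheme.Hom.comp_apply, h.isoPullback_hom_fst]
  have h4 : pullback.snd gX gY (e.hom w) = q w := by
    rw [← Scheme.Hom.comp_apply, h.isoPullback_hom_snd]
  rw [h3, h4] at h2
  rw [h1]
  exact h2

open Groth.Agent.Helper2

variable {S : Scheme.{u}} (G : Grpd.GroupoidScheme S) (k : Type u) [Field k]
  (eU : G.U ≅ Spec (CommRingCat.of k)) [LocallyOfFiniteType G.s] [LocallyOfFiniteType G.t]

include eU in
/-- the local dimension of the arrows of a groupoid over a field point is constant -/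
theorem localDim_eq (r r' : G.R) : FlatMor.localDim ↥G.R r = FlatMor.localDim ↥G.R r' := by
  let sk := G.s ≫ eU.hom
  let tk := G.t ≫ eU.hom
  haveI : LocallyOfFiniteType sk := inferInstance
  haveI : LocallyOfFiniteType tk := inferInstance
  have hsub : Subsingleton ↥G.U := by
    haveI : Subsingleton ↥(Spec (CommRingCat.of k)) :=
      inferInstanceAs (Subsingleton (PrimeSpectrum k))
    exact eU.schemeIsoToHomeo.injective.subsingleton
  obtain ⟨z, hz1, hz2⟩ := Scheme.Pullback.exists_preimage_pullback (f := G.t) (g := G.t) r r'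
    (Subsingleton.elim _ _)
  have hw : (pullback.fst G.t G.t ≫ G.i) ≫ G.s = pullback.snd G.t G.t ≫ G.t := by
    rw [Grpd2.i_s', pullback.condition]
  have hφc : pullback.fst G.t G.t ≫ G.s =
      Grpd2.mul G (pullback.fst G.t G.t ≫ G.i) (pullback.snd G.t G.t) hw ≫ G.t := by
    rw [Grpd2.mul_t, Grpd2.i_t']
  let φ : pullback G.t G.t ⟶ pullback G.s G.t :=
    pullback.lift (pullback.fst G.t G.t)
      (Grpd2.mul G (pullback.fst G.t G.t ≫ G.i) (pullback.snd G.t G.t) hw) hφc
  have h1 : φ ≫ pullback.fst G.s G.t = pullback.fst G.t G.t := pullback.lift_fst _ _ _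
  have h2 : φ ≫ pullback.snd G.s G.t =
      Grpd2.mul G (pullback.fst G.t G.t ≫ G.i) (pullback.snd G.t G.t) hw := pullback.lift_snd _ _ _
  have h3 : φ ≫ G.c = pullback.snd G.t G.t := Grpd2.shear_comp_c G φ h1 hw h2
  have hw1 : pullback.fst G.s G.t (φ z) = r := by
    rw [← Scheme.Hom.comp_apply, h1, hz1]
  have hw3 : G.c (φ z) = r' := by
    rw [← Scheme.Hom.comp_apply, h3, hz2]
  have sqA : IsPullback (pullback.fst G.s G.t) (pullback.snd G.s G.t) sk tk :=
    isPullback_comp_mono (IsPullback.of_hasPullback G.s G.t) eU.hom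
  have sqB : IsPullback G.c (pullback.snd G.s G.t) sk sk :=
    isPullback_comp_mono (Grpd2.isPullback_c G) eU.hom
  have hA := localDim_of_isPullback k sk tk _ _ sqA (φ z)
  have hB := localDim_of_isPullback k sk sk _ _ sqB (φ z)
  rw [hw1] at hA
  rw [hw3] at hB
  obtain ⟨a, ha⟩ := Groth.Agent.Helper5.GrpDim.exists_nat_localDim k sk r
  obtain ⟨b, hb⟩ := Groth.Agent.Helper5.GrpDim.exists_nat_localDim k sk r'
  obtain ⟨c, hc⟩ := Groth.Agent.Helper5.GrpDim.exists_nat_localDim k sk
    (pullback.snd G.s G.t (φ z))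
  rw [hA, ha, hc] at hB
  rw [hb] at hB
  rw [ha, hb]
  have : a + c = b + c := by exact_mod_cast hB
  have : a = b := by omega
  rw [this]

include eU in
theorem s7518 : (∀ Z ∈ irreducibleComponents ↥G.R,
      topologicalKrullDim ↥Z = topologicalKrullDim ↥G.R) ∧
    ∀ r : G.R, FlatMor.localDim ↥G.R r = topologicalKrullDim ↥G.R := by
  have hloc : ∀ r : G.R, FlatMor.localDim ↥G.R r = topologicalKrullDim ↥G.R := by
    intro r
    rw [Groth.Agent.Helper2.TopDim.dim_eq_iSup_localDim]
    apply le_antisymm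
    · exact le_iSup (fun x => FlatMor.localDim G.R x) r
    · exact iSup_le fun x => (localDim_eq G k eU x r).le
  refine ⟨fun Z hZ => ?_, hloc⟩
  haveI : LocallyOfFiniteType (G.s ≫ eU.hom) := inferInstance
  obtain ⟨ζ, -, hζ⟩ := Groth.Agent.Helper5.VarDim.exists_generic_component k (G.s ≫ eU.hom) Z hZ
  rw [← hζ, hloc]

end Groth.Agent.Helper5.GrpdDim
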