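import Groth.Prelude.Def_AlgSp4
import Groth.Prelude.Def_AlgSpDec
import Groth.Agent.Helper4.AlgSpPtsDesc
import Groth.Agent.Helper4.AlgSpQC2
import Groth.Agent.Helper4.AlgSpSrc
import Groth.Agent.Helper5.UnramLqf
import Mathlib

set_option autoImplicit false
universe u
open CategoryTheory CategoryTheory.Limits AlgebraicGeometry Opposite

namespace Groth.Agent.Helper5.Decent2

open AlgSp Groth.Agent.Helper4.AlgSpPtsDesc Groth.Agent.Helper4.AlgSpQC2

variable {S : Scheme.{u}}

/-- Scheme-level points of a pullback of representables: given a pullback square of sheaves of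
schemes, any two points with the same image in `X` come from a point of the corner. -/
theorem exists_scheme_point_of_isPullback {X : Sp S} {R V W : Over S} {p1 : R ⟶ V} {p2 : R ⟶ W}
    {b : (yon S).obj V ⟶ X} {c : (yon S).obj W ⟶ X}
    (sq : IsPullback ((yon S).map p1) ((yon S).map p2) b c) (v : ↥V.left) (w : ↥W.left)
    (h : Points.ofPt b v = Points.ofPt c w) :
    ∃ r : ↥R.left, p1.left r = v ∧ p2.left r = w := by
  have h' : Points.map b (Points.schemeHomeo V v) = Points.map c (Points.schemeHomeo W w) := by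
    rw [ofPt_eq_map_schemeHomeo, ofPt_eq_map_schemeHomeo, h]
  obtain ⟨z, hz1, hz2⟩ := exists_point_of_isPullback sq _ _ h'
  obtain ⟨r, rfl⟩ := (Points.schemeHomeo R).surjective z
  rw [Points.map_yon_map_apply] at hz1 hz2
  exact ⟨r, (Points.schemeHomeo V).injective hz1, (Points.schemeHomeo W).injective hz2⟩

/-- The fibre of a quasi-compact étale chart over the class of a quasi-compact field point is
finite. -/
theorem finite_fibre_of_qc_point {X : Sp S} (p : FieldPt X)
    (hp : RepWith @QuasiCompact p.toHom) {V : Over S} (b : (yon S).obj V ⟶ X)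
    (hb : RepWith @Etale b) [CompactSpace V.left] :
    (Points.ofPt b ⁻¹' {Points.mk p}).Finite := by
  have sq := hp.rep.isPullback b
  obtain ⟨e, he⟩ := (yon S).map_surjective (hp.rep.fst b)
  rw [← he] at sq
  have hqc : QuasiCompact (hp.rep.snd b).left := hp.property b _ _ sq
  have het : Etale e.left := hb.property p.toHom _ _ sq.flip
  clear he
  generalize hp.rep.snd b = s at sq hqc
  generalize hp.rep.pullback b = W at e s sq hqc het
  have hWc : CompactSpace ↥W.left := QuasiCompact.compactSpace_of_compactSpace s.left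
  have hlqf : LocallyQuasiFinite e.left :=
    Groth.Agent.Helper5.UnramLqf.locallyQuasiFinite_of_unramified e.left
  have hqc2 : QuasiCompact e.left := by
    have h2 : QuasiSeparatedSpace ↥p.pt.left :=
      (inferInstance : QuasiSeparatedSpace ↥(Spec (CommRingCat.of p.K)))
    exact quasiCompact_of_compactSpace e.left
  let s₀ : ↥p.pt.left := (IsLocalRing.closedPoint p.K : ↥(Spec (CommRingCat.of p.K)))
  have hfin : (Set.univ : Set ↥W.left).Finite := by
    have h1 := Scheme.Hom.finite_preimage_singleton e.left s₀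
    have h2 : e.left ⁻¹' {s₀} = Set.univ := by
      ext w
      simp only [Set.mem_preimage, Set.mem_singleton_iff, Set.mem_univ, iff_true]
      exact (inferInstance : Subsingleton (PrimeSpectrum p.K)).elim _ _
    rwa [h2] at h1
  refine (hfin.image s.left).subset ?_
  intro v hv
  have hv' : Points.ofPt b v = Points.mk p := hv
  have h1 : Points.ofPt p.toHom s₀ = Points.ofPt b v := by
    rw [hv', Points.ofPt_toHom]
  obtain ⟨r, -, hr⟩ := exists_scheme_point_of_isPullback sq s₀ v h1
  exact ⟨r, Set.mem_univ _, hr⟩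

/-- No specializations among points of an étale chart over a point `x` whose fibres in affine
étale charts are finite. -/
theorem eq_of_specializes_of_finite_fibres {X : Sp S} (x : Points X)
    (hx : ∀ (V : Over S) (b : (yon S).obj V ⟶ X), IsAffine V.left → RepWith @Etale b →
      (Points.ofPt b ⁻¹' {x}).Finite)
    {U : Over S} (a : (yon S).obj U ⟶ X) (ha : RepWith @Etale a) (u u' : ↥U.left)
    (hu : Points.ofPt a u = x) (hu' : Points.ofPt a u' = x) (hs : u' ⤳ u) : u = u' := by
  -- affine open neighbourhood of `u`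
  obtain ⟨_, ⟨V₀, hV₀, rfl⟩, huV, -⟩ :=
    (U.left.isBasis_affineOpens).exists_subset_of_mem_open (Set.mem_univ u) isOpen_univ
  have hu'V : u' ∈ V₀ := hs.mem_open V₀.isOpen huV
  let V := opOver U V₀
  let b : (yon S).obj V ⟶ X := (yon S).map (opι U V₀) ≫ a
  have hb : RepWith @Etale b :=
    Groth.Agent.Helper4.AlgSpSrc.repWith_comp _
      ((repWith_yon_map_iff _ _).2 (by
        show Etale (Scheme.Opens.ι V₀)
        infer_instance)) ha
  have hVaff : IsAffine V.left := hV₀
  have hF := hx V b hVaff hb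
  have hbpt : ∀ w : ↥V.left, Points.ofPt b w = Points.ofPt a ((opι U V₀).left w) := fun w =>
    ofPt_yon_map_comp _ _ _
  -- the equivalence relation
  have sq := hb.rep.isPullback b
  obtain ⟨p1, hp1⟩ := (yon S).map_surjective (hb.rep.fst b)
  rw [← hp1] at sq
  have het2 : Etale (hb.rep.snd b).left := hb.property b _ _ sq
  have het1 : Etale p1.left := hb.property b _ _ sq.flip
  clear hp1
  generalize hb.rep.snd b = p2 at sq het2
  generalize hb.rep.pullback b = R at p1 p2 sq het1 het2
  have hflat : Flat p1.left := inferInstance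
  have hgen : GeneralizingMap p1.left := Flat.generalizingMap p1.left
  have hlqf : LocallyQuasiFinite p2.left :=
    Groth.Agent.Helper5.UnramLqf.locallyQuasiFinite_of_unramified p2.left
  set F : Set ↥V.left := Points.ofPt b ⁻¹' {x} with hFdef
  -- key step
  have key : ∀ w w' : ↥V.left, w ∈ F → w' ∈ F → w' ⤳ w → w' ≠ w →
      ∃ w'' ∈ F, w'' ⤳ w' ∧ w'' ≠ w' := by
    intro w w' hw hw' hsp hne
    have hww : Points.ofPt b w = Points.ofPt b w' := by
      rw [show Points.ofPt b w = x from hw, show Points.ofPt b w' = x from hw']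
    obtain ⟨r, hr1, hr2⟩ := exists_scheme_point_of_isPullback sq w w' hww
    obtain ⟨r', hr'sp, hr'1⟩ := hgen (a := r) (b := w') (by rw [hr1]; exact hsp)
    refine ⟨p2.left r', ?_, ?_, ?_⟩
    · show Points.ofPt b (p2.left r') = x
      rw [← ofPt_yon_map_comp, ← sq.w, ofPt_yon_map_comp, hr'1]
      exact hw'
    · rw [← hr2]
      exact hr'sp.map p2.left.continuous
    · intro heq
      have hd := Scheme.Hom.isDiscrete_preimage_singleton p2.left w'
      have : r' = r := hd.eq_of_specializes hr'sp heq hr2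
      apply hne
      rw [← hr'1, this, hr1]
  by_contra hne
  let v : ↥V.left := ⟨u, huV⟩
  let v' : ↥V.left := ⟨u', hu'V⟩
  have hvF : v ∈ F := by
    show Points.ofPt b v = x
    rw [hbpt]; exact hu
  have hv'F : v' ∈ F := by
    show Points.ofPt b v' = x
    rw [hbpt]; exact hu'
  have hvsp : v' ⤳ v := (subtype_specializes_iff v' v).2 hs
  have hvne : v' ≠ v := fun h => hne (congrArg Subtype.val h).symm
  let A : Set ↥V.left := {w' | w' ∈ F ∧ ∃ w ∈ F, w' ⤳ w ∧ w' ≠ w}
  have hAfin : A.Finite := hF.subset fun w hw => hw.1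
  have hAne : A.Nonempty := ⟨v', hv'F, v, hvF, hvsp, hvne⟩
  let G : ↥V.left → Set ↥V.left := fun w => {w'' | w'' ∈ F ∧ w'' ⤳ w}
  have hGfin : ∀ w, (G w).Finite := fun w => hF.subset fun w'' hw'' => hw''.1
  obtain ⟨m, hmA, hmin⟩ := Set.exists_min_image A (fun w => (G w).ncard) hAfin hAne
  obtain ⟨hmF, w, hwF, hmw, hmne⟩ := hmA
  obtain ⟨m', hm'F, hm'sp, hm'ne⟩ := key w m hwF hmF hmw hmne
  have hm'A : m' ∈ A := ⟨hm'F, m, hmF, hm'sp, hm'ne⟩
  have hlt : (G m').ncard < (G m).ncard := by
    apply Set.ncard_lt_ncard _ (hGfin m)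
    refine ⟨fun z hz => ⟨hz.1, hz.2.trans hm'sp⟩, fun hsub => ?_⟩
    have : m ∈ G m' := hsub ⟨hmF, specializes_rfl⟩
    exact hm'ne ((hm'sp.antisymm this.2).eq)
  exact absurd (hmin m' hm'A) (not_le.2 hlt)

end Groth.Agent.Helper5.Decent2
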