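import Groth.Prelude.Def_AlgSp4
import Groth.Agent.Helper4.AlgSpLocP
import Groth.Agent.Helper4.AlgSpSrc
import Groth.Agent.Helper4.SDClasses
import Mathlib

set_option autoImplicit false
universe u
open CategoryTheory CategoryTheory.Limits AlgebraicGeometry Opposite

namespace Groth.Agent.Helper5.AlgSpEt

open AlgSp

variable {S : Scheme.{u}}

/-- Étale descent on the source for maps from schemes to a sheaf with representable diagonal. -/
theorem repWith_of_precomp_cover (P : MorphismProperty Scheme.{u})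
    (hsd : ∀ {A B C : Scheme.{u}} (e : A ⟶ B) (h : B ⟶ C), Etale e → Surjective e →
      P (e ≫ h) → P h)
    {X : Sp S} (hX : Representable (Limits.diag X)) {U U' : Over S} (χ : U ⟶ U')
    (hχe : Etale χ.left) (hχs : Surjective χ.left) (φ' : (yon S).obj U' ⟶ X)
    (h : RepWith P ((yon S).map χ ≫ φ')) : RepWith P φ' := by
  refine ⟨Functor.relativelyRepresentable.of_diag hX φ', ?_⟩
  intro T E ξ c e sq
  obtain ⟨c₀, rfl⟩ := (yon S).map_surjective c
  have hE' : IsPullback (pullback.fst c₀ χ) (pullback.snd c₀ χ) c₀ χ :=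
    IsPullback.of_hasPullback _ _
  have hbig : IsPullback ((yon S).map (pullback.snd c₀ χ))
      ((yon S).map (pullback.fst c₀ χ) ≫ (yon S).map e) ((yon S).map χ ≫ φ') ξ :=
    (hE'.map (yon S)).flip.paste_vert sq
  rw [← Functor.map_comp] at hbig
  have hP : P (pullback.fst c₀ χ ≫ e).left := h.property _ _ _ hbig
  have hsq : IsPullback (pullback.snd c₀ χ).left (pullback.fst c₀ χ).left χ.left c₀.left :=
    hE'.flip.map (Over.forget S)
  have h1 : Etale (pullback.fst c₀ χ).left := MorphismProperty.of_isPullback hsq hχe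
  have h2 : Surjective (pullback.fst c₀ χ).left := MorphismProperty.of_isPullback hsq hχs
  exact hsd _ _ h1 h2 hP

theorem repWith_etale_of_precomp_cover
    {X : Sp S} (hX : Representable (Limits.diag X)) {U U' : Over S} (χ : U ⟶ U')
    (hχe : Etale χ.left) (hχs : Surjective χ.left) (φ' : (yon S).obj U' ⟶ X)
    (h : RepWith @Etale ((yon S).map χ ≫ φ')) : RepWith @Etale φ' :=
  repWith_of_precomp_cover @Etale (fun e h he hs hP => by
    have : Etale e := he
    have : Surjective e := hs
    have : Etale (e ≫ h) := hP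
    exact Groth.Agent.Helper4.SchemeSD.etale_of_comp_etale_surjective e h) hX χ hχe hχs φ' h

/-- Chart criterion for étale morphisms. -/
theorem isEtaleMor_of_chart_square {X Y : Sp S} (hY : IsAlgSpace Y)
    (f : X ⟶ Y) {U V : Over S}
    (a : (yon S).obj U ⟶ X) (ha : RepWith @Etale a) (has : RepWith @Surjective a)
    (b : (yon S).obj V ⟶ Y) (hb : RepWith @Etale b) (h : U ⟶ V) (hh : Etale h.left)
    (w : a ≫ f = (yon S).map h ≫ b) : IsEtaleMor f := by
  intro W φ hφ
  have hr := ha.rep
  have hpb : IsPullback (hr.fst φ) ((yon S).map (hr.snd φ)) a φ := hr.isPullback φ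
  obtain ⟨c, hc⟩ := (yon S).map_surjective (hr.fst φ)
  rw [← hc] at hpb
  have hse : Etale (hr.snd φ).left := ha.property _ _ _ hpb
  have hss : Surjective (hr.snd φ).left := has.property _ _ _ hpb
  have hce : Etale c.left := hφ.property _ _ _ hpb.flip
  apply repWith_etale_of_precomp_cover hY.diag (hr.snd φ) hse hss
  have e : (yon S).map (hr.snd φ) ≫ φ ≫ f = (yon S).map (c ≫ h) ≫ b := by
    rw [← Category.assoc, ← hpb.w, Category.assoc, w, Functor.map_comp, Category.assoc]
  rw [e]
  exact Groth.Agent.Helper4.AlgSpSrc.repWith_comp _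
    ((repWith_yon_map_iff _ _).2 (show Etale (c.left ≫ h.left) from inferInstance)) hb


/-- Cancellation for étale morphisms. -/
theorem isEtaleMor_of_comp {X Y Z : Sp S} (hY : IsAlgSpace Y)
    (f : X ⟶ Y) (h : Y ⟶ Z) (hg : IsEtaleMor (f ≫ h)) (hh : IsEtaleMor h) : IsEtaleMor f := by
  intro U φ hφ
  obtain ⟨V, b, hbe, hbs⟩ := hY.atlas
  have hr := hbe.rep
  have hpb : IsPullback (hr.fst (φ ≫ f)) ((yon S).map (hr.snd (φ ≫ f))) b (φ ≫ f) :=
    hr.isPullback _
  obtain ⟨c, hc⟩ := (yon S).map_surjective (hr.fst (φ ≫ f))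
  rw [← hc] at hpb
  have hse : Etale (hr.snd (φ ≫ f)).left := hbe.property _ _ _ hpb
  have hss : Surjective (hr.snd (φ ≫ f)).left := hbs.property _ _ _ hpb
  generalize hr.snd (φ ≫ f) = e at hpb hse hss
  have h1 : RepWith @Etale (b ≫ h) := hh b hbe
  have h2 : RepWith @Etale ((yon S).map e ≫ φ ≫ f ≫ h) :=
    Groth.Agent.Helper4.AlgSpSrc.repWith_comp _ ((repWith_yon_map_iff _ _).2 hse) (hg φ hφ)
  have hce : Etale c.left := Groth.Agent.Helper4.AlgSpLocP.etale_of_comp _ (b ≫ h) c h2 h1 (by
    rw [← Category.assoc, hpb.w, Category.assoc, Category.assoc])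
  apply repWith_etale_of_precomp_cover hY.diag e hse hss
  rw [← hpb.w]
  exact Groth.Agent.Helper4.AlgSpSrc.repWith_comp _ ((repWith_yon_map_iff _ _).2 hce) hbe

/-- Base change of étale morphisms. -/
theorem isEtaleMor_of_isPullback {X Y Z P : Sp S} (hX : IsAlgSpace X) (hZ : IsAlgSpace Z)
    {f : X ⟶ Y} {g : Z ⟶ Y} {fst : P ⟶ Z} {snd : P ⟶ X} (sq : IsPullback fst snd g f)
    (hf : IsEtaleMor f) : IsEtaleMor fst := by
  intro U φ hφ
  obtain ⟨A, a, hae, has⟩ := hX.atlas
  have haf : RepWith @Etale (a ≫ f) := hf a hae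
  -- A' = Z ×_Y A
  have sqA : IsPullback (pullback.fst g (a ≫ f)) (pullback.snd g (a ≫ f)) g (a ≫ f) :=
    IsPullback.of_hasPullback _ _
  have i1 := repWith_isStableUnderBaseChange (S := S) @Etale
  have i2 := repWith_isStableUnderBaseChange (S := S) @Surjective
  have hq : RepWith @Etale (pullback.fst g (a ≫ f)) := MorphismProperty.of_isPullback sqA.flip haf
  -- the map A' ⟶ P
  let m : pullback g (a ≫ f) ⟶ P :=
    sq.lift (pullback.fst g (a ≫ f)) (pullback.snd g (a ≫ f) ≫ a) (by
      rw [Category.assoc]; exact sqA.w)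
  have hm1 : m ≫ fst = pullback.fst g (a ≫ f) := sq.lift_fst _ _ _
  have hm2 : m ≫ snd = pullback.snd g (a ≫ f) ≫ a := sq.lift_snd _ _ _
  have sqm : IsPullback m (pullback.snd g (a ≫ f)) snd a := by
    refine IsPullback.of_right ?_ hm2 sq
    rw [hm1]; exact sqA
  have hme : RepWith @Etale m := MorphismProperty.of_isPullback sqm.flip hae
  have hms : RepWith @Surjective m := MorphismProperty.of_isPullback sqm.flip has
  have hr := hme.rep
  have hpb : IsPullback (hr.fst φ) ((yon S).map (hr.snd φ)) m φ := hr.isPullback φ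
  have hse : Etale (hr.snd φ).left := hme.property _ _ _ hpb
  have hss : Surjective (hr.snd φ).left := hms.property _ _ _ hpb
  have hfe : RepWith @Etale (hr.fst φ) := MorphismProperty.of_isPullback hpb.flip hφ
  apply repWith_etale_of_precomp_cover hZ.diag (hr.snd φ) hse hss
  have e : (yon S).map (hr.snd φ) ≫ φ ≫ fst = hr.fst φ ≫ pullback.fst g (a ≫ f) := by
    rw [← Category.assoc, ← hpb.w, Category.assoc, hm1]
  rw [e]
  exact Groth.Agent.Helper4.AlgSpSrc.repWith_comp _ hfe hq

end Groth.Agent.Helper5.AlgSpEt
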