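import Groth.Prelude.Def_AlgSp4
import Groth.Agent.Helper5.AlgSpEt
import Groth.Agent.Helper4.AlgSpLocP2
import Mathlib

set_option autoImplicit false
universe u
open CategoryTheory CategoryTheory.Limits AlgebraicGeometry Opposite

namespace Groth.Agent.Helper5.AlgSpEt

open AlgSp

variable {S : Scheme.{u}}

/-- An étale morphism is étale in charts. -/
theorem locP_etale_of_isEtaleMor {X Y : Sp S} (f : X ⟶ Y) (hf : IsEtaleMor f) :
    LocP @Etale f := by
  intro U V a b h ha hb comm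
  exact Groth.Agent.Helper4.AlgSpLocP.etale_of_comp (a ≫ f) b h (hf a ha) hb comm.symm

theorem locP_of_isEtaleMor (P : MorphismProperty Scheme.{u})
    (hP : ∀ {A B : Scheme.{u}} (g : A ⟶ B), Etale g → P g) {X Y : Sp S} (f : X ⟶ Y)
    (hf : IsEtaleMor f) : LocP P f := by
  intro U V a b h ha hb comm
  exact hP _ (locP_etale_of_isEtaleMor f hf a b h ha hb comm)

/-- A morphism which is étale in charts is étale. -/
theorem isEtaleMor_of_locP_etale {X Y : Sp S} (hX : IsAlgSpace X) (hY : IsAlgSpace Y)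
    (f : X ⟶ Y) (hf : LocP @Etale f) : IsEtaleMor f := by
  obtain ⟨U₀, a₀, ha₀e, ha₀s⟩ := hX.atlas
  obtain ⟨V, b, hbe, hbs⟩ := hY.atlas
  obtain ⟨E, e, c, hee, hes, hxe, hxs, hcomm, -⟩ :=
    Groth.Agent.Helper4.AlgSpLocP2.exists_chart f a₀ ha₀e ha₀s b hbe hbs
  exact isEtaleMor_of_chart_square hY f _ hxe hxs b hbe c (hf _ b c hxe hbe hcomm) hcomm

end Groth.Agent.Helper5.AlgSpEt
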