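import Groth.Prelude.Def_AlgSpCov
import Groth.Agent.Helper4.AlgSpLocPComp
import Groth.Agent.Helper4.AlgSpLocPFam
import Groth.Agent.Helper4.AlgSpQC2
import Groth.Agent.Helper5.AlgSpEt2
import Mathlib

set_option autoImplicit false
universe u
open CategoryTheory CategoryTheory.Limits AlgebraicGeometry Opposite

namespace Groth.Agent.Helper5.SrcEt

open AlgSp Groth.Agent.Helper4.SDClasses

variable {S : Scheme.{u}}

theorem locP_mono {P Q : MorphismProperty Scheme.{u}} (hPQ : ∀ {A B : Scheme.{u}} (g : A ⟶ B), P g → Q g)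
    {X Y : Sp S} (f : X ⟶ Y) (hf : LocP P f) : LocP Q f :=
  fun _ _ a b h ha hb comm => hPQ _ (hf a b h ha hb comm)

/-- a chart diagram through every point of the source -/
theorem exists_chart_at {X Y : Sp S} (hX : IsAlgSpace X) (hY : IsAlgSpace Y) (f : X ⟶ Y)
    (x : Points X) :
    ∃ (U V : Over S) (a : (yon S).obj U ⟶ X) (b : (yon S).obj V ⟶ Y) (h : U ⟶ V) (u : U.left),
      RepWith @Etale a ∧ RepWith @Etale b ∧ a ≫ f = (yon S).map h ≫ b ∧ Points.ofPt a u = x := by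
  obtain ⟨U₀, a₀, ha₀e, ha₀s⟩ := hX.atlas
  obtain ⟨V, b, hbe, hbs⟩ := hY.atlas
  obtain ⟨E, e, c, hee, hes, hxe, hxs, hcomm, -⟩ :=
    Groth.Agent.Helper4.AlgSpLocP2.exists_chart f a₀ ha₀e ha₀s b hbe hbs
  obtain ⟨r, hr⟩ := Groth.Agent.Helper4.AlgSpPts.isSurjectiveMor_of_repWith _ hxs x
  obtain ⟨u, rfl⟩ := (Points.schemeHomeo E).surjective r
  refine ⟨E, V, _, b, c, u, hxe, hbe, hcomm, ?_⟩
  rw [← Groth.Agent.Helper4.AlgSpQC2.ofPt_eq_map_schemeHomeo, hr]

/-- `LocP P` is étale local on the source for good `P`. -/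
theorem isLocalOnSource_etale_locP (P : MorphismProperty Scheme.{u}) (hG : Good P) :
    IsLocalOnSource (IsEtCover (S := S)) (LocP P) := by
  intro ι X Xi g hX hXi hcov Y f hY
  constructor
  · intro hf i
    refine Groth.Agent.Helper4.AlgSpLocPComp.locP_comp P hG hX (g i) f ?_ hf
    exact locP_mono (fun g hg => hG.etale_le g hg) _
      (Groth.Agent.Helper5.AlgSpEt.locP_etale_of_isEtaleMor (g i) (hcov.1 i))
  · intro hgf
    refine Groth.Agent.Helper4.AlgSpLocPFam.locP_of_chart_family P hG f fun x => ?_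
    obtain ⟨i, xi, hxi⟩ := hcov.2 x
    obtain ⟨U, V, a, b, h, u, hae, hbe, hcomm, hu⟩ :=
      exists_chart_at (hXi i) hY (g i ≫ f) xi
    refine ⟨U, V, a ≫ g i, b, h, u, hcov.1 i a hae, hbe, ?_, ?_, ?_⟩
    · rw [Category.assoc, hcomm]
    · rw [← Groth.Agent.Helper4.AlgSpQC2.ofPt_eq_map_schemeHomeo, Points.map_comp,
        Groth.Agent.Helper4.AlgSpQC2.ofPt_eq_map_schemeHomeo, hu, hxi]
    · exact hgf i a b h hae hbe hcomm

theorem isLocalOnSource_etale_isEtaleMor :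
    IsLocalOnSource (IsEtCover (S := S)) IsEtaleMor := by
  intro ι X Xi g hX hXi hcov Y f hY
  have h := isLocalOnSource_etale_locP @Etale good_etale Xi g hX hXi hcov f hY
  constructor
  · intro hf i
    exact Groth.Agent.Helper5.AlgSpEt.isEtaleMor_of_locP_etale (hXi i) hY _
      (h.1 (Groth.Agent.Helper5.AlgSpEt.locP_etale_of_isEtaleMor f hf) i)
  · intro hp
    exact Groth.Agent.Helper5.AlgSpEt.isEtaleMor_of_locP_etale hX hY f
      (h.2 fun i => Groth.Agent.Helper5.AlgSpEt.locP_etale_of_isEtaleMor _ (hp i))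

end Groth.Agent.Helper5.SrcEt
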