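import Groth.Prelude.Def_FDesc
import Groth.Agent.Helper5.StalkRed
import Groth.Agent.Helper5.Decent2
import Groth.Agent.Helper5.SrcEt
import Mathlib

set_option autoImplicit false
universe u
open CategoryTheory CategoryTheory.Limits AlgebraicGeometry Opposite

namespace Groth.Agent.Helper5.GeomRed

open AlgSp

section scheme

variable {B T U U' : Scheme.{u}}

/-- The induced morphism on base changes. -/
noncomputable def pbMap (f : U ⟶ B) (s : T ⟶ B) (g : U' ⟶ U) :
    pullback (g ≫ f) s ⟶ pullback f s :=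
  (pullbackRightPullbackFstIso f s g).inv ≫ pullback.snd _ _

theorem pbMap_fst (f : U ⟶ B) (s : T ⟶ B) (g : U' ⟶ U) :
    pbMap f s g ≫ pullback.fst f s = pullback.fst (g ≫ f) s ≫ g := by
  unfold pbMap
  rw [Category.assoc, pullbackRightPullbackFstIso_inv_snd_fst]

instance (f : U ⟶ B) (s : T ⟶ B) (g : U' ⟶ U) [Etale g] : Etale (pbMap f s g) := by
  unfold pbMap
  infer_instance

theorem exists_lift_pbMap (f : U ⟶ B) (s : T ⟶ B) (g : U' ⟶ U) (x : ↥(pullback f s)) (u' : ↥U')
    (h : (pullback.fst f s) x = g u') :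
    ∃ x' : ↥(pullback (g ≫ f) s), pbMap f s g x' = x ∧ (pullback.fst (g ≫ f) s) x' = u' := by
  obtain ⟨z, hz1, hz2⟩ := Scheme.Pullback.exists_preimage_pullback (f := g)
    (g := pullback.fst f s) u' x h.symm
  refine ⟨(pullbackRightPullbackFstIso f s g).hom z, ?_, ?_⟩
  · unfold pbMap
    rw [← Scheme.Hom.comp_apply, Iso.hom_inv_id_assoc]
    exact hz2
  · rw [← Scheme.Hom.comp_apply, pullbackRightPullbackFstIso_hom_fst]
    exact hz1

variable {k : Type u} [Field k]

theorem geomReducedAt_comp_of_etale (f : U ⟶ Spec (CommRingCat.of k)) (g : U' ⟶ U) [Etale g]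
    (u' : ↥U') (h : FBase.IsGeomReducedAt f (g u')) : FBase.IsGeomReducedAt (g ≫ f) u' := by
  intro K _ _ x' hx'
  let s := Spec.map (CommRingCat.ofHom (algebraMap k K))
  change ↥(pullback (g ≫ f) s) at x'
  change (pullback.fst (g ≫ f) s) x' = u' at hx'
  show _root_.IsReduced ((pullback (g ≫ f) s).presheaf.stalk x')
  have h1 : (pullback.fst f s) (pbMap f s g x') = g u' := by
    rw [← Scheme.Hom.comp_apply, pbMap_fst, Scheme.Hom.comp_apply, hx']
  have h2 : _root_.IsReduced ((pullback f s).presheaf.stalk (pbMap f s g x')) :=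
    h K (pbMap f s g x') h1
  exact Groth.Agent.Helper5.StalkRed.isReduced_stalk_of_smooth (pbMap f s g) x' h2

theorem geomReducedAt_of_comp_etale (f : U ⟶ Spec (CommRingCat.of k)) (g : U' ⟶ U) [Etale g]
    (u' : ↥U') (h : FBase.IsGeomReducedAt (g ≫ f) u') : FBase.IsGeomReducedAt f (g u') := by
  intro K _ _ x hx
  let s := Spec.map (CommRingCat.ofHom (algebraMap k K))
  change ↥(pullback f s) at x
  change (pullback.fst f s) x = g u' at hx
  show _root_.IsReduced ((pullback f s).presheaf.stalk x)
  obtain ⟨x', hx'1, hx'2⟩ := exists_lift_pbMap f s g x u' hx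
  have h2 : _root_.IsReduced ((pullback (g ≫ f) s).presheaf.stalk x') := h K x' hx'2
  have h3 := Groth.Agent.Helper5.StalkRed.isReduced_stalk_of_flat (pbMap f s g) x' h2
  rw [hx'1] at h3
  exact h3

end scheme

section algsp

variable {k : Type u} [Field k]

/-- Geometric reducedness at a point does not depend on the étale chart through the point. -/
theorem geomReducedAt_chart_indep {X : Sp (Spec (CommRingCat.of k))}
    {U V : Over (Spec (CommRingCat.of k))}
    (a : (yon (Spec (CommRingCat.of k))).obj U ⟶ X) (b : (yon (Spec (CommRingCat.of k))).obj V ⟶ X)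
    (ha : RepWith @Etale a) (hb : RepWith @Etale b) (u : ↥U.left) (v : ↥V.left)
    (h : Points.ofPt a u = Points.ofPt b v) (hu : FBase.IsGeomReducedAt U.hom u) :
    FBase.IsGeomReducedAt V.hom v := by
  have sq := ha.rep.isPullback b
  obtain ⟨e, he⟩ := (yon (Spec (CommRingCat.of k))).map_surjective (ha.rep.fst b)
  rw [← he] at sq
  have het2 : Etale (ha.rep.snd b).left := ha.property b _ _ sq
  have het1 : Etale e.left := hb.property a _ _ sq.flip
  clear he
  generalize ha.rep.snd b = s at sq het2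
  generalize ha.rep.pullback b = W at e s sq het1 het2
  obtain ⟨r, hr1, hr2⟩ := Groth.Agent.Helper5.Decent2.exists_scheme_point_of_isPullback sq u v h
  subst hr1 hr2
  have h1 := geomReducedAt_comp_of_etale U.hom e.left r hu
  rw [Over.w e] at h1
  rw [← Over.w s] at h1
  exact geomReducedAt_of_comp_etale V.hom s.left r h1

/-- Every point of an algebraic space lies on an étale chart. -/
theorem exists_chart_point {S : Scheme.{u}} {X : Sp S} (hX : IsAlgSpace X) (x : Points X) :
    ∃ (U : Over S) (a : (yon S).obj U ⟶ X) (u : ↥U.left), RepWith @Etale a ∧ Points.ofPt a u = x := by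
  obtain ⟨U, a, hae, has⟩ := hX.atlas
  obtain ⟨r, hr⟩ := Groth.Agent.Helper4.AlgSpPts.isSurjectiveMor_of_repWith _ has x
  obtain ⟨u, rfl⟩ := (Points.schemeHomeo U).surjective r
  refine ⟨U, a, u, hae, ?_⟩
  rw [← Groth.Agent.Helper4.AlgSpQC2.ofPt_eq_map_schemeHomeo, hr]

end algsp

end Groth.Agent.Helper5.GeomRed
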