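import Groth.Prelude.Def_FDesc
import Groth.Prelude.Def_AlgSpDec
import Groth.Agent.Helper5.GeomRed
import Mathlib

set_option autoImplicit false
universe u
open CategoryTheory CategoryTheory.Limits AlgebraicGeometry Opposite

namespace Groth.Agent.Helper5.GeomRed

open AlgSp

variable {k : Type u} [Field k]

/-- Geometric reducedness of an algebraic space over a field at a point. -/
def GeomRedAt (X : Sp (Spec (CommRingCat.of k))) (x : Points X) : Prop :=
  ∃ (U : Over (Spec (CommRingCat.of k))) (a : (yon (Spec (CommRingCat.of k))).obj U ⟶ X)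
    (u : ↥U.left), RepWith @Etale a ∧ Points.ofPt a u = x ∧ FBase.IsGeomReducedAt U.hom u

theorem geomRedAt_iff_chart {X : Sp (Spec (CommRingCat.of k))} {U : Over (Spec (CommRingCat.of k))}
    (a : (yon (Spec (CommRingCat.of k))).obj U ⟶ X) (ha : RepWith @Etale a) (u : ↥U.left) :
    GeomRedAt X (Points.ofPt a u) ↔ FBase.IsGeomReducedAt U.hom u := by
  constructor
  · rintro ⟨V, b, v, hb, hv, hg⟩
    exact geomReducedAt_chart_indep b a hb ha v u hv hg
  · intro h
    exact ⟨U, a, u, ha, rfl, h⟩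

theorem ofPt_comp {S : Scheme.{u}} {X Y : Sp S} (f : X ⟶ Y) {U : Over S} (a : (yon S).obj U ⟶ X)
    (u : ↥U.left) : Points.ofPt (a ≫ f) u = Points.map f (Points.ofPt a u) := by
  rw [← Groth.Agent.Helper4.AlgSpQC2.ofPt_eq_map_schemeHomeo,
    ← Groth.Agent.Helper4.AlgSpQC2.ofPt_eq_map_schemeHomeo, Points.map_comp]

/-- Transfer along a morphism which is étale on a chart. -/
theorem geomRedAt_iff_of_chart {X Y : Sp (Spec (CommRingCat.of k))} (f : X ⟶ Y)
    {U : Over (Spec (CommRingCat.of k))}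
    (a : (yon (Spec (CommRingCat.of k))).obj U ⟶ X) (ha : RepWith @Etale a)
    (haf : RepWith @Etale (a ≫ f)) (u : ↥U.left) :
    GeomRedAt X (Points.ofPt a u) ↔ GeomRedAt Y (Points.map f (Points.ofPt a u)) := by
  rw [geomRedAt_iff_chart a ha u, ← ofPt_comp, geomRedAt_iff_chart (a ≫ f) haf u]

end Groth.Agent.Helper5.GeomRed
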