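import Groth.Prelude.Def_AlgSp2
import Groth.Agent.Helper5.StalkRed
import Groth.Agent.Helper5.Decent2
import Groth.Agent.Helper5.GeomRed
import Mathlib

set_option autoImplicit false
universe u
open CategoryTheory CategoryTheory.Limits AlgebraicGeometry Opposite

namespace Groth.Agent.Helper5.HasAtChart

open AlgSp

variable {S : Scheme.{u}}

/-- Chart independence for pointwise properties which are invariant under étale morphisms. -/
theorem chart_indep (Q : ∀ U : Scheme.{u}, ↥U → Prop)
    (hQ : ∀ {A B : Scheme.{u}} (g : A ⟶ B) [Etale g] (x : ↥A), Q A x ↔ Q B (g x))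
    {X : Sp S} {U V : Over S} (a : (yon S).obj U ⟶ X) (b : (yon S).obj V ⟶ X)
    (ha : RepWith @Etale a) (hb : RepWith @Etale b) (u : ↥U.left) (v : ↥V.left)
    (h : Points.ofPt a u = Points.ofPt b v) (hu : Q U.left u) : Q V.left v := by
  have sq := ha.rep.isPullback b
  obtain ⟨e, he⟩ := (yon S).map_surjective (ha.rep.fst b)
  rw [← he] at sq
  have het2 : Etale (ha.rep.snd b).left := ha.property b _ _ sq
  have het1 : Etale e.left := hb.property a _ _ sq.flip
  clear he
  generalize ha.rep.snd b = s at sq het2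
  generalize ha.rep.pullback b = W at e s sq het1 het2
  obtain ⟨r, hr1, hr2⟩ := Groth.Agent.Helper5.Decent2.exists_scheme_point_of_isPullback sq u v h
  subst hr1 hr2
  exact (hQ s.left r).1 ((hQ e.left r).2 hu)

theorem hasAt_iff_chart (Q : ∀ U : Scheme.{u}, ↥U → Prop)
    (hQ : ∀ {A B : Scheme.{u}} (g : A ⟶ B) [Etale g] (x : ↥A), Q A x ↔ Q B (g x))
    {X : Sp S} {U : Over S} (a : (yon S).obj U ⟶ X) (ha : RepWith @Etale a) (u : ↥U.left) :
    HasAt Q X (Points.ofPt a u) ↔ Q U.left u := by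
  constructor
  · rintro ⟨V, b, v, hb, hv, hg⟩
    exact chart_indep Q hQ b a hb ha v u hv hg
  · intro h
    exact ⟨U, a, u, ha, rfl, h⟩

theorem isReduced_stalk_iff_of_etale {A B : Scheme.{u}} (g : A ⟶ B) [Etale g] (x : ↥A) :
    _root_.IsReduced ↥(A.presheaf.stalk x) ↔ _root_.IsReduced ↥(B.presheaf.stalk (g x)) :=
  ⟨Groth.Agent.Helper5.StalkRed.isReduced_stalk_of_flat g x,
    Groth.Agent.Helper5.StalkRed.isReduced_stalk_of_smooth g x⟩

/-- An algebraic space is reduced iff all its local rings are. -/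
theorem isReducedSp_iff {X : Sp S} (hX : IsAlgSpace X) :
    IsReducedSp X ↔
      ∀ x : Points X, HasAt (fun U u => _root_.IsReduced ↥(U.presheaf.stalk u)) X x := by
  constructor
  · rintro ⟨U, p, hpe, hps, hU⟩ x
    obtain ⟨r, hr⟩ := Groth.Agent.Helper4.AlgSpPts.isSurjectiveMor_of_repWith _ hps x
    obtain ⟨u, rfl⟩ := (Points.schemeHomeo U).surjective r
    rw [Groth.Agent.Helper4.AlgSpQC2.ofPt_eq_map_schemeHomeo] at hr
    exact ⟨U, p, u, hpe, hr, inferInstance⟩
  · intro h
    obtain ⟨U, a, hae, has⟩ := hX.atlas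
    refine ⟨U, a, hae, has, ?_⟩
    have : ∀ u : ↥U.left, _root_.IsReduced (U.left.presheaf.stalk u) := fun u =>
      (hasAt_iff_chart (fun U u => _root_.IsReduced ↥(U.presheaf.stalk u))
        (fun g _ x => isReduced_stalk_iff_of_etale g x) a hae u).1 (h _)
    exact isReduced_of_isReduced_stalk U.left

end Groth.Agent.Helper5.HasAtChart
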