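import Mathlib
import Groth.Agent.Helper5.EtDim
import Groth.Agent.Helper5.EtTrdeg
import Groth.Agent.Helper5.EqAt1
import Groth.Agent.Helper5.FibCodim

set_option autoImplicit false
universe u
open CategoryTheory CategoryTheory.Limits AlgebraicGeometry

namespace Groth.Agent.Helper5.EtFib

open Groth.Agent.Helper5.EtDim Groth.Agent.Helper5.SubDim Groth.Agent.Helper5.EqAt
  Groth.Agent.Helper5.MaxPt

/-- (E1) The local fibre dimension is unchanged by an étale morphism on the source. -/
theorem fibreDimAt_etale_comp {U' U V : Scheme.{u}} (p : U' ⟶ U) [Etale p] (h : U ⟶ V)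
    (u' : U') : FlatMor.fibreDimAt (p ≫ h) u' = FlatMor.fibreDimAt h (p u') := by
  let v : V := h (p u')
  let F' := (p ≫ h).fiber v
  let F := h.fiber v
  let φ : F' ⟶ F := pullback.lift ((p ≫ h).fiberι v ≫ p) ((p ≫ h).fiberToSpecResidueField v)
    (by rw [Category.assoc]; exact pullback.condition)
  have hφ1 : φ ≫ h.fiberι v = (p ≫ h).fiberι v ≫ p := pullback.lift_fst _ _ _
  have hφ2 : φ ≫ h.fiberToSpecResidueField v = (p ≫ h).fiberToSpecResidueField v :=
    pullback.lift_snd _ _ _
  have hbig : IsPullback (φ ≫ h.fiberToSpecResidueField v) ((p ≫ h).fiberι v)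
      (V.fromSpecResidueField v) (p ≫ h) := by
    rw [hφ2]
    exact (IsPullback.of_hasPullback (p ≫ h) (V.fromSpecResidueField v)).flip
  have hright : IsPullback (h.fiberToSpecResidueField v) (h.fiberι v)
      (V.fromSpecResidueField v) h :=
    (IsPullback.of_hasPullback h (V.fromSpecResidueField v)).flip
  have hleft : IsPullback φ ((p ≫ h).fiberι v) (h.fiberι v) p :=
    IsPullback.of_right hbig hφ1 hright
  have hφet : Etale φ := MorphismProperty.of_isPullback (P := @Etale) hleft.flip inferInstance
  have hpt : φ ((p ≫ h).asFiber u') = h.asFiber (p u') := by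
    apply (h.fiberι v).isEmbedding.injective
    have e1 : (p ≫ h).fiberι v ((p ≫ h).asFiber u') = u' := (p ≫ h).fiberι_asFiber u'
    have e2 : h.fiberι v (h.asFiber (p u')) = p u' := h.fiberι_asFiber (p u')
    have e3 : h.fiberι v (φ ((p ≫ h).asFiber u')) =
        p ((p ≫ h).fiberι v ((p ≫ h).asFiber u')) :=
      congrArg (fun ψ : F' ⟶ U => ψ ((p ≫ h).asFiber u')) hφ1
    exact e3.trans ((congrArg p e1).trans e2.symm)
  show FlatMor.localDim ↥F' ((p ≫ h).asFiber u') = FlatMor.localDim ↥F (h.asFiber (p u'))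
  rw [localDim_eq_of_etale φ, hpt]

/-- The local fibre dimension of a locally quasi-finite morphism vanishes (is at most `0`). -/
theorem fibreDimAt_le_zero_of_lqf {A B : Scheme.{u}} (q : A ⟶ B) [LocallyQuasiFinite q] (a : A) :
    FlatMor.fibreDimAt q a ≤ 0 := by
  have hdisc : DiscreteTopology ↥(q.fiber (q a)) := inferInstance
  unfold FlatMor.fibreDimAt FlatMor.localDim
  refine (iInf_le _ ⟨⊤, trivial⟩).trans ?_
  exact (topologicalKrullDim_subspace_le _ _).trans
    (topologicalKrullDim_zero_of_discreteTopology _)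

/-- The residue field extensions of a locally quasi-finite morphism locally of finite type are
algebraic. -/
theorem trdeg_eq_zero_of_lqf {A B : Scheme.{u}} (q : A ⟶ B) [LocallyOfFiniteType q]
    [LocallyQuasiFinite q] (a : A) :
    @Algebra.trdeg (B.residueField (q a)) (A.residueField a) _ _
      (q.residueFieldMap a).hom.toAlgebra = 0 := by
  obtain ⟨k, n, -, -, hn, hfd⟩ := fibreDimAt_eq q a
  have h0 := fibreDimAt_le_zero_of_lqf q a
  rw [hfd] at h0
  have h1 : k + n ≤ 0 := by exact_mod_cast h0
  have h2 : n = 0 := by omega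
  rw [hn, h2]; simp

/-- (E2) The local fibre dimension is unchanged by composing with a locally quasi-finite morphism
on the target. -/
theorem fibreDimAt_comp_lqf {U V' V : Scheme.{u}} (h : U ⟶ V') (q : V' ⟶ V)
    [LocallyOfFiniteType h] [LocallyOfFiniteType q] [LocallyQuasiFinite q] (u : U) :
    FlatMor.fibreDimAt (h ≫ q) u = FlatMor.fibreDimAt h u := by
  let g : U ⟶ V := h ≫ q
  obtain ⟨k', n', -, hk', hn', hfd'⟩ := fibreDimAt_eq g u
  obtain ⟨k, n, -, hk, hn, hfd⟩ := fibreDimAt_eq h u
  have hnn : n' = n := by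
    have e1 : g.residueFieldMap u = q.residueFieldMap (h u) ≫ h.residueFieldMap u :=
      Scheme.residueFieldMap_comp h q u
    have h2 := Groth.Agent.Helper5.EtTrdeg.trdeg_tower_hom (q.residueFieldMap (h u)).hom
      (h.residueFieldMap u).hom
    rw [trdeg_eq_zero_of_lqf q (h u), zero_add, hn] at h2
    have h3 : @Algebra.trdeg (V.residueField (g u)) (U.residueField u) _ _
        (g.residueFieldMap u).hom.toAlgebra = (n : Cardinal.{u}) := by
      rw [← h2]
      congr 2
      rw [e1]
      rfl
    have : (n' : Cardinal.{u}) = (n : Cardinal.{u}) := hn'.symm.trans h3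
    exact_mod_cast this
  have hkk : k' = k := by
    have h1 := coheight_eq_krullDim_of_isEmbedding (g.fiberι (g u)) (g.fiberι (g u)).isEmbedding
      (g.asFiber u)
    have h2 := coheight_eq_krullDim_of_isEmbedding (h.fiberι (h u)) (h.fiberι (h u)).isEmbedding
      (h.asFiber u)
    have hset : {t : U | t ∈ Set.range (g.fiberι (g u)) ∧ (g.fiberι (g u)) (g.asFiber u) ≤ t} =
        {t : U | t ∈ Set.range (h.fiberι (h u)) ∧ (h.fiberι (h u)) (h.asFiber u) ≤ t} := by
      ext t
      rw [Set.mem_ofPred_eq, Set.mem_ofPred_eq, g.fiberι_asFiber, h.fiberι_asFiber,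
        Scheme.Hom.range_fiberι, Scheme.Hom.range_fiberι]
      constructor
      · rintro ⟨h1, h2⟩
        refine ⟨?_, h2⟩
        have hsp : t ⤳ u := Scheme.le_iff_specializes.1 h2
        have hsp' : h t ⤳ h u := hsp.map h.continuous
        have hq : q (h t) = q (h u) := h1
        exact Groth.Agent.Helper5.EtDim.eq_of_specializes_of_lqf q hsp' hq
      · rintro ⟨h1, h2⟩
        refine ⟨?_, h2⟩
        show q (h t) = q (h u)
        have h1' : h t = h u := h1
        rw [h1']
    rw [hset, ← h2, hk', hk] at h1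
    exact_mod_cast h1
  rw [hfd', hfd, hnn, hkk]

/-- The local fibre dimension is étale local on the source and target. -/
theorem fibreDimAt_etale_square {U U' V V' : Scheme.{u}} (h : U ⟶ V) (h' : U' ⟶ V') (a : U' ⟶ U)
    (b : V' ⟶ V) [Etale a] [Etale b] [LocallyOfFiniteType h'] (comm : h' ≫ b = a ≫ h)
    (u' : U') : FlatMor.fibreDimAt h (a u') = FlatMor.fibreDimAt h' u' := by
  have hb : LocallyQuasiFinite b :=
    Groth.Agent.Helper5.UnramLqf.locallyQuasiFinite_of_unramified b
  rw [← fibreDimAt_etale_comp a h u', ← comm, fibreDimAt_comp_lqf h' b u']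

end Groth.Agent.Helper5.EtFib
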