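import Groth.Prelude.Def_AlgSpDec
import Groth.Agent.Helper5.AtMor
import Groth.Agent.Helper5.EtFib
import Groth.Agent.Helper5.SrcEt
import Mathlib

set_option autoImplicit false
universe u
open CategoryTheory CategoryTheory.Limits AlgebraicGeometry Opposite

namespace Groth.Agent.Helper5.AtMor

open AlgSp Groth.Agent.Helper5.HasAtChart Groth.Agent.Helper5.GeomRed

variable {S : Scheme.{u}}

/-- A property of pointed morphisms locally of finite type is étale local on source and target. -/
def ELSTft (Q : ∀ (U V : Scheme.{u}), (U ⟶ V) → ↥U → Prop) : Prop :=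
  ∀ {U' V' U V : Scheme.{u}} (h' : U' ⟶ V') (h : U ⟶ V) (p : U' ⟶ U) (q : V' ⟶ V)
    [Etale p] [Etale q], LocallyOfFiniteType h → h' ≫ q = p ≫ h →
      ∀ u' : ↥U', Q U' V' h' u' ↔ Q U V h (p u')

/-- Chart independence of `HasAtMor` for properties of morphisms locally of finite type which are
étale local on source and target. -/
theorem hasAtMor_iff_chart_ft (Q : ∀ (U V : Scheme.{u}), (U ⟶ V) → ↥U → Prop) (hQ : ELSTft Q)
    {X Y : Sp S} (f : X ⟶ Y) (hf : LocP @LocallyOfFiniteType f)
    {U V : Over S} (a : (yon S).obj U ⟶ X) (b : (yon S).obj V ⟶ Y)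
    (h : U ⟶ V) (ha : RepWith @Etale a) (hb : RepWith @Etale b)
    (hcomm : a ≫ f = (yon S).map h ≫ b) (u : ↥U.left) :
    HasAtMor Q f (Points.ofPt a u) ↔ Q U.left V.left h.left u := by
  constructor
  · rintro ⟨U', V', a', b', h', u', ha', hb', hcomm', hu', hQ'⟩
    have hlft : LocallyOfFiniteType h.left := hf a b h ha hb hcomm
    have hlft' : LocallyOfFiniteType h'.left := hf a' b' h' ha' hb' hcomm'
    -- V'' = V ×_Y V'
    have sqV := hb.rep.isPullback b'
    obtain ⟨q, hq⟩ := (yon S).map_surjective (hb.rep.fst b')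
    rw [← hq] at sqV
    have hq'e : Etale (hb.rep.snd b').left := hb.property b' _ _ sqV
    have hqe : Etale q.left := hb'.property b _ _ sqV.flip
    clear hq
    generalize hb.rep.snd b' = q' at sqV hq'e
    generalize hb.rep.pullback b' = V'' at q q' sqV hqe hq'e
    -- U'' = U ×_X U'
    have sqU := ha.rep.isPullback a'
    obtain ⟨p, hp⟩ := (yon S).map_surjective (ha.rep.fst a')
    rw [← hp] at sqU
    have hp'e : Etale (ha.rep.snd a').left := ha.property a' _ _ sqU
    have hpe : Etale p.left := ha'.property a _ _ sqU.flip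
    clear hp
    generalize ha.rep.snd a' = p' at sqU hp'e
    generalize ha.rep.pullback a' = U'' at p p' sqU hpe hp'e
    obtain ⟨r, hr1, hr2⟩ :=
      Groth.Agent.Helper5.Decent2.exists_scheme_point_of_isPullback sqU u u' hu'.symm
    -- the induced map U'' ⟶ V''
    have hw : ((yon S).map p ≫ (yon S).map h) ≫ b = ((yon S).map p' ≫ (yon S).map h') ≫ b' := by
      rw [Category.assoc, ← hcomm, Category.assoc, ← hcomm', ← Category.assoc, sqU.w,
        Category.assoc]
    obtain ⟨h'', hh''⟩ := (yon S).map_surjective (sqV.lift _ _ hw)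
    have h1 : h'' ≫ q = p ≫ h := by
      apply (yon S).map_injective
      rw [Functor.map_comp, hh'', sqV.lift_fst, Functor.map_comp]
    have h2 : h'' ≫ q' = p' ≫ h' := by
      apply (yon S).map_injective
      rw [Functor.map_comp, hh'', sqV.lift_snd, Functor.map_comp]
    have h1' : h''.left ≫ q.left = p.left ≫ h.left := by
      rw [← Over.comp_left, h1, Over.comp_left]
    have h2' : h''.left ≫ q'.left = p'.left ≫ h'.left := by
      rw [← Over.comp_left, h2, Over.comp_left]
    have e1 := hQ h''.left h.left p.left q.left hlft h1' r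
    have e2 := hQ h''.left h'.left p'.left q'.left hlft' h2' r
    rw [hr1] at e1
    rw [hr2] at e2
    exact e1.1 (e2.2 hQ')
  · intro hq
    exact ⟨U, V, a, b, h, u, ha, hb, hcomm, rfl, hq⟩

/-- Any predicate of the local fibre dimension is étale local on source and target. -/
theorem elstft_fibreDimAt (R : WithBot ℕ∞ → Prop) :
    ELSTft (fun _ _ h u => R (FlatMor.fibreDimAt h u)) := by
  intro U' V' U V h' h p q _ _ hlft hcomm u'
  have hlft' : LocallyOfFiniteType h' := by
    have : LocallyOfFiniteType (h' ≫ q) := by rw [hcomm]; infer_instance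
    exact locallyOfFiniteType_of_comp h' q
  show R (FlatMor.fibreDimAt h' u') ↔ R (FlatMor.fibreDimAt h (p u'))
  rw [Groth.Agent.Helper5.EtFib.fibreDimAt_etale_square h h' p q hcomm u']

end Groth.Agent.Helper5.AtMor
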