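import Groth.Agent.Helper5.EqAt3

set_option autoImplicit false
universe u
open AlgebraicGeometry CategoryTheory TopologicalSpace

namespace Groth.Agent.Helper5.EqAt

open Groth.Agent.Helper5.LocDE Groth.Agent.Helper5.VarDim Groth.Agent.Helper5.MaxPt
  Groth.Agent.Helper5.SubDim Groth.Agent.Helper5.StalkDict

theorem irreducibleComponents_of_generic {T : Type*} [TopologicalSpace T] (ξ : T)
    (h : closure ({ξ} : Set T) = Set.univ) (Z : Set T) (hZ : Z ∈ irreducibleComponents T) :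
    Z = Set.univ := by
  have h1 : IsIrreducible (Set.univ : Set T) := by
    rw [← h]; exact isIrreducible_singleton.closure
  exact Set.eq_univ_of_univ_subset (hZ.2 h1 (Set.subset_univ Z))

/-- The dimension of an irreducible component of a fibre is the local fibre dimension at its
generic point. -/
theorem dim_component_fibre_eq {V Y : Scheme.{u}} (g : V ⟶ Y) [LocallyOfFiniteType g] (y : Y)
    (Z : Set ↥(g.fiber y)) (hZ : Z ∈ irreducibleComponents ↥(g.fiber y)) :
    ∃ t₀ : V, g t₀ = y ∧ topologicalKrullDim ↥Z = FlatMor.fibreDimAt g t₀ := by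
  have hZcl : IsClosed Z := isClosed_of_mem_irreducibleComponents Z hZ
  obtain ⟨ζ₀, hζ₀⟩ := QuasiSober.sober hZ.1 hZcl
  have hζ₀def : closure ({ζ₀} : Set ↥(g.fiber y)) = Z := hζ₀.def
  have hmaxζ : ∀ ζ' : ↥(g.fiber y), ζ' ⤳ ζ₀ → ζ' = ζ₀ := fun ζ' hζ' =>
    max_of_closure_mem_irreducibleComponents ζ₀ (by rw [hζ₀def]; exact hZ) ζ' hζ'
  let t₀ : V := g.fiberι y ζ₀
  have ht₀ : g t₀ = y := apply_fiberι g y ζ₀
  have hemb : Topology.IsEmbedding (g.fiberι y) := (g.fiberι y).isEmbedding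
  have hmax : ∀ w : V, g w = g t₀ → w ⤳ t₀ → w = t₀ := by
    intro w hw hsp
    have hr : w ∈ Set.range (g.fiberι y) := by
      rw [Scheme.Hom.range_fiberι]; exact hw.trans ht₀
    obtain ⟨ζ', rfl⟩ := hr
    have h1 : ζ' ⤳ ζ₀ := by
      rw [← hemb.toIsInducing.specializes_iff]; exact hsp
    rw [hmaxζ ζ' h1]
  obtain ⟨n₀, hn₀a, hn₀b⟩ := fibreDimAt_of_maximal g t₀ (coheight_asFiber_eq_zero g t₀ hmax)
  obtain ⟨n₁, hn₁a, hn₁b⟩ := dim_closure_fibre_point g y ζ₀ t₀ rfl ht₀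
  have : n₁ = n₀ := by
    have := hn₁b.symm.trans hn₀a
    exact_mod_cast this
  refine ⟨t₀, ht₀, ?_⟩
  rw [← hζ₀def, hn₁a, hn₀b, this]


theorem coheight_asFiber_le {X Y : Scheme.{u}} (f : X ⟶ Y) (x : X) :
    Order.coheight (f.asFiber x) ≤ Order.coheight x := by
  have h2 := coheight_eq_krullDim_of_isEmbedding (f.fiberι (f x))
    (f.fiberι (f x)).isEmbedding (f.asFiber x)
  have h3 : Order.krullDim ↥{t : X | t ∈ Set.range (f.fiberι (f x)) ∧
      (f.fiberι (f x)) (f.asFiber x) ≤ t} ≤ Order.krullDim ↥(Set.Ici x) := by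
    refine krullDim_mono_set ?_
    rintro t ⟨-, ht⟩
    rw [f.fiberι_asFiber] at ht
    exact ht
  rw [← h2, ← Order.coheight_eq_krullDim_Ici] at h3
  exact_mod_cast h3

/-- The numerical part of EGA IV 13.3.8-type statement. -/
theorem codim_fibre_data {X Y : Scheme.{u}} [IrreducibleSpace Y] [IsLocallyNoetherian Y]
    (f : X ⟶ Y) [LocallyOfFiniteType f] (U : X.Opens) (e : ℕ) (y0 : Y)
    (C1 : ∀ Z ∈ irreducibleComponents (↥U : Type u),
      ∃ W ∈ irreducibleComponents (Y : Type u), y0 ∈ W ∧ closure ((U.ι ≫ f).base '' Z) = W)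
    (C2 : ∀ x' : (↥U : Type u),
      ∀ Z ∈ irreducibleComponents (↥((U.ι ≫ f).fiber ((U.ι ≫ f).base x')) : Type u),
        topologicalKrullDim (↥Z : Type u) = e)
    {T : Scheme.{u}} (ιX : T ⟶ X) [IsClosedImmersion ιX] (w ξT : T) (hwU : ιX w ∈ U)
    (hξT : closure ({ξT} : Set T) = Set.univ) (n : ℕ)
    (hcodim : ringKrullDim (X.presheaf.stalk (ιX ξT)) ≤ n)
    (hdim : FlatMor.fibreDimAt (ιX ≫ f) w + n ≤ e) :
    ringKrullDim (X.presheaf.stalk (ιX ξT)) = n ∧ FlatMor.fibreDimAt (ιX ≫ f) w + n = e ∧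
      f (ιX ξT) = genericPoint Y ∧ ∃ m : ℕ, FlatMor.fibreDimAt (ιX ≫ f) ξT = (m : WithBot ℕ∞) ∧
        FlatMor.fibreDimAt (ιX ≫ f) w = (m : WithBot ℕ∞) := by
  have hX : IsLocallyNoetherian X := LocallyOfFiniteType.isLocallyNoetherian f
  let g : T ⟶ Y := ιX ≫ f
  have hgen : ∀ t : T, ξT ⤳ t := fun t => by
    rw [specializes_iff_mem_closure, hξT]; trivial
  have hx'w : ιX ξT ⤳ ιX w := (hgen w).map ιX.continuous
  have hx'U : ιX ξT ∈ U := hx'w.mem_open U.2 hwU
  have hchev := fibreDimAt_le_of_specializes g ξT w (hgen w)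
  have hmaxξ : ∀ t : T, g t = g ξT → t ⤳ ξT → t = ξT := fun t _ ht => (ht.antisymm (hgen t)).eq
  obtain ⟨n0, hn0a, hn0b⟩ := fibreDimAt_of_maximal g ξT (coheight_asFiber_eq_zero g ξT hmaxξ)
  have htr := trdeg_closedImmersion_comp ιX f ξT
  obtain ⟨k', n', -, hk'2, hn', hfd'⟩ := fibreDimAt_eq f (ιX ξT)
  have h0 : FlatMor.fibreDimAt f (ιX ξT) = (e : WithBot ℕ∞) :=
    fibreDimAt_of_components f U e C2 ⟨ιX ξT, hx'U⟩
  have q1 : n' = n0 := by
    have := hn'.symm.trans (htr.symm.trans hn0a)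
    exact_mod_cast this
  have q2 : k' + n' = e := by
    rw [hfd'] at h0
    exact_mod_cast h0
  obtain ⟨N, hN1, hN2⟩ := ringKrullDim_stalk_nat X (ιX ξT)
  have q3 : N ≤ n := by
    rw [hN1] at hcodim
    exact_mod_cast hcodim
  have q4 : k' ≤ N := by
    have := coheight_asFiber_le f (ιX ξT)
    rw [hk'2, hN2] at this
    exact_mod_cast this
  obtain ⟨kw, nw, -, -, -, hfdw⟩ := fibreDimAt_eq g w
  have q5 : kw + nw + n ≤ e := by
    rw [hfdw] at hdim
    exact_mod_cast hdim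
  have q6 : n0 ≤ kw + nw := by
    rw [hn0b, hfdw] at hchev
    exact_mod_cast hchev
  have q7 : N = n := by omega
  have q8 : kw + nw + n = e := by omega
  have q9 : n0 + n = e := by omega
  have q10 : k' = N := by omega
  refine ⟨by rw [hN1, q7], ?_, ?_, ⟨n0, hn0b, ?_⟩⟩
  · rw [hfdw]; exact_mod_cast q8
  rotate_left
  · rw [hfdw]
    have : kw + nw = n0 := by omega
    rw [this]
  · obtain ⟨z, hz1, hz2, hz3⟩ := exists_fibre_top f (ιX ξT) k' (le_of_eq hk'2.symm)
    have h1 : (k' : WithBot ℕ∞) ≤ Order.krullDim ↥(Set.Icc (ιX ξT) z) :=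
      hz3.trans (krullDim_mono_set (fun s hs => ⟨hs.2.1, hs.2.2⟩))
    have h2 := coheight_add_le_of_le_krullDim_Icc (ιX ξT) z k' h1
    obtain ⟨Nz, -, hNz2⟩ := ringKrullDim_stalk_nat X z
    rw [hNz2, hN2] at h2
    have h3 : Nz + k' ≤ N := by exact_mod_cast h2
    have hz0 : Order.coheight z = 0 := by
      rw [hNz2]
      have : Nz = 0 := by omega
      rw [this]; rfl
    have hzU : z ∈ U := hz2.mem_open U.2 hx'U
    have hmaxfz := max_map_of_components f U y0 C1 ⟨z, hzU⟩ hz0 (genericPoint Y)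
      ((genericPoint_spec Y).specializes (Set.mem_univ _))
    have h4 : U.ι (⟨z, hzU⟩ : ↥(U : Scheme.{u})) = z := rfl
    rw [h4, hz1] at hmaxfz
    exact hmaxfz.symm


/-- A morphism from a scheme with a generic point to an irreducible scheme, mapping the generic
point to the generic point, is equidimensional at every point where the local fibre dimension
equals the generic one. -/
theorem isEquidimAt_of_generic {T Y : Scheme.{u}} [IrreducibleSpace Y] (g : T ⟶ Y)
    [LocallyOfFiniteType g] (w ξT : T) (hξT : closure ({ξT} : Set T) = Set.univ) (m : ℕ)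
    (hgenY : g ξT = genericPoint Y)
    (hξm : FlatMor.fibreDimAt g ξT = (m : WithBot ℕ∞))
    (hwm : FlatMor.fibreDimAt g w = (m : WithBot ℕ∞)) :
    EGA43.IsEquidimAt g w := by
  have hgen : ∀ t : T, ξT ⤳ t := fun t => by
    rw [specializes_iff_mem_closure, hξT]; trivial
  let UT : T.Opens := ⟨{t | FlatMor.fibreDimAt g t ≤ (m : WithBot ℕ∞)},
    Groth.Agent.Helper5.FibDim.isOpen_fibreDimAt_le g m⟩
  have hξU : ξT ∈ UT := le_of_eq hξm
  refine ⟨m, UT, (le_of_eq hwm : w ∈ UT), ?_, ?_⟩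
  · intro Z hZ
    refine ⟨Set.univ, ?_, trivial, ?_⟩
    · rw [irreducibleComponents_eq_singleton]; rfl
    · let ξU : ↥(UT : Scheme.{u}) := ⟨ξT, hξU⟩
      have hξUgen : closure ({ξU} : Set ↥(UT : Scheme.{u})) = Set.univ := by
        refine Set.eq_univ_of_forall fun t => ?_
        rw [← specializes_iff_mem_closure, ← UT.ι.isEmbedding.toIsInducing.specializes_iff]
        exact hgen _
      have hZu := irreducibleComponents_of_generic ξU hξUgen Z hZ
      rw [hZu]
      refine Set.eq_univ_of_univ_subset ?_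
      rw [← (genericPoint_spec Y).def]
      refine closure_mono ?_
      rw [Set.singleton_subset_iff]
      exact ⟨ξU, trivial, hgenY⟩
  · intro t Z hZ
    obtain ⟨t₀, -, hdimZ⟩ := dim_component_fibre_eq (UT.ι ≫ g) _ Z hZ
    rw [hdimZ, fibreDimAt_open_restrict g UT t₀]
    apply le_antisymm
    · exact t₀.2
    · rw [← hξm]
      exact fibreDimAt_le_of_specializes g ξT _ (hgen _)

end Groth.Agent.Helper5.EqAt
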