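import Groth.Prelude.Def_AlgSpDec
import Groth.Agent.Helper5.AtMorFt
import Groth.Agent.Helper5.CutSec7
import Groth.Agent.Helper5.EqAt4
import Mathlib

set_option autoImplicit false
universe u
open CategoryTheory CategoryTheory.Limits AlgebraicGeometry Opposite

namespace Groth.Agent.Helper5.RelDim

open AlgSp Groth.Agent.Helper5.AtMor Groth.Agent.Helper5.EqAt Groth.Agent.Helper5.SubDim

variable {S : Scheme.{u}}

/-- A morphism locally of finite type with vanishing local fibre dimension everywhere is locally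
quasi-finite. -/
theorem locallyQuasiFinite_of_fibreDimAt_eq_zero {A B : Scheme.{u}} (g : A ⟶ B)
    [LocallyOfFiniteType g] (h0 : ∀ a : A, FlatMor.fibreDimAt g a = 0) : LocallyQuasiFinite g := by
  refine Groth.Agent.Helper5.CutSec.locallyQuasiFinite_of_components g ?_
  intro x' Z hZ
  obtain ⟨t₀, -, hdim⟩ := dim_component_fibre_eq g (g x') Z hZ
  rw [hdim, h0 t₀]
  rfl

/-- The local fibre dimension of a locally quasi-finite morphism locally of finite type is `0`. -/
theorem fibreDimAt_eq_zero_of_lqf {A B : Scheme.{u}} (g : A ⟶ B) [LocallyOfFiniteType g]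
    [LocallyQuasiFinite g] (a : A) : FlatMor.fibreDimAt g a = 0 := by
  obtain ⟨k, n, -, -, -, hfd⟩ := fibreDimAt_eq g a
  have h0 := Groth.Agent.Helper5.EtFib.fibreDimAt_le_zero_of_lqf g a
  rw [hfd] at h0 ⊢
  have h1 : k + n ≤ 0 := by exact_mod_cast h0
  have h2 : k + n = 0 := by omega
  rw [h2]; rfl

/-- S10310. -/
theorem locP_lqf_iff_relDim_zero {X Y : Sp S} (hX : IsAlgSpace X) (hY : IsAlgSpace Y) (f : X ⟶ Y)
    (hf : LocP @LocallyOfFiniteType f) :
    LocP (@LocallyQuasiFinite ⊓ @LocallyOfFiniteType) f ↔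
      ∀ x : Points X, HasAtMor (fun _ _ h u => FlatMor.fibreDimAt h u = 0) f x := by
  constructor
  · intro hlqf x
    obtain ⟨U, V, a, b, h, u, ha, hb, hcomm, hu⟩ :=
      Groth.Agent.Helper5.SrcEt.exists_chart_at hX hY f x
    have h1 : LocallyQuasiFinite h.left := (hlqf a b h ha hb hcomm).1
    have h2 : LocallyOfFiniteType h.left := (hlqf a b h ha hb hcomm).2
    exact ⟨U, V, a, b, h, u, ha, hb, hcomm, hu, fibreDimAt_eq_zero_of_lqf h.left u⟩
  · intro H U V a b h ha hb hcomm
    have hlft : LocallyOfFiniteType h.left := hf a b h ha hb hcomm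
    refine ⟨?_, hlft⟩
    apply locallyQuasiFinite_of_fibreDimAt_eq_zero
    intro u
    exact (hasAtMor_iff_chart_ft _ (elstft_fibreDimAt (fun d => d = 0)) f hf a b h ha hb hcomm u).1
      (H (Points.ofPt a u))

end Groth.Agent.Helper5.RelDim
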