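import Mathlib
import Groth.Prelude
import Groth.Agent.Helper5.LscDim5
import Groth.Agent.Helper5.RelDim1
import Groth.Agent.Helper5.BCMin13

set_option autoImplicit false
set_option linter.unusedSectionVars false
set_option linter.style.haveILetI false
universe u

open AlgebraicGeometry CategoryTheory CategoryTheory.Limits TopologicalSpace

namespace Groth.Agent.Helper5.LscDim

/-- local fibre dimension of a restriction over an open of the target -/
theorem fibreDimAt_morphismRestrict {X S : Scheme.{u}} (f : X ⟶ S) [LocallyOfFiniteType f]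
    (U : S.Opens) (x : ↥((f ⁻¹ᵁ U : X.Opens) : Scheme.{u})) :
    FlatMor.fibreDimAt (f ∣_ U) x = FlatMor.fibreDimAt f ((f ⁻¹ᵁ U).ι x) :=
  Groth.Agent.Helper5.BCMin.fibreDimAt_of_isPullback f U.ι (f ⁻¹ᵁ U).ι (f ∣_ U)
    (isPullback_morphismRestrict f U).flip x

theorem s0450 {X S : Scheme.{u}} (f : X ⟶ S) [Flat f] [IsProper f]
    [LocallyOfFinitePresentation f] (U : S.Opens)
    (hU : Dense (U : Set ↑S)) [IsFinite (f ∣_ U)] : IsFinite f := by
  rw [IsFinite.iff_isProper_and_locallyQuasiFinite]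
  refine ⟨inferInstance, ?_⟩
  apply Groth.Agent.Helper5.RelDim.locallyQuasiFinite_of_fibreDimAt_eq_zero
  intro x
  obtain ⟨m, hm⟩ := Groth.Agent.Helper5.SubDim.fibreDimAt_nat f x
  obtain ⟨N, hN, h⟩ := exists_nhd f x
  obtain ⟨y', hy'N, hy'U⟩ := hU.inter_open_nonempty N N.2 ⟨f x, hN⟩
  obtain ⟨x', hx', hle⟩ := h y' hy'N
  have hx'U : x' ∈ f ⁻¹ᵁ U := by
    show f x' ∈ U
    rw [hx']; exact hy'U
  have h1 := fibreDimAt_morphismRestrict f U ⟨x', hx'U⟩
  haveI : LocallyQuasiFinite (f ∣_ U) := inferInstance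
  rw [Groth.Agent.Helper5.RelDim.fibreDimAt_eq_zero_of_lqf] at h1
  have h2 : FlatMor.fibreDimAt f x' = 0 := h1.symm
  rw [h2, hm] at hle
  rw [hm]
  have : m ≤ 0 := by exact_mod_cast hle
  have : m = 0 := by omega
  rw [this]; rfl

end Groth.Agent.Helper5.LscDim
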