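import Mathlib
import Groth.Prelude
import Groth.Agent.Helper5.LscDim4
import Groth.Agent.Helper5.MaxPt1

set_option autoImplicit false
set_option linter.unusedSectionVars false
set_option linter.style.haveILetI false
universe u

open AlgebraicGeometry CategoryTheory CategoryTheory.Limits TopologicalSpace

namespace Groth.Agent.Helper5.LscDim

/-- affine source: near a point `z` whose residue field has transcendence degree `tz` over the
residue field of its image, all local fibre dimensions are at least `tz` -/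
theorem exists_open_ge_affine {X Y : Scheme.{u}} [IsAffine X] (f : X ⟶ Y) [Flat f]
    [LocallyOfFinitePresentation f] (z : X) (tz : ℕ)
    (htr : @Algebra.trdeg (Y.residueField (f z)) (X.residueField z) _ _
      (f.residueFieldMap z).hom.toAlgebra = tz) :
    ∃ W : X.Opens, z ∈ W ∧ ∀ w : X, w ∈ W → (tz : WithBot ℕ∞) ≤ FlatMor.fibreDimAt f w := by
  letI algK : Algebra (Y.residueField (f z)) (X.residueField z) :=
    (f.residueFieldMap z).hom.toAlgebra
  obtain ⟨v, hv⟩ := exists_algIndep_of_trdeg (K := Y.residueField (f z))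
    (L := X.residueField z) (X.Γevaluation z).hom (exists_quot_of_isAffine z) tz htr
  let n := ULift.{u} (Fin tz)
  let π : 𝔸(n; Y) ⟶ Y := 𝔸(n; Y) ↘ Y
  let g : X ⟶ 𝔸(n; Y) := AffineSpace.homOfVector f v
  have hg : g ≫ π = f := AffineSpace.homOfVector_over f v
  haveI : Flat (g ≫ π) := by rw [hg]; infer_instance
  haveI : LocallyOfFinitePresentation (g ≫ π) := by rw [hg]; infer_instance
  have hflat : (g.stalkMap z).hom.Flat := by
    apply flatAt_of_algIndep g z
    have : ∀ h : X ⟶ Y, h = f → @AlgebraicIndependent n (Y.residueField (h z))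
        (X.residueField z) (fun i => X.Γevaluation z (g.appTop (AffineSpace.coord Y i))) _ _
        (h.residueFieldMap z).hom.toAlgebra := by
      rintro h rfl
      convert hv using 1
      · funext i
        rw [AffineSpace.homOfVector_appTop_coord]
      all_goals rfl
    exact this _ hg
  haveI : LocallyOfFinitePresentation g :=
    Groth.Agent.Helper2.LfpComp.locallyOfFinitePresentation_of_comp g π inferInstance
      inferInstance
  have hopen := Groth.Agent.Helper2.FlatLocusSch.isOpen_flat_locus g
  let W : X.Opens := ⟨_, hopen⟩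
  have hcard : (Nat.card n : WithBot ℕ∞) = (tz : WithBot ℕ∞) := by
    simp [n]
  refine ⟨W, hflat, fun w hw => ?_⟩
  have h1 := (Groth.Agent.Helper5.CompFib.fibreDimAt_comp g π w).2 hw
  rw [fibreDimAt_affineSpace, hcard] at h1
  have h2 : FlatMor.fibreDimAt (g ≫ π) w = FlatMor.fibreDimAt f w := by rw [hg]
  rw [h2] at h1
  obtain ⟨m, hm⟩ := Groth.Agent.Helper5.SubDim.fibreDimAt_nat g w
  rw [h1, hm]
  exact_mod_cast Nat.le_add_left tz m

/-- near a point `z` whose residue field has transcendence degree `tz` over the residue field of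
its image, all local fibre dimensions are at least `tz` -/
theorem exists_open_ge {X Y : Scheme.{u}} (f : X ⟶ Y) [Flat f]
    [LocallyOfFinitePresentation f] (z : X) (tz : ℕ)
    (htr : @Algebra.trdeg (Y.residueField (f z)) (X.residueField z) _ _
      (f.residueFieldMap z).hom.toAlgebra = tz) :
    ∃ W : X.Opens, z ∈ W ∧ ∀ w : X, w ∈ W → (tz : WithBot ℕ∞) ≤ FlatMor.fibreDimAt f w := by
  obtain ⟨(U : X.Opens), hU, hzU, -⟩ := (Opens.isBasis_iff_nbhd.1 X.isBasis_affineOpens)
    (show z ∈ (⊤ : X.Opens) from trivial)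
  haveI : IsAffine (U : Scheme.{u}) := hU
  have htr' := Groth.Agent.Helper5.EqAt.trdeg_preimmersion_comp U.ι f ⟨z, hzU⟩
  obtain ⟨W, hzW, hW⟩ := exists_open_ge_affine (U.ι ≫ f) ⟨z, hzU⟩ tz (htr'.trans htr)
  refine ⟨U.ι ''ᵁ W, ⟨⟨z, hzU⟩, hzW, rfl⟩, ?_⟩
  rintro _ ⟨w, hw, rfl⟩
  have h1 := hW w hw
  rw [Groth.Agent.Helper5.EqAt.fibreDimAt_open_restrict] at h1
  exact h1

end Groth.Agent.Helper5.LscDim
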