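import Mathlib

set_option autoImplicit false
open TopologicalSpace

namespace Groth.Agent.Helper5.RF4

variable {α : Type*} [TopologicalSpace α]

theorem dense_of_generic_mem (W : Set α)
    (h : ∀ Z ∈ irreducibleComponents α, ∃ ξ ∈ W, IsGenericPoint ξ Z) : Dense W := by
  intro x
  obtain ⟨ξ, hξW, hξ⟩ := h _ (irreducibleComponent_mem_irreducibleComponents x)
  have hx : x ∈ closure {ξ} := by
    rw [hξ.def]; exact mem_irreducibleComponent
  exact closure_mono (Set.singleton_subset_iff.mpr hξW) hx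

variable [NoetherianSpace α]

/-- the open complement of the other irreducible components -/
def compOpen (Z : Set α) : Opens α :=
  ⟨(⋃₀ (irreducibleComponents α \ {Z}))ᶜ, by
    rw [Set.sUnion_eq_biUnion, isOpen_compl_iff]
    exact (NoetherianSpace.finite_irreducibleComponents (α := α)).sdiff.isClosed_biUnion
      fun W hW ↦ isClosed_of_mem_irreducibleComponents W hW.1⟩

theorem compOpen_subset (Z : Set α) (hZ : Z ∈ irreducibleComponents α) :
    (compOpen Z : Set α) ⊆ Z := by
  intro x hx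
  have h1 := irreducibleComponent_mem_irreducibleComponents x
  by_contra hxZ
  apply hx
  refine ⟨irreducibleComponent x, ⟨h1, ?_⟩, mem_irreducibleComponent⟩
  intro h
  rw [Set.mem_singleton_iff] at h
  exact hxZ (h ▸ mem_irreducibleComponent)

theorem disjoint_compOpen {Z Z' : Set α} (hZ' : Z' ∈ irreducibleComponents α) (hne : Z ≠ Z') :
    Disjoint (compOpen Z) (compOpen Z') := by
  rw [disjoint_iff]
  ext x
  simp only [Opens.coe_inf, Set.mem_inter_iff, SetLike.mem_coe, Opens.coe_bot, Set.mem_empty_iff_false,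
    iff_false, not_and]
  intro hx hx'
  have h2 := compOpen_subset Z' hZ' hx'
  apply hx
  exact ⟨Z', ⟨hZ', fun h => hne (Set.mem_singleton_iff.mp h).symm⟩, h2⟩

theorem generic_mem_compOpen {Z : Set α} (hZ : Z ∈ irreducibleComponents α) (ξ : α)
    (hξ : IsGenericPoint ξ Z) : ξ ∈ compOpen Z := by
  rintro ⟨Z', ⟨hZ', hne⟩, hξZ'⟩
  apply hne
  rw [Set.mem_singleton_iff]
  have h1 : Z ⊆ Z' := by
    rw [← hξ.def]
    exact (isClosed_of_mem_irreducibleComponents Z' hZ').closure_subset_iff.mpr
      (Set.singleton_subset_iff.mpr hξZ')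
  exact le_antisymm (hZ.2 hZ'.1 h1) h1

theorem generic_mem_of_dense {Z : Set α} (hZ : Z ∈ irreducibleComponents α) (ξ : α)
    (hξ : IsGenericPoint ξ Z) (V : Set α) (hVo : IsOpen V) (hV : Dense V) : ξ ∈ V := by
  obtain ⟨x, hxZ, hxV⟩ := hV.inter_open_nonempty _ (compOpen Z).isOpen
    ⟨ξ, generic_mem_compOpen hZ ξ hξ⟩
  have h1 : ξ ⤳ x := by
    rw [specializes_iff_mem_closure, hξ.def]
    exact compOpen_subset Z hZ hxZ
  exact h1.mem_open hVo hxV

end Groth.Agent.Helper5.RF4
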