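import Mathlib
import Groth.Prelude
import Groth.Agent.Helper5.GenFib2
import Groth.Agent.Helper5.LscDim9
import Groth.Agent.Helper5.LscDim6
import Groth.Agent.Helper5.OpenAt3
import Groth.Agent.Helper5.RF4
import Groth.Agent.Helper5.GrpdDim1

set_option autoImplicit false
set_option linter.unusedSectionVars false
set_option linter.style.haveILetI false
universe u

open AlgebraicGeometry CategoryTheory CategoryTheory.Limits TopologicalSpace

namespace Groth.Agent.Helper5.GenFib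

/-- generic flatness packaged with the scheme-theoretic image: a quasi-compact morphism locally
of finite type from a reduced scheme to an irreducible scheme which hits the generic point
factors through a surjective closed immersion `j` such that the first factor is flat and locally
of finite presentation over a non-empty open. -/
theorem exists_flat_model {T Y : Scheme.{u}} (g : T ⟶ Y) [IsReduced T] [IrreducibleSpace Y]
    [LocallyOfFiniteType g] [QuasiCompact g] (hη : genericPoint Y ∈ Set.range g) :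
    ∃ (Y' : Scheme.{u}) (j : Y' ⟶ Y) (g' : T ⟶ Y') (U' : Y'.Opens), g' ≫ j = g ∧
      IsClosedImmersion j ∧ Function.Surjective j ∧ IsOpenMap j ∧ LocallyOfFiniteType g' ∧
      (U' : Set Y').Nonempty ∧ Flat (g' ∣_ U') ∧ LocallyOfFinitePresentation (g' ∣_ U') := by
  haveI : IsReduced g.image := Groth.Agent.Helper7.UHImg.isReduced_image g
  haveI : LocallyOfFiniteType (g.toImage ≫ g.imageι) := by
    rw [g.toImage_imageι]; infer_instance
  haveI : LocallyOfFiniteType g.toImage := locallyOfFiniteType_of_comp g.toImage g.imageι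
  obtain ⟨U, hUd, hUflat, hUfp⟩ := Groth.Agent.Helper3.RedGF6.main g.toImage
  have hrange : Set.range g.imageι = Set.univ := by
    rw [Scheme.IdealSheafData.range_subschemeι, Scheme.Hom.support_ker]
    rw [Set.eq_univ_iff_forall]
    intro y
    have h1 : closure {genericPoint Y} ⊆ closure (Set.range g) :=
      closure_mono (Set.singleton_subset_iff.2 hη)
    apply h1
    have := genericPoint_spec Y
    rw [this.def]
    trivial
  have hsurj : Function.Surjective g.imageι := Set.range_eq_univ.1 hrange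
  have hce : Topology.IsClosedEmbedding g.imageι := g.imageι.isClosedEmbedding
  have hopenmap : IsOpenMap g.imageι :=
    (hce.isEmbedding.toHomeomorphOfSurjective hsurj).isOpenMap
  have hUne : (U : Set g.image).Nonempty := by
    obtain ⟨t, ht⟩ := hη
    exact hUd.nonempty_iff.2 ⟨g.toImage t⟩
  exact ⟨g.image, g.imageι, g.toImage, U, g.toImage_imageι, inferInstance, hsurj, hopenmap,
    inferInstance, hUne, hUflat, hUfp⟩

/-- the local dimension only depends on a neighbourhood -/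
theorem localDim_eq_of_nhds {T : Type*} [TopologicalSpace T] (A B O : Set T) (hAB : A ⊆ B)
    (hO : IsOpen O) (hOB : O ∩ B ⊆ A) (x : T) (hxA : x ∈ A) (hxO : x ∈ O) :
    FlatMor.localDim ↥A ⟨x, hxA⟩ = FlatMor.localDim ↥B ⟨x, hAB hxA⟩ := by
  have hsubA : O ∩ A ⊆ A := Set.inter_subset_right
  have hsubB : O ∩ A ⊆ B := fun w hw => hAB hw.2
  have hA : Topology.IsOpenEmbedding (Set.inclusion hsubA) := by
    refine ⟨Topology.IsEmbedding.inclusion hsubA, ?_⟩
    rw [Set.range_inclusion]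
    have : {a : ↥A | (a : T) ∈ O ∩ A} = Subtype.val ⁻¹' O := by
      ext a
      simp only [Set.mem_setOf_eq, Set.mem_inter_iff, Set.mem_preimage]
      exact ⟨fun h => h.1, fun h => ⟨h, a.2⟩⟩
    rw [this]
    exact hO.preimage continuous_subtype_val
  have hB : Topology.IsOpenEmbedding (Set.inclusion hsubB) := by
    refine ⟨Topology.IsEmbedding.inclusion hsubB, ?_⟩
    rw [Set.range_inclusion]
    have : {b : ↥B | (b : T) ∈ O ∩ A} = Subtype.val ⁻¹' O := by
      ext b
      simp only [Set.mem_setOf_eq, Set.mem_inter_iff, Set.mem_preimage]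
      exact ⟨fun h => h.1, fun h => ⟨h, hOB ⟨h, b.2⟩⟩⟩
    rw [this]
    exact hO.preimage continuous_subtype_val
  have h1 := Groth.Agent.Helper5.EtLoc.localDim_of_isOpenEmbedding _ hA ⟨x, hxO, hxA⟩
  have h2 := Groth.Agent.Helper5.EtLoc.localDim_of_isOpenEmbedding _ hB ⟨x, hxO, hxA⟩
  exact h1.symm.trans h2

end Groth.Agent.Helper5.GenFib

namespace Groth.Agent.Helper5.GenFib

open AlgebraicGeometry CategoryTheory CategoryTheory.Limits TopologicalSpace

/-- a closed subset containing a maximal point of a fibre is not nowhere dense in the fibre -/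
theorem not_isNowhereDense_of_coheight_zero {X Y : Scheme.{u}} (f : X ⟶ Y)
    [LocallyOfFiniteType f] [QuasiCompact f] (Z : Set X) (hZ : IsClosed Z) (x : X) (hxZ : x ∈ Z)
    (y : Y) (hy : f x = y) (hk : Order.coheight (f.asFiber x) = 0) :
    ¬ IsNowhereDense ((f.fiberι y) ⁻¹' Z) := by
  subst hy
  intro hnd
  haveI hlft : LocallyOfFiniteType (f.fiberToSpecResidueField (f x)) :=
    inferInstanceAs (LocallyOfFiniteType (Limits.pullback.snd f (Y.fromSpecResidueField _)))
  haveI hqc : QuasiCompact (f.fiberToSpecResidueField (f x)) :=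
    inferInstanceAs (QuasiCompact (Limits.pullback.snd f (Y.fromSpecResidueField _)))
  haveI : IsLocallyNoetherian (f.fiber (f x)) :=
    LocallyOfFiniteType.isLocallyNoetherian (f.fiberToSpecResidueField (f x))
  haveI : CompactSpace ↥(f.fiber (f x)) :=
    QuasiCompact.compactSpace_of_compactSpace (f.fiberToSpecResidueField (f x))
  haveI : IsNoetherian (f.fiber (f x)) := ⟨⟩
  haveI : NoetherianSpace ↥(f.fiber (f x)) := inferInstance
  have hmax : ∀ w : ↥(f.fiber (f x)), w ⤳ f.asFiber x → w = f.asFiber x := by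
    intro w hw
    have h1 : IsMax (f.asFiber x) := Order.coheight_eq_zero.1 hk
    have h2 : f.asFiber x ≤ w := (Scheme.le_iff_specializes).2 hw
    have h3 : w ≤ f.asFiber x := h1 h2
    exact (hw.antisymm ((Scheme.le_iff_specializes).1 h3)).eq
  have hcomp := Groth.Agent.Helper5.EqAt.closure_singleton_mem_irreducibleComponents
    (f.asFiber x) hmax
  have hcl : IsClosed ((f.fiberι (f x)) ⁻¹' Z) := hZ.preimage (f.fiberι (f x)).continuous
  have hdo := (isClosed_isNowhereDense_iff_compl.1 ⟨hcl, hnd⟩)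
  have hmem := Groth.Agent.Helper5.RF4.generic_mem_of_dense hcomp (f.asFiber x) rfl _ hdo.1 hdo.2
  apply hmem
  show f.fiberι (f x) (f.asFiber x) ∈ Z
  rw [f.fiberι_asFiber]
  exact hxZ

end Groth.Agent.Helper5.GenFib

namespace Groth.Agent.Helper5.GenFib

open AlgebraicGeometry CategoryTheory CategoryTheory.Limits TopologicalSpace

/-- the local fibre dimension does not change under composition with a monomorphism -/
theorem fibreDimAt_comp_mono {T Y' Y : Scheme.{u}} (g' : T ⟶ Y') (j : Y' ⟶ Y) [Mono j]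
    [LocallyOfFiniteType (g' ≫ j)] (w : T) :
    FlatMor.fibreDimAt g' w = FlatMor.fibreDimAt (g' ≫ j) w := by
  have h0 : IsPullback (𝟙 T) g' g' (𝟙 Y') := IsPullback.of_horiz_isIso ⟨by simp⟩
  have h1 := Groth.Agent.Helper5.GrpdDim.isPullback_comp_mono h0 j
  rw [Category.id_comp] at h1
  exact Groth.Agent.Helper5.BCMin.fibreDimAt_of_isPullback (g' ≫ j) j (𝟙 T) g' h1 w

set_option maxHeartbeats 800000 in
/-- the core of the spreading-out argument: a point of the closed subscheme `Z'` near which the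
fibre of `f` is contained in `Z'` generises, over a generisation `η'` of its image, to a point
of `Z'` which is a maximal point of the fibre of `f`. -/
theorem core {X Y Z' Y' : Scheme.{u}} (f : X ⟶ Y) [LocallyOfFiniteType f]
    (ι : Z' ⟶ X) [IsClosedImmersion ι] (j : Y' ⟶ Y) [IsClosedImmersion j] (g' : Z' ⟶ Y')
    [LocallyOfFiniteType g'] (hcomm : g' ≫ j = ι ≫ f) (U' : Y'.Opens) [Flat (g' ∣_ U')]
    [LocallyOfFinitePresentation (g' ∣_ U')]
    (ξ : Z') (hξU : g' ξ ∈ U') (O : Set X) (hO : IsOpen O) (hξO : ι ξ ∈ O)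
    (hOZ : O ∩ f ⁻¹' {f (ι ξ)} ⊆ Set.range ι)
    (η' : Y') (hη'U : η' ∈ U') (hη' : η' ⤳ g' ξ) :
    ∃ c : Z', g' c = η' ∧ Order.coheight (f.asFiber (ι c)) = 0 := by
  haveI : LocallyOfFiniteType (ι ≫ f) := inferInstance
  haveI : LocallyOfFiniteType (g' ≫ j) := by rw [hcomm]; infer_instance
  -- (1)
  have hmem : ι ξ ∈ Set.range ι ∩ f ⁻¹' {f (ι ξ)} := ⟨⟨ξ, rfl⟩, rfl⟩
  have F1 := Groth.Agent.Helper5.SubDim.localDim_inter_fibre f ι ξ hmem
  have F2 := Groth.Agent.Helper5.LscDim.localDim_preimage f (f (ι ξ)) (ι ξ) rfl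
  have F3 := localDim_eq_of_nhds (Set.range ι ∩ f ⁻¹' {f (ι ξ)}) (f ⁻¹' {f (ι ξ)}) O
    Set.inter_subset_right hO (fun w hw => ⟨hOZ hw, hw.2⟩) (ι ξ) hmem hξO
  have hd1 : FlatMor.fibreDimAt (ι ≫ f) ξ = FlatMor.fibreDimAt f (ι ξ) := by
    rw [← F1, F3, F2]
  -- (2)
  have hG : ∀ w : Z', FlatMor.fibreDimAt g' w = FlatMor.fibreDimAt (ι ≫ f) w := by
    intro w
    rw [fibreDimAt_comp_mono g' j w]
    congr 1
  -- (3)
  let ξ' : ↥((g' ⁻¹ᵁ U' : Z'.Opens) : Scheme.{u}) := ⟨ξ, hξU⟩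
  have hR : ∀ w : ↥((g' ⁻¹ᵁ U' : Z'.Opens) : Scheme.{u}),
      FlatMor.fibreDimAt (g' ∣_ U') w = FlatMor.fibreDimAt g' ((g' ⁻¹ᵁ U').ι w) :=
    fun w => Groth.Agent.Helper5.LscDim.fibreDimAt_morphismRestrict g' U' w
  -- (4)
  obtain ⟨z₂, hz₂f, hz₂sp, -, hz₂d, tz, htz, hz₂t⟩ :=
    Groth.Agent.Helper5.OpenAt.exists_max_generization_fibreDimAt_eq (g' ∣_ U') ξ'
  -- (5)
  obtain ⟨W, hzW, hW⟩ := Groth.Agent.Helper5.LscDim.exists_open_ge (g' ∣_ U') z₂ tz htz
  -- (6)
  let η'' : ↥(U' : Scheme.{u}) := ⟨η', hη'U⟩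
  have hιG : ∀ w : ↥((g' ⁻¹ᵁ U' : Z'.Opens) : Scheme.{u}),
      U'.ι ((g' ∣_ U') w) = g' ((g' ⁻¹ᵁ U').ι w) := by
    intro w
    rw [← Scheme.Hom.comp_apply, ← Scheme.Hom.comp_apply, morphismRestrict_ι]
  have hspec : η'' ⤳ (g' ∣_ U') z₂ := by
    rw [hz₂f, ← U'.ι.isOpenEmbedding.isInducing.specializes_iff, hιG]
    exact hη'
  obtain ⟨ζ', hζ'sp, hζ'G⟩ := (Flat.generalizingMap (g' ∣_ U')) hspec
  -- (7)
  have hζ'W : ζ' ∈ W := hζ'sp.mem_open W.2 hzW
  have h7 := hW ζ' hζ'W
  let ζ : Z' := (g' ⁻¹ᵁ U').ι ζ'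
  have hζη : g' ζ = η' := by
    rw [← hιG, hζ'G]
    rfl
  -- (8)
  obtain ⟨c, hcf, hcsp, -, hcd, tc, htc, hct⟩ :=
    Groth.Agent.Helper5.OpenAt.exists_max_generization_fibreDimAt_eq (ι ≫ f) ζ
  have hgc : g' c = η' := by
    rw [← hζη]
    apply j.isClosedEmbedding.injective
    have : (g' ≫ j) c = (g' ≫ j) ζ := by rw [hcomm]; exact hcf
    simpa only [Scheme.Hom.comp_apply] using this
  refine ⟨c, hgc, ?_⟩
  -- (9)
  have e1 : (tz : WithBot ℕ∞) = FlatMor.fibreDimAt f (ι ξ) := by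
    have hξ' : (g' ⁻¹ᵁ U').ι ξ' = ξ := rfl
    rw [← hz₂t, hz₂d, hR ξ', hG, hξ', hd1]
  have e2 : (tz : WithBot ℕ∞) ≤ (tc : WithBot ℕ∞) := by
    rw [← hct, hcd, ← hG, ← hR ζ']
    exact h7
  have hsp : ι c ⤳ ι ξ := by
    have s1 : ζ ⤳ (g' ⁻¹ᵁ U').ι z₂ := hζ'sp.map (g' ⁻¹ᵁ U').ι.continuous
    have s2 : (g' ⁻¹ᵁ U').ι z₂ ⤳ ξ := hz₂sp.map (g' ⁻¹ᵁ U').ι.continuous
    exact ((hcsp.trans s1).trans s2).map ι.continuous
  have e3 := Groth.Agent.Helper5.MaxPt.fibreDimAt_le_of_specializes f (ι c) (ι ξ) hsp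
  -- (10)
  obtain ⟨k, n, -, hk, hn, hfd⟩ := Groth.Agent.Helper5.SubDim.fibreDimAt_eq f (ι c)
  have e4 := Groth.Agent.Helper5.EqAt.trdeg_preimmersion_comp ι f c
  have hn' : n = tc := by
    have : (n : Cardinal.{u}) = (tc : Cardinal.{u}) := by rw [← hn, ← e4, htc]
    exact_mod_cast this
  have e5 : ((k + n : ℕ) : WithBot ℕ∞) ≤ (n : WithBot ℕ∞) := by
    rw [← hfd, hn']
    exact (e3.trans (le_of_eq e1.symm)).trans e2
  have hk0 : k = 0 := by
    have : k + n ≤ n := by exact_mod_cast e5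
    omega
  rw [hk, hk0]
  rfl

end Groth.Agent.Helper5.GenFib

namespace Groth.Agent.Helper5.GenFib

open AlgebraicGeometry CategoryTheory CategoryTheory.Limits TopologicalSpace

set_option maxHeartbeats 800000 in
theorem s1298 {X Y : Scheme.{u}} (f : X ⟶ Y) [IrreducibleSpace ↑Y] [LocallyOfFiniteType f]
    [QuasiCompact f] (Z : Set ↑X) (hZ : IsClosed Z)
    (h : IsNowhereDense ((f.fiberι (genericPoint ↑Y)) ⁻¹' Z)) :
    ∃ V : Y.Opens, (V : Set ↑Y).Nonempty ∧ ∀ y ∈ V, IsNowhereDense ((f.fiberι y) ⁻¹' Z) := by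
  by_cases hcase : ∀ z ∈ Z, f z ≠ genericPoint Y
  · obtain ⟨V, hVne, hV⟩ := exists_open_disjoint f Z hZ hcase
    refine ⟨V, hVne, fun y hy => ?_⟩
    have : (f.fiberι y) ⁻¹' Z = ∅ := by
      ext p
      simp only [Set.mem_preimage, Set.mem_empty_iff_false, iff_false]
      intro hp
      apply hV _ hp
      rw [Groth.Agent.Helper5.VarDim.apply_fiberι]
      exact hy
    rw [this]
    exact isNowhereDense_empty
  · push_neg at hcase
    obtain ⟨z₀, hz₀Z, hz₀η⟩ := hcase
    let C : Closeds X := ⟨Z, hZ⟩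
    let I := Scheme.IdealSheafData.vanishingIdeal C
    have hrange : Set.range I.subschemeι = Z := by
      rw [Scheme.IdealSheafData.range_subschemeι,
        Scheme.IdealSheafData.coe_support_vanishingIdeal]
      rfl
    haveI : IsReduced I.subscheme :=
      Groth.Agent.Helper5.CutSec.isReduced_vanishingIdeal_subscheme C
    have hηg : genericPoint Y ∈ Set.range (I.subschemeι ≫ f) := by
      have : z₀ ∈ Set.range I.subschemeι := by rw [hrange]; exact hz₀Z
      obtain ⟨t, ht⟩ := this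
      exact ⟨t, by rw [Scheme.Hom.comp_apply, ht]; exact hz₀η⟩
    obtain ⟨Y', j, g', U', hcomm, hj, hjs, hjo, hg'lft, hU'ne, hflat, hfp⟩ :=
      exists_flat_model (I.subschemeι ≫ f) hηg
    obtain ⟨η', hη'⟩ := hjs (genericPoint Y)
    have hη'gen : ∀ y' : Y', η' ⤳ y' := by
      intro y'
      rw [← j.isClosedEmbedding.isInducing.specializes_iff, hη']
      exact (genericPoint_spec Y).specializes (Set.mem_univ _)
    have hη'U : η' ∈ U' := by
      obtain ⟨u, hu⟩ := hU'ne
      exact (hη'gen u).mem_open U'.2 hu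
    refine ⟨⟨j '' U', hjo _ U'.2⟩, hU'ne.image _, ?_⟩
    rintro y ⟨y', hy'U, rfl⟩
    by_contra hnd
    have hcl : IsClosed ((f.fiberι (j y')) ⁻¹' Z) := hZ.preimage (f.fiberι _).continuous
    rw [hcl.isNowhereDense_iff] at hnd
    obtain ⟨p, hp⟩ := Set.nonempty_iff_ne_empty.2 hnd
    rw [mem_interior] at hp
    obtain ⟨O', hO'sub, hO'open, hpO'⟩ := hp
    obtain ⟨O, hOopen, rfl⟩ := (f.fiberι (j y')).isEmbedding.isInducing.isOpen_iff.1 hO'open
    have hxZ : f.fiberι (j y') p ∈ Z := hO'sub hpO'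
    obtain ⟨ξ, hξ⟩ : f.fiberι (j y') p ∈ Set.range I.subschemeι := by rw [hrange]; exact hxZ
    have hfx : f (I.subschemeι ξ) = j y' := by
      rw [hξ]; exact Groth.Agent.Helper5.VarDim.apply_fiberι f (j y') p
    have hg'ξ : g' ξ = y' := by
      apply j.isClosedEmbedding.injective
      have : (g' ≫ j) ξ = (I.subschemeι ≫ f) ξ := by rw [hcomm]
      rw [Scheme.Hom.comp_apply, Scheme.Hom.comp_apply] at this
      rw [this, hfx]
    have hOZ : O ∩ f ⁻¹' {f (I.subschemeι ξ)} ⊆ Set.range I.subschemeι := by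
      rintro w ⟨hwO, hwf⟩
      rw [hfx] at hwf
      have : w ∈ Set.range (f.fiberι (j y')) := by rw [f.range_fiberι]; exact hwf
      obtain ⟨q, rfl⟩ := this
      rw [hrange]
      exact hO'sub hwO
    obtain ⟨c, hc1, hc2⟩ := core f I.subschemeι j g' hcomm U' ξ (hg'ξ ▸ hy'U) O hOopen
      (hξ ▸ hpO') hOZ η' hη'U (hη'gen _)
    have hfc : f (I.subschemeι c) = genericPoint Y := by
      have : (g' ≫ j) c = (I.subschemeι ≫ f) c := by rw [hcomm]
      rw [Scheme.Hom.comp_apply, Scheme.Hom.comp_apply, hc1, hη'] at this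
      exact this.symm
    have hcZ : I.subschemeι c ∈ Z := by rw [← hrange]; exact ⟨c, rfl⟩
    exact not_isNowhereDense_of_coheight_zero f Z hZ (I.subschemeι c) hcZ _ hfc hc2 h

end Groth.Agent.Helper5.GenFib
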