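import Mathlib
import Groth.Prelude
import Groth.Agent.Helper5.GenFib3

set_option autoImplicit false
set_option linter.unusedSectionVars false
set_option linter.style.haveILetI false
universe u

open AlgebraicGeometry CategoryTheory CategoryTheory.Limits TopologicalSpace

namespace Groth.Agent.Helper5.GenFib

theorem genericPoint_mem_of_isOpen {Y : Scheme.{u}} [IrreducibleSpace Y] (V : Set Y)
    (hV : IsOpen V) (hne : V.Nonempty) : genericPoint Y ∈ V := by
  obtain ⟨v, hv⟩ := hne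
  exact ((genericPoint_spec Y).specializes (Set.mem_univ v)).mem_open hV hv

set_option maxHeartbeats 800000 in
/-- generic openness: over a suitable non-empty open of the irreducible target, a quasi-compact
morphism locally of finite type is an open map -/
theorem exists_open_isOpen_image {X Y : Scheme.{u}} (f : X ⟶ Y) [IrreducibleSpace Y]
    [LocallyOfFiniteType f] [QuasiCompact f] (hη : genericPoint Y ∈ Set.range f) :
    ∃ V₀ : Y.Opens, (V₀ : Set Y).Nonempty ∧ ∀ W : Set X, IsOpen W → IsOpen (f '' W ∩ V₀) := by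
  let C : Closeds X := ⊤
  let I := Scheme.IdealSheafData.vanishingIdeal C
  have hrange : Set.range I.subschemeι = Set.univ := by
    rw [Scheme.IdealSheafData.range_subschemeι,
      Scheme.IdealSheafData.coe_support_vanishingIdeal]
    rfl
  have hιs : Function.Surjective I.subschemeι := Set.range_eq_univ.1 hrange
  haveI : IsReduced I.subscheme :=
    Groth.Agent.Helper5.CutSec.isReduced_vanishingIdeal_subscheme C
  have hηg : genericPoint Y ∈ Set.range (I.subschemeι ≫ f) := by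
    obtain ⟨x, hx⟩ := hη
    obtain ⟨t, rfl⟩ := hιs x
    exact ⟨t, hx⟩
  obtain ⟨Y', j, g', U', hcomm, hj, hjs, hjo, hg'lft, hU'ne, hflat, hfp⟩ :=
    exists_flat_model (I.subschemeι ≫ f) hηg
  have hopen' : IsOpenMap (g' ∣_ U') := (g' ∣_ U').isOpenMap
  have hιG : ∀ w : ↥((g' ⁻¹ᵁ U' : I.subscheme.Opens) : Scheme.{u}),
      U'.ι ((g' ∣_ U') w) = g' ((g' ⁻¹ᵁ U').ι w) := by
    intro w
    rw [← Scheme.Hom.comp_apply, ← Scheme.Hom.comp_apply, morphismRestrict_ι]
  have hjg : ∀ t : I.subscheme, j (g' t) = f (I.subschemeι t) := by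
    intro t
    show (g' ≫ j) t = _
    rw [hcomm]
    rfl
  refine ⟨⟨j '' U', hjo _ U'.2⟩, hU'ne.image _, ?_⟩
  intro W hW
  have hO : IsOpen (U'.ι '' ((g' ∣_ U') '' ((g' ⁻¹ᵁ U').ι ⁻¹' (I.subschemeι ⁻¹' W)))) :=
    U'.ι.isOpenEmbedding.isOpenMap _ (hopen' _
      ((hW.preimage I.subschemeι.continuous).preimage (g' ⁻¹ᵁ U').ι.continuous))
  have heq : f '' W ∩ (j '' U') =
      j '' (U'.ι '' ((g' ∣_ U') '' ((g' ⁻¹ᵁ U').ι ⁻¹' (I.subschemeι ⁻¹' W)))) := by
    ext y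
    constructor
    · rintro ⟨⟨x, hxW, rfl⟩, ⟨u, huU, hu⟩⟩
      obtain ⟨t, rfl⟩ := hιs x
      have hgt : g' t = u := by
        apply j.isClosedEmbedding.injective
        rw [hjg, hu]
      have htU : t ∈ g' ⁻¹ᵁ U' := by
        show g' t ∈ U'
        rw [hgt]; exact huU
      refine ⟨g' t, ⟨(g' ∣_ U') ⟨t, htU⟩, ⟨⟨t, htU⟩, hxW, rfl⟩, ?_⟩, hjg t⟩
      rw [hιG]
      rfl
    · rintro ⟨_, ⟨_, ⟨w, hwW, rfl⟩, rfl⟩, rfl⟩
      refine ⟨⟨I.subschemeι ((g' ⁻¹ᵁ U').ι w), hwW, ?_⟩, ?_⟩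
      · rw [hιG, hjg]
      · exact ⟨_, ((g' ∣_ U') w).2, rfl⟩
  show IsOpen (f '' W ∩ (j '' U'))
  rw [heq]
  exact hjo _ hO

/-- open image -/
theorem exists_open_subset_image {X Y : Scheme.{u}} (f : X ⟶ Y) [IrreducibleSpace Y]
    [LocallyOfFiniteType f] [QuasiCompact f] (W : Set X) (hW : IsOpen W)
    (hη : genericPoint Y ∈ f '' W) :
    ∃ V : Y.Opens, (V : Set Y).Nonempty ∧ (V : Set Y) ⊆ f '' W := by
  obtain ⟨V₀, hV₀ne, hV₀⟩ := exists_open_isOpen_image f (Set.image_subset_range _ _ hη)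
  refine ⟨⟨f '' W ∩ V₀, hV₀ W hW⟩, ⟨genericPoint Y, hη, ?_⟩, Set.inter_subset_left⟩
  exact genericPoint_mem_of_isOpen _ V₀.2 hV₀ne

/-- covering: a closed subset containing the generic fibre contains the preimage of a
non-empty open -/
theorem exists_open_preimage_subset {X Y : Scheme.{u}} (f : X ⟶ Y) [IrreducibleSpace Y]
    [LocallyOfFiniteType f] [QuasiCompact f] (E : Set X) (hE : IsClosed E)
    (hη : f ⁻¹' {genericPoint Y} ⊆ E) :
    ∃ V : Y.Opens, (V : Set Y).Nonempty ∧ f ⁻¹' (V : Set Y) ⊆ E := by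
  by_cases hr : genericPoint Y ∈ Set.range f
  · obtain ⟨V₀, hV₀ne, hV₀⟩ := exists_open_isOpen_image f hr
    refine ⟨V₀, hV₀ne, ?_⟩
    intro x hx
    by_contra hxE
    have hopen := hV₀ Eᶜ hE.isOpen_compl
    have hne : (f '' Eᶜ ∩ V₀).Nonempty := ⟨f x, ⟨x, hxE, rfl⟩, hx⟩
    obtain ⟨⟨z, hzE, hz⟩, -⟩ := genericPoint_mem_of_isOpen _ hopen hne
    exact hzE (hη hz)
  · obtain ⟨V, hVne, hV⟩ := exists_open_disjoint f Set.univ isClosed_univ
      (fun z _ hz => hr ⟨z, hz⟩)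
    exact ⟨V, hVne, fun x hx => absurd hx (hV x trivial)⟩

end Groth.Agent.Helper5.GenFib
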