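import Mathlib
import Groth.Agent.Helper5.GenFib4

set_option autoImplicit false
universe u

namespace Groth.Agent.Helper5.ConsPr

open CategoryTheory CategoryTheory.Limits AlgebraicGeometry TopologicalSpace Topology

/-- the image of a locally closed subset hitting the generic fibre contains a non-empty open -/
theorem exists_open_subset_image_inter {Y S : Scheme.{u}} (g : Y ⟶ S) [IrreducibleSpace S]
    [LocallyOfFiniteType g] [QuasiCompact g] (Z : Set Y) (hZ : IsClosed Z) (O : Set Y)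
    (hO : IsOpen O) (hη : genericPoint S ∈ g '' (Z ∩ O)) :
    ∃ V : S.Opens, (V : Set S).Nonempty ∧ (V : Set S) ⊆ g '' (Z ∩ O) := by
  let C : Closeds Y := ⟨Z, hZ⟩
  let I := Scheme.IdealSheafData.vanishingIdeal C
  have hrange : Set.range I.subschemeι = Z := by
    rw [Scheme.IdealSheafData.range_subschemeι, Scheme.IdealSheafData.coe_support_vanishingIdeal]
    rfl
  let g' : I.subscheme ⟶ S := I.subschemeι ≫ g
  let W : Set I.subscheme := I.subschemeι ⁻¹' O
  have hW : IsOpen W := hO.preimage I.subschemeι.continuous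
  have himg : g' '' W = g '' (Z ∩ O) := by
    ext s
    constructor
    · rintro ⟨t, ht, rfl⟩
      exact ⟨I.subschemeι t, ⟨hrange ▸ ⟨t, rfl⟩, ht⟩, rfl⟩
    · rintro ⟨y, ⟨hyZ, hyO⟩, rfl⟩
      rw [← hrange] at hyZ
      obtain ⟨t, rfl⟩ := hyZ
      exact ⟨t, hyO, rfl⟩
  rw [← himg] at hη ⊢
  exact Groth.Agent.Helper5.GenFib.exists_open_subset_image g' W hW hη

/-- Noetherian induction: a subset of the source that is generically decided on every irreducible
closed subset is decided fibrewise over a non-empty open of the irreducible base. -/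
theorem core_cons {Y S : Scheme.{u}} (g : Y ⟶ S) [IrreducibleSpace S] [NoetherianSpace Y]
    [LocallyOfFiniteType g] [QuasiCompact g] (E : Set Y)
    (H : ∀ Z : Set Y, IsClosed Z → IsIrreducible Z →
      ∃ O : Set Y, IsOpen O ∧ (Z ∩ O).Nonempty ∧ (Z ∩ O ⊆ E ∨ Z ∩ O ⊆ Eᶜ)) :
    ∃ V : S.Opens, (V : Set S).Nonempty ∧ ((g ⁻¹' (V : Set S) ⊆ E) ∨ (V : Set S) ⊆ g '' Eᶜ) := by
  suffices hQ : ∀ Z : Closeds Y, ∃ V : S.Opens, (V : Set S).Nonempty ∧
      ((g ⁻¹' (V : Set S) ∩ (Z : Set Y) ⊆ E) ∨ (V : Set S) ⊆ g '' ((Z : Set Y) ∩ Eᶜ)) by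
    obtain ⟨V, hV, h⟩ := hQ ⊤
    refine ⟨V, hV, h.imp ?_ ?_⟩
    · intro h1 y hy
      exact h1 ⟨hy, trivial⟩
    · intro h1
      exact h1.trans (Set.image_mono Set.inter_subset_right)
  intro Z
  induction Z using WellFoundedLT.induction with
  | ind Z ih =>
  by_cases hne : (Z : Set Y).Nonempty
  swap
  · refine ⟨⊤, ⟨genericPoint S, trivial⟩, Or.inl ?_⟩
    rintro y ⟨-, hy⟩
    exact absurd ⟨y, hy⟩ hne
  by_cases hirr : IsPreirreducible (Z : Set Y)
  · -- irreducible case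
    have hZirr : IsIrreducible (Z : Set Y) := ⟨hne, hirr⟩
    obtain ⟨O, hO, hWne, hW⟩ := H Z Z.isClosed hZirr
    let Z' : Closeds Y := ⟨(Z : Set Y) ∩ Oᶜ, Z.isClosed.inter hO.isClosed_compl⟩
    have hZ'lt : Z' < Z := by
      refine lt_of_le_of_ne (fun y hy => hy.1) ?_
      intro heq
      obtain ⟨w, hwZ, hwO⟩ := hWne
      have : w ∈ (Z' : Set Y) := by rw [heq]; exact hwZ
      exact this.2 hwO
    obtain ⟨V', hV'ne, hV'⟩ := ih Z' hZ'lt
    have hsplit : ∀ y ∈ (Z : Set Y), y ∈ (Z' : Set Y) ∨ y ∈ (Z : Set Y) ∩ O := by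
      intro y hy
      by_cases hyO : y ∈ O
      · exact Or.inr ⟨hy, hyO⟩
      · exact Or.inl ⟨hy, hyO⟩
    rcases hV' with hV' | hV'
    swap
    · exact ⟨V', hV'ne, Or.inr (hV'.trans (Set.image_mono
        (Set.inter_subset_inter_left _ (fun y hy => hy.1))))⟩
    rcases hW with hW | hW
    · refine ⟨V', hV'ne, Or.inl ?_⟩
      rintro y ⟨hyV, hyZ⟩
      rcases hsplit y hyZ with h | h
      · exact hV' ⟨hyV, h⟩
      · exact hW h
    · by_cases hη : genericPoint S ∈ g '' ((Z : Set Y) ∩ O)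
      · obtain ⟨V, hVne, hV⟩ := exists_open_subset_image_inter g Z Z.isClosed O hO hη
        refine ⟨V, hVne, Or.inr (hV.trans (Set.image_mono ?_))⟩
        intro y hy
        exact ⟨hy.1, hW hy⟩
      · obtain ⟨z, hz⟩ := QuasiSober.sober hZirr Z.isClosed
        have hzsp : ∀ w ∈ (Z : Set Y), z ⤳ w := fun w hw => hz.specializes hw
        have hzW : z ∈ (Z : Set Y) ∩ O := by
          obtain ⟨w, hwZ, hwO⟩ := hWne
          exact ⟨hz.mem, (hzsp w hwZ).mem_open hO hwO⟩
        have hgz : g z ≠ genericPoint S := fun h => hη ⟨z, hzW, h⟩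
        have hclne : (closure {g z} : Set S)ᶜ.Nonempty := by
          rw [Set.nonempty_compl]
          intro hcl
          apply hgz
          exact ((genericPoint_spec S).eq (isGenericPoint_def.2 hcl)).symm
        let V : S.Opens := V' ⊓ ⟨(closure {g z})ᶜ, isClosed_closure.isOpen_compl⟩
        refine ⟨V, ?_, Or.inl ?_⟩
        · exact nonempty_preirreducible_inter V'.isOpen isClosed_closure.isOpen_compl hV'ne hclne
        · rintro y ⟨hyV, hyZ⟩
          rcases hsplit y hyZ with h | h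
          · exact hV' ⟨hyV.1, h⟩
          · exfalso
            apply hyV.2
            have : g z ⤳ g y := (hzsp y hyZ).map g.continuous
            exact this.mem_closed isClosed_closure (subset_closure rfl)
  · -- reducible case
    rw [isPreirreducible_iff_isClosed_union_isClosed] at hirr
    push_neg at hirr
    obtain ⟨z₁, z₂, hz₁, hz₂, hsub, hn₁, hn₂⟩ := hirr
    let Z₁ : Closeds Y := ⟨(Z : Set Y) ∩ z₁, Z.isClosed.inter hz₁⟩
    let Z₂ : Closeds Y := ⟨(Z : Set Y) ∩ z₂, Z.isClosed.inter hz₂⟩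
    have hlt₁ : Z₁ < Z := by
      refine lt_of_le_of_ne (fun y hy => hy.1) ?_
      intro heq
      apply hn₁
      intro y hy
      have : y ∈ (Z₁ : Set Y) := by rw [heq]; exact hy
      exact this.2
    have hlt₂ : Z₂ < Z := by
      refine lt_of_le_of_ne (fun y hy => hy.1) ?_
      intro heq
      apply hn₂
      intro y hy
      have : y ∈ (Z₂ : Set Y) := by rw [heq]; exact hy
      exact this.2
    obtain ⟨V₁, hV₁ne, hV₁⟩ := ih Z₁ hlt₁
    obtain ⟨V₂, hV₂ne, hV₂⟩ := ih Z₂ hlt₂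
    rcases hV₁ with hV₁ | hV₁
    swap
    · exact ⟨V₁, hV₁ne, Or.inr (hV₁.trans (Set.image_mono
        (Set.inter_subset_inter_left _ (fun y hy => hy.1))))⟩
    rcases hV₂ with hV₂ | hV₂
    swap
    · exact ⟨V₂, hV₂ne, Or.inr (hV₂.trans (Set.image_mono
        (Set.inter_subset_inter_left _ (fun y hy => hy.1))))⟩
    refine ⟨V₁ ⊓ V₂, nonempty_preirreducible_inter V₁.isOpen V₂.isOpen hV₁ne hV₂ne, Or.inl ?_⟩
    rintro y ⟨hyV, hyZ⟩
    rcases hsub hyZ with h | h
    · exact hV₁ ⟨hyV.1, hyZ, h⟩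
    · exact hV₂ ⟨hyV.2, hyZ, h⟩

end Groth.Agent.Helper5.ConsPr
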