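import Mathlib
import Groth.Agent.Helper5.ConsPr2

set_option autoImplicit false
universe u

namespace Groth.Agent.Helper5.ConsPr

open CategoryTheory CategoryTheory.Limits AlgebraicGeometry TopologicalSpace Topology

/-- Noetherian induction, ind-constructible version -/
theorem core_ind {Y S : Scheme.{u}} (g : Y ⟶ S) [IrreducibleSpace S] [NoetherianSpace Y]
    (E : Set Y)
    (H : ∀ Z : Set Y, IsClosed Z → IsIrreducible Z → (∀ z, IsGenericPoint z Z → z ∈ E) →
      ∃ O : Set Y, IsOpen O ∧ (Z ∩ O).Nonempty ∧ Z ∩ O ⊆ E)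
    (hη : g ⁻¹' {genericPoint S} ⊆ E) :
    ∃ V : S.Opens, (V : Set S).Nonempty ∧ g ⁻¹' (V : Set S) ⊆ E := by
  suffices hQ : ∀ Z : Closeds Y, ∃ V : S.Opens, (V : Set S).Nonempty ∧
      (g ⁻¹' (V : Set S) ∩ (Z : Set Y) ⊆ E) by
    obtain ⟨V, hV, h⟩ := hQ ⊤
    exact ⟨V, hV, fun y hy => h ⟨hy, trivial⟩⟩
  intro Z
  induction Z using WellFoundedLT.induction with
  | ind Z ih =>
  by_cases hne : (Z : Set Y).Nonempty
  swap
  · refine ⟨⊤, ⟨genericPoint S, trivial⟩, ?_⟩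
    rintro y ⟨-, hy⟩
    exact absurd ⟨y, hy⟩ hne
  by_cases hirr : IsPreirreducible (Z : Set Y)
  · have hZirr : IsIrreducible (Z : Set Y) := ⟨hne, hirr⟩
    obtain ⟨z, hz⟩ := QuasiSober.sober hZirr Z.isClosed
    have hzsp : ∀ w ∈ (Z : Set Y), z ⤳ w := fun w hw => hz.specializes hw
    by_cases hgz : g z = genericPoint S
    · have hzE : ∀ z', IsGenericPoint z' (Z : Set Y) → z' ∈ E := by
        intro z' hz'
        have : z' = z := hz'.eq hz
        subst this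
        exact hη hgz
      obtain ⟨O, hO, hWne, hW⟩ := H Z Z.isClosed hZirr hzE
      let Z' : Closeds Y := ⟨(Z : Set Y) ∩ Oᶜ, Z.isClosed.inter hO.isClosed_compl⟩
      have hZ'lt : Z' < Z := by
        refine lt_of_le_of_ne (fun y hy => hy.1) ?_
        intro heq
        obtain ⟨w, hwZ, hwO⟩ := hWne
        have : w ∈ (Z' : Set Y) := by rw [heq]; exact hwZ
        exact this.2 hwO
      obtain ⟨V', hV'ne, hV'⟩ := ih Z' hZ'lt
      refine ⟨V', hV'ne, ?_⟩
      rintro y ⟨hyV, hyZ⟩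
      by_cases hyO : y ∈ O
      · exact hW ⟨hyZ, hyO⟩
      · exact hV' ⟨hyV, hyZ, hyO⟩
    · have hclne : (closure {g z} : Set S)ᶜ.Nonempty := by
        rw [Set.nonempty_compl]
        intro hcl
        apply hgz
        exact ((genericPoint_spec S).eq (isGenericPoint_def.2 hcl)).symm
      refine ⟨⟨(closure {g z})ᶜ, isClosed_closure.isOpen_compl⟩, hclne, ?_⟩
      rintro y ⟨hyV, hyZ⟩
      exfalso
      apply hyV
      have : g z ⤳ g y := (hzsp y hyZ).map g.continuous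
      exact this.mem_closed isClosed_closure (subset_closure rfl)
  · rw [isPreirreducible_iff_isClosed_union_isClosed] at hirr
    push_neg at hirr
    obtain ⟨z₁, z₂, hz₁, hz₂, hsub, hn₁, hn₂⟩ := hirr
    let Z₁ : Closeds Y := ⟨(Z : Set Y) ∩ z₁, Z.isClosed.inter hz₁⟩
    let Z₂ : Closeds Y := ⟨(Z : Set Y) ∩ z₂, Z.isClosed.inter hz₂⟩
    have hlt₁ : Z₁ < Z := by
      refine lt_of_le_of_ne (fun y hy => hy.1) ?_
      intro heq
      apply hn₁
      intro y hy
      have : y ∈ (Z₁ : Set Y) := by rw [heq]; exact hy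
      exact this.2
    have hlt₂ : Z₂ < Z := by
      refine lt_of_le_of_ne (fun y hy => hy.1) ?_
      intro heq
      apply hn₂
      intro y hy
      have : y ∈ (Z₂ : Set Y) := by rw [heq]; exact hy
      exact this.2
    obtain ⟨V₁, hV₁ne, hV₁⟩ := ih Z₁ hlt₁
    obtain ⟨V₂, hV₂ne, hV₂⟩ := ih Z₂ hlt₂
    refine ⟨V₁ ⊓ V₂, nonempty_preirreducible_inter V₁.isOpen V₂.isOpen hV₁ne hV₂ne, ?_⟩
    rintro y ⟨hyV, hyZ⟩
    rcases hsub hyZ with h | h
    · exact hV₁ ⟨hyV.1, hyZ, h⟩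
    · exact hV₂ ⟨hyV.2, hyZ, h⟩

end Groth.Agent.Helper5.ConsPr
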