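import Mathlib
import Groth.Agent.Helper5.ConsPr1
import Groth.Agent.Helper5.ConsPr3
import Groth.Agent.Helper5.CutSec7

set_option autoImplicit false
universe u

namespace Groth.Agent.Helper5.ConsPr

open CategoryTheory CategoryTheory.Limits AlgebraicGeometry TopologicalSpace Topology

/-- an irreducible closed subset is the range of a closed immersion from an integral scheme -/
theorem exists_integral_subscheme {Y : Scheme.{u}} (Z : Set Y) (hZ : IsClosed Z)
    (hirr : IsIrreducible Z) :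
    ∃ (T : Scheme.{u}) (i : T ⟶ Y), IsClosedImmersion i ∧ IsIntegral T ∧ Set.range i = Z := by
  let C : Closeds Y := ⟨Z, hZ⟩
  let I := Scheme.IdealSheafData.vanishingIdeal C
  let ι₀ : I.subscheme ⟶ Y := I.subschemeι
  have hrange : Set.range ι₀ = Z := by
    rw [Scheme.IdealSheafData.range_subschemeι, Scheme.IdealSheafData.coe_support_vanishingIdeal]
    rfl
  have hred : IsReduced I.subscheme := Groth.Agent.Helper5.CutSec.isReduced_vanishingIdeal_subscheme C
  obtain ⟨ξ, hξ⟩ := QuasiSober.sober hirr hZ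
  have hξdef : closure ({ξ} : Set ↥Y) = Z := hξ.def
  obtain ⟨ξT, hξT⟩ : ξ ∈ Set.range ι₀ := by rw [hrange, ← hξdef]; exact subset_closure rfl
  have hξTgen : closure ({ξT} : Set ↥I.subscheme) = Set.univ := by
    rw [ι₀.isEmbedding.toIsInducing.closure_eq_preimage_closure_image, Set.image_singleton, hξT,
      hξdef]
    refine Set.eq_univ_of_forall fun t => ?_
    show ι₀ t ∈ Z
    rw [← hrange]; exact ⟨t, rfl⟩
  have hirr' : IrreducibleSpace ↥I.subscheme := by
    have h1 : IsIrreducible (Set.univ : Set ↥I.subscheme) := by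
      rw [← hξTgen]; exact isIrreducible_singleton.closure
    exact (irreducibleSpace_def _).2 h1
  have hint : IsIntegral I.subscheme := isIntegral_of_irreducibleSpace_of_isReduced _
  exact ⟨I.subscheme, ι₀, inferInstance, hint, hrange⟩

/-- finite type data over a Noetherian base -/
theorem noeth_of_comp {X Y S : Scheme.{u}} (f : X ⟶ Y) (g : Y ⟶ S) [IsNoetherian S]
    [LocallyOfFiniteType g] [QuasiCompact g] [LocallyOfFiniteType (f ≫ g)] [QuasiCompact (f ≫ g)] :
    IsNoetherian Y ∧ LocallyOfFiniteType f ∧ QuasiCompact f := by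
  have hY1 : IsLocallyNoetherian Y := LocallyOfFiniteType.isLocallyNoetherian g
  have hY2 : CompactSpace Y := QuasiCompact.compactSpace_of_compactSpace g
  have hX1 : IsLocallyNoetherian X := LocallyOfFiniteType.isLocallyNoetherian (f ≫ g)
  have hX2 : CompactSpace X := QuasiCompact.compactSpace_of_compactSpace (f ≫ g)
  have hX : IsNoetherian X := {}
  refine ⟨{}, locallyOfFiniteType_of_comp f g, ⟨fun U _ _ => NoetherianSpace.isCompact _⟩⟩

/-- a constructible relation is generically decided on every irreducible closed subset of the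
base of a family -/
theorem exists_open_of_isCons {P : ∀ ⦃Y T : Scheme.{u}⦄, (Y ⟶ T) → Prop} (hP : ConsProp.IsCons P)
    {X Y : Scheme.{u}} (f : X ⟶ Y) [IsNoetherian Y] [LocallyOfFiniteType f] [QuasiCompact f]
    (Z : Set Y) (hZ : IsClosed Z) (hirr : IsIrreducible Z) :
    ∃ O : Set Y, IsOpen O ∧ (Z ∩ O).Nonempty ∧
      (Z ∩ O ⊆ ConsProp.locus P f ∨ Z ∩ O ⊆ (ConsProp.locus P f)ᶜ) := by
  obtain ⟨T, i, hi, hT, hrange⟩ := exists_integral_subscheme Z hZ hirr
  have hT1 : IsLocallyNoetherian T := LocallyOfFiniteType.isLocallyNoetherian i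
  have hT2 : CompactSpace T := QuasiCompact.compactSpace_of_compactSpace i
  have hTN : IsNoetherian T := {}
  have hloc := locus_of_isPullback hP.1 (IsPullback.of_hasPullback f i)
  have key : ∀ A : Set Y, (interior (i ⁻¹' A)).Nonempty →
      ∃ O : Set Y, IsOpen O ∧ (Z ∩ O).Nonempty ∧ Z ∩ O ⊆ A := by
    intro A hA
    obtain ⟨O, hO, hOeq⟩ := i.isEmbedding.toIsInducing.isOpen_iff.1
      (isOpen_interior (s := i ⁻¹' A))
    refine ⟨O, hO, ?_, ?_⟩
    · obtain ⟨t, ht⟩ := hA
      refine ⟨i t, hrange ▸ ⟨t, rfl⟩, ?_⟩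
      have : t ∈ i ⁻¹' O := by rw [hOeq]; exact ht
      exact this
    · rintro y ⟨hyZ, hyO⟩
      rw [← hrange] at hyZ
      obtain ⟨t, rfl⟩ := hyZ
      have : t ∈ interior (i ⁻¹' A) := by rw [← hOeq]; exact hyO
      exact (interior_subset this : t ∈ i ⁻¹' A)
  rcases hP.2 (pullback.snd f i) with h | h
  · rw [hloc] at h
    obtain ⟨O, hO, hne, hsub⟩ := key _ h
    exact ⟨O, hO, hne, Or.inl hsub⟩
  · rw [hloc] at h
    obtain ⟨O, hO, hne, hsub⟩ := key (ConsProp.locus P f)ᶜ h
    exact ⟨O, hO, hne, Or.inr hsub⟩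

/-- ind-constructible version -/
theorem exists_open_of_isIndCons {P : ∀ ⦃Y T : Scheme.{u}⦄, (Y ⟶ T) → Prop}
    (hP : ConsProp.IsIndCons P)
    {X Y : Scheme.{u}} (f : X ⟶ Y) [IsNoetherian Y] [LocallyOfFiniteType f] [QuasiCompact f]
    (Z : Set Y) (hZ : IsClosed Z) (hirr : IsIrreducible Z)
    (hgen : ∀ z, IsGenericPoint z Z → z ∈ ConsProp.locus P f) :
    ∃ O : Set Y, IsOpen O ∧ (Z ∩ O).Nonempty ∧ Z ∩ O ⊆ ConsProp.locus P f := by
  obtain ⟨T, i, hi, hT, hrange⟩ := exists_integral_subscheme Z hZ hirr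
  have hT1 : IsLocallyNoetherian T := LocallyOfFiniteType.isLocallyNoetherian i
  have hT2 : CompactSpace T := QuasiCompact.compactSpace_of_compactSpace i
  have hTN : IsNoetherian T := {}
  have hloc := locus_of_isPullback hP.1 (IsPullback.of_hasPullback f i)
  have hgenT : genericPoint T ∈ ConsProp.locus P (pullback.snd f i) := by
    rw [hloc]
    apply hgen
    have h1 := (genericPoint_spec T).image i.continuous
    rw [Set.image_univ, hrange, hZ.closure_eq] at h1
    exact h1
  have h := hP.2 (pullback.snd f i) hgenT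
  rw [hloc] at h
  obtain ⟨O, hO, hOeq⟩ := i.isEmbedding.toIsInducing.isOpen_iff.1
    (isOpen_interior (s := i ⁻¹' ConsProp.locus P f))
  refine ⟨O, hO, ?_, ?_⟩
  · obtain ⟨t, ht⟩ := h
    refine ⟨i t, hrange ▸ ⟨t, rfl⟩, ?_⟩
    have : t ∈ i ⁻¹' O := by rw [hOeq]; exact ht
    exact this
  · rintro y ⟨hyZ, hyO⟩
    rw [← hrange] at hyZ
    obtain ⟨t, rfl⟩ := hyZ
    have : t ∈ interior (i ⁻¹' ConsProp.locus P f) := by rw [← hOeq]; exact hyO
    exact (interior_subset this : t ∈ i ⁻¹' ConsProp.locus P f)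

end Groth.Agent.Helper5.ConsPr
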