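import Mathlib
import Groth.Agent.Helper5.ConsLc1
import Groth.Agent.Helper5.ConsLc2
import Groth.Agent.Helper5.ConsPr4

set_option autoImplicit false
universe u

namespace Groth.Agent.Helper5.ConsLc

open CategoryTheory CategoryTheory.Limits AlgebraicGeometry TopologicalSpace Topology
open Groth.Agent.Helper5.ConsPr

/-- a nonempty open part of a closed subscheme inside the preimage of a set -/
theorem exists_open_of_interior_preimage {T Y : Scheme.{u}} (i : T ⟶ Y) [IsClosedImmersion i]
    (Z : Set Y) (hrange : Set.range i = Z) (A : Set Y) (hA : (interior (i ⁻¹' A)).Nonempty) :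
    ∃ O : Set Y, IsOpen O ∧ (Z ∩ O).Nonempty ∧ Z ∩ O ⊆ A := by
  obtain ⟨O, hO, hOeq⟩ := i.isEmbedding.toIsInducing.isOpen_iff.1
    (isOpen_interior (s := i ⁻¹' A))
  refine ⟨O, hO, ?_, ?_⟩
  · obtain ⟨t, ht⟩ := hA
    refine ⟨i t, hrange ▸ ⟨t, rfl⟩, ?_⟩
    have : t ∈ i ⁻¹' O := by rw [hOeq]; exact ht
    exact this
  · rintro y ⟨hyZ, hyO⟩
    rw [← hrange] at hyZ
    obtain ⟨t, rfl⟩ := hyZ
    have : t ∈ interior (i ⁻¹' A) := by rw [← hOeq]; exact hyO
    exact (interior_subset this : t ∈ i ⁻¹' A)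

/-- the generic point of an integral closed subscheme maps to the generic point of its image -/
theorem isGenericPoint_image_genericPoint {T Y : Scheme.{u}} (i : T ⟶ Y) [IsIntegral T]
    (Z : Set Y) (hZ : IsClosed Z) (hrange : Set.range i = Z) :
    IsGenericPoint (i (genericPoint T)) Z := by
  have h1 := (genericPoint_spec T).image i.continuous
  rw [Set.image_univ, hrange, hZ.closure_eq] at h1
  exact h1

section Pair

variable {P : ∀ ⦃X Y T : Scheme.{u}⦄, (X ⟶ T) → (Y ⟶ T) → Prop}
  {X Y S : Scheme.{u}} (u : X ⟶ S) (v : Y ⟶ S) [IsNoetherian S]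
  [LocallyOfFiniteType u] [QuasiCompact u] [LocallyOfFiniteType v] [QuasiCompact v]

theorem pair_decided (hP : ConsPropPair.IsConsPair P)
    (Z : Set S) (hZ : IsClosed Z) (hirr : IsIrreducible Z) :
    ∃ O : Set S, IsOpen O ∧ (Z ∩ O).Nonempty ∧
      (Z ∩ O ⊆ ConsPropPair.locusPair P u v ∨ Z ∩ O ⊆ (ConsPropPair.locusPair P u v)ᶜ) := by
  obtain ⟨T, i, hi, hT, hrange⟩ := exists_integral_subscheme Z hZ hirr
  have hT1 : IsLocallyNoetherian T := LocallyOfFiniteType.isLocallyNoetherian i
  have hT2 : CompactSpace T := QuasiCompact.compactSpace_of_compactSpace i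
  have hTN : IsNoetherian T := {}
  have hloc := locusPair_of_isPullback hP.1 (IsPullback.of_hasPullback u i)
    (IsPullback.of_hasPullback v i)
  rcases hP.2 (pullback.snd u i) (pullback.snd v i) with h | h
  · rw [hloc] at h
    obtain ⟨O, hO, hne, hsub⟩ := exists_open_of_interior_preimage i Z hrange _ h
    exact ⟨O, hO, hne, Or.inl hsub⟩
  · rw [hloc] at h
    obtain ⟨O, hO, hne, hsub⟩ := exists_open_of_interior_preimage i Z hrange
      (ConsPropPair.locusPair P u v)ᶜ h
    exact ⟨O, hO, hne, Or.inr hsub⟩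

theorem pair_ind_decided (hP : ConsPropPair.IsIndConsPair P)
    (Z : Set S) (hZ : IsClosed Z) (hirr : IsIrreducible Z)
    (hgen : ∀ z, IsGenericPoint z Z → z ∈ ConsPropPair.locusPair P u v) :
    ∃ O : Set S, IsOpen O ∧ (Z ∩ O).Nonempty ∧ Z ∩ O ⊆ ConsPropPair.locusPair P u v := by
  obtain ⟨T, i, hi, hT, hrange⟩ := exists_integral_subscheme Z hZ hirr
  have hT1 : IsLocallyNoetherian T := LocallyOfFiniteType.isLocallyNoetherian i
  have hT2 : CompactSpace T := QuasiCompact.compactSpace_of_compactSpace i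
  have hTN : IsNoetherian T := {}
  have hloc := locusPair_of_isPullback hP.1 (IsPullback.of_hasPullback u i)
    (IsPullback.of_hasPullback v i)
  have hgenT : genericPoint T ∈ ConsPropPair.locusPair P (pullback.snd u i) (pullback.snd v i) := by
    rw [hloc]
    exact hgen _ (isGenericPoint_image_genericPoint i Z hZ hrange)
  have h := hP.2 (pullback.snd u i) (pullback.snd v i) hgenT
  rw [hloc] at h
  exact exists_open_of_interior_preimage i Z hrange _ h

theorem isConstructible_locusPair_of_noeth (hP : ConsPropPair.IsConsPair P) :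
    IsConstructible (ConsPropPair.locusPair P u v) :=
  isConstructible_of_noeth _ (pair_decided u v hP)

theorem exists_cover_locusPair_of_noeth (hP : ConsPropPair.IsIndConsPair P) :
    ∃ 𝒮 : Set (Set S), (∀ T ∈ 𝒮, IsConstructible T) ∧ ConsPropPair.locusPair P u v = ⋃₀ 𝒮 :=
  exists_constructible_cover_of_noeth _ (pair_ind_decided u v hP)

end Pair

section Mor

variable {P : ∀ ⦃X Y T : Scheme.{u}⦄, (X ⟶ Y) → (Y ⟶ T) → Prop}
  {X Y S : Scheme.{u}} (f : X ⟶ Y) (g : Y ⟶ S) [IsNoetherian S]
  [LocallyOfFiniteType g] [QuasiCompact g] [LocallyOfFiniteType (f ≫ g)] [QuasiCompact (f ≫ g)]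

omit [AlgebraicGeometry.IsNoetherian S] [LocallyOfFiniteType g] [QuasiCompact g] in
theorem mor_baseChange_instances {T : Scheme.{u}} (i : T ⟶ S) :
    LocallyOfFiniteType (pullback.snd f (pullback.fst g i) ≫ pullback.snd g i) ∧
      QuasiCompact (pullback.snd f (pullback.fst g i) ≫ pullback.snd g i) := by
  have sq : IsPullback (pullback.fst f (pullback.fst g i))
      (pullback.snd f (pullback.fst g i) ≫ pullback.snd g i) (f ≫ g) i :=
    (IsPullback.of_hasPullback f (pullback.fst g i)).paste_vert (IsPullback.of_hasPullback g i)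
  exact ⟨MorphismProperty.of_isPullback sq (inferInstance : LocallyOfFiniteType (f ≫ g)),
    MorphismProperty.of_isPullback sq (inferInstance : QuasiCompact (f ≫ g))⟩

theorem mor_decided (hP : ConsProp.IsConsMor P)
    (Z : Set S) (hZ : IsClosed Z) (hirr : IsIrreducible Z) :
    ∃ O : Set S, IsOpen O ∧ (Z ∩ O).Nonempty ∧
      (Z ∩ O ⊆ ConsProp.locusMor P f g ∨ Z ∩ O ⊆ (ConsProp.locusMor P f g)ᶜ) := by
  obtain ⟨T, i, hi, hT, hrange⟩ := exists_integral_subscheme Z hZ hirr
  have hT1 : IsLocallyNoetherian T := LocallyOfFiniteType.isLocallyNoetherian i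
  have hT2 : CompactSpace T := QuasiCompact.compactSpace_of_compactSpace i
  have hTN : IsNoetherian T := {}
  have hloc := locusMor_of_isPullback hP.1 (IsPullback.of_hasPullback g i)
    (IsPullback.of_hasPullback f (pullback.fst g i))
  obtain ⟨hI1, hI2⟩ := mor_baseChange_instances f g i
  rcases hP.2 (pullback.snd f (pullback.fst g i)) (pullback.snd g i) with h | h
  · rw [hloc] at h
    obtain ⟨O, hO, hne, hsub⟩ := exists_open_of_interior_preimage i Z hrange _ h
    exact ⟨O, hO, hne, Or.inl hsub⟩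
  · rw [hloc] at h
    obtain ⟨O, hO, hne, hsub⟩ := exists_open_of_interior_preimage i Z hrange
      (ConsProp.locusMor P f g)ᶜ h
    exact ⟨O, hO, hne, Or.inr hsub⟩

theorem mor_ind_decided (hP : ConsProp.IsIndConsMor P)
    (Z : Set S) (hZ : IsClosed Z) (hirr : IsIrreducible Z)
    (hgen : ∀ z, IsGenericPoint z Z → z ∈ ConsProp.locusMor P f g) :
    ∃ O : Set S, IsOpen O ∧ (Z ∩ O).Nonempty ∧ Z ∩ O ⊆ ConsProp.locusMor P f g := by
  obtain ⟨T, i, hi, hT, hrange⟩ := exists_integral_subscheme Z hZ hirr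
  have hT1 : IsLocallyNoetherian T := LocallyOfFiniteType.isLocallyNoetherian i
  have hT2 : CompactSpace T := QuasiCompact.compactSpace_of_compactSpace i
  have hTN : IsNoetherian T := {}
  have hloc := locusMor_of_isPullback hP.1 (IsPullback.of_hasPullback g i)
    (IsPullback.of_hasPullback f (pullback.fst g i))
  obtain ⟨hI1, hI2⟩ := mor_baseChange_instances f g i
  have hgenT : genericPoint T ∈
      ConsProp.locusMor P (pullback.snd f (pullback.fst g i)) (pullback.snd g i) := by
    rw [hloc]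
    exact hgen _ (isGenericPoint_image_genericPoint i Z hZ hrange)
  have h := hP.2 (pullback.snd f (pullback.fst g i)) (pullback.snd g i) hgenT
  rw [hloc] at h
  exact exists_open_of_interior_preimage i Z hrange _ h

theorem isConstructible_locusMor_of_noeth (hP : ConsProp.IsConsMor P) :
    IsConstructible (ConsProp.locusMor P f g) :=
  isConstructible_of_noeth _ (mor_decided f g hP)

theorem exists_cover_locusMor_of_noeth (hP : ConsProp.IsIndConsMor P) :
    ∃ 𝒮 : Set (Set S), (∀ T ∈ 𝒮, IsConstructible T) ∧ ConsProp.locusMor P f g = ⋃₀ 𝒮 :=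
  exists_constructible_cover_of_noeth _ (mor_ind_decided f g hP)

end Mor

end Groth.Agent.Helper5.ConsLc
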