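import Mathlib
import Groth.Agent.S0591
import Groth.Agent.S9218

set_option autoImplicit false
universe u

namespace Groth.Agent.Helper5.ConsLc

open CategoryTheory CategoryTheory.Limits AlgebraicGeometry TopologicalSpace Topology

section Stage

variable {I : Type u} [SmallCategory I] [IsCofiltered I]
  (D : I ⥤ Scheme.{u}) (c : Limits.Cone D) (hc : Limits.IsLimit c)
  [∀ (i j : I) (f : i ⟶ j), IsAffineHom (D.map f)]

omit [IsCofiltered I] [∀ (i j : I) (f : i ⟶ j), IsAffineHom (D.map f)] in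
/-- moving a model to a smaller index -/
theorem model_baseChange {X : Scheme.{u}} (u : X ⟶ c.pt) {k k' : I} (b : k' ⟶ k)
    {Xk : Scheme.{u}} (uk : Xk ⟶ D.obj k) (q : X ⟶ Xk)
    (H : IsPullback q u uk (c.π.app k)) :
    ∃ q' : X ⟶ pullback uk (D.map b), q' ≫ pullback.fst uk (D.map b) = q ∧
      IsPullback q' u (pullback.snd uk (D.map b)) (c.π.app k') := by
  have hw : c.π.app k' ≫ D.map b = c.π.app k := c.w b
  have hcomm : q ≫ uk = (u ≫ c.π.app k') ≫ D.map b := by
    rw [Category.assoc, hw]; exact H.w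
  refine ⟨pullback.lift q (u ≫ c.π.app k') hcomm, pullback.lift_fst _ _ _, ?_⟩
  refine IsPullback.of_right (h₁₂ := pullback.fst uk (D.map b)) (h₂₂ := D.map b) (v₁₃ := uk) ?_
    (pullback.lift_snd _ _ _) (IsPullback.of_hasPullback uk (D.map b))
  rw [pullback.lift_fst, hw]
  exact H

include hc in
/-- a morphism of finite presentation to the limit has a model over a stage below any given one -/
theorem exists_stage_model [∀ i, CompactSpace (D.obj i)] [∀ i, QuasiSeparatedSpace (D.obj i)]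
    {X : Scheme.{u}} (u : X ⟶ c.pt)
    [LocallyOfFinitePresentation u] [QuasiCompact u] [QuasiSeparated u] (i₁ : I) :
    ∃ (k : I) (_ : k ⟶ i₁) (Xk : Scheme.{u}) (uk : Xk ⟶ D.obj k) (q : X ⟶ Xk),
      LocallyOfFinitePresentation uk ∧ QuasiCompact uk ∧ QuasiSeparated uk ∧
        IsPullback q u uk (c.π.app k) := by
  obtain ⟨i, Xi, ui, q, h1, h2, h3, H⟩ := Groth.Agent.S0591.result D c hc X u
  obtain ⟨q', -, H'⟩ := model_baseChange D c u (IsCofiltered.minToLeft i i₁) ui q H
  exact ⟨IsCofiltered.min i i₁, IsCofiltered.minToRight i i₁, _, _, q',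
    MorphismProperty.pullback_snd _ _ h1, MorphismProperty.pullback_snd _ _ h2,
    MorphismProperty.pullback_snd _ _ h3, H'⟩

include hc in
/-- two morphisms of finite presentation to the limit have models over a common stage -/
theorem exists_stage_model_pair [∀ i, CompactSpace (D.obj i)] [∀ i, QuasiSeparatedSpace (D.obj i)]
    {X Y : Scheme.{u}} (u : X ⟶ c.pt) (v : Y ⟶ c.pt)
    [LocallyOfFinitePresentation u] [QuasiCompact u] [QuasiSeparated u]
    [LocallyOfFinitePresentation v] [QuasiCompact v] [QuasiSeparated v] (i₁ : I) :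
    ∃ (k : I) (_ : k ⟶ i₁) (Xk Yk : Scheme.{u}) (uk : Xk ⟶ D.obj k) (vk : Yk ⟶ D.obj k)
      (qX : X ⟶ Xk) (qY : Y ⟶ Yk),
      LocallyOfFinitePresentation uk ∧ QuasiCompact uk ∧ QuasiSeparated uk ∧
      LocallyOfFinitePresentation vk ∧ QuasiCompact vk ∧ QuasiSeparated vk ∧
        IsPullback qX u uk (c.π.app k) ∧ IsPullback qY v vk (c.π.app k) := by
  obtain ⟨k₁, a₁, X₁, u₁, q₁, h1, h2, h3, H₁⟩ := exists_stage_model D c hc u i₁
  obtain ⟨k₂, a₂, Y₂, v₂, q₂, h4, h5, h6, H₂⟩ := exists_stage_model D c hc v k₁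
  obtain ⟨q₁', -, H₁'⟩ := model_baseChange D c u a₂ u₁ q₁ H₁
  exact ⟨k₂, a₂ ≫ a₁, _, _, _, v₂, q₁', q₂,
    MorphismProperty.pullback_snd _ _ h1, MorphismProperty.pullback_snd _ _ h2,
    MorphismProperty.pullback_snd _ _ h3, h4, h5, h6, H₁', H₂⟩

include hc in
/-- a morphism between schemes of finite presentation over the limit has a model over a stage -/
theorem exists_stage_model_mor [∀ i, CompactSpace (D.obj i)] [∀ i, QuasiSeparatedSpace (D.obj i)]
    {X Y : Scheme.{u}} (f : X ⟶ Y) (g : Y ⟶ c.pt)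
    [LocallyOfFinitePresentation g] [QuasiCompact g] [QuasiSeparated g]
    [LocallyOfFinitePresentation (f ≫ g)] [QuasiCompact (f ≫ g)] [QuasiSeparated (f ≫ g)]
    (i₁ : I) :
    ∃ (k : I) (_ : k ⟶ i₁) (Xk Yk : Scheme.{u}) (fk : Xk ⟶ Yk) (gk : Yk ⟶ D.obj k)
      (qX : X ⟶ Xk) (qY : Y ⟶ Yk),
      LocallyOfFinitePresentation gk ∧ QuasiCompact gk ∧ QuasiSeparated gk ∧
      LocallyOfFinitePresentation (fk ≫ gk) ∧ QuasiCompact (fk ≫ gk) ∧ QuasiSeparated (fk ≫ gk) ∧
        IsPullback qY g gk (c.π.app k) ∧ IsPullback qX f fk qY := by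
  obtain ⟨k, a, Xk, Yk, wk, gk, qX, qY, h1, h2, h3, h4, h5, h6, HX, HY⟩ :=
    exists_stage_model_pair D c hc (f ≫ g) g i₁
  have hXc : CompactSpace Xk := QuasiCompact.compactSpace_of_compactSpace wk
  have hXq : QuasiSeparatedSpace Xk := quasiSeparatedSpace_of_quasiSeparated wk
  have hYc : CompactSpace Yk := QuasiCompact.compactSpace_of_compactSpace gk
  have hYq : QuasiSeparatedSpace Yk := quasiSeparatedSpace_of_quasiSeparated gk
  obtain ⟨j, φ, fj, sX, sY, e1, e2, e3, e4, e5, e6⟩ :=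
    Groth.Agent.S9218.result D c hc k wk gk qX (f ≫ g) HX qY g HY f rfl
  have hw : c.π.app j ≫ D.map φ = c.π.app k := c.w φ
  have HY' : IsPullback sY g (pullback.snd gk (D.map φ)) (c.π.app j) := by
    refine IsPullback.of_right (h₁₂ := pullback.fst gk (D.map φ)) (h₂₂ := D.map φ) (v₁₃ := gk) ?_
      e5 (IsPullback.of_hasPullback gk (D.map φ))
    rw [e4, hw]
    exact HY
  have HX' : IsPullback sX (f ≫ g) (pullback.snd wk (D.map φ)) (c.π.app j) := by
    refine IsPullback.of_right (h₁₂ := pullback.fst wk (D.map φ)) (h₂₂ := D.map φ) (v₁₃ := wk) ?_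
      e3 (IsPullback.of_hasPullback wk (D.map φ))
    rw [e2, hw]
    exact HX
  have HXY : IsPullback sX f fj sY := by
    refine IsPullback.of_bot (v₂₁ := g) (v₂₂ := pullback.snd gk (D.map φ)) (h₃₁ := c.π.app j)
      ?_ e6 HY'
    rw [e1]
    exact HX'
  refine ⟨j, φ ≫ a, _, _, fj, pullback.snd gk (D.map φ), sX, sY,
    MorphismProperty.pullback_snd _ _ h4, MorphismProperty.pullback_snd _ _ h5,
    MorphismProperty.pullback_snd _ _ h6, ?_, ?_, ?_, HY', HXY⟩
  · rw [e1]; exact MorphismProperty.pullback_snd _ _ h1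
  · rw [e1]; exact MorphismProperty.pullback_snd _ _ h2
  · rw [e1]; exact MorphismProperty.pullback_snd _ _ h3

end Stage

end Groth.Agent.Helper5.ConsLc
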