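import Mathlib
import Groth.Agent.Helper5.ConsLc4
import Groth.Agent.Lead.SubalgSys

set_option autoImplicit false
universe u

namespace Groth.Agent.Helper5.ConsLc

open CategoryTheory CategoryTheory.Limits AlgebraicGeometry TopologicalSpace Topology
open Groth.Agent.Lead

/-- composing the base of a pullback square with an isomorphism -/
theorem isPullback_of_comp_iso {X Xk S S' Sk : Scheme.{u}} {q : X ⟶ Xk} {u : X ⟶ S}
    {uk : Xk ⟶ Sk} (s : S ≅ S') {p : S' ⟶ Sk}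
    (H : IsPullback q (u ≫ s.hom) uk p) : IsPullback q u uk (s.hom ≫ p) :=
  IsPullback.of_iso H (Iso.refl _) (Iso.refl _) s.symm (Iso.refl _) (by simp) (by simp) (by simp)
    (by simp)

theorem isNoetherian_stage {A : Type u} [CommRing A] (k : (SubalgSys.Idx A ⊥)ᵒᵖ) :
    IsNoetherian ((SubalgSys.D A ⊥).obj k) := by
  have hft : Algebra.FiniteType ℤ k.unop.1 := (Subalgebra.fg_iff_finiteType k.unop.1).mp k.unop.2.1
  have hN : IsNoetherianRing k.unop.1 := Algebra.FiniteType.isNoetherianRing ℤ k.unop.1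
  change IsNoetherian (Spec (.of k.unop.1))
  infer_instance

variable {S : Scheme.{u}} [IsAffine S]

set_option backward.isDefEq.respectTransparency false in
/-- Noetherian approximation of a pair of schemes of finite presentation over an affine scheme -/
theorem exists_noeth_model_pair {X Y : Scheme.{u}} (u : X ⟶ S) (v : Y ⟶ S)
    [LocallyOfFinitePresentation u] [QuasiCompact u] [QuasiSeparated u]
    [LocallyOfFinitePresentation v] [QuasiCompact v] [QuasiSeparated v] :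
    ∃ (S₀ X₀ Y₀ : Scheme.{u}) (u₀ : X₀ ⟶ S₀) (v₀ : Y₀ ⟶ S₀) (π : S ⟶ S₀) (qX : X ⟶ X₀)
      (qY : Y ⟶ Y₀), IsNoetherian S₀ ∧ LocallyOfFiniteType u₀ ∧ QuasiCompact u₀ ∧
        LocallyOfFiniteType v₀ ∧ QuasiCompact v₀ ∧ IsPullback qX u u₀ π ∧ IsPullback qY v v₀ π := by
  have hfg : (⊥ : Subalgebra ℤ Γ(S, ⊤)).FG := Subalgebra.fg_bot
  haveI := SubalgSys.isCofiltered hfg
  have hc : IsLimit (SubalgSys.cone Γ(S, ⊤) ⊥) := SubalgSys.coneIsLimit hfg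
  haveI : ∀ (i j : (SubalgSys.Idx Γ(S, ⊤) ⊥)ᵒᵖ) (f : i ⟶ j),
      IsAffineHom ((SubalgSys.D Γ(S, ⊤) ⊥).map f) := fun _ _ f => inferInstance
  haveI : ∀ i, CompactSpace ((SubalgSys.D Γ(S, ⊤) ⊥).obj i) := fun i => inferInstance
  haveI : ∀ i, QuasiSeparatedSpace ((SubalgSys.D Γ(S, ⊤) ⊥).obj i) := fun i => inferInstance
  let s : S ≅ (SubalgSys.cone Γ(S, ⊤) ⊥).pt := S.isoSpec
  obtain ⟨k, -, Xk, Yk, uk, vk, qX, qY, h1, h2, h3, h4, h5, h6, HX, HY⟩ :=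
    exists_stage_model_pair (SubalgSys.D Γ(S, ⊤) ⊥) (SubalgSys.cone Γ(S, ⊤) ⊥) hc
      (u ≫ s.hom) (v ≫ s.hom) (Opposite.op (SubalgSys.base _ ⊥ hfg))
  exact ⟨_, Xk, Yk, uk, vk, s.hom ≫ (SubalgSys.cone Γ(S, ⊤) ⊥).π.app k, qX, qY,
    isNoetherian_stage k, inferInstance, h2, inferInstance, h5,
    isPullback_of_comp_iso s HX, isPullback_of_comp_iso s HY⟩

set_option backward.isDefEq.respectTransparency false in
/-- Noetherian approximation of a morphism of schemes of finite presentation over an affine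
scheme -/
theorem exists_noeth_model_mor {X Y : Scheme.{u}} (f : X ⟶ Y) (g : Y ⟶ S)
    [LocallyOfFinitePresentation g] [QuasiCompact g] [QuasiSeparated g]
    [LocallyOfFinitePresentation (f ≫ g)] [QuasiCompact (f ≫ g)] [QuasiSeparated (f ≫ g)] :
    ∃ (S₀ X₀ Y₀ : Scheme.{u}) (f₀ : X₀ ⟶ Y₀) (g₀ : Y₀ ⟶ S₀) (π : S ⟶ S₀) (qX : X ⟶ X₀)
      (qY : Y ⟶ Y₀), IsNoetherian S₀ ∧ LocallyOfFiniteType g₀ ∧ QuasiCompact g₀ ∧
        LocallyOfFiniteType (f₀ ≫ g₀) ∧ QuasiCompact (f₀ ≫ g₀) ∧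
          IsPullback qY g g₀ π ∧ IsPullback qX f f₀ qY := by
  have hfg : (⊥ : Subalgebra ℤ Γ(S, ⊤)).FG := Subalgebra.fg_bot
  haveI := SubalgSys.isCofiltered hfg
  have hc : IsLimit (SubalgSys.cone Γ(S, ⊤) ⊥) := SubalgSys.coneIsLimit hfg
  haveI : ∀ (i j : (SubalgSys.Idx Γ(S, ⊤) ⊥)ᵒᵖ) (f : i ⟶ j),
      IsAffineHom ((SubalgSys.D Γ(S, ⊤) ⊥).map f) := fun _ _ f => inferInstance
  haveI : ∀ i, CompactSpace ((SubalgSys.D Γ(S, ⊤) ⊥).obj i) := fun i => inferInstance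
  haveI : ∀ i, QuasiSeparatedSpace ((SubalgSys.D Γ(S, ⊤) ⊥).obj i) := fun i => inferInstance
  let s : S ≅ (SubalgSys.cone Γ(S, ⊤) ⊥).pt := S.isoSpec
  have e : f ≫ g ≫ s.hom = (f ≫ g) ≫ s.hom := (Category.assoc _ _ _).symm
  haveI : LocallyOfFinitePresentation (f ≫ g ≫ s.hom) := by rw [e]; infer_instance
  haveI : QuasiCompact (f ≫ g ≫ s.hom) := by rw [e]; infer_instance
  haveI : QuasiSeparated (f ≫ g ≫ s.hom) := by rw [e]; infer_instance
  obtain ⟨k, -, Xk, Yk, fk, gk, qX, qY, h1, h2, h3, h4, h5, h6, HY, HX⟩ :=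
    exists_stage_model_mor (SubalgSys.D Γ(S, ⊤) ⊥) (SubalgSys.cone Γ(S, ⊤) ⊥) hc
      f (g ≫ s.hom) (Opposite.op (SubalgSys.base _ ⊥ hfg))
  exact ⟨_, Xk, Yk, fk, gk, s.hom ≫ (SubalgSys.cone Γ(S, ⊤) ⊥).π.app k, qX, qY,
    isNoetherian_stage k, inferInstance, h2, inferInstance, h5,
    isPullback_of_comp_iso s HY, HX⟩

end Groth.Agent.Helper5.ConsLc
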