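import Mathlib
import Groth.Agent.Helper5.ConsLc3
import Groth.Agent.Helper5.ConsLc5
import Groth.Prelude.Def_ProCons

set_option autoImplicit false
universe u

namespace Groth.Agent.Helper5.ConsLc

open CategoryTheory CategoryTheory.Limits AlgebraicGeometry TopologicalSpace Topology

section Pair

variable {P : ∀ ⦃X Y T : Scheme.{u}⦄, (X ⟶ T) → (Y ⟶ T) → Prop}
  {X Y S : Scheme.{u}} (u : X ⟶ S) (v : Y ⟶ S)
  [LocallyOfFinitePresentation u] [QuasiCompact u] [QuasiSeparated u]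
  [LocallyOfFinitePresentation v] [QuasiCompact v] [QuasiSeparated v]

theorem locusPair_affine_cons [IsAffine S] (hP : ConsPropPair.IsConsPair P) :
    IsConstructible (ConsPropPair.locusPair P u v) := by
  obtain ⟨S₀, X₀, Y₀, u₀, v₀, π, qX, qY, hN, h1, h2, h3, h4, HX, HY⟩ := exists_noeth_model_pair u v
  rw [locusPair_of_isPullback hP.1 HX HY]
  exact π.isConstructible_preimage (isConstructible_locusPair_of_noeth u₀ v₀ hP)

theorem locusPair_affine_ind [IsAffine S] (hP : ConsPropPair.IsIndConsPair P) :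
    ∃ 𝒮 : Set (Set S), (∀ T ∈ 𝒮, IsConstructible T) ∧ ConsPropPair.locusPair P u v = ⋃₀ 𝒮 := by
  obtain ⟨S₀, X₀, Y₀, u₀, v₀, π, qX, qY, hN, h1, h2, h3, h4, HX, HY⟩ := exists_noeth_model_pair u v
  obtain ⟨𝒮₀, h𝒮₀, heq⟩ := exists_cover_locusPair_of_noeth u₀ v₀ hP
  refine ⟨(fun T => π ⁻¹' T) '' 𝒮₀, ?_, ?_⟩
  · rintro _ ⟨T, hT, rfl⟩
    exact π.isConstructible_preimage (h𝒮₀ T hT)
  · rw [locusPair_of_isPullback hP.1 HX HY, heq, Set.preimage_sUnion, Set.sUnion_image]

omit [QuasiSeparated u] [QuasiSeparated v] in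
theorem locusPair_restrict (hP : ConsPropPair.IsFieldStablePair P) (U : S.Opens) :
    ConsPropPair.locusPair P (u ∣_ U) (v ∣_ U) = U.ι ⁻¹' ConsPropPair.locusPair P u v :=
  locusPair_of_isPullback hP (isPullback_morphismRestrict u U).flip (isPullback_morphismRestrict v U).flip

theorem s5906 (hP : ConsPropPair.IsConsPair P) :
    Topology.IsLocallyConstructible (ConsPropPair.locusPair P u v) := by
  apply IsLocallyConstructible.of_isOpenCover (U := fun U : S.affineOpens => U.1)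
    (iSup_affineOpens_eq_top S)
  intro U
  haveI : IsAffine (U.1 : Scheme.{u}) := U.2
  have h := locusPair_affine_cons (u ∣_ U.1) (v ∣_ U.1) hP
  rw [locusPair_restrict u v hP.1 U.1] at h
  exact h.isLocallyConstructible

theorem s5907 (hP : ConsPropPair.IsIndConsPair P) :
    ProCons.IsIndConstructible (ConsPropPair.locusPair P u v) := by
  intro x
  obtain ⟨_, ⟨U, hU, rfl⟩, hxU, -⟩ :=
    S.isBasis_affineOpens.exists_subset_of_mem_open (Set.mem_univ x) isOpen_univ
  haveI : IsAffine (U : Scheme.{u}) := hU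
  obtain ⟨𝒮, h𝒮, heq⟩ := locusPair_affine_ind (u ∣_ U) (v ∣_ U) hP
  rw [locusPair_restrict u v hP.1 U] at heq
  exact ⟨(U : Set S), U.isOpen, hxU, 𝒮, fun T hT => (h𝒮 T hT).isLocallyConstructible, heq⟩

end Pair

section Mor

variable {P : ∀ ⦃X Y T : Scheme.{u}⦄, (X ⟶ Y) → (Y ⟶ T) → Prop}
  {X Y S : Scheme.{u}} (f : X ⟶ Y) (g : Y ⟶ S)
  [LocallyOfFinitePresentation g] [QuasiCompact g] [QuasiSeparated g]
  [LocallyOfFinitePresentation (f ≫ g)] [QuasiCompact (f ≫ g)] [QuasiSeparated (f ≫ g)]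

theorem locusMor_affine_cons [IsAffine S] (hP : ConsProp.IsConsMor P) :
    IsConstructible (ConsProp.locusMor P f g) := by
  obtain ⟨S₀, X₀, Y₀, f₀, g₀, π, qX, qY, hN, h1, h2, h3, h4, HY, HX⟩ := exists_noeth_model_mor f g
  rw [locusMor_of_isPullback hP.1 HY HX]
  exact π.isConstructible_preimage (isConstructible_locusMor_of_noeth f₀ g₀ hP)

theorem locusMor_affine_ind [IsAffine S] (hP : ConsProp.IsIndConsMor P) :
    ∃ 𝒮 : Set (Set S), (∀ T ∈ 𝒮, IsConstructible T) ∧ ConsProp.locusMor P f g = ⋃₀ 𝒮 := by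
  obtain ⟨S₀, X₀, Y₀, f₀, g₀, π, qX, qY, hN, h1, h2, h3, h4, HY, HX⟩ := exists_noeth_model_mor f g
  obtain ⟨𝒮₀, h𝒮₀, heq⟩ := exists_cover_locusMor_of_noeth f₀ g₀ hP
  refine ⟨(fun T => π ⁻¹' T) '' 𝒮₀, ?_, ?_⟩
  · rintro _ ⟨T, hT, rfl⟩
    exact π.isConstructible_preimage (h𝒮₀ T hT)
  · rw [locusMor_of_isPullback hP.1 HY HX, heq, Set.preimage_sUnion, Set.sUnion_image]

/-- the restriction of the family `f`, `g` over an open of the base -/
theorem mor_restrict_data (U : S.Opens) :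
    ∃ (XU YU : Scheme.{u}) (fU : XU ⟶ YU) (gU : YU ⟶ (U : Scheme.{u})) (eX : XU ⟶ X) (eY : YU ⟶ Y),
      IsPullback eY gU g U.ι ∧ IsPullback eX fU f eY ∧
      LocallyOfFinitePresentation gU ∧ QuasiCompact gU ∧ QuasiSeparated gU ∧
      LocallyOfFinitePresentation (fU ≫ gU) ∧ QuasiCompact (fU ≫ gU) ∧
      QuasiSeparated (fU ≫ gU) := by
  have sqY : IsPullback (pullback.fst g U.ι) (pullback.snd g U.ι) g U.ι := IsPullback.of_hasPullback _ _
  have sqX : IsPullback (pullback.fst f (pullback.fst g U.ι)) (pullback.snd f (pullback.fst g U.ι)) f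
      (pullback.fst g U.ι) := IsPullback.of_hasPullback _ _
  have sq := sqX.paste_vert sqY
  exact ⟨_, _, _, _, _, _, sqY, sqX, MorphismProperty.pullback_snd _ _ inferInstance,
    MorphismProperty.pullback_snd _ _ inferInstance, MorphismProperty.pullback_snd _ _ inferInstance,
    MorphismProperty.of_isPullback sq (inferInstance : LocallyOfFinitePresentation (f ≫ g)),
    MorphismProperty.of_isPullback sq (inferInstance : QuasiCompact (f ≫ g)),
    MorphismProperty.of_isPullback sq (inferInstance : QuasiSeparated (f ≫ g))⟩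

theorem s5880 (hP : ConsProp.IsConsMor P) :
    Topology.IsLocallyConstructible (ConsProp.locusMor P f g) := by
  apply IsLocallyConstructible.of_isOpenCover (U := fun U : S.affineOpens => U.1)
    (iSup_affineOpens_eq_top S)
  intro U
  haveI : IsAffine (U.1 : Scheme.{u}) := U.2
  obtain ⟨XU, YU, fU, gU, eX, eY, sqY, sqX, h1, h2, h3, h4, h5, h6⟩ := mor_restrict_data f g U.1
  have h := locusMor_affine_cons fU gU hP
  rw [locusMor_of_isPullback hP.1 sqY sqX] at h
  exact h.isLocallyConstructible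

theorem s5881 (hP : ConsProp.IsIndConsMor P) :
    ProCons.IsIndConstructible (ConsProp.locusMor P f g) := by
  intro x
  obtain ⟨_, ⟨U, hU, rfl⟩, hxU, -⟩ :=
    S.isBasis_affineOpens.exists_subset_of_mem_open (Set.mem_univ x) isOpen_univ
  haveI : IsAffine (U : Scheme.{u}) := hU
  obtain ⟨XU, YU, fU, gU, eX, eY, sqY, sqX, h1, h2, h3, h4, h5, h6⟩ := mor_restrict_data f g U
  obtain ⟨𝒮, h𝒮, heq⟩ := locusMor_affine_ind fU gU hP
  rw [locusMor_of_isPullback hP.1 sqY sqX] at heq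
  exact ⟨(U : Set S), U.isOpen, hxU, 𝒮, fun T hT => (h𝒮 T hT).isLocallyConstructible, heq⟩

end Mor

end Groth.Agent.Helper5.ConsLc
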