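import Mathlib
import Groth.Agent.Lead.LimCons
import Groth.Agent.Helper7.PC
import Groth.Agent.Lead.ProConsLib

set_option autoImplicit false
universe u

namespace Groth.Agent.Helper5.ConsLc

open CategoryTheory CategoryTheory.Limits AlgebraicGeometry TopologicalSpace Topology
open Groth.Agent.Lead.LimPullback Groth.Agent.Lead

variable {I : Type u} [SmallCategory I] [IsCofiltered I] {D : I ⥤ Scheme.{u}} {c : Cone D}
  (hc : IsLimit c) [∀ {i j : I} (f : i ⟶ j), IsAffineHom (D.map f)] (i₀ : I)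

include hc in
set_option backward.isDefEq.respectTransparency false in
/-- affine-local piece: a pro-constructible subset of a stage missing the image of the limit
misses, over an affine open of the stage, the image of some later stage -/
theorem exists_stage_of_affine {V : Scheme.{u}} [IsAffine V] (v : V ⟶ D.obj i₀)
    (F : Set (D.obj i₀)) (hF : ProCons.IsProConstructible F)
    (h : ∀ s : c.pt, c.π.app i₀ s ∉ F) :
    ∃ j : Over i₀, ∀ t : D.obj j.left, D.map j.hom t ∈ Set.range v → D.map j.hom t ∉ F := by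
  let k₀ : Over i₀ := Over.mk (𝟙 i₀)
  have hA : ∀ {j k : Over i₀} (f : j ⟶ k), IsAffineHom ((pbDiag D i₀ v).map f) :=
    fun f => isAffineHom_pbDiag_map i₀ v f
  have hA' : IsAffineHom (pullback.snd (D.map k₀.hom) v) :=
    MorphismProperty.pullback_snd _ _ (inferInstance : IsAffineHom (D.map k₀.hom))
  have haff : IsAffine ((pbDiag D i₀ v).obj k₀) :=
    isAffine_of_isAffineHom (pullback.snd (D.map k₀.hom) v)
  let F' : Set ((pbDiag D i₀ v).obj k₀) := (pullback.fst (D.map k₀.hom) v).base ⁻¹' F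
  have hF' : ProCons.IsProConstructible F' := Groth.Agent.Helper7.PC.pro_preimage _ F hF
  have hempty : ((pbCone D c i₀ v).π.app k₀).base ⁻¹' F' = ∅ := by
    ext z
    simp only [Set.mem_preimage, Set.mem_empty_iff_false, iff_false]
    intro hz
    have e : (pbCone D c i₀ v).π.app k₀ ≫ pullback.fst (D.map k₀.hom) v =
        pullback.fst (c.π.app i₀) v ≫ c.π.app i₀ := by simp [pbCone, k₀]
    have e' : ((pbCone D c i₀ v).π.app k₀ ≫ pullback.fst (D.map k₀.hom) v) z =
        (pullback.fst (c.π.app i₀) v ≫ c.π.app i₀) z := by rw [e]; rfl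
    rw [Scheme.Hom.comp_apply, Scheme.Hom.comp_apply] at e'
    exact h _ ((congrArg (· ∈ F) e').mp hz)
  obtain ⟨j, φ, hj⟩ := LimCons.exists_preimage_eq_empty (pbConeIsLimit i₀ v hc) k₀ F' hF' hempty
  refine ⟨j, fun t ht htF => ?_⟩
  obtain ⟨w, hw⟩ := ht
  obtain ⟨z, hz1, hz2⟩ := Scheme.Pullback.exists_preimage_pullback (f := D.map j.hom) (g := v) t w
    hw.symm
  have e : (pbDiag D i₀ v).map φ ≫ pullback.fst (D.map k₀.hom) v =
      pullback.fst (D.map j.hom) v ≫ D.map j.hom := by
    have hφ : φ.left = j.hom := by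
      have := Over.w φ
      simpa [k₀] using this
    simp [pbDiag, hφ]
  have hmem : z ∈ ((pbDiag D i₀ v).map φ).base ⁻¹' F' := by
    have e' : ((pbDiag D i₀ v).map φ ≫ pullback.fst (D.map k₀.hom) v) z =
        (pullback.fst (D.map j.hom) v ≫ D.map j.hom) z := by rw [e]; rfl
    rw [Scheme.Hom.comp_apply, Scheme.Hom.comp_apply, hz1] at e'
    exact (congrArg (· ∈ F) e').mpr htF
  rw [hj] at hmem
  exact hmem

include hc in
/-- an ind-constructible subset of a quasi-compact stage containing the image of the limit contains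
the image of some later stage -/
theorem exists_stage_forall_mem [CompactSpace (D.obj i₀)] (E : Set (D.obj i₀))
    (hE : ProCons.IsIndConstructible E) (h : ∀ s : c.pt, c.π.app i₀ s ∈ E) :
    ∃ (j : I) (φ : j ⟶ i₀), ∀ t : D.obj j, D.map φ t ∈ E := by
  classical
  let 𝒰 := (D.obj i₀).affineCover.finiteSubcover
  have hfin : Fintype 𝒰.I₀ := inferInstance
  have hF : ProCons.IsProConstructible Eᶜ := (ProConsLib.ind_iff_pro_compl E).mp hE
  have H : ∀ a : 𝒰.I₀, ∃ j : Over i₀, ∀ t : D.obj j.left,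
      D.map j.hom t ∈ Set.range (𝒰.f a) → D.map j.hom t ∉ Eᶜ := by
    intro a
    have : IsAffine (𝒰.X a) := by dsimp [𝒰]; infer_instance
    exact exists_stage_of_affine hc i₀ (𝒰.f a) Eᶜ hF (fun s hs => hs (h s))
  choose J hJ using H
  obtain ⟨j, hj⟩ := IsCofiltered.inf_objs_exists (Finset.univ.image J)
  refine ⟨j.left, j.hom, fun t => ?_⟩
  obtain ⟨a, w, hw⟩ := 𝒰.exists_eq (D.map j.hom t)
  obtain ⟨ψ⟩ := hj (Finset.mem_image_of_mem J (Finset.mem_univ a))
  have hψ : ψ.left ≫ (J a).hom = j.hom := Over.w ψ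
  have e : D.map j.hom t = D.map (J a).hom (D.map ψ.left t) := by
    rw [← hψ, D.map_comp, Scheme.Hom.comp_apply]
  have h1 := hJ a (D.map ψ.left t) (by rw [← e]; exact ⟨w, hw⟩)
  rw [← e] at h1
  exact not_not.mp h1

end Groth.Agent.Helper5.ConsLc
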