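import Mathlib
import Groth.Agent.Helper5.FieldUnram

set_option autoImplicit false
universe u
open CategoryTheory CategoryTheory.Limits AlgebraicGeometry

namespace Groth.Agent.Helper5.FieldUnram

/-- A scheme with exactly one point is affine. -/
theorem isAffine_of_unique (U : Scheme.{u}) [Subsingleton U] [Nonempty U] : IsAffine U := by
  obtain ⟨x⟩ := ‹Nonempty U›
  let j := U.affineCover.f (U.affineCover.idx x)
  have hj : IsOpenImmersion j := inferInstance
  have : Surjective j := ⟨fun y => by
    obtain ⟨z, hz⟩ := U.affineCover.covers x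
    exact ⟨z, Subsingleton.elim _ _⟩⟩
  have : IsIso j := (isIso_iff_isOpenImmersion_and_surjective j).2 ⟨hj, this⟩
  exact IsAffine.of_isIso (inv j)

/-- A finite product of fields whose spectrum is a point is a single field. -/
theorem unique_index_of_local {R : Type u} [CommRing R] [IsLocalRing R] {I : Type u}
    (A : I → Type u) [∀ i, Field (A i)] (e : R ≃+* (Π i, A i)) :
    Nonempty (Unique I) := by
  classical
  have hne : Nonempty I := by
    by_contra h
    rw [not_nonempty_iff] at h
    have : Subsingleton (Π i, A i) := inferInstance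
    have : Subsingleton R := e.injective.subsingleton
    exact not_subsingleton R this
  obtain ⟨i₀⟩ := hne
  refine ⟨⟨⟨i₀⟩, fun j => ?_⟩⟩
  show j = i₀
  by_contra hj
  -- the idempotent `e⁻¹ (single i₀ 1)`
  set a : R := e.symm (Pi.single i₀ 1) with ha
  have hidem : IsIdempotentElem a := by
    show a * a = a
    rw [ha, ← map_mul, ← Pi.single_mul, one_mul]
  rcases IsLocalRing.isUnit_or_isUnit_one_sub_self a with h | h
  · -- a unit and idempotent, so a = 1, but its j-component is 0
    have h1 : a = 1 := by
      have := hidem.eq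
      have h2 : a * a = a * 1 := by rw [mul_one]; exact this
      exact h.mul_left_cancel h2
    have h3 : e a = 1 := by rw [h1, map_one]
    rw [ha, RingEquiv.apply_symm_apply] at h3
    have h4 := congrFun h3 j
    rw [Pi.single_eq_of_ne hj] at h4
    exact zero_ne_one h4
  · have h1 : 1 - a = 1 := by
      have hid : IsIdempotentElem (1 - a) := hidem.one_sub
      have h2 : (1 - a) * (1 - a) = (1 - a) * 1 := by rw [mul_one]; exact hid.eq
      exact h.mul_left_cancel h2
    have h2 : a = 0 := by
      have := sub_eq_self.1 h1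
      exact this
    have h3 : e a = 0 := by rw [h2, map_zero]
    rw [ha, RingEquiv.apply_symm_apply] at h3
    have h4 := congrFun h3 i₀
    rw [Pi.single_eq_same] at h4
    exact one_ne_zero h4

end Groth.Agent.Helper5.FieldUnram

namespace Groth.Agent.Helper5.FieldUnram

theorem isLocalRing_of_subsingleton_primeSpectrum (R : Type u) [CommRing R]
    [Subsingleton (PrimeSpectrum R)] [Nontrivial R] : IsLocalRing R := by
  obtain ⟨m, hm⟩ := Ideal.exists_maximal R
  refine IsLocalRing.of_unique_max_ideal ⟨m, hm, fun m' hm' => ?_⟩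
  have := Subsingleton.elim (⟨m', hm'.isPrime⟩ : PrimeSpectrum R) ⟨m, hm.isPrime⟩
  exact congrArg PrimeSpectrum.asIdeal this

set_option maxHeartbeats 1000000 in
theorem point (k : Type u) [Field k] {X : Scheme.{u}} (f : X ⟶ Spec (CommRingCat.of k))
    [FormallyUnramified f] [LocallyOfFiniteType f] (x : X) :
    ∃ (K : Type u) (_ : Field K) (_ : Algebra k K) (_ : FiniteDimensional k K)
      (_ : Algebra.IsSeparable k K) (j : Spec (CommRingCat.of K) ⟶ X),
      IsOpenImmersion j ∧ Set.range j = {x} ∧
        j ≫ f = Spec.map (CommRingCat.ofHom (algebraMap k K)) := by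
  classical
  have hLA := isLocallyArtinian k f
  have hdisc : DiscreteTopology X := inferInstance
  let U : X.Opens := ⟨{x}, isOpen_discrete _⟩
  have hsub : Subsingleton U.toScheme := ⟨fun a b => Subtype.ext (a.2.trans b.2.symm)⟩
  have hne : Nonempty U.toScheme := ⟨⟨x, rfl⟩⟩
  have hU : IsAffineOpen U := isAffine_of_unique U.toScheme
  have h1 := ρ_finiteType k f U hU
  have h2 := ρ_formallyUnramified k f U hU
  have hcomp := fromSpec_comp k f U hU
  algebraize [(ρ k f U).hom]
  have hfp : Algebra.FinitePresentation k Γ(X, U) :=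
    Algebra.FinitePresentation.of_finiteType.mp inferInstance
  have hfe : Algebra.FormallyEtale k Γ(X, U) :=
    Algebra.FormallyEtale.of_formallyUnramified_of_field k Γ(X, U)
  have het : Algebra.Etale k Γ(X, U) := ⟨hfe, hfp⟩
  obtain ⟨I, hI, A, hAf, hAalg, e, hA⟩ := (Algebra.Etale.iff_exists_algEquiv_prod k Γ(X, U)).1 het
  -- `Γ(X, U)` is local
  have hsubP : Subsingleton (PrimeSpectrum Γ(X, U)) :=
    hU.isoSpec.inv.homeomorph.injective.subsingleton
  have hneP : Nonempty (PrimeSpectrum Γ(X, U)) := ⟨hU.isoSpec.hom ⟨x, rfl⟩⟩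
  have hnt : Nontrivial Γ(X, U) := PrimeSpectrum.nonempty_iff_nontrivial.1 hneP
  have hloc : IsLocalRing Γ(X, U) := isLocalRing_of_subsingleton_primeSpectrum _
  obtain ⟨hu⟩ := unique_index_of_local A e.toRingEquiv
  let i₀ : I := default
  have hbij : Function.Bijective ((Pi.evalAlgHom k A i₀).comp e.toAlgHom) := by
    constructor
    · intro a b hab
      apply e.injective
      funext j
      have hj : j = i₀ := Subsingleton.elim _ _
      subst hj
      exact hab
    · intro a
      refine ⟨e.symm (Pi.single i₀ a), ?_⟩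
      simp
  let ε : Γ(X, U) ≃ₐ[k] A i₀ := AlgEquiv.ofBijective _ hbij
  let εc : Γ(X, U) ≅ CommRingCat.of (A i₀) := ε.toRingEquiv.toCommRingCatIso
  refine ⟨A i₀, inferInstance, inferInstance, (hA i₀).1, (hA i₀).2,
    Spec.map εc.hom ≫ hU.fromSpec, inferInstance, ?_, ?_⟩
  · ext y
    constructor
    · rintro ⟨z, rfl⟩
      have : (Spec.map εc.hom ≫ hU.fromSpec) z ∈ Set.range hU.fromSpec := ⟨_, rfl⟩
      rw [hU.range_fromSpec] at this
      exact this
    · intro hy
      have : y ∈ Set.range hU.fromSpec := by
        rw [hU.range_fromSpec]; exact hy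
      obtain ⟨z, rfl⟩ := this
      refine ⟨(Spec.map εc.inv) z, ?_⟩
      rw [← Scheme.Hom.comp_apply, ← Category.assoc, ← Spec.map_comp, εc.hom_inv_id, Spec.map_id,
        Category.id_comp]
  · rw [Category.assoc, hcomp, ← Spec.map_comp]
    congr 1
    ext c
    exact ε.commutes c

end Groth.Agent.Helper5.FieldUnram
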