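import Mathlib
import Groth.Agent.Helper5.ConsLc6
import Groth.Agent.Helper5.ConsLc7

set_option autoImplicit false
universe u

namespace Groth.Agent.Helper5.ConsLc

open CategoryTheory CategoryTheory.Limits AlgebraicGeometry TopologicalSpace Topology

theorem s5908
    {P : ∀ ⦃X Y T : Scheme.{u}⦄, (X ⟶ T) → (Y ⟶ T) → Prop} (hP : ConsPropPair.IsIndConsPair P)
    {I : Type u} [SmallCategory I] [IsCofiltered I]
    (D : I ⥤ Scheme.{u}) (c : Limits.Cone D) (hc : Limits.IsLimit c)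
    [∀ (i j : I) (a : i ⟶ j), IsAffineHom (D.map a)] (i₀ : I) [CompactSpace ↥(D.obj i₀)]
    {X₀ Y₀ : Scheme.{u}} (u₀ : X₀ ⟶ D.obj i₀) (v₀ : Y₀ ⟶ D.obj i₀)
    [LocallyOfFinitePresentation u₀] [QuasiCompact u₀] [QuasiSeparated u₀]
    [LocallyOfFinitePresentation v₀] [QuasiCompact v₀] [QuasiSeparated v₀]
    {X Y : Scheme.{u}} (u : X ⟶ c.pt) (v : Y ⟶ c.pt) (qX : X ⟶ X₀) (qY : Y ⟶ Y₀)
    (hX : IsPullback qX u u₀ (c.π.app i₀)) (hY : IsPullback qY v v₀ (c.π.app i₀)) :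
    (∀ s : ↥c.pt, s ∈ ConsPropPair.locusPair P u v) ↔
      ∃ (j : I) (φ : j ⟶ i₀) (Xj Yj : Scheme.{u}) (uj : Xj ⟶ D.obj j) (vj : Yj ⟶ D.obj j)
        (pX : Xj ⟶ X₀) (pY : Yj ⟶ Y₀), IsPullback pX uj u₀ (D.map φ) ∧ IsPullback pY vj v₀ (D.map φ) ∧
          ∀ t : ↥(D.obj j), t ∈ ConsPropPair.locusPair P uj vj := by
  have hA : ∀ {i j : I} (f : i ⟶ j), IsAffineHom (D.map f) := fun f => inferInstance
  have hE₀ : ProCons.IsIndConstructible (ConsPropPair.locusPair P u₀ v₀) := s5907 u₀ v₀ hP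
  have hloc : ConsPropPair.locusPair P u v = c.π.app i₀ ⁻¹' ConsPropPair.locusPair P u₀ v₀ :=
    locusPair_of_isPullback hP.1 hX hY
  constructor
  · intro h
    have h' : ∀ s : c.pt, c.π.app i₀ s ∈ ConsPropPair.locusPair P u₀ v₀ := by
      intro s
      have := h s
      rw [hloc] at this
      exact this
    obtain ⟨j, φ, hj⟩ := exists_stage_forall_mem hc i₀ _ hE₀ h'
    refine ⟨j, φ, _, _, pullback.snd u₀ (D.map φ), pullback.snd v₀ (D.map φ),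
      pullback.fst u₀ (D.map φ), pullback.fst v₀ (D.map φ), IsPullback.of_hasPullback _ _,
      IsPullback.of_hasPullback _ _, fun t => ?_⟩
    rw [locusPair_of_isPullback hP.1 (IsPullback.of_hasPullback u₀ (D.map φ))
      (IsPullback.of_hasPullback v₀ (D.map φ))]
    exact hj t
  · rintro ⟨j, φ, Xj, Yj, uj, vj, pX, pY, hXj, hYj, ht⟩ s
    rw [hloc]
    have h1 := ht (c.π.app j s)
    rw [locusPair_of_isPullback hP.1 hXj hYj] at h1
    have e : c.π.app i₀ s = D.map φ (c.π.app j s) := by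
      rw [← Scheme.Hom.comp_apply, c.w φ]
    change c.π.app i₀ s ∈ ConsPropPair.locusPair P u₀ v₀
    rw [e]
    exact h1

theorem s5891
    {P : ∀ ⦃X Y T : Scheme.{u}⦄, (X ⟶ Y) → (Y ⟶ T) → Prop} (hP : ConsProp.IsIndConsMor P)
    {I : Type u} [SmallCategory I] [IsCofiltered I]
    (D : I ⥤ Scheme.{u}) (c : Limits.Cone D) (hc : Limits.IsLimit c)
    [∀ (i j : I) (a : i ⟶ j), IsAffineHom (D.map a)] (i₀ : I) [CompactSpace ↥(D.obj i₀)]
    {X₀ Y₀ : Scheme.{u}} (f₀ : X₀ ⟶ Y₀) (g₀ : Y₀ ⟶ D.obj i₀)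
    [LocallyOfFinitePresentation g₀] [QuasiCompact g₀] [QuasiSeparated g₀]
    [LocallyOfFinitePresentation (f₀ ≫ g₀)] [QuasiCompact (f₀ ≫ g₀)] [QuasiSeparated (f₀ ≫ g₀)]
    {X Y : Scheme.{u}} (f : X ⟶ Y) (g : Y ⟶ c.pt) (qY : Y ⟶ Y₀) (qX : X ⟶ X₀)
    (hY : IsPullback qY g g₀ (c.π.app i₀)) (hX : IsPullback qX f f₀ qY) :
    (∀ s : ↥c.pt, s ∈ ConsProp.locusMor P f g) ↔
      ∃ (j : I) (φ : j ⟶ i₀) (Xj Yj : Scheme.{u}) (fj : Xj ⟶ Yj) (gj : Yj ⟶ D.obj j)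
        (pY : Yj ⟶ Y₀) (pX : Xj ⟶ X₀), IsPullback pY gj g₀ (D.map φ) ∧ IsPullback pX fj f₀ pY ∧
          ∀ t : ↥(D.obj j), t ∈ ConsProp.locusMor P fj gj := by
  have hA : ∀ {i j : I} (f : i ⟶ j), IsAffineHom (D.map f) := fun f => inferInstance
  have hE₀ : ProCons.IsIndConstructible (ConsProp.locusMor P f₀ g₀) := s5881 f₀ g₀ hP
  have hloc : ConsProp.locusMor P f g = c.π.app i₀ ⁻¹' ConsProp.locusMor P f₀ g₀ :=
    locusMor_of_isPullback hP.1 hY hX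
  constructor
  · intro h
    have h' : ∀ s : c.pt, c.π.app i₀ s ∈ ConsProp.locusMor P f₀ g₀ := by
      intro s
      have := h s
      rw [hloc] at this
      exact this
    obtain ⟨j, φ, hj⟩ := exists_stage_forall_mem hc i₀ _ hE₀ h'
    refine ⟨j, φ, _, _, pullback.snd f₀ (pullback.fst g₀ (D.map φ)), pullback.snd g₀ (D.map φ),
      pullback.fst g₀ (D.map φ), pullback.fst f₀ (pullback.fst g₀ (D.map φ)),
      IsPullback.of_hasPullback _ _, IsPullback.of_hasPullback _ _, fun t => ?_⟩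
    rw [locusMor_of_isPullback hP.1 (IsPullback.of_hasPullback g₀ (D.map φ))
      (IsPullback.of_hasPullback f₀ (pullback.fst g₀ (D.map φ)))]
    exact hj t
  · rintro ⟨j, φ, Xj, Yj, fj, gj, pY, pX, hYj, hXj, ht⟩ s
    rw [hloc]
    have h1 := ht (c.π.app j s)
    rw [locusMor_of_isPullback hP.1 hYj hXj] at h1
    have e : c.π.app i₀ s = D.map φ (c.π.app j s) := by
      rw [← Scheme.Hom.comp_apply, c.w φ]
    change c.π.app i₀ s ∈ ConsProp.locusMor P f₀ g₀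
    rw [e]
    exact h1

end Groth.Agent.Helper5.ConsLc
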