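import Mathlib

set_option autoImplicit false

namespace Groth.Agent.Helper5.CompFib

theorem coheight_le_of_lifting {α β : Type*} [Preorder α] [Preorder β] (f : α → β)
    (h : ∀ a : α, ∀ b : β, f a < b → ∃ a' : α, a < a' ∧ f a' = b) (a : α) :
    Order.coheight (f a) ≤ Order.coheight a := by
  refine Order.coheight_le_iff'.mpr fun p hp => ?_
  induction p using RelSeries.inductionOn generalizing a with
  | singleton x => simp
  | cons p x hx ih =>
    simp only [RelSeries.head_cons] at hp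
    obtain ⟨a', haa', ha'⟩ := h a p.head (by grind)
    grw [RelSeries.cons_length, Nat.cast_add, Nat.cast_one, ih a' ha'.symm]
    exact Order.coheight_add_one_le haa'

theorem height_le_of_lifting {α β : Type*} [Preorder α] [Preorder β] (f : α → β)
    (h : ∀ a : α, ∀ b : β, b < f a → ∃ a' : α, a' < a ∧ f a' = b) (a : α) :
    Order.height (f a) ≤ Order.height a := by
  have := coheight_le_of_lifting (α := αᵒᵈ) (β := βᵒᵈ)
    (f := OrderDual.toDual ∘ f ∘ OrderDual.ofDual) (fun a b hab => h a b hab) (OrderDual.toDual a)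
  simpa [Order.coheight_toDual] using this

/-- Going down gives superadditivity of the dimensions of the fibre rings. -/
theorem dim_add_le {A B : Type*} [CommRing A] [CommRing B] [IsLocalRing A] (ψ : A →+* B)
    (hgen : GeneralizingMap (PrimeSpectrum.comap ψ)) (I : Ideal A)
    (hI : I ≤ IsLocalRing.maximalIdeal A) (r s : ℕ)
    (hr : (r : WithBot ℕ∞) ≤ ringKrullDim (A ⧸ I))
    (hs : (s : WithBot ℕ∞) ≤ ringKrullDim (B ⧸ (IsLocalRing.maximalIdeal A).map ψ)) :
    ((r + s : ℕ) : WithBot ℕ∞) ≤ ringKrullDim (B ⧸ I.map ψ) := by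
  rw [ringKrullDim_quotient] at hr hs ⊢
  obtain ⟨lA, hlA⟩ := Order.le_krullDim_iff.1 hr
  obtain ⟨lB, hlB⟩ := Order.le_krullDim_iff.1 hs
  have hJK : I.map ψ ≤ (IsLocalRing.maximalIdeal A).map ψ := Ideal.map_mono hI
  -- inclusion of zero loci
  let ι : ↥(PrimeSpectrum.zeroLocus (R := B) ((IsLocalRing.maximalIdeal A).map ψ)) →
      ↥(PrimeSpectrum.zeroLocus (R := B) (I.map ψ)) :=
    fun Q => ⟨Q.1, PrimeSpectrum.zeroLocus_anti_mono_ideal hJK Q.2⟩
  have hι : StrictMono ι := fun _ _ h => h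
  -- the map to the zero locus of I
  let σ : ↥(PrimeSpectrum.zeroLocus (R := B) (I.map ψ)) →
      ↥(PrimeSpectrum.zeroLocus (R := A) I) :=
    fun Q => ⟨PrimeSpectrum.comap ψ Q.1, by
      have h1 : I.map ψ ≤ Q.1.asIdeal := (PrimeSpectrum.mem_zeroLocus _ _).1 Q.2
      rw [PrimeSpectrum.mem_zeroLocus]
      exact Ideal.map_le_iff_le_comap.1 h1⟩
  have hσ : ∀ (a : ↥(PrimeSpectrum.zeroLocus (R := B) (I.map ψ)))
      (b : ↥(PrimeSpectrum.zeroLocus (R := A) I)), b < σ a → ∃ a', a' < a ∧ σ a' = b := by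
    intro a b hb
    have hsp : b.1 ⤳ PrimeSpectrum.comap ψ a.1 :=
      (PrimeSpectrum.le_iff_specializes _ _).1 hb.le
    obtain ⟨Q', hQ'1, hQ'2⟩ := hgen hsp
    have hQ'mem : Q' ∈ PrimeSpectrum.zeroLocus (R := B) (I.map ψ) := by
      rw [PrimeSpectrum.mem_zeroLocus]
      have h1 : (I : Set A) ⊆ b.1.asIdeal := (PrimeSpectrum.mem_zeroLocus _ _).1 b.2
      have h2 : I ≤ Ideal.comap ψ Q'.asIdeal := by
        rw [← hQ'2] at h1
        exact h1
      exact Ideal.map_le_iff_le_comap.2 h2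
    refine ⟨⟨Q', hQ'mem⟩, ?_, Subtype.ext hQ'2⟩
    have hle : (⟨Q', hQ'mem⟩ : ↥(PrimeSpectrum.zeroLocus (R := B) (I.map ψ))) ≤ a :=
      (PrimeSpectrum.le_iff_specializes _ _).2 hQ'1
    refine lt_of_le_of_ne hle ?_
    intro heq
    have : σ ⟨Q', hQ'mem⟩ = b := Subtype.ext hQ'2
    rw [heq] at this
    exact hb.ne this.symm
  let Q₀ := ι lB.head
  have h1 : (s : ℕ∞) ≤ Order.coheight Q₀ := by
    rw [← hlB]
    exact (Order.length_le_coheight_head (p := lB)).trans
      (Order.coheight_le_coheight_apply_of_strictMono ι hι _)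
  have htop : ∀ b : ↥(PrimeSpectrum.zeroLocus (R := A) I), b ≤ σ Q₀ := by
    intro b
    show b.1.asIdeal ≤ Ideal.comap ψ lB.head.1.asIdeal
    have h2 : (IsLocalRing.maximalIdeal A).map ψ ≤ lB.head.1.asIdeal :=
      (PrimeSpectrum.mem_zeroLocus _ _).1 lB.head.2
    have h3 : IsLocalRing.maximalIdeal A ≤ Ideal.comap ψ lB.head.1.asIdeal :=
      Ideal.map_le_iff_le_comap.1 h2
    exact (IsLocalRing.le_maximalIdeal b.1.2.ne_top).trans h3
  have h2 : (r : ℕ∞) ≤ Order.height Q₀ := by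
    rw [← hlA]
    exact (Order.length_le_height (htop lA.last)).trans (height_le_of_lifting σ hσ Q₀)
  have : Nonempty ↥(PrimeSpectrum.zeroLocus (R := B) (I.map ψ)) := ⟨Q₀⟩
  rw [Order.krullDim_eq_iSup_height_add_coheight_of_nonempty]
  have h3 : ((r + s : ℕ) : ℕ∞) ≤ ⨆ a : ↥(PrimeSpectrum.zeroLocus (R := B) (I.map ψ)),
      Order.height a + Order.coheight a := by
    refine le_trans ?_ (le_iSup _ Q₀)
    push_cast
    exact add_le_add h2 h1
  exact_mod_cast h3

end Groth.Agent.Helper5.CompFib
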