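import Groth.Agent.Helper5.UCat7

set_option autoImplicit false
universe u
open AlgebraicGeometry CategoryTheory TopologicalSpace

namespace Groth.Agent.Helper5.EquiDim

/-- The Krull dimension of the specialisation preorder is at most the topological Krull
dimension. -/
theorem krullDim_specialization_le (Z : Type*) [TopologicalSpace Z] :
    @Order.krullDim Z (specializationPreorder Z) ≤ topologicalKrullDim Z := by
  letI := specializationPreorder Z
  refine Order.krullDim_le_of_strictMono
    (fun z : Z => (⟨closure {z}, isIrreducible_singleton.closure, isClosed_closure⟩ :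
      IrreducibleCloseds Z)) ?_
  intro a b hab
  have h1 : b ⤳ a := hab.le
  have h2 : ¬ a ⤳ b := fun h => hab.not_ge h
  refine lt_of_le_not_ge ?_ ?_
  · exact (specializes_iff_closure_subset.1 h1)
  · intro h
    exact h2 (specializes_iff_closure_subset.2 h)

/-- A chain of specialisations inside a subset bounds the dimension of the subset from below. -/
theorem length_le_dim_of_forall_mem {X : Scheme.{u}} (Z : Set X) (l : LTSeries X)
    (hl : ∀ i, l i ∈ Z) : (l.length : WithBot ℕ∞) ≤ topologicalKrullDim ↥Z := by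
  refine le_trans ?_ (krullDim_specialization_le ↥Z)
  letI := specializationPreorder ↥Z
  let l' : LTSeries ↥Z := LTSeries.mk l.length (fun i => ⟨l i, hl i⟩) (by
    intro i j hij
    have h := l.strictMono hij
    have h1 : l j ⤳ l i := Scheme.le_iff_specializes.1 h.le
    have h2 : ¬ l i ⤳ l j := fun h' => h.not_ge (Scheme.le_iff_specializes.2 h')
    refine lt_of_le_not_ge ?_ ?_
    · show (⟨l j, hl j⟩ : ↥Z) ⤳ ⟨l i, hl i⟩
      exact (subtype_specializes_iff _ _).2 h1
    · intro h'
      have : (⟨l i, hl i⟩ : ↥Z) ⤳ ⟨l j, hl j⟩ := h'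
      exact h2 ((subtype_specializes_iff _ _).1 this))
  exact Order.LTSeries.length_le_krullDim l'

/-- In a locally Noetherian scheme, every irreducible component contains a nonempty open subset
of the scheme. -/
theorem exists_isOpen_subset_component {X : Scheme.{u}} [IsLocallyNoetherian X] (X' : Set X)
    (hX' : X' ∈ irreducibleComponents X) :
    ∃ o : Set X, IsOpen o ∧ o.Nonempty ∧ o ⊆ X' := by
  obtain ⟨x, hx⟩ := hX'.1.nonempty
  obtain ⟨V, hV, hxV⟩ : ∃ V : X.Opens, IsAffineOpen V ∧ x ∈ V := by
    obtain ⟨_, ⟨V, hV, rfl⟩, hxV, -⟩ :=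
      (X.isBasis_affineOpens).exists_subset_of_mem_open (Set.mem_univ x) isOpen_univ
    exact ⟨V, hV, hxV⟩
  have hN : IsNoetherianRing Γ(X, V) := IsLocallyNoetherian.component_noetherian ⟨V, hV⟩
  have hNS : NoetherianSpace ↥V := noetherianSpace_of_isAffineOpen V hV
  have hemb : Topology.IsOpenEmbedding (Subtype.val : ↥V → X) := V.2.isOpenEmbedding_subtypeVal
  have hcomp : (Subtype.val : ↥V → X) ⁻¹' X' ∈ irreducibleComponents ↥V :=
    preimage_mem_irreducibleComponents hX' hemb ⟨x, hx, ⟨⟨x, hxV⟩, rfl⟩⟩
  obtain ⟨o, ho1, ho2, ho3⟩ :=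
    NoetherianSpace.exists_isOpen_nonempty_subset_irreducibleComponent _ hcomp
  refine ⟨Subtype.val '' o, hemb.isOpenMap o ho1, ho2.image _, ?_⟩
  rintro _ ⟨z, hz, rfl⟩
  exact ho3 hz

/-- A dense open subset of a locally Noetherian Jacobson scheme whose irreducible components are
equicodimensional has the same dimension as the scheme. -/
theorem dim_dense_open (X : Scheme.{u}) [IsLocallyNoetherian X] [JacobsonSpace X]
    (h3 : ∀ X' ∈ irreducibleComponents (X : Type u), ∀ x ∈ X', IsClosed ({x} : Set X) →
      topologicalKrullDim (↥X' : Type u) = topologicalKrullDim ↥{t : X | t ∈ X' ∧ t ⤳ x})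
    (U : Set X) (hU : IsOpen U) (hd : Dense U) :
    topologicalKrullDim ↥U = topologicalKrullDim X := by
  apply le_antisymm (topologicalKrullDim_subspace_le X U)
  have key : ∀ l : LTSeries X, (l.length : WithBot ℕ∞) ≤ topologicalKrullDim ↥U := by
    intro l
    obtain ⟨X', hX', hsub⟩ := exists_mem_irreducibleComponents_subset_of_isIrreducible
      (closure ({l.last} : Set X)) isIrreducible_singleton.closure
    have hmem : ∀ i, l i ∈ X' := by
      intro i
      have h1 : l i ≤ l.last := l.strictMono.monotone (Fin.le_last i)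
      exact hsub (specializes_iff_mem_closure.1 (Scheme.le_iff_specializes.1 h1))
    have h1 := length_le_dim_of_forall_mem X' l hmem
    obtain ⟨o, ho1, ho2, ho3⟩ := exists_isOpen_subset_component X' hX'
    have hne : (o ∩ U).Nonempty := hd.inter_open_nonempty o ho1 ho2
    obtain ⟨y, ⟨hyo, hyU⟩, hycl⟩ := nonempty_inter_closedPoints hne (ho1.inter hU).isLocallyClosed
    have hycl' : IsClosed ({y} : Set X) := hycl
    have h2 := h3 X' hX' y (ho3 hyo) hycl'
    have hTU : {t : X | t ∈ X' ∧ t ⤳ y} ⊆ U := fun t ht => ht.2.mem_open hU hyU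
    have h3' := Groth.Agent.Helper5.FibDim.dim_subset_le hTU
    exact h1.trans (h2 ▸ h3')
  rw [Groth.Agent.Helper5.EtDim.topologicalKrullDim_eq_iSup_coheight X]
  refine iSup_le fun x => ?_
  have hx0 := key (RelSeries.singleton _ x)
  induction hdU : topologicalKrullDim ↥U using WithBot.recBotCoe with
  | bot =>
    rw [hdU] at hx0
    exact absurd hx0 (by simp)
  | coe d =>
    rw [WithBot.coe_le_coe, Order.coheight_le_iff']
    intro l _
    have := key l
    rw [hdU] at this
    exact_mod_cast this

end Groth.Agent.Helper5.EquiDim
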