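import Groth.Agent.Helper5.EquiDim5

set_option autoImplicit false
universe u
open AlgebraicGeometry CategoryTheory TopologicalSpace

namespace Groth.Agent.Helper5.LocDim

/-- A subset of a scheme is *generically stable* if it contains the generic point of the closure of
each of its irreducible subsets. -/
def GenStable {X : Scheme.{u}} (Z : Set X) : Prop :=
  ∀ C : Set X, C ⊆ Z → IsIrreducible C → ∀ γ : X, IsGenericPoint γ (closure C) → γ ∈ Z

theorem dim_subset_le {T : Type*} [TopologicalSpace T] {A B : Set T} (h : A ⊆ B) :
    topologicalKrullDim ↥A ≤ topologicalKrullDim ↥B := by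
  have : Topology.IsInducing (Set.inclusion h) := (Topology.IsEmbedding.inclusion h).isInducing
  exact this.topologicalKrullDim_le

/-- For a generically stable subset of a scheme, the topological Krull dimension of the
subspace is the order-theoretic Krull dimension. -/
theorem topologicalKrullDim_eq_krullDim {X : Scheme.{u}} (Z : Set X) (hZ : GenStable Z) :
    topologicalKrullDim ↥Z = Order.krullDim ↥Z := by
  apply le_antisymm
  · -- generic points
    have hgen : ∀ C : IrreducibleCloseds ↥Z,
        ∃ γ : X, IsGenericPoint γ (closure (Subtype.val '' (C : Set ↥Z))) := by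
      intro C
      exact QuasiSober.sober
        (C.isIrreducible.image Subtype.val continuous_subtype_val.continuousOn).closure
        isClosed_closure
    have hmemZ : ∀ C : IrreducibleCloseds ↥Z, (hgen C).choose ∈ Z := by
      intro C
      refine hZ (Subtype.val '' (C : Set ↥Z)) ?_
        (C.isIrreducible.image Subtype.val continuous_subtype_val.continuousOn) _
        (hgen C).choose_spec
      rintro _ ⟨c, -, rfl⟩
      exact c.2
    let g : IrreducibleCloseds ↥Z → ↥Z := fun C => ⟨(hgen C).choose, hmemZ C⟩
    have hpre : ∀ C : IrreducibleCloseds ↥Z,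
        (C : Set ↥Z) = Subtype.val ⁻¹' closure (Subtype.val '' (C : Set ↥Z)) := by
      intro C
      rw [← Topology.IsInducing.subtypeVal.closure_eq_preimage_closure_image, C.isClosed.closure_eq]
    refine Order.krullDim_le_of_strictMono g ?_
    intro C1 C2 h12
    have hD1 : closure ({(g C1).1} : Set X) = closure (Subtype.val '' (C1 : Set ↥Z)) :=
      (hgen C1).choose_spec.def
    have hD2 : closure ({(g C2).1} : Set X) = closure (Subtype.val '' (C2 : Set ↥Z)) :=
      (hgen C2).choose_spec.def
    have hsub : (C1 : Set ↥Z) ⊆ C2 := h12.le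
    refine lt_of_le_not_ge ?_ ?_
    · show (g C1).1 ≤ (g C2).1
      rw [Scheme.le_iff_specializes, specializes_iff_closure_subset, hD1, hD2]
      exact closure_mono (Set.image_mono hsub)
    · intro hge
      have hge' : (g C2).1 ≤ (g C1).1 := hge
      rw [Scheme.le_iff_specializes, specializes_iff_closure_subset, hD1, hD2] at hge'
      have : (C2 : Set ↥Z) ⊆ C1 := by
        rw [hpre C2, hpre C1]
        exact Set.preimage_mono hge'
      exact h12.not_ge this
  · refine le_trans ?_ (EquiDim.krullDim_specialization_le ↥Z)
    refine @Order.krullDim_le_of_strictMono ↥Z ↥Z _ (specializationPreorder ↥Z) id ?_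
    intro a b hab
    have h1 : b.1 ⤳ a.1 := Scheme.le_iff_specializes.1 hab.le
    have h2 : ¬ a.1 ⤳ b.1 := fun h' => hab.not_ge (Scheme.le_iff_specializes.2 h')
    letI := specializationPreorder ↥Z
    refine lt_of_le_not_ge ?_ ?_
    · show b ⤳ a
      exact (subtype_specializes_iff _ _).2 h1
    · intro h'
      have : a ⤳ b := h'
      exact h2 ((subtype_specializes_iff _ _).1 this)

/-- Upper bounds for the dimension of a generically stable subset via chains. -/
theorem dim_le_of_chains {X : Scheme.{u}} (Z : Set X) (hZ : GenStable Z) (B : WithBot ℕ∞)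
    (h : ∀ l : LTSeries X, (∀ i, l i ∈ Z) → (l.length : WithBot ℕ∞) ≤ B) :
    topologicalKrullDim ↥Z ≤ B := by
  rw [topologicalKrullDim_eq_krullDim Z hZ]
  unfold Order.krullDim
  refine iSup_le fun l => ?_
  have := h (l.map Subtype.val (fun a b hab => hab)) (fun i => (l i).2)
  simpa using this

theorem genStable_of_isOpen_inter_isClosed {X : Scheme.{u}} (U F : Set X) (hU : IsOpen U)
    (hF : IsClosed F) : GenStable (U ∩ F) := by
  intro C hC hCirr γ hγ
  have hγmem : γ ∈ closure C := by
    have : γ ∈ closure ({γ} : Set X) := subset_closure rfl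
    rwa [hγ.def] at this
  refine ⟨?_, ?_⟩
  · obtain ⟨c, hc⟩ := hCirr.nonempty
    have h1 : c ∈ closure ({γ} : Set X) := by
      rw [hγ.def]; exact subset_closure hc
    have h2 : γ ⤳ c := specializes_iff_mem_closure.2 h1
    exact h2.mem_open hU (hC hc).1
  · exact closure_minimal (fun c hc => (hC hc).2) hF hγmem

theorem genStable_of_isClosed {X : Scheme.{u}} (F : Set X) (hF : IsClosed F) : GenStable F := by
  have := genStable_of_isOpen_inter_isClosed Set.univ F isOpen_univ hF
  rwa [Set.univ_inter] at this

theorem genStable_generizations {X : Scheme.{u}} (F : Set X) (hF : IsClosed F) (x : X) :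
    GenStable {t : X | t ∈ F ∧ t ⤳ x} := by
  intro C hC hCirr γ hγ
  have hγmem : γ ∈ closure C := by
    have : γ ∈ closure ({γ} : Set X) := subset_closure rfl
    rwa [hγ.def] at this
  refine ⟨?_, ?_⟩
  · exact closure_minimal (fun c hc => (hC hc).1) hF hγmem
  · obtain ⟨c, hc⟩ := hCirr.nonempty
    have h1 : c ∈ closure ({γ} : Set X) := by
      rw [hγ.def]; exact subset_closure hc
    have h2 : γ ⤳ c := specializes_iff_mem_closure.2 h1
    exact h2.trans (hC hc).2

/-- Transfer: a subset of a subspace and its image in the ambient space have the same dimension. -/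
theorem dim_image_val {T : Type*} [TopologicalSpace T] (Y : Set T) (V : Set ↥Y) :
    topologicalKrullDim ↥(Subtype.val '' V : Set T) = topologicalKrullDim ↥V := by
  let e := Topology.IsEmbedding.subtypeVal.homeomorphImage (X := ↥Y) V
  exact (IsHomeomorph.topologicalKrullDim_eq e e.isHomeomorph).symm

theorem dim_preimage_val {T : Type*} [TopologicalSpace T] (Y : Set T) (U : Set T) :
    topologicalKrullDim ↥(Subtype.val ⁻¹' U : Set ↥Y) = topologicalKrullDim ↥(U ∩ Y) := by
  rw [← dim_image_val Y (Subtype.val ⁻¹' U)]
  have : (Subtype.val '' (Subtype.val ⁻¹' U : Set ↥Y) : Set T) = U ∩ Y := by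
    rw [Subtype.image_preimage_coe, Set.inter_comm]
  rw [this]

end Groth.Agent.Helper5.LocDim
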