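import Groth.Agent.Helper5.KDim4
import Groth.Agent.Helper5.CompFib1
import Groth.Agent.Helper5.LocDim1
import Groth.Agent.Helper5.EquiDim1
import Mathlib

set_option autoImplicit false
universe u
open CategoryTheory CategoryTheory.Limits AlgebraicGeometry TopologicalSpace

namespace Groth.Agent.Helper5.KDim

open Groth.Agent.Helper5.GenDim

/-- A morphism with discrete fibres is strictly monotone for the generisation orders. -/
theorem strictMono_of_lqf {X Y : Scheme.{u}} (f : X ⟶ Y) [LocallyQuasiFinite f] :
    StrictMono (f : ↥X → ↥Y) := by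
  intro a b hab
  have h1 : b ⤳ a := Scheme.le_iff_specializes.1 hab.le
  have h2 : f b ⤳ f a := h1.map f.continuous
  refine lt_of_le_not_ge (Scheme.le_iff_specializes.2 h2) ?_
  intro hge
  have h3 : f a ⤳ f b := Scheme.le_iff_specializes.1 hge
  have heq : f a = f b := (h3.antisymm h2).eq
  have hdisc : DiscreteTopology ↥(f ⁻¹' {f a}) := (f.isDiscrete_preimage_singleton (f a)).to_subtype
  let a' : ↥(f ⁻¹' {f a}) := ⟨a, rfl⟩
  let b' : ↥(f ⁻¹' {f a}) := ⟨b, heq.symm⟩
  have h4 : b' ⤳ a' := Topology.IsInducing.subtypeVal.specializes_iff.1 h1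
  have h5 : b' = a' := h4.eq
  have h6 : b = a := congrArg Subtype.val h5
  exact hab.not_ge (h6 ▸ le_refl _)

theorem genStable_univ {X : Scheme.{u}} : Groth.Agent.Helper5.LocDim.GenStable (Set.univ : Set X) :=
  fun _ _ _ _ _ => trivial

theorem genStable_of_isClosed {X : Scheme.{u}} (Z : Set X) (hZ : IsClosed Z) :
    Groth.Agent.Helper5.LocDim.GenStable Z := by
  intro C hC _ γ hγ
  exact closure_minimal hC hZ hγ.mem

/-- The dimension of the source of a morphism with discrete fibres is at most the dimension of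
any set containing the image. -/
theorem dim_le_of_lqf {X Y : Scheme.{u}} (f : X ⟶ Y) [LocallyQuasiFinite f] (Z : Set Y)
    (hZ : Set.range f ⊆ Z) : topologicalKrullDim ↥X ≤ topologicalKrullDim ↥Z := by
  rw [← dim_univ]
  refine Groth.Agent.Helper5.LocDim.dim_le_of_chains _ genStable_univ _ ?_
  intro l _
  have := Groth.Agent.Helper5.EquiDim.length_le_dim_of_forall_mem Z (l.map f (strictMono_of_lqf f))
    (fun i => hZ ⟨l i, rfl⟩)
  simpa using this

theorem s4715 {X Y : Scheme.{u}} (f : X ⟶ Y) [LocallyQuasiFinite f] :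
    topologicalKrullDim X ≤ topologicalKrullDim (closure (Set.range f.base)) ∧
      topologicalKrullDim (closure (Set.range f.base)) ≤ topologicalKrullDim Y :=
  ⟨dim_le_of_lqf f _ subset_closure, dim_set_le _⟩

/-- Chains in the image of a closed map lift. -/
theorem dim_range_le_of_isClosedMap {X Y : Scheme.{u}} (f : X ⟶ Y) (hcl : IsClosedMap f) :
    topologicalKrullDim ↥(Set.range f) ≤ topologicalKrullDim ↥X := by
  refine Groth.Agent.Helper5.LocDim.dim_le_of_chains _
    (genStable_of_isClosed _ hcl.isClosed_range) _ ?_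
  intro l hl
  obtain ⟨x, hx⟩ := hl (Fin.last _)
  have hlift : ∀ a : ↥X, ∀ b : ↥Y, b < f a → ∃ a' : ↥X, a' < a ∧ f a' = b := by
    intro a b hb
    have h1 : f a ⤳ b := Scheme.le_iff_specializes.1 hb.le
    obtain ⟨a', ha', hfa'⟩ := hcl.specializingMap h1
    refine ⟨a', lt_of_le_not_ge (Scheme.le_iff_specializes.2 ha') ?_, hfa'⟩
    intro hge
    have h2 : a' ⤳ a := Scheme.le_iff_specializes.1 hge
    have h3 : f a' ⤳ f a := h2.map f.continuous
    rw [hfa'] at h3
    exact hb.not_ge (Scheme.le_iff_specializes.2 h3)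
  have h1 := Groth.Agent.Helper5.CompFib.height_le_of_lifting (f : ↥X → ↥Y) hlift x
  have h2 : (l.length : ℕ∞) ≤ Order.height l.last := Order.length_le_height_last
  have hx' : f x = l.last := hx
  rw [hx'] at h1
  obtain ⟨p, -, hp⟩ := Order.exists_series_of_le_height x (h2.trans h1)
  have := Groth.Agent.Helper5.EquiDim.length_le_dim_of_forall_mem (Set.univ : Set X) p
    (fun _ => trivial)
  rw [dim_univ, hp] at this
  exact this

theorem s4717 {X Y : Scheme.{u}} (f : X ⟶ Y) [IsFinite f] :
    topologicalKrullDim X = topologicalKrullDim (Set.range f.base) ∧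
      (Function.Surjective f.base → topologicalKrullDim X = topologicalKrullDim Y) := by
  have h1 : topologicalKrullDim X = topologicalKrullDim (Set.range f.base) :=
    le_antisymm (dim_le_of_lqf f _ subset_rfl) (dim_range_le_of_isClosedMap f f.isClosedMap)
  refine ⟨h1, fun hs => ?_⟩
  rw [h1, hs.range_eq, dim_univ]

end Groth.Agent.Helper5.KDim
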