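import Groth.Agent.Helper5.KLem11
import Groth.Agent.Helper5.KDim5
import Groth.Prelude.Def_EGA4Misc

set_option autoImplicit false
universe u

namespace Groth.Agent.Helper5.ConsFin

open CategoryTheory CategoryTheory.Limits AlgebraicGeometry TopologicalSpace Topology
open Groth.Agent.Helper5.KLem

/-- (FIN) over a one-point integral base, a morphism of finite type is finite iff its source has
dimension at most zero -/
theorem isFinite_iff_dim_le_zero {Y T : Scheme.{u}} (g : Y ⟶ T) [IsIntegral T] [Subsingleton T]
    [LocallyOfFiniteType g] [QuasiCompact g] :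
    IsFinite g ↔ topologicalKrullDim ↥Y ≤ 0 := by
  constructor
  · intro hfin
    have h1 := Groth.Agent.Helper5.KDim.dim_le_of_lqf g Set.univ (Set.subset_univ _)
    rw [Groth.Agent.Helper5.KDim.dim_univ] at h1
    refine h1.trans ?_
    exact topologicalKrullDim_zero_of_discreteTopology T
  · intro hdim
    have hN : IsLocallyNoetherian Y := LocallyOfFiniteType.isLocallyNoetherian g
    have hA : IsLocallyArtinian Y := IsLocallyArtinian.of_topologicalKrullDim_le_zero hdim
    have hC : CompactSpace Y := QuasiCompact.compactSpace_of_compactSpace g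
    have hF : Finite Y := finite_of_compact_of_discrete
    have hq : LocallyQuasiFinite g :=
      LocallyQuasiFinite.of_finite_preimage_singleton g (fun t => Set.toFinite _)
    exact IsFinite.of_locallyQuasiFinite g

/-- transfer of constructibility along an equivalence of properties -/
theorem isCons_congr {P Q : ∀ ⦃Y T : Scheme.{u}⦄, (Y ⟶ T) → Prop}
    (hPQ : ∀ ⦃Y T : Scheme.{u}⦄ (g : Y ⟶ T) [IsIntegral T] [Subsingleton T]
      [LocallyOfFiniteType g] [QuasiCompact g], P g ↔ Q g) (hQ : ConsProp.IsCons Q) :
    ConsProp.IsCons P := by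
  refine ⟨?_, ?_⟩
  · intro Y Y' T T' g g' e h _ _ _ _ _ _ sq
    have hlft' : LocallyOfFiniteType g' := MorphismProperty.of_isPullback sq ‹_›
    have hqc' : QuasiCompact g' := MorphismProperty.of_isPullback sq ‹_›
    rw [hPQ g, hPQ g']
    exact hQ.1 g g' e h sq
  · intro X S u _ _ _ _
    have hloc : ConsProp.locus P u = ConsProp.locus Q u := by
      ext s
      have hlft : LocallyOfFiniteType (u.fiberToSpecResidueField s) :=
        inferInstanceAs (LocallyOfFiniteType (pullback.snd u (S.fromSpecResidueField s)))
      have hqc : QuasiCompact (u.fiberToSpecResidueField s) :=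
        inferInstanceAs (QuasiCompact (pullback.snd u (S.fromSpecResidueField s)))
      have hsub : Subsingleton ↥(Spec (S.residueField s)) :=
        inferInstanceAs (Subsingleton (PrimeSpectrum (S.residueField s)))
      exact hPQ (u.fiberToSpecResidueField s)
    rw [hloc]
    exact hQ.2 u

theorem s5886 : ConsProp.IsCons (fun _ _ g => AlgebraicGeometry.IsFinite g) := by
  refine isCons_congr (Q := fun Y _ _ => topologicalKrullDim ↥Y ∈ {d | d ≤ 0}) ?_ (s5888 _)
  intro Y T g _ _ _ _
  exact isFinite_iff_dim_le_zero g

end Groth.Agent.Helper5.ConsFin
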