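import Mathlib
import Groth.Agent.Helper5.ConsPr4

set_option autoImplicit false
universe u

namespace Groth.Agent.Helper5.ConsPr

open CategoryTheory CategoryTheory.Limits AlgebraicGeometry TopologicalSpace Topology

theorem surjective_of_subsingleton {T T' : Scheme.{u}} (h : T' ⟶ T) [Subsingleton T] [Nonempty T'] :
    Surjective h :=
  ⟨fun _ => ⟨Nonempty.some inferInstance, Subsingleton.elim _ _⟩⟩

/-- field stability of "all fibres satisfy `P`" -/
theorem fieldStableMor_forall_fibre {P : ∀ ⦃Y T : Scheme.{u}⦄, (Y ⟶ T) → Prop}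
    (hP : ConsProp.IsFieldStable P) :
    ConsProp.IsFieldStableMor
      (fun X Y T f g => ∀ y : ↥Y, P (f.fiberToSpecResidueField y)) := by
  intro X X' Y Y' T T' f g f' g' eX eY h _ _ _ _ _ _ _ _ sqY sqX
  obtain ⟨hYN, hlft, hqc⟩ := noeth_of_comp f g
  have : Nonempty T' := inferInstance
  have hh : Surjective h := surjective_of_subsingleton h
  have hsurj : Surjective eY := MorphismProperty.of_isPullback sqY.flip hh
  constructor
  · intro H y'
    exact (fibre_iff_of_isPullback hP sqX y').2 (H (eY y'))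
  · intro H y
    obtain ⟨y', rfl⟩ := hsurj.surj y
    exact (fibre_iff_of_isPullback hP sqX y').1 (H y')

theorem mem_locusMor_forall_fibre {P : ∀ ⦃Y T : Scheme.{u}⦄, (Y ⟶ T) → Prop}
    (hP : ConsProp.IsFieldStable P) {X Y S : Scheme.{u}} (f : X ⟶ Y) (g : Y ⟶ S)
    [LocallyOfFiniteType f] [QuasiCompact f] (s : S) :
    s ∈ ConsProp.locusMor (fun X Y T f g => ∀ y : ↥Y, P (f.fiberToSpecResidueField y)) f g ↔
      g ⁻¹' {s} ⊆ ConsProp.locus P f := by
  show (∀ y' : ↥(g.fiber s), P ((MoreMor.fiberMap f g s).fiberToSpecResidueField y')) ↔ _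
  constructor
  · intro H y hy
    have : y ∈ Set.range (g.fiberι s) := by rw [Scheme.Hom.range_fiberι]; exact hy
    obtain ⟨y', rfl⟩ := this
    exact (fibre_iff_of_isPullback hP (isPullback_fiberMap f g s) y').1 (H y')
  · intro H y'
    refine (fibre_iff_of_isPullback hP (isPullback_fiberMap f g s) y').2 (H ?_)
    have : g.fiberι s y' ∈ Set.range (g.fiberι s) := ⟨y', rfl⟩
    rwa [Scheme.Hom.range_fiberι] at this

theorem s5884 {P : ∀ ⦃Y T : Scheme.{u}⦄, (Y ⟶ T) → Prop} (hP : ConsProp.IsCons P) :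
    ConsProp.IsConsMor
      (fun X Y T f g => ∀ y : ↥Y, P (f.fiberToSpecResidueField y)) := by
  refine ⟨fieldStableMor_forall_fibre hP.1, ?_⟩
  intro X Y S f g _ _ _ _ _ _
  obtain ⟨hYN, hlft, hqc⟩ := noeth_of_comp f g
  obtain ⟨V, hVne, hV⟩ := core_cons g (ConsProp.locus P f)
    (fun Z hZ hirr => exists_open_of_isCons hP f Z hZ hirr)
  obtain ⟨v, hv⟩ := hVne
  rcases hV with hV | hV
  · left
    refine ⟨v, mem_interior.2 ⟨V, ?_, V.2, hv⟩⟩
    intro s hs
    rw [mem_locusMor_forall_fibre hP.1]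
    intro y hy
    apply hV
    show g y ∈ V
    rw [show g y = s from hy]
    exact hs
  · right
    refine ⟨v, mem_interior.2 ⟨V, ?_, V.2, hv⟩⟩
    intro s hs hmemS
    rw [mem_locusMor_forall_fibre hP.1] at hmemS
    obtain ⟨y, hyE, rfl⟩ := hV hs
    exact hyE (hmemS rfl)

theorem s5885 {P : ∀ ⦃Y T : Scheme.{u}⦄, (Y ⟶ T) → Prop} (hP : ConsProp.IsIndCons P) :
    ConsProp.IsIndConsMor
      (fun X Y T f g => ∀ y : ↥Y, P (f.fiberToSpecResidueField y)) := by
  refine ⟨fieldStableMor_forall_fibre hP.1, ?_⟩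
  intro X Y S f g _ _ _ _ _ _ hη
  obtain ⟨hYN, hlft, hqc⟩ := noeth_of_comp f g
  rw [mem_locusMor_forall_fibre hP.1] at hη
  obtain ⟨V, hVne, hV⟩ := core_ind g (ConsProp.locus P f)
    (fun Z hZ hirr hgen => exists_open_of_isIndCons hP f Z hZ hirr hgen) hη
  obtain ⟨v, hv⟩ := hVne
  refine ⟨v, mem_interior.2 ⟨V, ?_, V.2, hv⟩⟩
  intro s hs
  rw [mem_locusMor_forall_fibre hP.1]
  intro y hy
  apply hV
  show g y ∈ V
  rw [show g y = s from hy]
  exact hs

end Groth.Agent.Helper5.ConsPr
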