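import Mathlib
import Groth.Agent.Helper5.ConsPr5
import Groth.Agent.Helper5.ConsFin1

set_option autoImplicit false
universe u

namespace Groth.Agent.Helper5.ConsPr

open CategoryTheory CategoryTheory.Limits AlgebraicGeometry TopologicalSpace Topology

/-- transfer of constructibility of a relation on morphisms along an equivalence of relations -/
theorem isConsMor_congr {P Q : ∀ ⦃X Y T : Scheme.{u}⦄, (X ⟶ Y) → (Y ⟶ T) → Prop}
    (hPQ : ∀ ⦃X Y T : Scheme.{u}⦄ (f : X ⟶ Y) (g : Y ⟶ T) [IsIntegral T] [Subsingleton T]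
      [LocallyOfFiniteType g] [QuasiCompact g] [LocallyOfFiniteType (f ≫ g)]
      [QuasiCompact (f ≫ g)], P f g ↔ Q f g) (hQ : ConsProp.IsConsMor Q) :
    ConsProp.IsConsMor P := by
  refine ⟨?_, ?_⟩
  · intro X X' Y Y' T T' f g f' g' eX eY h _ _ _ _ _ _ _ _ sqY sqX
    have hlft' : LocallyOfFiniteType g' := MorphismProperty.of_isPullback sqY ‹_›
    have hqc' : QuasiCompact g' := MorphismProperty.of_isPullback sqY ‹_›
    have sqXT : IsPullback eX (f' ≫ g') (f ≫ g) h := sqX.paste_vert sqY
    have hlft'' : LocallyOfFiniteType (f' ≫ g') := MorphismProperty.of_isPullback sqXT ‹_›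
    have hqc'' : QuasiCompact (f' ≫ g') := MorphismProperty.of_isPullback sqXT ‹_›
    rw [hPQ f g, hPQ f' g']
    exact hQ.1 f g f' g' eX eY h sqY sqX
  · intro X Y S f g _ _ _ _ _ _
    have hloc : ConsProp.locusMor P f g = ConsProp.locusMor Q f g := by
      ext s
      have h2 : MoreMor.fiberMap f g s ≫ g.fiberToSpecResidueField s =
          (f ≫ g).fiberToSpecResidueField s := pullback.lift_snd _ _ _
      have hlft : LocallyOfFiniteType (MoreMor.fiberMap f g s ≫ g.fiberToSpecResidueField s) := by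
        rw [h2]; infer_instance
      have hqc : QuasiCompact (MoreMor.fiberMap f g s ≫ g.fiberToSpecResidueField s) := by
        rw [h2]; infer_instance
      exact hPQ (MoreMor.fiberMap f g s) (g.fiberToSpecResidueField s)
    rw [hloc]
    exact hQ.2 f g

theorem s5889 :
    ConsProp.IsConsMor
      (fun X Y T f g => AlgebraicGeometry.LocallyOfFiniteType f ∧ AlgebraicGeometry.QuasiCompact f ∧
        AlgebraicGeometry.LocallyQuasiFinite f) := by
  refine isConsMor_congr ?_ (s5884 Groth.Agent.Helper5.ConsFin.s5886)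
  intro X Y T f g _ _ _ _ _ _
  obtain ⟨hYN, hlft, hqc⟩ := noeth_of_comp f g
  constructor
  · rintro ⟨-, -, h⟩ y
    infer_instance
  · intro H
    exact ⟨hlft, hqc, locallyQuasiFinite_iff_isFinite_fiber.2 H⟩

end Groth.Agent.Helper5.ConsPr
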