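import Groth.Agent.Helper5.EqAt5

set_option autoImplicit false
universe u
open AlgebraicGeometry CategoryTheory TopologicalSpace

namespace Groth.Agent.Helper5.GenLift

/-- (ALG): if every principal open neighbourhood of `q` meets the fibre over `p'`, then some
generisation of `q` lies over `p'`. -/
theorem exists_prime_le_comap_eq {A B : Type*} [CommRing A] [CommRing B] (φ : A →+* B)
    (q : Ideal B) [q.IsPrime] (p' : Ideal A) [p'.IsPrime]
    (h : ∀ g : B, g ∉ q → ∃ q'' : Ideal B, q''.IsPrime ∧ g ∉ q'' ∧ q''.comap φ = p') :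
    ∃ q' : Ideal B, q'.IsPrime ∧ q' ≤ q ∧ q'.comap φ = p' := by
  let S : Submonoid B := q.primeCompl ⊔ (p'.primeCompl.map φ)
  have hdisj : Disjoint ((p'.map φ : Ideal B) : Set B) S := by
    rw [Set.disjoint_left]
    intro b hbI hbS
    obtain ⟨s, hs, t', ht', rfl⟩ := Submonoid.mem_sup.1 hbS
    obtain ⟨t, ht, rfl⟩ := ht'
    obtain ⟨q'', hq''p, hsq'', hq''c⟩ := h s hs
    have hI : p'.map φ ≤ q'' := by
      rw [Ideal.map_le_iff_le_comap, hq''c]
    have h1 : s * φ t ∈ q'' := hI hbI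
    rcases hq''p.mem_or_mem h1 with h2 | h2
    · exact hsq'' h2
    · have : t ∈ q''.comap φ := h2
      rw [hq''c] at this
      exact ht this
  obtain ⟨q', hq'p, hq'I, hq'S⟩ := Ideal.exists_le_prime_disjoint (p'.map φ) S hdisj
  refine ⟨q', hq'p, ?_, ?_⟩
  · intro b hb
    by_contra hbq
    exact Set.disjoint_left.1 hq'S hb (Submonoid.mem_sup_left (show b ∈ q.primeCompl from hbq))
  · apply le_antisymm
    · intro a ha
      by_contra hap
      have h1 : φ a ∈ q' := ha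
      exact Set.disjoint_left.1 hq'S h1
        (Submonoid.mem_sup_right ⟨a, hap, rfl⟩)
    · rw [← Ideal.map_le_iff_le_comap]
      exact hq'I


theorem mem_basicOpen_iff_not_mem_primeIdealOf {X : Scheme.{u}} (W : X.Opens) (hW : IsAffineOpen W)
    (g : Γ(X, W)) (t : X) (ht : t ∈ W) :
    t ∈ X.basicOpen g ↔ g ∉ (hW.primeIdealOf ⟨t, ht⟩).asIdeal := by
  have h1 : hW.fromSpec (hW.primeIdealOf ⟨t, ht⟩) = t := hW.fromSpec_primeIdealOf ⟨t, ht⟩
  have h2 : hW.primeIdealOf ⟨t, ht⟩ ∈ hW.fromSpec ⁻¹ᵁ X.basicOpen g ↔ t ∈ X.basicOpen g := by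
    show hW.fromSpec (hW.primeIdealOf ⟨t, ht⟩) ∈ X.basicOpen g ↔ _
    rw [h1]
  rw [← h2, hW.fromSpec_preimage_basicOpen]
  rfl

/-- (GL): a morphism open at a point lifts generisations of the image of that point. -/
theorem exists_generization_of_isOpenAt {X Y : Scheme.{u}} (f : X ⟶ Y) (z : X)
    (h : EGA43.IsOpenAt f.base z) (y' : Y) (hy' : y' ⤳ f z) :
    ∃ x' : X, x' ⤳ z ∧ f x' = y' := by
  obtain ⟨U, hU, hfzU⟩ : ∃ U : Y.Opens, IsAffineOpen U ∧ f z ∈ U := by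
    obtain ⟨_, ⟨U, hU, rfl⟩, hxU, -⟩ :=
      (Y.isBasis_affineOpens).exists_subset_of_mem_open (Set.mem_univ (f z)) isOpen_univ
    exact ⟨U, hU, hxU⟩
  obtain ⟨W, hW, hzW, e⟩ : ∃ W : X.Opens, IsAffineOpen W ∧ z ∈ W ∧ W ≤ f ⁻¹ᵁ U := by
    obtain ⟨_, ⟨W, hW, rfl⟩, hxW, hsub⟩ :=
      (X.isBasis_affineOpens).exists_subset_of_mem_open (show z ∈ ((f ⁻¹ᵁ U : X.Opens) : Set X)
        from hfzU) (f ⁻¹ᵁ U).isOpen
    exact ⟨W, hW, hxW, hsub⟩
  have hy'U : y' ∈ U := hy'.mem_open U.2 hfzU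
  let φ : Γ(Y, U) →+* Γ(X, W) := (f.appLE U W e).hom
  let q : Ideal Γ(X, W) := (hW.primeIdealOf ⟨z, hzW⟩).asIdeal
  let p' : Ideal Γ(Y, U) := (hU.primeIdealOf ⟨y', hy'U⟩).asIdeal
  have key : ∀ g : Γ(X, W), g ∉ q →
      ∃ q'' : Ideal Γ(X, W), q''.IsPrime ∧ g ∉ q'' ∧ q''.comap φ = p' := by
    intro g hg
    have hzg : z ∈ X.basicOpen g := (mem_basicOpen_iff_not_mem_primeIdealOf W hW g z hzW).2 hg
    have hnhds : ((X.basicOpen g : X.Opens) : Set X) ∈ nhds z := (X.basicOpen g).isOpen.mem_nhds hzg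
    have h1 : f.base '' ((X.basicOpen g : X.Opens) : Set X) ∈ nhds (f.base z) := h _ hnhds
    have h2 : y' ∈ f.base '' ((X.basicOpen g : X.Opens) : Set X) :=
      mem_of_mem_nhds (hy' h1)
    obtain ⟨x'', hx''g, hfx''⟩ := h2
    have hx''W : x'' ∈ W := X.basicOpen_le g hx''g
    refine ⟨(hW.primeIdealOf ⟨x'', hx''W⟩).asIdeal, inferInstance, ?_, ?_⟩
    · exact (mem_basicOpen_iff_not_mem_primeIdealOf W hW g x'' hx''W).1 hx''g
    · have h3 := IsAffineOpen.comap_primeIdealOf_appLE U hU W hW e hx''W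
      have h4 : hU.primeIdealOf ⟨f x'', e hx''W⟩ = hU.primeIdealOf ⟨y', hy'U⟩ := by
        congr 1
        exact Subtype.ext hfx''
      rw [h4] at h3
      exact congrArg PrimeSpectrum.asIdeal h3
  obtain ⟨q', hq'p, hq'q, hq'c⟩ := exists_prime_le_comap_eq φ q p' key
  let Q' : ↥(Spec Γ(X, W)) := ⟨q', hq'p⟩
  refine ⟨hW.fromSpec Q', ?_, ?_⟩
  · have h1 : hW.fromSpec (hW.primeIdealOf ⟨z, hzW⟩) = z := hW.fromSpec_primeIdealOf ⟨z, hzW⟩
    rw [← h1]
    refine Specializes.map ?_ hW.fromSpec.continuous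
    exact (PrimeSpectrum.le_iff_specializes Q' (hW.primeIdealOf ⟨z, hzW⟩)).1 hq'q
  · have h1 := IsAffineOpen.SpecMap_appLE_fromSpec f hU hW e
    have h2 := congrArg (fun g => g.base Q') h1
    have h3 : Spec.map (f.appLE U W e) Q' = hU.primeIdealOf ⟨y', hy'U⟩ :=
      PrimeSpectrum.ext hq'c
    have h4 : hU.fromSpec (Spec.map (f.appLE U W e) Q') = f (hW.fromSpec Q') := h2
    rw [← h4, h3]
    exact hU.fromSpec_primeIdealOf ⟨y', hy'U⟩

end Groth.Agent.Helper5.GenLift
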