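import Mathlib

set_option autoImplicit false
universe u

namespace Groth.Agent.Helper5.GenLift

open CategoryTheory CategoryTheory.Limits AlgebraicGeometry TopologicalSpace

/-- going down for ring maps inducing an open map on spectra -/
lemma generalizingMap_comap_of_isOpenMap {R B : Type*} [CommRing R] [CommRing B] (φ : R →+* B)
    (h : IsOpenMap (PrimeSpectrum.comap φ)) : GeneralizingMap (PrimeSpectrum.comap φ) := by
  intro q p' hp'
  let S : Submonoid B := q.asIdeal.primeCompl ⊔ p'.asIdeal.primeCompl.map φ
  have hdisj : Disjoint (p'.asIdeal.map φ : Set B) S := by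
    rw [Set.disjoint_left]
    rintro x hx hxS
    obtain ⟨b, hb, z, hz, rfl⟩ := Submonoid.mem_sup.mp hxS
    obtain ⟨r, hr, rfl⟩ := Submonoid.mem_map.mp hz
    have hop := h _ (PrimeSpectrum.basicOpen b).isOpen
    have hq : PrimeSpectrum.comap φ q ∈ PrimeSpectrum.comap φ '' (PrimeSpectrum.basicOpen b : Set _) :=
      ⟨q, hb, rfl⟩
    obtain ⟨q'', hq''b, hq''⟩ := hp'.mem_open hop hq
    have hle : p'.asIdeal.map φ ≤ q''.asIdeal := by
      rw [Ideal.map_le_iff_le_comap, ← hq'']
      rfl
    rcases q''.isPrime.mem_or_mem (hle hx) with h1 | h1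
    · exact hq''b h1
    · apply hr
      rw [← hq'']
      exact h1
  obtain ⟨Q, hQ, hle, hQS⟩ := Ideal.exists_le_prime_disjoint (p'.asIdeal.map φ) S hdisj
  refine ⟨⟨Q, hQ⟩, ?_, ?_⟩
  · change (⟨Q, hQ⟩ : PrimeSpectrum B) ⤳ q
    rw [← PrimeSpectrum.le_iff_specializes]
    intro x hx
    by_contra hxq
    exact Set.disjoint_left.mp hQS hx (Submonoid.mem_sup_left hxq)
  · ext r
    constructor
    · intro hr
      by_contra hrp
      exact Set.disjoint_left.mp hQS hr (Submonoid.mem_sup_right (Submonoid.mem_map_of_mem _ hrp))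
    · intro hr
      exact hle (Ideal.mem_map_of_mem _ hr)

open MorphismProperty in
/-- an open morphism of schemes lifts generizations -/
lemma generalizingMap_of_isOpenMap {X Y : Scheme.{u}} (f : X ⟶ Y) (hf : IsOpenMap f) :
    GeneralizingMap f := by
  change topologically GeneralizingMap f
  replace hf : topologically IsOpenMap f := hf
  have := HasRingHomProperty.of_isZariskiLocalAtSource_of_isZariskiLocalAtTarget.{u}
    (topologically GeneralizingMap)
  wlog hY : ∃ R, Y = Spec R generalizing X Y
  · rw [IsZariskiLocalAtTarget.iff_of_openCover (P := topologically GeneralizingMap) Y.affineCover]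
    intro i
    dsimp only [Scheme.Cover.pullbackHom]
    refine this _ ?_ ⟨_, rfl⟩
    exact IsZariskiLocalAtTarget.of_isPullback (P := topologically IsOpenMap)
      (iY := Y.affineCover.f i) (IsPullback.of_hasPullback ..) hf
  obtain ⟨R, rfl⟩ := hY
  wlog hX : ∃ S, X = Spec S generalizing X
  · rw [IsZariskiLocalAtSource.iff_of_openCover (P := topologically GeneralizingMap) X.affineCover]
    intro i
    refine this _ ?_ ⟨_, rfl⟩
    exact IsZariskiLocalAtSource.comp (P := topologically IsOpenMap) hf _
  obtain ⟨S, rfl⟩ := hX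
  obtain ⟨φ, rfl⟩ := Spec.map_surjective f
  exact generalizingMap_comap_of_isOpenMap φ.hom hf

end Groth.Agent.Helper5.GenLift
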