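import Groth.Agent.Helper5.KDim2
import Groth.Agent.Helper5.BCMin6
import Mathlib

set_option autoImplicit false
universe u
open CategoryTheory CategoryTheory.Limits AlgebraicGeometry TopologicalSpace

namespace Groth.Agent.Helper5.KDim

open Groth.Agent.Helper5.GenDim Groth.Agent.Helper5.BCMin

/-- A fibre of dimension at least `r` contains a point of residue transcendence degree at least
`r`. -/
theorem exists_resTrdeg_ge {X Y : Scheme.{u}} (f : X ⟶ Y) [LocallyOfFiniteType f] (η : Y) (r : ℕ)
    (h : (r : WithBot ℕ∞) ≤ topologicalKrullDim ↥(f ⁻¹' {η})) :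
    ∃ x : X, f x = η ∧ ∃ n : ℕ, Dual3.resTrdeg f x = (n : Cardinal.{u}) ∧ r ≤ n := by
  by_contra hcon
  push Not at hcon
  have hlt : topologicalKrullDim ↥(f ⁻¹' {η}) < (r : WithBot ℕ∞) := by
    rcases Nat.eq_zero_or_pos r with h0 | hpos
    · subst h0
      have hempty : f ⁻¹' {η} = ∅ := by
        ext x
        simp only [Set.mem_preimage, Set.mem_singleton_iff, Set.mem_empty_iff_false, iff_false]
        intro hx
        obtain ⟨n, hn⟩ := exists_resTrdeg_nat f x
        exact absurd (hcon x hx n hn) (Nat.not_lt_zero n)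
      rw [Groth.Agent.Helper5.FibDim.dim_empty _ hempty]
      exact WithBot.bot_lt_coe _
    · have h1 := dim_fibre_inter_closed_le f η Set.univ isClosed_univ ((r - 1 : ℕ) : WithBot ℕ∞)
        (fun ζ hζ n hn => by
          have := hcon ζ hζ.1 n hn
          exact_mod_cast (by omega : n ≤ r - 1))
      rw [Set.inter_univ] at h1
      refine lt_of_le_of_lt h1 ?_
      exact_mod_cast (by omega : r - 1 < r)
  exact absurd h (not_le.2 hlt)

theorem s10885 (k : Type u) [Field k] {X Y : Scheme.{u}}
    (q : Y ⟶ Spec (CommRingCat.of k)) [LocallyOfFiniteType q]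
    (f : X ⟶ Y) [LocallyOfFiniteType f] (r : ℕ)
    (hfib : ∀ η : Y, (∀ y : Y, y ⤳ η → y = η) →
      (r : WithBot ℕ∞) ≤ topologicalKrullDim (f.base ⁻¹' {η})) :
    (r : WithBot ℕ∞) + topologicalKrullDim Y ≤ topologicalKrullDim X := by
  have hsub : Subsingleton ↥(Spec (CommRingCat.of k)) :=
    inferInstanceAs (Subsingleton (PrimeSpectrum k))
  have hlft : LocallyOfFiniteType (f ≫ q) := inferInstance
  -- key estimate at maximal points
  have key : ∀ η : Y, (∀ y : Y, y ⤳ η → y = η) → ∀ m : ℕ,
      Dual3.resTrdeg q η = (m : Cardinal.{u}) →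
      ((r + m : ℕ) : WithBot ℕ∞) ≤ topologicalKrullDim ↥X := by
    intro η hη m hm
    obtain ⟨x, hx, n, hn, hrn⟩ := exists_resTrdeg_ge f η r (hfib η hη)
    have h2 := Groth.Agent.Helper5.ResTr.resTrdeg_comp f q x
    have hx' : f x = η := hx
    rw [hx', hm, hn] at h2
    have h3 : Dual3.resTrdeg (f ≫ q) x = ((m + n : ℕ) : Cardinal.{u}) := by
      rw [h2]; push_cast; rfl
    have h4 := le_dim_of_resTrdeg (f ≫ q) x (m + n) h3
    refine le_trans ?_ h4
    exact_mod_cast (by omega : r + m ≤ m + n)
  by_cases hY : IsEmpty ↥Y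
  · have : IsEmpty (TopologicalSpace.IrreducibleCloseds ↥Y) := by
      refine ⟨fun Z => ?_⟩
      obtain ⟨z, -⟩ := Z.isIrreducible.nonempty
      exact hY.false z
    have hbot : topologicalKrullDim ↥Y = ⊥ := by
      rw [topologicalKrullDim, Order.krullDim_eq_bot]
    rw [hbot, WithBot.add_bot]
    exact bot_le
  rw [not_isEmpty_iff] at hY
  obtain ⟨y₀⟩ := hY
  obtain ⟨η₀, hη₀y, hη₀max⟩ := exists_max_generization y₀
  obtain ⟨m₀, hm₀⟩ := exists_resTrdeg_nat q η₀
  have key₀ := key η₀ hη₀max m₀ hm₀
  generalize hD : topologicalKrullDim ↥X = D at key key₀ ⊢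
  induction D using WithBot.recBotCoe with
  | bot => exact absurd key₀ (by simp)
  | coe D =>
    induction D using ENat.recTopCoe with
    | top => exact le_top
    | coe N =>
      have hrN : r ≤ N := by
        have : r + m₀ ≤ N := by exact_mod_cast key₀
        omega
      have hdimY : topologicalKrullDim ↥Y ≤ ((N - r : ℕ) : WithBot ℕ∞) := by
        refine dim_le_of_resTrdeg_le k q _ ?_
        intro y n hn
        obtain ⟨η, hηy, hηmax⟩ := exists_max_generization y
        obtain ⟨m, hm⟩ := exists_resTrdeg_nat q η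
        have h1 := resTrdeg_le_of_specializes_fibre q η y hηy (Subsingleton.elim _ _)
        rw [hn, hm] at h1
        have hnm : n ≤ m := by exact_mod_cast h1
        have h2 : r + m ≤ N := by exact_mod_cast key η hηmax m hm
        exact_mod_cast (by omega : n ≤ N - r)
      calc (r : WithBot ℕ∞) + topologicalKrullDim ↥Y
          ≤ (r : WithBot ℕ∞) + ((N - r : ℕ) : WithBot ℕ∞) := by gcongr
        _ = ((N : ℕ) : WithBot ℕ∞) := by
          have : r + (N - r) = N := by omega
          exact_mod_cast congrArg (fun t : ℕ => (t : WithBot ℕ∞)) this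
        _ = ((N : ℕ∞) : WithBot ℕ∞) := rfl

end Groth.Agent.Helper5.KDim
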