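import Groth.Agent.Helper5.DimFormula2

set_option autoImplicit false
universe u

namespace Groth.Agent.Helper5.DimFormula

/-- The setup: a presentation `π : P = R[X₁..Xₙ] → S` of a finite type domain over a Noetherian
domain `R`, with kernel `Q`, and the two identities coming from the polynomial formula. -/
theorem presentation_data (R : Type u) [CommRing R] [IsDomain R]
    [IsNoetherianRing R] (S : Type u) [CommRing S] [IsDomain S] [Algebra R S]
    [FaithfulSMul R S] (n : ℕ) (π : MvPolynomial (Fin n) R →ₐ[R] S)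
    (hπ : Function.Surjective π) (p : Ideal R) [p.IsPrime] (q : Ideal S) [q.IsPrime]
    [q.LiesOver p] :
    (p.height : Cardinal.{u}) + (n : ℕ) =
        ((q.comap π).height : Cardinal.{u}) + Algebra.trdeg (R ⧸ p) (S ⧸ q) ∧
      ((n : ℕ) : Cardinal.{u}) =
        ((RingHom.ker π.toRingHom).height : Cardinal.{u}) + Algebra.trdeg R S := by
  let P := MvPolynomial (Fin n) R
  let Q : Ideal P := RingHom.ker π.toRingHom
  have hQ : Q.IsPrime := RingHom.ker_isPrime π.toRingHom
  let q' : Ideal P := q.comap π
  have hq' : q'.IsPrime := inferInstance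
  have hq'p : q'.LiesOver p := inferInstance
  have hQbot : Q.LiesOver (⊥ : Ideal R) := by
    constructor
    ext x
    simp only [Ideal.mem_bot, Ideal.under_def, Ideal.mem_comap]
    constructor
    · rintro rfl
      simp
    · intro hx
      have h1 : π (algebraMap R P x) = 0 := hx
      rw [π.commutes] at h1
      exact (FaithfulSMul.algebraMap_injective R S) (by rw [h1, map_zero])
  constructor
  · have h1 := mvPolynomial_formula n R p q'
    rw [h1]
    congr 1
    -- the quotient isomorphism
    let φ : (P ⧸ q') →ₐ[R ⧸ p] (S ⧸ q) :=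
      { toRingHom := Ideal.quotientMap q π.toRingHom le_rfl
        commutes' := by
          rintro ⟨x⟩
          show Ideal.Quotient.mk q (π (algebraMap R P x)) = Ideal.Quotient.mk q (algebraMap R S x)
          rw [π.commutes] }
    have hφ : Function.Bijective φ := by
      constructor
      · exact Ideal.quotientMap_injective (I := q) (f := π.toRingHom)
      · exact Ideal.quotientMap_surjective (I := q) (f := π.toRingHom) (H := le_rfl) hπ
    exact AlgEquiv.trdeg_eq (AlgEquiv.ofBijective φ hφ)
  · have h1 := mvPolynomial_formula n R (⊥ : Ideal R) Q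
    rw [Ideal.height_bot] at h1
    have h0 : ((0 : ℕ∞) : Cardinal.{u}) = 0 := by simp
    rw [h0, zero_add] at h1
    rw [h1]
    congr 1
    -- `trdeg (R/⊥) (P/Q) = trdeg R S`
    have hfaith : FaithfulSMul R (R ⧸ (⊥ : Ideal R)) := by
      rw [faithfulSMul_iff_algebraMap_injective]
      intro a b h
      have := Ideal.Quotient.eq.1 h
      simpa [sub_eq_zero] using this
    have hsurj : Function.Surjective (algebraMap R (R ⧸ (⊥ : Ideal R))) :=
      Ideal.Quotient.mk_surjective
    have hint : Algebra.IsIntegral R (R ⧸ (⊥ : Ideal R)) := Algebra.isIntegral_of_surjective hsurj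
    have halg : Algebra.IsAlgebraic R (R ⧸ (⊥ : Ideal R)) := inferInstance
    have h2 := trdeg_add_eq R (R ⧸ (⊥ : Ideal R)) (A := P ⧸ Q)
    rw [trdeg_eq_zero, zero_add] at h2
    rw [h2]
    exact AlgEquiv.trdeg_eq (Ideal.quotientKerAlgEquivOfSurjective hπ)

/-- The dimension inequality (Matsumura 15.1, Stacks 02IJ). -/
theorem dimension_inequality (R : Type u) [CommRing R] [IsDomain R]
    [IsNoetherianRing R] (S : Type u) [CommRing S] [IsDomain S] [Algebra R S]
    [FaithfulSMul R S] [Algebra.FiniteType R S] (p : Ideal R) [p.IsPrime] (q : Ideal S) [q.IsPrime]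
    [q.LiesOver p] :
    (q.height : Cardinal.{u}) + Algebra.trdeg (R ⧸ p) (S ⧸ q) ≤
      (p.height : Cardinal.{u}) + Algebra.trdeg R S := by
  obtain ⟨n, π, hπ⟩ := Algebra.FiniteType.iff_quotient_mvPolynomial''.mp
    (inferInstance : Algebra.FiniteType R S)
  obtain ⟨h1, h2⟩ := presentation_data R S n π hπ p q
  let P := MvPolynomial (Fin n) R
  let Q : Ideal P := RingHom.ker π.toRingHom
  have hQ : Q.IsPrime := RingHom.ker_isPrime π.toRingHom
  have h3 : q.height + Q.height ≤ (q.comap π.toRingHom).height :=
    height_add_height_ker_le π.toRingHom hπ Q rfl q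
  have h3' : (q.height : Cardinal.{u}) + (Q.height : Cardinal.{u}) ≤
      ((q.comap π).height : Cardinal.{u}) := by
    rw [← Cardinal.ofENat_add]
    exact Cardinal.ofENat_le_ofENat.2 h3
  have hfin : (Q.height : Cardinal.{u}) < Cardinal.aleph0 :=
    Cardinal.ofENat_lt_aleph0.2 (lt_top_iff_ne_top.2 Ideal.height_ne_top_of_isPrime)
  rw [← Cardinal.add_le_add_iff_of_lt_aleph0 hfin]
  calc (q.height : Cardinal.{u}) + Algebra.trdeg (R ⧸ p) (S ⧸ q) + (Q.height : Cardinal.{u})
      = ((q.height : Cardinal.{u}) + (Q.height : Cardinal.{u})) + Algebra.trdeg (R ⧸ p) (S ⧸ q) := by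
        ring
    _ ≤ ((q.comap π).height : Cardinal.{u}) + Algebra.trdeg (R ⧸ p) (S ⧸ q) := by gcongr
    _ = (p.height : Cardinal.{u}) + (n : ℕ) := h1.symm
    _ = (p.height : Cardinal.{u}) + ((Q.height : Cardinal.{u}) + Algebra.trdeg R S) := by rw [h2]
    _ = _ := by ring

end Groth.Agent.Helper5.DimFormula
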