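import Mathlib

set_option autoImplicit false
universe u

namespace Groth.Agent.Helper5.KLem

/-- (G') In a Noetherian domain, if every non-zero prime strictly below the prime `P` contains a
fixed non-zero element, there is no such prime. -/
theorem not_lt_of_forall_mem {B : Type*} [CommRing B] [IsDomain B] [IsNoetherianRing B]
    (P : Ideal B) [P.IsPrime] (b : B) (hb : b ≠ 0)
    (h : ∀ z : Ideal B, z.IsPrime → z ≠ ⊥ → z < P → b ∈ z)
    (z : Ideal B) (hz : z.IsPrime) (hz0 : z ≠ ⊥) : ¬ z < P := by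
  intro hzP
  have hbz : b ∈ z := h z hz hz0 hzP
  have hfin : (Ideal.span {b}).minimalPrimes.Finite :=
    Ideal.finite_minimalPrimes_of_isNoetherianRing B _
  have hht : ∀ Q ∈ (Ideal.span {b}).minimalPrimes, Q.height ≤ 1 := fun Q hQ =>
    Ideal.height_le_one_of_isPrincipal_of_mem_minimalPrimes _ Q hQ
  have hP2 : (2 : ℕ∞) ≤ P.height := by
    have h1 : (⊥ : Ideal B).height + 1 ≤ z.height :=
      Ideal.height_add_one_le_of_lt_of_isPrime (bot_lt_iff_ne_bot.mpr hz0)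
    have h2 : z.height + 1 ≤ P.height := Ideal.height_add_one_le_of_lt_of_isPrime hzP
    have h3 : (1 : ℕ∞) ≤ z.height := le_trans (by simp) h1
    calc (2 : ℕ∞) = 1 + 1 := by norm_num
      _ ≤ z.height + 1 := by gcongr
      _ ≤ P.height := h2
  -- prime avoidance
  have havoid : ¬ ((P : Set B) ⊆ ⋃ Q ∈ (hfin.toFinset : Set (Ideal B)), (Q : Set B)) := by
    intro hsub
    obtain ⟨Q, hQ, hPQ⟩ := (Ideal.subset_union_prime (R := B) (s := hfin.toFinset)
      (f := fun Q => Q) ⊥ ⊥ (fun Q hQ _ _ => (hfin.mem_toFinset.mp hQ).1.1)).mp hsub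
    have h1 : P.height ≤ Q.height := Ideal.height_mono hPQ
    have h2 := hht Q (hfin.mem_toFinset.mp hQ)
    have : (2 : ℕ∞) ≤ 1 := hP2.trans (h1.trans h2)
    norm_num at this
  rw [Set.not_subset] at havoid
  obtain ⟨c, hcP, hc⟩ := havoid
  have hcQ : ∀ Q ∈ (Ideal.span {b}).minimalPrimes, c ∉ Q := by
    intro Q hQ hcQ
    apply hc
    simp only [Set.mem_iUnion]
    exact ⟨Q, by simpa using hQ, hcQ⟩
  have hle : Ideal.span {c} ≤ P := (Ideal.span_singleton_le_iff_mem P).mpr hcP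
  obtain ⟨Q', hQ', hQ'P⟩ := Ideal.exists_minimalPrimes_le hle
  have hQ'prime : Q'.IsPrime := hQ'.1.1
  have hcQ' : c ∈ Q' := hQ'.1.2 (Ideal.subset_span rfl)
  have hQ'1 : Q'.height ≤ 1 := Ideal.height_le_one_of_isPrincipal_of_mem_minimalPrimes _ Q' hQ'
  obtain ⟨Q₀, hQ₀, hQ₀z⟩ := Ideal.exists_minimalPrimes_le
    ((Ideal.span_singleton_le_iff_mem z).mpr hbz)
  have hc0 : c ≠ 0 := by
    rintro rfl
    exact hcQ Q₀ hQ₀ (zero_mem _)
  have hQ'0 : Q' ≠ ⊥ := by
    intro h0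
    rw [h0] at hcQ'
    exact hc0 (by simpa using hcQ')
  have hQ'ltP : Q' < P := by
    refine lt_of_le_of_ne hQ'P ?_
    intro heq
    rw [heq] at hQ'1
    have : (2 : ℕ∞) ≤ 1 := hP2.trans hQ'1
    norm_num at this
  have hbQ' : b ∈ Q' := h Q' hQ'prime hQ'0 hQ'ltP
  obtain ⟨Q, hQ, hQQ'⟩ := Ideal.exists_minimalPrimes_le
    ((Ideal.span_singleton_le_iff_mem Q').mpr hbQ')
  have hQprime : Q.IsPrime := hQ.1.1
  have hQ0 : Q ≠ ⊥ := by
    intro h0
    have : b ∈ Q := hQ.1.2 (Ideal.subset_span rfl)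
    rw [h0] at this
    exact hb (by simpa using this)
  have hQeq : Q = Q' := by
    by_contra hne
    have hlt : Q < Q' := lt_of_le_of_ne hQQ' hne
    have h1 : (⊥ : Ideal B).height + 1 ≤ Q.height :=
      Ideal.height_add_one_le_of_lt_of_isPrime (bot_lt_iff_ne_bot.mpr hQ0)
    have h2 : Q.height + 1 ≤ Q'.height := Ideal.height_add_one_le_of_lt_of_isPrime hlt
    have h3 : (1 : ℕ∞) ≤ Q.height := le_trans (by simp) h1
    have : (2 : ℕ∞) ≤ 1 := calc (2 : ℕ∞) = 1 + 1 := by norm_num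
      _ ≤ Q.height + 1 := by gcongr
      _ ≤ Q'.height := h2
      _ ≤ 1 := hQ'1
    norm_num at this
  exact hcQ Q hQ (hQeq ▸ hcQ')

end Groth.Agent.Helper5.KLem
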