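import Mathlib
import Groth.Agent.Helper5.KLem1

set_option autoImplicit false
universe u

namespace Groth.Agent.Helper5.KLem

lemma comap_map_mk {A : Type*} [CommRing A] (η J : Ideal A) (h : η ≤ J) :
    (J.map (Ideal.Quotient.mk η)).comap (Ideal.Quotient.mk η) = J := by
  rw [Ideal.comap_map_of_surjective _ Ideal.Quotient.mk_surjective, ← RingHom.ker_eq_comap_bot,
    Ideal.mk_ker]
  exact sup_eq_left.mpr h

lemma map_comap_mk {A : Type*} [CommRing A] (η : Ideal A) (J : Ideal (A ⧸ η)) :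
    (J.comap (Ideal.Quotient.mk η)).map (Ideal.Quotient.mk η) = J :=
  Ideal.map_comap_of_surjective _ Ideal.Quotient.mk_surjective J

lemma le_comap_mk {A : Type*} [CommRing A] (η : Ideal A) (J : Ideal (A ⧸ η)) :
    η ≤ J.comap (Ideal.Quotient.mk η) := by
  intro x hx
  rw [Ideal.mem_comap, Ideal.Quotient.eq_zero_iff_mem.mpr hx]
  exact zero_mem _

/-- (R1) between two distinct comparable primes of a Noetherian ring there is a prime avoiding a
given ideal (not contained in the smaller prime) and covered by the bigger prime. -/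
theorem exists_prime_covBy (A : Type*) [CommRing A] [IsNoetherianRing A] (p' p : Ideal A)
    [hp' : p'.IsPrime] [hp : p.IsPrime] (hle : p' ≤ p) (hne : p' ≠ p) (I : Ideal A) (hI : ¬ I ≤ p') :
    ∃ η : Ideal A, η.IsPrime ∧ p' ≤ η ∧ η ≤ p ∧ η ≠ p ∧ ¬ I ≤ η ∧
      ∀ z : Ideal A, z.IsPrime → η ≤ z → z ≤ p → z = η ∨ z = p := by
  let S : Set (Ideal A) := {η | η.IsPrime ∧ p' ≤ η ∧ η ≤ p ∧ η ≠ p ∧ ¬ I ≤ η}
  have hS : S.Nonempty := ⟨p', hp', le_rfl, hle, hne, hI⟩
  obtain ⟨η, hηS, hmax⟩ := (set_has_maximal_iff_noetherian.mpr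
    (inferInstance : IsNoetherian A A)) S hS
  obtain ⟨hηp, hp'η, hηle, hηne, hIη⟩ := hηS
  refine ⟨η, hηp, hp'η, hηle, hηne, hIη, ?_⟩
  intro z hz hηz hzp
  by_contra hcon
  push Not at hcon
  obtain ⟨hzη, hzp'⟩ := hcon
  obtain ⟨a, haI, haη⟩ := Set.not_subset.mp hIη
  let mk := Ideal.Quotient.mk η
  have hP : (p.map mk).IsPrime :=
    Ideal.map_isPrime_of_surjective Ideal.Quotient.mk_surjective (by rwa [Ideal.mk_ker])
  have hZ : (z.map mk).IsPrime :=
    Ideal.map_isPrime_of_surjective Ideal.Quotient.mk_surjective (by rwa [Ideal.mk_ker])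
  have hb : mk a ≠ 0 := fun h0 => haη (Ideal.Quotient.eq_zero_iff_mem.mp h0)
  have hdom : IsDomain (A ⧸ η) := Ideal.Quotient.isDomain η
  refine not_lt_of_forall_mem (p.map mk) (mk a) hb ?_ (z.map mk) hZ ?_ ?_
  · intro z' hz' hz'0 hz'P
    have hz''p : (z'.comap mk).IsPrime := Ideal.comap_isPrime mk z'
    have h1 : η ≤ z'.comap mk := le_comap_mk η z'
    have h2 : z'.comap mk ≤ p := by
      have := Ideal.comap_mono (f := mk) hz'P.le
      rwa [comap_map_mk η p hηle] at this
    have h3 : z'.comap mk ≠ p := by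
      intro heq
      have := map_comap_mk η z'
      rw [heq] at this
      exact hz'P.ne this.symm
    have h4 : z'.comap mk ≠ η := by
      intro heq
      have := map_comap_mk η z'
      rw [heq, Ideal.map_quotient_self] at this
      exact hz'0 this.symm
    have h5 : ¬ (η < z'.comap mk) ∨ I ≤ z'.comap mk := by
      by_cases hI' : I ≤ z'.comap mk
      · exact Or.inr hI'
      · exact Or.inl (hmax _ ⟨hz''p, hp'η.trans h1, h2, h3, hI'⟩)
    rcases h5 with h5 | h5
    · exact absurd (lt_of_le_of_ne h1 (Ne.symm h4)) h5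
    · exact h5 haI
  · intro h0
    apply hzη
    refine le_antisymm ?_ hηz
    have := comap_map_mk η z hηz
    rw [h0, ← RingHom.ker_eq_comap_bot, Ideal.mk_ker] at this
    exact this.symm.le
  · refine lt_of_le_of_ne (Ideal.map_mono hzp) ?_
    intro heq
    apply hzp'
    rw [← comap_map_mk η z hηz, heq, comap_map_mk η p hηle]

end Groth.Agent.Helper5.KLem
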