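import Mathlib
import Groth.Agent.Helper5.KLem2
import Groth.Agent.Helper5.DimFormula3

set_option autoImplicit false
universe u

namespace Groth.Agent.Helper5.KLem

open Groth.Agent.Helper5.DimFormula

/-- (TR) the transcendence degree is monotone along a semilinear injection over a ring
isomorphism -/
theorem trdeg_le_of_semilinear {R S A B : Type u} [CommRing R] [CommRing S] [CommRing A]
    [CommRing B] [Algebra R A] [Algebra S B] [Nontrivial S] (f : R ≃+* S) (g : A →+* B)
    (hg : Function.Injective g)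
    (h : (algebraMap S B).comp (f : R →+* S) = g.comp (algebraMap R A)) :
    Algebra.trdeg R A ≤ Algebra.trdeg S B := by
  unfold Algebra.trdeg
  refine ciSup_le' fun s => ?_
  have h1 : AlgebraicIndependent S (g ∘ ((↑) : s.1 → A)) :=
    (algebraicIndependent_ringHom_iff_of_comp_eq f g hg h).mpr s.2
  exact h1.cardinalMk_le_trdeg

theorem trdeg_eq_of_semilinear {R S A B : Type u} [CommRing R] [CommRing S] [CommRing A]
    [CommRing B] [Algebra R A] [Algebra S B] [Nontrivial R] [Nontrivial S] (f : R ≃+* S)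
    (g : A ≃+* B)
    (h : ∀ r, algebraMap S B (f r) = g (algebraMap R A r)) :
    Algebra.trdeg R A = Algebra.trdeg S B := by
  refine le_antisymm (trdeg_le_of_semilinear f (g : A →+* B) g.injective ?_)
    (trdeg_le_of_semilinear f.symm (g.symm : B →+* A) g.symm.injective ?_)
  · ext r; exact h r
  · ext s
    obtain ⟨r, rfl⟩ := f.surjective s
    simp only [RingHom.coe_comp, RingHom.coe_coe, Function.comp_apply, RingEquiv.symm_apply_apply]
    rw [h r, RingEquiv.symm_apply_apply]

end Groth.Agent.Helper5.KLem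

namespace Groth.Agent.Helper5.KLem

open Groth.Agent.Helper5.DimFormula

/-- (R2) the residue transcendence degree does not increase under a strict specialisation
lying over a covering (or trivial) specialisation of the base -/
theorem trdeg_le_of_covBy (A B : Type u) [CommRing A] [IsNoetherianRing A] [CommRing B]
    [Algebra A B] [Algebra.FiniteType A B] (p₁ p₀ : Ideal A) [hp₁ : p₁.IsPrime] [hp₀ : p₀.IsPrime]
    (q₁ q₀ : Ideal B) [hq₁ : q₁.IsPrime] [hq₀ : q₀.IsPrime] [hl₁ : q₁.LiesOver p₁]
    [hl₀ : q₀.LiesOver p₀] (hq : q₁ < q₀)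
    (hp : ∀ z : Ideal A, z.IsPrime → p₁ ≤ z → z ≤ p₀ → z = p₁ ∨ z = p₀) :
    Algebra.trdeg (A ⧸ p₀) (B ⧸ q₀) ≤ Algebra.trdeg (A ⧸ p₁) (B ⧸ q₁) := by
  have hple : p₁ ≤ p₀ := by
    rw [hl₁.over, hl₀.over]
    exact Ideal.comap_mono hq.le
  let R := A ⧸ p₁
  let S := B ⧸ q₁
  have hRdom : IsDomain R := Ideal.Quotient.isDomain p₁
  have hSdom : IsDomain S := Ideal.Quotient.isDomain q₁
  have hft : Algebra.FiniteType R S := by
    have h1 : Algebra.FiniteType A S :=
      Algebra.FiniteType.of_surjective (Ideal.Quotient.mkₐ A q₁) Ideal.Quotient.mk_surjective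
    exact Algebra.FiniteType.of_restrictScalars_finiteType A R S
  let p : Ideal R := p₀.map (Ideal.Quotient.mk p₁)
  let q : Ideal S := q₀.map (Ideal.Quotient.mk q₁)
  have hpP : p.IsPrime :=
    Ideal.map_isPrime_of_surjective Ideal.Quotient.mk_surjective (by rwa [Ideal.mk_ker])
  have hqP : q.IsPrime :=
    Ideal.map_isPrime_of_surjective Ideal.Quotient.mk_surjective (by rw [Ideal.mk_ker]; exact hq.le)
  have hlo : q.LiesOver p := by
    constructor
    apply le_antisymm
    · intro x hx
      obtain ⟨a, rfl⟩ := Ideal.Quotient.mk_surjective x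
      have ha : a ∈ p₀ := by
        have : Ideal.Quotient.mk p₁ a ∈ (p₀.map (Ideal.Quotient.mk p₁)) := hx
        have h2 := Ideal.mem_comap.mpr this
        rwa [comap_map_mk p₁ p₀ hple] at h2
      rw [Ideal.under_def, Ideal.mem_comap]
      show Ideal.Quotient.mk q₁ (algebraMap A B a) ∈ q
      refine Ideal.mem_map_of_mem _ ?_
      rw [hl₀.over] at ha
      exact ha
    · intro x hx
      obtain ⟨a, rfl⟩ := Ideal.Quotient.mk_surjective x
      rw [Ideal.under_def, Ideal.mem_comap] at hx
      have hx' : Ideal.Quotient.mk q₁ (algebraMap A B a) ∈ q₀.map (Ideal.Quotient.mk q₁) := hx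
      have h2 := Ideal.mem_comap.mpr hx'
      rw [comap_map_mk q₁ q₀ hq.le] at h2
      refine Ideal.mem_map_of_mem _ ?_
      rw [hl₀.over]
      exact h2
  have hineq := dimension_inequality R S p q
  -- the height of `p` is at most one
  have hhp : p.height ≤ 1 := by
    have : p.height ≤ ((1 : ℕ) : ℕ∞) := by
      rw [Ideal.height_le_iff]
      intro z' hz' hz'p
      have hz'' : (z'.comap (Ideal.Quotient.mk p₁)).IsPrime := Ideal.comap_isPrime _ z'
      have h1 : p₁ ≤ z'.comap (Ideal.Quotient.mk p₁) := le_comap_mk p₁ z'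
      have h2 : z'.comap (Ideal.Quotient.mk p₁) ≤ p₀ := by
        have := Ideal.comap_mono (f := Ideal.Quotient.mk p₁) hz'p.le
        rwa [comap_map_mk p₁ p₀ hple] at this
      rcases hp _ hz'' h1 h2 with h3 | h3
      · have := map_comap_mk p₁ z'
        rw [h3, Ideal.map_quotient_self] at this
        rw [← this, Ideal.height_bot]
        norm_num
      · have := map_comap_mk p₁ z'
        rw [h3] at this
        exact absurd this.symm hz'p.ne
    simpa using this
  -- the height of `q` is at least one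
  have hhq : 1 ≤ q.height := by
    have hq0 : q ≠ ⊥ := by
      intro h0
      obtain ⟨b, hb0, hb1⟩ := Set.not_subset.mp (not_le_of_gt hq)
      have : Ideal.Quotient.mk q₁ b ∈ q := Ideal.mem_map_of_mem _ hb0
      rw [h0, Ideal.mem_bot, Ideal.Quotient.eq_zero_iff_mem] at this
      exact hb1 this
    have h1 : (⊥ : Ideal S).height + 1 ≤ q.height :=
      Ideal.height_add_one_le_of_lt_of_isPrime (bot_lt_iff_ne_bot.mpr hq0)
    exact le_trans (by simp) h1
  -- cardinal arithmetic
  have hfin : Algebra.trdeg R S < Cardinal.aleph0 := trdeg_lt_aleph0_of_finiteType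
  have h1 : (1 : Cardinal.{u}) + Algebra.trdeg (R ⧸ p) (S ⧸ q) ≤ 1 + Algebra.trdeg R S := by
    calc (1 : Cardinal.{u}) + Algebra.trdeg (R ⧸ p) (S ⧸ q)
        ≤ (q.height : Cardinal.{u}) + Algebra.trdeg (R ⧸ p) (S ⧸ q) := by
          gcongr
          exact_mod_cast hhq
      _ ≤ (p.height : Cardinal.{u}) + Algebra.trdeg R S := hineq
      _ ≤ 1 + Algebra.trdeg R S := by
          gcongr
          exact_mod_cast hhp
  have h2 : Algebra.trdeg (R ⧸ p) (S ⧸ q) ≤ Algebra.trdeg R S := by
    rw [add_comm, add_comm 1 (Algebra.trdeg R S)] at h1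
    exact (Cardinal.add_le_add_iff_of_lt_aleph0 Cardinal.one_lt_aleph0).mp h1
  refine le_trans (le_of_eq ?_) h2
  symm
  refine trdeg_eq_of_semilinear (DoubleQuot.quotQuotEquivQuotOfLE hple)
    (DoubleQuot.quotQuotEquivQuotOfLE hq.le) ?_
  intro r
  obtain ⟨r, rfl⟩ := Ideal.Quotient.mk_surjective r
  obtain ⟨a, rfl⟩ := Ideal.Quotient.mk_surjective r
  rfl

end Groth.Agent.Helper5.KLem
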