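import Mathlib
import Groth.Prelude.Def_Dual3
import Groth.Agent.Helper5.KLem3
import Groth.Agent.Helper5.DimFormula8

set_option autoImplicit false
universe u

namespace Groth.Agent.Helper5.KLem

open CategoryTheory CategoryTheory.Limits AlgebraicGeometry TopologicalSpace
open Groth.Agent.Helper5.DimFormula

/-- specialisation in an affine chart is inclusion of primes -/
lemma specializes_iff_primeIdealOf_le {X : Scheme.{u}} (W : X.Opens) (hW : IsAffineOpen W)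
    (x' x : X) (hx' : x' ∈ W) (hx : x ∈ W) :
    x' ⤳ x ↔ (hW.primeIdealOf ⟨x', hx'⟩).asIdeal ≤ (hW.primeIdealOf ⟨x, hx⟩).asIdeal := by
  have e1 : hW.fromSpec (hW.primeIdealOf ⟨x', hx'⟩) = x' := hW.fromSpec_primeIdealOf ⟨x', hx'⟩
  have e2 : hW.fromSpec (hW.primeIdealOf ⟨x, hx⟩) = x := hW.fromSpec_primeIdealOf ⟨x, hx⟩
  rw [PrimeSpectrum.asIdeal_le_asIdeal, PrimeSpectrum.le_iff_specializes]
  conv_lhs => rw [← e1, ← e2]
  exact hW.fromSpec.isOpenEmbedding.isInducing.specializes_iff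

lemma primeIdealOf_fromSpec {X : Scheme.{u}} (W : X.Opens) (hW : IsAffineOpen W)
    (Q : PrimeSpectrum Γ(X, W)) :
    ∃ h : hW.fromSpec Q ∈ W, hW.primeIdealOf ⟨hW.fromSpec Q, h⟩ = Q := by
  have h : hW.fromSpec Q ∈ W := by
    have : hW.fromSpec Q ∈ Set.range hW.fromSpec := Set.mem_range_self _
    rw [hW.range_fromSpec] at this
    exact this
  exact ⟨h, hW.fromSpec.isOpenEmbedding.injective (hW.fromSpec_primeIdealOf ⟨_, h⟩)⟩

/-- (S-I1') -/
theorem resTrdeg_le_of_covBy {X Y : Scheme.{u}} [IsLocallyNoetherian Y] (f : X ⟶ Y)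
    [LocallyOfFiniteType f] (ξ x₀ : X) (h : ξ ⤳ x₀) (hne : ξ ≠ x₀)
    (hcov : ∀ z : Y, f ξ ⤳ z → z ⤳ f x₀ → z = f ξ ∨ z = f x₀) :
    Dual3.resTrdeg f x₀ ≤ Dual3.resTrdeg f ξ := by
  obtain ⟨U, hU, hfxU⟩ : ∃ U : Y.Opens, IsAffineOpen U ∧ f x₀ ∈ U := by
    obtain ⟨_, ⟨U, hU, rfl⟩, hxU, -⟩ :=
      (Y.isBasis_affineOpens).exists_subset_of_mem_open (Set.mem_univ (f x₀)) isOpen_univ
    exact ⟨U, hU, hxU⟩
  obtain ⟨W, hW, hx, e⟩ : ∃ W : X.Opens, IsAffineOpen W ∧ x₀ ∈ W ∧ W ≤ f ⁻¹ᵁ U := by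
    obtain ⟨_, ⟨W, hW, rfl⟩, hxW, hsub⟩ :=
      (X.isBasis_affineOpens).exists_subset_of_mem_open (show x₀ ∈ ((f ⁻¹ᵁ U : X.Opens) : Set X)
        from hfxU) (f ⁻¹ᵁ U).isOpen
    exact ⟨W, hW, hxW, hsub⟩
  have hξ : ξ ∈ W := h.mem_open W.isOpen hx
  let A := Γ(Y, U)
  let B := Γ(X, W)
  let _ : Algebra A B := (f.appLE U W e).hom.toAlgebra
  have hN : IsNoetherianRing A := IsLocallyNoetherian.component_noetherian ⟨U, hU⟩
  have hft : Algebra.FiniteType A B := f.finiteType_appLE hU hW e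
  let qx := hW.primeIdealOf ⟨x₀, hx⟩
  let px := hU.primeIdealOf ⟨f x₀, e hx⟩
  let qξ := hW.primeIdealOf ⟨ξ, hξ⟩
  let pξ := hU.primeIdealOf ⟨f ξ, e hξ⟩
  have hlo : qx.asIdeal.LiesOver px.asIdeal := by
    constructor
    rw [Ideal.under_def]
    exact (congrArg PrimeSpectrum.asIdeal
      (IsAffineOpen.comap_primeIdealOf_appLE U hU W hW e hx)).symm
  have hloξ : qξ.asIdeal.LiesOver pξ.asIdeal := by
    constructor
    rw [Ideal.under_def]
    exact (congrArg PrimeSpectrum.asIdeal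
      (IsAffineOpen.comap_primeIdealOf_appLE U hU W hW e hξ)).symm
  have hq : qξ.asIdeal < qx.asIdeal := by
    refine lt_of_le_of_ne ((specializes_iff_primeIdealOf_le W hW ξ x₀ hξ hx).mp h) ?_
    intro heq
    apply hne
    have h1 : qξ = qx := PrimeSpectrum.ext heq
    have e1 : hW.fromSpec qξ = ξ := hW.fromSpec_primeIdealOf ⟨ξ, hξ⟩
    have e2 : hW.fromSpec qx = x₀ := hW.fromSpec_primeIdealOf ⟨x₀, hx⟩
    rw [← e1, ← e2, h1]
  have hp : ∀ z : Ideal A, z.IsPrime → pξ.asIdeal ≤ z → z ≤ px.asIdeal →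
      z = pξ.asIdeal ∨ z = px.asIdeal := by
    intro z hz h1 h2
    obtain ⟨hzU, hzeq⟩ := primeIdealOf_fromSpec U hU ⟨z, hz⟩
    have h1' : f ξ ⤳ hU.fromSpec ⟨z, hz⟩ := by
      rw [specializes_iff_primeIdealOf_le U hU _ _ (e hξ) hzU, hzeq]
      exact h1
    have h2' : hU.fromSpec ⟨z, hz⟩ ⤳ f x₀ := by
      rw [specializes_iff_primeIdealOf_le U hU _ _ hzU (e hx), hzeq]
      exact h2
    rcases hcov _ h1' h2' with h3 | h3
    · left
      have : hU.primeIdealOf ⟨hU.fromSpec ⟨z, hz⟩, hzU⟩ = pξ := by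
        congr 1
        exact Subtype.ext h3
      rw [hzeq] at this
      exact congrArg PrimeSpectrum.asIdeal this
    · right
      have : hU.primeIdealOf ⟨hU.fromSpec ⟨z, hz⟩, hzU⟩ = px := by
        congr 1
        exact Subtype.ext h3
      rw [hzeq] at this
      exact congrArg PrimeSpectrum.asIdeal this
  have key := trdeg_le_of_covBy A B pξ.asIdeal px.asIdeal qξ.asIdeal qx.asIdeal hq hp
  have t1 := chart_trdeg f U hU W hW e x₀ hx px.asIdeal qx.asIdeal rfl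
  have t2 := chart_trdeg f U hU W hW e ξ hξ pξ.asIdeal qξ.asIdeal rfl
  unfold Dual3.resTrdeg
  rw [t1, t2]
  exact key

/-- (S-R1) -/
theorem exists_covBy_generization {Y : Scheme.{u}} [IsLocallyNoetherian Y] (y' y : Y)
    (h : y' ⤳ y) (hne : y' ≠ y) (F : Set Y) (hF : IsClosed F) (hy'F : y' ∉ F) :
    ∃ η : Y, y' ⤳ η ∧ η ⤳ y ∧ η ≠ y ∧ η ∉ F ∧ ∀ z : Y, η ⤳ z → z ⤳ y → z = η ∨ z = y := by
  obtain ⟨U, hU, hyU⟩ : ∃ U : Y.Opens, IsAffineOpen U ∧ y ∈ U := by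
    obtain ⟨_, ⟨U, hU, rfl⟩, hxU, -⟩ :=
      (Y.isBasis_affineOpens).exists_subset_of_mem_open (Set.mem_univ y) isOpen_univ
    exact ⟨U, hU, hxU⟩
  have hy'U : y' ∈ U := h.mem_open U.isOpen hyU
  let A := Γ(Y, U)
  have hN : IsNoetherianRing A := IsLocallyNoetherian.component_noetherian ⟨U, hU⟩
  let p := hU.primeIdealOf ⟨y, hyU⟩
  let p' := hU.primeIdealOf ⟨y', hy'U⟩
  have hple : p'.asIdeal ≤ p.asIdeal := (specializes_iff_primeIdealOf_le U hU y' y hy'U hyU).mp h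
  have hpne : p'.asIdeal ≠ p.asIdeal := by
    intro heq
    apply hne
    have h1 : p' = p := PrimeSpectrum.ext heq
    have e1 : hU.fromSpec p' = y' := hU.fromSpec_primeIdealOf ⟨y', hy'U⟩
    have e2 : hU.fromSpec p = y := hU.fromSpec_primeIdealOf ⟨y, hyU⟩
    rw [← e1, ← e2, h1]
  let t : Set (PrimeSpectrum A) := hU.fromSpec ⁻¹' F
  have ht : IsClosed t := hF.preimage hU.fromSpec.continuous
  let I := PrimeSpectrum.vanishingIdeal t
  have hzl : PrimeSpectrum.zeroLocus (I : Set A) = t := by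
    rw [PrimeSpectrum.zeroLocus_vanishingIdeal_eq_closure, ht.closure_eq]
  have hI : ¬ I ≤ p'.asIdeal := by
    intro hle
    have : p' ∈ PrimeSpectrum.zeroLocus (I : Set A) := hle
    rw [hzl] at this
    apply hy'F
    have e1 : hU.fromSpec p' = y' := hU.fromSpec_primeIdealOf ⟨y', hy'U⟩
    rw [← e1]
    exact this
  obtain ⟨η₀, hη₀, h1, h2, h3, h4, h5⟩ := exists_prime_covBy A p'.asIdeal p.asIdeal hple hpne I hI
  obtain ⟨hηU, hηeq⟩ := primeIdealOf_fromSpec U hU ⟨η₀, hη₀⟩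
  refine ⟨hU.fromSpec ⟨η₀, hη₀⟩, ?_, ?_, ?_, ?_, ?_⟩
  · rw [specializes_iff_primeIdealOf_le U hU _ _ hy'U hηU, hηeq]
    exact h1
  · rw [specializes_iff_primeIdealOf_le U hU _ _ hηU hyU, hηeq]
    exact h2
  · intro heq
    apply h3
    have : hU.primeIdealOf ⟨hU.fromSpec ⟨η₀, hη₀⟩, hηU⟩ = p := by
      congr 1
      exact Subtype.ext heq
    rw [hηeq] at this
    exact congrArg PrimeSpectrum.asIdeal this
  · intro hmem
    apply h4
    have : (⟨η₀, hη₀⟩ : PrimeSpectrum A) ∈ PrimeSpectrum.zeroLocus (I : Set A) := by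
      rw [hzl]
      exact hmem
    exact this
  · intro z hz1 hz2
    have hzU : z ∈ U := hz2.mem_open U.isOpen hyU
    let pz := hU.primeIdealOf ⟨z, hzU⟩
    have hz1' := (specializes_iff_primeIdealOf_le U hU _ _ hηU hzU).mp hz1
    rw [hηeq] at hz1'
    have hz2' := (specializes_iff_primeIdealOf_le U hU _ _ hzU hyU).mp hz2
    have ez : hU.fromSpec pz = z := hU.fromSpec_primeIdealOf ⟨z, hzU⟩
    rcases h5 pz.asIdeal pz.isPrime hz1' hz2' with h6 | h6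
    · left
      have : pz = ⟨η₀, hη₀⟩ := PrimeSpectrum.ext h6
      rw [← ez, this]
    · right
      have : pz = p := PrimeSpectrum.ext h6
      have e2 : hU.fromSpec p = y := hU.fromSpec_primeIdealOf ⟨y, hyU⟩
      rw [← ez, this, e2]

end Groth.Agent.Helper5.KLem
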