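import Groth.Agent.Helper5.SecComp3
import Mathlib

set_option autoImplicit false
universe u
open CategoryTheory CategoryTheory.Limits AlgebraicGeometry TopologicalSpace

namespace Groth.Agent.Helper5.SecComp

open Groth.Agent.Helper5.VarDim Groth.Agent.Helper5.MaxPt Groth.Agent.Helper5.GenDim
  Groth.Agent.Helper5.SubDim Groth.Agent.Helper5.EqAt

theorem isIrreducible_of_subset_closure {T : Type*} [TopologicalSpace T] {A B : Set T}
    (hA : IsIrreducible A) (h1 : A ⊆ B) (h2 : B ⊆ closure A) : IsIrreducible B := by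
  have : closure B = closure A :=
    Set.Subset.antisymm (closure_minimal h2 isClosed_closure) (closure_mono h1)
  exact isIrreducible_iff_closure.1 (this ▸ hA.closure)

/-- The generic point of an irreducible component of a fibre. -/
theorem exists_generic_of_fibre_component {X Y : Scheme.{u}} (f : X ⟶ Y) (y' : Y) (Z : Set X)
    (hZsub : Z ⊆ f ⁻¹' {y'}) (hZirr : IsIrreducible Z)
    (hZmax : ∀ Z' : Set X, IsIrreducible Z' → Z' ⊆ f ⁻¹' {y'} → Z ⊆ Z' → Z' = Z) :
    ∃ z' : X, f z' = y' ∧ Z = f ⁻¹' {y'} ∩ closure ({z'} : Set X) ∧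
      (∀ w : X, f w = y' → w ⤳ z' → w = z') := by
  obtain ⟨ζ, hζ⟩ := QuasiSober.sober hZirr.closure isClosed_closure
  have hζdef : closure ({ζ} : Set X) = closure Z := hζ.def
  have hζmem : ζ ∈ f ⁻¹' {y'} ∩ closure Z :=
    genStable_fibre_inter_closed f y' (closure Z) isClosed_closure Z
      (fun w hw => ⟨hZsub hw, subset_closure hw⟩) hZirr ζ hζ
  have hZeq : Z = f ⁻¹' {y'} ∩ closure Z := by
    have hirr' : IsIrreducible (f ⁻¹' {y'} ∩ closure Z) :=
      isIrreducible_of_subset_closure hZirr (fun w hw => ⟨hZsub hw, subset_closure hw⟩)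
        Set.inter_subset_right
    exact (hZmax _ hirr' Set.inter_subset_left
      (fun w hw => ⟨hZsub hw, subset_closure hw⟩)).symm
  refine ⟨ζ, hζmem.1, by rw [hζdef]; exact hZeq, ?_⟩
  intro w hw hwζ
  have hirr'' : IsIrreducible (f ⁻¹' {y'} ∩ closure ({w} : Set X)) :=
    isIrreducible_of_subset_closure isIrreducible_singleton
      (Set.singleton_subset_iff.2 ⟨hw, subset_closure rfl⟩) Set.inter_subset_right
  have hsub : Z ⊆ f ⁻¹' {y'} ∩ closure ({w} : Set X) := by
    intro v hv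
    refine ⟨hZsub hv, ?_⟩
    have h1 : v ∈ closure ({ζ} : Set X) := hζdef ▸ subset_closure hv
    exact closure_minimal (Set.singleton_subset_iff.2 hwζ.mem_closure) isClosed_closure h1
  have h3 := hZmax _ hirr'' Set.inter_subset_left hsub
  have hwZ : w ∈ Z := h3 ▸ ⟨hw, subset_closure rfl⟩
  have h4 : ζ ⤳ w := by
    rw [specializes_iff_mem_closure, hζdef]; exact subset_closure hwZ
  exact (hwζ.antisymm h4).eq

theorem s3419 {X Y : Scheme.{u}} (f : X ⟶ Y) [LocallyOfFiniteType f] (g : Y ⟶ X)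
    (hg : g ≫ f = 𝟙 Y)
    (hirr : ∀ y : Y, IsIrreducible (connectedComponentIn (f.base ⁻¹' {y}) (g.base y))) :
    UpperSemicontinuous (fun y : Y =>
        topologicalKrullDim ↥(connectedComponentIn (f.base ⁻¹' {y}) (g.base y))) ∧
      ∀ y : Y, (∃ V ∈ nhds y, ∀ z ∈ V,
        topologicalKrullDim ↥(connectedComponentIn (f.base ⁻¹' {z}) (g.base z)) =
          topologicalKrullDim ↥(connectedComponentIn (f.base ⁻¹' {y}) (g.base y))) →
        ∀ y' : Y, y' ⤳ y → connectedComponentIn (f.base ⁻¹' {y}) (g.base y) ⊆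
          closure (connectedComponentIn (f.base ⁻¹' {y'}) (g.base y')) := by
  have hfg : ∀ y : Y, f (g y) = y := fun y => congrArg (fun ψ : Y ⟶ Y => ψ y) hg
  refine ⟨?_, ?_⟩
  · have heq : (fun y : Y =>
        topologicalKrullDim ↥(connectedComponentIn (f.base ⁻¹' {y}) (g.base y))) =
        fun y : Y => FlatMor.fibreDimAt f (g y) :=
      funext fun y => dim_component_eq_fibreDimAt f y (g y) (hfg y) (hirr y)
    rw [heq]
    exact upperSemicontinuous_fibreDimAt_comp f g g.continuous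
  · rintro y ⟨V, hV, hconst⟩ y' hy'
    obtain ⟨U, hUV, hUo, hyU⟩ := mem_nhds_iff.1 hV
    have hy'V : y' ∈ V := hUV (hy'.mem_open hUo hyU)
    have hdimeq := hconst y' hy'V
    obtain ⟨z', hfz', hz'x, hz'max, hfd', tz', htz'1, htz'2⟩ :=
      Groth.Agent.Helper5.OpenAt.exists_max_generization_fibreDimAt_eq f (g y')
    have hz' : f z' = y' := hfz'.trans (hfg y')
    have hz'C : z' ∈ connectedComponentIn (f ⁻¹' {y'}) (g y') :=
      fibre_closure_subset_component f y' (g y') z' (hfg y') hz' hz'x ⟨hz', subset_closure rfl⟩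
    have hdim' : topologicalKrullDim ↥(connectedComponentIn (f ⁻¹' {y'}) (g y')) =
        (tz' : WithBot ℕ∞) := by
      rw [dim_component_eq_fibreDimAt f y' (g y') (hfg y') (hirr y'), ← hfd', htz'2]
    have hsp : z' ⤳ g y := hz'x.trans (hy'.map g.continuous)
    have hsub := component_subset_closure_point f y (g y) z' (hfg y) hsp tz' htz'1 (hirr y)
      (by rw [← hdim']; exact le_of_eq hdimeq.symm)
    exact hsub.trans (closure_mono (Set.singleton_subset_iff.2 hz'C))

theorem s4952 {X Y : Scheme.{u}} (f : X ⟶ Y) [LocallyOfFiniteType f] (g : Y ⟶ X)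
    (hg : g ≫ f = 𝟙 Y) (y y' : Y) (hy : y' ⤳ y)
    (hZ : ∃ Z : Set X, Z ⊆ f.base ⁻¹' {y'} ∧ IsIrreducible Z ∧
      (∀ Z' : Set X, IsIrreducible Z' → Z' ⊆ f.base ⁻¹' {y'} → Z ⊆ Z' → Z' = Z) ∧ g.base y' ∈ Z ∧
      topologicalKrullDim ↥Z =
        topologicalKrullDim ↥(connectedComponentIn (f.base ⁻¹' {y'}) (g.base y'))) :
    topologicalKrullDim ↥(connectedComponentIn (f.base ⁻¹' {y'}) (g.base y')) ≤
        topologicalKrullDim ↥(connectedComponentIn (f.base ⁻¹' {y}) (g.base y)) ∧
      (IsIrreducible (connectedComponentIn (f.base ⁻¹' {y}) (g.base y)) →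
        topologicalKrullDim ↥(connectedComponentIn (f.base ⁻¹' {y}) (g.base y)) =
          topologicalKrullDim ↥(connectedComponentIn (f.base ⁻¹' {y'}) (g.base y')) →
        connectedComponentIn (f.base ⁻¹' {y}) (g.base y) ⊆
          closure (connectedComponentIn (f.base ⁻¹' {y'}) (g.base y'))) := by
  have hfg : ∀ y : Y, f (g y) = y := fun y => congrArg (fun ψ : Y ⟶ Y => ψ y) hg
  obtain ⟨Z, hZsub, hZirr, hZmax, hgZ, hZdim⟩ := hZ
  obtain ⟨z', hz', hZeq, hz'max⟩ := exists_generic_of_fibre_component f y' Z hZsub hZirr hZmax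
  obtain ⟨n', hn'1, hn'2⟩ := dim_fibre_closure_point f z'
  have hZn : topologicalKrullDim ↥Z = (n' : WithBot ℕ∞) := by
    rw [hZeq, ← hz']; exact hn'2
  have hz'gy' : z' ⤳ g y' := by
    have : g y' ∈ f ⁻¹' {y'} ∩ closure ({z'} : Set X) := hZeq ▸ hgZ
    exact specializes_iff_mem_closure.2 this.2
  have hsp : z' ⤳ g y := hz'gy'.trans (hy.map g.continuous)
  have hz'max' : ∀ w : X, f w = f z' → w ⤳ z' → w = z' := fun w hw hs =>
    hz'max w (hw.trans hz') hs
  obtain ⟨m, hm1, hm2⟩ := fibreDimAt_of_maximal f z' (coheight_asFiber_eq_zero f z' hz'max')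
  have hmn : m = n' := by
    have h1 : Dual3.resTrdeg f z' = (m : Cardinal.{u}) := hm1
    rw [hn'1] at h1
    exact_mod_cast h1.symm
  have hZC : Z ⊆ connectedComponentIn (f ⁻¹' {y'}) (g y') :=
    hZirr.isConnected.isPreconnected.subset_connectedComponentIn hgZ hZsub
  have hz'Z : z' ∈ Z := by
    rw [hZeq]; exact ⟨hz', subset_closure rfl⟩
  refine ⟨?_, ?_⟩
  · rw [← hZdim, hZn, ← hmn, ← hm2]
    exact (fibreDimAt_le_of_specializes f z' (g y) hsp).trans
      (fibreDimAt_le_dim_component f y (g y) (hfg y))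
  · intro hirr hdimeq
    have hsub := component_subset_closure_point f y (g y) z' (hfg y) hsp n' hn'1 hirr
      (by rw [← hZn, hZdim]; exact le_of_eq hdimeq)
    exact hsub.trans (closure_mono (Set.singleton_subset_iff.2 (hZC hz'Z)))

end Groth.Agent.Helper5.SecComp
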