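import Groth.Agent.Helper5.KDim5
import Groth.Agent.Helper5.EqAt1
import Groth.Agent.Helper5.SecComp4
import Mathlib

set_option autoImplicit false
universe u
open CategoryTheory CategoryTheory.Limits AlgebraicGeometry TopologicalSpace

namespace Groth.Agent.Helper5.PtOpen

open Groth.Agent.Helper5.GenDim Groth.Agent.Helper5.KDim

theorem isOpen_fibreDimAt_lt {X Y : Scheme.{u}} (f : X ⟶ Y) [LocallyOfFiniteType f]
    (c : WithBot ℕ∞) : IsOpen {x : X | FlatMor.fibreDimAt f x < c} := by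
  have h := Groth.Agent.Helper5.SecComp.upperSemicontinuous_fibreDimAt_comp f (id : ↥X → ↥X)
    continuous_id
  rw [upperSemicontinuous_iff_isOpen_preimage] at h
  exact h c

theorem resLE_lft {X Y : Scheme.{u}} (f : X ⟶ Y) [LocallyOfFiniteType f] (V : Y.Opens)
    (U : X.Opens) (e : U ≤ f ⁻¹ᵁ V) : LocallyOfFiniteType (f.resLE V U e) := by
  have h1 : LocallyOfFiniteType (U.ι ≫ f) := inferInstance
  rw [← Scheme.Hom.resLE_comp_ι f e] at h1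
  exact locallyOfFiniteType_of_comp (f.resLE V U e) V.ι

end Groth.Agent.Helper5.PtOpen

namespace Groth.Agent.Helper5.PtOpen

open Groth.Agent.Helper5.GenDim Groth.Agent.Helper5.KDim

theorem resTrdeg_open {X Y : Scheme.{u}} (f : X ⟶ Y) (U : X.Opens) (u : ↥(U : Scheme.{u})) :
    Dual3.resTrdeg (U.ι ≫ f) u = Dual3.resTrdeg f (U.ι u) := by
  unfold Dual3.resTrdeg
  exact Groth.Agent.Helper5.EqAt.trdeg_preimmersion_comp U.ι f u

theorem image_fibre_open {X Y : Scheme.{u}} (f : X ⟶ Y) (U : X.Opens) (y' : Y) :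
    U.ι '' ((U.ι ≫ f) ⁻¹' {y'}) = (U : Set X) ∩ f ⁻¹' {y'} := by
  ext z
  constructor
  · rintro ⟨u, hu, rfl⟩
    exact ⟨u.2, hu⟩
  · rintro ⟨hzU, hz⟩
    exact ⟨⟨z, hzU⟩, hz, rfl⟩

theorem dim_open_inter_fibre {X Y : Scheme.{u}} (f : X ⟶ Y) (U : X.Opens) (y' : Y) :
    topologicalKrullDim ↥((U : Set X) ∩ f ⁻¹' {y'}) =
      topologicalKrullDim ↥((U.ι ≫ f) ⁻¹' {y'}) := by
  rw [← image_fibre_open f U y']
  exact Groth.Agent.Helper5.FibDim.dim_image_eq U.ι U.ι.isEmbedding _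

/-- A point of `U ∩ f⁻¹(y')` bounds the dimension from below. -/
theorem le_dim_open_inter_fibre {X Y : Scheme.{u}} (f : X ⟶ Y) [LocallyOfFiniteType f]
    (U : X.Opens) (γ₀ : X) (hγ₀ : γ₀ ∈ U) (m : ℕ) (hm : Dual3.resTrdeg f γ₀ = (m : Cardinal.{u})) :
    (m : WithBot ℕ∞) ≤ topologicalKrullDim ↥((U : Set X) ∩ f ⁻¹' {f γ₀}) := by
  rw [dim_open_inter_fibre]
  let u₀ : ↥(U : Scheme.{u}) := ⟨γ₀, hγ₀⟩
  have h1 : Dual3.resTrdeg (U.ι ≫ f) u₀ = (m : Cardinal.{u}) := by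
    rw [resTrdeg_open]; exact hm
  have := le_dim_of_mem (U.ι ≫ f) (f γ₀) Set.univ isClosed_univ u₀ ⟨rfl, trivial⟩ m h1
  rwa [Set.inter_univ] at this

/-- If `U ∩ f⁻¹(y')` has dimension at least `n` it contains a point of residue transcendence
degree at least `n`. -/
theorem exists_resTrdeg_ge_open {X Y : Scheme.{u}} (f : X ⟶ Y) [LocallyOfFiniteType f]
    (U : X.Opens) (y' : Y) (n : ℕ)
    (h : (n : WithBot ℕ∞) ≤ topologicalKrullDim ↥((U : Set X) ∩ f ⁻¹' {y'})) :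
    ∃ γ : X, γ ∈ U ∧ f γ = y' ∧ ∃ m : ℕ, Dual3.resTrdeg f γ = (m : Cardinal.{u}) ∧ n ≤ m := by
  rw [dim_open_inter_fibre] at h
  obtain ⟨u, hu, m, hm, hnm⟩ := exists_resTrdeg_ge (U.ι ≫ f) y' n h
  refine ⟨U.ι u, u.2, hu, m, ?_, hnm⟩
  rw [← resTrdeg_open]; exact hm

set_option maxHeartbeats 800000 in
/-- (N') In the closure of a subset of a fibre of a morphism locally of finite type, every point
is a specialisation of a point of the fibre lying in that closure. -/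
theorem exists_generic_in_closure' {X' T : Scheme.{u}} (f' : X' ⟶ T) [LocallyOfFiniteType f']
    (η : T) (B : Set X') (hB : B ⊆ f' ⁻¹' {η}) (ζ' : X')
    (hζ' : ζ' ∈ closure B) : ∃ γ : X', γ ∈ closure B ∧ f' γ = η ∧ γ ⤳ ζ' := by
  obtain ⟨V₀, hV₀, hfζV⟩ : ∃ V₀ : T.Opens, IsAffineOpen V₀ ∧ f' ζ' ∈ V₀ := by
    obtain ⟨_, ⟨V₀, hV₀, rfl⟩, hxV, -⟩ :=
      (T.isBasis_affineOpens).exists_subset_of_mem_open (Set.mem_univ (f' ζ')) isOpen_univ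
    exact ⟨V₀, hV₀, hxV⟩
  obtain ⟨U₀, hU₀, hζU, e⟩ : ∃ U₀ : X'.Opens, IsAffineOpen U₀ ∧ ζ' ∈ U₀ ∧ U₀ ≤ f' ⁻¹ᵁ V₀ := by
    obtain ⟨_, ⟨U₀, hU₀, rfl⟩, hxU, hsub⟩ :=
      (X'.isBasis_affineOpens).exists_subset_of_mem_open
        (show ζ' ∈ ((f' ⁻¹ᵁ V₀ : X'.Opens) : Set X') from hfζV) (f' ⁻¹ᵁ V₀).isOpen
    exact ⟨U₀, hU₀, hxU, hsub⟩
  -- B meets U₀
  have hcl2 : ζ' ∈ closure (B ∩ (U₀ : Set X')) := by
    rw [mem_closure_iff] at hζ' ⊢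
    intro N hN hζN
    obtain ⟨b, hbN, hbB⟩ := hζ' (N ∩ U₀) (hN.inter U₀.isOpen) ⟨hζN, hζU⟩
    exact ⟨b, hbN.1, hbB, hbN.2⟩
  obtain ⟨b₀, hb₀B, hb₀U⟩ : (B ∩ (U₀ : Set X')).Nonempty := by
    by_contra hne
    rw [Set.not_nonempty_iff_eq_empty] at hne
    rw [hne, closure_empty] at hcl2
    exact hcl2
  have hηV : η ∈ V₀ := by
    have h1 : f' b₀ = η := hB hb₀B
    rw [← h1]; exact e hb₀U
  let g₀ : (U₀ : Scheme.{u}) ⟶ (V₀ : Scheme.{u}) := f'.resLE V₀ U₀ e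
  have hcomp : g₀ ≫ V₀.ι = U₀.ι ≫ f' := Scheme.Hom.resLE_comp_ι f' e
  have hlft : LocallyOfFiniteType g₀ := resLE_lft f' V₀ U₀ e
  have hU₀aff : IsAffine (U₀ : Scheme.{u}) := hU₀
  have hV₀aff : IsAffine (V₀ : Scheme.{u}) := hV₀
  have hqc : QuasiCompact g₀ := inferInstance
  let η' : ↥(V₀ : Scheme.{u}) := ⟨η, hηV⟩
  let ζ₀ : ↥(U₀ : Scheme.{u}) := ⟨ζ', hζU⟩
  let B' : Set ↥(U₀ : Scheme.{u}) := U₀.ι ⁻¹' B
  have hpt : ∀ u : ↥(U₀ : Scheme.{u}), V₀.ι (g₀ u) = f' (U₀.ι u) := fun u =>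
    congrArg (fun ψ : (U₀ : Scheme.{u}) ⟶ T => ψ u) hcomp
  have hB' : B' ⊆ g₀ ⁻¹' {η'} := by
    intro u hu
    have h1 : f' (U₀.ι u) = η := hB hu
    have h2 : V₀.ι (g₀ u) = V₀.ι η' := (hpt u).trans h1
    exact V₀.ι.isEmbedding.injective h2
  have hζ₀ : ζ₀ ∈ closure B' := by
    rw [U₀.ι.isEmbedding.toIsInducing.closure_eq_preimage_closure_image]
    have himg : U₀.ι '' B' = B ∩ (U₀ : Set X') := by
      ext z
      constructor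
      · rintro ⟨u, hu, rfl⟩
        exact ⟨hu, u.2⟩
      · rintro ⟨hzB, hzU⟩
        exact ⟨⟨z, hzU⟩, hzB, rfl⟩
    rw [himg]
    exact hcl2
  obtain ⟨γ', hγ'1, hγ'2, hγ'3⟩ := exists_generic_in_closure g₀ η' B' hB' ζ₀ hζ₀
  refine ⟨U₀.ι γ', ?_, ?_, ?_⟩
  · have h1 : U₀.ι γ' ∈ closure (U₀.ι '' B') :=
      image_closure_subset_closure_image U₀.ι.continuous ⟨γ', hγ'1, rfl⟩
    refine closure_mono ?_ h1
    rintro _ ⟨u, hu, rfl⟩
    exact hu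
  · rw [← hpt γ', hγ'2]
    rfl
  · exact hγ'3.map U₀.ι.continuous

end Groth.Agent.Helper5.PtOpen
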