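import Mathlib
import Groth.Prelude.Def_Dual3
import Groth.Prelude.Def_Flat
import Groth.Agent.Helper5.KLem4
import Groth.Agent.Helper5.PtOpen1
import Groth.Agent.Helper5.OpenAt3

set_option autoImplicit false
universe u

namespace Groth.Agent.Helper5.KLem

open CategoryTheory CategoryTheory.Limits AlgebraicGeometry TopologicalSpace

/-- the local fibre dimension dominates the residue transcendence degree -/
lemma le_fibreDimAt_of_resTrdeg {X Y : Scheme.{u}} (f : X ⟶ Y) [LocallyOfFiniteType f] (ξ : X)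
    (d : ℕ) (h : (d : Cardinal.{u}) ≤ Dual3.resTrdeg f ξ) :
    (d : WithBot ℕ∞) ≤ FlatMor.fibreDimAt f ξ := by
  obtain ⟨k, n, -, -, hn, hfd⟩ := Groth.Agent.Helper5.SubDim.fibreDimAt_eq f ξ
  have h1 : Dual3.resTrdeg f ξ = (n : Cardinal.{u}) := hn
  rw [h1] at h
  have h2 : d ≤ n := by exact_mod_cast h
  rw [hfd]
  exact_mod_cast (by omega : d ≤ k + n)

/-- (K') If generisations of `f x₀` lift to generisations of `x₀`, they lift to generisations of
at least the same residue transcendence degree. -/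
theorem exists_generization_resTrdeg_ge {X Y : Scheme.{u}} [IsLocallyNoetherian Y] (f : X ⟶ Y)
    [LocallyOfFiniteType f] (x₀ : X)
    (hlift : ∀ y' : Y, y' ⤳ f x₀ → ∃ x' : X, x' ⤳ x₀ ∧ f x' = y') (y' : Y) (hy' : y' ⤳ f x₀) :
    ∃ x' : X, x' ⤳ x₀ ∧ f x' = y' ∧ Dual3.resTrdeg f x₀ ≤ Dual3.resTrdeg f x' := by
  by_cases hyy : y' = f x₀
  · exact ⟨x₀, specializes_rfl, hyy.symm, le_rfl⟩
  obtain ⟨d, hd⟩ := Groth.Agent.Helper5.KDim.exists_resTrdeg_nat f x₀
  have hX : IsLocallyNoetherian X := LocallyOfFiniteType.isLocallyNoetherian f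
  let Ud : Set X := {x | (d : WithBot ℕ∞) ≤ FlatMor.fibreDimAt f x}
  have hUd : IsClosed Ud := by
    rw [← isOpen_compl_iff]
    have := Groth.Agent.Helper5.PtOpen.isOpen_fibreDimAt_lt f (d : WithBot ℕ∞)
    convert this using 1
    ext x
    simp [Ud, not_le]
  let C : Set X := Ud ∩ f ⁻¹' closure {y'}
  have hC : IsClosed C := hUd.inter (isClosed_closure.preimage f.continuous)
  obtain ⟨W, hW, hxW⟩ : ∃ W : X.Opens, IsAffineOpen W ∧ x₀ ∈ W := by
    obtain ⟨_, ⟨W, hW, rfl⟩, hxW, -⟩ :=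
      (X.isBasis_affineOpens).exists_subset_of_mem_open (Set.mem_univ x₀) isOpen_univ
    exact ⟨W, hW, hxW⟩
  have hNW : IsNoetherianRing Γ(X, W) := IsLocallyNoetherian.component_noetherian ⟨W, hW⟩
  have hNS : NoetherianSpace ↥(W : Scheme.{u}) := noetherianSpace_of_isAffineOpen W hW
  let s : Set ↥(W : Scheme.{u}) := W.ι ⁻¹' C
  have hs : IsClosed s := hC.preimage W.ι.continuous
  obtain ⟨S, hSfin, hScl, hSirr, hsS⟩ := NoetherianSpace.exists_finite_set_isClosed_irreducible hs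
  let x₀' : ↥(W : Scheme.{u}) := ⟨x₀, hxW⟩
  let F : Set Y := ⋃ t ∈ {t ∈ S | x₀' ∈ t}, closure ((W.ι ≫ f) '' t)
  have hFcl : IsClosed F :=
    (hSfin.subset (fun t ht => ht.1)).isClosed_biUnion fun t _ => isClosed_closure
  by_cases hF : y' ∈ F
  · -- a component whose generic point lies over `y'`
    simp only [F, Set.mem_iUnion] at hF
    obtain ⟨t, ⟨htS, hx₀t⟩, hyt⟩ := hF
    obtain ⟨u, hu⟩ := QuasiSober.sober (hSirr t htS) (hScl t htS)
    have hut : u ∈ t := hu.def ▸ subset_closure rfl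
    have hus : u ∈ s := hsS ▸ Set.mem_sUnion.mpr ⟨t, htS, hut⟩
    have huC : W.ι u ∈ C := hus
    have hux₀ : W.ι u ⤳ x₀ := by
      have : u ⤳ x₀' := by
        rw [specializes_iff_mem_closure, hu.def]
        exact hx₀t
      exact this.map W.ι.continuous
    have hfu : f (W.ι u) = y' := by
      have h1 : y' ⤳ f (W.ι u) := specializes_iff_mem_closure.mpr huC.2
      have h2 : f (W.ι u) ⤳ y' := by
        rw [specializes_iff_mem_closure]
        have h3 : (W.ι ≫ f) '' t ⊆ closure {f (W.ι u)} := by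
          rintro _ ⟨v, hv, rfl⟩
          have hv' : u ⤳ v := by
            rw [specializes_iff_mem_closure, hu.def]
            exact hv
          exact (hv'.map (W.ι ≫ f).continuous).mem_closure
        exact closure_minimal h3 isClosed_closure hyt
      exact (h2.antisymm h1).eq
    obtain ⟨z, hfz, hzu, -, hdz, tz, htz, htz'⟩ :=
      Groth.Agent.Helper5.OpenAt.exists_max_generization_fibreDimAt_eq f (W.ι u)
    refine ⟨z, hzu.trans hux₀, hfz.trans hfu, ?_⟩
    have h1 : Dual3.resTrdeg f z = (tz : Cardinal.{u}) := htz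
    rw [h1, hd]
    have h2 : (d : WithBot ℕ∞) ≤ FlatMor.fibreDimAt f z := hdz ▸ huC.1
    rw [htz'] at h2
    have h3 : d ≤ tz := by exact_mod_cast h2
    exact_mod_cast h3
  · -- otherwise a covering generisation contradicts the choice of `F`
    exfalso
    obtain ⟨η, hη1, hη2, hη3, hη4, hη5⟩ :=
      exists_covBy_generization y' (f x₀) hy' hyy F hFcl hF
    obtain ⟨ξ, hξ, hfξ⟩ := hlift η hη2
    have hξne : ξ ≠ x₀ := by
      rintro rfl
      exact hη3 hfξ.symm
    have hcov : ∀ z : Y, f ξ ⤳ z → z ⤳ f x₀ → z = f ξ ∨ z = f x₀ := by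
      rw [hfξ]; exact hη5
    have hle := resTrdeg_le_of_covBy f ξ x₀ hξ hξne hcov
    have hξUd : ξ ∈ Ud := le_fibreDimAt_of_resTrdeg f ξ d (hd ▸ hle)
    have hξC : ξ ∈ C := ⟨hξUd, by
      show f ξ ∈ closure {y'}
      rw [hfξ]
      exact hη1.mem_closure⟩
    have hξW : ξ ∈ W := hξ.mem_open W.isOpen hxW
    let ξ' : ↥(W : Scheme.{u}) := ⟨ξ, hξW⟩
    have hξs : ξ' ∈ s := hξC
    rw [hsS] at hξs
    obtain ⟨t, htS, hξt⟩ := Set.mem_sUnion.mp hξs
    have hsp : ξ' ⤳ x₀' := W.ι.isOpenEmbedding.isInducing.specializes_iff.mp hξ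
    have hx₀t : x₀' ∈ t := (hScl t htS).closure_eq ▸
      closure_mono (Set.singleton_subset_iff.mpr hξt) hsp.mem_closure
    apply hη4
    simp only [F, Set.mem_iUnion]
    refine ⟨t, ⟨htS, hx₀t⟩, subset_closure ⟨ξ', hξt, ?_⟩⟩
    exact hfξ

end Groth.Agent.Helper5.KLem
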