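import Mathlib
import Groth.Prelude.Def_EGA43

set_option autoImplicit false
universe u

namespace Groth.Agent.Helper5.PtOpen

open CategoryTheory CategoryTheory.Limits AlgebraicGeometry TopologicalSpace Topology

/-- (C) a constructible subset of a prime spectrum containing all generizations of a point is a
neighbourhood of that point -/
lemma mem_nhds_of_isConstructible {R : Type u} [CommRing R] {E : Set (PrimeSpectrum R)}
    (hE : IsConstructible E) (t₀ : PrimeSpectrum R) (h : ∀ t, t ⤳ t₀ → t ∈ E) : E ∈ nhds t₀ := by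
  by_contra hn
  have h1 : t₀ ∈ closure Eᶜ := by
    rw [closure_compl, Set.mem_compl_iff, mem_interior_iff_mem_nhds]
    exact hn
  obtain ⟨S, _, φ, hφ⟩ := PrimeSpectrum.exists_range_eq_of_isConstructible hE.compl
  rw [← hφ, PrimeSpectrum.closure_range_comap, PrimeSpectrum.mem_zeroLocus,
    SetLike.coe_subset_coe] at h1
  obtain ⟨p, hp, hpt⟩ := Ideal.exists_minimalPrimes_le h1
  have hp' : p ∈ ((⊥ : Ideal S).comap φ).minimalPrimes := hp
  obtain ⟨p', hp'1, -, hp'2⟩ := Ideal.exists_comap_eq_of_mem_minimalPrimes φ p hp'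
  have h2 : PrimeSpectrum.comap φ ⟨p', hp'1⟩ ∈ Eᶜ := hφ ▸ Set.mem_range_self _
  apply h2
  apply h
  rw [← PrimeSpectrum.le_iff_specializes, ← PrimeSpectrum.asIdeal_le_asIdeal]
  change p'.comap φ ≤ _
  rw [hp'2]
  exact hpt

section transfer

variable {P P' T T' : Scheme.{u}} (q : P ⟶ T) (q' : P' ⟶ T') (i : P' ⟶ P) (j : T' ⟶ T)
  [IsOpenImmersion i] [IsOpenImmersion j]

omit [IsOpenImmersion i] in
include i j in
lemma isOpenAt_of_square (e : q' ≫ j = i ≫ q) (z' : P') (h : EGA43.IsOpenAt q' z') :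
    EGA43.IsOpenAt q (i z') := by
  intro U hU
  have h1 : i ⁻¹' U ∈ nhds z' := i.continuous.continuousAt hU
  have h2 := h _ h1
  have h3 : j '' (q' '' (i ⁻¹' U)) ∈ nhds (j (q' z')) := j.isOpenEmbedding.image_mem_nhds.mpr h2
  have e1 : j (q' z') = q (i z') := congrArg (fun ψ : P' ⟶ T => ψ z') e
  rw [e1] at h3
  refine Filter.mem_of_superset h3 ?_
  rintro _ ⟨_, ⟨w, hw, rfl⟩, rfl⟩
  exact ⟨i w, hw, (congrArg (fun ψ : P' ⟶ T => ψ w) e).symm⟩

include i j in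
lemma isOpenAt_square_of (e : q' ≫ j = i ≫ q) (z' : P') (h : EGA43.IsOpenAt q (i z')) :
    EGA43.IsOpenAt q' z' := by
  intro U hU
  have h1 : i '' U ∈ nhds (i z') := i.isOpenEmbedding.image_mem_nhds.mpr hU
  have h2 := h _ h1
  have e1 : j (q' z') = q (i z') := congrArg (fun ψ : P' ⟶ T => ψ z') e
  rw [← e1] at h2
  have h3 : j ⁻¹' (q '' (i '' U)) ∈ nhds (q' z') := j.continuous.continuousAt h2
  refine Filter.mem_of_superset h3 ?_
  rintro t ⟨_, ⟨w, hw, rfl⟩, hw2⟩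
  refine ⟨w, hw, ?_⟩
  apply j.isOpenEmbedding.injective
  rw [← hw2]
  exact congrArg (fun ψ : P' ⟶ T => ψ w) e

include i j in
lemma lifting_square (e : q' ≫ j = i ≫ q) (z' : P')
    (h : ∀ t₁ : T, t₁ ⤳ q (i z') → ∃ z₁ : P, z₁ ⤳ i z' ∧ q z₁ = t₁) :
    ∀ t₁ : T', t₁ ⤳ q' z' → ∃ z₁ : P', z₁ ⤳ z' ∧ q' z₁ = t₁ := by
  intro t₁ ht₁
  have e1 : j (q' z') = q (i z') := congrArg (fun ψ : P' ⟶ T => ψ z') e
  have h1 : j t₁ ⤳ q (i z') := e1 ▸ ht₁.map j.continuous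
  obtain ⟨z₁, hz₁, hz₁'⟩ := h _ h1
  have h2 : z₁ ∈ Set.range i := hz₁.mem_open i.isOpenEmbedding.isOpen_range ⟨z', rfl⟩
  obtain ⟨w, rfl⟩ := h2
  refine ⟨w, i.isOpenEmbedding.isInducing.specializes_iff.mp hz₁, ?_⟩
  apply j.isOpenEmbedding.injective
  rw [← hz₁']
  exact congrArg (fun ψ : P' ⟶ T => ψ w) e

end transfer

/-- affine case of (T2) -/
lemma isOpenAt_of_lifting_spec {R S : CommRingCat.{u}} (φ : R ⟶ S)
    (hφ : φ.hom.FinitePresentation) (z : Spec S)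
    (h : ∀ t₁ : Spec R, t₁ ⤳ Spec.map φ z → ∃ z₁ : Spec S, z₁ ⤳ z ∧ Spec.map φ z₁ = t₁) :
    EGA43.IsOpenAt (Spec.map φ) z := by
  intro U hU
  obtain ⟨_, ⟨s, rfl⟩, hzs, hsU⟩ :=
    PrimeSpectrum.isTopologicalBasis_basic_opens.exists_subset_of_mem_open
      (mem_interior_iff_mem_nhds.mpr hU) isOpen_interior
  have hc : IsConstructible (PrimeSpectrum.comap φ.hom '' (PrimeSpectrum.basicOpen s : Set _)) :=
    PrimeSpectrum.isConstructible_comap_image hφ PrimeSpectrum.isConstructible_basicOpen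
  have h1 : PrimeSpectrum.comap φ.hom '' (PrimeSpectrum.basicOpen s : Set _) ∈
      nhds (PrimeSpectrum.comap φ.hom z) := by
    refine mem_nhds_of_isConstructible hc _ fun t ht => ?_
    obtain ⟨z₁, hz₁, hz₁'⟩ := h t ht
    exact ⟨z₁, hz₁.mem_open (PrimeSpectrum.basicOpen s).isOpen hzs, hz₁'⟩
  refine Filter.mem_of_superset h1 ?_
  exact Set.image_mono (hsU.trans interior_subset)

end Groth.Agent.Helper5.PtOpen
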