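import Mathlib
import Groth.Prelude.Def_Dual3
import Groth.Prelude.Def_Flat
import Groth.Agent.Helper5.KLem5
import Groth.Agent.Helper5.PtOpen3

set_option autoImplicit false
universe u

namespace Groth.Agent.Helper5.KLem

open CategoryTheory CategoryTheory.Limits AlgebraicGeometry TopologicalSpace Topology

/-- (C') a locally constructible subset of a scheme containing all generisations of a point is a
neighbourhood of that point -/
theorem mem_nhds_of_isLocallyConstructible {T : Scheme.{u}} (E : Set T)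
    (hE : IsLocallyConstructible E) (t₀ : T) (h : ∀ t : T, t ⤳ t₀ → t ∈ E) : E ∈ nhds t₀ := by
  obtain ⟨p₀, hp₀⟩ := T.affineCover.covers t₀
  let j := T.affineCover.f (T.affineCover.idx t₀)
  have hj : IsOpenImmersion j := by dsimp only [j]; infer_instance
  have hE' : IsLocallyConstructible (j ⁻¹' E) := hE.preimage_of_isOpenEmbedding j.isOpenEmbedding
  have hE'' : IsConstructible (j ⁻¹' E) := hE'.isConstructible
  have h1 : j ⁻¹' E ∈ nhds p₀ := by
    refine Groth.Agent.Helper5.PtOpen.mem_nhds_of_isConstructible hE'' p₀ fun t ht => ?_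
    apply h
    exact (ht.map j.continuous).trans (specializes_of_eq hp₀)
  have h2 : j '' (j ⁻¹' E) ∈ nhds (j p₀) := j.isOpenEmbedding.image_mem_nhds.mpr h1
  rw [hp₀] at h2
  exact Filter.mem_of_superset h2 (Set.image_preimage_subset _ _)

/-- closed subsets of a Noetherian space are constructible -/
lemma isConstructible_of_isClosed {α : Type*} [TopologicalSpace α] [NoetherianSpace α]
    (s : Set α) (hs : IsClosed s) : IsConstructible s := by
  have h1 : IsRetrocompact sᶜ := fun U _ _ => NoetherianSpace.isCompact _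
  have h2 := h1.isConstructible hs.isOpen_compl
  rwa [isConstructible_compl] at h2

/-- (L) lower bound for nearby fibre dimensions from a point at which generisations lift -/
theorem le_dim_fibre_mem_nhds {X Y : Scheme.{u}} [IsLocallyNoetherian Y] (f : X ⟶ Y)
    [LocallyOfFiniteType f] (x₀ : X) (d : ℕ) (hd : (d : Cardinal.{u}) ≤ Dual3.resTrdeg f x₀)
    (hlift : ∀ y' : Y, y' ⤳ f x₀ → ∃ x' : X, x' ⤳ x₀ ∧ f x' = y') :
    {z : Y | (d : WithBot ℕ∞) ≤ topologicalKrullDim ↥(f ⁻¹' {z})} ∈ nhds (f x₀) := by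
  have hfp : LocallyOfFinitePresentation f :=
    LocallyOfFinitePresentation.iff_locallyOfFiniteType.mpr inferInstance
  have hX : IsLocallyNoetherian X := LocallyOfFiniteType.isLocallyNoetherian f
  let Ud : Set X := {x | (d : WithBot ℕ∞) ≤ FlatMor.fibreDimAt f x}
  have hUd : IsClosed Ud := by
    rw [← isOpen_compl_iff]
    have := Groth.Agent.Helper5.PtOpen.isOpen_fibreDimAt_lt f (d : WithBot ℕ∞)
    convert this using 1
    ext x
    simp [Ud, not_le]
  -- points of `Ud` give the dimension bound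
  have hsub : f '' Ud ⊆ {z : Y | (d : WithBot ℕ∞) ≤ topologicalKrullDim ↥(f ⁻¹' {z})} := by
    rintro _ ⟨x, hx, rfl⟩
    obtain ⟨z, hfz, -, -, hdz, tz, htz, htz'⟩ :=
      Groth.Agent.Helper5.OpenAt.exists_max_generization_fibreDimAt_eq f x
    have h1 := Groth.Agent.Helper5.GenDim.le_dim_of_mem f (f x) Set.univ isClosed_univ z
      ⟨hfz, trivial⟩ tz htz
    rw [Set.inter_univ] at h1
    have h2 : (d : WithBot ℕ∞) ≤ FlatMor.fibreDimAt f z := hdz ▸ hx
    rw [htz'] at h2
    exact h2.trans h1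
  refine Filter.mem_of_superset ?_ hsub
  obtain ⟨V, hV, hfxV⟩ : ∃ V : Y.Opens, IsAffineOpen V ∧ f x₀ ∈ V := by
    obtain ⟨_, ⟨U, hU, rfl⟩, hxU, -⟩ :=
      (Y.isBasis_affineOpens).exists_subset_of_mem_open (Set.mem_univ (f x₀)) isOpen_univ
    exact ⟨U, hU, hxU⟩
  obtain ⟨W, hW, hxW, e⟩ : ∃ W : X.Opens, IsAffineOpen W ∧ x₀ ∈ W ∧ W ≤ f ⁻¹ᵁ V := by
    obtain ⟨_, ⟨W, hW, rfl⟩, hxW, hsub⟩ :=
      (X.isBasis_affineOpens).exists_subset_of_mem_open (show x₀ ∈ ((f ⁻¹ᵁ V : X.Opens) : Set X)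
        from hfxV) (f ⁻¹ᵁ V).isOpen
    exact ⟨W, hW, hxW, hsub⟩
  let g : (W : Scheme.{u}) ⟶ (V : Scheme.{u}) := f.resLE V W e
  have hg : g ≫ V.ι = W.ι ≫ f := Scheme.Hom.resLE_comp_ι f e
  have hWaff : IsAffine (W : Scheme.{u}) := hW
  have hVaff : IsAffine (V : Scheme.{u}) := hV
  have hgqc : QuasiCompact g :=
    (HasAffineProperty.iff_of_isAffine (P := @QuasiCompact)).mpr (by infer_instance)
  have hNW : IsNoetherianRing Γ(X, W) := IsLocallyNoetherian.component_noetherian ⟨W, hW⟩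
  have hNS : NoetherianSpace ↥(W : Scheme.{u}) := noetherianSpace_of_isAffineOpen W hW
  let s : Set ↥(W : Scheme.{u}) := W.ι ⁻¹' Ud
  have hs : IsClosed s := hUd.preimage W.ι.continuous
  have hsc : IsLocallyConstructible s := (isConstructible_of_isClosed s hs).isLocallyConstructible
  have hgs : IsLocallyConstructible (g '' s) := g.isLocallyConstructible_image hsc
  let y₀ : ↥(V : Scheme.{u}) := ⟨f x₀, hfxV⟩
  have hnh : g '' s ∈ nhds y₀ := by
    refine mem_nhds_of_isLocallyConstructible _ hgs y₀ fun t ht => ?_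
    have ht' : V.ι t ⤳ f x₀ := ht.map V.ι.continuous
    obtain ⟨x', hx'1, hx'2, hx'3⟩ := exists_generization_resTrdeg_ge f x₀ hlift _ ht'
    have hx'W : x' ∈ W := hx'1.mem_open W.isOpen hxW
    refine ⟨⟨x', hx'W⟩, ?_, ?_⟩
    · exact le_fibreDimAt_of_resTrdeg f x' d (hd.trans hx'3)
    · apply V.ι.isOpenEmbedding.injective
      have := congrArg (fun ψ : (W : Scheme.{u}) ⟶ Y => ψ ⟨x', hx'W⟩) hg
      exact this.trans hx'2
  have h2 : V.ι '' (g '' s) ∈ nhds (V.ι y₀) := V.ι.isOpenEmbedding.image_mem_nhds.mpr hnh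
  refine Filter.mem_of_superset h2 ?_
  rintro _ ⟨_, ⟨w, hw, rfl⟩, rfl⟩
  refine ⟨W.ι w, hw, ?_⟩
  exact (congrArg (fun ψ : (W : Scheme.{u}) ⟶ Y => ψ w) hg).symm

end Groth.Agent.Helper5.KLem
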