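import Mathlib
import Groth.Prelude.Def_Dual3
import Groth.Prelude.Def_Flat
import Groth.Agent.Helper5.KLem6
import Groth.Agent.Helper5.FibBound
import Groth.Agent.Helper5.KDim3
import Groth.Agent.Helper5.GenLift1

set_option autoImplicit false
universe u

namespace Groth.Agent.Helper5.KLem

open CategoryTheory CategoryTheory.Limits AlgebraicGeometry TopologicalSpace Topology

theorem dim_fiber_eq_preimage {X Y : Scheme.{u}} (f : X ⟶ Y) (z : Y) :
    topologicalKrullDim ↥(f.fiber z) = topologicalKrullDim ↥(f ⁻¹' {z}) :=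
  (f.fiberHomeo z).isHomeomorph.topologicalKrullDim_eq

/-- fibres of quasi-compact morphisms locally of finite type have finite dimension -/
theorem dim_fibre_ne_top {X Y : Scheme.{u}} (f : X ⟶ Y) [LocallyOfFiniteType f] [QuasiCompact f]
    (y : Y) : topologicalKrullDim ↥(f ⁻¹' {y}) ≠ ⊤ := by
  rw [← dim_fiber_eq_preimage]
  let q := f.fiberToSpecResidueField y
  have h1 : LocallyOfFiniteType q :=
    inferInstanceAs (LocallyOfFiniteType (pullback.snd f (Y.fromSpecResidueField y)))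
  have h2 : QuasiCompact q :=
    inferInstanceAs (QuasiCompact (pullback.snd f (Y.fromSpecResidueField y)))
  obtain ⟨n, hn⟩ := Groth.Agent.Helper5.SubDim.exists_fibre_dim_le q
  let pt : ↥(Spec (Y.residueField y)) := (⊥ : PrimeSpectrum (Y.residueField y))
  have h3 := hn pt
  rw [dim_fiber_eq_preimage] at h3
  have hsub : Subsingleton ↥(Spec (Y.residueField y)) :=
    inferInstanceAs (Subsingleton (PrimeSpectrum (Y.residueField y)))
  have huniv : q ⁻¹' {pt} = (Set.univ : Set ↥(f.fiber y)) := by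
    ext z
    simp only [Set.mem_preimage, Set.mem_singleton_iff, Set.mem_univ, iff_true]
    exact Subsingleton.elim _ _
  rw [huniv, Groth.Agent.Helper5.KDim.dim_univ] at h3
  intro htop
  rw [htop] at h3
  have hlt : ((n : ℕ∞) : WithBot ℕ∞) < ((⊤ : ℕ∞) : WithBot ℕ∞) :=
    WithBot.coe_lt_coe.mpr (ENat.natCast_lt_top n)
  exact absurd h3 (not_le.mpr hlt)

/-- the local fibre dimension is bounded by the dimension of the fibre -/
theorem fibreDimAt_le_dim {X Y : Scheme.{u}} (f : X ⟶ Y) [LocallyOfFiniteType f] (x : X) :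
    FlatMor.fibreDimAt f x ≤ topologicalKrullDim ↥(f ⁻¹' {f x}) := by
  obtain ⟨z, hfz, -, -, hdz, tz, htz, htz'⟩ :=
    Groth.Agent.Helper5.OpenAt.exists_max_generization_fibreDimAt_eq f x
  have h1 := Groth.Agent.Helper5.GenDim.le_dim_of_mem f (f x) Set.univ isClosed_univ z
    ⟨hfz, trivial⟩ tz htz
  rw [Set.inter_univ] at h1
  rw [← hdz, htz']
  exact h1

lemma lt_iff_add_one_le (a : WithBot ℕ∞) (d : ℕ) :
    (d : WithBot ℕ∞) < a ↔ ((d + 1 : ℕ) : WithBot ℕ∞) ≤ a := by
  induction a with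
  | bot => simp
  | coe e =>
    have h1 : ((d : ℕ) : WithBot ℕ∞) = ((d : ℕ∞) : WithBot ℕ∞) := rfl
    have h2 : ((d + 1 : ℕ) : WithBot ℕ∞) = (((d + 1 : ℕ) : ℕ∞) : WithBot ℕ∞) := rfl
    rw [h1, h2, WithBot.coe_lt_coe, WithBot.coe_le_coe]
    push_cast
    exact (ENat.add_one_le_iff (ENat.natCast_ne_top d)).symm

lemma le_of_forall_nat_le (a b : WithBot ℕ∞)
    (h : ∀ n : ℕ, (n : WithBot ℕ∞) ≤ a → (n : WithBot ℕ∞) ≤ b) : a ≤ b := by
  induction a with
  | bot => exact bot_le
  | coe e =>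
    induction e with
    | top =>
      have hb : ∀ n : ℕ, (n : WithBot ℕ∞) ≤ b := fun n => h n (by
        show ((n : ℕ∞) : WithBot ℕ∞) ≤ ((⊤ : ℕ∞) : WithBot ℕ∞)
        exact WithBot.coe_le_coe.mpr le_top)
      induction b with
      | bot => exact absurd (hb 0) (by simp)
      | coe e' =>
        rw [WithBot.coe_le_coe]
        have : ∀ n : ℕ, (n : ℕ∞) ≤ e' := fun n => WithBot.coe_le_coe.mp (hb n)
        rw [top_le_iff, ENat.eq_top_iff_forall_ge]
        exact this
    | coe m => exact h m le_rfl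

/-- (Lower) -/
theorem le_dim_fibre_mem_nhds' {X Y : Scheme.{u}} [IsLocallyNoetherian Y] (f : X ⟶ Y)
    [LocallyOfFiniteType f] (y : Y) (hD : topologicalKrullDim ↥(f ⁻¹' {y}) ≠ ⊤)
    (hlift : ∀ x : X, f x = y → ∀ y' : Y, y' ⤳ y → ∃ x' : X, x' ⤳ x ∧ f x' = y') :
    {z : Y | topologicalKrullDim ↥(f ⁻¹' {y}) ≤ topologicalKrullDim ↥(f ⁻¹' {z})} ∈ nhds y := by
  generalize hDdef : topologicalKrullDim ↥(f ⁻¹' {y}) = D at hD
  induction D with
  | bot => simp
  | coe e =>
    induction e with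
    | top => exact absurd rfl hD
    | coe d =>
      obtain ⟨x₀, hx₀, n, hn, hdn⟩ := Groth.Agent.Helper5.KDim.exists_resTrdeg_ge f y d
        (le_of_eq hDdef.symm)
      have hd : (d : Cardinal.{u}) ≤ Dual3.resTrdeg f x₀ := by
        rw [hn]; exact_mod_cast hdn
      have := le_dim_fibre_mem_nhds f x₀ d hd (fun y' hy' => hlift x₀ hx₀ y' (hx₀ ▸ hy'))
      rw [hx₀] at this
      exact this

end Groth.Agent.Helper5.KLem
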