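import Mathlib
import Groth.Prelude.Def_Dual3
import Groth.Prelude.Def_Flat
import Groth.Prelude.Def_EGA43
import Groth.Agent.Helper5.KLem7
import Groth.Agent.Helper5.GenLift

set_option autoImplicit false
universe u

namespace Groth.Agent.Helper5.KLem

open CategoryTheory CategoryTheory.Limits AlgebraicGeometry TopologicalSpace Topology
open Groth.Agent.Helper5.PtOpen Groth.Agent.Helper5.GenDim

/-- (U) for a closed map, the fibre dimension is upper semicontinuous on the base -/
theorem dim_fibre_le_mem_nhds {X Y : Scheme.{u}} (f : X ⟶ Y) [LocallyOfFiniteType f]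
    (hcl : IsClosedMap f) (y : Y) :
    {z : Y | topologicalKrullDim ↥(f ⁻¹' {z}) ≤ topologicalKrullDim ↥(f ⁻¹' {y})} ∈ nhds y := by
  let D := topologicalKrullDim ↥(f ⁻¹' {y})
  let T : Set X := {x | FlatMor.fibreDimAt f x ≤ D}ᶜ
  have hT : IsClosed T :=
    (Groth.Agent.Helper5.FibDim.isOpen_fibreDimAt_le f D).isClosed_compl
  have hfT : IsClosed (f '' T) := hcl T hT
  have hy : y ∈ (f '' T)ᶜ := by
    rintro ⟨x, hx, hfx⟩
    apply hx
    have := fibreDimAt_le_dim f x
    rw [hfx] at this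
    exact this
  refine Filter.mem_of_superset (hfT.isOpen_compl.mem_nhds hy) ?_
  intro z hz
  have := dim_fibre_inter_closed_le f z Set.univ isClosed_univ D (fun ζ hζ n hn => by
    have h2 := le_fibreDimAt_of_resTrdeg f ζ n (le_of_eq hn.symm)
    refine h2.trans ?_
    by_contra hcon
    exact hz ⟨ζ, hcon, hζ.1⟩)
  rwa [Set.inter_univ] at this

/-- S4921 -/
theorem s4921 {X Y : Scheme.{u}} [IsLocallyNoetherian Y] (f : X ⟶ Y)
    [IsProper f] (y : Y) (h : ∀ x : X, f.base x = y → EGA43.IsOpenAt f.base x) :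
    ∃ V ∈ nhds y, ∀ z ∈ V, topologicalKrullDim ↥(f.fiber z) = topologicalKrullDim ↥(f.fiber y) := by
  have hD := dim_fibre_ne_top f y
  have hlower := le_dim_fibre_mem_nhds' f y hD (fun x hx y' hy' =>
    Groth.Agent.Helper5.GenLift.exists_generization_of_isOpenAt f x (h x hx) y' (hx ▸ hy'))
  have hupper := dim_fibre_le_mem_nhds f f.isClosedMap y
  refine ⟨_, Filter.inter_mem hlower hupper, fun z hz => ?_⟩
  rw [dim_fiber_eq_preimage, dim_fiber_eq_preimage]
  exact le_antisymm hz.2 hz.1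

/-- for an open morphism the fibre dimension grows under generisation -/
theorem dim_fibre_le_of_specializes {X Y : Scheme.{u}} [IsLocallyNoetherian Y] (f : X ⟶ Y)
    [LocallyOfFiniteType f] (hf : IsOpenMap f) (z' z : Y) (h : z' ⤳ z) :
    topologicalKrullDim ↥(f ⁻¹' {z}) ≤ topologicalKrullDim ↥(f ⁻¹' {z'}) := by
  have hgen := Groth.Agent.Helper5.GenLift.generalizingMap_of_isOpenMap f hf
  refine le_of_forall_nat_le _ _ fun n hn => ?_
  obtain ⟨x, hx, m, hm, hnm⟩ := Groth.Agent.Helper5.KDim.exists_resTrdeg_ge f z n hn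
  obtain ⟨x', -, hx'2, hx'3⟩ := exists_generization_resTrdeg_ge f x
    (fun y' hy' => hgen hy') z' (hx ▸ h)
  obtain ⟨m', hm'⟩ := Groth.Agent.Helper5.KDim.exists_resTrdeg_nat f x'
  have h1 := le_dim_of_mem f z' Set.univ isClosed_univ x' ⟨hx'2, trivial⟩ m' hm'
  rw [Set.inter_univ] at h1
  refine le_trans ?_ h1
  rw [hm, hm'] at hx'3
  have : m ≤ m' := by exact_mod_cast hx'3
  exact_mod_cast hnm.trans this

/-- in a locally Noetherian scheme the irreducible components through a point form a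
neighbourhood of that point -/
theorem components_mem_nhds {Y : Scheme.{u}} [IsLocallyNoetherian Y] (y : Y) :
    {z : Y | ∃ η : Y, (∀ η' : Y, η' ⤳ η → η' = η) ∧ η ⤳ z ∧ η ⤳ y} ∈ nhds y := by
  obtain ⟨V, hV, hyV⟩ : ∃ V : Y.Opens, IsAffineOpen V ∧ y ∈ V := by
    obtain ⟨_, ⟨U, hU, rfl⟩, hxU, -⟩ :=
      (Y.isBasis_affineOpens).exists_subset_of_mem_open (Set.mem_univ y) isOpen_univ
    exact ⟨U, hU, hxU⟩
  have hNV : IsNoetherianRing Γ(Y, V) := IsLocallyNoetherian.component_noetherian ⟨V, hV⟩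
  have hNS : NoetherianSpace ↥(V : Scheme.{u}) := noetherianSpace_of_isAffineOpen V hV
  let yV : ↥(V : Scheme.{u}) := ⟨y, hyV⟩
  have hfin : (irreducibleComponents ↥(V : Scheme.{u})).Finite :=
    NoetherianSpace.finite_irreducibleComponents
  let K : Set ↥(V : Scheme.{u}) :=
    ⋃ Z ∈ {Z ∈ irreducibleComponents ↥(V : Scheme.{u}) | yV ∉ Z}, Z
  have hK : IsClosed K :=
    (hfin.subset (fun Z hZ => hZ.1)).isClosed_biUnion
      fun Z hZ => isClosed_of_mem_irreducibleComponents Z hZ.1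
  have hyK : yV ∈ Kᶜ := by
    intro hy
    simp only [K, Set.mem_iUnion] at hy
    obtain ⟨Z, ⟨-, hZ2⟩, hyZ⟩ := hy
    exact hZ2 hyZ
  have h1 : V.ι '' Kᶜ ∈ nhds (V.ι yV) :=
    V.ι.isOpenEmbedding.image_mem_nhds.mpr (hK.isOpen_compl.mem_nhds hyK)
  refine Filter.mem_of_superset h1 ?_
  rintro _ ⟨zV, hzV, rfl⟩
  have hZmem := irreducibleComponent_mem_irreducibleComponents zV
  have hyZ : yV ∈ irreducibleComponent zV := by
    by_contra hcon
    apply hzV
    simp only [K, Set.mem_iUnion]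
    exact ⟨irreducibleComponent zV, ⟨hZmem, hcon⟩, mem_irreducibleComponent⟩
  obtain ⟨ηV, hηV⟩ := QuasiSober.sober (isIrreducible_irreducibleComponent (x := zV))
    isClosed_irreducibleComponent
  have hηz : ηV ⤳ zV := by
    rw [specializes_iff_mem_closure, hηV.def]; exact mem_irreducibleComponent
  have hηy : ηV ⤳ yV := by
    rw [specializes_iff_mem_closure, hηV.def]; exact hyZ
  refine ⟨V.ι ηV, ?_, hηz.map V.ι.continuous, hηy.map V.ι.continuous⟩
  intro η' hη'
  have hη'V : η' ∈ V := hη'.mem_open V.isOpen ηV.2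
  let η'V : ↥(V : Scheme.{u}) := ⟨η', hη'V⟩
  have hsp : η'V ⤳ ηV := V.ι.isOpenEmbedding.isInducing.specializes_iff.mp hη'
  have h2 : irreducibleComponent zV ⊆ closure {η'V} := by
    rw [← hηV.def]
    exact closure_minimal (Set.singleton_subset_iff.mpr hsp.mem_closure) isClosed_closure
  have h3 : closure {η'V} ⊆ irreducibleComponent zV :=
    hZmem.2 isIrreducible_singleton.closure h2
  have h4 : ηV ⤳ η'V := by
    rw [specializes_iff_mem_closure, hηV.def]
    exact h3 (subset_closure rfl)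
  have h5 : η'V = ηV := (hsp.antisymm h4).eq
  exact congrArg (fun t : ↥(V : Scheme.{u}) => V.ι t) h5

/-- S4922 -/
theorem s4922 {X Y : Scheme.{u}} [IsLocallyNoetherian Y]
    (f : X ⟶ Y) [LocallyOfFiniteType f] [QuasiCompact f] (hf : IsOpenMap f.base) (y : Y)
    (h : ∀ η : Y, y ∈ closure {η} → closure {η} ∈ irreducibleComponents (Y : Type u) →
      topologicalKrullDim ↥(f.fiber y) = topologicalKrullDim ↥(f.fiber η)) :
    ∃ V ∈ nhds y, ∀ z ∈ V, topologicalKrullDim ↥(f.fiber z) = topologicalKrullDim ↥(f.fiber y) := by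
  have hD := dim_fibre_ne_top f y
  have hgen := Groth.Agent.Helper5.GenLift.generalizingMap_of_isOpenMap f hf
  have hlower := le_dim_fibre_mem_nhds' f y hD (fun x hx y' hy' => hgen (hx ▸ hy'))
  refine ⟨_, Filter.inter_mem hlower (components_mem_nhds y), fun z hz => ?_⟩
  rw [dim_fiber_eq_preimage, dim_fiber_eq_preimage]
  refine le_antisymm ?_ hz.1
  obtain ⟨η, hηmax, hηz, hηy⟩ := hz.2
  have h1 := dim_fibre_le_of_specializes f hf η z hηz
  have h2 := h η hηy.mem_closure
    (Groth.Agent.Helper5.DimFormula.closure_mem_irreducibleComponents η hηmax)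
  rw [dim_fiber_eq_preimage, dim_fiber_eq_preimage] at h2
  rw [h2]
  exact h1

end Groth.Agent.Helper5.KLem
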