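import Mathlib
import Groth.Prelude.Def_Dual3
import Groth.Prelude.Def_Flat
import Groth.Prelude.Def_EGA4Misc
import Groth.Agent.Helper5.KLem9

set_option autoImplicit false
universe u

namespace Groth.Agent.Helper5.KLem

open CategoryTheory CategoryTheory.Limits AlgebraicGeometry TopologicalSpace Topology
open Groth.Agent.Helper5.PtOpen Groth.Agent.Helper5.GenDim

lemma isLocallyConstructible_compl {α : Type*} [TopologicalSpace α] {s : Set α}
    (hs : IsLocallyConstructible s) : IsLocallyConstructible sᶜ := by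
  intro x
  obtain ⟨U, hU, hUo, hc⟩ := hs x
  refine ⟨U, hU, hUo, ?_⟩
  have : ((Subtype.val : U → α) ⁻¹' sᶜ) = ((Subtype.val : U → α) ⁻¹' s)ᶜ := rfl
  rw [this, isConstructible_compl]
  exact hc

/-- closed subsets of locally Noetherian schemes are locally constructible -/
lemma isLocallyConstructible_of_isClosed {X : Scheme.{u}} [IsLocallyNoetherian X] (s : Set X)
    (hs : IsClosed s) : IsLocallyConstructible s := by
  intro x
  obtain ⟨W, hW, hxW⟩ : ∃ W : X.Opens, IsAffineOpen W ∧ x ∈ W := by
    obtain ⟨_, ⟨W, hW, rfl⟩, hxW, -⟩ :=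
      (X.isBasis_affineOpens).exists_subset_of_mem_open (Set.mem_univ x) isOpen_univ
    exact ⟨W, hW, hxW⟩
  have hNW : IsNoetherianRing Γ(X, W) := IsLocallyNoetherian.component_noetherian ⟨W, hW⟩
  have hNS : NoetherianSpace ↥W := noetherianSpace_of_isAffineOpen W hW
  refine ⟨W, W.isOpen.mem_nhds hxW, W.isOpen, ?_⟩
  exact isConstructible_of_isClosed _ (hs.preimage continuous_subtype_val)

/-- generic constancy of the fibre dimension around a maximal point of a locally Noetherian
base -/
theorem dim_fibre_eq_mem_nhds_of_maximal {X Y : Scheme.{u}} [IsLocallyNoetherian Y] (f : X ⟶ Y)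
    [LocallyOfFiniteType f] [QuasiCompact f] (η : Y) (hη : ∀ η' : Y, η' ⤳ η → η' = η) :
    {z : Y | topologicalKrullDim ↥(f ⁻¹' {z}) = topologicalKrullDim ↥(f ⁻¹' {η})} ∈ nhds η := by
  have hfp : LocallyOfFinitePresentation f :=
    LocallyOfFinitePresentation.iff_locallyOfFiniteType.mpr inferInstance
  have hX : IsLocallyNoetherian X := LocallyOfFiniteType.isLocallyNoetherian f
  have hlower := le_dim_fibre_mem_nhds' f η (dim_fibre_ne_top f η)
    (fun x hx y' hy' => ⟨x, specializes_rfl, hx.trans (hη y' hy').symm⟩)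
  let D := topologicalKrullDim ↥(f ⁻¹' {η})
  let T : Set X := {x | FlatMor.fibreDimAt f x ≤ D}ᶜ
  have hT : IsClosed T :=
    (Groth.Agent.Helper5.FibDim.isOpen_fibreDimAt_le f D).isClosed_compl
  have hfT : IsLocallyConstructible (f '' T) :=
    f.isLocallyConstructible_image (isLocallyConstructible_of_isClosed T hT)
  have hηT : η ∉ f '' T := by
    rintro ⟨x, hx, hfx⟩
    apply hx
    have := fibreDimAt_le_dim f x
    rw [hfx] at this
    exact this
  have hupper : (f '' T)ᶜ ∈ nhds η := by
    refine mem_nhds_of_isLocallyConstructible _ (isLocallyConstructible_compl hfT) η ?_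
    intro t ht
    rw [hη t ht]
    exact hηT
  refine Filter.mem_of_superset (Filter.inter_mem hlower hupper) ?_
  rintro z ⟨hz1, hz2⟩
  refine le_antisymm ?_ hz1
  have := dim_fibre_inter_closed_le f z Set.univ isClosed_univ D (fun ζ hζ n hn => by
    have h2 := le_fibreDimAt_of_resTrdeg f ζ n (le_of_eq hn.symm)
    refine h2.trans ?_
    by_contra hcon
    exact hz2 ⟨ζ, hcon, hζ.1⟩)
  rwa [Set.inter_univ] at this

/-- the dimension of a scheme locally of finite type over a one-point scheme is invariant under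
base change to another one-point scheme -/
theorem dim_eq_of_isPullback_subsingleton {Y Y' T T' : Scheme.{u}} (g : Y ⟶ T) (g' : Y' ⟶ T')
    (e : Y' ⟶ Y) (h : T' ⟶ T) [Subsingleton T] [Subsingleton T'] [Nonempty T']
    [LocallyOfFiniteType g] (sq : IsPullback e g' g h) :
    topologicalKrullDim ↥Y' = topologicalKrullDim ↥Y := by
  have hlft' : LocallyOfFiniteType g' := MorphismProperty.of_isPullback sq ‹_›
  have huniv : ∀ t : T, g ⁻¹' {t} = (Set.univ : Set ↥Y) := fun t => by
    ext z
    simp only [Set.mem_preimage, Set.mem_singleton_iff, Set.mem_univ, iff_true]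
    exact Subsingleton.elim _ _
  have huniv' : ∀ t : T', g' ⁻¹' {t} = (Set.univ : Set ↥Y') := fun t => by
    ext z
    simp only [Set.mem_preimage, Set.mem_singleton_iff, Set.mem_univ, iff_true]
    exact Subsingleton.elim _ _
  obtain ⟨t'⟩ := (inferInstance : Nonempty T')
  apply le_antisymm
  · have := dim_fibre_inter_closed_le g' t' Set.univ isClosed_univ (topologicalKrullDim ↥Y)
      (fun ζ' _ n hn => by
        have h1 := resTrdeg_le_of_isPullback g h e g' sq ζ'
        obtain ⟨m, hm⟩ := Groth.Agent.Helper5.KDim.exists_resTrdeg_nat g (e ζ')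
        rw [hn, hm] at h1
        have hnm : n ≤ m := by exact_mod_cast h1
        have h2 := Groth.Agent.Helper5.KDim.le_dim_of_resTrdeg g (e ζ') m hm
        refine le_trans ?_ h2
        exact_mod_cast hnm)
    rwa [Set.inter_univ, huniv', Groth.Agent.Helper5.KDim.dim_univ] at this
  · have := dim_fibre_inter_closed_le g (h t') Set.univ isClosed_univ (topologicalKrullDim ↥Y')
      (fun ζ _ n hn => by
        obtain ⟨ζ', -, -, hζ'⟩ := exists_resTrdeg_eq_of_isPullback g h e g' sq ζ t'
          (Subsingleton.elim _ _)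
        exact Groth.Agent.Helper5.KDim.le_dim_of_resTrdeg g' ζ' n (hζ'.trans hn))
    rwa [Set.inter_univ, huniv, Groth.Agent.Helper5.KDim.dim_univ] at this

/-- S5888 -/
theorem s5888 (Φ : Set (WithBot ℕ∞)) :
    ConsProp.IsCons (fun Y _ _ => topologicalKrullDim ↥Y ∈ Φ) := by
  refine ⟨?_, ?_⟩
  · intro Y Y' T T' g g' e h _ _ _ _ _ _ sq
    have : Nonempty T' := inferInstance
    show topologicalKrullDim ↥Y ∈ Φ ↔ topologicalKrullDim ↥Y' ∈ Φ
    rw [dim_eq_of_isPullback_subsingleton g g' e h sq]
  · intro X S u _ _ _ _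
    let η := genericPoint S
    have hηmax : ∀ η' : S, η' ⤳ η → η' = η := by
      intro η' hη'
      have h1 : η ⤳ η' := by
        rw [specializes_iff_mem_closure, genericPoint_closure]; trivial
      exact (hη'.antisymm h1).eq
    have hN := dim_fibre_eq_mem_nhds_of_maximal u η hηmax
    by_cases hΦ : topologicalKrullDim ↥(u.fiber η) ∈ Φ
    · left
      refine ⟨η, mem_interior_iff_mem_nhds.mpr (Filter.mem_of_superset hN ?_)⟩
      intro z hz
      show topologicalKrullDim ↥(u.fiber z) ∈ Φ
      rw [dim_fiber_eq_preimage, hz, ← dim_fiber_eq_preimage]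
      exact hΦ
    · right
      refine ⟨η, mem_interior_iff_mem_nhds.mpr (Filter.mem_of_superset hN ?_)⟩
      intro z hz hzΦ
      apply hΦ
      have hz' : topologicalKrullDim ↥(u.fiber z) ∈ Φ := hzΦ
      rw [dim_fiber_eq_preimage, hz, ← dim_fiber_eq_preimage] at hz'
      exact hz'

end Groth.Agent.Helper5.KLem
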