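import Mathlib
import Groth.Agent.Helper5.ConsLc8
import Groth.Agent.Helper5.ConsPr6
import Groth.Agent.Helper5.KLem11

set_option autoImplicit false
universe u

namespace Groth.Agent.Helper5.ConsLc

open CategoryTheory CategoryTheory.Limits AlgebraicGeometry TopologicalSpace Topology

section Single

variable {P : ∀ ⦃Y T : Scheme.{u}⦄, (Y ⟶ T) → Prop}

/-- a relation on one scheme, seen as a relation on pairs -/
def toPair (P : ∀ ⦃Y T : Scheme.{u}⦄, (Y ⟶ T) → Prop) :
    ∀ ⦃X Y T : Scheme.{u}⦄, (X ⟶ T) → (Y ⟶ T) → Prop := fun _ _ _ gX _ => P gX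

theorem locusPair_toPair {X Y S : Scheme.{u}} (u : X ⟶ S) (v : Y ⟶ S) :
    ConsPropPair.locusPair (toPair P) u v = ConsProp.locus P u := rfl

theorem isConsPair_toPair (hP : ConsProp.IsCons P) : ConsPropPair.IsConsPair (toPair P) := by
  refine ⟨?_, ?_⟩
  · intro X X' Y Y' T T' gX gY gX' gY' eX eY h _ _ _ _ _ _ _ _ sqX sqY
    exact hP.1 gX gX' eX h sqX
  · intro X Y S u v _ _ _ _ _ _
    exact hP.2 u

theorem isIndConsPair_toPair (hP : ConsProp.IsIndCons P) :
    ConsPropPair.IsIndConsPair (toPair P) := by
  refine ⟨?_, ?_⟩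
  · intro X X' Y Y' T T' gX gY gX' gY' eX eY h _ _ _ _ _ _ _ _ sqX sqY
    exact hP.1 gX gX' eX h sqX
  · intro X Y S u v _ _ _ _ _ _ hη
    exact hP.2 u hη

/-- the locus of a constructible relation on the fibres of a morphism of finite presentation is
locally constructible -/
theorem isLocallyConstructible_locus (hP : ConsProp.IsCons P) {X S : Scheme.{u}} (u : X ⟶ S)
    [LocallyOfFinitePresentation u] [QuasiCompact u] [QuasiSeparated u] :
    IsLocallyConstructible (ConsProp.locus P u) :=
  s5906 u u (isConsPair_toPair hP)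

/-- the locus of an ind-constructible relation on the fibres of a morphism of finite presentation is
ind-constructible -/
theorem isIndConstructible_locus (hP : ConsProp.IsIndCons P) {X S : Scheme.{u}} (u : X ⟶ S)
    [LocallyOfFinitePresentation u] [QuasiCompact u] [QuasiSeparated u] :
    ProCons.IsIndConstructible (ConsProp.locus P u) :=
  s5907 u u (isIndConsPair_toPair hP)

end Single

theorem s1333 {X Y : Scheme.{u}} (f : X ⟶ Y) [LocallyOfFinitePresentation f] [QuasiCompact f]
    [QuasiSeparated f] (n : WithBot ℕ∞) :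
    Topology.IsLocallyConstructible {y : ↑Y | topologicalKrullDim ↑(f.fiber y) = n} :=
  isLocallyConstructible_locus (Groth.Agent.Helper5.KLem.s5888 {n}) f

theorem s3445 {X Y S : Scheme.{u}} (f : X ⟶ Y) (g : Y ⟶ S)
    [LocallyOfFinitePresentation g] [QuasiCompact g] [QuasiSeparated g]
    [LocallyOfFinitePresentation (f ≫ g)] [QuasiCompact (f ≫ g)] [QuasiSeparated (f ≫ g)] :
    Topology.IsLocallyConstructible {s : S |
      LocallyQuasiFinite (pullback.lift (pullback.fst (f ≫ g) (S.fromSpecResidueField s) ≫ f) (pullback.snd (f ≫ g) (S.fromSpecResidueField s))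
          ((Category.assoc _ _ _).trans pullback.condition) :
        pullback (f ≫ g) (S.fromSpecResidueField s) ⟶ pullback g (S.fromSpecResidueField s))} := by
  have h := s5880 f g Groth.Agent.Helper5.ConsPr.s5889
  convert h using 1
  ext s
  have h2 : MoreMor.fiberMap f g s ≫ g.fiberToSpecResidueField s =
      (f ≫ g).fiberToSpecResidueField s := pullback.lift_snd _ _ _
  haveI : LocallyOfFiniteType (MoreMor.fiberMap f g s ≫ g.fiberToSpecResidueField s) := by
    rw [h2]; infer_instance
  haveI : QuasiCompact (MoreMor.fiberMap f g s ≫ g.fiberToSpecResidueField s) := by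
    rw [h2]; infer_instance
  obtain ⟨-, hlft, hqc⟩ := Groth.Agent.Helper5.ConsPr.noeth_of_comp (MoreMor.fiberMap f g s)
    (g.fiberToSpecResidueField s)
  constructor
  · intro hq
    exact ⟨hlft, hqc, hq⟩
  · intro hq
    exact hq.2.2

end Groth.Agent.Helper5.ConsLc
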