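import Mathlib
import Groth.Agent.Helper5.ConsLc3

set_option autoImplicit false
universe u

namespace Groth.Agent.Helper5.FibTop

open CategoryTheory CategoryTheory.Limits AlgebraicGeometry TopologicalSpace Topology

/-- a relation on pairs of subsets of a topological space -/
abbrev Rel := ∀ (T : Type u) [TopologicalSpace T], Set T → Set T → Prop

/-- the set of points of the base over which the traces of `Z`, `Z'` on the fibre are related -/
def locus (Φ : Rel.{u}) {X S : Scheme.{u}} (f : X ⟶ S) (Z Z' : Set X) : Set S :=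
  {s | Φ ↥(f.base ⁻¹' {s}) (Subtype.val ⁻¹' Z) (Subtype.val ⁻¹' Z')}

/-- invariance of a relation under continuous open surjections -/
def InvOpenSurj (Φ : Rel.{u}) : Prop :=
  ∀ {T' T : Type u} [TopologicalSpace T'] [TopologicalSpace T] (p : T' → T), Continuous p →
    IsOpenMap p → Function.Surjective p → ∀ A B : Set T, Φ T' (p ⁻¹' A) (p ⁻¹' B) ↔ Φ T A B

variable {X' X S' S : Scheme.{u}} {q : X' ⟶ X} {f' : X' ⟶ S'} {f : X ⟶ S} {h : S' ⟶ S}

/-- the map induced on topological fibres by a commutative square -/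
def fibreMap (w : q ≫ f = f' ≫ h) (s' : S') : ↥(f'.base ⁻¹' {s'}) → ↥(f.base ⁻¹' {h.base s'}) :=
  fun x' => ⟨q.base x'.1, by
    have h1 : f.base (q.base x'.1) = h.base (f'.base x'.1) := by
      rw [← Scheme.Hom.comp_apply, ← Scheme.Hom.comp_apply, w]
    have h2 : f'.base x'.1 = s' := x'.2
    show f.base (q.base x'.1) = h.base s'
    rw [h1, h2]⟩

theorem continuous_fibreMap (w : q ≫ f = f' ≫ h) (s' : S') : Continuous (fibreMap w s') :=
  Continuous.subtype_mk (q.continuous.comp continuous_subtype_val) _

theorem surjective_fibreMap (sq : IsPullback q f' f h) (s' : S') :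
    Function.Surjective (fibreMap sq.w s') := by
  rintro ⟨x, hx⟩
  obtain ⟨x', hx'1, hx'2⟩ := Scheme.exists_preimage_of_isPullback sq x s' hx
  exact ⟨⟨x', hx'2⟩, Subtype.ext hx'1⟩

theorem isOpenMap_fibreMap (sq : IsPullback q f' f h) (s' : S') :
    IsOpenMap (fibreMap sq.w s') := by
  have sq2 := isPullback_fiberToSpecResidueField_of_isPullback sq s'
  set r := pullback.map f' (S'.fromSpecResidueField s') f (S.fromSpecResidueField (h s')) q
    (Spec.map (h.residueFieldMap s')) h sq.w.symm (by simp) with hr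
  haveI : UniversallyOpen (Spec.map (h.residueFieldMap s')) := inferInstance
  haveI : UniversallyOpen r := MorphismProperty.of_isPullback sq2.flip inferInstance
  have hrι : r ≫ f.fiberι (h s') = f'.fiberι s' ≫ q := by
    rw [hr]
    exact pullback.lift_fst _ _ _
  have hfun : fibreMap sq.w s' = (f.fiberHomeo (h s')) ∘ r ∘ (f'.fiberHomeo s').symm := by
    funext z
    apply Subtype.ext
    obtain ⟨w, rfl⟩ := (f'.fiberHomeo s').surjective z
    simp only [Function.comp_apply, Homeomorph.symm_apply_apply]
    rw [Scheme.Hom.fiberHomeo_apply]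
    show q.base ((f'.fiberHomeo s') w).1 = _
    rw [Scheme.Hom.fiberHomeo_apply]
    have := congrArg (fun φ : f'.fiber s' ⟶ X => φ.base w) hrι
    simp only [Scheme.Hom.comp_apply] at this
    exact this.symm
  rw [hfun]
  exact ((f.fiberHomeo (h s')).isOpenMap.comp r.isOpenMap).comp (f'.fiberHomeo s').symm.isOpenMap

/-- (G1) the locus of a relation invariant under open surjections commutes with base change -/
theorem locus_of_isPullback {Φ : Rel.{u}} (hΦ : InvOpenSurj Φ) (sq : IsPullback q f' f h)
    (Z Z' : Set X) :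
    locus Φ f' (q.base ⁻¹' Z) (q.base ⁻¹' Z') = h.base ⁻¹' locus Φ f Z Z' := by
  ext s'
  exact hΦ (fibreMap sq.w s') (continuous_fibreMap sq.w s') (isOpenMap_fibreMap sq s')
    (surjective_fibreMap sq s') (Subtype.val ⁻¹' Z) (Subtype.val ⁻¹' Z')

end Groth.Agent.Helper5.FibTop
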