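import Mathlib
import Groth.Agent.Helper5.FibTop1

set_option autoImplicit false
universe u

namespace Groth.Agent.Helper5.FibTop

open CategoryTheory CategoryTheory.Limits AlgebraicGeometry TopologicalSpace Topology
open Groth.Agent.Helper5.ConsPr Groth.Agent.Helper5.ConsLc

/-- generic decidedness of the locus of a relation over integral Noetherian bases -/
def Decided (Φ : Rel.{u}) : Prop :=
  ∀ ⦃X S : Scheme.{u}⦄ (f : X ⟶ S) [IsIntegral S] [IsNoetherian S] [LocallyOfFiniteType f]
    [QuasiCompact f] (Z Z' : Set X), IsConstructible Z → IsConstructible Z' →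
    (interior (locus Φ f Z Z')).Nonempty ∨ (interior (locus Φ f Z Z')ᶜ).Nonempty

variable {Φ : Rel.{u}} {X S : Scheme.{u}} (f : X ⟶ S)

theorem decided_on_closed (hΦ : InvOpenSurj Φ) (hD : Decided Φ) [IsNoetherian S]
    [LocallyOfFiniteType f] [QuasiCompact f] (Z Z' : Set X) (hZ : IsConstructible Z)
    (hZ' : IsConstructible Z') (C : Set S) (hC : IsClosed C) (hirr : IsIrreducible C) :
    ∃ O : Set S, IsOpen O ∧ (C ∩ O).Nonempty ∧
      (C ∩ O ⊆ locus Φ f Z Z' ∨ C ∩ O ⊆ (locus Φ f Z Z')ᶜ) := by
  obtain ⟨T, i, hi, hT, hrange⟩ := exists_integral_subscheme C hC hirr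
  have hT1 : IsLocallyNoetherian T := LocallyOfFiniteType.isLocallyNoetherian i
  have hT2 : CompactSpace T := QuasiCompact.compactSpace_of_compactSpace i
  have hTN : IsNoetherian T := {}
  have sq : IsPullback (pullback.fst f i) (pullback.snd f i) f i := IsPullback.of_hasPullback f i
  have hloc := locus_of_isPullback hΦ sq Z Z'
  rcases hD (pullback.snd f i) _ _ ((pullback.fst f i).isConstructible_preimage hZ)
    ((pullback.fst f i).isConstructible_preimage hZ') with h | h
  · rw [hloc] at h
    obtain ⟨O, hO, hne, hsub⟩ := exists_open_of_interior_preimage i C hrange _ h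
    exact ⟨O, hO, hne, Or.inl hsub⟩
  · rw [hloc] at h
    obtain ⟨O, hO, hne, hsub⟩ := exists_open_of_interior_preimage i C hrange
      (locus Φ f Z Z')ᶜ h
    exact ⟨O, hO, hne, Or.inr hsub⟩

/-- (G2) over a Noetherian base the locus is constructible -/
theorem isConstructible_locus_of_noeth (hΦ : InvOpenSurj Φ) (hD : Decided Φ) [IsNoetherian S]
    [LocallyOfFiniteType f] [QuasiCompact f] (Z Z' : Set X) (hZ : IsConstructible Z)
    (hZ' : IsConstructible Z') : IsConstructible (locus Φ f Z Z') :=
  isConstructible_of_noeth _ (decided_on_closed f hΦ hD Z Z' hZ hZ')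

end Groth.Agent.Helper5.FibTop
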