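import Mathlib
import Groth.Agent.Helper5.FibTop2
import Groth.Agent.Helper5.ConsLc5
import Groth.Agent.Lead.LimPullback
import Groth.Agent.S4759

set_option autoImplicit false
universe u

namespace Groth.Agent.Helper5.FibTop

open CategoryTheory CategoryTheory.Limits AlgebraicGeometry TopologicalSpace Topology
open Groth.Agent.Helper5.ConsPr Groth.Agent.Helper5.ConsLc
open Groth.Agent.Lead.LimPullback Groth.Agent.Lead

theorem preimage_comp {A B C : Scheme.{u}} (a : A ⟶ B) (b : B ⟶ C) (W : Set C) :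
    (a ≫ b).base ⁻¹' W = a.base ⁻¹' (b.base ⁻¹' W) := by
  ext x
  simp only [Set.mem_preimage]
  rw [← Scheme.Hom.comp_apply]

section Stage

variable {I : Type u} [SmallCategory I] [IsCofiltered I]
  (D : I ⥤ Scheme.{u}) (c : Limits.Cone D) (hc : Limits.IsLimit c)
  [∀ (i j : I) (f : i ⟶ j), IsAffineHom (D.map f)]

include hc in
set_option backward.isDefEq.respectTransparency false in
/-- two constructible subsets of a scheme over the limit with a model over a stage descend to a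
common later stage -/
theorem exists_descent_constructible₂ {X : Scheme.{u}} (u : X ⟶ c.pt) {k : I} {Xk : Scheme.{u}}
    (uk : Xk ⟶ D.obj k) [QuasiCompact uk] [QuasiSeparated uk] [CompactSpace (D.obj k)]
    [QuasiSeparatedSpace (D.obj k)] (q : X ⟶ Xk) (H : IsPullback q u uk (c.π.app k))
    (Z Z' : Set X) (hZ : IsConstructible Z) (hZ' : IsConstructible Z') :
    ∃ (j : I) (b : j ⟶ k) (Xj : Scheme.{u}) (uj : Xj ⟶ D.obj j) (qj : X ⟶ Xj) (pj : Xj ⟶ Xk)
      (Zj Z'j : Set Xj), IsPullback qj u uj (c.π.app j) ∧ IsPullback pj uj uk (D.map b) ∧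
        IsConstructible Zj ∧ IsConstructible Z'j ∧ qj.base ⁻¹' Zj = Z ∧ qj.base ⁻¹' Z'j = Z' := by
  haveI hA : ∀ {i j : I} (f : i ⟶ j), IsAffineHom (D.map f) := fun f => inferInstance
  let 𝒟 := pbDiag D k uk
  let 𝒞 := pbCone D c k uk
  have hlim : IsLimit 𝒞 := pbConeIsLimit k uk hc
  haveI : ∀ (i j : Over k) (f : i ⟶ j), IsAffineHom (𝒟.map f) :=
    fun _ _ f => isAffineHom_pbDiag_map k uk f
  let i₀ : Over k := Over.mk (𝟙 k)
  haveI : QuasiCompact (pullback.fst (D.map i₀.hom) uk) :=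
    MorphismProperty.pullback_fst _ _ inferInstance
  haveI : QuasiSeparated (pullback.fst (D.map i₀.hom) uk) :=
    MorphismProperty.pullback_fst _ _ inferInstance
  haveI : CompactSpace (D.obj i₀.left) := ‹CompactSpace (D.obj k)›
  haveI : QuasiSeparatedSpace (D.obj i₀.left) := ‹QuasiSeparatedSpace (D.obj k)›
  haveI : CompactSpace (𝒟.obj i₀) :=
    QuasiCompact.compactSpace_of_compactSpace (pullback.fst (D.map i₀.hom) uk)
  haveI : QuasiSeparatedSpace (𝒟.obj i₀) :=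
    quasiSeparatedSpace_of_quasiSeparated (pullback.fst (D.map i₀.hom) uk)
  let e : X ≅ 𝒞.pt := H.flip.isoPullback
  have he1 : e.hom ≫ pullback.fst (c.π.app k) uk = u := H.flip.isoPullback_hom_fst
  have he2 : e.hom ≫ pullback.snd (c.π.app k) uk = q := H.flip.isoPullback_hom_snd
  obtain ⟨j, φ, Zj, hZj, hpre⟩ := Groth.Agent.S4759.result 𝒟 𝒞 hlim i₀ (e.inv.base ⁻¹' Z)
    (e.inv.isConstructible_preimage hZ)
  obtain ⟨j', φ', Z'j, hZ'j, hpre'⟩ := Groth.Agent.S4759.result 𝒟 𝒞 hlim i₀ (e.inv.base ⁻¹' Z')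
    (e.inv.isConstructible_preimage hZ')
  let j₀ : Over k := IsCofiltered.min j j'
  let a : j₀ ⟶ j := IsCofiltered.minToLeft j j'
  let a' : j₀ ⟶ j' := IsCofiltered.minToRight j j'
  let qj : X ⟶ 𝒟.obj j₀ := e.hom ≫ 𝒞.π.app j₀
  have hw : c.π.app j₀.left ≫ D.map j₀.hom = c.π.app k := c.w j₀.hom
  have hπ1 : 𝒞.π.app j₀ ≫ pullback.fst (D.map j₀.hom) uk =
      pullback.fst (c.π.app k) uk ≫ c.π.app j₀.left := by simp [𝒞, pbCone]
  have hπ2 : 𝒞.π.app j₀ ≫ pullback.snd (D.map j₀.hom) uk = pullback.snd (c.π.app k) uk := by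
    simp [𝒞, pbCone]
  have hq1 : qj ≫ pullback.fst (D.map j₀.hom) uk = u ≫ c.π.app j₀.left := by
    simp only [qj, Category.assoc]
    rw [hπ1, ← Category.assoc, he1]
  have hq2 : qj ≫ pullback.snd (D.map j₀.hom) uk = q := by
    simp only [qj, Category.assoc]
    rw [hπ2, he2]
  have sqR : IsPullback (pullback.snd (D.map j₀.hom) uk) (pullback.fst (D.map j₀.hom) uk) uk
      (D.map j₀.hom) := (IsPullback.of_hasPullback (D.map j₀.hom) uk).flip
  have sqL : IsPullback qj u (pullback.fst (D.map j₀.hom) uk) (c.π.app j₀.left) := by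
    refine IsPullback.of_right (h₁₂ := pullback.snd (D.map j₀.hom) uk) (h₂₂ := D.map j₀.hom)
      (v₁₃ := uk) ?_ hq1 sqR
    rw [hq2, hw]
    exact H
  have hset : ∀ (W : Set X) {l : Over k} (al : j₀ ⟶ l) (Wl : Set (𝒟.obj l)),
      (⇑(𝒞.π.app l) ⁻¹' Wl : Set 𝒞.pt) = e.inv.base ⁻¹' W →
        qj.base ⁻¹' ((𝒟.map al).base ⁻¹' Wl) = W := by
    intro W l al Wl hWl
    have h1 : 𝒞.π.app j₀ ≫ 𝒟.map al = 𝒞.π.app l := 𝒞.w al
    have h2 : qj ≫ 𝒟.map al = e.hom ≫ 𝒞.π.app l := by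
      simp only [qj, Category.assoc]; rw [h1]
    ext x
    have h3 := Set.ext_iff.mp hWl (e.hom x)
    simp only [Set.mem_preimage] at h3 ⊢
    have h4 : (𝒟.map al) (qj x) = (𝒞.π.app l) (e.hom x) := by
      have := congrArg (fun φ : X ⟶ 𝒟.obj l => φ.base x) h2
      simp only [Scheme.Hom.comp_apply] at this
      exact this
    have h5 : e.inv (e.hom x) = x := by
      rw [← Scheme.Hom.comp_apply, e.hom_inv_id]; rfl
    rw [h5] at h3
    exact (congrArg (· ∈ Wl) h4).to_iff.trans h3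
  refine ⟨j₀.left, j₀.hom, 𝒟.obj j₀, pullback.fst (D.map j₀.hom) uk, qj,
    pullback.snd (D.map j₀.hom) uk, (𝒟.map a).base ⁻¹' Zj, (𝒟.map a').base ⁻¹' Z'j, sqL, sqR,
    (𝒟.map a).isConstructible_preimage hZj, (𝒟.map a').isConstructible_preimage hZ'j,
    hset Z a Zj hpre, hset Z' a' Z'j hpre'⟩

end Stage

end Groth.Agent.Helper5.FibTop
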