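import Mathlib
import Groth.Agent.Helper5.FibTop3
import Groth.Agent.Helper5.ConsLc6

set_option autoImplicit false
universe u

namespace Groth.Agent.Helper5.FibTop

open CategoryTheory CategoryTheory.Limits AlgebraicGeometry TopologicalSpace Topology
open Groth.Agent.Helper5.ConsPr Groth.Agent.Helper5.ConsLc
open Groth.Agent.Lead

variable {Φ : Rel.{u}} {X S : Scheme.{u}} (u : X ⟶ S)

set_option backward.isDefEq.respectTransparency false in
/-- (G3) over an affine base the locus is constructible -/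
theorem isConstructible_locus_affine (hΦ : InvOpenSurj Φ) (hD : Decided Φ) [IsAffine S]
    [LocallyOfFinitePresentation u] [QuasiCompact u] [QuasiSeparated u] (Z Z' : Set X)
    (hZ : IsConstructible Z) (hZ' : IsConstructible Z') : IsConstructible (locus Φ u Z Z') := by
  have hfg : (⊥ : Subalgebra ℤ Γ(S, ⊤)).FG := Subalgebra.fg_bot
  haveI := SubalgSys.isCofiltered hfg
  have hc : IsLimit (SubalgSys.cone Γ(S, ⊤) ⊥) := SubalgSys.coneIsLimit hfg
  haveI : ∀ (i j : (SubalgSys.Idx Γ(S, ⊤) ⊥)ᵒᵖ) (f : i ⟶ j),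
      IsAffineHom ((SubalgSys.D Γ(S, ⊤) ⊥).map f) := fun _ _ f => inferInstance
  haveI : ∀ i, CompactSpace ((SubalgSys.D Γ(S, ⊤) ⊥).obj i) := fun i => inferInstance
  haveI : ∀ i, QuasiSeparatedSpace ((SubalgSys.D Γ(S, ⊤) ⊥).obj i) := fun i => inferInstance
  let s : S ≅ (SubalgSys.cone Γ(S, ⊤) ⊥).pt := S.isoSpec
  obtain ⟨k, -, Xk, uk, q, h1, h2, h3, H⟩ :=
    exists_stage_model (SubalgSys.D Γ(S, ⊤) ⊥) (SubalgSys.cone Γ(S, ⊤) ⊥) hc
      (u ≫ s.hom) (Opposite.op (SubalgSys.base _ ⊥ hfg))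
  obtain ⟨j, b, Xj, uj, qj, pj, Zj, Z'j, sqL, sqR, hZj, hZ'j, e1, e2⟩ :=
    exists_descent_constructible₂ (SubalgSys.D Γ(S, ⊤) ⊥) (SubalgSys.cone Γ(S, ⊤) ⊥) hc
      (u ≫ s.hom) uk q H Z Z' hZ hZ'
  haveI : LocallyOfFiniteType uj :=
    MorphismProperty.of_isPullback sqR (inferInstance : LocallyOfFiniteType uk)
  haveI : QuasiCompact uj := MorphismProperty.of_isPullback sqR h2
  haveI := isNoetherian_stage j
  have hcons := isConstructible_locus_of_noeth uj hΦ hD Zj Z'j hZj hZ'j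
  have hloc := locus_of_isPullback hΦ sqL Zj Z'j
  rw [e1, e2] at hloc
  have sq0 : IsPullback (𝟙 X) u (u ≫ s.hom) s.hom := IsPullback.of_horiz_isIso ⟨by simp⟩
  have hloc0 := locus_of_isPullback hΦ sq0 Z Z'
  have hid : ∀ W : Set X, (𝟙 X : X ⟶ X).base ⁻¹' W = W := fun W => rfl
  rw [hid, hid, hloc] at hloc0
  rw [hloc0]
  exact s.hom.isConstructible_preimage
    (((SubalgSys.cone Γ(S, ⊤) ⊥).π.app j).isConstructible_preimage hcons)

/-- **Theorem G**: the locus of a fibrewise relation on locally constructible subsets that is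
invariant under open surjections and generically decided is locally constructible -/
theorem isLocallyConstructible_locus (hΦ : InvOpenSurj Φ) (hD : Decided Φ)
    [LocallyOfFinitePresentation u] [QuasiCompact u] [QuasiSeparated u] (Z Z' : Set X)
    (hZ : IsLocallyConstructible Z) (hZ' : IsLocallyConstructible Z') :
    IsLocallyConstructible (locus Φ u Z Z') := by
  apply IsLocallyConstructible.of_isOpenCover (U := fun U : S.affineOpens => U.1)
    (iSup_affineOpens_eq_top S)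
  intro U
  haveI : IsAffine (U.1 : Scheme.{u}) := U.2
  have sq : IsPullback (u ⁻¹ᵁ U.1).ι (u ∣_ U.1) u U.1.ι := (isPullback_morphismRestrict u U.1).flip
  haveI : LocallyOfFinitePresentation (u ∣_ U.1) := MorphismProperty.of_isPullback sq inferInstance
  haveI : QuasiCompact (u ∣_ U.1) := MorphismProperty.of_isPullback sq inferInstance
  haveI : QuasiSeparated (u ∣_ U.1) := MorphismProperty.of_isPullback sq inferInstance
  haveI : CompactSpace ↥(u ⁻¹ᵁ U.1 : Scheme.{u}) :=
    QuasiCompact.compactSpace_of_compactSpace (u ∣_ U.1)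
  haveI : QuasiSeparatedSpace ↥(u ⁻¹ᵁ U.1 : Scheme.{u}) :=
    quasiSeparatedSpace_of_quasiSeparated (u ∣_ U.1)
  have hZU : IsConstructible ((u ⁻¹ᵁ U.1).ι.base ⁻¹' Z) :=
    (hZ.preimage_of_isOpenEmbedding (u ⁻¹ᵁ U.1).ι.isOpenEmbedding).isConstructible
  have hZ'U : IsConstructible ((u ⁻¹ᵁ U.1).ι.base ⁻¹' Z') :=
    (hZ'.preimage_of_isOpenEmbedding (u ⁻¹ᵁ U.1).ι.isOpenEmbedding).isConstructible
  have h := isConstructible_locus_affine (u ∣_ U.1) hΦ hD _ _ hZU hZ'U
  rw [locus_of_isPullback hΦ sq Z Z'] at h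
  exact h.isLocallyConstructible

end Groth.Agent.Helper5.FibTop
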