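import Mathlib
import Groth.Agent.Helper5.FibTop4

set_option autoImplicit false
universe u

namespace Groth.Agent.Helper5.FibTop

open CategoryTheory CategoryTheory.Limits AlgebraicGeometry TopologicalSpace Topology

/-- `B` is contained in the closure of `A` -/
abbrev ΦDense : Rel.{u} := fun _ _ A B => B ⊆ closure A
/-- `A` is closed -/
abbrev ΦClosed : Rel.{u} := fun _ _ A _ => IsClosed A
/-- `A` is open -/
abbrev ΦOpen : Rel.{u} := fun _ _ A _ => IsOpen A
/-- `A` is locally closed -/
abbrev ΦLC : Rel.{u} := fun _ _ A _ => IsLocallyClosed A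

theorem invOpenSurj_dense : InvOpenSurj ΦDense.{u} := by
  intro T' T _ _ p hc ho hs A B
  show p ⁻¹' B ⊆ closure (p ⁻¹' A) ↔ B ⊆ closure A
  rw [← ho.preimage_closure_eq_closure_preimage hc]
  constructor
  · intro h b hb
    obtain ⟨t, rfl⟩ := hs b
    exact h hb
  · intro h
    exact Set.preimage_mono h

theorem invOpenSurj_closed : InvOpenSurj ΦClosed.{u} := by
  intro T' T _ _ p hc ho hs A B
  exact (ho.isQuotientMap hc hs).isClosed_preimage

theorem invOpenSurj_open : InvOpenSurj ΦOpen.{u} := by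
  intro T' T _ _ p hc ho hs A B
  exact (ho.isQuotientMap hc hs).isOpen_preimage

theorem invOpenSurj_lc : InvOpenSurj ΦLC.{u} := by
  intro T' T _ _ p hc ho hs A B
  show IsLocallyClosed (p ⁻¹' A) ↔ IsLocallyClosed A
  have h1 := (isLocallyClosed_tfae (p ⁻¹' A)).out 0 1
  have h2 := (isLocallyClosed_tfae A).out 0 1
  rw [h1, h2, coborder_preimage ho hc]
  exact (ho.isQuotientMap hc hs).isOpen_preimage

end Groth.Agent.Helper5.FibTop
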