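import Mathlib
import Groth.Agent.Helper5.FibTop5
import Groth.Agent.Helper5.GenFib3
import Groth.Agent.Helper5.RF4

set_option autoImplicit false
universe u

namespace Groth.Agent.Helper5.FibTop

open CategoryTheory CategoryTheory.Limits AlgebraicGeometry TopologicalSpace Topology

/-- the complement of a dense open subset of a Noetherian scheme over an irreducible base is
nowhere dense in the generic fibre -/
theorem isNowhereDense_generic_fibre {T S : Scheme.{u}} (g : T ⟶ S) [IrreducibleSpace S]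
    [NoetherianSpace T] (W : Set T) (hW : IsOpen W) (hWd : Dense W) :
    IsNowhereDense ((g.fiberι (genericPoint S)) ⁻¹' Wᶜ) := by
  have hcl : IsClosed ((g.fiberι (genericPoint S)) ⁻¹' Wᶜ) :=
    hW.isClosed_compl.preimage (g.fiberι (genericPoint S)).continuous
  rw [hcl.isNowhereDense_iff, Set.eq_empty_iff_forall_notMem]
  intro w hw
  rw [mem_interior] at hw
  obtain ⟨A, hAsub, hAo, hwA⟩ := hw
  obtain ⟨O₁, hO₁, hO₁A⟩ := (g.fiberι (genericPoint S)).isEmbedding.toIsInducing.isOpen_iff.1 hAo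
  set x := g.fiberι (genericPoint S) w with hx
  have hxO : x ∈ O₁ := by
    have : w ∈ (g.fiberι (genericPoint S)) ⁻¹' O₁ := by rw [hO₁A]; exact hwA
    exact this
  have hgx : g x = genericPoint S := Groth.Agent.Helper5.VarDim.apply_fiberι g _ w
  have hC := irreducibleComponent_mem_irreducibleComponents x
  obtain ⟨ξ, hξ⟩ := QuasiSober.sober hC.1 (isClosed_of_mem_irreducibleComponents _ hC)
  have hξx : ξ ⤳ x := by
    rw [specializes_iff_mem_closure, hξ.def]; exact mem_irreducibleComponent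
  have hξO : ξ ∈ O₁ := hξx.mem_open hO₁ hxO
  have hξW : ξ ∈ W := Groth.Agent.Helper5.RF4.generic_mem_of_dense hC ξ hξ W hW hWd
  have hgξ : g ξ = genericPoint S := by
    have h1 : g ξ ⤳ g x := hξx.map g.continuous
    rw [hgx] at h1
    have h2 : genericPoint S ⤳ g ξ := genericPoint_specializes _
    exact (h1.antisymm h2).eq
  have hξr : ξ ∈ Set.range (g.fiberι (genericPoint S)) := by
    rw [Scheme.Hom.range_fiberι]; exact hgξ
  obtain ⟨w', hw'⟩ := hξr
  have hw'A : w' ∈ A := by
    rw [← hO₁A]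
    show g.fiberι (genericPoint S) w' ∈ O₁
    rw [hw']; exact hξO
  have := hAsub hw'A
  rw [Set.mem_preimage, hw'] at this
  exact this hξW

/-- the key case of a locally closed subset -/
theorem closure_fibre_lc {X S : Scheme.{u}} (f : X ⟶ S) [IsIntegral S] [IsNoetherian S]
    [LocallyOfFiniteType f] [QuasiCompact f] (O O' : Set X) (hO : IsOpen O) (hO' : IsOpen O') :
    ∃ U : Set S, IsOpen U ∧ U.Nonempty ∧ ∀ s ∈ U,
      closure (O \ O') ∩ f.base ⁻¹' {s} ⊆ closure ((O \ O') ∩ f.base ⁻¹' {s}) := by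
  set Z := O \ O' with hZdef
  set T := closure Z with hTdef
  have hZT : Z = O ∩ T := by
    apply Set.Subset.antisymm
    · intro x hx
      exact ⟨hx.1, subset_closure hx⟩
    · rintro x ⟨hxO, hxT⟩
      refine ⟨hxO, ?_⟩
      have h1 : T ⊆ O'ᶜ := by
        rw [hTdef]
        exact hO'.isClosed_compl.closure_subset_iff.mpr (fun z hz => hz.2)
      exact h1 hxT
  let C : Closeds X := ⟨T, isClosed_closure⟩
  let I := Scheme.IdealSheafData.vanishingIdeal C
  let ι : I.subscheme ⟶ X := I.subschemeι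
  have hrange : Set.range ι = T := by
    rw [Scheme.IdealSheafData.range_subschemeι, Scheme.IdealSheafData.coe_support_vanishingIdeal]
    rfl
  let g : I.subscheme ⟶ S := ι ≫ f
  haveI : LocallyOfFiniteType g := inferInstance
  haveI : QuasiCompact g := inferInstance
  haveI : IsLocallyNoetherian I.subscheme := LocallyOfFiniteType.isLocallyNoetherian g
  haveI : CompactSpace ↥I.subscheme := QuasiCompact.compactSpace_of_compactSpace g
  haveI : IsNoetherian I.subscheme := {}
  haveI : NoetherianSpace ↥I.subscheme := inferInstance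
  let W : Set ↥I.subscheme := ι.base ⁻¹' O
  have hWo : IsOpen W := hO.preimage ι.continuous
  have hWd : Dense W := by
    rw [dense_iff_closure_eq, ι.isEmbedding.toIsInducing.closure_eq_preimage_closure_image,
      Set.image_preimage_eq_inter_range, hrange, ← hZT]
    ext t
    simp only [Set.mem_preimage, Set.mem_univ, iff_true]
    show ι t ∈ T
    rw [← hrange]; exact ⟨t, rfl⟩
  have hnd := isNowhereDense_generic_fibre g W hWo hWd
  obtain ⟨V, hVne, hV⟩ := Groth.Agent.Helper5.GenFib.s1298 g Wᶜ hWo.isClosed_compl hnd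
  refine ⟨V, V.2, hVne, ?_⟩
  rintro y hy x ⟨hxT, hxy⟩
  rw [← hrange] at hxT
  obtain ⟨t, rfl⟩ := hxT
  have hgt : g t = y := by
    show (ι ≫ f) t = y
    rw [Scheme.Hom.comp_apply]; exact hxy
  have htr : t ∈ Set.range (g.fiberι y) := by
    rw [Scheme.Hom.range_fiberι]; exact hgt
  obtain ⟨w, rfl⟩ := htr
  have hcl : IsClosed ((g.fiberι y) ⁻¹' Wᶜ) :=
    hWo.isClosed_compl.preimage (g.fiberι y).continuous
  have hdo := (isClosed_isNowhereDense_iff_compl.1 ⟨hcl, hV y hy⟩)
  have hwcl : w ∈ closure ((g.fiberι y) ⁻¹' Wᶜ)ᶜ := hdo.2 w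
  let φ : ↥(g.fiber y) → X := fun w => ι (g.fiberι y w)
  have hφ : Continuous φ := ι.continuous.comp (g.fiberι y).continuous
  have h1 : φ w ∈ closure (φ '' ((g.fiberι y) ⁻¹' Wᶜ)ᶜ) :=
    image_closure_subset_closure_image hφ ⟨w, hwcl, rfl⟩
  refine closure_mono ?_ h1
  rintro _ ⟨w', hw', rfl⟩
  have hw'W : g.fiberι y w' ∈ W := by
    by_contra hcon
    exact hw' hcon
  refine ⟨?_, ?_⟩
  · rw [hZT]
    refine ⟨hw'W, ?_⟩
    rw [← hrange]; exact ⟨_, rfl⟩
  · show f (ι (g.fiberι y w')) = y
    rw [← Scheme.Hom.comp_apply]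
    exact Groth.Agent.Helper5.VarDim.apply_fiberι g y w'

end Groth.Agent.Helper5.FibTop
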