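import Mathlib
import Groth.Agent.Helper5.FibFlat4
import Groth.Agent.Helper5.ConsLc2
import Groth.Agent.Helper5.KLem11
import Groth.Agent.Helper2.FlatLocusSch

set_option autoImplicit false
universe u

namespace Groth.Agent.Helper5.FlatCons

open CategoryTheory CategoryTheory.Limits AlgebraicGeometry TopologicalSpace Topology
open Groth.Agent.Helper5.ConsPr Groth.Agent.Helper5.ConsLc

theorem flat_codescends : RingHom.CodescendsAlong RingHom.Flat RingHom.FaithfullyFlat := by
  refine .mk _ RingHom.Flat.respectsIso fun R S T _ _ _ _ _ h h' ↦ ?_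
  rw [RingHom.flat_algebraMap_iff] at h' ⊢
  rw [RingHom.faithfullyFlat_algebraMap_iff] at h
  exact Module.Flat.of_flat_tensorProduct R T S

instance flat_descends :
    MorphismProperty.DescendsAlong @Flat
      (@Surjective ⊓ @Flat ⊓ @QuasiCompact : MorphismProperty Scheme.{u}) :=
  HasRingHomProperty.descendsAlong_flat flat_codescends

/-- a locally constructible subset of an irreducible scheme or its complement contains a non-empty
open subset -/
theorem cons_decide {S : Scheme.{u}} [IrreducibleSpace S] (E : Set S)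
    (hE : IsLocallyConstructible E) :
    (interior E).Nonempty ∨ (interior Eᶜ).Nonempty := by
  let η := genericPoint S
  have hηmax : ∀ η' : S, η' ⤳ η → η' = η := by
    intro η' hη'
    have h1 : η ⤳ η' := by
      rw [specializes_iff_mem_closure, genericPoint_closure]; trivial
    exact (hη'.antisymm h1).eq
  by_cases hη : η ∈ E
  · left
    refine ⟨η, mem_interior_iff_mem_nhds.mpr ?_⟩
    refine Groth.Agent.Helper5.KLem.mem_nhds_of_isLocallyConstructible _ hE η ?_
    intro t ht
    rw [hηmax t ht]
    exact hη
  · right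
    refine ⟨η, mem_interior_iff_mem_nhds.mpr ?_⟩
    refine Groth.Agent.Helper5.KLem.mem_nhds_of_isLocallyConstructible _
      (Groth.Agent.Helper5.KLem.isLocallyConstructible_compl hE) η ?_
    intro t ht
    rw [hηmax t ht]
    exact hη

/-- a morphism factoring through a monomorphism is the pullback of itself along it -/
theorem isPullback_of_mono_fac {F V X : Scheme.{u}} (m : V ⟶ X) [Mono m] (k : F ⟶ V) (a : F ⟶ X)
    (h : k ≫ m = a) : IsPullback k (𝟙 F) m a := by
  refine ⟨⟨by rw [h, Category.id_comp]⟩, ⟨PullbackCone.IsLimit.mk _ (fun s => s.snd) ?_ ?_ ?_⟩⟩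
  · intro s
    rw [← cancel_mono m, Category.assoc, h, s.condition]
  · intro s
    exact Category.comp_id _
  · intro s l _ h2
    rw [← h2, Category.comp_id]

variable {X Y S : Scheme.{u}} (f : X ⟶ Y) (g : Y ⟶ S)

/-- flatness of the fibre map, one direction: if `f` is flat at all points over `s` -/
theorem flat_fiberMap_of_forall [LocallyOfFinitePresentation f] (s : S)
    (H : ∀ x : X, (f ≫ g) x = s → (f.stalkMap x).hom.Flat) : Flat (MoreMor.fiberMap f g s) := by
  let V : X.Opens := ⟨{x : X | (f.stalkMap x).hom.Flat},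
    Groth.Agent.Helper2.FlatLocusSch.isOpen_flat_locus f⟩
  have hflat : Flat (V.ι ≫ f) := by
    rw [Flat.iff_flat_stalkMap]
    intro x'
    rw [Scheme.Hom.stalkMap_comp]
    have h1 : (f.stalkMap (V.ι x')).hom.Flat := x'.2
    have h2 : (V.ι.stalkMap x').hom.Flat := Flat.stalkMap V.ι x'
    exact RingHom.Flat.comp h1 h2
  let a := (f ≫ g).fiberι s
  have hrange : Set.range a ⊆ Set.range V.ι := by
    rintro _ ⟨p, rfl⟩
    rw [Scheme.Opens.range_ι]
    have hp : a p ∈ Set.range a := ⟨p, rfl⟩
    rw [Scheme.Hom.range_fiberι] at hp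
    exact H _ hp
  let k := IsOpenImmersion.lift V.ι a hrange
  have hk : k ≫ V.ι = a := IsOpenImmersion.lift_fac _ _ _
  have sq1 := isPullback_of_mono_fac V.ι k a hk
  have sq2 := isPullback_fiberMap f g s
  have sq := sq1.paste_vert sq2
  rw [Category.id_comp] at sq
  exact MorphismProperty.of_isPullback sq hflat

/-- flatness of the fibre map, other direction (fibre criterion) -/
theorem forall_of_flat_fiberMap [LocallyOfFinitePresentation (f ≫ g)] [LocallyOfFiniteType g]
    [Flat (f ≫ g)] (s : S) (h : Flat (MoreMor.fiberMap f g s)) (x : X) (hx : (f ≫ g) x = s) :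
    (f.stalkMap x).hom.Flat := by
  subst hx
  obtain ⟨p, hp⟩ := Groth.Agent.Helper5.FibFlat.exists_lift_point f g x
  have sq2 := isPullback_fiberMap f g (g (f x))
  have sq3 : IsPullback (pullback.fst f (g.fiberι (g (f x)))) (pullback.snd f (g.fiberι (g (f x)))) f
      (g.fiberι (g (f x))) := IsPullback.of_hasPullback _ _
  let e := sq3.isoIsPullback _ _ sq2
  have he : e.hom ≫ MoreMor.fiberMap f g (g (f x)) = pullback.snd f (g.fiberι (g (f x))) :=
    sq3.isoIsPullback_hom_snd _ _ sq2
  have hfl : Flat (pullback.snd f (g.fiberι (g (f x)))) := by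
    rw [← he]
    exact (MorphismProperty.cancel_left_of_respectsIso (P := @Flat) e.hom _).mpr h
  have := (Groth.Agent.Helper5.FibFlat.flat_of_fibre_flat f g (g (f x)) p (Flat.stalkMap _ p)).2
  rw [hp] at this
  exact this

end Groth.Agent.Helper5.FlatCons
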