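import Mathlib
import Groth.Agent.Helper5.FibTop6
import Groth.Agent.Helper5.FlatCons1

set_option autoImplicit false
universe u

namespace Groth.Agent.Helper5.FibTop

open CategoryTheory CategoryTheory.Limits AlgebraicGeometry TopologicalSpace Topology
open Groth.Agent.Helper5.ConsLc

section Top

variable {X : Type*} [TopologicalSpace X] (F A B : Set X)

theorem mem_closure_subtype_iff (x : F) :
    x ∈ closure (Subtype.val ⁻¹' A : Set F) ↔ x.1 ∈ closure (A ∩ F) := by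
  rw [closure_subtype, Subtype.image_preimage_coe, Set.inter_comm]

theorem subtype_dense_iff :
    (Subtype.val ⁻¹' B : Set F) ⊆ closure (Subtype.val ⁻¹' A) ↔ B ∩ F ⊆ closure (A ∩ F) := by
  constructor
  · rintro h x ⟨hxB, hxF⟩
    exact (mem_closure_subtype_iff F A ⟨x, hxF⟩).mp (h hxB)
  · intro h x hx
    exact (mem_closure_subtype_iff F A x).mpr (h ⟨hx, x.2⟩)

theorem subtype_closed_iff :
    IsClosed (Subtype.val ⁻¹' A : Set F) ↔ closure (A ∩ F) ∩ F ⊆ A := by
  rw [← closure_subset_iff_isClosed]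
  constructor
  · rintro h x ⟨hx1, hxF⟩
    exact h ((mem_closure_subtype_iff F A ⟨x, hxF⟩).mpr hx1)
  · intro h x hx
    exact h ⟨(mem_closure_subtype_iff F A x).mp hx, x.2⟩

end Top

variable {X S : Scheme.{u}} (f : X ⟶ S)

theorem noeth_instances [IsNoetherian S] [LocallyOfFiniteType f] [QuasiCompact f] :
    IsNoetherian X ∧ LocallyOfFinitePresentation f := by
  have hXN1 : IsLocallyNoetherian X := LocallyOfFiniteType.isLocallyNoetherian f
  have hXN2 : CompactSpace X := QuasiCompact.compactSpace_of_compactSpace f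
  exact ⟨{}, LocallyOfFinitePresentation.iff_locallyOfFiniteType.mpr inferInstance⟩

/-- EGA IV 9.5.2: taking closures commutes with passing to the fibres over a non-empty open -/
theorem exists_open_closure_fibre [IsIntegral S] [IsNoetherian S] [LocallyOfFiniteType f]
    [QuasiCompact f] (Z : Set X) (hZ : IsConstructible Z) :
    ∃ U : Set S, IsOpen U ∧ U.Nonempty ∧ ∀ s ∈ U,
      closure Z ∩ f.base ⁻¹' {s} ⊆ closure (Z ∩ f.base ⁻¹' {s}) := by
  obtain ⟨hXN, -⟩ := noeth_instances f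
  haveI : NoetherianSpace X := inferInstance
  haveI : CompactSpace X := inferInstance
  haveI : QuasiSeparatedSpace X := ⟨fun U V _ _ _ _ => NoetherianSpace.isCompact _⟩
  have hbasis : IsTopologicalBasis (Set.range fun U : Opens X => (U : Set X)) := by
    convert isTopologicalBasis_opens (α := X)
    ext U
    exact ⟨fun ⟨V, hV⟩ => hV ▸ V.2, fun h => ⟨⟨U, h⟩, rfl⟩⟩
  refine IsConstructible.induction_of_isTopologicalBasis
    (P := fun Z _ => ∃ U : Set S, IsOpen U ∧ U.Nonempty ∧ ∀ s ∈ U,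
      closure Z ∩ f.base ⁻¹' {s} ⊆ closure (Z ∩ f.base ⁻¹' {s}))
    (fun U : Opens X => (U : Set X)) hbasis (fun U => NoetherianSpace.isCompact _) ?_ ?_ Z hZ
  · intro i s hs
    exact closure_fibre_lc f (i : Set X) (⋃ j ∈ s, (j : Set X)) i.2
      (isOpen_biUnion fun j _ => j.2)
  · rintro A hA B hB ⟨U₁, hU₁, hU₁ne, h₁⟩ ⟨U₂, hU₂, hU₂ne, h₂⟩
    refine ⟨U₁ ∩ U₂, hU₁.inter hU₂, nonempty_preirreducible_inter hU₁ hU₂ hU₁ne hU₂ne, ?_⟩
    rintro s ⟨hs1, hs2⟩ x ⟨hx, hxs⟩
    rw [closure_union] at hx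
    rcases hx with hx | hx
    · exact closure_mono (Set.inter_subset_inter_left _ Set.subset_union_left) (h₁ s hs1 ⟨hx, hxs⟩)
    · exact closure_mono (Set.inter_subset_inter_left _ Set.subset_union_right) (h₂ s hs2 ⟨hx, hxs⟩)

/-- a set agreeing over a non-empty open with a generically decided set is generically decided -/
theorem decided_of_eqOn [IrreducibleSpace S] (E E' U : Set S) (hU : IsOpen U) (hUne : U.Nonempty)
    (h : ∀ s ∈ U, s ∈ E ↔ s ∈ E')
    (hE' : (interior E').Nonempty ∨ (interior E'ᶜ).Nonempty) :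
    (interior E).Nonempty ∨ (interior Eᶜ).Nonempty := by
  rcases hE' with hE' | hE'
  · left
    obtain ⟨t, ht⟩ := nonempty_preirreducible_inter hU isOpen_interior hUne hE'
    refine ⟨t, mem_interior.mpr ⟨U ∩ interior E', ?_, hU.inter isOpen_interior, ht⟩⟩
    rintro s ⟨hsU, hsE'⟩
    exact (h s hsU).mpr (interior_subset hsE')
  · right
    obtain ⟨t, ht⟩ := nonempty_preirreducible_inter hU isOpen_interior hUne hE'
    refine ⟨t, mem_interior.mpr ⟨U ∩ interior E'ᶜ, ?_, hU.inter isOpen_interior, ht⟩⟩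
    rintro s ⟨hsU, hsE'⟩ hsE
    exact (interior_subset hsE') ((h s hsU).mp hsE)

theorem decided_dense : Decided ΦDense.{u} := by
  intro X S f _ _ _ _ Z Z' hZ hZ'
  obtain ⟨hXN, hfp⟩ := noeth_instances f
  haveI : NoetherianSpace X := inferInstance
  obtain ⟨U₁, hU₁, hU₁ne, h₁⟩ := exists_open_closure_fibre f Z hZ
  let C : Set S := f.base '' (Z' \ closure Z)
  have hC : IsLocallyConstructible C :=
    f.isLocallyConstructible_image
      (hZ'.sdiff (isConstructible_of_isClosed_noeth isClosed_closure)).isLocallyConstructible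
  have hdec := Groth.Agent.Helper5.FlatCons.cons_decide Cᶜ
    (Groth.Agent.Helper5.KLem.isLocallyConstructible_compl hC)
  refine decided_of_eqOn (locus ΦDense f Z Z') Cᶜ U₁ hU₁ hU₁ne ?_ hdec
  intro s hs
  show (Subtype.val ⁻¹' Z' : Set ↥(f.base ⁻¹' {s})) ⊆ closure (Subtype.val ⁻¹' Z) ↔ s ∈ Cᶜ
  rw [subtype_dense_iff]
  constructor
  · rintro h ⟨x, ⟨hxZ', hxcl⟩, hxs⟩
    exact hxcl (closure_mono Set.inter_subset_left (h ⟨hxZ', hxs⟩))
  · rintro h x ⟨hxZ', hxs⟩
    apply h₁ s hs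
    refine ⟨?_, hxs⟩
    by_contra hcon
    exact h ⟨x, ⟨hxZ', hcon⟩, hxs⟩

theorem decided_closed : Decided ΦClosed.{u} := by
  intro X S f _ _ _ _ Z Z' hZ hZ'
  obtain ⟨hXN, hfp⟩ := noeth_instances f
  haveI : NoetherianSpace X := inferInstance
  obtain ⟨U₁, hU₁, hU₁ne, h₁⟩ := exists_open_closure_fibre f Z hZ
  let C : Set S := f.base '' (closure Z \ Z)
  have hC : IsLocallyConstructible C :=
    f.isLocallyConstructible_image
      ((isConstructible_of_isClosed_noeth isClosed_closure).sdiff hZ).isLocallyConstructible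
  have hdec := Groth.Agent.Helper5.FlatCons.cons_decide Cᶜ
    (Groth.Agent.Helper5.KLem.isLocallyConstructible_compl hC)
  refine decided_of_eqOn (locus ΦClosed f Z Z') Cᶜ U₁ hU₁ hU₁ne ?_ hdec
  intro s hs
  show IsClosed (Subtype.val ⁻¹' Z : Set ↥(f.base ⁻¹' {s})) ↔ s ∈ Cᶜ
  rw [subtype_closed_iff]
  constructor
  · rintro h ⟨x, ⟨hxcl, hxZ⟩, hxs⟩
    exact hxZ (h ⟨h₁ s hs ⟨hxcl, hxs⟩, hxs⟩)
  · rintro h x ⟨hxcl, hxs⟩
    by_contra hcon
    exact h ⟨x, ⟨closure_mono Set.inter_subset_left hxcl, hcon⟩, hxs⟩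

theorem locus_open_eq (Z Z' : Set X) : locus ΦOpen f Z Z' = locus ΦClosed f Zᶜ Z' := by
  ext s
  show IsOpen (Subtype.val ⁻¹' Z : Set ↥(f.base ⁻¹' {s})) ↔
    IsClosed (Subtype.val ⁻¹' Zᶜ : Set ↥(f.base ⁻¹' {s}))
  rw [Set.preimage_compl, isClosed_compl_iff]

theorem decided_open : Decided ΦOpen.{u} := by
  intro X S f _ _ _ _ Z Z' hZ hZ'
  rw [locus_open_eq]
  exact decided_closed f Zᶜ Z' hZ.compl hZ'

theorem decided_lc : Decided ΦLC.{u} := by
  intro X S f _ _ _ _ Z Z' hZ hZ'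
  obtain ⟨hXN, hfp⟩ := noeth_instances f
  haveI : NoetherianSpace X := inferInstance
  obtain ⟨U₁, hU₁, hU₁ne, h₁⟩ := exists_open_closure_fibre f Z hZ
  have hcons : IsConstructible (closure Z \ Z) :=
    (isConstructible_of_isClosed_noeth isClosed_closure).sdiff hZ
  refine decided_of_eqOn (locus ΦLC f Z Z') (locus ΦClosed f (closure Z \ Z) Z') U₁ hU₁ hU₁ne ?_
    (decided_closed f _ Z' hcons hZ')
  intro s hs
  show IsLocallyClosed (Subtype.val ⁻¹' Z : Set ↥(f.base ⁻¹' {s})) ↔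
    IsClosed (Subtype.val ⁻¹' (closure Z \ Z) : Set ↥(f.base ⁻¹' {s}))
  have h2 := (isLocallyClosed_tfae (Subtype.val ⁻¹' Z : Set ↥(f.base ⁻¹' {s}))).out 0 1
  rw [h2, coborder, isOpen_compl_iff]
  have heq : closure (Subtype.val ⁻¹' Z : Set ↥(f.base ⁻¹' {s})) \ (Subtype.val ⁻¹' Z) =
      Subtype.val ⁻¹' (closure Z \ Z) := by
    ext x
    simp only [Set.mem_diff, Set.mem_preimage]
    rw [mem_closure_subtype_iff]
    constructor
    · rintro ⟨hx1, hx2⟩
      exact ⟨closure_mono Set.inter_subset_left hx1, hx2⟩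
    · rintro ⟨hx1, hx2⟩
      exact ⟨h₁ s hs ⟨hx1, x.2⟩, hx2⟩
  rw [heq]

end Groth.Agent.Helper5.FibTop
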