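import Mathlib
import Groth.Agent.Helper5.FibTop7
import Groth.Agent.Lead.FibLocus2

set_option autoImplicit false
universe u

namespace Groth.Agent.Helper5.FibTop

open CategoryTheory CategoryTheory.Limits AlgebraicGeometry TopologicalSpace Topology
open Groth.Agent.Lead.FibLocus

variable {X S : Scheme.{u}}

/-- S3427 -/
theorem s3427 (f : X ⟶ S) [LocallyOfFinitePresentation f]
    [QuasiCompact f] [QuasiSeparated f] (Z Z' : Set X) (hZ : Topology.IsLocallyConstructible Z)
    (hZ' : Topology.IsLocallyConstructible Z') :
    Topology.IsLocallyConstructible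
      {s : S | Z' ∩ f.base ⁻¹' {s} ⊆ closure (Z ∩ f.base ⁻¹' {s})} := by
  have h := isLocallyConstructible_locus f invOpenSurj_dense decided_dense Z Z' hZ hZ'
  convert h using 1
  ext s
  exact (subtype_dense_iff (f.base ⁻¹' {s}) Z Z').symm

/-- S3428 -/
theorem s3428 (f : X ⟶ S)
    [LocallyOfFinitePresentation f] [QuasiCompact f] [QuasiSeparated f] (Z : Set X)
    (hZ : Topology.IsLocallyConstructible Z) :
    Topology.IsLocallyConstructible {s : S | IsClosed (Subtype.val ⁻¹' Z : Set ↥(f.base ⁻¹' {s}))} ∧
      Topology.IsLocallyConstructible {s : S | IsOpen (Subtype.val ⁻¹' Z : Set ↥(f.base ⁻¹' {s}))} ∧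
      Topology.IsLocallyConstructible
        {s : S | IsLocallyClosed (Subtype.val ⁻¹' Z : Set ↥(f.base ⁻¹' {s}))} :=
  ⟨isLocallyConstructible_locus f invOpenSurj_closed decided_closed Z Z hZ hZ,
    isLocallyConstructible_locus f invOpenSurj_open decided_open Z Z hZ hZ,
    isLocallyConstructible_locus f invOpenSurj_lc decided_lc Z Z hZ hZ⟩

theorem dense_iff_image {A B : Type*} [TopologicalSpace A] [TopologicalSpace B] (H : A ≃ₜ B)
    (R : Set A) (R' : Set B) (h : H '' R = R') : Dense R ↔ (Set.univ : Set B) ⊆ closure R' := by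
  rw [← h, ← H.image_closure, Set.univ_subset_iff, dense_iff_closure_eq]
  constructor
  · intro h
    rw [h, Set.image_univ]
    exact H.surjective.range_eq
  · intro h
    have := congrArg (fun A => H ⁻¹' A) h
    simpa [Set.preimage_image_eq _ H.injective] using this

/-- dominance of the fibre map in terms of the topological fibre -/
theorem isDominant_fibMap_iff {Y : Scheme.{u}} (f : X ⟶ Y) (g : Y ⟶ S) (s : S) :
    IsDominant (fibMap f g s) ↔ s ∈ locus ΦDense g (Set.range f.base) Set.univ := by
  have sq := isPullback_fibMap f g s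
  let H : ↥(pullback g (S.fromSpecResidueField s)) ≃ₜ ↥(g.base ⁻¹' {s}) := g.fiberHomeo s
  have hH : ∀ w, (H w).1 = (pullback.fst g (S.fromSpecResidueField s)).base w :=
    fun w => Scheme.Hom.fiberHomeo_apply g s w
  have himg : H '' (Set.range (fibMap f g s).base) = Subtype.val ⁻¹' (Set.range f.base) := by
    ext z
    constructor
    · rintro ⟨_, ⟨v, rfl⟩, rfl⟩
      refine ⟨(pullback.fst (f ≫ g) (S.fromSpecResidueField s)).base v, ?_⟩
      show f.base _ = (H ((fibMap f g s).base v)).1
      rw [hH]
      have := congrArg (fun φ : pullback (f ≫ g) (S.fromSpecResidueField s) ⟶ Y => φ.base v) sq.w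
      simp only [Scheme.Hom.comp_apply] at this
      exact this
    · rintro ⟨x, hx⟩
      obtain ⟨w, rfl⟩ := H.surjective z
      have hw : f.base x = (pullback.fst g (S.fromSpecResidueField s)).base w := by
        rw [hx]
        exact hH w
      obtain ⟨v, -, hv⟩ := Scheme.exists_preimage_of_isPullback sq x w hw
      exact ⟨w, ⟨v, hv⟩, rfl⟩
  rw [isDominant_iff]
  exact dense_iff_image H _ _ himg

/-- S3425 -/
theorem s3425 {Y : Scheme.{u}} (f : X ⟶ Y) (g : Y ⟶ S)
    [LocallyOfFinitePresentation g] [QuasiCompact g] [QuasiSeparated g]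
    [LocallyOfFinitePresentation (f ≫ g)] [QuasiCompact (f ≫ g)] [QuasiSeparated (f ≫ g)] :
    Topology.IsLocallyConstructible {s : S | IsDominant (fibMap f g s)} := by
  have hfp : LocallyOfFinitePresentation f :=
    Groth.Agent.Helper2.LfpComp.locallyOfFinitePresentation_of_comp f g inferInstance inferInstance
  have hfc : QuasiCompact f := QuasiCompact.of_comp f g
  have hr : IsLocallyConstructible (Set.range f.base) := by
    have := f.isLocallyConstructible_image IsLocallyConstructible.univ
    rwa [Set.image_univ] at this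
  have h := isLocallyConstructible_locus g invOpenSurj_dense decided_dense (Set.range f.base)
    Set.univ hr IsLocallyConstructible.univ
  convert h using 1
  ext s
  exact isDominant_fibMap_iff f g s

end Groth.Agent.Helper5.FibTop
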