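import Mathlib
import Groth.Prelude.Def_W4ega4s0809p4Pair
import Groth.Agent.Helper5.ConsPr5

set_option autoImplicit false
universe u

namespace Groth.Agent.Helper5.CPair

open CategoryTheory CategoryTheory.Limits AlgebraicGeometry TopologicalSpace Topology

/-- base change of a morphism over a base -/
theorem exists_baseChange_hom {X₁ Y₁ T₁ X₂ Y₂ T₂ : Scheme.{u}} {gX₁ : X₁ ⟶ T₁} {gY₁ : Y₁ ⟶ T₁}
    (g₁ : X₁ ⟶ Y₁) (hg₁ : g₁ ≫ gY₁ = gX₁)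
    {a : T₂ ⟶ T₁} {ρX : X₂ ⟶ X₁} {gX₂ : X₂ ⟶ T₂} {ρY : Y₂ ⟶ Y₁} {gY₂ : Y₂ ⟶ T₂}
    (sqX : IsPullback ρX gX₂ gX₁ a) (sqY : IsPullback ρY gY₂ gY₁ a) :
    ∃ g₂ : X₂ ⟶ Y₂, g₂ ≫ gY₂ = gX₂ ∧ IsPullback ρX g₂ g₁ ρY := by
  have hw : (ρX ≫ g₁) ≫ gY₁ = gX₂ ≫ a := by rw [Category.assoc, hg₁, sqX.w]
  refine ⟨sqY.lift (ρX ≫ g₁) gX₂ hw, sqY.lift_snd _ _ _, ?_⟩
  refine IsPullback.of_bot (v₂₁ := gY₂) (v₂₂ := gY₁) (h₃₁ := a) ?_ (sqY.lift_fst _ _ _).symm sqY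
  rw [sqY.lift_snd, hg₁]
  exact sqX

/-- the relation "after some field extension there is a morphism with property `Q`" -/
def Rel (Q : MorphismProperty Scheme.{u}) ⦃X Y T : Scheme.{u}⦄ (gX : X ⟶ T) (gY : Y ⟶ T) : Prop :=
  ∃ (T' X' Y' : Scheme.{u}) (h : T' ⟶ T) (gX' : X' ⟶ T') (gY' : Y' ⟶ T')
    (eX : X' ⟶ X) (eY : Y' ⟶ Y), IsIntegral T' ∧ Subsingleton ↥T' ∧
      IsPullback eX gX' gX h ∧ IsPullback eY gY' gY h ∧
        ∃ g : X' ⟶ Y', g ≫ gY' = gX' ∧ Q g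

/-- field stability of `Rel Q` -/
theorem fieldStable_rel (Q : MorphismProperty Scheme.{u}) [Q.IsStableUnderBaseChange] :
    ConsPropPair.IsFieldStablePair (Rel Q) := by
  intro X X' Y Y' T T' gX gY gX' gY' eX eY h _ _ _ _ _ _ _ _ sqX sqY
  constructor
  · rintro ⟨T₁, X₁, Y₁, h₁, gX₁, gY₁, eX₁, eY₁, hT₁i, hT₁s, sqX₁, sqY₁, g₁, hg₁, hP⟩
    -- a point of the fibre product of `T₁` and `T'`
    have : Nonempty ↥T₁ := inferInstance
    have : Nonempty ↥T' := inferInstance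
    obtain ⟨t, -, -⟩ := Scheme.Pullback.exists_preimage_pullback (f := h₁) (g := h)
      (Nonempty.some inferInstance) (Nonempty.some inferInstance) (Subsingleton.elim _ _)
    let T₂ : Scheme.{u} := Spec ((pullback h₁ h).residueField t)
    obtain ⟨a, b, hab⟩ : ∃ (a : T₂ ⟶ T₁) (b : T₂ ⟶ T'), a ≫ h₁ = b ≫ h :=
      ⟨(pullback h₁ h).fromSpecResidueField t ≫ pullback.fst h₁ h,
        (pullback h₁ h).fromSpecResidueField t ≫ pullback.snd h₁ h, by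
          simp only [Category.assoc, pullback.condition]⟩
    -- base change of `X'`, `Y'` to `T₂`
    have sqX₂' : IsPullback (pullback.fst gX' b) (pullback.snd gX' b) gX' b :=
      IsPullback.of_hasPullback _ _
    have sqY₂' : IsPullback (pullback.fst gY' b) (pullback.snd gY' b) gY' b :=
      IsPullback.of_hasPullback _ _
    -- they are also base changes of `X₁`, `Y₁`
    have hwX : (pullback.fst gX' b ≫ eX) ≫ gX = (pullback.snd gX' b ≫ a) ≫ h₁ := by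
      rw [Category.assoc, sqX.w, ← Category.assoc, sqX₂'.w, Category.assoc, Category.assoc, hab]
    have hwY : (pullback.fst gY' b ≫ eY) ≫ gY = (pullback.snd gY' b ≫ a) ≫ h₁ := by
      rw [Category.assoc, sqY.w, ← Category.assoc, sqY₂'.w, Category.assoc, Category.assoc, hab]
    let ρX : pullback gX' b ⟶ X₁ := sqX₁.lift (pullback.fst gX' b ≫ eX) (pullback.snd gX' b ≫ a) hwX
    let ρY : pullback gY' b ⟶ Y₁ := sqY₁.lift (pullback.fst gY' b ≫ eY) (pullback.snd gY' b ≫ a) hwY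
    have sqX₂ : IsPullback ρX (pullback.snd gX' b) gX₁ a := by
      refine IsPullback.of_right (h₁₂ := eX₁) (h₂₂ := h₁) (v₁₃ := gX) ?_ (sqX₁.lift_snd _ _ _) sqX₁
      rw [sqX₁.lift_fst, hab]
      exact sqX₂'.paste_horiz sqX
    have sqY₂ : IsPullback ρY (pullback.snd gY' b) gY₁ a := by
      refine IsPullback.of_right (h₁₂ := eY₁) (h₂₂ := h₁) (v₁₃ := gY) ?_ (sqY₁.lift_snd _ _ _) sqY₁
      rw [sqY₁.lift_fst, hab]
      exact sqY₂'.paste_horiz sqY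
    obtain ⟨g₂, hg₂, sqg⟩ := exists_baseChange_hom g₁ hg₁ sqX₂ sqY₂
    refine ⟨T₂, pullback gX' b, pullback gY' b, b, pullback.snd gX' b, pullback.snd gY' b,
      pullback.fst gX' b, pullback.fst gY' b, inferInstance, ?_, sqX₂', sqY₂', g₂, hg₂, ?_⟩
    · exact inferInstanceAs (Subsingleton (PrimeSpectrum ((pullback h₁ h).residueField t)))
    · exact MorphismProperty.of_isPullback sqg hP
  · rintro ⟨T₁, X₁, Y₁, h₁, gX₁, gY₁, eX₁, eY₁, hT₁i, hT₁s, sqX₁, sqY₁, g₁, hg₁, hP⟩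
    exact ⟨T₁, X₁, Y₁, h₁ ≫ h, gX₁, gY₁, eX₁ ≫ eX, eY₁ ≫ eY, hT₁i, hT₁s,
      sqX₁.paste_horiz sqX, sqY₁.paste_horiz sqY, g₁, hg₁, hP⟩

end Groth.Agent.Helper5.CPair
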