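import Mathlib
import Groth.Agent.Helper5.CPair2
import Groth.Agent.Helper5.GenFib1

set_option autoImplicit false
universe u

namespace Groth.Agent.Helper5.CPair

open CategoryTheory CategoryTheory.Limits AlgebraicGeometry TopologicalSpace Topology

/-- Lemma D: a morphism with property `Q` between the base changes of two families to a reduced
scheme dominating the base yields the relation on the fibres over a non-empty open. -/
theorem rel_fibres_of_model (Q : MorphismProperty Scheme.{u}) [Q.IsStableUnderBaseChange]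
    {X Y S Z XZ YZ : Scheme.{u}} (u : X ⟶ S) (v : Y ⟶ S) (σ : Z ⟶ S)
    {eX : XZ ⟶ X} {gX : XZ ⟶ Z} {eY : YZ ⟶ Y} {gY : YZ ⟶ Z}
    (sqX : IsPullback eX gX u σ) (sqY : IsPullback eY gY v σ)
    (g : XZ ⟶ YZ) (hg : g ≫ gY = gX) (hQ : Q g) (z : Z) :
    Rel Q (u.fiberToSpecResidueField (σ z)) (v.fiberToSpecResidueField (σ z)) := by
  let s := σ z
  let h : Spec (Z.residueField z) ⟶ Spec (S.residueField s) := Spec.map (σ.residueFieldMap z)
  obtain ⟨a, ha⟩ : ∃ a : Spec (Z.residueField z) ⟶ Z, h ≫ S.fromSpecResidueField s = a ≫ σ :=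
    ⟨Z.fromSpecResidueField z, Scheme.Hom.SpecMap_residueFieldMap_fromSpecResidueField σ z⟩
  have key : ∀ {W WZ : Scheme.{u}} (w : W ⟶ S) {eW : WZ ⟶ W} {gW : WZ ⟶ Z}
      (sqW : IsPullback eW gW w σ),
      ∃ ρ : pullback (w.fiberToSpecResidueField s) h ⟶ WZ,
        IsPullback ρ (pullback.snd (w.fiberToSpecResidueField s) h) gW a := by
    intro W WZ w eW gW sqW
    have sq1 : IsPullback (pullback.fst (w.fiberToSpecResidueField s) h)
        (pullback.snd (w.fiberToSpecResidueField s) h) (w.fiberToSpecResidueField s) h :=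
      IsPullback.of_hasPullback _ _
    have sq2 : IsPullback (w.fiberι s) (w.fiberToSpecResidueField s) w
        (S.fromSpecResidueField s) := IsPullback.of_hasPullback _ _
    have sq3 := sq1.paste_horiz sq2
    rw [ha] at sq3
    refine ⟨sqW.lift (pullback.fst (w.fiberToSpecResidueField s) h ≫ w.fiberι s)
      (pullback.snd (w.fiberToSpecResidueField s) h ≫ a) (by rw [Category.assoc]; exact sq3.w), ?_⟩
    refine IsPullback.of_right (h₁₂ := eW) (h₂₂ := σ) (v₁₃ := w) ?_ (sqW.lift_snd _ _ _) sqW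
    rw [sqW.lift_fst]
    exact sq3
  obtain ⟨ρX, sqX₂⟩ := key u sqX
  obtain ⟨ρY, sqY₂⟩ := key v sqY
  obtain ⟨g₂, hg₂, sqg⟩ := exists_baseChange_hom g hg sqX₂ sqY₂
  refine ⟨Spec (Z.residueField z), _, _, h, _, _, _, _, inferInstance, ?_,
    IsPullback.of_hasPullback _ _, IsPullback.of_hasPullback _ _, g₂, hg₂,
    MorphismProperty.of_isPullback sqg hQ⟩
  exact inferInstanceAs (Subsingleton (PrimeSpectrum (Z.residueField z)))

end Groth.Agent.Helper5.CPair
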