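import Mathlib
import Groth.Agent.Helper5.CPair1
import Groth.Agent.Helper5.CPair3
import Groth.Agent.S9218

set_option autoImplicit false
universe u

namespace Groth.Agent.Helper5.CPair

open CategoryTheory CategoryTheory.Limits AlgebraicGeometry TopologicalSpace Topology

/-- descent of a property of morphisms to a stage of a cofiltered limit with affine transition
maps (the common shape of the `Lim.exists_*_descend_*` milestones) -/
def StageDescent (Q : MorphismProperty Scheme.{u}) : Prop :=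
  ∀ {I : Type u} [SmallCategory I] [IsCofiltered I] (D : I ⥤ Scheme.{u}) (c : Limits.Cone D)
    (_ : Limits.IsLimit c) [∀ (i j : I) (f : i ⟶ j), IsAffineHom (D.map f)] (i₀ : I)
    [CompactSpace (D.obj i₀)] [QuasiSeparatedSpace (D.obj i₀)] {X₀ Y₀ : Scheme.{u}}
    (f₀ : X₀ ⟶ Y₀) (g₀ : Y₀ ⟶ D.obj i₀)
    [CompactSpace X₀] [QuasiSeparatedSpace X₀] [CompactSpace Y₀] [QuasiSeparatedSpace Y₀]
    [LocallyOfFiniteType f₀]
    {X Y : Scheme.{u}} (f : X ⟶ Y) (g : Y ⟶ c.pt) (qY : Y ⟶ Y₀) (qX : X ⟶ X₀)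
    (_ : IsPullback qY g g₀ (c.π.app i₀)) (_ : IsPullback qX f f₀ qY), Q f →
    ∃ (i : I) (φ : i ⟶ i₀) (Xi Yi : Scheme.{u}) (fi : Xi ⟶ Yi) (gi : Yi ⟶ D.obj i) (pY : Yi ⟶ Y₀)
      (pX : Xi ⟶ X₀), IsPullback pY gi g₀ (D.map φ) ∧ IsPullback pX fi f₀ pY ∧ Q fi

variable (R : Type u) [CommRing R] (K : Type u) [CommRing K] [Algebra R K]

/-- the structure morphism of the spectrum of a finitely generated subalgebra -/
noncomputable def str (i : (Idx R K)ᵒᵖ) : (D R K).obj i ⟶ Spec (CommRingCat.of R) :=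
  Spec.map (CommRingCat.ofHom (algebraMap R ↥i.unop.1))

lemma map_str {i i' : (Idx R K)ᵒᵖ} (φ : i ⟶ i') : (D R K).map φ ≫ str R K i' = str R K i := by
  show Spec.map (CommRingCat.ofHom
      (Subalgebra.inclusion (leOfHom φ.unop : i'.unop.1 ≤ i.unop.1)).toRingHom) ≫
    Spec.map (CommRingCat.ofHom (algebraMap R ↥i'.unop.1)) =
      Spec.map (CommRingCat.ofHom (algebraMap R ↥i.unop.1))
  rw [← Spec.map_comp]
  rfl

/-- the limit projections, with stable types -/
noncomputable def proj (i : (Idx R K)ᵒᵖ) : (cone R K).pt ⟶ (D R K).obj i := (cone R K).π.app i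

/-- the structure morphism of the limit -/
noncomputable def top : (cone R K).pt ⟶ Spec (CommRingCat.of R) :=
  Spec.map (CommRingCat.ofHom (algebraMap R K))

lemma proj_str (i : (Idx R K)ᵒᵖ) : proj R K i ≫ str R K i = top R K := by
  show Spec.map (CommRingCat.ofHom i.unop.1.val.toRingHom) ≫
    Spec.map (CommRingCat.ofHom (algebraMap R ↥i.unop.1)) =
      Spec.map (CommRingCat.ofHom (algebraMap R K))
  rw [← Spec.map_comp]
  rfl

lemma proj_map {i i' : (Idx R K)ᵒᵖ} (φ : i ⟶ i') : proj R K i ≫ (D R K).map φ = proj R K i' :=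
  (cone R K).w φ

set_option maxHeartbeats 1600000 in
/-- Lemma C: a morphism with property `Q` between the base changes of two families to `Spec K`
descends to the spectrum of a finitely generated subalgebra. -/
theorem exists_fg_model (Q : MorphismProperty Scheme.{u}) (hdesc : StageDescent Q)
    {X Y S : Scheme.{u}} (u : X ⟶ S) (v : Y ⟶ S)
    [LocallyOfFinitePresentation u] [QuasiCompact u] [QuasiSeparated u]
    [LocallyOfFinitePresentation v] [QuasiCompact v] [QuasiSeparated v]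
    (j : Spec (CommRingCat.of R) ⟶ S)
    {X' Y' : Scheme.{u}} (gX' : X' ⟶ (cone R K).pt) (gY' : Y' ⟶ (cone R K).pt)
    (eX : X' ⟶ X) (eY : Y' ⟶ Y)
    (sqX : IsPullback eX gX' u (top R K ≫ j))
    (sqY : IsPullback eY gY' v (top R K ≫ j))
    (g : X' ⟶ Y') (hg : g ≫ gY' = gX') (hQ : Q g) :
    ∃ (k : (Idx R K)ᵒᵖ) (XB YB : Scheme.{u}) (gXB : XB ⟶ (D R K).obj k) (gYB : YB ⟶ (D R K).obj k)
      (eXB : XB ⟶ X) (eYB : YB ⟶ Y),
      IsPullback eXB gXB u (str R K k ≫ j) ∧ IsPullback eYB gYB v (str R K k ≫ j) ∧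
        ∃ gB : XB ⟶ YB, gB ≫ gYB = gXB ∧ Q gB := by
  let i₀ : (Idx R K)ᵒᵖ := Opposite.op (base R K)
  have hc : IsLimit (cone R K) := coneIsLimit R K
  -- the models over the base index
  have hτ : ∀ i : (Idx R K)ᵒᵖ, proj R K i ≫ (str R K i ≫ j) = top R K ≫ j := fun i => by
    rw [← Category.assoc, proj_str]
  have key : ∀ {W W' : Scheme.{u}} (w : W ⟶ S) (gW' : W' ⟶ (cone R K).pt) (eW : W' ⟶ W)
      (sqW : IsPullback eW gW' w (top R K ≫ j)),
      ∃ qW : W' ⟶ pullback w (str R K i₀ ≫ j),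
        qW ≫ pullback.fst w (str R K i₀ ≫ j) = eW ∧
        IsPullback qW gW' (pullback.snd w (str R K i₀ ≫ j)) (proj R K i₀) := by
    intro W W' w gW' eW sqW
    have hw : eW ≫ w = (gW' ≫ proj R K i₀) ≫ (str R K i₀ ≫ j) := by
      rw [Category.assoc, hτ i₀]; exact sqW.w
    refine ⟨pullback.lift eW (gW' ≫ proj R K i₀) hw, pullback.lift_fst _ _ _, ?_⟩
    refine IsPullback.of_right (h₁₂ := pullback.fst w (str R K i₀ ≫ j)) (h₂₂ := str R K i₀ ≫ j)
      (v₁₃ := w) ?_ (pullback.lift_snd _ _ _) (IsPullback.of_hasPullback _ _)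
    rw [pullback.lift_fst, hτ i₀]
    exact sqW
  obtain ⟨qX, hqX, hX⟩ := key u gX' eX sqX
  obtain ⟨qY, hqY, hY⟩ := key v gY' eY sqY
  let xi := pullback.snd u (str R K i₀ ≫ j)
  let yi := pullback.snd v (str R K i₀ ≫ j)
  have : CompactSpace ↥(pullback u (str R K i₀ ≫ j)) :=
    QuasiCompact.compactSpace_of_compactSpace xi
  have : CompactSpace ↥(pullback v (str R K i₀ ≫ j)) :=
    QuasiCompact.compactSpace_of_compactSpace yi
  have : QuasiSeparatedSpace ↥(pullback u (str R K i₀ ≫ j)) :=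
    quasiSeparatedSpace_of_quasiSeparated xi
  have : QuasiSeparatedSpace ↥(pullback v (str R K i₀ ≫ j)) :=
    quasiSeparatedSpace_of_quasiSeparated yi
  obtain ⟨j₁, φ, fj, sX, sY, hfj, hsX1, hsX2, hsY1, hsY2, hsf⟩ :=
    Groth.Agent.S9218.result (D R K) (cone R K) hc i₀ xi yi qX gX' hX qY gY' hY g hg
  -- the squares over the stage `j₁`
  let x₁ := pullback.snd xi ((D R K).map φ)
  let y₁ := pullback.snd yi ((D R K).map φ)
  have hcw : proj R K j₁ ≫ (D R K).map φ = proj R K i₀ := proj_map R K φ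
  have hX₁ : IsPullback sX gX' x₁ (proj R K j₁) := by
    refine IsPullback.of_right (h₁₂ := pullback.fst xi ((D R K).map φ)) (h₂₂ := (D R K).map φ)
      (v₁₃ := xi) ?_ hsX2 (IsPullback.of_hasPullback _ _)
    rw [hsX1, hcw]
    exact hX
  have hY₁ : IsPullback sY gY' y₁ (proj R K j₁) := by
    refine IsPullback.of_right (h₁₂ := pullback.fst yi ((D R K).map φ)) (h₂₂ := (D R K).map φ)
      (v₁₃ := yi) ?_ hsY2 (IsPullback.of_hasPullback _ _)
    rw [hsY1, hcw]
    exact hY
  have hXg : IsPullback sX g fj sY := by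
    refine IsPullback.of_bot (v₂₁ := gY') (v₂₂ := y₁) (h₃₁ := proj R K j₁) ?_ hsf hY₁
    rw [hg, hfj]
    exact hX₁
  have : CompactSpace ↥(pullback xi ((D R K).map φ)) :=
    QuasiCompact.compactSpace_of_compactSpace x₁
  have : CompactSpace ↥(pullback yi ((D R K).map φ)) :=
    QuasiCompact.compactSpace_of_compactSpace y₁
  have : QuasiSeparatedSpace ↥(pullback xi ((D R K).map φ)) :=
    quasiSeparatedSpace_of_quasiSeparated x₁
  have : QuasiSeparatedSpace ↥(pullback yi ((D R K).map φ)) :=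
    quasiSeparatedSpace_of_quasiSeparated y₁
  have : LocallyOfFiniteType fj := by
    have : LocallyOfFiniteType (fj ≫ y₁) := by rw [hfj]; infer_instance
    exact locallyOfFiniteType_of_comp fj y₁
  obtain ⟨k, φ', Xk, Yk, fk, gk, pY', pX', hYk, hXk, hQk⟩ :=
    hdesc (D R K) (cone R K) hc j₁ fj y₁ g gY' sY sX hY₁ hXg hQ
  have hstr : ((D R K).map φ' ≫ (D R K).map φ) ≫ (str R K i₀ ≫ j) = str R K k ≫ j := by
    rw [Category.assoc, ← Category.assoc ((D R K).map φ), map_str, ← Category.assoc, map_str]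
  refine ⟨k, Xk, Yk, fk ≫ gk, gk, pX' ≫ pullback.fst xi ((D R K).map φ) ≫ pullback.fst u _,
    pY' ≫ pullback.fst yi ((D R K).map φ) ≫ pullback.fst v _, ?_, ?_, fk, rfl, hQk⟩
  · have sqA : IsPullback pX' (fk ≫ gk) x₁ ((D R K).map φ') := by
      have := hXk.paste_vert hYk
      rwa [hfj] at this
    have sqB : IsPullback (pullback.fst xi ((D R K).map φ)) x₁ xi ((D R K).map φ) :=
      IsPullback.of_hasPullback _ _
    have sqC : IsPullback (pullback.fst u (str R K i₀ ≫ j)) xi u (str R K i₀ ≫ j) :=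
      IsPullback.of_hasPullback _ _
    have := (sqA.paste_horiz sqB).paste_horiz sqC
    rw [hstr] at this
    simpa only [Category.assoc] using this
  · have sqB : IsPullback (pullback.fst yi ((D R K).map φ)) y₁ yi ((D R K).map φ) :=
      IsPullback.of_hasPullback _ _
    have sqC : IsPullback (pullback.fst v (str R K i₀ ≫ j)) yi v (str R K i₀ ≫ j) :=
      IsPullback.of_hasPullback _ _
    have := (hYk.paste_horiz sqB).paste_horiz sqC
    rw [hstr] at this
    simpa only [Category.assoc] using this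

end Groth.Agent.Helper5.CPair
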