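import Mathlib
import Groth.Agent.Helper5.CPair4

set_option autoImplicit false
universe u

namespace Groth.Agent.Helper5.CPair

open CategoryTheory CategoryTheory.Limits AlgebraicGeometry TopologicalSpace Topology

theorem isPullback_of_iso_bot {A B C Dd B' : Scheme.{u}} {a : A ⟶ C} {b : A ⟶ B} {c : C ⟶ Dd}
    {d : B ⟶ Dd} (sq : IsPullback a b c d) (e : B ≅ B') :
    IsPullback a (b ≫ e.hom) c (e.inv ≫ d) :=
  IsPullback.of_iso sq (Iso.refl _) (Iso.refl _) e (Iso.refl _) (by simp) (by simp) (by simp)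
    (by simp)

set_option maxHeartbeats 1600000 in
/-- the framework theorem: "after a field extension there is a morphism with property `Q`" is an
ind-constructible relation on pairs, as soon as `Q` is stable under base change and descends to
stages of cofiltered limits. -/
theorem isIndConsPair_rel (Q : MorphismProperty Scheme.{u}) [Q.IsStableUnderBaseChange]
    (hdesc : StageDescent Q) : ConsPropPair.IsIndConsPair (Rel Q) := by
  refine ⟨fieldStable_rel Q, ?_⟩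
  intro X Y S u v _ _ _ _ _ _ hη
  obtain ⟨T', X', Y', h, gX', gY', eX, eY, hTi, hTs, sqX, sqY, g, hg, hQ⟩ := hη
  let η := genericPoint S
  obtain ⟨τ, hτdef⟩ : ∃ τ : T' ⟶ S, τ = h ≫ S.fromSpecResidueField η := ⟨_, rfl⟩
  have sqX1 : IsPullback (eX ≫ u.fiberι η) gX' u τ := by
    rw [hτdef]
    exact sqX.paste_horiz (IsPullback.of_hasPullback u (S.fromSpecResidueField η))
  have sqY1 : IsPullback (eY ≫ v.fiberι η) gY' v τ := by
    rw [hτdef]
    exact sqY.paste_horiz (IsPullback.of_hasPullback v (S.fromSpecResidueField η))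
  have hτ : ∀ t : T', τ t = η := by
    intro t
    rw [hτdef, Scheme.Hom.comp_apply]
    exact Scheme.fromSpecResidueField_apply η _
  -- affine open neighbourhood of the generic point
  obtain ⟨U, hU, hηU⟩ : ∃ U : S.Opens, IsAffineOpen U ∧ η ∈ U := by
    obtain ⟨_, ⟨U, hU, rfl⟩, hxU, -⟩ :=
      (S.isBasis_affineOpens).exists_subset_of_mem_open (Set.mem_univ η) isOpen_univ
    exact ⟨U, hU, hxU⟩
  let j : Spec Γ(S, U) ⟶ S := hU.fromSpec
  have hjrange : Set.range j = U := hU.range_fromSpec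
  have hτrange : Set.range τ ⊆ Set.range j := by
    rintro _ ⟨t, rfl⟩
    rw [hτ, hjrange]
    exact hηU
  obtain ⟨τ', hτ'⟩ : ∃ τ' : T' ⟶ Spec Γ(S, U), τ' ≫ j = τ :=
    ⟨IsOpenImmersion.lift j τ hτrange, IsOpenImmersion.lift_fac _ _ _⟩
  -- the field
  have : Nonempty ↥T' := inferInstance
  let e₀ : T' ≅ Spec Γ(T', ⊤) := T'.isoSpec
  let φ : Γ(S, U) ⟶ Γ(T', ⊤) := Spec.preimage (e₀.inv ≫ τ')
  have hφ : Spec.map φ = e₀.inv ≫ τ' := Spec.map_preimage _
  letI : Algebra ↑Γ(S, U) ↑Γ(T', ⊤) := φ.hom.toAlgebra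
  let e : T' ≅ (cone ↑Γ(S, U) ↑Γ(T', ⊤)).pt := e₀
  have htop : top ↑Γ(S, U) ↑Γ(T', ⊤) ≫ j = e.inv ≫ τ := by
    have h1 : top ↑Γ(S, U) ↑Γ(T', ⊤) = e.inv ≫ τ' := hφ
    rw [h1, Category.assoc, hτ']
  have sqX2 : IsPullback (eX ≫ u.fiberι η) (gX' ≫ e.hom) u (top ↑Γ(S, U) ↑Γ(T', ⊤) ≫ j) := by
    rw [htop]; exact isPullback_of_iso_bot sqX1 e
  have sqY2 : IsPullback (eY ≫ v.fiberι η) (gY' ≫ e.hom) v (top ↑Γ(S, U) ↑Γ(T', ⊤) ≫ j) := by
    rw [htop]; exact isPullback_of_iso_bot sqY1 e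
  have hu : LocallyOfFinitePresentation u :=
    LocallyOfFinitePresentation.iff_locallyOfFiniteType.mpr inferInstance
  have hv : LocallyOfFinitePresentation v :=
    LocallyOfFinitePresentation.iff_locallyOfFiniteType.mpr inferInstance
  have hXN : IsLocallyNoetherian X := LocallyOfFiniteType.isLocallyNoetherian u
  have hYN : IsLocallyNoetherian Y := LocallyOfFiniteType.isLocallyNoetherian v
  obtain ⟨k, XB, YB, gXB, gYB, eXB, eYB, sqXB, sqYB, gB, hgB, hQB⟩ :=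
    exists_fg_model ↑Γ(S, U) ↑Γ(T', ⊤) Q hdesc u v j (gX' ≫ e.hom) (gY' ≫ e.hom) _ _ sqX2 sqY2
      g (by rw [← Category.assoc, hg]) hQ
  -- the model over `Spec B`
  let σ : (D ↑Γ(S, U) ↑Γ(T', ⊤)).obj k ⟶ S := str ↑Γ(S, U) ↑Γ(T', ⊤) k ≫ j
  have hred : IsReduced ((D ↑Γ(S, U) ↑Γ(T', ⊤)).obj k) := by
    show IsReduced (Spec (CommRingCat.of ↥k.unop.1))
    infer_instance
  have hft : LocallyOfFiniteType (str ↑Γ(S, U) ↑Γ(T', ⊤) k) := by
    show LocallyOfFiniteType (Spec.map (CommRingCat.ofHom (algebraMap ↑Γ(S, U) ↥k.unop.1)))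
    rw [HasRingHomProperty.Spec_iff (P := @LocallyOfFiniteType)]
    exact (RingHom.finiteType_algebraMap (A := ↑Γ(S, U)) (B := ↥k.unop.1)).2
      ((Subalgebra.fg_iff_finiteType _).1 k.unop.2)
  have hσft : LocallyOfFiniteType σ := inferInstance
  have hσqc : QuasiCompact σ := inferInstance
  have hησ : η ∈ Set.range σ := by
    obtain ⟨t₀⟩ := (inferInstance : Nonempty ↥T')
    refine ⟨proj ↑Γ(S, U) ↑Γ(T', ⊤) k (e.hom t₀), ?_⟩
    have h1 : proj ↑Γ(S, U) ↑Γ(T', ⊤) k ≫ σ = e.inv ≫ τ := by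
      rw [← htop, ← Category.assoc, proj_str]
    rw [← Scheme.Hom.comp_apply, h1, ← Scheme.Hom.comp_apply, Iso.hom_inv_id_assoc]
    exact hτ t₀
  obtain ⟨V, hVne, hV⟩ := Groth.Agent.Helper5.GenFib.exists_open_subset_range σ hησ
  obtain ⟨v₀, hv₀⟩ := hVne
  refine ⟨v₀, mem_interior.2 ⟨V, ?_, V.2, hv₀⟩⟩
  intro s hs
  obtain ⟨z, rfl⟩ := hV hs
  exact rel_fibres_of_model Q u v σ sqXB sqYB gB hgB hQB z

end Groth.Agent.Helper5.CPair
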