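import Mathlib
import Groth.Agent.Helper5.CPair5

set_option autoImplicit false
universe u

namespace Groth.Agent.Helper5.CPair

open CategoryTheory CategoryTheory.Limits AlgebraicGeometry TopologicalSpace Topology

/-- stage descent for morphisms between schemes of finite presentation over the stage -/
def StageDescent' (Q : MorphismProperty Scheme.{u}) : Prop :=
  ∀ {I : Type u} [SmallCategory I] [IsCofiltered I] (D : I ⥤ Scheme.{u}) (c : Limits.Cone D)
    (_ : Limits.IsLimit c) [∀ (i j : I) (f : i ⟶ j), IsAffineHom (D.map f)] (i₀ : I)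
    [CompactSpace (D.obj i₀)] [QuasiSeparatedSpace (D.obj i₀)] {X₀ Y₀ : Scheme.{u}}
    (f₀ : X₀ ⟶ Y₀) (g₀ : Y₀ ⟶ D.obj i₀)
    [LocallyOfFinitePresentation g₀] [QuasiCompact g₀] [QuasiSeparated g₀]
    [LocallyOfFinitePresentation (f₀ ≫ g₀)] [QuasiCompact (f₀ ≫ g₀)] [QuasiSeparated (f₀ ≫ g₀)]
    {X Y : Scheme.{u}} (f : X ⟶ Y) (g : Y ⟶ c.pt) (qY : Y ⟶ Y₀) (qX : X ⟶ X₀)
    (_ : IsPullback qY g g₀ (c.π.app i₀)) (_ : IsPullback qX f f₀ qY), Q f →
    ∃ (i : I) (φ : i ⟶ i₀) (Xi Yi : Scheme.{u}) (fi : Xi ⟶ Yi) (gi : Yi ⟶ D.obj i) (pY : Yi ⟶ Y₀)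
      (pX : Xi ⟶ X₀), IsPullback pY gi g₀ (D.map φ) ∧ IsPullback pX fi f₀ pY ∧ Q fi

variable (R : Type u) [CommRing R] (K : Type u) [CommRing K] [Algebra R K]

set_option maxHeartbeats 1600000 in
/-- Lemma C: a morphism with property `Q` between the base changes of two families to `Spec K`
descends to the spectrum of a finitely generated subalgebra. -/
theorem exists_fg_model' (Q : MorphismProperty Scheme.{u}) (hdesc : StageDescent' Q)
    {X Y S : Scheme.{u}} (u : X ⟶ S) (v : Y ⟶ S)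
    [LocallyOfFinitePresentation u] [QuasiCompact u] [QuasiSeparated u]
    [LocallyOfFinitePresentation v] [QuasiCompact v] [QuasiSeparated v]
    (j : Spec (CommRingCat.of R) ⟶ S)
    {X' Y' : Scheme.{u}} (gX' : X' ⟶ (cone R K).pt) (gY' : Y' ⟶ (cone R K).pt)
    (eX : X' ⟶ X) (eY : Y' ⟶ Y)
    (sqX : IsPullback eX gX' u (top R K ≫ j))
    (sqY : IsPullback eY gY' v (top R K ≫ j))
    (g : X' ⟶ Y') (hg : g ≫ gY' = gX') (hQ : Q g) :
    ∃ (k : (Idx R K)ᵒᵖ) (XB YB : Scheme.{u}) (gXB : XB ⟶ (D R K).obj k) (gYB : YB ⟶ (D R K).obj k)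
      (eXB : XB ⟶ X) (eYB : YB ⟶ Y),
      IsPullback eXB gXB u (str R K k ≫ j) ∧ IsPullback eYB gYB v (str R K k ≫ j) ∧
        ∃ gB : XB ⟶ YB, gB ≫ gYB = gXB ∧ Q gB := by
  let i₀ : (Idx R K)ᵒᵖ := Opposite.op (base R K)
  have hc : IsLimit (cone R K) := coneIsLimit R K
  -- the models over the base index
  have hτ : ∀ i : (Idx R K)ᵒᵖ, proj R K i ≫ (str R K i ≫ j) = top R K ≫ j := fun i => by
    rw [← Category.assoc, proj_str]
  have key : ∀ {W W' : Scheme.{u}} (w : W ⟶ S) (gW' : W' ⟶ (cone R K).pt) (eW : W' ⟶ W)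
      (sqW : IsPullback eW gW' w (top R K ≫ j)),
      ∃ qW : W' ⟶ pullback w (str R K i₀ ≫ j),
        qW ≫ pullback.fst w (str R K i₀ ≫ j) = eW ∧
        IsPullback qW gW' (pullback.snd w (str R K i₀ ≫ j)) (proj R K i₀) := by
    intro W W' w gW' eW sqW
    have hw : eW ≫ w = (gW' ≫ proj R K i₀) ≫ (str R K i₀ ≫ j) := by
      rw [Category.assoc, hτ i₀]; exact sqW.w
    refine ⟨pullback.lift eW (gW' ≫ proj R K i₀) hw, pullback.lift_fst _ _ _, ?_⟩
    refine IsPullback.of_right (h₁₂ := pullback.fst w (str R K i₀ ≫ j)) (h₂₂ := str R K i₀ ≫ j)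
      (v₁₃ := w) ?_ (pullback.lift_snd _ _ _) (IsPullback.of_hasPullback _ _)
    rw [pullback.lift_fst, hτ i₀]
    exact sqW
  obtain ⟨qX, hqX, hX⟩ := key u gX' eX sqX
  obtain ⟨qY, hqY, hY⟩ := key v gY' eY sqY
  let xi := pullback.snd u (str R K i₀ ≫ j)
  let yi := pullback.snd v (str R K i₀ ≫ j)
  have : CompactSpace ↥(pullback u (str R K i₀ ≫ j)) :=
    QuasiCompact.compactSpace_of_compactSpace xi
  have : CompactSpace ↥(pullback v (str R K i₀ ≫ j)) :=
    QuasiCompact.compactSpace_of_compactSpace yi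
  have : QuasiSeparatedSpace ↥(pullback u (str R K i₀ ≫ j)) :=
    quasiSeparatedSpace_of_quasiSeparated xi
  have : QuasiSeparatedSpace ↥(pullback v (str R K i₀ ≫ j)) :=
    quasiSeparatedSpace_of_quasiSeparated yi
  obtain ⟨j₁, φ, fj, sX, sY, hfj, hsX1, hsX2, hsY1, hsY2, hsf⟩ :=
    Groth.Agent.S9218.result (D R K) (cone R K) hc i₀ xi yi qX gX' hX qY gY' hY g hg
  -- the squares over the stage `j₁`
  let x₁ := pullback.snd xi ((D R K).map φ)
  let y₁ := pullback.snd yi ((D R K).map φ)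
  have hcw : proj R K j₁ ≫ (D R K).map φ = proj R K i₀ := proj_map R K φ
  have hX₁ : IsPullback sX gX' x₁ (proj R K j₁) := by
    refine IsPullback.of_right (h₁₂ := pullback.fst xi ((D R K).map φ)) (h₂₂ := (D R K).map φ)
      (v₁₃ := xi) ?_ hsX2 (IsPullback.of_hasPullback _ _)
    rw [hsX1, hcw]
    exact hX
  have hY₁ : IsPullback sY gY' y₁ (proj R K j₁) := by
    refine IsPullback.of_right (h₁₂ := pullback.fst yi ((D R K).map φ)) (h₂₂ := (D R K).map φ)
      (v₁₃ := yi) ?_ hsY2 (IsPullback.of_hasPullback _ _)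
    rw [hsY1, hcw]
    exact hY
  have hXg : IsPullback sX g fj sY := by
    refine IsPullback.of_bot (v₂₁ := gY') (v₂₂ := y₁) (h₃₁ := proj R K j₁) ?_ hsf hY₁
    rw [hg, hfj]
    exact hX₁
  have : CompactSpace ↥(pullback xi ((D R K).map φ)) :=
    QuasiCompact.compactSpace_of_compactSpace x₁
  have : CompactSpace ↥(pullback yi ((D R K).map φ)) :=
    QuasiCompact.compactSpace_of_compactSpace y₁
  have : QuasiSeparatedSpace ↥(pullback xi ((D R K).map φ)) :=
    quasiSeparatedSpace_of_quasiSeparated x₁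
  have : QuasiSeparatedSpace ↥(pullback yi ((D R K).map φ)) :=
    quasiSeparatedSpace_of_quasiSeparated y₁
  have : LocallyOfFiniteType fj := by
    have : LocallyOfFiniteType (fj ≫ y₁) := by rw [hfj]; infer_instance
    exact locallyOfFiniteType_of_comp fj y₁
  have : LocallyOfFinitePresentation (fj ≫ y₁) := by rw [hfj]; infer_instance
  have : QuasiCompact (fj ≫ y₁) := by rw [hfj]; infer_instance
  have : QuasiSeparated (fj ≫ y₁) := by rw [hfj]; infer_instance
  obtain ⟨k, φ', Xk, Yk, fk, gk, pY', pX', hYk, hXk, hQk⟩ :=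
    hdesc (D R K) (cone R K) hc j₁ fj y₁ g gY' sY sX hY₁ hXg hQ
  have hstr : ((D R K).map φ' ≫ (D R K).map φ) ≫ (str R K i₀ ≫ j) = str R K k ≫ j := by
    rw [Category.assoc, ← Category.assoc ((D R K).map φ), map_str, ← Category.assoc, map_str]
  refine ⟨k, Xk, Yk, fk ≫ gk, gk, pX' ≫ pullback.fst xi ((D R K).map φ) ≫ pullback.fst u _,
    pY' ≫ pullback.fst yi ((D R K).map φ) ≫ pullback.fst v _, ?_, ?_, fk, rfl, hQk⟩
  · have sqA : IsPullback pX' (fk ≫ gk) x₁ ((D R K).map φ') := by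
      have := hXk.paste_vert hYk
      rwa [hfj] at this
    have sqB : IsPullback (pullback.fst xi ((D R K).map φ)) x₁ xi ((D R K).map φ) :=
      IsPullback.of_hasPullback _ _
    have sqC : IsPullback (pullback.fst u (str R K i₀ ≫ j)) xi u (str R K i₀ ≫ j) :=
      IsPullback.of_hasPullback _ _
    have := (sqA.paste_horiz sqB).paste_horiz sqC
    rw [hstr] at this
    simpa only [Category.assoc] using this
  · have sqB : IsPullback (pullback.fst yi ((D R K).map φ)) y₁ yi ((D R K).map φ) :=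
      IsPullback.of_hasPullback _ _
    have sqC : IsPullback (pullback.fst v (str R K i₀ ≫ j)) yi v (str R K i₀ ≫ j) :=
      IsPullback.of_hasPullback _ _
    have := (hYk.paste_horiz sqB).paste_horiz sqC
    rw [hstr] at this
    simpa only [Category.assoc] using this


set_option maxHeartbeats 1600000 in
/-- the framework theorem: "after a field extension there is a morphism with property `Q`" is an
ind-constructible relation on pairs, as soon as `Q` is stable under base change and descends to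
stages of cofiltered limits. -/
theorem isIndConsPair_rel' (Q : MorphismProperty Scheme.{u}) [Q.IsStableUnderBaseChange]
    (hdesc : StageDescent' Q) : ConsPropPair.IsIndConsPair (Rel Q) := by
  refine ⟨fieldStable_rel Q, ?_⟩
  intro X Y S u v _ _ _ _ _ _ hη
  obtain ⟨T', X', Y', h, gX', gY', eX, eY, hTi, hTs, sqX, sqY, g, hg, hQ⟩ := hη
  let η := genericPoint S
  obtain ⟨τ, hτdef⟩ : ∃ τ : T' ⟶ S, τ = h ≫ S.fromSpecResidueField η := ⟨_, rfl⟩
  have sqX1 : IsPullback (eX ≫ u.fiberι η) gX' u τ := by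
    rw [hτdef]
    exact sqX.paste_horiz (IsPullback.of_hasPullback u (S.fromSpecResidueField η))
  have sqY1 : IsPullback (eY ≫ v.fiberι η) gY' v τ := by
    rw [hτdef]
    exact sqY.paste_horiz (IsPullback.of_hasPullback v (S.fromSpecResidueField η))
  have hτ : ∀ t : T', τ t = η := by
    intro t
    rw [hτdef, Scheme.Hom.comp_apply]
    exact Scheme.fromSpecResidueField_apply η _
  -- affine open neighbourhood of the generic point
  obtain ⟨U, hU, hηU⟩ : ∃ U : S.Opens, IsAffineOpen U ∧ η ∈ U := by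
    obtain ⟨_, ⟨U, hU, rfl⟩, hxU, -⟩ :=
      (S.isBasis_affineOpens).exists_subset_of_mem_open (Set.mem_univ η) isOpen_univ
    exact ⟨U, hU, hxU⟩
  let j : Spec Γ(S, U) ⟶ S := hU.fromSpec
  have hjrange : Set.range j = U := hU.range_fromSpec
  have hτrange : Set.range τ ⊆ Set.range j := by
    rintro _ ⟨t, rfl⟩
    rw [hτ, hjrange]
    exact hηU
  obtain ⟨τ', hτ'⟩ : ∃ τ' : T' ⟶ Spec Γ(S, U), τ' ≫ j = τ :=
    ⟨IsOpenImmersion.lift j τ hτrange, IsOpenImmersion.lift_fac _ _ _⟩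
  -- the field
  have : Nonempty ↥T' := inferInstance
  let e₀ : T' ≅ Spec Γ(T', ⊤) := T'.isoSpec
  let φ : Γ(S, U) ⟶ Γ(T', ⊤) := Spec.preimage (e₀.inv ≫ τ')
  have hφ : Spec.map φ = e₀.inv ≫ τ' := Spec.map_preimage _
  letI : Algebra ↑Γ(S, U) ↑Γ(T', ⊤) := φ.hom.toAlgebra
  let e : T' ≅ (cone ↑Γ(S, U) ↑Γ(T', ⊤)).pt := e₀
  have htop : top ↑Γ(S, U) ↑Γ(T', ⊤) ≫ j = e.inv ≫ τ := by
    have h1 : top ↑Γ(S, U) ↑Γ(T', ⊤) = e.inv ≫ τ' := hφ
    rw [h1, Category.assoc, hτ']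
  have sqX2 : IsPullback (eX ≫ u.fiberι η) (gX' ≫ e.hom) u (top ↑Γ(S, U) ↑Γ(T', ⊤) ≫ j) := by
    rw [htop]; exact isPullback_of_iso_bot sqX1 e
  have sqY2 : IsPullback (eY ≫ v.fiberι η) (gY' ≫ e.hom) v (top ↑Γ(S, U) ↑Γ(T', ⊤) ≫ j) := by
    rw [htop]; exact isPullback_of_iso_bot sqY1 e
  have hu : LocallyOfFinitePresentation u :=
    LocallyOfFinitePresentation.iff_locallyOfFiniteType.mpr inferInstance
  have hv : LocallyOfFinitePresentation v :=
    LocallyOfFinitePresentation.iff_locallyOfFiniteType.mpr inferInstance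
  have hXN : IsLocallyNoetherian X := LocallyOfFiniteType.isLocallyNoetherian u
  have hYN : IsLocallyNoetherian Y := LocallyOfFiniteType.isLocallyNoetherian v
  obtain ⟨k, XB, YB, gXB, gYB, eXB, eYB, sqXB, sqYB, gB, hgB, hQB⟩ :=
    exists_fg_model' ↑Γ(S, U) ↑Γ(T', ⊤) Q hdesc u v j (gX' ≫ e.hom) (gY' ≫ e.hom) _ _ sqX2 sqY2
      g (by rw [← Category.assoc, hg]) hQ
  -- the model over `Spec B`
  let σ : (D ↑Γ(S, U) ↑Γ(T', ⊤)).obj k ⟶ S := str ↑Γ(S, U) ↑Γ(T', ⊤) k ≫ j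
  have hred : IsReduced ((D ↑Γ(S, U) ↑Γ(T', ⊤)).obj k) := by
    show IsReduced (Spec (CommRingCat.of ↥k.unop.1))
    infer_instance
  have hft : LocallyOfFiniteType (str ↑Γ(S, U) ↑Γ(T', ⊤) k) := by
    show LocallyOfFiniteType (Spec.map (CommRingCat.ofHom (algebraMap ↑Γ(S, U) ↥k.unop.1)))
    rw [HasRingHomProperty.Spec_iff (P := @LocallyOfFiniteType)]
    exact (RingHom.finiteType_algebraMap (A := ↑Γ(S, U)) (B := ↥k.unop.1)).2
      ((Subalgebra.fg_iff_finiteType _).1 k.unop.2)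
  have hσft : LocallyOfFiniteType σ := inferInstance
  have hσqc : QuasiCompact σ := inferInstance
  have hησ : η ∈ Set.range σ := by
    obtain ⟨t₀⟩ := (inferInstance : Nonempty ↥T')
    refine ⟨proj ↑Γ(S, U) ↑Γ(T', ⊤) k (e.hom t₀), ?_⟩
    have h1 : proj ↑Γ(S, U) ↑Γ(T', ⊤) k ≫ σ = e.inv ≫ τ := by
      rw [← htop, ← Category.assoc, proj_str]
    rw [← Scheme.Hom.comp_apply, h1, ← Scheme.Hom.comp_apply, Iso.hom_inv_id_assoc]
    exact hτ t₀
  obtain ⟨V, hVne, hV⟩ := Groth.Agent.Helper5.GenFib.exists_open_subset_range σ hησ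
  obtain ⟨v₀, hv₀⟩ := hVne
  refine ⟨v₀, mem_interior.2 ⟨V, ?_, V.2, hv₀⟩⟩
  intro s hs
  obtain ⟨z, rfl⟩ := hV hs
  exact rel_fibres_of_model Q u v σ sqXB sqYB gB hgB hQB z


end Groth.Agent.Helper5.CPair
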