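import Mathlib
import Groth.Agent.Helper5.CPair7
import Groth.Agent.Helper5.ConsLc2
import Groth.Agent.Helper5.ConsPr5

set_option autoImplicit false
universe u

namespace Groth.Agent.Helper5.CPair

open CategoryTheory CategoryTheory.Limits AlgebraicGeometry TopologicalSpace Topology
open Groth.Agent.Helper5.ConsPr Groth.Agent.Helper5.ConsLc

/-- field stability of a morphism property that is stable under base change and descends along
fpqc morphisms -/
theorem fieldStableMor_of_descends (Q : MorphismProperty Scheme.{u}) [Q.IsStableUnderBaseChange]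
    [Q.DescendsAlong (@Surjective ⊓ @Flat ⊓ @QuasiCompact)] :
    ConsProp.IsFieldStableMor (fun _ _ _ f _ => Q f) := by
  intro X X' Y Y' T T' f g f' g' eX eY h _ _ _ _ _ _ _ _ sqY sqX
  constructor
  · intro hf
    exact MorphismProperty.of_isPullback sqX hf
  · intro hf'
    have : Nonempty T' := inferInstance
    have hh : Surjective h := surjective_of_subsingleton h
    have hfin : Finite T' := Finite.of_subsingleton
    have hqc : QuasiCompact h := ⟨fun U _ _ => (Set.toFinite _).isCompact⟩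
    have hfl : Flat h := inferInstance
    have heY : (@Surjective ⊓ @Flat ⊓ @QuasiCompact : MorphismProperty Scheme.{u}) eY :=
      ⟨⟨MorphismProperty.of_isPullback sqY.flip hh, MorphismProperty.of_isPullback sqY.flip hfl⟩,
        MorphismProperty.of_isPullback sqY.flip hqc⟩
    exact MorphismProperty.of_isPullback_of_descendsAlong
      (Q := @Surjective ⊓ @Flat ⊓ @QuasiCompact) sqX.flip heY hf'

variable (R : Type u) [CommRing R] (K : Type u) [CommRing K] [Algebra R K]

set_option maxHeartbeats 1600000 in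
/-- Lemma C for a given morphism: if the base change to `Spec K` of an `S`-morphism has `Q`, then so
has the base change to the spectrum of a finitely generated subalgebra. -/
theorem exists_fg_model_mor (Q : MorphismProperty Scheme.{u}) (hdesc : StageDescent' Q)
    {X Y S : Scheme.{u}} (f : X ⟶ Y) (g : Y ⟶ S)
    [LocallyOfFinitePresentation g] [QuasiCompact g] [QuasiSeparated g]
    [LocallyOfFinitePresentation (f ≫ g)] [QuasiCompact (f ≫ g)] [QuasiSeparated (f ≫ g)]
    (j : Spec (CommRingCat.of R) ⟶ S)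
    {X' Y' : Scheme.{u}} (f' : X' ⟶ Y') (g' : Y' ⟶ (cone R K).pt) (eX : X' ⟶ X) (eY : Y' ⟶ Y)
    (sqY : IsPullback eY g' g (top R K ≫ j)) (sqX : IsPullback eX f' f eY) (hQ : Q f') :
    ∃ (k : (Idx R K)ᵒᵖ) (XB YB : Scheme.{u}) (fB : XB ⟶ YB) (gB : YB ⟶ (D R K).obj k)
      (eXB : XB ⟶ X) (eYB : YB ⟶ Y),
      IsPullback eYB gB g (str R K k ≫ j) ∧ IsPullback eXB fB f eYB ∧ Q fB := by
  let i₀ : (Idx R K)ᵒᵖ := Opposite.op (base R K)
  have hc : IsLimit (cone R K) := coneIsLimit R K
  have hτ : proj R K i₀ ≫ (str R K i₀ ≫ j) = top R K ≫ j := by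
    rw [← Category.assoc, proj_str]
  -- the models over the base index
  let Y₀ := pullback g (str R K i₀ ≫ j)
  let g₀ : Y₀ ⟶ (D R K).obj i₀ := pullback.snd g (str R K i₀ ≫ j)
  let aY : Y₀ ⟶ Y := pullback.fst g (str R K i₀ ≫ j)
  let X₀ := pullback f aY
  let f₀ : X₀ ⟶ Y₀ := pullback.snd f aY
  let aX : X₀ ⟶ X := pullback.fst f aY
  have sqY₀ : IsPullback aY g₀ g (str R K i₀ ≫ j) := IsPullback.of_hasPullback _ _
  have sqX₀ : IsPullback aX f₀ f aY := IsPullback.of_hasPullback _ _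
  have sqXS₀ : IsPullback aX (f₀ ≫ g₀) (f ≫ g) (str R K i₀ ≫ j) := sqX₀.paste_vert sqY₀
  haveI : LocallyOfFinitePresentation g₀ := MorphismProperty.pullback_snd _ _ inferInstance
  haveI : QuasiCompact g₀ := MorphismProperty.pullback_snd _ _ inferInstance
  haveI : QuasiSeparated g₀ := MorphismProperty.pullback_snd _ _ inferInstance
  haveI : LocallyOfFinitePresentation (f₀ ≫ g₀) :=
    MorphismProperty.of_isPullback sqXS₀ (inferInstance : LocallyOfFinitePresentation (f ≫ g))
  haveI : QuasiCompact (f₀ ≫ g₀) :=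
    MorphismProperty.of_isPullback sqXS₀ (inferInstance : QuasiCompact (f ≫ g))
  haveI : QuasiSeparated (f₀ ≫ g₀) :=
    MorphismProperty.of_isPullback sqXS₀ (inferInstance : QuasiSeparated (f ≫ g))
  -- the limit data as base change of the models
  have hw : eY ≫ g = (g' ≫ proj R K i₀) ≫ (str R K i₀ ≫ j) := by
    rw [Category.assoc, hτ]; exact sqY.w
  obtain ⟨qY, hqY⟩ : ∃ qY : Y' ⟶ Y₀, qY = pullback.lift eY (g' ≫ proj R K i₀) hw := ⟨_, rfl⟩
  have hqY1 : qY ≫ aY = eY := by rw [hqY]; exact pullback.lift_fst _ _ _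
  have hqY2 : qY ≫ g₀ = g' ≫ proj R K i₀ := by rw [hqY]; exact pullback.lift_snd _ _ _
  have hY : IsPullback qY g' g₀ (proj R K i₀) := by
    refine IsPullback.of_right (h₁₂ := aY) (h₂₂ := str R K i₀ ≫ j) (v₁₃ := g) ?_ hqY2 sqY₀
    rw [hqY1, hτ]
    exact sqY
  have hw2 : eX ≫ f = (f' ≫ qY) ≫ aY := by
    rw [Category.assoc, hqY1]; exact sqX.w
  obtain ⟨qX, hqX⟩ : ∃ qX : X' ⟶ X₀, qX = pullback.lift eX (f' ≫ qY) hw2 := ⟨_, rfl⟩
  have hqX1 : qX ≫ aX = eX := by rw [hqX]; exact pullback.lift_fst _ _ _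
  have hqX2 : qX ≫ f₀ = f' ≫ qY := by rw [hqX]; exact pullback.lift_snd _ _ _
  have hX : IsPullback qX f' f₀ qY := by
    refine IsPullback.of_right (h₁₂ := aX) (h₂₂ := aY) (v₁₃ := f) ?_ hqX2 sqX₀
    rw [hqX1, hqY1]
    exact sqX
  haveI : CompactSpace ((D R K).obj i₀) := by
    show CompactSpace (Spec (CommRingCat.of ↥i₀.unop.1)); infer_instance
  haveI : QuasiSeparatedSpace ((D R K).obj i₀) := by
    show QuasiSeparatedSpace (Spec (CommRingCat.of ↥i₀.unop.1)); infer_instance
  obtain ⟨i, φ, Xi, Yi, fi, gi, pY, pX, h1, h2, h3⟩ :=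
    hdesc (D R K) (cone R K) hc i₀ f₀ g₀ f' g' qY qX hY hX hQ
  refine ⟨i, Xi, Yi, fi, gi, pX ≫ aX, pY ≫ aY, ?_, ?_, h3⟩
  · have := h1.paste_horiz sqY₀
    rw [← Category.assoc, map_str] at this
    exact this
  · exact h2.paste_horiz sqX₀

end Groth.Agent.Helper5.CPair
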