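import Mathlib
import Groth.Agent.Helper5.FlatCons1
import Groth.Agent.Helper5.ConsLc1
import Groth.Agent.Helper5.CMor1
import Groth.Agent.Helper3.RedGF6

set_option autoImplicit false
universe u

namespace Groth.Agent.Helper5.FlatCons

open CategoryTheory CategoryTheory.Limits AlgebraicGeometry TopologicalSpace Topology
open Groth.Agent.Helper5.ConsPr Groth.Agent.Helper5.ConsLc

/-- flatness as a relation on morphisms of algebraic schemes -/
abbrev PFlat : ∀ ⦃X Y T : Scheme.{u}⦄, (X ⟶ Y) → (Y ⟶ T) → Prop := fun _ _ _ f _ => Flat f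

variable {X Y S : Scheme.{u}} (f : X ⟶ Y) (g : Y ⟶ S)

theorem locus_flat_eq [LocallyOfFinitePresentation f] [LocallyOfFinitePresentation (f ≫ g)]
    [LocallyOfFiniteType g] [Flat (f ≫ g)] :
    ConsProp.locusMor PFlat f g = (⇑(f ≫ g) '' {x : X | (f.stalkMap x).hom.Flat}ᶜ)ᶜ := by
  ext s
  constructor
  · rintro hs ⟨x, hx, hxs⟩
    exact hx (forall_of_flat_fiberMap f g s hs x hxs)
  · intro hs
    refine flat_fiberMap_of_forall f g s fun x hx => ?_
    by_contra hcon
    exact hs ⟨x, hcon, hx⟩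

theorem flat_decided_of_flat [IrreducibleSpace S] [IsNoetherian S]
    [LocallyOfFiniteType g] [QuasiCompact g] [LocallyOfFiniteType (f ≫ g)] [QuasiCompact (f ≫ g)]
    [Flat (f ≫ g)] :
    (interior (ConsProp.locusMor PFlat f g)).Nonempty ∨
      (interior (ConsProp.locusMor PFlat f g)ᶜ).Nonempty := by
  obtain ⟨hYN, hlft, hqc⟩ := noeth_of_comp f g
  have hXN1 : IsLocallyNoetherian X := LocallyOfFiniteType.isLocallyNoetherian (f ≫ g)
  have hXN2 : CompactSpace X := QuasiCompact.compactSpace_of_compactSpace (f ≫ g)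
  have hXN : IsNoetherian X := {}
  have hfp : LocallyOfFinitePresentation f :=
    LocallyOfFinitePresentation.iff_locallyOfFiniteType.mpr hlft
  have hfgp : LocallyOfFinitePresentation (f ≫ g) :=
    LocallyOfFinitePresentation.iff_locallyOfFiniteType.mpr inferInstance
  apply cons_decide
  rw [locus_flat_eq f g]
  apply Groth.Agent.Helper5.KLem.isLocallyConstructible_compl
  apply (f ≫ g).isLocallyConstructible_image
  exact (isConstructible_of_isClosed_noeth
    (Groth.Agent.Helper2.FlatLocusSch.isOpen_flat_locus f).isClosed_compl).isLocallyConstructible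

theorem isConsMor_flat : ConsProp.IsConsMor (PFlat.{u}) := by
  have hFS : ConsProp.IsFieldStableMor (PFlat.{u}) :=
    Groth.Agent.Helper5.CPair.fieldStableMor_of_descends (@Flat)
  refine ⟨hFS, ?_⟩
  intro X Y S f g _ _ _ _ _ _
  obtain ⟨U, hUd, hUflat, hUfp⟩ := Groth.Agent.Helper3.RedGF6.main (f ≫ g)
  have hUne : Nonempty ↥(U : Scheme.{u}) := by
    obtain ⟨x, hx⟩ := hUd.nonempty
    exact ⟨⟨x, hx⟩⟩
  let V : Y.Opens := g ⁻¹ᵁ U
  have hcomp : f ∣_ V ≫ g ∣_ U = (f ≫ g) ∣_ U := (morphismRestrict_comp f g U).symm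
  have sqY : IsPullback V.ι (g ∣_ U) g U.ι := (isPullback_morphismRestrict g U).flip
  have sqX : IsPullback (f ⁻¹ᵁ V).ι (f ∣_ V) f V.ι := (isPullback_morphismRestrict f V).flip
  have hloc := locusMor_of_isPullback hFS sqY sqX
  haveI : Flat (f ∣_ V ≫ g ∣_ U) := by rw [hcomp]; exact hUflat
  haveI : LocallyOfFiniteType (f ∣_ V ≫ g ∣_ U) := by
    rw [hcomp]
    exact MorphismProperty.of_isPullback (isPullback_morphismRestrict (f ≫ g) U).flip
      (inferInstance : LocallyOfFiniteType (f ≫ g))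
  haveI : QuasiCompact (f ∣_ V ≫ g ∣_ U) := by
    rw [hcomp]
    exact MorphismProperty.of_isPullback (isPullback_morphismRestrict (f ≫ g) U).flip
      (inferInstance : QuasiCompact (f ≫ g))
  haveI : LocallyOfFiniteType (g ∣_ U) :=
    MorphismProperty.of_isPullback (isPullback_morphismRestrict g U).flip
      (inferInstance : LocallyOfFiniteType g)
  haveI : QuasiCompact (g ∣_ U) :=
    MorphismProperty.of_isPullback (isPullback_morphismRestrict g U).flip
      (inferInstance : QuasiCompact g)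
  haveI : IsIntegral (U : Scheme.{u}) := isIntegral_of_isOpenImmersion U.ι
  haveI : IrreducibleSpace ↥(U : Scheme.{u}) := inferInstance
  haveI : IsLocallyNoetherian (U : Scheme.{u}) := isLocallyNoetherian_of_isOpenImmersion U.ι
  haveI : CompactSpace ↥(U : Scheme.{u}) :=
    isCompact_iff_compactSpace.mp (NoetherianSpace.isCompact (U : Set S))
  haveI : IsNoetherian (U : Scheme.{u}) := {}
  have key := flat_decided_of_flat (f ∣_ V) (g ∣_ U)
  rw [hloc] at key
  have hopen : ∀ A : Set S, (interior (U.ι ⁻¹' A)).Nonempty → (interior A).Nonempty := by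
    rintro A ⟨t, ht⟩
    refine ⟨U.ι t, ?_⟩
    rw [mem_interior] at ht ⊢
    obtain ⟨W, hWA, hWo, htW⟩ := ht
    refine ⟨U.ι '' W, ?_, U.ι.isOpenEmbedding.isOpenMap W hWo, ⟨t, htW, rfl⟩⟩
    rintro _ ⟨w, hw, rfl⟩
    exact hWA hw
  rcases key with h | h
  · exact Or.inl (hopen _ h)
  · exact Or.inr (hopen _ h)

end Groth.Agent.Helper5.FlatCons
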