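import Mathlib
import Groth.Agent.Helper5.FlatCons2
import Groth.Agent.Helper5.ConsLc6
import Groth.Agent.Lead.FibLocus2

set_option autoImplicit false
universe u

namespace Groth.Agent.Helper5.FlatCons

open CategoryTheory CategoryTheory.Limits AlgebraicGeometry TopologicalSpace Topology
open Groth.Agent.Helper5.ConsPr Groth.Agent.Helper5.ConsLc
open Groth.Agent.Lead.FibLocus Groth.Agent.Lead.LimDiag

variable {X Y S : Scheme.{u}} (f : X ⟶ Y) (g : Y ⟶ S)

/-- the fibres of a family of finite type are Noetherian and the fibre map is of finite type -/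
theorem fibMap_props [LocallyOfFiniteType g] [QuasiCompact g]
    [LocallyOfFiniteType (f ≫ g)] [QuasiCompact (f ≫ g)] (s : S) :
    IsNoetherian (pullback (f ≫ g) (S.fromSpecResidueField s)) ∧
      IsNoetherian (pullback g (S.fromSpecResidueField s)) ∧
      LocallyOfFinitePresentation (fibMap f g s) ∧ QuasiCompact (fibMap f g s) := by
  have h2 : fibMap f g s ≫ pullback.snd g (S.fromSpecResidueField s) =
      pullback.snd (f ≫ g) (S.fromSpecResidueField s) := pullback.lift_snd _ _ _
  haveI : LocallyOfFiniteType (fibMap f g s ≫ pullback.snd g (S.fromSpecResidueField s)) := by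
    rw [h2]; infer_instance
  haveI : QuasiCompact (fibMap f g s ≫ pullback.snd g (S.fromSpecResidueField s)) := by
    rw [h2]; infer_instance
  obtain ⟨hYN, hlft, hqc⟩ := noeth_of_comp (fibMap f g s)
    (pullback.snd g (S.fromSpecResidueField s))
  have hXN1 : IsLocallyNoetherian (pullback (f ≫ g) (S.fromSpecResidueField s)) :=
    LocallyOfFiniteType.isLocallyNoetherian (pullback.snd (f ≫ g) (S.fromSpecResidueField s))
  have hXN2 : CompactSpace ↥(pullback (f ≫ g) (S.fromSpecResidueField s)) :=
    QuasiCompact.compactSpace_of_compactSpace (pullback.snd (f ≫ g) (S.fromSpecResidueField s))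
  exact ⟨{}, hYN, LocallyOfFinitePresentation.iff_locallyOfFiniteType.mpr hlft, hqc⟩

/-- a morphism from a Noetherian scheme is a monomorphism iff its diagonal is flat and
surjective -/
theorem mono_iff_diagonal {A B : Scheme.{u}} (φ : A ⟶ B) [IsNoetherian A] :
    Mono φ ↔ (@Flat ⊓ @Surjective : MorphismProperty Scheme.{u}).diagonal φ := by
  constructor
  · intro h
    have : IsIso (pullback.diagonal φ) := (pullback.isIso_diagonal_iff φ).mpr h
    exact ⟨inferInstance, inferInstance⟩
  · rintro ⟨h1, h2⟩
    haveI : Flat (pullback.diagonal φ) := h1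
    haveI : Surjective (pullback.diagonal φ) := h2
    haveI : QuasiCompact (pullback.diagonal φ) :=
      ⟨fun U _ _ => NoetherianSpace.isCompact _⟩
    have : IsIso (pullback.diagonal φ) := Flat.isIso_of_surjective_of_mono _
    exact (pullback.isIso_diagonal_iff φ).mp this

section

variable [LocallyOfFinitePresentation g] [QuasiCompact g] [QuasiSeparated g]
  [LocallyOfFinitePresentation (f ≫ g)] [QuasiCompact (f ≫ g)] [QuasiSeparated (f ≫ g)]

theorem lc_flat : IsLocallyConstructible {s : S | Flat (fibMap f g s)} :=
  s5880 f g isConsMor_flat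

theorem lc_surjective : IsLocallyConstructible {s : S | Surjective (fibMap f g s)} := by
  have h := isLocallyConstructible_setOf_surjective_fibMap f g
  convert h using 2
  ext s
  exact ⟨fun h => h.surj, fun h => ⟨h⟩⟩

theorem lc_mono : IsLocallyConstructible {s : S | Mono (fibMap f g s)} := by
  have hfp : LocallyOfFinitePresentation f :=
    Groth.Agent.Helper2.LfpComp.locallyOfFinitePresentation_of_comp f g inferInstance inferInstance
  have hfc : QuasiCompact f := QuasiCompact.of_comp f g
  have hfq : QuasiSeparated f := QuasiSeparated.of_comp f g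
  have e : pullback.diagonal f ≫ diagBase f g = f ≫ g := by simp [diagBase]
  haveI h1 : LocallyOfFinitePresentation (pullback.diagonal f ≫ diagBase f g) := by
    rw [e]; infer_instance
  haveI h2 : QuasiCompact (pullback.diagonal f ≫ diagBase f g) := by rw [e]; infer_instance
  haveI h2' : QuasiSeparated (pullback.diagonal f ≫ diagBase f g) := by rw [e]; infer_instance
  haveI h3 : LocallyOfFinitePresentation (diagBase f g) := by dsimp only [diagBase]; infer_instance
  haveI h4 : QuasiCompact (diagBase f g) := by dsimp only [diagBase]; infer_instance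
  haveI h5 : QuasiSeparated (diagBase f g) := by dsimp only [diagBase]; infer_instance
  have key := (lc_flat (pullback.diagonal f) (diagBase f g)).inter
    (lc_surjective (pullback.diagonal f) (diagBase f g))
  convert key using 1
  ext s
  obtain ⟨hN, -, -, -⟩ := fibMap_props f g s
  rw [Set.mem_setOf_eq, mono_iff_diagonal, prop_diagonal_fibMap_iff f g _ s]
  rfl

theorem lc_isOpenImmersion : IsLocallyConstructible {s : S | IsOpenImmersion (fibMap f g s)} := by
  have key := (lc_flat f g).inter (lc_mono f g)
  convert key using 1
  ext s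
  obtain ⟨-, -, hfp, -⟩ := fibMap_props f g s
  constructor
  · intro h
    haveI : IsOpenImmersion (fibMap f g s) := h
    exact ⟨(inferInstance : Flat (fibMap f g s)), (inferInstance : Mono (fibMap f g s))⟩
  · rintro ⟨h1, h2⟩
    haveI : Flat (fibMap f g s) := h1
    haveI : Mono (fibMap f g s) := h2
    exact IsOpenImmersion.of_flat_of_mono _

theorem lc_isIso : IsLocallyConstructible {s : S | IsIso (fibMap f g s)} := by
  have key := (lc_isOpenImmersion f g).inter (lc_surjective f g)
  convert key using 1
  ext s
  constructor
  · intro h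
    haveI : IsIso (fibMap f g s) := h
    exact ⟨(inferInstance : IsOpenImmersion (fibMap f g s)),
      (inferInstance : Surjective (fibMap f g s))⟩
  · rintro ⟨h1, h2⟩
    haveI : IsOpenImmersion (fibMap f g s) := h1
    haveI : Surjective (fibMap f g s) := h2
    exact (isIso_iff_isOpenImmersion_and_surjective _).mpr ⟨h1, h2⟩

end

end Groth.Agent.Helper5.FlatCons
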