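import Mathlib
import Groth.Agent.Helper5.FibTop8
import Groth.Agent.Helper5.FlatCons3

set_option autoImplicit false
universe u

namespace Groth.Agent.Helper5.FibTop

open CategoryTheory CategoryTheory.Limits AlgebraicGeometry TopologicalSpace Topology
open Groth.Agent.Lead.FibLocus Groth.Agent.Lead.LimDiag

variable {X Y S : Scheme.{u}}

/-- the homeomorphism between the scheme-theoretic and the topological fibre -/
noncomputable def fibHomeo (g : Y ⟶ S) (s : S) :
    ↥(pullback g (S.fromSpecResidueField s)) ≃ₜ ↥(g.base ⁻¹' {s}) := g.fiberHomeo s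

theorem fibHomeo_apply (g : Y ⟶ S) (s : S) (w : ↥(pullback g (S.fromSpecResidueField s))) :
    (fibHomeo g s w).1 = (pullback.fst g (S.fromSpecResidueField s)).base w :=
  Scheme.Hom.fiberHomeo_apply g s w

/-- the range of the fibre map is the trace of the range on the fibre -/
theorem image_range_fibMap (f : X ⟶ Y) (g : Y ⟶ S) (s : S) :
    fibHomeo g s '' (Set.range (fibMap f g s).base) = Subtype.val ⁻¹' (Set.range f.base) := by
  have sq := isPullback_fibMap f g s
  ext z
  constructor
  · rintro ⟨_, ⟨v, rfl⟩, rfl⟩
    refine ⟨(pullback.fst (f ≫ g) (S.fromSpecResidueField s)).base v, ?_⟩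
    show f.base _ = (fibHomeo g s ((fibMap f g s).base v)).1
    rw [fibHomeo_apply]
    have := congrArg (fun φ : pullback (f ≫ g) (S.fromSpecResidueField s) ⟶ Y => φ.base v) sq.w
    simp only [Scheme.Hom.comp_apply] at this
    exact this
  · rintro ⟨x, hx⟩
    obtain ⟨w, rfl⟩ := (fibHomeo g s).surjective z
    have hw : f.base x = (pullback.fst g (S.fromSpecResidueField s)).base w := by
      rw [hx]
      exact fibHomeo_apply g s w
    obtain ⟨v, -, hv⟩ := Scheme.exists_preimage_of_isPullback sq x w hw
    exact ⟨w, ⟨v, hv⟩, rfl⟩

theorem isClosed_range_fibMap_iff (f : X ⟶ Y) (g : Y ⟶ S) (s : S) :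
    IsClosed (Set.range (fibMap f g s).base) ↔
      s ∈ locus ΦClosed g (Set.range f.base) (Set.range f.base) := by
  show _ ↔ IsClosed (Subtype.val ⁻¹' (Set.range f.base) : Set ↥(g.base ⁻¹' {s}))
  rw [← image_range_fibMap f g s]
  exact ((fibHomeo g s).isClosed_image).symm

/-- the locus where the fibre map of an immersion is a closed immersion -/
theorem lc_closedImmersion_of_immersion (j : X ⟶ Y) (h : Y ⟶ S) [IsImmersion j]
    [LocallyOfFinitePresentation h] [QuasiCompact h] [QuasiSeparated h]
    [LocallyOfFinitePresentation (j ≫ h)] [QuasiCompact (j ≫ h)] [QuasiSeparated (j ≫ h)] :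
    IsLocallyConstructible {s : S | IsClosedImmersion (fibMap j h s)} := by
  have hfp : LocallyOfFinitePresentation j :=
    Groth.Agent.Helper2.LfpComp.locallyOfFinitePresentation_of_comp j h inferInstance inferInstance
  have hfc : QuasiCompact j := QuasiCompact.of_comp j h
  have hr : IsLocallyConstructible (Set.range j.base) := by
    have := j.isLocallyConstructible_image IsLocallyConstructible.univ
    rwa [Set.image_univ] at this
  have key := isLocallyConstructible_locus h invOpenSurj_closed decided_closed (Set.range j.base)
    (Set.range j.base) hr hr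
  convert key using 1
  ext s
  have sq := isPullback_fibMap j h s
  haveI : IsImmersion (fibMap j h s) := MorphismProperty.of_isPullback sq inferInstance
  rw [Set.mem_setOf_eq, IsClosedImmersion.iff_isPreimmersion, ← isClosed_range_fibMap_iff]
  exact ⟨fun h => h.2, fun h => ⟨inferInstance, h⟩⟩

/-- S3424 -/
theorem s3424 (f : X ⟶ Y) (g : Y ⟶ S)
    [LocallyOfFinitePresentation g] [QuasiCompact g] [QuasiSeparated g]
    [LocallyOfFinitePresentation (f ≫ g)] [QuasiCompact (f ≫ g)] [QuasiSeparated (f ≫ g)] :
    IsLocallyConstructible {s : S | IsSeparated (fibMap f g s)} := by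
  have hfp : LocallyOfFinitePresentation f :=
    Groth.Agent.Helper2.LfpComp.locallyOfFinitePresentation_of_comp f g inferInstance inferInstance
  have hfc : QuasiCompact f := QuasiCompact.of_comp f g
  have hfq : QuasiSeparated f := QuasiSeparated.of_comp f g
  have e : pullback.diagonal f ≫ diagBase f g = f ≫ g := by simp [diagBase]
  haveI h1 : LocallyOfFinitePresentation (pullback.diagonal f ≫ diagBase f g) := by
    rw [e]; infer_instance
  haveI h2 : QuasiCompact (pullback.diagonal f ≫ diagBase f g) := by rw [e]; infer_instance
  haveI h2' : QuasiSeparated (pullback.diagonal f ≫ diagBase f g) := by rw [e]; infer_instance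
  haveI h3 : LocallyOfFinitePresentation (diagBase f g) := by dsimp only [diagBase]; infer_instance
  haveI h4 : QuasiCompact (diagBase f g) := by dsimp only [diagBase]; infer_instance
  haveI h5 : QuasiSeparated (diagBase f g) := by dsimp only [diagBase]; infer_instance
  have key := lc_closedImmersion_of_immersion (pullback.diagonal f) (diagBase f g)
  convert key using 1
  ext s
  rw [Set.mem_setOf_eq, isSeparated_iff]
  exact prop_diagonal_fibMap_iff f g (@IsClosedImmersion) s

end Groth.Agent.Helper5.FibTop
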