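import Mathlib
import Groth.Agent.Helper5.FlatCons3

set_option autoImplicit false
universe u

namespace Groth.Agent.Helper5.EtCons

open CategoryTheory CategoryTheory.Limits AlgebraicGeometry TopologicalSpace Topology
open Groth.Agent.Helper5.ConsPr Groth.Agent.Helper5.ConsLc Groth.Agent.Helper5.FlatCons
open Groth.Agent.Lead.FibLocus Groth.Agent.Lead.LimDiag

variable {X Y S : Scheme.{u}} (f : X ⟶ Y) (g : Y ⟶ S)

/-- the two models of the fibre map (`pullback.snd f (g.fiberι s)` and `fibMap f g s`) have the
same isomorphism-invariant properties -/
theorem snd_iff_fibMap (P : MorphismProperty Scheme.{u}) [P.RespectsIso] (s : S) :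
    P (pullback.snd f (g.fiberι s)) ↔ P (fibMap f g s) := by
  have sq2 := isPullback_fibMap f g s
  have sq3 : IsPullback (pullback.fst f (g.fiberι s)) (pullback.snd f (g.fiberι s)) f
      (g.fiberι s) := IsPullback.of_hasPullback _ _
  let e := sq3.isoIsPullback _ _ sq2
  have he : e.hom ≫ fibMap f g s = pullback.snd f (g.fiberι s) :=
    sq3.isoIsPullback_hom_snd _ _ sq2
  rw [← he]
  exact MorphismProperty.cancel_left_of_respectsIso (P := P) e.hom _

theorem unramified_iff_diagonal {A B : Scheme.{u}} (φ : A ⟶ B) [LocallyOfFiniteType φ] :
    FormallyUnramified φ ↔ (@IsOpenImmersion : MorphismProperty Scheme.{u}).diagonal φ := by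
  constructor
  · intro h
    exact (inferInstance : IsOpenImmersion (pullback.diagonal φ))
  · intro h
    haveI : IsOpenImmersion (pullback.diagonal φ) := h
    infer_instance

section

variable [LocallyOfFinitePresentation g] [QuasiCompact g] [QuasiSeparated g]
  [LocallyOfFinitePresentation (f ≫ g)] [QuasiCompact (f ≫ g)] [QuasiSeparated (f ≫ g)]

theorem lc_unramified : IsLocallyConstructible {s : S | FormallyUnramified (fibMap f g s)} := by
  have hfp : LocallyOfFinitePresentation f :=
    Groth.Agent.Helper2.LfpComp.locallyOfFinitePresentation_of_comp f g inferInstance inferInstance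
  have hfc : QuasiCompact f := QuasiCompact.of_comp f g
  have hfq : QuasiSeparated f := QuasiSeparated.of_comp f g
  have e : pullback.diagonal f ≫ diagBase f g = f ≫ g := by simp [diagBase]
  haveI h1 : LocallyOfFinitePresentation (pullback.diagonal f ≫ diagBase f g) := by
    rw [e]; infer_instance
  haveI h2 : QuasiCompact (pullback.diagonal f ≫ diagBase f g) := by rw [e]; infer_instance
  haveI h2' : QuasiSeparated (pullback.diagonal f ≫ diagBase f g) := by rw [e]; infer_instance
  haveI h3 : LocallyOfFinitePresentation (diagBase f g) := by dsimp only [diagBase]; infer_instance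
  haveI h4 : QuasiCompact (diagBase f g) := by dsimp only [diagBase]; infer_instance
  haveI h5 : QuasiSeparated (diagBase f g) := by dsimp only [diagBase]; infer_instance
  have key := lc_isOpenImmersion (pullback.diagonal f) (diagBase f g)
  convert key using 1
  ext s
  obtain ⟨hN, -, hlfp, -⟩ := fibMap_props f g s
  haveI : LocallyOfFiniteType (fibMap f g s) := inferInstance
  rw [Set.mem_setOf_eq, unramified_iff_diagonal, prop_diagonal_fibMap_iff f g _ s]
  rfl

theorem lc_etale : IsLocallyConstructible {s : S | Etale (fibMap f g s)} := by
  have key := (lc_flat f g).inter (lc_unramified f g)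
  convert key using 1
  ext s
  obtain ⟨-, -, hfp, -⟩ := fibMap_props f g s
  constructor
  · intro h
    haveI : Etale (fibMap f g s) := h
    exact ⟨(inferInstance : Flat (fibMap f g s)),
      (inferInstance : FormallyUnramified (fibMap f g s))⟩
  · rintro ⟨h1, h2⟩
    haveI : Flat (fibMap f g s) := h1
    haveI : FormallyUnramified (fibMap f g s) := h2
    exact Etale.of_formallyUnramified_of_flat _

end

/-- S2777 -/
theorem s2777 (g : Y ⟶ S) (h : X ⟶ S)
    [LocallyOfFinitePresentation g] [QuasiCompact g] [QuasiSeparated g]
    [LocallyOfFinitePresentation h] [QuasiCompact h] [QuasiSeparated h]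
    (f : X ⟶ Y) (w : f ≫ g = h) :
    Topology.IsLocallyConstructible {s : S | Etale (pullback.snd f (g.fiberι s))} ∧
    Topology.IsLocallyConstructible {s : S | FormallyUnramified (pullback.snd f (g.fiberι s))} := by
  subst w
  constructor
  · have := lc_etale f g
    convert this using 2
    ext s
    exact snd_iff_fibMap f g @Etale s
  · have := lc_unramified f g
    convert this using 2
    ext s
    exact snd_iff_fibMap f g @FormallyUnramified s

end Groth.Agent.Helper5.EtCons
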