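import Mathlib
import Groth.Agent.Helper5.CMor1

set_option autoImplicit false
universe u

namespace Groth.Agent.Helper5.PropCons

open CategoryTheory CategoryTheory.Limits AlgebraicGeometry TopologicalSpace Topology MorphismProperty

/-- a morphism is separated iff its diagonal is universally closed -/
theorem isSeparated_iff_universallyClosed_diagonal {X Y : Scheme.{u}} (f : X ⟶ Y) :
    IsSeparated f ↔ UniversallyClosed (pullback.diagonal f) := by
  constructor
  · intro h
    infer_instance
  · intro h
    refine ⟨IsClosedImmersion.of_isPreimmersion _ ?_⟩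
    exact (pullback.diagonal f).isClosedMap.isClosed_range

theorem isSeparated_eq_diagonal :
    (@IsSeparated : MorphismProperty Scheme.{u}) =
      MorphismProperty.diagonal (@UniversallyClosed : MorphismProperty Scheme.{u}) := by
  ext X Y f
  exact isSeparated_iff_universallyClosed_diagonal f

/-- separatedness satisfies fpqc descent -/
instance descendsAlong_isSeparated :
    DescendsAlong @IsSeparated (@Surjective ⊓ @Flat ⊓ @QuasiCompact : MorphismProperty Scheme.{u}) := by
  rw [isSeparated_eq_diagonal]
  infer_instance

theorem isProper_eq :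
    (@IsProper : MorphismProperty Scheme.{u}) =
      ((@IsSeparated : MorphismProperty Scheme.{u}) ⊓ @UniversallyClosed ⊓ @LocallyOfFiniteType :
        MorphismProperty Scheme.{u}) := by
  ext X Y f
  constructor
  · intro h
    exact ⟨⟨inferInstance, inferInstance⟩, inferInstance⟩
  · rintro ⟨⟨h1, h2⟩, h3⟩
    exact {}

/-- properness satisfies fpqc descent -/
instance descendsAlong_isProper :
    DescendsAlong @IsProper (@Surjective ⊓ @Flat ⊓ @QuasiCompact : MorphismProperty Scheme.{u}) := by
  rw [isProper_eq]
  infer_instance

/-- the relation "the morphism is proper" -/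
def PProper : ∀ ⦃X Y T : Scheme.{u}⦄, (X ⟶ Y) → (Y ⟶ T) → Prop := fun _ _ _ f _ => IsProper f

/-- the relation "the morphism is separated" -/
def PSep : ∀ ⦃X Y T : Scheme.{u}⦄, (X ⟶ Y) → (Y ⟶ T) → Prop := fun _ _ _ f _ => IsSeparated f

theorem fieldStable_proper : ConsProp.IsFieldStableMor (PProper.{u}) :=
  Groth.Agent.Helper5.CPair.fieldStableMor_of_descends (@IsProper)

theorem fieldStable_sep : ConsProp.IsFieldStableMor (PSep.{u}) :=
  Groth.Agent.Helper5.CPair.fieldStableMor_of_descends (@IsSeparated)

end Groth.Agent.Helper5.PropCons
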