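import Mathlib
import Groth.Agent.Helper5.PropCons1

set_option autoImplicit false
universe u

namespace Groth.Agent.Helper5.PropCons

open CategoryTheory CategoryTheory.Limits AlgebraicGeometry TopologicalSpace Topology MorphismProperty

/-- Lemma K: given a Chow cover `π : X' ⟶ X` with an immersion `j` of `X'` into a scheme `P` proper
over `Y`, a base change of `f` is proper iff the corresponding base change of `j` is a closed
immersion -/
theorem proper_iff_closedImmersion {X Y X' P Y₁ : Scheme.{u}} (f : X ⟶ Y) [IsSeparated f]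
    [LocallyOfFiniteType f] (π : X' ⟶ X) [IsProper π] [Surjective π] (p : P ⟶ Y) [IsProper p]
    (j : X' ⟶ P) [IsImmersion j] (hj : j ≫ p = π ≫ f) (ι : Y₁ ⟶ Y) :
    IsProper (pullback.snd f ι) ↔ IsClosedImmersion (pullback.snd j (pullback.fst p ι)) := by
  let a := pullback.fst f ι
  let f₁ := pullback.snd f ι
  let b := pullback.fst p ι
  let p₁ := pullback.snd p ι
  let c := pullback.fst j b
  let j₁ := pullback.snd j b
  have hcomm : (c ≫ π) ≫ f = (j₁ ≫ p₁) ≫ ι := by
    rw [Category.assoc, ← hj, ← Category.assoc, pullback.condition, Category.assoc, Category.assoc,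
      pullback.condition]
  let π₁ : pullback j b ⟶ pullback f ι := pullback.lift (c ≫ π) (j₁ ≫ p₁) hcomm
  have hπf : π₁ ≫ f₁ = j₁ ≫ p₁ := pullback.lift_snd _ _ _
  have hπa : π₁ ≫ a = c ≫ π := pullback.lift_fst _ _ _
  have big : IsPullback c (π₁ ≫ f₁) (π ≫ f) ι := by
    rw [hπf, ← hj]
    exact (IsPullback.of_hasPullback j b).paste_vert (IsPullback.of_hasPullback p ι)
  have sq : IsPullback c π₁ π a := IsPullback.of_bot big hπa.symm (IsPullback.of_hasPullback f ι)
  haveI : IsProper π₁ := MorphismProperty.of_isPullback sq inferInstance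
  haveI : Surjective π₁ := MorphismProperty.of_isPullback sq inferInstance
  haveI : IsProper p₁ := MorphismProperty.pullback_snd _ _ inferInstance
  haveI : IsSeparated f₁ := MorphismProperty.pullback_snd _ _ inferInstance
  haveI : LocallyOfFiniteType f₁ := MorphismProperty.pullback_snd _ _ inferInstance
  haveI : IsImmersion j₁ := MorphismProperty.pullback_snd _ _ inferInstance
  constructor
  · intro h
    haveI : IsProper f₁ := h
    haveI : IsProper (j₁ ≫ p₁) := by rw [← hπf]; infer_instance
    haveI : IsProper j₁ := IsProper.of_comp j₁ p₁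
    exact IsClosedImmersion.of_isPreimmersion _ j₁.isClosedMap.isClosed_range
  · intro h
    haveI : IsClosedImmersion j₁ := h
    haveI : UniversallyClosed (π₁ ≫ f₁) := by rw [hπf]; infer_instance
    haveI : UniversallyClosed f₁ := UniversallyClosed.of_comp_surjective π₁ f₁
    exact {}

end Groth.Agent.Helper5.PropCons
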