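import Mathlib
import Groth.Agent.Helper5.PropCons2
import Groth.Agent.Helper5.EtCons1

set_option autoImplicit false
universe u

namespace Groth.Agent.Helper5.PropCons

open CategoryTheory CategoryTheory.Limits AlgebraicGeometry TopologicalSpace Topology MorphismProperty
open Groth.Agent.Lead.FibLocus

/-- base changes along isomorphic morphisms have the same base-change-stable properties -/
theorem snd_iff_of_iso (Q : MorphismProperty Scheme.{u}) [Q.IsStableUnderBaseChange]
    {X' P A B : Scheme.{u}} (j : X' ⟶ P) (a : A ⟶ P) (b : B ⟶ P) (e : A ≅ B)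
    (he : e.hom ≫ b = a) : Q (pullback.snd j a) ↔ Q (pullback.snd j b) := by
  have key : ∀ {A B : Scheme.{u}} (a : A ⟶ P) (b : B ⟶ P) (e : A ⟶ B) (_ : e ≫ b = a),
      Q (pullback.snd j b) → Q (pullback.snd j a) := by
    intro A B a b e he h
    have hc : pullback.fst j a ≫ j = (pullback.snd j a ≫ e) ≫ b := by
      rw [Category.assoc, he, pullback.condition]
    let t : pullback j a ⟶ pullback j b := pullback.lift (pullback.fst j a) (pullback.snd j a ≫ e) hc
    have sq : IsPullback t (pullback.snd j a) (pullback.snd j b) e := by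
      refine IsPullback.of_right ?_ (pullback.lift_snd _ _ _) (IsPullback.of_hasPullback j b)
      rw [pullback.lift_fst, he]
      exact IsPullback.of_hasPullback j a
    exact MorphismProperty.of_isPullback sq h
  constructor
  · intro h
    exact key b a e.inv (by rw [← he, Iso.inv_hom_id_assoc]) h
  · intro h
    exact key a b e.hom he h

/-- the fibre map of `f` is proper iff the fibre map of the immersion `j` of a Chow cover is a
closed immersion -/
theorem proper_fibMap_iff {X Y S X' P : Scheme.{u}} (f : X ⟶ Y) (g : Y ⟶ S) [IsSeparated f]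
    [LocallyOfFiniteType f] (π : X' ⟶ X) [IsProper π] [Surjective π] (p : P ⟶ Y) [IsProper p]
    (j : X' ⟶ P) [IsImmersion j] (hj : j ≫ p = π ≫ f) (s : S) :
    IsProper (fibMap f g s) ↔ IsClosedImmersion (fibMap j (p ≫ g) s) := by
  rw [← Groth.Agent.Helper5.EtCons.snd_iff_fibMap f g (@IsProper) s,
    ← Groth.Agent.Helper5.EtCons.snd_iff_fibMap j (p ≫ g) (@IsClosedImmersion) s,
    proper_iff_closedImmersion f π p j hj (g.fiberι s)]
  let e := pullbackRightPullbackFstIso g (S.fromSpecResidueField s) p
  have he : e.hom ≫ (p ≫ g).fiberι s = pullback.fst p (g.fiberι s) :=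
    pullbackRightPullbackFstIso_hom_fst _ _ _
  exact snd_iff_of_iso (@IsClosedImmersion) j _ _ e he

end Groth.Agent.Helper5.PropCons
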