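import Mathlib
import Groth.Agent.Helper5.EtCons1

set_option autoImplicit false
universe u

namespace Groth.Agent.Helper5.SmCons

open CategoryTheory CategoryTheory.Limits AlgebraicGeometry TopologicalSpace Topology

theorem smooth_fiber_comp {X' P Y' : Scheme.{u}} (a : X' ⟶ P) (b : P ⟶ Y') [Smooth a] (y' : Y')
    (h : Smooth (b.fiberToSpecResidueField y')) :
    Smooth ((a ≫ b).fiberToSpecResidueField y') := by
  haveI : Smooth (pullback.snd b (Y'.fromSpecResidueField y')) := h
  rw [Scheme.Hom.fiberToSpecResidueField, ← pullbackRightPullbackFstIso_inv_snd_snd]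
  haveI : Smooth (pullback.snd a (pullback.fst b (Y'.fromSpecResidueField y'))) :=
    MorphismProperty.pullback_snd (P := @Smooth) _ _ inferInstance
  haveI : Smooth (pullback.snd a (pullback.fst b (Y'.fromSpecResidueField y')) ≫
      pullback.snd b (Y'.fromSpecResidueField y')) :=
    MorphismProperty.comp_mem _ _ _ inferInstance inferInstance
  exact MorphismProperty.comp_mem (W := @Smooth) _ _ inferInstance inferInstance

/-- Lemma B: smoothness of a fibre passes to open charts -/
theorem smooth_fiber_of_openImmersions {X Y X' Y' : Scheme.{u}} (f : X ⟶ Y) (f' : X' ⟶ Y')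
    (i : X' ⟶ X) (j : Y' ⟶ Y) [IsOpenImmersion i] [IsOpenImmersion j] (w : i ≫ f = f' ≫ j)
    (y' : Y') (h : Smooth (f.fiberToSpecResidueField (j y'))) :
    Smooth (f'.fiberToSpecResidueField y') := by
  let c : X' ⟶ pullback f j := pullback.lift i f' w
  have hc1 : c ≫ pullback.fst f j = i := pullback.lift_fst _ _ _
  haveI : IsOpenImmersion (c ≫ pullback.fst f j) := by rw [hc1]; infer_instance
  haveI : IsOpenImmersion c := IsOpenImmersion.of_comp c (pullback.fst f j)
  have h2 : Smooth ((pullback.snd f j).fiberToSpecResidueField y') :=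
    MorphismProperty.of_isPullback
      (isPullback_fiberToSpecResidueField_of_isPullback (IsPullback.of_hasPullback f j) y') h
  have e : c ≫ pullback.snd f j = f' := pullback.lift_snd _ _ _
  have key := smooth_fiber_comp c (pullback.snd f j) y' h2
  rwa [e] at key

/-- Lemma A: a flat morphism locally of finite presentation is smooth at all points of a smooth
fibre -/
theorem mem_smoothLocus_of_smooth_fiber {X Y : Scheme.{u}} (f : X ⟶ Y)
    [LocallyOfFinitePresentation f] [Flat f] (x : X)
    (h : Smooth (f.fiberToSpecResidueField (f x))) : x ∈ f.smoothLocus := by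
  obtain ⟨_, ⟨U, hU, rfl⟩, hxU, -⟩ :=
    Y.isBasis_affineOpens.exists_subset_of_mem_open (Set.mem_univ (f x)) isOpen_univ
  obtain ⟨_, ⟨V, hV, rfl⟩, hxV, hVU⟩ :=
    X.isBasis_affineOpens.exists_subset_of_mem_open hxU (U.2.preimage f.continuous)
  rw [Scheme.Hom.mem_smoothLocus, formallySmooth_stalkMap_iff U hU V hV hVU hxV]
  have hfp := f.finitePresentation_appLE hU hV hVU
  have hfl := f.flat_appLE hU hV hVU
  algebraize [(f.appLE U V hVU).hom]
  let P := hU.primeIdealOf ⟨f x, hVU hxV⟩
  let p := P.asIdeal
  let q := (hV.primeIdealOf ⟨x, hxV⟩).asIdeal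
  have : q.LiesOver p :=
    ⟨congr($(IsAffineOpen.comap_primeIdealOf_appLE U hU V hV hVU hxV).1).symm⟩
  have hjP : hU.fromSpec P = f x := hU.fromSpec_primeIdealOf ⟨f x, hVU hxV⟩
  have h' : Smooth (f.fiberToSpecResidueField (hU.fromSpec P)) := by
    rw [hjP]; exact h
  have hsm : Smooth ((Spec.map (f.appLE U V hVU)).fiberToSpecResidueField P) :=
    smooth_fiber_of_openImmersions f (Spec.map (f.appLE U V hVU)) hV.fromSpec hU.fromSpec
      (hU.SpecMap_appLE_fromSpec f hV hVU).symm P h'
  have : Algebra.FormallySmooth p.ResidueField (p.Fiber Γ(X, V)) := by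
    rw [← RingHom.formallySmooth_algebraMap]
    refine RingHom.Smooth.formallySmooth ?_
    rw [← CommRingCat.hom_ofHom (algebraMap p.ResidueField (p.Fiber Γ(X, V))),
      ← HasRingHomProperty.Spec_iff (P := @Smooth),
      ← MorphismProperty.arrow_mk_iso_iff (P := @Smooth)
        (Spec.fiberToSpecResidueFieldIso Γ(Y, U) Γ(X, V) P)]
    exact hsm
  exact Algebra.IsSmoothAt.of_formallySmooth_fiber p q

end Groth.Agent.Helper5.SmCons
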