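import Mathlib
import Groth.Agent.Helper5.SmCons1

set_option autoImplicit false
universe u

namespace Groth.Agent.Helper5.SmCons

open CategoryTheory CategoryTheory.Limits AlgebraicGeometry TopologicalSpace Topology
open Groth.Agent.Helper5.ConsPr Groth.Agent.Helper5.ConsLc Groth.Agent.Helper5.FlatCons

/-- Lemma C: the smooth locus pulls back into the smooth locus of a base change -/
theorem mem_smoothLocus_of_isPullback {X' X Y' Y : Scheme.{u}} {fst : X' ⟶ X} {f' : X' ⟶ Y'}
    {f : X ⟶ Y} {j : Y' ⟶ Y} (sq : IsPullback fst f' f j) [LocallyOfFinitePresentation f]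
    [LocallyOfFinitePresentation f'] (x' : X') (h : fst x' ∈ f.smoothLocus) :
    x' ∈ f'.smoothLocus := by
  let W := f.smoothLocus
  let W' := fst ⁻¹ᵁ W
  have hsmW : Smooth (W.ι ≫ f) := by
    rw [← Scheme.Hom.smoothLocus_eq_top_iff, ← Scheme.Hom.preimage_smoothLocus_eq]
    rw [← top_le_iff]
    rintro z -
    exact z.2
  have sq1 : IsPullback (fst ∣_ W) W'.ι W.ι fst := isPullback_morphismRestrict fst W
  have sq2 : IsPullback (fst ∣_ W) (W'.ι ≫ f') (W.ι ≫ f) j := sq1.paste_vert sq
  have hsm' : Smooth (W'.ι ≫ f') := MorphismProperty.of_isPullback sq2 hsmW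
  have h3 := Scheme.Hom.smoothLocus_eq_top (W'.ι ≫ f')
  rw [← Scheme.Hom.preimage_smoothLocus_eq] at h3
  have hx' : x' ∈ W' := h
  have h4 : (⟨x', hx'⟩ : W') ∈ W'.ι ⁻¹ᵁ f'.smoothLocus := by rw [h3]; trivial
  exact h4

variable {X Y S : Scheme.{u}} (f : X ⟶ Y) (g : Y ⟶ S)

theorem smooth_fiberMap_of_forall [LocallyOfFinitePresentation f] (s : S)
    (H : ∀ x : X, (f ≫ g) x = s → x ∈ f.smoothLocus) : Smooth (MoreMor.fiberMap f g s) := by
  have sq := isPullback_fiberMap f g s
  haveI : LocallyOfFinitePresentation (MoreMor.fiberMap f g s) :=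
    MorphismProperty.of_isPullback sq inferInstance
  rw [← Scheme.Hom.smoothLocus_eq_top_iff, ← top_le_iff]
  rintro x' -
  refine mem_smoothLocus_of_isPullback sq x' (H _ ?_)
  have hp : (f ≫ g).fiberι s x' ∈ Set.range ((f ≫ g).fiberι s) := ⟨x', rfl⟩
  rw [Scheme.Hom.range_fiberι] at hp
  exact hp

theorem forall_of_smooth_fiberMap [LocallyOfFinitePresentation f] [Flat f] (s : S)
    (h : Smooth (MoreMor.fiberMap f g s)) (x : X) (hx : (f ≫ g) x = s) : x ∈ f.smoothLocus := by
  apply mem_smoothLocus_of_smooth_fiber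
  have sq := isPullback_fiberMap f g s
  have hy : f x ∈ Set.range (g.fiberι s) := by
    rw [Scheme.Hom.range_fiberι]
    rw [Scheme.Hom.comp_apply] at hx
    exact hx
  obtain ⟨ys, hys⟩ := hy
  rw [← hys]
  have sq2 := isPullback_fiberToSpecResidueField_of_isPullback sq ys
  have h1 : Smooth ((MoreMor.fiberMap f g s).fiberToSpecResidueField ys) :=
    MorphismProperty.pullback_snd (P := @Smooth) _ _ h
  let e := Spec.map ((g.fiberι s).residueFieldMap ys)
  have hh : Surjective e := surjective_of_subsingleton e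
  have hqc : QuasiCompact e := inferInstance
  have hfl : Flat e := inferInstance
  have he : (@Surjective ⊓ @Flat ⊓ @QuasiCompact : MorphismProperty Scheme.{u}) e :=
    ⟨⟨hh, hfl⟩, hqc⟩
  exact MorphismProperty.of_isPullback_of_descendsAlong
    (Q := @Surjective ⊓ @Flat ⊓ @QuasiCompact) sq2.flip he h1

/-- smoothness as a relation on morphisms of algebraic schemes -/
abbrev PSmooth : ∀ ⦃X Y T : Scheme.{u}⦄, (X ⟶ Y) → (Y ⟶ T) → Prop := fun _ _ _ f _ => Smooth f

theorem locus_smooth_eq [LocallyOfFinitePresentation f] [Flat f] :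
    ConsProp.locusMor PSmooth f g = (⇑(f ≫ g) '' (f.smoothLocus : Set X)ᶜ)ᶜ := by
  ext s
  constructor
  · rintro hs ⟨x, hx, hxs⟩
    exact hx (forall_of_smooth_fiberMap f g s hs x hxs)
  · intro hs
    refine smooth_fiberMap_of_forall f g s fun x hx => ?_
    by_contra hcon
    exact hs ⟨x, hcon, hx⟩

theorem smooth_decided_of_flat [IrreducibleSpace S] [IsNoetherian S]
    [LocallyOfFiniteType g] [QuasiCompact g] [LocallyOfFiniteType (f ≫ g)] [QuasiCompact (f ≫ g)]
    [Flat f] :
    (interior (ConsProp.locusMor PSmooth f g)).Nonempty ∨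
      (interior (ConsProp.locusMor PSmooth f g)ᶜ).Nonempty := by
  obtain ⟨hYN, hlft, hqc⟩ := noeth_of_comp f g
  have hXN1 : IsLocallyNoetherian X := LocallyOfFiniteType.isLocallyNoetherian (f ≫ g)
  have hXN2 : CompactSpace X := QuasiCompact.compactSpace_of_compactSpace (f ≫ g)
  have hXN : IsNoetherian X := {}
  have hfp : LocallyOfFinitePresentation f :=
    LocallyOfFinitePresentation.iff_locallyOfFiniteType.mpr hlft
  have hfgp : LocallyOfFinitePresentation (f ≫ g) :=
    LocallyOfFinitePresentation.iff_locallyOfFiniteType.mpr inferInstance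
  apply cons_decide
  rw [locus_smooth_eq f g]
  apply Groth.Agent.Helper5.KLem.isLocallyConstructible_compl
  apply (f ≫ g).isLocallyConstructible_image
  exact (isConstructible_of_isClosed_noeth
    f.smoothLocus.2.isClosed_compl).isLocallyConstructible

end Groth.Agent.Helper5.SmCons
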