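import Mathlib
import Groth.Agent.Helper5.SmCons2

set_option autoImplicit false
universe u

namespace Groth.Agent.Helper5.SmCons

open CategoryTheory CategoryTheory.Limits AlgebraicGeometry TopologicalSpace Topology
open Groth.Agent.Helper5.ConsPr Groth.Agent.Helper5.ConsLc Groth.Agent.Helper5.FlatCons

/-- the locus of `P` or its complement contains a non-empty open subset -/
def Decided (P : ∀ ⦃X Y T : Scheme.{u}⦄, (X ⟶ Y) → (Y ⟶ T) → Prop) {X Y S : Scheme.{u}}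
    (f : X ⟶ Y) (g : Y ⟶ S) : Prop :=
  (interior (ConsProp.locusMor P f g)).Nonempty ∨ (interior (ConsProp.locusMor P f g)ᶜ).Nonempty

variable {X Y S : Scheme.{u}} (f : X ⟶ Y) (g : Y ⟶ S)

theorem restrict_comp (U : S.Opens) : f ∣_ (g ⁻¹ᵁ U) ≫ g ∣_ U = (f ≫ g) ∣_ U :=
  (morphismRestrict_comp f g U).symm

theorem restrict_props [IsIntegral S] [IsNoetherian S] [LocallyOfFiniteType g] [QuasiCompact g]
    [LocallyOfFiniteType (f ≫ g)] [QuasiCompact (f ≫ g)] (U : S.Opens)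
    (hU : (U : Set S).Nonempty) :
    IsIntegral (U : Scheme.{u}) ∧ IsNoetherian (U : Scheme.{u}) ∧
      LocallyOfFiniteType (g ∣_ U) ∧ QuasiCompact (g ∣_ U) ∧
      LocallyOfFiniteType (f ∣_ (g ⁻¹ᵁ U) ≫ g ∣_ U) ∧ QuasiCompact (f ∣_ (g ⁻¹ᵁ U) ≫ g ∣_ U) := by
  have hUne : Nonempty ↥(U : Scheme.{u}) := by
    obtain ⟨x, hx⟩ := hU
    exact ⟨⟨x, hx⟩⟩
  haveI : IsIntegral (U : Scheme.{u}) := isIntegral_of_isOpenImmersion U.ι
  haveI : IsLocallyNoetherian (U : Scheme.{u}) := isLocallyNoetherian_of_isOpenImmersion U.ι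
  haveI : CompactSpace ↥(U : Scheme.{u}) :=
    isCompact_iff_compactSpace.mp (NoetherianSpace.isCompact (U : Set S))
  refine ⟨inferInstance, {}, ?_, ?_, ?_, ?_⟩
  · exact MorphismProperty.of_isPullback (isPullback_morphismRestrict g U).flip
      (inferInstance : LocallyOfFiniteType g)
  · exact MorphismProperty.of_isPullback (isPullback_morphismRestrict g U).flip
      (inferInstance : QuasiCompact g)
  · rw [restrict_comp]
    exact MorphismProperty.of_isPullback (isPullback_morphismRestrict (f ≫ g) U).flip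
      (inferInstance : LocallyOfFiniteType (f ≫ g))
  · rw [restrict_comp]
    exact MorphismProperty.of_isPullback (isPullback_morphismRestrict (f ≫ g) U).flip
      (inferInstance : QuasiCompact (f ≫ g))

theorem locus_restrict {P : ∀ ⦃X Y T : Scheme.{u}⦄, (X ⟶ Y) → (Y ⟶ T) → Prop}
    (hFS : ConsProp.IsFieldStableMor P)
    [LocallyOfFiniteType g] [QuasiCompact g]
    [LocallyOfFiniteType (f ≫ g)] [QuasiCompact (f ≫ g)] (U : S.Opens) :
    ConsProp.locusMor P (f ∣_ (g ⁻¹ᵁ U)) (g ∣_ U) = U.ι ⁻¹' ConsProp.locusMor P f g := by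
  have sqY : IsPullback (g ⁻¹ᵁ U).ι (g ∣_ U) g U.ι := (isPullback_morphismRestrict g U).flip
  have sqX : IsPullback (f ⁻¹ᵁ (g ⁻¹ᵁ U)).ι (f ∣_ (g ⁻¹ᵁ U)) f (g ⁻¹ᵁ U).ι :=
    (isPullback_morphismRestrict f (g ⁻¹ᵁ U)).flip
  exact locusMor_of_isPullback hFS sqY sqX

/-- Lemma R: decidedness may be checked over a non-empty open subscheme of the base -/
theorem decided_of_restrict {P : ∀ ⦃X Y T : Scheme.{u}⦄, (X ⟶ Y) → (Y ⟶ T) → Prop}
    (hFS : ConsProp.IsFieldStableMor P)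
    [LocallyOfFiniteType g] [QuasiCompact g]
    [LocallyOfFiniteType (f ≫ g)] [QuasiCompact (f ≫ g)] (U : S.Opens)
    (h : Decided P (f ∣_ (g ⁻¹ᵁ U)) (g ∣_ U)) : Decided P f g := by
  unfold Decided at h ⊢
  rw [locus_restrict f g hFS U] at h
  have hopen : ∀ A : Set S, (interior (U.ι ⁻¹' A)).Nonempty → (interior A).Nonempty := by
    rintro A ⟨t, ht⟩
    refine ⟨U.ι t, ?_⟩
    rw [mem_interior] at ht ⊢
    obtain ⟨W, hWA, hWo, htW⟩ := ht
    refine ⟨U.ι '' W, ?_, U.ι.isOpenEmbedding.isOpenMap W hWo, ⟨t, htW, rfl⟩⟩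
    rintro _ ⟨w, hw, rfl⟩
    exact hWA hw
  rcases h with h | h
  · exact Or.inl (hopen _ h)
  · exact Or.inr (hopen _ h)

theorem smooth_decided_of_flat_comp [IsIntegral S] [IsNoetherian S]
    [LocallyOfFiniteType g] [QuasiCompact g] [LocallyOfFiniteType (f ≫ g)] [QuasiCompact (f ≫ g)]
    [Flat (f ≫ g)] : Decided PSmooth f g := by
  have hFS : ConsProp.IsFieldStableMor (PSmooth.{u}) :=
    Groth.Agent.Helper5.CPair.fieldStableMor_of_descends (@Smooth)
  have hFSf : ConsProp.IsFieldStableMor (PFlat.{u}) :=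
    Groth.Agent.Helper5.CPair.fieldStableMor_of_descends (@Flat)
  rcases isConsMor_flat.2 f g with h | h
  swap
  · right
    refine h.mono (interior_mono ?_)
    intro s hs hsm
    apply hs
    have : Smooth (MoreMor.fiberMap f g s) := hsm
    exact (inferInstance : Flat (MoreMor.fiberMap f g s))
  · let U : S.Opens := ⟨interior (ConsProp.locusMor PFlat f g), isOpen_interior⟩
    apply decided_of_restrict f g hFS U
    obtain ⟨h1, h2, h3, h4, h5, h6⟩ := restrict_props f g U h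
    have hloc := locus_restrict f g hFSf U
    haveI : Flat (f ∣_ (g ⁻¹ᵁ U) ≫ g ∣_ U) := by
      rw [restrict_comp]
      exact MorphismProperty.of_isPullback (isPullback_morphismRestrict (f ≫ g) U).flip
        (inferInstance : Flat (f ≫ g))
    haveI : LocallyOfFinitePresentation (f ∣_ (g ⁻¹ᵁ U) ≫ g ∣_ U) :=
      LocallyOfFinitePresentation.iff_locallyOfFiniteType.mpr h5
    haveI : Flat (f ∣_ (g ⁻¹ᵁ U)) := by
      rw [Flat.iff_flat_stalkMap]
      intro x
      refine forall_of_flat_fiberMap (f ∣_ (g ⁻¹ᵁ U)) (g ∣_ U) _ ?_ x rfl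
      have hmem : (f ∣_ (g ⁻¹ᵁ U) ≫ g ∣_ U) x ∈
          ConsProp.locusMor PFlat (f ∣_ (g ⁻¹ᵁ U)) (g ∣_ U) := by
        rw [hloc]
        show U.ι ((f ∣_ (g ⁻¹ᵁ U) ≫ g ∣_ U) x) ∈ ConsProp.locusMor PFlat f g
        exact interior_subset ((f ∣_ (g ⁻¹ᵁ U) ≫ g ∣_ U) x).2
      exact hmem
    exact smooth_decided_of_flat (f ∣_ (g ⁻¹ᵁ U)) (g ∣_ U)

theorem isConsMor_smooth : ConsProp.IsConsMor (PSmooth.{u}) := by
  have hFS : ConsProp.IsFieldStableMor (PSmooth.{u}) :=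
    Groth.Agent.Helper5.CPair.fieldStableMor_of_descends (@Smooth)
  refine ⟨hFS, ?_⟩
  intro X Y S f g _ _ _ _ _ _
  obtain ⟨U, hUd, hUflat, hUfp⟩ := Groth.Agent.Helper3.RedGF6.main (f ≫ g)
  show Decided PSmooth f g
  apply decided_of_restrict f g hFS U
  obtain ⟨h1, h2, h3, h4, h5, h6⟩ := restrict_props f g U hUd.nonempty
  haveI : Flat (f ∣_ (g ⁻¹ᵁ U) ≫ g ∣_ U) := by rw [restrict_comp]; exact hUflat
  exact smooth_decided_of_flat_comp (f ∣_ (g ⁻¹ᵁ U)) (g ∣_ U)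

end Groth.Agent.Helper5.SmCons
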