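import Mathlib
import Groth.Agent.Helper5.PropCons3
import Groth.Agent.Helper5.FibTop9
import Groth.Agent.Helper5.SmCons3
import Groth.Agent.Helper6.HProj
import Groth.Agent.S7410

set_option autoImplicit false
universe u

namespace Groth.Agent.Helper5.PropCons

open CategoryTheory CategoryTheory.Limits AlgebraicGeometry TopologicalSpace Topology MorphismProperty
open Groth.Agent.Lead.FibLocus Groth.Agent.Lead.LimDiag
open Groth.Agent.Helper5.ConsPr Groth.Agent.Helper5.ConsLc Groth.Agent.Helper5.FlatCons
open Groth.Agent.Helper5.SmCons Groth.Agent.Helper5.FibTop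

variable {X Y S : Scheme.{u}} (f : X ⟶ Y) (g : Y ⟶ S)

theorem locus_proper_eq :
    ConsProp.locusMor PProper f g = {s : S | IsProper (fibMap f g s)} := rfl

/-- over an integral Noetherian base, properness of the fibre maps of a separated morphism is
generically decided (Chow's lemma) -/
theorem proper_decided_of_sep [IsIntegral S] [IsNoetherian S]
    [LocallyOfFiniteType g] [QuasiCompact g] [LocallyOfFiniteType (f ≫ g)] [QuasiCompact (f ≫ g)]
    [IsSeparated f] : SmCons.Decided PProper f g := by
  obtain ⟨hYN, hlft, hqc⟩ := noeth_of_comp f g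
  have hXN : IsNoetherian X := (noeth_instances (f ≫ g)).1
  have hirr : (irreducibleComponents (X : Type u)).Finite :=
    NoetherianSpace.finite_irreducibleComponents
  obtain ⟨n, X', π, j, hjimm, hcomm, hπ, hsurj, -⟩ := Groth.Agent.S7410.result f hirr
  let p := CohB1.ProjSpaceOver.toBase n Y
  haveI : IsProper p := Groth.Agent.Helper6.HProj.isProper_toBase n Y
  haveI : LocallyOfFiniteType (p ≫ g) := inferInstance
  haveI : QuasiCompact (p ≫ g) := inferInstance
  obtain ⟨hPN, hPfp⟩ := noeth_instances (p ≫ g)
  have e : j ≫ p ≫ g = π ≫ f ≫ g := by rw [← Category.assoc, hcomm, Category.assoc]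
  haveI : LocallyOfFiniteType (j ≫ p ≫ g) := by rw [e]; infer_instance
  haveI : QuasiCompact (j ≫ p ≫ g) := by rw [e]; infer_instance
  obtain ⟨hX'N, hX'fp⟩ := noeth_instances (j ≫ p ≫ g)
  have hlc := lc_closedImmersion_of_immersion j (p ≫ g)
  have hdec := cons_decide _ hlc
  have hEq : ConsProp.locusMor PProper f g = {s | IsClosedImmersion (fibMap j (p ≫ g) s)} := by
    ext s
    exact proper_fibMap_iff f g π p j hcomm s
  unfold SmCons.Decided
  rw [hEq]
  exact hdec

end Groth.Agent.Helper5.PropCons
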