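import Mathlib
import Groth.Agent.Helper5.PropCons4

set_option autoImplicit false
universe u

namespace Groth.Agent.Helper5.PropCons

open CategoryTheory CategoryTheory.Limits AlgebraicGeometry TopologicalSpace Topology MorphismProperty
open Groth.Agent.Lead.FibLocus Groth.Agent.Lead.LimDiag
open Groth.Agent.Helper5.ConsPr Groth.Agent.Helper5.ConsLc Groth.Agent.Helper5.FlatCons
open Groth.Agent.Helper5.SmCons Groth.Agent.Helper5.FibTop

variable {X Y S : Scheme.{u}} (f : X ⟶ Y) (g : Y ⟶ S)

/-- the restriction of `f` to an open subscheme `X₀` of the source is separated as soon as the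
range of the diagonal of `f` is closed in the part of `X ×_Y X` lying over `X₀ × X₀` -/
theorem isSeparated_ι_comp_of_closure (X₀ : X.Opens)
    (hcl : ∀ w : ↥(pullback f f), w ∈ closure (Set.range (pullback.diagonal f).base) →
      (pullback.fst f f).base w ∈ X₀ → w ∈ Set.range (pullback.diagonal f).base) :
    IsSeparated (X₀.ι ≫ f) := by
  let k := X₀.ι ≫ f
  let φ : pullback k k ⟶ pullback f f :=
    pullback.map k k f f X₀.ι X₀.ι (𝟙 Y) (by simp [k]) (by simp [k])
  haveI : IsOpenImmersion φ := by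
    dsimp only [φ]
    infer_instance
  have hfst : φ ≫ pullback.fst f f = pullback.fst k k ≫ X₀.ι := pullback.lift_fst _ _ _
  have hsnd : φ ≫ pullback.snd f f = pullback.snd k k ≫ X₀.ι := pullback.lift_snd _ _ _
  have hΔ : pullback.diagonal k ≫ φ = X₀.ι ≫ pullback.diagonal f := by
    apply pullback.hom_ext
    · rw [Category.assoc, hfst, ← Category.assoc, pullback.diagonal_fst, Category.id_comp,
        Category.assoc, pullback.diagonal_fst, Category.comp_id]
    · rw [Category.assoc, hsnd, ← Category.assoc, pullback.diagonal_snd, Category.id_comp,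
        Category.assoc, pullback.diagonal_snd, Category.comp_id]
  refine ⟨IsClosedImmersion.of_isPreimmersion _ ?_⟩
  rw [← closure_subset_iff_isClosed]
  intro w' hw'
  -- the image of `w'` lies in the closure of the diagonal of `f`
  have h1 : φ.base w' ∈ closure (Set.range (pullback.diagonal f).base) := by
    have hsub : φ.base '' Set.range (pullback.diagonal k).base ⊆
        Set.range (pullback.diagonal f).base := by
      rintro _ ⟨_, ⟨x, rfl⟩, rfl⟩
      refine ⟨X₀.ι.base x, ?_⟩
      have := congrArg (fun ψ : (X₀ : Scheme.{u}) ⟶ pullback f f => ψ.base x) hΔ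
      simp only [Scheme.Hom.comp_apply] at this
      exact this.symm
    exact closure_mono hsub (image_closure_subset_closure_image φ.continuous ⟨w', hw', rfl⟩)
  have h2 : (pullback.fst f f).base (φ.base w') ∈ X₀ := by
    have := congrArg (fun ψ : pullback k k ⟶ X => ψ.base w') hfst
    simp only [Scheme.Hom.comp_apply] at this
    rw [this]
    exact ((pullback.fst k k).base w').2
  obtain ⟨x, hx⟩ := hcl _ h1 h2
  -- `x` lies in `X₀`
  have hx0 : x ∈ X₀ := by
    have h3 : (pullback.fst f f).base ((pullback.diagonal f).base x) = x := by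
      have := congrArg (fun ψ : X ⟶ X => ψ.base x) (pullback.diagonal_fst f)
      simp only [Scheme.Hom.comp_apply] at this
      exact this
    rw [hx] at h3
    rw [← h3]
    exact h2
  refine ⟨⟨x, hx0⟩, ?_⟩
  apply φ.isOpenEmbedding.injective
  have := congrArg (fun ψ : (X₀ : Scheme.{u}) ⟶ pullback f f => ψ.base ⟨x, hx0⟩) hΔ
  simp only [Scheme.Hom.comp_apply] at this
  rw [this]
  exact hx

/-- if the fibre maps over a non-empty open subset of an integral Noetherian base are separated,
then `f` is separated over a smaller non-empty open subset -/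
theorem exists_open_isSeparated [IsIntegral S] [IsNoetherian S]
    [LocallyOfFiniteType g] [QuasiCompact g] [LocallyOfFiniteType (f ≫ g)] [QuasiCompact (f ≫ g)]
    (U₁ : S.Opens) (hU₁ : (U₁ : Set S).Nonempty) (hsep : ∀ s ∈ U₁, IsSeparated (fibMap f g s)) :
    ∃ U : S.Opens, (U : Set S).Nonempty ∧ U ≤ U₁ ∧ IsSeparated (f ∣_ (g ⁻¹ᵁ U)) := by
  obtain ⟨hYN, hlft, hqc⟩ := noeth_of_comp f g
  have hXN : IsNoetherian X := (noeth_instances (f ≫ g)).1
  let Δ := pullback.diagonal f
  let h := diagBase f g
  have e : Δ ≫ h = f ≫ g := by simp [Δ, h, diagBase]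
  haveI : LocallyOfFiniteType h := by dsimp only [h, diagBase]; infer_instance
  haveI : QuasiCompact h := by dsimp only [h, diagBase]; infer_instance
  obtain ⟨hWN, hWfp⟩ := noeth_instances h
  let Z : Set ↥(pullback f f) := Set.range Δ.base
  have hZ : IsConstructible Z := by
    haveI : LocallyOfFiniteType (Δ ≫ h) := by rw [e]; infer_instance
    haveI : QuasiCompact (Δ ≫ h) := by rw [e]; infer_instance
    obtain ⟨-, hΔlft, hΔqc⟩ := noeth_of_comp Δ h
    haveI : LocallyOfFinitePresentation Δ :=
      LocallyOfFinitePresentation.iff_locallyOfFiniteType.mpr hΔlft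
    have hlc := Δ.isLocallyConstructible_image IsLocallyConstructible.univ
    rw [Set.image_univ] at hlc
    haveI : QuasiSeparatedSpace ↥(pullback f f) :=
      ⟨fun U V _ _ _ _ => NoetherianSpace.isCompact _⟩
    exact hlc.isConstructible
  obtain ⟨U₀, hU₀, hU₀ne, hcl⟩ := exists_open_closure_fibre h Z hZ
  let U : S.Opens := ⟨U₀ ∩ U₁, hU₀.inter U₁.2⟩
  have hUne : (U : Set S).Nonempty := nonempty_preirreducible_inter hU₀ U₁.2 hU₀ne hU₁
  refine ⟨U, hUne, fun s hs => hs.2, ?_⟩
  let X₀ : X.Opens := f ⁻¹ᵁ (g ⁻¹ᵁ U)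
  have hk : IsSeparated (X₀.ι ≫ f) := by
    apply isSeparated_ι_comp_of_closure
    intro w hw hwX
    let s : S := h.base w
    have hs : s ∈ U := by
      show (pullback.fst f f ≫ f ≫ g).base w ∈ U
      simp only [Scheme.Hom.comp_apply]
      exact hwX
    have h1 : w ∈ closure (Z ∩ h.base ⁻¹' {s}) := hcl s hs.1 ⟨hw, rfl⟩
    have hsepS : IsSeparated (fibMap f g s) := hsep s hs.2
    have hci : IsClosedImmersion (fibMap Δ h s) :=
      (prop_diagonal_fibMap_iff f g (@IsClosedImmersion) s).mp ((isSeparated_iff _).mp hsepS)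
    have hclosed : IsClosed (Set.range (fibMap Δ h s).base) :=
      (fibMap Δ h s).isClosedEmbedding.isClosed_range
    have hloc := (isClosed_range_fibMap_iff Δ h s).mp hclosed
    have := (subtype_closed_iff (h.base ⁻¹' {s}) Z).mp hloc
    exact this ⟨h1, rfl⟩
  have e2 : f ∣_ (g ⁻¹ᵁ U) ≫ (g ⁻¹ᵁ U).ι = X₀.ι ≫ f := morphismRestrict_ι f _
  haveI : IsSeparated (f ∣_ (g ⁻¹ᵁ U) ≫ (g ⁻¹ᵁ U).ι) := by rw [e2]; exact hk
  exact IsSeparated.of_comp (f ∣_ (g ⁻¹ᵁ U)) (g ⁻¹ᵁ U).ι

end Groth.Agent.Helper5.PropCons
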