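import Mathlib
import Groth.Agent.Helper5.PropCons5
import Groth.Agent.Helper5.ConsLc9

set_option autoImplicit false
universe u

namespace Groth.Agent.Helper5.PropCons

open CategoryTheory CategoryTheory.Limits AlgebraicGeometry TopologicalSpace Topology MorphismProperty
open Groth.Agent.Lead.FibLocus Groth.Agent.Lead.LimDiag
open Groth.Agent.Helper5.ConsPr Groth.Agent.Helper5.ConsLc Groth.Agent.Helper5.FlatCons
open Groth.Agent.Helper5.SmCons Groth.Agent.Helper5.FibTop

variable {X Y S : Scheme.{u}} (f : X ⟶ Y) (g : Y ⟶ S)

/-- over an integral Noetherian base, properness of the fibre maps is generically decided -/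
theorem proper_decided [IsIntegral S] [IsNoetherian S]
    [LocallyOfFiniteType g] [QuasiCompact g] [LocallyOfFiniteType (f ≫ g)] [QuasiCompact (f ≫ g)] :
    SmCons.Decided PProper f g := by
  obtain ⟨hYN, hlft, hqc⟩ := noeth_of_comp f g
  obtain ⟨hXN, hfgfp⟩ := noeth_instances (f ≫ g)
  obtain ⟨-, hgfp⟩ := noeth_instances g
  have hlc := s3424 f g
  rcases cons_decide _ hlc with h | h
  · let U₁ : S.Opens := ⟨interior {s | IsSeparated (fibMap f g s)}, isOpen_interior⟩
    have hU₁ : ∀ s ∈ U₁, IsSeparated (fibMap f g s) := fun s hs =>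
      interior_subset (s := {s : S | IsSeparated (fibMap f g s)}) hs
    obtain ⟨U, hUne, hUle, hsepU⟩ := exists_open_isSeparated f g U₁ h hU₁
    apply decided_of_restrict f g fieldStable_proper U
    obtain ⟨h1, h2, h3, h4, h5, h6⟩ := restrict_props f g U hUne
    exact proper_decided_of_sep (f ∣_ (g ⁻¹ᵁ U)) (g ∣_ U)
  · right
    refine h.mono (interior_mono ?_)
    intro s hs hp
    apply hs
    have : IsProper (fibMap f g s) := hp
    exact (inferInstance : IsSeparated (fibMap f g s))

theorem isConsMor_proper : ConsProp.IsConsMor (PProper.{u}) := by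
  refine ⟨fieldStable_proper, ?_⟩
  intro X Y S f g _ _ _ _ _ _
  exact proper_decided f g

section Loci

variable [LocallyOfFinitePresentation g] [QuasiCompact g] [QuasiSeparated g]
  [LocallyOfFinitePresentation (f ≫ g)] [QuasiCompact (f ≫ g)] [QuasiSeparated (f ≫ g)]

/-- S2577 -/
theorem lc_proper : IsLocallyConstructible {s : S | IsProper (fibMap f g s)} :=
  s5880 f g isConsMor_proper

/-- S2585 -/
theorem lc_finite : IsLocallyConstructible {s : S | IsFinite (fibMap f g s)} := by
  have h1 := lc_proper f g
  have h2 := s3445 f g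
  convert h1.inter h2 using 1
  ext s
  exact IsFinite.iff_isProper_and_locallyQuasiFinite _

/-- S2576 -/
theorem lc_closedImmersion : IsLocallyConstructible {s : S | IsClosedImmersion (fibMap f g s)} := by
  have h1 := lc_proper f g
  have h2 := lc_mono f g
  convert h1.inter h2 using 1
  ext s
  exact IsClosedImmersion.iff_isProper_and_mono _

end Loci

end Groth.Agent.Helper5.PropCons
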