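import Mathlib
import Groth.Agent.Helper5.PropCons6
import Groth.Agent.Helper5.FieldUnram2
import Groth.Agent.Lead.SchDescent3

set_option autoImplicit false
universe u

namespace Groth.Agent.Helper5.ImmCons

open CategoryTheory CategoryTheory.Limits AlgebraicGeometry TopologicalSpace Topology MorphismProperty
open Groth.Agent.Helper5.ConsPr

/-- a one-point integral scheme is Noetherian -/
theorem isNoetherian_of_onePoint (T : Scheme.{u}) [IsIntegral T] [Subsingleton T] :
    IsNoetherian T := by
  haveI : Nonempty T := inferInstance
  haveI : IsAffine T := Groth.Agent.Helper5.FieldUnram.isAffine_of_unique T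
  letI := (isField_of_isIntegral_of_subsingleton T).toField
  haveI : IsNoetherianRing Γ(T, ⊤) := inferInstance
  haveI : IsLocallyNoetherian T := isLocallyNoetherian_of_isOpenImmersion T.isoSpec.hom
  haveI : Finite T := Finite.of_subsingleton
  haveI : CompactSpace T := Finite.compactSpace
  exact {}

/-- the relation "the morphism is an immersion" -/
def PImm : ∀ ⦃X Y T : Scheme.{u}⦄, (X ⟶ Y) → (Y ⟶ T) → Prop := fun _ _ _ f _ => IsImmersion f

theorem fieldStable_imm : ConsProp.IsFieldStableMor (PImm.{u}) := by
  intro X X' Y Y' T T' f g f' g' eX eY h _ _ _ _ _ _ _ _ sqY sqX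
  constructor
  · intro hf
    exact MorphismProperty.of_isPullback sqX hf
  · intro hf'
    have : Nonempty T' := inferInstance
    have hh : Surjective h := surjective_of_subsingleton h
    have hfin : Finite T' := Finite.of_subsingleton
    have hqc : QuasiCompact h := ⟨fun U _ _ => (Set.toFinite _).isCompact⟩
    have hfl : Flat h := inferInstance
    have heY : (@Surjective ⊓ @Flat ⊓ @QuasiCompact : MorphismProperty Scheme.{u}) eY :=
      ⟨⟨MorphismProperty.of_isPullback sqY.flip hh, MorphismProperty.of_isPullback sqY.flip hfl⟩,
        MorphismProperty.of_isPullback sqY.flip hqc⟩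
    haveI : IsNoetherian T' := isNoetherian_of_onePoint T'
    haveI : LocallyOfFiniteType g' := MorphismProperty.of_isPullback sqY inferInstance
    haveI : QuasiCompact g' := MorphismProperty.of_isPullback sqY inferInstance
    have big : IsPullback eX (f' ≫ g') (f ≫ g) h := sqX.paste_vert sqY
    haveI : LocallyOfFiniteType (f' ≫ g') := MorphismProperty.of_isPullback big inferInstance
    haveI : QuasiCompact (f' ≫ g') := MorphismProperty.of_isPullback big inferInstance
    obtain ⟨-, -, hqc'⟩ := noeth_of_comp f' g'
    exact (Groth.Agent.Lead.SchDescent3.immersion_descend sqX.flip heY hf' hqc').1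

end Groth.Agent.Helper5.ImmCons
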