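import Mathlib

namespace Groth.Agent.Helper5.PrimeBetween

universe u

theorem dom_aux (D : Type u) [CommRing D] [IsDomain D] [IsNoetherianRing D] (Q : Ideal D) [Q.IsPrime]
    (hht : 1 < Q.height) (a : D) (haQ : a ∈ Q) (ha0 : a ≠ 0) :
    ∃ T : Ideal D, T.IsPrime ∧ T ≠ ⊥ ∧ T < Q ∧ a ∉ T := by
  classical
  have hfin : (Ideal.span {a}).minimalPrimes.Finite :=
    Ideal.finite_minimalPrimes_of_isNoetherianRing D _
  have hM1 : ∀ p ∈ (Ideal.span {a}).minimalPrimes, p.height ≤ 1 := fun p hp =>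
    Ideal.height_le_one_of_isPrincipal_of_mem_minimalPrimes _ p hp
  -- prime avoidance
  have havoid : ¬ ((Q : Set D) ⊆ ⋃ p ∈ (hfin.toFinset : Set (Ideal D)), (p : Set D)) := by
    intro hsub
    rw [Ideal.subset_union_prime (f := fun p : Ideal D => p) ⊥ ⊥ ?_] at hsub
    · obtain ⟨p, hp, hQp⟩ := hsub
      rw [Set.Finite.mem_toFinset] at hp
      have := (Ideal.height_mono hQp).trans (hM1 p hp)
      exact absurd hht (not_lt.mpr this)
    · intro p hp _ _
      rw [Set.Finite.mem_toFinset] at hp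
      exact hp.isPrime
  rw [Set.not_subset] at havoid
  obtain ⟨b, hbQ, hbM⟩ := havoid
  have hbM' : ∀ p ∈ (Ideal.span {a}).minimalPrimes, b ∉ p := by
    intro p hp hbp
    apply hbM
    simp only [Set.mem_iUnion]
    exact ⟨p, by simpa using hp, hbp⟩
  have hspanb : Ideal.span {b} ≤ Q := by
    rw [Ideal.span_le]; simpa using hbQ
  obtain ⟨T, hT, hTQ⟩ := Ideal.exists_minimalPrimes_le hspanb
  have hTprime : T.IsPrime := hT.isPrime
  have hbT : b ∈ T := hT.1.2 (Ideal.subset_span rfl)
  have hT1 : T.height ≤ 1 := Ideal.height_le_one_of_isPrincipal_of_mem_minimalPrimes _ T hT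
  have hspana : Ideal.span {a} ≤ Q := by
    rw [Ideal.span_le]; simpa using haQ
  refine ⟨T, hTprime, ?_, lt_of_le_of_ne hTQ ?_, ?_⟩
  · rintro rfl
    obtain ⟨p, hp, -⟩ := Ideal.exists_minimalPrimes_le hspana
    apply hbM' p hp
    rw [Ideal.mem_bot] at hbT
    rw [hbT]; exact zero_mem _
  · rintro rfl
    exact absurd hht (not_lt.mpr hT1)
  · intro haT
    have hle : Ideal.span {a} ≤ T := by
      rw [Ideal.span_le]; simpa using haT
    obtain ⟨p, hp, hpT⟩ := Ideal.exists_minimalPrimes_le hle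
    have hpprime : p.IsPrime := hp.isPrime
    have hpne : p ≠ ⊥ := by
      rintro rfl
      have : a ∈ (⊥ : Ideal D) := hp.1.2 (Ideal.subset_span rfl)
      exact ha0 (by simpa using this)
    have hpeq : p = T := by
      by_contra hne
      have hlt : p < T := lt_of_le_of_ne hpT hne
      have h1 := Ideal.height_add_one_le_of_lt_of_isPrime hlt
      have h2 : p.height ≠ 0 := by
        rw [Ne, Ideal.height_eq_zero_iff_eq_bot]; exact hpne
      have h3 : 1 ≤ p.height := Order.one_le_iff_ne_zero.mpr h2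
      have h4 : (1 : ℕ∞) + 1 ≤ 1 := (add_le_add_left h3 1).trans (h1.trans hT1)
      exact absurd h4 (by decide)
    exact hbM' p hp (hpeq ▸ hbT)

end Groth.Agent.Helper5.PrimeBetween
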