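import Groth.Agent.Helper5.DTCor

universe u
open CategoryTheory CategoryTheory.Limits Opposite LocCoh

namespace Groth.Agent.Helper5.DTUniv

open Groth.Agent.Helper5.DTApi Groth.Agent.Helper5.DTKer Groth.Agent.Helper5.DTBij
  Groth.Agent.Helper5.DTCor

variable {R : Type u} [CommRing R] (I : Ideal R)

/-- S11600 -/
theorem existsUnique_factor [IsNoetherianRing R] {M M' K : Type u} [AddCommGroup M] [Module R M]
    [AddCommGroup M'] [Module R M'] [AddCommGroup K] [Module R K] (e : M →ₗ[R] M')
    (hker : LinearMap.ker e ≤ DRing.torsionSub I M)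
    (hcoker : LocCoh.IsPowerTorsion I (M' ⧸ LinearMap.range e))
    (ψ : M →ₗ[R] K) : ∃! ψ' : M' →ₗ[R] LocCoh.DT I K, ψ' ∘ₗ e = LocCoh.toDT I K ∘ₗ ψ := by
  set De := ((idealTransform I).map (ModuleCat.ofHom e)).hom with hDe
  have hDeb : Function.Bijective De := map_bijective I e hker hcoker
  set Dψ := ((idealTransform I).map (ModuleCat.ofHom ψ)).hom with hDψ
  let Dee := LinearEquiv.ofBijective De hDeb
  refine ⟨Dψ ∘ₗ Dee.symm.toLinearMap ∘ₗ LocCoh.toDT I M', ?_, ?_⟩
  · apply LinearMap.ext
    intro m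
    simp only [LinearMap.coe_comp, LinearEquiv.coe_coe, Function.comp_apply]
    rw [← toDT_naturality I e m]
    have : Dee.symm (((idealTransform I).map (ModuleCat.ofHom e)).hom (toDT I M m)) = toDT I M m :=
      Dee.symm_apply_apply _
    rw [this, hDψ, toDT_naturality]
  · intro ψ'' h
    apply eq_of_comp_eq I e hcoker
    rw [h]
    apply LinearMap.ext
    intro m
    simp only [LinearMap.coe_comp, LinearEquiv.coe_coe, Function.comp_apply]
    rw [← toDT_naturality I e m]
    have : Dee.symm (((idealTransform I).map (ModuleCat.ofHom e)).hom (toDT I M m)) = toDT I M m :=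
      Dee.symm_apply_apply _
    rw [this, hDψ, toDT_naturality]

/-- `η_{D_I(M)}` is bijective. -/
theorem toDT_DT_bijective [IsNoetherianRing R] (M : Type u) [AddCommGroup M] [Module R M] :
    Function.Bijective (LocCoh.toDT I (LocCoh.DT I M)) := by
  constructor
  · rw [← LinearMap.ker_eq_bot, ker_toDT, torsionSub_DT_eq_bot]
  · intro y
    obtain ⟨n, f, rfl⟩ := exists_rep I _ y
    have hfg : ((LinearMap.range f.hom).map (LinearMap.range (toDT I M)).mkQ).FG := by
      refine Submodule.FG.map _ ?_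
      rw [LinearMap.range_eq_map]
      exact (Module.Finite.fg_top).map _
    obtain ⟨k1, hk1⟩ := exists_pow_kill I _ hfg (fun x _ => coker_toDT_isPowerTorsion I M x)
    have h1 : ∀ a ∈ I ^ k1, ∀ x ∈ LinearMap.range f.hom, a • x ∈ LinearMap.range (toDT I M) := by
      intro a ha x hx
      have := hk1 a ha ((LinearMap.range (toDT I M)).mkQ x) ⟨x, hx, rfl⟩
      rw [← map_smul, Submodule.mkQ_apply, Submodule.Quotient.mk_eq_zero] at this
      exact this
    set g1 : ↥(I ^ (k1 + n)) →ₗ[R] LocCoh.DT I M :=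
      f.hom ∘ₗ Submodule.inclusion (Ideal.pow_le_pow_right (Nat.le_add_left n k1)) with hg1
    obtain ⟨t, h, hh⟩ := exists_lift I (toDT I M) (ker_toDT I M).le g1
      (fun x => map_inclusion_mem I f.hom _ h1 x)
    refine ⟨ι I _ (t + (k1 + n)) (ModuleCat.ofHom h), ?_⟩
    rw [toDT_apply', ← ι_res I _ (Nat.zero_le (t + (k1 + n))) (smulMor I 0 _ _), res_smulMor,
      ← ι_res I _ ((Nat.le_add_left n k1).trans (Nat.le_add_left (k1 + n) t)) f]
    congr 1
    apply ModuleCat.hom_ext
    ext ⟨r, hr⟩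
    rw [smulMor_hom_apply, res_hom]
    show r • ι I (ModuleCat.of R M) (t + (k1 + n)) (ModuleCat.ofHom h) = _
    rw [smul_ι_eq_toDT I M (ModuleCat.ofHom h) r hr]
    have := congrArg (fun φ => φ ⟨r, hr⟩) hh
    simp only [LinearMap.coe_comp, Function.comp_apply, hg1] at this
    exact this

end Groth.Agent.Helper5.DTUniv
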