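import Groth.Agent.Helper5.DTKer

universe u
open CategoryTheory CategoryTheory.Limits Opposite LocCoh

namespace Groth.Agent.Helper5.DTBij

open Groth.Agent.Helper5.DTApi Groth.Agent.Helper5.DTKer

variable {R : Type u} [CommRing R] (I : Ideal R)

theorem map_injective [IsNoetherianRing R] {M M' : Type u} [AddCommGroup M] [Module R M]
    [AddCommGroup M'] [Module R M'] (e : M →ₗ[R] M')
    (hker : LinearMap.ker e ≤ DRing.torsionSub I M) :
    Function.Injective ((idealTransform I).map (ModuleCat.ofHom e)).hom := by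
  rw [injective_iff_map_eq_zero]
  intro x hx
  obtain ⟨n, f, rfl⟩ := exists_rep I _ x
  rw [map_ι, ι_eq_zero_iff] at hx
  obtain ⟨k, hnk, hk⟩ := hx
  -- φ : I^k → M
  set φ : ↥(I ^ k) →ₗ[R] M := f.hom ∘ₗ Submodule.inclusion (Ideal.pow_le_pow_right hnk) with hφ
  have h1 : ∀ x, φ x ∈ DRing.torsionSub I M := by
    intro x
    apply hker
    have := congrArg (fun t => t.hom x) hk
    rw [LinearMap.mem_ker, hφ]
    simpa [res_hom] using this
  obtain ⟨k', hk'⟩ := exists_comp_inclusion_eq_zero I φ h1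
  rw [← ι_res I _ (hnk.trans (Nat.le_add_left k k')) f]
  have : res I _ (hnk.trans (Nat.le_add_left k k')) f = 0 := by
    apply ModuleCat.hom_ext
    rw [res_hom]
    have := hk'
    rw [hφ, LinearMap.comp_assoc] at this
    exact this
  rw [this, map_zero]


/-- Lifting lemma: a linear map `g1 : J → M'` (J = I^n1, Noetherian) with image in `range e`, where
`ker e` is torsion, lifts on a deeper power of `I`. -/
theorem exists_lift [IsNoetherianRing R] {M M' : Type u} [AddCommGroup M] [Module R M]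
    [AddCommGroup M'] [Module R M'] (e : M →ₗ[R] M')
    (hker : LinearMap.ker e ≤ DRing.torsionSub I M) {n1 : ℕ} (g1 : ↥(I ^ n1) →ₗ[R] M')
    (hg1 : ∀ x, g1 x ∈ LinearMap.range e) :
    ∃ (t : ℕ) (h : ↥(I ^ (t + n1)) →ₗ[R] M),
      e ∘ₗ h = g1 ∘ₗ Submodule.inclusion (Ideal.pow_le_pow_right (Nat.le_add_left n1 t)) := by
  classical
  obtain ⟨s, p, hp⟩ := Module.Finite.exists_fin' R ↥(I ^ n1)
  -- lift on the basis
  choose mfun hmfun using fun i : Fin s => hg1 (p (Pi.single i 1))
  let gt : (Fin s → R) →ₗ[R] M := (Pi.basisFun R (Fin s)).constr R mfun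
  have hgt : e ∘ₗ gt = g1 ∘ₗ p := by
    apply (Pi.basisFun R (Fin s)).ext
    intro i
    simp only [LinearMap.coe_comp, Function.comp_apply, gt, Module.Basis.constr_basis]
    rw [hmfun i, Pi.basisFun_apply]
  set K := LinearMap.ker p with hK
  have hKfg : (K.map gt).FG := (IsNoetherian.noetherian K).map gt
  have hKt : ∀ x ∈ K.map gt, x ∈ DRing.torsionSub I M := by
    rintro _ ⟨v, hv, rfl⟩
    apply hker
    rw [LinearMap.mem_ker]
    have := congrArg (fun φ => φ v) hgt
    simp only [LinearMap.coe_comp, Function.comp_apply] at this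
    rw [this, LinearMap.mem_ker.mp hv, map_zero]
  obtain ⟨k2, hk2⟩ := exists_pow_kill I _ hKfg hKt
  obtain ⟨c, hc⟩ := Ideal.exists_pow_inf_eq_pow_smul I K
  set t := c + k2 with ht
  have hkill : ∀ v ∈ (I ^ t • ⊤ ⊓ K : Submodule R (Fin s → R)), gt v = 0 := by
    intro v hv
    rw [hc t (Nat.le_add_right c k2)] at hv
    have ht' : t - c = k2 := by omega
    rw [ht'] at hv
    refine Submodule.smul_induction_on hv ?_ ?_
    · intro a ha u hu
      rw [map_smul]
      exact hk2 a ha _ ⟨u, hu.2, rfl⟩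
    · intro x y hx hy
      rw [map_add, hx, hy, add_zero]
  -- the map q
  have hmem0 : ∀ v ∈ (I ^ t • ⊤ : Submodule R (Fin s → R)), ((p v : ↥(I ^ n1)) : R) ∈ I ^ (t + n1) := by
    intro v hv
    refine Submodule.smul_induction_on hv ?_ ?_
    · intro a ha u _
      rw [map_smul, pow_add]
      exact Submodule.mul_mem_mul ha (p u).2
    · intro x y hx hy
      rw [map_add]
      exact (I ^ (t + n1)).add_mem hx hy
  have hmem : ∀ v : ↥(I ^ t • ⊤ : Submodule R (Fin s → R)), ((p v.1 : ↥(I ^ n1)) : R) ∈ I ^ (t + n1) :=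
    fun v => hmem0 v.1 v.2
  let q : ↥(I ^ t • ⊤ : Submodule R (Fin s → R)) →ₗ[R] ↥(I ^ (t + n1)) :=
    LinearMap.codRestrict (I ^ (t + n1))
      ((I ^ n1).subtype ∘ₗ p ∘ₗ (I ^ t • ⊤ : Submodule R (Fin s → R)).subtype) hmem
  have hq : Function.Surjective q := by
    rintro ⟨w, hw⟩
    have hw' : w ∈ I ^ t * I ^ n1 := by rwa [← pow_add]
    have key : ∀ (w : R) (hw : w ∈ I ^ t * I ^ n1), ∃ v : ↥(I ^ t • ⊤ : Submodule R (Fin s → R)),
        ((p v.1 : ↥(I ^ n1)) : R) = w := by
      intro w hw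
      refine Submodule.mul_induction_on hw ?_ ?_
      · intro a ha b hb
        obtain ⟨u, hu⟩ := hp ⟨b, hb⟩
        refine ⟨⟨a • u, Submodule.smul_mem_smul ha Submodule.mem_top⟩, ?_⟩
        rw [map_smul, hu]
        rfl
      · rintro x y ⟨v1, h1⟩ ⟨v2, h2⟩
        refine ⟨v1 + v2, ?_⟩
        rw [Submodule.coe_add, map_add, Submodule.coe_add, h1, h2]
    obtain ⟨v, hv⟩ := key w hw'
    exact ⟨v, Subtype.ext hv⟩
  have hle : LinearMap.ker q ≤ LinearMap.ker (gt ∘ₗ (I ^ t • ⊤ : Submodule R (Fin s → R)).subtype) := by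
    intro v hv
    rw [LinearMap.mem_ker] at hv ⊢
    apply hkill
    refine ⟨v.2, ?_⟩
    show p v.1 = 0
    apply Subtype.ext
    have := congrArg Subtype.val hv
    exact this
  let h : ↥(I ^ (t + n1)) →ₗ[R] M :=
    (LinearMap.ker q).liftQ _ hle ∘ₗ (q.quotKerEquivOfSurjective hq).symm.toLinearMap
  have hh : ∀ v, h (q v) = gt v.1 := by
    intro v
    have : (q.quotKerEquivOfSurjective hq).symm (q v) = Submodule.Quotient.mk v := by
      rw [LinearEquiv.symm_apply_eq]
      rfl
    simp only [h, LinearMap.coe_comp, LinearEquiv.coe_coe, Function.comp_apply, this,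
      Submodule.liftQ_apply]
    rfl
  refine ⟨t, h, ?_⟩
  apply LinearMap.ext
  intro w
  obtain ⟨v, rfl⟩ := hq w
  simp only [LinearMap.coe_comp, Function.comp_apply]
  rw [hh]
  have := congrArg (fun φ => φ v.1) hgt
  simp only [LinearMap.coe_comp, Function.comp_apply] at this
  rw [this]
  congr 1


theorem map_surjective [IsNoetherianRing R] {M M' : Type u} [AddCommGroup M] [Module R M]
    [AddCommGroup M'] [Module R M'] (e : M →ₗ[R] M')
    (hker : LinearMap.ker e ≤ DRing.torsionSub I M)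
    (hcoker : LocCoh.IsPowerTorsion I (M' ⧸ LinearMap.range e)) :
    Function.Surjective ((idealTransform I).map (ModuleCat.ofHom e)).hom := by
  intro y
  obtain ⟨n, g, rfl⟩ := exists_rep I _ y
  -- step 1
  have hfg : ((LinearMap.range g.hom).map (LinearMap.range e).mkQ).FG := by
    refine Submodule.FG.map _ ?_
    rw [LinearMap.range_eq_map]
    exact (Module.Finite.fg_top).map _
  obtain ⟨k1, hk1⟩ := exists_pow_kill I _ hfg (fun x _ => hcoker x)
  have h1 : ∀ a ∈ I ^ k1, ∀ x ∈ LinearMap.range g.hom, a • x ∈ LinearMap.range e := by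
    intro a ha x hx
    have := hk1 a ha ((LinearMap.range e).mkQ x) ⟨x, hx, rfl⟩
    rw [← map_smul, Submodule.mkQ_apply, Submodule.Quotient.mk_eq_zero] at this
    exact this
  set g1 : ↥(I ^ (k1 + n)) →ₗ[R] M' :=
    g.hom ∘ₗ Submodule.inclusion (Ideal.pow_le_pow_right (Nat.le_add_left n k1)) with hg1
  obtain ⟨t, h, hh⟩ := exists_lift I e hker g1 (fun x => map_inclusion_mem I g.hom _ h1 x)
  refine ⟨ι I _ (t + (k1 + n)) (ModuleCat.ofHom h), ?_⟩
  rw [map_ι, ← ι_res I _ ((Nat.le_add_left n k1).trans (Nat.le_add_left (k1 + n) t)) g]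
  congr 1
  apply ModuleCat.hom_ext
  rw [res_hom, ModuleCat.hom_comp, ModuleCat.hom_ofHom, ModuleCat.hom_ofHom, hh, hg1,
    LinearMap.comp_assoc]
  rfl

theorem map_bijective [IsNoetherianRing R] {M M' : Type u} [AddCommGroup M] [Module R M]
    [AddCommGroup M'] [Module R M'] (e : M →ₗ[R] M')
    (hker : LinearMap.ker e ≤ DRing.torsionSub I M)
    (hcoker : LocCoh.IsPowerTorsion I (M' ⧸ LinearMap.range e)) :
    Function.Bijective ((idealTransform I).map (ModuleCat.ofHom e)).hom :=
  ⟨map_injective I e hker, map_surjective I e hker hcoker⟩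

end Groth.Agent.Helper5.DTBij
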