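import Mathlib

set_option autoImplicit false
universe u

namespace Groth.Agent.Helper5.SOne2

variable {B : Type u} [CommRing B] {N : Type u} [AddCommGroup N] [Module B N]
  (p : Ideal B) [p.IsPrime] (A : Type u) [CommRing A] [Algebra B A] [IsLocalization.AtPrime A p]
  {NA : Type u} [AddCommGroup NA] [Module B NA] [Module A NA] [IsScalarTower B A NA]
  (g : N →ₗ[B] NA) [IsLocalizedModule p.primeCompl g]

include p g in
theorem mem_support_iff_comap (q : PrimeSpectrum A) :
    q ∈ Module.support A NA ↔ q.comap (algebraMap B A) ∈ Module.support B N := by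
  rw [Module.mem_support_iff', Module.mem_support_iff']
  constructor
  · rintro ⟨m, hm⟩
    obtain ⟨⟨n, s⟩, rfl⟩ := IsLocalizedModule.mk'_surjective p.primeCompl g m
    refine ⟨n, fun b hb hbn => ?_⟩
    refine hm (algebraMap B A b) hb ?_
    rw [Function.uncurry_apply_pair, algebraMap_smul, ← IsLocalizedModule.mk'_smul, hbn,
      IsLocalizedModule.mk'_zero]
  · rintro ⟨n, hn⟩
    refine ⟨g n, fun r hr hrn => ?_⟩
    obtain ⟨b, s, rfl⟩ := IsLocalization.exists_mk'_eq p.primeCompl r
    have hb : b ∉ (q.comap (algebraMap B A)).asIdeal := by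
      intro hb
      apply hr
      rw [IsLocalization.mk'_eq_mul_mk'_one]
      exact q.asIdeal.mul_mem_right _ hb
    have h1 : g (b • n) = 0 := by
      have h2 : algebraMap B A (s : B) • (IsLocalization.mk' A b s • g n) = 0 := by
        rw [hrn, smul_zero]
      rw [smul_smul, IsLocalization.mk'_spec', algebraMap_smul, ← map_smul] at h2
      exact h2
    obtain ⟨t, ht⟩ := (IsLocalizedModule.eq_zero_iff p.primeCompl g).mp h1
    have htq : (t : B) ∉ (q.comap (algebraMap B A)).asIdeal := by
      intro htq
      have hu : IsUnit (algebraMap B A (t : B)) := IsLocalization.map_units A t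
      exact q.2.ne_top (Ideal.eq_top_of_isUnit_mem _ htq hu)
    have h3 : (t : B) * b ∉ (q.comap (algebraMap B A)).asIdeal := by
      intro h
      rcases (q.comap (algebraMap B A)).2.mem_or_mem h with h | h
      · exact htq h
      · exact hb h
    apply hn _ h3
    rw [mul_smul]
    exact ht

end Groth.Agent.Helper5.SOne2
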