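import Groth.Agent.Helper5.FibBound

set_option autoImplicit false
universe u
open AlgebraicGeometry CategoryTheory TopologicalSpace

namespace Groth.Agent.Helper5.SubDim

open Groth.Agent.Helper5.LocDE Groth.Agent.Helper5.VarDim Groth.Agent.Helper5.MaxPt

/-- Codimension in a scheme locally of finite type over a field is the difference of the
transcendence degrees of the residue fields. -/
theorem variety_codim (k : Type u) [Field k] {F : Scheme.{u}}
    (g : F ⟶ Spec (CommRingCat.of k)) [LocallyOfFiniteType g] (x z : F) (hsp : z ⤳ x) :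
    ∃ a tx tz : ℕ, Order.krullDim ↥(Set.Icc x z) = a ∧
      @Algebra.trdeg k (F.residueField x) _ _ (resHom k g x).toAlgebra = tx ∧
      @Algebra.trdeg k (F.residueField z) _ _ (resHom k g z).toAlgebra = tz ∧ a + tx = tz := by
  obtain ⟨V, hV, hxV⟩ : ∃ V : F.Opens, IsAffineOpen V ∧ x ∈ V := by
    obtain ⟨_, ⟨V, hV, rfl⟩, hxV, -⟩ :=
      (F.isBasis_affineOpens).exists_subset_of_mem_open (Set.mem_univ x) isOpen_univ
    exact ⟨V, hV, hxV⟩
  have hzV : z ∈ V := hsp.mem_open V.2 hxV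
  let A := Γ(F, V)
  let _ : Algebra k A := (Groth.Agent.Helper5.FieldUnram.ρ k g V).hom.toAlgebra
  have hft : Algebra.FiniteType k A := Groth.Agent.Helper5.FieldUnram.ρ_finiteType k g V hV
  let Q : PrimeSpectrum A := hV.primeIdealOf ⟨x, hxV⟩
  let P : PrimeSpectrum A := hV.primeIdealOf ⟨z, hzV⟩
  have hQ : hV.fromSpec Q = x := hV.fromSpec_primeIdealOf ⟨x, hxV⟩
  have hP : hV.fromSpec P = z := hV.fromSpec_primeIdealOf ⟨z, hzV⟩
  obtain ⟨tx, htx1, htx2⟩ := trdeg_eq_coheight_chart k g V hV Q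
  obtain ⟨tz, htz1, htz2⟩ := trdeg_eq_coheight_chart k g V hV P
  rw [hQ] at htx1
  rw [hP] at htz1
  have hK := Groth.Agent.Helper5.UCat.krullDim_Icc_eq_height V hV x z hxV hzV hsp
  have hPQ : P.asIdeal ≤ Q.asIdeal := by
    have h1 : hV.fromSpec P ⤳ hV.fromSpec Q := by rw [hP, hQ]; exact hsp
    rw [hV.fromSpec.isOpenEmbedding.isInducing.specializes_iff] at h1
    exact (PrimeSpectrum.le_iff_specializes _ _).2 h1
  let B := A ⧸ P.asIdeal
  let Qb : Ideal B := Q.asIdeal.map (Ideal.Quotient.mk P.asIdeal)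
  have hQb : Qb.IsPrime := Ideal.map_isPrime_of_surjective Ideal.Quotient.mk_surjective
    (by rw [Ideal.mk_ker]; exact hPQ)
  have hN : IsNoetherianRing A := Algebra.FiniteType.isNoetherianRing k A
  have hform := Groth.Agent.Helper5.FtDim.height_add_dim_quotient k B Qb
  have hB : ringKrullDim B = ((tz : ℕ∞) : WithBot ℕ∞) := by
    rw [Groth.Agent.Helper5.FtDim.ringKrullDim_quotient_eq_coheight P, htz2]
  have hBQ : ringKrullDim (B ⧸ Qb) = ((tx : ℕ∞) : WithBot ℕ∞) := by
    rw [ringKrullDim_eq_of_ringEquiv (DoubleQuot.quotQuotEquivQuotOfLE hPQ),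
      Groth.Agent.Helper5.FtDim.ringKrullDim_quotient_eq_coheight Q, htx2]
  obtain ⟨a, ha⟩ := ENat.ne_top_iff_exists.1 (Ideal.height_ne_top_of_isPrime (I := Qb))
  rw [hB, hBQ, ← ha] at hform
  refine ⟨a, tx, tz, ?_, htx1, htz1, ?_⟩
  · rw [hK]
    show ((Qb.height : ℕ∞) : WithBot ℕ∞) = _
    rw [← ha]
    rfl
  · exact_mod_cast hform

end Groth.Agent.Helper5.SubDim
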