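import Mathlib

set_option autoImplicit false
universe u
open MvPolynomial

namespace Groth.Agent.Helper5.LST

section kernel

variable {k T : Type*} [CommRing k] [CommRing T] [Algebra k T] (m l c : ℕ)
  (φ : MvPolynomial (Fin m) k →ₐ[k] T) (r : Fin c → MvPolynomial (Fin m) k)
  (v : Fin l → T) (P : Fin l → MvPolynomial (Fin m) k)

/-- the retraction `k[y,w] → k[y]`, `w_i ↦ P_i` -/
noncomputable def theta : MvPolynomial (Fin (m + l)) k →ₐ[k] MvPolynomial (Fin m) k :=
  aeval (Fin.append (fun j => (X j : MvPolynomial (Fin m) k)) P)

/-- the extended presentation -/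
noncomputable def psi : MvPolynomial (Fin (m + l)) k →ₐ[k] T :=
  aeval (Fin.append (fun j => φ (X j)) v)

/-- the extended relations -/
noncomputable def extRel : Fin (c + l) → MvPolynomial (Fin (m + l)) k :=
  Fin.append (fun i => rename (Fin.castAdd l) (r i))
    (fun i => X (Fin.natAdd m i) - rename (Fin.castAdd l) (P i))

theorem theta_rename (y : MvPolynomial (Fin m) k) :
    theta m l P (rename (Fin.castAdd l) y) = y := by
  unfold theta
  rw [aeval_rename]
  have : (Fin.append (fun j => (X j : MvPolynomial (Fin m) k)) P) ∘ Fin.castAdd l = X := by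
    funext j
    simp
  rw [this, aeval_X_left, AlgHom.id_apply]

variable {m l c φ r v P}

theorem phi_theta (hP : ∀ i, φ (P i) = v i) (z : MvPolynomial (Fin (m + l)) k) :
    φ (theta m l P z) = psi m l φ v z := by
  have : φ.comp (theta m l P) = psi m l φ v := by
    apply MvPolynomial.algHom_ext
    intro i
    simp only [AlgHom.comp_apply, theta, psi, aeval_X]
    induction i using Fin.addCases with
    | left j => simp
    | right j => simp [hP]
  exact congrArg (fun f => f z) this

theorem sub_rename_theta_mem (z : MvPolynomial (Fin (m + l)) k) :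
    z - rename (Fin.castAdd l) (theta m l P z) ∈
      Ideal.span (Set.range (fun i : Fin l =>
        (X (Fin.natAdd m i) : MvPolynomial (Fin (m + l)) k) - rename (Fin.castAdd l) (P i))) := by
  set J := Ideal.span (Set.range (fun i : Fin l =>
        (X (Fin.natAdd m i) : MvPolynomial (Fin (m + l)) k) - rename (Fin.castAdd l) (P i)))
  have key : (Ideal.Quotient.mkₐ k J) =
      (Ideal.Quotient.mkₐ k J).comp
        ((rename (Fin.castAdd l) : MvPolynomial (Fin m) k →ₐ[k] _).comp (theta m l P)) := by
    apply MvPolynomial.algHom_ext
    intro i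
    simp only [AlgHom.comp_apply, theta, aeval_X]
    induction i using Fin.addCases with
    | left j => simp
    | right j =>
      simp only [Fin.append_right, Ideal.Quotient.mkₐ_eq_mk]
      rw [Ideal.Quotient.eq]
      exact Ideal.subset_span ⟨j, rfl⟩
  have h := congrArg (fun f => f z) key
  simp only [AlgHom.comp_apply, Ideal.Quotient.mkₐ_eq_mk] at h
  rwa [Ideal.Quotient.eq] at h

theorem ker_psi (hker : RingHom.ker φ.toRingHom = Ideal.span (Set.range r))
    (hP : ∀ i, φ (P i) = v i) :
    RingHom.ker (psi m l φ v).toRingHom = Ideal.span (Set.range (extRel m l c r P)) := by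
  apply le_antisymm
  · intro z hz
    have hz' : psi m l φ v z = 0 := hz
    rw [← phi_theta hP] at hz'
    have h1 : theta m l P z ∈ Ideal.span (Set.range r) := by
      rw [← hker]; exact hz'
    have h2 : rename (Fin.castAdd l) (theta m l P z) ∈
        Ideal.span (Set.range (extRel m l c r P)) := by
      have hle : Ideal.span (Set.range r) ≤
          (Ideal.span (Set.range (extRel m l c r P))).comap
            (rename (Fin.castAdd l) : MvPolynomial (Fin m) k →ₐ[k] _).toRingHom := by
        rw [Ideal.span_le]
        rintro _ ⟨i, rfl⟩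
        show rename (Fin.castAdd l) (r i) ∈ Ideal.span (Set.range (extRel m l c r P))
        refine Ideal.subset_span ⟨Fin.castAdd l i, ?_⟩
        simp [extRel]
      exact hle h1
    have h3 := sub_rename_theta_mem (P := P) z
    have h4 : Ideal.span (Set.range (fun i : Fin l =>
        (X (Fin.natAdd m i) : MvPolynomial (Fin (m + l)) k) - rename (Fin.castAdd l) (P i))) ≤
        Ideal.span (Set.range (extRel m l c r P)) := by
      rw [Ideal.span_le]
      rintro _ ⟨i, rfl⟩
      refine Ideal.subset_span ⟨Fin.natAdd c i, ?_⟩
      simp [extRel]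
    have := Ideal.add_mem _ (h4 h3) h2
    rwa [sub_add_cancel] at this
  · rw [Ideal.span_le]
    rintro _ ⟨i, rfl⟩
    show psi m l φ v (extRel m l c r P i) = 0
    rw [← phi_theta hP]
    induction i using Fin.addCases with
    | left j =>
      simp only [extRel, Fin.append_left, theta_rename]
      have : r j ∈ RingHom.ker φ.toRingHom := by
        rw [hker]; exact Ideal.subset_span ⟨j, rfl⟩
      exact this
    | right j =>
      simp only [extRel, Fin.append_right, map_sub, theta_rename]
      simp [theta]

theorem psi_surjective (hφ : Function.Surjective φ) (hP : ∀ i, φ (P i) = v i) :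
    Function.Surjective (psi m l φ v) := by
  intro t
  obtain ⟨y, rfl⟩ := hφ t
  refine ⟨rename (Fin.castAdd l) y, ?_⟩
  rw [← phi_theta hP, theta_rename]

end kernel

end Groth.Agent.Helper5.LST
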