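import Groth.Agent.Helper5.OverField
import Groth.Agent.Helper5.EtDim
import Mathlib

set_option autoImplicit false
universe u
open CategoryTheory CategoryTheory.Limits AlgebraicGeometry TopologicalSpace

namespace Groth.Agent.Helper5.OverField

theorem coheight_le_localDim (X : Scheme.{u}) (x : X) :
    ((Order.coheight x : ℕ∞) : WithBot ℕ∞) ≤ FlatMor.localDim ↥X x := by
  unfold FlatMor.localDim
  refine le_iInf fun ⟨U, hU⟩ => ?_
  show _ ≤ topologicalKrullDim ↥(U : Set ↥X)
  rw [Groth.Agent.Helper5.EtDim.topologicalKrullDim_opens]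
  exact le_iSup (fun z : ↥U => ((Order.coheight (z : X) : ℕ∞) : WithBot ℕ∞)) ⟨x, hU⟩

theorem localDim_le_dim (X : Scheme.{u}) (x : X) :
    FlatMor.localDim ↥X x ≤ topologicalKrullDim ↥X := by
  unfold FlatMor.localDim
  refine (iInf_le _ ⟨⊤, trivial⟩).trans ?_
  show topologicalKrullDim ↥((⊤ : X.Opens) : Set ↥X) ≤ _
  rw [Groth.Agent.Helper5.EtDim.topologicalKrullDim_opens,
    Groth.Agent.Helper5.EtDim.topologicalKrullDim_eq_iSup_coheight]
  exact iSup_le fun y => le_iSup (fun z : ↥X => ((Order.coheight z : ℕ∞) : WithBot ℕ∞)) y.1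

/-- The dimension of a product of schemes locally of finite type over a field. -/
theorem dim_pullback (k : Type u) [Field k] {X Y : Scheme.{u}}
    (gX : X ⟶ Spec (CommRingCat.of k)) (gY : Y ⟶ Spec (CommRingCat.of k))
    [LocallyOfFiniteType gX] [LocallyOfFiniteType gY] :
    topologicalKrullDim ↥(pullback gX gY) = topologicalKrullDim ↥X + topologicalKrullDim ↥Y := by
  have hsub : Subsingleton ↥(Spec (CommRingCat.of k)) :=
    inferInstanceAs (Subsingleton (PrimeSpectrum k))
  apply le_antisymm
  · rw [Groth.Agent.Helper5.EtDim.topologicalKrullDim_eq_iSup_coheight]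
    refine iSup_le fun z => ?_
    refine (coheight_le_localDim _ z).trans ?_
    rw [localDim_pullback k gX gY z]
    exact add_le_add (localDim_le_dim _ _) (localDim_le_dim _ _)
  · rcases isEmpty_or_nonempty ↥X with hX | hX
    · have : topologicalKrullDim ↥X = ⊥ := by
        have : IsEmpty (IrreducibleCloseds ↥X) :=
          ⟨fun Z => hX.elim Z.isIrreducible.nonempty.some⟩
        exact Order.krullDim_eq_bot
      rw [this, WithBot.bot_add]; exact bot_le
    rcases isEmpty_or_nonempty ↥Y with hY | hY
    · have : topologicalKrullDim ↥Y = ⊥ := by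
        have : IsEmpty (IrreducibleCloseds ↥Y) :=
          ⟨fun Z => hY.elim Z.isIrreducible.nonempty.some⟩
        exact Order.krullDim_eq_bot
      rw [this, WithBot.add_bot]; exact bot_le
    rw [Groth.Agent.Helper5.EtDim.topologicalKrullDim_eq_iSup_coheight X,
      Groth.Agent.Helper5.EtDim.topologicalKrullDim_eq_iSup_coheight Y,
      ← WithBot.coe_iSup (OrderTop.bddAbove _), ← WithBot.coe_iSup (OrderTop.bddAbove _),
      ← WithBot.coe_add]
    have hP : Nonempty ↥(pullback gX gY) := by
      obtain ⟨x⟩ := hX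
      obtain ⟨y⟩ := hY
      obtain ⟨z, -, -⟩ := Scheme.Pullback.exists_preimage_pullback (f := gX) (g := gY) x y
        (Subsingleton.elim _ _)
      exact ⟨z⟩
    rw [Groth.Agent.Helper5.EtDim.topologicalKrullDim_eq_iSup_coheight (pullback gX gY),
      ← WithBot.coe_iSup (OrderTop.bddAbove _), WithBot.coe_le_coe]
    refine ENat.iSup_add_iSup_le fun x y => ?_
    obtain ⟨z, hz1, hz2⟩ := Scheme.Pullback.exists_preimage_pullback (f := gX) (g := gY) x y
      (Subsingleton.elim _ _)
    have h1 : ((Order.coheight x + Order.coheight y : ℕ∞) : WithBot ℕ∞) ≤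
        FlatMor.localDim ↥(pullback gX gY) z := by
      rw [localDim_pullback k gX gY z, hz1, hz2, WithBot.coe_add]
      exact add_le_add (coheight_le_localDim _ _) (coheight_le_localDim _ _)
    have h2 := h1.trans (localDim_le_dim _ z)
    rw [Groth.Agent.Helper5.EtDim.topologicalKrullDim_eq_iSup_coheight (pullback gX gY),
      ← WithBot.coe_iSup (OrderTop.bddAbove _), WithBot.coe_le_coe] at h2
    exact h2

end Groth.Agent.Helper5.OverField
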