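import Mathlib
import Groth.Prelude.Def_RegImm

set_option autoImplicit false
set_option linter.style.haveILetI false
universe u
open MvPolynomial

namespace Groth.Agent.Helper5.RelGCI

variable (R : Type u) [CommRing R] (n c : ℕ) (F : Fin c → MvPolynomial (Fin n) R)
  (h : MvPolynomial (Fin n) R)

/-- the relations presenting the localization at the image of `h` -/
noncomputable def snocRel : Fin (c + 1) → MvPolynomial (Fin (n + 1)) R :=
  Fin.snoc (fun i => rename Fin.castSucc (F i)) (rename Fin.castSucc h * X (Fin.last n) - 1)

/-- the structure map `R[x]/(F) → R[x,y]/(F, hy - 1)` -/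
noncomputable def snocHom :
    Synt.RelGCIRing R n c F →ₐ[R] Synt.RelGCIRing R (n + 1) (c + 1) (snocRel R n c F h) :=
  Ideal.Quotient.liftₐ (Ideal.span (Set.range F))
    ((Ideal.Quotient.mkₐ R (Ideal.span (Set.range (snocRel R n c F h)))).comp
      (rename Fin.castSucc : MvPolynomial (Fin n) R →ₐ[R] MvPolynomial (Fin (n + 1)) R))
    (by
      intro a ha
      have hle : Ideal.span (Set.range F) ≤ RingHom.ker
          ((Ideal.Quotient.mkₐ R (Ideal.span (Set.range (snocRel R n c F h)))).comp
            (rename Fin.castSucc : MvPolynomial (Fin n) R →ₐ[R] MvPolynomial (Fin (n + 1)) R)) := by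
        rw [Ideal.span_le]
        rintro _ ⟨i, rfl⟩
        show Ideal.Quotient.mk _ (rename Fin.castSucc (F i)) = 0
        rw [Ideal.Quotient.eq_zero_iff_mem]
        have : rename Fin.castSucc (F i) = snocRel R n c F h (Fin.castSucc i) := by
          simp [snocRel]
        rw [this]
        exact Ideal.subset_span (Set.mem_range_self _)
      exact hle ha)

theorem snocHom_mk (y : MvPolynomial (Fin n) R) :
    snocHom R n c F h (Ideal.Quotient.mk _ y) = Ideal.Quotient.mk _ (rename Fin.castSucc y) := rfl

/-- `h` becomes invertible -/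
theorem snocHom_mul :
    snocHom R n c F h (Ideal.Quotient.mk _ h) *
      Ideal.Quotient.mk (Ideal.span (Set.range (snocRel R n c F h))) (X (Fin.last n)) = 1 := by
  rw [snocHom_mk, ← map_mul, ← sub_eq_zero, ← map_one (Ideal.Quotient.mk _), ← map_sub,
    Ideal.Quotient.eq_zero_iff_mem]
  have : rename Fin.castSucc h * X (Fin.last n) - 1 = snocRel R n c F h (Fin.last c) := by
    simp [snocRel]
  rw [this]
  exact Ideal.subset_span (Set.mem_range_self _)

section iso

/-- the images of the variables in the localization -/
noncomputable def snocVal :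
    Fin (n + 1) → Localization.Away (Ideal.Quotient.mk (Ideal.span (Set.range F)) h) :=
  Fin.snoc (fun i => algebraMap (Synt.RelGCIRing R n c F) _
      (Ideal.Quotient.mk (Ideal.span (Set.range F)) (X i)))
    (IsLocalization.Away.invSelf (Ideal.Quotient.mk (Ideal.span (Set.range F)) h))

theorem aeval_snocVal_rename (y : MvPolynomial (Fin n) R) :
    aeval (snocVal R n c F h) (rename Fin.castSucc y) =
      algebraMap (Synt.RelGCIRing R n c F) _ (Ideal.Quotient.mk (Ideal.span (Set.range F)) y) := by
  rw [aeval_rename]
  let φ₁ : MvPolynomial (Fin n) R →ₐ[R]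
      Localization.Away (Ideal.Quotient.mk (Ideal.span (Set.range F)) h) :=
    aeval (snocVal R n c F h ∘ Fin.castSucc)
  let φ₂ : MvPolynomial (Fin n) R →ₐ[R]
      Localization.Away (Ideal.Quotient.mk (Ideal.span (Set.range F)) h) :=
    (IsScalarTower.toAlgHom R (Synt.RelGCIRing R n c F) _).comp
      (Ideal.Quotient.mkₐ R (Ideal.span (Set.range F)))
  have : φ₁ = φ₂ := by
    apply MvPolynomial.algHom_ext
    intro i
    simp [φ₁, φ₂, snocVal]
  exact DFunLike.congr_fun this y

/-- the map `R[x,y]/(F, hy - 1) → (R[x]/(F))_h` -/
noncomputable def snocInv :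
    Synt.RelGCIRing R (n + 1) (c + 1) (snocRel R n c F h) →ₐ[R]
      Localization.Away (Ideal.Quotient.mk (Ideal.span (Set.range F)) h) :=
  Ideal.Quotient.liftₐ (Ideal.span (Set.range (snocRel R n c F h))) (aeval (snocVal R n c F h))
    (by
      intro a ha
      have hle : Ideal.span (Set.range (snocRel R n c F h)) ≤
          RingHom.ker (aeval (snocVal R n c F h) : MvPolynomial (Fin (n + 1)) R →ₐ[R] _) := by
        rw [Ideal.span_le]
        rintro _ ⟨j, rfl⟩
        show aeval (snocVal R n c F h) (snocRel R n c F h j) = 0
        induction j using Fin.lastCases with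
        | last =>
          have h1 : snocRel R n c F h (Fin.last c) =
              rename Fin.castSucc h * X (Fin.last n) - 1 := by simp [snocRel]
          rw [h1, map_sub, map_mul, map_one, aeval_snocVal_rename, aeval_X]
          have h2 : snocVal R n c F h (Fin.last n) =
              IsLocalization.Away.invSelf (Ideal.Quotient.mk (Ideal.span (Set.range F)) h) := by
            simp [snocVal]
          rw [h2, IsLocalization.Away.mul_invSelf, sub_self]
        | cast i =>
          have h1 : snocRel R n c F h (Fin.castSucc i) = rename Fin.castSucc (F i) := by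
            simp [snocRel]
          rw [h1, aeval_snocVal_rename]
          have : Ideal.Quotient.mk (Ideal.span (Set.range F)) (F i) = 0 :=
            Ideal.Quotient.eq_zero_iff_mem.2 (Ideal.subset_span (Set.mem_range_self i))
          rw [this, map_zero]
      exact hle ha)

theorem snocInv_mk (y : MvPolynomial (Fin (n + 1)) R) :
    snocInv R n c F h (Ideal.Quotient.mk _ y) = aeval (snocVal R n c F h) y := rfl

theorem snocInv_snocHom (s : Synt.RelGCIRing R n c F) :
    snocInv R n c F h (snocHom R n c F h s) = algebraMap (Synt.RelGCIRing R n c F) _ s := by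
  obtain ⟨y, rfl⟩ := Ideal.Quotient.mk_surjective s
  rw [snocHom_mk, snocInv_mk, aeval_snocVal_rename]

theorem isUnit_snocHom :
    IsUnit (snocHom R n c F h (Ideal.Quotient.mk (Ideal.span (Set.range F)) h)) :=
  IsUnit.of_mul_eq_one _ (snocHom_mul R n c F h)

/-- the map `(R[x]/(F))_h → R[x,y]/(F, hy - 1)` -/
noncomputable def snocFwd :
    Localization.Away (Ideal.Quotient.mk (Ideal.span (Set.range F)) h) →+*
      Synt.RelGCIRing R (n + 1) (c + 1) (snocRel R n c F h) :=
  IsLocalization.Away.lift (Ideal.Quotient.mk (Ideal.span (Set.range F)) h)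
    (g := (snocHom R n c F h : Synt.RelGCIRing R n c F →+* _)) (isUnit_snocHom R n c F h)

theorem snocFwd_algebraMap (s : Synt.RelGCIRing R n c F) :
    snocFwd R n c F h (algebraMap _ _ s) = snocHom R n c F h s :=
  IsLocalization.Away.lift_eq _ _ s

theorem snocInv_snocFwd (z : Localization.Away (Ideal.Quotient.mk (Ideal.span (Set.range F)) h)) :
    snocInv R n c F h (snocFwd R n c F h z) = z := by
  have key : ((snocInv R n c F h : _ →+* _).comp (snocFwd R n c F h)) = RingHom.id _ := by
    apply IsLocalization.ringHom_ext
      (Submonoid.powers (Ideal.Quotient.mk (Ideal.span (Set.range F)) h))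
    refine RingHom.ext fun s => ?_
    simp only [RingHom.comp_apply, RingHom.id_apply]
    rw [snocFwd_algebraMap]
    exact snocInv_snocHom R n c F h s
  exact DFunLike.congr_fun key z

theorem snocFwd_invSelf :
    snocFwd R n c F h
      (IsLocalization.Away.invSelf (Ideal.Quotient.mk (Ideal.span (Set.range F)) h)) =
      Ideal.Quotient.mk (Ideal.span (Set.range (snocRel R n c F h))) (X (Fin.last n)) := by
  have h1 : snocFwd R n c F h
      (IsLocalization.Away.invSelf (Ideal.Quotient.mk (Ideal.span (Set.range F)) h)) *
      snocHom R n c F h (Ideal.Quotient.mk (Ideal.span (Set.range F)) h) = 1 := by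
    rw [← snocFwd_algebraMap, ← map_mul, mul_comm, IsLocalization.Away.mul_invSelf, map_one]
  calc _ = snocFwd R n c F h (IsLocalization.Away.invSelf _) *
        (snocHom R n c F h (Ideal.Quotient.mk (Ideal.span (Set.range F)) h) *
          Ideal.Quotient.mk (Ideal.span (Set.range (snocRel R n c F h))) (X (Fin.last n))) := by
        rw [snocHom_mul, mul_one]
    _ = _ := by rw [← mul_assoc, h1, one_mul]

theorem snocFwd_snocInv (t : Synt.RelGCIRing R (n + 1) (c + 1) (snocRel R n c F h)) :
    snocFwd R n c F h (snocInv R n c F h t) = t := by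
  obtain ⟨y, rfl⟩ := Ideal.Quotient.mk_surjective t
  have key : ((snocFwd R n c F h).comp (snocInv R n c F h : _ →+* _)).comp
      (Ideal.Quotient.mk (Ideal.span (Set.range (snocRel R n c F h)))) =
      Ideal.Quotient.mk (Ideal.span (Set.range (snocRel R n c F h))) := by
    apply MvPolynomial.ringHom_ext
    · intro r
      simp only [RingHom.comp_apply]
      show snocFwd R n c F h (snocInv R n c F h (Ideal.Quotient.mk _ (C r))) = _
      rw [snocInv_mk]
      have h1 : aeval (snocVal R n c F h) (C r : MvPolynomial (Fin (n + 1)) R) =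
          algebraMap (Synt.RelGCIRing R n c F) _ (algebraMap R _ r) := by
        rw [← IsScalarTower.algebraMap_apply, ← MvPolynomial.algebraMap_eq, AlgHom.commutes]
      rw [h1, snocFwd_algebraMap, AlgHom.commutes]
      rfl
    · intro j
      simp only [RingHom.comp_apply]
      show snocFwd R n c F h (snocInv R n c F h (Ideal.Quotient.mk _ (X j))) = _
      rw [snocInv_mk, aeval_X]
      induction j using Fin.lastCases with
      | last =>
        have h2 : snocVal R n c F h (Fin.last n) =
            IsLocalization.Away.invSelf (Ideal.Quotient.mk (Ideal.span (Set.range F)) h) := by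
          simp [snocVal]
        rw [h2, snocFwd_invSelf]
      | cast i =>
        have h2 : snocVal R n c F h (Fin.castSucc i) =
            algebraMap (Synt.RelGCIRing R n c F) _
              (Ideal.Quotient.mk (Ideal.span (Set.range F)) (X i)) := by
          simp [snocVal]
        rw [h2, snocFwd_algebraMap, snocHom_mk, rename_X]
  exact DFunLike.congr_fun key y

/-- the localization at the image of `h` is presented by `(F, hy - 1)` -/
noncomputable def snocEquiv :
    Localization.Away (Ideal.Quotient.mk (Ideal.span (Set.range F)) h) ≃ₐ[R]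
      Synt.RelGCIRing R (n + 1) (c + 1) (snocRel R n c F h) :=
  (AlgEquiv.ofAlgHom (snocInv R n c F h)
    { toRingHom := snocFwd R n c F h
      commutes' := fun r => by
        show snocFwd R n c F h (algebraMap R _ r) = algebraMap R _ r
        rw [IsScalarTower.algebraMap_apply R (Synt.RelGCIRing R n c F), snocFwd_algebraMap,
          AlgHom.commutes] }
    (AlgHom.ext fun z => snocInv_snocFwd R n c F h z)
    (AlgHom.ext fun t => snocFwd_snocInv R n c F h t)).symm

theorem snocEquiv_algebraMap (s : Synt.RelGCIRing R n c F) :
    snocEquiv R n c F h (algebraMap _ _ s) = snocHom R n c F h s :=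
  snocFwd_algebraMap R n c F h s

/-- `R[x,y]/(F, hy - 1)` is the localization of `R[x]/(F)` at the image of `h` -/
theorem isLocalization_snoc :
    letI : Algebra (Synt.RelGCIRing R n c F)
        (Synt.RelGCIRing R (n + 1) (c + 1) (snocRel R n c F h)) :=
      (snocHom R n c F h : Synt.RelGCIRing R n c F →+* _).toAlgebra
    IsLocalization.Away (Ideal.Quotient.mk (Ideal.span (Set.range F)) h)
      (Synt.RelGCIRing R (n + 1) (c + 1) (snocRel R n c F h)) := by
  letI : Algebra (Synt.RelGCIRing R n c F)
      (Synt.RelGCIRing R (n + 1) (c + 1) (snocRel R n c F h)) :=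
    (snocHom R n c F h : Synt.RelGCIRing R n c F →+* _).toAlgebra
  let e : Localization.Away (Ideal.Quotient.mk (Ideal.span (Set.range F)) h)
      ≃ₐ[Synt.RelGCIRing R n c F] Synt.RelGCIRing R (n + 1) (c + 1) (snocRel R n c F h) :=
    AlgEquiv.ofRingEquiv (f := (snocEquiv R n c F h).toRingEquiv)
      (fun s => snocEquiv_algebraMap R n c F h s)
  exact IsLocalization.isLocalization_of_algEquiv _ e

end iso

end Groth.Agent.Helper5.RelGCI
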