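import Mathlib

set_option autoImplicit false
set_option linter.style.haveILetI false
universe u
open CategoryTheory CategoryTheory.Limits AlgebraicGeometry TopologicalSpace Topology TensorProduct

namespace Groth.Agent.Helper5.NoethModel

section

variable (R₀ R S₀ S : Type u) [CommRing R₀] [CommRing R] [CommRing S₀] [CommRing S]
  [Algebra R₀ R] [Algebra R₀ S₀] [Algebra R S]

/-- the comparison map `S₀ → S` attached to a base change isomorphism -/
noncomputable def modelHom (e : R ⊗[R₀] S₀ ≃ₐ[R] S) : S₀ →+* S :=
  e.toRingEquiv.toRingHom.comp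
    (Algebra.TensorProduct.includeRight (R := R₀) (A := R) (B := S₀)).toRingHom

theorem isPullback_of_algEquiv (e : R ⊗[R₀] S₀ ≃ₐ[R] S) :
    IsPullback (Spec.map (CommRingCat.ofHom (modelHom R₀ R S₀ S e)))
      (Spec.map (CommRingCat.ofHom (algebraMap R S)))
      (Spec.map (CommRingCat.ofHom (algebraMap R₀ S₀)))
      (Spec.map (CommRingCat.ofHom (algebraMap R₀ R))) := by
  have hpo := CommRingCat.isPushout_tensorProduct R₀ R S₀
  have h1 : ∀ x : R, e ((x : R) ⊗ₜ[R₀] (1 : S₀)) = algebraMap R S x := by
    intro x
    have : algebraMap R (R ⊗[R₀] S₀) x = (x ⊗ₜ[R₀] (1 : S₀) : R ⊗[R₀] S₀) := by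
      simp [Algebra.TensorProduct.algebraMap_apply]
    rw [← this, e.commutes]
  have hpo' : IsPushout (CommRingCat.ofHom (algebraMap R₀ R)) (CommRingCat.ofHom (algebraMap R₀ S₀))
      (CommRingCat.ofHom (algebraMap R S)) (CommRingCat.ofHom (modelHom R₀ R S₀ S e)) := by
    refine hpo.of_iso (Iso.refl _) (Iso.refl _) (Iso.refl _) e.toRingEquiv.toCommRingCatIso
      (by simp) (by simp) ?_ ?_
    · apply CommRingCat.hom_ext
      apply RingHom.ext
      intro x
      simp only [Iso.refl_hom, Category.id_comp]
      exact h1 x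
    · apply CommRingCat.hom_ext
      apply RingHom.ext
      intro x
      simp only [Iso.refl_hom, Category.id_comp]
      rfl
  exact (isPullback_SpecMap_of_isPushout _ _ _ _ hpo').flip

end

set_option maxHeartbeats 1000000 in
/-- a finitely presented algebra is a base change of a finite type algebra over a Noetherian ring -/
theorem exists_noetherian_model (R S : Type u) [CommRing R] [CommRing S] [Algebra R S]
    [Algebra.FinitePresentation R S] :
    ∃ (R₀ S₀ : Type u) (_ : CommRing R₀) (_ : CommRing S₀) (_ : Algebra R₀ R) (_ : Algebra R₀ S₀)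
      (ψ : S₀ →+* S), IsNoetherianRing R₀ ∧ Algebra.FiniteType R₀ S₀ ∧
      IsPullback (Spec.map (CommRingCat.ofHom ψ)) (Spec.map (CommRingCat.ofHom (algebraMap R S)))
        (Spec.map (CommRingCat.ofHom (algebraMap R₀ S₀)))
        (Spec.map (CommRingCat.ofHom (algebraMap R₀ R))) := by
  haveI : Algebra.FiniteType ℤ (Algebra.Presentation.ofFinitePresentation R S).Core := inferInstance
  haveI : IsNoetherianRing (Algebra.Presentation.ofFinitePresentation R S).Core :=
    Algebra.FiniteType.isNoetherianRing ℤ _
  exact ⟨(Algebra.Presentation.ofFinitePresentation R S).Core,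
    (Algebra.Presentation.ofFinitePresentation R S).ModelOfHasCoeffs
      (Algebra.Presentation.ofFinitePresentation R S).Core,
    inferInstance, inferInstance, inferInstance, inferInstance,
    modelHom _ _ _ _ ((Algebra.Presentation.ofFinitePresentation R S).tensorModelOfHasCoeffsEquiv
      (Algebra.Presentation.ofFinitePresentation R S).Core),
    inferInstance, inferInstance, isPullback_of_algEquiv _ _ _ _ _⟩

end Groth.Agent.Helper5.NoethModel
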