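import Mathlib
import Groth.Prelude.Def_RegImm

set_option autoImplicit false
set_option linter.style.haveILetI false
universe u
open TensorProduct MvPolynomial

namespace Groth.Agent.Helper5.RelGCI

variable (A B : Type u) [CommRing A] [CommRing B] [Algebra A B] (n c : ℕ)
  (G : Fin c → MvPolynomial (Fin n) A)

/-- base change of a presented algebra: `B ⊗[A] A[x]/(G) ≃ B[x]/(G)` -/
noncomputable def tensorEquiv :
    B ⊗[A] Synt.RelGCIRing A n c G ≃ₐ[B]
      Synt.RelGCIRing B n c (fun i => MvPolynomial.map (algebraMap A B) (G i)) :=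
  let P := (Algebra.Presentation.naive (v := G)).baseChange B
  have hker : Ideal.span (Set.range (fun i => MvPolynomial.map (algebraMap A B) (G i))) = P.ker :=
    P.span_range_relation_eq_ker
  ((Ideal.quotientEquivAlgOfEq B hker).trans (P.quotientEquiv.restrictScalars B)).symm

theorem tensorEquiv_symm_mk (y : MvPolynomial (Fin n) B) :
    (tensorEquiv A B n c G).symm (Ideal.Quotient.mk _ y) =
      MvPolynomial.aeval (fun i => (1 : B) ⊗ₜ[A] (Ideal.Quotient.mk (Ideal.span (Set.range G)) (X i))) y := by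
  rfl

theorem tensorEquiv_tmul_mk (y : MvPolynomial (Fin n) A) :
    tensorEquiv A B n c G ((1 : B) ⊗ₜ[A] Ideal.Quotient.mk _ y) =
      Ideal.Quotient.mk _ (MvPolynomial.map (algebraMap A B) y) := by
  rw [← AlgEquiv.eq_symm_apply, tensorEquiv_symm_mk, MvPolynomial.aeval_map_algebraMap]
  let φ₁ : MvPolynomial (Fin n) A →ₐ[A] B ⊗[A] Synt.RelGCIRing A n c G :=
    (Algebra.TensorProduct.includeRight (R := A) (A := B) (B := Synt.RelGCIRing A n c G)).comp
      (Ideal.Quotient.mkₐ A (Ideal.span (Set.range G)))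
  let φ₂ : MvPolynomial (Fin n) A →ₐ[A] B ⊗[A] Synt.RelGCIRing A n c G :=
    MvPolynomial.aeval (fun i => (1 : B) ⊗ₜ[A] (Ideal.Quotient.mk (Ideal.span (Set.range G)) (X i)))
  have h : φ₁ = φ₂ := by
    apply MvPolynomial.algHom_ext
    intro i
    simp [φ₁, φ₂]
  exact DFunLike.congr_fun h y

end Groth.Agent.Helper5.RelGCI
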