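import Mathlib
import Groth.Agent.Helper5.RelGCI1
import Groth.Agent.Helper5.NoethModel1
import Groth.Agent.Helper5.BCMin13

set_option autoImplicit false
set_option linter.style.haveILetI false
universe u
open CategoryTheory CategoryTheory.Limits AlgebraicGeometry TensorProduct MvPolynomial

namespace Groth.Agent.Helper5.RelGCI

variable (A B : Type u) [CommRing A] [CommRing B] [Algebra A B] (n c : ℕ)
  (G : Fin c → MvPolynomial (Fin n) A)

/-- the comparison map `A[x]/(G) → B[x]/(G)` -/
noncomputable def bcHom :
    Synt.RelGCIRing A n c G →+*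
      Synt.RelGCIRing B n c (fun i => MvPolynomial.map (algebraMap A B) (G i)) :=
  Groth.Agent.Helper5.NoethModel.modelHom A B _ _ (tensorEquiv A B n c G)

theorem bcHom_mk (y : MvPolynomial (Fin n) A) :
    bcHom A B n c G (Ideal.Quotient.mk _ y) =
      Ideal.Quotient.mk _ (MvPolynomial.map (algebraMap A B) y) :=
  tensorEquiv_tmul_mk A B n c G y

theorem isPullback_bc :
    IsPullback (Spec.map (CommRingCat.ofHom (bcHom A B n c G)))
      (Spec.map (CommRingCat.ofHom (algebraMap B
        (Synt.RelGCIRing B n c (fun i => MvPolynomial.map (algebraMap A B) (G i))))))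
      (Spec.map (CommRingCat.ofHom (algebraMap A (Synt.RelGCIRing A n c G))))
      (Spec.map (CommRingCat.ofHom (algebraMap A B))) :=
  Groth.Agent.Helper5.NoethModel.isPullback_of_algEquiv A B _ _ (tensorEquiv A B n c G)

instance locallyOfFiniteType_relGCI :
    LocallyOfFiniteType (Spec.map (CommRingCat.ofHom (algebraMap A (Synt.RelGCIRing A n c G)))) := by
  rw [HasRingHomProperty.Spec_iff (P := @LocallyOfFiniteType)]
  exact RingHom.finiteType_algebraMap.2 inferInstance

/-- the local fibre dimension of a presented algebra is invariant under base change -/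
theorem fibreDimAt_bc
    (q : ↥(Spec (CommRingCat.of
      (Synt.RelGCIRing B n c (fun i => MvPolynomial.map (algebraMap A B) (G i)))))) :
    FlatMor.fibreDimAt (Spec.map (CommRingCat.ofHom (algebraMap B
        (Synt.RelGCIRing B n c (fun i => MvPolynomial.map (algebraMap A B) (G i)))))) q =
      FlatMor.fibreDimAt (Spec.map (CommRingCat.ofHom (algebraMap A (Synt.RelGCIRing A n c G))))
        (Spec.map (CommRingCat.ofHom (bcHom A B n c G)) q) :=
  Groth.Agent.Helper5.BCMin.fibreDimAt_of_isPullback _ _ _ _ (isPullback_bc A B n c G) q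

end Groth.Agent.Helper5.RelGCI
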