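import Mathlib
import Groth.Agent.Helper5.FibStalk
import Groth.Agent.Helper6.FlatCM
import Groth.Agent.Lead.CMCl

set_option autoImplicit false
set_option linter.style.haveILetI false
universe u
open CategoryTheory CategoryTheory.Limits AlgebraicGeometry TopologicalSpace Topology TensorProduct

namespace Groth.Agent.Helper5.CMFib

/-- the local ring of the fibre at a point is the quotient of the local ring of the source by the
extension of the maximal ideal of the local ring of the base -/
theorem fibre_stalk_equiv {X S : Scheme.{u}} (f : X ⟶ S) (s : S) (z : ↥(f.fiber s)) (x : X)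
    (hx : f.fiberι s z = x) :
    Nonempty ((X.presheaf.stalk x ⧸ Ideal.map (f.stalkMap x).hom
      (IsLocalRing.maximalIdeal (S.presheaf.stalk (f x)))) ≃+* (f.fiber s).presheaf.stalk z) := by
  subst hx
  obtain ⟨hsurj, hker⟩ := Groth.Agent.Helper5.FibStalk.s9501 f s z
  exact ⟨(Ideal.quotEquivOfEq hker.symm).trans (RingHom.quotientKerEquivOfSurjective hsurj)⟩

theorem fibre_stalk_equiv' {X S : Scheme.{u}} (f : X ⟶ S) (x : X) :
    Nonempty ((X.presheaf.stalk x ⧸ Ideal.map (f.stalkMap x).hom
      (IsLocalRing.maximalIdeal (S.presheaf.stalk (f x)))) ≃+*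
        (f.fiber (f x)).presheaf.stalk (f.asFiber x)) :=
  fibre_stalk_equiv f (f x) (f.asFiber x) x (f.fiberι_asFiber x)

section Ring

variable (A B : Type u) [CommRing A] [CommRing B] [IsNoetherianRing A] [IsLocalRing A]
  [Algebra A B] [IsLocalRing B] [IsNoetherianRing B] [IsLocalHom (algebraMap A B)]

/-- the closed fibre module of `B` is the closed fibre ring -/
noncomputable def fibModEquiv : EGA4.FibMod A B B ≃ₗ[EGA4.FibRing A B] EGA4.FibRing A B :=
  let e₀ : EGA4.FibMod A B B ≃ₗ[B] EGA4.FibRing A B :=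
    Submodule.quotEquivOfEq _ _ (by simp)
  { e₀ with
    map_smul' := by
      intro q m
      obtain ⟨b, rfl⟩ := Ideal.Quotient.mk_surjective q
      obtain ⟨n, rfl⟩ := Submodule.Quotient.mk_surjective _ m
      simp only [AddHom.toFun_eq_coe, LinearMap.coe_toAddHom, LinearEquiv.coe_coe, RingHom.id_apply]
      rw [Module.Quotient.mk_smul_mk]
      rfl }

theorem cm_of_module (R : Type u) [CommRing R] [IsNoetherianRing R] [IsLocalRing R]
    (h : LocCoh.IsCohenMacaulayModule R R) : LocCoh.IsCohenMacaulayLocalRing R :=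
  { supportDim_eq_depth := h }

/-- flat local homomorphism with Cohen–Macaulay target: the source and the closed fibre are
Cohen–Macaulay -/
theorem cm_of_flat [Module.Flat A B] (hB : LocCoh.IsCohenMacaulayLocalRing B) :
    LocCoh.IsCohenMacaulayLocalRing A ∧
      LocCoh.IsCohenMacaulayLocalRing (B ⧸ (IsLocalRing.maximalIdeal A).map (algebraMap A B)) := by
  have h0 : LocCoh.IsCohenMacaulayModule B (B ⊗[A] A) := by
    unfold LocCoh.IsCohenMacaulayModule LocCoh.depth
    rw [Module.supportDim_eq_of_equiv (TensorProduct.AlgebraTensorModule.rid A B B),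
      Groth.Agent.Helper2.DepthCM.idealDepth_congr (IsLocalRing.maximalIdeal B)
        (TensorProduct.AlgebraTensorModule.rid A B B)]
    exact hB.supportDim_eq_depth
  obtain ⟨h1, h2⟩ := (Groth.Agent.Helper6.FlatCM.cm_tensor_iff (A := A) (B := B) B A).1 h0
  refine ⟨cm_of_module A h1, ?_⟩
  have h3 : LocCoh.IsCohenMacaulayModule (EGA4.FibRing A B) (EGA4.FibRing A B) := by
    unfold LocCoh.IsCohenMacaulayModule LocCoh.depth at h2 ⊢
    rw [← Module.supportDim_eq_of_equiv (fibModEquiv A B),
      ← Groth.Agent.Helper2.DepthCM.idealDepth_congr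
        (IsLocalRing.maximalIdeal (EGA4.FibRing A B)) (fibModEquiv A B)]
    exact h2
  exact cm_of_module (EGA4.FibRing A B) h3

/-- converse: flat local homomorphism with Cohen–Macaulay source and closed fibre -/
theorem cm_of_flat_of_fibre [Module.Flat A B] (hA : LocCoh.IsCohenMacaulayLocalRing A)
    (hF : LocCoh.IsCohenMacaulayLocalRing
      (B ⧸ (IsLocalRing.maximalIdeal A).map (algebraMap A B))) :
    LocCoh.IsCohenMacaulayLocalRing B := by
  have h1 : LocCoh.IsCohenMacaulayModule A A := hA.supportDim_eq_depth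
  have h2 : LocCoh.IsCohenMacaulayModule (EGA4.FibRing A B) (EGA4.FibMod A B B) := by
    have h3 : LocCoh.IsCohenMacaulayModule (EGA4.FibRing A B) (EGA4.FibRing A B) :=
      hF.supportDim_eq_depth
    unfold LocCoh.IsCohenMacaulayModule LocCoh.depth at h3 ⊢
    rw [Module.supportDim_eq_of_equiv (fibModEquiv A B),
      Groth.Agent.Helper2.DepthCM.idealDepth_congr
        (IsLocalRing.maximalIdeal (EGA4.FibRing A B)) (fibModEquiv A B)]
    exact h3
  have h0 := (Groth.Agent.Helper6.FlatCM.cm_tensor_iff (A := A) (B := B) B A).2 ⟨h1, h2⟩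
  refine cm_of_module B ?_
  unfold LocCoh.IsCohenMacaulayModule LocCoh.depth at h0 ⊢
  rw [← Module.supportDim_eq_of_equiv (TensorProduct.AlgebraTensorModule.rid A B B),
    ← Groth.Agent.Helper2.DepthCM.idealDepth_congr (IsLocalRing.maximalIdeal B)
      (TensorProduct.AlgebraTensorModule.rid A B B)]
  exact h0

end Ring

end Groth.Agent.Helper5.CMFib
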