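import Mathlib
import Groth.Agent.Helper5.CMFib1

set_option autoImplicit false
set_option linter.style.haveILetI false
universe u
open CategoryTheory CategoryTheory.Limits AlgebraicGeometry TopologicalSpace Topology

namespace Groth.Agent.Helper5.CMAff

open Groth.Agent.Helper5.CMFib

/-- flatness of the stalk map is insensitive to open restriction -/
theorem flat_stalkMap_open_restrict {X Y : Scheme.{u}} (f : X ⟶ Y) (U : X.Opens)
    (w : ↥(U : Scheme.{u})) :
    ((U.ι ≫ f).stalkMap w).hom.Flat ↔ (f.stalkMap (U.ι w)).hom.Flat := by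
  constructor
  · intro h
    rw [Scheme.Hom.stalkMap_comp] at h
    have h2 : ((inv (U.ι.stalkMap w)).hom.comp
        (f.stalkMap (U.ι w) ≫ U.ι.stalkMap w).hom).Flat := RingHom.Flat.comp h (RingHom.Flat.of_bijective
      (ConcreteCategory.bijective_of_isIso (inv (U.ι.stalkMap w))))
    have h3 : (inv (U.ι.stalkMap w)).hom.comp (f.stalkMap (U.ι w) ≫ U.ι.stalkMap w).hom =
        (f.stalkMap (U.ι w)).hom := by
      ext a
      exact congrArg (fun φ => φ.hom ((f.stalkMap (U.ι w)).hom a))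
        (IsIso.hom_inv_id (U.ι.stalkMap w))
    rwa [h3] at h2
  · intro h
    rw [Scheme.Hom.stalkMap_comp]
    exact RingHom.Flat.comp h (RingHom.Flat.of_bijective
      (ConcreteCategory.bijective_of_isIso (U.ι.stalkMap w)))

/-- the local ring of the fibre is insensitive to open restriction -/
theorem fibre_stalk_open_restrict {X Y : Scheme.{u}} (f : X ⟶ Y) (U : X.Opens)
    (w : ↥(U : Scheme.{u})) :
    Nonempty (((U.ι ≫ f).fiber ((U.ι ≫ f) w)).presheaf.stalk ((U.ι ≫ f).asFiber w) ≃+*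
      (f.fiber (f (U.ι w))).presheaf.stalk (f.asFiber (U.ι w))) := by
  obtain ⟨e1⟩ := fibre_stalk_equiv' (U.ι ≫ f) w
  obtain ⟨e2⟩ := fibre_stalk_equiv' f (U.ι w)
  let σ : X.presheaf.stalk (U.ι w) ≃+* (U : Scheme.{u}).presheaf.stalk w :=
    (asIso (U.ι.stalkMap w)).commRingCatIsoToRingEquiv
  have hσ : ∀ a, σ a = (U.ι.stalkMap w).hom a := fun a => rfl
  have hI : Ideal.map ((U.ι ≫ f).stalkMap w).hom
        (IsLocalRing.maximalIdeal (Y.presheaf.stalk ((U.ι ≫ f) w))) =
      Ideal.map (σ : X.presheaf.stalk (U.ι w) →+* (U : Scheme.{u}).presheaf.stalk w)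
        (Ideal.map (f.stalkMap (U.ι w)).hom
          (IsLocalRing.maximalIdeal (Y.presheaf.stalk (f (U.ι w))))) := by
    rw [Ideal.map_map]
    congr 1
    rw [Scheme.Hom.stalkMap_comp]
    rfl
  let e3 := Ideal.quotientEquiv _ _ σ hI
  exact ⟨e1.symm.trans (e3.symm.trans e2)⟩

theorem cm_fibre_open_restrict {X Y : Scheme.{u}} (f : X ⟶ Y) (U : X.Opens)
    (w : ↥(U : Scheme.{u})) :
    LocCoh.IsCohenMacaulayLocalRing
        (((U.ι ≫ f).fiber ((U.ι ≫ f) w)).presheaf.stalk ((U.ι ≫ f).asFiber w)) ↔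
      LocCoh.IsCohenMacaulayLocalRing
        ((f.fiber (f (U.ι w))).presheaf.stalk (f.asFiber (U.ι w))) := by
  obtain ⟨e⟩ := fibre_stalk_open_restrict f U w
  exact ⟨fun h => Groth.Agent.Lead.CMCl.cm_of_ringEquiv e (h := h),
    fun h => Groth.Agent.Lead.CMCl.cm_of_ringEquiv e.symm (h := h)⟩

/-- `IsCMAt` is insensitive to open restriction -/
theorem isCMAt_open_restrict {X Y : Scheme.{u}} (f : X ⟶ Y) (U : X.Opens)
    (w : ↥(U : Scheme.{u})) :
    MoreMor.IsCMAt (U.ι ≫ f) w ↔ MoreMor.IsCMAt f (U.ι w) := by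
  unfold MoreMor.IsCMAt
  rw [flat_stalkMap_open_restrict, cm_fibre_open_restrict]

end Groth.Agent.Helper5.CMAff
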