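import Groth.Agent.Helper5.SurjDim

set_option autoImplicit false
universe u
open AlgebraicGeometry CategoryTheory TopologicalSpace

namespace Groth.Agent.Helper5.OpenAt

open Groth.Agent.Helper5.LocDE Groth.Agent.Helper5.VarDim Groth.Agent.Helper5.MaxPt
  Groth.Agent.Helper5.SubDim Groth.Agent.Helper5.StalkDict Groth.Agent.Helper5.GenLift
  Groth.Agent.Helper5.SurjDim

/-- If `f` is open at a point `z` which is maximal in its fibre, then
`dim O_{Y,f z} ≤ dim O_{X,z}`. -/
theorem stalk_dim_ge_of_isOpenAt {X Y : Scheme.{u}} (f : X ⟶ Y) (z : X)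
    [IsNoetherianRing (X.presheaf.stalk z)] [IsNoetherianRing (Y.presheaf.stalk (f z))]
    (hmax : ∀ t : X, f t = f z → t ⤳ z → t = z) (h : EGA43.IsOpenAt f.base z) :
    ringKrullDim (Y.presheaf.stalk (f z)) ≤ ringKrullDim (X.presheaf.stalk z) := by
  refine ringKrullDim_le_of_comap_surjective (f.stalkMap z).hom ?_ ?_
  · intro p hp
    let P : ↥(Spec (Y.presheaf.stalk (f z))) := ⟨p, hp⟩
    have hy' : Y.fromSpecStalk (f z) P ⤳ f z := fromSpecStalk_specializes (f z) P
    obtain ⟨x', hx'z, hfx'⟩ := exists_generization_of_isOpenAt f z h _ hy'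
    obtain ⟨Q, rfl⟩ := exists_prime_of_specializes z x' hx'z
    rw [map_fromSpecStalk f z Q] at hfx'
    have hQP : Spec.map (f.stalkMap z) Q = P :=
      (Y.fromSpecStalk (f z)).isEmbedding.injective hfx'
    exact ⟨Q.asIdeal, Q.isPrime, congrArg PrimeSpectrum.asIdeal hQP⟩
  · intro q hq hqc
    let Q : ↥(Spec (X.presheaf.stalk z)) := ⟨q, hq⟩
    have htz : X.fromSpecStalk z Q ⤳ z := fromSpecStalk_specializes z Q
    have hft : f (X.fromSpecStalk z Q) = f z := by
      rw [map_fromSpecStalk f z Q]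
      have : Spec.map (f.stalkMap z) Q = IsLocalRing.closedPoint (Y.presheaf.stalk (f z)) :=
        PrimeSpectrum.ext hqc
      rw [this]
      exact Scheme.fromSpecStalk_closedPoint
    have h1 := hmax _ hft htz
    have h2 : X.fromSpecStalk z (IsLocalRing.closedPoint (X.presheaf.stalk z)) = z :=
      Scheme.fromSpecStalk_closedPoint
    have h3 : Q = IsLocalRing.closedPoint (X.presheaf.stalk z) :=
      (X.fromSpecStalk z).isEmbedding.injective (h1.trans h2.symm)
    exact congrArg PrimeSpectrum.asIdeal h3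


/-- A maximal chain in the fibre starting at `x`: its top `ζ` is a maximal point of the fibre and
the chain has length `coheight (asFiber x)`. -/
theorem exists_fibre_chain_top {X Y : Scheme.{u}} (f : X ⟶ Y) (x : X) (k : ℕ)
    (hk : Order.coheight (f.asFiber x) = k) :
    ∃ ζ : ↥(f.fiber (f x)), f.asFiber x ≤ ζ ∧ Order.coheight ζ = 0 ∧
      (k : WithBot ℕ∞) ≤ Order.krullDim ↥(Set.Icc x (f.fiberι (f x) ζ)) := by
  obtain ⟨l, hlh, hll⟩ := Order.exists_series_of_coheight_eq_coe (f.asFiber x) hk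
  have hle0 : f.asFiber x ≤ l.last := hlh ▸ l.head_le_last
  have h1 : (l.length : ℕ∞) = Order.coheight l.head := by rw [hlh, hll, hk]
  have h2 := Order.coheight_eq_index_of_length_eq_head_coheight h1 (Fin.last _)
  have hemb : Topology.IsEmbedding (f.fiberι (f x)) := (f.fiberι (f x)).isEmbedding
  have hle : ∀ a b : ↥(f.fiber (f x)), a ≤ b ↔ f.fiberι (f x) a ≤ f.fiberι (f x) b := by
    intro a b
    rw [Scheme.le_iff_specializes, Scheme.le_iff_specializes, hemb.toIsInducing.specializes_iff]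
  have hlt : ∀ a b : ↥(f.fiber (f x)), a < b ↔ f.fiberι (f x) a < f.fiberι (f x) b := by
    intro a b
    rw [lt_iff_le_not_ge, lt_iff_le_not_ge, hle a b, hle b a]
  refine ⟨l.last, hle0, ?_, ?_⟩
  · show Order.coheight (l.toFun (Fin.last l.length)) = 0
    rw [h2]; simp
  · let l' : LTSeries X := l.map (f.fiberι (f x)) (fun a b h => (hlt a b).1 h)
    have h3 := le_krullDim_of_series l' (Set.Icc x (f.fiberι (f x) l.last)) (by
      intro i
      refine ⟨?_, (hle _ _).1 (l.monotone (Fin.le_last i))⟩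
      have h4 : f.asFiber x ≤ l i := hlh ▸ l.head_le i
      have h5 := (hle _ _).1 h4
      rw [f.fiberι_asFiber] at h5
      exact h5)
    have h6 : l'.length = k := hll
    rw [h6] at h3
    exact h3

/-- EGA IV 14.2.1 (S2559 form). -/
theorem dim_formula_of_isOpenAt {X Y : Scheme.{u}} [IsLocallyNoetherian X] [IsLocallyNoetherian Y]
    (f : X ⟶ Y) (x : X)
    (h : ∀ z : ↥(f.fiber (f.base x)), f.asFiber x ∈ closure {z} →
      (∀ z' : ↥(f.fiber (f.base x)), z ∈ closure {z'} → z' = z) →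
      EGA43.IsOpenAt f.base ((f.fiberι (f.base x)).base z)) :
    ringKrullDim (X.presheaf.stalk x) =
      ringKrullDim (Y.presheaf.stalk (f.base x)) +
        ringKrullDim ((f.fiber (f.base x)).presheaf.stalk (f.asFiber x)) := by
  apply le_antisymm (Groth.Agent.Helper5.DimIneq.stalk_dim_le f x)
  obtain ⟨N, hN1, hN2⟩ := ringKrullDim_stalk_nat X x
  obtain ⟨D, hD1, hD2⟩ := ringKrullDim_stalk_nat Y (f x)
  have hkle := Groth.Agent.Helper5.EqAt.coheight_asFiber_le f x
  have hkfin : Order.coheight (f.asFiber x) ≠ ⊤ := by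
    intro htop
    rw [htop, hN2] at hkle
    exact absurd (top_le_iff.1 hkle) (ENat.natCast_ne_top N)
  obtain ⟨k, hk⟩ := ENat.ne_top_iff_exists.1 hkfin
  obtain ⟨ζ, hζ1, hζ2, hζ3⟩ := exists_fibre_chain_top f x k hk.symm
  have hemb : Topology.IsEmbedding (f.fiberι (f x)) := (f.fiberι (f x)).isEmbedding
  have hmaxζ : IsMax ζ := Order.coheight_eq_zero.1 hζ2
  have hopen := h ζ (by
      rw [← specializes_iff_mem_closure]; exact Scheme.le_iff_specializes.1 hζ1) (by
      intro z' hz'
      have h1 : z' ⤳ ζ := specializes_iff_mem_closure.2 hz'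
      have h2 : z' ≤ ζ := hmaxζ (Scheme.le_iff_specializes.2 h1)
      exact (h1.antisymm (Scheme.le_iff_specializes.1 h2)).eq)
  let z : X := f.fiberι (f x) ζ
  have hfz : f z = f x := apply_fiberι f (f x) ζ
  have hmaxz : ∀ t : X, f t = f z → t ⤳ z → t = z := by
    intro t ht hsp
    have hr : t ∈ Set.range (f.fiberι (f x)) := by
      rw [Scheme.Hom.range_fiberι]; exact ht.trans hfz
    obtain ⟨ζ', rfl⟩ := hr
    have h1 : ζ' ⤳ ζ := by
      rw [← hemb.toIsInducing.specializes_iff]; exact hsp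
    have h2 : ζ' ≤ ζ := hmaxζ (Scheme.le_iff_specializes.2 h1)
    rw [(h1.antisymm (Scheme.le_iff_specializes.1 h2)).eq]
  have hge := stalk_dim_ge_of_isOpenAt f z hmaxz hopen
  obtain ⟨Nz, hNz1, hNz2⟩ := ringKrullDim_stalk_nat X z
  rw [hNz1, stalk_dim_congr Y _ _ hfz, hD1] at hge
  have q1 : D ≤ Nz := by exact_mod_cast hge
  have h2 := coheight_add_le_of_le_krullDim_Icc x z k hζ3
  rw [hNz2, hN2] at h2
  have q2 : Nz + k ≤ N := by exact_mod_cast h2
  rw [hN1, hD1, ringKrullDim_stalk_eq_coheight, ← hk]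
  have : D + k ≤ N := by omega
  exact_mod_cast this

end Groth.Agent.Helper5.OpenAt
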