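import Mathlib
import Groth.Agent.Helper5.CutSec7
import Groth.Agent.Helper5.CutSec1

set_option autoImplicit false
universe u
open CategoryTheory CategoryTheory.Limits AlgebraicGeometry

namespace Groth.Agent.Helper5.CutSec

open Groth.Agent.Helper5.EqAt Groth.Agent.Helper5.MaxPt Groth.Agent.Helper5.VarDim
  Groth.Agent.Helper5.SubDim Groth.Agent.Helper5.OpenAt Groth.Agent.Helper5.BCMin
  Groth.Agent.Helper5.LocDim

set_option maxHeartbeats 2000000 in
/-- EGA IV 14.5.? : quasi-finite multisections through a point closed in its fibre where the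
morphism is equidimensional, by induction on the fibre dimension. -/
theorem exists_qf_aux {Y : Scheme.{u}} [IrreducibleSpace Y] [IsLocallyNoetherian Y] :
    ∀ (e : ℕ) (X : Scheme.{u}) (f : X ⟶ Y) [LocallyOfFiniteType f] (x : X),
      EGA43.IsEquidimAt f x → (∀ x' : X, f x' = f x → x ⤳ x' → x' = x) →
      FlatMor.fibreDimAt f x = (e : WithBot ℕ∞) →
      ∃ (T : Scheme.{u}) (i : T ⟶ X), IsImmersion i ∧ IrreducibleSpace ↥T ∧ IsReduced T ∧
        x ∈ Set.range i.base ∧ LocallyOfFiniteType (i ≫ f) ∧ LocallyQuasiFinite (i ≫ f) ∧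
          QuasiCompact (i ≫ f) ∧ IsDominant (i ≫ f) := by
  intro e
  induction e with
  | zero =>
    intro X f _ x hf _ h0
    exact exists_qf_of_fibreDim_zero f x hf h0
  | succ e ih =>
    intro X f _ x hf hcl he
    have hx := exists_ne_generization_of_closed f x hcl e he
    obtain ⟨U, hU, hxU, g, hgx, hgmax⟩ := exists_section_avoiding f x hx
    let fU : (U : Scheme.{u}) ⟶ Y := U.ι ≫ f
    let xU : ↥(U : Scheme.{u}) := ⟨x, hxU⟩
    have hfU : EGA43.IsEquidimAt fU xU := isEquidimAt_open_restrict f x hf U hxU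
    let g' : Γ((U : Scheme.{u}), ⊤) := U.topIso.inv g
    have hbo : ∀ t : ↥(U : Scheme.{u}),
        t ∈ (U : Scheme.{u}).basicOpen g' ↔ U.ι t ∈ X.basicOpen g := by
      intro t
      have himg : U.ι ''ᵁ (U : Scheme.{u}).basicOpen g' = X.basicOpen g :=
        Scheme.Opens.ι_image_basicOpen_topIso_inv U g
      constructor
      · intro h
        have h' : U.ι t ∈ U.ι ''ᵁ (U : Scheme.{u}).basicOpen g' := ⟨t, h, rfl⟩
        rw [himg] at h'; exact h'
      · intro h
        have h' : U.ι t ∈ U.ι ''ᵁ (U : Scheme.{u}).basicOpen g' := by rw [himg]; exact h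
        obtain ⟨t', ht', heq⟩ := h'
        have : t' = t := U.ι.isEmbedding.injective heq
        rw [← this]; exact ht'
    have hgxU : xU ∈ (U : Scheme.{u}).zeroLocus ({g'} : Set Γ((U : Scheme.{u}), ⊤)) := by
      rw [Scheme.mem_zeroLocus_iff]
      intro s hs
      rw [Set.mem_singleton_iff] at hs
      subst hs
      rw [hbo]
      exact hgx
    have hmaxU : ∀ z : ↥(U : Scheme.{u}), fU z = fU xU →
        (∀ z' : ↥(U : Scheme.{u}), fU z' = fU xU → z' ⤳ z → z' = z) →
        z ∉ (U : Scheme.{u}).zeroLocus ({g'} : Set Γ((U : Scheme.{u}), ⊤)) := by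
      intro z hz hzmax hzero
      rw [Scheme.mem_zeroLocus_iff] at hzero
      apply hzero g' rfl
      rw [hbo]
      refine hgmax (U.ι z) hz ?_ z.2
      intro z' hz' hzcl
      have hsp : z' ⤳ U.ι z := specializes_iff_mem_closure.2 hzcl
      have hz'U : z' ∈ U := hsp.mem_open U.2 z.2
      let zU' : ↥(U : Scheme.{u}) := ⟨z', hz'U⟩
      have hzz : U.ι zU' = z' := rfl
      have h1 : zU' ⤳ z := by
        rw [← U.ι.isEmbedding.toIsInducing.specializes_iff, hzz]; exact hsp
      have h2 := hzmax zU' hz' h1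
      rw [← h2, hzz]
    obtain ⟨hcut1, -, -⟩ := cut_main fU xU hfU g' hgxU hmaxU
    let X' : TopologicalSpace.Closeds ↥(U : Scheme.{u}) :=
      ⟨(U : Scheme.{u}).zeroLocus ({g'} : Set Γ((U : Scheme.{u}), ⊤)),
        (U : Scheme.{u}).zeroLocus_isClosed _⟩
    let I := Scheme.IdealSheafData.vanishingIdeal X'
    let ι : I.subscheme ⟶ (U : Scheme.{u}) := I.subschemeι
    have hrange : Set.range ι = (U : Scheme.{u}).zeroLocus ({g'} : Set Γ((U : Scheme.{u}), ⊤)) := by
      rw [Scheme.IdealSheafData.range_subschemeι]; rfl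
    obtain ⟨w, hw⟩ : xU ∈ Set.range ι := by rw [hrange]; exact hgxU
    have hEq : EGA43.IsEquidimAt (ι ≫ fU) w := hcut1 w hw
    have hfd := cut_fibreDim fU xU hfU g' hgxU hmaxU w hw
    have hfd2 : FlatMor.fibreDimAt fU xU = ((e + 1 : ℕ) : WithBot ℕ∞) := by
      rw [fibreDimAt_open_restrict f U]; exact he
    obtain ⟨n1, hn1⟩ := Groth.Agent.Helper5.SubDim.fibreDimAt_nat (ι ≫ fU) w
    have hfd3 : FlatMor.fibreDimAt (ι ≫ fU) w = (e : WithBot ℕ∞) := by
      have h1 : FlatMor.fibreDimAt (ι ≫ fU) w + 1 = ((e + 1 : ℕ) : WithBot ℕ∞) := hfd.trans hfd2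
      rw [hn1] at h1 ⊢
      have h2 : n1 + 1 = e + 1 := by exact_mod_cast h1
      have h3 : n1 = e := by omega
      rw [h3]
    have hclw : ∀ w' : ↥I.subscheme, (ι ≫ fU) w' = (ι ≫ fU) w → w ⤳ w' → w' = w := by
      intro w' hw' hsp
      have h1 : U.ι (ι w) ⤳ U.ι (ι w') := (hsp.map ι.continuous).map U.ι.continuous
      rw [hw] at h1
      have h2 : f (U.ι (ι w')) = f x := by
        have : (ι ≫ fU) w = f x := by
          show f (U.ι (ι w)) = f x
          rw [hw]; rfl
        rw [← this, ← hw']; rfl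
      have h3 := hcl (U.ι (ι w')) h2 h1
      apply ι.isEmbedding.injective
      apply U.ι.isEmbedding.injective
      rw [h3, hw]; rfl
    obtain ⟨T, i, h1, h2, h3, ⟨t, ht⟩, h5, h6, h7, h8⟩ := ih _ (ι ≫ fU) w hEq hclw hfd3
    have hif : (i ≫ ι ≫ U.ι) ≫ f = i ≫ (ι ≫ fU) := by simp [fU]
    refine ⟨T, i ≫ ι ≫ U.ι, inferInstance, h2, h3, ⟨t, ?_⟩, ?_, ?_, ?_, ?_⟩
    · show U.ι (ι (i t)) = x
      rw [ht, hw]; rfl
    · rw [hif]; exact h5
    · rw [hif]; exact h6
    · rw [hif]; exact h7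
    · rw [hif]; exact h8

end Groth.Agent.Helper5.CutSec
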