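import Mathlib
import Groth.Agent.Helper5.CutSec8

set_option autoImplicit false
universe u
open CategoryTheory CategoryTheory.Limits AlgebraicGeometry

namespace Groth.Agent.Helper5.CutSec

open Groth.Agent.Helper5.EqAt Groth.Agent.Helper5.MaxPt Groth.Agent.Helper5.VarDim
  Groth.Agent.Helper5.SubDim Groth.Agent.Helper5.OpenAt Groth.Agent.Helper5.BCMin
  Groth.Agent.Helper5.LocDim

set_option maxHeartbeats 1000000 in
/-- Base case: fibre dimension zero. -/
theorem exists_qf_of_fibreDim_zero' {X Y : Scheme.{u}} [IrreducibleSpace Y] [IsLocallyNoetherian Y]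
    (f : X ⟶ Y) [LocallyOfFiniteType f] (x : X) (hf : EGA43.IsEquidimAt f x)
    (h0 : FlatMor.fibreDimAt f x = ((0 : ℕ) : WithBot ℕ∞)) :
    ∃ (T : Scheme.{u}) (i : T ⟶ X), IsAffine T ∧ IsImmersion i ∧ IrreducibleSpace ↥T ∧ IsReduced T ∧
      x ∈ Set.range i.base ∧ LocallyOfFiniteType (i ≫ f) ∧ LocallyQuasiFinite (i ≫ f) ∧
        QuasiCompact (i ≫ f) ∧ IsDominant (i ≫ f) := by
  obtain ⟨e, U, hxU, C1, C2⟩ := hf
  have he0 := fibreDimAt_of_components f U e C2 ⟨x, hxU⟩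
  have hee : e = 0 := by
    rw [show U.ι ⟨x, hxU⟩ = x from rfl, h0] at he0
    exact_mod_cast he0.symm
  subst hee
  let fU : (U : Scheme.{u}) ⟶ Y := U.ι ≫ f
  have hqf : LocallyQuasiFinite fU := locallyQuasiFinite_of_components fU C2
  let xU : ↥(U : Scheme.{u}) := ⟨x, hxU⟩
  obtain ⟨Z, hZ, hxZ⟩ := exists_component_mem xU
  have hZcl := isClosed_of_mem_irreducibleComponents Z hZ
  obtain ⟨W, hW, -, hcl⟩ := C1 Z hZ
  have hWuniv : W = Set.univ := by
    rw [irreducibleComponents_eq_singleton] at hW; exact hW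
  let Zc : TopologicalSpace.Closeds ↥(U : Scheme.{u}) := ⟨Z, hZcl⟩
  let I := Scheme.IdealSheafData.vanishingIdeal Zc
  let ι₀ : I.subscheme ⟶ (U : Scheme.{u}) := I.subschemeι
  have hrange : Set.range ι₀ = Z := by rw [Scheme.IdealSheafData.range_subschemeι]; rfl
  have hred : IsReduced I.subscheme := isReduced_vanishingIdeal_subscheme Zc
  obtain ⟨ξ, hξ⟩ := QuasiSober.sober hZ.1 hZcl
  have hξdef : closure ({ξ} : Set ↥(U : Scheme.{u})) = Z := hξ.def
  obtain ⟨ξT, hξT⟩ : ξ ∈ Set.range ι₀ := by rw [hrange, ← hξdef]; exact subset_closure rfl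
  have hξTgen : closure ({ξT} : Set ↥I.subscheme) = Set.univ := by
    rw [ι₀.isEmbedding.toIsInducing.closure_eq_preimage_closure_image, Set.image_singleton, hξT,
      hξdef]
    refine Set.eq_univ_of_forall fun t => ?_
    show ι₀ t ∈ Z
    rw [← hrange]; exact ⟨t, rfl⟩
  have hirr : IrreducibleSpace ↥I.subscheme := by
    have h1 : IsIrreducible (Set.univ : Set ↥I.subscheme) := by
      rw [← hξTgen]; exact isIrreducible_singleton.closure
    exact (irreducibleSpace_def _).2 h1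
  have hint : IsIntegral I.subscheme := isIntegral_of_irreducibleSpace_of_isReduced _
  obtain ⟨t₀, ht₀⟩ : xU ∈ Set.range ι₀ := by rw [hrange]; exact hxZ
  obtain ⟨V, hV, ht₀V⟩ : ∃ V : I.subscheme.Opens, IsAffineOpen V ∧ t₀ ∈ V := by
    obtain ⟨_, ⟨V, hV, rfl⟩, hxV, -⟩ :=
      (I.subscheme.isBasis_affineOpens).exists_subset_of_mem_open (Set.mem_univ t₀) isOpen_univ
    exact ⟨V, hV, hxV⟩
  let i : (V : Scheme.{u}) ⟶ X := V.ι ≫ ι₀ ≫ U.ι
  have hne : Nonempty ↥(V : Scheme.{u}) := ⟨⟨t₀, ht₀V⟩⟩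
  have hVint : IsIntegral (V : Scheme.{u}) := isIntegral_of_isOpenImmersion V.ι
  have hif : i ≫ f = V.ι ≫ (ι₀ ≫ fU) := by simp [i, fU]
  have hlft : LocallyOfFiniteType (i ≫ f) := inferInstance
  refine ⟨V, i, hV, inferInstance, inferInstance, inferInstance, ⟨⟨t₀, ht₀V⟩, ?_⟩, hlft, ?_, ?_, ?_⟩
  · show U.ι (ι₀ (V.ι ⟨t₀, ht₀V⟩)) = x
    have : V.ι ⟨t₀, ht₀V⟩ = t₀ := rfl
    rw [this, ht₀]
    rfl
  · rw [hif]; infer_instance
  · have hVN : IsLocallyNoetherian (V : Scheme.{u}) :=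
      LocallyOfFiniteType.isLocallyNoetherian (i ≫ f)
    have hVaff : IsAffine (V : Scheme.{u}) := hV
    have hVNoe : IsNoetherian (V : Scheme.{u}) := {}
    exact ⟨fun S _ _ => TopologicalSpace.NoetherianSpace.isCompact _⟩
  · have hd1 : IsDominant V.ι := Opens.isDominant_ι (V.2.dense ⟨t₀, ht₀V⟩)
    have hd2 : IsDominant (ι₀ ≫ fU) := by
      refine ⟨?_⟩
      rw [DenseRange, dense_iff_closure_eq]
      have : Set.range (ι₀ ≫ fU) = fU '' Z := by
        rw [← hrange]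
        ext y
        simp only [Set.mem_range, Set.mem_image, Scheme.Hom.comp_apply]
        constructor
        · rintro ⟨t, rfl⟩; exact ⟨ι₀ t, ⟨t, rfl⟩, rfl⟩
        · rintro ⟨_, ⟨t, rfl⟩, rfl⟩; exact ⟨t, rfl⟩
      rw [this, ← hWuniv, ← hcl]
    rw [hif]; infer_instance


set_option maxHeartbeats 2000000 in
/-- EGA IV 14.5.? : quasi-finite multisections through a point closed in its fibre where the
morphism is equidimensional, by induction on the fibre dimension. -/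
theorem exists_qf_aux' {Y : Scheme.{u}} [IrreducibleSpace Y] [IsLocallyNoetherian Y] :
    ∀ (e : ℕ) (X : Scheme.{u}) (f : X ⟶ Y) [LocallyOfFiniteType f] (x : X),
      EGA43.IsEquidimAt f x → (∀ x' : X, f x' = f x → x ⤳ x' → x' = x) →
      FlatMor.fibreDimAt f x = (e : WithBot ℕ∞) →
      ∃ (T : Scheme.{u}) (i : T ⟶ X), IsAffine T ∧ IsImmersion i ∧ IrreducibleSpace ↥T ∧ IsReduced T ∧
        x ∈ Set.range i.base ∧ LocallyOfFiniteType (i ≫ f) ∧ LocallyQuasiFinite (i ≫ f) ∧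
          QuasiCompact (i ≫ f) ∧ IsDominant (i ≫ f) := by
  intro e
  induction e with
  | zero =>
    intro X f _ x hf _ h0
    exact exists_qf_of_fibreDim_zero' f x hf h0
  | succ e ih =>
    intro X f _ x hf hcl he
    have hx := exists_ne_generization_of_closed f x hcl e he
    obtain ⟨U, hU, hxU, g, hgx, hgmax⟩ := exists_section_avoiding f x hx
    let fU : (U : Scheme.{u}) ⟶ Y := U.ι ≫ f
    let xU : ↥(U : Scheme.{u}) := ⟨x, hxU⟩
    have hfU : EGA43.IsEquidimAt fU xU := isEquidimAt_open_restrict f x hf U hxU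
    let g' : Γ((U : Scheme.{u}), ⊤) := U.topIso.inv g
    have hbo : ∀ t : ↥(U : Scheme.{u}),
        t ∈ (U : Scheme.{u}).basicOpen g' ↔ U.ι t ∈ X.basicOpen g := by
      intro t
      have himg : U.ι ''ᵁ (U : Scheme.{u}).basicOpen g' = X.basicOpen g :=
        Scheme.Opens.ι_image_basicOpen_topIso_inv U g
      constructor
      · intro h
        have h' : U.ι t ∈ U.ι ''ᵁ (U : Scheme.{u}).basicOpen g' := ⟨t, h, rfl⟩
        rw [himg] at h'; exact h'
      · intro h
        have h' : U.ι t ∈ U.ι ''ᵁ (U : Scheme.{u}).basicOpen g' := by rw [himg]; exact h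
        obtain ⟨t', ht', heq⟩ := h'
        have : t' = t := U.ι.isEmbedding.injective heq
        rw [← this]; exact ht'
    have hgxU : xU ∈ (U : Scheme.{u}).zeroLocus ({g'} : Set Γ((U : Scheme.{u}), ⊤)) := by
      rw [Scheme.mem_zeroLocus_iff]
      intro s hs
      rw [Set.mem_singleton_iff] at hs
      subst hs
      rw [hbo]
      exact hgx
    have hmaxU : ∀ z : ↥(U : Scheme.{u}), fU z = fU xU →
        (∀ z' : ↥(U : Scheme.{u}), fU z' = fU xU → z' ⤳ z → z' = z) →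
        z ∉ (U : Scheme.{u}).zeroLocus ({g'} : Set Γ((U : Scheme.{u}), ⊤)) := by
      intro z hz hzmax hzero
      rw [Scheme.mem_zeroLocus_iff] at hzero
      apply hzero g' rfl
      rw [hbo]
      refine hgmax (U.ι z) hz ?_ z.2
      intro z' hz' hzcl
      have hsp : z' ⤳ U.ι z := specializes_iff_mem_closure.2 hzcl
      have hz'U : z' ∈ U := hsp.mem_open U.2 z.2
      let zU' : ↥(U : Scheme.{u}) := ⟨z', hz'U⟩
      have hzz : U.ι zU' = z' := rfl
      have h1 : zU' ⤳ z := by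
        rw [← U.ι.isEmbedding.toIsInducing.specializes_iff, hzz]; exact hsp
      have h2 := hzmax zU' hz' h1
      rw [← h2, hzz]
    obtain ⟨hcut1, -, -⟩ := cut_main fU xU hfU g' hgxU hmaxU
    let X' : TopologicalSpace.Closeds ↥(U : Scheme.{u}) :=
      ⟨(U : Scheme.{u}).zeroLocus ({g'} : Set Γ((U : Scheme.{u}), ⊤)),
        (U : Scheme.{u}).zeroLocus_isClosed _⟩
    let I := Scheme.IdealSheafData.vanishingIdeal X'
    let ι : I.subscheme ⟶ (U : Scheme.{u}) := I.subschemeι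
    have hrange : Set.range ι = (U : Scheme.{u}).zeroLocus ({g'} : Set Γ((U : Scheme.{u}), ⊤)) := by
      rw [Scheme.IdealSheafData.range_subschemeι]; rfl
    obtain ⟨w, hw⟩ : xU ∈ Set.range ι := by rw [hrange]; exact hgxU
    have hEq : EGA43.IsEquidimAt (ι ≫ fU) w := hcut1 w hw
    have hfd := cut_fibreDim fU xU hfU g' hgxU hmaxU w hw
    have hfd2 : FlatMor.fibreDimAt fU xU = ((e + 1 : ℕ) : WithBot ℕ∞) := by
      rw [fibreDimAt_open_restrict f U]; exact he
    obtain ⟨n1, hn1⟩ := Groth.Agent.Helper5.SubDim.fibreDimAt_nat (ι ≫ fU) w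
    have hfd3 : FlatMor.fibreDimAt (ι ≫ fU) w = (e : WithBot ℕ∞) := by
      have h1 : FlatMor.fibreDimAt (ι ≫ fU) w + 1 = ((e + 1 : ℕ) : WithBot ℕ∞) := hfd.trans hfd2
      rw [hn1] at h1 ⊢
      have h2 : n1 + 1 = e + 1 := by exact_mod_cast h1
      have h3 : n1 = e := by omega
      rw [h3]
    have hclw : ∀ w' : ↥I.subscheme, (ι ≫ fU) w' = (ι ≫ fU) w → w ⤳ w' → w' = w := by
      intro w' hw' hsp
      have h1 : U.ι (ι w) ⤳ U.ι (ι w') := (hsp.map ι.continuous).map U.ι.continuous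
      rw [hw] at h1
      have h2 : f (U.ι (ι w')) = f x := by
        have : (ι ≫ fU) w = f x := by
          show f (U.ι (ι w)) = f x
          rw [hw]; rfl
        rw [← this, ← hw']; rfl
      have h3 := hcl (U.ι (ι w')) h2 h1
      apply ι.isEmbedding.injective
      apply U.ι.isEmbedding.injective
      rw [h3, hw]; rfl
    obtain ⟨T, i, hTa, h1, h2, h3, ⟨t, ht⟩, h5, h6, h7, h8⟩ := ih _ (ι ≫ fU) w hEq hclw hfd3
    have hif : (i ≫ ι ≫ U.ι) ≫ f = i ≫ (ι ≫ fU) := by simp [fU]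
    refine ⟨T, i ≫ ι ≫ U.ι, hTa, inferInstance, h2, h3, ⟨t, ?_⟩, ?_, ?_, ?_, ?_⟩
    · show U.ι (ι (i t)) = x
      rw [ht, hw]; rfl
    · rw [hif]; exact h5
    · rw [hif]; exact h6
    · rw [hif]; exact h7
    · rw [hif]; exact h8


end Groth.Agent.Helper5.CutSec
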