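import Mathlib

/-!
# Maximal points of a fibre product map to maximal points of the second factor
-/

set_option autoImplicit false
set_option linter.style.haveILetI false
universe u

namespace Groth.Agent.Helper5.QFUni

open AlgebraicGeometry CategoryTheory CategoryTheory.Limits

/-- Let `X' = X ×_Y Y'`. If `ξ'` is a maximal point of `X'` whose image in `Y` is a maximal point of
`Y`, then the image of `ξ'` in `Y'` is a maximal point of `Y'`. -/
theorem maximal_snd_of_maximal {X Y Y' : Scheme.{u}} (f : X ⟶ Y) (p : Y' ⟶ Y)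
    (ξ' : ↥(pullback f p)) (hξ' : ∀ w : ↥(pullback f p), w ⤳ ξ' → w = ξ')
    (hη : ∀ y : Y, y ⤳ f (pullback.fst f p ξ') → y = f (pullback.fst f p ξ')) :
    ∀ y'' : Y', y'' ⤳ pullback.snd f p ξ' → y'' = pullback.snd f p ξ' := by
  let fst' := pullback.fst f p
  let f' := pullback.snd f p
  let ξ := fst' ξ'
  let η := f ξ
  let jξ := X.fromSpecResidueField ξ
  let jη := Y.fromSpecResidueField η
  let φ : Spec (X.residueField ξ) ⟶ Spec (Y.residueField η) := Spec.map (f.residueFieldMap ξ)
  have hφ : φ ≫ jη = jξ ≫ f := f.SpecMap_residueFieldMap_fromSpecResidueField ξ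
  let ι₀ := pullback.fst p jη
  let s₀ := pullback.snd p jη
  let a := pullback.fst φ s₀
  let h := pullback.snd φ s₀
  haveI : Flat φ := by
    rw [Flat.SpecMap_iff]
    letI := (f.residueFieldMap ξ).hom.toAlgebra
    exact (inferInstance : Module.Flat (Y.residueField η) (X.residueField ξ))
  haveI : Flat h := inferInstance
  have hR2 : IsPullback ι₀ s₀ p jη := IsPullback.of_hasPullback p jη
  have hL2 : IsPullback h a s₀ φ := (IsPullback.of_hasPullback φ s₀).flip
  have hout : IsPullback (h ≫ ι₀) a p (jξ ≫ f) := by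
    have := hL2.paste_horiz hR2
    rwa [hφ] at this
  have hR1 : IsPullback f' fst' p f := (IsPullback.of_hasPullback f p).flip
  let k : pullback φ s₀ ⟶ pullback f p := pullback.lift (a ≫ jξ) (h ≫ ι₀) (by
    rw [Category.assoc]
    exact hout.w.symm)
  have hk1 : k ≫ fst' = a ≫ jξ := pullback.lift_fst _ _ _
  have hk2 : k ≫ f' = h ≫ ι₀ := pullback.lift_snd _ _ _
  have hL1 : IsPullback k a fst' jξ := by
    refine IsPullback.of_right ?_ hk1 hR1
    rw [hk2]
    exact hout
  -- a point of `T` over `ξ'`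
  obtain ⟨pt⟩ : Nonempty ↥(Spec (X.residueField ξ)) := inferInstance
  have hpt : fst' ξ' = jξ pt := (Scheme.fromSpecResidueField_apply ξ pt).symm
  obtain ⟨w, hw1, -⟩ := Scheme.Pullback.exists_preimage_pullback (f := fst') (g := jξ) ξ' pt hpt
  let t := hL1.isoPullback.inv w
  have hkt : k t = ξ' := by
    have h1 : hL1.isoPullback.inv ≫ k = pullback.fst fst' jξ := hL1.isoPullback_inv_fst
    have h2 := congrArg (fun ψ => ψ w) h1
    exact h2.trans hw1
  have hιht : ι₀ (h t) = f' ξ' := by
    have h2 := congrArg (fun ψ => ψ t) hk2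
    have h3 : f' (k t) = ι₀ (h t) := h2
    rw [← h3, hkt]
  intro y'' hy''
  have hpy'' : p y'' = η := by
    have h1 : p y'' ⤳ p (f' ξ') := hy''.map p.continuous
    have h2 : p (f' ξ') = f (fst' ξ') := by
      have := congrArg (fun ψ => ψ ξ') (pullback.condition (f := f) (g := p))
      exact this.symm
    rw [h2] at h1
    exact hη _ h1
  have hy''r : y'' ∈ Set.range ι₀ := by
    have : Set.range ι₀ = p ⁻¹' {η} := p.range_fiberι η
    rw [this]
    exact hpy''
  obtain ⟨w₀, hw₀⟩ := hy''r
  have hsp : w₀ ⤳ h t := by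
    have hemb : Topology.IsEmbedding ι₀ := (p.fiberι η).isEmbedding
    refine hemb.isInducing.specializes_iff.mp ?_
    rw [hw₀, hιht]
    exact hy''
  obtain ⟨t₁, ht₁, hht₁⟩ := (Flat.generalizingMap h) hsp
  have hkt₁ : k t₁ = ξ' := by
    refine hξ' _ ?_
    rw [← hkt]
    exact ht₁.map k.continuous
  have h2 := congrArg (fun ψ => ψ t₁) hk2
  have h3 : f' (k t₁) = ι₀ (h t₁) := h2
  rw [← hw₀, ← hht₁, ← h3, hkt₁]

end Groth.Agent.Helper5.QFUni
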