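import Mathlib
import Groth.Prelude.Def_EGA43
import Groth.Agent.Helper5.CutSec9
import Groth.Agent.Helper5.QFUni5
import Groth.Agent.Helper5.BCMin13

/-!
# Equidimensionality at a point is stable under flat base change
-/

set_option autoImplicit false
set_option linter.style.haveILetI false
universe u

namespace Groth.Agent.Helper5.Chev

open AlgebraicGeometry CategoryTheory CategoryTheory.Limits
open Groth.Agent.Helper5.EqAt

theorem coheight_eq_zero_of_max {X : Scheme.{u}} (ξ : X) (h : ∀ w : X, w ⤳ ξ → w = ξ) :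
    Order.coheight ξ = 0 := by
  rw [Order.coheight_eq_zero]
  intro b hb
  have := h b (Scheme.le_iff_specializes.1 hb)
  rw [this]

/-- what equidimensionality at `x` gives at `x` and at the maximal points above `x` -/
theorem data_of_isEquidimAt {X Y : Scheme.{u}} (f : X ⟶ Y) [LocallyOfFiniteType f] (x : X)
    (h : EGA43.IsEquidimAt f x) :
    ∃ e : ℕ, FlatMor.fibreDimAt f x = (e : WithBot ℕ∞) ∧
      ∀ ξ : X, ξ ⤳ x → (∀ w : X, w ⤳ ξ → w = ξ) →
        FlatMor.fibreDimAt f ξ = (e : WithBot ℕ∞) ∧ ∀ η : Y, η ⤳ f ξ → η = f ξ := by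
  obtain ⟨e, U, hxU, C1, C2⟩ := h
  refine ⟨e, fibreDimAt_of_components f U e C2 ⟨x, hxU⟩, ?_⟩
  intro ξ hξx hξ
  have hξU : ξ ∈ U := hξx.mem_open U.2 hxU
  refine ⟨fibreDimAt_of_components f U e C2 ⟨ξ, hξU⟩, ?_⟩
  intro η hη
  exact max_map_of_components f U (f x) C1 ⟨ξ, hξU⟩ (coheight_eq_zero_of_max ξ hξ) η hη

/-- maximal points of the source of a cartesian square over maximal points of the base -/
theorem maximal_of_isPullback {X Y X' Y' : Scheme.{u}} (f : X ⟶ Y) (p : Y' ⟶ Y) (g' : X' ⟶ X)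
    (f' : X' ⟶ Y') (hsq : IsPullback g' f' f p) (ξ' : X') (hξ' : ∀ w : X', w ⤳ ξ' → w = ξ')
    (hη : ∀ y : Y, y ⤳ f (g' ξ') → y = f (g' ξ')) :
    ∀ y'' : Y', y'' ⤳ f' ξ' → y'' = f' ξ' := by
  let e := hsq.isoPullback
  have h1 : e.hom ≫ pullback.fst f p = g' := hsq.isoPullback_hom_fst
  have h2 : e.hom ≫ pullback.snd f p = f' := hsq.isoPullback_hom_snd
  have hg' : ∀ w, pullback.fst f p (e.hom w) = g' w := fun w =>
    congrArg (fun ψ => ψ w) h1
  have hf' : ∀ w, pullback.snd f p (e.hom w) = f' w := fun w =>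
    congrArg (fun ψ => ψ w) h2
  have hmax : ∀ w : ↥(pullback f p), w ⤳ e.hom ξ' → w = e.hom ξ' := by
    intro w hw
    have h3 : e.inv w ⤳ e.inv (e.hom ξ') := hw.map e.inv.continuous
    have h4 : e.inv (e.hom ξ') = ξ' := by
      have := congrArg (fun ψ => ψ ξ') e.hom_inv_id
      exact this
    rw [h4] at h3
    have h5 := hξ' _ h3
    have h6 : e.hom (e.inv w) = w := by
      have := congrArg (fun ψ => ψ w) e.inv_hom_id
      exact this
    rw [← h6, h5]
  have := Groth.Agent.Helper5.QFUni.maximal_snd_of_maximal f p (e.hom ξ') hmax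
    (by rw [hg']; exact hη)
  intro y'' hy''
  rw [← hf'] at hy'' ⊢
  exact this y'' hy''

/-- **base change of equidimensionality** along a flat morphism from a locally Noetherian
scheme -/
theorem isEquidimAt_of_isPullback {X Y X' Y' : Scheme.{u}} (f : X ⟶ Y) [LocallyOfFiniteType f]
    (p : Y' ⟶ Y) [Flat p] [IsLocallyNoetherian Y'] (g' : X' ⟶ X) (f' : X' ⟶ Y')
    (hsq : IsPullback g' f' f p) (x' : X') (h : EGA43.IsEquidimAt f (g' x')) :
    EGA43.IsEquidimAt f' x' := by
  haveI : LocallyOfFiniteType f' := MorphismProperty.of_isPullback hsq ‹_›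
  haveI : Flat g' := MorphismProperty.of_isPullback hsq.flip ‹_›
  haveI : IsLocallyNoetherian X' := LocallyOfFiniteType.isLocallyNoetherian f'
  obtain ⟨e, he, hmax⟩ := data_of_isEquidimAt f (g' x') h
  refine isEquidimAt_of_key f' x' e ?_ ?_
  · rw [Groth.Agent.Helper5.BCMin.fibreDimAt_of_isPullback f p g' f' hsq x', he]
  · intro ξ' hξ'x' hξ'0
    have hξ'max : ∀ w : X', w ⤳ ξ' → w = ξ' := max_of_coheight_zero ξ' hξ'0
    -- `g' ξ'` is a maximal point of `X`
    have hξmax : ∀ w : X, w ⤳ g' ξ' → w = g' ξ' := by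
      intro w hw
      obtain ⟨w', hw', hw'w⟩ := (Flat.generalizingMap g') hw
      rw [← hw'w, hξ'max w' hw']
    obtain ⟨h1, h2⟩ := hmax (g' ξ') (hξ'x'.map g'.continuous) hξmax
    refine ⟨?_, ?_⟩
    · rw [Groth.Agent.Helper5.BCMin.fibreDimAt_of_isPullback f p g' f' hsq ξ', h1]
    · exact closure_singleton_mem_irreducibleComponents _
        (maximal_of_isPullback f p g' f' hsq ξ' hξ'max h2)

end Groth.Agent.Helper5.Chev
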