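import Mathlib

set_option autoImplicit false
universe u
open CategoryTheory CategoryTheory.Limits AlgebraicGeometry

namespace Groth.Agent.Helper5.EtOI

/-- every point of a scheme has a generization which is the generic point of an irreducible
component -/
theorem exists_maximal_generization (X : Scheme.{u}) (z : X) :
    ∃ ζ : X, ζ ⤳ z ∧ closure ({ζ} : Set X) ∈ irreducibleComponents (X : Type u) := by
  obtain ⟨ζ, hζ⟩ := QuasiSober.sober (isIrreducible_irreducibleComponent (x := z))
    (isClosed_irreducibleComponent (x := z))
  refine ⟨ζ, ?_, ?_⟩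
  · rw [specializes_iff_mem_closure, hζ.def]
    exact mem_irreducibleComponent
  · rw [hζ.def]
    exact irreducibleComponent_mem_irreducibleComponents z

/-- a generalizing map sends maximal points to maximal points -/
theorem closure_mem_irreducibleComponents_map {P X : Scheme.{u}} (g : P ⟶ X)
    (hg : GeneralizingMap g.base) (ζ : P)
    (hζ : closure ({ζ} : Set P) ∈ irreducibleComponents (P : Type u)) :
    closure ({g.base ζ} : Set X) ∈ irreducibleComponents (X : Type u) := by
  obtain ⟨ξ', hξ', hmax⟩ := exists_maximal_generization X (g.base ζ)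
  obtain ⟨ζ', hζ', hgζ'⟩ := hg hξ'
  -- `ζ'` is a generization of the maximal point `ζ`, hence equal
  have hsub : closure ({ζ} : Set P) ⊆ closure ({ζ'} : Set P) :=
    (specializes_iff_closure_subset.1 hζ')
  have hirr : IsIrreducible (closure ({ζ'} : Set P)) := isIrreducible_singleton.closure
  have heq : closure ({ζ} : Set P) = closure ({ζ'} : Set P) :=
    le_antisymm hsub (hζ.2 hirr hsub)
  have hζζ' : ζ = ζ' := by
    have h1 : ζ ⤳ ζ' := by
      rw [specializes_iff_closure_subset, heq]
    exact (h1.antisymm hζ').eq
  subst hζζ'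
  rw [hgζ']
  exact hmax

/-- uniqueness of a point of `X ×[S] X` over a pair `(x, x)` when the residue field extension at
`x` is trivial -/
theorem eq_of_fst_eq_of_snd_eq {X S : Scheme.{u}} (f : X ⟶ S) (ζ ζ' : ↑(pullback f f))
    (h1 : pullback.fst f f ζ = pullback.fst f f ζ') (h2 : pullback.snd f f ζ = pullback.snd f f ζ')
    (hiso : IsIso (f.residueFieldMap (pullback.fst f f ζ'))) : ζ = ζ' := by
  apply Scheme.Pullback.carrierEquiv.injective
  rw [Scheme.Pullback.carrierEquiv_eq_iff]
  refine ⟨Scheme.Pullback.Triplet.ext h1 h2, ?_⟩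
  have hinr : IsIso (Scheme.Pullback.Triplet.tensorInr (Scheme.Pullback.Triplet.ofPoint ζ')) := by
    unfold Scheme.Pullback.Triplet.tensorInr
    have : IsIso ((S.residueFieldCongr (Scheme.Pullback.Triplet.ofPoint ζ').hx).inv ≫
        f.residueFieldMap (Scheme.Pullback.Triplet.ofPoint ζ').x) := by
      have : IsIso (f.residueFieldMap (Scheme.Pullback.Triplet.ofPoint ζ').x) := hiso
      infer_instance
    exact pushout_inr_iso_of_left_iso _ _
  have hsub : Subsingleton ↑(Spec (Scheme.Pullback.Triplet.ofPoint ζ').tensor) := by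
    have hinj : Function.Injective
        (Spec.map (Scheme.Pullback.Triplet.tensorInr (Scheme.Pullback.Triplet.ofPoint ζ'))).base :=
      (Scheme.homeoOfIso (asIso (Spec.map
        (Scheme.Pullback.Triplet.tensorInr (Scheme.Pullback.Triplet.ofPoint ζ'))))).injective
    have : Subsingleton ↑(Spec (X.residueField (Scheme.Pullback.Triplet.ofPoint ζ').y)) :=
      inferInstanceAs (Subsingleton (PrimeSpectrum (X.residueField _)))
    exact hinj.subsingleton
  exact @Subsingleton.elim _ hsub _ _

end Groth.Agent.Helper5.EtOI
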