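import Mathlib
import Groth.Prelude.Def_EGA43
import Groth.Agent.Helper5.PtOpen3

set_option autoImplicit false
universe u

namespace Groth.Agent.Helper5.PtOpen

open CategoryTheory CategoryTheory.Limits AlgebraicGeometry TopologicalSpace Topology

/-- (T2) a morphism locally of finite presentation is open at a point at which generizations
lift -/
theorem isOpenAt_of_lifting {P T : Scheme.{u}} (q : P ⟶ T) [LocallyOfFinitePresentation q] (z : P)
    (h : ∀ t₁ : T, t₁ ⤳ q z → ∃ z₁ : P, z₁ ⤳ z ∧ q z₁ = t₁) : EGA43.IsOpenAt q z := by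
  obtain ⟨t', ht'⟩ := T.affineCover.covers (q z)
  let j := T.affineCover.f (T.affineCover.idx (q z))
  have hz : z ∈ Set.range (pullback.fst q j) := by
    rw [Scheme.Pullback.range_fst]
    exact ⟨t', ht'⟩
  obtain ⟨z₁, hz₁⟩ := hz
  obtain ⟨z', hz'⟩ := (pullback q j).affineCover.covers z₁
  let i₁ := (pullback q j).affineCover.f ((pullback q j).affineCover.idx z₁)
  let i := i₁ ≫ pullback.fst q j
  let q' := i₁ ≫ pullback.snd q j
  have e : q' ≫ j = i ≫ q := by
    simp only [q', i, Category.assoc, pullback.condition]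
  have hiz : i z' = z := by
    rw [Scheme.Hom.comp_apply, hz', hz₁]
  have hq' : LocallyOfFinitePresentation q' := inferInstance
  obtain ⟨φ, hφ⟩ := Spec.map_surjective q'
  have hφ' : φ.hom.FinitePresentation := by
    rw [← hφ] at hq'
    exact (HasRingHomProperty.Spec_iff (P := @LocallyOfFinitePresentation)).mp hq'
  rw [← hiz]
  refine isOpenAt_of_square q q' i j e z' ?_
  have hl := lifting_square q q' i j e z' (by rw [hiz]; exact h)
  rw [← hφ] at hl ⊢
  exact isOpenAt_of_lifting_spec φ hφ' z' hl

end Groth.Agent.Helper5.PtOpen
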