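import Mathlib
import Groth.Agent.Helper8.Unibr2

/-!
# Going down along a quasi-finite extension of a domain with local normalization
-/

set_option autoImplicit false
set_option linter.style.haveILetI false
universe u

namespace Groth.Agent.Helper5.QFUni

open IsLocalRing

/-- Let `R` be a domain whose integral closure in its fraction field is local, `B` a domain which is
an `R`-algebra of finite type containing `R`, quasi-finite at a prime `q` lying over a maximal ideal.
Then every prime of `R` is the contraction of a prime of `B` contained in `q`. -/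
theorem exists_prime_le_of_quasiFiniteAt (R : Type u) [CommRing R] [IsDomain R] (K : Type u) [Field K]
    [Algebra R K] [IsFractionRing R K] (hloc : IsLocalRing (integralClosure R K))
    (B : Type u) [CommRing B] [IsDomain B] [Algebra R B]
    (hinj : Function.Injective (algebraMap R B)) [Algebra.FiniteType R B] (q : Ideal B) [q.IsPrime]
    [Algebra.QuasiFiniteAt R q] (hq : (q.comap (algebraMap R B)).IsMaximal) (p : Ideal R) [p.IsPrime] :
    ∃ q₁ : Ideal B, q₁.IsPrime ∧ q₁ ≤ q ∧ q₁.comap (algebraMap R B) = p := by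
  obtain ⟨r, hrq, hrint, hr⟩ :=
    Algebra.zariskisMainProperty_iff.mp (Algebra.ZariskisMainProperty.of_finiteType (R := R) q)
  let C := integralClosure R B
  have hinjC : Function.Injective (algebraMap R C) := by
    intro a b hab
    apply hinj
    have := congrArg (fun c : C => (c : B)) hab
    exact this
  let n : Ideal C := q.comap (algebraMap C B)
  haveI : n.IsPrime := Ideal.comap_isPrime _ _
  have hn : (n.comap (algebraMap R C)).IsMaximal := by
    have : n.comap (algebraMap R C) = q.comap (algebraMap R B) := by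
      rw [Ideal.comap_comap, ← IsScalarTower.algebraMap_eq]
    rw [this]
    exact hq
  obtain ⟨c₁, hc₁, hc₁n, hc₁p⟩ := Groth.Agent.Helper8.Unibr.lemmaH R K hloc C hinjC n hn p
  let rC : C := ⟨r, hrint⟩
  have hrC : ∀ m : ℕ, rC ^ m ∉ c₁ := by
    intro m hm
    have h1 : rC ∈ c₁ := hc₁.mem_of_pow_mem m hm
    have h2 : rC ∈ n := hc₁n h1
    exact hrq h2
  have hlift : ∀ b : B, ∃ (k : ℕ) (d : C), (d : B) = r ^ k * b := by
    intro b
    obtain ⟨k, hk⟩ := hr b
    exact ⟨k, ⟨r ^ k * b, hk⟩, rfl⟩
  let q₁ : Ideal B :=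
    { carrier := {b | ∃ (m : ℕ) (c : C), c ∈ c₁ ∧ (c : B) = r ^ m * b}
      zero_mem' := ⟨0, 0, c₁.zero_mem, by simp⟩
      add_mem' := by
        rintro b b' ⟨m, c, hc, e⟩ ⟨m', c', hc', e'⟩
        refine ⟨m + m', rC ^ m' * c + rC ^ m * c', c₁.add_mem (c₁.mul_mem_left _ hc)
          (c₁.mul_mem_left _ hc'), ?_⟩
        simp only [Subalgebra.coe_add, Subalgebra.coe_mul, Subalgebra.coe_pow, e, e', rC]
        ring
      smul_mem' := by
        rintro a b ⟨m, c, hc, e⟩
        obtain ⟨k, d, hd⟩ := hlift a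
        refine ⟨k + m, d * c, c₁.mul_mem_left _ hc, ?_⟩
        simp only [Subalgebra.coe_mul, e, hd, smul_eq_mul]
        ring }
  have hmem : ∀ b : B, b ∈ q₁ ↔ ∃ (m : ℕ) (c : C), c ∈ c₁ ∧ (c : B) = r ^ m * b := fun b => Iff.rfl
  refine ⟨q₁, ?_, ?_, ?_⟩
  · refine ⟨?_, ?_⟩
    · intro htop
      have h1 : (1 : B) ∈ q₁ := by rw [htop]; trivial
      obtain ⟨m, c, hc, e⟩ := (hmem 1).mp h1
      have : c = rC ^ m := by
        apply Subtype.ext
        simp only [e, mul_one, Subalgebra.coe_pow, rC]
      rw [this] at hc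
      exact hrC m hc
    · intro a b hab
      obtain ⟨m, c, hc, e⟩ := (hmem _).mp hab
      obtain ⟨k, d, hd⟩ := hlift a
      obtain ⟨k', d', hd'⟩ := hlift b
      have h1 : d * d' * rC ^ m = rC ^ (k + k') * c := by
        apply Subtype.ext
        simp only [Subalgebra.coe_mul, Subalgebra.coe_pow, e, hd, hd', rC]
        ring
      have h2 : d * d' * rC ^ m ∈ c₁ := by
        rw [h1]
        exact c₁.mul_mem_left _ hc
      rcases hc₁.mem_or_mem h2 with h3 | h3
      · rcases hc₁.mem_or_mem h3 with h4 | h4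
        · exact Or.inl ((hmem a).mpr ⟨k, d, h4, hd⟩)
        · exact Or.inr ((hmem b).mpr ⟨k', d', h4, hd'⟩)
      · exact absurd h3 (hrC m)
  · intro b hb
    obtain ⟨m, c, hc, e⟩ := (hmem b).mp hb
    have h1 : (c : B) ∈ q := hc₁n hc
    rw [e] at h1
    rcases Ideal.IsPrime.mem_or_mem inferInstance h1 with h2 | h2
    · exact absurd (Ideal.IsPrime.mem_of_pow_mem inferInstance m h2) hrq
    · exact h2
  · ext a
    rw [Ideal.mem_comap, hmem, ← hc₁p, Ideal.mem_comap]
    constructor
    · rintro ⟨m, c, hc, e⟩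
      have h1 : rC ^ m * algebraMap R C a = c := by
        apply Subtype.ext
        simp only [Subalgebra.coe_mul, Subalgebra.coe_pow, e, rC]
        rfl
      have h2 : rC ^ m * algebraMap R C a ∈ c₁ := h1 ▸ hc
      rcases hc₁.mem_or_mem h2 with h3 | h3
      · exact absurd h3 (hrC m)
      · exact h3
    · intro ha
      exact ⟨0, algebraMap R C a, ha, by simp only [pow_zero, one_mul]; rfl⟩

end Groth.Agent.Helper5.QFUni
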