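import Mathlib
import Groth.Prelude.Def_CAlg2
import Groth.Agent.Helper5.QFUni1

/-!
# Going down along a quasi-finite algebra over a unibranch local ring
-/

set_option autoImplicit false
set_option linter.style.haveILetI false
universe u

namespace Groth.Agent.Helper5.QFUni

open IsLocalRing

/-- Let `A` be a unibranch local ring, `B` an `A`-algebra of finite type and quasi-finite, `q` a
prime of `B` over the maximal ideal and `Q₀ ⊆ q` a prime of `B` over the nilradical of `A`. Then
every prime of `A` is the contraction of a prime of `B` contained in `q`. -/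
theorem exists_prime_le_of_unibranch (A : Type u) [CommRing A] [IsLocalRing A]
    (hA : CAlg2.IsUnibranch A) (B : Type u) [CommRing B] [Algebra A B] [Algebra.FiniteType A B]
    [Algebra.QuasiFinite A B] (q Q₀ : Ideal B) [q.IsPrime] [Q₀.IsPrime] (hQq : Q₀ ≤ q)
    (hq : q.comap (algebraMap A B) = maximalIdeal A)
    (hQ₀ : Q₀.comap (algebraMap A B) = nilradical A) (p₁ : Ideal A) [p₁.IsPrime] :
    ∃ q₁ : Ideal B, q₁.IsPrime ∧ q₁ ≤ q ∧ q₁.comap (algebraMap A B) = p₁ := by
  haveI hdom : IsDomain (CAlg2.red A) := hA.1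
  let R := CAlg2.red A
  let π : A →+* R := Ideal.Quotient.mk (nilradical A)
  have hπs : Function.Surjective π := Ideal.Quotient.mk_surjective
  let B' := B ⧸ Q₀
  let ρ : B →+* B' := Ideal.Quotient.mk Q₀
  have hρs : Function.Surjective ρ := Ideal.Quotient.mk_surjective
  let f : R →+* B' := Ideal.quotientMap Q₀ (algebraMap A B) (le_of_eq hQ₀.symm)
  letI : Algebra R B' := f.toAlgebra
  have hf : ∀ a : A, algebraMap R B' (π a) = ρ (algebraMap A B a) := fun a =>
    Ideal.quotientMap_mk
  haveI : IsScalarTower A R B' := IsScalarTower.of_algebraMap_eq (fun a => (hf a).symm)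
  have hinj : Function.Injective (algebraMap R B') :=
    Ideal.quotientMap_injective' (le_of_eq hQ₀)
  haveI : Algebra.FiniteType R B' := Algebra.FiniteType.of_restrictScalars_finiteType A R B'
  haveI : Algebra.QuasiFinite R B' := Algebra.QuasiFinite.of_restrictScalars A R B'
  let q' : Ideal B' := q.map ρ
  have hker : RingHom.ker ρ ≤ q := by rw [Ideal.mk_ker]; exact hQq
  haveI : q'.IsPrime := Ideal.map_isPrime_of_surjective hρs hker
  have hq'c : q'.comap ρ = q := by
    rw [Ideal.comap_map_of_surjective ρ hρs, ← RingHom.ker_eq_comap_bot]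
    exact sup_eq_left.mpr hker
  have hcomap : ∀ I : Ideal B', (I.comap (algebraMap R B')).comap π =
      (I.comap ρ).comap (algebraMap A B) := by
    intro I
    ext a
    simp only [Ideal.mem_comap, hf]
  have hq' : (q'.comap (algebraMap R B')).IsMaximal := by
    have h1 : (q'.comap (algebraMap R B')).comap π = maximalIdeal A := by
      rw [hcomap, hq'c, hq]
    have h2 : q'.comap (algebraMap R B') = (maximalIdeal A).map π := by
      rw [← h1, Ideal.map_comap_of_surjective π hπs]
    rw [h2]
    refine Ideal.IsMaximal.map_of_surjective_of_ker_le hπs ?_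
    rw [Ideal.mk_ker]
    exact IsLocalRing.le_maximalIdeal (Ideal.IsPrime.ne_top (hQ₀ ▸ Ideal.comap_isPrime _ _))
  have hNp : RingHom.ker π ≤ p₁ := by
    rw [Ideal.mk_ker]
    exact nilradical_le_prime p₁
  haveI : (p₁.map π).IsPrime := Ideal.map_isPrime_of_surjective hπs hNp
  obtain ⟨q₁', hq₁', hq₁'q, hq₁'p⟩ := exists_prime_le_of_quasiFiniteAt R (FractionRing R) hA.2 B'
    hinj q' hq' (p₁.map π)
  refine ⟨q₁'.comap ρ, Ideal.comap_isPrime _ _, ?_, ?_⟩
  · rw [← hq'c]
    exact Ideal.comap_mono hq₁'q
  · rw [← hcomap, hq₁'p, Ideal.comap_map_of_surjective π hπs, ← RingHom.ker_eq_comap_bot]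
    exact sup_eq_left.mpr hNp

end Groth.Agent.Helper5.QFUni
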