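import Mathlib
import Groth.Prelude.Def_CAlg2
import Groth.Agent.Helper5.QFUni2

/-!
# Lifting generizations along a quasi-finite morphism to the spectrum of a unibranch local ring
-/

set_option autoImplicit false
set_option linter.style.haveILetI false
universe u

namespace Groth.Agent.Helper5.QFUni

open AlgebraicGeometry CategoryTheory IsLocalRing

/-- affine case -/
theorem lifting_spec {A B : CommRingCat.{u}} [IsLocalRing A] (hA : CAlg2.IsUnibranch A) (ψ : A ⟶ B)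
    (hft : ψ.hom.FiniteType) (hqf : ψ.hom.QuasiFinite) (z ζ : Spec B) (hζz : ζ ⤳ z)
    (hz : Spec.map ψ z = closedPoint A) (hζ : (Spec.map ψ ζ).asIdeal = nilradical A)
    (t₁ : Spec A) : ∃ z₁ : Spec B, z₁ ⤳ z ∧ Spec.map ψ z₁ = t₁ := by
  letI : Algebra A B := ψ.hom.toAlgebra
  haveI : Algebra.FiniteType A B := hft
  haveI : Algebra.QuasiFinite A B := hqf
  have hle : ζ.asIdeal ≤ z.asIdeal := (PrimeSpectrum.le_iff_specializes ζ z).mpr hζz
  have hq : z.asIdeal.comap (algebraMap A B) = maximalIdeal A := by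
    have := congrArg PrimeSpectrum.asIdeal hz
    exact this
  obtain ⟨q₁, hq₁, hq₁z, hq₁p⟩ := exists_prime_le_of_unibranch A hA B z.asIdeal ζ.asIdeal hle hq hζ
    t₁.asIdeal
  refine ⟨⟨q₁, hq₁⟩, ?_, ?_⟩
  · exact (PrimeSpectrum.le_iff_specializes (⟨q₁, hq₁⟩ : PrimeSpectrum B) z).mp hq₁z
  · apply PrimeSpectrum.ext
    exact hq₁p

/-- local case -/
theorem lifting_local {A : CommRingCat.{u}} [IsLocalRing A] (hA : CAlg2.IsUnibranch A)
    {X : Scheme.{u}} (g : X ⟶ Spec A) [LocallyOfFiniteType g] [LocallyQuasiFinite g] (x ξ : X)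
    (hξx : ξ ⤳ x) (hx : g x = closedPoint A) (hξ : (g ξ).asIdeal = nilradical A) (t₁ : Spec A) :
    ∃ x₁ : X, x₁ ⤳ x ∧ g x₁ = t₁ := by
  have hcov : ∃ (i : X.affineCover.I₀) (x' : X.affineCover.X i), X.affineCover.f i x' = x :=
    ⟨_, X.affineCover.covers x⟩
  obtain ⟨i, x', hx'⟩ := hcov
  let i₁ := X.affineCover.f i
  have hξr : ξ ∈ Set.range i₁ := hξx.mem_open i₁.opensRange.isOpen ⟨x', hx'⟩
  obtain ⟨ζ, hζ⟩ := hξr
  have hζx' : ζ ⤳ x' := by
    have h1 : i₁ ζ ⤳ i₁ x' := by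
      rw [hζ, hx']
      exact hξx
    exact i₁.isOpenEmbedding.isInducing.specializes_iff.mp h1
  let q' := i₁ ≫ g
  have hq'1 : LocallyOfFiniteType q' := inferInstance
  have hq'2 : LocallyQuasiFinite q' := inferInstance
  obtain ⟨ψ, hψ⟩ := Spec.map_surjective q'
  have hft : ψ.hom.FiniteType := by
    rw [← hψ] at hq'1
    exact (HasRingHomProperty.Spec_iff (P := @LocallyOfFiniteType)).mp hq'1
  have hqf : ψ.hom.QuasiFinite := by
    rw [← hψ] at hq'2
    exact (HasRingHomProperty.Spec_iff (P := @LocallyQuasiFinite)).mp hq'2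
  have e1 : ∀ w, Spec.map ψ w = g (i₁ w) := by
    intro w
    rw [hψ]
    rfl
  obtain ⟨z₁, hz₁, hz₁t⟩ := lifting_spec hA ψ hft hqf x' ζ hζx' (by rw [e1, hx', hx])
    (by rw [e1, hζ, hξ]) t₁
  refine ⟨i₁ z₁, ?_, ?_⟩
  · have h1 := hz₁.map i₁.continuous
    rwa [hx'] at h1
  · rw [← e1, hz₁t]

end Groth.Agent.Helper5.QFUni
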