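import Mathlib
import Groth.Prelude.Def_CAlg2
import Groth.Prelude.Def_EGA43
import Groth.Agent.Helper5.QFUni3
import Groth.Agent.Helper5.PtOpen4
import Groth.Agent.Helper5.OpenAt3

/-!
# Lifting generizations along a quasi-finite morphism at a point with unibranch image
-/

set_option autoImplicit false
set_option linter.style.haveILetI false
universe u

namespace Groth.Agent.Helper5.QFUni

open AlgebraicGeometry CategoryTheory CategoryTheory.Limits IsLocalRing

/-- Let `f : X ⟶ Y` be locally of finite type and locally quasi-finite, `x` a point of `X` at whose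
image `Y` is unibranch, and `ξ` a generization of `x` whose image is a maximal point of `Y`. Then
every generization of `f x` lifts to a generization of `x`. -/
theorem lifting_of_unibranch {X Y : Scheme.{u}} (f : X ⟶ Y) [LocallyOfFiniteType f]
    [LocallyQuasiFinite f] (x ξ : X) (hξx : ξ ⤳ x) (hξ : ∀ y' : Y, y' ⤳ f ξ → y' = f ξ)
    (hy : CAlg2.IsUnibranch (Y.presheaf.stalk (f x))) (y₁ : Y) (hy₁ : y₁ ⤳ f x) :
    ∃ x₁ : X, x₁ ⤳ x ∧ f x₁ = y₁ := by
  let y := f x
  let j := Y.fromSpecStalk y
  let g := pullback.snd f j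
  let p := pullback.fst f j
  haveI : IsPreimmersion p := inferInstance
  have hcond : ∀ w, f (p w) = j (g w) := by
    intro w
    have := congrArg (fun φ => φ w) (pullback.condition (f := f) (g := j))
    exact this
  have hxc : f x = j (closedPoint (Y.presheaf.stalk y)) :=
    (Scheme.fromSpecStalk_closedPoint (x := y)).symm
  obtain ⟨x', hx'1, hx'2⟩ := Scheme.Pullback.exists_preimage_pullback (f := f) (g := j) x
    (closedPoint (Y.presheaf.stalk y)) hxc
  have hfξ : f ξ ∈ Set.range j := by
    rw [Scheme.range_fromSpecStalk]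
    exact hξx.map f.continuous
  obtain ⟨η, hη⟩ := hfξ
  obtain ⟨ξ', hξ'1, hξ'2⟩ := Scheme.Pullback.exists_preimage_pullback (f := f) (g := j) ξ η hη.symm
  have hξ'x' : ξ' ⤳ x' := by
    have h1 : p ξ' ⤳ p x' := by
      rw [hξ'1, hx'1]
      exact hξx
    exact p.isEmbedding.isInducing.specializes_iff.mp h1
  haveI hdom : IsDomain (CAlg2.red (Y.presheaf.stalk y)) := hy.1
  haveI hNp : (nilradical (Y.presheaf.stalk y)).IsPrime :=
    (Ideal.Quotient.isDomain_iff_prime _).mp hdom
  have hηN : η.asIdeal = nilradical (Y.presheaf.stalk y) := by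
    let η₀ : Spec (Y.presheaf.stalk y) := ⟨nilradical (Y.presheaf.stalk y), hNp⟩
    have h1 : η₀ ⤳ η :=
      (PrimeSpectrum.le_iff_specializes η₀ η).mp (nilradical_le_prime η.asIdeal)
    have h2 : j η₀ ⤳ f ξ := by
      rw [← hη]
      exact h1.map j.continuous
    have h3 : j η₀ = j η := by rw [hξ _ h2, hη]
    have h4 : η₀ = η := j.isEmbedding.injective h3
    rw [← h4]
  have hy₁r : y₁ ∈ Set.range j := by
    rw [Scheme.range_fromSpecStalk]
    exact hy₁
  obtain ⟨t₁, ht₁⟩ := hy₁r
  obtain ⟨x₁', hx₁', hx₁'t⟩ := lifting_local hy g x' ξ' hξ'x' hx'2 (by rw [hξ'2]; exact hηN) t₁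
  refine ⟨p x₁', ?_, ?_⟩
  · have h1 := hx₁'.map p.continuous
    rwa [hx'1] at h1
  · rw [hcond, hx₁'t, ht₁]

/-- **EGA IV 14.4.1.2** -/
theorem s4937 {X Y : Scheme.{u}} [IrreducibleSpace X] [IrreducibleSpace Y] (f : X ⟶ Y)
    [LocallyOfFinitePresentation f] [LocallyQuasiFinite f] [IsDominant f] (x : X)
    (hy : CAlg2.IsUnibranch (Y.presheaf.stalk (f x))) : EGA43.IsOpenAt f x := by
  refine Groth.Agent.Helper5.PtOpen.isOpenAt_of_lifting f x ?_
  intro y₁ hy₁
  have hgen : f (genericPoint X) = genericPoint Y :=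
    Groth.Agent.Helper5.OpenAt.map_genericPoint_of_isDominant f
  refine lifting_of_unibranch f x (genericPoint X) (genericPoint_specializes x) ?_ hy y₁ hy₁
  intro y' hy'
  rw [hgen] at hy' ⊢
  exact (hy'.antisymm (genericPoint_specializes y')).eq

end Groth.Agent.Helper5.QFUni
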