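import Mathlib
import Groth.Prelude.Def_EGA43
import Groth.Prelude.Def_CAlg2
import Groth.Agent.Helper5.ChevA
import Groth.Agent.Helper5.QFUni4
import Groth.Agent.Helper5.EtOI

/-!
# Lifting of generizations for morphisms equidimensional at a point over a unibranch point
-/

set_option autoImplicit false
set_option linter.style.haveILetI false
universe u

namespace Groth.Agent.Helper5.Chev

open AlgebraicGeometry CategoryTheory CategoryTheory.Limits
open Groth.Agent.Helper5.EqAt

/-- a point of a locally Noetherian scheme whose local ring has a prime nilradical has an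
irreducible open neighbourhood -/
theorem exists_irreducible_nhd (Y : Scheme.{u}) [IsLocallyNoetherian Y] (y : Y)
    (hN : (nilradical (Y.presheaf.stalk y)).IsPrime) :
    ∃ V : Y.Opens, y ∈ V ∧ IrreducibleSpace ↥V := by
  obtain ⟨U, hyU, hU⟩ := exists_open_max_specializes Y y
  let j := Y.fromSpecStalk y
  let η₀ : Spec (Y.presheaf.stalk y) := ⟨nilradical (Y.presheaf.stalk y), hN⟩
  let η : Y := j η₀
  have hηy : η ⤳ y := by
    have : η ∈ Set.range j := ⟨η₀, rfl⟩
    rw [Scheme.range_fromSpecStalk] at this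
    exact this
  have hηU : η ∈ U := hηy.mem_open U.2 hyU
  -- every maximal generization of `y` is `η`
  have huniq : ∀ ξ : Y, ξ ⤳ y → (∀ w : Y, w ⤳ ξ → w = ξ) → ξ = η := by
    intro ξ hξy hξ
    have hξr : ξ ∈ Set.range j := by
      rw [Scheme.range_fromSpecStalk]
      exact hξy
    obtain ⟨ζ, hζ⟩ := hξr
    have h1 : η₀ ⤳ ζ :=
      (PrimeSpectrum.le_iff_specializes η₀ ζ).mp (nilradical_le_prime ζ.asIdeal)
    have h2 : η ⤳ ξ := by
      rw [← hζ]
      exact h1.map j.continuous
    exact (hξ η h2).symm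
  have hgen : ∀ v : Y, v ∈ U → η ⤳ v := by
    intro v hv
    obtain ⟨ξ, hξv, hξ⟩ := Groth.Agent.Helper5.EtOI.exists_maximal_generization Y v
    have hξmax : ∀ w : Y, w ⤳ ξ → w = ξ := max_of_closure_mem_irreducibleComponents ξ hξ
    have hξU : ξ ∈ U := hξv.mem_open U.2 hv
    have hξy : ξ ⤳ y := hU ξ hξU (coheight_eq_zero_of_max ξ hξmax)
    rw [← huniq ξ hξy hξmax]
    exact hξv
  refine ⟨U, hyU, ?_⟩
  let ηU : ↥U := ⟨η, hηU⟩
  have hcl : closure ({ηU} : Set ↥U) = Set.univ := by
    refine Set.eq_univ_of_forall fun v => ?_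
    rw [← specializes_iff_mem_closure]
    exact Topology.IsInducing.subtypeVal.specializes_iff.mp (hgen v.1 v.2)
  have h1 : IsIrreducible (Set.univ : Set ↥U) := by
    rw [← hcl]
    exact isIrreducible_singleton.closure
  exact (irreducibleSpace_def _).2 h1

/-- a morphism locally of finite type which is open at all points closed in their fibres is
open -/
theorem isOpenMap_of_isOpenAt_closed {X Y : Scheme.{u}} (f : X ⟶ Y) [LocallyOfFiniteType f]
    (h : ∀ x : X, (∀ x' : X, f x' = f x → x ⤳ x' → x' = x) → EGA43.IsOpenAt f x) :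
    IsOpenMap f := by
  intro U hU
  rw [isOpen_iff_mem_nhds]
  rintro _ ⟨x, hxU, rfl⟩
  let y := f x
  let ι := f.fiberι y
  let W : Set ↥(f.fiber y) := ι ⁻¹' U
  have hWo : IsOpen W := hU.preimage ι.continuous
  have hxr : x ∈ Set.range ι := by
    rw [f.range_fiberι y]
    rfl
  obtain ⟨z₀, hz₀⟩ := hxr
  have hWne : W.Nonempty := ⟨z₀, by show ι z₀ ∈ U; rw [hz₀]; exact hxU⟩
  -- a closed point of the fibre in `W`
  obtain ⟨z, hzW, hzcl⟩ : ∃ z ∈ W, z ∈ closedPoints ↥(f.fiber y) := by
    by_contra hcon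
    have h1 : closedPoints ↥(f.fiber y) ⊆ Wᶜ := fun z hz hzW => hcon ⟨z, hzW, hz⟩
    have h2 : closure (closedPoints ↥(f.fiber y)) ⊆ Wᶜ :=
      closure_minimal h1 hWo.isClosed_compl
    rw [closure_closedPoints] at h2
    obtain ⟨w, hw⟩ := hWne
    exact h2 (Set.mem_univ w) hw
  have hzcl' : IsClosed ({z} : Set ↥(f.fiber y)) := hzcl
  let x₀ := ι z
  have hfx₀ : f x₀ = y := by
    have : x₀ ∈ Set.range ι := ⟨z, rfl⟩
    rw [f.range_fiberι y] at this
    exact this
  have hcl : ∀ x' : X, f x' = f x₀ → x₀ ⤳ x' → x' = x₀ := by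
    intro x' hx' hsp
    have hx'r : x' ∈ Set.range ι := by
      rw [f.range_fiberι y]
      show f x' = y
      rw [hx', hfx₀]
    obtain ⟨z', hz'⟩ := hx'r
    have h1 : z ⤳ z' := by
      rw [← ι.isEmbedding.isInducing.specializes_iff, hz']
      exact hsp
    have h2 : z' ∈ closure ({z} : Set ↥(f.fiber y)) := h1.mem_closure
    rw [hzcl'.closure_eq] at h2
    rw [← hz', h2]
  have h3 := h x₀ hcl U (hU.mem_nhds hzW)
  rwa [hfx₀] at h3

end Groth.Agent.Helper5.Chev
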