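import Mathlib

set_option autoImplicit false
set_option linter.unusedSectionVars false
set_option linter.style.haveILetI false
universe u

open Polynomial

namespace Groth.Agent.Helper5.SmNorm

variable {T : Type u} [CommRing T] {I : Type u} [Finite I] [DecidableEq I] (L : I → Type u)
  [∀ i, Field (L i)] (ι : T →+* (∀ i, L i))

/-- an element of a finite product of fields supported at one index and integral there is
integral -/
theorem isIntegralElem_single (i₀ : I) (w : L i₀)
    (hw : ((Pi.evalRingHom L i₀).comp ι).IsIntegralElem w) :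
    ι.IsIntegralElem (Pi.single i₀ w) := by
  obtain ⟨g, hg, hgw⟩ := hw
  refine ⟨X * g, monic_X.mul hg, ?_⟩
  rw [eval₂_mul, eval₂_X]
  funext j
  rw [Pi.mul_apply, Pi.zero_apply]
  by_cases hj : j = i₀
  · subst hj
    rw [Pi.single_eq_same]
    have h1 : (eval₂ ι (Pi.single j w) g) j = eval₂ ((Pi.evalRingHom L j).comp ι) w g := by
      have := Polynomial.hom_eval₂ g ι (Pi.evalRingHom L j) (Pi.single j w)
      simp only [Pi.evalRingHom_apply, Pi.single_eq_same] at this
      exact this
    rw [h1, hgw, mul_zero]
  · rw [Pi.single_eq_of_ne hj, zero_mul]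

/-- the localization at a prime of a ring integrally closed in a finite product of fields, of
which the product is a ring of fractions, is an integrally closed domain -/
theorem normal_atPrime_of_prod (hinj : Function.Injective ι)
    (hic : ∀ z : (∀ i, L i), ι.IsIntegralElem z → ∃ t, ι t = z)
    (hfrac : ∀ z : (∀ i, L i), ∃ s t : T, IsUnit (ι s) ∧ z * ι s = ι t)
    (q : Ideal T) [q.IsPrime] :
    IsDomain (Localization.AtPrime q) ∧ IsIntegrallyClosed (Localization.AtPrime q) := by
  classical
  haveI : Fintype I := Fintype.ofFinite I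
  -- choose the component
  have hinf : (Finset.univ.inf fun i => RingHom.ker ((Pi.evalRingHom L i).comp ι)) ≤ q := by
    intro t ht
    have : t = 0 := by
      apply hinj
      rw [map_zero]
      funext i
      have := (Finset.inf_le (f := fun i => RingHom.ker ((Pi.evalRingHom L i).comp ι))
        (Finset.mem_univ i)) ht
      exact this
    rw [this]; exact Ideal.zero_mem _
  obtain ⟨i₀, -, hi₀⟩ := (Ideal.IsPrime.inf_le' inferInstance).1 hinf
  set π := (Pi.evalRingHom L i₀).comp ι with hπ
  -- the idempotent
  obtain ⟨ε, hε⟩ := hic (Pi.single i₀ 1) (by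
    refine ⟨X ^ 2 - X, monic_X_pow_sub (degree_X_le.trans_lt (by norm_num)), ?_⟩
    rw [eval₂_sub, eval₂_pow, eval₂_X]
    funext j
    by_cases hj : j = i₀
    · subst hj; simp
    · simp [Pi.single_eq_of_ne hj])
  have hεq : ε ∉ q := by
    intro hmem
    have h1 : (1 - ε) ∈ RingHom.ker π := by
      rw [RingHom.mem_ker, map_sub, map_one]
      show 1 - (ι ε) i₀ = 0
      rw [hε, Pi.single_eq_same, sub_self]
    have h2 : (1 - ε) ∈ q := hi₀ h1
    have : (1 : T) ∈ q := by
      have := q.add_mem h2 hmem
      simpa using this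
    exact (Ideal.IsPrime.ne_top inferInstance) ((Ideal.eq_top_iff_one q).2 this)
  -- the map to the field
  have hunits : ∀ s : q.primeCompl, IsUnit (π s) := by
    intro s
    apply IsUnit.mk0
    intro h0
    exact s.2 (hi₀ h0)
  let φ : Localization.AtPrime q →+* L i₀ := IsLocalization.lift hunits
  have hφ : ∀ t : T, φ (algebraMap T (Localization.AtPrime q) t) = π t :=
    fun t => IsLocalization.lift_eq hunits t
  have hφinj : Function.Injective φ := by
    rw [injective_iff_map_eq_zero]
    intro x hx
    obtain ⟨t, s, rfl⟩ := IsLocalization.exists_mk'_eq q.primeCompl x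
    have hx' : π t = 0 := by
      have h2 := congrArg φ (IsLocalization.mk'_spec (Localization.AtPrime q) t s)
      rw [map_mul, hx, zero_mul, hφ] at h2
      exact h2.symm
    have h1 : t * ε = 0 := by
      apply hinj
      rw [map_mul, map_zero, hε]
      funext j
      by_cases hj : j = i₀
      · subst hj
        rw [Pi.mul_apply, Pi.single_eq_same, mul_one]
        exact hx'
      · rw [Pi.mul_apply, Pi.single_eq_of_ne hj, mul_zero]; rfl
    rw [IsLocalization.mk'_eq_zero_iff]
    exact ⟨⟨ε, hεq⟩, by rw [mul_comm]; exact h1⟩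
  haveI hdom : IsDomain (Localization.AtPrime q) := hφinj.isDomain φ
  refine ⟨hdom, ?_⟩
  letI algL : Algebra (Localization.AtPrime q) (L i₀) := φ.toAlgebra
  letI algTL : Algebra T (L i₀) := π.toAlgebra
  haveI : IsScalarTower T (Localization.AtPrime q) (L i₀) :=
    IsScalarTower.of_algebraMap_eq (fun t => (hφ t).symm)
  haveI : FaithfulSMul (Localization.AtPrime q) (L i₀) :=
    (faithfulSMul_iff_algebraMap_injective _ _).2 hφinj
  haveI : IsFractionRing (Localization.AtPrime q) (L i₀) := by
    apply IsFractionRing.of_field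
    intro y
    obtain ⟨s, t, hs, hst⟩ := hfrac (Pi.single i₀ y)
    have h1 : y * π s = π t := by
      have := congrFun hst i₀
      rw [Pi.mul_apply, Pi.single_eq_same] at this
      exact this
    have hs0 : π s ≠ 0 := by
      have := (hs.map (Pi.evalRingHom L i₀))
      exact this.ne_zero
    refine ⟨algebraMap T _ t, algebraMap T _ s, ?_⟩
    show y = φ (algebraMap T _ t) / φ (algebraMap T _ s)
    rw [hφ, hφ, eq_div_iff hs0, h1]
  rw [isIntegrallyClosed_iff (L i₀)]
  intro y hy
  obtain ⟨⟨m, hm⟩, hmy⟩ := IsIntegral.exists_multiple_integral_of_isLocalization q.primeCompl y hy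
  have hmy' : π.IsIntegralElem (π m * y) := by
    have : (⟨m, hm⟩ : q.primeCompl) • y = π m * y := by
      rw [Submonoid.smul_def, Algebra.smul_def]; rfl
    rw [← this]
    exact hmy
  obtain ⟨t, ht⟩ := hic _ (isIntegralElem_single L ι i₀ _ hmy')
  have h1 : π t = π m * y := by
    have := congrFun ht i₀
    rw [Pi.single_eq_same] at this
    exact this
  have hm0 : π m ≠ 0 := (hunits ⟨m, hm⟩).ne_zero
  refine ⟨IsLocalization.mk' (Localization.AtPrime q) t ⟨m, hm⟩, ?_⟩
  show φ (IsLocalization.mk' (Localization.AtPrime q) t ⟨m, hm⟩) = y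
  have h2 := congrArg φ (IsLocalization.mk'_spec (Localization.AtPrime q) t ⟨m, hm⟩)
  rw [map_mul, hφ, hφ, h1, mul_comm] at h2
  exact mul_left_cancel₀ hm0 h2

end Groth.Agent.Helper5.SmNorm
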