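import Mathlib
import Groth.Agent.Helper5.SmNorm1

set_option autoImplicit false
set_option linter.unusedSectionVars false
set_option linter.style.haveILetI false
universe u

open Polynomial TensorProduct

namespace Groth.Agent.Helper5.SmNorm

variable (P T F : Type u) [CommRing P] [IsDomain P] [CommRing T] [Algebra P T] [Field F]
  [Algebra P F] [IsFractionRing P F]

/-- elements of `F ⊗ T` have a common denominator -/
theorem exists_denominator (z : F ⊗[P] T) :
    ∃ (d : P) (t : T), d ≠ 0 ∧
      z * (Algebra.TensorProduct.includeRight : T →ₐ[P] F ⊗[P] T) (algebraMap P T d) =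
        (Algebra.TensorProduct.includeRight : T →ₐ[P] F ⊗[P] T) t := by
  induction z using TensorProduct.induction_on with
  | zero => exact ⟨1, 0, one_ne_zero, by simp⟩
  | tmul f t =>
    obtain ⟨⟨a, b⟩, hab⟩ := IsLocalization.surj (nonZeroDivisors P) f
    refine ⟨b.1, a • t, nonZeroDivisors.ne_zero b.2, ?_⟩
    simp only [Algebra.TensorProduct.includeRight_apply, Algebra.TensorProduct.tmul_mul_tmul,
      mul_one]
    rw [Algebra.algebraMap_eq_smul_one, mul_smul_comm, mul_one, ← TensorProduct.smul_tmul,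
      ← TensorProduct.smul_tmul]
    congr 1
    rw [Algebra.smul_def, Algebra.smul_def, mul_one, mul_comm]
    exact hab
  | add z₁ z₂ h₁ h₂ =>
    obtain ⟨d₁, t₁, hd₁, e₁⟩ := h₁
    obtain ⟨d₂, t₂, hd₂, e₂⟩ := h₂
    refine ⟨d₁ * d₂, algebraMap P T d₂ * t₁ + algebraMap P T d₁ * t₂, mul_ne_zero hd₁ hd₂, ?_⟩
    rw [map_mul, map_add, map_mul, map_mul, map_mul, ← e₁, ← e₂]
    ring


/-- elements of `F ⊗ T` integral over `T` come from `T`, for `T` smooth over an integrally closed
domain `P` with fraction field `F` -/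
theorem exists_of_isIntegral [IsIntegrallyClosed P] [Algebra.Smooth P T] (z : F ⊗[P] T)
    (hz : (Algebra.TensorProduct.includeRight : T →ₐ[P] F ⊗[P] T).toRingHom.IsIntegralElem z) :
    ∃ t : T, (Algebra.TensorProduct.includeRight : T →ₐ[P] F ⊗[P] T) t = z := by
  -- move to `T ⊗ F`
  let c : F ⊗[P] T ≃ₐ[P] T ⊗[P] F := Algebra.TensorProduct.comm P F T
  have hc : ∀ t : T, c ((Algebra.TensorProduct.includeRight : T →ₐ[P] F ⊗[P] T) t) =
      algebraMap T (T ⊗[P] F) t := fun t => by
    simp [c, Algebra.TensorProduct.algebraMap_apply]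
  have hz' : IsIntegral T (c z) := by
    obtain ⟨g, hg, hgz⟩ := hz
    refine ⟨g, hg, ?_⟩
    have h1 : (c : F ⊗[P] T →+* T ⊗[P] F).comp
        (Algebra.TensorProduct.includeRight : T →ₐ[P] F ⊗[P] T).toRingHom =
        algebraMap T (T ⊗[P] F) := RingHom.ext hc
    rw [← h1]
    have h2 := Polynomial.hom_eval₂ g
      (Algebra.TensorProduct.includeRight : T →ₐ[P] F ⊗[P] T).toRingHom
      (c : F ⊗[P] T →+* T ⊗[P] F) z
    rw [hgz, map_zero] at h2
    exact h2.symm
  obtain ⟨w, hw⟩ := (TensorProduct.toIntegralClosure_bijective_of_smooth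
    (R := P) (S := T) (B := F)).2 ⟨c z, hz'⟩
  have hw' : (Algebra.TensorProduct.map (AlgHom.id T T) (integralClosure P F).val) w = c z :=
    congrArg Subtype.val hw
  -- every element of `T ⊗ integralClosure P F` is of the form `t ⊗ 1`
  have hsurj : ∀ w : T ⊗[P] integralClosure P F, ∃ t : T, w = t ⊗ₜ 1 := by
    intro w
    induction w using TensorProduct.induction_on with
    | zero => exact ⟨0, by simp⟩
    | tmul t b =>
      obtain ⟨a, ha⟩ := (isIntegrallyClosed_iff F).1 inferInstance b.2
      refine ⟨a • t, ?_⟩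
      rw [TensorProduct.smul_tmul]
      congr 1
      apply Subtype.ext
      rw [← ha]
      simp [Algebra.smul_def]
    | add w₁ w₂ h₁ h₂ =>
      obtain ⟨t₁, rfl⟩ := h₁
      obtain ⟨t₂, rfl⟩ := h₂
      exact ⟨t₁ + t₂, by rw [TensorProduct.add_tmul]⟩
  obtain ⟨t, rfl⟩ := hsurj w
  refine ⟨t, ?_⟩
  apply c.injective
  rw [hc, ← hw']
  simp [Algebra.TensorProduct.algebraMap_apply]

/-- étale algebras over integrally closed domains are normal -/
theorem normal_atPrime_of_etale [IsIntegrallyClosed P] [Algebra.Etale P T] (q : Ideal T)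
    [q.IsPrime] :
    IsDomain (Localization.AtPrime q) ∧ IsIntegrallyClosed (Localization.AtPrime q) := by
  classical
  obtain ⟨I, hI, L, hL, hLalg, Φ, -⟩ :=
    (Algebra.FormallyEtale.iff_exists_algEquiv_prod (FractionRing P) (FractionRing P ⊗[P] T)).1 inferInstance
  let ι₀ : T →ₐ[P] FractionRing P ⊗[P] T := Algebra.TensorProduct.includeRight
  let ι : T →+* (∀ i, L i) := (Φ : FractionRing P ⊗[P] T →+* (∀ i, L i)).comp ι₀.toRingHom
  have hι₀ : Function.Injective ι₀ :=
    Algebra.TensorProduct.includeRight_injective (IsFractionRing.injective P (FractionRing P))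
  refine normal_atPrime_of_prod L ι (Φ.injective.comp hι₀) ?_ ?_ q
  · intro z hz
    have hz' : ι₀.toRingHom.IsIntegralElem (Φ.symm z) := by
      obtain ⟨g, hg, hgz⟩ := hz
      refine ⟨g, hg, ?_⟩
      apply Φ.injective
      rw [map_zero]
      have := Polynomial.hom_eval₂ g ι₀.toRingHom (Φ : FractionRing P ⊗[P] T →+* (∀ i, L i)) (Φ.symm z)
      simp only [RingHom.coe_coe, AlgEquiv.apply_symm_apply] at this
      rw [this]
      exact hgz
    obtain ⟨t, ht⟩ := exists_of_isIntegral P T (FractionRing P) (Φ.symm z) hz'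
    refine ⟨t, ?_⟩
    show Φ (ι₀ t) = z
    rw [ht, AlgEquiv.apply_symm_apply]
  · intro z
    obtain ⟨d, t, hd, hdt⟩ := exists_denominator P T (FractionRing P) (Φ.symm z)
    refine ⟨algebraMap P T d, t, ?_, ?_⟩
    · have h1 : ι (algebraMap P T d) = algebraMap (FractionRing P) (∀ i, L i) (algebraMap P (FractionRing P) d) := by
        show Φ (ι₀ (algebraMap P T d)) = _
        rw [ι₀.commutes, IsScalarTower.algebraMap_apply P (FractionRing P) (FractionRing P ⊗[P] T), Φ.commutes]
      rw [h1]
      exact (IsUnit.mk0 _ ((map_ne_zero_iff _ (IsFractionRing.injective P (FractionRing P))).2 hd)).map _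
    · have := congrArg Φ hdt
      rw [map_mul, AlgEquiv.apply_symm_apply] at this
      exact this

end Groth.Agent.Helper5.SmNorm
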