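import Mathlib
import Groth.Agent.Helper5.SmNorm2

set_option autoImplicit false
set_option linter.unusedSectionVars false
set_option linter.style.haveILetI false
universe u

open Polynomial TensorProduct

namespace Groth.Agent.Helper5.SmNorm

/-- polynomial rings over integrally closed domains are integrally closed -/
theorem isIntegrallyClosed_mvPolynomial (A : Type u) [CommRing A] [IsDomain A]
    [IsIntegrallyClosed A] (n : ℕ) : IsIntegrallyClosed (MvPolynomial (Fin n) A) := by
  induction n with
  | zero => exact IsIntegrallyClosed.of_equiv (MvPolynomial.isEmptyAlgEquiv A (Fin 0)).symm.toRingEquiv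
  | succ n ih =>
    haveI := ih
    exact IsIntegrallyClosed.of_equiv (MvPolynomial.finSuccEquiv A n).symm.toRingEquiv

/-- normality at a prime can be checked after localizing -/
theorem normal_atPrime_of_isLocalization {R S : Type u} [CommRing R] [CommRing S] [Algebra R S]
    (M : Submonoid R) [IsLocalization M S] (q : Ideal R) [q.IsPrime]
    (hd : Disjoint (M : Set R) (q : Set R))
    (h : ∀ (Q : Ideal S) [Q.IsPrime], Q.comap (algebraMap R S) = q →
      IsDomain (Localization.AtPrime Q) ∧ IsIntegrallyClosed (Localization.AtPrime Q)) :
    IsDomain (Localization.AtPrime q) ∧ IsIntegrallyClosed (Localization.AtPrime q) := by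
  haveI hQ : (q.map (algebraMap R S)).IsPrime :=
    IsLocalization.isPrime_of_isPrime_disjoint M S q inferInstance hd
  have hcomap : (q.map (algebraMap R S)).comap (algebraMap R S) = q :=
    IsLocalization.under_map_of_isPrime_disjoint M S inferInstance hd
  obtain ⟨h1, h2⟩ := h (q.map (algebraMap R S)) hcomap
  haveI := h1
  haveI := h2
  haveI : IsScalarTower R S (Localization.AtPrime (q.map (algebraMap R S))) := inferInstance
  haveI hloc : IsLocalization.AtPrime (Localization.AtPrime (q.map (algebraMap R S)))
      ((q.map (algebraMap R S)).comap (algebraMap R S)) :=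
    IsLocalization.isLocalization_isLocalization_atPrime_isLocalization M
      (Localization.AtPrime (q.map (algebraMap R S))) (q.map (algebraMap R S))
  have hloc' : IsLocalization q.primeCompl (Localization.AtPrime (q.map (algebraMap R S))) := by
    have heq : ((q.map (algebraMap R S)).comap (algebraMap R S)).primeCompl = q.primeCompl := by
      ext x
      simp only [Ideal.mem_primeCompl_iff]
      rw [hcomap]
    rw [← heq]
    exact hloc
  let e : Localization.AtPrime (q.map (algebraMap R S)) ≃ₐ[R] Localization.AtPrime q :=
    @IsLocalization.algEquiv R _ q.primeCompl (Localization.AtPrime (q.map (algebraMap R S))) _ _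
      hloc' (Localization.AtPrime q) _ _ _
  exact ⟨e.symm.toRingEquiv.toMulEquiv.isDomain _, IsIntegrallyClosed.of_equiv e.toRingEquiv⟩

end Groth.Agent.Helper5.SmNorm
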