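import Mathlib
import Groth.Agent.Helper5.SmNorm3

set_option autoImplicit false
set_option linter.unusedSectionVars false
set_option linter.style.haveILetI false
universe u

open Polynomial TensorProduct

namespace Groth.Agent.Helper5.SmNorm

/-- smooth over a normal domain ⇒ normal at every prime -/
theorem normal_atPrime_of_smooth_domain (A' B' : Type u) [CommRing A'] [CommRing B'] [Algebra A' B']
    [IsDomain A'] [IsIntegrallyClosed A'] [Algebra.Smooth A' B'] (Q : Ideal B') [Q.IsPrime] :
    IsDomain (Localization.AtPrime Q) ∧ IsIntegrallyClosed (Localization.AtPrime Q) := by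
  haveI : Algebra.IsSmoothAt A' Q := inferInstance
  obtain ⟨f, hfQ, n, alg, htower, hstd⟩ :=
    Algebra.IsSmoothAt.exists_isStandardEtale_mvPolynomial (R := A') (p := Q)
  letI := alg
  haveI := hstd
  haveI : IsIntegrallyClosed (MvPolynomial (Fin n) A') := isIntegrallyClosed_mvPolynomial A' n
  haveI : Algebra.Etale (MvPolynomial (Fin n) A') (Localization.Away f) := inferInstance
  refine normal_atPrime_of_isLocalization (S := Localization.Away f) (Submonoid.powers f) Q
    ((Ideal.disjoint_powers_iff_notMem_of_isPrime _).mpr hfQ) ?_
  intro Q'' _ _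
  exact normal_atPrime_of_etale (MvPolynomial (Fin n) A') (Localization.Away f) Q''

attribute [local instance] Algebra.TensorProduct.rightAlgebra in
/-- **Core**: smooth maps preserve normality of local rings. -/
theorem normal_atPrime_of_smooth (A B : Type u) [CommRing A] [CommRing B] [Algebra A B]
    [Algebra.Smooth A B] (q : Ideal B) [q.IsPrime]
    (hA : IsDomain (Localization.AtPrime (q.comap (algebraMap A B))) ∧
      IsIntegrallyClosed (Localization.AtPrime (q.comap (algebraMap A B)))) :
    IsDomain (Localization.AtPrime q) ∧ IsIntegrallyClosed (Localization.AtPrime q) := by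
  obtain ⟨h1, h2⟩ := hA
  haveI := h1
  haveI := h2
  set p := q.comap (algebraMap A B) with hp
  haveI : IsLocalization (Algebra.algebraMapSubmonoid B p.primeCompl)
      (Localization.AtPrime p ⊗[A] B) := IsLocalization.tensorRight _ p.primeCompl
  refine normal_atPrime_of_isLocalization (S := Localization.AtPrime p ⊗[A] B)
    (Algebra.algebraMapSubmonoid B p.primeCompl) q ?_ ?_
  · rw [Set.disjoint_left]
    rintro _ ⟨a, ha, rfl⟩ hq
    exact ha hq
  · intro Q' _ _
    exact normal_atPrime_of_smooth_domain (Localization.AtPrime p) (Localization.AtPrime p ⊗[A] B) Q'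

end Groth.Agent.Helper5.SmNorm
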