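import Mathlib
import Groth.Agent.Helper5.SmNorm4
import Groth.Prelude

set_option autoImplicit false
set_option linter.unusedSectionVars false
set_option linter.style.haveILetI false
universe u

open Polynomial TensorProduct

namespace Groth.Agent.Helper5.SmNorm

/-- normal domains descend along faithfully flat maps -/
theorem normal_descent (R S : Type u) [CommRing R] [CommRing S] [Algebra R S]
    [Module.FaithfullyFlat R S] [IsDomain S] [IsIntegrallyClosed S] :
    IsDomain R ∧ IsIntegrallyClosed R := by
  have hinj : Function.Injective (algebraMap R S) := FaithfulSMul.algebraMap_injective R S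
  haveI : IsDomain R := hinj.isDomain _
  refine ⟨inferInstance, ?_⟩
  rw [isIntegrallyClosed_iff (FractionRing R)]
  intro x hx
  obtain ⟨a, b, hb, rfl⟩ := IsFractionRing.div_surjective (A := R) x
  have hb0 : b ≠ 0 := nonZeroDivisors.ne_zero hb
  have hinjL : Function.Injective (Algebra.ofId R (FractionRing S)) := by
    have : (Algebra.ofId R (FractionRing S) : R → FractionRing S) =
        (algebraMap S (FractionRing S)) ∘ (algebraMap R S) := by
      ext r
      simp [Algebra.ofId_apply, IsScalarTower.algebraMap_apply R S (FractionRing S)]
    rw [this]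
    exact (IsFractionRing.injective S (FractionRing S)).comp hinj
  let φ : FractionRing R →ₐ[R] FractionRing S := IsFractionRing.liftAlgHom hinjL
  have h1 : IsIntegral S (φ (algebraMap R (FractionRing R) a / algebraMap R (FractionRing R) b)) :=
    (hx.map φ).tower_top
  obtain ⟨c, hc⟩ := (isIntegrallyClosed_iff (FractionRing S)).1 inferInstance h1
  have hbS : algebraMap S (FractionRing S) (algebraMap R S b) ≠ 0 := by
    rw [Ne, map_eq_zero_iff _ (IsFractionRing.injective S (FractionRing S)),
      map_eq_zero_iff _ hinj]
    exact hb0
  have h2 : algebraMap R S a = algebraMap R S b * c := by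
    apply IsFractionRing.injective S (FractionRing S)
    rw [map_mul, hc, map_div₀, φ.commutes, φ.commutes,
      IsScalarTower.algebraMap_apply R S (FractionRing S) a,
      IsScalarTower.algebraMap_apply R S (FractionRing S) b, mul_div_cancel₀ _ hbS]
  have h3 : a ∈ Ideal.span {b} := by
    rw [← Ideal.comap_map_eq_self_of_faithfullyFlat (B := S) (Ideal.span {b})]
    rw [Ideal.mem_comap, Ideal.map_span, Set.image_singleton, Ideal.mem_span_singleton]
    exact ⟨c, h2⟩
  obtain ⟨c', rfl⟩ := Ideal.mem_span_singleton.1 h3
  refine ⟨c', ?_⟩
  have hbK : algebraMap R (FractionRing R) b ≠ 0 := by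
    rw [Ne, map_eq_zero_iff _ (IsFractionRing.injective R (FractionRing R))]
    exact hb0
  rw [map_mul, mul_div_cancel_left₀ _ hbK]

/-- the statement S1182 -/
theorem s1182 (A B : Type u) [CommRing A] [CommRing B] [Algebra A B] [Algebra.Smooth A B] :
    (EGA4.IsNormalRing A → EGA4.IsNormalRing B) ∧
    (Module.FaithfullyFlat A B → EGA4.IsNormalRing B → EGA4.IsNormalRing A) := by
  constructor
  · intro hA q hq
    exact normal_atPrime_of_smooth A B q (hA _)
  · intro hff hB p hp
    obtain ⟨q, hq, hqp⟩ := Ideal.exists_isPrime_liesOver_of_faithfullyFlat (B := B) p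
    obtain ⟨h1, h2⟩ := hB q
    letI := Localization.AtPrime.algebraOfLiesOver p q
    haveI : IsLocalHom (algebraMap (Localization.AtPrime p) (Localization.AtPrime q)) := by
      rw [RingHom.algebraMap_toAlgebra]
      exact Localization.isLocalHom_localRingHom p q (algebraMap A B) Ideal.LiesOver.over
    haveI : Module.FaithfullyFlat (Localization.AtPrime p) (Localization.AtPrime q) :=
      Module.FaithfullyFlat.of_flat_of_isLocalHom
    exact normal_descent (Localization.AtPrime p) (Localization.AtPrime q)

end Groth.Agent.Helper5.SmNorm
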