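import Mathlib
import Groth.Prelude.Def_Brnch

set_option autoImplicit false
set_option linter.unusedSectionVars false
set_option linter.style.haveILetI false
universe u

namespace Groth.Agent.Helper5.BrAlg

variable (O K : Type u) [CommRing O] [IsDomain O] [Field K] [Algebra O K] [IsFractionRing O K]

theorem mk_bijective : Function.Bijective (Ideal.Quotient.mk (nilradical O)) := by
  refine ⟨?_, Ideal.Quotient.mk_surjective⟩
  rw [RingHom.injective_iff_ker_eq_bot, Ideal.mk_ker]
  exact nilradical_eq_zero O

/-- `O ≃ O_red` for a domain -/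
noncomputable def redEquiv : O ≃+* CAlg2.red O :=
  RingEquiv.ofBijective (Ideal.Quotient.mk (nilradical O)) (mk_bijective O)

theorem red_isDomain : IsDomain (CAlg2.red O) := (redEquiv O).symm.toMulEquiv.isDomain _

/-- `K ≃ Frac (O_red)` -/
noncomputable def fracEquiv : K ≃+* FractionRing (CAlg2.red O) :=
  IsFractionRing.ringEquivOfRingEquiv (redEquiv O)

theorem fracEquiv_algebraMap (o : O) :
    fracEquiv O K (algebraMap O K o) =
      algebraMap (CAlg2.red O) (FractionRing (CAlg2.red O)) (Ideal.Quotient.mk (nilradical O) o) :=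
  IsFractionRing.ringEquivOfRingEquiv_algebraMap (redEquiv O) o

theorem isIntegral_fracEquiv (y : K) (hy : IsIntegral O y) :
    IsIntegral (CAlg2.red O) (fracEquiv O K y) := by
  refine IsIntegral.map_of_comp_eq (redEquiv O).toRingHom (fracEquiv O K).toRingHom ?_ hy
  ext o
  exact (fracEquiv_algebraMap O K o).symm

theorem isIntegral_fracEquiv_symm (z : FractionRing (CAlg2.red O))
    (hz : IsIntegral (CAlg2.red O) z) : IsIntegral O ((fracEquiv O K).symm z) := by
  refine IsIntegral.map_of_comp_eq (redEquiv O).symm.toRingHom (fracEquiv O K).symm.toRingHom ?_ hz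
  ext o
  show algebraMap O K ((redEquiv O).symm ((redEquiv O) o)) =
    (fracEquiv O K).symm (algebraMap _ _ ((redEquiv O) o))
  rw [RingEquiv.symm_apply_apply, RingEquiv.eq_symm_apply]
  exact fracEquiv_algebraMap O K o

/-- the normalization of the reduction of a domain is its integral closure in a fraction field -/
noncomputable def normRedEquiv : CAlg2.normRed O ≃+* integralClosure O K where
  toFun n := ⟨(fracEquiv O K).symm n.1, isIntegral_fracEquiv_symm O K n.1 n.2⟩
  invFun y := ⟨fracEquiv O K y.1, isIntegral_fracEquiv O K y.1 y.2⟩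
  left_inv n := Subtype.ext ((fracEquiv O K).apply_symm_apply n.1)
  right_inv y := Subtype.ext ((fracEquiv O K).symm_apply_apply y.1)
  map_mul' a b := Subtype.ext (map_mul (fracEquiv O K).symm a.1 b.1)
  map_add' a b := Subtype.ext (map_add (fracEquiv O K).symm a.1 b.1)

theorem normRedEquiv_algebraMap (o : O) :
    normRedEquiv O K (algebraMap (CAlg2.red O) (CAlg2.normRed O)
      (Ideal.Quotient.mk (nilradical O) o)) = algebraMap O (integralClosure O K) o := by
  apply Subtype.ext
  show (fracEquiv O K).symm (algebraMap (CAlg2.red O) (FractionRing (CAlg2.red O))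
    (Ideal.Quotient.mk (nilradical O) o)) = algebraMap O K o
  rw [RingEquiv.symm_apply_eq]
  exact (fracEquiv_algebraMap O K o).symm

theorem minimalPrimes_finite : (minimalPrimes O).Finite := by
  rw [IsDomain.minimalPrimes_eq_singleton_bot]
  exact Set.finite_singleton _

end Groth.Agent.Helper5.BrAlg
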