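import Mathlib
import Groth.Prelude.Def_CAlg2
import Groth.Agent.Helper5.BrAlg1

set_option autoImplicit false
set_option linter.unusedSectionVars false
set_option linter.style.haveILetI false
universe u

namespace Groth.Agent.Helper5.BrAlg

/-- the pure inseparability condition on residue fields, transported along an isomorphism -/
theorem transfer {O R S : Type u} [CommRing O] [CommRing R] [CommRing S] (e : R ≃+* S)
    (f : O →+* R) (g : O →+* S) (hfg : ∀ o, e (f o) = g o)
    (h : ∀ (m : Ideal R) [m.IsMaximal] (x : R ⧸ m),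
      ∃ n : ℕ, x ^ (ringExpChar (R ⧸ m)) ^ n ∈ ((Ideal.Quotient.mk m).comp f).range) :
    ∀ (m : Ideal S) [m.IsMaximal] (y : S ⧸ m),
      ∃ n : ℕ, y ^ (ringExpChar (S ⧸ m)) ^ n ∈ ((Ideal.Quotient.mk m).comp g).range := by
  intro m hm y
  haveI : (m.comap (e : R →+* S)).IsMaximal := Ideal.comap_isMaximal_of_equiv e
  have hIJ : m = (m.comap (e : R →+* S)).map (e : R →+* S) :=
    (Ideal.map_comap_of_surjective _ e.surjective _).symm
  let Q := Ideal.quotientEquiv (m.comap (e : R →+* S)) m e hIJ
  haveI : IsDomain (R ⧸ m.comap (e : R →+* S)) := Ideal.Quotient.isDomain _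
  haveI : IsDomain (S ⧸ m) := Ideal.Quotient.isDomain _
  haveI : ExpChar (R ⧸ m.comap (e : R →+* S)) (ringExpChar (R ⧸ m.comap (e : R →+* S))) :=
    ringExpChar.expChar _
  haveI : ExpChar (S ⧸ m) (ringExpChar (R ⧸ m.comap (e : R →+* S))) :=
    expChar_of_injective_ringHom (f := Q.toRingHom) Q.injective _
  have he : ringExpChar (S ⧸ m) = ringExpChar (R ⧸ m.comap (e : R →+* S)) :=
    ringExpChar.eq (S ⧸ m) _
  obtain ⟨n, o, ho⟩ := h (m.comap (e : R →+* S)) (Q.symm y)
  refine ⟨n, o, ?_⟩
  rw [he]
  have h1 : Q (((Ideal.Quotient.mk (m.comap (e : R →+* S))).comp f) o) =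
      ((Ideal.Quotient.mk m).comp g) o := by
    show Q (Ideal.Quotient.mk _ (f o)) = Ideal.Quotient.mk m (g o)
    rw [Ideal.quotientEquiv_mk, hfg]
  rw [← h1, ho, map_pow, RingEquiv.apply_symm_apply]

variable (O K : Type u) [CommRing O] [IsDomain O] [IsLocalRing O] [Field K] [Algebra O K]
  [IsFractionRing O K]

/-- geometric unibranchness of a local domain in terms of its integral closure in a fraction
field -/
theorem isGeomUnibranch_iff :
    CAlg2.IsGeomUnibranch O ↔ IsLocalRing (integralClosure O K) ∧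
      ∀ (m'' : Ideal (integralClosure O K)) [m''.IsMaximal] (x : integralClosure O K ⧸ m''),
        ∃ n : ℕ, x ^ (ringExpChar (integralClosure O K ⧸ m'')) ^ n ∈
          ((Ideal.Quotient.mk m'').comp (algebraMap O (integralClosure O K))).range := by
  constructor
  · rintro ⟨⟨-, hloc⟩, hpi⟩
    haveI := hloc
    refine ⟨(normRedEquiv O K).isLocalRing, ?_⟩
    exact transfer (normRedEquiv O K) ((algebraMap (CAlg2.red O) (CAlg2.normRed O)).comp
        (Ideal.Quotient.mk (nilradical O))) (algebraMap O (integralClosure O K))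
      (fun o => normRedEquiv_algebraMap O K o) hpi
  · rintro ⟨hloc, hpi⟩
    haveI := hloc
    refine ⟨⟨red_isDomain O, (normRedEquiv O K).symm.isLocalRing⟩, ?_⟩
    exact transfer (normRedEquiv O K).symm (algebraMap O (integralClosure O K))
      ((algebraMap (CAlg2.red O) (CAlg2.normRed O)).comp (Ideal.Quotient.mk (nilradical O)))
      (fun o => by
        rw [RingEquiv.symm_apply_eq]
        exact (normRedEquiv_algebraMap O K o).symm) hpi

end Groth.Agent.Helper5.BrAlg
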