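import Mathlib
import Groth.Prelude

set_option autoImplicit false
set_option linter.unusedSectionVars false
set_option linter.style.haveILetI false
universe u

namespace Groth.Agent.Helper5.MinPr

variable {R : Type u} [CommRing R]

/-- minimal primes of the reduction -/
theorem minimalPrimes_red_finite (A : Type u) [CommRing A] (h : (minimalPrimes A).Finite) :
    (minimalPrimes (A ⧸ nilradical A)).Finite := by
  have h1 : minimalPrimes A =
      Ideal.comap (Ideal.Quotient.mk (nilradical A)) '' minimalPrimes (A ⧸ nilradical A) := by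
    have := Ideal.minimalPrimes_eq_comap (I := nilradical A)
    rw [← this]
    show (⊥ : Ideal A).minimalPrimes = ((⊥ : Ideal A).radical).minimalPrimes
    rw [Ideal.radical_minimalPrimes]
  rw [h1] at h
  exact Set.Finite.of_finite_image h
    ((Ideal.comap_injective_of_surjective _ Ideal.Quotient.mk_surjective).injOn)

/-- in a reduced ring the intersection of the minimal primes vanishes -/
theorem eq_zero_of_forall_mem [IsReduced R] (z : R) (hz : ∀ q ∈ minimalPrimes R, z ∈ q) : z = 0 := by
  have h1 : z ∈ sInf (minimalPrimes R) := by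
    rw [Ideal.mem_sInf]
    intro q hq
    exact hz q hq
  have h2 : sInf (minimalPrimes R) = (⊥ : Ideal R).radical := Ideal.sInf_minimalPrimes
  rw [h2] at h1
  have h3 : (⊥ : Ideal R).radical = nilradical R := rfl
  rw [h3, nilradical_eq_zero] at h1
  exact h1

/-- prime avoidance for a minimal prime among finitely many -/
theorem exists_xy [IsReduced R] (hfin : (minimalPrimes R).Finite) (p : Ideal R)
    (hp : p ∈ minimalPrimes R) :
    ∃ x y : R, x ∈ p ∧ (∀ q ∈ minimalPrimes R, q ≠ p → x ∉ q) ∧ y ∉ p ∧
      (∀ q ∈ minimalPrimes R, q ≠ p → y ∈ q) ∧ x * y = 0 ∧ x + y ∈ nonZeroDivisors R := by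
  classical
  haveI hpp : p.IsPrime := Ideal.minimalPrimes_isPrime hp
  set s : Finset (Ideal R) := hfin.toFinset.erase p with hs
  have hmem : ∀ q, q ∈ s ↔ q ∈ minimalPrimes R ∧ q ≠ p := by
    intro q
    rw [hs, Finset.mem_erase, Set.Finite.mem_toFinset]
    tauto
  have hmin : ∀ q ∈ minimalPrimes R, ∀ q' : Ideal R, q'.IsPrime → q' ≤ q → q ≤ q' := by
    intro q hq q' hq' hle
    exact hq.2 ⟨hq', bot_le⟩ hle
  -- x
  have hx : ¬ ((p : Set R) ⊆ ⋃ i ∈ (↑s : Set (Ideal R)), (id i : Ideal R)) := by
    intro hsub
    have hsub' := (Ideal.subset_union_prime (s := s) (f := id) p p (fun i hi _ _ =>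
      Ideal.minimalPrimes_isPrime ((hmem i).1 hi).1)).1 hsub
    obtain ⟨q, hq, hpq⟩ := hsub'
    obtain ⟨hq1, hq2⟩ := (hmem q).1 hq
    exact hq2 (le_antisymm (hmin q hq1 p hpp hpq) hpq)
  rw [Set.not_subset] at hx
  obtain ⟨x, hxp, hxn⟩ := hx
  -- y
  have hy : ¬ (s.inf id ≤ p) := by
    intro hle
    rw [Ideal.IsPrime.inf_le' hpp] at hle
    obtain ⟨q, hq, hqp⟩ := hle
    obtain ⟨hq1, hq2⟩ := (hmem q).1 hq
    exact hq2 (le_antisymm hqp (hmin p hp q (Ideal.minimalPrimes_isPrime hq1) hqp))
  rw [SetLike.not_le_iff_exists] at hy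
  obtain ⟨y, hys, hyp⟩ := hy
  have hyq : ∀ q ∈ minimalPrimes R, q ≠ p → y ∈ q := by
    intro q hq hne
    have : s.inf id ≤ q := Finset.inf_le (f := id) ((hmem q).2 ⟨hq, hne⟩)
    exact this hys
  have hxq : ∀ q ∈ minimalPrimes R, q ≠ p → x ∉ q := by
    intro q hq hne hxq
    apply hxn
    simp only [Set.mem_iUnion, Finset.mem_coe, id]
    exact ⟨q, (hmem q).2 ⟨hq, hne⟩, hxq⟩
  refine ⟨x, y, hxp, hxq, hyp, hyq, ?_, ?_⟩
  · apply eq_zero_of_forall_mem
    intro q hq
    by_cases hqp : q = p
    · rw [hqp]; exact p.mul_mem_right _ hxp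
    · exact q.mul_mem_left _ (hyq q hq hqp)
  · rw [mem_nonZeroDivisors_iff_right]
    intro z hz
    apply eq_zero_of_forall_mem
    intro q hq
    haveI hqq : q.IsPrime := Ideal.minimalPrimes_isPrime hq
    by_cases hqp : q = p
    · subst hqp
      have h1 : z * y ∈ q := by
        have : z * y = z * (x + y) - z * x := by ring
        rw [this, hz, zero_sub]
        exact q.neg_mem (q.mul_mem_left _ hxp)
      exact (hqq.mem_or_mem h1).resolve_right hyp
    · have h1 : z * x ∈ q := by
        have : z * x = z * (x + y) - z * y := by ring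
        rw [this, hz, zero_sub]
        exact q.neg_mem (q.mul_mem_left _ (hyq q hq hqp))
      exact (hqq.mem_or_mem h1).resolve_right (hxq q hq hqp)

/-- a reduced ring with finitely many minimal primes whose integral closure in the total ring of
fractions is local is a domain -/
theorem isDomain_of_isLocalRing_integralClosure [IsReduced R] [Nontrivial R]
    (hfin : (minimalPrimes R).Finite) [IsLocalRing (integralClosure R (FractionRing R))] :
    IsDomain R := by
  obtain ⟨⟨p, hp⟩⟩ := Ideal.nonempty_minimalPrimes (I := (⊥ : Ideal R)) bot_ne_top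
  haveI hpp : p.IsPrime := Ideal.minimalPrimes_isPrime hp
  have hinj : Function.Injective (algebraMap R (FractionRing R)) :=
    IsLocalization.injective (FractionRing R) (le_refl (nonZeroDivisors R))
  have honly : ∀ p' ∈ minimalPrimes R, p' = p := by
    intro p' hp'
    by_contra hne
    obtain ⟨x, y, hxp, hxq, hyp, hyq, hxy, hnz⟩ := exists_xy hfin p hp
    set e : FractionRing R := IsLocalization.mk' (FractionRing R) x ⟨x + y, hnz⟩ with he
    set u : FractionRing R := algebraMap R (FractionRing R) (x + y) with hu
    have hue : e * u = algebraMap R (FractionRing R) x := IsLocalization.mk'_spec _ x ⟨x + y, hnz⟩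
    have huu : IsUnit u := IsLocalization.map_units (FractionRing R) (⟨x + y, hnz⟩ : nonZeroDivisors R)
    have hidem : e * e = e := by
      have h1 : (e * e - e) * (u * u) = 0 := by
        have : (e * e - e) * (u * u) = (e * u) * (e * u) - (e * u) * u := by ring
        rw [this, hue, hu, map_add]
        have h2 : algebraMap R (FractionRing R) x * algebraMap R (FractionRing R) y = 0 := by
          rw [← map_mul, hxy, map_zero]
        ring_nf
        ring_nf at h2
        rw [h2]
        ring
      have h3 := (huu.mul huu).mul_left_eq_zero.1 h1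
      exact sub_eq_zero.1 h3
    have hint : IsIntegral R e := by
      refine ⟨Polynomial.X ^ 2 - Polynomial.X, ?_, ?_⟩
      · exact Polynomial.monic_X_pow_sub (by
          rw [Polynomial.degree_X]; norm_num)
      · simp only [Polynomial.eval₂_sub, Polynomial.eval₂_X_pow, Polynomial.eval₂_X]
        rw [pow_two, hidem, sub_self]
    set ê : integralClosure R (FractionRing R) := ⟨e, hint⟩ with hê
    have hidem' : ê * ê = ê := Subtype.ext hidem
    rcases IsLocalRing.isUnit_or_isUnit_one_sub_self ê with h | h
    · have h1 : ê = 1 := by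
        have : ê * ê = ê * 1 := by rw [hidem', mul_one]
        exact h.mul_left_cancel this
      have h2 : e = 1 := congrArg Subtype.val h1
      rw [h2, one_mul, hu, map_add] at hue
      have h3 : algebraMap R (FractionRing R) y = 0 := by
        have := hue
        linear_combination this
      have h4 : y = 0 := hinj (h3.trans (map_zero _).symm)
      exact hyp (h4 ▸ p.zero_mem)
    · have h1 : ê = 0 := by
        have : (1 - ê) * ê = (1 - ê) * 0 := by
          rw [mul_zero, sub_mul, one_mul, hidem', sub_self]
        exact h.mul_left_cancel this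
      have h2 : e = 0 := congrArg Subtype.val h1
      rw [h2, zero_mul] at hue
      have h4 : x = 0 := hinj (hue.symm.trans (map_zero _).symm)
      exact hxq p' hp' hne (h4 ▸ p'.zero_mem)
  have hbot : p = ⊥ := by
    rw [eq_bot_iff]
    intro z hz
    have : z = 0 := eq_zero_of_forall_mem z (fun q hq => by rw [honly q hq]; exact hz)
    rw [this]
    exact Ideal.zero_mem _
  haveI : NoZeroDivisors R := by
    refine ⟨fun {a b} hab => ?_⟩
    have h1 : a * b ∈ p := by rw [hab]; exact p.zero_mem
    rcases hpp.mem_or_mem h1 with h | h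
    · left; rw [hbot] at h; exact h
    · right; rw [hbot] at h; exact h
  exact NoZeroDivisors.to_isDomain R

end Groth.Agent.Helper5.MinPr
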