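import Mathlib
import Groth.Agent.Helper5.MinPr
import Groth.Prelude

set_option autoImplicit false
set_option linter.unusedSectionVars false
set_option linter.style.haveILetI false
universe u

namespace Groth.Agent.Helper5.BrOne

open Groth.Agent.Helper5.MinPr

theorem minimalPrimes_eq_image (A : Type u) [CommRing A] :
    minimalPrimes A =
      Ideal.comap (Ideal.Quotient.mk (nilradical A)) '' minimalPrimes (A ⧸ nilradical A) := by
  have := Ideal.minimalPrimes_eq_comap (I := nilradical A)
  rw [← this]
  show (⊥ : Ideal A).minimalPrimes = ((⊥ : Ideal A).radical).minimalPrimes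
  rw [Ideal.radical_minimalPrimes]

theorem isLocalRing_of_card (B : Type u) [CommRing B] (h : ENat.card (MaximalSpectrum B) = 1) :
    IsLocalRing B := by
  obtain ⟨hU⟩ := ENat.card_eq_one_iff_unique.1 h
  exact IsLocalRing.of_unique_max_ideal ⟨hU.default.asIdeal, hU.default.isMaximal,
    fun I hI => congrArg MaximalSpectrum.asIdeal (hU.uniq ⟨I, hI⟩)⟩

theorem card_of_isLocalRing (B : Type u) [CommRing B] [IsLocalRing B] :
    ENat.card (MaximalSpectrum B) = 1 := by
  rw [ENat.card_eq_one_iff_unique]
  exact ⟨{ default := ⟨IsLocalRing.maximalIdeal B, inferInstance⟩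
           uniq := fun m => MaximalSpectrum.ext (IsLocalRing.eq_maximalIdeal m.isMaximal) }⟩

theorem unibranch_of_card (A : Type u) [CommRing A] [IsLocalRing A]
    (hfin : (minimalPrimes A).Finite) (h : ENat.card (MaximalSpectrum (CAlg2.normRed A)) = 1) :
    CAlg2.IsUnibranch A := by
  haveI : IsLocalRing (CAlg2.normRed A) := isLocalRing_of_card _ h
  haveI : IsLocalRing (integralClosure (A ⧸ nilradical A) (FractionRing (A ⧸ nilradical A))) :=
    ‹IsLocalRing (CAlg2.normRed A)›
  haveI : IsReduced (A ⧸ nilradical A) :=
    (Ideal.isRadical_iff_quotient_reduced _).mp (Ideal.radical_isRadical _)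
  haveI : Nontrivial (A ⧸ nilradical A) := by
    apply Ideal.Quotient.nontrivial_iff.2
    intro htop
    have h1 : (1 : A) ∈ nilradical A := htop ▸ Submodule.mem_top
    obtain ⟨n, hn⟩ := h1
    rw [one_pow] at hn
    exact one_ne_zero hn
  exact ⟨isDomain_of_isLocalRing_integralClosure (minimalPrimes_red_finite A hfin), inferInstance⟩

theorem minimalPrimes_finite_of_isDomain_red (A : Type u) [CommRing A]
    (h : IsDomain (CAlg2.red A)) : (minimalPrimes A).Finite := by
  rw [minimalPrimes_eq_image]
  haveI : IsDomain (A ⧸ nilradical A) := h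
  rw [IsDomain.minimalPrimes_eq_singleton_bot]
  exact (Set.finite_singleton _).image _

theorem s9235 (A : Type u) [CommRing A] [IsLocalRing A] :
    Brnch.numBranches A = 1 ↔ CAlg2.IsUnibranch A := by
  classical
  unfold Brnch.numBranches
  constructor
  · intro h
    by_cases hfin : (minimalPrimes A).Finite
    · simp only [hfin, if_true] at h
      exact unibranch_of_card A hfin h
    · simp only [hfin, if_false] at h
      exact absurd h (by simp)
  · rintro ⟨hdom, hloc⟩
    have hfin := minimalPrimes_finite_of_isDomain_red A hdom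
    simp only [hfin, if_true]
    haveI := hloc
    exact card_of_isLocalRing _

end Groth.Agent.Helper5.BrOne
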