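import Mathlib
import Groth.Agent.Helper5.MinPr
import Groth.Prelude

set_option autoImplicit false
set_option linter.unusedSectionVars false
set_option linter.style.haveILetI false
universe u

namespace Groth.Agent.Helper5.BrSum

open Groth.Agent.Helper5.MinPr Polynomial

section
variable {R : Type u} [CommRing R] [IsReduced R] {ι : Type u} [Fintype ι] [DecidableEq ι]
  (B : ι → Type u) [∀ i, CommRing (B i)] [∀ i, IsDomain (B i)]
  (ρ : ∀ i, R →+* B i) (hρ : ∀ i, Function.Surjective (ρ i))
  (hker : ∀ i, RingHom.ker (ρ i) ∈ minimalPrimes R)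
  (hinj : Function.Injective (fun i => RingHom.ker (ρ i)))
  (hsurj : ∀ q ∈ minimalPrimes R, ∃ i, RingHom.ker (ρ i) = q)

include hker in
theorem map_ne_zero_of_mem_nonZeroDivisors (i : ι) (s : R) (hs : s ∈ nonZeroDivisors R) :
    ρ i s ≠ 0 := by
  intro h
  have h1 : s ∈ RingHom.ker (ρ i) := h
  have h2 := Ideal.disjoint_nonZeroDivisors_of_mem_minimalPrimes (hker i)
  exact Set.disjoint_left.1 h2 h1 hs

include hsurj in
theorem mem_nonZeroDivisors_of_forall_map_ne_zero (s : R) (hs : ∀ i, ρ i s ≠ 0) :
    s ∈ nonZeroDivisors R := by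
  rw [mem_nonZeroDivisors_iff_right]
  intro c hc
  apply eq_zero_of_forall_mem
  intro q hq
  obtain ⟨i, rfl⟩ := hsurj q hq
  show ρ i c = 0
  have h1 : ρ i c * ρ i s = 0 := by rw [← map_mul, hc, map_zero]
  rcases mul_eq_zero.1 h1 with h | h
  · exact h
  · exact absurd h (hs i)

/-- the projection of the total fraction ring to the fraction field of a component -/
noncomputable def sig (i : ι) : FractionRing R →+* FractionRing (B i) :=
  IsLocalization.lift (M := nonZeroDivisors R) (S := FractionRing R)
    (g := (algebraMap (B i) (FractionRing (B i))).comp (ρ i))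
    (fun s => by
      have h1 : ρ i s ≠ 0 := map_ne_zero_of_mem_nonZeroDivisors B ρ hker i s s.2
      have h2 : algebraMap (B i) (FractionRing (B i)) (ρ i s) ≠ 0 := by
        intro h
        exact h1 ((IsFractionRing.injective (B i) (FractionRing (B i))) (by rw [h, map_zero]))
      exact isUnit_iff_ne_zero.2 h2)

theorem sig_algebraMap (i : ι) (a : R) :
    sig B ρ hker i (algebraMap R (FractionRing R) a) =
      algebraMap (B i) (FractionRing (B i)) (ρ i a) :=
  IsLocalization.lift_eq _ a

theorem sig_mk' (i : ι) (a : R) (s : nonZeroDivisors R) :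
    sig B ρ hker i (IsLocalization.mk' (FractionRing R) a s) *
      algebraMap (B i) (FractionRing (B i)) (ρ i s) =
      algebraMap (B i) (FractionRing (B i)) (ρ i a) := by
  rw [← sig_algebraMap B ρ hker i a, ← sig_algebraMap B ρ hker i s, ← map_mul,
    IsLocalization.mk'_spec]

include hsurj in
theorem sig_injective (x : FractionRing R) (hx : ∀ i, sig B ρ hker i x = 0) : x = 0 := by
  obtain ⟨a, s, rfl⟩ := IsLocalization.exists_mk'_eq (nonZeroDivisors R) x
  have ha : a = 0 := by
    apply eq_zero_of_forall_mem
    intro q hq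
    obtain ⟨i, rfl⟩ := hsurj q hq
    show ρ i a = 0
    have h1 := sig_mk' B ρ hker i a s
    rw [hx i, zero_mul] at h1
    exact (IsFractionRing.injective (B i) (FractionRing (B i))) (by rw [← h1, map_zero])
  rw [ha, IsLocalization.mk'_zero]

theorem sig_isIntegral (i : ι) (x : FractionRing R) (hx : IsIntegral R x) :
    IsIntegral (B i) (sig B ρ hker i x) :=
  IsIntegral.map_of_comp_eq (ρ i) (sig B ρ hker i)
    (RingHom.ext fun a => (sig_algebraMap B ρ hker i a).symm) hx

/-- the projection on integral closures -/
noncomputable def proj (i : ι) :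
    integralClosure R (FractionRing R) →+* integralClosure (B i) (FractionRing (B i)) where
  toFun x := ⟨sig B ρ hker i x, sig_isIntegral B ρ hker i x x.2⟩
  map_one' := Subtype.ext (by simp)
  map_mul' x y := Subtype.ext (by simp)
  map_zero' := Subtype.ext (by simp)
  map_add' x y := Subtype.ext (by simp)

/-- the comparison map to the product -/
noncomputable def Phi :
    integralClosure R (FractionRing R) →+*
      (∀ i, integralClosure (B i) (FractionRing (B i))) :=
  Pi.ringHom (proj B ρ hker)

include hsurj in
theorem Phi_injective : Function.Injective (Phi B ρ hker) := by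
  rw [injective_iff_map_eq_zero]
  intro x hx
  apply Subtype.ext
  apply sig_injective B ρ hker hsurj
  intro i
  have := congrArg (fun f => ((f i : integralClosure (B i) (FractionRing (B i))) :
    FractionRing (B i))) hx
  exact this

include hρ hinj hsurj in
/-- lifting one component -/
theorem exists_lift_single (hfin : (minimalPrimes R).Finite) (i : ι)
    (z : integralClosure (B i) (FractionRing (B i))) :
    ∃ w : integralClosure R (FractionRing R),
      (sig B ρ hker i w = z) ∧ ∀ j, j ≠ i → sig B ρ hker j w = 0 := by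
  obtain ⟨x, y, hxp, hxq, hyp, hyq, -, -⟩ := exists_xy hfin (RingHom.ker (ρ i)) (hker i)
  have hx0 : ρ i x = 0 := hxp
  have hy0 : ρ i y ≠ 0 := hyp
  have hyj : ∀ j, j ≠ i → ρ j y = 0 := fun j hj =>
    hyq _ (hker j) (fun h => hj (hinj h))
  have hxj : ∀ j, j ≠ i → ρ j x ≠ 0 := fun j hj =>
    hxq _ (hker j) (fun h => hj (hinj h))
  obtain ⟨b, t, ht, hz⟩ := IsFractionRing.div_surjective (A := B i) (z : FractionRing (B i))
  have ht0 : t ≠ 0 := nonZeroDivisors.ne_zero ht
  obtain ⟨a, rfl⟩ := hρ i b
  obtain ⟨s, rfl⟩ := hρ i t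
  have hs' : s * y + x ∈ nonZeroDivisors R := by
    apply mem_nonZeroDivisors_of_forall_map_ne_zero B ρ hsurj
    intro j
    by_cases hj : j = i
    · subst hj
      rw [map_add, map_mul, hx0, add_zero]
      exact mul_ne_zero ht0 hy0
    · rw [map_add, map_mul, hyj j hj, mul_zero, zero_add]
      exact hxj j hj
  set w : FractionRing R := IsLocalization.mk' (FractionRing R) (a * y) ⟨s * y + x, hs'⟩ with hw
  have hwi : sig B ρ hker i w = z := by
    have h1 := sig_mk' B ρ hker i (a * y) ⟨s * y + x, hs'⟩
    simp only [map_add, map_mul, hx0, map_zero, add_zero] at h1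
    have hKy : algebraMap (B i) (FractionRing (B i)) (ρ i y) ≠ 0 := fun h =>
      hy0 ((IsFractionRing.injective (B i) (FractionRing (B i))) (by rw [h, map_zero]))
    have hKs : algebraMap (B i) (FractionRing (B i)) (ρ i s) ≠ 0 := fun h =>
      ht0 ((IsFractionRing.injective (B i) (FractionRing (B i))) (by rw [h, map_zero]))
    rw [← hz]
    rw [eq_div_iff hKs]
    have h2 : sig B ρ hker i w * algebraMap (B i) (FractionRing (B i)) (ρ i s) *
        algebraMap (B i) (FractionRing (B i)) (ρ i y) =
        algebraMap (B i) (FractionRing (B i)) (ρ i a) *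
        algebraMap (B i) (FractionRing (B i)) (ρ i y) := by
      rw [← h1]; ring
    exact mul_right_cancel₀ hKy h2
  have hwj : ∀ j, j ≠ i → sig B ρ hker j w = 0 := by
    intro j hj
    have h1 := sig_mk' B ρ hker j (a * y) ⟨s * y + x, hs'⟩
    simp only [map_add, map_mul, hyj j hj, map_zero, mul_zero, zero_add] at h1
    have hKx : algebraMap (B j) (FractionRing (B j)) (ρ j x) ≠ 0 := fun h =>
      hxj j hj ((IsFractionRing.injective (B j) (FractionRing (B j))) (by rw [h, map_zero]))
    rcases mul_eq_zero.1 h1 with h | h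
    · exact h
    · exact absurd h hKx
  -- integrality
  obtain ⟨P, hPm, hPz⟩ := z.2
  obtain ⟨P', hP'map, -, hP'm⟩ := Polynomial.lifts_and_natDegree_eq_and_monic
    (Polynomial.mem_lifts_of_surjective (hρ i) P) hPm
  have hwint : IsIntegral R w := by
    refine ⟨X * P', monic_X.mul hP'm, ?_⟩
    apply sig_injective B ρ hker hsurj
    intro j
    rw [Polynomial.hom_eval₂, eval₂_mul, eval₂_X]
    by_cases hj : j = i
    · subst hj
      have h3 : eval₂ ((sig B ρ hker j).comp (algebraMap R (FractionRing R)))
          (sig B ρ hker j w) P' = 0 := by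
        have h4 : (sig B ρ hker j).comp (algebraMap R (FractionRing R)) =
            (algebraMap (B j) (FractionRing (B j))).comp (ρ j) :=
          RingHom.ext fun a => sig_algebraMap B ρ hker j a
        rw [h4, ← eval₂_map, hP'map, hwi]
        exact hPz
      rw [h3, mul_zero]
    · rw [hwj j hj, zero_mul]
  exact ⟨⟨w, hwint⟩, hwi, hwj⟩

include hρ hinj hsurj in
theorem Phi_surjective (hfin : (minimalPrimes R).Finite) :
    Function.Surjective (Phi B ρ hker) := by
  intro z
  choose w hw1 hw2 using fun i => exists_lift_single B ρ hρ hker hinj hsurj hfin i (z i)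
  refine ⟨∑ i, w i, ?_⟩
  funext j
  apply Subtype.ext
  show sig B ρ hker j ((∑ i, w i : integralClosure R (FractionRing R)) : FractionRing R) = _
  rw [AddSubmonoidClass.coe_finset_sum, map_sum, Finset.sum_eq_single j]
  · exact hw1 j
  · intro i _ hij
    exact hw2 i j (Ne.symm hij)
  · intro h
    exact absurd (Finset.mem_univ j) h

/-- the product decomposition of the integral closure of a reduced ring with finitely many
minimal primes -/
noncomputable def PhiEquiv (hfin : (minimalPrimes R).Finite) :
    integralClosure R (FractionRing R) ≃+*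
      (∀ i, integralClosure (B i) (FractionRing (B i))) :=
  RingEquiv.ofBijective (Phi B ρ hker)
    ⟨Phi_injective B ρ hker hsurj, Phi_surjective B ρ hρ hker hinj hsurj hfin⟩

end

end Groth.Agent.Helper5.BrSum
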