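import Mathlib
import Groth.Agent.Helper5.BrSum1
import Groth.Agent.Helper5.BrOne
import Groth.Prelude

set_option autoImplicit false
set_option linter.unusedSectionVars false
set_option linter.style.haveILetI false
universe u

namespace Groth.Agent.Helper5.BrSum

theorem enat_card_sigma {ι : Type u} [Fintype ι] (β : ι → Type u) :
    ENat.card (Σ i, β i) = ∑ i, ENat.card (β i) := by
  by_cases h : ∀ i, Finite (β i)
  · haveI := h
    rw [ENat.card_eq_coe_natCard, Nat.card_sigma, Nat.cast_sum]
    refine Finset.sum_congr rfl fun i _ => ?_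
    rw [ENat.card_eq_coe_natCard]
  · push_neg at h
    obtain ⟨i₀, hi₀⟩ := h
    haveI : Infinite (β i₀) := hi₀
    haveI : Infinite (Σ i, β i) := Infinite.of_injective (Sigma.mk i₀) sigma_mk_injective
    rw [ENat.card_eq_top_of_infinite]
    symm
    have := Finset.single_le_sum (f := fun i => ENat.card (β i)) (fun i _ => zero_le)
      (Finset.mem_univ i₀)
    simp only [ENat.card_eq_top_of_infinite] at this
    exact top_le_iff.1 this

/-- maximal spectra of isomorphic rings -/
noncomputable def maxSpecEquiv {R S : Type u} [CommRing R] [CommRing S] (e : R ≃+* S) :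
    MaximalSpectrum R ≃ MaximalSpectrum S where
  toFun m := ⟨m.asIdeal.comap (e.symm : S →+* R),
    haveI := m.isMaximal
    Ideal.comap_isMaximal_of_surjective _ e.symm.surjective⟩
  invFun n := ⟨n.asIdeal.comap (e : R →+* S),
    haveI := n.isMaximal
    Ideal.comap_isMaximal_of_surjective _ e.surjective⟩
  left_inv m := by
    apply MaximalSpectrum.ext
    show (m.asIdeal.comap (e.symm : S →+* R)).comap (e : R →+* S) = m.asIdeal
    ext x
    rw [Ideal.mem_comap, Ideal.mem_comap]
    simp
  right_inv n := by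
    apply MaximalSpectrum.ext
    show (n.asIdeal.comap (e : R →+* S)).comap (e.symm : S →+* R) = n.asIdeal
    ext x
    rw [Ideal.mem_comap, Ideal.mem_comap]
    simp

/-- the maximal spectrum of a finite product -/
theorem maxSpecPi_bijective {ι : Type u} [Finite ι] (S : ι → Type u) [∀ i, CommRing (S i)] :
    Function.Bijective (fun x : (Σ i, MaximalSpectrum (S i)) =>
      (⟨x.2.asIdeal.comap (Pi.evalRingHom S x.1),
        haveI := x.2.isMaximal
        Ideal.comap_isMaximal_of_surjective _ (Function.surjective_eval x.1)⟩ :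
          MaximalSpectrum (∀ i, S i))) := by
  constructor
  · rintro ⟨i, m⟩ ⟨j, m'⟩ h
    have h1 : PrimeSpectrum.sigmaToPi S ⟨i, m.toPrimeSpectrum⟩ =
        PrimeSpectrum.sigmaToPi S ⟨j, m'.toPrimeSpectrum⟩ := by
      apply PrimeSpectrum.ext
      exact congrArg MaximalSpectrum.asIdeal h
    have h2 := PrimeSpectrum.sigmaToPi_injective S h1
    obtain ⟨rfl, h3⟩ := Sigma.mk.inj_iff.1 h2
    have h4 : m.toPrimeSpectrum = m'.toPrimeSpectrum := eq_of_heq h3
    have h5 : m = m' := MaximalSpectrum.toPrimeSpectrum_injective h4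
    rw [h5]
  · intro M
    obtain ⟨⟨i, q⟩, hq⟩ := (PrimeSpectrum.sigmaToPi_bijective S).2 M.toPrimeSpectrum
    have h1 : q.asIdeal.comap (Pi.evalRingHom S i) = M.asIdeal :=
      congrArg PrimeSpectrum.asIdeal hq
    have h2 : q.asIdeal = M.asIdeal.map (Pi.evalRingHom S i) := by
      rw [← h1, Ideal.map_comap_of_surjective _ (Function.surjective_eval i)]
    have h3 : q.asIdeal.IsMaximal := by
      rcases Ideal.map_eq_top_or_isMaximal_of_surjective (Pi.evalRingHom S i)
        (Function.surjective_eval i) M.isMaximal with h | h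
      · rw [← h2] at h
        exact absurd h q.isPrime.ne_top
      · rw [h2]; exact h
    refine ⟨⟨i, ⟨q.asIdeal, h3⟩⟩, ?_⟩
    apply MaximalSpectrum.ext
    exact h1

theorem card_maxSpec_pi {ι : Type u} [Fintype ι] (S : ι → Type u) [∀ i, CommRing (S i)] :
    ENat.card (MaximalSpectrum (∀ i, S i)) = ∑ i, ENat.card (MaximalSpectrum (S i)) := by
  rw [← enat_card_sigma]
  exact (ENat.card_congr (Equiv.ofBijective _ (maxSpecPi_bijective S))).symm

section Main
variable (A : Type u) [CommRing A]

instance instIsDomainRedQuot (p : minimalPrimes A) : IsDomain (CAlg2.red (A ⧸ p.1)) := by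
  haveI : p.1.IsPrime := p.2.1.1
  haveI : (nilradical (A ⧸ p.1)).IsPrime := by
    rw [nilradical_eq_zero, Ideal.zero_eq_bot]
    exact Ideal.isPrime_bot
  exact Ideal.Quotient.isDomain _

/-- the projection of the reduction onto the reduction of a component -/
noncomputable def rho (p : minimalPrimes A) : CAlg2.red A →+* CAlg2.red (A ⧸ p.1) :=
  Ideal.Quotient.lift (nilradical A)
    ((Ideal.Quotient.mk (nilradical (A ⧸ p.1))).comp (Ideal.Quotient.mk p.1))
    (fun a ha => by
      haveI : p.1.IsPrime := p.2.1.1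
      have h1 : a ∈ p.1 := nilradical_le_prime p.1 ha
      rw [RingHom.comp_apply, Ideal.Quotient.eq_zero_iff_mem.2 h1, map_zero])

theorem rho_mk (p : minimalPrimes A) (a : A) :
    rho A p (Ideal.Quotient.mk (nilradical A) a) =
      Ideal.Quotient.mk (nilradical (A ⧸ p.1)) (Ideal.Quotient.mk p.1 a) := rfl

theorem rho_surjective (p : minimalPrimes A) : Function.Surjective (rho A p) := by
  intro z
  obtain ⟨z', rfl⟩ := Ideal.Quotient.mk_surjective z
  obtain ⟨a, rfl⟩ := Ideal.Quotient.mk_surjective z'
  exact ⟨Ideal.Quotient.mk _ a, rho_mk A p a⟩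

theorem comap_ker_rho (p : minimalPrimes A) :
    Ideal.comap (Ideal.Quotient.mk (nilradical A)) (RingHom.ker (rho A p)) = p.1 := by
  haveI : p.1.IsPrime := p.2.1.1
  ext a
  rw [Ideal.mem_comap, RingHom.mem_ker, rho_mk, Ideal.Quotient.eq_zero_iff_mem,
    nilradical_eq_zero, Ideal.zero_eq_bot, Ideal.mem_bot, Ideal.Quotient.eq_zero_iff_mem]

theorem ker_rho_mem (p : minimalPrimes A) :
    RingHom.ker (rho A p) ∈ minimalPrimes (CAlg2.red A) := by
  have hp : p.1 ∈ Ideal.comap (Ideal.Quotient.mk (nilradical A)) ''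
      minimalPrimes (A ⧸ nilradical A) := by
    rw [← Groth.Agent.Helper5.BrOne.minimalPrimes_eq_image]
    exact p.2
  obtain ⟨q, hq, hqp⟩ := hp
  have h1 : q = RingHom.ker (rho A p) := by
    apply Ideal.comap_injective_of_surjective _ Ideal.Quotient.mk_surjective
    rw [comap_ker_rho]
    exact hqp
  rw [← h1]
  exact hq

theorem ker_rho_injective : Function.Injective (fun p : minimalPrimes A => RingHom.ker (rho A p)) := by
  intro p p' h
  apply Subtype.ext
  rw [← comap_ker_rho A p, ← comap_ker_rho A p']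
  exact congrArg _ h

theorem ker_rho_surjective (q : Ideal (CAlg2.red A)) (hq : q ∈ minimalPrimes (CAlg2.red A)) :
    ∃ p : minimalPrimes A, RingHom.ker (rho A p) = q := by
  have hp : Ideal.comap (Ideal.Quotient.mk (nilradical A)) q ∈ minimalPrimes A := by
    rw [Groth.Agent.Helper5.BrOne.minimalPrimes_eq_image]
    exact ⟨q, hq, rfl⟩
  refine ⟨⟨_, hp⟩, ?_⟩
  apply Ideal.comap_injective_of_surjective _ Ideal.Quotient.mk_surjective
  rw [comap_ker_rho]

theorem card_maxSpec_normRed [Fintype (minimalPrimes A)] :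
    ENat.card (MaximalSpectrum (CAlg2.normRed A)) =
      ∑ p : minimalPrimes A, ENat.card (MaximalSpectrum (CAlg2.normRed (A ⧸ p.1))) := by
  classical
  have hfin : (minimalPrimes A).Finite := Set.toFinite _
  haveI : IsReduced (CAlg2.red A) :=
    (Ideal.isRadical_iff_quotient_reduced _).mp (Ideal.radical_isRadical _)
  have hfinR : (minimalPrimes (CAlg2.red A)).Finite :=
    Groth.Agent.Helper5.MinPr.minimalPrimes_red_finite A hfin
  let e := PhiEquiv (R := CAlg2.red A) (ι := minimalPrimes A)
    (fun p => CAlg2.red (A ⧸ p.1)) (rho A) (rho_surjective A) (ker_rho_mem A)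
    (ker_rho_injective A) (ker_rho_surjective A) hfinR
  rw [← card_maxSpec_pi]
  exact ENat.card_congr (maxSpecEquiv e)

theorem s9810 [IsLocalRing A] (h : (minimalPrimes A).Finite) :
    Brnch.numBranches A =
      ∑ᶠ p : minimalPrimes A,
        haveI : p.1.IsPrime := p.2.1.1
        Brnch.numBranches (A ⧸ p.1) := by
  classical
  haveI := h.fintype
  rw [finsum_eq_sum_of_fintype]
  unfold Brnch.numBranches
  rw [if_pos h, card_maxSpec_normRed A]
  refine Finset.sum_congr rfl fun p _ => ?_
  haveI : p.1.IsPrime := p.2.1.1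
  rw [if_pos]
  have hd : IsDomain (A ⧸ p.1) := Ideal.Quotient.isDomain _
  have h0 : minimalPrimes (A ⧸ p.1) = {⊥} := IsDomain.minimalPrimes_eq_singleton_bot _
  exact h0 ▸ Set.finite_singleton _

end Main

end Groth.Agent.Helper5.BrSum
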