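import Mathlib
import Groth.Agent.Helper5.BrSum2
import Groth.Prelude

set_option autoImplicit false
set_option linter.unusedSectionVars false
set_option linter.style.haveILetI false
universe u

namespace Groth.Agent.Helper5.BrSum

section PiHom
variable {ι : Type u} [Fintype ι] [DecidableEq ι] (S : ι → Type u) [∀ i, CommRing (S i)]
  (K : Type u) [CommRing K] [IsDomain K]

/-- the map from `Σ i, Hom(S i, K)` to `Hom(∏ S i, K)` -/
def piHom : (Σ i, S i →+* K) → ((∀ i, S i) →+* K) :=
  fun x => x.2.comp (Pi.evalRingHom S x.1)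

theorem piHom_injective : Function.Injective (piHom S K) := by
  rintro ⟨i, f⟩ ⟨j, g⟩ h
  have hij : i = j := by
    by_contra hne
    have h1 := RingHom.congr_fun h (Pi.single i 1)
    simp only [piHom, RingHom.comp_apply, Pi.evalRingHom_apply, Pi.single_eq_same, map_one] at h1
    rw [Pi.single_eq_of_ne (Ne.symm hne), map_zero] at h1
    exact one_ne_zero h1
  subst hij
  congr 1
  ext s
  have h1 := RingHom.congr_fun h (Pi.single i s)
  simpa [piHom] using h1

theorem piHom_surjective : Function.Surjective (piHom S K) := by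
  intro τ
  have hsum : ∑ i, τ (Pi.single i 1) = 1 := by
    have h1 : (∑ i, Pi.single i (1 : S i) : ∀ i, S i) = 1 :=
      Finset.univ_sum_single (1 : ∀ i, S i)
    rw [← map_sum, h1, map_one]
  obtain ⟨i, hi⟩ : ∃ i, τ (Pi.single i 1) ≠ 0 := by
    by_contra hcon
    push_neg at hcon
    rw [Finset.sum_eq_zero (fun i _ => hcon i)] at hsum
    exact zero_ne_one hsum
  have hi1 : τ (Pi.single i 1) = 1 := by
    have h2 : τ (Pi.single i 1) * τ (Pi.single i 1) = τ (Pi.single i 1) := by
      rw [← map_mul, ← Pi.single_mul, mul_one]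
    exact mul_left_cancel₀ hi (by rw [h2, mul_one])
  let f : S i →+* K :=
    { toFun := fun s => τ (Pi.single i s)
      map_one' := hi1
      map_mul' := fun a b => by rw [← map_mul, ← Pi.single_mul]
      map_zero' := by rw [Pi.single_zero, map_zero]
      map_add' := fun a b => by rw [Pi.single_add, map_add] }
  refine ⟨⟨i, f⟩, ?_⟩
  refine RingHom.ext fun x => ?_
  show τ (Pi.single i (x i)) = τ x
  have h3 : Pi.single i (x i) = x * Pi.single i 1 := by
    ext j
    by_cases h : j = i
    · subst h; simp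
    · simp [Pi.single_eq_of_ne h]
  rw [h3, map_mul, hi1, mul_one]

end PiHom

section GB
variable {A : Type u} [CommRing A] {R' : Type u} [CommRing R'] (iota : A →+* R')
  {K : Type u} [CommRing K] [IsDomain K] (c : A →+* K)
  {ι : Type u} [Fintype ι] [DecidableEq ι]
  (Ai : ι → Type u) [∀ i, CommRing (Ai i)] (π : ∀ i, A →+* Ai i)
  (hπ : ∀ i, Function.Surjective (π i))
  (B' : ι → Type u) [∀ i, CommRing (B' i)] (iotai : ∀ i, Ai i →+* B' i)
  (Ki : ι → Type u) [∀ i, CommRing (Ki i)] (ci : ∀ i, Ai i →+* Ki i)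
  (ε : ∀ i, K ≃+* Ki i) (hε : ∀ i a, ε i (c a) = ci i (π i a))
  (Φ : R' ≃+* ∀ i, B' i) (hΦ : ∀ i a, Φ (iota a) i = iotai i (π i a))

/-- the comparison map on "geometric points" -/
def gbMap : (Σ i, {g : B' i →+* Ki i // g.comp (iotai i) = ci i}) →
    {τ : R' →+* K // τ.comp iota = c} :=
  fun x => ⟨(((ε x.1).symm : Ki x.1 →+* K).comp x.2.1).comp
      ((Pi.evalRingHom B' x.1).comp (Φ : R' →+* ∀ i, B' i)), by
    ext a
    simp only [RingHom.comp_apply, RingEquiv.coe_toRingHom, Pi.evalRingHom_apply]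
    rw [hΦ, ← RingHom.comp_apply x.2.1, x.2.2, ← hε, RingEquiv.symm_apply_apply]⟩

theorem gbMap_val (x : Σ i, {g : B' i →+* Ki i // g.comp (iotai i) = ci i}) :
    (gbMap iota c Ai π B' iotai Ki ci ε hε Φ hΦ x).1 =
      (piHom B' K ⟨x.1, ((ε x.1).symm : Ki x.1 →+* K).comp x.2.1⟩).comp
        (Φ : R' →+* ∀ i, B' i) := rfl

include hπ in
theorem gbMap_bijective : Function.Bijective (gbMap iota c Ai π B' iotai Ki ci ε hε Φ hΦ) := by
  constructor
  · intro x y hxy
    have h1 := congrArg Subtype.val hxy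
    rw [gbMap_val, gbMap_val] at h1
    have h2 : piHom B' K ⟨x.1, ((ε x.1).symm : Ki x.1 →+* K).comp x.2.1⟩ =
        piHom B' K ⟨y.1, ((ε y.1).symm : Ki y.1 →+* K).comp y.2.1⟩ := by
      refine RingHom.ext fun z => ?_
      obtain ⟨w, rfl⟩ := Φ.surjective z
      exact RingHom.congr_fun h1 w
    have h3 := piHom_injective B' K h2
    obtain ⟨i, g, hg⟩ := x
    obtain ⟨j, g', hg'⟩ := y
    obtain ⟨hij, h4⟩ := Sigma.mk.inj_iff.1 h3
    dsimp only at hij
    subst hij
    have h5 := eq_of_heq h4
    dsimp only at h5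
    have h6 : g = g' := by
      ext b
      have := RingHom.congr_fun h5 b
      simp only [RingHom.comp_apply, RingEquiv.coe_toRingHom] at this
      exact (ε i).symm.injective this
    subst h6
    rfl
  · rintro ⟨τ, hτ⟩
    obtain ⟨⟨i, f⟩, hf⟩ := piHom_surjective B' K (τ.comp (Φ.symm : (∀ i, B' i) →+* R'))
    have hf' : ∀ z : ∀ i, B' i, f (z i) = τ (Φ.symm z) := fun z => RingHom.congr_fun hf z
    have hg : (((ε i : K →+* Ki i)).comp f).comp (iotai i) = ci i := by
      ext b
      obtain ⟨a, rfl⟩ := hπ i b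
      simp only [RingHom.comp_apply, RingEquiv.coe_toRingHom]
      rw [← hΦ, hf', RingEquiv.symm_apply_apply, ← hε]
      exact congrArg _ (RingHom.congr_fun hτ a)
    refine ⟨⟨i, ⟨((ε i : K →+* Ki i)).comp f, hg⟩⟩, ?_⟩
    apply Subtype.ext
    ext w
    rw [gbMap_val]
    simp only [piHom, RingHom.comp_apply, RingEquiv.coe_toRingHom, Pi.evalRingHom_apply,
      RingEquiv.symm_apply_apply]
    rw [hf', RingEquiv.symm_apply_apply]

end GB

section Step0
variable (A : Type u) [CommRing A]

/-- the canonical map `A → normRed A` -/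
noncomputable def iota : A →+* CAlg2.normRed A :=
  (algebraMap (CAlg2.red A) (CAlg2.normRed A)).comp (Ideal.Quotient.mk (nilradical A))

variable [IsLocalRing A]

/-- geometric points of `normRed A` over the closed geometric point of `A` -/
abbrev GB : Type u :=
  {τ : CAlg2.normRed A →+* AlgebraicClosure (IsLocalRing.ResidueField A) //
    τ.comp (iota A) = Brnch.toClosure A}

/-- pairs (maximal ideal, embedding) to geometric points -/
noncomputable def embMap : (Σ m' : MaximalSpectrum (CAlg2.normRed A), Brnch.Emb A m') → GB A :=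
  fun x => ⟨x.2.1.comp (Ideal.Quotient.mk x.1.asIdeal), by
    rw [RingHom.comp_assoc]; exact x.2.2⟩

theorem toClosure_eq_zero_iff (a : A) :
    Brnch.toClosure A a = 0 ↔ a ∈ IsLocalRing.maximalIdeal A := by
  unfold Brnch.toClosure
  rw [RingHom.comp_apply, map_eq_zero_iff _ (RingHom.injective _),
    IsLocalRing.residue_eq_zero_iff]

theorem ker_isMaximal (τ : GB A) : (RingHom.ker τ.1).IsMaximal := by
  obtain ⟨τ, hτ⟩ := τ
  haveI : (RingHom.ker τ).IsPrime := RingHom.ker_isPrime τ
  apply Ideal.isMaximal_of_isIntegral_of_isMaximal_comap (R := CAlg2.red A)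
  set J := Ideal.comap (algebraMap (CAlg2.red A) (CAlg2.normRed A)) (RingHom.ker τ) with hJdef
  haveI hJp : J.IsPrime := Ideal.comap_isPrime _ _
  have hJ : Ideal.comap (Ideal.Quotient.mk (nilradical A)) J = IsLocalRing.maximalIdeal A := by
    ext a
    rw [Ideal.mem_comap, Ideal.mem_comap, RingHom.mem_ker]
    have h1 : τ (algebraMap (CAlg2.red A) (CAlg2.normRed A)
        (Ideal.Quotient.mk (nilradical A) a)) = Brnch.toClosure A a :=
      RingHom.congr_fun hτ a
    rw [h1, toClosure_eq_zero_iff]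
  have h1 : J = Ideal.map (Ideal.Quotient.mk (nilradical A)) (IsLocalRing.maximalIdeal A) := by
    rw [← hJ, Ideal.map_comap_of_surjective _ Ideal.Quotient.mk_surjective]
  rcases Ideal.map_eq_top_or_isMaximal_of_surjective _
    (Ideal.Quotient.mk_surjective (I := nilradical A))
    (IsLocalRing.maximalIdeal.isMaximal A) with h | h
  · exact absurd (h1.trans h) hJp.ne_top
  · rwa [h1]

theorem embMap_bijective : Function.Bijective (embMap A) := by
  constructor
  · rintro ⟨m₁, σ₁, h₁⟩ ⟨m₂, σ₂, h₂⟩ h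
    have h0 : σ₁.comp (Ideal.Quotient.mk m₁.asIdeal) = σ₂.comp (Ideal.Quotient.mk m₂.asIdeal) :=
      congrArg Subtype.val h
    have hker : ∀ (m : MaximalSpectrum (CAlg2.normRed A))
        (σ : CAlg2.normRed A ⧸ m.asIdeal →+* AlgebraicClosure (IsLocalRing.ResidueField A)),
        RingHom.ker (σ.comp (Ideal.Quotient.mk m.asIdeal)) = m.asIdeal := by
      intro m σ
      haveI := m.isMaximal
      letI : Field (CAlg2.normRed A ⧸ m.asIdeal) := Ideal.Quotient.field _
      ext a
      rw [RingHom.mem_ker, RingHom.comp_apply, map_eq_zero_iff _ (RingHom.injective σ),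
        Ideal.Quotient.eq_zero_iff_mem]
    have hm : m₁ = m₂ := by
      apply MaximalSpectrum.ext
      rw [← hker m₁ σ₁, ← hker m₂ σ₂, h0]
    subst hm
    have hσ : σ₁ = σ₂ := by
      apply Ideal.Quotient.ringHom_ext
      exact h0
    subst hσ
    rfl
  · intro τ
    have hmax := ker_isMaximal A τ
    obtain ⟨τ, hτ⟩ := τ
    refine ⟨⟨⟨RingHom.ker τ, hmax⟩,
      ⟨Ideal.Quotient.lift (RingHom.ker τ) τ (fun a ha => ha), ?_⟩⟩, ?_⟩
    · refine RingHom.ext fun a => ?_
      exact RingHom.congr_fun hτ a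
    · apply Subtype.ext
      exact Ideal.Quotient.lift_comp_mk _ _ _

theorem card_sigma_emb :
    ENat.card (Σ m' : MaximalSpectrum (CAlg2.normRed A), Brnch.Emb A m') = ENat.card (GB A) :=
  ENat.card_congr (Equiv.ofBijective _ (embMap_bijective A))

end Step0

section Main2
variable (A : Type u) [CommRing A]

instance instNontrivialQuotMin (p : minimalPrimes A) : Nontrivial (A ⧸ p.1) := by
  haveI : p.1.IsPrime := p.2.1.1
  infer_instance

/-- the product decomposition of `normRed A` -/
noncomputable def normRedEquiv [Fintype (minimalPrimes A)] :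
    CAlg2.normRed A ≃+* ∀ p : minimalPrimes A, CAlg2.normRed (A ⧸ p.1) := by
  classical
  have hfin : (minimalPrimes A).Finite := Set.toFinite _
  haveI : IsReduced (CAlg2.red A) :=
    (Ideal.isRadical_iff_quotient_reduced _).mp (Ideal.radical_isRadical _)
  have hfinR : (minimalPrimes (CAlg2.red A)).Finite :=
    Groth.Agent.Helper5.MinPr.minimalPrimes_red_finite A hfin
  exact PhiEquiv (R := CAlg2.red A) (ι := minimalPrimes A)
    (fun p => CAlg2.red (A ⧸ p.1)) (rho A) (rho_surjective A) (ker_rho_mem A)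
    (ker_rho_injective A) (ker_rho_surjective A) hfinR

theorem normRedEquiv_iota [Fintype (minimalPrimes A)] (p : minimalPrimes A) (a : A) :
    normRedEquiv A (iota A a) p = iota (A ⧸ p.1) (Ideal.Quotient.mk p.1 a) := by
  classical
  haveI : IsReduced (CAlg2.red A) :=
    (Ideal.isRadical_iff_quotient_reduced _).mp (Ideal.radical_isRadical _)
  apply Subtype.ext
  show sig (fun p : minimalPrimes A => CAlg2.red (A ⧸ p.1)) (rho A) (ker_rho_mem A) p
      (algebraMap (CAlg2.red A) (FractionRing (CAlg2.red A))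
        (Ideal.Quotient.mk (nilradical A) a)) = _
  rw [sig_algebraMap, rho_mk]
  rfl

variable [IsLocalRing A]

/-- residue fields of `A` and `A/p` -/
noncomputable def resEquiv (p : minimalPrimes A) :
    IsLocalRing.ResidueField A ≃+* IsLocalRing.ResidueField (A ⧸ p.1) :=
  haveI : IsLocalHom (Ideal.Quotient.mk p.1) :=
    IsLocalHom.of_surjective _ Ideal.Quotient.mk_surjective
  RingEquiv.ofBijective (IsLocalRing.ResidueField.map (Ideal.Quotient.mk p.1))
    ⟨RingHom.injective _, by
      intro z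
      obtain ⟨z', rfl⟩ := IsLocalRing.residue_surjective z
      obtain ⟨a, rfl⟩ := Ideal.Quotient.mk_surjective z'
      exact ⟨IsLocalRing.residue A a, IsLocalRing.ResidueField.map_residue _ a⟩⟩

theorem resEquiv_residue (p : minimalPrimes A) (a : A) :
    resEquiv A p (IsLocalRing.residue A a) =
      IsLocalRing.residue (A ⧸ p.1) (Ideal.Quotient.mk p.1 a) := by
  haveI : IsLocalHom (Ideal.Quotient.mk p.1) :=
    IsLocalHom.of_surjective _ Ideal.Quotient.mk_surjective
  exact IsLocalRing.ResidueField.map_residue _ a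

/-- algebraic closures of the residue fields of `A` and `A/p` -/
noncomputable def closEquiv (p : minimalPrimes A) :
    AlgebraicClosure (IsLocalRing.ResidueField A) ≃+*
      AlgebraicClosure (IsLocalRing.ResidueField (A ⧸ p.1)) :=
  IsAlgClosure.equivOfEquiv _ _ (resEquiv A p)

theorem closEquiv_toClosure (p : minimalPrimes A) (a : A) :
    closEquiv A p (Brnch.toClosure A a) =
      Brnch.toClosure (A ⧸ p.1) (Ideal.Quotient.mk p.1 a) := by
  unfold Brnch.toClosure closEquiv
  rw [RingHom.comp_apply, RingHom.comp_apply]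
  erw [IsAlgClosure.equivOfEquiv_algebraMap]
  rw [resEquiv_residue]

theorem card_GB [Fintype (minimalPrimes A)] :
    ENat.card (GB A) = ∑ p : minimalPrimes A, ENat.card (GB (A ⧸ p.1)) := by
  classical
  rw [← enat_card_sigma]
  symm
  exact ENat.card_congr (Equiv.ofBijective _
    (gbMap_bijective (iota A) (Brnch.toClosure A) (fun p : minimalPrimes A => A ⧸ p.1)
      (fun p => Ideal.Quotient.mk p.1) (fun p => Ideal.Quotient.mk_surjective)
      (fun p => CAlg2.normRed (A ⧸ p.1)) (fun p => iota (A ⧸ p.1))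
      (fun p => AlgebraicClosure (IsLocalRing.ResidueField (A ⧸ p.1)))
      (fun p => Brnch.toClosure (A ⧸ p.1)) (closEquiv A) (closEquiv_toClosure A)
      (normRedEquiv A) (normRedEquiv_iota A)))

theorem s9811 (h : (minimalPrimes A).Finite) :
    Brnch.numGeomBranches A =
      ∑ᶠ p : minimalPrimes A,
        haveI : p.1.IsPrime := p.2.1.1
        Brnch.numGeomBranches (A ⧸ p.1) := by
  classical
  haveI := h.fintype
  rw [finsum_eq_sum_of_fintype]
  unfold Brnch.numGeomBranches
  rw [if_pos h, card_sigma_emb, card_GB A]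
  refine Finset.sum_congr rfl fun p _ => ?_
  haveI : p.1.IsPrime := p.2.1.1
  rw [if_pos, card_sigma_emb]
  have hd : IsDomain (A ⧸ p.1) := Ideal.Quotient.isDomain _
  have h0 : minimalPrimes (A ⧸ p.1) = {⊥} := IsDomain.minimalPrimes_eq_singleton_bot _
  exact h0 ▸ Set.finite_singleton _

end Main2

end Groth.Agent.Helper5.BrSum
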