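import Mathlib
import Groth.Agent.Helper5.BrSum3
import Groth.Agent.Helper5.BrAlg4
import Groth.Prelude

set_option autoImplicit false
set_option linter.unusedSectionVars false
set_option linter.style.haveILetI false
universe u

namespace Groth.Agent.Helper5.GuBir

open Groth.Agent.Helper5.BrSum (iota)

theorem isIntegralElem_of_tower {R S L : Type*} [CommRing R] [CommRing S] [Field L] [Algebra S L]
    (ψ : R →+* S) (hψ : ψ.IsIntegral) (y : L) (hy : IsIntegral S y) :
    ((algebraMap S L).comp ψ).IsIntegralElem y := by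
  letI := ψ.toAlgebra
  letI : Algebra R L := ((algebraMap S L).comp ψ).toAlgebra
  haveI : IsScalarTower R S L := IsScalarTower.of_algebraMap_eq (fun _ => rfl)
  haveI : Algebra.IsIntegral R S := ⟨hψ⟩
  exact isIntegral_trans y hy

section Core
variable {A C : Type u} [CommRing A] [CommRing C] (φ : A →+* C)
  (hφ : φ.IsIntegral) [hA : (nilradical A).IsPrime] [hC : (nilradical C).IsPrime]
  (hcomap : (nilradical C).comap φ = nilradical A)
  (h3 : ∀ c : C, ∃ a₁ a₂ : A, a₂ ∉ nilradical A ∧ φ a₂ * c - φ a₁ ∈ nilradical C)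

instance instDomRedA : IsDomain (CAlg2.red A) := Ideal.Quotient.isDomain _

/-- the induced map on reductions -/
noncomputable def psi : CAlg2.red A →+* CAlg2.red C :=
  Ideal.quotientMap (nilradical C) φ (le_of_eq hcomap.symm)

theorem psi_mk (a : A) : psi φ hcomap (Ideal.Quotient.mk _ a) = Ideal.Quotient.mk _ (φ a) :=
  Ideal.quotientMap_mk

theorem psi_injective : Function.Injective (psi φ hcomap) :=
  Ideal.quotientMap_injective' (le_of_eq hcomap)

/-- the induced map on fraction fields -/
noncomputable def psiK : FractionRing (CAlg2.red A) →+* FractionRing (CAlg2.red C) :=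
  IsFractionRing.lift (g := (algebraMap (CAlg2.red C) (FractionRing (CAlg2.red C))).comp
    (psi φ hcomap))
    ((IsFractionRing.injective (CAlg2.red C) (FractionRing (CAlg2.red C))).comp
      (psi_injective φ hcomap))

theorem psiK_algebraMap (a : CAlg2.red A) :
    psiK φ hcomap (algebraMap (CAlg2.red A) (FractionRing (CAlg2.red A)) a) =
      algebraMap (CAlg2.red C) (FractionRing (CAlg2.red C)) (psi φ hcomap a) :=
  IsFractionRing.lift_algebraMap _ a

include h3 in
theorem psiK_bijective : Function.Bijective (psiK φ hcomap) := by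
  refine ⟨RingHom.injective _, ?_⟩
  have hmem : ∀ c : CAlg2.red C, algebraMap (CAlg2.red C) (FractionRing (CAlg2.red C)) c ∈
      (psiK φ hcomap).range := by
    intro c
    obtain ⟨c, rfl⟩ := Ideal.Quotient.mk_surjective c
    obtain ⟨a₁, a₂, ha₂, hc⟩ := h3 c
    have h1 : psi φ hcomap (Ideal.Quotient.mk _ a₂) * Ideal.Quotient.mk _ c =
        psi φ hcomap (Ideal.Quotient.mk _ a₁) := by
      rw [psi_mk, psi_mk, ← map_mul, ← sub_eq_zero, ← map_sub, Ideal.Quotient.eq_zero_iff_mem]
      exact hc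
    have h2 : (Ideal.Quotient.mk (nilradical A) a₂) ≠ 0 := by
      rw [Ne, Ideal.Quotient.eq_zero_iff_mem]; exact ha₂
    have h3' : algebraMap (CAlg2.red A) (FractionRing (CAlg2.red A))
        (Ideal.Quotient.mk (nilradical A) a₂) ≠ 0 := by
      intro h
      exact h2 ((IsFractionRing.injective (CAlg2.red A) (FractionRing (CAlg2.red A)))
        (by rw [h, map_zero]))
    refine ⟨algebraMap _ _ (Ideal.Quotient.mk (nilradical A) a₁) /
      algebraMap _ _ (Ideal.Quotient.mk (nilradical A) a₂), ?_⟩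
    rw [map_div₀, psiK_algebraMap, psiK_algebraMap, ← h1, map_mul]
    have h4 : algebraMap (CAlg2.red C) (FractionRing (CAlg2.red C))
        (psi φ hcomap (Ideal.Quotient.mk _ a₂)) ≠ 0 := by
      rw [← psiK_algebraMap]
      exact (map_ne_zero_iff _ (RingHom.injective _)).2 h3'
    field_simp
  intro z
  obtain ⟨c₁, c₂, hc₂, rfl⟩ := IsFractionRing.div_surjective (A := CAlg2.red C) z
  obtain ⟨w₁, hw₁⟩ := hmem c₁
  obtain ⟨w₂, hw₂⟩ := hmem c₂
  exact ⟨w₁ / w₂, by rw [map_div₀, hw₁, hw₂]⟩

/-- the iso of fraction fields -/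
noncomputable def PsiK : FractionRing (CAlg2.red A) ≃+* FractionRing (CAlg2.red C) :=
  RingEquiv.ofBijective (psiK φ hcomap) (psiK_bijective φ hcomap h3)

theorem PsiK_algebraMap (a : CAlg2.red A) :
    PsiK φ hcomap h3 (algebraMap (CAlg2.red A) (FractionRing (CAlg2.red A)) a) =
      algebraMap (CAlg2.red C) (FractionRing (CAlg2.red C)) (psi φ hcomap a) :=
  psiK_algebraMap φ hcomap a

theorem isIntegral_PsiK (x : FractionRing (CAlg2.red A)) (hx : IsIntegral (CAlg2.red A) x) :
    IsIntegral (CAlg2.red C) (PsiK φ hcomap h3 x) := by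
  refine IsIntegral.map_of_comp_eq (psi φ hcomap) (PsiK φ hcomap h3).toRingHom ?_ hx
  ext a
  exact (PsiK_algebraMap φ hcomap h3 a).symm

include hφ in
theorem isIntegral_PsiK_symm (y : FractionRing (CAlg2.red C)) (hy : IsIntegral (CAlg2.red C) y) :
    IsIntegral (CAlg2.red A) ((PsiK φ hcomap h3).symm y) := by
  have hψ : (psi φ hcomap).IsIntegral := by
    intro c
    obtain ⟨c, rfl⟩ := Ideal.Quotient.mk_surjective c
    obtain ⟨p, hp, hpc⟩ := hφ c
    refine ⟨p.map (Ideal.Quotient.mk (nilradical A)), hp.map _, ?_⟩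
    rw [Polynomial.eval₂_map]
    have h1 : (psi φ hcomap).comp (Ideal.Quotient.mk (nilradical A)) =
        (Ideal.Quotient.mk (nilradical C)).comp φ := by
      ext a; exact psi_mk φ hcomap a
    rw [h1, ← Polynomial.hom_eval₂, hpc, map_zero]
  obtain ⟨p, hp, hpy⟩ := isIntegralElem_of_tower (psi φ hcomap) hψ y hy
  refine ⟨p, hp, ?_⟩
  apply (PsiK φ hcomap h3).injective
  rw [map_zero, ← RingEquiv.coe_toRingHom, Polynomial.hom_eval₂, RingEquiv.coe_toRingHom,
    RingEquiv.apply_symm_apply]
  have h2 : (((PsiK φ hcomap h3 : FractionRing (CAlg2.red A) →+* FractionRing (CAlg2.red C))).comp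
      (algebraMap (CAlg2.red A) (FractionRing (CAlg2.red A)))) =
      (algebraMap (CAlg2.red C) (FractionRing (CAlg2.red C))).comp (psi φ hcomap) := by
    ext a; exact PsiK_algebraMap φ hcomap h3 a
  rw [h2]
  exact hpy

/-- the iso of normalizations -/
noncomputable def normEquiv : CAlg2.normRed A ≃+* CAlg2.normRed C where
  toFun n := ⟨PsiK φ hcomap h3 n.1, isIntegral_PsiK φ hcomap h3 n.1 n.2⟩
  invFun y := ⟨(PsiK φ hcomap h3).symm y.1, isIntegral_PsiK_symm φ hφ hcomap h3 y.1 y.2⟩
  left_inv n := Subtype.ext ((PsiK φ hcomap h3).symm_apply_apply n.1)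
  right_inv y := Subtype.ext ((PsiK φ hcomap h3).apply_symm_apply y.1)
  map_mul' a b := Subtype.ext (map_mul (PsiK φ hcomap h3) a.1 b.1)
  map_add' a b := Subtype.ext (map_add (PsiK φ hcomap h3) a.1 b.1)

theorem normEquiv_iota (a : A) :
    normEquiv φ hφ hcomap h3 (iota A a) = iota C (φ a) := by
  apply Subtype.ext
  show PsiK φ hcomap h3 (algebraMap (CAlg2.red A) (FractionRing (CAlg2.red A))
    (Ideal.Quotient.mk (nilradical A) a)) = algebraMap (CAlg2.red C) (FractionRing (CAlg2.red C))
    (Ideal.Quotient.mk (nilradical C) (φ a))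
  rw [PsiK_algebraMap, psi_mk]

end Core

end Groth.Agent.Helper5.GuBir
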