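import Mathlib
import Groth.Agent.Helper5.GuBir1
import Groth.Prelude

set_option autoImplicit false
set_option linter.unusedSectionVars false
set_option linter.style.haveILetI false
universe u

namespace Groth.Agent.Helper5.GuBir

open Groth.Agent.Helper5.BrSum (iota)

theorem minimalPrimes_eq_singleton (R : Type u) [CommRing R] [h : (nilradical R).IsPrime] :
    minimalPrimes R = {nilradical R} := by
  ext P
  rw [Set.mem_singleton_iff]
  constructor
  · intro hP
    haveI := hP.1.1
    have h1 : nilradical R ≤ P := nilradical_le_prime P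
    exact le_antisymm (hP.2 ⟨h, bot_le⟩ h1) h1
  · rintro rfl
    refine ⟨⟨h, bot_le⟩, fun Q hQ _ => ?_⟩
    haveI := hQ.1
    exact nilradical_le_prime Q

theorem nilradical_eq_of_minimalPrimes (R : Type u) [CommRing R] (P : Ideal R)
    (h : minimalPrimes R = {P}) : nilradical R = P := by
  have h1 : sInf (⊥ : Ideal R).minimalPrimes = (⊥ : Ideal R).radical := Ideal.sInf_minimalPrimes
  have h2 : (⊥ : Ideal R).minimalPrimes = {P} := h
  rw [h2, sInf_singleton] at h1
  exact h1.symm

/-- ring-level birationality hypotheses -/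
structure BirHyp {A C : Type u} [CommRing A] [CommRing C] (φ : A →+* C) : Prop where
  integral : φ.IsIntegral
  uniq : ∀ P ∈ minimalPrimes A, ∀ Q₁ Q₂ : Ideal C, Q₁.IsPrime → Q₂.IsPrime →
    Q₁.comap φ = P → Q₂.comap φ = P → Q₁ = Q₂
  exist : ∀ P ∈ minimalPrimes A, ∃ Q ∈ minimalPrimes C, Q.comap φ = P
  min : ∀ Q ∈ minimalPrimes C, Q.comap φ ∈ minimalPrimes A
  frac : ∀ P ∈ minimalPrimes A, ∀ Q : Ideal C, Q.IsPrime → Q.comap φ = P →
    ∀ c : C, ∃ a₁ a₂ : A, a₂ ∉ P ∧ φ a₂ * c - φ a₁ ∈ Q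

section
variable {A C : Type u} [CommRing A] [CommRing C] {φ : A →+* C} (hb : BirHyp φ)

include hb in
theorem nil_down [hA : (nilradical A).IsPrime] :
    (nilradical C).IsPrime ∧ (nilradical C).comap φ = nilradical A := by
  have hmA := minimalPrimes_eq_singleton A
  have hPA : nilradical A ∈ minimalPrimes A := by rw [hmA]; rfl
  obtain ⟨Q₀, hQ₀, hQ₀c⟩ := hb.exist _ hPA
  have hmC : minimalPrimes C = {Q₀} := by
    ext Q
    rw [Set.mem_singleton_iff]
    constructor
    · intro hQ
      have h1 := hb.min Q hQ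
      rw [hmA, Set.mem_singleton_iff] at h1
      exact hb.uniq _ hPA Q Q₀ hQ.1.1 hQ₀.1.1 h1 hQ₀c
    · rintro rfl
      exact hQ₀
  have h2 := nilradical_eq_of_minimalPrimes C Q₀ hmC
  rw [h2]
  exact ⟨hQ₀.1.1, hQ₀c⟩

include hb in
theorem nil_up [Nontrivial A] [hC : (nilradical C).IsPrime] :
    (nilradical A).IsPrime ∧ (nilradical C).comap φ = nilradical A := by
  have hmC := minimalPrimes_eq_singleton C
  have hmA : minimalPrimes A = {(nilradical C).comap φ} := by
    ext P
    rw [Set.mem_singleton_iff]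
    constructor
    · intro hP
      obtain ⟨Q, hQ, hQc⟩ := hb.exist P hP
      rw [hmC, Set.mem_singleton_iff] at hQ
      rw [← hQc, hQ]
    · rintro rfl
      obtain ⟨P, hP, -⟩ := Ideal.exists_minimalPrimes_le (I := (⊥ : Ideal A))
        (J := (nilradical C).comap φ) bot_le
      obtain ⟨Q, hQ, hQc⟩ := hb.exist P hP
      rw [hmC, Set.mem_singleton_iff] at hQ
      rw [← hQ, hQc]
      exact hP
  have h2 := nilradical_eq_of_minimalPrimes A _ hmA
  rw [h2]
  exact ⟨Ideal.comap_isPrime _ _, rfl⟩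

end

theorem iota_isIntegral (C : Type u) [CommRing C] : (iota C).IsIntegral := by
  refine RingHom.IsIntegral.trans _ _
    (RingHom.isIntegral_of_surjective _ Ideal.Quotient.mk_surjective) ?_
  exact algebraMap_isIntegral_iff.2 inferInstance

theorem ker_iota (C : Type u) [CommRing C] [(nilradical C).IsPrime] :
    RingHom.ker (iota C) = nilradical C := by
  ext c
  rw [RingHom.mem_ker]
  show algebraMap (CAlg2.red C) (CAlg2.normRed C) (Ideal.Quotient.mk _ c) = 0 ↔ _
  rw [← Ideal.Quotient.eq_zero_iff_mem]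
  constructor
  · intro h
    have h1 := congrArg Subtype.val h
    exact (IsFractionRing.injective (CAlg2.red C) (FractionRing (CAlg2.red C)))
      (by rw [map_zero]; exact h1)
  · intro h
    rw [h, map_zero]

/-- pure inseparability of the residue fields of `S` over `R`, elementwise -/
def PI {R S : Type u} [CommRing R] [CommRing S] (f : R →+* S) : Prop :=
  ∀ (n : Ideal S) [n.IsMaximal] (x : S ⧸ n),
    ∃ k : ℕ, x ^ (ringExpChar (S ⧸ n)) ^ k ∈ ((Ideal.Quotient.mk n).comp f).range

/-- maximal ideals of `C` lift to `normRed C` -/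
theorem exists_max_over (C : Type u) [CommRing C] [(nilradical C).IsPrime] (n : Ideal C)
    [hn : n.IsMaximal] : ∃ m' : Ideal (CAlg2.normRed C), m'.IsMaximal ∧ m'.comap (iota C) = n := by
  letI := (iota C).toAlgebra
  haveI : Algebra.IsIntegral C (CAlg2.normRed C) := ⟨iota_isIntegral C⟩
  have hk : RingHom.ker (algebraMap C (CAlg2.normRed C)) ≤ n := by
    show RingHom.ker (iota C) ≤ n
    rw [ker_iota]
    exact nilradical_le_prime n
  exact Ideal.exists_ideal_over_maximal_of_isIntegral n hk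

/-- the residue field map `C/n → normRed C / m'` -/
noncomputable def resMap (C : Type u) [CommRing C] (n : Ideal C) (m' : Ideal (CAlg2.normRed C))
    (h : m'.comap (iota C) = n) : C ⧸ n →+* CAlg2.normRed C ⧸ m' :=
  Ideal.quotientMap m' (iota C) (le_of_eq h.symm)

theorem resMap_injective (C : Type u) [CommRing C] (n : Ideal C) (m' : Ideal (CAlg2.normRed C))
    (h : m'.comap (iota C) = n) : Function.Injective (resMap C n m' h) :=
  Ideal.quotientMap_injective' (le_of_eq h)

theorem ringExpChar_eq (C : Type u) [CommRing C] (n : Ideal C) [n.IsMaximal]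
    (m' : Ideal (CAlg2.normRed C)) [m'.IsMaximal] (h : m'.comap (iota C) = n) :
    ringExpChar (CAlg2.normRed C ⧸ m') = ringExpChar (C ⧸ n) := by
  haveI : IsDomain (C ⧸ n) := Ideal.Quotient.isDomain _
  haveI : IsDomain (CAlg2.normRed C ⧸ m') := Ideal.Quotient.isDomain _
  haveI : ExpChar (C ⧸ n) (ringExpChar (C ⧸ n)) := ringExpChar.expChar _
  haveI : ExpChar (CAlg2.normRed C ⧸ m') (ringExpChar (C ⧸ n)) :=
    expChar_of_injective_ringHom (f := resMap C n m' h) (resMap_injective C n m' h) _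
  exact ringExpChar.eq (CAlg2.normRed C ⧸ m') _

section Main
variable {A C : Type u} [CommRing A] [CommRing C] {φ : A →+* C} (hb : BirHyp φ)

include hb in
theorem piNorm_of_gu [IsLocalRing A] (hA : CAlg2.IsGeomUnibranch A) :
    ∃ (_ : (nilradical C).IsPrime), IsLocalRing (CAlg2.normRed C) ∧
      ∀ (m : Ideal (CAlg2.normRed C)) [m.IsMaximal] (y : CAlg2.normRed C ⧸ m),
        ∃ k : ℕ, y ^ (ringExpChar (CAlg2.normRed C ⧸ m)) ^ k ∈
          ((Ideal.Quotient.mk m).comp ((iota C).comp φ)).range := by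
  obtain ⟨⟨hdom, hloc⟩, hpiA⟩ := hA
  haveI hAp : (nilradical A).IsPrime := (Ideal.Quotient.isDomain_iff_prime _).1 hdom
  obtain ⟨hCp, hcomap⟩ := nil_down hb
  haveI := hCp
  have h3 := hb.frac _ (by rw [minimalPrimes_eq_singleton A]; rfl) (nilradical C) hCp hcomap
  haveI := hloc
  refine ⟨hCp, (normEquiv φ hb.integral hcomap h3).isLocalRing, ?_⟩
  exact Groth.Agent.Helper5.BrAlg.transfer (normEquiv φ hb.integral hcomap h3) (iota A)
    ((iota C).comp φ) (fun a => normEquiv_iota φ hb.integral hcomap h3 a) hpiA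

include hb in
theorem gu_forward [IsLocalRing A] (hA : CAlg2.IsGeomUnibranch A) :
    (∃ n : Ideal C, n.IsMaximal ∧ ∀ n' : Ideal C, n'.IsMaximal → n' = n) ∧ PI φ ∧
      ∀ [IsLocalRing C], CAlg2.IsGeomUnibranch C := by
  obtain ⟨hCp, hloc, hpi⟩ := piNorm_of_gu hb hA
  haveI := hCp
  haveI := hloc
  haveI : Nontrivial C := by
    refine ⟨⟨0, 1, fun h => hCp.ne_top ((Ideal.eq_top_iff_one _).2 ?_)⟩⟩
    rw [← h]; exact (nilradical C).zero_mem
  refine ⟨?_, ?_, ?_⟩
  · obtain ⟨n, hn⟩ := Ideal.exists_maximal C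
    refine ⟨n, hn, fun n' hn' => ?_⟩
    haveI := hn
    haveI := hn'
    obtain ⟨m, hm, hmn⟩ := exists_max_over C n
    obtain ⟨m', hm', hmn'⟩ := exists_max_over C n'
    rw [← hmn, ← hmn', IsLocalRing.eq_maximalIdeal hm, IsLocalRing.eq_maximalIdeal hm']
  · intro n hn x
    obtain ⟨m', hm', hmn⟩ := exists_max_over C n
    haveI := hm'
    obtain ⟨c, rfl⟩ := Ideal.Quotient.mk_surjective x
    obtain ⟨k, a, ha⟩ := hpi m' (Ideal.Quotient.mk m' (iota C c))
    refine ⟨k, a, ?_⟩
    apply resMap_injective C n m' hmn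
    rw [map_pow, ← ringExpChar_eq C n m' hmn]
    exact ha
  · intro hCloc
    refine ⟨⟨Ideal.Quotient.isDomain _, hloc⟩, ?_⟩
    intro m' hm' x
    obtain ⟨k, a, ha⟩ := hpi m' x
    exact ⟨k, φ a, ha⟩

include hb in
theorem gu_backward [IsLocalRing A] [IsLocalRing C] (hpi : PI φ)
    (hC : CAlg2.IsGeomUnibranch C) : CAlg2.IsGeomUnibranch A := by
  obtain ⟨⟨hdom, hloc⟩, hpiC⟩ := hC
  haveI hCp : (nilradical C).IsPrime := (Ideal.Quotient.isDomain_iff_prime _).1 hdom
  obtain ⟨hAp, hcomap⟩ := nil_up hb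
  haveI := hAp
  have h3 := hb.frac _ (by rw [minimalPrimes_eq_singleton A]; rfl) (nilradical C) hCp hcomap
  haveI := hloc
  haveI : IsLocalRing (CAlg2.normRed A) := (normEquiv φ hb.integral hcomap h3).symm.isLocalRing
  refine ⟨⟨Ideal.Quotient.isDomain _, inferInstance⟩, ?_⟩
  have hpiCA : ∀ (m : Ideal (CAlg2.normRed C)) [m.IsMaximal] (y : CAlg2.normRed C ⧸ m),
        ∃ k : ℕ, y ^ (ringExpChar (CAlg2.normRed C ⧸ m)) ^ k ∈
          ((Ideal.Quotient.mk m).comp ((iota C).comp φ)).range := by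
    intro m hm y
    obtain ⟨k, c, hc⟩ := hpiC m y
    haveI hn : (m.comap (iota C)).IsMaximal := by
      letI := (iota C).toAlgebra
      haveI : Algebra.IsIntegral C (CAlg2.normRed C) := ⟨iota_isIntegral C⟩
      exact Ideal.isMaximal_comap_of_isIntegral_of_isMaximal (R := C) m
    obtain ⟨j, a, ha⟩ := hpi (m.comap (iota C)) (Ideal.Quotient.mk _ c)
    refine ⟨k + j, a, ?_⟩
    have h1 := congrArg (resMap C _ m rfl) ha
    rw [map_pow, ← ringExpChar_eq C _ m rfl] at h1
    rw [pow_add, pow_mul, ← hc]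
    exact h1
  exact Groth.Agent.Helper5.BrAlg.transfer (normEquiv φ hb.integral hcomap h3).symm
    ((iota C).comp φ) (iota A)
    (fun a => by
      rw [RingEquiv.symm_apply_eq]
      exact (normEquiv_iota φ hb.integral hcomap h3 a).symm) hpiCA

end Main

end Groth.Agent.Helper5.GuBir
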