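import Mathlib
import Groth.Agent.Helper5.GuBir2
import Groth.Prelude

set_option autoImplicit false
set_option linter.unusedSectionVars false
set_option linter.style.haveILetI false
universe u

namespace Groth.Agent.Helper5.GuBir

theorem minimalPrimes_comap_equiv {A C : Type u} [CommRing A] [CommRing C] (e : A ≃+* C)
    (Q : Ideal C) (hQ : Q ∈ minimalPrimes C) : Q.comap (e : A →+* C) ∈ minimalPrimes A := by
  have h1 := Ideal.comap_minimalPrimes_eq_of_surjective (f := (e : A →+* C)) e.surjective ⊥
  have h2 : (⊥ : Ideal C).comap (e : A →+* C) = ⊥ :=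
    Ideal.comap_bot_of_injective _ e.injective
  rw [h2] at h1
  show Q.comap (e : A →+* C) ∈ (⊥ : Ideal A).minimalPrimes
  rw [h1]
  exact ⟨Q, hQ, rfl⟩

theorem birHyp_of_ringEquiv {A C : Type u} [CommRing A] [CommRing C] (e : A ≃+* C) :
    BirHyp (e : A →+* C) where
  integral := RingHom.isIntegral_of_surjective _ e.surjective
  uniq := fun P _ Q₁ Q₂ _ _ h1 h2 =>
    Ideal.comap_injective_of_surjective _ e.surjective (h1.trans h2.symm)
  exist := fun P hP => by
    refine ⟨P.comap (e.symm : C →+* A), minimalPrimes_comap_equiv e.symm P hP, ?_⟩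
    ext a
    simp only [Ideal.mem_comap, RingEquiv.coe_toRingHom, RingEquiv.symm_apply_apply]
  min := fun Q hQ => minimalPrimes_comap_equiv e Q hQ
  frac := fun P hP Q _ _ c => by
    haveI := hP.1.1
    refine ⟨e.symm c, 1, fun h => (Ideal.IsPrime.ne_top inferInstance)
      ((Ideal.eq_top_iff_one P).2 h), ?_⟩
    simp only [RingEquiv.coe_toRingHom, map_one, one_mul, RingEquiv.apply_symm_apply, sub_self]
    exact Q.zero_mem

theorem gu_of_ringEquiv {A C : Type u} [CommRing A] [CommRing C] [IsLocalRing A] [IsLocalRing C]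
    (e : A ≃+* C) (hA : CAlg2.IsGeomUnibranch A) : CAlg2.IsGeomUnibranch C :=
  (gu_forward (birHyp_of_ringEquiv e) hA).2.2

end Groth.Agent.Helper5.GuBir
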