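import Mathlib

set_option autoImplicit false
universe u

namespace Groth.Agent.Helper5.AnOpen

open CategoryTheory CategoryTheory.Limits AlgebraicGeometry TensorProduct

lemma exists_sum_tmul {R A B : Type*} [CommRing R] [CommRing A] [CommRing B] [Algebra R A]
    [Algebra R B] (x : A ⊗[R] B) :
    ∃ (n : ℕ) (c : Fin n → A) (d : Fin n → B), x = ∑ i, c i ⊗ₜ[R] d i := by
  have hx : x ∈ Submodule.span R {t : A ⊗[R] B | ∃ m n, m ⊗ₜ n = t} := by
    rw [TensorProduct.span_tmul_eq_top]; trivial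
  obtain ⟨n, r, g, rfl⟩ := Submodule.mem_span_set'.mp hx
  choose c d hcd using fun i => (g i).2
  refine ⟨n, fun i => r i • c i, d, ?_⟩
  simp [← hcd, TensorProduct.smul_tmul']

/-- every element of a pushout of commutative rings is a finite sum of products -/
lemma exists_sum_of_isPushout {R A B X : CommRingCat.{u}} {f : R ⟶ A} {g : R ⟶ B} {a : A ⟶ X}
    {b : B ⟶ X} (H : IsPushout f g a b) (s : X) :
    ∃ (n : ℕ) (c : Fin n → A) (d : Fin n → B), s = ∑ i, a (c i) * b (d i) := by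
  algebraize [f.hom, g.hom]
  let e := ((CommRingCat.isPushout_tensorProduct R A B).isoIsPushout A B H)
  have h1 : ∀ c : A, e.hom (c ⊗ₜ 1) = a c := fun c =>
    congr($((CommRingCat.isPushout_tensorProduct R A B).inl_isoIsPushout_hom A B H).hom c)
  have h2 : ∀ d : B, e.hom (1 ⊗ₜ d) = b d := fun d =>
    congr($((CommRingCat.isPushout_tensorProduct R A B).inr_isoIsPushout_hom A B H).hom d)
  obtain ⟨n, c, d, hs⟩ := exists_sum_tmul (R := R) (e.inv s)
  refine ⟨n, c, d, ?_⟩
  have : s = e.hom (e.inv s) := by simp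
  rw [this, hs, map_sum]
  refine Finset.sum_congr rfl fun i _ => ?_
  rw [← h1, ← h2, ← map_mul]
  simp

variable {X Y : Scheme.{u}}

/-- the base changes to positive-dimensional affine spaces over the base are open maps -/
def Hyp (f : X ⟶ Y) : Prop :=
  ∀ n : ℕ, 0 < n → IsOpenMap ⇑(pullback.snd f (𝔸(ULift.{u} (Fin n); Y) ↘ Y))

lemma Hyp.of_isOpenImmersion {X' Y' : Scheme.{u}} {f : X ⟶ Y} (h : Hyp f) (f' : X' ⟶ Y')
    (i : X' ⟶ X) (j : Y' ⟶ Y) [IsOpenImmersion i] [IsOpenImmersion j] (e : f' ≫ j = i ≫ f) :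
    Hyp f' := by
  intro n hn
  have hm : IsOpenImmersion (AffineSpace.map (ULift.{u} (Fin n)) j) :=
    MorphismProperty.of_isPullback (AffineSpace.isPullback_map (n := ULift.{u} (Fin n)) j).flip inferInstance
  let pm := pullback.map f' (𝔸(ULift.{u} (Fin n); Y') ↘ Y') f (𝔸(ULift.{u} (Fin n); Y) ↘ Y) i
    (AffineSpace.map _ j) j e (AffineSpace.map_over (n := ULift.{u} (Fin n)) j).symm
  have hpm : pm ≫ pullback.snd f _ = pullback.snd f' _ ≫ AffineSpace.map _ j := pullback.lift_snd _ _ _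
  have h1 : IsOpenMap ⇑(pm ≫ pullback.snd f _) := by
    rw [Scheme.Hom.comp_base, TopCat.coe_comp]
    exact (h n hn).comp pm.isOpenEmbedding.isOpenMap
  rw [hpm, Scheme.Hom.comp_base, TopCat.coe_comp] at h1
  exact ((AffineSpace.map _ j).isOpenEmbedding.isOpenMap_iff).mpr h1


end Groth.Agent.Helper5.AnOpen
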