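import Mathlib
import Groth.Agent.Helper5.AnOpen1

set_option autoImplicit false
universe u

namespace Groth.Agent.Helper5.AnOpen

open CategoryTheory CategoryTheory.Limits AlgebraicGeometry TensorProduct TopologicalSpace

lemma isOpenMap_of_isPullback {P X Y T : Scheme.{u}} [IsAffine X] [IsAffine Y] [IsAffine T]
    {p : P ⟶ X} {q : P ⟶ T} {f : X ⟶ Y} {g : T ⟶ Y} (sq : IsPullback p q f g) (h : Hyp f) :
    IsOpenMap ⇑q := by
  have hP : IsAffine P := .of_isPullback sq
  have hb : IsTopologicalBasis _ := isBasis_basicOpen P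
  rw [hb.isOpenMap_iff]
  rintro _ ⟨_, ⟨s, rfl⟩, rfl⟩
  obtain ⟨n, c, d, hs⟩ := exists_sum_of_isPushout (isPushout_appTop_of_isPullback sq) s
  rcases Nat.eq_zero_or_pos n with rfl | hn
  · have : s = 0 := by simpa using hs
    subst this
    simp
  let v : ULift.{u} (Fin n) → Γ(T, ⊤) := fun i => d i.down
  let φ : T ⟶ 𝔸(ULift.{u} (Fin n); Y) := AffineSpace.homOfVector g v
  let Pn := pullback f (𝔸(ULift.{u} (Fin n); Y) ↘ Y)
  let pn : Pn ⟶ X := pullback.fst _ _
  let qn : Pn ⟶ 𝔸(ULift.{u} (Fin n); Y) := pullback.snd _ _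
  let ρ : P ⟶ Pn := pullback.lift p (q ≫ φ) (by rw [Category.assoc, AffineSpace.homOfVector_over, sq.w])
  have hρp : ρ ≫ pn = p := pullback.lift_fst _ _ _
  have hρq : ρ ≫ qn = q ≫ φ := pullback.lift_snd _ _ _
  have sq' : IsPullback ρ q qn φ := by
    refine IsPullback.of_right ?_ hρq (IsPullback.of_hasPullback f (𝔸(ULift.{u} (Fin n); Y) ↘ Y))
    rw [pullback.lift_fst, AffineSpace.homOfVector_over]
    exact sq
  let gt : Γ(Pn, ⊤) := ∑ i, pn.appTop (c i) * qn.appTop (AffineSpace.coord Y (ULift.up i))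
  have hgt : ρ.appTop gt = s := by
    rw [hs, map_sum]
    refine Finset.sum_congr rfl fun i _ => ?_
    rw [map_mul, ← CommRingCat.comp_apply, ← CommRingCat.comp_apply, ← Scheme.Hom.comp_appTop,
      ← Scheme.Hom.comp_appTop, hρp, hρq, Scheme.Hom.comp_appTop, CommRingCat.comp_apply,
      AffineSpace.homOfVector_appTop_coord]
  have hpre : (ρ ⁻¹ᵁ Pn.basicOpen gt) = P.basicOpen s := by
    rw [Scheme.preimage_basicOpen_top, hgt]
  have := Scheme.image_preimage_eq_of_isPullback sq' (Pn.basicOpen gt : Set Pn)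
  have h2 : (q '' (P.basicOpen s : Set P)) = φ ⁻¹' (qn '' (Pn.basicOpen gt : Set Pn)) := by
    rw [← hpre]
    exact this
  rw [h2]
  exact ((h n hn) _ (Pn.basicOpen gt).isOpen).preimage φ.continuous

end Groth.Agent.Helper5.AnOpen
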