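import Mathlib
import Groth.Agent.Helper5.AnOpen3

set_option autoImplicit false
universe u

namespace Groth.Agent.Helper5.AnOpen

open CategoryTheory CategoryTheory.Limits AlgebraicGeometry TensorProduct TopologicalSpace
  MorphismProperty

theorem universallyOpen_of_hyp {X Y : Scheme.{u}} (f : X ⟶ Y) (h : Hyp f) : UniversallyOpen f := by
  wlog hY : ∃ R, Y = Spec R generalizing X Y
  · rw [IsZariskiLocalAtTarget.iff_of_openCover (P := @UniversallyOpen) Y.affineCover]
    intro i
    have hoi : IsOpenImmersion (pullback.fst f (Y.affineCover.f i)) :=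
      MorphismProperty.pullback_fst _ _ inferInstance
    have h' : Hyp (Y.affineCover.pullbackHom f i) :=
      @Hyp.of_isOpenImmersion _ _ _ _ f h (Y.affineCover.pullbackHom f i)
        (pullback.fst f (Y.affineCover.f i)) (Y.affineCover.f i) hoi inferInstance
        pullback.condition.symm
    exact this _ h' ⟨_, rfl⟩
  obtain ⟨R, rfl⟩ := hY
  wlog hX : ∃ C, X = Spec C generalizing X
  · rw [IsZariskiLocalAtSource.iff_of_openCover (P := @UniversallyOpen) X.affineCover]
    intro i
    exact this _ (h.of_isOpenImmersion _ (X.affineCover.f i) (𝟙 _) (by simp)) ⟨_, rfl⟩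
  obtain ⟨C, rfl⟩ := hX
  refine ⟨universally_mk' _ _ fun {T} g _ => ?_⟩
  wlog hT : ∃ B, T = Spec B generalizing T
  · refine (IsZariskiLocalAtTarget.iff_of_openCover (P := topologically IsOpenMap)
      T.affineCover).mpr fun i ↦ ?_
    refine (MorphismProperty.cancel_left_of_respectsIso _
      ((pullbackRightPullbackFstIso ..).inv ≫ (pullbackSymmetry ..).hom) _).mp ?_
    simpa [Scheme.Cover.pullbackHom] using! this _ _ ⟨_, rfl⟩
  obtain ⟨B, rfl⟩ := hT
  exact isOpenMap_of_isPullback (IsPullback.of_hasPullback g f).flip h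

/-- S4780 -/
theorem s4780 {X Y : Scheme.{u}} (f : X ⟶ Y)
    (h : ∀ n : ℕ, 0 < n →
      IsOpenMap ⇑(Limits.pullback.snd f (AffineSpace (ULift.{u} (Fin n)) Y ↘ Y))) :
    UniversallyOpen f :=
  universallyOpen_of_hyp f h

/-- S1373 -/
theorem s1373 {X S : Scheme.{u}} (f : X ⟶ S) :
    UniversallyOpen f ↔ ∀ n : ℕ, IsOpenMap ⇑(AffineSpace.map (ULift.{u} (Fin n)) f) := by
  constructor
  · intro hf n
    exact hf.universally_isOpenMap _ _ _ (AffineSpace.isPullback_map (n := ULift.{u} (Fin n)) f)
  · intro h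
    refine universallyOpen_of_hyp f fun n hn => ?_
    have sq := AffineSpace.isPullback_map (n := ULift.{u} (Fin n)) f
    have e : sq.flip.isoPullback.hom ≫ pullback.snd _ _ = AffineSpace.map _ f :=
      sq.flip.isoPullback_hom_snd
    have h1 : IsOpenMap ⇑(sq.flip.isoPullback.inv ≫ AffineSpace.map (ULift.{u} (Fin n)) f) := by
      rw [Scheme.Hom.comp_base, TopCat.coe_comp]
      exact (h n).comp (sq.flip.isoPullback.inv.homeomorph.isOpenMap)
    rwa [sq.flip.isoPullback_inv_snd] at h1

end Groth.Agent.Helper5.AnOpen
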