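import Mathlib
import Groth.Prelude.Def_CAlg2
import Groth.Agent.Helper5.QFUni4
import Groth.Agent.Helper5.QFUni5
import Groth.Agent.Helper5.AnOpen4
import Groth.Agent.Helper5.EtOI
import Groth.Agent.Helper5.DimFormula8
import Groth.Agent.Helper2.SmGU7
import Groth.Agent.Helper2.ArtSch

/-!
# Quasi-finite morphisms to a geometrically unibranch locally Noetherian scheme whose components
dominate are universally open (EGA IV 14.4.2/14.4.3)
-/

set_option autoImplicit false
set_option linter.style.haveILetI false
universe u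

namespace Groth.Agent.Helper5.QFUni

open AlgebraicGeometry CategoryTheory CategoryTheory.Limits

/-- a point whose closure is an irreducible component has no proper generization -/
theorem eq_of_specializes_of_mem_irreducibleComponents {T : Type*} [TopologicalSpace T] [T0Space T]
    (ζ : T) (hζ : closure ({ζ} : Set T) ∈ irreducibleComponents T) (w : T) (hw : w ⤳ ζ) : w = ζ := by
  have h1 : closure ({ζ} : Set T) ⊆ closure ({w} : Set T) := specializes_iff_closure_subset.1 hw
  have h2 : closure ({w} : Set T) ⊆ closure ({ζ} : Set T) :=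
    hζ.2 isIrreducible_singleton.closure h1
  have h3 : ζ ⤳ w := specializes_iff_closure_subset.2 h2
  exact (hw.antisymm h3).eq

/-- generalizing form of the lifting lemma, under the hypothesis that maximal points go to
maximal points -/
theorem generalizingMap_of_unibranch {X Y : Scheme.{u}} (f : X ⟶ Y) [LocallyOfFiniteType f]
    [LocallyQuasiFinite f] (hY : ∀ y : Y, CAlg2.IsUnibranch (Y.presheaf.stalk y))
    (hmax : ∀ ξ : X, (∀ w : X, w ⤳ ξ → w = ξ) → ∀ y : Y, y ⤳ f ξ → y = f ξ) :
    GeneralizingMap f := by
  intro x y₁ hy₁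
  obtain ⟨ξ, hξx, hξ⟩ := Groth.Agent.Helper5.EtOI.exists_maximal_generization X x
  have hξ' : ∀ w : X, w ⤳ ξ → w = ξ := eq_of_specializes_of_mem_irreducibleComponents ξ hξ
  exact lifting_of_unibranch f x ξ hξx (hmax ξ hξ') (hY _) y₁ hy₁

/-- **EGA IV 14.4.2/3**, global form -/
theorem s1454 {X Y : Scheme.{u}} (f : X ⟶ Y) [LocallyQuasiFinite f] [LocallyOfFiniteType f]
    [IsLocallyNoetherian Y] (hY : ∀ y : Y, CAlg2.IsGeomUnibranch (Y.presheaf.stalk y))
    (hdom : ∀ Z ∈ irreducibleComponents ↑X, ∀ x : X, IsGenericPoint x Z →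
      ∃ W ∈ irreducibleComponents ↑Y, IsGenericPoint (f x) W) :
    UniversallyOpen f := by
  refine Groth.Agent.Helper5.AnOpen.s4780 f (fun n _ => ?_)
  let Y' : Scheme.{u} := 𝔸(ULift.{u} (Fin n); Y)
  let p : Y' ⟶ Y := 𝔸(ULift.{u} (Fin n); Y) ↘ Y
  haveI : Smooth p := Groth.Agent.Lead.EtChartA.smooth_affineSpace (ULift.{u} (Fin n)) Y
  haveI : Flat p := inferInstance
  haveI : LocallyOfFiniteType p := inferInstance
  haveI : IsLocallyNoetherian Y' := LocallyOfFiniteType.isLocallyNoetherian p
  let f' := pullback.snd f p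
  haveI : LocallyOfFinitePresentation f' := Groth.Agent.Helper2.ArtSch.lfp_of_lft_noeth f'
  refine isOpenMap_of_generalizingMap f' ?_
  refine generalizingMap_of_unibranch f' ?_ ?_
  · intro y'
    exact (Groth.Agent.Helper2.SmGU7.s4936 n y' (hY _)).1
  · intro ξ' hξ'
    -- `fst ξ'` is a maximal point of `X`
    have h1 : closure ({ξ'} : Set ↥(pullback f p)) ∈
        irreducibleComponents (↥(pullback f p) : Type u) :=
      Groth.Agent.Helper5.DimFormula.closure_mem_irreducibleComponents ξ' hξ'
    have h2 : closure ({(pullback.fst f p).base ξ'} : Set X) ∈ irreducibleComponents (X : Type u) :=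
      Groth.Agent.Helper5.EtOI.closure_mem_irreducibleComponents_map (pullback.fst f p)
        (Flat.generalizingMap (pullback.fst f p)) ξ' h1
    obtain ⟨W, hW, hWgen⟩ := hdom _ h2 ((pullback.fst f p).base ξ') rfl
    have h3 : closure ({f ((pullback.fst f p) ξ')} : Set Y) ∈ irreducibleComponents (Y : Type u) := by
      have : closure ({f ((pullback.fst f p) ξ')} : Set Y) = W := hWgen
      rw [this]
      exact hW
    exact maximal_snd_of_maximal f p ξ' hξ'
      (eq_of_specializes_of_mem_irreducibleComponents _ h3)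

end Groth.Agent.Helper5.QFUni
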