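import Mathlib
import Groth.Prelude.Def_EGA43
import Groth.Prelude.Def_CAlg2
import Groth.Agent.Helper5.ChevB
import Groth.Agent.Helper5.QFUni6

/-!
# Chevalley's criterion for universal openness (EGA IV 14.4.4)
-/

set_option autoImplicit false
set_option linter.style.haveILetI false
universe u

namespace Groth.Agent.Helper5.Chev

open AlgebraicGeometry CategoryTheory CategoryTheory.Limits
open Groth.Agent.Helper5.EqAt

theorem unibranch_congr (Y : Scheme.{u}) (y y' : Y) (h : y = y')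
    (hc : CAlg2.IsUnibranch (Y.presheaf.stalk y)) : CAlg2.IsUnibranch (Y.presheaf.stalk y') := by
  subst h; exact hc

set_option maxHeartbeats 1000000 in
/-- lifting of generizations at a point closed in its fibre, where the morphism is
equidimensional, over a unibranch point -/
theorem lifting_of_isEquidimAt {X Y : Scheme.{u}} [IsLocallyNoetherian Y] (f : X ⟶ Y)
    [LocallyOfFiniteType f] (x : X) (hf : EGA43.IsEquidimAt f x)
    (hcl : ∀ x' : X, f x' = f x → x ⤳ x' → x' = x)
    (hy : CAlg2.IsUnibranch (Y.presheaf.stalk (f x))) (y₁ : Y) (hy₁ : y₁ ⤳ f x) :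
    ∃ x₁ : X, x₁ ⤳ x ∧ f x₁ = y₁ := by
  haveI hdom : IsDomain (CAlg2.red (Y.presheaf.stalk (f x))) := hy.1
  have hN : (nilradical (Y.presheaf.stalk (f x))).IsPrime :=
    (Ideal.Quotient.isDomain_iff_prime _).mp hdom
  obtain ⟨V, hyV, hVirr⟩ := exists_irreducible_nhd Y (f x) hN
  haveI : IrreducibleSpace ↥(V : Scheme.{u}) := hVirr
  haveI : IsLocallyNoetherian (V : Scheme.{u}) := LocallyOfFiniteType.isLocallyNoetherian V.ι
  let U : X.Opens := f ⁻¹ᵁ V
  let fV : (U : Scheme.{u}) ⟶ (V : Scheme.{u}) := f ∣_ V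
  let xU : ↥(U : Scheme.{u}) := ⟨x, hyV⟩
  have hsq : IsPullback U.ι fV f V.ι := (isPullback_morphismRestrict f V).flip
  have hfac : fV ≫ V.ι = U.ι ≫ f := hsq.w.symm
  have hfac' : ∀ w : ↥(U : Scheme.{u}), V.ι (fV w) = f (U.ι w) := fun w =>
    congrArg (fun ψ => ψ w) hfac
  haveI : LocallyOfFiniteType fV := inferInstance
  have hEq : EGA43.IsEquidimAt fV xU := isEquidimAt_of_isPullback f V.ι U.ι fV hsq xU hf
  have hclU : ∀ x'' : ↥(U : Scheme.{u}), fV x'' = fV xU → xU ⤳ x'' → x'' = xU := by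
    intro x'' h1 h2
    have h3 : f (U.ι x'') = f x := by
      rw [← hfac', h1, hfac']
      rfl
    have h4 : x ⤳ U.ι x'' := h2.map U.ι.continuous
    have h5 := hcl _ h3 h4
    exact U.ι.isEmbedding.injective h5
  obtain ⟨e, he⟩ := Groth.Agent.Helper5.SubDim.fibreDimAt_nat fV xU
  obtain ⟨T, i, -, -, hTirr, -, hxr, hlft, hlqf, -, hdomi⟩ :=
    Groth.Agent.Helper5.CutSec.exists_qf_aux' (Y := (V : Scheme.{u})) e (U : Scheme.{u}) fV xU hEq hclU he
  obtain ⟨t, ht⟩ := hxr
  let h : T ⟶ Y := (i ≫ fV) ≫ V.ι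
  haveI : LocallyOfFiniteType h := inferInstance
  haveI : LocallyQuasiFinite h := inferInstance
  have hgen : (i ≫ fV) (genericPoint T) = genericPoint (V : Scheme.{u}) :=
    Groth.Agent.Helper5.OpenAt.map_genericPoint_of_isDominant (i ≫ fV)
  have hht : h t = f x := by
    show V.ι (fV (i t)) = f x
    rw [ht, hfac']
    rfl
  have hmax : ∀ y' : Y, y' ⤳ h (genericPoint T) → y' = h (genericPoint T) := by
    intro y' hy'
    have h1 : h (genericPoint T) = V.ι (genericPoint (V : Scheme.{u})) := by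
      show V.ι ((i ≫ fV) (genericPoint T)) = _
      rw [hgen]
    rw [h1] at hy' ⊢
    have hy'V : y' ∈ V := hy'.mem_open V.2 (genericPoint (V : Scheme.{u})).2
    let y'V : ↥(V : Scheme.{u}) := ⟨y', hy'V⟩
    have h2 : y'V ⤳ genericPoint (V : Scheme.{u}) := by
      rw [← V.ι.isEmbedding.isInducing.specializes_iff]
      exact hy'
    have h3 : y'V = genericPoint (V : Scheme.{u}) :=
      (h2.antisymm (genericPoint_specializes y'V)).eq
    rw [← h3]
    rfl
  obtain ⟨t₁, ht₁, hht₁⟩ := Groth.Agent.Helper5.QFUni.lifting_of_unibranch h t (genericPoint T)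
    (genericPoint_specializes t) hmax (unibranch_congr Y _ _ hht.symm hy) y₁ (by rw [hht]; exact hy₁)
  refine ⟨U.ι (i t₁), ?_, ?_⟩
  · have h1 : U.ι (i t₁) ⤳ U.ι (i t) := (ht₁.map i.continuous).map U.ι.continuous
    rw [ht] at h1
    exact h1
  · rw [← hfac']
    exact hht₁

/-- **Chevalley's criterion** (EGA IV 14.4.4), global form -/
theorem s2593 {X Y : Scheme.{u}} [IsLocallyNoetherian Y]
    (hY : ∀ y : Y, CAlg2.IsGeomUnibranch (Y.presheaf.stalk y)) (f : X ⟶ Y) [LocallyOfFiniteType f]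
    (h : ∀ x : X, EGA43.IsEquidimAt f x) : UniversallyOpen f := by
  refine Groth.Agent.Helper5.AnOpen.s4780 f (fun n _ => ?_)
  let Y' : Scheme.{u} := 𝔸(ULift.{u} (Fin n); Y)
  let p : Y' ⟶ Y := 𝔸(ULift.{u} (Fin n); Y) ↘ Y
  haveI : Smooth p := Groth.Agent.Lead.EtChartA.smooth_affineSpace (ULift.{u} (Fin n)) Y
  haveI : Flat p := inferInstance
  haveI : LocallyOfFiniteType p := inferInstance
  haveI : IsLocallyNoetherian Y' := LocallyOfFiniteType.isLocallyNoetherian p
  let f' := pullback.snd f p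
  haveI : LocallyOfFinitePresentation f' := Groth.Agent.Helper2.ArtSch.lfp_of_lft_noeth f'
  refine isOpenMap_of_isOpenAt_closed f' ?_
  intro x' hcl
  refine Groth.Agent.Helper5.PtOpen.isOpenAt_of_lifting f' x' ?_
  intro y₁ hy₁
  have hEq : EGA43.IsEquidimAt f' x' :=
    isEquidimAt_of_isPullback f p (pullback.fst f p) f' (IsPullback.of_hasPullback f p) x' (h _)
  exact lifting_of_isEquidimAt f' x' hEq hcl
    (Groth.Agent.Helper2.SmGU7.s4936 n (f' x') (hY _)).1 y₁ hy₁

end Groth.Agent.Helper5.Chev
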