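import Mathlib
import Groth.Prelude.Def_EGA43
import Groth.Agent.Helper5.PtOpen3
import Groth.Agent.Helper5.AnOpen1

set_option autoImplicit false
universe u

namespace Groth.Agent.Helper5.PtOpen

open CategoryTheory CategoryTheory.Limits AlgebraicGeometry TopologicalSpace Topology

/-- the pointwise hypothesis: base changes to positive-dimensional affine spaces are open at the
points over `x` -/
def HypAt {X Y : Scheme.{u}} (f : X ⟶ Y) (x : X) : Prop :=
  ∀ n : ℕ, 0 < n → ∀ w : ↥(pullback f (𝔸(ULift.{u} (Fin n); Y) ↘ Y)),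
    pullback.fst f (𝔸(ULift.{u} (Fin n); Y) ↘ Y) w = x →
      EGA43.IsOpenAt (pullback.snd f (𝔸(ULift.{u} (Fin n); Y) ↘ Y)) w

lemma isOpenAt_of_isPullback {P X Y T : Scheme.{u}} [IsAffine X] [IsAffine Y] [IsAffine T]
    {p : P ⟶ X} {q : P ⟶ T} {f : X ⟶ Y} {g : T ⟶ Y} (sq : IsPullback p q f g) (z : P)
    (h : HypAt f (p z)) : EGA43.IsOpenAt q z := by
  have hP : IsAffine P := .of_isPullback sq
  have hb : IsTopologicalBasis _ := isBasis_basicOpen P
  intro U hU
  obtain ⟨_, ⟨_, ⟨s, rfl⟩, rfl⟩, hzs, hsU⟩ :=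
    hb.exists_subset_of_mem_open (mem_interior_iff_mem_nhds.mpr hU) isOpen_interior
  obtain ⟨n, c, d, hs⟩ := AnOpen.exists_sum_of_isPushout (isPushout_appTop_of_isPullback sq) s
  rcases Nat.eq_zero_or_pos n with rfl | hn
  · have : s = 0 := by simpa using hs
    subst this
    simp at hzs
  let v : ULift.{u} (Fin n) → Γ(T, ⊤) := fun i => d i.down
  let φ : T ⟶ 𝔸(ULift.{u} (Fin n); Y) := AffineSpace.homOfVector g v
  let Pn := pullback f (𝔸(ULift.{u} (Fin n); Y) ↘ Y)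
  let pn : Pn ⟶ X := pullback.fst _ _
  let qn : Pn ⟶ 𝔸(ULift.{u} (Fin n); Y) := pullback.snd _ _
  let ρ : P ⟶ Pn := pullback.lift p (q ≫ φ) (by rw [Category.assoc, AffineSpace.homOfVector_over, sq.w])
  have hρp : ρ ≫ pn = p := pullback.lift_fst _ _ _
  have hρq : ρ ≫ qn = q ≫ φ := pullback.lift_snd _ _ _
  have sq' : IsPullback ρ q qn φ := by
    refine IsPullback.of_right ?_ hρq (IsPullback.of_hasPullback f (𝔸(ULift.{u} (Fin n); Y) ↘ Y))
    rw [pullback.lift_fst, AffineSpace.homOfVector_over]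
    exact sq
  let gt : Γ(Pn, ⊤) := ∑ i, pn.appTop (c i) * qn.appTop (AffineSpace.coord Y (ULift.up i))
  have hgt : ρ.appTop gt = s := by
    rw [hs, map_sum]
    refine Finset.sum_congr rfl fun i _ => ?_
    rw [map_mul, ← CommRingCat.comp_apply, ← CommRingCat.comp_apply, ← Scheme.Hom.comp_appTop,
      ← Scheme.Hom.comp_appTop, hρp, hρq, Scheme.Hom.comp_appTop, CommRingCat.comp_apply,
      AffineSpace.homOfVector_appTop_coord]
  have hpre : (ρ ⁻¹ᵁ Pn.basicOpen gt) = P.basicOpen s := by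
    rw [Scheme.preimage_basicOpen_top, hgt]
  have := Scheme.image_preimage_eq_of_isPullback sq' (Pn.basicOpen gt : Set Pn)
  have h2 : (q '' (P.basicOpen s : Set P)) = φ ⁻¹' (qn '' (Pn.basicOpen gt : Set Pn)) := by
    rw [← hpre]
    exact this
  have hw : ρ z ∈ Pn.basicOpen gt := by
    have : z ∈ ρ ⁻¹ᵁ Pn.basicOpen gt := hpre ▸ hzs
    exact this
  have hw1 : pn (ρ z) = p z := congrArg (fun ψ : P ⟶ X => ψ z) hρp
  have h3 := h n hn (ρ z) hw1 _ ((Pn.basicOpen gt).isOpen.mem_nhds hw)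
  have hw2 : qn (ρ z) = φ (q z) := congrArg (fun ψ : P ⟶ _ => ψ z) hρq
  change qn '' _ ∈ nhds (qn (ρ z)) at h3
  rw [hw2] at h3
  have h4 : φ ⁻¹' (qn '' (Pn.basicOpen gt : Set Pn)) ∈ nhds (q z) := φ.continuous.continuousAt h3
  rw [← h2] at h4
  refine Filter.mem_of_superset h4 ?_
  exact Set.image_mono (hsU.trans interior_subset)

lemma exists_affine_chart {X Y Y₀ : Scheme.{u}} (f : X ⟶ Y) (j : Y₀ ⟶ Y)
    [IsOpenImmersion j] (x : X) (hx : f x ∈ Set.range j) :
    ∃ (C : CommRingCat.{u}) (i : Spec C ⟶ X) (f₀ : Spec C ⟶ Y₀) (x₀ : Spec C),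
      IsOpenImmersion i ∧ f₀ ≫ j = i ≫ f ∧ i x₀ = x := by
  have hz : x ∈ Set.range (pullback.fst f j) := by
    rw [Scheme.Pullback.range_fst]
    exact hx
  obtain ⟨z₁, hz₁⟩ := hz
  obtain ⟨z', hz'⟩ := (pullback f j).affineCover.covers z₁
  let i₁ := (pullback f j).affineCover.f ((pullback f j).affineCover.idx z₁)
  have hi₁ : IsOpenImmersion i₁ := by dsimp only [i₁]; infer_instance
  have hi : IsOpenImmersion (i₁ ≫ pullback.fst f j) := inferInstance
  refine ⟨_, i₁ ≫ pullback.fst f j, i₁ ≫ pullback.snd f j, z', hi, ?_, ?_⟩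
  · simp only [Category.assoc, pullback.condition]
  · rw [Scheme.Hom.comp_apply]
    change pullback.fst f j (((pullback f j).affineCover.f _) z') = x
    rw [hz', hz₁]

lemma HypAt.of_isOpenImmersion {X Y X' Y' : Scheme.{u}} {f : X ⟶ Y} (f' : X' ⟶ Y')
    (i : X' ⟶ X) (j : Y' ⟶ Y) [IsOpenImmersion i] [IsOpenImmersion j] (e : f' ≫ j = i ≫ f)
    (x' : X') (h : HypAt f (i x')) : HypAt f' x' := by
  intro n hn w hw
  have hm : IsOpenImmersion (AffineSpace.map (ULift.{u} (Fin n)) j) :=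
    MorphismProperty.of_isPullback (AffineSpace.isPullback_map (n := ULift.{u} (Fin n)) j).flip inferInstance
  let pm := pullback.map f' (𝔸(ULift.{u} (Fin n); Y') ↘ Y') f (𝔸(ULift.{u} (Fin n); Y) ↘ Y) i
    (AffineSpace.map _ j) j e (AffineSpace.map_over (n := ULift.{u} (Fin n)) j).symm
  have hpm : pullback.snd f' _ ≫ AffineSpace.map _ j = pm ≫ pullback.snd f _ :=
    (pullback.lift_snd _ _ _).symm
  have hpm1 : pm ≫ pullback.fst f _ = pullback.fst f' _ ≫ i := pullback.lift_fst _ _ _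
  refine isOpenAt_square_of (pullback.snd f _) (pullback.snd f' _) pm (AffineSpace.map _ j) hpm w ?_
  refine h n hn (pm w) ?_
  rw [← hw]
  exact congrArg (fun ψ : _ ⟶ X => ψ w) hpm1

/-- (T1) universal openness at a point can be tested on affine spaces over the base -/
theorem isUnivOpenAt_of_hypAt {X Y : Scheme.{u}} (f : X ⟶ Y) (x : X) (h : HypAt f x) :
    EGA43.IsUnivOpenAt f x := by
  intro Y' g x' hx'
  obtain ⟨y₀, hy₀⟩ := Y.affineCover.covers (f x)
  let j := Y.affineCover.f (Y.affineCover.idx (f x))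
  have hj : IsOpenImmersion j := by dsimp only [j]; infer_instance
  obtain ⟨C, iX, f₀, x₀, hiX, eX, hx₀⟩ := exists_affine_chart f j x ⟨y₀, hy₀⟩
  have hgx : g (pullback.snd f g x') ∈ Set.range j := by
    have : g (pullback.snd f g x') = f x := by
      rw [← hx']
      exact (congrArg (fun ψ : pullback f g ⟶ Y => ψ x') pullback.condition).symm
    rw [this]
    exact ⟨y₀, hy₀⟩
  obtain ⟨B, iT, g₀, t₀, hiT, eT, ht₀⟩ := exists_affine_chart g j _ hgx
  let pm := pullback.map f₀ g₀ f g iX iT j eX eT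
  have hpm2 : pullback.snd f₀ g₀ ≫ iT = pm ≫ pullback.snd f g := (pullback.lift_snd _ _ _).symm
  have hpm1 : pm ≫ pullback.fst f g = pullback.fst f₀ g₀ ≫ iX := pullback.lift_fst _ _ _
  have hr : x' ∈ Set.range pm := by
    rw [Scheme.Pullback.range_map]
    exact ⟨⟨x₀, hx₀.trans hx'.symm⟩, ⟨t₀, ht₀⟩⟩
  obtain ⟨z₀, rfl⟩ := hr
  refine isOpenAt_of_square (pullback.snd f g) (pullback.snd f₀ g₀) pm iT hpm2 z₀ ?_
  refine isOpenAt_of_isPullback (IsPullback.of_hasPullback f₀ g₀) z₀ ?_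
  refine HypAt.of_isOpenImmersion f₀ iX j eX _ ?_
  have : iX (pullback.fst f₀ g₀ z₀) = x :=
    (congrArg (fun ψ : _ ⟶ X => ψ z₀) hpm1).symm.trans hx'
  exact this.symm ▸ h

end Groth.Agent.Helper5.PtOpen
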