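import Mathlib
import Groth.Prelude.Def_EGA43
import Groth.Prelude.Def_CAlg2
import Groth.Agent.Helper5.ChevC
import Groth.Agent.Helper5.PtOpen5

/-!
# Chevalley's criterion, pointwise form (EGA IV 14.4.4)
-/

set_option autoImplicit false
set_option linter.style.haveILetI false
universe u

namespace Groth.Agent.Helper5.Chev

open AlgebraicGeometry CategoryTheory CategoryTheory.Limits
open Groth.Agent.Helper5.EqAt

theorem geomUnibranch_congr (Y : Scheme.{u}) (y y' : Y) (h : y = y')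
    (hc : CAlg2.IsGeomUnibranch (Y.presheaf.stalk y)) :
    CAlg2.IsGeomUnibranch (Y.presheaf.stalk y') := by
  subst h; exact hc

/-- equidimensionality at `x` passes to the points of the open set of the definition lying in the
same fibre -/
theorem isEquidimAt_of_mem {X Y : Scheme.{u}} (f : X ⟶ Y) (x : X)
    (h : EGA43.IsEquidimAt f x) :
    ∃ U : X.Opens, x ∈ U ∧ ∀ x' : X, x' ∈ U → f x' = f x → EGA43.IsEquidimAt f x' := by
  obtain ⟨e, U, hxU, C1, C2⟩ := h
  refine ⟨U, hxU, fun x' hx'U hx' => ⟨e, U, hx'U, ?_, C2⟩⟩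
  intro Z hZ
  obtain ⟨W, hW, hxW, hcl⟩ := C1 Z hZ
  refine ⟨W, hW, ?_, hcl⟩
  show f x' ∈ W
  rw [hx']
  exact hxW

set_option maxHeartbeats 1000000 in
/-- a morphism locally of finite type to a locally Noetherian scheme is open at a point where it
is equidimensional and whose image is a unibranch point -/
theorem isOpenAt_of_isEquidimAt {X Y : Scheme.{u}} [IsLocallyNoetherian Y] (f : X ⟶ Y)
    [LocallyOfFiniteType f] (x : X) (hf : EGA43.IsEquidimAt f x)
    (hy : CAlg2.IsUnibranch (Y.presheaf.stalk (f x))) : EGA43.IsOpenAt f x := by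
  obtain ⟨U, hxU, hU⟩ := isEquidimAt_of_mem f x hf
  intro N hN
  obtain ⟨N₀, hN₀N, hN₀o, hxN₀⟩ := mem_nhds_iff.mp hN
  let N' : X.Opens := ⟨N₀, hN₀o⟩ ⊓ U
  have hxN' : x ∈ N' := ⟨hxN₀, hxU⟩
  let g : (N' : Scheme.{u}) ⟶ Y := N'.ι ≫ f
  haveI : LocallyOfFiniteType g := inferInstance
  haveI : LocallyOfFinitePresentation g := Groth.Agent.Helper2.ArtSch.lfp_of_lft_noeth g
  let xN : ↥(N' : Scheme.{u}) := ⟨x, hxN'⟩
  let y := g xN
  -- a closed point of the fibre of `g` in the closure of `x`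
  let F := g.fiber y
  let zx : ↥F := g.asFiber xN
  have hne : (closure ({zx} : Set ↥F) ∩ closedPoints ↥F).Nonempty := by
    by_contra hcon
    rw [Set.not_nonempty_iff_eq_empty] at hcon
    have h1 := JacobsonSpace.closure_inter_closedPoints (X := ↥F)
      (isClosed_closure (s := ({zx} : Set ↥F)))
    rw [hcon, closure_empty] at h1
    have : zx ∈ closure ({zx} : Set ↥F) := subset_closure rfl
    rw [← h1] at this
    exact this
  obtain ⟨z₀, hz₀cl, hz₀⟩ := hne
  have hz₀' : IsClosed ({z₀} : Set ↥F) := hz₀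
  let ι := g.fiberι y
  let w₀ : ↥(N' : Scheme.{u}) := ι z₀
  have hgw₀ : g w₀ = y := by
    have : w₀ ∈ Set.range ι := ⟨z₀, rfl⟩
    rw [g.range_fiberι y] at this
    exact this
  have hxw₀ : xN ⤳ w₀ := by
    have h1 : zx ⤳ z₀ := specializes_iff_mem_closure.mpr hz₀cl
    have h2 : ι zx ⤳ ι z₀ := h1.map ι.continuous
    rwa [g.fiberι_asFiber xN] at h2
  have hcl : ∀ x' : ↥(N' : Scheme.{u}), g x' = g w₀ → w₀ ⤳ x' → x' = w₀ := by
    intro x' hx' hsp
    have hx'r : x' ∈ Set.range ι := by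
      rw [g.range_fiberι y]
      show g x' = y
      rw [hx', hgw₀]
    obtain ⟨z', hz'⟩ := hx'r
    have h1 : z₀ ⤳ z' := by
      rw [← ι.isEmbedding.isInducing.specializes_iff, hz']
      exact hsp
    have h2 : z' ∈ closure ({z₀} : Set ↥F) := h1.mem_closure
    rw [hz₀'.closure_eq] at h2
    rw [← hz', h2]
  have hfw₀ : f (N'.ι w₀) = f x := hgw₀
  have hEq₀ : EGA43.IsEquidimAt f (N'.ι w₀) := hU _ w₀.2.2 hfw₀
  have hEq : EGA43.IsEquidimAt g w₀ :=
    Groth.Agent.Helper5.CutSec.isEquidimAt_open_restrict f (N'.ι w₀) hEq₀ N' w₀.2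
  have hyw₀ : CAlg2.IsUnibranch (Y.presheaf.stalk (g w₀)) :=
    unibranch_congr Y _ _ hfw₀.symm hy
  have hop : EGA43.IsOpenAt g w₀ :=
    Groth.Agent.Helper5.PtOpen.isOpenAt_of_lifting g w₀
      (fun y₁ hy₁ => lifting_of_isEquidimAt g w₀ hEq hcl hyw₀ y₁ hy₁)
  have h3 := hop Set.univ Filter.univ_mem
  rw [hgw₀] at h3
  refine Filter.mem_of_superset h3 ?_
  rintro _ ⟨t, -, rfl⟩
  exact ⟨N'.ι t, hN₀N t.2.1, rfl⟩

/-- **Chevalley's criterion**, pointwise: a morphism locally of finite type to a locally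
Noetherian scheme is universally open at a point where it is equidimensional and whose image is
a geometrically unibranch point -/
theorem isUnivOpenAt_of_isEquidimAt {X Y : Scheme.{u}} [IsLocallyNoetherian Y] (f : X ⟶ Y)
    [LocallyOfFiniteType f] (x : X) (hf : EGA43.IsEquidimAt f x)
    (hy : CAlg2.IsGeomUnibranch (Y.presheaf.stalk (f x))) : EGA43.IsUnivOpenAt f x := by
  refine Groth.Agent.Helper5.PtOpen.isUnivOpenAt_of_hypAt f x ?_
  intro n _ w hw
  let Y' : Scheme.{u} := 𝔸(ULift.{u} (Fin n); Y)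
  let p : Y' ⟶ Y := 𝔸(ULift.{u} (Fin n); Y) ↘ Y
  haveI : Smooth p := Groth.Agent.Lead.EtChartA.smooth_affineSpace (ULift.{u} (Fin n)) Y
  haveI : Flat p := inferInstance
  haveI : LocallyOfFiniteType p := inferInstance
  haveI : IsLocallyNoetherian Y' := LocallyOfFiniteType.isLocallyNoetherian p
  let f' := pullback.snd f p
  have hEq : EGA43.IsEquidimAt f' w := by
    refine isEquidimAt_of_isPullback f p (pullback.fst f p) f' (IsPullback.of_hasPullback f p) w ?_
    rw [hw]
    exact hf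
  have hpw : p (f' w) = f x := by
    have := congrArg (fun ψ => ψ w) (pullback.condition (f := f) (g := p))
    rw [← hw]
    exact this.symm
  have hy' : CAlg2.IsGeomUnibranch (Y'.presheaf.stalk (f' w)) :=
    Groth.Agent.Helper2.SmGU7.s4936 n (f' w) (geomUnibranch_congr Y _ _ hpw.symm hy)
  exact isOpenAt_of_isEquidimAt f' w hEq hy'.1

end Groth.Agent.Helper5.Chev
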