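import Mathlib

set_option autoImplicit false
universe u
open CategoryTheory CategoryTheory.Limits AlgebraicGeometry

namespace Groth.Agent.Helper5.RedFib

/-- `Spec 𝒪_{X,x} ⟶ X` is flat. -/
instance flat_fromSpecStalk (X : Scheme.{u}) (x : X) : Flat (X.fromSpecStalk x) := by
  have hU := isAffineOpen_opensRange (X.affineCover.f (X.affineCover.idx x))
  have hx : x ∈ (X.affineCover.f (X.affineCover.idx x)).opensRange := X.affineCover.covers x
  rw [← hU.fromSpecStalk_eq_fromSpecStalk hx]
  dsimp [IsAffineOpen.fromSpecStalk]
  have : Flat (Spec.map (X.presheaf.germ (X.affineCover.f (X.affineCover.idx x)).opensRange x hx)) := by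
    rw [Flat.SpecMap_iff]
    let : Algebra Γ(X, (X.affineCover.f (X.affineCover.idx x)).opensRange) (X.presheaf.stalk x) :=
      (X.presheaf.germ (X.affineCover.f (X.affineCover.idx x)).opensRange x hx).hom.toAlgebra
    have := hU.isLocalization_stalk ⟨x, hx⟩
    have : Module.Flat Γ(X, (X.affineCover.f (X.affineCover.idx x)).opensRange)
        (X.presheaf.stalk x) :=
      IsLocalization.flat _ (hU.primeIdealOf ⟨x, hx⟩).asIdeal.primeCompl
    exact (RingHom.flat_algebraMap_iff).2 this
  infer_instance

/-- a flat preimmersion induces isomorphisms on stalks -/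
theorem bijective_stalkMap {X Y : Scheme.{u}} (f : X ⟶ Y) [Flat f] [IsPreimmersion f] (x : X) :
    Function.Bijective (f.stalkMap x).hom := by
  refine ⟨?_, f.stalkMap_surjective x⟩
  have hflat : (f.stalkMap x).hom.Flat := Flat.stalkMap f x
  algebraize [(f.stalkMap x).hom]
  have : IsLocalHom (algebraMap (Y.presheaf.stalk (f x)) (X.presheaf.stalk x)) :=
    inferInstanceAs (IsLocalHom (f.stalkMap x).hom)
  have := Module.FaithfullyFlat.of_flat_of_isLocalHom (A := Y.presheaf.stalk (f x))
    (B := X.presheaf.stalk x)
  exact FaithfulSMul.algebraMap_injective (Y.presheaf.stalk (f x)) (X.presheaf.stalk x)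

/-- the source of a flat preimmersion into a reduced scheme is reduced -/
theorem isReduced_of_flat_preimmersion {X Y : Scheme.{u}} (f : X ⟶ Y) [Flat f] [IsPreimmersion f]
    [IsReduced Y] : IsReduced X := by
  have : ∀ x : X, _root_.IsReduced (X.presheaf.stalk x) := by
    intro x
    have hb := bijective_stalkMap f x
    let e : Y.presheaf.stalk (f x) ≃+* X.presheaf.stalk x := RingEquiv.ofBijective _ hb
    exact isReduced_of_injective e.symm.toRingHom e.symm.injective
  exact isReduced_of_isReduced_stalk X

/-- reducedness is local for open covers -/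
theorem isReduced_of_openCover {X : Scheme.{u}} (𝒰 : X.OpenCover) [∀ i, IsReduced (𝒰.X i)] :
    IsReduced X := by
  have : ∀ x : X, _root_.IsReduced (X.presheaf.stalk x) := by
    intro x
    obtain ⟨y, hy⟩ := 𝒰.covers x
    have hb : Function.Bijective ((𝒰.f (𝒰.idx x)).stalkMap y).hom :=
      (ConcreteCategory.isIso_iff_bijective _).1 inferInstance
    let e : X.presheaf.stalk ((𝒰.f (𝒰.idx x)) y) ≃+* (𝒰.X (𝒰.idx x)).presheaf.stalk y :=
      RingEquiv.ofBijective _ hb
    have := isReduced_of_injective e.toRingHom e.injective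
    rwa [hy] at this
  exact isReduced_of_isReduced_stalk X


/-- the reduction of a scheme is reduced -/
instance isReduced_nilradical_subscheme (X : Scheme.{u}) : IsReduced X.nilradical.subscheme := by
  have : ∀ U, IsReduced (X.nilradical.subschemeCover.openCover.X U) := by
    intro (U : X.affineOpens)
    show IsReduced (Spec (.of (Γ(X, U.1) ⧸ X.nilradical.ideal U)))
    have : _root_.IsReduced (Γ(X, U.1) ⧸ X.nilradical.ideal U) := by
      rw [← Ideal.isRadical_iff_quotient_reduced]
      show ((⊥ : X.IdealSheafData).radical.ideal U).IsRadical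
      rw [Scheme.IdealSheafData.radical_ideal]
      exact Ideal.radical_isRadical _
    infer_instance
  exact isReduced_of_openCover X.nilradical.subschemeCover.openCover


/-- if `η` has no proper generizations, `Spec 𝒪_{Y,η}` is a single point, so
`Spec κ(η) ⟶ Spec 𝒪_{Y,η}` is surjective. -/
theorem surjective_SpecMap_residue {Y : Scheme.{u}} (η : Y) (hη : ∀ η' : Y, η' ⤳ η → η' = η) :
    Surjective (Spec.map (Y.residue η)) := by
  constructor
  intro p
  have hinj : Function.Injective (Y.fromSpecStalk η) :=
    (Y.fromSpecStalk η).isEmbedding.injective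
  have hp : ∀ q : Spec (Y.presheaf.stalk η), Y.fromSpecStalk η q = η := by
    intro q
    apply hη
    have : Y.fromSpecStalk η q ∈ Set.range (Y.fromSpecStalk η) := ⟨q, rfl⟩
    rw [Scheme.range_fromSpecStalk] at this
    exact this
  obtain ⟨z⟩ : Nonempty (Spec (Y.residueField η)) := inferInstance
  refine ⟨z, hinj ?_⟩
  rw [hp, hp]

/-- the fibre of a morphism from a reduced scheme over a point without proper generizations
is reduced. -/
theorem isReduced_fiber {Z Y : Scheme.{u}} [IsReduced Z] (g : Z ⟶ Y) (η : Y)
    (hη : ∀ η' : Y, η' ⤳ η → η' = η) : IsReduced (g.fiber η) := by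
  have hZ' : IsReduced (pullback g (Y.fromSpecStalk η)) :=
    isReduced_of_flat_preimmersion (pullback.fst g (Y.fromSpecStalk η))
  have hsurj := surjective_SpecMap_residue η hη
  have hcl : IsClosedImmersion (Spec.map (Y.residue η)) :=
    IsClosedImmersion.spec_of_surjective _ (Y.residue_surjective η)
  have hiso : IsIso (pullback.fst (pullback.snd g (Y.fromSpecStalk η)) (Spec.map (Y.residue η))) :=
    isIso_of_isClosedImmersion_of_surjective _
  let e : g.fiber η ≅ pullback g (Y.fromSpecStalk η) :=
    (pullbackLeftPullbackSndIso g (Y.fromSpecStalk η) (Spec.map (Y.residue η))).symm ≪≫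
      asIso (pullback.fst (pullback.snd g (Y.fromSpecStalk η)) (Spec.map (Y.residue η)))
  exact isReduced_of_isOpenImmersion e.hom


theorem eq_of_specializes_genericPoint {Y : Type*} [TopologicalSpace Y] [T0Space Y]
    (η : Y) (W : Set Y) (hW : W ∈ irreducibleComponents Y) (hη : IsGenericPoint η W)
    (η' : Y) (h : η' ⤳ η) : η' = η := by
  have h1 : W ⊆ closure {η'} := by
    rw [← hη.def]
    exact (specializes_iff_closure_subset.1 h)
  have h2 : IsIrreducible (closure ({η'} : Set Y)) := isIrreducible_singleton.closure
  have h3 : closure {η'} = W := le_antisymm (hW.2 h2 h1) h1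
  have : IsGenericPoint η' W := h3
  exact this.eq hη

end Groth.Agent.Helper5.RedFib
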