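import Mathlib
import Groth.Prelude.Def_EGA43
import Groth.Agent.Helper5.PtOpen4
import Groth.Agent.Helper5.PtOpen5
import Groth.Agent.Helper5.GenLift
import Groth.Agent.Helper5.RedFib

set_option autoImplicit false
universe u

namespace Groth.Agent.Helper5.PtOpen

open CategoryTheory CategoryTheory.Limits AlgebraicGeometry TopologicalSpace Topology

/-- (BC1) universal openness at a point, tested on an arbitrary pullback square -/
lemma isOpenAt_of_isUnivOpenAt_of_isPullback {P X Y T : Scheme.{u}} {p : P ⟶ X} {q : P ⟶ T}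
    {f : X ⟶ Y} {g : T ⟶ Y} (sq : IsPullback p q f g) (z : P)
    (h : EGA43.IsUnivOpenAt f (p z)) : EGA43.IsOpenAt q z := by
  have e1 : sq.isoPullback.hom ≫ pullback.fst f g = p := sq.isoPullback_hom_fst
  have e2 : q ≫ 𝟙 T = sq.isoPullback.hom ≫ pullback.snd f g := by
    rw [Category.comp_id, sq.isoPullback_hom_snd]
  refine isOpenAt_square_of (pullback.snd f g) q sq.isoPullback.hom (𝟙 T) e2 z ?_
  refine h T g _ ?_
  exact congrArg (fun ψ : P ⟶ X => ψ z) e1

/-- (BC2) universal openness at a point is stable under base change -/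
lemma isUnivOpenAt_of_isPullback {P X Y T : Scheme.{u}} {p : P ⟶ X} {q : P ⟶ T}
    {f : X ⟶ Y} {g : T ⟶ Y} (sq : IsPullback p q f g) (z : P)
    (h : EGA43.IsUnivOpenAt f (p z)) : EGA43.IsUnivOpenAt q z := by
  intro T' g' z' hz'
  have sq2 := (IsPullback.of_hasPullback q g').paste_horiz sq
  refine isOpenAt_of_isUnivOpenAt_of_isPullback sq2 z' ?_
  rw [Scheme.Hom.comp_apply, hz']
  exact h

/-- S4928 -/
theorem s4928 {X Y : Scheme.{u}} (f : X ⟶ Y) [LocallyOfFinitePresentation f]
    (x : X) (x₁ : ↥(pullback f (Y.fromSpecStalk (f.base x))))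
    (hx₁ : (pullback.fst f (Y.fromSpecStalk (f.base x))).base x₁ = x) :
    EGA43.IsUnivOpenAt f x ↔ EGA43.IsUnivOpenAt (pullback.snd f (Y.fromSpecStalk (f.base x))) x₁ := by
  constructor
  · intro h
    refine isUnivOpenAt_of_isPullback (IsPullback.of_hasPullback f (Y.fromSpecStalk (f.base x))) x₁ ?_
    rw [hx₁]
    exact h
  · intro h
    refine isUnivOpenAt_of_hypAt f x fun n _ w hw => ?_
    refine isOpenAt_of_lifting _ w fun t₁ ht₁ => ?_
    let ι := Y.fromSpecStalk (f.base x)
    let πY := 𝔸(ULift.{u} (Fin n); Y) ↘ Y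
    let q := pullback.snd f πY
    let ιA := pullback.fst πY ι
    let σ := pullback.snd πY ι
    let ρ := pullback.fst q ιA
    let qS := pullback.snd q ιA
    -- the point `t₀ = q w` lies in the image of `ιA`
    have hπ : πY (q w) = f x := by
      rw [← hw]
      exact (congrArg (fun ψ : pullback f πY ⟶ Y => ψ w) pullback.condition).symm
    have ht₀ : q w ∈ Set.range ιA := by
      rw [Scheme.Pullback.range_fst]
      refine ⟨IsLocalRing.closedPoint _, ?_⟩
      rw [Scheme.fromSpecStalk_closedPoint]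
      exact hπ.symm
    obtain ⟨t₀', ht₀'⟩ := ht₀
    obtain ⟨wS, hwS1, hwS2⟩ := Scheme.Pullback.exists_preimage_pullback (f := q) (g := ιA) w t₀'
      ht₀'.symm
    -- flatness lifts the generization
    have hfl : Flat ιA := inferInstance
    obtain ⟨t₁', ht₁', ht₁'2⟩ := Flat.generalizingMap ιA (ht₀' ▸ ht₁ : t₁ ⤳ ιA t₀')
    -- the square exhibiting `qS` as a base change of `f₁`
    let p' : pullback q ιA ⟶ pullback f ι :=
      pullback.lift (ρ ≫ pullback.fst f πY) (qS ≫ σ) (by
        rw [Category.assoc, pullback.condition, ← Category.assoc, pullback.condition,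
          Category.assoc, Category.assoc, pullback.condition])
    have hp'1 : p' ≫ pullback.fst f ι = ρ ≫ pullback.fst f πY := pullback.lift_fst _ _ _
    have hp'2 : p' ≫ pullback.snd f ι = qS ≫ σ := pullback.lift_snd _ _ _
    have sqo : IsPullback (ρ ≫ pullback.fst f πY) qS f (ιA ≫ πY) :=
      (IsPullback.of_hasPullback q ιA).paste_horiz (IsPullback.of_hasPullback f πY)
    have sq : IsPullback p' qS (pullback.snd f ι) σ := by
      refine IsPullback.of_right ?_ hp'2 (IsPullback.of_hasPullback f ι)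
      rw [hp'1, ← pullback.condition]
      exact sqo
    have hinj : Function.Injective (pullback.fst f ι) := (pullback.fst f ι).injective
    have hp'w : p' wS = x₁ := by
      apply hinj
      have e1 : pullback.fst f ι (p' wS) = pullback.fst f πY (ρ wS) :=
        congrArg (fun ψ : pullback q ιA ⟶ X => ψ wS) hp'1
      rw [e1, hwS1]
      exact hw.trans hx₁.symm
    have hopen : EGA43.IsOpenAt qS wS :=
      isOpenAt_of_isUnivOpenAt_of_isPullback sq wS (hp'w ▸ h)
    have ht₁'' : t₁' ⤳ qS wS := hwS2 ▸ ht₁'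
    obtain ⟨w₁, hw₁, hw₁2⟩ := GenLift.exists_generization_of_isOpenAt qS wS hopen t₁' ht₁''
    refine ⟨ρ w₁, ?_, ?_⟩
    · rw [← hwS1]
      exact hw₁.map ρ.continuous
    · have : q (ρ w₁) = ιA (qS w₁) :=
        congrArg (fun ψ : pullback q ιA ⟶ 𝔸(ULift.{u} (Fin n); Y) => ψ w₁) pullback.condition
      rw [this, hw₁2, ht₁'2]

end Groth.Agent.Helper5.PtOpen
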