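import Mathlib
import Groth.Prelude.Def_EGA43
import Groth.Prelude.Def_CAlg2
import Groth.Agent.Helper5.ChevD
import Groth.Agent.Helper5.PtOpen8
import Groth.Agent.Helper5.EqAt9
import Groth.Agent.Helper5.OpenAt4

/-!
# Universal openness at a point from a dominating component with the right fibre dimension
-/

set_option autoImplicit false
set_option linter.style.haveILetI false
universe u

namespace Groth.Agent.Helper5.Chev

open AlgebraicGeometry CategoryTheory CategoryTheory.Limits
open Groth.Agent.Helper5.EqAt Groth.Agent.Helper5.MaxPt Groth.Agent.Helper5.OpenAt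
  Groth.Agent.Helper5.SubDim

theorem isOpenAt_of_isUnivOpenAt {X Y : Scheme.{u}} (f : X ⟶ Y) (x : X)
    (h : EGA43.IsUnivOpenAt f x) : EGA43.IsOpenAt f x := by
  have sq : IsPullback (𝟙 X) f f (𝟙 Y) := IsPullback.of_horiz_isIso ⟨by simp⟩
  exact Groth.Agent.Helper5.PtOpen.isOpenAt_of_isUnivOpenAt_of_isPullback sq x h

/-- universal openness at a point of a composite `T ⟶ X ⟶ Y` gives universal openness of
`X ⟶ Y` at the image point -/
theorem isUnivOpenAt_of_comp {T X Y : Scheme.{u}} (i : T ⟶ X) (f : X ⟶ Y) (t : T)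
    (h : EGA43.IsUnivOpenAt (i ≫ f) t) : EGA43.IsUnivOpenAt f (i t) := by
  intro Y' g x' hx'
  let μ : pullback (i ≫ f) g ⟶ pullback f g :=
    pullback.map (i ≫ f) g f g i (𝟙 Y') (𝟙 Y) (by simp) (by simp)
  have hμ1 : μ ≫ pullback.fst f g = pullback.fst (i ≫ f) g ≫ i := pullback.lift_fst _ _ _
  have hμ2 : μ ≫ pullback.snd f g = pullback.snd (i ≫ f) g :=
    (pullback.lift_snd _ _ _).trans (Category.comp_id _)
  have hR : IsPullback (pullback.snd f g) (pullback.fst f g) g f :=
    (IsPullback.of_hasPullback f g).flip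
  have hO : IsPullback (μ ≫ pullback.snd f g) (pullback.fst (i ≫ f) g) g (i ≫ f) := by
    rw [hμ2]
    exact (IsPullback.of_hasPullback (i ≫ f) g).flip
  have hL : IsPullback μ (pullback.fst (i ≫ f) g) (pullback.fst f g) i :=
    IsPullback.of_right hO hμ1 hR
  obtain ⟨w, hw1, hw2⟩ := Scheme.Pullback.exists_preimage_pullback (f := pullback.fst f g)
    (g := i) x' t hx'
  let t' := hL.isoPullback.inv w
  have ht'1 : μ t' = x' := by
    have h1 : hL.isoPullback.inv ≫ μ = pullback.fst (pullback.fst f g) i :=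
      hL.isoPullback_inv_fst
    have h2 := congrArg (fun ψ => ψ w) h1
    exact h2.trans hw1
  have ht'2 : pullback.fst (i ≫ f) g t' = t := by
    have h1 : hL.isoPullback.inv ≫ pullback.fst (i ≫ f) g = pullback.snd (pullback.fst f g) i :=
      hL.isoPullback_inv_snd
    have h2 := congrArg (fun ψ => ψ w) h1
    exact h2.trans hw2
  have hop := h Y' g t' ht'2
  have hsnd : ∀ w, pullback.snd f g (μ w) = pullback.snd (i ≫ f) g w := fun w =>
    congrArg (fun ψ => ψ w) hμ2
  intro N hN
  have h1 : μ ⁻¹' N ∈ nhds t' := μ.continuous.continuousAt (by rw [ht'1]; exact hN)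
  have h2 := hop _ h1
  rw [← hsnd, ht'1] at h2
  refine Filter.mem_of_superset h2 ?_
  rintro _ ⟨s, hs, rfl⟩
  exact ⟨μ s, hs, hsnd s⟩

set_option maxHeartbeats 1000000 in
/-- **Core**: let `W` be an irreducible closed subset of `X` with generic point `ξ` such that
`f ξ` is a maximal point of `Y`, and `z ∈ W` a point over a geometrically unibranch point such that
the local dimension at `z` of `W ∩ f⁻¹(f z)` is the dimension of the generic fibre of `W`. Then
`f` is universally open at `z`. -/
theorem isUnivOpenAt_of_component {X Y : Scheme.{u}} [IsLocallyNoetherian Y] (f : X ⟶ Y)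
    [LocallyOfFiniteType f] (z : X) (hy : CAlg2.IsGeomUnibranch (Y.presheaf.stalk (f z)))
    (W : TopologicalSpace.Closeds X) (ξ : X) (hξ : closure ({ξ} : Set X) = (W : Set X))
    (hzW : z ∈ (W : Set X))
    (hfξ : closure ({f ξ} : Set Y) ∈ irreducibleComponents (Y : Type u))
    (hdim : FlatMor.localDim ↥((W : Set X) ∩ f.base ⁻¹' {f.base z})
        ⟨z, ⟨hzW, Set.mem_singleton (f.base z)⟩⟩ =
      topologicalKrullDim ↥((W : Set X) ∩ f.base ⁻¹' {f.base ξ})) :
    EGA43.IsUnivOpenAt f z := by
  let I := Scheme.IdealSheafData.vanishingIdeal W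
  let ι := I.subschemeι
  let g := ι ≫ f
  have hrange : Set.range ι = (W : Set X) := by
    rw [Scheme.IdealSheafData.range_subschemeι]; rfl
  obtain ⟨w, hw, hloc⟩ := localDim_closed_inter_fibre_eq f W z hzW
  obtain ⟨ξT, hξT⟩ : ξ ∈ Set.range ι := by
    rw [hrange, ← hξ]; exact subset_closure rfl
  have hξTgen : closure ({ξT} : Set ↥I.subscheme) = Set.univ := by
    rw [ι.isEmbedding.toIsInducing.closure_eq_preimage_closure_image, Set.image_singleton, hξT, hξ]
    refine Set.eq_univ_of_forall fun t => ?_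
    show ι t ∈ (W : Set X)
    rw [← hrange]
    exact ⟨t, rfl⟩
  obtain ⟨n, hn1, hn2⟩ := dim_closure_inter_fibre_eq_trdeg f ξ
  have hWn : topologicalKrullDim ↥((W : Set X) ∩ f.base ⁻¹' {f.base ξ}) = (n : WithBot ℕ∞) := by
    rw [← hξ]; exact hn2
  have hwn : FlatMor.fibreDimAt g w = (n : WithBot ℕ∞) := by
    rw [← hloc, hdim, hWn]
  obtain ⟨n4, hn4a, hn4b⟩ := trdeg_generic_le_fibreDimAt_sub f W ξ hξ ξT
  have q4 : n4 = n := by
    have := hn4a.symm.trans hn1
    exact_mod_cast this
  rw [q4] at hn4b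
  have hgen : ξT ⤳ w := by
    rw [specializes_iff_mem_closure, hξTgen]; trivial
  have hξTn : FlatMor.fibreDimAt g ξT = (n : WithBot ℕ∞) :=
    le_antisymm ((fibreDimAt_le_of_specializes g ξT w hgen).trans (le_of_eq hwn)) hn4b
  have hcomp : closure ({g ξT} : Set Y) ∈ irreducibleComponents (Y : Type u) := by
    show closure ({f (ι ξT)} : Set Y) ∈ _
    rw [hξT]
    exact hfξ
  have hEq : EGA43.IsEquidimAt g w := isEquidimAt_of_generic' g w ξT hξTgen n hcomp hξTn hwn
  have hgw : g w = f z := by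
    show f (ι w) = f z
    rw [hw]
  have h1 : EGA43.IsUnivOpenAt g w :=
    isUnivOpenAt_of_isEquidimAt g w hEq (geomUnibranch_congr Y _ _ hgw.symm hy)
  have h2 := isUnivOpenAt_of_comp ι f w h1
  rwa [hw] at h2

end Groth.Agent.Helper5.Chev
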