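import Mathlib
import Groth.Prelude.Def_EGA43
import Groth.Agent.Helper5.BCMin13
import Groth.Agent.Helper5.BCMin6

/-!
# Universal openness at a point follows from universal openness at the maximal points of the
fibre above it
-/

set_option autoImplicit false
set_option linter.style.haveILetI false
universe u

namespace Groth.Agent.Helper5.Chev

open AlgebraicGeometry CategoryTheory CategoryTheory.Limits

set_option maxHeartbeats 1000000 in
/-- if `f` is universally open at every maximal point of the fibre through `x` which is a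
generization of `x`, then `f` is universally open at `x` -/
theorem isUnivOpenAt_of_maximal_fibre_points {X Y : Scheme.{u}} (f : X ⟶ Y) [LocallyOfFiniteType f]
    (x : X)
    (h : ∀ z : X, f z = f x → z ⤳ x → (∀ z' : X, f z' = f x → z' ⤳ z → z' = z) →
      EGA43.IsUnivOpenAt f z) : EGA43.IsUnivOpenAt f x := by
  intro Y' g x' hx'
  let p := pullback.fst f g
  let f' := pullback.snd f g
  have hsq : IsPullback p f' f g := IsPullback.of_hasPullback f g
  let y' := f' x'
  have hcond : ∀ w, f (p w) = g (f' w) := fun w =>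
    congrArg (fun ψ => ψ w) (pullback.condition (f := f) (g := g))
  have hfx : f x = g y' := by rw [← hx']; exact hcond x'
  -- a maximal point of the fibre of `f'` generizing `x'`
  obtain ⟨ζ', hζ', hζ'max⟩ := Groth.Agent.Helper5.BCMin.exists_max_generization (f'.asFiber x')
  let z' := f'.fiberι y' ζ'
  have hz'x' : z' ⤳ x' := by
    have := hζ'.map (f'.fiberι y').continuous
    rwa [f'.fiberι_asFiber x'] at this
  have hf'z' : f' z' = y' := by
    have : z' ∈ Set.range (f'.fiberι y') := ⟨ζ', rfl⟩
    rw [f'.range_fiberι y'] at this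
    exact this
  let z := p z'
  have hfz : f z = f x := by rw [hcond, hf'z', hfx]
  have hzx : z ⤳ x := by
    have := hz'x'.map p.continuous
    rwa [hx'] at this
  -- the map between the fibres
  obtain ⟨e, he⟩ := Groth.Agent.Helper5.BCMin.fibre_iso_of_isPullback f g p f' hsq y'
  let ρ := g.residueFieldMap y'
  let π := pullback.fst (f.fiberToSpecResidueField (g y')) (Spec.map ρ)
  haveI : Flat (Spec.map ρ) := by
    rw [Flat.SpecMap_iff]
    letI := ρ.hom.toAlgebra
    exact (inferInstance : Module.Flat (Y.residueField (g y')) (Y'.residueField y'))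
  haveI : Flat π := inferInstance
  let q := e.hom ≫ π
  have hq : ∀ w, f.fiberι (g y') (q w) = p (f'.fiberι y' w) := fun w =>
    congrArg (fun ψ => ψ w) he
  have hqgen : GeneralizingMap q := by
    intro a b hb
    obtain ⟨c, hc, hcb⟩ := (Flat.generalizingMap π) hb
    refine ⟨e.inv c, ?_, ?_⟩
    · have h1 : e.inv c ⤳ e.inv (e.hom a) := hc.map e.inv.continuous
      have h2 : e.inv (e.hom a) = a := congrArg (fun ψ => ψ a) e.hom_inv_id
      rwa [h2] at h1
    · have h2 : e.hom (e.inv c) = c := congrArg (fun ψ => ψ c) e.inv_hom_id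
      show π (e.hom (e.inv c)) = b
      rw [h2, hcb]
  have hzmax : ∀ z₁ : X, f z₁ = f x → z₁ ⤳ z → z₁ = z := by
    intro z₁ hz₁ hsp
    have hz₁r : z₁ ∈ Set.range (f.fiberι (g y')) := by
      rw [f.range_fiberι (g y')]
      show f z₁ = g y'
      rw [hz₁, hfx]
    obtain ⟨ζ₁, hζ₁⟩ := hz₁r
    have hzq : z = f.fiberι (g y') (q ζ') := (hq ζ').symm
    have h1 : ζ₁ ⤳ q ζ' := by
      rw [← (f.fiberι (g y')).isEmbedding.isInducing.specializes_iff, hζ₁, ← hzq]
      exact hsp
    obtain ⟨ζ₁', hζ₁', hqζ₁'⟩ := hqgen h1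
    have h2 := hζ'max ζ₁' hζ₁'
    rw [← hζ₁, ← hqζ₁', h2, hzq]
  have hop : EGA43.IsOpenAt f' z' := h z hfz hzx hzmax Y' g z' rfl
  intro N hN
  have hN' : N ∈ nhds z' := hz'x' hN
  have h3 := hop N hN'
  rwa [hf'z'] at h3

end Groth.Agent.Helper5.Chev
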