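import Mathlib
import Groth.Prelude.Def_EGA43
import Groth.Prelude.Def_CAlg2
import Groth.Agent.Helper5.ChevE
import Groth.Agent.Helper5.ChevF

/-!
# EGA IV 14.5.?: universal openness along a fibre over a geometrically unibranch point of an
irreducible locally Noetherian scheme
-/

set_option autoImplicit false
set_option linter.style.haveILetI false
universe u

namespace Groth.Agent.Helper5.Chev

open AlgebraicGeometry CategoryTheory CategoryTheory.Limits
open Groth.Agent.Helper5.EqAt Groth.Agent.Helper5.MaxPt Groth.Agent.Helper5.OpenAt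
  Groth.Agent.Helper5.SubDim

set_option maxHeartbeats 1000000 in
/-- Let `W` be an irreducible closed subset of `X` with generic point `ξ` over a maximal point of
`Y`, `z ∈ W` a maximal point of its fibre realising the local fibre dimension of `f` at a
specialization `x` in the same fibre, such that the local dimension of `W ∩ f⁻¹(f z)` at `z` is
the generic fibre dimension of `W`. Then the restriction of `f` to `W` (reduced structure) is
equidimensional at `x`. -/
theorem isEquidimAt_subscheme_of_dim {X Y : Scheme.{u}} (f : X ⟶ Y)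
    [LocallyOfFiniteType f] (x z : X) (hzx : z ⤳ x)
    (hdimzx : FlatMor.fibreDimAt f z = FlatMor.fibreDimAt f x) (tz : ℕ)
    (htz : @Algebra.trdeg (Y.residueField (f z)) (X.residueField z) _ _
        (f.residueFieldMap z).hom.toAlgebra = tz)
    (hfdz : FlatMor.fibreDimAt f z = (tz : WithBot ℕ∞))
    (W : TopologicalSpace.Closeds X) (ξ : X) (hξ : closure ({ξ} : Set X) = (W : Set X))
    (hzW : z ∈ (W : Set X))
    (hfξ : closure ({f ξ} : Set Y) ∈ irreducibleComponents (Y : Type u))
    (hdim : FlatMor.localDim ↥((W : Set X) ∩ f.base ⁻¹' {f.base z})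
        ⟨z, ⟨hzW, Set.mem_singleton (f.base z)⟩⟩ =
      topologicalKrullDim ↥((W : Set X) ∩ f.base ⁻¹' {f.base ξ})) :
    ∃ w : ↥(Scheme.IdealSheafData.vanishingIdeal W).subscheme,
      (Scheme.IdealSheafData.vanishingIdeal W).subschemeι w = x ∧
      EGA43.IsEquidimAt ((Scheme.IdealSheafData.vanishingIdeal W).subschemeι ≫ f) w := by
  let I := Scheme.IdealSheafData.vanishingIdeal W
  let ι := I.subschemeι
  let g := ι ≫ f
  have hrange : Set.range ι = (W : Set X) := by
    rw [Scheme.IdealSheafData.range_subschemeι]; rfl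
  obtain ⟨wz, hwz, hloc⟩ := localDim_closed_inter_fibre_eq f W z hzW
  have hxW : x ∈ (W : Set X) := hzx.mem_closed W.2 hzW
  obtain ⟨wx, hwx⟩ : x ∈ Set.range ι := by rw [hrange]; exact hxW
  obtain ⟨ξT, hξT⟩ : ξ ∈ Set.range ι := by
    rw [hrange, ← hξ]; exact subset_closure rfl
  have hξTgen : closure ({ξT} : Set ↥I.subscheme) = Set.univ := by
    rw [ι.isEmbedding.toIsInducing.closure_eq_preimage_closure_image, Set.image_singleton, hξT, hξ]
    refine Set.eq_univ_of_forall fun t => ?_
    show ι t ∈ (W : Set X)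
    rw [← hrange]
    exact ⟨t, rfl⟩
  obtain ⟨n, hn1, hn2⟩ := dim_closure_inter_fibre_eq_trdeg f ξ
  have hWn : topologicalKrullDim ↥((W : Set X) ∩ f.base ⁻¹' {f.base ξ}) = (n : WithBot ℕ∞) := by
    rw [← hξ]; exact hn2
  have hwzn : FlatMor.fibreDimAt g wz = (n : WithBot ℕ∞) := by
    rw [← hloc, hdim, hWn]
  obtain ⟨n4, hn4a, hn4b⟩ := trdeg_generic_le_fibreDimAt_sub f W ξ hξ ξT
  have q4 : n4 = n := by
    have := hn4a.symm.trans hn1
    exact_mod_cast this
  rw [q4] at hn4b
  have hgen : ∀ t : ↥I.subscheme, ξT ⤳ t := fun t => by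
    rw [specializes_iff_mem_closure, hξTgen]; trivial
  have hξTn : FlatMor.fibreDimAt g ξT = (n : WithBot ℕ∞) :=
    le_antisymm ((fibreDimAt_le_of_specializes g ξT wz (hgen wz)).trans (le_of_eq hwzn)) hn4b
  -- the local fibre dimension of `g` at the point over `x`
  have hwzwx : wz ⤳ wx := by
    rw [← ι.isEmbedding.isInducing.specializes_iff, hwz, hwx]
    exact hzx
  have h1 : (n : WithBot ℕ∞) ≤ FlatMor.fibreDimAt g wx := by
    rw [← hwzn]
    exact fibreDimAt_le_of_specializes g wz wx hwzwx
  have h2 : FlatMor.fibreDimAt g wx ≤ FlatMor.fibreDimAt f x := by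
    have := fibreDimAt_closedImmersion_le ι f wx
    rwa [hwx] at this
  have h3 : FlatMor.fibreDimAt f z ≤ FlatMor.fibreDimAt g wz := by
    obtain ⟨k, m, -, -, hm, hfd⟩ := fibreDimAt_eq g wz
    have h4 := trdeg_closedImmersion_comp ι f wz
    have hm' : @Algebra.trdeg (Y.residueField (f (ι wz))) (X.residueField (ι wz)) _ _
        (f.residueFieldMap (ι wz)).hom.toAlgebra = m := h4.symm.trans hm
    have hmtz : m = tz := by
      have h5 : @Algebra.trdeg (Y.residueField (f (ι wz))) (X.residueField (ι wz)) _ _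
          (f.residueFieldMap (ι wz)).hom.toAlgebra = tz := by
        rw [hwz]; exact htz
      have := hm'.symm.trans h5
      exact_mod_cast this
    rw [hfdz, hfd, hmtz]
    exact_mod_cast Nat.le_add_left tz k
  have hwxn : FlatMor.fibreDimAt g wx = (n : WithBot ℕ∞) := by
    refine le_antisymm ?_ h1
    calc FlatMor.fibreDimAt g wx ≤ FlatMor.fibreDimAt f x := h2
      _ = FlatMor.fibreDimAt f z := hdimzx.symm
      _ ≤ FlatMor.fibreDimAt g wz := h3
      _ = (n : WithBot ℕ∞) := hwzn
  have hcomp : closure ({g ξT} : Set Y) ∈ irreducibleComponents (Y : Type u) := by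
    show closure ({f (ι ξT)} : Set Y) ∈ _
    rw [hξT]
    exact hfξ
  exact ⟨wx, hwx, isEquidimAt_of_generic' g wx ξT hξTgen n hcomp hξTn hwxn⟩

end Groth.Agent.Helper5.Chev
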