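import Mathlib
import Groth.Prelude.Def_EGA43
import Groth.Prelude.Def_CAlg2
import Groth.Agent.Helper5.ChevG

/-!
# EGA IV 14.5.?: equivalent conditions for universal openness along the fibre over a geometrically
unibranch point of an irreducible locally Noetherian scheme (S4945)
-/

set_option autoImplicit false
set_option linter.style.haveILetI false
universe u

namespace Groth.Agent.Helper5.Chev

open AlgebraicGeometry CategoryTheory CategoryTheory.Limits
open Groth.Agent.Helper5.EqAt Groth.Agent.Helper5.MaxPt Groth.Agent.Helper5.OpenAt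
  Groth.Agent.Helper5.SubDim

/-- translation of the data in condition c) -/
theorem core_data {X Y : Scheme.{u}} [IrreducibleSpace Y] (f : X ⟶ Y) (y : Y) (z : X)
    (hzy : f.base z = y) (Z : Set X) (hZ : Z ∈ irreducibleComponents (X : Type u)) (hz : z ∈ Z)
    (hdense : Dense (f.base '' Z))
    (hdim : FlatMor.localDim ↥(Z ∩ f.base ⁻¹' {y}) ⟨z, ⟨hz, hzy⟩⟩ =
      topologicalKrullDim ↥(Z ∩ f.base ⁻¹' {genericPoint Y})) :
    ∃ (W : TopologicalSpace.Closeds X) (ξ : X) (hzW : z ∈ (W : Set X)),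
      closure ({ξ} : Set X) = (W : Set X) ∧
      closure ({f ξ} : Set Y) ∈ irreducibleComponents (Y : Type u) ∧
      FlatMor.localDim ↥((W : Set X) ∩ f.base ⁻¹' {f.base z})
          ⟨z, ⟨hzW, Set.mem_singleton (f.base z)⟩⟩ =
        topologicalKrullDim ↥((W : Set X) ∩ f.base ⁻¹' {f.base ξ}) := by
  subst hzy
  have hZcl : IsClosed Z := isClosed_of_mem_irreducibleComponents Z hZ
  obtain ⟨ξ, hξ⟩ := QuasiSober.sober hZ.1 hZcl
  have hξdef : closure ({ξ} : Set X) = Z := hξ.def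
  have hfξcl : closure ({f ξ} : Set Y) = Set.univ := by
    apply Set.eq_univ_of_univ_subset
    rw [← hdense.closure_eq]
    refine closure_minimal ?_ isClosed_closure
    have := image_closure_subset_closure_image (s := ({ξ} : Set X)) f.continuous
    rw [Set.image_singleton, hξdef] at this
    exact this
  have hfξ : f ξ = genericPoint Y := by
    have h1 : IsGenericPoint (f ξ) (Set.univ : Set Y) := hfξcl
    have h2 : IsGenericPoint (genericPoint Y) (Set.univ : Set Y) := genericPoint_spec Y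
    exact h1.eq h2
  refine ⟨⟨Z, hZcl⟩, ξ, hz, hξdef, ?_, ?_⟩
  · rw [hfξcl, irreducibleComponents_eq_singleton]
    rfl
  · show FlatMor.localDim ↥(Z ∩ f.base ⁻¹' {f.base z}) ⟨z, _⟩ =
      topologicalKrullDim ↥(Z ∩ f.base ⁻¹' {f.base ξ})
    have : f.base ξ = genericPoint Y := hfξ
    rw [this]
    exact hdim

/-- openness at the points of a fibre follows from openness at the points closed in the fibre -/
theorem isOpenAt_of_isOpenAt_closed_fibre {X Y : Scheme.{u}} (f : X ⟶ Y) [LocallyOfFiniteType f]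
    (y : Y)
    (h : ∀ x : X, f x = y → (∀ x' : X, f x' = y → x ⤳ x' → x' = x) → EGA43.IsOpenAt f x)
    (x : X) (hx : f x = y) : EGA43.IsOpenAt f x := by
  intro N hN
  obtain ⟨U, hUN, hU, hxU⟩ := mem_nhds_iff.mp hN
  let ι := f.fiberι y
  let W : Set ↥(f.fiber y) := ι ⁻¹' U
  have hWo : IsOpen W := hU.preimage ι.continuous
  have hxr : x ∈ Set.range ι := by
    rw [f.range_fiberι y]
    exact hx
  obtain ⟨z₀, hz₀⟩ := hxr
  have hWne : W.Nonempty := ⟨z₀, by show ι z₀ ∈ U; rw [hz₀]; exact hxU⟩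
  obtain ⟨z, hzW, hzcl⟩ : ∃ z ∈ W, z ∈ closedPoints ↥(f.fiber y) := by
    by_contra hcon
    have h1 : closedPoints ↥(f.fiber y) ⊆ Wᶜ := fun z hz hzW => hcon ⟨z, hzW, hz⟩
    have h2 : closure (closedPoints ↥(f.fiber y)) ⊆ Wᶜ :=
      closure_minimal h1 hWo.isClosed_compl
    rw [closure_closedPoints] at h2
    obtain ⟨w, hw⟩ := hWne
    exact h2 (Set.mem_univ w) hw
  have hzcl' : IsClosed ({z} : Set ↥(f.fiber y)) := hzcl
  let x₀ := ι z
  have hfx₀ : f x₀ = y := by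
    have : x₀ ∈ Set.range ι := ⟨z, rfl⟩
    rw [f.range_fiberι y] at this
    exact this
  have hcl : ∀ x' : X, f x' = y → x₀ ⤳ x' → x' = x₀ := by
    intro x' hx' hsp
    have hx'r : x' ∈ Set.range ι := by
      rw [f.range_fiberι y]
      exact hx'
    obtain ⟨z', hz'⟩ := hx'r
    have h1 : z ⤳ z' := by
      rw [← ι.isEmbedding.isInducing.specializes_iff, hz']
      exact hsp
    have h2 : z' ∈ closure ({z} : Set ↥(f.fiber y)) := h1.mem_closure
    rw [hzcl'.closure_eq] at h2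
    rw [← hz', h2]
  have h3 := h x₀ hfx₀ hcl U (hU.mem_nhds hzW)
  rw [hfx₀, ← hx] at h3
  exact Filter.mem_of_superset h3 (Set.image_mono hUN)

section

variable {X Y : Scheme.{u}} [IrreducibleSpace Y] [IsLocallyNoetherian Y] (f : X ⟶ Y)
  [LocallyOfFiniteType f] (y : Y)

/-- b) ⇒ c) -/
theorem s4945_b_c (hB : ∀ x : X, f.base x = y → EGA43.IsOpenAt f.base x) :
    ∀ z : X, ∀ hzy : f.base z = y, (∀ z' : X, f.base z' = y → z ∈ closure {z'} → z' = z) →
      ∃ Z ∈ irreducibleComponents (X : Type u), ∃ hz : z ∈ Z, Dense (f.base '' Z) ∧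
        FlatMor.localDim ↥(Z ∩ f.base ⁻¹' {y}) ⟨z, ⟨hz, hzy⟩⟩ =
          topologicalKrullDim ↥(Z ∩ f.base ⁻¹' {genericPoint Y}) := by
  intro z hzy hmax
  let Zf : Set X := closure {z} ∩ f.base ⁻¹' {y}
  have hzZf : z ∈ Zf := ⟨subset_closure rfl, hzy⟩
  have hZy : Zf ⊆ f.base ⁻¹' {y} := Set.inter_subset_right
  have hZirr : IsIrreducible Zf :=
    isIrreducible_of_mem_of_subset_closure z _ hzZf Set.inter_subset_left
  have hZmax : ∀ Z' : Set X, IsIrreducible Z' → Z' ⊆ f.base ⁻¹' {y} → Zf ⊆ Z' → Z' = Zf := by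
    intro Z' hZ' hZ'y hsub
    obtain ⟨ζ, hζ⟩ := QuasiSober.sober hZ'.closure isClosed_closure
    have hζdef : closure ({ζ} : Set X) = closure Z' := hζ.def
    have hzZ' : z ∈ Z' := hsub hzZf
    have hζz : ζ ⤳ z := by
      rw [specializes_iff_mem_closure, hζdef]; exact subset_closure hzZ'
    have hfζ1 : f ζ ⤳ y := by rw [← hzy]; exact hζz.map f.continuous
    have hfζ2 : y ⤳ f ζ := by
      rw [specializes_iff_mem_closure]
      have h1 : ζ ∈ closure Z' := by rw [← hζdef]; exact subset_closure rfl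
      have h2 : f ζ ∈ f.base '' closure Z' := ⟨ζ, h1, rfl⟩
      have h3 := image_closure_subset_closure_image (s := Z') f.continuous h2
      refine closure_mono ?_ h3
      rintro _ ⟨t, ht, rfl⟩
      exact hZ'y ht
    have hfζ : f ζ = y := (hfζ1.antisymm hfζ2).eq
    have hζeq : ζ = z := hmax ζ hfζ (specializes_iff_mem_closure.mp hζz)
    apply Set.Subset.antisymm _ hsub
    intro t ht
    refine ⟨?_, hZ'y ht⟩
    rw [← hζeq, hζdef]
    exact subset_closure ht
  have hopen : ∀ ζ ∈ Zf, Zf ⊆ closure {ζ} → EGA43.IsOpenAt f.base ζ :=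
    fun ζ hζ _ => hB ζ (hZy hζ)
  obtain ⟨X', hX', hsub, hdense, hloc, hdim⟩ :=
    exists_dominant_component_of_isOpenAt f y Zf hZy hZirr hZmax hopen
  have hz : z ∈ X' := hsub hzZf
  refine ⟨X', hX', hz, hdense, ?_⟩
  rw [← hdim]
  exact hloc z hzZf Set.inter_subset_left ⟨hz, hzy⟩

/-- c) ⇒ a) -/
theorem s4945_c_a (hy : CAlg2.IsGeomUnibranch (Y.presheaf.stalk y))
    (hC : ∀ z : X, ∀ hzy : f.base z = y, (∀ z' : X, f.base z' = y → z ∈ closure {z'} → z' = z) →
      ∃ Z ∈ irreducibleComponents (X : Type u), ∃ hz : z ∈ Z, Dense (f.base '' Z) ∧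
        FlatMor.localDim ↥(Z ∩ f.base ⁻¹' {y}) ⟨z, ⟨hz, hzy⟩⟩ =
          topologicalKrullDim ↥(Z ∩ f.base ⁻¹' {genericPoint Y})) :
    ∀ x : X, f.base x = y → EGA43.IsUnivOpenAt f x := by
  intro x hxy
  refine isUnivOpenAt_of_maximal_fibre_points f x ?_
  intro z hfz hzx hzmax
  have hzy : f.base z = y := hfz.trans hxy
  obtain ⟨Z, hZ, hz, hdense, hdim⟩ := hC z hzy (fun z' hz' hcl =>
    hzmax z' (hz'.trans hxy.symm) (specializes_iff_mem_closure.mpr hcl))
  obtain ⟨W, ξ, hzW, hξ, hfξ, hdim'⟩ := core_data f y z hzy Z hZ hz hdense hdim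
  exact isUnivOpenAt_of_component f z (geomUnibranch_congr Y _ _ hzy.symm hy) W ξ hξ hzW hfξ hdim'

set_option maxHeartbeats 1000000 in
/-- c) ⇒ d) -/
theorem s4945_c_d
    (hC : ∀ z : X, ∀ hzy : f.base z = y, (∀ z' : X, f.base z' = y → z ∈ closure {z'} → z' = z) →
      ∃ Z ∈ irreducibleComponents (X : Type u), ∃ hz : z ∈ Z, Dense (f.base '' Z) ∧
        FlatMor.localDim ↥(Z ∩ f.base ⁻¹' {y}) ⟨z, ⟨hz, hzy⟩⟩ =
          topologicalKrullDim ↥(Z ∩ f.base ⁻¹' {genericPoint Y})) :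
    ∀ x : X, f.base x = y → (∀ x' : X, f.base x' = y → x ⤳ x' → x' = x) →
      ∃ (T : Scheme.{u}) (i : T ⟶ X), IsImmersion i ∧ IrreducibleSpace ↥T ∧ IsReduced T ∧
        x ∈ Set.range i.base ∧ LocallyOfFiniteType (i ≫ f) ∧ LocallyQuasiFinite (i ≫ f) ∧
        QuasiCompact (i ≫ f) ∧ IsDominant (i ≫ f) := by
  intro x hxy hcl
  obtain ⟨z, hfz, hzx, hzmax, hdimzx, tz, htz, hfdz⟩ := exists_max_generization_fibreDimAt_eq f x
  have hzy : f.base z = y := hfz.trans hxy
  obtain ⟨Z, hZ, hz, hdense, hdim⟩ := hC z hzy (fun z' hz' hcl =>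
    hzmax z' (hz'.trans hxy.symm) (specializes_iff_mem_closure.mpr hcl))
  obtain ⟨W, ξ, hzW, hξ, hfξ, hdim'⟩ := core_data f y z hzy Z hZ hz hdense hdim
  obtain ⟨w, hw, hEq⟩ := isEquidimAt_subscheme_of_dim f x z hzx hdimzx tz htz hfdz W ξ hξ hzW hfξ
    hdim'
  let ι := (Scheme.IdealSheafData.vanishingIdeal W).subschemeι
  let g := ι ≫ f
  have hclw : ∀ w' : ↥(Scheme.IdealSheafData.vanishingIdeal W).subscheme,
      g w' = g w → w ⤳ w' → w' = w := by
    intro w' h1 h2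
    have h3 : f (ι w') = y := by
      have : f (ι w') = f (ι w) := h1
      rw [this, hw]
      exact hxy
    have h4 : x ⤳ ι w' := by
      have := h2.map ι.continuous
      rwa [hw] at this
    have h5 := hcl _ h3 h4
    exact ι.isEmbedding.injective (h5.trans hw.symm)
  obtain ⟨e, he⟩ := fibreDimAt_nat g w
  obtain ⟨T, i', -, himm, hirr, hred, hwr, hlft, hlqf, hqc, hdom⟩ :=
    Groth.Agent.Helper5.CutSec.exists_qf_aux' (Y := Y) e _ g w hEq hclw he
  refine ⟨T, i' ≫ ι, inferInstance, hirr, hred, ?_, ?_, ?_, ?_, ?_⟩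
  · obtain ⟨t, ht⟩ := hwr
    exact ⟨t, by rw [Scheme.Hom.comp_base]; show ι (i' t) = x; rw [ht, hw]⟩
  · rw [Category.assoc]; exact hlft
  · rw [Category.assoc]; exact hlqf
  · rw [Category.assoc]; exact hqc
  · rw [Category.assoc]; exact hdom

/-- d) ⇒ b) -/
theorem s4945_d_b (hy : CAlg2.IsGeomUnibranch (Y.presheaf.stalk y))
    (hD : ∀ x : X, f.base x = y → (∀ x' : X, f.base x' = y → x ⤳ x' → x' = x) →
      ∃ (T : Scheme.{u}) (i : T ⟶ X), IsImmersion i ∧ IrreducibleSpace ↥T ∧ IsReduced T ∧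
        x ∈ Set.range i.base ∧ LocallyOfFiniteType (i ≫ f) ∧ LocallyQuasiFinite (i ≫ f) ∧
        QuasiCompact (i ≫ f) ∧ IsDominant (i ≫ f)) :
    ∀ x : X, f.base x = y → EGA43.IsOpenAt f.base x := by
  haveI : LocallyOfFinitePresentation f := Groth.Agent.Helper2.ArtSch.lfp_of_lft_noeth f
  refine isOpenAt_of_isOpenAt_closed_fibre f y ?_
  intro x₀ hx₀ hcl
  obtain ⟨T, i, -, hirr, -, ⟨t, ht⟩, hlft, hlqf, -, hdom⟩ := hD x₀ hx₀ hcl
  haveI := hirr
  haveI := hlft
  haveI := hlqf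
  haveI := hdom
  let h := i ≫ f
  have hht : h t = y := by
    show f (i.base t) = y
    rw [ht]; exact hx₀
  have hgen : h (genericPoint T) = genericPoint Y :=
    map_genericPoint_of_isDominant h
  have hmax : ∀ y' : Y, y' ⤳ h (genericPoint T) → y' = h (genericPoint T) := by
    intro y' hy'
    rw [hgen] at hy' ⊢
    exact (hy'.antisymm (genericPoint_specializes y')).eq
  refine Groth.Agent.Helper5.PtOpen.isOpenAt_of_lifting f x₀ ?_
  intro y₁ hy₁
  obtain ⟨t₁, ht₁, hht₁⟩ := Groth.Agent.Helper5.QFUni.lifting_of_unibranch h t (genericPoint T)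
    (genericPoint_specializes t) hmax (unibranch_congr Y _ _ hht.symm hy.1) y₁
    (by rw [hht, ← hx₀]; exact hy₁)
  refine ⟨i t₁, ?_, hht₁⟩
  have := ht₁.map i.continuous
  rwa [show i t = x₀ from ht] at this

/-- **S4945** -/
theorem s4945 (hy : CAlg2.IsGeomUnibranch (Y.presheaf.stalk y)) :
    List.TFAE [∀ x : X, f.base x = y → EGA43.IsUnivOpenAt f x,
      ∀ x : X, f.base x = y → EGA43.IsOpenAt f.base x,
      ∀ z : X, ∀ hzy : f.base z = y, (∀ z' : X, f.base z' = y → z ∈ closure {z'} → z' = z) →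
        ∃ Z ∈ irreducibleComponents (X : Type u), ∃ hz : z ∈ Z, Dense (f.base '' Z) ∧
          FlatMor.localDim ↥(Z ∩ f.base ⁻¹' {y}) ⟨z, ⟨hz, hzy⟩⟩ =
            topologicalKrullDim ↥(Z ∩ f.base ⁻¹' {genericPoint Y}),
      ∀ x : X, f.base x = y → (∀ x' : X, f.base x' = y → x ⤳ x' → x' = x) →
        ∃ (T : Scheme.{u}) (i : T ⟶ X), IsImmersion i ∧ IrreducibleSpace ↥T ∧ IsReduced T ∧
          x ∈ Set.range i.base ∧ LocallyOfFiniteType (i ≫ f) ∧ LocallyQuasiFinite (i ≫ f) ∧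
          QuasiCompact (i ≫ f) ∧ IsDominant (i ≫ f)] := by
  tfae_have 1 → 2 := fun h x hx => isOpenAt_of_isUnivOpenAt f x (h x hx)
  tfae_have 2 → 3 := s4945_b_c f y
  tfae_have 3 → 1 := s4945_c_a f y hy
  tfae_have 3 → 4 := s4945_c_d f y
  tfae_have 4 → 2 := s4945_d_b f y hy
  tfae_finish

end

end Groth.Agent.Helper5.Chev
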