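import Mathlib
import Groth.Prelude.Def_EGA43
import Groth.Prelude.Def_CAlg2
import Groth.Agent.Helper5.ChevH
import Groth.Agent.Helper5.GuBir3

/-!
# Openness at a maximal point of a fibre over a geometrically unibranch point implies universal
openness there (EGA IV 14.4.? c) ⇒ a))
-/

set_option autoImplicit false
set_option linter.style.haveILetI false
universe u

namespace Groth.Agent.Helper5.Chev

open AlgebraicGeometry CategoryTheory CategoryTheory.Limits
open Groth.Agent.Helper5.EqAt Groth.Agent.Helper5.MaxPt Groth.Agent.Helper5.OpenAt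
  Groth.Agent.Helper5.SubDim

/-- universal openness at a point is preserved by composition with an open immersion on the
target side -/
theorem isUnivOpenAt_comp_of_isOpenImmersion {X Y Z : Scheme.{u}} (φ : X ⟶ Y) (j : Y ⟶ Z)
    [IsOpenImmersion j] (x : X) (h : EGA43.IsUnivOpenAt φ x) : EGA43.IsUnivOpenAt (φ ≫ j) x := by
  intro Z' g x' hx'
  let e := pullbackRightPullbackFstIso j g φ
  let x₂ := e.inv x'
  have h1 : pullback.fst φ (pullback.fst j g) x₂ = x := by
    have := congrArg (fun ψ => ψ x') (pullbackRightPullbackFstIso_inv_fst j g φ)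
    exact this.trans hx'
  have hop := h (pullback j g) (pullback.fst j g) x₂ h1
  let q₂ := pullback.snd j g
  let s₂ := pullback.snd φ (pullback.fst j g)
  have hx₂ : e.hom x₂ = x' := congrArg (fun ψ => ψ x') e.inv_hom_id
  have hsnd : ∀ s, q₂ (s₂ s) = pullback.snd (φ ≫ j) g (e.hom s) := fun s =>
    (congrArg (fun ψ => ψ s) (pullbackRightPullbackFstIso_hom_snd j g φ)).symm
  intro N hN
  have h2 : e.hom ⁻¹' N ∈ nhds x₂ := e.hom.continuous.continuousAt (by rw [hx₂]; exact hN)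
  have h3 := hop _ h2
  have h4 : q₂ '' (s₂ '' (e.hom ⁻¹' N)) ∈ nhds (q₂ (s₂ x₂)) :=
    q₂.isOpenEmbedding.isOpenMap.image_mem_nhds h3
  rw [hsnd, hx₂] at h4
  refine Filter.mem_of_superset h4 ?_
  rintro _ ⟨_, ⟨s, hs, rfl⟩, rfl⟩
  exact ⟨e.hom s, hs, (hsnd s).symm⟩

theorem geomUnibranch_of_isOpenImmersion {V Y : Scheme.{u}} (j : V ⟶ Y) [IsOpenImmersion j] (v : V)
    (h : CAlg2.IsGeomUnibranch (Y.presheaf.stalk (j v))) :
    CAlg2.IsGeomUnibranch (V.presheaf.stalk v) := by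
  haveI : IsIso (j.stalkMap v) := inferInstance
  exact Groth.Agent.Helper5.GuBir.gu_of_ringEquiv
    (asIso (j.stalkMap v)).commRingCatIsoToRingEquiv h

/-- irreducible base -/
theorem isUnivOpenAt_of_isOpenAt_max_irr {X Y : Scheme.{u}} [IrreducibleSpace Y]
    [IsLocallyNoetherian Y] (f : X ⟶ Y) [LocallyOfFiniteType f] (z : X)
    (hmax : ∀ z' : X, f z' = f z → z' ⤳ z → z' = z)
    (hy : CAlg2.IsGeomUnibranch (Y.presheaf.stalk (f z))) (h : EGA43.IsOpenAt f z) :
    EGA43.IsUnivOpenAt f z := by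
  let y := f z
  let Zf : Set X := closure {z} ∩ f.base ⁻¹' {y}
  have hzZf : z ∈ Zf := ⟨subset_closure rfl, rfl⟩
  have hZy : Zf ⊆ f.base ⁻¹' {y} := Set.inter_subset_right
  have hZirr : IsIrreducible Zf :=
    isIrreducible_of_mem_of_subset_closure z _ hzZf Set.inter_subset_left
  have hZmax : ∀ Z' : Set X, IsIrreducible Z' → Z' ⊆ f.base ⁻¹' {y} → Zf ⊆ Z' → Z' = Zf := by
    intro Z' hZ' hZ'y hsub
    obtain ⟨ζ, hζ⟩ := QuasiSober.sober hZ'.closure isClosed_closure
    have hζdef : closure ({ζ} : Set X) = closure Z' := hζ.def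
    have hzZ' : z ∈ Z' := hsub hzZf
    have hζz : ζ ⤳ z := by
      rw [specializes_iff_mem_closure, hζdef]; exact subset_closure hzZ'
    have hfζ1 : f ζ ⤳ y := hζz.map f.continuous
    have hfζ2 : y ⤳ f ζ := by
      rw [specializes_iff_mem_closure]
      have h1 : ζ ∈ closure Z' := by rw [← hζdef]; exact subset_closure rfl
      have h2 : f ζ ∈ f.base '' closure Z' := ⟨ζ, h1, rfl⟩
      have h3 := image_closure_subset_closure_image (s := Z') f.continuous h2
      refine closure_mono ?_ h3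
      rintro _ ⟨t, ht, rfl⟩
      exact hZ'y ht
    have hfζ : f ζ = y := (hfζ1.antisymm hfζ2).eq
    have hζeq : ζ = z := hmax ζ hfζ hζz
    apply Set.Subset.antisymm _ hsub
    intro t ht
    refine ⟨?_, hZ'y ht⟩
    rw [← hζeq, hζdef]
    exact subset_closure ht
  have hopen : ∀ ζ ∈ Zf, Zf ⊆ closure {ζ} → EGA43.IsOpenAt f.base ζ := by
    intro ζ hζ hsub
    have h1 : ζ ⤳ z := specializes_iff_mem_closure.mpr (hsub hzZf)
    have h2 : ζ = z := hmax ζ (hZy hζ) h1
    rw [h2]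
    exact h
  obtain ⟨X', hX', hsub, hdense, hloc, hdim⟩ :=
    exists_dominant_component_of_isOpenAt f y Zf hZy hZirr hZmax hopen
  have hz : z ∈ X' := hsub hzZf
  have hdim' : FlatMor.localDim ↥(X' ∩ f.base ⁻¹' {y}) ⟨z, ⟨hz, rfl⟩⟩ =
      topologicalKrullDim ↥(X' ∩ f.base ⁻¹' {genericPoint Y}) := by
    rw [← hdim]
    exact hloc z hzZf Set.inter_subset_left ⟨hz, rfl⟩
  obtain ⟨W, ξ, hzW, hξ, hfξ, hdim''⟩ := core_data f y z rfl X' hX' hz hdense hdim'
  exact isUnivOpenAt_of_component f z hy W ξ hξ hzW hfξ hdim''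

set_option maxHeartbeats 1000000 in
/-- general locally Noetherian base -/
theorem isUnivOpenAt_of_isOpenAt_max {X Y : Scheme.{u}} [IsLocallyNoetherian Y] (f : X ⟶ Y)
    [LocallyOfFiniteType f] (z : X) (hmax : ∀ z' : X, f z' = f z → z' ⤳ z → z' = z)
    (hy : CAlg2.IsGeomUnibranch (Y.presheaf.stalk (f z))) (h : EGA43.IsOpenAt f z) :
    EGA43.IsUnivOpenAt f z := by
  haveI hdom : IsDomain (CAlg2.red (Y.presheaf.stalk (f z))) := hy.1.1
  have hN : (nilradical (Y.presheaf.stalk (f z))).IsPrime :=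
    (Ideal.Quotient.isDomain_iff_prime _).mp hdom
  obtain ⟨V, hyV, hVirr⟩ := exists_irreducible_nhd Y (f z) hN
  haveI : IrreducibleSpace ↥(V : Scheme.{u}) := hVirr
  haveI : IsLocallyNoetherian (V : Scheme.{u}) := LocallyOfFiniteType.isLocallyNoetherian V.ι
  let U : X.Opens := f ⁻¹ᵁ V
  let fV : (U : Scheme.{u}) ⟶ (V : Scheme.{u}) := f ∣_ V
  let zU : ↥(U : Scheme.{u}) := ⟨z, hyV⟩
  have hfac : fV ≫ V.ι = U.ι ≫ f := morphismRestrict_ι f V
  have hfac' : ∀ w : ↥(U : Scheme.{u}), V.ι (fV w) = f (U.ι w) := fun w =>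
    congrArg (fun ψ => ψ w) hfac
  haveI : LocallyOfFiniteType fV := inferInstance
  have hmaxU : ∀ z' : ↥(U : Scheme.{u}), fV z' = fV zU → z' ⤳ zU → z' = zU := by
    intro z' h1 h2
    have h3 : f (U.ι z') = f z := by
      rw [← hfac', h1, hfac']
      rfl
    have h4 : U.ι z' ⤳ z := h2.map U.ι.continuous
    exact U.ι.isEmbedding.injective (hmax _ h3 h4)
  have hyV' : CAlg2.IsGeomUnibranch ((V : Scheme.{u}).presheaf.stalk (fV zU)) := by
    refine geomUnibranch_of_isOpenImmersion V.ι (fV zU) ?_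
    exact geomUnibranch_congr Y _ _ (hfac' zU).symm hy
  have hopV : EGA43.IsOpenAt fV zU :=
    Groth.Agent.Helper5.PtOpen.isOpenAt_square_of f fV U.ι V.ι hfac zU h
  have h1 : EGA43.IsUnivOpenAt fV zU := isUnivOpenAt_of_isOpenAt_max_irr fV zU hmaxU hyV' hopV
  have h2 : EGA43.IsUnivOpenAt (fV ≫ V.ι) zU := isUnivOpenAt_comp_of_isOpenImmersion fV V.ι zU h1
  rw [hfac] at h2
  exact isUnivOpenAt_of_comp U.ι f zU h2

end Groth.Agent.Helper5.Chev
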