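import Groth.Agent.Helper5.PtOpen1
import Groth.Agent.Helper5.OpenAt4
import Groth.Agent.Helper5.GenLift
import Mathlib

set_option autoImplicit false
universe u
open CategoryTheory CategoryTheory.Limits AlgebraicGeometry TopologicalSpace

namespace Groth.Agent.Helper5.PtOpen

open Groth.Agent.Helper5.GenDim Groth.Agent.Helper5.KDim Groth.Agent.Helper5.MaxPt
  Groth.Agent.Helper5.BCMin

/-- (a ⟹ b') -/
theorem le_dim_of_isUnivOpenAt {X Y : Scheme.{u}} (f : X ⟶ Y) [LocallyOfFiniteType f] (x : X)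
    (hmax : ∀ x' : X, f x' = f x → x' ⤳ x → x' = x) (h : EGA43.IsUnivOpenAt f x)
    (U : X.Opens) (hxU : x ∈ U) (y' : Y) (hy' : y' ⤳ f x) :
    FlatMor.fibreDimAt f x ≤ topologicalKrullDim ↥((U : Set X) ∩ f ⁻¹' {y'}) := by
  obtain ⟨n, hn1, hn2⟩ := fibreDimAt_of_maximal f x (coheight_asFiber_eq_zero f x hmax)
  have hn : Dual3.resTrdeg f x = (n : Cardinal.{u}) := hn1
  obtain ⟨V, _, _, _, c, hc1, hc2⟩ :=
    Groth.Agent.Lead.ValSpec.exists_valuationRing_of_specializes hy'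
  let pX : pullback f c ⟶ X := pullback.fst f c
  let f' : pullback f c ⟶ Spec (CommRingCat.of V) := pullback.snd f c
  have hsq : IsPullback pX f' f c := IsPullback.of_hasPullback f c
  have hlft' : LocallyOfFiniteType f' := inferInstanceAs (LocallyOfFiniteType (pullback.snd f c))
  let o : ↥(Spec (CommRingCat.of V)) := IsLocalRing.closedPoint V
  let η : ↥(Spec (CommRingCat.of V)) := (⊥ : PrimeSpectrum V)
  have hco : c o = f x := hc1
  have hcη : c η = y' := hc2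
  have hηo : η ⤳ o :=
    (PrimeSpectrum.le_iff_specializes (⊥ : PrimeSpectrum V) (IsLocalRing.closedPoint V)).1 bot_le
  obtain ⟨ζ', hζ'1, hζ'2, hζ'3⟩ := exists_resTrdeg_eq_of_isPullback f c pX f' hsq x o hco
  have hopen : EGA43.IsOpenAt f'.base ζ' := h _ c ζ' hζ'1
  obtain ⟨γ, hγ1, hγ2⟩ := Groth.Agent.Helper5.GenLift.exists_generization_of_isOpenAt f' ζ' hopen η
    (show η ⤳ f' ζ' from hζ'2 ▸ hηo)
  have hV := resTrdeg_le_of_specializes_valuation f' γ ζ' hγ1 hγ2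
  have hF1 := resTrdeg_le_of_isPullback f c pX f' hsq γ
  have hcomm : ∀ z : ↥(pullback f c), f (pX z) = c (f' z) := by
    intro z
    exact congrArg (fun ψ : pullback f c ⟶ Y => ψ z) hsq.w
  have hγ₀x : pX γ ⤳ x := by
    have := hγ1.map pX.continuous
    rwa [hζ'1] at this
  have hfγ₀ : f (pX γ) = y' := by
    rw [hcomm, show f' γ = η from hγ2]; exact hcη
  obtain ⟨m, hm⟩ := exists_resTrdeg_nat f (pX γ)
  have hnm : n ≤ m := by
    have : (n : Cardinal.{u}) ≤ (m : Cardinal.{u}) := by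
      rw [← hm, ← hn, ← hζ'3]; exact hV.trans hF1
    exact_mod_cast this
  have hγ₀U : pX γ ∈ U := hγ₀x.mem_open U.isOpen hxU
  have := le_dim_open_inter_fibre f U (pX γ) hγ₀U m hm
  rw [hfγ₀] at this
  rw [hn2]
  exact le_trans (by exact_mod_cast hnm) this

end Groth.Agent.Helper5.PtOpen

namespace Groth.Agent.Helper5.PtOpen

open Groth.Agent.Helper5.GenDim Groth.Agent.Helper5.KDim Groth.Agent.Helper5.MaxPt
  Groth.Agent.Helper5.BCMin Groth.Agent.Helper5.EqAt Groth.Agent.Helper5.OpenAt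

set_option maxHeartbeats 1000000 in
/-- (b' ⟹ b) -/
theorem exists_component_of_le_dim {X Y : Scheme.{u}} (f : X ⟶ Y) [LocallyOfFiniteType f] (x : X)
    (hmax : ∀ x' : X, f x' = f x → x' ⤳ x → x' = x)
    (hb : ∀ U : X.Opens, x ∈ U → ∀ y' : Y, y' ⤳ f.base x →
        FlatMor.fibreDimAt f x ≤ topologicalKrullDim ↥((U : Set X) ∩ f.base ⁻¹' {y'}))
    (Y₀ : Set Y) (hY₀ : Y₀ ∈ irreducibleComponents (Y : Type u)) (hxY₀ : f.base x ∈ Y₀) :
    ∃ Z ∈ irreducibleComponents (X : Type u), ∃ hx : x ∈ Z, closure (f.base '' Z) = Y₀ ∧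
      ∀ η : Y, closure ({η} : Set Y) = Y₀ →
        FlatMor.fibreDimAt f x =
          FlatMor.localDim ↥(Z ∩ f.base ⁻¹' {f.base x}) ⟨x, ⟨hx, rfl⟩⟩ ∧
        FlatMor.localDim ↥(Z ∩ f.base ⁻¹' {f.base x}) ⟨x, ⟨hx, rfl⟩⟩ =
          topologicalKrullDim ↥(Z ∩ f.base ⁻¹' {η}) := by
  obtain ⟨n, hn1, hn2⟩ := fibreDimAt_of_maximal f x (coheight_asFiber_eq_zero f x hmax)
  obtain ⟨η₀, hη₀⟩ := QuasiSober.sober hY₀.1 (isClosed_of_mem_irreducibleComponents Y₀ hY₀)
  have hη₀def : closure ({η₀} : Set Y) = Y₀ := hη₀.def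
  have hη₀x : η₀ ⤳ f x := by
    rw [specializes_iff_mem_closure, hη₀def]; exact hxY₀
  have hη₀max : ∀ w : Y, w ⤳ η₀ → w = η₀ :=
    max_of_closure_mem_irreducibleComponents η₀ (hη₀def ▸ hY₀)
  -- the closed set of points of fibre dimension at least n
  let E : Set X := {z | (n : WithBot ℕ∞) ≤ FlatMor.fibreDimAt f z}
  have hEcl : IsClosed E := by
    rw [← isOpen_compl_iff]
    have : Eᶜ = {z : X | FlatMor.fibreDimAt f z < (n : WithBot ℕ∞)} := by
      ext z; simp [E]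
    rw [this]
    exact isOpen_fibreDimAt_lt f _
  have hxcl : x ∈ closure (E ∩ f ⁻¹' {η₀}) := by
    rw [mem_closure_iff]
    intro N hN hxN
    have h1 := hb ⟨N, hN⟩ hxN η₀ hη₀x
    rw [hn2] at h1
    obtain ⟨γ', hγ'N, hγ'η, m, hm, hnm⟩ := exists_resTrdeg_ge_open f ⟨N, hN⟩ η₀ n h1
    refine ⟨γ', hγ'N, ?_, hγ'η⟩
    obtain ⟨k, n', -, -, hn', hfd⟩ := Groth.Agent.Helper5.SubDim.fibreDimAt_eq f γ'
    have hmn' : m = n' := by
      have h2 : Dual3.resTrdeg f γ' = (n' : Cardinal.{u}) := hn'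
      rw [hm] at h2
      exact_mod_cast h2
    show (n : WithBot ℕ∞) ≤ FlatMor.fibreDimAt f γ'
    rw [hfd]
    exact_mod_cast (by omega : n ≤ k + n')
  obtain ⟨γ₁, hγ₁cl, hγ₁η, hγ₁x⟩ :=
    exists_generic_in_closure' f η₀ (E ∩ f ⁻¹' {η₀}) Set.inter_subset_right x hxcl
  have hγ₁E : γ₁ ∈ E := closure_minimal Set.inter_subset_left hEcl hγ₁cl
  obtain ⟨γ, hfγ, hγγ₁, hγmaxfib, hfdγ, tγ, htγ1, htγ2⟩ :=
    exists_max_generization_fibreDimAt_eq f γ₁
  have hγη : f γ = η₀ := hfγ.trans hγ₁η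
  have hγx : γ ⤳ x := hγγ₁.trans hγ₁x
  have htγn : tγ = n := by
    have h1 : (n : WithBot ℕ∞) ≤ (tγ : WithBot ℕ∞) := by
      rw [← htγ2, hfdγ]; exact hγ₁E
    have h2 : (tγ : WithBot ℕ∞) ≤ (n : WithBot ℕ∞) := by
      rw [← htγ2, ← hn2]
      exact fibreDimAt_le_of_specializes f γ x hγx
    have h1' : n ≤ tγ := by exact_mod_cast h1
    have h2' : tγ ≤ n := by exact_mod_cast h2
    omega
  have hγmax : ∀ w : X, w ⤳ γ → w = γ := by
    intro w hw
    have h1 : f w ⤳ f γ := hw.map f.continuous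
    rw [hγη] at h1
    have h2 : f w = η₀ := hη₀max _ h1
    exact hγmaxfib w (h2.trans hγ₁η.symm) hw
  refine ⟨closure {γ}, closure_singleton_mem_irreducibleComponents γ hγmax, hγx.mem_closure, ?_, ?_⟩
  · apply Set.Subset.antisymm
    · refine closure_minimal ?_ (isClosed_of_mem_irreducibleComponents Y₀ hY₀)
      rintro _ ⟨z, hz, rfl⟩
      have h1 : γ ⤳ z := specializes_iff_mem_closure.2 hz
      have h2 : f γ ⤳ f z := h1.map f.continuous
      rw [hγη] at h2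
      rw [← hη₀def]
      exact h2.mem_closure
    · rw [← hη₀def]
      refine closure_minimal ?_ isClosed_closure
      rw [Set.singleton_subset_iff]
      exact subset_closure ⟨γ, subset_closure rfl, hγη⟩
  · intro η hη
    have hηeq : η = η₀ := by
      have h1 : IsGenericPoint η Y₀ := hη
      exact h1.eq hη₀
    subst hηeq
    have hζ : x ∈ closure ({γ} : Set X) ∩ f.base ⁻¹' {f x} := ⟨hγx.mem_closure, rfl⟩
    obtain ⟨n0, hn0a, hn0b⟩ := localDim_closure_inter_fibre_eq f γ x hγx hmax hζ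
    have hn0 : n0 = n := by
      rw [hn1] at hn0a
      exact_mod_cast hn0a.symm
    obtain ⟨n1, hn1a, hn1b⟩ := dim_closure_inter_fibre_eq_trdeg f γ
    have hn1' : n1 = n := by
      rw [htγ1] at hn1a
      have : tγ = n1 := by exact_mod_cast hn1a
      omega
    refine ⟨?_, ?_⟩
    · rw [hn2, ← hn0]
      exact hn0b.symm
    · rw [← hγη, hn1b, hn1', ← hn0]
      exact hn0b

end Groth.Agent.Helper5.PtOpen
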