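import Mathlib
import Groth.Prelude.Def_EGA43
import Groth.Prelude.Def_CAlg2
import Groth.Agent.Helper5.ChevI
import Groth.Agent.Helper5.PtOpen2

/-!
# EGA IV 14.4.? : universal openness at a maximal point of a fibre over a geometrically unibranch
point (S4934)
-/

set_option autoImplicit false
set_option linter.style.haveILetI false
universe u

namespace Groth.Agent.Helper5.Chev

open AlgebraicGeometry CategoryTheory CategoryTheory.Limits
open Groth.Agent.Helper5.EqAt Groth.Agent.Helper5.MaxPt Groth.Agent.Helper5.OpenAt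
  Groth.Agent.Helper5.SubDim

/-- b) ⇒ a), at any point -/
theorem isUnivOpenAt_of_components {X Y : Scheme.{u}} [IsLocallyNoetherian Y] (f : X ⟶ Y)
    [LocallyOfFiniteType f] (x : X) (hy : CAlg2.IsGeomUnibranch (Y.presheaf.stalk (f.base x)))
    (hb : ∀ Y₀ ∈ irreducibleComponents (Y : Type u), f.base x ∈ Y₀ →
      ∃ Z ∈ irreducibleComponents (X : Type u), ∃ hx : x ∈ Z, closure (f.base '' Z) = Y₀ ∧
        ∀ η : Y, closure ({η} : Set Y) = Y₀ →
          FlatMor.localDim ↥(Z ∩ f.base ⁻¹' {f.base x}) ⟨x, ⟨hx, rfl⟩⟩ =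
            topologicalKrullDim ↥(Z ∩ f.base ⁻¹' {η})) :
    EGA43.IsUnivOpenAt f x := by
  obtain ⟨Z, hZ, hx, hcl, hη⟩ := hb (irreducibleComponent (f.base x))
    (irreducibleComponent_mem_irreducibleComponents _) mem_irreducibleComponent
  have hZcl : IsClosed Z := isClosed_of_mem_irreducibleComponents Z hZ
  obtain ⟨ξ, hξ⟩ := QuasiSober.sober hZ.1 hZcl
  have hξdef : closure ({ξ} : Set X) = Z := hξ.def
  have hfξcl : closure ({f.base ξ} : Set Y) = irreducibleComponent (f.base x) := by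
    rw [← hcl]
    apply Set.Subset.antisymm
    · refine closure_mono ?_
      rw [Set.singleton_subset_iff]
      exact ⟨ξ, by rw [← hξdef]; exact subset_closure rfl, rfl⟩
    · refine closure_minimal ?_ isClosed_closure
      have := image_closure_subset_closure_image (s := ({ξ} : Set X)) f.continuous
      rw [Set.image_singleton, hξdef] at this
      exact this
  have hfξ : closure ({f ξ} : Set Y) ∈ irreducibleComponents (Y : Type u) := by
    have : closure ({f ξ} : Set Y) = irreducibleComponent (f.base x) := hfξcl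
    rw [this]
    exact irreducibleComponent_mem_irreducibleComponents _
  exact isUnivOpenAt_of_component f x hy ⟨Z, hZcl⟩ ξ hξdef hx hfξ (hη (f.base ξ) hfξcl)

/-- **S4934** -/
theorem s4934 {X Y : Scheme.{u}} [IsLocallyNoetherian Y] (f : X ⟶ Y)
    [LocallyOfFiniteType f] (x : X)
    (hmax : ∀ x' : X, f.base x' = f.base x → x ∈ closure {x'} → x' = x)
    (hy : CAlg2.IsGeomUnibranch (Y.presheaf.stalk (f.base x))) :
    List.TFAE [EGA43.IsUnivOpenAt f x,
      (∀ Y₀ ∈ irreducibleComponents (Y : Type u), f.base x ∈ Y₀ →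
        ∃ Z ∈ irreducibleComponents (X : Type u), ∃ hx : x ∈ Z, closure (f.base '' Z) = Y₀ ∧
          ∀ η : Y, closure ({η} : Set Y) = Y₀ →
            FlatMor.localDim ↥(Z ∩ f.base ⁻¹' {f.base x}) ⟨x, ⟨hx, rfl⟩⟩ =
              topologicalKrullDim ↥(Z ∩ f.base ⁻¹' {η})),
      (∀ U : X.Opens, x ∈ U → ∀ y' : Y, y' ⤳ f.base x →
        FlatMor.fibreDimAt f x ≤ topologicalKrullDim ↥((U : Set X) ∩ f.base ⁻¹' {y'})),
      EGA43.IsOpenAt f.base x] := by
  have hmax' : ∀ x' : X, f x' = f x → x' ⤳ x → x' = x := fun x' h1 h2 =>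
    hmax x' h1 (specializes_iff_mem_closure.mp h2)
  tfae_have 1 → 3 := fun h U hxU y' hy' =>
    Groth.Agent.Helper5.PtOpen.le_dim_of_isUnivOpenAt f x hmax' h U hxU y' hy'
  tfae_have 3 → 2 := by
    intro hb Y₀ hY₀ hxY₀
    obtain ⟨Z, hZ, hx, hcl, hη⟩ :=
      Groth.Agent.Helper5.PtOpen.exists_component_of_le_dim f x hmax' hb Y₀ hY₀ hxY₀
    exact ⟨Z, hZ, hx, hcl, fun η h => (hη η h).2⟩
  tfae_have 2 → 1 := isUnivOpenAt_of_components f x hy
  tfae_have 1 → 4 := isOpenAt_of_isUnivOpenAt f x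
  tfae_have 4 → 1 := isUnivOpenAt_of_isOpenAt_max f x hmax' hy
  tfae_finish

end Groth.Agent.Helper5.Chev
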