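import Groth.Agent.Helper5.FibCodim2

set_option autoImplicit false
universe u
open AlgebraicGeometry CategoryTheory TopologicalSpace

namespace Groth.Agent.Helper5.StalkDict

/-- Specialisations among the images of primes of the local ring. -/
theorem fromSpecStalk_specializes_iff {X : Scheme.{u}} (x : X)
    (p q : ↥(Spec (X.presheaf.stalk x))) :
    X.fromSpecStalk x p ⤳ X.fromSpecStalk x q ↔ p.asIdeal ≤ q.asIdeal := by
  rw [(X.fromSpecStalk x).isEmbedding.toIsInducing.specializes_iff]
  exact (PrimeSpectrum.le_iff_specializes p q).symm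

theorem fromSpecStalk_specializes {X : Scheme.{u}} (x : X) (p : ↥(Spec (X.presheaf.stalk x))) :
    X.fromSpecStalk x p ⤳ x := by
  have : X.fromSpecStalk x p ∈ Set.range (X.fromSpecStalk x) := ⟨p, rfl⟩
  rw [Scheme.range_fromSpecStalk] at this
  exact this

theorem exists_prime_of_specializes {X : Scheme.{u}} (x t : X) (h : t ⤳ x) :
    ∃ p : ↥(Spec (X.presheaf.stalk x)), X.fromSpecStalk x p = t := by
  have : t ∈ Set.range (X.fromSpecStalk x) := by
    rw [Scheme.range_fromSpecStalk]; exact h
  exact this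

/-- (D2): the dimension of the quotient of the local ring by a prime is the codimension of `x` in
the closure of the corresponding generisation. -/
theorem ringKrullDim_stalk_quotient {X : Scheme.{u}} (x : X) (p : ↥(Spec (X.presheaf.stalk x))) :
    ringKrullDim (X.presheaf.stalk x ⧸ p.asIdeal) =
      Order.krullDim ↥(Set.Icc x (X.fromSpecStalk x p)) := by
  rw [ringKrullDim_quotient]
  apply le_antisymm
  · rw [← Order.krullDim_orderDual (α := ↥(Set.Icc x (X.fromSpecStalk x p)))]
    refine Order.krullDim_le_of_strictMono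
      (fun q : ↥(PrimeSpectrum.zeroLocus (p.asIdeal : Set (X.presheaf.stalk x))) =>
        OrderDual.toDual (⟨X.fromSpecStalk x q.1,
          Scheme.le_iff_specializes.2 (fromSpecStalk_specializes x q.1),
          Scheme.le_iff_specializes.2 ((fromSpecStalk_specializes_iff x p q.1).2 q.2)⟩ :
            ↥(Set.Icc x (X.fromSpecStalk x p)))) ?_
    intro q q' hqq'
    show (⟨X.fromSpecStalk x q'.1, _⟩ : ↥(Set.Icc x (X.fromSpecStalk x p))) <
      ⟨X.fromSpecStalk x q.1, _⟩
    show X.fromSpecStalk x q'.1 < X.fromSpecStalk x q.1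
    have h1 : q.1.asIdeal < q'.1.asIdeal := hqq'
    rw [lt_iff_le_not_ge, Scheme.le_iff_specializes, Scheme.le_iff_specializes,
      fromSpecStalk_specializes_iff, fromSpecStalk_specializes_iff]
    exact ⟨h1.le, fun h => absurd h1 (not_lt_of_ge h)⟩
  · rw [← Order.krullDim_orderDual
      (α := ↥(PrimeSpectrum.zeroLocus (p.asIdeal : Set (X.presheaf.stalk x))))]
    have hex : ∀ t : ↥(Set.Icc x (X.fromSpecStalk x p)),
        ∃ q : ↥(Spec (X.presheaf.stalk x)), X.fromSpecStalk x q = t.1 := fun t =>
      exists_prime_of_specializes x t.1 (Scheme.le_iff_specializes.1 t.2.1)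
    refine Order.krullDim_le_of_strictMono
      (fun t : ↥(Set.Icc x (X.fromSpecStalk x p)) =>
        OrderDual.toDual (⟨(hex t).choose, by
          show p.asIdeal ≤ (hex t).choose.asIdeal
          rw [← fromSpecStalk_specializes_iff, (hex t).choose_spec]
          exact Scheme.le_iff_specializes.1 t.2.2⟩ :
            ↥(PrimeSpectrum.zeroLocus (p.asIdeal : Set (X.presheaf.stalk x))))) ?_
    intro t t' htt'
    show (hex t').choose.asIdeal < (hex t).choose.asIdeal
    have h1 : t.1 < t'.1 := htt'
    rw [← (hex t).choose_spec, ← (hex t').choose_spec, lt_iff_le_not_ge,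
      Scheme.le_iff_specializes, Scheme.le_iff_specializes,
      fromSpecStalk_specializes_iff, fromSpecStalk_specializes_iff] at h1
    exact lt_of_le_not_ge h1.1 h1.2


/-- (D3a): minimal primes of the local ring give maximal points. -/
theorem max_of_mem_minimalPrimes {X : Scheme.{u}} (x : X) (p : ↥(Spec (X.presheaf.stalk x)))
    (hp : p.asIdeal ∈ minimalPrimes (X.presheaf.stalk x)) (t : X)
    (ht : t ⤳ X.fromSpecStalk x p) : t = X.fromSpecStalk x p := by
  obtain ⟨q, rfl⟩ := exists_prime_of_specializes x t (ht.trans (fromSpecStalk_specializes x p))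
  rw [fromSpecStalk_specializes_iff] at ht
  have h1 : p.asIdeal ≤ q.asIdeal := hp.2 ⟨q.isPrime, bot_le⟩ ht
  have h2 : q = p := PrimeSpectrum.ext (le_antisymm ht h1)
  rw [h2]

theorem coheight_of_mem_minimalPrimes {X : Scheme.{u}} (x : X) (p : ↥(Spec (X.presheaf.stalk x)))
    (hp : p.asIdeal ∈ minimalPrimes (X.presheaf.stalk x)) :
    Order.coheight (X.fromSpecStalk x p) = 0 := by
  rw [Order.coheight_eq_zero]
  intro t ht
  have := max_of_mem_minimalPrimes x p hp t (Scheme.le_iff_specializes.1 ht)
  rw [this]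

/-- (D3b): maximal points give minimal primes of the local ring. -/
theorem mem_minimalPrimes_of_max {X : Scheme.{u}} (x : X) (p : ↥(Spec (X.presheaf.stalk x)))
    (hmax : ∀ t : X, t ⤳ X.fromSpecStalk x p → t = X.fromSpecStalk x p) :
    p.asIdeal ∈ minimalPrimes (X.presheaf.stalk x) := by
  refine ⟨⟨p.isPrime, bot_le⟩, ?_⟩
  rintro q ⟨hq, -⟩ hqp
  let q' : ↥(Spec (X.presheaf.stalk x)) := ⟨q, hq⟩
  have h1 : X.fromSpecStalk x q' ⤳ X.fromSpecStalk x p :=
    (fromSpecStalk_specializes_iff x q' p).2 hqp
  have h2 := hmax _ h1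
  have h3 : q' = p := (X.fromSpecStalk x).isEmbedding.injective h2
  rw [← h3]

/-- (D4): compatibility with a morphism. -/
theorem map_fromSpecStalk {X Y : Scheme.{u}} (f : X ⟶ Y) (x : X)
    (p : ↥(Spec (X.presheaf.stalk x))) :
    f (X.fromSpecStalk x p) = Y.fromSpecStalk (f x) (Spec.map (f.stalkMap x) p) := by
  have h := Scheme.SpecMap_stalkMap_fromSpecStalk f (x := x)
  have h2 := congrArg (fun g => g.base p) h
  exact h2.symm

end Groth.Agent.Helper5.StalkDict
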