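import Groth.Agent.Helper5.EqAt6

set_option autoImplicit false
universe u
open AlgebraicGeometry CategoryTheory TopologicalSpace

namespace Groth.Agent.Helper5.EqAt

open Groth.Agent.Helper5.LocDE Groth.Agent.Helper5.VarDim Groth.Agent.Helper5.MaxPt
  Groth.Agent.Helper5.SubDim Groth.Agent.Helper5.StalkDict Groth.Agent.Helper5.OpenAt

/-- (L-a): restricting to a closed subscheme does not increase the local fibre dimension. -/
theorem fibreDimAt_closedImmersion_le {T X Y : Scheme.{u}} (ιX : T ⟶ X) [IsClosedImmersion ιX]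
    (f : X ⟶ Y) [LocallyOfFiniteType f] (w : T) :
    FlatMor.fibreDimAt (ιX ≫ f) w ≤ FlatMor.fibreDimAt f (ιX w) := by
  let g : T ⟶ Y := ιX ≫ f
  obtain ⟨k', n', -, hk', hn', hfd'⟩ := fibreDimAt_eq g w
  obtain ⟨k, n, -, hk, hn, hfd⟩ := fibreDimAt_eq f (ιX w)
  have hnn : n' = n := by
    have h3 := trdeg_closedImmersion_comp ιX f w
    have : (n' : Cardinal.{u}) = (n : Cardinal.{u}) := hn'.symm.trans (h3.trans hn)
    exact_mod_cast this
  have hkk : k' ≤ k := by
    let j1 : g.fiber (g w) ⟶ X := g.fiberι (g w) ≫ ιX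
    have hemb1 : Topology.IsEmbedding j1 := j1.isEmbedding
    have h1 := coheight_eq_krullDim_of_isEmbedding j1 hemb1 (g.asFiber w)
    have h2 := coheight_eq_krullDim_of_isEmbedding (f.fiberι (f (ιX w)))
      (f.fiberι (f (ιX w))).isEmbedding (f.asFiber (ιX w))
    have hj1 : j1 (g.asFiber w) = ιX w := by
      show ιX (g.fiberι (g w) (g.asFiber w)) = ιX w
      rw [g.fiberι_asFiber]
    have hsub : {t : X | t ∈ Set.range j1 ∧ j1 (g.asFiber w) ≤ t} ⊆
        {t : X | t ∈ Set.range (f.fiberι (f (ιX w))) ∧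
          (f.fiberι (f (ιX w))) (f.asFiber (ιX w)) ≤ t} := by
      rintro t ⟨⟨z, rfl⟩, h2⟩
      rw [hj1] at h2
      refine ⟨?_, by rw [f.fiberι_asFiber]; exact h2⟩
      rw [Scheme.Hom.range_fiberι]
      show f (ιX (g.fiberι (g w) z)) = f (ιX w)
      exact apply_fiberι g (g w) z
    have h3 := krullDim_mono_set hsub
    rw [← h1, ← h2, hk', hk] at h3
    exact_mod_cast h3
  rw [hfd', hfd, hnn]
  exact_mod_cast Nat.add_le_add_right hkk n

/-- (L-b): the generic fibre dimension of a closed irreducible subset bounds below the local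
fibre dimension of the restriction at every point. -/
theorem trdeg_generic_le_fibreDimAt_sub {X Y : Scheme.{u}} (f : X ⟶ Y) [LocallyOfFiniteType f]
    (X'c : TopologicalSpace.Closeds X) (ξ : X) (hξ : closure ({ξ} : Set X) = (X'c : Set X))
    (w : ↥(Scheme.IdealSheafData.vanishingIdeal X'c).subscheme) :
    ∃ n0 : ℕ, @Algebra.trdeg (Y.residueField (f ξ)) (X.residueField ξ) _ _
        (f.residueFieldMap ξ).hom.toAlgebra = n0 ∧
      (n0 : WithBot ℕ∞) ≤
        FlatMor.fibreDimAt ((Scheme.IdealSheafData.vanishingIdeal X'c).subschemeι ≫ f) w := by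
  have hrange : Set.range (Scheme.IdealSheafData.vanishingIdeal X'c).subschemeι = (X'c : Set X) := by
    rw [Scheme.IdealSheafData.range_subschemeι]; rfl
  obtain ⟨ξT, hξT⟩ : ξ ∈ Set.range (Scheme.IdealSheafData.vanishingIdeal X'c).subschemeι := by
    rw [hrange, ← hξ]; exact subset_closure rfl
  subst hξT
  have hξTgen : closure ({ξT} : Set ↥(Scheme.IdealSheafData.vanishingIdeal X'c).subscheme) =
      Set.univ := by
    rw [(Scheme.IdealSheafData.vanishingIdeal X'c).subschemeι.isEmbedding.toIsInducing.closure_eq_preimage_closure_image,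
      Set.image_singleton, hξ]
    refine Set.eq_univ_of_forall fun t => ?_
    show (Scheme.IdealSheafData.vanishingIdeal X'c).subschemeι t ∈ (X'c : Set X)
    rw [← hrange]
    exact ⟨t, rfl⟩
  have hgen : ∀ t : ↥(Scheme.IdealSheafData.vanishingIdeal X'c).subscheme, ξT ⤳ t := fun t => by
    rw [specializes_iff_mem_closure, hξTgen]; trivial
  have hmaxξ : ∀ t : ↥(Scheme.IdealSheafData.vanishingIdeal X'c).subscheme,
      ((Scheme.IdealSheafData.vanishingIdeal X'c).subschemeι ≫ f) t =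
        ((Scheme.IdealSheafData.vanishingIdeal X'c).subschemeι ≫ f) ξT → t ⤳ ξT → t = ξT :=
    fun t _ ht => (ht.antisymm (hgen t)).eq
  obtain ⟨n0, hn0a, hn0b⟩ := fibreDimAt_of_maximal
    ((Scheme.IdealSheafData.vanishingIdeal X'c).subschemeι ≫ f) ξT
    (coheight_asFiber_eq_zero _ ξT hmaxξ)
  have htr := trdeg_closedImmersion_comp (Scheme.IdealSheafData.vanishingIdeal X'c).subschemeι f ξT
  refine ⟨n0, htr.symm.trans hn0a, ?_⟩
  rw [← hn0b]
  exact fibreDimAt_le_of_specializes _ ξT w (hgen w)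


/-- The local dimension at `x` of the trace of a closed subset on the fibre through `x` is the
local fibre dimension of the restriction to the reduced closed subscheme. -/
theorem localDim_closed_inter_fibre_eq {X Y : Scheme.{u}} (f : X ⟶ Y)
    (X'c : TopologicalSpace.Closeds X) (x : X) (hx : x ∈ (X'c : Set X)) :
    ∃ w : ↥(Scheme.IdealSheafData.vanishingIdeal X'c).subscheme,
      (Scheme.IdealSheafData.vanishingIdeal X'c).subschemeι w = x ∧
      FlatMor.localDim ↥((X'c : Set X) ∩ f.base ⁻¹' {f.base x})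
          ⟨x, ⟨hx, Set.mem_singleton (f.base x)⟩⟩ =
        FlatMor.fibreDimAt ((Scheme.IdealSheafData.vanishingIdeal X'c).subschemeι ≫ f) w := by
  have hrange : Set.range (Scheme.IdealSheafData.vanishingIdeal X'c).subschemeι = (X'c : Set X) := by
    rw [Scheme.IdealSheafData.range_subschemeι]; rfl
  obtain ⟨w, hw⟩ : x ∈ Set.range (Scheme.IdealSheafData.vanishingIdeal X'c).subschemeι := by
    rw [hrange]; exact hx
  subst hw
  refine ⟨w, rfl, ?_⟩
  have hmem : (Scheme.IdealSheafData.vanishingIdeal X'c).subschemeι w ∈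
      Set.range (Scheme.IdealSheafData.vanishingIdeal X'c).subschemeι ∩
        f ⁻¹' {f ((Scheme.IdealSheafData.vanishingIdeal X'c).subschemeι w)} := ⟨⟨w, rfl⟩, rfl⟩
  rw [← localDim_inter_fibre f (Scheme.IdealSheafData.vanishingIdeal X'c).subschemeι w hmem]
  exact localDim_congr_set _ _ (by rw [hrange]) _ _ _

/-- (⇒) of the component criterion for equidimensionality (S3456). -/
theorem criterion_of_isEquidimAt {X Y : Scheme.{u}} [IsLocallyNoetherian Y] (f : X ⟶ Y)
    [LocallyOfFiniteType f] (x : X) (h : EGA43.IsEquidimAt f x) :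
    ∃ e : ℕ, ∀ Xj ∈ irreducibleComponents (X : Type u), ∀ hx : x ∈ Xj,
        closure (f.base '' Xj) ∈ irreducibleComponents (Y : Type u) ∧
        (∀ η : Y, closure ({η} : Set Y) = closure (f.base '' Xj) →
          topologicalKrullDim ↥(Xj ∩ f.base ⁻¹' {η}) = e) ∧
        FlatMor.localDim ↥(Xj ∩ f.base ⁻¹' {f.base x})
          ⟨x, ⟨hx, Set.mem_singleton (f.base x)⟩⟩ = e := by
  obtain ⟨e, U, hxU, C1, C2⟩ := h
  refine ⟨e, ?_⟩
  intro Xj hXj hx
  have hXjcl : IsClosed Xj := isClosed_of_mem_irreducibleComponents Xj hXj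
  obtain ⟨ξ, hξ⟩ := QuasiSober.sober hXj.1 hXjcl
  have hξdef : closure ({ξ} : Set X) = Xj := hξ.def
  have hξx : ξ ⤳ x := by rw [specializes_iff_mem_closure, hξdef]; exact hx
  have hξU : ξ ∈ U := hξx.mem_open U.2 hxU
  have hmaxξ : ∀ w : X, w ⤳ ξ → w = ξ := fun w hw =>
    max_of_closure_mem_irreducibleComponents ξ (by rw [hξdef]; exact hXj) w hw
  have hξ0 : Order.coheight ξ = 0 := by
    rw [Order.coheight_eq_zero]
    intro b hb
    rw [hmaxξ b (Scheme.le_iff_specializes.1 hb)]
  have hmaxf : ∀ η : Y, η ⤳ f ξ → η = f ξ := fun η hη =>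
    max_map_of_components f U (f x) C1 ⟨ξ, hξU⟩ hξ0 η hη
  have hcl : closure (f.base '' Xj) = closure ({f ξ} : Set Y) := by
    rw [← hξdef]
    apply subset_antisymm
    · refine closure_minimal ?_ isClosed_closure
      have := image_closure_subset_closure_image (s := ({ξ} : Set X)) f.continuous
      rw [Set.image_singleton] at this
      exact this
    · refine closure_mono ?_
      rw [Set.singleton_subset_iff]
      exact ⟨ξ, subset_closure rfl, rfl⟩
  obtain ⟨n0, hn0a, hn0b⟩ := fibreDimAt_of_maximal f ξ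
    (coheight_asFiber_eq_zero f ξ (fun w _ hw => hmaxξ w hw))
  have heξ : FlatMor.fibreDimAt f ξ = (e : WithBot ℕ∞) :=
    fibreDimAt_of_components f U e C2 ⟨ξ, hξU⟩
  have hex : FlatMor.fibreDimAt f x = (e : WithBot ℕ∞) :=
    fibreDimAt_of_components f U e C2 ⟨x, hxU⟩
  have q0 : n0 = e := by
    rw [hn0b] at heξ
    exact_mod_cast heξ
  refine ⟨?_, ?_, ?_⟩
  · rw [hcl]
    exact closure_singleton_mem_irreducibleComponents (f ξ) hmaxf
  · intro η hη
    rw [hcl] at hη
    have h1 : η ⤳ f ξ := by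
      rw [specializes_iff_closure_subset, hη]
    have hηeq : η = f ξ := hmaxf η h1
    subst hηeq
    obtain ⟨n2, hn2a, hn2b⟩ := dim_closure_inter_fibre_eq_trdeg f ξ
    have q2 : n2 = n0 := by
      have := hn2a.symm.trans hn0a
      exact_mod_cast this
    rw [← hξdef, hn2b, q2, q0]
  · let X'c : TopologicalSpace.Closeds X := ⟨Xj, hXjcl⟩
    obtain ⟨w, hw, hloc⟩ := localDim_closed_inter_fibre_eq f X'c x hx
    have h1 : FlatMor.localDim ↥(Xj ∩ f.base ⁻¹' {f.base x})
        ⟨x, ⟨hx, Set.mem_singleton (f.base x)⟩⟩ =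
        FlatMor.fibreDimAt ((Scheme.IdealSheafData.vanishingIdeal X'c).subschemeι ≫ f) w := hloc
    rw [h1]
    apply le_antisymm
    · have h2 := fibreDimAt_closedImmersion_le
        (Scheme.IdealSheafData.vanishingIdeal X'c).subschemeι f w
      rw [hw, hex] at h2
      exact h2
    · obtain ⟨n3, hn3a, hn3b⟩ := trdeg_generic_le_fibreDimAt_sub f X'c ξ hξdef w
      have q3 : n3 = n0 := by
        have := hn3a.symm.trans hn0a
        exact_mod_cast this
      rw [q3, q0] at hn3b
      exact hn3b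


/-- General construction of the open set in the definition of equidimensionality. -/
theorem isEquidimAt_of_key {X Y : Scheme.{u}} [IsLocallyNoetherian X] (f : X ⟶ Y)
    [LocallyOfFiniteType f] (x : X) (e : ℕ)
    (hxe : FlatMor.fibreDimAt f x ≤ (e : WithBot ℕ∞))
    (key : ∀ ξ : X, ξ ⤳ x → Order.coheight ξ = 0 →
      FlatMor.fibreDimAt f ξ = (e : WithBot ℕ∞) ∧
        closure ({f ξ} : Set Y) ∈ irreducibleComponents (Y : Type u)) :
    EGA43.IsEquidimAt f x := by
  obtain ⟨U1, hxU1, hU1⟩ := exists_open_max_specializes X x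
  let U2 : X.Opens := ⟨{t | FlatMor.fibreDimAt f t ≤ (e : WithBot ℕ∞)},
    Groth.Agent.Helper5.FibDim.isOpen_fibreDimAt_le f _⟩
  let U : X.Opens := U1 ⊓ U2
  refine ⟨e, U, ⟨hxU1, hxe⟩, ?_, ?_⟩
  · intro (Z : Set ↥(U : Scheme.{u})) (hZ : Z ∈ irreducibleComponents ↥(U : Scheme.{u}))
    have hZcl : IsClosed Z := isClosed_of_mem_irreducibleComponents Z hZ
    obtain ⟨ξU, hξU⟩ := QuasiSober.sober hZ.1 hZcl
    have hξUdef : closure ({ξU} : Set ↥(U : Scheme.{u})) = Z := hξU.def
    have hmaxU : ∀ w : ↥(U : Scheme.{u}), w ⤳ ξU → w = ξU := fun w hw =>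
      max_of_closure_mem_irreducibleComponents ξU (by rw [hξUdef]; exact hZ) w hw
    have hξ0 : Order.coheight (U.ι ξU) = 0 := by
      rw [Order.coheight_eq_zero]
      intro b hb
      have hbsp : b ⤳ U.ι ξU := Scheme.le_iff_specializes.1 hb
      have hbU : b ∈ U := hbsp.mem_open U.2 ξU.2
      let bU : ↥(U : Scheme.{u}) := ⟨b, hbU⟩
      have hbb : U.ι bU = b := rfl
      have h1 : bU ⤳ ξU := by
        rw [← U.ι.isEmbedding.toIsInducing.specializes_iff, hbb]; exact hbsp
      have h2 := hmaxU _ h1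
      have h3 : b = U.ι ξU := by rw [← h2, hbb]
      rw [h3]
    have hξx : U.ι ξU ⤳ x := hU1 _ ξU.2.1 hξ0
    obtain ⟨-, hcomp⟩ := key _ hξx hξ0
    refine ⟨closure {f (U.ι ξU)}, hcomp,
      specializes_iff_mem_closure.1 (hξx.map f.continuous), ?_⟩
    rw [← hξUdef]
    apply subset_antisymm
    · refine closure_minimal ?_ isClosed_closure
      have := image_closure_subset_closure_image (s := ({ξU} : Set ↥(U : Scheme.{u})))
        (U.ι ≫ f).continuous
      rw [Set.image_singleton] at this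
      exact this
    · refine closure_mono ?_
      rw [Set.singleton_subset_iff]
      exact ⟨ξU, subset_closure rfl, rfl⟩
  · intro x' Z hZ
    obtain ⟨t₀, -, hdimZ⟩ := dim_component_fibre_eq (U.ι ≫ f) _ Z hZ
    rw [hdimZ, fibreDimAt_open_restrict f U t₀]
    apply le_antisymm
    · exact t₀.2.2
    · obtain ⟨Nt, -, hNt2⟩ := ringKrullDim_stalk_nat X (U.ι t₀)
      obtain ⟨ξ, htξ, hξ0⟩ := exists_max_above (U.ι t₀)
        (by rw [hNt2]; exact ENat.natCast_ne_top Nt)
      have hξt : ξ ⤳ U.ι t₀ := Scheme.le_iff_specializes.1 htξ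
      have hξU1 : ξ ∈ U1 := hξt.mem_open U1.2 t₀.2.1
      obtain ⟨hfdξ, -⟩ := key ξ (hU1 ξ hξU1 hξ0) hξ0
      rw [← hfdξ]
      exact fibreDimAt_le_of_specializes f ξ _ hξt

end Groth.Agent.Helper5.EqAt
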