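import Groth.Agent.Helper5.FibDim8

set_option autoImplicit false
universe u
open TensorProduct PrimeSpectrum TopologicalSpace

namespace Groth.Agent.Helper5.FibDim

set_option maxHeartbeats 1600000 in
theorem exists_quasiFinite_mvPolynomial_away {R S : Type u} [CommRing R] [CommRing S]
    [Algebra R S] [Algebra.FiniteType R S] (p : Ideal R) [p.IsPrime] (q : Ideal S) [q.IsPrime]
    [q.LiesOver p] (Q : PrimeSpectrum (p.Fiber S))
    (hQ : Q.asIdeal.comap (Algebra.TensorProduct.includeRight.toRingHom) = q) (n : ℕ)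
    (hdim : FlatMor.localDim (PrimeSpectrum (p.Fiber S)) Q = (n : WithBot ℕ∞)) :
    ∃ g : S, g ∉ q ∧ ∃ φ : MvPolynomial (Fin n) R →ₐ[R] Localization.Away g,
      φ.toRingHom.FiniteType ∧ φ.toRingHom.QuasiFinite := by
  obtain ⟨s, hsq, hs⟩ := exists_away_fiber_dim_eq_localDim p q Q hQ
  rw [hdim] at hs
  let A := Localization.Away s
  let q' : Ideal A := q.map (algebraMap S A)
  have hdisj : Disjoint (Submonoid.powers s : Set S) (q : Set S) := by
    rw [Set.disjoint_left]
    rintro _ ⟨k, rfl⟩ hk
    exact hsq (Ideal.IsPrime.mem_of_pow_mem inferInstance k hk)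
  have hq'prime : q'.IsPrime :=
    IsLocalization.isPrime_of_isPrime_disjoint (Submonoid.powers s) A q inferInstance hdisj
  have hq'comap : q'.comap (algebraMap S A) = q :=
    IsLocalization.under_map_of_isPrime_disjoint (Submonoid.powers s) A inferInstance hdisj
  have hq'under : q'.under R = p := by
    show q'.comap (algebraMap R A) = p
    rw [IsScalarTower.algebraMap_eq R S A, ← Ideal.comap_comap, hq'comap]
    exact (Ideal.LiesOver.over (p := p) (P := q)).symm
  have hnt : Nontrivial (p.Fiber A) := by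
    by_contra h
    rw [not_nontrivial_iff_subsingleton] at h
    rw [ringKrullDim_eq_bot_of_subsingleton] at hs
    exact absurd hs.symm (by simp)
  obtain ⟨e, a, he, hfin⟩ := exists_finite_fiber_mvPolynomial (R := R) (A := A) p
  have hen : e = n := by
    rw [hs] at he
    exact_mod_cast he
  subst hen
  let ψ : MvPolynomial (Fin e) R →ₐ[R] A := MvPolynomial.aeval a
  let _ : Algebra (MvPolynomial (Fin e) R) A := ψ.toRingHom.toAlgebra
  have htower : IsScalarTower R (MvPolynomial (Fin e) R) A :=
    IsScalarTower.of_algebraMap_eq' ψ.comp_algebraMap.symm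
  have hX : ∀ i, algebraMap (MvPolynomial (Fin e) R) A (MvPolynomial.X i) = a i := by
    intro i
    show ψ (MvPolynomial.X i) = a i
    simp [ψ]
  have hft : Algebra.FiniteType (MvPolynomial (Fin e) R) A :=
    .of_restrictScalars_finiteType R _ _
  have hqf : Algebra.QuasiFiniteAt (MvPolynomial (Fin e) R) q' :=
    quasiFiniteAt_of_finite_fiber p e a hfin hX q' hq'under
  obtain ⟨S', hS', r, hrq, H⟩ :=
    Algebra.QuasiFiniteAt.exists_fg_and_exists_notMem_and_awayMap_bijective
      (R := MvPolynomial (Fin e) R) q'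
  have hfinS' : Module.Finite (MvPolynomial (Fin e) R) S' := ⟨(Submodule.fg_top _).mpr hS'⟩
  have hqf1 : Algebra.QuasiFinite (MvPolynomial (Fin e) R) (Localization.Away r) :=
    .trans _ S' _
  have hqf2 : Algebra.QuasiFinite (MvPolynomial (Fin e) R) (Localization.Away r.1) :=
    Algebra.QuasiFinite.of_surjective_algHom (R := MvPolynomial (Fin e) R)
      (S := Localization.Away r) (T := Localization.Away r.1)
      (Localization.awayMapₐ S'.val r) H.2
  obtain ⟨⟨r0, ⟨_, k, rfl⟩⟩, hr0⟩ := IsLocalization.surj (Submonoid.powers s) (S := A) r.1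
  have hr0' : r.1 * algebraMap S A (s ^ k) = algebraMap S A r0 := hr0
  have hunit : IsUnit (algebraMap S A (s ^ k)) :=
    IsLocalization.map_units A (⟨s ^ k, k, rfl⟩ : Submonoid.powers s)
  have hassoc : Associated (algebraMap S A r0) r.1 := by
    refine Associated.symm ?_
    exact ⟨hunit.unit, hr0'⟩
  have hr0q : r0 ∉ q := by
    intro h
    have h1 : algebraMap S A r0 ∈ q' := Ideal.mem_map_of_mem _ h
    rw [← hr0'] at h1
    rcases hq'prime.mem_or_mem h1 with h2 | h2
    · exact hrq h2
    · exact hq'prime.ne_top (Ideal.eq_top_of_isUnit_mem _ h2 hunit)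
  let T := Localization.Away r.1
  have hT : IsLocalization.Away (s * r0) T :=
    IsLocalization.Away.mul_of_associated s r0 r.1 hassoc
  let eT : Localization.Away (s * r0) ≃ₐ[S] T :=
    IsLocalization.algEquiv (Submonoid.powers (s * r0)) _ _
  refine ⟨s * r0, fun h => (Ideal.IsPrime.mem_or_mem inferInstance h).elim hsq hr0q, ?_⟩
  let φ0 : MvPolynomial (Fin e) R →ₐ[R] T := IsScalarTower.toAlgHom R (MvPolynomial (Fin e) R) T
  let eT' : T ≃ₐ[R] Localization.Away (s * r0) := (eT.symm.restrictScalars R)
  refine ⟨eT'.toAlgHom.comp φ0, ?_, ?_⟩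
  · have hftT : Algebra.FiniteType (MvPolynomial (Fin e) R) T :=
      Algebra.FiniteType.trans hft inferInstance
    have h1 : (algebraMap (MvPolynomial (Fin e) R) T).FiniteType :=
      RingHom.finiteType_algebraMap.2 hftT
    exact RingHom.finiteType_respectsIso.left _ eT'.toRingEquiv h1
  · have h1 : (algebraMap (MvPolynomial (Fin e) R) T).QuasiFinite :=
      RingHom.quasiFinite_algebraMap.2 hqf2
    exact RingHom.QuasiFinite.respectsIso.left _ eT'.toRingEquiv h1

end Groth.Agent.Helper5.FibDim
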