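import Mathlib
import Groth.Prelude.Def_EGA43
import Groth.Prelude.Def_Flat
import Groth.Agent.Helper5.FibDim9
import Groth.Agent.Helper5.EtFib
import Groth.Agent.Helper5.LscDim5
import Groth.Agent.Helper5.SubDim5

/-!
# Local factorization of a morphism locally of finite type through a quasi-finite morphism to an
affine space over the base (EGA IV 13.3.1 a ⇒ b, first step)
-/

set_option autoImplicit false
set_option linter.style.haveILetI false
universe u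

namespace Groth.Agent.Helper5.QfAff

open AlgebraicGeometry CategoryTheory CategoryTheory.Limits TopologicalSpace

set_option maxHeartbeats 1000000 in
theorem exists_lqf_to_affineSpace {X Y : Scheme.{u}} (f : X ⟶ Y) [LocallyOfFiniteType f] (x : X)
    (e : ℕ) (he : FlatMor.fibreDimAt f x = (e : WithBot ℕ∞)) (U₀ : X.Opens) (hx : x ∈ U₀) :
    ∃ (U : X.Opens) (g : (U : Scheme.{u}) ⟶ 𝔸(ULift.{u} (Fin e); Y)), x ∈ U ∧ U ≤ U₀ ∧
      g ≫ (𝔸(ULift.{u} (Fin e); Y) ↘ Y) = U.ι ≫ f ∧ LocallyQuasiFinite g := by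
  obtain ⟨_, ⟨V : Y.Opens, hV, rfl⟩, hxV, -⟩ := Y.isBasis_affineOpens.exists_subset_of_mem_open
      (Set.mem_univ (f x)) isOpen_univ
  obtain ⟨_, ⟨W : X.Opens, hW, rfl⟩, hxW, hWV⟩ := X.isBasis_affineOpens.exists_subset_of_mem_open
      (⟨hxV, hx⟩ : x ∈ (f ⁻¹ᵁ V ⊓ U₀ : X.Opens)) (f ⁻¹ᵁ V ⊓ U₀).2
  have hWV' : W ≤ f ⁻¹ᵁ V := fun z hz => (hWV hz).1
  have hWU₀ : W ≤ U₀ := fun z hz => (hWV hz).2
  let φ := f.appLE V W hWV'
  have hφ : φ.hom.FiniteType := f.finiteType_appLE hV hW hWV'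
  let g₀ := Spec.map φ
  let ι := hW.fromSpec
  let j := hV.fromSpec
  have hsq : g₀ ≫ j = ι ≫ f := IsAffineOpen.SpecMap_appLE_fromSpec f hV hW hWV'
  let q : ↥(Spec Γ(X, W)) := hW.primeIdealOf ⟨x, hxW⟩
  have hq : ι q = x := hW.fromSpec_primeIdealOf ⟨x, hxW⟩
  haveI : LocallyOfFiniteType g₀ := (HasRingHomProperty.Spec_iff (P := @LocallyOfFiniteType)).mpr hφ
  have hfd : FlatMor.fibreDimAt g₀ q = (e : WithBot ℕ∞) := by
    rw [← he, ← hq]
    exact (Groth.Agent.Helper5.EtFib.fibreDimAt_etale_square f g₀ ι j hsq q).symm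
  algebraize [φ.hom]
  haveI : Algebra.FiniteType ↑Γ(Y, V) ↑Γ(X, W) := hφ
  let p : PrimeSpectrum Γ(Y, V) := PrimeSpectrum.comap (algebraMap Γ(Y, V) Γ(X, W)) q
  let Q := PrimeSpectrum.preimageHomeomorphFiber Γ(Y, V) Γ(X, W) p ⟨q, rfl⟩
  have hQ : Q.asIdeal.comap (Algebra.TensorProduct.includeRight.toRingHom) = q.asIdeal := by
    have h1 := (PrimeSpectrum.preimageEquivFiber Γ(Y, V) Γ(X, W) p).left_inv ⟨q, rfl⟩
    have h2 := congrArg (fun z => z.1.asIdeal) h1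
    exact h2
  have hdim : FlatMor.localDim (PrimeSpectrum (p.asIdeal.Fiber Γ(X, W))) Q = (e : WithBot ℕ∞) := by
    rw [← Groth.Agent.Helper5.SubDim.localDim_homeomorph
      (PrimeSpectrum.preimageHomeomorphFiber Γ(Y, V) Γ(X, W) p) ⟨q, rfl⟩]
    exact (Groth.Agent.Helper5.LscDim.localDim_preimage g₀ p q rfl).trans hfd
  haveI : q.asIdeal.LiesOver p.asIdeal := ⟨rfl⟩
  obtain ⟨r, hrq, ψ, hψft, hψqf⟩ :=
    Groth.Agent.Helper5.FibDim.exists_quasiFinite_mvPolynomial_away p.asIdeal q.asIdeal Q hQ e hdim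
  -- the open subscheme
  let Sr : CommRingCat.{u} := CommRingCat.of (Localization.Away r)
  let a : Spec Sr ⟶ Spec Γ(X, W) := Spec.map (CommRingCat.ofHom (algebraMap Γ(X, W) (Localization.Away r)))
  haveI : IsOpenImmersion a := inferInstance
  let jj : Spec Sr ⟶ X := a ≫ ι
  haveI : IsOpenImmersion jj := inferInstance
  let U : X.Opens := jj.opensRange
  let iso : Spec Sr ≅ (U : Scheme.{u}) := jj.isoOpensRange
  have hiso : iso.hom ≫ U.ι = jj := jj.isoOpensRange_hom_ι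
  have hiso' : iso.inv ≫ jj = U.ι := jj.isoOpensRange_inv_comp
  -- the polynomial ring in the right universe
  let n := ULift.{u} (Fin e)
  let ρ : MvPolynomial n Γ(Y, V) ≃ₐ[Γ(Y, V)] MvPolynomial (Fin e) Γ(Y, V) :=
    MvPolynomial.renameEquiv _ Equiv.ulift
  let ψ' : MvPolynomial n Γ(Y, V) →ₐ[Γ(Y, V)] Localization.Away r := ψ.comp ρ.toAlgHom
  have hψ'qf : ψ'.toRingHom.QuasiFinite := by
    have h1 : ψ'.toRingHom = ψ.toRingHom.comp ρ.toAlgHom.toRingHom := rfl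
    rw [h1]
    refine RingHom.QuasiFinite.comp hψqf ?_
    exact RingHom.QuasiFinite.of_finite (RingHom.Finite.of_surjective _ ρ.surjective)
  let b : Spec Sr ⟶ Spec (CommRingCat.of (MvPolynomial n Γ(Y, V))) :=
    Spec.map (CommRingCat.ofHom ψ'.toRingHom)
  haveI : LocallyQuasiFinite b :=
    (HasRingHomProperty.Spec_iff (P := @LocallyQuasiFinite)).mpr hψ'qf
  let c : Spec (CommRingCat.of (MvPolynomial n Γ(Y, V))) ⟶ 𝔸(n; Spec Γ(Y, V)) :=
    (AffineSpace.SpecIso n Γ(Y, V)).inv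
  let d : 𝔸(n; Spec Γ(Y, V)) ⟶ 𝔸(n; Y) := AffineSpace.map n j
  haveI : IsOpenImmersion d :=
    MorphismProperty.of_isPullback (AffineSpace.isPullback_map (n := n) j).flip inferInstance
  let g : (U : Scheme.{u}) ⟶ 𝔸(n; Y) := iso.inv ≫ b ≫ c ≫ d
  have hrange : Set.range a = (PrimeSpectrum.basicOpen r : Set (PrimeSpectrum Γ(X, W))) :=
    PrimeSpectrum.localization_away_comap_range (Localization.Away r) r
  refine ⟨U, g, ?_, ?_, ?_, ?_⟩
  · have hqr : q ∈ Set.range a := by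
      rw [hrange]
      exact hrq
    obtain ⟨q', hq'⟩ := hqr
    refine ⟨q', ?_⟩
    show ι (a q') = x
    rw [hq', hq]
  · rintro z ⟨w, rfl⟩
    have h1 : ι (a w) ∈ Set.range ι := ⟨a w, rfl⟩
    rw [hW.range_fromSpec] at h1
    exact hWU₀ h1
  · have h1 : d ≫ (𝔸(n; Y) ↘ Y) = (𝔸(n; Spec Γ(Y, V)) ↘ Spec Γ(Y, V)) ≫ j :=
      AffineSpace.map_over j
    have h2 : c ≫ (𝔸(n; Spec Γ(Y, V)) ↘ Spec Γ(Y, V)) =
        Spec.map (CommRingCat.ofHom MvPolynomial.C) := AffineSpace.SpecIso_inv_over Γ(Y, V)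
    have h3 : b ≫ Spec.map (CommRingCat.ofHom (MvPolynomial.C : Γ(Y, V) →+* MvPolynomial n Γ(Y, V))) =
        a ≫ g₀ := by
      rw [← Spec.map_comp, ← Spec.map_comp]
      congr 1
      ext t
      show ψ' (MvPolynomial.C t) = algebraMap Γ(X, W) (Localization.Away r) (φ.hom t)
      have e1 : ψ' (MvPolynomial.C t) = algebraMap Γ(Y, V) (Localization.Away r) t :=
        ψ'.commutes t
      rw [e1, IsScalarTower.algebraMap_apply Γ(Y, V) Γ(X, W) (Localization.Away r)]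
      rfl
    calc g ≫ (𝔸(n; Y) ↘ Y) = iso.inv ≫ b ≫ c ≫ (d ≫ (𝔸(n; Y) ↘ Y)) := by
          simp only [g, Category.assoc]
      _ = iso.inv ≫ b ≫ (c ≫ (𝔸(n; Spec Γ(Y, V)) ↘ Spec Γ(Y, V))) ≫ j := by
          rw [h1]; simp only [Category.assoc]
      _ = iso.inv ≫ (b ≫ Spec.map (CommRingCat.ofHom MvPolynomial.C)) ≫ j := by
          rw [h2]; simp only [Category.assoc]
      _ = iso.inv ≫ (a ≫ g₀) ≫ j := by rw [h3]
      _ = iso.inv ≫ a ≫ (g₀ ≫ j) := by simp only [Category.assoc]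
      _ = iso.inv ≫ a ≫ (ι ≫ f) := by rw [hsq]
      _ = (iso.inv ≫ jj) ≫ f := by simp only [jj, Category.assoc]
      _ = U.ι ≫ f := by rw [hiso']
  · infer_instance

end Groth.Agent.Helper5.QfAff
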