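import Groth.Agent.Helper5.FibDim6
import Groth.Prelude.Def_Flat

set_option autoImplicit false
universe u
open CategoryTheory CategoryTheory.Limits AlgebraicGeometry Opposite TopologicalSpace

namespace Groth.Agent.Helper5.FibDim

/-- The dimension of the trace of an open subset `W ⊆ X` on the fibre over `y`. -/
theorem dim_fiber_preimage_eq {X S : Scheme.{u}} (f : X ⟶ S) (y : ↥S) (W : Set ↥X) :
    topologicalKrullDim ↥((f.fiberι y) ⁻¹' W) = topologicalKrullDim ↥(W ∩ f ⁻¹' {y}) := by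
  rw [← dim_range_inter_eq (f.fiberι y) (f.fiberι y).isEmbedding W, Scheme.Hom.range_fiberι,
    Set.inter_comm]

/-- If `W ∋ x` is open in `X`, the local fibre dimension at `x` is at most the dimension of the
trace of `W` on the fibre. -/
theorem fibreDimAt_le_of_mem {X S : Scheme.{u}} (f : X ⟶ S) (x : ↥X) (W : Set ↥X) (hW : IsOpen W)
    (hx : x ∈ W) : FlatMor.fibreDimAt f x ≤ topologicalKrullDim ↥(W ∩ f ⁻¹' {f x}) := by
  rw [← dim_fiber_preimage_eq]
  let U : Opens ↥(f.fiber (f x)) := ⟨(f.fiberι (f x)) ⁻¹' W, hW.preimage (f.fiberι (f x)).continuous⟩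
  have hxU : f.asFiber x ∈ U := by
    show f.fiberι (f x) (f.asFiber x) ∈ W
    rw [Scheme.Hom.fiberι_asFiber]
    exact hx
  exact iInf_le (fun U : {U : Opens ↥(f.fiber (f x)) // f.asFiber x ∈ U} =>
    topologicalKrullDim ↥(U.1 : Set ↥(f.fiber (f x)))) ⟨U, hxU⟩

/-- The local fibre dimension is realised by the trace of an open subset of `X`. -/
theorem exists_open_fibreDimAt_eq {X S : Scheme.{u}} (f : X ⟶ S) (x : ↥X) :
    ∃ W : Set ↥X, IsOpen W ∧ x ∈ W ∧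
      topologicalKrullDim ↥(W ∩ f ⁻¹' {f x}) = FlatMor.fibreDimAt f x := by
  have : Nonempty {U : Opens ↥(f.fiber (f x)) // f.asFiber x ∈ U} := ⟨⟨⊤, trivial⟩⟩
  obtain ⟨⟨U, hxU⟩, hU⟩ := ciInf_mem (fun U : {U : Opens ↥(f.fiber (f x)) // f.asFiber x ∈ U} =>
    topologicalKrullDim ↥(U.1 : Set ↥(f.fiber (f x))))
  obtain ⟨W, hWopen, hWU⟩ := (f.fiberι (f x)).isEmbedding.isInducing.isOpen_iff.1 U.isOpen
  refine ⟨W, hWopen, ?_, ?_⟩
  · have : f.asFiber x ∈ (f.fiberι (f x)) ⁻¹' W := by rw [hWU]; exact hxU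
    rw [Set.mem_preimage, Scheme.Hom.fiberι_asFiber] at this
    exact this
  · rw [← dim_fiber_preimage_eq, hWU]
    exact hU

set_option maxHeartbeats 400000 in
/-- Chevalley's semicontinuity theorem on the source. -/
theorem isOpen_fibreDimAt_le {X S : Scheme.{u}} (f : X ⟶ S) [LocallyOfFiniteType f]
    (d : WithBot ℕ∞) : IsOpen {x : ↥X | FlatMor.fibreDimAt f x ≤ d} := by
  rw [isOpen_iff_forall_mem_open]
  intro x0 hx0
  obtain ⟨U1, hU1open, hx0U1, hU1⟩ := exists_open_fibreDimAt_eq f x0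
  let U : X.Opens := ⟨U1, hU1open⟩
  let f' : (U : Scheme.{u}) ⟶ S := U.ι ≫ f
  let x0' : ↥(U : Scheme.{u}) := ⟨x0, hx0U1⟩
  have hιemb : Topology.IsEmbedding (U.ι : ↥(U : Scheme.{u}) → ↥X) := U.ι.isOpenEmbedding.isEmbedding
  have hrange : Set.range (U.ι : ↥(U : Scheme.{u}) → ↥X) = U1 := by
    have := U.range_ι
    exact this
  have hpre : ∀ y, (f' ⁻¹' {y} : Set ↥(U : Scheme.{u})) = U.ι ⁻¹' (f ⁻¹' {y}) := by
    intro y
    ext z
    simp only [Set.mem_preimage, Set.mem_singleton_iff, f', Scheme.Hom.comp_apply]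
  have hd' : topologicalKrullDim ↥(f' ⁻¹' {f' x0'}) ≤ d := by
    rw [hpre, ← dim_range_inter_eq _ hιemb, hrange]
    have e : f' x0' = f x0 := rfl
    rw [e, hU1]
    exact hx0
  obtain ⟨W', hW'open, hx0W', hW'⟩ := scheme_key f' x0' d hd'
  refine ⟨U.ι '' W', ?_, U.ι.isOpenEmbedding.isOpenMap _ hW'open, ⟨x0', hx0W', rfl⟩⟩
  intro x hx
  show FlatMor.fibreDimAt f x ≤ d
  refine (fibreDimAt_le_of_mem f x (U.ι '' W') (U.ι.isOpenEmbedding.isOpenMap _ hW'open) hx).trans ?_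
  have e : (U.ι '' W' ∩ f ⁻¹' {f x} : Set ↥X) = U.ι '' (W' ∩ f' ⁻¹' {f x}) := by
    rw [hpre, Set.image_inter_preimage]
  rw [e, dim_image_eq _ hιemb]
  exact hW' (f x)

end Groth.Agent.Helper5.FibDim
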