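import Groth.Agent.Helper5.ValTr2
import Groth.Agent.Helper5.ProdDim
import Groth.Agent.Helper5.MaxPt1
import Groth.Agent.Helper5.BCMin8
import Groth.Agent.Helper5.FibDim7
import Groth.Agent.Helper5.VarDim9

set_option autoImplicit false
universe u
open CategoryTheory CategoryTheory.Limits AlgebraicGeometry TopologicalSpace

namespace Groth.Agent.Helper5.ValTr

open Groth.Agent.Helper5.VarDim Groth.Agent.Helper5.MaxPt Groth.Agent.Helper5.OverField

/-- Over a valuation ring, all nonempty fibres of a dominant morphism locally of finite type from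
an irreducible scheme have the dimension of the generic fibre. -/
theorem dim_fiber_eq {A : Type u} [CommRing A] [IsDomain A] [ValuationRing A]
    {X : Scheme.{u}} [IrreducibleSpace X] (f : X ⟶ Spec (CommRingCat.of A))
    [LocallyOfFiniteType f] [IsDominant f] (s : ↥(Spec (CommRingCat.of A)))
    (hs : Nonempty ↥(f.fiber s)) :
    topologicalKrullDim ↥(f.fiber s) =
      topologicalKrullDim ↥(f.fiber (genericPoint ↥(Spec (CommRingCat.of A)))) := by
  let S : Scheme.{u} := Spec (CommRingCat.of A)
  have hSirr : IrreducibleSpace ↥S := inferInstanceAs (IrreducibleSpace (PrimeSpectrum A))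
  let ξ := genericPoint X
  have hfξ : f ξ = genericPoint ↥S := map_genericPoint f
  have hmaxξ : ∀ w : X, f w = f ξ → w ⤳ ξ → w = ξ := fun w _ hw =>
    (hw.antisymm (genericPoint_specializes w)).eq
  obtain ⟨n, hn1, hn2⟩ := fibreDimAt_of_maximal f ξ (coheight_asFiber_eq_zero f ξ hmaxξ)
  have hgen : topologicalKrullDim ↥(f.fiber (genericPoint ↥S)) = n := by
    rw [← hfξ]
    obtain ⟨n', hn'1, hn'2⟩ := dim_closure_fibre_point f (f ξ) (f.asFiber ξ) ξ
      (f.fiberι_asFiber ξ) rfl
    have hnn : n' = n := by
      have := hn'2.symm.trans hn1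
      exact_mod_cast this
    have hcl : closure ({f.asFiber ξ} : Set ↥(f.fiber (f ξ))) = Set.univ := by
      apply Set.eq_univ_of_forall
      intro ζ
      rw [← specializes_iff_mem_closure,
        ← (f.fiberι (f ξ)).isEmbedding.toIsInducing.specializes_iff, f.fiberι_asFiber]
      exact genericPoint_specializes _
    rw [hcl] at hn'1
    rw [← hnn, ← hn'1]
    exact ((Homeomorph.Set.univ ↥(f.fiber (f ξ))).isHomeomorph.topologicalKrullDim_eq).symm
  have hup : topologicalKrullDim ↥(f.fiber s) ≤ n := by
    have hft : LocallyOfFiniteType (f.fiberToSpecResidueField s) :=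
      inferInstanceAs (LocallyOfFiniteType (Limits.pullback.snd f (S.fromSpecResidueField s)))
    rw [Groth.Agent.Helper5.EtDim.topologicalKrullDim_eq_iSup_coheight]
    refine iSup_le fun ζ => ?_
    refine (coheight_le_localDim _ ζ).trans ?_
    obtain ⟨ξ', -, hmax', hloc⟩ := Groth.Agent.Helper5.BCMin.exists_max_localDim_eq
      (S.residueField s) (f.fiberToSpecResidueField s) ζ
    rw [hloc]
    obtain ⟨m, hm1, hm2⟩ := dim_closure_fibre_point f s ξ' (f.fiberι s ξ') rfl
      (apply_fiberι f s ξ')
    rw [hm1]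
    have := trdeg_le_generic f (f.fiberι s ξ')
    rw [hm2, hn1] at this
    exact_mod_cast this
  obtain ⟨ζ⟩ := hs
  have hlow : (n : WithBot ℕ∞) ≤ topologicalKrullDim ↥(f.fiber s) := by
    let x := f.fiberι s ζ
    have hx : f x = s := apply_fiberι f s ζ
    have h1 : (n : WithBot ℕ∞) ≤ FlatMor.fibreDimAt f x := by
      by_contra hlt
      rw [not_le] at hlt
      have hopen := Groth.Agent.Helper5.FibDim.isOpen_fibreDimAt_le f (FlatMor.fibreDimAt f x)
      have hξmem : ξ ∈ {y : ↥X | FlatMor.fibreDimAt f y ≤ FlatMor.fibreDimAt f x} :=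
        (genericPoint_specializes x).mem_open hopen
          (show FlatMor.fibreDimAt f x ≤ FlatMor.fibreDimAt f x from le_rfl)
      have hξmem' : FlatMor.fibreDimAt f ξ ≤ FlatMor.fibreDimAt f x := hξmem
      rw [hn2] at hξmem'
      exact absurd hlt (not_lt.2 hξmem')
    have h2 : FlatMor.fibreDimAt f x = FlatMor.localDim ↥(f.fiber s) ζ :=
      (localDim_fiber_eq_fibreDimAt f s ζ x rfl hx).symm
    rw [h2] at h1
    exact h1.trans (localDim_le_dim _ ζ)
  rw [hgen]
  exact le_antisymm hup hlow

end Groth.Agent.Helper5.ValTr
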