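import Mathlib
import Groth.Prelude
import Groth.Agent.Helper5.ValTr3

set_option autoImplicit false
set_option linter.unusedSectionVars false
set_option linter.style.haveILetI false
universe u

open MvPolynomial

namespace Groth.Agent.Helper5.ValTr

section
variable {R : Type*} [CommRing R] (p : Ideal R) [p.IsPrime]

/-- `a` divides `b` in the localisation at `p` -/
def LDvd (a b : R) : Prop := ∃ s ∉ p, ∃ u : R, s * b = u * a

theorem LDvd.refl (a : R) : LDvd p a a := ⟨1, fun h => (Ideal.IsPrime.ne_top inferInstance)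
  ((Ideal.eq_top_iff_one p).2 h), 1, rfl⟩

theorem LDvd.trans {a b c : R} (h1 : LDvd p a b) (h2 : LDvd p b c) : LDvd p a c := by
  obtain ⟨s, hs, u, hu⟩ := h1
  obtain ⟨s', hs', u', hu'⟩ := h2
  refine ⟨s * s', fun h => ?_, u' * u, ?_⟩
  · rcases Ideal.IsPrime.mem_or_mem inferInstance h with h | h
    · exact hs h
    · exact hs' h
  · calc s * s' * c = s * (s' * c) := by ring
      _ = s * (u' * b) := by rw [hu']
      _ = u' * (s * b) := by ring
      _ = u' * (u * a) := by rw [hu]
      _ = u' * u * a := by ring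

theorem exists_ldvd_all (hval : ∀ a b : R, LDvd p a b ∨ LDvd p b a) {ι : Type*}
    (s : Finset ι) (hs : s.Nonempty) (f : ι → R) : ∃ d ∈ s, ∀ e ∈ s, LDvd p (f d) (f e) := by
  induction hs using Finset.Nonempty.cons_induction with
  | singleton a => exact ⟨a, Finset.mem_singleton_self a, fun e he => by
      rw [Finset.mem_singleton] at he; rw [he]; exact LDvd.refl p _⟩
  | cons a s ha hs ih =>
    obtain ⟨d, hd, hdall⟩ := ih
    rcases hval (f a) (f d) with h | h
    · refine ⟨a, Finset.mem_cons_self a s, fun e he => ?_⟩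
      rcases Finset.mem_cons.1 he with rfl | he
      · exact LDvd.refl p _
      · exact h.trans p (hdall e he)
    · refine ⟨d, Finset.mem_cons.2 (Or.inr hd), fun e he => ?_⟩
      rcases Finset.mem_cons.1 he with rfl | he
      · exact h
      · exact hdall e he

theorem exists_common_multiplier {ι : Type*} [DecidableEq ι] (T : Finset ι) (f : ι → R) (c : R)
    (h : ∀ e ∈ T, LDvd p c (f e)) :
    ∃ s ∉ p, ∃ g : ι → R, ∀ e ∈ T, s * f e = g e * c := by
  induction T using Finset.induction_on with
  | empty =>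
    exact ⟨1, fun h => (Ideal.IsPrime.ne_top inferInstance) ((Ideal.eq_top_iff_one p).2 h),
      fun _ => 0, fun e he => absurd he (Finset.notMem_empty e)⟩
  | insert a T ha ih =>
    obtain ⟨s, hs, g, hg⟩ := ih (fun e he => h e (Finset.mem_insert_of_mem he))
    obtain ⟨sa, hsa, ua, hua⟩ := h a (Finset.mem_insert_self a T)
    refine ⟨s * sa, fun hmem => ?_, fun e => if e = a then s * ua else sa * g e, ?_⟩
    · rcases Ideal.IsPrime.mem_or_mem inferInstance hmem with h' | h'
      · exact hs h'
      · exact hsa h'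
    · intro e he
      rcases Finset.mem_insert.1 he with rfl | he'
      · show s * sa * f e = (if e = e then s * ua else sa * g e) * c
        rw [if_pos rfl]
        calc s * sa * f e = s * (sa * f e) := by ring
          _ = s * (ua * c) := by rw [hua]
          _ = s * ua * c := by ring
      · have hne : e ≠ a := fun h' => ha (h' ▸ he')
        show s * sa * f e = (if e = a then s * ua else sa * g e) * c
        rw [if_neg hne]
        calc s * sa * f e = sa * (s * f e) := by ring
          _ = sa * (g e * c) := by rw [hg e he']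
          _ = sa * g e * c := by ring

/-- a polynomial with a coefficient outside `p₀` is, up to a multiplier outside `p`, a constant
outside `p₀` times a polynomial with a coefficient outside `p` -/
theorem exists_eq_C_mul' (p₀ : Ideal R) [p₀.IsPrime] (hp : p₀ ≤ p)
    (hval : ∀ a b : R, LDvd p a b ∨ LDvd p b a) {σ : Type*}
    (P : MvPolynomial σ R) (hP : ∃ e, coeff e P ∉ p₀) :
    ∃ (s c : R) (Q : MvPolynomial σ R) (d : σ →₀ ℕ), s ∉ p ∧ c ∉ p₀ ∧ C s * P = C c * Q ∧
      coeff d Q ∉ p := by
  classical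
  obtain ⟨e₀, he₀⟩ := hP
  have he₀s : e₀ ∈ P.support := by
    rw [MvPolynomial.mem_support_iff]
    intro h0
    exact he₀ (h0 ▸ p₀.zero_mem)
  obtain ⟨d, hd, hdall⟩ := exists_ldvd_all p hval P.support ⟨e₀, he₀s⟩ (fun e => coeff e P)
  obtain ⟨s, hs, g, hg⟩ := exists_common_multiplier p (P.support.erase d) (fun e => coeff e P)
    (coeff d P) (fun e he => hdall e (Finset.mem_of_mem_erase he))
  have hc : coeff d P ∉ p₀ := by
    intro hc
    obtain ⟨s', hs', u', hu'⟩ := hdall e₀ he₀s
    have h1 : s' * coeff e₀ P ∈ p₀ := by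
      rw [hu']; exact p₀.mul_mem_left _ hc
    rcases Ideal.IsPrime.mem_or_mem inferInstance h1 with h | h
    · exact hs' (hp h)
    · exact he₀ h
  let Q : MvPolynomial σ R := ∑ e ∈ P.support, monomial e (if e = d then s else g e)
  have hQ : ∀ e, coeff e Q = if e ∈ P.support then (if e = d then s else g e) else 0 := by
    intro e
    simp only [Q, MvPolynomial.coeff_sum, MvPolynomial.coeff_monomial]
    rw [Finset.sum_ite_eq']
  refine ⟨s, coeff d P, Q, d, hs, hc, ?_, ?_⟩
  · ext e
    rw [MvPolynomial.coeff_C_mul, MvPolynomial.coeff_C_mul, hQ]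
    by_cases hes : e ∈ P.support
    · rw [if_pos hes]
      by_cases hed : e = d
      · rw [if_pos hed, hed]; ring
      · rw [if_neg hed, hg e (Finset.mem_erase.2 ⟨hed, hes⟩)]; ring
    · rw [if_neg hes, MvPolynomial.notMem_support_iff.1 hes]; ring
  · rw [hQ, if_pos hd, if_pos rfl]
    exact hs

end

end Groth.Agent.Helper5.ValTr

namespace Groth.Agent.Helper5.ValTr

open MvPolynomial

/-- the transcendence degree of the residue field extension does not increase under
specialisation when the base is locally a valuation ring at the image point -/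
theorem trdeg_le_of_ldvd {R B : Type u} [CommRing R] [CommRing B] [Algebra R B]
    (q₀ q : Ideal B) [q₀.IsPrime] [q.IsPrime] (hle : q₀ ≤ q)
    (p₀ p : Ideal R) [p₀.IsPrime] [p.IsPrime] [q.LiesOver p] [q₀.LiesOver p₀]
    (hval : ∀ a b : R, LDvd p a b ∨ LDvd p b a) :
    Algebra.trdeg (R ⧸ p) (B ⧸ q) ≤ Algebra.trdeg (R ⧸ p₀) (B ⧸ q₀) := by
  classical
  have hp : p₀ ≤ p := by
    rw [Ideal.LiesOver.over (P := q) (p := p), Ideal.LiesOver.over (P := q₀) (p := p₀)]
    exact Ideal.comap_mono hle
  rw [Algebra.trdeg]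
  refine ciSup_le' fun s => ?_
  obtain ⟨s, hs⟩ := s
  have hsurj : ∀ x : s, ∃ b : B, Ideal.Quotient.mk q b = x.1 :=
    fun x => Ideal.Quotient.mk_surjective x.1
  choose t ht using hsurj
  have hind : AlgebraicIndependent (R ⧸ p₀) (fun x : s => Ideal.Quotient.mk q₀ (t x)) := by
    rw [algebraicIndependent_iff]
    intro P hP
    by_contra hP0
    obtain ⟨PR, rfl⟩ := MvPolynomial.map_surjective (Ideal.Quotient.mk p₀)
      Ideal.Quotient.mk_surjective P
    have hPR : ∃ e, coeff e PR ∉ p₀ := by
      by_contra hcon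
      push_neg at hcon
      apply hP0
      ext e
      rw [MvPolynomial.coeff_map, MvPolynomial.coeff_zero, Ideal.Quotient.eq_zero_iff_mem]
      exact hcon e
    obtain ⟨sR, c, Q, d, hsR, hc, hPQ, hd⟩ := exists_eq_C_mul' p p₀ hp hval PR hPR
    rw [aeval_map_mk p₀ q₀ t PR, Ideal.Quotient.eq_zero_iff_mem] at hP
    have h0 : aeval t (C sR * PR) ∈ q₀ := by
      rw [map_mul]
      exact q₀.mul_mem_left _ hP
    rw [hPQ, map_mul, MvPolynomial.aeval_C] at h0
    have hQ : aeval t Q ∈ q₀ := by
      rcases Ideal.IsPrime.mem_or_mem inferInstance h0 with h | h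
      · exfalso
        have h1 : c ∈ q₀.under R := h
        rw [← Ideal.LiesOver.over (p := p₀) (P := q₀)] at h1
        exact hc h1
      · exact h
    have h1 : aeval (fun x : s => Ideal.Quotient.mk q (t x))
        (MvPolynomial.map (Ideal.Quotient.mk p) Q) = 0 := by
      rw [aeval_map_mk p q t Q, Ideal.Quotient.eq_zero_iff_mem]
      exact hle hQ
    have h2 : (fun x : s => Ideal.Quotient.mk q (t x)) = fun x : s => (x.1 : B ⧸ q) := by
      funext x; exact ht x
    rw [h2] at h1
    have h3 : MvPolynomial.map (Ideal.Quotient.mk p) Q = 0 :=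
      (algebraicIndependent_iff.1 hs) _ h1
    have h4 := congrArg (MvPolynomial.coeff d) h3
    rw [MvPolynomial.coeff_map, MvPolynomial.coeff_zero, Ideal.Quotient.eq_zero_iff_mem] at h4
    exact hd h4
  exact hind.cardinalMk_le_trdeg

end Groth.Agent.Helper5.ValTr

namespace Groth.Agent.Helper5.ValTr

open AlgebraicGeometry CategoryTheory CategoryTheory.Limits TopologicalSpace

/-- scheme version: along a specialisation `x' ⤳ x`, if the base is locally a valuation ring at
`f x` then `trdeg κ(x)/κ(f x) ≤ trdeg κ(x')/κ(f x')` -/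
theorem trdeg_le_of_specializes {X S : Scheme.{u}} (f : X ⟶ S) (x' x : X) (hsp : x' ⤳ x)
    (U : S.Opens) (hU : IsAffineOpen U) (hxU : f x ∈ U)
    (hval : ∀ a b : Γ(S, U), LDvd (hU.primeIdealOf ⟨f x, hxU⟩).asIdeal a b ∨
      LDvd (hU.primeIdealOf ⟨f x, hxU⟩).asIdeal b a) :
    @Algebra.trdeg (S.residueField (f x)) (X.residueField x) _ _
        (f.residueFieldMap x).hom.toAlgebra ≤
      @Algebra.trdeg (S.residueField (f x')) (X.residueField x') _ _
        (f.residueFieldMap x').hom.toAlgebra := by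
  obtain ⟨W, hW, hx, e⟩ : ∃ W : X.Opens, IsAffineOpen W ∧ x ∈ W ∧ W ≤ f ⁻¹ᵁ U := by
    obtain ⟨_, ⟨W, hW, rfl⟩, hxW, hsub⟩ :=
      (X.isBasis_affineOpens).exists_subset_of_mem_open (show x ∈ ((f ⁻¹ᵁ U : X.Opens) : Set X)
        from hxU) (f ⁻¹ᵁ U).isOpen
    exact ⟨W, hW, hxW, hsub⟩
  have hx'W : x' ∈ W := hsp.mem_open W.isOpen hx
  let _ : Algebra Γ(S, U) Γ(X, W) := (f.appLE U W e).hom.toAlgebra
  let Q := hW.primeIdealOf ⟨x, hx⟩
  let Q₀ := hW.primeIdealOf ⟨x', hx'W⟩
  let P := hU.primeIdealOf ⟨f x, e hx⟩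
  let P₀ := hU.primeIdealOf ⟨f x', e hx'W⟩
  have hlo : Q.asIdeal.LiesOver P.asIdeal := by
    constructor
    rw [Ideal.under_def]
    exact (congrArg PrimeSpectrum.asIdeal
      (IsAffineOpen.comap_primeIdealOf_appLE U hU W hW e hx)).symm
  have hlo₀ : Q₀.asIdeal.LiesOver P₀.asIdeal := by
    constructor
    rw [Ideal.under_def]
    exact (congrArg PrimeSpectrum.asIdeal
      (IsAffineOpen.comap_primeIdealOf_appLE U hU W hW e hx'W)).symm
  have hle : Q₀.asIdeal ≤ Q.asIdeal := primeIdealOf_le hW ⟨x', hx'W⟩ ⟨x, hx⟩ hsp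
  rw [Groth.Agent.Helper5.DimFormula.chart_trdeg f U hU W hW e x hx P.asIdeal Q.asIdeal rfl,
    Groth.Agent.Helper5.DimFormula.chart_trdeg f U hU W hW e x' hx'W P₀.asIdeal Q₀.asIdeal rfl]
  exact trdeg_le_of_ldvd Q₀.asIdeal Q.asIdeal hle P₀.asIdeal P.asIdeal hval

end Groth.Agent.Helper5.ValTr

namespace Groth.Agent.Helper5.ValTr

open AlgebraicGeometry CategoryTheory CategoryTheory.Limits TopologicalSpace
open Groth.Agent.Helper5.VarDim Groth.Agent.Helper5.MaxPt Groth.Agent.Helper5.OverField

/-- total local divisibility in a valuation ring, transported along a ring isomorphism -/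
theorem ldvd_of_valuationRing {Γ A : Type*} [CommRing Γ] [CommRing A] [IsDomain A]
    [ValuationRing A] (eR : Γ ≃+* A) (p : Ideal Γ) [p.IsPrime] (a b : Γ) :
    LDvd p a b ∨ LDvd p b a := by
  have h1 : (1 : Γ) ∉ p := fun h => (Ideal.IsPrime.ne_top inferInstance)
    ((Ideal.eq_top_iff_one p).2 h)
  rcases ValuationRing.dvd_total (eR a) (eR b) with h | h
  · left
    have h2 : a ∣ b := by simpa using map_dvd eR.symm h
    obtain ⟨w, hw⟩ := h2
    exact ⟨1, h1, w, by rw [hw]; ring⟩
  · right
    have h2 : b ∣ a := by simpa using map_dvd eR.symm h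
    obtain ⟨w, hw⟩ := h2
    exact ⟨1, h1, w, by rw [hw]; ring⟩

/-- total local divisibility in a Prüfer domain, transported along a ring isomorphism -/
theorem ldvd_of_prufer {Γ A : Type*} [CommRing Γ] [CommRing A] [IsDomain A]
    (hA : ∀ (P : Ideal A) [P.IsPrime], ValuationRing (Localization.AtPrime P))
    (eR : Γ ≃+* A) (p : Ideal Γ) [p.IsPrime] (a b : Γ) :
    LDvd p a b ∨ LDvd p b a := by
  let P' : Ideal A := p.comap eR.symm.toRingHom
  haveI : P'.IsPrime := Ideal.comap_isPrime _ _
  haveI := hA P'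
  have hinj : Function.Injective (algebraMap A (Localization.AtPrime P')) :=
    IsLocalization.injective _ P'.primeCompl_le_nonZeroDivisors
  have key : ∀ a b : Γ, algebraMap A (Localization.AtPrime P') (eR a) ∣
      algebraMap A (Localization.AtPrime P') (eR b) → LDvd p a b := by
    intro a b h
    obtain ⟨z, hz⟩ := h
    obtain ⟨⟨r, t⟩, rfl⟩ := IsLocalization.mk'_surjective P'.primeCompl z
    have h3 : algebraMap A (Localization.AtPrime P') (eR b * t) =
        algebraMap A (Localization.AtPrime P') (eR a * r) := by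
      rw [map_mul, map_mul, hz, mul_assoc, IsLocalization.mk'_spec]
    have h4 := hinj h3
    refine ⟨eR.symm t, t.2, eR.symm r, ?_⟩
    have h5 := congrArg eR.symm h4
    simp only [map_mul, RingEquiv.symm_apply_apply] at h5
    rw [mul_comm, h5, mul_comm]
  rcases ValuationRing.dvd_total (algebraMap A (Localization.AtPrime P') (eR a))
    (algebraMap A (Localization.AtPrime P') (eR b)) with h | h
  · exact Or.inl (key a b h)
  · exact Or.inr (key b a h)

end Groth.Agent.Helper5.ValTr
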