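import Mathlib
import Groth.Prelude
import Groth.Agent.Helper5.ValTr5
import Groth.Agent.Helper5.LscDim9
import Groth.Agent.Helper5.FibCodim

set_option autoImplicit false
set_option linter.unusedSectionVars false
set_option linter.style.haveILetI false
universe u

open AlgebraicGeometry CategoryTheory CategoryTheory.Limits TopologicalSpace

namespace Groth.Agent.Helper5.ValTr

open Groth.Agent.Helper5.VarDim Groth.Agent.Helper5.MaxPt

/-- a point whose fibre local ring has dimension zero is maximal in its fibre -/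
theorem maximal_of_coheight_eq_zero {X Y : Scheme.{u}} (f : X ⟶ Y) (x : X)
    (hk : Order.coheight (f.asFiber x) = 0) : ∀ y : X, y ⤳ x → f y = f x → y = x := by
  intro y hy hfy
  have hyr : y ∈ Set.range (f.fiberι (f x)) := by rw [f.range_fiberι]; exact hfy
  obtain ⟨w, rfl⟩ := hyr
  have h1 : w ⤳ f.asFiber x := by
    rw [← (f.fiberι (f x)).isEmbedding.isInducing.specializes_iff, f.fiberι_asFiber]
    exact hy
  have h2 : IsMax (f.asFiber x) := Order.coheight_eq_zero.1 hk
  have h3 : f.asFiber x ≤ w := (Scheme.le_iff_specializes).2 h1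
  have h4 : w ≤ f.asFiber x := h2 h3
  have h5 : w = f.asFiber x := (h1.antisymm ((Scheme.le_iff_specializes).1 h4)).eq
  rw [h5, f.fiberι_asFiber]

theorem s14887 (R : Type u) [CommRing R] [IsDomain R] [ValuationRing R] {X : Scheme.{u}}
    (φ : X ⟶ Spec (CommRingCat.of R)) [LocallyOfFiniteType φ]
    (x x' : X) (hgen : x' ⤳ x) (hx : ∀ y : X, y ⤳ x → φ y = φ x → y = x) :
    ∀ y : X, y ⤳ x' → φ y = φ x' → y = x' := by
  have h0 : Order.coheight (φ.asFiber x) = 0 :=
    coheight_asFiber_eq_zero φ x (fun w hw hsp => hx w hsp hw)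
  obtain ⟨n, hn1, hn2⟩ := fibreDimAt_of_maximal φ x h0
  obtain ⟨k', n', -, hk', hn', hfd'⟩ := Groth.Agent.Helper5.SubDim.fibreDimAt_eq φ x'
  have h2 := fibreDimAt_le_of_specializes φ x' x hgen
  rw [hn2] at h2
  -- valuation inequality
  let S : Scheme.{u} := Spec (CommRingCat.of R)
  let eR : Γ(S, ⊤) ≃+* R := (Scheme.ΓSpecIso (CommRingCat.of R)).commRingCatIsoToRingEquiv
  have h3 := trdeg_le_of_specializes φ x' x hgen (⊤ : S.Opens) (isAffineOpen_top S) trivial
    (fun a b => ldvd_of_valuationRing eR _ a b)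
  rw [hn1, hn'] at h3
  have h3' : n ≤ n' := by exact_mod_cast h3
  have hk0 : k' = 0 := by
    rw [hfd'] at h2
    have : k' + n' ≤ n := by exact_mod_cast h2
    omega
  apply maximal_of_coheight_eq_zero φ x'
  rw [hk', hk0]
  rfl

end Groth.Agent.Helper5.ValTr
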