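import Mathlib
import Groth.Prelude.Def_EGA43
import Groth.Prelude.Def_Flat
import Groth.Agent.Helper5.LscDim3
import Groth.Agent.Helper5.FibCodim
import Groth.Agent.Helper5.ResTr
import Groth.Agent.Helper5.MaxPt1
import Groth.Agent.Helper5.ValTr6
import Groth.Agent.Lead.EtChartA

/-!
# Maximal points and quasi-finite morphisms to an affine space over the base
-/

set_option autoImplicit false
set_option linter.style.haveILetI false
universe u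

namespace Groth.Agent.Helper5.QfAff

open AlgebraicGeometry CategoryTheory CategoryTheory.Limits TopologicalSpace
open Groth.Agent.Helper5.MaxPt

variable (n : Type u) [Finite n]

/-- common numerical data -/
theorem data {T Y : Scheme.{u}} (h : T ⟶ Y) [LocallyOfFiniteType h] (g : T ⟶ 𝔸(n; Y))
    [LocallyQuasiFinite g] (hg : g ≫ (𝔸(n; Y) ↘ Y) = h) (ξ : T)
    (hmax : ∀ w : T, h w = h ξ → w ⤳ ξ → w = ξ) :
    ∃ k m : ℕ, Order.coheight ((𝔸(n; Y) ↘ Y).asFiber (g ξ)) = (k : ℕ∞) ∧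
      k + m = Nat.card n ∧ FlatMor.fibreDimAt h ξ = (m : WithBot ℕ∞) := by
  subst hg
  let π : 𝔸(n; Y) ⟶ Y := 𝔸(n; Y) ↘ Y
  obtain ⟨k, m, -, hk, hm, hfd⟩ := Groth.Agent.Helper5.SubDim.fibreDimAt_eq π (g ξ)
  rw [Groth.Agent.Helper5.LscDim.fibreDimAt_affineSpace] at hfd
  have hkm : k + m = Nat.card n := by exact_mod_cast hfd.symm
  obtain ⟨n', hn'1, hn'2⟩ := fibreDimAt_of_maximal (g ≫ π) ξ
    (coheight_asFiber_eq_zero (g ≫ π) ξ hmax)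
  have h1 := Groth.Agent.Helper5.ResTr.resTrdeg_comp g π ξ
  rw [Groth.Agent.Helper5.ResTr.resTrdeg_eq_zero_of_lqf g ξ, add_zero] at h1
  have h2 : Dual3.resTrdeg (g ≫ π) ξ = (n' : Cardinal.{u}) := hn'1
  have h3 : Dual3.resTrdeg π (g ξ) = (m : Cardinal.{u}) := hm
  have h4 : n' = m := by
    rw [h2, h3] at h1
    exact_mod_cast h1
  refine ⟨k, m, hk, hkm, ?_⟩
  rw [hn'2, h4]

/-- a point of full fibre dimension over a maximal point of the base goes to a maximal point of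
the affine space -/
theorem maximal_map {T Y : Scheme.{u}} (h : T ⟶ Y) [LocallyOfFiniteType h] (g : T ⟶ 𝔸(n; Y))
    [LocallyQuasiFinite g] (hg : g ≫ (𝔸(n; Y) ↘ Y) = h) (ξ : T)
    (hmax : ∀ w : T, h w = h ξ → w ⤳ ξ → w = ξ)
    (hd : FlatMor.fibreDimAt h ξ = (Nat.card n : WithBot ℕ∞))
    (hη : ∀ y : Y, y ⤳ h ξ → y = h ξ) :
    ∀ ζ : ↥(𝔸(n; Y)), ζ ⤳ g ξ → ζ = g ξ := by
  obtain ⟨k, m, hk, hkm, hfd⟩ := data n h g hg ξ hmax
  rw [hfd] at hd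
  have hm : m = Nat.card n := by exact_mod_cast hd
  have hk0 : k = 0 := by omega
  rw [hk0] at hk
  have hmaxfib := Groth.Agent.Helper5.ValTr.maximal_of_coheight_eq_zero (𝔸(n; Y) ↘ Y) (g ξ)
    (by exact_mod_cast hk)
  intro ζ hζ
  have hπ : ∀ w : T, (𝔸(n; Y) ↘ Y) (g w) = h w := fun w =>
    congrArg (fun ψ : T ⟶ Y => ψ w) hg
  have h1 : (𝔸(n; Y) ↘ Y) ζ ⤳ (𝔸(n; Y) ↘ Y) (g ξ) := hζ.map (𝔸(n; Y) ↘ Y).continuous
  have h2 : (𝔸(n; Y) ↘ Y) ζ = (𝔸(n; Y) ↘ Y) (g ξ) := by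
    rw [hπ] at h1 ⊢
    exact hη _ h1
  exact hmaxfib ζ hζ h2

/-- a point going to a maximal point of the affine space has full fibre dimension and lies over
a maximal point of the base -/
theorem of_maximal_map {T Y : Scheme.{u}} (h : T ⟶ Y) [LocallyOfFiniteType h] (g : T ⟶ 𝔸(n; Y))
    [LocallyQuasiFinite g] (hg : g ≫ (𝔸(n; Y) ↘ Y) = h) (ξ : T)
    (hmax : ∀ w : T, h w = h ξ → w ⤳ ξ → w = ξ)
    (hζ : ∀ ζ : ↥(𝔸(n; Y)), ζ ⤳ g ξ → ζ = g ξ) :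
    FlatMor.fibreDimAt h ξ = (Nat.card n : WithBot ℕ∞) ∧ ∀ y : Y, y ⤳ h ξ → y = h ξ := by
  obtain ⟨k, m, hk, hkm, hfd⟩ := data n h g hg ξ hmax
  have hπ : ∀ w : T, (𝔸(n; Y) ↘ Y) (g w) = h w := fun w =>
    congrArg (fun ψ : T ⟶ Y => ψ w) hg
  have hk0' := coheight_asFiber_eq_zero (𝔸(n; Y) ↘ Y) (g ξ) (fun w _ hw => hζ w hw)
  rw [hk0'] at hk
  have hk0 : k = 0 := by exact_mod_cast hk.symm
  have hm : m = Nat.card n := by omega
  refine ⟨by rw [hfd, hm], ?_⟩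
  intro y hy
  haveI : Smooth (𝔸(n; Y) ↘ Y) := Groth.Agent.Lead.EtChartA.smooth_affineSpace n Y
  haveI : Flat (𝔸(n; Y) ↘ Y) := inferInstance
  rw [← hπ] at hy ⊢
  obtain ⟨ζ', hζ', hζ'y⟩ := (Flat.generalizingMap (𝔸(n; Y) ↘ Y)) hy
  rw [← hζ'y, hζ ζ' hζ']

end Groth.Agent.Helper5.QfAff
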