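import Mathlib
import Groth.Prelude.Def_EGA43
import Groth.Prelude.Def_Flat
import Groth.Agent.Helper5.QfAff1
import Groth.Agent.Helper5.QfAff2
import Groth.Agent.Helper5.EqAt7
import Groth.Agent.Helper5.ChevA
import Groth.Agent.Helper5.RelDim1

/-!
# EGA IV 13.3.1 a ⇔ b : equidimensionality at a point and quasi-finite morphisms to an affine
space over the base (S3386)
-/

set_option autoImplicit false
set_option linter.style.haveILetI false
universe u

namespace Groth.Agent.Helper5.QfAff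

open AlgebraicGeometry CategoryTheory CategoryTheory.Limits TopologicalSpace
open Groth.Agent.Helper5.MaxPt Groth.Agent.Helper5.EqAt Groth.Agent.Helper5.Chev

theorem card_ulift_fin (e : ℕ) : Nat.card (ULift.{u} (Fin e)) = e := by
  simp

/-- a maximal point of an open subscheme is a maximal point of the scheme -/
theorem maximal_of_open {X : Scheme.{u}} (U : X.Opens) (ξ : ↥(U : Scheme.{u}))
    (hξ : ∀ w : ↥(U : Scheme.{u}), w ⤳ ξ → w = ξ) : ∀ w : X, w ⤳ U.ι ξ → w = U.ι ξ := by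
  intro w hw
  have hwU : w ∈ U := hw.mem_open U.2 ξ.2
  let wU : ↥(U : Scheme.{u}) := ⟨w, hwU⟩
  have hw' : U.ι wU ⤳ U.ι ξ := hw
  have h1 : wU ⤳ ξ := U.ι.isEmbedding.isInducing.specializes_iff.mp hw'
  have h2 := hξ _ h1
  rw [← h2]
  rfl

theorem closure_image_eq_of_generic {A B : Type*} [TopologicalSpace A] [TopologicalSpace B]
    (g : A → B) (hg : Continuous g) (ξ : A) (Z : Set A) (hξ : closure ({ξ} : Set A) = Z) :
    closure (g '' Z) = closure ({g ξ} : Set B) := by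
  apply Set.Subset.antisymm
  · refine closure_minimal ?_ isClosed_closure
    have := image_closure_subset_closure_image (s := ({ξ} : Set A)) hg
    rw [Set.image_singleton, hξ] at this
    exact this
  · refine closure_mono ?_
    rw [Set.singleton_subset_iff]
    exact ⟨ξ, by rw [← hξ]; exact subset_closure rfl, rfl⟩

/-- a) ⟹ b) -/
theorem s3386_a_b {X Y : Scheme.{u}} (f : X ⟶ Y) [LocallyOfFiniteType f] (x : X)
    (h : EGA43.IsEquidimAt f x) :
    ∃ (e : ℕ) (U : X.Opens) (g : (U : Scheme.{u}) ⟶ 𝔸(ULift.{u} (Fin e); Y)),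
        x ∈ U ∧ g ≫ (𝔸(ULift.{u} (Fin e); Y) ↘ Y) = U.ι ≫ f ∧ LocallyQuasiFinite g ∧
        ∀ Z ∈ irreducibleComponents (↥U : Type u),
          closure (g.base '' Z) ∈ irreducibleComponents (↥𝔸(ULift.{u} (Fin e); Y) : Type u) := by
  obtain ⟨e, U₀, hxU₀, C1, C2⟩ := h
  have he : FlatMor.fibreDimAt f x = (e : WithBot ℕ∞) :=
    fibreDimAt_of_components f U₀ e C2 ⟨x, hxU₀⟩
  obtain ⟨U, g, hxU, hUU₀, hover, hlqf⟩ := exists_lqf_to_affineSpace f x e he U₀ hxU₀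
  refine ⟨e, U, g, hxU, hover, hlqf, ?_⟩
  intro (Z : Set ↥(U : Scheme.{u})) (hZ : Z ∈ irreducibleComponents ↥(U : Scheme.{u}))
  obtain ⟨ξ, hξ⟩ := QuasiSober.sober hZ.1 (isClosed_of_mem_irreducibleComponents Z hZ)
  have hξdef : closure ({ξ} : Set ↥(U : Scheme.{u})) = Z := hξ.def
  have hξmaxU : ∀ w : ↥(U : Scheme.{u}), w ⤳ ξ → w = ξ :=
    max_of_closure_mem_irreducibleComponents ξ (by rw [hξdef]; exact hZ)
  have hξmaxX := maximal_of_open U ξ hξmaxU
  have hξU₀ : U.ι ξ ∈ U₀ := hUU₀ ξ.2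
  have hcl : closure (g.base '' Z) = closure ({g ξ} : Set ↥𝔸(ULift.{u} (Fin e); Y)) :=
    closure_image_eq_of_generic g g.continuous ξ Z hξdef
  rw [hcl]
  apply closure_singleton_mem_irreducibleComponents (g ξ)
  apply maximal_map (ULift.{u} (Fin e)) (U.ι ≫ f) g hover ξ
  · exact fun w _ hw => hξmaxU w hw
  · rw [fibreDimAt_open_restrict, card_ulift_fin]
    exact fibreDimAt_of_components f U₀ e C2 ⟨U.ι ξ, hξU₀⟩
  · intro η hη
    exact max_map_of_components f U₀ (f x) C1 ⟨U.ι ξ, hξU₀⟩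
      (coheight_eq_zero_of_max (U.ι ξ) hξmaxX) η hη

/-- b) ⟹ a) -/
theorem s3386_b_a {X Y : Scheme.{u}} [IsLocallyNoetherian Y] (f : X ⟶ Y) [LocallyOfFiniteType f]
    (x : X) (e : ℕ) (U : X.Opens) (g : (U : Scheme.{u}) ⟶ 𝔸(ULift.{u} (Fin e); Y))
    (hxU : x ∈ U) (hover : g ≫ (𝔸(ULift.{u} (Fin e); Y) ↘ Y) = U.ι ≫ f)
    (hlqf : LocallyQuasiFinite g)
    (hcomp : ∀ Z ∈ irreducibleComponents (↥U : Type u),
      closure (g.base '' Z) ∈ irreducibleComponents (↥𝔸(ULift.{u} (Fin e); Y) : Type u)) :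
    EGA43.IsEquidimAt f x := by
  haveI : IsLocallyNoetherian X := LocallyOfFiniteType.isLocallyNoetherian f
  let n := ULift.{u} (Fin e)
  let π : 𝔸(n; Y) ⟶ Y := 𝔸(n; Y) ↘ Y
  haveI : LocallyOfFiniteType (g ≫ π) := by rw [hover]; infer_instance
  haveI : LocallyOfFiniteType g := locallyOfFiniteType_of_comp g π
  refine isEquidimAt_of_key f x e ?_ ?_
  · have h1 := (Groth.Agent.Helper5.CompFib.fibreDimAt_comp g π ⟨x, hxU⟩).1
    rw [Groth.Agent.Helper5.RelDim.fibreDimAt_eq_zero_of_lqf g, zero_add,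
      Groth.Agent.Helper5.LscDim.fibreDimAt_affineSpace, card_ulift_fin] at h1
    have h2 : FlatMor.fibreDimAt (g ≫ π) ⟨x, hxU⟩ = FlatMor.fibreDimAt f x := by
      rw [hover]
      exact fibreDimAt_open_restrict f U ⟨x, hxU⟩
    rw [← h2]
    exact h1
  · intro ξ hξx hξ0
    have hξU : ξ ∈ U := hξx.mem_open U.2 hxU
    let ξU : ↥(U : Scheme.{u}) := ⟨ξ, hξU⟩
    have hξmaxX : ∀ w : X, w ⤳ ξ → w = ξ := max_of_coheight_zero ξ hξ0
    have hξmaxU : ∀ w : ↥(U : Scheme.{u}), w ⤳ ξU → w = ξU := by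
      intro w hw
      have h1 : U.ι w ⤳ U.ι ξU := hw.map U.ι.continuous
      exact U.ι.isEmbedding.injective (hξmaxX _ h1)
    have hZ := closure_singleton_mem_irreducibleComponents ξU hξmaxU
    have h3 := hcomp _ hZ
    rw [closure_image_eq_of_generic g g.continuous ξU _ rfl] at h3
    have hζ : ∀ ζ : ↥(𝔸(n; Y)), ζ ⤳ g ξU → ζ = g ξU :=
      fun ζ hζ => max_of_closure_mem_irreducibleComponents (g ξU) h3 ζ hζ
    obtain ⟨h4, h5⟩ := of_maximal_map n (U.ι ≫ f) g hover ξU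
      (fun w _ hw => hξmaxU w hw) hζ
    rw [fibreDimAt_open_restrict, card_ulift_fin] at h4
    refine ⟨h4, ?_⟩
    exact closure_singleton_mem_irreducibleComponents (f ξ) h5

/-- **S3386** -/
theorem s3386 {X Y : Scheme.{u}} (f : X ⟶ Y) [LocallyOfFiniteType f] (x : X) :
    (EGA43.IsEquidimAt f x → (∃ (e : ℕ) (U : X.Opens) (g : (U : Scheme.{u}) ⟶ 𝔸(ULift.{u} (Fin e); Y)),
        x ∈ U ∧ g ≫ (𝔸(ULift.{u} (Fin e); Y) ↘ Y) = U.ι ≫ f ∧ LocallyQuasiFinite g ∧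
        ∀ Z ∈ irreducibleComponents (↥U : Type u),
          closure (g.base '' Z) ∈ irreducibleComponents (↥𝔸(ULift.{u} (Fin e); Y) : Type u))) ∧
    (IsLocallyNoetherian Y → (∃ (e : ℕ) (U : X.Opens) (g : (U : Scheme.{u}) ⟶ 𝔸(ULift.{u} (Fin e); Y)),
        x ∈ U ∧ g ≫ (𝔸(ULift.{u} (Fin e); Y) ↘ Y) = U.ι ≫ f ∧ LocallyQuasiFinite g ∧
        ∀ Z ∈ irreducibleComponents (↥U : Type u),
          closure (g.base '' Z) ∈ irreducibleComponents (↥𝔸(ULift.{u} (Fin e); Y) : Type u)) → EGA43.IsEquidimAt f x) := by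
  refine ⟨s3386_a_b f x, ?_⟩
  rintro hY ⟨e, U, g, hxU, hover, hlqf, hcomp⟩
  exact s3386_b_a f x e U g hxU hover hlqf hcomp

end Groth.Agent.Helper5.QfAff
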