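import Groth.Agent.Helper5.SubDim1

set_option autoImplicit false
universe u
open AlgebraicGeometry CategoryTheory TopologicalSpace

namespace Groth.Agent.Helper5.SubDim

open Groth.Agent.Helper5.LocDE Groth.Agent.Helper5.VarDim Groth.Agent.Helper5.MaxPt

theorem ringKrullDim_stalk_nat (X : Scheme.{u}) [IsLocallyNoetherian X] (x : X) :
    ∃ n : ℕ, ringKrullDim (X.presheaf.stalk x) = (n : WithBot ℕ∞) ∧ Order.coheight x = (n : ℕ∞) := by
  have hfin : Order.coheight x ≠ ⊤ := by
    intro htop
    have h1 : ringKrullDim (X.presheaf.stalk x) = ((⊤ : ℕ∞) : WithBot ℕ∞) := by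
      rw [ringKrullDim_stalk_eq_coheight, htop]
    exact ringKrullDim_ne_top h1
  obtain ⟨n, hn⟩ := ENat.ne_top_iff_exists.1 hfin
  refine ⟨n, ?_, hn.symm⟩
  rw [ringKrullDim_stalk_eq_coheight, ← hn]
  rfl

/-- Part 1 of the data: the generic point of the subscheme and the dimension inequality. -/
theorem subscheme_data1 {X Y : Scheme.{u}} [IsLocallyNoetherian Y] (f : X ⟶ Y)
    [LocallyOfFiniteType f] (X' : TopologicalSpace.Closeds X) (hirr : IsIrreducible (X' : Set X))
    (w : ↥(Scheme.IdealSheafData.vanishingIdeal X').subscheme)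
    (η' : Y) (hη' : closure ({η'} : Set Y) = closure (f '' (X' : Set X))) :
    ∃ ξT : ↥(Scheme.IdealSheafData.vanishingIdeal X').subscheme,
      closure ({ξT} : Set ↥(Scheme.IdealSheafData.vanishingIdeal X').subscheme) = Set.univ ∧
      ((Scheme.IdealSheafData.vanishingIdeal X').subschemeι ≫ f) ξT = η' := by
  let I := Scheme.IdealSheafData.vanishingIdeal X'
  let T := I.subscheme
  let ιX : T ⟶ X := I.subschemeι
  have hrX : Set.range ιX = (X' : Set X) := by
    rw [Scheme.IdealSheafData.range_subschemeι]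
    rfl
  obtain ⟨ξ, hξ⟩ := QuasiSober.sober hirr X'.isClosed
  have hξdef : closure ({ξ} : Set X) = (X' : Set X) := hξ.def
  have hξr : ξ ∈ Set.range ιX := by rw [hrX, ← hξdef]; exact subset_closure rfl
  obtain ⟨ξT, hξT⟩ := hξr
  refine ⟨ξT, ?_, ?_⟩
  · rw [ιX.isEmbedding.isInducing.closure_eq_preimage_closure_image, Set.image_singleton, hξT,
      hξdef, ← hrX]
    exact Set.preimage_range _
  · show f (ιX ξT) = η'
    rw [hξT]
    have h1 : f ξ ∈ closure ({η'} : Set Y) := by
      rw [hη']
      exact subset_closure ⟨ξ, by rw [← hξdef]; exact subset_closure rfl, rfl⟩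
    have h2 : η' ∈ closure ({f ξ} : Set Y) := by
      have h3 : closure (f '' (X' : Set X)) ⊆ closure ({f ξ} : Set Y) := by
        refine closure_minimal ?_ isClosed_closure
        rw [← hξdef]
        refine (image_closure_subset_closure_image f.continuous).trans ?_
        rw [Set.image_singleton]
      exact h3 (hη' ▸ subset_closure rfl)
    exact ((specializes_iff_mem_closure.2 h2).antisymm (specializes_iff_mem_closure.2 h1)).eq

end Groth.Agent.Helper5.SubDim
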