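import Mathlib

/-!
Krull dimension is invariant under injective integral extensions.
-/

namespace Groth.Agent.Helper5.IntegralDim

variable {R S : Type*} [CommRing R] [CommRing S] [Algebra R S] [Algebra.IsIntegral R S]

theorem ringKrullDim_le_of_isIntegral : ringKrullDim S ≤ ringKrullDim R := by
  apply Order.krullDim_le_of_strictMono (PrimeSpectrum.comap (algebraMap R S))
  intro P Q hPQ
  have h : P.asIdeal < Q.asIdeal := hPQ
  have := Ideal.IsIntegral.comap_lt_comap (R := R) h
  exact this

theorem ringKrullDim_eq_of_isIntegral_of_injective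
    (hinj : Function.Injective (algebraMap R S)) : ringKrullDim S = ringKrullDim R := by
  refine le_antisymm ringKrullDim_le_of_isIntegral ?_
  have : FaithfulSMul R S := (faithfulSMul_iff_algebraMap_injective R S).mpr hinj
  apply iSup_le
  intro l
  obtain ⟨⟨P, hP, hPover⟩⟩ := Ideal.nonempty_primesOver (S := S) l.head.asIdeal
  obtain ⟨L, hlen, -, -⟩ := Ideal.exists_ltSeries_of_hasGoingUp l P
  rw [← hlen]
  exact Order.LTSeries.length_le_krullDim L

end Groth.Agent.Helper5.IntegralDim
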