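import Mathlib
import Groth.Agent.Helper5.IntegralDim

/-!
# Heights along integral extensions of a domain with local normalization
-/

set_option autoImplicit false
set_option linter.style.haveILetI false
universe u

namespace Groth.Agent.Helper5.UniDim

open IsLocalRing

/-- abstract form: going down through the normalizations gives a lower bound for the height -/
theorem lemmaG_height (A₀ A' B B'' : Type*) [CommRing A₀] [CommRing A'] [IsDomain A'] [IsLocalRing A']
    [IsIntegrallyClosed A'] [CommRing B] [CommRing B''] [IsDomain B'']
    [Algebra A₀ A'] [Algebra A₀ B] [Algebra A₀ B''] [Algebra A' B''] [Algebra B B'']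
    [IsScalarTower A₀ A' B''] [IsScalarTower A₀ B B'']
    [Algebra.IsIntegral A₀ A'] [FaithfulSMul A₀ A']
    [Algebra.IsIntegral A' B''] [FaithfulSMul A' B'']
    [Algebra.IsIntegral B B''] [FaithfulSMul B B'']
    (n : PrimeSpectrum B) (hn : (n.asIdeal.comap (algebraMap A₀ B)).IsMaximal) :
    ringKrullDim A₀ ≤ ((Order.height n : ℕ∞) : WithBot ℕ∞) := by
  -- prime of B'' over n
  obtain ⟨n'', -, hn''p, hn''⟩ := Ideal.exists_ideal_over_prime_of_isIntegral n.asIdeal (⊥ : Ideal B'')
    (by
      rw [← RingHom.ker_eq_comap_bot,
        (RingHom.injective_iff_ker_eq_bot _).mp (FaithfulSMul.algebraMap_injective B B'')]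
      exact bot_le)
  -- its contraction to A' is the maximal ideal
  have hm'' : n''.comap (algebraMap A' B'') = maximalIdeal A' := by
    have hprime : (n''.comap (algebraMap A' B'')).IsPrime := Ideal.comap_isPrime _ _
    have hmax : ((n''.comap (algebraMap A' B'')).comap (algebraMap A₀ A')).IsMaximal := by
      rw [Ideal.comap_comap, ← IsScalarTower.algebraMap_eq,
        IsScalarTower.algebraMap_eq A₀ B B'', ← Ideal.comap_comap, hn'']
      exact hn
    have := Ideal.isMaximal_of_isIntegral_of_isMaximal_comap (R := A₀) _ hmax
    exact IsLocalRing.eq_maximalIdeal this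
  let N'' : PrimeSpectrum B'' := ⟨n'', hn''p⟩
  -- dimension of A₀
  have h1 : ringKrullDim A₀ = ringKrullDim A' :=
    (Groth.Agent.Helper5.IntegralDim.ringKrullDim_eq_of_isIntegral_of_injective
      (FaithfulSMul.algebraMap_injective A₀ A')).symm
  have h2 : ringKrullDim A' = ((Order.height (closedPoint A') : ℕ∞) : WithBot ℕ∞) := by
    rw [← IsLocalRing.maximalIdeal_height_eq_ringKrullDim,
      ← PrimeSpectrum.height_eq_orderHeight (closedPoint A')]
    rfl
  -- going down
  have h3 : Order.height (closedPoint A') ≤ Order.height N'' := by
    rw [Order.height_le_iff']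
    intro l hl
    haveI : n''.LiesOver l.last.asIdeal := by
      constructor
      rw [hl]
      exact hm''.symm
    obtain ⟨L, hLlen, hLlast, -⟩ := Ideal.exists_ltSeries_of_hasGoingDown l n''
    rw [← hLlen]
    have h4 := Order.length_le_height_last (p := L)
    rw [hLlast] at h4
    exact h4
  -- incomparability
  have h5 : Order.height N'' ≤ Order.height n := by
    have hmono : StrictMono (PrimeSpectrum.comap (algebraMap B B'')) := by
      intro P Q hPQ
      have h : P.asIdeal < Q.asIdeal := hPQ
      exact Ideal.IsIntegral.comap_lt_comap (R := B) h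
    have h6 := Order.height_le_height_apply_of_strictMono _ hmono N''
    have h7 : PrimeSpectrum.comap (algebraMap B B'') N'' = n := PrimeSpectrum.ext hn''
    rwa [h7] at h6
  rw [h1, h2]
  exact_mod_cast h3.trans h5

/-- version over a domain `R` whose normalization is local -/
theorem lemmaH_height (R : Type*) [CommRing R] [IsDomain R] (K : Type*) [Field K] [Algebra R K]
    [IsFractionRing R K] (hloc : IsLocalRing (integralClosure R K))
    (B : Type*) [CommRing B] [IsDomain B] [Algebra R B]
    (hinj : Function.Injective (algebraMap R B)) [Algebra.IsIntegral R B] (n : PrimeSpectrum B)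
    (hn : (n.asIdeal.comap (algebraMap R B)).IsMaximal) :
    ringKrullDim R ≤ ((Order.height n : ℕ∞) : WithBot ℕ∞) := by
  let A' := integralClosure R K
  let L := FractionRing B
  let B'' := integralClosure B L
  haveI : FaithfulSMul R B := (faithfulSMul_iff_algebraMap_injective R B).mpr hinj
  -- A' is integrally closed
  haveI : IsFractionRing A' K := integralClosure.isFractionRing_of_finite_extension K K
  haveI : IsIntegrallyClosed A' := (isIntegrallyClosed_iff_isIntegrallyClosedIn K).mpr inferInstance
  -- the field map K → L
  let g : R →+* L := algebraMap R L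
  have hg : Function.Injective g := by
    have : g = (algebraMap B L).comp (algebraMap R B) := IsScalarTower.algebraMap_eq R B L
    rw [this]
    exact (IsFractionRing.injective B L).comp hinj
  let φ : K →+* L := IsFractionRing.lift hg
  have hφ : ∀ r : R, φ (algebraMap R K r) = algebraMap R L r := fun r => IsFractionRing.lift_algebraMap hg r
  -- the map A' → B''
  have hmem : ∀ x : A', φ (x : K) ∈ B'' := by
    intro x
    have hx : IsIntegral R (x : K) := x.2
    have h1 : IsIntegral R (φ (x : K)) := by
      let φa : K →ₐ[R] L := { φ with commutes' := hφ }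
      exact hx.map φa
    exact h1.tower_top
  let ψ : A' →+* B'' := (φ.comp A'.val.toRingHom).codRestrict B''.toSubring hmem
  letI : Algebra A' B'' := ψ.toAlgebra
  have hψ : ∀ x : A', ((algebraMap A' B'' x : B'') : L) = φ (x : K) := fun x => rfl
  haveI : IsScalarTower R A' B'' := by
    apply IsScalarTower.of_algebraMap_eq
    intro r
    apply Subtype.ext
    rw [hψ]
    show _ = φ (algebraMap R K r)
    rw [hφ]
    rfl
  haveI : FaithfulSMul A' B'' := by
    rw [faithfulSMul_iff_algebraMap_injective]
    intro x y hxy
    have := congrArg (fun z : B'' => (z : L)) hxy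
    simp only [hψ] at this
    exact Subtype.ext (φ.injective this)
  haveI : Algebra.IsIntegral R B'' := Algebra.IsIntegral.trans B
  haveI : Algebra.IsIntegral A' B'' := Algebra.IsIntegral.tower_top (R := R)
  exact lemmaG_height R A' B B'' n hn

end Groth.Agent.Helper5.UniDim
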