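import Mathlib
import Groth.Agent.Helper5.UniDim1

/-!
# Heights along a quasi-finite extension of a domain with local normalization
-/

set_option autoImplicit false
set_option linter.style.haveILetI false
universe u

namespace Groth.Agent.Helper5.UniDim

open IsLocalRing

/-- heights are preserved when two localizations are identified -/
theorem height_comap_of_localization_bijective {S' B Sr Br : Type*} [CommRing S'] [CommRing B]
    [CommRing Sr] [CommRing Br] [Algebra S' Sr] [Algebra B Br] (MS : Submonoid S')
    (MB : Submonoid B) [IsLocalization MS Sr] [IsLocalization MB Br] (f : S' →+* B)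
    (φ : Sr →+* Br) (hφ : Function.Bijective φ)
    (hc : φ.comp (algebraMap S' Sr) = (algebraMap B Br).comp f) (q : Ideal B) [q.IsPrime]
    (hdisjB : Disjoint (MB : Set B) (q : Set B))
    (hdisjS : Disjoint (MS : Set S') ((q.comap f : Ideal S') : Set S')) :
    (q.comap f).height = q.height := by
  let e : Sr ≃+* Br := RingEquiv.ofBijective φ hφ
  let n : Ideal S' := q.comap f
  haveI : n.IsPrime := Ideal.comap_isPrime _ _
  let I : Ideal Br := q.map (algebraMap B Br)
  haveI hI : I.IsPrime := IsLocalization.isPrime_of_isPrime_disjoint MB Br q inferInstance hdisjB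
  let J : Ideal Sr := I.comap φ
  haveI : J.IsPrime := Ideal.comap_isPrime _ _
  have h1 : J.comap (algebraMap S' Sr) = n := by
    rw [Ideal.comap_comap, hc, ← Ideal.comap_comap]
    have h2 : I.comap (algebraMap B Br) = q :=
      IsLocalization.under_map_of_isPrime_disjoint MB Br inferInstance hdisjB
    rw [h2]
  have h2 : J = n.map (algebraMap S' Sr) := by
    rw [← h1]
    exact (IsLocalization.map_under MS Sr J).symm
  have h3 : J.height = I.height := RingEquiv.height_comap e I
  calc n.height = (n.map (algebraMap S' Sr)).height :=
        (IsLocalization.height_map_of_disjoint MS n hdisjS).symm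
    _ = J.height := by rw [h2]
    _ = I.height := h3
    _ = q.height := IsLocalization.height_map_of_disjoint MB q hdisjB

/-- heights are preserved when a subalgebra and the algebra agree after inverting an element -/
theorem height_comap_of_awayMap_bijective {R B : Type*} [CommRing R] [CommRing B] [Algebra R B]
    (S' : Subalgebra R B) (r : S') (q : Ideal B) [q.IsPrime] (hrq : r.1 ∉ q)
    (hbij : Function.Bijective (Localization.awayMap S'.val.toRingHom r)) :
    (q.comap S'.val.toRingHom).height = q.height := by
  have hdisjB : Disjoint (Submonoid.powers (S'.val.toRingHom r) : Set B) (q : Set B) := by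
    rw [Set.disjoint_left]
    rintro _ ⟨k, rfl⟩ hk
    exact hrq (Ideal.IsPrime.mem_of_pow_mem inferInstance k hk)
  have hdisjS : Disjoint (Submonoid.powers r : Set S')
      ((q.comap S'.val.toRingHom : Ideal S') : Set S') := by
    rw [Set.disjoint_left]
    rintro _ ⟨k, rfl⟩ hk
    have h1 : r ∈ q.comap S'.val.toRingHom :=
      Ideal.IsPrime.mem_of_pow_mem (Ideal.comap_isPrime _ _) k hk
    exact hrq h1
  refine height_comap_of_localization_bijective (Sr := Localization.Away r)
    (Br := Localization.Away (S'.val.toRingHom r)) (Submonoid.powers r)
    (Submonoid.powers (S'.val.toRingHom r)) S'.val.toRingHom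
    (Localization.awayMap S'.val.toRingHom r) hbij ?_ q hdisjB hdisjS
  exact IsLocalization.map_comp _

/-- Let `R` be a domain whose integral closure in its fraction field is local, `B` a domain which is
an `R`-algebra of finite type containing `R`, quasi-finite at a prime `q` lying over a maximal
ideal. Then the height of `q` is at least the dimension of `R`. -/
theorem height_ge_of_quasiFiniteAt (R : Type u) [CommRing R] [IsDomain R] (K : Type u) [Field K]
    [Algebra R K] [IsFractionRing R K] (hloc : IsLocalRing (integralClosure R K))
    (B : Type u) [CommRing B] [IsDomain B] [Algebra R B]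
    (hinj : Function.Injective (algebraMap R B)) [Algebra.FiniteType R B] (q : PrimeSpectrum B)
    [Algebra.QuasiFiniteAt R q.asIdeal] (hq : (q.asIdeal.comap (algebraMap R B)).IsMaximal) :
    ringKrullDim R ≤ ((Order.height q : ℕ∞) : WithBot ℕ∞) := by
  obtain ⟨S', hfg, r, hrq, hbij⟩ :=
    Algebra.QuasiFiniteAt.exists_fg_and_exists_notMem_and_awayMap_bijective (R := R) q.asIdeal
  haveI : Module.Finite R S' := ⟨(Submodule.fg_top _).mpr hfg⟩
  haveI : Algebra.IsIntegral R S' := inferInstance
  have hinjS : Function.Injective (algebraMap R S') := by
    intro a b hab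
    apply hinj
    exact congrArg (fun c : S' => (c : B)) hab
  let n : PrimeSpectrum S' := ⟨q.asIdeal.comap S'.val.toRingHom, Ideal.comap_isPrime _ _⟩
  have hn : (n.asIdeal.comap (algebraMap R S')).IsMaximal := by
    have : n.asIdeal.comap (algebraMap R S') = q.asIdeal.comap (algebraMap R B) := by
      show (q.asIdeal.comap S'.val.toRingHom).comap (algebraMap R S') = _
      rw [Ideal.comap_comap]
      rfl
    rw [this]
    exact hq
  have h1 := lemmaH_height R K hloc S' hinjS n hn
  have h2 : Order.height n = Order.height q := by
    rw [← PrimeSpectrum.height_eq_orderHeight, ← PrimeSpectrum.height_eq_orderHeight]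
    exact height_comap_of_awayMap_bijective S' r q.asIdeal hrq hbij
  rwa [h2] at h1

end Groth.Agent.Helper5.UniDim
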