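import Mathlib
import Groth.Prelude.Def_CAlg2
import Groth.Agent.Helper5.UniDim2
import Groth.Agent.Helper7.RegNil

/-!
# Chains of primes in a quasi-finite algebra over a unibranch local ring
-/

set_option autoImplicit false
set_option linter.style.haveILetI false
universe u

namespace Groth.Agent.Helper5.UniDim

open IsLocalRing

set_option maxHeartbeats 1000000 in
/-- Let `A` be a unibranch local ring, `B` an `A`-algebra of finite type and quasi-finite, `q` a
prime of `B` over the maximal ideal and `Q₀ ⊆ q` a prime of `B` over the nilradical of `A`. Then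
the primes between `Q₀` and `q` contain chains of length `dim A`. -/
theorem dim_le_krullDim_Icc_of_unibranch (A : Type u) [CommRing A] [IsLocalRing A]
    (hA : CAlg2.IsUnibranch A) (B : Type u) [CommRing B] [Algebra A B] [Algebra.FiniteType A B]
    [Algebra.QuasiFinite A B] (q Q₀ : PrimeSpectrum B) (hQq : Q₀ ≤ q)
    (hq : q.asIdeal.comap (algebraMap A B) = maximalIdeal A)
    (hQ₀ : Q₀.asIdeal.comap (algebraMap A B) = nilradical A) :
    ringKrullDim A ≤ Order.krullDim ↥(Set.Icc Q₀ q) := by
  haveI hdom : IsDomain (CAlg2.red A) := hA.1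
  let R := CAlg2.red A
  let π : A →+* R := Ideal.Quotient.mk (nilradical A)
  have hπs : Function.Surjective π := Ideal.Quotient.mk_surjective
  let B' := B ⧸ Q₀.asIdeal
  let ρ : B →+* B' := Ideal.Quotient.mk Q₀.asIdeal
  have hρs : Function.Surjective ρ := Ideal.Quotient.mk_surjective
  let f : R →+* B' := Ideal.quotientMap Q₀.asIdeal (algebraMap A B) (le_of_eq hQ₀.symm)
  letI : Algebra R B' := f.toAlgebra
  have hf : ∀ a : A, algebraMap R B' (π a) = ρ (algebraMap A B a) := fun a =>
    Ideal.quotientMap_mk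
  haveI : IsScalarTower A R B' := IsScalarTower.of_algebraMap_eq (fun a => (hf a).symm)
  have hinj : Function.Injective (algebraMap R B') :=
    Ideal.quotientMap_injective' (le_of_eq hQ₀)
  haveI : Algebra.FiniteType R B' := Algebra.FiniteType.of_restrictScalars_finiteType A R B'
  haveI : Algebra.QuasiFinite R B' := Algebra.QuasiFinite.of_restrictScalars A R B'
  let q' : Ideal B' := q.asIdeal.map ρ
  have hker : RingHom.ker ρ ≤ q.asIdeal := by rw [Ideal.mk_ker]; exact hQq
  haveI : q'.IsPrime := Ideal.map_isPrime_of_surjective hρs hker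
  have hq'c : q'.comap ρ = q.asIdeal := by
    rw [Ideal.comap_map_of_surjective ρ hρs, ← RingHom.ker_eq_comap_bot]
    exact sup_eq_left.mpr hker
  have hcomap : ∀ I : Ideal B', (I.comap (algebraMap R B')).comap π =
      (I.comap ρ).comap (algebraMap A B) := by
    intro I
    ext a
    simp only [Ideal.mem_comap, hf]
  have hq' : (q'.comap (algebraMap R B')).IsMaximal := by
    have h1 : (q'.comap (algebraMap R B')).comap π = maximalIdeal A := by
      rw [hcomap, hq'c, hq]
    have h2 : q'.comap (algebraMap R B') = (maximalIdeal A).map π := by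
      rw [← h1, Ideal.map_comap_of_surjective π hπs]
    rw [h2]
    refine Ideal.IsMaximal.map_of_surjective_of_ker_le hπs ?_
    rw [Ideal.mk_ker]
    exact IsLocalRing.le_maximalIdeal (Ideal.IsPrime.ne_top (hQ₀ ▸ Ideal.comap_isPrime _ _))
  let Q' : PrimeSpectrum B' := ⟨q', inferInstance⟩
  have h1 := height_ge_of_quasiFiniteAt R (FractionRing R) hA.2 B' hinj Q' hq'
  have h2 : ringKrullDim A = ringKrullDim R :=
    Groth.Agent.Helper7.RegNil.ringKrullDim_eq_of_surjective_of_ker_le_nilradical π hπs
      (by rw [Ideal.mk_ker])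
  rw [h2]
  refine h1.trans ?_
  rw [Order.height_eq_krullDim_Iic]
  refine Order.krullDim_le_of_strictMono
    (fun P : ↥(Set.Iic Q') => (⟨PrimeSpectrum.comap ρ P.1, ?_, ?_⟩ : ↥(Set.Icc Q₀ q))) ?_
  · show Q₀.asIdeal ≤ (P.1.asIdeal.comap ρ)
    intro b hb
    have : ρ b = 0 := Ideal.Quotient.eq_zero_iff_mem.mpr hb
    show ρ b ∈ P.1.asIdeal
    rw [this]
    exact Ideal.zero_mem _
  · show P.1.asIdeal.comap ρ ≤ q.asIdeal
    rw [← hq'c]
    exact Ideal.comap_mono P.2
  · intro P P' hPP'
    have h3 : P.1 < P'.1 := hPP'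
    have h4 : P.1.asIdeal < P'.1.asIdeal := h3
    show PrimeSpectrum.comap ρ P.1 < PrimeSpectrum.comap ρ P'.1
    have h5 : (PrimeSpectrum.comap ρ P.1).asIdeal < (PrimeSpectrum.comap ρ P'.1).asIdeal := by
      refine lt_of_le_of_ne (Ideal.comap_mono h4.le) ?_
      intro h
      have := Ideal.comap_injective_of_surjective ρ hρs h
      exact h4.ne this
    exact h5

end Groth.Agent.Helper5.UniDim
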