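import Mathlib
import Groth.Prelude.Def_CAlg2
import Groth.Agent.Helper5.UniDim3

/-!
# Chains of generizations along a quasi-finite morphism at a point with unibranch image
-/

set_option autoImplicit false
set_option linter.style.haveILetI false
universe u

namespace Groth.Agent.Helper5.UniDim

open AlgebraicGeometry CategoryTheory CategoryTheory.Limits IsLocalRing

/-- an embedding of schemes induces a strictly monotone map between intervals for the
specialization order -/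
theorem krullDim_Icc_le_of_isEmbedding {X' X : Scheme.{u}} (p : X' ⟶ X)
    (hp : Topology.IsEmbedding p) (x' ξ' : X') :
    Order.krullDim ↥(Set.Icc x' ξ') ≤ Order.krullDim ↥(Set.Icc (p x') (p ξ')) := by
  refine Order.krullDim_le_of_strictMono
    (fun t : ↥(Set.Icc x' ξ') => (⟨p t.1, ?_, ?_⟩ : ↥(Set.Icc (p x') (p ξ')))) ?_
  · exact Scheme.le_iff_specializes.2 ((Scheme.le_iff_specializes.1 t.2.1).map p.continuous)
  · exact Scheme.le_iff_specializes.2 ((Scheme.le_iff_specializes.1 t.2.2).map p.continuous)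
  · intro t t' htt'
    have h1 : t.1 < t'.1 := htt'
    rw [lt_iff_le_not_ge] at h1
    show p t.1 < p t'.1
    rw [lt_iff_le_not_ge]
    refine ⟨Scheme.le_iff_specializes.2 ((Scheme.le_iff_specializes.1 h1.1).map p.continuous), ?_⟩
    intro h2
    apply h1.2
    exact Scheme.le_iff_specializes.2
      (hp.isInducing.specializes_iff.mp (Scheme.le_iff_specializes.1 h2))

theorem krullDim_Icc_congr {X : Scheme.{u}} {a b a' b' : X} (h1 : a = a') (h2 : b = b') :
    Order.krullDim ↥(Set.Icc a b) = Order.krullDim ↥(Set.Icc a' b') := by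
  subst h1 h2
  rfl

/-- affine chart case -/
theorem dim_le_chart {A B : CommRingCat.{u}} [IsLocalRing A] (hA : CAlg2.IsUnibranch A)
    {X : Scheme.{u}} (ψ : A ⟶ B) (i₁ : Spec B ⟶ X) (hi₁ : IsOpenImmersion i₁)
    (hft : ψ.hom.FiniteType) (hqf : ψ.hom.QuasiFinite) (x' ζ : Spec B) (hζx' : ζ ⤳ x')
    (hz : Spec.map ψ x' = closedPoint A) (hζ : (Spec.map ψ ζ).asIdeal = nilradical A) :
    ringKrullDim A ≤ Order.krullDim ↥(Set.Icc (i₁ x') (i₁ ζ)) := by
  letI : Algebra A B := ψ.hom.toAlgebra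
  haveI : Algebra.FiniteType A B := hft
  haveI : Algebra.QuasiFinite A B := hqf
  let q : PrimeSpectrum B := x'
  let Q₀ : PrimeSpectrum B := ζ
  have hle : Q₀ ≤ q := (PrimeSpectrum.le_iff_specializes Q₀ q).mpr hζx'
  have hq : q.asIdeal.comap (algebraMap A B) = maximalIdeal A :=
    congrArg PrimeSpectrum.asIdeal hz
  have hQ₀ : Q₀.asIdeal.comap (algebraMap A B) = nilradical A := hζ
  have key := dim_le_krullDim_Icc_of_unibranch A hA B q Q₀ hle hq hQ₀
  refine key.trans ?_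
  rw [← Order.krullDim_orderDual (α := ↥(Set.Icc (i₁ x') (i₁ ζ)))]
  refine Order.krullDim_le_of_strictMono
    (fun P : ↥(Set.Icc Q₀ q) =>
      OrderDual.toDual (⟨i₁ P.1, ?_, ?_⟩ : ↥(Set.Icc (i₁ x') (i₁ ζ)))) ?_
  · have h1 : P.1 ⤳ q := (PrimeSpectrum.le_iff_specializes P.1 q).mp P.2.2
    have h2 : i₁ P.1 ⤳ i₁ x' := h1.map i₁.continuous
    exact Scheme.le_iff_specializes.2 h2
  · have h1 : Q₀ ⤳ P.1 := (PrimeSpectrum.le_iff_specializes Q₀ P.1).mp P.2.1
    have h2 : i₁ ζ ⤳ i₁ P.1 := h1.map i₁.continuous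
    exact Scheme.le_iff_specializes.2 h2
  · intro P P' hPP'
    have h1 : P.1 < P'.1 := hPP'
    rw [lt_iff_le_not_ge] at h1
    show OrderDual.toDual (⟨i₁ P.1, _⟩ : ↥(Set.Icc (i₁ x') (i₁ ζ))) <
      OrderDual.toDual (⟨i₁ P'.1, _⟩ : ↥(Set.Icc (i₁ x') (i₁ ζ)))
    rw [OrderDual.toDual_lt_toDual]
    show i₁ P'.1 < i₁ P.1
    rw [lt_iff_le_not_ge]
    have h2 : P.1 ⤳ P'.1 := (PrimeSpectrum.le_iff_specializes P.1 P'.1).mp h1.1
    refine ⟨Scheme.le_iff_specializes.2 (h2.map i₁.continuous), ?_⟩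
    intro h3
    apply h1.2
    have h4 : i₁ P'.1 ⤳ i₁ P.1 := Scheme.le_iff_specializes.1 h3
    exact (PrimeSpectrum.le_iff_specializes P'.1 P.1).mpr
      (i₁.isOpenEmbedding.isInducing.specializes_iff.mp h4)

/-- local case -/
theorem dim_le_local {A : CommRingCat.{u}} [IsLocalRing A] (hA : CAlg2.IsUnibranch A)
    {X : Scheme.{u}} (g : X ⟶ Spec A) [LocallyOfFiniteType g] [LocallyQuasiFinite g] (x ξ : X)
    (hξx : ξ ⤳ x) (hx : g x = closedPoint A) (hξ : (g ξ).asIdeal = nilradical A) :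
    ringKrullDim A ≤ Order.krullDim ↥(Set.Icc x ξ) := by
  have hcov : ∃ (i : X.affineCover.I₀) (x' : X.affineCover.X i), X.affineCover.f i x' = x :=
    ⟨_, X.affineCover.covers x⟩
  obtain ⟨i, x', hx'⟩ := hcov
  let i₁ := X.affineCover.f i
  have hξr : ξ ∈ Set.range i₁ := hξx.mem_open i₁.opensRange.isOpen ⟨x', hx'⟩
  obtain ⟨ζ, hζ⟩ := hξr
  have hζx' : ζ ⤳ x' := by
    have h1 : i₁ ζ ⤳ i₁ x' := by
      rw [hζ, hx']
      exact hξx
    exact i₁.isOpenEmbedding.isInducing.specializes_iff.mp h1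
  let q' := i₁ ≫ g
  have hq'1 : LocallyOfFiniteType q' := inferInstance
  have hq'2 : LocallyQuasiFinite q' := inferInstance
  obtain ⟨ψ, hψ⟩ := Spec.map_surjective q'
  have hft : ψ.hom.FiniteType := by
    rw [← hψ] at hq'1
    exact (HasRingHomProperty.Spec_iff (P := @LocallyOfFiniteType)).mp hq'1
  have hqf : ψ.hom.QuasiFinite := by
    rw [← hψ] at hq'2
    exact (HasRingHomProperty.Spec_iff (P := @LocallyQuasiFinite)).mp hq'2
  have e1 : ∀ w, Spec.map ψ w = g (i₁ w) := by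
    intro w
    rw [hψ]
    rfl
  have hi₁ : IsOpenImmersion i₁ := inferInstance
  have key := dim_le_chart hA ψ i₁ hi₁ hft hqf x' ζ hζx' (by rw [e1, hx', hx]) (by rw [e1, hζ, hξ])
  exact key.trans (le_of_eq (krullDim_Icc_congr hx' hζ))

end Groth.Agent.Helper5.UniDim
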