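import Mathlib
import Groth.Prelude.Def_CAlg2
import Groth.Agent.Helper5.UniDim4

/-!
# Going down for dimensions along a quasi-finite morphism at a point with unibranch image
-/

set_option autoImplicit false
set_option linter.style.haveILetI false
universe u

namespace Groth.Agent.Helper5.UniDim

open AlgebraicGeometry CategoryTheory CategoryTheory.Limits IsLocalRing

/-- Let `f : X ⟶ Y` be locally of finite type and locally quasi-finite, `x` a point of `X` at whose
image `Y` is unibranch, and `ξ` a generization of `x` whose image is a maximal point of `Y`. Then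
there are chains of specializations from `ξ` to `x` of length `dim 𝒪_{Y, f x}`. -/
theorem dim_le_of_unibranch {X Y : Scheme.{u}} (f : X ⟶ Y) [LocallyOfFiniteType f]
    [LocallyQuasiFinite f] (x ξ : X) (hξx : ξ ⤳ x) (hξ : ∀ y' : Y, y' ⤳ f ξ → y' = f ξ)
    (hy : CAlg2.IsUnibranch (Y.presheaf.stalk (f x))) :
    ringKrullDim (Y.presheaf.stalk (f x)) ≤ Order.krullDim ↥(Set.Icc x ξ) := by
  let y := f x
  let j := Y.fromSpecStalk y
  let g := pullback.snd f j
  let p := pullback.fst f j
  haveI : IsPreimmersion p := inferInstance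
  have hcond : ∀ w, f (p w) = j (g w) := by
    intro w
    have := congrArg (fun φ => φ w) (pullback.condition (f := f) (g := j))
    exact this
  have hxc : f x = j (closedPoint (Y.presheaf.stalk y)) :=
    (Scheme.fromSpecStalk_closedPoint (x := y)).symm
  obtain ⟨x', hx'1, hx'2⟩ := Scheme.Pullback.exists_preimage_pullback (f := f) (g := j) x
    (closedPoint (Y.presheaf.stalk y)) hxc
  have hfξ : f ξ ∈ Set.range j := by
    rw [Scheme.range_fromSpecStalk]
    exact hξx.map f.continuous
  obtain ⟨η, hη⟩ := hfξ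
  obtain ⟨ξ', hξ'1, hξ'2⟩ := Scheme.Pullback.exists_preimage_pullback (f := f) (g := j) ξ η hη.symm
  have hξ'x' : ξ' ⤳ x' := by
    have h1 : p ξ' ⤳ p x' := by
      rw [hξ'1, hx'1]
      exact hξx
    exact p.isEmbedding.isInducing.specializes_iff.mp h1
  haveI hdom : IsDomain (CAlg2.red (Y.presheaf.stalk y)) := hy.1
  haveI hNp : (nilradical (Y.presheaf.stalk y)).IsPrime :=
    (Ideal.Quotient.isDomain_iff_prime _).mp hdom
  have hηN : η.asIdeal = nilradical (Y.presheaf.stalk y) := by
    let η₀ : Spec (Y.presheaf.stalk y) := ⟨nilradical (Y.presheaf.stalk y), hNp⟩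
    have h1 : η₀ ⤳ η :=
      (PrimeSpectrum.le_iff_specializes η₀ η).mp (nilradical_le_prime η.asIdeal)
    have h2 : j η₀ ⤳ f ξ := by
      rw [← hη]
      exact h1.map j.continuous
    have h3 : j η₀ = j η := by rw [hξ _ h2, hη]
    have h4 : η₀ = η := j.isEmbedding.injective h3
    rw [← h4]
  have h1 := dim_le_local hy g x' ξ' hξ'x' hx'2 (by rw [hξ'2]; exact hηN)
  have h2 := krullDim_Icc_le_of_isEmbedding p p.isEmbedding x' ξ'
  exact h1.trans (h2.trans (le_of_eq (krullDim_Icc_congr hx'1 hξ'1)))

end Groth.Agent.Helper5.UniDim
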