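import Mathlib
import Groth.Prelude.Def_CAlg2
import Groth.Agent.Helper5.UniDim5
import Groth.Agent.Helper5.EtDim
import Groth.Agent.Helper5.SubDim2

/-!
# Dimension bounds for the irreducible components through a point of the source of a quasi-finite
morphism to a scheme which is unibranch at the image
-/

set_option autoImplicit false
set_option linter.style.haveILetI false
universe u

namespace Groth.Agent.Helper5.UniDim

open AlgebraicGeometry CategoryTheory CategoryTheory.Limits IsLocalRing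

theorem krullDim_Icc_le_of_lqf {A B : Scheme.{u}} (g : A ⟶ B) [LocallyQuasiFinite g] (x ξ : A) :
    Order.krullDim ↥(Set.Icc x ξ) ≤ Order.krullDim ↥(Set.Icc (g x) (g ξ)) := by
  have hm := Groth.Agent.Helper5.EtDim.strictMono_of_lqf g
  have hmono : ∀ a b : A, a ≤ b → g a ≤ g b := fun a b hab =>
    Scheme.le_iff_specializes.2 ((Scheme.le_iff_specializes.1 hab).map g.continuous)
  refine Order.krullDim_le_of_strictMono
    (fun t : ↥(Set.Icc x ξ) => (⟨g t.1, hmono _ _ t.2.1, hmono _ _ t.2.2⟩ :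
      ↥(Set.Icc (g x) (g ξ)))) ?_
  intro t t' htt'
  exact hm htt'

theorem krullDim_Icc_le_coheight {P : Scheme.{u}} (p ζ : P) :
    Order.krullDim ↥(Set.Icc p ζ) ≤ ((Order.coheight p : ℕ∞) : WithBot ℕ∞) := by
  rw [Order.coheight_eq_krullDim_Ici]
  refine Order.krullDim_le_of_strictMono
    (fun t : ↥(Set.Icc p ζ) => (⟨t.1, t.2.1⟩ : ↥(Set.Ici p))) ?_
  intro t t' htt'
  exact htt'

theorem krullDim_Icc_add_one_le_coheight {P : Scheme.{u}} (p ζ ζ' : P) (hζ : ζ < ζ') :
    Order.krullDim ↥(Set.Icc p ζ) + 1 ≤ ((Order.coheight p : ℕ∞) : WithBot ℕ∞) := by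
  by_cases hp : p ≤ ζ
  · haveI : Nonempty ↥(Set.Icc p ζ) := ⟨⟨p, le_refl p, hp⟩⟩
    rw [Order.coheight_eq_krullDim_Ici, ← Order.krullDim_WithTop]
    refine Order.krullDim_le_of_strictMono
      (fun t : WithTop ↥(Set.Icc p ζ) =>
        WithTop.recTopCoe (⟨ζ', hp.trans hζ.le⟩ : ↥(Set.Ici p)) (fun s => ⟨s.1, s.2.1⟩) t) ?_
    intro t t' htt'
    induction t with
    | top => exact absurd htt' (not_top_lt)
    | coe s =>
      induction t' with
      | top =>
        show (⟨s.1, _⟩ : ↥(Set.Ici p)) < ⟨ζ', _⟩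
        refine Subtype.mk_lt_mk.mpr ?_
        exact lt_of_le_of_lt s.2.2 hζ
      | coe s' =>
        have : s < s' := WithTop.coe_lt_coe.mp htt'
        exact this
  · have hempty : IsEmpty ↥(Set.Icc p ζ) := ⟨fun t => hp (t.2.1.trans t.2.2)⟩
    rw [Order.krullDim_eq_bot]
    simp

theorem krullDim_Icc_open {X : Scheme.{u}} (U : X.Opens) (x ξ : ↥(U : Scheme.{u})) :
    Order.krullDim ↥(Set.Icc (U.ι x) (U.ι ξ)) = Order.krullDim ↥(Set.Icc x ξ) := by
  apply le_antisymm
  · have hmem : ∀ t : ↥(Set.Icc (U.ι x) (U.ι ξ)), t.1 ∈ U := fun t =>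
      (Scheme.le_iff_specializes.1 t.2.1).mem_open U.2 x.2
    refine Order.krullDim_le_of_strictMono
      (fun t : ↥(Set.Icc (U.ι x) (U.ι ξ)) =>
        (⟨(⟨t.1, hmem t⟩ : ↥(U : Scheme.{u})), ?_, ?_⟩ : ↥(Set.Icc x ξ))) ?_
    · refine Scheme.le_iff_specializes.2 ?_
      rw [← U.ι.isEmbedding.isInducing.specializes_iff]
      exact Scheme.le_iff_specializes.1 t.2.1
    · refine Scheme.le_iff_specializes.2 ?_
      rw [← U.ι.isEmbedding.isInducing.specializes_iff]
      exact Scheme.le_iff_specializes.1 t.2.2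
    · intro t t' htt'
      have h1 : t.1 < t'.1 := htt'
      rw [lt_iff_le_not_ge] at h1
      refine Subtype.mk_lt_mk.mpr ?_
      rw [lt_iff_le_not_ge]
      constructor
      · refine Scheme.le_iff_specializes.2 ?_
        rw [← U.ι.isEmbedding.isInducing.specializes_iff]
        exact Scheme.le_iff_specializes.1 h1.1
      · intro h2
        apply h1.2
        refine Scheme.le_iff_specializes.2 ?_
        exact (Scheme.le_iff_specializes.1 h2).map U.ι.continuous
  · exact krullDim_Icc_le_of_isEmbedding U.ι U.ι.isEmbedding x ξ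

/-- the three bounds -/
theorem key_bounds {U P : Scheme.{u}} [IsLocallyNoetherian P] (g : U ⟶ P)
    [LocallyOfFiniteType g] [LocallyQuasiFinite g] (x : U)
    (hy : CAlg2.IsUnibranch (P.presheaf.stalk (g x))) :
    ∃ D : ℕ, ringKrullDim (P.presheaf.stalk (g x)) = (D : WithBot ℕ∞) ∧ ∀ ξ : U, ξ ⤳ x →
      (Order.krullDim ↥(Set.Icc x ξ) ≤ (D : WithBot ℕ∞)) ∧
      ((∀ ζ : P, ζ ⤳ g ξ → ζ = g ξ) → Order.krullDim ↥(Set.Icc x ξ) = (D : WithBot ℕ∞)) ∧
      (¬ (∀ ζ : P, ζ ⤳ g ξ → ζ = g ξ) →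
        Order.krullDim ↥(Set.Icc x ξ) + 1 ≤ (D : WithBot ℕ∞)) := by
  obtain ⟨D, hD1, hD2⟩ := Groth.Agent.Helper5.SubDim.ringKrullDim_stalk_nat P (g x)
  refine ⟨D, hD1, fun ξ hξx => ?_⟩
  have h1 := krullDim_Icc_le_of_lqf g x ξ
  have h2 := krullDim_Icc_le_coheight (g x) (g ξ)
  rw [hD2] at h2
  have hle : Order.krullDim ↥(Set.Icc x ξ) ≤ (D : WithBot ℕ∞) := h1.trans (by exact_mod_cast h2)
  refine ⟨hle, ?_, ?_⟩
  · intro hmax
    refine le_antisymm hle ?_
    rw [← hD1]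
    exact dim_le_of_unibranch g x ξ hξx hmax hy
  · intro hnmax
    push Not at hnmax
    obtain ⟨ζ, hζ, hne⟩ := hnmax
    have hlt : g ξ < ζ := by
      rw [lt_iff_le_not_ge]
      refine ⟨Scheme.le_iff_specializes.2 hζ, ?_⟩
      intro h3
      exact hne ((hζ.antisymm (Scheme.le_iff_specializes.1 h3)).eq)
    have h3 := krullDim_Icc_add_one_le_coheight (g x) (g ξ) ζ hlt
    rw [hD2] at h3
    have h4 : Order.krullDim ↥(Set.Icc x ξ) + 1 ≤ Order.krullDim ↥(Set.Icc (g x) (g ξ)) + 1 := by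
      gcongr
    exact h4.trans (by exact_mod_cast h3)

end Groth.Agent.Helper5.UniDim
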