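import Mathlib

/-!
# The dimension of a ring from the dimensions of its quotients by minimal primes
-/

set_option autoImplicit false
universe u

namespace Groth.Agent.Helper5.UniDim

theorem ringKrullDim_le_of_minimalPrimes {R : Type*} [CommRing R] (D : WithBot ℕ∞)
    (h : ∀ p ∈ minimalPrimes R, ringKrullDim (R ⧸ p) ≤ D) : ringKrullDim R ≤ D := by
  refine iSup_le fun l => ?_
  obtain ⟨p, hp, hpl⟩ := Ideal.exists_minimalPrimes_le (I := (⊥ : Ideal R)) (J := l.head.asIdeal)
    bot_le
  have hmem : ∀ i, l i ∈ PrimeSpectrum.zeroLocus (p : Set R) := by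
    intro i
    have h1 : l.head ≤ l i := LTSeries.head_le l i
    have h2 : l.head.asIdeal ≤ (l i).asIdeal := h1
    exact fun a ha => h2 (hpl ha)
  let l' : LTSeries ↥(PrimeSpectrum.zeroLocus (p : Set R)) :=
    { length := l.length
      toFun := fun i => ⟨l i, hmem i⟩
      step := fun i => l.step i }
  have h3 := Order.LTSeries.length_le_krullDim l'
  rw [← ringKrullDim_quotient] at h3
  exact h3.trans (h p hp)

theorem ringKrullDim_eq_of_minimalPrimes {R : Type*} [CommRing R] [Nontrivial R] (D : WithBot ℕ∞)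
    (h : ∀ p ∈ minimalPrimes R, ringKrullDim (R ⧸ p) = D) : ringKrullDim R = D := by
  refine le_antisymm (ringKrullDim_le_of_minimalPrimes D fun p hp => le_of_eq (h p hp)) ?_
  obtain ⟨m, hm⟩ := Ideal.exists_maximal R
  obtain ⟨p, hp, -⟩ := Ideal.exists_minimalPrimes_le (I := (⊥ : Ideal R)) (J := m) bot_le
  rw [← h p hp]
  exact ringKrullDim_quotient_le p

end Groth.Agent.Helper5.UniDim
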