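import Mathlib
import Groth.Prelude.Def_CAlg2
import Groth.Prelude.Def_EGA43
import Groth.Agent.Helper5.UniDim6
import Groth.Agent.Helper5.UniDim7
import Groth.Agent.Helper5.QfAff3
import Groth.Agent.Helper5.ChevD
import Groth.Agent.Helper5.FibBound
import Groth.Agent.Helper2.SmGU7

/-!
# Setup for EGA IV 14.4.6 : dimensions of the irreducible components through a point in terms of a
quasi-finite morphism to an affine space over a geometrically unibranch base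
-/

set_option autoImplicit false
set_option linter.style.haveILetI false
universe u

namespace Groth.Agent.Helper5.UniDim

open AlgebraicGeometry CategoryTheory CategoryTheory.Limits IsLocalRing
open Groth.Agent.Helper5.QfAff Groth.Agent.Helper5.Chev

set_option maxHeartbeats 1000000 in
theorem setup {X Y : Scheme.{u}} [IsLocallyNoetherian Y] (f : X ⟶ Y) [LocallyOfFiniteType f]
    (x : X) (hy : CAlg2.IsGeomUnibranch (Y.presheaf.stalk (f.base x))) :
    ∃ e D : ℕ, FlatMor.fibreDimAt f x = (e : WithBot ℕ∞) ∧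
      ∀ ξ : X, ξ ⤳ x → (∀ w : X, w ⤳ ξ → w = ξ) →
        (Order.krullDim ↥(Set.Icc x ξ) ≤ (D : WithBot ℕ∞)) ∧
        ((FlatMor.fibreDimAt f ξ = (e : WithBot ℕ∞) ∧ ∀ η : Y, η ⤳ f ξ → η = f ξ) →
          Order.krullDim ↥(Set.Icc x ξ) = (D : WithBot ℕ∞)) ∧
        (¬ (FlatMor.fibreDimAt f ξ = (e : WithBot ℕ∞) ∧ ∀ η : Y, η ⤳ f ξ → η = f ξ) →
          Order.krullDim ↥(Set.Icc x ξ) + 1 ≤ (D : WithBot ℕ∞)) := by
  obtain ⟨e, he⟩ := Groth.Agent.Helper5.SubDim.fibreDimAt_nat f x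
  obtain ⟨U, g, hxU, -, hover, hlqf⟩ := exists_lqf_to_affineSpace f x e he ⊤ trivial
  let n := ULift.{u} (Fin e)
  let π : 𝔸(n; Y) ⟶ Y := 𝔸(n; Y) ↘ Y
  haveI : IsLocallyNoetherian (𝔸(n; Y)) := LocallyOfFiniteType.isLocallyNoetherian π
  haveI : LocallyOfFiniteType (g ≫ π) := by rw [hover]; infer_instance
  haveI : LocallyOfFiniteType g := locallyOfFiniteType_of_comp g π
  let xU : ↥(U : Scheme.{u}) := ⟨x, hxU⟩
  have hπ : ∀ w : ↥(U : Scheme.{u}), π (g w) = f (U.ι w) := fun w =>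
    congrArg (fun ψ : (U : Scheme.{u}) ⟶ Y => ψ w) hover
  have hyP : CAlg2.IsUnibranch ((𝔸(n; Y)).presheaf.stalk (g xU)) := by
    refine (Groth.Agent.Helper2.SmGU7.s4936 e (g xU) ?_).1
    exact geomUnibranch_congr Y (f.base x) _ (hπ xU).symm hy
  obtain ⟨D, -, hb⟩ := key_bounds g xU hyP
  refine ⟨e, D, he, fun ξ hξx hξmax => ?_⟩
  have hξU : ξ ∈ U := hξx.mem_open U.2 hxU
  let ξU : ↥(U : Scheme.{u}) := ⟨ξ, hξU⟩
  have hξUx : ξU ⤳ xU := by
    rw [← U.ι.isEmbedding.isInducing.specializes_iff]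
    exact hξx
  have hξUmax : ∀ w : ↥(U : Scheme.{u}), w ⤳ ξU → w = ξU := by
    intro w hw
    have h1 : U.ι w ⤳ U.ι ξU := hw.map U.ι.continuous
    exact U.ι.isEmbedding.injective (hξmax _ h1)
  obtain ⟨h1, h2, h3⟩ := hb ξU hξUx
  have hIcc : Order.krullDim ↥(Set.Icc x ξ) = Order.krullDim ↥(Set.Icc xU ξU) :=
    krullDim_Icc_open U xU ξU
  have hfd : FlatMor.fibreDimAt (U.ι ≫ f) ξU = FlatMor.fibreDimAt f ξ :=
    Groth.Agent.Helper5.EqAt.fibreDimAt_open_restrict f U ξU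
  have hiff : (∀ ζ : ↥𝔸(n; Y), ζ ⤳ g ξU → ζ = g ξU) ↔
      (FlatMor.fibreDimAt f ξ = (e : WithBot ℕ∞) ∧ ∀ η : Y, η ⤳ f ξ → η = f ξ) := by
    constructor
    · intro hζ
      obtain ⟨h4, h5⟩ := of_maximal_map n (U.ι ≫ f) g hover ξU (fun w _ hw => hξUmax w hw) hζ
      rw [hfd, card_ulift_fin] at h4
      exact ⟨h4, h5⟩
    · rintro ⟨h4, h5⟩
      refine maximal_map n (U.ι ≫ f) g hover ξU (fun w _ hw => hξUmax w hw) ?_ h5
      rw [hfd, card_ulift_fin]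
      exact h4
  rw [hIcc]
  refine ⟨h1, fun h => h2 (hiff.mpr h), fun h => h3 (fun h' => h (hiff.mp h'))⟩

end Groth.Agent.Helper5.UniDim
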