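import Mathlib
import Groth.Prelude.Def_CAlg2
import Groth.Prelude.Def_EGA43
import Groth.Prelude.Def_EGA4b
import Groth.Agent.Helper5.UniDim8
import Groth.Agent.Helper5.StalkDict
import Groth.Agent.Helper5.ChevJ
import Groth.Agent.Helper5.PtOpen2
import Groth.Agent.Helper5.OpenAt4

/-!
# EGA IV 14.4.6 : equidimensionality at a point over a geometrically unibranch point (S4939)
-/

set_option autoImplicit false
set_option linter.style.haveILetI false
universe u

namespace Groth.Agent.Helper5.UniDim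

open AlgebraicGeometry CategoryTheory CategoryTheory.Limits IsLocalRing
open Groth.Agent.Helper5.QfAff Groth.Agent.Helper5.Chev Groth.Agent.Helper5.StalkDict
  Groth.Agent.Helper5.EqAt Groth.Agent.Helper5.MaxPt Groth.Agent.Helper5.OpenAt
  Groth.Agent.Helper5.PtOpen

/-- a) ⟹ the local ring is equidimensional -/
theorem isEquidim_stalk_of_isEquidimAt {X Y : Scheme.{u}} [IsLocallyNoetherian Y] (f : X ⟶ Y)
    [LocallyOfFiniteType f] (x : X) (hy : CAlg2.IsGeomUnibranch (Y.presheaf.stalk (f.base x)))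
    (h : EGA43.IsEquidimAt f x) : EGA4.IsEquidim (X.presheaf.stalk x) := by
  obtain ⟨e, D, he, hb⟩ := setup f x hy
  obtain ⟨e', he', hmax'⟩ := data_of_isEquidimAt f x h
  have hee : e' = e := by
    rw [he] at he'
    exact_mod_cast he'.symm
  subst hee
  have hD : ∀ p ∈ minimalPrimes (X.presheaf.stalk x),
      ringKrullDim (X.presheaf.stalk x ⧸ p) = (D : WithBot ℕ∞) := by
    intro p hp
    let pp : ↥(Spec (X.presheaf.stalk x)) := ⟨p, hp.1.1⟩
    have h1 := ringKrullDim_stalk_quotient x pp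
    have hξx := fromSpecStalk_specializes x pp
    have hξmax := max_of_mem_minimalPrimes x pp hp
    have h2 := (hb _ hξx hξmax).2.1 (hmax' _ hξx hξmax)
    exact h1.trans h2
  intro p hp
  rw [hD p hp]
  exact (ringKrullDim_eq_of_minimalPrimes (D : WithBot ℕ∞) hD).symm

/-- points of the fibre versus points of the scheme -/
theorem fibre_point_data {X Y : Scheme.{u}} (f : X ⟶ Y) (x : X) (z : ↥(f.fiber (f.base x)))
    (hz : f.asFiber x ∈ closure {z}) :
    f ((f.fiberι (f.base x)).base z) = f x ∧ (f.fiberι (f.base x)).base z ⤳ x := by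
  constructor
  · have : (f.fiberι (f.base x)).base z ∈ Set.range (f.fiberι (f.base x)) := ⟨z, rfl⟩
    rw [f.range_fiberι] at this
    exact this
  · have h1 : z ⤳ f.asFiber x := specializes_iff_mem_closure.mpr hz
    have h2 := h1.map (f.fiberι (f.base x)).continuous
    rwa [f.fiberι_asFiber] at h2

/-- a) ⟹ c) -/
theorem s4939_a_c {X Y : Scheme.{u}} [IsLocallyNoetherian Y] (f : X ⟶ Y)
    [LocallyOfFiniteType f] (x : X) (hy : CAlg2.IsGeomUnibranch (Y.presheaf.stalk (f.base x)))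
    (h : EGA43.IsEquidimAt f x) :
    EGA4.IsEquidim (X.presheaf.stalk x) ∧ (∀ z : ↥(f.fiber (f.base x)), f.asFiber x ∈ closure {z} →
        (∀ z' : ↥(f.fiber (f.base x)), z ∈ closure {z'} → z' = z) →
          EGA43.IsUnivOpenAt f ((f.fiberι (f.base x)).base z)) := by
  refine ⟨isEquidim_stalk_of_isEquidimAt f x hy h, ?_⟩
  intro z hz _
  obtain ⟨hfz, hzx⟩ := fibre_point_data f x z hz
  obtain ⟨U, hxU, hU⟩ := isEquidimAt_of_mem f x h
  have hzU : (f.fiberι (f.base x)).base z ∈ U := hzx.mem_open U.2 hxU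
  exact isUnivOpenAt_of_isEquidimAt f _ (hU _ hzU hfz)
    (geomUnibranch_congr Y (f.base x) _ hfz.symm hy)

set_option maxHeartbeats 1000000 in
/-- b) ⟹ a) -/
theorem s4939_b_a {X Y : Scheme.{u}} [IsLocallyNoetherian Y] (f : X ⟶ Y)
    [LocallyOfFiniteType f] (x : X) (hy : CAlg2.IsGeomUnibranch (Y.presheaf.stalk (f.base x)))
    (hEq : EGA4.IsEquidim (X.presheaf.stalk x))
    (hopen : ∀ z : ↥(f.fiber (f.base x)), f.asFiber x ∈ closure {z} →
        (∀ z' : ↥(f.fiber (f.base x)), z ∈ closure {z'} → z' = z) →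
          EGA43.IsOpenAt f.base ((f.fiberι (f.base x)).base z)) :
    EGA43.IsEquidimAt f x := by
  haveI : IsLocallyNoetherian X := LocallyOfFiniteType.isLocallyNoetherian f
  obtain ⟨e, D, he, hb⟩ := setup f x hy
  -- a good maximal point of the fibre
  obtain ⟨z, hfz, hzx, hzmax, hfd, -⟩ := exists_max_generization_fibreDimAt_eq f x
  have hzmax' : ∀ z' : X, f z' = f z → z' ⤳ z → z' = z :=
    fun z' h1 h2 => hzmax z' (h1.trans hfz) h2
  have hzr : z ∈ Set.range (f.fiberι (f.base x)) := by rw [f.range_fiberι]; exact hfz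
  obtain ⟨zF, hzF⟩ := hzr
  have hopz : EGA43.IsOpenAt f.base z := by
    rw [← hzF]
    refine hopen zF ?_ ?_
    · rw [← specializes_iff_mem_closure,
        ← (f.fiberι (f.base x)).isEmbedding.isInducing.specializes_iff, hzF, f.fiberι_asFiber]
      exact hzx
    · intro z'F hz'F
      have h1 : z'F ⤳ zF := specializes_iff_mem_closure.mpr hz'F
      have h2 := h1.map (f.fiberι (f.base x)).continuous
      rw [hzF] at h2
      have h3 : f ((f.fiberι (f.base x)).base z'F) = f x := by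
        have : (f.fiberι (f.base x)).base z'F ∈ Set.range (f.fiberι (f.base x)) := ⟨z'F, rfl⟩
        rw [f.range_fiberι] at this
        exact this
      have h4 := hzmax _ h3 h2
      exact (f.fiberι (f.base x)).isEmbedding.injective (h4.trans hzF.symm)
  have hyz : CAlg2.IsGeomUnibranch (Y.presheaf.stalk (f.base z)) :=
    geomUnibranch_congr Y (f.base x) _ hfz.symm hy
  have huo : EGA43.IsUnivOpenAt f z := isUnivOpenAt_of_isOpenAt_max f z hzmax' hyz hopz
  have hb' : ∀ U : X.Opens, z ∈ U → ∀ y' : Y, y' ⤳ f.base z →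
      FlatMor.fibreDimAt f z ≤ topologicalKrullDim ↥((U : Set X) ∩ f.base ⁻¹' {y'}) :=
    fun U hU y' hy' => le_dim_of_isUnivOpenAt f z hzmax' huo U hU y' hy'
  obtain ⟨Z, hZ, hz, hcl, hη⟩ := exists_component_of_le_dim f z hzmax' hb'
    (irreducibleComponent (f.base z)) (irreducibleComponent_mem_irreducibleComponents _)
    mem_irreducibleComponent
  have hZcl : IsClosed Z := isClosed_of_mem_irreducibleComponents Z hZ
  obtain ⟨ξZ, hξZ⟩ := QuasiSober.sober hZ.1 hZcl
  have hξZdef : closure ({ξZ} : Set X) = Z := hξZ.def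
  have hξZmax : ∀ w : X, w ⤳ ξZ → w = ξZ :=
    max_of_closure_mem_irreducibleComponents ξZ (by rw [hξZdef]; exact hZ)
  have hξZz : ξZ ⤳ z := by
    rw [specializes_iff_mem_closure, hξZdef]; exact hz
  have hξZx : ξZ ⤳ x := hξZz.trans hzx
  have hfξZcl : closure ({f.base ξZ} : Set Y) = irreducibleComponent (f.base z) := by
    rw [← hcl]
    exact (closure_image_eq_of_generic f.base f.continuous ξZ Z hξZdef).symm
  have hfξZmax : ∀ η : Y, η ⤳ f ξZ → η = f ξZ := by
    refine max_of_closure_mem_irreducibleComponents (f ξZ) ?_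
    have : closure ({f ξZ} : Set Y) = irreducibleComponent (f.base z) := hfξZcl
    rw [this]
    exact irreducibleComponent_mem_irreducibleComponents _
  have hfdξZ : FlatMor.fibreDimAt f ξZ = (e : WithBot ℕ∞) := by
    obtain ⟨h1, h2⟩ := hη (f.base ξZ) hfξZcl
    obtain ⟨n1, hn1a, hn1b⟩ := dim_closure_inter_fibre_eq_trdeg f ξZ
    obtain ⟨n0, hn0a, hn0b⟩ := fibreDimAt_of_maximal f ξZ
      (coheight_asFiber_eq_zero f ξZ (fun w _ hw => hξZmax w hw))
    have hnn : n0 = n1 := by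
      rw [hn0a] at hn1a
      exact_mod_cast hn1a
    rw [hn0b, hnn, ← hn1b, hξZdef, ← he, ← hfd, h1, h2]
  have hDZ := (hb ξZ hξZx hξZmax).2.1 ⟨hfdξZ, hfξZmax⟩
  -- the dimension of the local ring
  have hdim : ∀ ξ : X, ξ ⤳ x → (∀ w : X, w ⤳ ξ → w = ξ) →
      Order.krullDim ↥(Set.Icc x ξ) = ringKrullDim (X.presheaf.stalk x) := by
    intro ξ hξx hξmax
    obtain ⟨pp, hpp⟩ := exists_prime_of_specializes x ξ hξx
    have hmin : pp.asIdeal ∈ minimalPrimes (X.presheaf.stalk x) :=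
      mem_minimalPrimes_of_max x pp (by rw [hpp]; exact hξmax)
    have h1 := ringKrullDim_stalk_quotient x pp
    rw [hpp] at h1
    rw [← h1]
    exact hEq pp.asIdeal hmin
  have hR : ringKrullDim (X.presheaf.stalk x) = (D : WithBot ℕ∞) :=
    (hdim ξZ hξZx hξZmax).symm.trans hDZ
  refine isEquidimAt_of_key f x e (le_of_eq he) ?_
  intro ξ hξx hξ0
  have hξmax : ∀ w : X, w ⤳ ξ → w = ξ := max_of_coheight_zero ξ hξ0
  by_cases hgood : FlatMor.fibreDimAt f ξ = (e : WithBot ℕ∞) ∧ ∀ η : Y, η ⤳ f ξ → η = f ξ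
  · exact ⟨hgood.1, closure_singleton_mem_irreducibleComponents (f ξ) hgood.2⟩
  · exfalso
    have h1 := (hb ξ hξx hξmax).2.2 hgood
    rw [hdim ξ hξx hξmax, hR] at h1
    have h2 : ((D + 1 : ℕ) : WithBot ℕ∞) ≤ (D : WithBot ℕ∞) := by exact_mod_cast h1
    have h3 : D + 1 ≤ D := by exact_mod_cast h2
    omega

/-- **S4939** -/
theorem s4939 {X Y : Scheme.{u}} [IsLocallyNoetherian Y] (f : X ⟶ Y)
    [LocallyOfFiniteType f] (x : X) (hy : CAlg2.IsGeomUnibranch (Y.presheaf.stalk (f.base x))) :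
    List.TFAE [EGA43.IsEquidimAt f x,
      EGA4.IsEquidim (X.presheaf.stalk x) ∧ (∀ z : ↥(f.fiber (f.base x)), f.asFiber x ∈ closure {z} →
        (∀ z' : ↥(f.fiber (f.base x)), z ∈ closure {z'} → z' = z) → EGA43.IsOpenAt f.base ((f.fiberι (f.base x)).base z)),
      EGA4.IsEquidim (X.presheaf.stalk x) ∧ (∀ z : ↥(f.fiber (f.base x)), f.asFiber x ∈ closure {z} →
        (∀ z' : ↥(f.fiber (f.base x)), z ∈ closure {z'} → z' = z) → EGA43.IsUnivOpenAt f ((f.fiberι (f.base x)).base z))] := by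
  tfae_have 1 → 3 := s4939_a_c f x hy
  tfae_have 3 → 2 := fun ⟨h1, h2⟩ =>
    ⟨h1, fun z hz hmax => isOpenAt_of_isUnivOpenAt f _ (h2 z hz hmax)⟩
  tfae_have 2 → 1 := fun ⟨h1, h2⟩ => s4939_b_a f x hy h1 h2
  tfae_finish

end Groth.Agent.Helper5.UniDim
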