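import Mathlib
import Groth.Agent.Helper5.CMFib1
import Groth.Agent.Helper5.OpenAt
import Groth.Agent.Helper5.UniDim9
import Groth.Agent.Helper2.Miracle
import Groth.Agent.Helper2.FlatLocusSch
import Groth.Agent.Helper2.ArtSch

set_option autoImplicit false
set_option linter.style.haveILetI false
universe u
open CategoryTheory CategoryTheory.Limits AlgebraicGeometry TopologicalSpace Topology TensorProduct

namespace Groth.Agent.Helper5.CMFib

/-- openness at a point from universal openness of the restriction to an open neighbourhood -/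
theorem isOpenAt_of_universallyOpen_restrict {X Y : Scheme.{u}} (f : X ⟶ Y) (U : X.Opens)
    [UniversallyOpen (U.ι ≫ f)] (x : X) (hx : x ∈ U) : EGA43.IsOpenAt f.base x := by
  intro N hN
  have h1 : IsOpenMap (U.ι ≫ f) := (U.ι ≫ f).isOpenMap
  have h2 : (fun t : ↥(U : Scheme.{u}) => U.ι t) ⁻¹' N ∈ nhds (⟨x, hx⟩ : ↥(U : Scheme.{u})) :=
    U.ι.continuous.continuousAt.preimage_mem_nhds (show N ∈ nhds (U.ι ⟨x, hx⟩) from hN)
  have h3 := h1.image_mem_nhds h2
  refine Filter.mem_of_superset h3 ?_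
  rintro _ ⟨t, ht, rfl⟩
  exact ⟨U.ι t, ht, rfl⟩

set_option maxHeartbeats 1000000 in
/-- S3440 -/
theorem s3440 {X Y : Scheme.{u}} [IsLocallyNoetherian Y] (f : X ⟶ Y)
    [LocallyOfFiniteType f] (x : X) (hreg : IsRegularLocalRing (Y.presheaf.stalk (f.base x)))
    (hCM : LocCoh.IsCohenMacaulayLocalRing (X.presheaf.stalk x)) :
    List.TFAE [
      (f.stalkMap x).hom.Flat ∧ LocCoh.IsCohenMacaulayLocalRing ((f.fiber (f.base x)).presheaf.stalk (f.asFiber x)),
      (f.stalkMap x).hom.Flat,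
      ∃ U : X.Opens, x ∈ U ∧ UniversallyOpen (U.ι ≫ f),
      (∀ z : ↥(f.fiber (f.base x)), f.asFiber x ∈ closure {z} →
          (∀ z' : ↥(f.fiber (f.base x)), z ∈ closure {z'} → z' = z) →
          EGA43.IsOpenAt f.base ((f.fiberι (f.base x)).base z)),
      ringKrullDim (X.presheaf.stalk x) =
        ringKrullDim (Y.presheaf.stalk (f.base x)) + ringKrullDim ((f.fiber (f.base x)).presheaf.stalk (f.asFiber x)) ] := by
  haveI : IsLocallyNoetherian X := LocallyOfFiniteType.isLocallyNoetherian f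
  letI : Algebra (Y.presheaf.stalk (f x)) (X.presheaf.stalk x) := (f.stalkMap x).hom.toAlgebra
  haveI : IsLocalHom (algebraMap (Y.presheaf.stalk (f x)) (X.presheaf.stalk x)) :=
    inferInstanceAs (IsLocalHom (f.stalkMap x).hom)
  obtain ⟨e⟩ := fibre_stalk_equiv' f x
  tfae_have 1 → 2 := fun h => h.1
  tfae_have 2 → 1 := by
    intro h
    haveI : Module.Flat (Y.presheaf.stalk (f x)) (X.presheaf.stalk x) := h
    have h1 := (cm_of_flat (Y.presheaf.stalk (f x)) (X.presheaf.stalk x) hCM).2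
    exact ⟨h, Groth.Agent.Lead.CMCl.cm_of_ringEquiv e (h := h1)⟩
  tfae_have 2 → 3 := by
    intro h
    haveI : LocallyOfFinitePresentation f := Groth.Agent.Helper2.ArtSch.lfp_of_lft_noeth f
    let V : X.Opens := ⟨{x : X | (f.stalkMap x).hom.Flat},
      Groth.Agent.Helper2.FlatLocusSch.isOpen_flat_locus f⟩
    refine ⟨V, h, ?_⟩
    haveI : Flat (V.ι ≫ f) := by
      rw [Flat.iff_flat_stalkMap]
      intro x'
      rw [Scheme.Hom.stalkMap_comp]
      have h1 : (f.stalkMap (V.ι x')).hom.Flat := x'.2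
      have h2 : (V.ι.stalkMap x').hom.Flat := Flat.stalkMap _ x'
      exact RingHom.Flat.comp h1 h2
    infer_instance
  tfae_have 3 → 4 := by
    rintro ⟨U, hxU, hU⟩ z hz _
    obtain ⟨-, hzx⟩ := Groth.Agent.Helper5.UniDim.fibre_point_data f x z hz
    exact isOpenAt_of_universallyOpen_restrict f U _ (hzx.mem_open U.2 hxU)
  tfae_have 4 → 5 := Groth.Agent.Helper5.OpenAt.dim_formula_of_isOpenAt f x
  tfae_have 5 → 2 := by
    intro h
    rw [← ringKrullDim_eq_of_ringEquiv e] at h
    exact Groth.Agent.Helper2.Miracle.flat_of_cm_ring h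
  tfae_finish

end Groth.Agent.Helper5.CMFib
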