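import Mathlib
import Groth.Agent.Helper5.CMAff1
import Groth.Agent.Helper5.CMFib2
import Groth.Agent.Helper5.VarDim9
import Groth.Agent.Helper5.ResTr
import Groth.Agent.Helper5.RelDim1
import Groth.Agent.Helper5.LscDim3
import Groth.Agent.Helper5.ConsPr1
import Groth.Agent.Helper2.FibFlatMain
import Groth.Agent.Helper2.SmoothRegSch

set_option autoImplicit false
set_option linter.style.haveILetI false
universe u
open CategoryTheory CategoryTheory.Limits AlgebraicGeometry TopologicalSpace Topology

namespace Groth.Agent.Helper5.CMAff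

open Groth.Agent.Helper5.CMFib Groth.Agent.Helper5.VarDim

set_option maxHeartbeats 1000000 in
/-- dimension formula for a locally quasi-finite morphism of schemes locally of finite type over a
field, at a point where source and target have the same local dimension -/
theorem dim_formula_lqf (k : Type u) [Field k] {F G : Scheme.{u}}
    (gF : F ⟶ Spec (CommRingCat.of k)) (gG : G ⟶ Spec (CommRingCat.of k))
    [LocallyOfFiniteType gF] [LocallyOfFiniteType gG]
    (φ : F ⟶ G) (hφ : φ ≫ gG = gF) [LocallyQuasiFinite φ] (z : F) (e : ℕ)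
    (h1 : FlatMor.localDim F z = (e : WithBot ℕ∞))
    (h2 : FlatMor.localDim G (φ z) = (e : WithBot ℕ∞)) :
    ringKrullDim (F.presheaf.stalk z) = ringKrullDim (G.presheaf.stalk (φ z)) +
      ringKrullDim ((φ.fiber (φ z)).presheaf.stalk (φ.asFiber z)) ∧
      ringKrullDim ((φ.fiber (φ z)).presheaf.stalk (φ.asFiber z)) = 0 := by
  have hφlft : LocallyOfFiniteType φ := by
    have : LocallyOfFiniteType (φ ≫ gG) := hφ ▸ inferInstance
    exact locallyOfFiniteType_of_comp φ gG
  have hFN : IsLocallyNoetherian F := LocallyOfFiniteType.isLocallyNoetherian gF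
  have hGN : IsLocallyNoetherian G := LocallyOfFiniteType.isLocallyNoetherian gG
  obtain ⟨nX, hX1, hX2, -⟩ := localDim_formula k gF z
  obtain ⟨nY, hY1, hY2, -⟩ := localDim_formula k gG (φ z)
  have htower := trdeg_tower k φ gG z
  have h0 : Dual3.resTrdeg φ z = 0 := Groth.Agent.Helper5.ResTr.resTrdeg_eq_zero_of_lqf φ z
  unfold Dual3.resTrdeg at h0
  rw [hφ, hX1, hY1, h0, add_zero] at htower
  have hnat : nX = nY := by exact_mod_cast htower
  obtain ⟨kk, n, hk1, -, -, hfd⟩ := Groth.Agent.Helper5.SubDim.fibreDimAt_eq φ z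
  have hz := Groth.Agent.Helper5.RelDim.fibreDimAt_eq_zero_of_lqf φ z
  rw [hfd] at hz
  have hkn : kk + n = 0 := by exact_mod_cast hz
  have hk0 : kk = 0 := by omega
  obtain ⟨a, ha, -⟩ := Groth.Agent.Helper5.SubDim.ringKrullDim_stalk_nat F z
  obtain ⟨b, hb, -⟩ := Groth.Agent.Helper5.SubDim.ringKrullDim_stalk_nat G (φ z)
  rw [h1, ha] at hX2
  rw [h2, hb] at hY2
  have e1 : e = a + nX := by exact_mod_cast hX2
  have e2 : e = b + nY := by exact_mod_cast hY2
  have hab : a = b := by omega
  rw [hk1, hk0, ha, hb, hab]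
  exact ⟨by simp, by simp⟩

/-- the fibre map sends the canonical point of the fibre to the canonical point -/
theorem fiberMap_asFiber {U P Y : Scheme.{u}} (g : U ⟶ P) (π : P ⟶ Y) (w : U) :
    MoreMor.fiberMap g π (π (g w)) ((g ≫ π).asFiber w) = π.asFiber (g w) := by
  apply (π.fiberι (π (g w))).isEmbedding.injective
  rw [π.fiberι_asFiber]
  have h1 := Groth.Agent.Helper2.FibFlatDict.fiberMap_fst g π (π (g w))
  have h2 := congrArg (fun ψ : (g ≫ π).fiber (π (g w)) ⟶ P => ψ ((g ≫ π).asFiber w)) h1
  simp only [Scheme.Hom.comp_apply] at h2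
  rw [h2]
  congr 1
  exact (g ≫ π).fiberι_asFiber w

end Groth.Agent.Helper5.CMAff
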