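import Mathlib
import Groth.Agent.Helper5.CMAff2
import Groth.Agent.Helper5.QfAff3
import Groth.Agent.Helper2.RegCM
import Groth.Agent.Helper2.DepthCM4
import Groth.Agent.Lead.EtChartA

set_option autoImplicit false
set_option linter.style.haveILetI false
set_option linter.unusedSectionVars false
universe u
open CategoryTheory CategoryTheory.Limits AlgebraicGeometry TopologicalSpace Topology

namespace Groth.Agent.Helper5.CMAff

open Groth.Agent.Helper5.CMFib Groth.Agent.Helper5.VarDim

/-- a zero-dimensional Noetherian local ring is Cohen–Macaulay -/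
theorem cm_of_dim_zero (R : Type u) [CommRing R] [IsNoetherianRing R] [IsLocalRing R]
    (h : ringKrullDim R = 0) : LocCoh.IsCohenMacaulayLocalRing R := by
  refine { supportDim_eq_depth := ?_ }
  have h1 := Groth.Agent.Helper2.DepthCM4.depth_le_supportDim (A := R) R
  rw [Module.supportDim_self_eq_ringKrullDim, h] at h1 ⊢
  have h2 : LocCoh.depth R R = 0 := by
    have : (LocCoh.depth R R : ℕ∞) ≤ 0 := by exact_mod_cast h1
    exact le_antisymm this bot_le
  rw [h2]
  rfl

/-- the fibre local ring of a locally quasi-finite morphism has dimension zero -/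
theorem fibre_stalk_dim_zero_of_lqf {F G : Scheme.{u}} (φ : F ⟶ G) [LocallyOfFiniteType φ]
    [LocallyQuasiFinite φ] (z : F) :
    ringKrullDim ((φ.fiber (φ z)).presheaf.stalk (φ.asFiber z)) = 0 := by
  obtain ⟨kk, n, hk1, -, -, hfd⟩ := Groth.Agent.Helper5.SubDim.fibreDimAt_eq φ z
  have hz := Groth.Agent.Helper5.RelDim.fibreDimAt_eq_zero_of_lqf φ z
  rw [hfd] at hz
  have hkn : kk + n = 0 := by exact_mod_cast hz
  have hk0 : kk = 0 := by omega
  rw [hk1, hk0]
  rfl

section

variable {U Y : Scheme.{u}} (n : Type u) [Finite n] (g : U ⟶ 𝔸(n; Y)) [LocallyQuasiFinite g]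

/-- the fibre map of a locally quasi-finite morphism is locally quasi-finite -/
theorem lqf_fiberMap (s : Y) : LocallyQuasiFinite (MoreMor.fiberMap g (𝔸(n; Y) ↘ Y) s) :=
  MorphismProperty.of_isPullback
    (Groth.Agent.Helper5.ConsPr.isPullback_fiberMap g (𝔸(n; Y) ↘ Y) s) inferInstance

set_option maxHeartbeats 1000000 in
/-- a locally quasi-finite `Y`-morphism to affine space of the right dimension is flat at a
Cohen–Macaulay point -/
theorem flat_of_isCMAt [LocallyOfFinitePresentation (g ≫ (𝔸(n; Y) ↘ Y))] (w : U)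
    (hfd : FlatMor.fibreDimAt (g ≫ (𝔸(n; Y) ↘ Y)) w = (Nat.card n : WithBot ℕ∞))
    (hCM : MoreMor.IsCMAt (g ≫ (𝔸(n; Y) ↘ Y)) w) : (g.stalkMap w).hom.Flat := by
  let π : 𝔸(n; Y) ⟶ Y := 𝔸(n; Y) ↘ Y
  have key := (Groth.Agent.Helper2.FibFlatMain.s1386 g π).1 w
  refine (key.1 ⟨hCM.1, ?_⟩).2
  let s : Y := π (g w)
  let φ := MoreMor.fiberMap g π s
  let gF := (g ≫ π).fiberToSpecResidueField s
  let gG := π.fiberToSpecResidueField s
  have hφ : φ ≫ gG = gF := pullback.lift_snd _ _ _
  haveI : LocallyOfFiniteType (g ≫ π) := inferInstance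
  haveI hgF : LocallyOfFiniteType gF :=
    inferInstanceAs (LocallyOfFiniteType (Limits.pullback.snd (g ≫ π) (Y.fromSpecResidueField s)))
  haveI hgG : LocallyOfFiniteType gG :=
    inferInstanceAs (LocallyOfFiniteType (Limits.pullback.snd π (Y.fromSpecResidueField s)))
  haveI : Smooth π := Groth.Agent.Lead.EtChartA.smooth_affineSpace n Y
  haveI hsm : Smooth gG :=
    inferInstanceAs (Smooth (Limits.pullback.snd π (Y.fromSpecResidueField s)))
  haveI : LocallyQuasiFinite φ := lqf_fiberMap n g s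
  haveI hφlft : LocallyOfFiniteType φ := by
    have : LocallyOfFiniteType (φ ≫ gG) := hφ ▸ inferInstance
    exact locallyOfFiniteType_of_comp φ gG
  haveI hGN : IsLocallyNoetherian (π.fiber s) := LocallyOfFiniteType.isLocallyNoetherian gG
  let z := (g ≫ π).asFiber w
  have hz : φ z = π.asFiber (g w) := fiberMap_asFiber g π w
  have h1 : FlatMor.localDim ↥((g ≫ π).fiber s) z = (Nat.card n : WithBot ℕ∞) := hfd
  have h2 : FlatMor.localDim ↥(π.fiber s) (φ z) = (Nat.card n : WithBot ℕ∞) := by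
    rw [hz]
    exact Groth.Agent.Helper5.LscDim.fibreDimAt_affineSpace n Y (g w)
  have hdim := (dim_formula_lqf (Y.residueField s) gF gG φ hφ z (Nat.card n) h1 h2).1
  have hreg : IsRegularLocalRing ((π.fiber s).presheaf.stalk (φ z)) :=
    Groth.Agent.Helper2.SmoothRegSch.stalk_regular_of_smooth (Y.residueField s) (π.fiber s) gG (φ z)
  exact ((s3440 φ z hreg hCM.2).out 4 1).1 hdim

set_option maxHeartbeats 1000000 in
/-- conversely a `Y`-morphism to affine space, locally quasi-finite and flat at a point, exhibits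
the structure morphism as Cohen–Macaulay at that point -/
theorem isCMAt_of_flat_lqf [LocallyOfFinitePresentation (g ≫ (𝔸(n; Y) ↘ Y))] (w : U)
    (hfl : (g.stalkMap w).hom.Flat) : MoreMor.IsCMAt (g ≫ (𝔸(n; Y) ↘ Y)) w := by
  let π : 𝔸(n; Y) ⟶ Y := 𝔸(n; Y) ↘ Y
  have key := (Groth.Agent.Helper2.FibFlatMain.s1386 g π).1 w
  haveI : Smooth π := Groth.Agent.Lead.EtChartA.smooth_affineSpace n Y
  haveI : Flat π := inferInstance
  obtain ⟨hfl1, hfl2⟩ := key.2 ⟨Flat.stalkMap π (g w), hfl⟩
  refine ⟨hfl1, ?_⟩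
  let s : Y := π (g w)
  let φ := MoreMor.fiberMap g π s
  let gF := (g ≫ π).fiberToSpecResidueField s
  let gG := π.fiberToSpecResidueField s
  have hφ : φ ≫ gG = gF := pullback.lift_snd _ _ _
  haveI : LocallyOfFiniteType (g ≫ π) := inferInstance
  haveI hgF : LocallyOfFiniteType gF :=
    inferInstanceAs (LocallyOfFiniteType (Limits.pullback.snd (g ≫ π) (Y.fromSpecResidueField s)))
  haveI hgG : LocallyOfFiniteType gG :=
    inferInstanceAs (LocallyOfFiniteType (Limits.pullback.snd π (Y.fromSpecResidueField s)))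
  haveI hsm : Smooth gG :=
    inferInstanceAs (Smooth (Limits.pullback.snd π (Y.fromSpecResidueField s)))
  haveI : LocallyQuasiFinite φ := lqf_fiberMap n g s
  haveI hφlft : LocallyOfFiniteType φ := by
    have : LocallyOfFiniteType (φ ≫ gG) := hφ ▸ inferInstance
    exact locallyOfFiniteType_of_comp φ gG
  haveI hGN : IsLocallyNoetherian (π.fiber s) := LocallyOfFiniteType.isLocallyNoetherian gG
  haveI hFN : IsLocallyNoetherian ((g ≫ π).fiber s) := LocallyOfFiniteType.isLocallyNoetherian gF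
  let z := (g ≫ π).asFiber w
  have hreg : IsRegularLocalRing ((π.fiber s).presheaf.stalk (φ z)) :=
    Groth.Agent.Helper2.SmoothRegSch.stalk_regular_of_smooth (Y.residueField s) (π.fiber s) gG (φ z)
  have hA : LocCoh.IsCohenMacaulayLocalRing ((π.fiber s).presheaf.stalk (φ z)) :=
    { supportDim_eq_depth := Groth.Agent.Helper2.RegCM.cm_of_isRegularLocalRing _ }
  letI : Algebra ((π.fiber s).presheaf.stalk (φ z)) (((g ≫ π).fiber s).presheaf.stalk z) :=
    (φ.stalkMap z).hom.toAlgebra
  haveI : IsLocalHom (algebraMap ((π.fiber s).presheaf.stalk (φ z))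
      (((g ≫ π).fiber s).presheaf.stalk z)) := inferInstanceAs (IsLocalHom (φ.stalkMap z).hom)
  haveI : Module.Flat ((π.fiber s).presheaf.stalk (φ z)) (((g ≫ π).fiber s).presheaf.stalk z) := hfl2
  obtain ⟨e⟩ := fibre_stalk_equiv' φ z
  have h0 := fibre_stalk_dim_zero_of_lqf φ z
  rw [← ringKrullDim_eq_of_ringEquiv e] at h0
  haveI : Nontrivial ((((g ≫ π).fiber s).presheaf.stalk z) ⧸
      Ideal.map (φ.stalkMap z).hom (IsLocalRing.maximalIdeal ((π.fiber s).presheaf.stalk (φ z)))) :=
    e.symm.injective.nontrivial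
  have hF := cm_of_dim_zero _ h0
  exact cm_of_flat_of_fibre ((π.fiber s).presheaf.stalk (φ z))
    (((g ≫ π).fiber s).presheaf.stalk z) hA hF

end

end Groth.Agent.Helper5.CMAff
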