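import Mathlib
import Groth.Agent.Helper5.CMAff3
import Groth.Agent.Helper5.QfAff1
import Groth.Agent.Helper5.FibBound
import Groth.Agent.Helper5.EqAt1
import Groth.Agent.Helper2.LfpComp

set_option autoImplicit false
set_option linter.style.haveILetI false
set_option linter.unusedSectionVars false
universe u
open CategoryTheory CategoryTheory.Limits AlgebraicGeometry TopologicalSpace Topology

namespace Groth.Agent.Helper5.CMAff

open Groth.Agent.Helper5.CMFib Groth.Agent.Helper5.VarDim Groth.Agent.Helper5.QfAff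

/-- a ⇒ b with the fibre dimension as number of variables -/
theorem exists_lqf_flatAt_of_isCMAt {X Y : Scheme.{u}} (f : X ⟶ Y)
    [LocallyOfFinitePresentation f] (x : X) (e : ℕ)
    (he : FlatMor.fibreDimAt f x = (e : WithBot ℕ∞)) (hCM : MoreMor.IsCMAt f x) :
    ∃ (U : X.Opens) (hx : x ∈ U) (g : (U : Scheme.{u}) ⟶ 𝔸(ULift.{u} (Fin e); Y)),
      g ≫ (𝔸(ULift.{u} (Fin e); Y) ↘ Y) = U.ι ≫ f ∧ LocallyQuasiFinite g ∧
        (g.stalkMap ⟨x, hx⟩).hom.Flat := by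
  obtain ⟨U, g, hxU, -, hover, hlqf⟩ := exists_lqf_to_affineSpace f x e he ⊤ trivial
  refine ⟨U, hxU, g, hover, hlqf, ?_⟩
  haveI : LocallyOfFinitePresentation (g ≫ (𝔸(ULift.{u} (Fin e); Y) ↘ Y)) := by
    rw [hover]; infer_instance
  let w : ↥(U : Scheme.{u}) := ⟨x, hxU⟩
  refine flat_of_isCMAt (ULift.{u} (Fin e)) g w ?_ ?_
  · rw [hover, Groth.Agent.Helper5.EqAt.fibreDimAt_open_restrict f U w, card_ulift_fin]
    exact he
  · rw [hover]
    exact (isCMAt_open_restrict f U w).2 hCM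

/-- b ⇒ a -/
theorem isCMAt_of_exists_lqf_flatAt {X Y : Scheme.{u}} (f : X ⟶ Y)
    [LocallyOfFinitePresentation f] (x : X) (n : ℕ) (U : X.Opens) (hx : x ∈ U)
    (g : (U : Scheme.{u}) ⟶ 𝔸(ULift.{u} (Fin n); Y))
    (hover : g ≫ (𝔸(ULift.{u} (Fin n); Y) ↘ Y) = U.ι ≫ f) [LocallyQuasiFinite g]
    (hfl : (g.stalkMap ⟨x, hx⟩).hom.Flat) : MoreMor.IsCMAt f x := by
  haveI : LocallyOfFinitePresentation (g ≫ (𝔸(ULift.{u} (Fin n); Y) ↘ Y)) := by
    rw [hover]; infer_instance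
  let w : ↥(U : Scheme.{u}) := ⟨x, hx⟩
  have h1 := isCMAt_of_flat_lqf (ULift.{u} (Fin n)) g w hfl
  rw [hover] at h1
  exact (isCMAt_open_restrict f U w).1 h1

/-- S4949 -/
theorem s4949 {X Y : Scheme.{u}} (f : X ⟶ Y)
    [LocallyOfFinitePresentation f] (x : X) :
    MoreMor.IsCMAt f x ↔ ∃ (n : ℕ) (U : X.Opens) (hx : x ∈ U) (g : (U : Scheme.{u}) ⟶ 𝔸(ULift.{u} (Fin n); Y)),
      g ≫ (𝔸(ULift.{u} (Fin n); Y) ↘ Y) = U.ι ≫ f ∧ LocallyQuasiFinite g ∧ (g.stalkMap ⟨x, hx⟩).hom.Flat := by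
  constructor
  · intro hCM
    obtain ⟨e, he⟩ := Groth.Agent.Helper5.SubDim.fibreDimAt_nat f x
    obtain ⟨U, hx, g, h1, h2, h3⟩ := exists_lqf_flatAt_of_isCMAt f x e he hCM
    exact ⟨e, U, hx, g, h1, h2, h3⟩
  · rintro ⟨n, U, hx, g, hover, hlqf, hfl⟩
    exact isCMAt_of_exists_lqf_flatAt f x n U hx g hover hfl

set_option maxHeartbeats 1000000 in
/-- S1343 -/
theorem s1343 {X S : Scheme.{u}} (f : X ⟶ S) [Flat f] [LocallyOfFinitePresentation f]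
    (x : X) (d : ℕ) (hd : FlatMor.fibreDimAt f x = d) :
    MoreMor.IsCMAt f x ↔ ∃ (U : X.Opens) (g : (U : Scheme.{u}) ⟶ 𝔸(ULift.{u} (Fin d); S)), x ∈ U ∧
      g ≫ (𝔸(ULift.{u} (Fin d); S) ↘ S) = U.ι ≫ f ∧ Flat g ∧ LocallyQuasiFinite g := by
  constructor
  · intro hCM
    obtain ⟨U₀, hx₀, g₀, hover₀, hlqf₀, hfl₀⟩ := exists_lqf_flatAt_of_isCMAt f x d hd hCM
    let π : 𝔸(ULift.{u} (Fin d); S) ⟶ S := 𝔸(ULift.{u} (Fin d); S) ↘ S
    haveI : LocallyOfFinitePresentation (g₀ ≫ π) := by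
      show LocallyOfFinitePresentation (g₀ ≫ (𝔸(ULift.{u} (Fin d); S) ↘ S))
      rw [hover₀]; infer_instance
    haveI : LocallyOfFinitePresentation g₀ :=
      Groth.Agent.Helper2.LfpComp.locallyOfFinitePresentation_of_comp g₀ π inferInstance
        inferInstance
    let V : (U₀ : Scheme.{u}).Opens := ⟨{u | (g₀.stalkMap u).hom.Flat},
      Groth.Agent.Helper2.FlatLocusSch.isOpen_flat_locus g₀⟩
    let W : X.Opens := U₀.ι ''ᵁ V
    have hWU : W ≤ U₀ := by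
      rintro _ ⟨v, -, rfl⟩
      exact v.2
    have hxW : x ∈ W := ⟨⟨x, hx₀⟩, hfl₀, rfl⟩
    let j : (W : Scheme.{u}) ⟶ (U₀ : Scheme.{u}) := X.homOfLE hWU
    have hjι : j ≫ U₀.ι = W.ι := X.homOfLE_ι hWU
    have hjV : ∀ u : ↥(W : Scheme.{u}), j u ∈ V := by
      intro u
      obtain ⟨v, hv, hvu⟩ : W.ι u ∈ W := u.2
      have h1 : U₀.ι (j u) = W.ι u := by
        rw [← Scheme.Hom.comp_apply, hjι]
      have h2 : v = j u := U₀.ι.isEmbedding.injective (hvu.trans h1.symm)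
      rw [← h2]; exact hv
    refine ⟨W, j ≫ g₀, hxW, ?_, ?_, ?_⟩
    · rw [Category.assoc, hover₀, ← Category.assoc, hjι]
    · rw [Flat.iff_flat_stalkMap]
      intro u
      rw [Scheme.Hom.stalkMap_comp]
      exact RingHom.Flat.comp (hjV u) (Flat.stalkMap j u)
    · infer_instance
  · rintro ⟨U, g, hx, hover, hfl, hlqf⟩
    exact isCMAt_of_exists_lqf_flatAt f x d U hx g hover (Flat.stalkMap g ⟨x, hx⟩)

end Groth.Agent.Helper5.CMAff
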