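import Mathlib
import Groth.Agent.Helper5.CMAff4
import Groth.Agent.Helper5.CompFib2
import Groth.Agent.Helper5.EqAt7
import Groth.Agent.Helper5.DimIneq4

set_option autoImplicit false
set_option linter.style.haveILetI false
set_option linter.unusedSectionVars false
universe u
open CategoryTheory CategoryTheory.Limits AlgebraicGeometry TopologicalSpace Topology

namespace Groth.Agent.Helper5.CMAff

open Groth.Agent.Helper5.CMFib Groth.Agent.Helper5.VarDim Groth.Agent.Helper5.QfAff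

set_option maxHeartbeats 1000000 in
/-- near a Cohen–Macaulay point there is a flat locally quasi-finite morphism to affine space of
the fibre dimension -/
theorem exists_flat_lqf_of_isCMAt {X S : Scheme.{u}} (f : X ⟶ S) [LocallyOfFinitePresentation f]
    (x : X) (d : ℕ) (hd : FlatMor.fibreDimAt f x = d) (hCM : MoreMor.IsCMAt f x) :
    ∃ (U : X.Opens) (g : (U : Scheme.{u}) ⟶ 𝔸(ULift.{u} (Fin d); S)), x ∈ U ∧
      g ≫ (𝔸(ULift.{u} (Fin d); S) ↘ S) = U.ι ≫ f ∧ Flat g ∧ LocallyQuasiFinite g := by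
  obtain ⟨U₀, hx₀, g₀, hover₀, hlqf₀, hfl₀⟩ := exists_lqf_flatAt_of_isCMAt f x d hd hCM
  let π : 𝔸(ULift.{u} (Fin d); S) ⟶ S := 𝔸(ULift.{u} (Fin d); S) ↘ S
  haveI : LocallyOfFinitePresentation (g₀ ≫ π) := by
    show LocallyOfFinitePresentation (g₀ ≫ (𝔸(ULift.{u} (Fin d); S) ↘ S))
    rw [hover₀]; infer_instance
  haveI : LocallyOfFinitePresentation g₀ :=
    Groth.Agent.Helper2.LfpComp.locallyOfFinitePresentation_of_comp g₀ π inferInstance
      inferInstance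
  let V : (U₀ : Scheme.{u}).Opens := ⟨{u | (g₀.stalkMap u).hom.Flat},
    Groth.Agent.Helper2.FlatLocusSch.isOpen_flat_locus g₀⟩
  let W : X.Opens := U₀.ι ''ᵁ V
  have hWU : W ≤ U₀ := by
    rintro _ ⟨v, -, rfl⟩
    exact v.2
  have hxW : x ∈ W := ⟨⟨x, hx₀⟩, hfl₀, rfl⟩
  let j : (W : Scheme.{u}) ⟶ (U₀ : Scheme.{u}) := X.homOfLE hWU
  have hjι : j ≫ U₀.ι = W.ι := X.homOfLE_ι hWU
  have hjV : ∀ u : ↥(W : Scheme.{u}), j u ∈ V := by
    intro u
    obtain ⟨v, hv, hvu⟩ : W.ι u ∈ W := u.2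
    have h1 : U₀.ι (j u) = W.ι u := by
      rw [← Scheme.Hom.comp_apply, hjι]
    have h2 : v = j u := U₀.ι.isEmbedding.injective (hvu.trans h1.symm)
    rw [← h2]; exact hv
  refine ⟨W, j ≫ g₀, hxW, ?_, ?_, ?_⟩
  · rw [Category.assoc, hover₀, ← Category.assoc, hjι]
  · rw [Flat.iff_flat_stalkMap]
    intro u
    rw [Scheme.Hom.stalkMap_comp]
    exact RingHom.Flat.comp (hjV u) (Flat.stalkMap j u)
  · infer_instance

/-- the fibre dimension is constant on the source of a flat locally quasi-finite morphism to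
affine space -/
theorem fibreDimAt_of_flat_lqf {X S : Scheme.{u}} (f : X ⟶ S) [LocallyOfFiniteType f] (d : ℕ)
    (U : X.Opens) (g : (U : Scheme.{u}) ⟶ 𝔸(ULift.{u} (Fin d); S))
    (hover : g ≫ (𝔸(ULift.{u} (Fin d); S) ↘ S) = U.ι ≫ f) [Flat g] [LocallyQuasiFinite g]
    (t : X) (ht : t ∈ U) : FlatMor.fibreDimAt f t = (d : WithBot ℕ∞) := by
  let π : 𝔸(ULift.{u} (Fin d); S) ⟶ S := 𝔸(ULift.{u} (Fin d); S) ↘ S
  let w : ↥(U : Scheme.{u}) := ⟨t, ht⟩
  haveI : LocallyOfFiniteType (g ≫ π) := by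
    show LocallyOfFiniteType (g ≫ (𝔸(ULift.{u} (Fin d); S) ↘ S))
    rw [hover]; infer_instance
  haveI : LocallyOfFiniteType g := locallyOfFiniteType_of_comp g π
  have h1 := (Groth.Agent.Helper5.CompFib.fibreDimAt_comp g π w).2 (Flat.stalkMap g w)
  rw [Groth.Agent.Helper5.RelDim.fibreDimAt_eq_zero_of_lqf g w,
    Groth.Agent.Helper5.LscDim.fibreDimAt_affineSpace (ULift.{u} (Fin d)) S (g w),
    card_ulift_fin, zero_add] at h1
  have h2 : FlatMor.fibreDimAt (U.ι ≫ f) w = (d : WithBot ℕ∞) := by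
    rw [← hover]; exact h1
  rw [Groth.Agent.Helper5.EqAt.fibreDimAt_open_restrict f U w] at h2
  exact h2

/-- S4961 -/
theorem s4961 {X Y : Scheme.{u}} (f : X ⟶ Y)
    [LocallyOfFinitePresentation f] : IsOpen {x : X | MoreMor.IsCMAt f x} := by
  rw [isOpen_iff_forall_mem_open]
  intro x hx
  obtain ⟨d, hd⟩ := Groth.Agent.Helper5.SubDim.fibreDimAt_nat f x
  obtain ⟨U, g, hxU, hover, hfl, hlqf⟩ := exists_flat_lqf_of_isCMAt f x d hd hx
  refine ⟨U, ?_, U.2, hxU⟩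
  intro t ht
  exact isCMAt_of_exists_lqf_flatAt f t d U ht g hover (Flat.stalkMap g ⟨t, ht⟩)

/-- S9374 -/
theorem s9374 {X S : Scheme.{u}} (f : X ⟶ S)
    [LocallyOfFinitePresentation f] (hcm : ∀ x : X, MoreMor.IsCMAt f x) :
    IsLocallyConstant (fun x : ↑X => FlatMor.fibreDimAt f x) := by
  rw [IsLocallyConstant.iff_exists_open]
  intro x
  obtain ⟨d, hd⟩ := Groth.Agent.Helper5.SubDim.fibreDimAt_nat f x
  obtain ⟨U, g, hxU, hover, hfl, hlqf⟩ := exists_flat_lqf_of_isCMAt f x d hd (hcm x)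
  refine ⟨U, U.2, hxU, ?_⟩
  intro t ht
  show FlatMor.fibreDimAt f t = FlatMor.fibreDimAt f x
  rw [hd]
  exact fibreDimAt_of_flat_lqf f d U g hover t ht

set_option maxHeartbeats 1000000 in
/-- S2595 -/
theorem s2595 {X Y : Scheme.{u}} [IsLocallyNoetherian Y] (f : X ⟶ Y)
    [LocallyOfFiniteType f] (x : X) (hflat : (f.stalkMap x).hom.Flat)
    (hCM : LocCoh.IsCohenMacaulayLocalRing ((f.fiber (f.base x)).presheaf.stalk (f.asFiber x))) :
    EGA43.IsEquidimAt f x := by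
  haveI : IsLocallyNoetherian X := LocallyOfFiniteType.isLocallyNoetherian f
  haveI : LocallyOfFinitePresentation f := Groth.Agent.Helper2.ArtSch.lfp_of_lft_noeth f
  obtain ⟨d, hd⟩ := Groth.Agent.Helper5.SubDim.fibreDimAt_nat f x
  obtain ⟨U, g, hxU, hover, hfl, hlqf⟩ := exists_flat_lqf_of_isCMAt f x d hd ⟨hflat, hCM⟩
  refine Groth.Agent.Helper5.EqAt.isEquidimAt_of_key f x d (le_of_eq hd) ?_
  intro ξ hξx hξ0
  have hξU : ξ ∈ U := hξx.mem_open U.2 hxU
  refine ⟨fibreDimAt_of_flat_lqf f d U g hover ξ hξU, ?_⟩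
  -- `f` is flat at `ξ`
  have hCMξ := isCMAt_of_exists_lqf_flatAt f ξ d U hξU g hover (Flat.stalkMap g ⟨ξ, hξU⟩)
  have hdim := Groth.Agent.Helper5.DimIneq.stalk_dim_eq_of_flat f ξ hCMξ.1
  obtain ⟨a, ha, ha2⟩ := Groth.Agent.Helper5.SubDim.ringKrullDim_stalk_nat X ξ
  obtain ⟨b, hb, hb2⟩ := Groth.Agent.Helper5.SubDim.ringKrullDim_stalk_nat Y (f ξ)
  haveI hFN : IsLocallyNoetherian (f.fiber (f ξ)) :=
    LocallyOfFiniteType.isLocallyNoetherian (f.fiberToSpecResidueField (f ξ))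
  obtain ⟨c, hc, -⟩ := Groth.Agent.Helper5.SubDim.ringKrullDim_stalk_nat (f.fiber (f ξ))
    (f.asFiber ξ)
  rw [ha, hb, hc] at hdim
  have ha0 : a = 0 := by
    rw [hξ0] at ha2
    exact_mod_cast ha2.symm
  have hb0 : b = 0 := by
    have : a = b + c := by exact_mod_cast hdim
    omega
  have hfξ0 : Order.coheight (f ξ) = 0 := by rw [hb2, hb0]; rfl
  exact Groth.Agent.Helper5.EqAt.closure_singleton_mem_irreducibleComponents (f ξ)
    (fun w hw => Groth.Agent.Helper5.EqAt.max_of_coheight_zero (f ξ) hfξ0 w hw)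

end Groth.Agent.Helper5.CMAff
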