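import Groth.Agent.Helper5.EqAt1
import Groth.Prelude.Def_EGA43
import Groth.Prelude.Def_EGA4b

set_option autoImplicit false
universe u
open AlgebraicGeometry CategoryTheory TopologicalSpace

namespace Groth.Agent.Helper5.EqAt

open Groth.Agent.Helper5.LocDE Groth.Agent.Helper5.VarDim Groth.Agent.Helper5.MaxPt
  Groth.Agent.Helper5.SubDim Groth.Agent.Helper5.StalkDict

theorem exists_max_above {α : Type*} [Preorder α] (a : α) (h : Order.coheight a ≠ ⊤) :
    ∃ b : α, a ≤ b ∧ Order.coheight b = 0 := by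
  obtain ⟨n, hn⟩ := ENat.ne_top_iff_exists.1 h
  obtain ⟨l, hlh, hll⟩ := Order.exists_series_of_coheight_eq_coe a hn.symm
  refine ⟨l.last, hlh ▸ l.head_le_last, ?_⟩
  have h1 : (l.length : ℕ∞) = Order.coheight l.head := by rw [hlh, hll, hn]
  have h2 := Order.coheight_eq_index_of_length_eq_head_coheight h1 (Fin.last _)
  show Order.coheight (l.toFun (Fin.last l.length)) = 0
  rw [h2]
  simp

/-- A maximal point of the fibre above a given point. -/
theorem exists_max_fibre_point {X Y : Scheme.{u}} (f : X ⟶ Y) [LocallyOfFiniteType f] (x : X) :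
    ∃ z : X, f z = f x ∧ z ⤳ x ∧ ∀ z' : X, f z' = f x → z' ⤳ z → z' = z := by
  obtain ⟨k, n, -, hk, -, -⟩ := fibreDimAt_eq f x
  obtain ⟨ζ, hζ1, hζ2⟩ := exists_max_above (f.asFiber x) (by rw [hk]; exact ENat.natCast_ne_top k)
  have hemb : Topology.IsEmbedding (f.fiberι (f x)) := (f.fiberι (f x)).isEmbedding
  refine ⟨f.fiberι (f x) ζ, apply_fiberι f (f x) ζ, ?_, ?_⟩
  · have h1 : ζ ⤳ f.asFiber x := Scheme.le_iff_specializes.1 hζ1
    have h2 := h1.map (f.fiberι (f x)).continuous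
    rwa [f.fiberι_asFiber] at h2
  · intro z' hz' hsp
    have hr : z' ∈ Set.range (f.fiberι (f x)) := by
      rw [Scheme.Hom.range_fiberι]; exact hz'
    obtain ⟨ζ', rfl⟩ := hr
    have h1 : ζ' ⤳ ζ := by
      rw [← hemb.toIsInducing.specializes_iff]; exact hsp
    have hmax : IsMax ζ := Order.coheight_eq_zero.1 hζ2
    have h2 : ζ' ≤ ζ := hmax (Scheme.le_iff_specializes.2 h1)
    have h3 : ζ ⤳ ζ' := Scheme.le_iff_specializes.1 h2
    rw [(h1.antisymm h3).eq]

/-- In an equidimensional local ring, the codimension of `y` in the closure of any maximal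
generisation is the dimension of the local ring. -/
theorem icc_base_eq_of_equidim (Y : Scheme.{u}) (y η : Y) (hη : η ⤳ y)
    (hmax : ∀ t : Y, t ⤳ η → t = η) (hY : EGA4.IsEquidim (Y.presheaf.stalk y)) :
    Order.krullDim ↥(Set.Icc y η) = ringKrullDim (Y.presheaf.stalk y) := by
  obtain ⟨q, rfl⟩ := exists_prime_of_specializes y η hη
  have hq := mem_minimalPrimes_of_max y q hmax
  rw [← ringKrullDim_stalk_quotient y q]
  exact hY _ hq


theorem max_of_coheight_zero {X : Scheme.{u}} (ξ : X) (h0 : Order.coheight ξ = 0) (w : X)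
    (hw : w ⤳ ξ) : w = ξ := by
  have hmax : IsMax ξ := Order.coheight_eq_zero.1 h0
  have h2 : w ≤ ξ := hmax (Scheme.le_iff_specializes.2 hw)
  have h3 : ξ ⤳ w := Scheme.le_iff_specializes.1 h2
  exact (hw.antisymm h3).eq

/-- (K): the dimension formula between a point of the open set of equidimensionality and a
maximal point of `X` above it. -/
theorem icc_formula_of_equidim {X Y : Scheme.{u}} [IsLocallyNoetherian Y] (f : X ⟶ Y)
    [LocallyOfFiniteType f] (U : X.Opens) (e : ℕ)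
    (C2 : ∀ x' : (↥U : Type u),
      ∀ Z ∈ irreducibleComponents (↥((U.ι ≫ f).fiber ((U.ι ≫ f).base x')) : Type u),
        topologicalKrullDim (↥Z : Type u) = e)
    (z ξ : X) (hzU : z ∈ U) (hξz : ξ ⤳ z) (hξ0 : Order.coheight ξ = 0)
    (hcat : CAlg.IsUniversallyCatenary (Y.presheaf.stalk (f z))) :
    ∃ a c n : ℕ, Order.krullDim ↥(Set.Icc z ξ) = a ∧ Order.krullDim ↥(Set.Icc (f z) (f ξ)) = c ∧
      @Algebra.trdeg (Y.residueField (f z)) (X.residueField z) _ _
          (f.residueFieldMap z).hom.toAlgebra = n ∧ a + n = c + e := by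
  have hξU : ξ ∈ U := hξz.mem_open U.2 hzU
  have hmaxξ : ∀ w : X, f w = f ξ → w ⤳ ξ → w = ξ := fun w _ hw => max_of_coheight_zero ξ hξ0 w hw
  obtain ⟨n0, hn0a, hn0b⟩ := fibreDimAt_of_maximal f ξ (coheight_asFiber_eq_zero f ξ hmaxξ)
  have h1 := fibreDimAt_of_components f U e C2 ⟨ξ, hξU⟩
  have h2 : U.ι (⟨ξ, hξU⟩ : ↥(U : Scheme.{u})) = ξ := rfl
  rw [h2, hn0b] at h1
  have hn0e : n0 = e := by exact_mod_cast h1
  obtain ⟨a, c, n, e', ha, hc, hn, he', hsum⟩ := scheme_dimension_equality_local f z ξ hcat hξz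
  have hee : e' = n0 := by
    have := he'.symm.trans hn0a
    exact_mod_cast this
  exact ⟨a, c, n, ha, hc, hn, by omega⟩

/-- EGA IV 13.3.6 (S3457 form). -/
theorem quotient_formula_of_isEquidimAt {X Y : Scheme.{u}} [IsLocallyNoetherian Y] (f : X ⟶ Y)
    [LocallyOfFiniteType f] (x : X) (h : EGA43.IsEquidimAt f x)
    (hcat : CAlg.IsUniversallyCatenary (Y.presheaf.stalk (f x)))
    (𝔭 : Ideal (X.presheaf.stalk x)) (h𝔭 : 𝔭 ∈ minimalPrimes (X.presheaf.stalk x)) :
    ringKrullDim (X.presheaf.stalk x ⧸ 𝔭) +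
        ((Cardinal.toNat (@Algebra.trdeg (Y.residueField (f x)) (X.residueField x) _ _
          (f.residueFieldMap x).hom.toAlgebra) : ℕ) : WithBot ℕ∞) =
      ringKrullDim (Y.presheaf.stalk (f x) ⧸ 𝔭.comap (f.stalkMap x).hom) +
        FlatMor.fibreDimAt f x := by
  obtain ⟨e, U, hxU, C1, C2⟩ := h
  let p : ↥(Spec (X.presheaf.stalk x)) := ⟨𝔭, h𝔭.1.1⟩
  let ξ : X := X.fromSpecStalk x p
  have hξx : ξ ⤳ x := fromSpecStalk_specializes x p
  have hξ0 : Order.coheight ξ = 0 := coheight_of_mem_minimalPrimes x p h𝔭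
  obtain ⟨a, c, n, ha, hc, hn, hsum⟩ := icc_formula_of_equidim f U e C2 x ξ hxU hξx hξ0 hcat
  have h1 : ringKrullDim (X.presheaf.stalk x ⧸ 𝔭) = a := by
    rw [← ha]; exact ringKrullDim_stalk_quotient x p
  have h2 : ringKrullDim (Y.presheaf.stalk (f x) ⧸ 𝔭.comap (f.stalkMap x).hom) = c := by
    rw [← hc, map_fromSpecStalk f x p]
    exact ringKrullDim_stalk_quotient (f x) (Spec.map (f.stalkMap x) p)
  have h3 := fibreDimAt_of_components f U e C2 ⟨x, hxU⟩
  have h4 : U.ι (⟨x, hxU⟩ : ↥(U : Scheme.{u})) = x := rfl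
  rw [h4] at h3
  rw [h1, h2, h3, hn, Cardinal.toNat_natCast]
  exact_mod_cast hsum

end Groth.Agent.Helper5.EqAt
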