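import Mathlib
import Groth.Agent.Helper5.CMAff5
import Groth.Agent.Helper5.EqAt2

set_option autoImplicit false
set_option linter.style.haveILetI false
set_option linter.unusedSectionVars false
universe u
open CategoryTheory CategoryTheory.Limits AlgebraicGeometry TopologicalSpace Topology

namespace Groth.Agent.Helper5.CMAff

open Groth.Agent.Helper5.CMFib

/-- the two descriptions of the local ring of a fibre at a point -/
theorem fibre_stalk_equiv_asFiber {X S : Scheme.{u}} (f : X ⟶ S) (s : S) (z : ↥(f.fiber s)) :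
    Nonempty ((f.fiber s).presheaf.stalk z ≃+*
      (f.fiber (f (f.fiberι s z))).presheaf.stalk (f.asFiber (f.fiberι s z))) := by
  obtain ⟨e1⟩ := fibre_stalk_equiv f s z (f.fiberι s z) rfl
  obtain ⟨e2⟩ := fibre_stalk_equiv' f (f.fiberι s z)
  exact ⟨e1.symm.trans e2⟩

/-- S1341 -/
theorem s1341 {X S : Scheme.{u}} (f : X ⟶ S) [Flat f] [LocallyOfFinitePresentation f] :
    IsOpen {x : ↑X | MoreMor.IsCMAt f x} ∧
      ∀ s : S, Dense ((f.fiberι s) ⁻¹' {x : ↑X | MoreMor.IsCMAt f x}) := by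
  refine ⟨s4961 f, fun s => ?_⟩
  haveI hft : LocallyOfFiniteType (f.fiberToSpecResidueField s) :=
    inferInstanceAs (LocallyOfFiniteType (Limits.pullback.snd f (S.fromSpecResidueField s)))
  haveI hFN : IsLocallyNoetherian (f.fiber s) :=
    LocallyOfFiniteType.isLocallyNoetherian (f.fiberToSpecResidueField s)
  rw [dense_iff_inter_open]
  intro N hN ⟨z₀, hz₀⟩
  obtain ⟨a, -, ha2⟩ := Groth.Agent.Helper5.SubDim.ringKrullDim_stalk_nat (f.fiber s) z₀
  obtain ⟨z, hz₀z, hz0⟩ := Groth.Agent.Helper5.EqAt.exists_max_above z₀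
    (by rw [ha2]; exact ENat.natCast_ne_top a)
  have hzN : z ∈ N := (Scheme.le_iff_specializes.1 hz₀z).mem_open hN hz₀
  refine ⟨z, hzN, ?_⟩
  show MoreMor.IsCMAt f (f.fiberι s z)
  refine ⟨Flat.stalkMap f _, ?_⟩
  obtain ⟨b, hb1, hb2⟩ := Groth.Agent.Helper5.SubDim.ringKrullDim_stalk_nat (f.fiber s) z
  have hb0 : ringKrullDim ((f.fiber s).presheaf.stalk z) = 0 := by
    rw [hz0] at hb2
    have : b = 0 := by exact_mod_cast hb2.symm
    rw [hb1, this]; rfl
  have hcm := cm_of_dim_zero _ hb0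
  obtain ⟨e⟩ := fibre_stalk_equiv_asFiber f s z
  exact Groth.Agent.Lead.CMCl.cm_of_ringEquiv e (h := hcm)

end Groth.Agent.Helper5.CMAff
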