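import Mathlib
import Groth.Agent.Helper5.CMAff6

set_option autoImplicit false
set_option linter.style.haveILetI false
set_option linter.unusedSectionVars false
universe u
open CategoryTheory CategoryTheory.Limits AlgebraicGeometry TopologicalSpace Topology

namespace Groth.Agent.Helper5.CMAff

open Groth.Agent.Helper5.CMFib

set_option maxHeartbeats 1000000 in
/-- the Cohen–Macaulay locus is stable under base change -/
theorem isCMAt_baseChange {X S X' S' : Scheme.{u}} (f : X ⟶ S) [LocallyOfFinitePresentation f]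
    (f' : X' ⟶ S') (g' : X' ⟶ X) (g : S' ⟶ S) (hc : IsPullback g' f' f g) (x' : X')
    (h : MoreMor.IsCMAt f (g' x')) : MoreMor.IsCMAt f' x' := by
  haveI : LocallyOfFinitePresentation f' := MorphismProperty.of_isPullback hc inferInstance
  obtain ⟨d, hd⟩ := Groth.Agent.Helper5.SubDim.fibreDimAt_nat f (g' x')
  obtain ⟨U, γ, hxU, hover, hfl, hlqf⟩ := exists_flat_lqf_of_isCMAt f (g' x') d hd h
  let n := ULift.{u} (Fin d)
  let U' : X'.Opens := g' ⁻¹ᵁ U
  let hh : (U' : Scheme.{u}) ⟶ (U : Scheme.{u}) := g' ∣_ U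
  have s1 : IsPullback hh U'.ι U.ι g' := isPullback_morphismRestrict g' U
  have s2 : IsPullback hh (U'.ι ≫ f') (U.ι ≫ f) g := s1.paste_vert hc
  rw [← hover] at s2
  have t : IsPullback (AffineSpace.map n g) (𝔸(n; S') ↘ S') (𝔸(n; S) ↘ S) g :=
    AffineSpace.isPullback_map g
  have s3 := IsPullback.of_bot' s2 t
  let γ' : (U' : Scheme.{u}) ⟶ 𝔸(n; S') :=
    t.lift (hh ≫ γ) (U'.ι ≫ f') (by rw [Category.assoc, s2.w])
  have hover' : γ' ≫ (𝔸(n; S') ↘ S') = U'.ι ≫ f' := t.lift_snd _ _ _
  haveI : Flat γ' := MorphismProperty.of_isPullback s3 hfl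
  haveI : LocallyQuasiFinite γ' := MorphismProperty.of_isPullback s3 hlqf
  have hx' : x' ∈ U' := hxU
  exact isCMAt_of_exists_lqf_flatAt f' x' d U' hx' γ' hover' (Flat.stalkMap γ' ⟨x', hx'⟩)

set_option maxHeartbeats 1000000 in
/-- the Cohen–Macaulay locus descends along base change -/
theorem isCMAt_of_baseChange {X S X' S' : Scheme.{u}} (f : X ⟶ S) [LocallyOfFiniteType f]
    (f' : X' ⟶ S') (g' : X' ⟶ X) (g : S' ⟶ S) (hc : IsPullback g' f' f g) (x' : X')
    (hflat : (f.stalkMap (g' x')).hom.Flat)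
    (h : MoreMor.IsCMAt f' x') : MoreMor.IsCMAt f (g' x') := by
  refine ⟨hflat, ?_⟩
  haveI : LocallyOfFiniteType f' := MorphismProperty.of_isPullback hc inferInstance
  let s' : S' := f' x'
  let s : S := g s'
  let ρ := g.residueFieldMap s'
  have H := isPullback_fiberToSpecResidueField_of_isPullback hc s'
  obtain ⟨ψ, hψfst, H'⟩ : ∃ ψ : f'.fiber s' ⟶ f.fiber s,
      ψ ≫ f.fiberι s = f'.fiberι s' ≫ g' ∧
      IsPullback ψ (f'.fiberToSpecResidueField s') (f.fiberToSpecResidueField s) (Spec.map ρ) :=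
    ⟨_, pullback.lift_fst _ _ _, H⟩
  haveI : Flat (Spec.map ρ) := by
    rw [HasRingHomProperty.Spec_iff (P := @Flat)]
    letI : Algebra (S.residueField s) (S'.residueField s') := ρ.hom.toAlgebra
    show Module.Flat (S.residueField s) (S'.residueField s')
    infer_instance
  haveI : Flat ψ := MorphismProperty.of_isPullback H'.flip inferInstance
  haveI : LocallyOfFiniteType (f.fiberToSpecResidueField s) :=
    inferInstanceAs (LocallyOfFiniteType (Limits.pullback.snd f (S.fromSpecResidueField s)))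
  haveI : LocallyOfFiniteType (f'.fiberToSpecResidueField s') :=
    inferInstanceAs (LocallyOfFiniteType (Limits.pullback.snd f' (S'.fromSpecResidueField s')))
  haveI hFN : IsLocallyNoetherian (f.fiber s) :=
    LocallyOfFiniteType.isLocallyNoetherian (f.fiberToSpecResidueField s)
  haveI hFN' : IsLocallyNoetherian (f'.fiber s') :=
    LocallyOfFiniteType.isLocallyNoetherian (f'.fiberToSpecResidueField s')
  let z' : ↥(f'.fiber s') := f'.asFiber x'
  let z : ↥(f.fiber s) := ψ z'
  have hz : f.fiberι s z = g' x' := by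
    have h1 : ψ ≫ f.fiberι s = f'.fiberι s' ≫ g' := hψfst
    have h2 := congrArg (fun φ : f'.fiber s' ⟶ X => φ z') h1
    simp only [Scheme.Hom.comp_apply] at h2
    rw [f'.fiberι_asFiber] at h2
    exact h2
  letI : Algebra ((f.fiber s).presheaf.stalk z) ((f'.fiber s').presheaf.stalk z') :=
    (ψ.stalkMap z').hom.toAlgebra
  haveI : IsLocalHom (algebraMap ((f.fiber s).presheaf.stalk z)
      ((f'.fiber s').presheaf.stalk z')) := inferInstanceAs (IsLocalHom (ψ.stalkMap z').hom)
  haveI : Module.Flat ((f.fiber s).presheaf.stalk z) ((f'.fiber s').presheaf.stalk z') :=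
    Flat.stalkMap ψ z'
  have hA := (cm_of_flat ((f.fiber s).presheaf.stalk z) ((f'.fiber s').presheaf.stalk z') h.2).1
  obtain ⟨e1⟩ := fibre_stalk_equiv f s z (g' x') hz
  obtain ⟨e2⟩ := fibre_stalk_equiv' f (g' x')
  exact Groth.Agent.Lead.CMCl.cm_of_ringEquiv (e1.symm.trans e2) (h := hA)

/-- S1342 -/
theorem s1342 {X S X' S' : Scheme.{u}} (f : X ⟶ S) [Flat f] [LocallyOfFinitePresentation f]
    (f' : X' ⟶ S') (g' : X' ⟶ X) (g : S' ⟶ S) (hc : IsPullback g' f' f g) :
    {x' : ↑X' | MoreMor.IsCMAt f' x'} = g' ⁻¹' {x : ↑X | MoreMor.IsCMAt f x} := by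
  ext x'
  constructor
  · intro h
    exact isCMAt_of_baseChange f f' g' g hc x' (Flat.stalkMap f _) h
  · intro h
    exact isCMAt_baseChange f f' g' g hc x' h

end Groth.Agent.Helper5.CMAff
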