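import Mathlib
import Groth.Agent.Helper5.CMAff7
import Groth.Agent.Helper5.ConsLc9
import Groth.Agent.Helper5.ImmCons1
import Groth.Agent.Helper5.FlatCons1
import Groth.Agent.Helper3.RedGF6

set_option autoImplicit false
set_option linter.style.haveILetI false
set_option linter.unusedSectionVars false
universe u
open CategoryTheory CategoryTheory.Limits AlgebraicGeometry TopologicalSpace Topology

namespace Groth.Agent.Helper5.CMCons

open Groth.Agent.Helper5.CMFib Groth.Agent.Helper5.CMAff Groth.Agent.Helper5.ConsPr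
  Groth.Agent.Helper5.ConsLc Groth.Agent.Helper5.FlatCons

/-- the relation "all local rings are Cohen–Macaulay" -/
abbrev PCM : ∀ ⦃Y T : Scheme.{u}⦄, (Y ⟶ T) → Prop :=
  fun Y _ _ => ∀ z : Y, LocCoh.IsCohenMacaulayLocalRing (Y.presheaf.stalk z)

/-- the local ring of a one-point integral scheme has zero maximal ideal -/
theorem maximalIdeal_stalk_of_onePoint (T : Scheme.{u}) [IsIntegral T] [Subsingleton T] (t : T) :
    IsLocalRing.maximalIdeal (T.presheaf.stalk t) = ⊥ := by
  rw [← IsLocalRing.isField_iff_maximalIdeal_eq]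
  haveI : Ring.KrullDimLE 0 (T.presheaf.stalk t) := by
    rw [Ring.krullDimLE_iff, ringKrullDim_stalk_eq_coheight t]
    have h0 : Order.coheight t = 0 := by
      rw [Order.coheight_eq_zero]
      intro b _
      rw [Subsingleton.elim b t]
    rw [h0]
    rfl
  exact Ring.KrullDimLE.isField_of_isDomain

/-- over a one-point integral base, Cohen–Macaulay at a point means the local ring is
Cohen–Macaulay -/
theorem isCMAt_iff_of_onePoint {Y T : Scheme.{u}} (g : Y ⟶ T) [IsIntegral T] [Subsingleton T]
    (y : Y) : MoreMor.IsCMAt g y ↔ LocCoh.IsCohenMacaulayLocalRing (Y.presheaf.stalk y) := by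
  obtain ⟨e⟩ := fibre_stalk_equiv' g y
  have hI : Ideal.map (g.stalkMap y).hom (IsLocalRing.maximalIdeal (T.presheaf.stalk (g y))) = ⊥ := by
    rw [maximalIdeal_stalk_of_onePoint T (g y), Ideal.map_bot]
  let e0 : (Y.presheaf.stalk y ⧸ Ideal.map (g.stalkMap y).hom
      (IsLocalRing.maximalIdeal (T.presheaf.stalk (g y)))) ≃+* Y.presheaf.stalk y :=
    (Ideal.quotEquivOfEq hI).trans (RingEquiv.quotientBot _)
  let e1 := e.symm.trans e0
  constructor
  · intro h
    exact Groth.Agent.Lead.CMCl.cm_of_ringEquiv e1 (h := h.2)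
  · intro h
    exact ⟨Flat.stalkMap g y, Groth.Agent.Lead.CMCl.cm_of_ringEquiv e1.symm (h := h)⟩

theorem isFieldStable_PCM : ConsProp.IsFieldStable (PCM.{u}) := by
  intro Y Y' T T' g g' e h _ _ _ _ _ _ sq
  haveI : IsNoetherian T := Groth.Agent.Helper5.ImmCons.isNoetherian_of_onePoint T
  haveI : LocallyOfFinitePresentation g :=
    LocallyOfFinitePresentation.iff_locallyOfFiniteType.mpr inferInstance
  haveI : Nonempty T' := inferInstance
  constructor
  · intro H z'
    rw [← isCMAt_iff_of_onePoint g' z']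
    refine isCMAt_baseChange g g' e h sq z' ?_
    rw [isCMAt_iff_of_onePoint g (e z')]
    exact H _
  · intro H z
    rw [← isCMAt_iff_of_onePoint g z]
    haveI : Surjective h := surjective_of_subsingleton h
    haveI : Surjective e := MorphismProperty.of_isPullback sq.flip inferInstance
    obtain ⟨z', rfl⟩ := e.surjective z
    refine isCMAt_of_baseChange g g' e h sq z' (Flat.stalkMap g _) ?_
    rw [isCMAt_iff_of_onePoint g' z']
    exact H _

/-- for a flat family the locus is the complement of the image of the non-CM locus -/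
theorem locus_PCM_eq {X S : Scheme.{u}} (u : X ⟶ S) [Flat u] :
    ConsProp.locus PCM u = (⇑u '' {x : X | MoreMor.IsCMAt u x}ᶜ)ᶜ := by
  ext s
  constructor
  · rintro hs ⟨x, hx, rfl⟩
    exact hx ⟨Flat.stalkMap u x, hs _⟩
  · intro hs z
    have hx : u (u.fiberι s z) = s := by
      have : u.fiberι s z ∈ Set.range (u.fiberι s) := ⟨z, rfl⟩
      rwa [Scheme.Hom.range_fiberι] at this
    have h1 : MoreMor.IsCMAt u (u.fiberι s z) := by
      by_contra hcon
      exact hs ⟨_, hcon, hx⟩
    obtain ⟨e⟩ := fibre_stalk_equiv_asFiber u s z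
    exact Groth.Agent.Lead.CMCl.cm_of_ringEquiv e.symm (h := h1.2)

theorem decided_of_flat {X S : Scheme.{u}} (u : X ⟶ S) [IrreducibleSpace S] [IsNoetherian S]
    [LocallyOfFiniteType u] [QuasiCompact u] [Flat u] :
    (interior (ConsProp.locus PCM u)).Nonempty ∨ (interior (ConsProp.locus PCM u)ᶜ).Nonempty := by
  have hXN1 : IsLocallyNoetherian X := LocallyOfFiniteType.isLocallyNoetherian u
  have hXN2 : CompactSpace X := QuasiCompact.compactSpace_of_compactSpace u
  have hXN : IsNoetherian X := {}
  haveI : LocallyOfFinitePresentation u :=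
    LocallyOfFinitePresentation.iff_locallyOfFiniteType.mpr inferInstance
  apply cons_decide
  rw [locus_PCM_eq u]
  apply Groth.Agent.Helper5.KLem.isLocallyConstructible_compl
  apply u.isLocallyConstructible_image
  exact (isConstructible_of_isClosed_noeth (s4961 u).isClosed_compl).isLocallyConstructible

theorem isCons_PCM : ConsProp.IsCons (PCM.{u}) := by
  refine ⟨isFieldStable_PCM, ?_⟩
  intro X S u _ _ _ _
  obtain ⟨U, hUd, hUflat, hUfp⟩ := Groth.Agent.Helper3.RedGF6.main u
  have sq : IsPullback (u ⁻¹ᵁ U).ι (u ∣_ U) u U.ι := (isPullback_morphismRestrict u U).flip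
  have hloc := locus_of_isPullback isFieldStable_PCM sq
  have hUne : Nonempty ↥(U : Scheme.{u}) := by
    obtain ⟨x, hx⟩ := hUd.nonempty
    exact ⟨⟨x, hx⟩⟩
  haveI : IsIntegral (U : Scheme.{u}) := isIntegral_of_isOpenImmersion U.ι
  haveI : IsLocallyNoetherian (U : Scheme.{u}) := isLocallyNoetherian_of_isOpenImmersion U.ι
  haveI : CompactSpace ↥(U : Scheme.{u}) :=
    isCompact_iff_compactSpace.mp (NoetherianSpace.isCompact (U : Set S))
  haveI : IsNoetherian (U : Scheme.{u}) := {}
  haveI : LocallyOfFiniteType (u ∣_ U) := MorphismProperty.of_isPullback sq inferInstance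
  haveI : QuasiCompact (u ∣_ U) := MorphismProperty.of_isPullback sq inferInstance
  have h := decided_of_flat (u ∣_ U)
  rw [hloc] at h
  have hopen : ∀ A : Set S, (interior (U.ι ⁻¹' A)).Nonempty → (interior A).Nonempty := by
    rintro A ⟨t, ht⟩
    refine ⟨U.ι t, ?_⟩
    rw [mem_interior] at ht ⊢
    obtain ⟨W, hWA, hWo, htW⟩ := ht
    refine ⟨U.ι '' W, ?_, U.ι.isOpenEmbedding.isOpenMap W hWo, ⟨t, htW, rfl⟩⟩
    rintro _ ⟨w, hw, rfl⟩
    exact hWA hw
  rcases h with h | h
  · exact Or.inl (hopen _ h)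
  · exact Or.inr (hopen _ h)

/-- S3437 -/
theorem s3437 {X S : Scheme.{u}} (f : X ⟶ S)
    [LocallyOfFinitePresentation f] [QuasiCompact f] [QuasiSeparated f] :
    Topology.IsLocallyConstructible {s : S |
      ∀ z : ↥(f.fiber s), LocCoh.IsCohenMacaulayLocalRing ((f.fiber s).presheaf.stalk z)} :=
  isLocallyConstructible_locus isCons_PCM f

end Groth.Agent.Helper5.CMCons
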