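import Mathlib
import Groth.Agent.Helper5.CMCons1
import Groth.Agent.Helper5.SmCons3

set_option autoImplicit false
set_option linter.style.haveILetI false
set_option linter.unusedSectionVars false
universe u
open CategoryTheory CategoryTheory.Limits AlgebraicGeometry TopologicalSpace Topology

namespace Groth.Agent.Helper5.CMSrc

open Groth.Agent.Helper5.CMFib Groth.Agent.Helper5.CMAff Groth.Agent.Helper5.ConsPr
  Groth.Agent.Helper5.ConsLc Groth.Agent.Helper5.FlatCons Groth.Agent.Helper5.CMCons

/-- the Cohen–Macaulay property of the local ring of a fibre at a point, in the two descriptions -/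
theorem cm_fibre_stalk_iff {X S : Scheme.{u}} (f : X ⟶ S) (s : S) (z : ↥(f.fiber s)) (x : X)
    (hx : f.fiberι s z = x) :
    LocCoh.IsCohenMacaulayLocalRing ((f.fiber s).presheaf.stalk z) ↔
      LocCoh.IsCohenMacaulayLocalRing ((f.fiber (f x)).presheaf.stalk (f.asFiber x)) := by
  subst hx
  obtain ⟨e⟩ := fibre_stalk_equiv_asFiber f s z
  exact ⟨fun h => Groth.Agent.Lead.CMCl.cm_of_ringEquiv e (h := h),
    fun h => Groth.Agent.Lead.CMCl.cm_of_ringEquiv e.symm (h := h)⟩

set_option maxHeartbeats 1000000 in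
/-- the Cohen–Macaulay property of the local ring of the fibre is invariant under base change -/
theorem cm_fibre_baseChange_iff {X S X' S' : Scheme.{u}} (f : X ⟶ S) [LocallyOfFiniteType f]
    (f' : X' ⟶ S') (g' : X' ⟶ X) (g : S' ⟶ S) (hc : IsPullback g' f' f g) (x' : X') :
    LocCoh.IsCohenMacaulayLocalRing ((f'.fiber (f' x')).presheaf.stalk (f'.asFiber x')) ↔
      LocCoh.IsCohenMacaulayLocalRing
        ((f.fiber (f (g' x'))).presheaf.stalk (f.asFiber (g' x'))) := by
  haveI : LocallyOfFiniteType f' := MorphismProperty.of_isPullback hc inferInstance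
  let s' : S' := f' x'
  let s : S := g s'
  let ρ := g.residueFieldMap s'
  have H := isPullback_fiberToSpecResidueField_of_isPullback hc s'
  obtain ⟨ψ, hψfst, H'⟩ : ∃ ψ : f'.fiber s' ⟶ f.fiber s,
      ψ ≫ f.fiberι s = f'.fiberι s' ≫ g' ∧
      IsPullback ψ (f'.fiberToSpecResidueField s') (f.fiberToSpecResidueField s) (Spec.map ρ) :=
    ⟨_, pullback.lift_fst _ _ _, H⟩
  haveI : LocallyOfFiniteType (f.fiberToSpecResidueField s) :=
    inferInstanceAs (LocallyOfFiniteType (Limits.pullback.snd f (S.fromSpecResidueField s)))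
  haveI : LocallyOfFinitePresentation (f.fiberToSpecResidueField s) :=
    LocallyOfFinitePresentation.iff_locallyOfFiniteType.mpr inferInstance
  let z' : ↥(f'.fiber s') := f'.asFiber x'
  let z : ↥(f.fiber s) := ψ z'
  have hz : f.fiberι s z = g' x' := by
    have h1 : ψ ≫ f.fiberι s = f'.fiberι s' ≫ g' := hψfst
    have h2 := congrArg (fun φ : f'.fiber s' ⟶ X => φ z') h1
    simp only [Scheme.Hom.comp_apply] at h2
    rw [f'.fiberι_asFiber] at h2
    exact h2
  rw [← cm_fibre_stalk_iff f s z (g' x') hz]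
  rw [← isCMAt_iff_of_onePoint (f.fiberToSpecResidueField s) z,
    ← isCMAt_iff_of_onePoint (f'.fiberToSpecResidueField s') z']
  constructor
  · intro h
    exact isCMAt_of_baseChange _ _ ψ (Spec.map ρ) H' z' (Flat.stalkMap _ _) h
  · intro h
    exact isCMAt_baseChange _ _ ψ (Spec.map ρ) H' z' h

end Groth.Agent.Helper5.CMSrc
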