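import Mathlib
import Groth.Agent.Helper5.OverField
import Groth.Agent.Helper5.VarDim4

set_option autoImplicit false
set_option linter.style.haveILetI false
set_option linter.unusedSectionVars false
set_option linter.deprecated false
universe u
open CategoryTheory CategoryTheory.Limits AlgebraicGeometry TopologicalSpace Topology TensorProduct

namespace Groth.Agent.Helper5.BCDim

open Groth.Agent.Helper5.VarDim

/-- dimension formula for a flat local homomorphism of Noetherian local rings -/
theorem ringKrullDim_quot_add {R S : Type*} [CommRing R] [CommRing S] [IsLocalRing R]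
    [IsLocalRing S] [IsNoetherianRing R] [IsNoetherianRing S] [Algebra R S]
    [IsLocalHom (algebraMap R S)] [Module.Flat R S] :
    ringKrullDim (S ⧸ (IsLocalRing.maximalIdeal R).map (algebraMap R S)) + ringKrullDim R =
      ringKrullDim S := by
  haveI : Algebra.HasGoingDown R S := Algebra.HasGoingDown.of_flat
  haveI : (IsLocalRing.maximalIdeal S).LiesOver (IsLocalRing.maximalIdeal R) :=
    ⟨(((IsLocalRing.local_hom_TFAE (algebraMap R S)).out 0 4 rfl rfl).mp inferInstance).symm⟩
  have h := Ideal.height_eq_height_add_of_liesOver_of_hasGoingDown (IsLocalRing.maximalIdeal R)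
    (IsLocalRing.maximalIdeal S)
  set I := (IsLocalRing.maximalIdeal R).map (algebraMap R S) with hI
  have hIle : I ≤ IsLocalRing.maximalIdeal S := by
    rw [hI, Ideal.map_le_iff_le_comap]
    exact (Ideal.LiesOver.over (p := IsLocalRing.maximalIdeal R)
      (P := IsLocalRing.maximalIdeal S)).le
  haveI : Nontrivial (S ⧸ I) := Ideal.Quotient.nontrivial_iff.2 (fun h =>
    (IsLocalRing.maximalIdeal.isMaximal S).ne_top (top_le_iff.1 (h ▸ hIle)))
  haveI : IsLocalRing (S ⧸ I) :=
    IsLocalRing.of_surjective' (Ideal.Quotient.mk I) Ideal.Quotient.mk_surjective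
  have hmax : (IsLocalRing.maximalIdeal S).map (Ideal.Quotient.mk I) =
      IsLocalRing.maximalIdeal (S ⧸ I) := by
    rcases Ideal.map_eq_top_or_isMaximal_of_surjective (Ideal.Quotient.mk I)
      Ideal.Quotient.mk_surjective (IsLocalRing.maximalIdeal.isMaximal S) with htop | hmx
    · exfalso
      have h1 : (1 : S ⧸ I) ∈ (IsLocalRing.maximalIdeal S).map (Ideal.Quotient.mk I) := by
        rw [htop]; trivial
      rw [Ideal.mem_map_iff_of_surjective _ Ideal.Quotient.mk_surjective] at h1
      obtain ⟨s, hs, hs1⟩ := h1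
      have h2 : s - 1 ∈ I := by
        rw [← Ideal.Quotient.eq_zero_iff_mem, map_sub, hs1, map_one, sub_self]
      have h3 : (1 : S) ∈ IsLocalRing.maximalIdeal S := by
        have := (IsLocalRing.maximalIdeal S).sub_mem hs (hIle h2)
        simpa using this
      exact (IsLocalRing.maximalIdeal.isMaximal S).ne_top
        ((Ideal.eq_top_iff_one _).2 h3)
    · exact IsLocalRing.eq_maximalIdeal hmx
  rw [hmax] at h
  rw [← IsLocalRing.maximalIdeal_height_eq_ringKrullDim,
    ← IsLocalRing.maximalIdeal_height_eq_ringKrullDim,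
    ← IsLocalRing.maximalIdeal_height_eq_ringKrullDim, h]
  push_cast
  rw [add_comm]

variable (k K : Type u) [Field k] [Field K] [Algebra k K]

theorem localDim_bc_eq {X X' : Scheme.{u}} (f : X ⟶ Spec (CommRingCat.of k))
    [LocallyOfFiniteType f] (f' : X' ⟶ Spec (CommRingCat.of K)) (p : X' ⟶ X)
    (hsq : IsPullback p f' f (Spec.map (CommRingCat.ofHom (algebraMap k K)))) (y : X') :
    FlatMor.localDim X' y = FlatMor.localDim X (p y) := by
  haveI : Subsingleton ↥(Spec (CommRingCat.of k)) :=
    inferInstanceAs (Subsingleton (PrimeSpectrum k))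
  haveI : Subsingleton ↥(Spec (CommRingCat.of K)) :=
    inferInstanceAs (Subsingleton (PrimeSpectrum K))
  rw [← Groth.Agent.Helper5.OverField.fibreDimAt_of_subsingleton f' y,
    ← Groth.Agent.Helper5.OverField.fibreDimAt_of_subsingleton f (p y)]
  exact Groth.Agent.Helper5.BCMin.fibreDimAt_of_isPullback f _ p f' hsq y

/-- the dimension formula along a base field extension -/
theorem dim_stalk_add_trdeg {X X' : Scheme.{u}} (f : X ⟶ Spec (CommRingCat.of k))
    [LocallyOfFiniteType f] (f' : X' ⟶ Spec (CommRingCat.of K)) (p : X' ⟶ X)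
    (hsq : IsPullback p f' f (Spec.map (CommRingCat.ofHom (algebraMap k K)))) (y : X') :
    ∃ n n' : ℕ, @Algebra.trdeg k (X.residueField (p y)) _ _ (resHom k f (p y)).toAlgebra = n ∧
      @Algebra.trdeg K (X'.residueField y) _ _ (resHom K f' y).toAlgebra = n' ∧
      ringKrullDim (X'.presheaf.stalk y) + (n' : WithBot ℕ∞) =
        ringKrullDim (X.presheaf.stalk (p y)) + (n : WithBot ℕ∞) := by
  haveI : LocallyOfFiniteType f' := MorphismProperty.of_isPullback hsq inferInstance
  obtain ⟨n, hn1, hn2, -⟩ := localDim_formula k f (p y)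
  obtain ⟨n', hn'1, hn'2, -⟩ := localDim_formula K f' y
  refine ⟨n, n', hn1, hn'1, ?_⟩
  rw [← hn2, ← hn'2]
  exact localDim_bc_eq k K f f' p hsq y

/-- the dimension of the fibre ring -/
theorem dim_fibre_ring {X X' : Scheme.{u}} (f : X ⟶ Spec (CommRingCat.of k))
    [LocallyOfFiniteType f] (f' : X' ⟶ Spec (CommRingCat.of K)) (p : X' ⟶ X)
    (hsq : IsPullback p f' f (Spec.map (CommRingCat.ofHom (algebraMap k K)))) (y : X') :
    ringKrullDim (↥(X'.presheaf.stalk y) ⧸ Ideal.map (p.stalkMap y).hom
      (IsLocalRing.maximalIdeal ↥(X.presheaf.stalk (p y)))) +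
        ringKrullDim (X.presheaf.stalk (p y)) = ringKrullDim (X'.presheaf.stalk y) := by
  haveI : LocallyOfFiniteType f' := MorphismProperty.of_isPullback hsq inferInstance
  haveI : IsLocallyNoetherian X := LocallyOfFiniteType.isLocallyNoetherian f
  haveI : IsLocallyNoetherian X' := LocallyOfFiniteType.isLocallyNoetherian f'
  haveI : Flat (Spec.map (CommRingCat.ofHom (algebraMap k K))) := by
    rw [HasRingHomProperty.Spec_iff (P := @Flat)]
    show (algebraMap k K).Flat
    rw [RingHom.flat_algebraMap_iff]
    infer_instance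
  haveI : Flat p := MorphismProperty.of_isPullback hsq.flip inferInstance
  letI : Algebra (X.presheaf.stalk (p y)) (X'.presheaf.stalk y) := (p.stalkMap y).hom.toAlgebra
  haveI : IsLocalHom (algebraMap (X.presheaf.stalk (p y)) (X'.presheaf.stalk y)) :=
    inferInstanceAs (IsLocalHom (p.stalkMap y).hom)
  haveI : Module.Flat (X.presheaf.stalk (p y)) (X'.presheaf.stalk y) := Flat.stalkMap p y
  exact ringKrullDim_quot_add

end Groth.Agent.Helper5.BCDim
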