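import Mathlib
import Groth.Agent.Helper5.CMSrc1
import Groth.Agent.Helper2.StalkDict2
import Groth.Agent.Helper2.FibSmAt
import Groth.Agent.Helper3.GenSmDense

set_option autoImplicit false
set_option linter.style.haveILetI false
set_option linter.unusedSectionVars false
universe u
open CategoryTheory CategoryTheory.Limits AlgebraicGeometry TopologicalSpace Topology

namespace Groth.Agent.Helper5.CMBC

/-- `Spec O_{X,x} → X → Y` is flat when `f` is flat at `x` -/
theorem flat_fromSpecStalk_comp {X Y : Scheme.{u}} (f : X ⟶ Y) (x : X)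
    (h : (f.stalkMap x).hom.Flat) : Flat (X.fromSpecStalk x ≫ f) := by
  rw [← Scheme.SpecMap_stalkMap_fromSpecStalk]
  haveI : Flat (Spec.map (f.stalkMap x)) := by
    rw [HasRingHomProperty.Spec_iff (P := @Flat)]
    exact h
  haveI : Flat (Y.fromSpecStalk (f x)) := Groth.Agent.Helper3.GenSmDense.flat_fromSpecStalk Y _
  infer_instance

set_option maxHeartbeats 1000000 in
/-- flatness at a point is stable under base change -/
theorem flat_stalkMap_baseChange {X Y X' Y' : Scheme.{u}} (f : X ⟶ Y) (f' : X' ⟶ Y')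
    (g' : X' ⟶ X) (g : Y' ⟶ Y) (hc : IsPullback g' f' f g) (x' : X')
    (h : (f.stalkMap (g' x')).hom.Flat) : (f'.stalkMap x').hom.Flat := by
  let x : X := g' x'
  let j : Spec (X.presheaf.stalk x) ⟶ X := X.fromSpecStalk x
  haveI : Flat j := Groth.Agent.Helper3.GenSmDense.flat_fromSpecStalk X x
  let P := pullback g' j
  let pX' : P ⟶ X' := pullback.fst g' j
  let pj : P ⟶ Spec (X.presheaf.stalk x) := pullback.snd g' j
  have sq1 : IsPullback pX' pj g' j := IsPullback.of_hasPullback g' j
  have sq2 : IsPullback (pX' ≫ f') pj g (j ≫ f) := sq1.paste_horiz hc.flip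
  haveI : Flat (j ≫ f) := flat_fromSpecStalk_comp f x h
  haveI : Flat (pX' ≫ f') := MorphismProperty.of_isPullback sq2.flip inferInstance
  haveI : Flat pX' := MorphismProperty.of_isPullback sq1.flip inferInstance
  haveI : SurjectiveOnStalks pX' := MorphismProperty.of_isPullback sq1.flip inferInstance
  obtain ⟨w, hw1, -⟩ := Scheme.Pullback.exists_preimage_pullback (f := g') (g := j) x'
    (IsLocalRing.closedPoint _) (Scheme.fromSpecStalk_closedPoint (x := x)).symm
  have hw : pX' w = x' := hw1
  have hcomp : ((pX' ≫ f').stalkMap w).hom.Flat := Flat.stalkMap (pX' ≫ f') w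
  have h3 : (f'.stalkMap (pX' w)).hom.Flat :=
    Groth.Agent.Helper2.FibSmAt.flat_of_comp_flat pX' f' w hcomp (Flat.stalkMap pX' w)
  rw [hw] at h3
  exact h3

/-- flatness descends along a base change which is flat at the point of the base -/
theorem flat_stalkMap_of_baseChange {X Y X' Y' : Scheme.{u}} (f : X ⟶ Y) (f' : X' ⟶ Y')
    (g' : X' ⟶ X) (g : Y' ⟶ Y) (hc : IsPullback g' f' f g) (x' : X')
    (hg : (g.stalkMap (f' x')).hom.Flat) (h : (f'.stalkMap x').hom.Flat) :
    (f.stalkMap (g' x')).hom.Flat := by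
  have hg' : (g'.stalkMap x').hom.Flat := flat_stalkMap_baseChange g g' f' f hc.flip x' hg
  have hcomp : ((g' ≫ f).stalkMap x').hom.Flat := by
    rw [hc.w, Scheme.Hom.stalkMap_comp]
    exact RingHom.Flat.comp hg h
  exact Groth.Agent.Helper2.FibSmAt.flat_of_comp_flat g' f x' hcomp hg'

end Groth.Agent.Helper5.CMBC
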