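import Mathlib
import Groth.Agent.Helper5.CMBC1
import Groth.Agent.Helper2.Codepth
import Groth.Agent.Helper2.GeomReg

set_option autoImplicit false
set_option linter.style.haveILetI false
set_option linter.unusedSectionVars false
universe u
open CategoryTheory CategoryTheory.Limits AlgebraicGeometry TopologicalSpace Topology TensorProduct

namespace Groth.Agent.Helper5.CMBC

/-- Cohen–Macaulay in terms of dimension and depth -/
theorem cm_iff_dim_eq_depth (R : Type u) [CommRing R] [IsNoetherianRing R] [IsLocalRing R] :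
    LocCoh.IsCohenMacaulayLocalRing R ↔
      ringKrullDim R = ((LocCoh.depth R R : ℕ∞) : WithBot ℕ∞) := by
  constructor
  · intro h
    rw [← Module.supportDim_self_eq_ringKrullDim]
    exact h.supportDim_eq_depth
  · intro h
    refine { supportDim_eq_depth := ?_ }
    rw [Module.supportDim_self_eq_ringKrullDim]
    exact h

/-- a local ring is its localization at the maximal ideal -/
theorem nonempty_equiv_localization_maximal (S : Type u) [CommRing S] [IsLocalRing S]
    (p : Ideal S) [p.IsPrime] (hp : p = IsLocalRing.maximalIdeal S) :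
    Nonempty (S ≃+* Localization.AtPrime p) := by
  have hunit : p.primeCompl ≤ IsUnit.submonoid S := by
    intro t ht
    have : t ∉ IsLocalRing.maximalIdeal S := by
      rw [← hp]
      exact ht
    by_contra hnu
    exact this ((IsLocalRing.mem_maximalIdeal t).mpr hnu)
  exact ⟨(IsLocalization.atUnits _ p.primeCompl (S := Localization.AtPrime p) hunit).toRingEquiv⟩

set_option maxHeartbeats 1000000 in
/-- Cohen–Macaulayness of localizations of `S ⊗ K` over the closed point, `K` a finitely generated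
field extension -/
theorem cm_tensor_localization_iff (k S K : Type u) [Field k] [CommRing S] [Algebra k S]
    [IsNoetherianRing S] [IsLocalRing S] [Field K] [Algebra k K] [Algebra.EssFiniteType k K]
    (q : Ideal (S ⊗[k] K)) [q.IsPrime]
    (hq : q.comap (algebraMap S (S ⊗[k] K)) = IsLocalRing.maximalIdeal S) :
    LocCoh.IsCohenMacaulayLocalRing (Localization.AtPrime q) ↔
      LocCoh.IsCohenMacaulayLocalRing S := by
  haveI : IsNoetherianRing (S ⊗[k] K) :=
    Groth.Agent.Helper2.GeomReg.isNoetherianRing_of_essFiniteType S _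
  have hmain := (Groth.Agent.Helper2.Codepth.main k S K (Or.inr inferInstance) q 0).1
  obtain ⟨e⟩ := nonempty_equiv_localization_maximal S
    (q.comap (algebraMap S (S ⊗[k] K))) hq
  have h1 : LocCoh.IsCohenMacaulayLocalRing S ↔ LocCoh.IsCohenMacaulayLocalRing
      (Localization.AtPrime (q.comap (algebraMap S (S ⊗[k] K)))) :=
    ⟨fun h => Groth.Agent.Lead.CMCl.cm_of_ringEquiv e (h := h),
      fun h => Groth.Agent.Lead.CMCl.cm_of_ringEquiv e.symm (h := h)⟩
  rw [h1, cm_iff_dim_eq_depth, cm_iff_dim_eq_depth]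
  set A := Localization.AtPrime (q.comap (algebraMap S (S ⊗[k] K))) with hA
  set B := Localization.AtPrime q with hB
  obtain ⟨a, ha⟩ : ∃ a : ℕ, ringKrullDim A = (a : WithBot ℕ∞) := by
    have h1 : ringKrullDim A ≠ ⊤ := ne_of_lt ringKrullDim_lt_top
    have h2 : ringKrullDim A ≠ ⊥ := ringKrullDim_ne_bot
    obtain ⟨n, hn⟩ := WithBot.ne_bot_iff_exists.mp h2
    have hn' : n ≠ ⊤ := by
      intro h; apply h1; rw [← hn, h]; rfl
    obtain ⟨m, hm⟩ := ENat.ne_top_iff_exists.mp hn'
    exact ⟨m, by rw [← hn, ← hm]; rfl⟩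
  obtain ⟨b, hb⟩ : ∃ b : ℕ, ringKrullDim B = (b : WithBot ℕ∞) := by
    have h1 : ringKrullDim B ≠ ⊤ := ne_of_lt ringKrullDim_lt_top
    have h2 : ringKrullDim B ≠ ⊥ := ringKrullDim_ne_bot
    obtain ⟨n, hn⟩ := WithBot.ne_bot_iff_exists.mp h2
    have hn' : n ≠ ⊤ := by
      intro h; apply h1; rw [← hn, h]; rfl
    obtain ⟨m, hm⟩ := ENat.ne_top_iff_exists.mp hn'
    exact ⟨m, by rw [← hn, ← hm]; rfl⟩
  have hdA : ((LocCoh.depth A A : ℕ∞) : WithBot ℕ∞) ≤ ringKrullDim A := by
    have := Groth.Agent.Helper2.DepthCM4.depth_le_supportDim (A := A) A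
    rwa [Module.supportDim_self_eq_ringKrullDim] at this
  have hdB : ((LocCoh.depth B B : ℕ∞) : WithBot ℕ∞) ≤ ringKrullDim B := by
    have := Groth.Agent.Helper2.DepthCM4.depth_le_supportDim (A := B) B
    rwa [Module.supportDim_self_eq_ringKrullDim] at this
  obtain ⟨c, hc⟩ : ∃ c : ℕ, LocCoh.depth A A = (c : ℕ∞) := by
    rw [ha] at hdA
    have : LocCoh.depth A A ≤ (a : ℕ∞) := by exact_mod_cast hdA
    exact ENat.ne_top_iff_exists.mp (ne_top_of_le_ne_top (ENat.natCast_ne_top a) this) |>.imp
      fun m hm => hm.symm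
  obtain ⟨d, hd⟩ : ∃ d : ℕ, LocCoh.depth B B = (d : ℕ∞) := by
    rw [hb] at hdB
    have : LocCoh.depth B B ≤ (b : ℕ∞) := by exact_mod_cast hdB
    exact ENat.ne_top_iff_exists.mp (ne_top_of_le_ne_top (ENat.natCast_ne_top b) this) |>.imp
      fun m hm => hm.symm
  rw [ha, hb, hc, hd] at hmain
  rw [ha, hb, hc, hd]
  have hnum : a + d = b + c := by exact_mod_cast hmain
  constructor
  · intro h
    have : b = d := by exact_mod_cast h
    have : a = c := by omega
    exact_mod_cast this
  · intro h
    have : a = c := by exact_mod_cast h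
    have : b = d := by omega
    exact_mod_cast this

end Groth.Agent.Helper5.CMBC
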