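import Mathlib
import Groth.Agent.Helper5.CMBC2

set_option autoImplicit false
set_option linter.style.haveILetI false
set_option linter.unusedSectionVars false
universe u
open CategoryTheory CategoryTheory.Limits AlgebraicGeometry TopologicalSpace Topology TensorProduct

namespace Groth.Agent.Helper5.CMBC

open Groth.Agent.Helper5.CMFib Groth.Agent.Helper5.CMAff Groth.Agent.Helper5.CMSrc

attribute [local instance] Curv2.stalkAlgebra

/-- Cohen–Macaulayness of local rings under a finitely generated extension of the base field -/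
theorem cm_bc_iff (k : Type u) [Field k] (F : Scheme.{u}) [F.Over (Spec (CommRingCat.of k))]
    [IsLocallyNoetherian F] (K : Type u) [Field K] [Algebra k K] [Algebra.EssFiniteType k K]
    (x' : ↥(Curv2.bc k F K)) :
    LocCoh.IsCohenMacaulayLocalRing ((Curv2.bc k F K).presheaf.stalk x') ↔
      LocCoh.IsCohenMacaulayLocalRing (F.presheaf.stalk (Curv2.bcFst k F K x')) := by
  obtain ⟨q, hq, hcomap, ⟨e⟩⟩ := Groth.Agent.Helper2.StalkDict2.exists_prime_of_point k F
    (Curv2.bcFst k F K x') K x' rfl
  haveI := hq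
  rw [← cm_tensor_localization_iff k _ K q hcomap]
  exact ⟨fun h => Groth.Agent.Lead.CMCl.cm_of_ringEquiv e (h := h),
    fun h => Groth.Agent.Lead.CMCl.cm_of_ringEquiv e.symm (h := h)⟩

/-- Cohen–Macaulayness of local rings along a base change of fields, finitely generated -/
theorem cm_of_isPullback_fields (k K : Type u) [Field k] [Field K] [Algebra k K]
    [Algebra.EssFiniteType k K] {F F' : Scheme.{u}} (φ : F ⟶ Spec (CommRingCat.of k))
    (φ' : F' ⟶ Spec (CommRingCat.of K)) (ψ : F' ⟶ F)
    (H : IsPullback ψ φ' φ (Spec.map (CommRingCat.ofHom (algebraMap k K))))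
    [IsLocallyNoetherian F] (z' : F') :
    LocCoh.IsCohenMacaulayLocalRing (F'.presheaf.stalk z') ↔
      LocCoh.IsCohenMacaulayLocalRing (F.presheaf.stalk (ψ z')) := by
  letI : F.Over (Spec (CommRingCat.of k)) := ⟨φ⟩
  have H'' : IsPullback ψ φ' (F ↘ Spec (CommRingCat.of k))
      (Spec.map (CommRingCat.ofHom (algebraMap k K))) := H
  let w : ↥(Curv2.bc k F K) := H''.isoPullback.hom z'
  have hw : Curv2.bcFst k F K w = ψ z' := by
    show (Curv2.bcFst k F K) (H''.isoPullback.hom z') = ψ z'
    rw [← Scheme.Hom.comp_apply]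
    show (H''.isoPullback.hom ≫ pullback.fst _ _) z' = ψ z'
    rw [H''.isoPullback_hom_fst]
  have h1 := cm_bc_iff k F K w
  rw [hw] at h1
  rw [← h1]
  obtain ⟨e⟩ := Groth.Agent.Helper2.StalkDict.nonempty_stalkEquiv H''.isoPullback.hom z'
  exact ⟨fun h => Groth.Agent.Lead.CMCl.cm_of_ringEquiv e.symm (h := h),
    fun h => Groth.Agent.Lead.CMCl.cm_of_ringEquiv e (h := h)⟩

set_option maxHeartbeats 1000000 in
/-- the Cohen–Macaulay property of the local ring of the fibre is invariant under base change
locally of finite type, for locally Noetherian fibres -/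
theorem cm_fibre_baseChange_iff' {X S X' S' : Scheme.{u}} (f : X ⟶ S)
    (f' : X' ⟶ S') (g' : X' ⟶ X) (g : S' ⟶ S) [LocallyOfFiniteType g]
    (hc : IsPullback g' f' f g) (x' : X')
    (hN : IsLocallyNoetherian (f.fiber (g (f' x')))) :
    LocCoh.IsCohenMacaulayLocalRing ((f'.fiber (f' x')).presheaf.stalk (f'.asFiber x')) ↔
      LocCoh.IsCohenMacaulayLocalRing
        ((f.fiber (f (g' x'))).presheaf.stalk (f.asFiber (g' x'))) := by
  let s' : S' := f' x'
  let s : S := g s'
  let ρ := g.residueFieldMap s'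
  have H := isPullback_fiberToSpecResidueField_of_isPullback hc s'
  obtain ⟨ψ, hψfst, H'⟩ : ∃ ψ : f'.fiber s' ⟶ f.fiber s,
      ψ ≫ f.fiberι s = f'.fiberι s' ≫ g' ∧
      IsPullback ψ (f'.fiberToSpecResidueField s') (f.fiberToSpecResidueField s) (Spec.map ρ) :=
    ⟨_, pullback.lift_fst _ _ _, H⟩
  let z' : ↥(f'.fiber s') := f'.asFiber x'
  let z : ↥(f.fiber s) := ψ z'
  have hz : f.fiberι s z = g' x' := by
    have h1 : ψ ≫ f.fiberι s = f'.fiberι s' ≫ g' := hψfst
    have h2 := congrArg (fun φ : f'.fiber s' ⟶ X => φ z') h1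
    simp only [Scheme.Hom.comp_apply] at h2
    rw [f'.fiberι_asFiber] at h2
    exact h2
  rw [← cm_fibre_stalk_iff f s z (g' x') hz]
  letI alg : Algebra (S.residueField s) (S'.residueField s') := ρ.hom.toAlgebra
  haveI : Algebra.EssFiniteType (S.residueField s) (S'.residueField s') :=
    RingHom.EssFiniteType.residueFieldMap (LocallyOfFiniteType.stalkMap g s')
  haveI : IsLocallyNoetherian (f.fiber s) := hN
  exact cm_of_isPullback_fields (S.residueField s) (S'.residueField s')
    (f.fiberToSpecResidueField s) (f'.fiberToSpecResidueField s') ψ H' z'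

end Groth.Agent.Helper5.CMBC
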