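import Mathlib
import Groth.Agent.Helper5.CMBC3

set_option autoImplicit false
set_option linter.style.haveILetI false
set_option linter.unusedSectionVars false
set_option linter.deprecated false
universe u
open CategoryTheory CategoryTheory.Limits AlgebraicGeometry TopologicalSpace Topology TensorProduct

namespace Groth.Agent.Helper5.CMBC

theorem exists_nat_dim (A : Type u) [CommRing A] [IsNoetherianRing A] [IsLocalRing A] :
    ∃ a : ℕ, ringKrullDim A = (a : WithBot ℕ∞) := by
  have h1 : ringKrullDim A ≠ ⊤ := ne_of_lt ringKrullDim_lt_top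
  have h2 : ringKrullDim A ≠ ⊥ := ringKrullDim_ne_bot
  obtain ⟨n, hn⟩ := WithBot.ne_bot_iff_exists.mp h2
  have hn' : n ≠ ⊤ := by
    intro h; apply h1; rw [← hn, h]; rfl
  obtain ⟨m, hm⟩ := ENat.ne_top_iff_exists.mp hn'
  exact ⟨m, by rw [← hn, ← hm]; rfl⟩

theorem cm_iff_of_codepth_eq (A B : Type u) [CommRing A] [CommRing B] [IsNoetherianRing A]
    [IsLocalRing A] [IsNoetherianRing B] [IsLocalRing B]
    (hmain : ringKrullDim A + ((LocCoh.depth B B : ℕ∞) : WithBot ℕ∞) =
      ringKrullDim B + ((LocCoh.depth A A : ℕ∞) : WithBot ℕ∞)) :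
    LocCoh.IsCohenMacaulayLocalRing B ↔ LocCoh.IsCohenMacaulayLocalRing A := by
  rw [cm_iff_dim_eq_depth, cm_iff_dim_eq_depth]
  obtain ⟨a, ha⟩ := exists_nat_dim A
  obtain ⟨b, hb⟩ := exists_nat_dim B
  have hdA : ((LocCoh.depth A A : ℕ∞) : WithBot ℕ∞) ≤ ringKrullDim A := by
    have := Groth.Agent.Helper2.DepthCM4.depth_le_supportDim (A := A) A
    rwa [Module.supportDim_self_eq_ringKrullDim] at this
  have hdB : ((LocCoh.depth B B : ℕ∞) : WithBot ℕ∞) ≤ ringKrullDim B := by
    have := Groth.Agent.Helper2.DepthCM4.depth_le_supportDim (A := B) B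
    rwa [Module.supportDim_self_eq_ringKrullDim] at this
  obtain ⟨c, hc⟩ : ∃ c : ℕ, LocCoh.depth A A = (c : ℕ∞) := by
    rw [ha] at hdA
    have : LocCoh.depth A A ≤ (a : ℕ∞) := by exact_mod_cast hdA
    exact ENat.ne_top_iff_exists.mp (ne_top_of_le_ne_top (ENat.natCast_ne_top a) this) |>.imp
      fun m hm => hm.symm
  obtain ⟨d, hd⟩ : ∃ d : ℕ, LocCoh.depth B B = (d : ℕ∞) := by
    rw [hb] at hdB
    have : LocCoh.depth B B ≤ (b : ℕ∞) := by exact_mod_cast hdB
    exact ENat.ne_top_iff_exists.mp (ne_top_of_le_ne_top (ENat.natCast_ne_top b) this) |>.imp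
      fun m hm => hm.symm
  rw [ha, hb, hc, hd] at hmain
  rw [ha, hb, hc, hd]
  have hnum : a + d = b + c := by exact_mod_cast hmain
  constructor
  · intro h
    have : b = d := by exact_mod_cast h
    have : a = c := by omega
    exact_mod_cast this
  · intro h
    have : a = c := by exact_mod_cast h
    have : b = d := by omega
    exact_mod_cast this

/-- Cohen–Macaulayness of localizations of `A ⊗ K`, `A` of finite type, `K` arbitrary -/
theorem cm_tensor_localization_iff_of_finiteType (k A K : Type u) [Field k] [CommRing A]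
    [Algebra k A] [Algebra.FiniteType k A] [Field K] [Algebra k K]
    (q : Ideal (A ⊗[k] K)) [q.IsPrime] :
    LocCoh.IsCohenMacaulayLocalRing (Localization.AtPrime q) ↔
      LocCoh.IsCohenMacaulayLocalRing
        (Localization.AtPrime (q.comap (algebraMap A (A ⊗[k] K)))) := by
  haveI : IsNoetherianRing A := Algebra.FiniteType.isNoetherianRing k A
  haveI : IsNoetherianRing (A ⊗[k] K) := by
    letI : Algebra K (A ⊗[k] K) := Algebra.TensorProduct.rightAlgebra
    haveI : Algebra.FiniteType K (A ⊗[k] K) := by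
      have e : (K ⊗[k] A) ≃ₐ[K] (A ⊗[k] K) :=
        { Algebra.TensorProduct.comm k K A with
          commutes' := by
            intro c
            simp only [Algebra.TensorProduct.algebraMap_apply, Algebra.algebraMap_self,
              RingHom.id_apply, AlgEquiv.toEquiv_eq_coe, Equiv.toFun_as_coe, EquivLike.coe_coe,
              Algebra.TensorProduct.comm_tmul]
            rfl }
      exact Algebra.FiniteType.equiv inferInstance e
    exact Algebra.FiniteType.isNoetherianRing K _
  have hmain := (Groth.Agent.Helper2.Codepth.main k A K (Or.inl inferInstance) q 0).1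
  exact cm_iff_of_codepth_eq _ _ hmain

end Groth.Agent.Helper5.CMBC
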