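import Mathlib
import Groth.Agent.Helper5.BCDim1
import Groth.Agent.Helper5.CMBC6
import Groth.Prelude.Def_CurvBase

set_option autoImplicit false
set_option linter.style.haveILetI false
set_option linter.unusedSectionVars false
set_option linter.deprecated false
universe u
open CategoryTheory CategoryTheory.Limits AlgebraicGeometry TopologicalSpace Topology TensorProduct

namespace Groth.Agent.Helper5.BCDim

open Groth.Agent.Helper5.VarDim

theorem wb_add_right_cancel (a b : WithBot ℕ∞) (c : ℕ)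
    (h : a + (c : WithBot ℕ∞) = b + (c : WithBot ℕ∞)) : a = b :=
  le_antisymm ((ENat.WithBot.add_le_add_natCast_right_iff).1 h.le)
    ((ENat.WithBot.add_le_add_natCast_right_iff).1 h.ge)

/-- S7589 -/
theorem s7589 (k : Type u) [Field k] (X : Scheme.{u}) [X.Over (Spec (CommRingCat.of k))]
    [LocallyOfFiniteType (X ↘ (Spec (CommRingCat.of k)))]
    (K : Type u) [Field K] [Algebra k K] (y : ↥(Curv2.bc k X K)) (a a' : ℕ)
    (ha : @Algebra.trdeg k (X.residueField (Curv2.bcFst k X K y)) _ _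
      (Curv2.resAlgebra k X (Curv2.bcFst k X K y)) = a)
    (ha' : letI : (Curv2.bc k X K).Over (Spec (CommRingCat.of K)) := ⟨Curv2.bcSnd k X K⟩
      @Algebra.trdeg K ((Curv2.bc k X K).residueField y) _ _
        (Curv2.resAlgebra K (Curv2.bc k X K) y) = a') :
    ringKrullDim ((Curv2.bc k X K).presheaf.stalk y) + (a' : WithBot ℕ∞) =
        ringKrullDim (X.presheaf.stalk (Curv2.bcFst k X K y)) + (a : WithBot ℕ∞) ∧
      ringKrullDim (↥((Curv2.bc k X K).presheaf.stalk y) ⧸
        Ideal.map ((Curv2.bcFst k X K).stalkMap y).hom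
          (IsLocalRing.maximalIdeal ↥(X.presheaf.stalk (Curv2.bcFst k X K y)))) +
            (a' : WithBot ℕ∞) = (a : WithBot ℕ∞) := by
  have hsq : IsPullback (Curv2.bcFst k X K) (Curv2.bcSnd k X K) (X ↘ Spec (CommRingCat.of k))
      (Spec.map (CommRingCat.ofHom (algebraMap k K))) := IsPullback.of_hasPullback _ _
  obtain ⟨n, n', hn, hn', hdim⟩ := dim_stalk_add_trdeg k K (X ↘ Spec (CommRingCat.of k))
    (Curv2.bcSnd k X K) (Curv2.bcFst k X K) hsq y
  have h1 : (a : Cardinal.{u}) = n := ha.symm.trans hn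
  have h2 : (a' : Cardinal.{u}) = n' := ha'.symm.trans hn'
  have h1' : a = n := by exact_mod_cast h1
  have h2' : a' = n' := by exact_mod_cast h2
  subst h1' h2'
  refine ⟨hdim, ?_⟩
  have hfib := dim_fibre_ring k K (X ↘ Spec (CommRingCat.of k))
    (Curv2.bcSnd k X K) (Curv2.bcFst k X K) hsq y
  haveI : IsLocallyNoetherian X :=
    LocallyOfFiniteType.isLocallyNoetherian (X ↘ Spec (CommRingCat.of k))
  obtain ⟨d, hd⟩ := Groth.Agent.Helper5.CMBC.exists_nat_dim
    (X.presheaf.stalk (Curv2.bcFst k X K y))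
  rw [← hfib, hd] at hdim
  apply wb_add_right_cancel _ _ d
  rw [add_comm (a : WithBot ℕ∞) (d : WithBot ℕ∞), ← hdim]
  abel

end Groth.Agent.Helper5.BCDim
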