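import Groth.Agent.Helper5.VarDim4

set_option autoImplicit false
universe u
open AlgebraicGeometry CategoryTheory TopologicalSpace

namespace Groth.Agent.Helper5.VarDim

theorem residueFieldMap_bijective_of_surjectiveOnStalks {U X : Scheme.{u}} (j : U ⟶ X)
    [SurjectiveOnStalks j] (x : U) : Function.Bijective (j.residueFieldMap x).hom := by
  refine ⟨RingHom.injective _, ?_⟩
  have h1 := Scheme.residue_residueFieldMap j x
  have h2 : Function.Surjective (j.stalkMap x ≫ U.residue x).hom := by
    rw [CommRingCat.hom_comp]
    exact (Scheme.residue_surjective U x).comp (j.stalkMap_surjective x)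
  rw [← h1, CommRingCat.hom_comp, RingHom.coe_comp] at h2
  exact Function.Surjective.of_comp h2

theorem trdeg_resHom_of_bijective (k : Type u) [Field k] {U X : Scheme.{u}}
    (j : U ⟶ X) (f : X ⟶ Spec (CommRingCat.of k)) (x : U)
    (hb : Function.Bijective (j.residueFieldMap x).hom) :
    @Algebra.trdeg k (X.residueField (j x)) _ _ (resHom k f (j x)).toAlgebra =
      @Algebra.trdeg k (U.residueField x) _ _ (resHom k (j ≫ f) x).toAlgebra := by
  refine trdeg_congr_ringEquiv _ _ (RingEquiv.ofBijective (j.residueFieldMap x).hom hb) ?_
  intro c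
  show (j.residueFieldMap x).hom ((resHom k f (j x)) c) = (resHom k (j ≫ f) x) c
  have h1 : (Scheme.ΓSpecIso (CommRingCat.of k)).inv ≫ f.appTop ≫ X.Γevaluation (j x) ≫
      j.residueFieldMap x = (Scheme.ΓSpecIso (CommRingCat.of k)).inv ≫ (j ≫ f).appTop ≫
        U.Γevaluation x := by
    rw [Scheme.Γevaluation_naturality, Scheme.Hom.comp_appTop, Category.assoc]
  have h2 := congrArg (fun φ => φ.hom c) h1
  exact h2

/-- Transcendence degree of a field over `K`, computed on `Spec L`. -/
theorem trdeg_resHom_Spec_field (K L : Type u) [Field K] [Field L] [Algebra K L]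
    (pt : PrimeSpectrum L) :
    @Algebra.trdeg K ((Spec (CommRingCat.of L)).residueField pt) _ _
      (resHom K (Spec.map (CommRingCat.ofHom (algebraMap K L))) pt).toAlgebra =
      Algebra.trdeg K L := by
  rw [trdeg_resHom_Spec K L pt]
  have e : L ≃ₐ[K] pt.asIdeal.ResidueField :=
    (Ideal.algEquivResidueFieldOfField pt.asIdeal).restrictScalars K
  exact e.trdeg_eq.symm

/-- The residue field of the fibre at a point, as an extension of the residue field of the base
point, has the same transcendence degree as the residue field extension of the morphism. -/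
theorem trdeg_fiber {X Y : Scheme.{u}} (f : X ⟶ Y) (x : X) :
    @Algebra.trdeg (Y.residueField (f x)) ((f.fiber (f x)).residueField (f.asFiber x)) _ _
      (resHom (Y.residueField (f x)) (f.fiberToSpecResidueField (f x)) (f.asFiber x)).toAlgebra =
    @Algebra.trdeg (Y.residueField (f x)) (X.residueField x) _ _
      (f.residueFieldMap x).hom.toAlgebra := by
  let K := Y.residueField (f x)
  let L := X.residueField x
  let g : Spec L ⟶ f.fiber (f x) := f.asFiberHom x
  let pt : Spec L := default
  have hpt : g pt = f.asFiber x := f.asFiberHom_apply x pt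
  rw [← trdeg_resHom_congr K (f.fiberToSpecResidueField (f x)) hpt,
    trdeg_resHom_of_bijective K g (f.fiberToSpecResidueField (f x)) pt
      (residueFieldMap_bijective_of_surjectiveOnStalks g pt)]
  have hcomp : g ≫ f.fiberToSpecResidueField (f x) = Spec.map (f.residueFieldMap x) :=
    f.asFiberHom_fiberToSpecResidueField x
  let _ : Algebra K L := (f.residueFieldMap x).hom.toAlgebra
  have := trdeg_resHom_Spec_field K L pt
  rw [← this]
  congr 2
  rw [hcomp]
  rfl

end Groth.Agent.Helper5.VarDim
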