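import Mathlib
import Groth.Agent.Helper5.BCDim2
import Groth.Agent.Helper2.FlatLoc
import Groth.Agent.Helper5.VarDim5

set_option autoImplicit false
set_option linter.style.haveILetI false
set_option linter.unusedSectionVars false
set_option linter.deprecated false
universe u
open CategoryTheory CategoryTheory.Limits AlgebraicGeometry TopologicalSpace Topology TensorProduct

namespace Groth.Agent.Helper5.BCDim

open Groth.Agent.Helper5.VarDim

variable (k S K : Type u) [Field k] [CommRing S] [Algebra k S] [Algebra.FiniteType k S]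
  [Field K] [Algebra k K]

theorem dim_stalk_Spec (R : Type u) [CommRing R] (x : PrimeSpectrum R) :
    ringKrullDim ((Spec (CommRingCat.of R)).presheaf.stalk x) =
      ringKrullDim (Localization.AtPrime x.asIdeal) :=
  ringKrullDim_eq_of_ringEquiv (Spec.stalkIso (CommRingCat.of R) x).commRingCatIsoToRingEquiv

set_option maxHeartbeats 1000000 in
/-- ring form of the dimension formula along a base field extension -/
theorem dim_localization_add_trdeg (q : Ideal S) [q.IsPrime] (qK : Ideal (S ⊗[k] K)) [qK.IsPrime]
    [qK.LiesOver q] (r rK : ℕ) (hr : Algebra.trdeg k q.ResidueField = r)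
    (hrK : letI : Algebra K (S ⊗[k] K) := Algebra.TensorProduct.rightAlgebra
      Algebra.trdeg K qK.ResidueField = rK) :
    ringKrullDim (Localization.AtPrime qK) + (rK : WithBot ℕ∞) =
      ringKrullDim (Localization.AtPrime q) + (r : WithBot ℕ∞) := by
  letI : Algebra K (S ⊗[k] K) := Algebra.TensorProduct.rightAlgebra
  have hsq : IsPullback
      (Spec.map (CommRingCat.ofHom (algebraMap S (S ⊗[k] K))))
      (Spec.map (CommRingCat.ofHom (algebraMap K (S ⊗[k] K))))
      (Spec.map (CommRingCat.ofHom (algebraMap k S)))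
      (Spec.map (CommRingCat.ofHom (algebraMap k K))) :=
    isPullback_SpecMap_of_isPushout _ _ _ _ (CommRingCat.isPushout_tensorProduct k S K)
  haveI : LocallyOfFiniteType (Spec.map (CommRingCat.ofHom (algebraMap k S))) := by
    rw [HasRingHomProperty.Spec_iff (P := @LocallyOfFiniteType)]
    show (algebraMap k S).FiniteType
    rw [RingHom.finiteType_algebraMap]
    infer_instance
  let y : ↥(Spec (CommRingCat.of (S ⊗[k] K))) := ⟨qK, inferInstance⟩
  let x : ↥(Spec (CommRingCat.of S)) := ⟨q, inferInstance⟩
  have hxy : (Spec.map (CommRingCat.ofHom (algebraMap S (S ⊗[k] K)))) y = x := by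
    apply PrimeSpectrum.ext
    show qK.comap (algebraMap S (S ⊗[k] K)) = q
    exact (Ideal.LiesOver.over (p := q) (P := qK)).symm
  obtain ⟨n, n', hn, hn', hdim⟩ := dim_stalk_add_trdeg k K
    (Spec.map (CommRingCat.ofHom (algebraMap k S)))
    (Spec.map (CommRingCat.ofHom (algebraMap K (S ⊗[k] K))))
    (Spec.map (CommRingCat.ofHom (algebraMap S (S ⊗[k] K)))) hsq y
  rw [trdeg_resHom_congr k _ hxy, trdeg_resHom_Spec k S x] at hn
  rw [trdeg_resHom_Spec K (S ⊗[k] K) y] at hn'
  have h1 : (r : Cardinal.{u}) = n := hr.symm.trans hn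
  have h2 : (rK : Cardinal.{u}) = n' := hrK.symm.trans hn'
  have h1' : r = n := by exact_mod_cast h1
  have h2' : rK = n' := by exact_mod_cast h2
  subst h1' h2'
  rw [dim_stalk_Spec, hxy, dim_stalk_Spec] at hdim
  exact hdim

end Groth.Agent.Helper5.BCDim
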