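import Mathlib
import Groth.Agent.Helper5.CMFib1

set_option autoImplicit false
set_option linter.style.haveILetI false
universe u
open CategoryTheory CategoryTheory.Limits AlgebraicGeometry TopologicalSpace Topology TensorProduct

namespace Groth.Agent.Helper5.CMFib

/-- S9768 (pointwise form) -/
theorem isCMAt_of_flat_of_cm {X Y : Scheme.{u}} (f : X ⟶ Y) [IsLocallyNoetherian Y] (x : X)
    (hfl : (f.stalkMap x).hom.Flat)
    (hX : LocCoh.IsCohenMacaulayLocalRing ↑(X.presheaf.stalk x)) :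
    MoreMor.IsCMAt f x ∧ LocCoh.IsCohenMacaulayLocalRing ↑(Y.presheaf.stalk (f x)) := by
  letI : Algebra (Y.presheaf.stalk (f x)) (X.presheaf.stalk x) := (f.stalkMap x).hom.toAlgebra
  haveI : IsLocalHom (algebraMap (Y.presheaf.stalk (f x)) (X.presheaf.stalk x)) :=
    inferInstanceAs (IsLocalHom (f.stalkMap x).hom)
  obtain ⟨e⟩ := fibre_stalk_equiv' f x
  haveI : Module.Flat (Y.presheaf.stalk (f x)) (X.presheaf.stalk x) := hfl
  obtain ⟨h1, h2⟩ := cm_of_flat (Y.presheaf.stalk (f x)) (X.presheaf.stalk x) hX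
  exact ⟨⟨hfl, Groth.Agent.Lead.CMCl.cm_of_ringEquiv e (h := h2)⟩, h1⟩

theorem s9768 {X Y : Scheme.{u}} (f : X ⟶ Y) [IsLocallyNoetherian X] [IsLocallyNoetherian Y] [Flat f]
    (hX : ∀ x : X, LocCoh.IsCohenMacaulayLocalRing ↑(X.presheaf.stalk x)) (x : X) :
    MoreMor.IsCMAt f x ∧ LocCoh.IsCohenMacaulayLocalRing ↑(Y.presheaf.stalk (f x)) :=
  isCMAt_of_flat_of_cm f x (Flat.stalkMap f x) (hX x)

end Groth.Agent.Helper5.CMFib
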