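import Mathlib

set_option autoImplicit false
set_option linter.style.haveILetI false
universe u
open TopologicalSpace Topology

namespace Groth.Agent.Helper5.PiDecomp

variable {S : Type u} [CommRing S]

/-- complete orthogonal idempotents cutting out the level sets of a bounded locally constant
function on the prime spectrum -/
theorem exists_idempotents (N : ℕ) (φ : PrimeSpectrum S → ℕ) (hφ : IsLocallyConstant φ)
    (hN : ∀ x, φ x ≤ N) :
    ∃ e : Fin (N + 1) → S, CompleteOrthogonalIdempotents e ∧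
      ∀ (d : Fin (N + 1)) (x : PrimeSpectrum S), e d ∉ x.asIdeal ↔ φ x = (d : ℕ) := by
  have h1 : ∀ d : Fin (N + 1), ∃ e : S, IsIdempotentElem e ∧
      {x : PrimeSpectrum S | φ x = (d : ℕ)} = PrimeSpectrum.basicOpen e := fun d =>
    PrimeSpectrum.isClopen_iff.mp (hφ.isClopen_fiber (d : ℕ))
  choose e he1 he2 using h1
  have hmem : ∀ (d : Fin (N + 1)) (x : PrimeSpectrum S), e d ∉ x.asIdeal ↔ φ x = (d : ℕ) := by
    intro d x
    have : x ∈ {x : PrimeSpectrum S | φ x = (d : ℕ)} ↔ x ∈ (PrimeSpectrum.basicOpen (e d) : Set _) := by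
      rw [he2 d]
    exact this.symm
  have hnil : ∀ a : S, IsIdempotentElem a → (∀ x : PrimeSpectrum S, a ∈ x.asIdeal) → a = 0 := by
    intro a ha hx
    apply ha.eq_zero_of_isNilpotent
    rw [← mem_nilradical, nilradical_eq_sInf, Ideal.mem_sInf]
    intro P hP
    exact hx ⟨P, hP⟩
  have hortho : OrthogonalIdempotents e := by
    refine ⟨he1, ?_⟩
    intro i j hij
    apply hnil _ ((he1 i).mul (he1 j))
    intro x
    by_contra hx
    have hi : e i ∉ x.asIdeal := fun h => hx (x.asIdeal.mul_mem_right _ h)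
    have hj : e j ∉ x.asIdeal := fun h => hx (x.asIdeal.mul_mem_left _ h)
    have h3 := ((hmem i x).1 hi).symm.trans ((hmem j x).1 hj)
    exact hij (Fin.ext h3)
  refine ⟨e, ⟨hortho, ?_⟩, hmem⟩
  have hs : IsIdempotentElem (∑ i, e i) := hortho.isIdempotentElem_sum
  have h0 : 1 - ∑ i, e i = 0 := by
    apply hnil _ hs.one_sub
    intro x
    let d : Fin (N + 1) := ⟨φ x, Nat.lt_succ_of_le (hN x)⟩
    have hd : e d ∉ x.asIdeal := (hmem d x).2 rfl
    have hmul : (1 - ∑ i, e i) * e d = 0 := by
      rw [sub_mul, one_mul, mul_comm, hortho.mul_sum_of_mem (Finset.mem_univ d), sub_self]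
    have := x.2.mem_or_mem (hmul ▸ x.asIdeal.zero_mem : (1 - ∑ i, e i) * e d ∈ x.asIdeal)
    exact this.resolve_right hd
  exact (sub_eq_zero.1 h0).symm

variable (R : Type u) [CommRing R] [Algebra R S]

/-- the product decomposition attached to complete orthogonal idempotents -/
noncomputable def algEquiv {ι : Type} [Fintype ι] (e : ι → S) (he : CompleteOrthogonalIdempotents e) :
    S ≃ₐ[R] ((d : ι) → S ⧸ Ideal.span {1 - e d}) :=
  AlgEquiv.ofBijective (AlgHom.pi fun d => Ideal.Quotient.mkₐ R (Ideal.span {1 - e d}))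
    he.bijective_pi

end Groth.Agent.Helper5.PiDecomp
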