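import Mathlib
import Groth.Agent.Helper5.PiDecomp1
import Groth.Agent.Helper5.CMAff5
import Groth.Agent.Helper5.CMFib3
import Groth.Agent.Helper5.OverField
import Groth.Agent.Helper5.BCDim3

set_option autoImplicit false
set_option linter.style.haveILetI false
universe u
open CategoryTheory CategoryTheory.Limits AlgebraicGeometry TopologicalSpace Topology TensorProduct

namespace Groth.Agent.Helper5.PiDecomp

/-- the fibre dimension of a Cohen–Macaulay morphism with affine source, as a bounded locally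
constant natural-valued function -/
theorem exists_fibreDim_fun {S : Type u} [CommRing S] {Y : Scheme.{u}}
    (f : Spec (CommRingCat.of S) ⟶ Y) [LocallyOfFinitePresentation f]
    (hcm : ∀ x, MoreMor.IsCMAt f x) :
    ∃ (N : ℕ) (φ : PrimeSpectrum S → ℕ), IsLocallyConstant φ ∧ (∀ x, φ x ≤ N) ∧
      ∀ x : PrimeSpectrum S, FlatMor.fibreDimAt f x = (φ x : WithBot ℕ∞) := by
  have hlc := Groth.Agent.Helper5.CMAff.s9374 f hcm
  have hnat : ∀ x : PrimeSpectrum S, ∃ m : ℕ, FlatMor.fibreDimAt f x = (m : WithBot ℕ∞) :=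
    fun x => Groth.Agent.Helper5.SubDim.fibreDimAt_nat f x
  choose φ hφ using hnat
  have hφlc : IsLocallyConstant φ := by
    apply IsLocallyConstant.desc φ (fun n : ℕ => ((n : ℕ∞) : WithBot ℕ∞))
    · have : (fun n : ℕ => ((n : ℕ∞) : WithBot ℕ∞)) ∘ φ =
          fun x : PrimeSpectrum S => FlatMor.fibreDimAt f x := by
        funext x
        exact (hφ x).symm
      rw [this]
      exact hlc
    · intro a b hab
      have hab' : ((a : ℕ∞) : WithBot ℕ∞) = ((b : ℕ∞) : WithBot ℕ∞) := hab
      exact_mod_cast hab'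
  obtain ⟨N, hN⟩ := hφlc.range_finite.bddAbove
  exact ⟨N, φ, hφlc, fun x => hN ⟨x, rfl⟩, hφ⟩

end Groth.Agent.Helper5.PiDecomp
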