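import Mathlib
import Groth.Agent.Helper5.PiDecomp2

set_option autoImplicit false
set_option linter.style.haveILetI false
universe u
open CategoryTheory CategoryTheory.Limits AlgebraicGeometry TopologicalSpace Topology TensorProduct

namespace Groth.Agent.Helper5.PiDecomp

theorem cm_stalk_Spec (S : Type u) [CommRing S] [LocCoh.IsCohenMacaulayRing S]
    (x : PrimeSpectrum S) :
    LocCoh.IsCohenMacaulayLocalRing ((Spec (CommRingCat.of S)).presheaf.stalk x) := by
  haveI := LocCoh.IsCohenMacaulayRing.isCohenMacaulayLocalRing_localization (R := S) x.asIdeal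
  exact Groth.Agent.Lead.CMCl.cm_of_ringEquiv
    (Spec.stalkIso (CommRingCat.of S) x).commRingCatIsoToRingEquiv.symm

set_option maxHeartbeats 1000000 in
theorem s9156 (k S : Type u) [Field k] [CommRing S]
    [Algebra k S] [Algebra.FiniteType k S] [LocCoh.IsCohenMacaulayRing S] :
    ∃ (N : ℕ) (T : Fin (N + 1) → Type u) (_ : ∀ d, CommRing (T d)) (_ : ∀ d, Algebra k (T d)),
      Nonempty (S ≃ₐ[k] ((d : Fin (N + 1)) → T d)) ∧
        ∀ (d : Fin (N + 1)) (m : Ideal (T d)), m.IsMaximal → m.height = (d : ℕ) := by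
  let f : Spec (CommRingCat.of S) ⟶ Spec (CommRingCat.of k) :=
    Spec.map (CommRingCat.ofHom (algebraMap k S))
  haveI hfp : Algebra.FinitePresentation k S := Algebra.FinitePresentation.of_finiteType.1 inferInstance
  haveI : LocallyOfFinitePresentation f := by
    rw [HasRingHomProperty.Spec_iff (P := @LocallyOfFinitePresentation)]
    exact RingHom.finitePresentation_algebraMap.2 hfp
  haveI : LocallyOfFiniteType f := inferInstance
  haveI : Subsingleton ↥(Spec (CommRingCat.of k)) :=
    inferInstanceAs (Subsingleton (PrimeSpectrum k))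
  have hcm : ∀ x, MoreMor.IsCMAt f x := fun x =>
    (Groth.Agent.Helper5.CMFib.isCMAt_of_flat_of_cm f x (Flat.stalkMap f x) (cm_stalk_Spec S x)).1
  obtain ⟨N, φ, hφlc, hφN, hφ⟩ := exists_fibreDim_fun f hcm
  obtain ⟨e, he, hmem⟩ := exists_idempotents N φ hφlc hφN
  refine ⟨N, fun d => S ⧸ Ideal.span {1 - e d}, fun d => inferInstance, fun d => inferInstance,
    ⟨algEquiv k e he⟩, ?_⟩
  intro d m hm
  haveI : IsLocalization.Away (e d) (S ⧸ Ideal.span {1 - e d}) :=
    IsLocalization.Away.quotient_of_isIdempotentElem (he.idem d)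
  have hht := IsLocalization.height_under (Submonoid.powers (e d)) m
  rw [← hht]
  set M : Ideal S := m.under S with hM
  haveI hMmax : M.IsMaximal :=
    Ideal.comap_isMaximal_of_surjective _ Ideal.Quotient.mk_surjective
  let x : PrimeSpectrum S := ⟨M, hMmax.isPrime⟩
  have hed : e d ∉ M := by
    intro h
    have h1 : algebraMap S (S ⧸ Ideal.span {1 - e d}) (e d) ∈ m := h
    have h2 : algebraMap S (S ⧸ Ideal.span {1 - e d}) (e d) = 1 := by
      have : algebraMap S (S ⧸ Ideal.span {1 - e d}) (1 - e d) = 0 :=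
        Ideal.Quotient.eq_zero_iff_mem.2 (Ideal.subset_span rfl)
      rw [map_sub, map_one, sub_eq_zero] at this
      exact this.symm
    rw [h2] at h1
    exact hm.ne_top ((Ideal.eq_top_iff_one _).2 h1)
  have hφx : φ x = (d : ℕ) := (hmem d x).1 hed
  have hfd : FlatMor.fibreDimAt f x = ((d : ℕ) : WithBot ℕ∞) := by rw [hφ x, hφx]
  rw [Groth.Agent.Helper5.OverField.fibreDimAt_of_subsingleton f x] at hfd
  obtain ⟨n, -, hn2, hn3⟩ := Groth.Agent.Helper5.VarDim.localDim_formula k f x
  have hcl : IsClosed ({x} : Set ↥(Spec (CommRingCat.of S))) :=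
    (PrimeSpectrum.isClosed_singleton_iff_isMaximal x).2 hMmax
  rw [hn3 hcl, hfd, Groth.Agent.Helper5.BCDim.dim_stalk_Spec S x,
    IsLocalization.AtPrime.ringKrullDim_eq_height x.asIdeal] at hn2
  have : ((M.height : ℕ∞) : WithBot ℕ∞) = ((d : ℕ) : WithBot ℕ∞) := by
    simpa using hn2.symm
  exact_mod_cast this

end Groth.Agent.Helper5.PiDecomp
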