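import Mathlib

set_option autoImplicit false
set_option linter.style.haveILetI false
universe u
open CategoryTheory CategoryTheory.Limits AlgebraicGeometry TopologicalSpace Topology TensorProduct

namespace Groth.Agent.Helper5.SpecFib

variable (R S : Type u) [CommRing R] [CommRing S] [Algebra R S] (p : PrimeSpectrum R)

/-- the fibre of `Spec S ⟶ Spec R` at `p` -/
noncomputable def fiberIso :
    (Spec.map (CommRingCat.ofHom (algebraMap R S))).fiber p ≅
      Spec (CommRingCat.of (p.asIdeal.Fiber S)) :=
  Arrow.leftFunc.mapIso (Spec.fiberToSpecResidueFieldIso R S p)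

set_option backward.isDefEq.respectTransparency false in
theorem fiberIso_hom_comp :
    (fiberIso R S p).hom ≫ Spec.map (CommRingCat.ofHom
      (Algebra.TensorProduct.includeRight (R := R) (A := p.asIdeal.ResidueField) (B := S)).toRingHom) =
      (Spec.map (CommRingCat.ofHom (algebraMap R S))).fiberι p := by
  simp [fiberIso, Spec.fiberToSpecResidueFieldIso, Scheme.Hom.fiberι]

theorem fiberIso_inv_comp :
    (fiberIso R S p).inv ≫ (Spec.map (CommRingCat.ofHom (algebraMap R S))).fiberι p =
      Spec.map (CommRingCat.ofHom
      (Algebra.TensorProduct.includeRight (R := R) (A := p.asIdeal.ResidueField) (B := S)).toRingHom) := by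
  rw [← fiberIso_hom_comp, Iso.inv_hom_id_assoc]

end Groth.Agent.Helper5.SpecFib
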