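import Mathlib
import Groth.Agent.Helper5.SpecFib1
import Groth.Agent.Helper5.PiDecomp3
import Groth.Agent.Helper5.CMSrc1

set_option autoImplicit false
set_option linter.style.haveILetI false
universe u
open CategoryTheory CategoryTheory.Limits AlgebraicGeometry TopologicalSpace Topology TensorProduct

namespace Groth.Agent.Helper5.SpecFib

open Groth.Agent.Helper5.CMFib

section OpenImm

variable {T X Y : Scheme.{u}} (j : T ⟶ X) [IsOpenImmersion j] (f : X ⟶ Y)

theorem flat_stalkMap_openImmersion_comp (w : T) :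
    ((j ≫ f).stalkMap w).hom.Flat ↔ (f.stalkMap (j w)).hom.Flat := by
  constructor
  · intro h
    rw [Scheme.Hom.stalkMap_comp] at h
    have h2 : ((inv (j.stalkMap w)).hom.comp
        (f.stalkMap (j w) ≫ j.stalkMap w).hom).Flat := RingHom.Flat.comp h (RingHom.Flat.of_bijective
      (ConcreteCategory.bijective_of_isIso (inv (j.stalkMap w))))
    have h3 : (inv (j.stalkMap w)).hom.comp (f.stalkMap (j w) ≫ j.stalkMap w).hom =
        (f.stalkMap (j w)).hom := by
      ext a
      exact congrArg (fun φ => φ.hom ((f.stalkMap (j w)).hom a))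
        (IsIso.hom_inv_id (j.stalkMap w))
    rwa [h3] at h2
  · intro h
    rw [Scheme.Hom.stalkMap_comp]
    exact RingHom.Flat.comp h (RingHom.Flat.of_bijective
      (ConcreteCategory.bijective_of_isIso (j.stalkMap w)))

theorem fibre_stalk_openImmersion_comp (w : T) :
    Nonempty (((j ≫ f).fiber ((j ≫ f) w)).presheaf.stalk ((j ≫ f).asFiber w) ≃+*
      (f.fiber (f (j w))).presheaf.stalk (f.asFiber (j w))) := by
  obtain ⟨e1⟩ := fibre_stalk_equiv' (j ≫ f) w
  obtain ⟨e2⟩ := fibre_stalk_equiv' f (j w)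
  let σ : X.presheaf.stalk (j w) ≃+* T.presheaf.stalk w :=
    (asIso (j.stalkMap w)).commRingCatIsoToRingEquiv
  have hσ : ∀ a, σ a = (j.stalkMap w).hom a := fun a => rfl
  have hI : Ideal.map ((j ≫ f).stalkMap w).hom
        (IsLocalRing.maximalIdeal (Y.presheaf.stalk ((j ≫ f) w))) =
      Ideal.map (σ : X.presheaf.stalk (j w) →+* T.presheaf.stalk w)
        (Ideal.map (f.stalkMap (j w)).hom
          (IsLocalRing.maximalIdeal (Y.presheaf.stalk (f (j w))))) := by
    rw [Ideal.map_map]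
    congr 1
    rw [Scheme.Hom.stalkMap_comp]
    rfl
  let e3 := Ideal.quotientEquiv _ _ σ hI
  exact ⟨e1.symm.trans (e3.symm.trans e2)⟩

/-- `IsCMAt` is insensitive to precomposition with an open immersion -/
theorem isCMAt_openImmersion_comp (w : T) :
    MoreMor.IsCMAt (j ≫ f) w ↔ MoreMor.IsCMAt f (j w) := by
  unfold MoreMor.IsCMAt
  rw [flat_stalkMap_openImmersion_comp]
  obtain ⟨e⟩ := fibre_stalk_openImmersion_comp j f w
  exact and_congr Iff.rfl ⟨fun h => Groth.Agent.Lead.CMCl.cm_of_ringEquiv e (h := h),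
    fun h => Groth.Agent.Lead.CMCl.cm_of_ringEquiv e.symm (h := h)⟩

end OpenImm

section Ring

variable (R S : Type u) [CommRing R] [CommRing S] [Algebra R S]

/-- Cohen–Macaulay fibre rings give a Cohen–Macaulay morphism (at flat points) -/
theorem isCMAt_of_fibre_cm (x : PrimeSpectrum S)
    (hfl : ((Spec.map (CommRingCat.ofHom (algebraMap R S))).stalkMap x).hom.Flat)
    (hCM : ∀ p : PrimeSpectrum R, LocCoh.IsCohenMacaulayRing (p.asIdeal.Fiber S)) :
    MoreMor.IsCMAt (Spec.map (CommRingCat.ofHom (algebraMap R S))) x := by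
  refine ⟨hfl, ?_⟩
  set f := Spec.map (CommRingCat.ofHom (algebraMap R S)) with hf
  let p : PrimeSpectrum R := f x
  let E := fiberIso R S p
  let z : ↥(f.fiber p) := f.asFiber x
  haveI := hCM p
  haveI h1 := Groth.Agent.Helper5.PiDecomp.cm_stalk_Spec (p.asIdeal.Fiber S) (E.hom z)
  exact Groth.Agent.Lead.CMCl.cm_of_ringEquiv
    (asIso (E.hom.stalkMap z)).commRingCatIsoToRingEquiv

/-- a Cohen–Macaulay morphism has Cohen–Macaulay fibre rings -/
theorem cm_fibre_ring_of_isCMAt (p : PrimeSpectrum R) [IsNoetherianRing (p.asIdeal.Fiber S)]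
    (h : ∀ x : PrimeSpectrum S, MoreMor.IsCMAt (Spec.map (CommRingCat.ofHom (algebraMap R S))) x) :
    LocCoh.IsCohenMacaulayRing (p.asIdeal.Fiber S) := by
  refine { isCohenMacaulayLocalRing_localization := ?_ }
  intro Q hQ
  set f := Spec.map (CommRingCat.ofHom (algebraMap R S)) with hf
  let E := fiberIso R S p
  let Qp : ↥(Spec (CommRingCat.of (p.asIdeal.Fiber S))) := (⟨Q, hQ⟩ : PrimeSpectrum _)
  let ζ : ↥(f.fiber p) := E.inv Qp
  have h1 := (h (f.fiberι p ζ)).2
  have h2 := (Groth.Agent.Helper5.CMSrc.cm_fibre_stalk_iff f p ζ _ rfl).2 h1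
  have h3 : LocCoh.IsCohenMacaulayLocalRing
      ((Spec (CommRingCat.of (p.asIdeal.Fiber S))).presheaf.stalk Qp) :=
    Groth.Agent.Lead.CMCl.cm_of_ringEquiv
      (asIso (E.inv.stalkMap Qp)).commRingCatIsoToRingEquiv (h := h2)
  exact Groth.Agent.Lead.CMCl.cm_of_ringEquiv
    (Spec.stalkIso (CommRingCat.of (p.asIdeal.Fiber S)) Qp).commRingCatIsoToRingEquiv (h := h3)

end Ring

end Groth.Agent.Helper5.SpecFib
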