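import Mathlib
import Groth.Agent.Helper5.SpecFib2
import Groth.Agent.Helper5.MaxPt1
import Groth.Agent.Helper5.BCMin4
import Groth.Agent.Helper5.FtDim6

set_option autoImplicit false
set_option linter.style.haveILetI false
universe u
open CategoryTheory CategoryTheory.Limits AlgebraicGeometry TopologicalSpace Topology TensorProduct

namespace Groth.Agent.Helper5.SpecFib

variable (R S : Type u) [CommRing R] [CommRing S] [Algebra R S]

set_option maxHeartbeats 1000000 in
/-- the dimension of an irreducible component of a fibre ring is the local fibre dimension at its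
generic point -/
theorem dim_component_fibre [Algebra.FiniteType R S] (p : PrimeSpectrum R)
    (P : Ideal (p.asIdeal.Fiber S)) (hP : P ∈ minimalPrimes (p.asIdeal.Fiber S)) :
    ∃ x : PrimeSpectrum S,
      ringKrullDim (p.asIdeal.Fiber S ⧸ P) =
        FlatMor.fibreDimAt (Spec.map (CommRingCat.ofHom (algebraMap R S))) x := by
  set f := Spec.map (CommRingCat.ofHom (algebraMap R S)) with hf
  haveI : LocallyOfFiniteType f := by
    rw [hf, HasRingHomProperty.Spec_iff (P := @LocallyOfFiniteType)]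
    exact RingHom.finiteType_algebraMap.2 inferInstance
  haveI hPprime : P.IsPrime := hP.1.1
  let E := fiberIso R S p
  let Pp : ↥(Spec (CommRingCat.of (p.asIdeal.Fiber S))) := (⟨P, hPprime⟩ : PrimeSpectrum _)
  let ζ : ↥(f.fiber p) := E.inv Pp
  have hEζ : E.hom ζ = Pp := by
    have h3 : (E.inv ≫ E.hom) Pp = Pp := by rw [E.inv_hom_id]; rfl
    exact (Scheme.Hom.comp_apply E.inv E.hom Pp).symm.trans h3
  let x : PrimeSpectrum S := f.fiberι p ζ
  have hfx : f x = p := by
    have hmem : f.fiberι p ζ ∈ Set.range (f.fiberι p) := ⟨ζ, rfl⟩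
    rw [f.range_fiberι p] at hmem
    exact hmem
  refine ⟨x, ?_⟩
  -- step 1: the dimension of the closure
  have h1 := Groth.Agent.Helper5.BCMin.dim_closure_singleton_primeSpectrum
    (R := p.asIdeal.Fiber S) ⟨P, hPprime⟩
  rw [← h1]
  have hhomeo : IsHomeomorph (E.hom : ↥(f.fiber p) → ↥(Spec (CommRingCat.of (p.asIdeal.Fiber S)))) :=
    (Scheme.homeoOfIso E).isHomeomorph
  have h2 := Groth.Agent.Helper5.FtDim.dim_preimage_of_isHomeomorph _ hhomeo
    (closure ({Pp} : Set ↥(Spec (CommRingCat.of (p.asIdeal.Fiber S)))))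
  have hpre : (E.hom : ↥(f.fiber p) → _) ⁻¹' (closure ({Pp} : Set _)) = closure ({ζ} : Set _) := by
    rw [hhomeo.isOpenMap.preimage_closure_eq_closure_preimage hhomeo.continuous]
    congr 1
    ext w
    simp only [Set.mem_preimage, Set.mem_singleton_iff]
    constructor
    · intro hw
      exact hhomeo.injective (hw.trans hEζ.symm)
    · intro hw
      rw [hw]; exact hEζ
  rw [hpre] at h2
  have h2' : topologicalKrullDim ↥(closure ({(⟨P, hPprime⟩ : PrimeSpectrum (p.asIdeal.Fiber S))} : Set _)) =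
      topologicalKrullDim ↥(closure ({ζ} : Set ↥(f.fiber p))) := h2.symm
  rw [h2']
  -- step 2: both are the transcendence degree
  obtain ⟨n, hn1, hn2⟩ := Groth.Agent.Helper5.MaxPt.dim_closure_fibre_point f p ζ x rfl hfx
  have hmax : ∀ w : ↥(Spec (CommRingCat.of S)), f w = f x → w ⤳ x → w = x := by
    intro w hw hwx
    have hwr : w ∈ Set.range (f.fiberι p) := by
      rw [f.range_fiberι p]; exact hw.trans hfx
    obtain ⟨ζ', rfl⟩ := hwr
    have h3 : ζ' ⤳ ζ := (f.fiberι p).isEmbedding.toIsInducing.specializes_iff.1 hwx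
    have h4 : E.hom ζ' ⤳ E.hom ζ := h3.map E.hom.continuous
    rw [hEζ] at h4
    have h5 : (E.hom ζ').asIdeal ≤ P := by
      have := (PrimeSpectrum.le_iff_specializes (R := p.asIdeal.Fiber S) (E.hom ζ')
        ⟨P, hPprime⟩).2 h4
      exact this
    have h6 : P ≤ (E.hom ζ').asIdeal :=
      hP.2 ⟨(E.hom ζ').2, bot_le⟩ h5
    have h7 : E.hom ζ' = Pp := PrimeSpectrum.ext (le_antisymm h5 h6)
    have h8 : ζ' = ζ := hhomeo.injective (h7.trans hEζ.symm)
    rw [h8]
  have h0 := Groth.Agent.Helper5.MaxPt.coheight_asFiber_eq_zero f x hmax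
  obtain ⟨n', hn'1, hn'2⟩ := Groth.Agent.Helper5.MaxPt.fibreDimAt_of_maximal f x h0
  have hnn : n = n' := by
    have : (n : Cardinal.{u}) = (n' : Cardinal.{u}) := hn2.symm.trans hn'1
    exact_mod_cast this
  rw [hn1, hn'2, hnn]

end Groth.Agent.Helper5.SpecFib
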