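import Mathlib
import Groth.Agent.Helper5.SpecFib3
import Groth.Agent.Helper5.SubDim5

set_option autoImplicit false
set_option linter.style.haveILetI false
universe u
open CategoryTheory CategoryTheory.Limits AlgebraicGeometry TopologicalSpace Topology TensorProduct

namespace Groth.Agent.Helper5.SpecFib

variable (R S : Type u) [CommRing R] [CommRing S] [Algebra R S]

set_option maxHeartbeats 1000000 in
/-- the local dimension of the fibre ring at the point over `q` is the local fibre dimension of
`Spec S ⟶ Spec R` at `q` -/
theorem localDim_fibre_eq (q : PrimeSpectrum S)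
    (Q : PrimeSpectrum ((q.asIdeal.under R).Fiber S))
    (hQ : Q.asIdeal.comap (Algebra.TensorProduct.includeRight
      (R := R) (A := (q.asIdeal.under R).ResidueField) (B := S)).toRingHom = q.asIdeal) :
    FlatMor.localDim (PrimeSpectrum ((q.asIdeal.under R).Fiber S)) Q =
      FlatMor.fibreDimAt (Spec.map (CommRingCat.ofHom (algebraMap R S))) q := by
  set f := Spec.map (CommRingCat.ofHom (algebraMap R S)) with hf
  let p : PrimeSpectrum R := ⟨q.asIdeal.under R, inferInstance⟩
  have hfq : f q = p := rfl
  let E := fiberIso R S p
  let z : ↥(f.fiber p) := f.asFiber q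
  have h1 := Groth.Agent.Helper5.SubDim.localDim_homeomorph (Scheme.homeoOfIso E) z
  have hinj : Function.Injective (Spec.map (CommRingCat.ofHom
      (Algebra.TensorProduct.includeRight (R := R) (A := p.asIdeal.ResidueField)
        (B := S)).toRingHom)) := by
    rw [← fiberIso_inv_comp R S p]
    intro a b hab
    rw [Scheme.Hom.comp_apply, Scheme.Hom.comp_apply] at hab
    have := (f.fiberι p).isEmbedding.injective hab
    exact (Scheme.homeoOfIso E).symm.injective this
  have hEz : E.hom z = Q := by
    apply hinj
    have h2 : (Spec.map (CommRingCat.ofHom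
      (Algebra.TensorProduct.includeRight (R := R) (A := p.asIdeal.ResidueField)
        (B := S)).toRingHom)) (E.hom z) = q := by
      rw [← Scheme.Hom.comp_apply, fiberIso_hom_comp R S p]
      exact f.fiberι_asFiber q
    rw [h2]
    exact (PrimeSpectrum.ext hQ).symm
  show FlatMor.localDim _ Q = FlatMor.localDim ↥(f.fiber p) z
  rw [h1]
  congr 1
  exact hEz.symm

theorem exists_over (q : PrimeSpectrum S) :
    ∃ Q : PrimeSpectrum ((q.asIdeal.under R).Fiber S),
      Q.asIdeal.comap (Algebra.TensorProduct.includeRight
        (R := R) (A := (q.asIdeal.under R).ResidueField) (B := S)).toRingHom = q.asIdeal := by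
  set f := Spec.map (CommRingCat.ofHom (algebraMap R S)) with hf
  let p : PrimeSpectrum R := ⟨q.asIdeal.under R, inferInstance⟩
  let E := fiberIso R S p
  let z : ↥(f.fiber p) := f.asFiber q
  refine ⟨E.hom z, ?_⟩
  have h2 : (Spec.map (CommRingCat.ofHom
      (Algebra.TensorProduct.includeRight (R := R) (A := p.asIdeal.ResidueField)
        (B := S)).toRingHom)) (E.hom z) = q := by
    rw [← Scheme.Hom.comp_apply, fiberIso_hom_comp R S p]
    exact f.fiberι_asFiber q
  exact congrArg PrimeSpectrum.asIdeal h2

end Groth.Agent.Helper5.SpecFib
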