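import Groth.Agent.Helper5.FtDim7
import Groth.Prelude.Def_Flat

set_option autoImplicit false
universe u

namespace Groth.Agent.Helper5.FtDim

open Order TopologicalSpace

/-- For primes `P ≤ p` of a finite type algebra over a field, `dim A/P` is at most the local
dimension of `Spec A` at `p`. -/
theorem dim_quotient_le_localDim (k A : Type u) [Field k] [CommRing A] [Algebra k A]
    [Algebra.FiniteType k A] (p P : PrimeSpectrum A) (hP : P ≤ p) :
    ringKrullDim (A ⧸ P.asIdeal) ≤ FlatMor.localDim (PrimeSpectrum A) p := by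
  unfold FlatMor.localDim
  refine le_iInf fun U => ?_
  let B := A ⧸ P.asIdeal
  let φ := PrimeSpectrum.comap (Ideal.Quotient.mk P.asIdeal)
  have hφ : Topology.IsClosedEmbedding φ :=
    PrimeSpectrum.isClosedEmbedding_comap_of_surjective _ _ Ideal.Quotient.mk_surjective
  let W : Set (PrimeSpectrum B) := φ ⁻¹' (U.1 : Set (PrimeSpectrum A))
  have hW : IsOpen W := U.1.isOpen.preimage hφ.continuous
  have hPU : P ∈ U.1 := ((PrimeSpectrum.le_iff_specializes P p).1 hP).mem_open U.1.isOpen U.2
  have hne : W.Nonempty := by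
    refine ⟨⟨⊥, Ideal.isPrime_bot⟩, ?_⟩
    show φ ⟨⊥, Ideal.isPrime_bot⟩ ∈ U.1
    have : φ ⟨⊥, Ideal.isPrime_bot⟩ = P := by
      ext1
      show Ideal.comap (Ideal.Quotient.mk P.asIdeal) ⊥ = P.asIdeal
      rw [← RingHom.ker_eq_comap_bot, Ideal.mk_ker]
    rw [this]
    exact hPU
  rw [← dim_open_of_domain k B W hW hne]
  exact (Set.restrictPreimage_isInducing (U.1 : Set (PrimeSpectrum A))
    hφ.isInducing).topologicalKrullDim_le

/-- An open neighbourhood of `p` all of whose points have height at most `ht p + dim A/p`. -/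
theorem exists_open_height_le (k A : Type u) [Field k] [CommRing A] [Algebra k A]
    [Algebra.FiniteType k A] (p : PrimeSpectrum A) :
    ∃ U : Opens (PrimeSpectrum A), p ∈ U ∧ ∀ x ∈ U, height x ≤ height p + coheight p := by
  have hN : IsNoetherianRing A := Algebra.FiniteType.isNoetherianRing k A
  let T : Set (Ideal A) := {P' | P' ∈ minimalPrimes A ∧ ¬ P' ≤ p.asIdeal}
  have hT : T.Finite := (minimalPrimes.finite_of_isNoetherianRing A).subset (fun _ h => h.1)
  let C : Set (PrimeSpectrum A) := ⋃ P' ∈ T, PrimeSpectrum.zeroLocus (P' : Set A)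
  have hC : IsClosed C := hT.isClosed_biUnion (fun _ _ => PrimeSpectrum.isClosed_zeroLocus _)
  refine ⟨⟨Cᶜ, hC.isOpen_compl⟩, ?_, ?_⟩
  · show p ∉ C
    intro hp
    simp only [C, Set.mem_iUnion, PrimeSpectrum.mem_zeroLocus, SetLike.coe_subset_coe] at hp
    obtain ⟨P', hP', hle⟩ := hp
    exact hP'.2 hle
  · intro x hx
    have hx' : x ∉ C := hx
    refine height_le fun l hl => ?_
    obtain ⟨P', hP'min, hP'le⟩ := Ideal.exists_minimalPrimes_le (I := ⊥) (J := l.head.asIdeal) bot_le
    have hP'prime : P'.IsPrime := hP'min.1.1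
    have hP'p : P' ≤ p.asIdeal := by
      by_contra hnot
      apply hx'
      simp only [C, Set.mem_iUnion, PrimeSpectrum.mem_zeroLocus, SetLike.coe_subset_coe]
      refine ⟨P', ⟨hP'min, hnot⟩, ?_⟩
      have h1 : l.head ≤ x := hl ▸ LTSeries.head_le_last l
      exact hP'le.trans h1
    have h1 : (l.length : ℕ∞) ≤ coheight (⟨P', hP'prime⟩ : PrimeSpectrum A) :=
      length_le_coheight (x := (⟨P', hP'prime⟩ : PrimeSpectrum A)) hP'le
    exact h1.trans (coheight_le_height_add_coheight' k A p ⟨P', hP'prime⟩ hP'p)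

/-- The local dimension of the spectrum of a finite type algebra over a field at a prime `p`
is `ht p + dim A/p`. -/
theorem localDim_eq (k A : Type u) [Field k] [CommRing A] [Algebra k A]
    [Algebra.FiniteType k A] (p : PrimeSpectrum A) :
    FlatMor.localDim (PrimeSpectrum A) p = ((height p + coheight p : ℕ∞) : WithBot ℕ∞) := by
  have hN : IsNoetherianRing A := Algebra.FiniteType.isNoetherianRing k A
  apply le_antisymm
  · obtain ⟨U, hpU, hU⟩ := exists_open_height_le k A p
    unfold FlatMor.localDim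
    refine (iInf_le _ ⟨U, hpU⟩).trans ?_
    show topologicalKrullDim ↥(U : Set (PrimeSpectrum A)) ≤ _
    rw [dim_open_eq_iSup_height A U U.isOpen]
    refine iSup_le fun x => ?_
    rw [PrimeSpectrum.height_eq_orderHeight]
    exact_mod_cast hU x.1 x.2
  · obtain ⟨P, hP, hge⟩ := exists_le_with_coheight_ge hN p
    refine le_trans ?_ (dim_quotient_le_localDim k A p P hP)
    rw [ringKrullDim_quotient_eq_coheight]
    exact_mod_cast hge

end Groth.Agent.Helper5.FtDim
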