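import Mathlib
import Groth.Agent.Helper6.AffDim1
import Groth.Agent.Helper5.FtDim8
import Groth.Agent.Helper5.DimBC

set_option autoImplicit false
set_option linter.style.haveILetI false
universe u
open TopologicalSpace Topology TensorProduct Order

namespace Groth.Agent.Helper5.SyntDim

section GenLower

/-- every irreducible component of `Spec K[x_1..x_n]/(r_1..r_c)` has dimension at least `n - c` -/
theorem dim_quot_minimalPrime_ge (K B : Type u) [Field K] [CommRing B] [Algebra K B] (n c : ℕ)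
    (P : Algebra.Presentation K B (Fin n) (Fin c)) (𝔓 : Ideal B) (h𝔓 : 𝔓 ∈ minimalPrimes B) :
    (n : WithBot ℕ∞) ≤ ringKrullDim (B ⧸ 𝔓) + (c : WithBot ℕ∞) := by
  classical
  let π : MvPolynomial (Fin n) K →+* B := algebraMap P.Ring B
  have hsurj : Function.Surjective π := P.algebraMap_surjective
  have hker : RingHom.ker π = Ideal.span (Set.range P.relation) :=
    P.span_range_relation_eq_ker.symm
  let Q : Ideal (MvPolynomial (Fin n) K) := 𝔓.comap π
  haveI h𝔓prime : 𝔓.IsPrime := h𝔓.1.1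
  haveI hQprime : Q.IsPrime := Ideal.comap_isPrime π 𝔓
  let s : Finset (MvPolynomial (Fin n) K) := Finset.univ.image P.relation
  have hs : Ideal.span (s : Set (MvPolynomial (Fin n) K)) = RingHom.ker π := by
    rw [hker]
    congr 1
    ext x
    simp [s]
  have hQmin : Q ∈ ((⊥ : Ideal (MvPolynomial (Fin n) K)) ⊔
      Ideal.span (s : Set (MvPolynomial (Fin n) K))).minimalPrimes := by
    rw [bot_sup_eq, hs, RingHom.ker_eq_comap_bot,
      Ideal.comap_minimalPrimes_eq_of_surjective hsurj]
    exact ⟨𝔓, h𝔓, rfl⟩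
  haveI : (⊥ : Ideal (MvPolynomial (Fin n) K)).IsPrime := Ideal.isPrime_bot
  have h1 := Groth.Agent.Helper6.AffDim.dim_drop_le K (MvPolynomial (Fin n) K) ⊥ s Q hQmin
  have h2 : ringKrullDim (MvPolynomial (Fin n) K ⧸ (⊥ : Ideal (MvPolynomial (Fin n) K))) = n := by
    rw [ringKrullDim_eq_of_ringEquiv (RingEquiv.quotientBot (MvPolynomial (Fin n) K))]
    exact Groth.Agent.Helper5.DimBC.dim_mvPolynomial K n
  let φ : MvPolynomial (Fin n) K →+* B ⧸ 𝔓 := (Ideal.Quotient.mk 𝔓).comp π
  have hφ : Function.Surjective φ := Ideal.Quotient.mk_surjective.comp hsurj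
  have hkerφ : RingHom.ker φ = Q := by
    rw [← RingHom.comap_ker, Ideal.mk_ker]
  have e : (MvPolynomial (Fin n) K ⧸ Q) ≃+* (B ⧸ 𝔓) :=
    (Ideal.quotEquivOfEq hkerφ.symm).trans (RingHom.quotientKerEquivOfSurjective hφ)
  rw [h2, ringKrullDim_eq_of_ringEquiv e] at h1
  refine h1.trans ?_
  gcongr
  have : s.card ≤ c := by
    refine Finset.card_image_le.trans ?_
    simp
  exact_mod_cast this

end GenLower

end Groth.Agent.Helper5.SyntDim
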