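import Mathlib
import Groth.Agent.Helper5.SyntDim1
import Groth.Agent.Helper5.SpecFib4

set_option autoImplicit false
set_option linter.style.haveILetI false
universe u
open CategoryTheory AlgebraicGeometry TopologicalSpace Topology TensorProduct Order

namespace Groth.Agent.Helper5.SyntDim

/-- a finite type algebra over a field presented by `n` generators and `c` relations and of
dimension `n - c` has local dimension `n - c` at every point -/
theorem localDim_of_presentation (K B : Type u) [Field K] [CommRing B] [Algebra K B]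
    [Algebra.FiniteType K B] (n c : ℕ) (hcn : c ≤ n)
    (P : Algebra.Presentation K B (Fin n) (Fin c))
    (hdim : ringKrullDim B = ((n - c : ℕ) : WithBot ℕ∞)) (Q : PrimeSpectrum B) :
    FlatMor.localDim (PrimeSpectrum B) Q = ((n - c : ℕ) : WithBot ℕ∞) := by
  rw [Groth.Agent.Helper5.FtDim.localDim_eq K B Q]
  apply le_antisymm
  · have h1 := Groth.Agent.Helper5.FtDim.height_add_dim_quotient_le Q.asIdeal
    rw [hdim, Groth.Agent.Helper5.FtDim.ringKrullDim_quotient_eq_coheight, PrimeSpectrum.height_eq_orderHeight] at h1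
    exact_mod_cast h1
  · obtain ⟨𝔓, h𝔓, hle⟩ := Ideal.exists_minimalPrimes_le (bot_le : (⊥ : Ideal B) ≤ Q.asIdeal)
    haveI : 𝔓.IsPrime := h𝔓.1.1
    let P' : PrimeSpectrum B := ⟨𝔓, h𝔓.1.1⟩
    have h1 := dim_quot_minimalPrime_ge K B n c P 𝔓 h𝔓
    have h2 := Groth.Agent.Helper5.FtDim.coheight_le_height_add_coheight' K B Q P' hle
    have h3 : ringKrullDim (B ⧸ 𝔓) = (coheight P' : ℕ∞) := Groth.Agent.Helper5.FtDim.ringKrullDim_quotient_eq_coheight P'
    rw [h3] at h1
    have h4 : (n : ℕ∞) ≤ coheight P' + (c : ℕ∞) := by exact_mod_cast h1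
    have h5 : ((n - c : ℕ) : ℕ∞) ≤ coheight P' := by
      rcases eq_or_ne (coheight P') ⊤ with htop | hne
      · rw [htop]; exact le_top
      · obtain ⟨m, hm⟩ := ENat.ne_top_iff_exists.1 hne
        rw [← hm] at h4 ⊢
        have : n ≤ m + c := by exact_mod_cast h4
        exact_mod_cast (by omega : n - c ≤ m)
    have h6 : ((n - c : ℕ) : ℕ∞) ≤ height Q + coheight Q := h5.trans h2
    calc ((n - c : ℕ) : WithBot ℕ∞) = (((n - c : ℕ) : ℕ∞) : WithBot ℕ∞) := rfl
      _ ≤ _ := WithBot.coe_le_coe.2 h6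

end Groth.Agent.Helper5.SyntDim
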