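import Mathlib
import Groth.Agent.Helper5.SyntDim2
import Groth.Prelude.Def_RegImm

set_option autoImplicit false
set_option linter.style.haveILetI false
universe u
open CategoryTheory AlgebraicGeometry TopologicalSpace Topology TensorProduct Order

namespace Groth.Agent.Helper5.SyntDim

theorem s9366 (R : Type u) [CommRing R] (n c : ℕ) (F : Fin c → MvPolynomial (Fin n) R)
    (hF : Synt.IsRelGCI R n c F) (x : ↑(Spec (CommRingCat.of (Synt.RelGCIRing R n c F)))) :
    FlatMor.fibreDimAt (Spec.map (CommRingCat.ofHom (algebraMap R (Synt.RelGCIRing R n c F)))) x =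
      ((n - c : ℕ) : WithBot ℕ∞) := by
  let A := Synt.RelGCIRing R n c F
  let q : PrimeSpectrum A := x
  obtain ⟨Q, hQ⟩ := Groth.Agent.Helper5.SpecFib.exists_over R A q
  have h1 := Groth.Agent.Helper5.SpecFib.localDim_fibre_eq R A q Q hQ
  rw [← h1]
  let p : PrimeSpectrum R := ⟨q.asIdeal.under R, inferInstance⟩
  haveI : Nontrivial (p.asIdeal.Fiber A) := ⟨⟨0, 1, fun h => Q.isPrime.ne_top ((Ideal.eq_top_iff_one _).2 (h ▸ Q.asIdeal.zero_mem))⟩⟩
  obtain ⟨hcn, hdim⟩ := hF p inferInstance
  let P' : Algebra.Presentation p.asIdeal.ResidueField (p.asIdeal.ResidueField ⊗[R] A) (Fin n) (Fin c) :=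
    (Algebra.Presentation.naive (v := F)).baseChange p.asIdeal.ResidueField
  exact localDim_of_presentation p.asIdeal.ResidueField (p.asIdeal.ResidueField ⊗[R] A) n c hcn P' hdim Q

end Groth.Agent.Helper5.SyntDim
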