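import Mathlib
import Groth.Agent.Helper5.RelGCI2
import Groth.Agent.Helper5.SyntDim3
import Groth.Agent.Helper5.SpecFib3

set_option autoImplicit false
set_option linter.style.haveILetI false
universe u
open CategoryTheory CategoryTheory.Limits AlgebraicGeometry TensorProduct MvPolynomial Order

namespace Groth.Agent.Helper5.RelGCI

/-- a ring all of whose components have dimension at most `d` has dimension at most `d` -/
theorem ringKrullDim_le_of_minimalPrimes {A : Type*} [CommRing A] (d : WithBot ℕ∞)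
    (h : ∀ P ∈ minimalPrimes A, ringKrullDim (A ⧸ P) ≤ d) : ringKrullDim A ≤ d := by
  show Order.krullDim (PrimeSpectrum A) ≤ d
  rw [Order.krullDim_eq_iSup_coheight]
  refine iSup_le fun Q => ?_
  obtain ⟨P, hP, hle⟩ := Ideal.exists_minimalPrimes_le (bot_le : (⊥ : Ideal A) ≤ Q.asIdeal)
  haveI : P.IsPrime := hP.1.1
  have h1 := h P hP
  rw [Groth.Agent.Helper5.FtDim.ringKrullDim_quotient_eq_coheight ⟨P, hP.1.1⟩] at h1
  refine le_trans ?_ h1
  have h2 : coheight Q ≤ coheight (⟨P, hP.1.1⟩ : PrimeSpectrum A) := Order.coheight_anti hle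
  exact_mod_cast h2

/-- a nontrivial ring presented by `n` generators and `c` relations over a field has dimension
at least `n - c` -/
theorem le_ringKrullDim_of_presentation (K A : Type u) [Field K] [CommRing A] [Algebra K A]
    [Nontrivial A] (n c : ℕ) (P' : Algebra.Presentation K A (Fin n) (Fin c)) :
    ((n - c : ℕ) : WithBot ℕ∞) ≤ ringKrullDim A := by
  obtain ⟨𝔓, h𝔓⟩ : ∃ 𝔓 : Ideal A, 𝔓 ∈ minimalPrimes A := by
    obtain ⟨m, hm⟩ := Ideal.exists_maximal A
    obtain ⟨𝔓, h𝔓, -⟩ := Ideal.exists_minimalPrimes_le (bot_le : (⊥ : Ideal A) ≤ m)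
    exact ⟨𝔓, h𝔓⟩
  have h1 := Groth.Agent.Helper5.SyntDim.dim_quot_minimalPrime_ge K A n c P' 𝔓 h𝔓
  have h2 : ringKrullDim (A ⧸ 𝔓) ≤ ringKrullDim A :=
    ringKrullDim_le_of_surjective _ Ideal.Quotient.mk_surjective
  have h3 : (n : WithBot ℕ∞) ≤ ringKrullDim A + (c : WithBot ℕ∞) := h1.trans (by gcongr)
  generalize ringKrullDim A = D at h3
  induction D using WithBot.recBotCoe with
  | bot => simp at h3
  | coe D =>
    induction D using ENat.recTopCoe with
    | top => exact le_top
    | coe m =>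
      have h4 : n ≤ m + c := by exact_mod_cast h3
      have h5 : ((n - c : ℕ) : ℕ∞) ≤ (m : ℕ∞) := by exact_mod_cast (by omega : n - c ≤ m)
      calc ((n - c : ℕ) : WithBot ℕ∞) = (((n - c : ℕ) : ℕ∞) : WithBot ℕ∞) := rfl
        _ ≤ _ := WithBot.coe_le_coe.2 h5

variable (R : Type u) [CommRing R] (n c : ℕ) (F : Fin c → MvPolynomial (Fin n) R)

set_option maxHeartbeats 1000000 in
/-- criterion: all local fibre dimensions at most `n - c` -/
theorem isRelGCI_of_fibreDimAt_le (hcn : c ≤ n)
    (hle : ∀ x : ↥(Spec (CommRingCat.of (Synt.RelGCIRing R n c F))),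
      FlatMor.fibreDimAt (Spec.map (CommRingCat.ofHom (algebraMap R (Synt.RelGCIRing R n c F)))) x ≤
        ((n - c : ℕ) : WithBot ℕ∞)) : Synt.IsRelGCI R n c F := by
  intro p hnt
  refine ⟨hcn, le_antisymm ?_ ?_⟩
  · refine ringKrullDim_le_of_minimalPrimes (A := p.asIdeal.Fiber (Synt.RelGCIRing R n c F)) _ ?_
    intro P hP
    obtain ⟨x, hx⟩ := Groth.Agent.Helper5.SpecFib.dim_component_fibre R (Synt.RelGCIRing R n c F) p P hP
    rw [hx]
    exact hle x
  · exact le_ringKrullDim_of_presentation p.asIdeal.ResidueField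
      (p.asIdeal.ResidueField ⊗[R] (Synt.RelGCIRing R n c F)) n c
      ((Algebra.Presentation.naive (v := F)).baseChange p.asIdeal.ResidueField)

end Groth.Agent.Helper5.RelGCI
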