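import Mathlib
import Groth.Agent.Helper5.RelGCI14
import Groth.Agent.Helper5.RelGCI3
import Groth.Agent.Helper5.EtFib

set_option autoImplicit false
set_option linter.style.haveILetI false
universe u
open CategoryTheory AlgebraicGeometry MvPolynomial

namespace Groth.Agent.Helper5.RelGCI

variable (R : Type u) [CommRing R] (n c : ℕ) (F : Fin c → MvPolynomial (Fin n) R)
  (h : MvPolynomial (Fin n) R)

set_option maxHeartbeats 1000000 in
/-- if the local fibre dimensions are at most `n - c` on the basic open `D(h)`, the localization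
at `h` is a relative global complete intersection -/
theorem isRelGCI_snoc (hcn : c ≤ n)
    (hU : ∀ x : PrimeSpectrum (Synt.RelGCIRing R n c F),
      Ideal.Quotient.mk (Ideal.span (Set.range F)) h ∉ x.asIdeal →
      FlatMor.fibreDimAt (Spec.map (CommRingCat.ofHom
        (algebraMap R (Synt.RelGCIRing R n c F)))) x ≤ ((n - c : ℕ) : WithBot ℕ∞)) :
    Synt.IsRelGCI R (n + 1) (c + 1) (snocRel R n c F h) := by
  apply isRelGCI_of_fibreDimAt_le R (n + 1) (c + 1) _ (by omega)
  intro x
  letI alg : Algebra (Synt.RelGCIRing R n c F)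
      (Synt.RelGCIRing R (n + 1) (c + 1) (snocRel R n c F h)) :=
    (snocHom R n c F h : Synt.RelGCIRing R n c F →+* _).toAlgebra
  haveI : IsScalarTower R (Synt.RelGCIRing R n c F)
      (Synt.RelGCIRing R (n + 1) (c + 1) (snocRel R n c F h)) :=
    IsScalarTower.of_algebraMap_eq (fun r => ((snocHom R n c F h).commutes r).symm)
  haveI := isLocalization_snoc R n c F h
  haveI : IsOpenImmersion (Spec.map (CommRingCat.ofHom (algebraMap (Synt.RelGCIRing R n c F)
      (Synt.RelGCIRing R (n + 1) (c + 1) (snocRel R n c F h))))) :=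
    IsOpenImmersion.of_isLocalization (Ideal.Quotient.mk (Ideal.span (Set.range F)) h)
  have hcomp : Spec.map (CommRingCat.ofHom (algebraMap R
      (Synt.RelGCIRing R (n + 1) (c + 1) (snocRel R n c F h)))) =
      Spec.map (CommRingCat.ofHom (algebraMap (Synt.RelGCIRing R n c F)
        (Synt.RelGCIRing R (n + 1) (c + 1) (snocRel R n c F h)))) ≫
      Spec.map (CommRingCat.ofHom (algebraMap R (Synt.RelGCIRing R n c F))) := by
    rw [← Spec.map_comp, ← CommRingCat.ofHom_comp, ← IsScalarTower.algebraMap_eq]
  rw [hcomp, Groth.Agent.Helper5.EtFib.fibreDimAt_etale_comp]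
  have hnc : (n + 1 - (c + 1) : ℕ) = n - c := by omega
  rw [hnc]
  apply hU
  intro hmem
  have hu : IsUnit (algebraMap (Synt.RelGCIRing R n c F)
      (Synt.RelGCIRing R (n + 1) (c + 1) (snocRel R n c F h))
      (Ideal.Quotient.mk (Ideal.span (Set.range F)) h)) := isUnit_snocHom R n c F h
  exact x.isPrime.ne_top (Ideal.eq_top_of_isUnit_mem _ hmem hu)

end Groth.Agent.Helper5.RelGCI
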