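import Mathlib
import Groth.Agent.Helper5.RelGCI2
import Groth.Agent.Helper5.FibDim7

set_option autoImplicit false
set_option linter.style.haveILetI false
universe u
open CategoryTheory CategoryTheory.Limits AlgebraicGeometry TensorProduct MvPolynomial

namespace Groth.Agent.Helper5.RelGCI

variable (A B : Type u) [CommRing A] [CommRing B] [Algebra A B] (n c : ℕ)
  (G : Fin c → MvPolynomial (Fin n) A) (d : WithBot ℕ∞)

/-- the locus where the fibre dimension exceeds `d` -/
def badSet : Set (PrimeSpectrum (Synt.RelGCIRing A n c G)) :=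
  {q | ¬ FlatMor.fibreDimAt
        (Spec.map (CommRingCat.ofHom (algebraMap A (Synt.RelGCIRing A n c G)))) q ≤ d}

theorem isClosed_badSet : IsClosed (badSet A n c G d) := by
  have hopen := Groth.Agent.Helper5.FibDim.isOpen_fibreDimAt_le
    (Spec.map (CommRingCat.ofHom (algebraMap A (Synt.RelGCIRing A n c G)))) d
  exact hopen.isClosed_compl

/-- the ideal of `A[x]` cutting out the locus where the fibre dimension exceeds `d` -/
noncomputable def badIdeal : Ideal (MvPolynomial (Fin n) A) :=
  (PrimeSpectrum.vanishingIdeal (badSet A n c G d)).comap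
    (Ideal.Quotient.mk (Ideal.span (Set.range G)))

theorem zeroLocus_vanishingIdeal_badSet :
    PrimeSpectrum.zeroLocus
      ((PrimeSpectrum.vanishingIdeal (badSet A n c G d) : Ideal _) : Set (Synt.RelGCIRing A n c G)) =
      badSet A n c G d := by
  rw [PrimeSpectrum.zeroLocus_vanishingIdeal_eq_closure, (isClosed_badSet A n c G d).closure_eq]

theorem bcHom_comp_mk :
    (bcHom A B n c G).comp (Ideal.Quotient.mk (Ideal.span (Set.range G))) =
      (Ideal.Quotient.mk (Ideal.span (Set.range
        (fun i => MvPolynomial.map (algebraMap A B) (G i))))).comp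
        (MvPolynomial.map (algebraMap A B)) :=
  RingHom.ext fun y => bcHom_mk A B n c G y

theorem map_vanishingIdeal_bcHom :
    (PrimeSpectrum.vanishingIdeal (badSet A n c G d)).map (bcHom A B n c G) =
      ((badIdeal A n c G d).map (MvPolynomial.map (algebraMap A B))).map
        (Ideal.Quotient.mk (Ideal.span (Set.range
          (fun i => MvPolynomial.map (algebraMap A B) (G i))))) := by
  unfold badIdeal
  rw [Ideal.map_map, ← bcHom_comp_mk, ← Ideal.map_map,
    Ideal.map_comap_of_surjective _ Ideal.Quotient.mk_surjective]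

theorem preimage_badSet :
    (PrimeSpectrum.comap (bcHom A B n c G)) ⁻¹' (badSet A n c G d) =
      PrimeSpectrum.zeroLocus
        (((PrimeSpectrum.vanishingIdeal (badSet A n c G d)).map (bcHom A B n c G) : Ideal _) :
          Set (Synt.RelGCIRing B n c (fun i => MvPolynomial.map (algebraMap A B) (G i)))) := by
  conv_lhs => rw [← zeroLocus_vanishingIdeal_badSet A n c G d]
  rw [PrimeSpectrum.preimage_comap_zeroLocus]
  exact (PrimeSpectrum.zeroLocus_span _).symm

theorem ker_le_map_badIdeal :
    RingHom.ker (Ideal.Quotient.mk (Ideal.span (Set.range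
        (fun i => MvPolynomial.map (algebraMap A B) (G i))))) ≤
      (badIdeal A n c G d).map (MvPolynomial.map (algebraMap A B)) := by
  rw [Ideal.mk_ker, Ideal.span_le]
  rintro _ ⟨i, rfl⟩
  refine Ideal.mem_map_of_mem _ ?_
  unfold badIdeal
  rw [Ideal.mem_comap]
  have : Ideal.Quotient.mk (Ideal.span (Set.range G)) (G i) = 0 :=
    Ideal.Quotient.eq_zero_iff_mem.2 (Ideal.subset_span (Set.mem_range_self i))
  rw [this]
  exact Ideal.zero_mem _

theorem fibreDimAt_bc' (q : PrimeSpectrum
      (Synt.RelGCIRing B n c (fun i => MvPolynomial.map (algebraMap A B) (G i)))) :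
    FlatMor.fibreDimAt (Spec.map (CommRingCat.ofHom (algebraMap B
        (Synt.RelGCIRing B n c (fun i => MvPolynomial.map (algebraMap A B) (G i)))))) q =
      FlatMor.fibreDimAt (Spec.map (CommRingCat.ofHom (algebraMap A (Synt.RelGCIRing A n c G))))
        (PrimeSpectrum.comap (bcHom A B n c G) q) :=
  fibreDimAt_bc A B n c G q

set_option maxHeartbeats 1000000 in
theorem map_badIdeal_eq_top_iff :
    (badIdeal A n c G d).map (MvPolynomial.map (algebraMap A B)) = ⊤ ↔
      ∀ q : PrimeSpectrum
          (Synt.RelGCIRing B n c (fun i => MvPolynomial.map (algebraMap A B) (G i))),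
        FlatMor.fibreDimAt (Spec.map (CommRingCat.ofHom (algebraMap B
          (Synt.RelGCIRing B n c (fun i => MvPolynomial.map (algebraMap A B) (G i)))))) q ≤ d := by
  constructor
  · intro htop q
    rw [fibreDimAt_bc' A B n c G q]
    by_contra hcon
    have hmem : q ∈ (PrimeSpectrum.comap (bcHom A B n c G)) ⁻¹' (badSet A n c G d) := hcon
    rw [preimage_badSet, map_vanishingIdeal_bcHom, htop, Ideal.map_top,
      PrimeSpectrum.zeroLocus_empty_iff_eq_top.2 rfl] at hmem
    exact hmem
  · intro hall
    have hempty : (PrimeSpectrum.comap (bcHom A B n c G)) ⁻¹' (badSet A n c G d) = ∅ := by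
      rw [Set.eq_empty_iff_forall_notMem]
      intro q hq
      exact hq ((fibreDimAt_bc' A B n c G q) ▸ hall q)
    rw [preimage_badSet, PrimeSpectrum.zeroLocus_empty_iff_eq_top, map_vanishingIdeal_bcHom] at hempty
    have h1 := congrArg (Ideal.comap (Ideal.Quotient.mk (Ideal.span (Set.range
          (fun i => MvPolynomial.map (algebraMap A B) (G i)))))) hempty
    rw [Ideal.comap_map_of_surjective _ Ideal.Quotient.mk_surjective, Ideal.comap_top] at h1
    have h2 : Ideal.comap (Ideal.Quotient.mk (Ideal.span (Set.range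
          (fun i => MvPolynomial.map (algebraMap A B) (G i))))) ⊥ = RingHom.ker _ := rfl
    rw [h2, sup_eq_left.2 (ker_le_map_badIdeal A B n c G d)] at h1
    exact h1

end Groth.Agent.Helper5.RelGCI
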