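import Mathlib
import Groth.Agent.Helper5.RelGCI15
import Groth.Agent.Helper5.RelGCI5
import Groth.Agent.Helper5.ProdDim
import Groth.Agent.Helper5.SpecFib1

set_option autoImplicit false
set_option linter.style.haveILetI false
universe u
open CategoryTheory AlgebraicGeometry MvPolynomial TensorProduct

namespace Groth.Agent.Helper5.RelGCI

section general

variable (R S : Type u) [CommRing R] [CommRing S] [Algebra R S]

/-- the local fibre dimension is bounded by the dimension of the fibre ring -/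
theorem fibreDimAt_le_dim_fibre (s : PrimeSpectrum R) (q : PrimeSpectrum S)
    (hs : PrimeSpectrum.comap (algebraMap R S) q = s) :
    FlatMor.fibreDimAt (Spec.map (CommRingCat.ofHom (algebraMap R S))) q ≤
      ringKrullDim (s.asIdeal.Fiber S) := by
  subst hs
  set f := Spec.map (CommRingCat.ofHom (algebraMap R S)) with hf
  let s : PrimeSpectrum R := PrimeSpectrum.comap (algebraMap R S) q
  have h1 : FlatMor.fibreDimAt f q ≤ topologicalKrullDim ↥(f.fiber (f q)) :=
    Groth.Agent.Helper5.OverField.localDim_le_dim _ _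
  refine h1.trans (le_of_eq ?_)
  have h2 := IsHomeomorph.topologicalKrullDim_eq _
    (Scheme.homeoOfIso (Groth.Agent.Helper5.SpecFib.fiberIso R S s)).isHomeomorph
  rw [← PrimeSpectrum.topologicalKrullDim_eq_ringKrullDim]
  exact h2

/-- an ideal of `S` meeting no prime over `p` contains an element which is a unit of the fibre -/
theorem exists_mem_isUnit_fibre (p : Ideal R) [p.IsPrime] (I : Ideal S)
    (hI : ∀ q : PrimeSpectrum S, q.asIdeal.comap (algebraMap R S) = p → ¬ I ≤ q.asIdeal) :
    ∃ g ∈ I, IsUnit ((1 : p.ResidueField) ⊗ₜ[R] g : p.Fiber S) := by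
  let N : Ideal (p.Fiber S) :=
    { carrier := {x | ∃ r : R, r ∉ p ∧ ∃ g ∈ I, r • x = (1 : p.ResidueField) ⊗ₜ[R] g}
      zero_mem' := ⟨1, fun h1 => (inferInstance : p.IsPrime).ne_top ((Ideal.eq_top_iff_one _).2 h1),
        0, I.zero_mem, by rw [smul_zero, TensorProduct.tmul_zero]⟩
      add_mem' := by
        rintro x y ⟨r₁, hr₁, g₁, hg₁, h₁⟩ ⟨r₂, hr₂, g₂, hg₂, h₂⟩
        refine ⟨r₁ * r₂, fun hm => ((inferInstance : p.IsPrime).mem_or_mem hm).elim hr₁ hr₂,
          r₂ • g₁ + r₁ • g₂, I.add_mem (Submodule.smul_of_tower_mem I r₂ hg₁)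
            (Submodule.smul_of_tower_mem I r₁ hg₂), ?_⟩
        rw [smul_add, mul_comm r₁ r₂, mul_smul, h₁, mul_comm r₂ r₁, mul_smul, h₂,
          TensorProduct.tmul_add, TensorProduct.tmul_smul, TensorProduct.tmul_smul]
      smul_mem' := by
        rintro a x ⟨r, hr, g, hg, hx⟩
        obtain ⟨r', hr', s, hs⟩ := Ideal.Fiber.exists_smul_eq_one_tmul p a
        refine ⟨r' * r, fun hm => ((inferInstance : p.IsPrime).mem_or_mem hm).elim hr' hr,
          s * g, I.mul_mem_left s hg, ?_⟩
        rw [smul_eq_mul, ← smul_mul_smul_comm, hs, hx, Algebra.TensorProduct.tmul_mul_tmul,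
          mul_one] }
  have hmapN : I.map (Algebra.TensorProduct.includeRight (R := R) (A := p.ResidueField)
      (B := S)).toRingHom ≤ N := by
    rw [Ideal.map_le_iff_le_comap]
    intro g hg
    exact ⟨1, fun h1 => (inferInstance : p.IsPrime).ne_top ((Ideal.eq_top_iff_one _).2 h1),
      g, hg, by rw [one_smul]; rfl⟩
  have htop : I.map (Algebra.TensorProduct.includeRight (R := R) (A := p.ResidueField)
      (B := S)).toRingHom = ⊤ := by
    by_contra hne
    obtain ⟨M, hM, hle⟩ := Ideal.exists_le_maximal _ hne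
    haveI := hM.isPrime
    let q : PrimeSpectrum S := ⟨M.comap (Algebra.TensorProduct.includeRight (R := R)
      (A := p.ResidueField) (B := S)).toRingHom, Ideal.comap_isPrime _ _⟩
    have hq : q.asIdeal.comap (algebraMap R S) = p := by
      have h1 : p = M.under R := Ideal.LiesOver.over
      rw [h1]
      show Ideal.comap (algebraMap R S) (Ideal.comap _ M) = Ideal.comap (algebraMap R _) M
      rw [Ideal.comap_comap]
      congr 1
      ext r
      simp
    apply hI q hq
    intro g hg
    show (Algebra.TensorProduct.includeRight (R := R) (A := p.ResidueField) (B := S)) g ∈ M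
    exact hle (Ideal.mem_map_of_mem _ hg)
  have h1 : (1 : p.Fiber S) ∈ N := hmapN (htop ▸ Submodule.mem_top)
  obtain ⟨r, hr, g, hg, hrg⟩ := h1
  refine ⟨g, hg, ?_⟩
  rw [← hrg, ← Algebra.algebraMap_eq_smul_one, IsScalarTower.algebraMap_apply R p.ResidueField]
  apply IsUnit.map
  rw [isUnit_iff_ne_zero, ne_eq, Ideal.algebraMap_residueField_eq_zero]
  exact hr

end general

set_option maxHeartbeats 1000000 in
theorem s9173 (R : Type u) [CommRing R] (n c : ℕ) (F : Fin c → MvPolynomial (Fin n) R)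
    (p : Ideal R) [p.IsPrime]
    (hp : c ≤ n ∧ ringKrullDim (p.Fiber (Synt.RelGCIRing R n c F)) = ((n - c : ℕ) : WithBot ℕ∞)) :
    ∃ h : MvPolynomial (Fin n) R,
      IsUnit ((1 : p.ResidueField) ⊗ₜ[R] (Ideal.Quotient.mk (Ideal.span (Set.range F)) h) :
        p.Fiber (Synt.RelGCIRing R n c F)) ∧
      Synt.IsRelGCI R (n + 1) (c + 1)
        (Fin.snoc (fun i => rename Fin.castSucc (F i)) (rename Fin.castSucc h * X (Fin.last n) - 1)) ∧
      Nonempty (Localization.Away (Ideal.Quotient.mk (Ideal.span (Set.range F)) h) ≃ₐ[R]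
        Synt.RelGCIRing R (n + 1) (c + 1)
          (Fin.snoc (fun i => rename Fin.castSucc (F i)) (rename Fin.castSucc h * X (Fin.last n) - 1))) := by
  let d : WithBot ℕ∞ := ((n - c : ℕ) : WithBot ℕ∞)
  let I := PrimeSpectrum.vanishingIdeal (badSet R n c F d)
  have hZ := zeroLocus_vanishingIdeal_badSet R n c F d
  have hI : ∀ q : PrimeSpectrum (Synt.RelGCIRing R n c F),
      q.asIdeal.comap (algebraMap R (Synt.RelGCIRing R n c F)) = p → ¬ I ≤ q.asIdeal := by
    intro q hq hle
    have hqZ : q ∈ badSet R n c F d := by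
      rw [← hZ]
      exact hle
    apply hqZ
    have := fibreDimAt_le_dim_fibre R (Synt.RelGCIRing R n c F) ⟨p, inferInstance⟩ q
      (PrimeSpectrum.ext hq)
    rw [hp.2] at this
    exact this
  obtain ⟨g, hgI, hu⟩ := exists_mem_isUnit_fibre R (Synt.RelGCIRing R n c F) p I hI
  obtain ⟨h, rfl⟩ := Ideal.Quotient.mk_surjective g
  refine ⟨h, hu, isRelGCI_snoc R n c F h hp.1 ?_, ⟨snocEquiv R n c F h⟩⟩
  intro x hx
  by_contra hcon
  have hxZ : x ∈ badSet R n c F d := hcon
  rw [← hZ] at hxZ
  exact hx (hxZ hgI)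

end Groth.Agent.Helper5.RelGCI
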