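import Mathlib
import Groth.Agent.Helper5.RelGCI16

set_option autoImplicit false
set_option linter.style.haveILetI false
universe u
open MvPolynomial TensorProduct

namespace Groth.Agent.Helper5.LST

section basic

variable {R : Type u} [CommRing R] (p : Ideal R) [p.IsPrime]

/-- elements of the residue field are fractions -/
theorem exists_smul_eq_algebraMap (a : p.ResidueField) :
    ∃ r ∉ p, ∃ b : R, r • a = algebraMap R p.ResidueField b := by
  obtain ⟨r, hr, s, hs⟩ := Ideal.ResidueField.exists_smul_eq_tmul_one (S := R) p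
    ((1 : R) ⊗ₜ[R] a)
  refine ⟨r, hr, s, ?_⟩
  have := congrArg (TensorProduct.lid R p.ResidueField) hs
  rw [map_smul, TensorProduct.lid_tmul, TensorProduct.lid_tmul, one_smul] at this
  rw [this, Algebra.algebraMap_eq_smul_one]

/-- module version of clearing denominators -/
theorem exists_smul_eq_one_tmul_module (M : Type*) [AddCommGroup M] [Module R M]
    (x : p.ResidueField ⊗[R] M) : ∃ r ∉ p, ∃ m : M, r • x = (1 : p.ResidueField) ⊗ₜ[R] m := by
  have h1 : (1 : R) ∉ p := fun h => (inferInstance : p.IsPrime).ne_top ((Ideal.eq_top_iff_one _).2 h)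
  induction x using TensorProduct.induction_on with
  | zero => exact ⟨1, h1, 0, by rw [smul_zero, TensorProduct.tmul_zero]⟩
  | tmul a m =>
    obtain ⟨r, hr, b, hb⟩ := exists_smul_eq_algebraMap p a
    refine ⟨r, hr, b • m, ?_⟩
    rw [TensorProduct.smul_tmul', hb, Algebra.algebraMap_eq_smul_one, TensorProduct.smul_tmul]
  | add x y hx hy =>
    obtain ⟨r₁, hr₁, m₁, h₁⟩ := hx
    obtain ⟨r₂, hr₂, m₂, h₂⟩ := hy
    refine ⟨r₁ * r₂, fun hm => ((inferInstance : p.IsPrime).mem_or_mem hm).elim hr₁ hr₂,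
      r₂ • m₁ + r₁ • m₂, ?_⟩
    rw [smul_add, mul_comm r₁ r₂, mul_smul, h₁, mul_comm r₂ r₁, mul_smul, h₂,
      TensorProduct.tmul_add, TensorProduct.tmul_smul, TensorProduct.tmul_smul]

/-- clearing denominators in a polynomial over the residue field -/
theorem exists_smul_eq_map {σ : Type*} (z : MvPolynomial σ p.ResidueField) :
    ∃ r ∉ p, ∃ z₀ : MvPolynomial σ R, r • z = MvPolynomial.map (algebraMap R p.ResidueField) z₀ := by
  obtain ⟨r, hr, z₀, h⟩ := Ideal.Fiber.exists_smul_eq_one_tmul p (S := MvPolynomial σ R)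
    ((MvPolynomial.algebraTensorAlgEquiv R p.ResidueField).symm z)
  refine ⟨r, hr, z₀, ?_⟩
  have h2 := congrArg (MvPolynomial.algebraTensorAlgEquiv (σ := σ) R p.ResidueField) h
  rw [MvPolynomial.algebraTensorAlgEquiv_tmul, one_smul] at h2
  rw [← h2, ← algebraMap_smul p.ResidueField r, ← algebraMap_smul p.ResidueField r
    ((MvPolynomial.algebraTensorAlgEquiv R p.ResidueField).symm z), map_smul,
    AlgEquiv.apply_symm_apply]

/-- the kernel of the coefficientwise reduction -/
theorem map_eq_zero_iff {σ : Type*} (z : MvPolynomial σ R) :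
    MvPolynomial.map (algebraMap R p.ResidueField) z = 0 ↔
      z ∈ (p • ⊤ : Submodule R (MvPolynomial σ R)) := by
  rw [Ideal.smul_top_eq_map, Submodule.restrictScalars_mem, MvPolynomial.algebraMap_eq,
    ← RingHom.mem_ker, MvPolynomial.ker_map, Ideal.ker_algebraMap_residueField]

end basic

section fibunit

variable (R S : Type u) [CommRing R] [CommRing S] [Algebra R S] (p : Ideal R) [p.IsPrime]

/-- `g` lies in no prime of `S` over `p` -/
def FibUnit (g : S) : Prop :=
  ∀ q : Ideal S, q.IsPrime → q.comap (algebraMap R S) = p → g ∉ q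

variable {R S p}

theorem FibUnit.isUnit {g : S} (hg : FibUnit R S p g) :
    IsUnit ((1 : p.ResidueField) ⊗ₜ[R] g : p.Fiber S) := by
  obtain ⟨g', hg', hu⟩ := Groth.Agent.Helper5.RelGCI.exists_mem_isUnit_fibre R S p
    (Ideal.span {g}) (fun q hq hle => hg q.asIdeal q.isPrime hq
      (hle (Ideal.subset_span (Set.mem_singleton g))))
  obtain ⟨b, rfl⟩ := Ideal.mem_span_singleton'.1 hg'
  have : ((1 : p.ResidueField) ⊗ₜ[R] (b * g) : p.Fiber S) =
      ((1 : p.ResidueField) ⊗ₜ[R] b) * ((1 : p.ResidueField) ⊗ₜ[R] g) := by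
    rw [Algebra.TensorProduct.tmul_mul_tmul, one_mul]
  rw [this] at hu
  exact isUnit_of_mul_isUnit_right hu

theorem fibUnit_of_isUnit {g : S}
    (hu : IsUnit ((1 : p.ResidueField) ⊗ₜ[R] g : p.Fiber S)) : FibUnit R S p g := by
  intro q hq hqp hgq
  haveI := hq
  subst hqp
  obtain ⟨Q, hQ⟩ := Groth.Agent.Helper5.SpecFib.exists_over R S ⟨q, hq⟩
  have hmem : ((1 : (Ideal.comap (algebraMap R S) q).ResidueField) ⊗ₜ[R] g :
      (Ideal.comap (algebraMap R S) q).Fiber S) ∈ Q.asIdeal := by
    have : g ∈ Q.asIdeal.comap (Algebra.TensorProduct.includeRight (R := R)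
        (A := (Ideal.comap (algebraMap R S) q).ResidueField) (B := S)).toRingHom := by
      rw [hQ]; exact hgq
    exact this
  exact Q.isPrime.ne_top (Ideal.eq_top_of_isUnit_mem _ hmem hu)

theorem FibUnit.mul {g h : S} (hg : FibUnit R S p g) (hh : FibUnit R S p h) :
    FibUnit R S p (g * h) := by
  intro q hq hqp hm
  exact (hq.mem_or_mem hm).elim (hg q hq hqp) (hh q hq hqp)

end fibunit

end Groth.Agent.Helper5.LST
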