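import Mathlib
import Groth.Agent.Helper5.LST1

set_option autoImplicit false
set_option linter.style.haveILetI false
universe u
open MvPolynomial TensorProduct

namespace Groth.Agent.Helper5.LST

section nak

/-- Cayley--Hamilton form of Nakayama for a pair of submodules -/
theorem exists_kill {A : Type*} [CommRing A] {M : Type*} [AddCommGroup M] [Module A M]
    (N N' : Submodule A M) (hN : N.FG) (I : Ideal A) (s : A)
    (h : ∀ x ∈ N, s • x ∈ N' ⊔ I • N) :
    ∃ (a : A) (n : ℕ), a - s ^ n ∈ I ∧ ∀ x ∈ N, a • x ∈ N' := by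
  classical
  let Q := ↥N ⧸ (N'.comap N.subtype)
  haveI : Module.Finite A ↥N := Module.Finite.iff_fg.2 hN
  let f : Module.End A Q := algebraMap A (Module.End A Q) s
  have hf : LinearMap.range f ≤ I • (⊤ : Submodule A Q) := by
    rintro _ ⟨x, rfl⟩
    obtain ⟨⟨y, hy⟩, rfl⟩ := Submodule.Quotient.mk_surjective _ x
    obtain ⟨n', hn', z, hz, hsum⟩ := Submodule.mem_sup.1 (h y hy)
    have hzN : z ∈ N := Submodule.smul_le_right hz
    have hn'N : n' ∈ N := by
      have : n' = s • y - z := by rw [← hsum]; abel
      rw [this]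
      exact N.sub_mem (N.smul_mem s hy) hzN
    have h1 : f (Submodule.Quotient.mk ⟨y, hy⟩) =
        Submodule.Quotient.mk (p := N'.comap N.subtype) ⟨z, hzN⟩ := by
      show s • (Submodule.Quotient.mk ⟨y, hy⟩ : Q) = _
      rw [← Submodule.Quotient.mk_smul, Submodule.Quotient.eq]
      show N.subtype (s • ⟨y, hy⟩ - ⟨z, hzN⟩) ∈ N'
      have : N.subtype (s • ⟨y, hy⟩ - ⟨z, hzN⟩) = n' := by
        simp only [Submodule.subtype_apply, Submodule.coe_sub, Submodule.coe_smul]
        rw [← hsum]; abel
      rw [this]; exact hn'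
    rw [h1]
    have h2 : (⟨z, hzN⟩ : ↥N) ∈ I • (⊤ : Submodule A ↥N) :=
      (Submodule.mem_smul_top_iff I N ⟨z, hzN⟩).2 hz
    have h3 : Submodule.map (Submodule.mkQ (N'.comap N.subtype)) (I • (⊤ : Submodule A ↥N)) ≤
        I • (⊤ : Submodule A Q) := by
      rw [Submodule.map_smul'']
      exact smul_mono_right _ le_top
    exact h3 (Submodule.mem_map_of_mem h2)
  obtain ⟨χ, hmonic, -, hcoeff, hχ⟩ :=
    LinearMap.exists_monic_and_natDegree_eq_and_coeff_mem_pow_and_aeval_eq_zero A f I hf
  refine ⟨χ.eval s, χ.natDegree, ?_, ?_⟩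
  · rw [Polynomial.eval_eq_sum_range, Finset.sum_range_succ, hmonic.coeff_natDegree, one_mul,
      add_sub_cancel_right]
    refine Ideal.sum_mem _ fun i hi => ?_
    apply Ideal.mul_mem_right
    have hlt : i < χ.natDegree := Finset.mem_range.1 hi
    exact Ideal.pow_le_self (by omega) (hcoeff i)
  · intro x hx
    have h1 : Polynomial.aeval f χ = algebraMap A (Module.End A Q) (χ.eval s) := by
      show Polynomial.aeval (algebraMap A (Module.End A Q) s) χ = _
      rw [Polynomial.aeval_algebraMap_apply, Polynomial.coe_aeval_eq_eval]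
    rw [h1] at hχ
    have h2 := congrArg (fun g : Module.End A Q => g (Submodule.Quotient.mk ⟨x, hx⟩)) hχ
    simp only [LinearMap.zero_apply] at h2
    have h3 : (χ.eval s) • (Submodule.Quotient.mk ⟨x, hx⟩ : Q) = 0 := h2
    rw [← Submodule.Quotient.mk_smul, Submodule.Quotient.mk_eq_zero] at h3
    exact h3

end nak

section away

variable (R : Type*) [CommRing R] {A B : Type*} [CommRing A] [CommRing B] [Algebra R A]
  [Algebra R B]

/-- localizing a surjection whose kernel is killed by `h` gives an isomorphism -/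
theorem awayEquiv (φ : A →ₐ[R] B) (hφ : Function.Surjective φ) (h : A)
    (hk : ∀ x, φ x = 0 → h * x = 0) :
    Nonempty (Localization.Away h ≃ₐ[R] Localization.Away (φ h)) := by
  let ψ' : Localization.Away h →ₐ[R] Localization.Away (φ h) :=
    IsLocalization.Away.mapₐ (Localization.Away h) (Localization.Away (φ h)) φ h
  have hinj : Function.Injective ψ' := by
    show Function.Injective (IsLocalization.Away.map (Localization.Away h)
      (Localization.Away (φ h)) φ.toRingHom h)
    rw [IsLocalization.Away.map_injective_iff]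
    intro a ha
    exact ⟨1, by rw [pow_one]; exact hk a ha⟩
  have hsurj : Function.Surjective ψ' :=
    IsLocalization.Away.mapₐ_surjective_of_surjective h hφ
  exact ⟨AlgEquiv.ofBijective ψ' ⟨hinj, hsurj⟩⟩

end away

section fibre

variable {R S : Type u} [CommRing R] [CommRing S] [Algebra R S] (p : Ideal R) [p.IsPrime]

/-- localizing at a fibre unit does not change the fibre -/
theorem ringKrullDim_fibre_away (g : S)
    (hg : IsUnit ((1 : p.ResidueField) ⊗ₜ[R] g : p.Fiber S)) :
    ringKrullDim (p.Fiber (Localization.Away g)) = ringKrullDim (p.Fiber S) := by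
  let e1 := IsLocalization.Away.tensorProductEquivTMulRight R p.ResidueField g
    (Localization.Away g)
  have H : Submonoid.powers ((1 : p.ResidueField) ⊗ₜ[R] g : p.Fiber S) ≤
      IsUnit.submonoid (p.Fiber S) := by
    rw [Submonoid.powers_le]; exact hg
  let e2 := IsLocalization.atUnits (p.Fiber S)
    (Submonoid.powers ((1 : p.ResidueField) ⊗ₜ[R] g : p.Fiber S))
    (S := Localization.Away ((1 : p.ResidueField) ⊗ₜ[R] g : p.Fiber S)) H
  exact (ringKrullDim_eq_of_ringEquiv e1.toRingEquiv).trans
    (ringKrullDim_eq_of_ringEquiv e2.toRingEquiv).symm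

end fibre

end Groth.Agent.Helper5.LST
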