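import Mathlib
import Groth.Agent.Helper5.LST3

set_option autoImplicit false
set_option linter.style.haveILetI false
set_option linter.unusedSectionVars false
universe u
open MvPolynomial TensorProduct

namespace Groth.Agent.Helper5.LST

section good

variable (R S : Type u) [CommRing R] [CommRing S] [Algebra R S] (p : Ideal R) [p.IsPrime]

/-- `S` is, near the fibre over `p`, a relative global complete intersection -/
def Good : Prop :=
  ∃ g : S, FibUnit R S p g ∧ ∃ (n c : ℕ) (F : Fin c → MvPolynomial (Fin n) R),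
    Synt.IsRelGCI R n c F ∧ Nonempty (Localization.Away g ≃ₐ[R] Synt.RelGCIRing R n c F)

variable {R S p}

theorem Good.of_algEquiv {S' : Type u} [CommRing S'] [Algebra R S'] (e : S ≃ₐ[R] S')
    (h : Good R S p) : Good R S' p := by
  obtain ⟨g, hg, n, c, F, hF, ⟨ε⟩⟩ := h
  refine ⟨e g, ?_, n, c, F, hF, ?_⟩
  · intro q hq hqp hm
    haveI := hq
    refine hg (q.comap (e : S →+* S')) (Ideal.comap_isPrime _ _) ?_ hm
    rw [Ideal.comap_comap, ← hqp]
    congr 1
    ext r
    simp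
  · obtain ⟨ε'⟩ := awayEquiv R (e : S →ₐ[R] S') e.surjective g (fun x hx => by
      have : x = 0 := e.injective (by rw [map_zero]; exact hx)
      rw [this, mul_zero])
    exact ⟨ε'.symm.trans ε⟩

/-- a double localization is a localization -/
theorem away_aux (g₁ : S) (g₂ : Localization.Away g₁) :
    ∃ a : S, (∀ q : Ideal S, q.IsPrime → g₁ ∉ q →
        ∃ q₁ : Ideal (Localization.Away g₁), q₁.IsPrime ∧
          q₁.comap (algebraMap S (Localization.Away g₁)) = q ∧ (g₂ ∉ q₁ → a ∉ q)) ∧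
      Nonempty (Localization.Away (g₁ * a) ≃ₐ[R] Localization.Away g₂) := by
  obtain ⟨k, a, hka⟩ := IsLocalization.Away.surj g₁ g₂
  have hunit : IsUnit (algebraMap S (Localization.Away g₁) g₁ ^ k) :=
    (IsLocalization.Away.algebraMap_isUnit g₁).pow k
  refine ⟨a, ?_, ?_⟩
  · intro q hq hg₁
    haveI := hq
    have hdisj : Disjoint (Submonoid.powers g₁ : Set S) (q : Set S) := by
      rw [Set.disjoint_left]
      rintro _ ⟨j, rfl⟩ hmem
      exact hg₁ (hq.mem_of_pow_mem j hmem)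
    have hq₁ : (q.map (algebraMap S (Localization.Away g₁))).IsPrime :=
      IsLocalization.isPrime_of_isPrime_disjoint (Submonoid.powers g₁) _ q hq hdisj
    have hcomap : (q.map (algebraMap S (Localization.Away g₁))).comap
        (algebraMap S (Localization.Away g₁)) = q :=
      IsLocalization.under_map_of_isPrime_disjoint (Submonoid.powers g₁) _ hq hdisj
    refine ⟨_, hq₁, hcomap, fun hg₂ haq => hg₂ ?_⟩
    have h1 : algebraMap S (Localization.Away g₁) a ∈ q.map (algebraMap S (Localization.Away g₁)) :=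
      Ideal.mem_map_of_mem _ haq
    rw [← hka] at h1
    rcases hq₁.mem_or_mem h1 with h2 | h2
    · exact h2
    · exact absurd (Ideal.eq_top_of_isUnit_mem _ h2 hunit) hq₁.ne_top
  · haveI : IsLocalization.Away (g₁ * a) (Localization.Away g₂) := by
      apply IsLocalization.Away.mul_of_associated g₁ a g₂
      exact ⟨hunit.unit⁻¹, by
        rw [← hka, mul_assoc, IsUnit.mul_val_inv, mul_one]⟩
    let ε₁ : Localization.Away (g₁ * a) ≃ₐ[S] Localization.Away g₂ :=
      IsLocalization.algEquiv (Submonoid.powers (g₁ * a)) _ _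
    exact ⟨ε₁.restrictScalars R⟩

theorem Good.of_away (g₁ : S) (hg₁ : FibUnit R S p g₁)
    (h : Good R (Localization.Away g₁) p) : Good R S p := by
  obtain ⟨g₂, hg₂, n, c, F, hF, ⟨ε⟩⟩ := h
  obtain ⟨a, ha, ⟨ε₁⟩⟩ := away_aux (R := R) g₁ g₂
  refine ⟨g₁ * a, hg₁.mul ?_, n, c, F, hF, ⟨ε₁.trans ε⟩⟩
  intro q hq hqp
  obtain ⟨q₁, hq₁, hcomap, himp⟩ := ha q hq (hg₁ q hq hqp)
  apply himp
  apply hg₂ q₁ hq₁
  rw [IsScalarTower.algebraMap_eq R S (Localization.Away g₁), ← Ideal.comap_comap, hcomap, hqp]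

theorem Good.exists_of_away (g₁ : S) (q : Ideal S) [hq : q.IsPrime]
    (hqp : q.comap (algebraMap R S) = p) (hg₁ : g₁ ∉ q)
    (h : Good R (Localization.Away g₁) p) :
    ∃ g : S, g ∉ q ∧ ∃ (n c : ℕ) (F : Fin c → MvPolynomial (Fin n) R),
      Synt.IsRelGCI R n c F ∧ Nonempty (Localization.Away g ≃ₐ[R] Synt.RelGCIRing R n c F) := by
  obtain ⟨g₂, hg₂, n, c, F, hF, ⟨ε⟩⟩ := h
  obtain ⟨a, ha, ⟨ε₁⟩⟩ := away_aux (R := R) g₁ g₂
  refine ⟨g₁ * a, ?_, n, c, F, hF, ⟨ε₁.trans ε⟩⟩
  obtain ⟨q₁, hq₁, hcomap, himp⟩ := ha q hq hg₁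
  have haq : a ∉ q := by
    apply himp
    apply hg₂ q₁ hq₁
    rw [IsScalarTower.algebraMap_eq R S (Localization.Away g₁), ← Ideal.comap_comap, hcomap, hqp]
  intro hm
  exact (hq.mem_or_mem hm).elim hg₁ haq

end good

end Groth.Agent.Helper5.LST
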