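import Mathlib
import Groth.Agent.Helper5.LST4
import Groth.Agent.Helper5.LST2

set_option autoImplicit false
set_option linter.style.haveILetI false
set_option linter.unusedSectionVars false
universe u
open MvPolynomial TensorProduct

namespace Groth.Agent.Helper5.LST

section common

variable {R : Type*} [CommRing R] (p : Ideal R) [p.IsPrime]

/-- common denominators -/
theorem exists_common {ι : Type*} [Fintype ι] (Q : ι → R → Prop)
    (hQ : ∀ i r r', Q i r → Q i (r' * r)) (h : ∀ i, ∃ r, r ∉ p ∧ Q i r) :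
    ∃ r, r ∉ p ∧ ∀ i, Q i r := by
  classical
  choose r hr hQr using h
  refine ⟨∏ i, r i, ?_, fun i => ?_⟩
  · intro hm
    obtain ⟨i, -, hi⟩ := Ideal.IsPrime.prod_mem_iff.1 hm
    exact hr i hi
  · rw [← Finset.prod_erase_mul _ _ (Finset.mem_univ i)]
    exact hQ i _ _ (hQr i)

end common

section pres

variable {R S : Type u} [CommRing R] [CommRing S] [Algebra R S] (p : Ideal R) [p.IsPrime]
  {N : ℕ} (gen : Fin N → S)

/-- compatibility of a presentation with its fibre -/
theorem psi_map (z : MvPolynomial (Fin N) R) :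
    (aeval (fun i => (1 : p.ResidueField) ⊗ₜ[R] gen i) :
        MvPolynomial (Fin N) p.ResidueField →ₐ[p.ResidueField] p.Fiber S)
      (MvPolynomial.map (algebraMap R p.ResidueField) z) =
      (1 : p.ResidueField) ⊗ₜ[R] (aeval gen z) := by
  induction z using MvPolynomial.induction_on with
  | C a =>
    rw [MvPolynomial.map_C, aeval_C, aeval_C, Algebra.TensorProduct.algebraMap_apply,
      Algebra.algebraMap_self, RingHom.id_apply, Algebra.algebraMap_eq_smul_one (A := S),
      TensorProduct.tmul_smul, Algebra.algebraMap_eq_smul_one, TensorProduct.smul_tmul']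
  | add x y hx hy => rw [map_add, map_add, hx, hy, map_add, TensorProduct.tmul_add]
  | mul_X x i hx =>
    rw [map_mul, map_mul, hx, MvPolynomial.map_X, aeval_X, map_mul, aeval_X,
      Algebra.TensorProduct.tmul_mul_tmul, one_mul]

/-- elements of the kernel of the fibre presentation lift, up to a unit, to the kernel -/
theorem exists_lift_ker
    (hπ : Function.Surjective (aeval gen : MvPolynomial (Fin N) R →ₐ[R] S))
    (z : MvPolynomial (Fin N) p.ResidueField)
    (hz : (aeval (fun i => (1 : p.ResidueField) ⊗ₜ[R] gen i) :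
        MvPolynomial (Fin N) p.ResidueField →ₐ[p.ResidueField] p.Fiber S) z = 0) :
    ∃ r, r ∉ p ∧ ∃ k : MvPolynomial (Fin N) R, aeval gen k = 0 ∧
      r • z = MvPolynomial.map (algebraMap R p.ResidueField) k := by
  obtain ⟨r₁, hr₁, z₀, h₁⟩ := exists_smul_eq_map p z
  have h0 : (1 : p.ResidueField) ⊗ₜ[R] (aeval gen z₀) = (0 : p.Fiber S) := by
    rw [← psi_map, ← h₁, ← algebraMap_smul p.ResidueField r₁ z, map_smul, hz, smul_zero]
  let πl : MvPolynomial (Fin N) R →ₗ[R] S := (aeval gen : MvPolynomial (Fin N) R →ₐ[R] S).toLinearMap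
  have hex := lTensor_exact p.ResidueField (LinearMap.exact_subtype_ker_map πl) hπ
  have h0' : (πl.lTensor p.ResidueField) ((1 : p.ResidueField) ⊗ₜ[R] z₀) = 0 := by
    rw [LinearMap.lTensor_tmul]; exact h0
  obtain ⟨y, hy⟩ := (hex _).1 h0'
  obtain ⟨r₂, hr₂, k, hk⟩ := exists_smul_eq_one_tmul_module p _ y
  refine ⟨r₂ * r₁, fun hm => ((inferInstance : p.IsPrime).mem_or_mem hm).elim hr₂ hr₁,
    (k : MvPolynomial (Fin N) R), k.2, ?_⟩
  have h2 : r₂ • ((1 : p.ResidueField) ⊗ₜ[R] z₀ : p.ResidueField ⊗[R] MvPolynomial (Fin N) R) =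
      (1 : p.ResidueField) ⊗ₜ[R] (k : MvPolynomial (Fin N) R) := by
    rw [← hy, ← map_smul, hk, LinearMap.lTensor_tmul]
    rfl
  have h3 := congrArg (MvPolynomial.algebraTensorAlgEquiv (σ := Fin N) R p.ResidueField) h2
  rw [← algebraMap_smul p.ResidueField r₂, map_smul, MvPolynomial.algebraTensorAlgEquiv_tmul,
    MvPolynomial.algebraTensorAlgEquiv_tmul, one_smul, one_smul, algebraMap_smul] at h3
  rw [mul_smul, h₁, h3]

end pres

section kill

variable {R P S : Type*} [CommRing R] [CommRing P] [CommRing S] [Algebra R P] [Algebra R S]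
  [Module.Flat R S]

theorem exists_kill_ker (π : P →ₐ[R] S) (hπ : Function.Surjective π)
    (hK : (RingHom.ker π.toRingHom).FG) (p : Ideal R) [p.IsPrime] {C : ℕ} (G : Fin C → P)
    (H : ∀ k : P, π k = 0 → ∃ s, s ∉ p ∧ ∃ d : Fin C → P, ∃ e : P, π e = 0 ∧
        e ∈ (p • ⊤ : Submodule R P) ∧ s • k = ∑ i, d i * G i + e) :
    ∃ s, s ∉ p ∧ ∃ (n : ℕ) (h : P), h - (algebraMap R P s) ^ n ∈ p.map (algebraMap R P) ∧
      ∀ k : P, π k = 0 → h * k ∈ Ideal.span (Set.range G) := by
  classical
  set I := p.map (algebraMap R P) with hI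
  set K := RingHom.ker π.toRingHom with hKdef
  set K' := Ideal.span (Set.range G) with hK'
  -- step 1
  have step1 : ∀ k : P, π k = 0 → ∃ s, s ∉ p ∧ algebraMap R P s * k ∈ K' ⊔ I * K := by
    intro k hk
    obtain ⟨s, hs, d, e, he0, hep, hsum⟩ := H k hk
    refine ⟨s, hs, ?_⟩
    rw [← Algebra.smul_def, hsum]
    refine Ideal.add_mem _ (Ideal.mem_sup_left ?_) (Ideal.mem_sup_right ?_)
    · exact Ideal.sum_mem _ fun i _ => Ideal.mul_mem_left _ _ (Ideal.subset_span ⟨i, rfl⟩)
    · have hmem : e ∈ LinearMap.ker π.toLinearMap ⊓ (p • ⊤ : Submodule R P) := ⟨he0, hep⟩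
      rw [LinearMap.ker_inf_smul_top_eq_smul_of_flat p π.toLinearMap hπ] at hmem
      have hle : p • LinearMap.ker π.toLinearMap ≤ (I * K).restrictScalars R := by
        rw [Submodule.smul_le]
        intro r hr x hx
        show r • x ∈ I * K
        rw [Algebra.smul_def]
        exact Ideal.mul_mem_mul (Ideal.mem_map_of_mem _ hr) hx
      exact hle hmem
  -- step 2
  obtain ⟨t, ht⟩ := hK
  have step2 : ∃ s, s ∉ p ∧ ∀ x : (t : Set P), algebraMap R P s * x.1 ∈ K' ⊔ I * K := by
    apply exists_common p (fun (x : (t : Set P)) s => algebraMap R P s * x.1 ∈ K' ⊔ I * K)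
    · intro x r r' hr
      show algebraMap R P (r' * r) * x.1 ∈ K' ⊔ I * K
      rw [map_mul, mul_assoc]
      exact Ideal.mul_mem_left _ _ hr
    · intro x
      apply step1
      have : x.1 ∈ K := by rw [← ht]; exact Ideal.subset_span x.2
      exact this
  obtain ⟨s, hs, hst⟩ := step2
  have step3 : ∀ x ∈ K, algebraMap R P s • x ∈ K' ⊔ I • K := by
    intro x hx
    rw [← ht] at hx
    rw [smul_eq_mul, smul_eq_mul]
    induction hx using Submodule.span_induction with
    | mem y hy => exact hst ⟨y, hy⟩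
    | zero => rw [mul_zero]; exact Ideal.zero_mem _
    | add y z _ _ hy hz => rw [mul_add]; exact Ideal.add_mem _ hy hz
    | smul a y _ hy =>
      rw [smul_eq_mul, mul_left_comm]
      exact Ideal.mul_mem_left _ _ hy
  have hKfg : (K : Submodule P P).FG := ⟨t, ht⟩
  obtain ⟨a, n, han, hkill⟩ := exists_kill (K : Submodule P P) K' hKfg I (algebraMap R P s) step3
  exact ⟨s, hs, n, a, han, fun k hk => hkill k hk⟩

end kill

end Groth.Agent.Helper5.LST
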