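import Mathlib
import Groth.Prelude
import Groth.Agent.Helper5.LscDim3
import Groth.Agent.Helper5.CompFib2
import Groth.Agent.Helper5.RelDim1
import Groth.Agent.Helper5.EtLoc1
import Groth.Agent.Helper4.SchLQF

set_option autoImplicit false
set_option linter.unusedSectionVars false
set_option linter.style.haveILetI false
universe u

open AlgebraicGeometry CategoryTheory CategoryTheory.Limits TopologicalSpace MvPolynomial

namespace Groth.Agent.Helper5.SmRelDim

/-- precomposition with a flat locally quasi-finite morphism does not change the local fibre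
dimension -/
theorem fibreDimAt_precomp {T X Y : Scheme.{u}} (j : T ⟶ X) (f : X ⟶ Y) [Flat j]
    [LocallyOfFiniteType j] [LocallyQuasiFinite j] [LocallyOfFiniteType f] (w : T) :
    FlatMor.fibreDimAt (j ≫ f) w = FlatMor.fibreDimAt f (j w) := by
  rw [(Groth.Agent.Helper5.CompFib.fibreDimAt_comp j f w).2 (Flat.stalkMap j w),
    Groth.Agent.Helper5.RelDim.fibreDimAt_eq_zero_of_lqf, zero_add]

/-- the fibres of `Spec R[T_1..T_n] → Spec R` have dimension `n` everywhere -/
theorem fibreDimAt_SpecMap_C (R : CommRingCat.{u}) (n : ℕ)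
    (a : ↥(Spec (.of (MvPolynomial (Fin n) R)))) :
    FlatMor.fibreDimAt (Spec.map (CommRingCat.ofHom (C : R →+* MvPolynomial (Fin n) R))) a =
      (n : WithBot ℕ∞) := by
  let ε : MvPolynomial (ULift.{u} (Fin n)) R ≃ₐ[R] MvPolynomial (Fin n) R :=
    MvPolynomial.renameEquiv R Equiv.ulift
  let ρ₁ : Spec (.of (MvPolynomial (Fin n) R)) ⟶ Spec (.of (MvPolynomial (ULift.{u} (Fin n)) R)) :=
    Spec.map (CommRingCat.ofHom ε.toRingEquiv.toRingHom)
  haveI : IsIso ρ₁ := by
    have : IsIso (CommRingCat.ofHom ε.toRingEquiv.toRingHom) :=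
      (ε.toRingEquiv.toCommRingCatIso).isIso_hom
    infer_instance
  let ρ : Spec (.of (MvPolynomial (Fin n) R)) ⟶ 𝔸(ULift.{u} (Fin n); Spec R) :=
    ρ₁ ≫ (AffineSpace.SpecIso (ULift.{u} (Fin n)) R).inv
  have hρ : ρ ≫ (𝔸(ULift.{u} (Fin n); Spec R) ↘ Spec R) =
      Spec.map (CommRingCat.ofHom (C : R →+* MvPolynomial (Fin n) R)) := by
    show (ρ₁ ≫ _) ≫ _ = _
    rw [Category.assoc, AffineSpace.SpecIso_inv_over, ← Spec.map_comp]
    congr 1
    apply CommRingCat.hom_ext
    apply RingHom.ext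
    intro r
    exact ε.commutes r
  rw [← hρ, fibreDimAt_precomp]
  exact (Groth.Agent.Helper5.LscDim.fibreDimAt_affineSpace (ULift.{u} (Fin n)) (Spec R)
    (ρ a)).trans (by simp)

theorem s2768 (n : ℕ) {X Y : Scheme.{u}} (f : X ⟶ Y) [SmoothOfRelativeDimension n f] (x : X) :
    FlatMor.fibreDimAt f x = (n : WithBot ℕ∞) := by
  haveI : Smooth f := SmoothOfRelativeDimension.smooth n f
  obtain ⟨U, hU, V, hV, hxV, e, hφ⟩ :=
    SmoothOfRelativeDimension.exists_isStandardSmoothOfRelativeDimension (n := n) (f := f) x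
  obtain ⟨g, hgC, hg⟩ := hφ.exists_etale_mvPolynomial
  obtain ⟨q, rfl⟩ : ∃ q, hV.fromSpec q = x := by
    have : x ∈ Set.range hV.fromSpec := by rw [hV.range_fromSpec]; exact hxV
    exact this
  rw [← fibreDimAt_precomp hV.fromSpec f q, ← IsAffineOpen.SpecMap_appLE_fromSpec f hU hV e,
    Groth.Agent.Helper5.EtLoc.fibreDimAt_comp_lqf]
  have h1 : Spec.map (f.appLE U V e) =
      Spec.map (CommRingCat.ofHom g) ≫ Spec.map (CommRingCat.ofHom C) := by
    rw [← Spec.map_comp]
    congr 1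
    apply CommRingCat.hom_ext
    exact hgC.symm
  rw [h1]
  haveI : Etale (Spec.map (CommRingCat.ofHom g)) :=
    (HasRingHomProperty.Spec_iff (P := @Etale)).2 hg
  haveI : LocallyQuasiFinite (Spec.map (CommRingCat.ofHom g)) :=
    Groth.Agent.Helper4.SchLQF.locallyQuasiFinite_of_etale _
  haveI : LocallyOfFiniteType (Spec.map (CommRingCat.ofHom
      (C : Γ(Y, U) →+* MvPolynomial (Fin n) Γ(Y, U)))) := by
    rw [HasRingHomProperty.Spec_iff (P := @LocallyOfFiniteType)]
    show (algebraMap Γ(Y, U) (MvPolynomial (Fin n) Γ(Y, U))).FiniteType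
    exact RingHom.finiteType_algebraMap.2 inferInstance
  rw [fibreDimAt_precomp]
  exact fibreDimAt_SpecMap_C Γ(Y, U) n _

end Groth.Agent.Helper5.SmRelDim
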