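import Mathlib
import Groth.Prelude.Def_CAlg
import Groth.Agent.Helper3.SuppBC

set_option autoImplicit false
universe u

namespace Groth.Agent.Helper5.RSD

open IsLocalRing

section D1

variable {A : Type u} [CommRing A] (M : Type u) [AddCommGroup M] [Module A M] [Module.Finite A M]
  (p : Ideal A) [hp : p.IsPrime]

theorem mem_support_localized_iff (q' : PrimeSpectrum (Localization.AtPrime p)) :
    q' ∈ Module.support (Localization.AtPrime p) (LocalizedModule p.primeCompl M) ↔
      q'.comap (algebraMap A (Localization.AtPrime p)) ∈ Module.support A M := by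
  rw [(LocalizedModule.equivTensorProduct p.primeCompl M).support_eq]
  exact Groth.Agent.Helper3.SuppBC.mem_support_baseChange_iff q'

theorem supportDim_localized_eq_height (hpM : (⟨p, hp⟩ : PrimeSpectrum A) ∈ Module.support A M) :
    Module.supportDim (Localization.AtPrime p) (LocalizedModule p.primeCompl M) =
      ((Order.height (⟨⟨p, hp⟩, hpM⟩ : Module.support A M) : ℕ∞) : WithBot ℕ∞) := by
  set P : Module.support A M := ⟨⟨p, hp⟩, hpM⟩ with hP
  rw [Order.height_eq_krullDim_Iic]
  unfold Module.supportDim
  apply le_antisymm
  · refine Order.krullDim_le_of_strictMono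
      (fun q => (⟨⟨PrimeSpectrum.comap (algebraMap A (Localization.AtPrime p)) q.1,
        (mem_support_localized_iff M p q.1).mp q.2⟩, ?_⟩ : Set.Iic P)) ?_
    · show q.1.asIdeal.comap (algebraMap A (Localization.AtPrime p)) ≤ p
      have h1 : q.1.asIdeal ≤ maximalIdeal (Localization.AtPrime p) :=
        le_maximalIdeal q.1.2.ne_top
      have h2 := Ideal.comap_mono (f := algebraMap A (Localization.AtPrime p)) h1
      have h3 : Ideal.comap (algebraMap A (Localization.AtPrime p))
          (maximalIdeal (Localization.AtPrime p)) = p :=
        IsLocalization.AtPrime.under_maximalIdeal (Localization.AtPrime p) p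
      rwa [h3] at h2
    · intro a b hab
      have hab' : a.1.asIdeal < b.1.asIdeal := hab
      show a.1.asIdeal.comap (algebraMap A (Localization.AtPrime p)) <
        b.1.asIdeal.comap (algebraMap A (Localization.AtPrime p))
      rw [lt_iff_le_not_ge] at hab' ⊢
      constructor
      · exact Ideal.comap_mono hab'.1
      · intro h
        exact hab'.2 ((IsLocalization.under_le_under_iff p.primeCompl
          (Localization.AtPrime p)).mp h)
  · have hdisj : ∀ x : Set.Iic P, Disjoint (p.primeCompl : Set A) (x.1.1.asIdeal : Set A) := by
      intro x
      have hle : x.1.1.asIdeal ≤ p := x.2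
      rw [Set.disjoint_left]
      intro a ha hax
      exact ha (hle hax)
    have hcm : ∀ x : Set.Iic P, (Ideal.map (algebraMap A (Localization.AtPrime p))
        x.1.1.asIdeal).under A = x.1.1.asIdeal := fun x =>
      IsLocalization.under_map_of_isPrime_disjoint p.primeCompl (Localization.AtPrime p)
        x.1.1.2 (hdisj x)
    refine Order.krullDim_le_of_strictMono
      (fun x => (⟨⟨Ideal.map (algebraMap A (Localization.AtPrime p)) x.1.1.asIdeal,
        IsLocalization.isPrime_of_isPrime_disjoint p.primeCompl (Localization.AtPrime p) _
          x.1.1.2 (hdisj x)⟩, ?_⟩ :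
        Module.support (Localization.AtPrime p) (LocalizedModule p.primeCompl M))) ?_
    · rw [mem_support_localized_iff]
      have : PrimeSpectrum.comap (algebraMap A (Localization.AtPrime p))
          ⟨Ideal.map (algebraMap A (Localization.AtPrime p)) x.1.1.asIdeal,
            IsLocalization.isPrime_of_isPrime_disjoint p.primeCompl (Localization.AtPrime p) _
              x.1.1.2 (hdisj x)⟩ = x.1.1 := by
        ext1
        exact hcm x
      rw [this]
      exact x.1.2
    · intro a b hab
      have hab' : a.1.1.asIdeal < b.1.1.asIdeal := hab
      show Ideal.map (algebraMap A (Localization.AtPrime p)) a.1.1.asIdeal <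
        Ideal.map (algebraMap A (Localization.AtPrime p)) b.1.1.asIdeal
      rw [lt_iff_le_not_ge] at hab' ⊢
      constructor
      · exact Ideal.map_mono hab'.1
      · intro h
        apply hab'.2
        have := Ideal.comap_mono (f := algebraMap A (Localization.AtPrime p)) h
        have e1 := hcm a
        have e2 := hcm b
        rw [Ideal.under_def] at e1 e2
        rwa [e1, e2] at this

theorem supportDim_localized_eq_bot (hpM : (⟨p, hp⟩ : PrimeSpectrum A) ∉ Module.support A M) :
    Module.supportDim (Localization.AtPrime p) (LocalizedModule p.primeCompl M) = ⊥ := by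
  rw [Module.supportDim_eq_bot_iff_subsingleton]
  rw [Module.notMem_support_iff] at hpM
  exact hpM

end D1

end Groth.Agent.Helper5.RSD
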