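import Groth.Agent.Helper5.FtDim4

set_option autoImplicit false
universe u

namespace Groth.Agent.Helper5.FtDim

/-- The dimension of a finite type domain over a field is the transcendence degree of its
fraction field. -/
theorem dim_eq_trdeg (k A K : Type u) [Field k] [CommRing A] [IsDomain A] [Algebra k A]
    [Algebra.FiniteType k A] [Field K] [Algebra A K] [IsFractionRing A K] [Algebra k K]
    [IsScalarTower k A K] :
    ∃ n : ℕ, ringKrullDim A = n ∧ Algebra.trdeg k K = n := by
  obtain ⟨d, g, hinj, hfin⟩ := exists_finite_inj_algHom_of_fg k A
  have hint : g.toRingHom.IsIntegral := RingHom.IsIntegral.of_finite hfin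
  refine ⟨d, ?_, ?_⟩
  · rw [Groth.Agent.Helper2.Dim.dim_eq_of_integral_injective g.toRingHom hint hinj,
      Groth.Agent.Helper5.DimBC.dim_mvPolynomial]
  · let P := MvPolynomial (Fin d) k
    let algPA : Algebra P A := g.toRingHom.toAlgebra
    let algPK : Algebra P K := ((algebraMap A K).comp g.toRingHom).toAlgebra
    have st1 : IsScalarTower P A K := IsScalarTower.of_algebraMap_eq (fun _ => rfl)
    have st2 : IsScalarTower k P A := IsScalarTower.of_algebraMap_eq (fun x => (g.commutes x).symm)
    have st3 : IsScalarTower k P K := IsScalarTower.of_algebraMap_eq (fun x => by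
      show algebraMap k K x = algebraMap A K (g (algebraMap k P x))
      rw [g.commutes, ← IsScalarTower.algebraMap_apply])
    have hintA : Algebra.IsIntegral P A := ⟨hint⟩
    have halg1 : Algebra.IsAlgebraic P A := inferInstance
    have halg2 : Algebra.IsAlgebraic A K := IsLocalization.isAlgebraic K (nonZeroDivisors A)
    have halg : Algebra.IsAlgebraic P K := Algebra.IsAlgebraic.trans P A K
    have hfaith1 : FaithfulSMul k P := inferInstance
    have hfaith2 : FaithfulSMul P K := by
      rw [faithfulSMul_iff_algebraMap_injective]
      exact (IsFractionRing.injective A K).comp hinj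
    have h := trdeg_add_eq k P (A := K)
    rw [trdeg_eq_zero (R := P) (A := K), add_zero, MvPolynomial.trdeg_of_isDomain] at h
    rw [← h]
    simp

end Groth.Agent.Helper5.FtDim
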