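import Mathlib

set_option autoImplicit false
universe u

namespace Groth.Agent.Helper5.MvPSIdeal

open MvPowerSeries Finsupp

/-- A power series in finitely many variables without constant term is a combination of the variables. -/
theorem exists_decomp {R : Type*} [CommRing R] {d : ℕ} (q : MvPowerSeries (Fin d) R)
    (hq : constantCoeff q = 0) :
    ∃ g : Fin d → MvPowerSeries (Fin d) R, q = ∑ i, X i * g i ∧
      ∀ i, constantCoeff (g i) = coeff (single i 1) q := by
  classical
  obtain ⟨G, hG⟩ : ∃ G : Fin d → MvPowerSeries (Fin d) R, ∀ i e, coeff e (G i) =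
      if (∀ j < i, e j = 0) then coeff (e + single i 1) q else 0 :=
    ⟨fun i => fun e => if (∀ j < i, e j = 0) then coeff (e + single i 1) q else 0, fun i e => rfl⟩
  refine ⟨G, ?_, ?_⟩
  · ext e
    rw [map_sum]
    have hterm : ∀ i : Fin d, coeff e (X i * G i)
        = if (1 ≤ e i ∧ ∀ j < i, e j = 0) then coeff e q else 0 := by
      intro i
      rw [X_def, coeff_monomial_mul, one_mul]
      have hle : single i 1 ≤ e ↔ 1 ≤ e i := Finsupp.single_le_iff
      by_cases h1 : 1 ≤ e i
      · rw [if_pos (hle.mpr h1), hG, tsub_add_cancel_of_le (hle.mpr h1)]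
        have hcond : (∀ j < i, (e - single i 1 : Fin d →₀ ℕ) j = 0) ↔ ∀ j < i, e j = 0 := by
          constructor
          · intro h j hj
            have := h j hj
            rw [Finsupp.tsub_apply, Finsupp.single_eq_of_ne (ne_of_lt hj), tsub_zero] at this
            exact this
          · intro h j hj
            rw [Finsupp.tsub_apply, Finsupp.single_eq_of_ne (ne_of_lt hj), tsub_zero]
            exact h j hj
        simp only [hcond, h1, true_and]
      · rw [if_neg (fun h => h1 (hle.mp h)), if_neg (fun h => h1 h.1)]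
    rw [Finset.sum_congr rfl (fun i _ => hterm i)]
    by_cases he : e = 0
    · subst he
      simp only [Finsupp.coe_zero, Pi.zero_apply, nonpos_iff_eq_zero, one_ne_zero, false_and, if_false,
        Finset.sum_const_zero]
      exact hq
    · have hsupp : e.support.Nonempty := Finsupp.support_nonempty_iff.mpr he
      obtain ⟨i₀, hi₀⟩ : ∃ i₀, i₀ = e.support.min' hsupp := ⟨_, rfl⟩
      have hi₀mem : i₀ ∈ e.support := hi₀ ▸ Finset.min'_mem _ _
      have hi₀min : ∀ j < i₀, e j = 0 := by
        intro j hj
        by_contra hne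
        have : j ∈ e.support := Finsupp.mem_support_iff.mpr hne
        have := Finset.min'_le _ _ this
        rw [← hi₀] at this
        exact absurd hj (not_lt.mpr this)
      rw [Finset.sum_eq_single i₀]
      · rw [if_pos ⟨Nat.one_le_iff_ne_zero.mpr (Finsupp.mem_support_iff.mp hi₀mem), hi₀min⟩]
      · intro i _ hne
        rw [if_neg]
        rintro ⟨h1, h2⟩
        rcases lt_or_gt_of_ne hne with h | h
        · have := hi₀min i h; omega
        · have := h2 i₀ h
          exact (Finsupp.mem_support_iff.mp hi₀mem) this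
      · intro h; exact absurd (Finset.mem_univ _) h
  · intro i
    rw [← coeff_zero_eq_constantCoeff_apply, hG, if_pos (by simp), zero_add]

theorem mem_span_X {R : Type*} [CommRing R] {d : ℕ} (q : MvPowerSeries (Fin d) R)
    (hq : constantCoeff q = 0) :
    q ∈ Ideal.span (Set.range (X : Fin d → MvPowerSeries (Fin d) R)) := by
  obtain ⟨g, hg, -⟩ := exists_decomp q hq
  rw [hg]
  refine Ideal.sum_mem _ fun i _ => ?_
  exact Ideal.mul_mem_right _ _ (Ideal.subset_span ⟨i, rfl⟩)

theorem mem_span_X_sq {R : Type*} [CommRing R] {d : ℕ} (q : MvPowerSeries (Fin d) R)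
    (hq : constantCoeff q = 0) (hq1 : ∀ i, coeff (single i 1) q = 0) :
    q ∈ Ideal.span (Set.range (X : Fin d → MvPowerSeries (Fin d) R)) ^ 2 := by
  obtain ⟨g, hg, hg0⟩ := exists_decomp q hq
  rw [hg, pow_two]
  refine Ideal.sum_mem _ fun i _ => ?_
  exact Ideal.mul_mem_mul (Ideal.subset_span ⟨i, rfl⟩) (mem_span_X _ (by rw [hg0, hq1]))

end Groth.Agent.Helper5.MvPSIdeal
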