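import Mathlib
import Groth.Agent.Helper5.MvPSIdeal

set_option autoImplicit false
universe u

namespace Groth.Agent.Helper5.MvPSDim

open MvPowerSeries

theorem le_ringKrullDim (k : Type u) [Field k] (d : ℕ) :
    (d : WithBot ℕ∞) ≤ ringKrullDim (MvPowerSeries (Fin d) k) := by
  induction d with
  | zero =>
    rw [ringKrullDim_eq_of_ringEquiv (MvPowerSeries.isEmptyEquiv (σ := Fin 0) (R := k)).toRingEquiv,
      ringKrullDim_eq_zero_of_field]
    simp
  | succ d ih =>
    rw [ringKrullDim_eq_of_ringEquiv (MvPowerSeries.finSuccEquiv k d).toRingEquiv]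
    refine le_trans ?_ ringKrullDim_succ_le_ringKrullDim_powerseries
    push_cast
    gcongr

theorem maximalIdeal_eq (k : Type u) [Field k] (d : ℕ) :
    IsLocalRing.maximalIdeal (MvPowerSeries (Fin d) k) =
      Ideal.span (Set.range (X : Fin d → MvPowerSeries (Fin d) k)) := by
  apply le_antisymm
  · intro p hp
    apply Groth.Agent.Helper5.MvPSIdeal.mem_span_X
    rw [IsLocalRing.mem_maximalIdeal, mem_nonunits_iff, MvPowerSeries.isUnit_iff_constantCoeff] at hp
    by_contra hne
    exact hp (IsUnit.mk0 _ hne)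
  · rw [Ideal.span_le]
    rintro _ ⟨i, rfl⟩
    rw [SetLike.mem_coe, IsLocalRing.mem_maximalIdeal, mem_nonunits_iff,
      MvPowerSeries.isUnit_iff_constantCoeff, MvPowerSeries.constantCoeff_X]
    exact not_isUnit_zero

theorem spanFinrank_le (k : Type u) [Field k] (d : ℕ) :
    (IsLocalRing.maximalIdeal (MvPowerSeries (Fin d) k)).spanFinrank ≤ d := by
  rw [maximalIdeal_eq]
  refine le_trans (Submodule.spanFinrank_span_le_ncard_of_finite (Set.finite_range _)) ?_
  rw [← Set.image_univ]
  refine le_trans (Set.ncard_image_le Set.finite_univ) ?_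
  simp

theorem ringKrullDim_le (k : Type u) [Field k] (d : ℕ) :
    ringKrullDim (MvPowerSeries (Fin d) k) ≤ (d : WithBot ℕ∞) := by
  refine le_trans (ringKrullDim_le_spanFinrank_maximalIdeal _) ?_
  exact_mod_cast spanFinrank_le k d

theorem isRegular (k : Type u) [Field k] (d : ℕ) : IsRegularLocalRing (MvPowerSeries (Fin d) k) := by
  apply IsRegularLocalRing.of_spanFinrank_maximalIdeal_le
  refine le_trans ?_ (le_ringKrullDim k d)
  exact_mod_cast spanFinrank_le k d

end Groth.Agent.Helper5.MvPSDim
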