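import Mathlib

set_option autoImplicit false
universe u
open Polynomial

namespace Groth.Agent.Helper5.ComplDVR

/-- A finite module over a Noetherian ring that is precomplete is precomplete. -/
theorem isPrecomplete_of_finite {R : Type*} [CommRing R] (I : Ideal R) [IsPrecomplete I R]
    (M : Type*) [AddCommGroup M] [Module R M] [Module.Finite R M] : IsPrecomplete I M := by
  rw [← AdicCompletion.of_surjective_iff]
  intro y
  obtain ⟨t, rfl⟩ := AdicCompletion.ofTensorProduct_surjective_of_finite I M y
  induction t using TensorProduct.induction_on with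
  | zero => exact ⟨0, by simp⟩
  | tmul a m =>
    obtain ⟨r, rfl⟩ := AdicCompletion.of_surjective I R a
    refine ⟨r • m, ?_⟩
    rw [AdicCompletion.ofTensorProduct_tmul, map_smul]
    have h1 : AdicCompletion.of I R r = r • (1 : AdicCompletion I R) := by
      rw [← Algebra.algebraMap_eq_smul_one]; rfl
    rw [h1, smul_assoc, one_smul]
  | add x y hx hy =>
    obtain ⟨a, ha⟩ := hx
    obtain ⟨b, hb⟩ := hy
    exact ⟨a + b, by rw [map_add, map_add, ha, hb]⟩

/-- A domain finite over a complete Noetherian local ring has exactly one maximal ideal. -/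
theorem existsUnique_isMaximal_of_finite_of_complete (A B : Type*) [CommRing A] [IsNoetherianRing A]
    [IsLocalRing A] [IsAdicComplete (IsLocalRing.maximalIdeal A) A]
    [CommRing B] [IsDomain B] [Algebra A B] [Module.Finite A B] :
    ∃! M : Ideal B, M.IsMaximal := by
  set 𝔪 := IsLocalRing.maximalIdeal A with h𝔪
  set I : Ideal B := 𝔪.map (algebraMap A B) with hI
  have hcompl : IsAdicComplete I B := by
    rw [hI, IsAdicComplete.map_algebraMap_iff]
    have h1 : IsPrecomplete 𝔪 B := isPrecomplete_of_finite 𝔪 B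
    have h2 : IsHausdorff 𝔪 B := inferInstance
    exact { }
  have hH : HenselianRing B I := inferInstance
  have : Algebra.IsIntegral A B := Algebra.IsIntegral.of_finite A B
  -- maximal ideals contain `I`
  have hle : ∀ M : Ideal B, M.IsMaximal → I ≤ M := by
    intro M hM
    have : (M.comap (algebraMap A B)).IsMaximal := Ideal.isMaximal_comap_of_isIntegral_of_isMaximal M
    have h : M.comap (algebraMap A B) = 𝔪 := IsLocalRing.eq_maximalIdeal this
    rw [hI, Ideal.map_le_iff_le_comap, h]
  -- the quotient is Artinian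
  have : IsArtinianRing (B ⧸ I) := by
    have : Module.Finite (A ⧸ 𝔪) (B ⧸ I) := Module.Finite.of_restrictScalars_finite A (A ⧸ 𝔪) (B ⧸ I)
    let _ : Field (A ⧸ 𝔪) := Ideal.Quotient.field 𝔪
    exact IsArtinianRing.of_finite (A ⧸ 𝔪) (B ⧸ I)
  obtain ⟨M₀, hM₀⟩ := Ideal.exists_maximal B
  refine ⟨M₀, hM₀, fun M hM => ?_⟩
  by_contra hne
  -- two distinct primes of the quotient
  let p : Ideal (B ⧸ I) := M.map (Ideal.Quotient.mk I)
  let q : Ideal (B ⧸ I) := M₀.map (Ideal.Quotient.mk I)
  have hp : p.IsPrime := Ideal.map_isPrime_of_surjective Ideal.Quotient.mk_surjective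
    (by rw [Ideal.mk_ker]; exact hle M hM)
  have hq : q.IsPrime := Ideal.map_isPrime_of_surjective Ideal.Quotient.mk_surjective
    (by rw [Ideal.mk_ker]; exact hle M₀ hM₀)
  have hcp : p.comap (Ideal.Quotient.mk I) = M :=
    (Ideal.comap_map_of_surjective' _ Ideal.Quotient.mk_surjective M).trans (by
      rw [Ideal.mk_ker]; exact sup_eq_left.2 (hle M hM))
  have hcq : q.comap (Ideal.Quotient.mk I) = M₀ :=
    (Ideal.comap_map_of_surjective' _ Ideal.Quotient.mk_surjective M₀).trans (by
      rw [Ideal.mk_ker]; exact sup_eq_left.2 (hle M₀ hM₀))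
  have hpq : q ≠ p := by
    intro h
    apply hne
    rw [← hcp, ← hcq, h]
  obtain ⟨ebar, hep, hidem, hall⟩ := IsArtinianRing.exists_not_mem_forall_mem_of_ne p
  have heq : ebar ∈ q := hall q hq hpq
  obtain ⟨b, rfl⟩ := Ideal.Quotient.mk_surjective ebar
  -- lift the idempotent
  have hmonic : (X ^ 2 - X : B[X]).Monic := by
    apply Polynomial.monic_X_pow_sub
    simp
  have hev : (X ^ 2 - X : B[X]).eval b ∈ I := by
    rw [← Ideal.Quotient.eq_zero_iff_mem]
    simp only [eval_sub, eval_pow, eval_X, map_sub, map_pow]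
    have := hidem.eq
    rw [pow_two, this, sub_self]
  have hder : IsUnit (Ideal.Quotient.mk I ((X ^ 2 - X : B[X]).derivative.eval b)) := by
    have h2 := hidem.eq
    have hd : (X ^ 2 - X : B[X]).derivative.eval b = 2 * b - 1 := by
      simp
      left; norm_num
    rw [hd]
    refine IsUnit.of_mul_eq_one (Ideal.Quotient.mk I (2 * b - 1)) ?_
    rw [← map_mul]
    have : (2 * b - 1) * (2 * b - 1) = 4 * (b * b - b) + 1 := by ring
    rw [this, map_add, map_mul, map_sub, map_mul, h2, sub_self, mul_zero, zero_add, map_one]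
  obtain ⟨e, he, heb⟩ := hH.is_henselian _ hmonic b hev hder
  have he2 : e * (e - 1) = 0 := by
    have : e ^ 2 - e = 0 := by simpa [Polynomial.IsRoot] using he
    rw [mul_sub, mul_one, ← pow_two]; exact this
  have hmk : Ideal.Quotient.mk I e = Ideal.Quotient.mk I b := by
    rw [Ideal.Quotient.eq]; exact heb
  rcases mul_eq_zero.1 he2 with h0 | h1
  · apply hep
    rw [← hmk, h0, map_zero]; exact p.zero_mem
  · have : e = 1 := sub_eq_zero.1 h1
    apply hq.ne_top
    rw [Ideal.eq_top_iff_one, ← map_one (Ideal.Quotient.mk I), ← this, hmk]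
    exact heq

end Groth.Agent.Helper5.ComplDVR
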