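import Mathlib

namespace Groth.Agent.Helper5.CompleteNak

/-- one approximation step -/
theorem approx_step {R S : Type*} [CommRing R] [CommRing S] (φ : R →+* S) (I : Ideal R)
    (J : Ideal S) (hJI : J ≤ I.map φ) (hIJ : I.map φ ≤ J)
    (hres : ∀ s : S, ∃ r : R, s - φ r ∈ J) (n : ℕ) (s : S) (hs : s ∈ J ^ n) :
    ∃ r ∈ I ^ n, s - φ r ∈ J ^ (n + 1) := by
  have hJeq : J = I.map φ := le_antisymm hJI hIJ
  have hs' : s ∈ Ideal.span (φ '' (I ^ n : Ideal R)) := by
    have : J ^ n = Ideal.span (φ '' (I ^ n : Ideal R)) := by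
      rw [hJeq, ← Ideal.map_pow]; rfl
    rw [← this]; exact hs
  have hspan_le : Ideal.span (φ '' (I ^ n : Ideal R)) ≤ J ^ n := by
    rw [hJeq, ← Ideal.map_pow]; exact le_rfl
  clear hs
  induction hs' using Submodule.span_induction with
  | mem x hx =>
    obtain ⟨a, ha, rfl⟩ := hx
    exact ⟨a, ha, by rw [sub_self]; exact Submodule.zero_mem _⟩
  | zero => exact ⟨0, Submodule.zero_mem _, by simp⟩
  | add x y _ _ hx hy =>
    obtain ⟨r1, hr1, h1⟩ := hx
    obtain ⟨r2, hr2, h2⟩ := hy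
    refine ⟨r1 + r2, Submodule.add_mem _ hr1 hr2, ?_⟩
    have : x + y - φ (r1 + r2) = (x - φ r1) + (y - φ r2) := by rw [map_add]; ring
    rw [this]
    exact Submodule.add_mem _ h1 h2
  | smul t x hxs hx =>
    obtain ⟨r, hr, h1⟩ := hx
    obtain ⟨c, hc⟩ := hres t
    refine ⟨c * r, Ideal.mul_mem_left _ c hr, ?_⟩
    have hxJ : x ∈ J ^ n := hspan_le hxs
    have e : t • x - φ (c * r) = φ c * (x - φ r) + (t - φ c) * x := by
      rw [map_mul, smul_eq_mul]; ring
    rw [e]
    refine Submodule.add_mem _ (Ideal.mul_mem_left _ _ h1) ?_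
    rw [pow_succ']
    exact Ideal.mul_mem_mul hc hxJ

/-- complete Nakayama, surjectivity form -/
theorem surjective_of_adic {R S : Type*} [CommRing R] [CommRing S] (φ : R →+* S) (I : Ideal R)
    (J : Ideal S) [IsPrecomplete I R] [IsHausdorff J S]
    (hJI : J ≤ I.map φ) (hIJ : I.map φ ≤ J)
    (hres : ∀ s : S, ∃ r : R, s - φ r ∈ J) : Function.Surjective φ := by
  intro s
  have step : ∀ (n : ℕ) (x : R), s - φ x ∈ J ^ n →
      ∃ y, s - φ y ∈ J ^ (n + 1) ∧ y - x ∈ I ^ n := by
    intro n x hx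
    obtain ⟨r, hr, h⟩ := approx_step φ I J hJI hIJ hres n (s - φ x) hx
    refine ⟨x + r, ?_, by simpa using hr⟩
    have : s - φ (x + r) = s - φ x - φ r := by rw [map_add]; ring
    rw [this]; exact h
  let f : (n : ℕ) → {x : R // s - φ x ∈ J ^ n} := fun n =>
    Nat.rec ⟨0, by simp⟩ (fun n p => ⟨Classical.choose (step n p.1 p.2),
      (Classical.choose_spec (step n p.1 p.2)).1⟩) n
  have hf : ∀ n, ((f (n + 1)).1 - (f n).1) ∈ I ^ n := fun n =>
    (Classical.choose_spec (step n (f n).1 (f n).2)).2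
  have hcauchy : ∀ m n, m ≤ n → (f n).1 - (f m).1 ∈ I ^ m := by
    intro m n hmn
    induction n, hmn using Nat.le_induction with
    | base => simp
    | succ n hmn ih =>
      have : (f (n + 1)).1 - (f m).1 = ((f (n + 1)).1 - (f n).1) + ((f n).1 - (f m).1) := by ring
      rw [this]
      exact Submodule.add_mem _ (Ideal.pow_le_pow_right hmn (hf n)) ih
  obtain ⟨L, hL⟩ := IsPrecomplete.prec' (I := I) (fun n => (f n).1) (by
    intro m n hmn
    rw [SModEq.sub_mem, smul_eq_mul, Ideal.mul_top]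
    have := hcauchy m n hmn
    rw [← neg_sub]
    exact Submodule.neg_mem _ this)
  refine ⟨L, ?_⟩
  have hzero : s - φ L = 0 := by
    apply IsHausdorff.haus' (I := J)
    intro n
    rw [SModEq.sub_mem, sub_zero, smul_eq_mul, Ideal.mul_top]
    have h1 := hL n
    rw [SModEq.sub_mem, smul_eq_mul, Ideal.mul_top] at h1
    have h2 : φ ((f n).1 - L) ∈ J ^ n := by
      have : φ ((f n).1 - L) ∈ (I ^ n).map φ := Ideal.mem_map_of_mem φ h1
      rw [Ideal.map_pow] at this
      exact Ideal.pow_right_mono hIJ n this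
    have e : s - φ L = (s - φ (f n).1) + φ ((f n).1 - L) := by rw [map_sub]; ring
    rw [e]
    exact Submodule.add_mem _ (f n).2 h2
  exact (sub_eq_zero.mp hzero).symm

end Groth.Agent.Helper5.CompleteNak
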