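import Groth.Agent.Helper5.ConnDim

set_option autoImplicit false
universe u
open Set TopologicalSpace Topology

namespace Groth.Agent.Helper5.ConnDim

variable {T : Type u} [TopologicalSpace T] [NoetherianSpace T]

theorem connDim_le_inter {A B : Set (Set T)} (hA : A ⊆ irreducibleComponents T)
    (hB : B ⊆ irreducibleComponents T) (hAne : A.Nonempty) (hBne : B.Nonempty)
    (hAB : A ∪ B = irreducibleComponents T) :
    LocCoh.connDim T ≤ topologicalKrullDim ↥(⋃₀ A ∩ ⋃₀ B) := by
  have hcover : ⋃₀ A ∪ ⋃₀ B = Set.univ := by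
    rw [← Set.sUnion_union, hAB, sUnion_irreducibleComponents]
  have hAcl := isClosed_sUnion_components hA
  have hBcl := isClosed_sUnion_components hB
  by_cases hAu : ⋃₀ A = Set.univ
  · obtain ⟨C, hC⟩ := hBne
    refine (connDim_le_dim_component (hB hC)).trans (dim_mono ?_)
    rw [hAu, Set.univ_inter]
    exact Set.subset_sUnion_of_mem hC
  by_cases hBu : ⋃₀ B = Set.univ
  · obtain ⟨C, hC⟩ := hAne
    refine (connDim_le_dim_component (hA hC)).trans (dim_mono ?_)
    rw [hBu, Set.inter_univ]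
    exact Set.subset_sUnion_of_mem hC
  obtain ⟨x, hx⟩ : ∃ x, x ∉ ⋃₀ A := by
    by_contra hall
    push Not at hall
    exact hAu (Set.eq_univ_of_forall hall)
  obtain ⟨y, hy⟩ : ∃ y, y ∉ ⋃₀ B := by
    by_contra hall
    push Not at hall
    exact hBu (Set.eq_univ_of_forall hall)
  refine connDim_le (hAcl.inter hBcl) ?_
  refine not_isConnected_of_disjoint_opens (U := (⋃₀ A)ᶜ) (V := (⋃₀ B)ᶜ) hAcl.isOpen_compl
    hBcl.isOpen_compl (by rw [Set.compl_inter]) ?_ ⟨x, fun h => hx h.1, hx⟩ ⟨y, fun h => hy h.2, hy⟩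
  rw [Set.disjoint_compl_left_iff_subset]
  exact Set.compl_subset_iff_union.2 (by rw [Set.union_comm]; exact hcover)

theorem exists_le_dim [Nonempty T] {Z : Set T} (hZ : IsClosed Z) (hcon : ¬ IsConnected Zᶜ) :
    ∃ A B : Set (Set T), (A ⊆ irreducibleComponents T ∧ B ⊆ irreducibleComponents T ∧
      A.Nonempty ∧ B.Nonempty ∧ A ∪ B = irreducibleComponents T) ∧
      topologicalKrullDim ↥(⋃₀ A ∩ ⋃₀ B) ≤ topologicalKrullDim Z := by
  by_cases hemp : Zᶜ = ∅
  · rw [Set.compl_empty_iff] at hemp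
    have hnonempty : (irreducibleComponents T).Nonempty :=
      ⟨_, irreducibleComponent_mem_irreducibleComponents (Classical.arbitrary T)⟩
    refine ⟨irreducibleComponents T, irreducibleComponents T,
      ⟨le_rfl, le_rfl, hnonempty, hnonempty, Set.union_self _⟩, ?_⟩
    rw [sUnion_irreducibleComponents, Set.inter_self, hemp]
  · have hne : Zᶜ.Nonempty := Set.nonempty_iff_ne_empty.2 hemp
    have hpre : ¬ IsPreconnected Zᶜ := fun h => hcon ⟨hne, h⟩
    unfold IsPreconnected at hpre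
    push Not at hpre
    obtain ⟨u, v, hu, hv, hsub, ⟨x, hxZ, hxu⟩, ⟨y, hyZ, hyv⟩, hdisj⟩ := hpre
    have hZo : IsOpen Zᶜ := hZ.isOpen_compl
    set U₁ : Set T := Zᶜ ∩ u with hU₁
    set U₂ : Set T := Zᶜ ∩ v with hU₂
    have hU₁o : IsOpen U₁ := hZo.inter hu
    have hU₂o : IsOpen U₂ := hZo.inter hv
    have hdis : ∀ z, z ∈ U₁ → z ∈ U₂ → False := fun z h1 h2 =>
      (Set.eq_empty_iff_forall_notMem.1 hdisj z) ⟨h1.1, h1.2, h2.2⟩
    have key : ∀ C ∈ irreducibleComponents T, (C ∩ U₁).Nonempty → (C ∩ U₂).Nonempty → False := by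
      intro C hC h1 h2
      obtain ⟨z, _, hz1, hz2⟩ := hC.1.2 U₁ U₂ hU₁o hU₂o h1 h2
      exact hdis z hz1 hz2
    refine ⟨{C ∈ irreducibleComponents T | C ∩ U₂ = ∅}, {C ∈ irreducibleComponents T | C ∩ U₁ = ∅},
      ⟨fun C hC => hC.1, fun C hC => hC.1, ?_, ?_, ?_⟩, ?_⟩
    · refine ⟨irreducibleComponent x, irreducibleComponent_mem_irreducibleComponents x, ?_⟩
      by_contra hne2
      exact key _ (irreducibleComponent_mem_irreducibleComponents x)
        ⟨x, mem_irreducibleComponent, hxZ, hxu⟩ (Set.nonempty_iff_ne_empty.2 hne2)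
    · refine ⟨irreducibleComponent y, irreducibleComponent_mem_irreducibleComponents y, ?_⟩
      by_contra hne2
      exact key _ (irreducibleComponent_mem_irreducibleComponents y)
        (Set.nonempty_iff_ne_empty.2 hne2) ⟨y, mem_irreducibleComponent, hyZ, hyv⟩
    · ext C
      simp only [Set.mem_union, Set.mem_ofPred_eq]
      constructor
      · rintro (h | h) <;> exact h.1
      · intro hC
        by_cases h2 : C ∩ U₂ = ∅
        · exact Or.inl ⟨hC, h2⟩
        · refine Or.inr ⟨hC, ?_⟩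
          by_contra h1
          exact key C hC (Set.nonempty_iff_ne_empty.2 h1) (Set.nonempty_iff_ne_empty.2 h2)
    · refine dim_mono ?_
      rintro z ⟨⟨C, hC, hzC⟩, ⟨C', hC', hzC'⟩⟩
      by_contra hzZ
      rcases hsub hzZ with hzu | hzv
      · have : z ∈ C' ∩ U₁ := ⟨hzC', hzZ, hzu⟩
        rw [hC'.2] at this
        exact this
      · have : z ∈ C ∩ U₂ := ⟨hzC, hzZ, hzv⟩
        rw [hC.2] at this
        exact this

theorem s11666 [Nonempty T] :
    LocCoh.connDim T = ⨅ (A : Set (Set T)) (B : Set (Set T))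
      (_ : A ⊆ irreducibleComponents T ∧ B ⊆ irreducibleComponents T ∧ A.Nonempty ∧ B.Nonempty ∧
        A ∪ B = irreducibleComponents T), topologicalKrullDim ↥(⋃₀ A ∩ ⋃₀ B) := by
  apply le_antisymm
  · refine le_iInf fun A => le_iInf fun B => le_iInf fun h => ?_
    exact connDim_le_inter h.1 h.2.1 h.2.2.1 h.2.2.2.1 h.2.2.2.2
  · refine le_connDim fun Z hZ hcon => ?_
    obtain ⟨A, B, h, hle⟩ := exists_le_dim hZ hcon
    exact iInf_le_of_le A (iInf_le_of_le B (iInf_le_of_le h hle))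

end Groth.Agent.Helper5.ConnDim
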