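import Mathlib

universe u

namespace Groth.Agent.Helper5.NormLocus

open Polynomial IntermediateField

theorem norm_formula (K L : Type*) [Field K] [Field L] [Algebra K L] [FiniteDimensional K L] (x : L) :
    ∃ e d : ℕ, 0 < e ∧ Algebra.norm K x = ((-1) ^ d * (minpoly K x).coeff 0) ^ e := by
  have hx : IsIntegral K x := IsIntegral.of_finite K x
  refine ⟨Module.finrank K⟮x⟯ L, (adjoin.powerBasis hx).dim, Module.finrank_pos, ?_⟩
  rw [Algebra.norm_eq_norm_adjoin K x]
  congr 1
  rw [← adjoin.powerBasis_gen hx, Algebra.PowerBasis.norm_gen_eq_coeff_zero_minpoly,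
    adjoin.powerBasis_gen hx, IntermediateField.minpoly_gen]

section AKLB

variable (A B K L : Type*) [CommRing A] [IsDomain A] [CommRing B] [IsDomain B] [Algebra A B]
    [Field K] [Field L] [Algebra A K] [IsFractionRing A K] [Algebra B L] [IsFractionRing B L]
    [Algebra A L] [Algebra K L] [IsScalarTower A B L] [IsScalarTower A K L]
    [FiniteDimensional K L] [Algebra.IsIntegral A B] [IsIntegrallyClosed A]

include K L in
theorem dvd_of_norm (b : B) (a : A) (ha : algebraMap A K a = Algebra.norm K (algebraMap B L b)) :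
    b ∣ algebraMap A B a := by
  have hb : IsIntegral A b := Algebra.IsIntegral.isIntegral b
  have h1 : b ∣ algebraMap A B ((minpoly A b).coeff 0) := by
    have h0 : aeval b (minpoly A b) = 0 := minpoly.aeval A b
    rw [← Polynomial.divX_mul_X_add (minpoly A b)] at h0
    simp only [map_add, map_mul, aeval_X, aeval_C] at h0
    refine ⟨-(aeval b (minpoly A b).divX), ?_⟩
    linear_combination h0
  have h2 := minpoly.isIntegrallyClosed_eq_field_fractions K L hb
  obtain ⟨e, d, he, h3⟩ := norm_formula K L (algebraMap B L b)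
  rw [h2, Polynomial.coeff_map] at h3
  have h4 : a = ((-1) ^ d * (minpoly A b).coeff 0) ^ e := by
    apply IsFractionRing.injective A K
    rw [ha, h3]
    simp
  rw [h4, map_pow, map_mul]
  exact dvd_pow (Dvd.dvd.mul_left h1 _) he.ne'

include L in
theorem pow_eq_of_mem_span (b : B) (a : A) (ha : algebraMap A K a = Algebra.norm K (algebraMap B L b))
    (x : A) (hx : algebraMap A B x ∈ Ideal.span {b}) :
    ∃ c : A, x ^ (Module.finrank K L) = a * c := by
  obtain ⟨y, hy⟩ := Ideal.mem_span_singleton'.mp hx
  have hyint : IsIntegral A (algebraMap B L y) :=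
    (Algebra.IsIntegral.isIntegral (R := A) y).map (IsScalarTower.toAlgHom A B L)
  obtain ⟨c, hc⟩ := IsIntegrallyClosed.isIntegral_iff.mp (Algebra.isIntegral_norm K hyint)
  refine ⟨c, ?_⟩
  apply IsFractionRing.injective A K
  rw [map_mul, map_pow, ha, hc, ← map_mul, mul_comm, ← map_mul, hy,
    ← IsScalarTower.algebraMap_apply A B L, IsScalarTower.algebraMap_apply A K L,
    Algebra.norm_algebraMap]

end AKLB

theorem topologicalKrullDim_zeroLocus {R : Type*} [CommRing R] (I : Ideal R) :
    topologicalKrullDim ↥(PrimeSpectrum.zeroLocus (I : Set R)) = ringKrullDim (R ⧸ I) := by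
  have hsurj : Function.Surjective (Ideal.Quotient.mk I) := Ideal.Quotient.mk_surjective
  have hemb := (PrimeSpectrum.isClosedEmbedding_comap_of_surjective (R ⧸ I) _ hsurj).isEmbedding
  have hrange : Set.range (PrimeSpectrum.comap (Ideal.Quotient.mk I)) =
      PrimeSpectrum.zeroLocus (I : Set R) := by
    rw [_root_.range_comap_of_surjective _ _ hsurj, Ideal.mk_ker]
  rw [← PrimeSpectrum.topologicalKrullDim_eq_ringKrullDim]
  symm
  exact IsHomeomorph.topologicalKrullDim_eq _
    ((hemb.toHomeomorph.trans (Homeomorph.setCongr hrange)).isHomeomorph)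

end Groth.Agent.Helper5.NormLocus
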