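import Groth.Agent.Helper5.UCat5
import Mathlib.RingTheory.MvPolynomial.Localization

set_option autoImplicit false
universe u

namespace Groth.Agent.Helper5.UCat

open Groth.Agent.Helper5.DimFormula

/-- Catenarity transfers along a ring homomorphism whose comap is strictly monotone and preserves
the covering relation. -/
theorem isCatenary_of_comap {A B : Type u} [CommRing A] [CommRing B] (φ : A →+* B)
    (hmono : StrictMono (PrimeSpectrum.comap φ))
    (hcov : ∀ a b : PrimeSpectrum B, a ⋖ b → PrimeSpectrum.comap φ a ⋖ PrimeSpectrum.comap φ b)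
    (hA : CAlg.IsCatenary A) : CAlg.IsCatenary B := by
  constructor
  · intro p q hpq
    obtain ⟨n, hn⟩ := hA.1 (PrimeSpectrum.comap φ p) (PrimeSpectrum.comap φ q)
      (hmono.monotone hpq)
    refine ⟨n, fun s hs1 hs2 => ?_⟩
    have := hn (s.map _ hmono) (by rw [LTSeries.head_map, hs1]) (by rw [LTSeries.last_map, hs2])
    exact this
  · intro s t hhead hlast hs ht
    exact hA.2 (s.map _ hmono) (t.map _ hmono) (by rw [LTSeries.head_map, LTSeries.head_map, hhead])
      (by rw [LTSeries.last_map, LTSeries.last_map, hlast])
      (fun i => hcov _ _ (hs i)) (fun i => hcov _ _ (ht i))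

theorem isCatenary_of_surjective {A B : Type u} [CommRing A] [CommRing B] (φ : A →+* B)
    (hφ : Function.Surjective φ) (hA : CAlg.IsCatenary A) : CAlg.IsCatenary B := by
  refine isCatenary_of_comap φ ?_ (fun a b h => comap_covBy φ hφ a b h) hA
  intro x y hxy
  refine lt_of_le_of_ne ?_ ?_
  · exact Ideal.comap_mono (f := φ) hxy.le
  · intro h
    exact hxy.ne (PrimeSpectrum.comap_injective_of_surjective φ hφ h)

theorem isCatenary_of_isLocalization {A B : Type u} [CommRing A] [CommRing B] [Algebra A B]
    (M : Submonoid A) [IsLocalization M B] (hA : CAlg.IsCatenary A) : CAlg.IsCatenary B := by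
  let e := IsLocalization.primeSpectrumOrderIso M B
  have he : ∀ x : PrimeSpectrum B, (e x).1 = PrimeSpectrum.comap (algebraMap A B) x := fun _ => rfl
  have hmono : StrictMono (PrimeSpectrum.comap (algebraMap A B)) := by
    intro x y hxy
    rw [← he, ← he]
    exact e.strictMono hxy
  refine isCatenary_of_comap (algebraMap A B) hmono ?_ hA
  intro a b hab
  refine ⟨hmono hab.1, ?_⟩
  intro z hz1 hz2
  have hzd : Disjoint (M : Set A) z.asIdeal := by
    have hb : Disjoint (M : Set A) (e b).1.asIdeal := (e b).2
    rw [he] at hb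
    exact Set.disjoint_of_subset_right hz2.le hb
  let z' : PrimeSpectrum B := e.symm ⟨z, hzd⟩
  have hz' : PrimeSpectrum.comap (algebraMap A B) z' = z := by
    rw [← he, e.apply_symm_apply]
  have h1 : a < z' := by
    rw [← e.lt_iff_lt]
    show (e a).1 < (e z').1
    rw [he, he, hz']
    exact hz1
  have h2 : z' < b := by
    rw [← e.lt_iff_lt]
    show (e z').1 < (e b).1
    rw [he, he, hz']
    exact hz2
  exact hab.2 h1 h2

attribute [local instance] MvPolynomial.algebraMvPolynomial in
/-- Localisations of universally catenary rings are universally catenary. -/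
theorem isUniversallyCatenary_of_isLocalization {R R' : Type u} [CommRing R] [CommRing R']
    [Algebra R R'] (M : Submonoid R) [IsLocalization M R'] (hR : CAlg.IsUniversallyCatenary R) :
    CAlg.IsUniversallyCatenary R' := by
  have hN : IsNoetherianRing R := hR.1
  refine ⟨IsLocalization.isNoetherianRing M R' hN, ?_⟩
  intro C _ _ hft
  obtain ⟨n, π, hπ⟩ := Algebra.FiniteType.iff_quotient_mvPolynomial''.mp hft
  have h1 : CAlg.IsCatenary (MvPolynomial (Fin n) R) := hR.2 _ inferInstance
  have h2 : CAlg.IsCatenary (MvPolynomial (Fin n) R') :=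
    isCatenary_of_isLocalization (M.map (MvPolynomial.C (σ := Fin n))) h1
  exact isCatenary_of_surjective π.toRingHom hπ h2

end Groth.Agent.Helper5.UCat
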