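import Groth.Agent.Helper5.VarDim11

set_option autoImplicit false
universe u

namespace Groth.Agent.Helper5.VarDim

theorem withBot_enat_add_left_cancel (D : ℕ) (a b : WithBot ℕ∞)
    (h : (D : WithBot ℕ∞) + a = (D : WithBot ℕ∞) + b) : a = b := by
  induction a using WithBot.recBotCoe with
  | bot =>
    induction b using WithBot.recBotCoe with
    | bot => rfl
    | coe b =>
      exfalso
      rw [WithBot.add_bot] at h
      have : ((D : ℕ∞) : WithBot ℕ∞) + (b : WithBot ℕ∞) = ((D + b : ℕ∞) : WithBot ℕ∞) := by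
        rw [WithBot.coe_add]
      rw [show ((D : ℕ) : WithBot ℕ∞) = ((D : ℕ∞) : WithBot ℕ∞) from rfl, this] at h
      exact WithBot.bot_ne_coe h
  | coe a =>
    induction b using WithBot.recBotCoe with
    | bot =>
      exfalso
      rw [WithBot.add_bot] at h
      have : ((D : ℕ∞) : WithBot ℕ∞) + (a : WithBot ℕ∞) = ((D + a : ℕ∞) : WithBot ℕ∞) := by
        rw [WithBot.coe_add]
      rw [show ((D : ℕ) : WithBot ℕ∞) = ((D : ℕ∞) : WithBot ℕ∞) from rfl, this] at h
      exact WithBot.coe_ne_bot h
    | coe b =>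
      have h' : ((D + a : ℕ∞) : WithBot ℕ∞) = ((D + b : ℕ∞) : WithBot ℕ∞) := by
        rw [WithBot.coe_add, WithBot.coe_add]
        exact h
      have h'' : (D : ℕ∞) + a = (D : ℕ∞) + b := WithBot.coe_injective h'
      congr 1
      exact (ENat.add_right_injective_of_ne_top (ENat.natCast_ne_top D)) h''

end Groth.Agent.Helper5.VarDim
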