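import Groth.Agent.Helper2.Caten2
import Groth.Agent.Helper5.VarDim12

set_option autoImplicit false
universe u
open IsLocalRing

namespace Groth.Agent.Helper5.FlatEquidim

open Groth.Agent.Helper2.Caten Groth.Agent.Helper2.Caten2

/-- For a flat algebra, a minimal prime over `pB` lies over `p` and has the same height. -/
theorem height_of_minimal_over_map {A B : Type u} [CommRing A] [CommRing B] [Algebra A B]
    [IsNoetherianRing A] [IsNoetherianRing B] [Module.Flat A B] (p : Ideal A) [p.IsPrime] (P : Ideal B)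
    (hP : P ∈ (Ideal.map (algebraMap A B) p).minimalPrimes) : P.height = p.height := by
  have hPp : P.IsPrime := hP.1.1
  have hgd : Algebra.HasGoingDown A B := Algebra.HasGoingDown.of_flat
  have hle : p ≤ P.under A := by
    rw [Ideal.under_def, ← Ideal.map_le_iff_le_comap]
    exact hP.1.2
  have hlo : P.LiesOver p := by
    have : P.LiesOver (P.under A) := ⟨rfl⟩
    obtain ⟨P', hP'le, hP'p, hP'lo⟩ := Ideal.exists_ideal_le_liesOver_of_le (p := p)
      (q := P.under A) P hle
    have h1 : Ideal.map (algebraMap A B) p ≤ P' := by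
      rw [Ideal.map_le_iff_le_comap, ← Ideal.under_def, ← hP'lo.over]
    have h2 : P ≤ P' := hP.2 ⟨hP'p, h1⟩ hP'le
    have h3 : P' = P := le_antisymm hP'le h2
    rw [← h3]
    exact hP'lo
  rw [Ideal.height_eq_height_add_of_liesOver_of_hasGoingDown p P]
  have h0 : (P.map (Ideal.Quotient.mk (Ideal.map (algebraMap A B) p))).height = 0 := by
    have hprime : (P.map (Ideal.Quotient.mk (Ideal.map (algebraMap A B) p))).IsPrime :=
      Ideal.map_isPrime_of_surjective Ideal.Quotient.mk_surjective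
        (by rw [Ideal.mk_ker]; exact hP.1.2)
    rw [Ideal.height_eq_zero_iff]
    have h1 := Ideal.minimalPrimes_map_of_surjective
      (f := Ideal.Quotient.mk (Ideal.map (algebraMap A B) p)) Ideal.Quotient.mk_surjective
      (Ideal.map (algebraMap A B) p)
    rw [Ideal.mk_ker, sup_idem, Ideal.map_quotient_self] at h1
    show _ ∈ (⊥ : Ideal _).minimalPrimes
    rw [h1]
    exact ⟨P, hP, rfl⟩
  rw [h0, add_zero]


theorem isEquidim_quotient_map (A B : Type u) [CommRing A] [CommRing B]
    [IsNoetherianRing A] [IsNoetherianRing B] [IsLocalRing A] [IsLocalRing B] [Algebra A B]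
    [Module.Flat A B] (hcat : CAlg.IsCatenary B) (heq : EGA4.IsEquidim B)
    (p : Ideal A) [p.IsPrime] : EGA4.IsEquidim (B ⧸ Ideal.map (algebraMap A B) p) := by
  intro Pb hPb
  obtain ⟨h, hh⟩ := ENat.ne_top_iff_exists.1 (Ideal.height_ne_top_of_isPrime (I := p))
  have key : ∀ Qb ∈ minimalPrimes (B ⧸ Ideal.map (algebraMap A B) p),
      (h : WithBot ℕ∞) + ringKrullDim ((B ⧸ Ideal.map (algebraMap A B) p) ⧸ Qb) =
        ringKrullDim B := by
    intro Qb hQb
    have hQbp : Qb.IsPrime := hQb.1.1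
    let Q : Ideal B := Qb.comap (Ideal.Quotient.mk (Ideal.map (algebraMap A B) p))
    have hQ : Q ∈ (Ideal.map (algebraMap A B) p).minimalPrimes := by
      rw [Ideal.minimalPrimes_eq_comap]; exact ⟨Qb, hQb, rfl⟩
    have hQp : Q.IsPrime := hQ.1.1
    have h1 := height_of_minimal_over_map p Q hQ
    have h2 := height_add_coheight_eq hcat heq ⟨Q, hQp⟩
    let f : B →+* (B ⧸ Ideal.map (algebraMap A B) p) ⧸ Qb :=
      (Ideal.Quotient.mk Qb).comp (Ideal.Quotient.mk (Ideal.map (algebraMap A B) p))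
    have hf : Function.Surjective f :=
      Ideal.Quotient.mk_surjective.comp Ideal.Quotient.mk_surjective
    have hker : RingHom.ker f = Q := by
      rw [← RingHom.comap_ker, Ideal.mk_ker]
    have h3 : ringKrullDim (B ⧸ Q) =
        ringKrullDim ((B ⧸ Ideal.map (algebraMap A B) p) ⧸ Qb) := by
      rw [← hker]
      exact ringKrullDim_eq_of_ringEquiv (RingHom.quotientKerEquivOfSurjective hf)
    have h4 := dimQuot_eq_coheight (⟨Q, hQp⟩ : PrimeSpectrum B)
    have h5 : Order.height (⟨Q, hQp⟩ : PrimeSpectrum B) = (h : ℕ∞) := by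
      rw [← PrimeSpectrum.height_eq_orderHeight]
      show Q.height = h
      rw [h1, hh]
    rw [← h3, h4, ← h2, h5]
    push_cast
    rfl
  apply le_antisymm (ringKrullDim_quotient_le Pb)
  have hP := key Pb hPb
  show Order.krullDim (PrimeSpectrum (B ⧸ Ideal.map (algebraMap A B) p)) ≤ _
  unfold Order.krullDim
  refine iSup_le fun l => ?_
  obtain ⟨Qb, hQb, hQl⟩ := Ideal.exists_minimalPrimes_le (bot_le : ⊥ ≤ l.head.asIdeal)
  have hQbp : Qb.IsPrime := hQb.1.1
  have hQ := key Qb hQb
  have heqd : ringKrullDim ((B ⧸ Ideal.map (algebraMap A B) p) ⧸ Qb) =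
      ringKrullDim ((B ⧸ Ideal.map (algebraMap A B) p) ⧸ Pb) :=
    Groth.Agent.Helper5.VarDim.withBot_enat_add_left_cancel h _ _ (hQ.trans hP.symm)
  rw [← heqd, dimQuot_eq_coheight (⟨Qb, hQbp⟩ : PrimeSpectrum _)]
  have h1 : (l.length : ℕ∞) ≤ Order.coheight l.head := Order.length_le_coheight_head
  have h2 : Order.coheight l.head ≤ Order.coheight (⟨Qb, hQbp⟩ : PrimeSpectrum _) :=
    Order.coheight_anti (show (⟨Qb, hQbp⟩ : PrimeSpectrum _) ≤ l.head from hQl)
  exact_mod_cast h1.trans h2

end Groth.Agent.Helper5.FlatEquidim
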