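import Groth.Agent.Helper5.GenDim6
import Mathlib

set_option autoImplicit false
universe u
open CategoryTheory CategoryTheory.Limits AlgebraicGeometry TopologicalSpace

namespace Groth.Agent.Helper5.KDim

open Groth.Agent.Helper5.GenDim

theorem dim_set_le {T : Type*} [TopologicalSpace T] (A : Set T) :
    topologicalKrullDim ↥A ≤ topologicalKrullDim T :=
  Topology.IsInducing.subtypeVal.topologicalKrullDim_le

theorem dim_univ {T : Type*} [TopologicalSpace T] :
    topologicalKrullDim ↥(Set.univ : Set T) = topologicalKrullDim T :=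
  (Homeomorph.Set.univ T).isHomeomorph.topologicalKrullDim_eq

/-- (K1a) -/
theorem le_dim_of_resTrdeg {X S : Scheme.{u}} (p : X ⟶ S) [LocallyOfFiniteType p] (x : X) (n : ℕ)
    (hn : Dual3.resTrdeg p x = (n : Cardinal.{u})) :
    (n : WithBot ℕ∞) ≤ topologicalKrullDim ↥X :=
  (le_dim_of_mem p (p x) Set.univ isClosed_univ x ⟨rfl, trivial⟩ n hn).trans (dim_set_le _)

/-- (K1b) -/
theorem dim_le_of_resTrdeg_le (k : Type u) [Field k] {X : Scheme.{u}}
    (p : X ⟶ Spec (CommRingCat.of k)) [LocallyOfFiniteType p] (B : WithBot ℕ∞)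
    (h : ∀ (x : X) (n : ℕ), Dual3.resTrdeg p x = (n : Cardinal.{u}) → (n : WithBot ℕ∞) ≤ B) :
    topologicalKrullDim ↥X ≤ B := by
  by_cases hX : IsEmpty ↥X
  · have : IsEmpty (TopologicalSpace.IrreducibleCloseds ↥X) := by
      refine ⟨fun Z => ?_⟩
      obtain ⟨z, -⟩ := Z.isIrreducible.nonempty
      exact hX.false z
    rw [topologicalKrullDim, Order.krullDim_eq_bot]; exact bot_le
  rw [not_isEmpty_iff] at hX
  obtain ⟨x₀⟩ := hX
  have hsub : Subsingleton ↥(Spec (CommRingCat.of k)) :=
    inferInstanceAs (Subsingleton (PrimeSpectrum k))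
  have huniv : p ⁻¹' {p x₀} ∩ Set.univ = (Set.univ : Set ↥X) := by
    ext z
    simp only [Set.mem_inter_iff, Set.mem_preimage, Set.mem_singleton_iff, Set.mem_univ, and_true,
      iff_true]
    exact Subsingleton.elim _ _
  have := dim_fibre_inter_closed_le p (p x₀) Set.univ isClosed_univ B (fun ζ _ n hn => h ζ n hn)
  rw [huniv, dim_univ] at this
  exact this

/-- every point has a natural residue transcendence degree -/
theorem exists_resTrdeg_nat {X S : Scheme.{u}} (p : X ⟶ S) [LocallyOfFiniteType p] (x : X) :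
    ∃ n : ℕ, Dual3.resTrdeg p x = (n : Cardinal.{u}) := by
  obtain ⟨n, hn, -⟩ := dim_fibre_closure_point p x
  exact ⟨n, hn⟩

end Groth.Agent.Helper5.KDim
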