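import Groth.Agent.Helper5.ProdDim
import Groth.Agent.Helper5.EquiDim1
import Groth.Agent.Helper5.KDim1
import Groth.Agent.Helper5.DimFormula8

set_option autoImplicit false
universe u
open CategoryTheory CategoryTheory.Limits AlgebraicGeometry TopologicalSpace

namespace Groth.Agent.Helper5.CurveFin

/-- In a Noetherian scheme of dimension at most one, an infinite closed subset contains an
irreducible component of dimension one. -/
theorem exists_component_subset_of_infinite (X : Scheme.{u}) [NoetherianSpace X]
    (hdim : topologicalKrullDim X ≤ 1) (F : Set X) (hF : IsClosed F) (hinf : F.Infinite) :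
    ∃ Z ∈ irreducibleComponents (X : Type u), topologicalKrullDim ↥Z = 1 ∧ Z ⊆ F := by
  obtain ⟨S, hSf, hSc, hSi, hSU⟩ := NoetherianSpace.exists_finite_set_isClosed_irreducible hF
  obtain ⟨t, htS, htinf⟩ : ∃ t ∈ S, t.Infinite := by
    by_contra hcon
    push Not at hcon
    apply hinf
    rw [hSU]
    exact hSf.sUnion (fun t ht => hcon t ht)
  obtain ⟨ξ, hξ⟩ := QuasiSober.sober (hSi t htS) (hSc t htS)
  have hcl : closure ({ξ} : Set X) = t := hξ.def
  obtain ⟨a, hat, hane⟩ : ∃ a ∈ t, a ≠ ξ := by
    obtain ⟨x, hx, y, hy, hxy⟩ := htinf.nontrivial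
    by_cases h : x = ξ
    · exact ⟨y, hy, fun h' => hxy (h.trans h'.symm)⟩
    · exact ⟨x, hx, h⟩
  have hξa : ξ ⤳ a := by rw [specializes_iff_mem_closure, hcl]; exact hat
  have hlt : a < ξ := by
    refine lt_of_le_not_ge (Scheme.le_iff_specializes.2 hξa) ?_
    intro h2
    exact hane ((hξa.antisymm (Scheme.le_iff_specializes.1 h2)).eq).symm
  have hmax : ∀ ζ : X, ζ ⤳ ξ → ζ = ξ := by
    intro ζ hζ
    by_contra hne
    have hlt2 : ξ < ζ := by
      refine lt_of_le_not_ge (Scheme.le_iff_specializes.2 hζ) ?_
      intro h2
      exact hne ((hζ.antisymm (Scheme.le_iff_specializes.1 h2)).eq)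
    have h1 := Order.coheight_add_one_le hlt2
    have h2 := Order.coheight_add_one_le hlt
    have h3 : (2 : ℕ∞) ≤ Order.coheight a := by
      calc (2 : ℕ∞) = 0 + 1 + 1 := by norm_num
        _ ≤ Order.coheight ζ + 1 + 1 := by gcongr; exact zero_le
        _ ≤ Order.coheight ξ + 1 := by gcongr
        _ ≤ Order.coheight a := h2
    have h4 : ((Order.coheight a : ℕ∞) : WithBot ℕ∞) ≤ 1 :=
      ((Groth.Agent.Helper5.OverField.coheight_le_localDim X a).trans
        (Groth.Agent.Helper5.OverField.localDim_le_dim X a)).trans hdim
    have h5 : Order.coheight a ≤ 1 := by exact_mod_cast h4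
    have := h3.trans h5
    exact absurd this (by decide)
  refine ⟨t, hcl ▸ Groth.Agent.Helper5.DimFormula.closure_mem_irreducibleComponents ξ hmax, ?_, ?_⟩
  · apply le_antisymm
    · exact (Groth.Agent.Helper5.KDim.dim_set_le t).trans hdim
    · let l : LTSeries X := (RelSeries.singleton _ a).snoc ξ (by simpa using hlt)
      have hl : ∀ i, l i ∈ t := by
        intro i
        have hmem : l i ∈ l := ⟨i, rfl⟩
        rw [RelSeries.mem_snoc] at hmem
        rcases hmem with h | h
        · obtain ⟨j, hj⟩ := h
          have : l i = a := hj.symm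
          rw [this]; exact hat
        · rw [h, ← hcl]; exact subset_closure rfl
      have := Groth.Agent.Helper5.EquiDim.length_le_dim_of_forall_mem t l hl
      simpa [l] using this
  · rw [hSU]
    exact Set.subset_sUnion_of_mem htS

theorem s0219 (k : Type u) [Field k] (X Y : Scheme.{u}) (p : X ⟶ Spec (CommRingCat.of k))
    (q : Y ⟶ Spec (CommRingCat.of k))
    [IsProper p] [IsSeparated q] (f : X ⟶ Y) (hf : f ≫ q = p) (hdim : topologicalKrullDim X ≤ 1)
    (h : ∀ Z ∈ irreducibleComponents (X : Type u), topologicalKrullDim Z = 1 →
      (f.base '' Z).Nontrivial) :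
    IsFinite f := by
  have hpr : IsProper (f ≫ q) := hf ▸ ‹IsProper p›
  have hfp : IsProper f := IsProper.of_comp f q
  have hN : IsLocallyNoetherian X := LocallyOfFiniteType.isLocallyNoetherian p
  have hC : CompactSpace X := QuasiCompact.compactSpace_of_compactSpace p
  have hNoe : IsNoetherian X := {}
  have hNS : NoetherianSpace X := inferInstance
  -- generic points of components are finite in number
  let G : Set X := {x | closure ({x} : Set X) ∈ irreducibleComponents (X : Type u)}
  have hG : G.Finite := by
    have hfin : (irreducibleComponents (X : Type u)).Finite :=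
      NoetherianSpace.finite_irreducibleComponents
    refine Set.Finite.of_finite_image (f := fun x : X => closure ({x} : Set X))
      (hfin.subset ?_) ?_
    · rintro _ ⟨x, hx, rfl⟩
      exact hx
    · intro x _ y _ hxy
      have hxy' : closure ({x} : Set X) = closure {y} := hxy
      have h1 : y ⤳ x := by
        rw [specializes_iff_mem_closure, ← hxy']; exact subset_closure rfl
      have h2 : x ⤳ y := by
        rw [specializes_iff_mem_closure, hxy']; exact subset_closure rfl
      exact (h2.antisymm h1).eq
  have hfib : ∀ y, (f ⁻¹' {y}).Finite := by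
    intro y
    by_cases hsub : f ⁻¹' {y} ⊆ G
    · exact hG.subset hsub
    · rw [Set.not_subset] at hsub
      obtain ⟨x, hxy, hxG⟩ := hsub
      -- x is a closed point
      have hxcl : IsClosed ({x} : Set X) := by
        rw [← closure_subset_iff_isClosed]
        intro a ha
        by_contra hne
        have hxa : x ⤳ a := specializes_iff_mem_closure.mpr ha
        have hne' : a ≠ x := hne
        have hlt : a < x := by
          refine lt_of_le_not_ge (Scheme.le_iff_specializes.2 hxa) ?_
          intro h2
          exact hne' ((hxa.antisymm (Scheme.le_iff_specializes.1 h2)).eq).symm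
        apply hxG
        refine Groth.Agent.Helper5.DimFormula.closure_mem_irreducibleComponents x ?_
        intro ζ hζ
        by_contra hne2
        have hlt2 : x < ζ := by
          refine lt_of_le_not_ge (Scheme.le_iff_specializes.2 hζ) ?_
          intro h2
          exact hne2 ((hζ.antisymm (Scheme.le_iff_specializes.1 h2)).eq)
        have h1 := Order.coheight_add_one_le hlt2
        have h2 := Order.coheight_add_one_le hlt
        have h3 : (2 : ℕ∞) ≤ Order.coheight a := by
          calc (2 : ℕ∞) = 0 + 1 + 1 := by norm_num
            _ ≤ Order.coheight ζ + 1 + 1 := by gcongr; exact zero_le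
            _ ≤ Order.coheight x + 1 := by gcongr
            _ ≤ Order.coheight a := h2
        have h4 : ((Order.coheight a : ℕ∞) : WithBot ℕ∞) ≤ 1 :=
          ((Groth.Agent.Helper5.OverField.coheight_le_localDim X a).trans
            (Groth.Agent.Helper5.OverField.localDim_le_dim X a)).trans hdim
        have h5 : Order.coheight a ≤ 1 := by exact_mod_cast h4
        have := h3.trans h5
        exact absurd this (by decide)
      have hycl : IsClosed ({y} : Set Y) := by
        have := f.isClosedMap _ hxcl
        rw [Set.image_singleton, show f x = y from hxy] at this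
        exact this
      have hFcl : IsClosed (f ⁻¹' {y}) := hycl.preimage f.continuous
      by_contra hinf
      obtain ⟨Z, hZ, hZdim, hZsub⟩ :=
        exists_component_subset_of_infinite X hdim _ hFcl hinf
      obtain ⟨u, hu, v, hv, huv⟩ := h Z hZ hZdim
      obtain ⟨u', hu', rfl⟩ := hu
      obtain ⟨v', hv', rfl⟩ := hv
      exact huv ((hZsub hu').trans (hZsub hv').symm)
  have hq : LocallyQuasiFinite f := LocallyQuasiFinite.of_finite_preimage_singleton f hfib
  exact IsFinite.of_isProper_of_locallyQuasiFinite f

end Groth.Agent.Helper5.CurveFin
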