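import Mathlib

set_option autoImplicit false
set_option linter.unusedSectionVars false
set_option linter.style.haveILetI false
universe u

namespace Groth.Agent.Helper5.FracSurj

/-- an injective integral extension `D → B` of an integrally closed domain all of whose elements
are fractions of elements of `D` is surjective -/
theorem surjective_of_fraction {D B : Type u} [CommRing D] [CommRing B] [IsDomain D]
    [IsIntegrallyClosed D] [IsDomain B]
    (ι : D →+* B) (hι : Function.Injective ι)
    (hint : ∀ b : B, ι.IsIntegralElem b)
    (hfrac : ∀ b : B, ∃ c c₁ : D, c ≠ 0 ∧ ι c * b = ι c₁) :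
    Function.Surjective ι := by
  intro b
  obtain ⟨c, c₁, hc, hb⟩ := hfrac b
  letI : Algebra D B := ι.toAlgebra
  let L := FractionRing D
  let L' := FractionRing B
  have hinj : Function.Injective (algebraMap D L') := by
    rw [IsScalarTower.algebraMap_eq D B L']
    exact (IsFractionRing.injective B L').comp hι
  let g : L →ₐ[D] L' := IsFractionRing.liftAlgHom (g := Algebra.ofId D L') hinj
  have hg : ∀ x : D, g (algebraMap D L x) = algebraMap D L' x := fun x => g.commutes x
  let y : L := algebraMap D L c₁ / algebraMap D L c
  have hcL : algebraMap D L c ≠ 0 := by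
    rw [Ne, map_eq_zero_iff _ (IsFractionRing.injective D L)]
    exact hc
  have hcL' : algebraMap D L' c ≠ 0 := by
    rw [Ne, map_eq_zero_iff _ hinj]
    exact hc
  have hy : g y = algebraMap B L' b := by
    show g (algebraMap D L c₁ / algebraMap D L c) = _
    rw [map_div₀, hg, hg, div_eq_iff hcL']
    rw [IsScalarTower.algebraMap_apply D B L', IsScalarTower.algebraMap_apply D B L', ← map_mul]
    congr 1
    rw [mul_comm]
    exact hb.symm
  have hbint : IsIntegral D (algebraMap B L' b) := by
    have h1 : IsIntegral D b := hint b
    exact h1.map (IsScalarTower.toAlgHom D B L')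
  have hyint : IsIntegral D y := by
    rw [← hy] at hbint
    exact (isIntegral_algHom_iff g g.injective).1 hbint
  obtain ⟨δ, hδ⟩ := IsIntegrallyClosed.isIntegral_iff.1 hyint
  refine ⟨δ, ?_⟩
  have h1 : δ * c = c₁ := by
    apply IsFractionRing.injective D L
    rw [map_mul, hδ]
    exact div_mul_cancel₀ _ hcL
  have h2 : ι c ≠ 0 := by
    rw [Ne, map_eq_zero_iff _ hι]
    exact hc
  apply mul_left_cancel₀ h2
  rw [hb, ← map_mul, mul_comm, h1]

end Groth.Agent.Helper5.FracSurj
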