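import Mathlib
import Groth.Prelude.Def_Flat

set_option autoImplicit false
universe u
open CategoryTheory CategoryTheory.Limits AlgebraicGeometry TopologicalSpace MorphismProperty

namespace Groth.Agent.Helper5.UnivHomeo

/-- a morphism which is a homeomorphism on underlying spaces is affine -/
theorem isAffineHom_of_isHomeomorph {X Y : Scheme.{u}} (f : X ⟶ Y) (hf : IsHomeomorph f.base) :
    IsAffineHom f := by
  apply isAffineHom_of_forall_exists_isAffineOpen
  intro y
  obtain ⟨x, rfl⟩ := hf.surjective y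
  obtain ⟨V, hV, hxV⟩ : ∃ V : Y.Opens, IsAffineOpen V ∧ f x ∈ V := by
    obtain ⟨_, ⟨V, hV, rfl⟩, hxV, -⟩ := Y.isBasis_affineOpens.exists_subset_of_mem_open
      (Set.mem_univ (f x)) isOpen_univ
    exact ⟨V, hV, hxV⟩
  obtain ⟨U, hU, hxU, hUV⟩ : ∃ U : X.Opens, IsAffineOpen U ∧ x ∈ U ∧ U ≤ f ⁻¹ᵁ V := by
    obtain ⟨_, ⟨U, hU, rfl⟩, hxU, hUV⟩ := X.isBasis_affineOpens.exists_subset_of_mem_open
      (show x ∈ ((f ⁻¹ᵁ V : X.Opens) : Set X) from hxV) (f ⁻¹ᵁ V).isOpen
    exact ⟨U, hU, hxU, hUV⟩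
  let W : Y.Opens := ⟨f '' U, hf.isOpenMap _ U.isOpen⟩
  have hxW : f x ∈ W := ⟨x, hxU, rfl⟩
  obtain ⟨h, hh1, hh2⟩ := hV.exists_basicOpen_le ⟨f x, hxW⟩ hxV
  refine ⟨Y.basicOpen h, hh2, hV.basicOpen h, ?_⟩
  rw [Scheme.preimage_basicOpen]
  have hle : X.basicOpen (f.app V h) ≤ U := by
    rw [← Scheme.preimage_basicOpen]
    intro z hz
    obtain ⟨u, hu, huz⟩ := hh1 hz
    have : u = z := hf.injective huz
    rw [← this]
    exact hu
  have : X.basicOpen (f.app V h) =
      X.basicOpen (X.presheaf.map (homOfLE hUV).op (f.app V h)) := by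
    rw [Scheme.basicOpen_res]
    exact (inf_eq_right.2 hle).symm
  rw [this]
  exact hU.basicOpen _

theorem isUnivHomeo_iff {X Y : Scheme.{u}} (f : X ⟶ Y) :
    FlatMor.IsUnivHomeo f ↔ IsIntegralHom f ∧ UniversallyInjective f ∧ Surjective f := by
  constructor
  · intro h
    have hhomeo : IsHomeomorph f.base := h _ _ _ .of_id_snd
    have hinj : UniversallyInjective f := by
      constructor
      intro X' Y' i₁ i₂ f' hsq
      exact (h i₁ i₂ f' hsq).injective
    have hcl : UniversallyClosed f := by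
      constructor
      intro X' Y' i₁ i₂ f' hsq
      exact (h i₁ i₂ f' hsq).isClosedMap
    refine ⟨?_, hinj, ⟨hhomeo.surjective⟩⟩
    rw [IsIntegralHom.iff_universallyClosed_and_isAffineHom]
    exact ⟨hcl, isAffineHom_of_isHomeomorph f hhomeo⟩
  · rintro ⟨hint, hinj, hsurj⟩
    intro X' Y' i₁ i₂ f' hsq
    have h1 : IsIntegralHom f' := MorphismProperty.of_isPullback hsq.flip hint
    have h2 : UniversallyInjective f' := MorphismProperty.of_isPullback hsq.flip hinj
    have h3 : Surjective f' := MorphismProperty.of_isPullback hsq.flip hsurj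
    show IsHomeomorph f'.base
    rw [isHomeomorph_iff_continuous_isClosedMap_bijective]
    exact ⟨f'.continuous, f'.isClosedMap, f'.injective, f'.surjective⟩

end Groth.Agent.Helper5.UnivHomeo
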