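import Mathlib
import Groth.Prelude.Def_Pi1
import Groth.Agent.Helper5.UnivHomeo1
import Groth.Agent.Helper5.FracSurj
import Groth.Agent.Helper5.NormIso
import Groth.Agent.Helper5.NormKA

set_option autoImplicit false
set_option linter.unusedSectionVars false
set_option linter.style.haveILetI false
universe u

open AlgebraicGeometry CategoryTheory Opposite

namespace Groth.Agent.Helper5.RadBir

/-- elements of the residue field at a point of an affine open are fractions of sections -/
theorem exists_fraction_residueField {V : Scheme.{u}} (W : V.Opens) (hW : IsAffineOpen W) (y : V)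
    (hy : y ∈ W) (α : V.residueField y) :
    ∃ c c₁ : Γ(V, W), V.evaluation W y hy c ≠ 0 ∧
      V.evaluation W y hy c * α = V.evaluation W y hy c₁ := by
  obtain ⟨σ, rfl⟩ := V.residue_surjective y α
  letI : Algebra Γ(V, W) (V.presheaf.stalk y) := V.presheaf.algebra_section_stalk ⟨y, hy⟩
  haveI : IsLocalization.AtPrime (V.presheaf.stalk y) (hW.primeIdealOf ⟨y, hy⟩).asIdeal :=
    hW.isLocalization_stalk ⟨y, hy⟩
  obtain ⟨⟨a, s⟩, hs⟩ := IsLocalization.surj (hW.primeIdealOf ⟨y, hy⟩).asIdeal.primeCompl σ
  refine ⟨s.1, a, ?_, ?_⟩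
  · have hu : IsUnit (algebraMap Γ(V, W) (V.presheaf.stalk y) s.1) :=
      IsLocalization.map_units (V.presheaf.stalk y) s
    have : IsUnit (V.residue y (algebraMap Γ(V, W) (V.presheaf.stalk y) s.1)) :=
      hu.map (V.residue y).hom
    exact this.ne_zero
  · have := congrArg (V.residue y).hom hs
    rw [map_mul] at this
    rw [mul_comm]
    exact this


theorem surjective_of_closed_generic {U V : Scheme.{u}} [IsIntegral U] [IsIntegral V] (h : U ⟶ V)
    [UniversallyClosed h] (hgen : h.base (genericPoint U) = genericPoint V) :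
    Function.Surjective h.base := by
  have hcl : IsClosed (Set.range h.base) := h.isClosedMap.isClosed_range
  have hξ : genericPoint V ∈ Set.range h.base := ⟨genericPoint U, hgen⟩
  have h1 : closure ({genericPoint V} : Set V) ⊆ Set.range h.base :=
    closure_minimal (Set.singleton_subset_iff.2 hξ) hcl
  rw [(genericPoint_spec V).def] at h1
  intro y
  exact h1 (Set.mem_univ y)

theorem isIso_of_radicial_birational {U V : Scheme.{u}} [IsIntegral U] [IsIntegral V]
    (hN : Pi1.IsNormalScheme V) (h : U ⟶ V) [UniversallyClosed h]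
    [UniversallyInjective h] (hgen : h.base (genericPoint U) = genericPoint V)
    (hbir : Function.Bijective (h.residueFieldMap (genericPoint U)).hom) :
    IsIso h := by
  have hsurj := surjective_of_closed_generic h hgen
  have hhomeo : IsHomeomorph h.base := by
    rw [isHomeomorph_iff_continuous_isClosedMap_bijective]
    exact ⟨h.continuous, h.isClosedMap, h.injective, hsurj⟩
  haveI : IsAffineHom h := Groth.Agent.Helper5.UnivHomeo.isAffineHom_of_isHomeomorph h hhomeo
  haveI : IsIntegralHom h := by
    rw [IsIntegralHom.iff_universallyClosed_and_isAffineHom]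
    exact ⟨inferInstance, inferInstance⟩
  haveI : IsDominant h := ⟨hsurj.denseRange⟩
  haveI : IsSchemeTheoreticallyDominant h := IsSchemeTheoreticallyDominant.of_isDominant h
  refine (IsZariskiLocalAtTarget.iff_of_iSup_eq_top
    (P := MorphismProperty.isomorphisms Scheme) _ (iSup_affineOpens_eq_top V)).2 ?_
  rintro ⟨W, hW⟩
  show IsIso (h ∣_ W)
  have hW' : IsAffineOpen (h ⁻¹ᵁ W) := hW.preimage h
  apply Groth.Agent.Helper5.NormIso.isIso_morphismRestrict h _ hW hW'
  refine ⟨h.app_injective _, ?_⟩
  by_cases hne : Nonempty W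
  · have hneW : Nonempty (h ⁻¹ᵁ W) := by
      obtain ⟨⟨y, hy⟩⟩ := hne
      obtain ⟨x, rfl⟩ := hsurj y
      exact ⟨⟨x, hy⟩⟩
    haveI : IsDomain Γ(V, W) := @IsIntegral.component_integral V _ W hne
    haveI : IsDomain Γ(U, h ⁻¹ᵁ W) := @IsIntegral.component_integral U _ (h ⁻¹ᵁ W) hneW
    haveI : IsIntegrallyClosed Γ(V, W) :=
      Groth.Agent.Helper5.NormKA.isIntegrallyClosed_of_stalks _ hW (fun y _ => (hN y).2)
    have hξW : h.base (genericPoint U) ∈ W := by
      rw [hgen]
      exact ((genericPoint_spec V).mem_open_set_iff W.isOpen).2 ⟨hne.some.1, trivial, hne.some.2⟩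
    apply Groth.Agent.Helper5.FracSurj.surjective_of_fraction (h.app W).hom (h.app_injective _)
      (IsIntegralHom.isIntegral_app h W hW)
    intro b
    obtain ⟨α, hα⟩ := hbir.2 (U.evaluation (h ⁻¹ᵁ W) (genericPoint U) hξW b)
    obtain ⟨c, c₁, hc, hcα⟩ := exists_fraction_residueField W hW _ hξW α
    refine ⟨c, c₁, ?_, ?_⟩
    · rintro rfl
      exact hc (map_zero _)
    · have h1 := congrArg (h.residueFieldMap (genericPoint U)).hom hcα
      rw [map_mul] at h1
      have e1 := Scheme.evaluation_naturality_apply h (genericPoint U) hξW c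
      have e2 := Scheme.evaluation_naturality_apply h (genericPoint U) hξW c₁
      have h2 : U.evaluation (h ⁻¹ᵁ W) (genericPoint U) hξW ((h.app W).hom c * b) =
          U.evaluation (h ⁻¹ᵁ W) (genericPoint U) hξW ((h.app W).hom c₁) := by
        rw [map_mul]
        rw [← hα]
        exact (congrArg (· * _) e1.symm).trans (h1.trans e2)
      have hinj : Function.Injective (U.evaluation (h ⁻¹ᵁ W) (genericPoint U) hξW) := by
        have hg : Function.Injective (U.presheaf.germ (h ⁻¹ᵁ W) (genericPoint U) hξW) :=
          germ_injective_of_isIntegral U (genericPoint U) hξW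
        have hr : Function.Injective (U.residue (genericPoint U)).hom :=
          (IsLocalRing.residue U.functionField).injective
        intro s t hst
        exact hg (hr hst)
      exact hinj h2
  · have hW0 : W = ⊥ := by
      ext x
      simp only [SetLike.mem_coe]
      constructor
      · intro hx
        exact (hne ⟨⟨x, hx⟩⟩).elim
      · intro hx
        exact hx.elim
    subst hW0
    haveI : Subsingleton Γ(U, h ⁻¹ᵁ ⊥) := inferInstanceAs (Subsingleton Γ(U, ⊥))
    intro b
    exact ⟨0, Subsingleton.elim _ _⟩

end Groth.Agent.Helper5.RadBir
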