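import Mathlib
import Groth.Prelude.Def_Pi1
import Groth.Agent.Helper5.RadBir
import Groth.Agent.Helper5.CurveFin1

set_option autoImplicit false
set_option linter.unusedSectionVars false
set_option linter.style.haveILetI false
universe u

open AlgebraicGeometry CategoryTheory Opposite

namespace Groth.Agent.Helper5.RadBir

theorem isIso_of_integral_birational {U V : Scheme.{u}} [IsIntegral U] [IsIntegral V]
    (hN : Pi1.IsNormalScheme V) (h : U ⟶ V) [IsIntegralHom h]
    (hgen : h.base (genericPoint U) = genericPoint V)
    (hbir : Function.Bijective (h.residueFieldMap (genericPoint U)).hom) :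
    IsIso h := by
  have hsurj := surjective_of_closed_generic h hgen
  haveI : IsDominant h := ⟨hsurj.denseRange⟩
  haveI : IsSchemeTheoreticallyDominant h := IsSchemeTheoreticallyDominant.of_isDominant h
  refine (IsZariskiLocalAtTarget.iff_of_iSup_eq_top
    (P := MorphismProperty.isomorphisms Scheme) _ (iSup_affineOpens_eq_top V)).2 ?_
  rintro ⟨W, hW⟩
  show IsIso (h ∣_ W)
  have hW' : IsAffineOpen (h ⁻¹ᵁ W) := hW.preimage h
  apply Groth.Agent.Helper5.NormIso.isIso_morphismRestrict h _ hW hW'
  refine ⟨h.app_injective _, ?_⟩
  by_cases hne : Nonempty W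
  · have hneW : Nonempty (h ⁻¹ᵁ W) := by
      obtain ⟨⟨y, hy⟩⟩ := hne
      obtain ⟨x, rfl⟩ := hsurj y
      exact ⟨⟨x, hy⟩⟩
    haveI : IsDomain Γ(V, W) := @IsIntegral.component_integral V _ W hne
    haveI : IsDomain Γ(U, h ⁻¹ᵁ W) := @IsIntegral.component_integral U _ (h ⁻¹ᵁ W) hneW
    haveI : IsIntegrallyClosed Γ(V, W) :=
      Groth.Agent.Helper5.NormKA.isIntegrallyClosed_of_stalks _ hW (fun y _ => (hN y).2)
    have hξW : h.base (genericPoint U) ∈ W := by
      rw [hgen]
      exact ((genericPoint_spec V).mem_open_set_iff W.isOpen).2 ⟨hne.some.1, trivial, hne.some.2⟩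
    apply Groth.Agent.Helper5.FracSurj.surjective_of_fraction (h.app W).hom (h.app_injective _)
      (IsIntegralHom.isIntegral_app h W hW)
    intro b
    obtain ⟨α, hα⟩ := hbir.2 (U.evaluation (h ⁻¹ᵁ W) (genericPoint U) hξW b)
    obtain ⟨c, c₁, hc, hcα⟩ := exists_fraction_residueField W hW _ hξW α
    refine ⟨c, c₁, ?_, ?_⟩
    · rintro rfl
      exact hc (map_zero _)
    · have h1 := congrArg (h.residueFieldMap (genericPoint U)).hom hcα
      rw [map_mul] at h1
      have e1 := Scheme.evaluation_naturality_apply h (genericPoint U) hξW c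
      have e2 := Scheme.evaluation_naturality_apply h (genericPoint U) hξW c₁
      have h2 : U.evaluation (h ⁻¹ᵁ W) (genericPoint U) hξW ((h.app W).hom c * b) =
          U.evaluation (h ⁻¹ᵁ W) (genericPoint U) hξW ((h.app W).hom c₁) := by
        rw [map_mul]
        rw [← hα]
        exact (congrArg (· * _) e1.symm).trans (h1.trans e2)
      have hinj : Function.Injective (U.evaluation (h ⁻¹ᵁ W) (genericPoint U) hξW) := by
        have hg : Function.Injective (U.presheaf.germ (h ⁻¹ᵁ W) (genericPoint U) hξW) :=
          germ_injective_of_isIntegral U (genericPoint U) hξW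
        have hr : Function.Injective (U.residue (genericPoint U)).hom :=
          (IsLocalRing.residue U.functionField).injective
        intro s t hst
        exact hg (hr hst)
      exact hinj h2
  · have hW0 : W = ⊥ := by
      ext x
      simp only [SetLike.mem_coe]
      constructor
      · intro hx
        exact (hne ⟨⟨x, hx⟩⟩).elim
      · intro hx
        exact hx.elim
    subst hW0
    haveI : Subsingleton Γ(U, h ⁻¹ᵁ ⊥) := inferInstanceAs (Subsingleton Γ(U, ⊥))
    intro b
    exact ⟨0, Subsingleton.elim _ _⟩

/-- the residue field map at a point where the stalk map is an isomorphism is bijective -/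
theorem residueFieldMap_bijective_of_isIso_stalkMap {X Y : Scheme.{u}} (f : X ⟶ Y) (x : X)
    (h : IsIso (f.stalkMap x)) : Function.Bijective (f.residueFieldMap x).hom := by
  have hbij : Function.Bijective (f.stalkMap x).hom :=
    (ConcreteCategory.isIso_iff_bijective (f.stalkMap x)).1 h
  constructor
  · exact (f.residueFieldMap x).hom.injective
  · intro z
    obtain ⟨s, rfl⟩ := X.residue_surjective x z
    obtain ⟨t, rfl⟩ := hbij.2 s
    refine ⟨Y.residue (f x) t, ?_⟩
    have := congrArg (fun g => g.hom t) (Scheme.residue_residueFieldMap f x)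
    simpa using this

theorem s7830 (k : Type u) [Field k] {C' C : Scheme.{u}}
    (p' : C' ⟶ Spec (CommRingCat.of k)) (p : C ⟶ Spec (CommRingCat.of k))
    [IsIntegral C'] [IsProper p'] (h1' : topologicalKrullDim C' = 1)
    [IsIntegral C] [IsSeparated p] (h1 : topologicalKrullDim C = 1)
    (hN : Pi1.IsNormalScheme C) (f : C' ⟶ C) (hf : f ≫ p = p')
    (hdom : f.base (genericPoint C') = genericPoint C)
    (hdeg : IsIso (f.stalkMap (genericPoint C'))) : IsIso f := by
  have hpr : IsProper (f ≫ p) := hf ▸ ‹IsProper p'›
  haveI hfp : IsProper f := IsProper.of_comp f p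
  have hsurj := surjective_of_closed_generic f hdom
  have hnt : Nontrivial C := by
    by_contra hcon
    rw [not_nontrivial_iff_subsingleton] at hcon
    have : topologicalKrullDim C ≤ 0 := by
      unfold topologicalKrullDim
      haveI : Subsingleton (TopologicalSpace.IrreducibleCloseds C) := by
        refine ⟨fun Z₁ Z₂ => ?_⟩
        apply TopologicalSpace.IrreducibleCloseds.ext
        ext x
        obtain ⟨a, ha⟩ := Z₁.isIrreducible.nonempty
        obtain ⟨b, hb⟩ := Z₂.isIrreducible.nonempty
        constructor
        · intro _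
          rw [Subsingleton.elim x b]; exact hb
        · intro _
          rw [Subsingleton.elim x a]; exact ha
      exact Order.krullDim_nonpos_of_subsingleton
    rw [h1] at this
    exact absurd this (by norm_num)
  haveI : IsFinite f := by
    refine Groth.Agent.Helper5.CurveFin.s0219 k C' C p' p f hf h1'.le ?_
    intro Z hZ _
    rw [irreducibleComponents_eq_singleton, Set.mem_singleton_iff] at hZ
    subst hZ
    rw [Set.image_univ, hsurj.range_eq]
    exact Set.nontrivial_univ
  exact isIso_of_integral_birational hN f hdom
    (residueFieldMap_bijective_of_isIso_stalkMap f _ hdeg)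

end Groth.Agent.Helper5.RadBir
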