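import Groth.Agent.Helper2.DepthCM

set_option autoImplicit false
universe u
open IsLocalRing

namespace Groth.Agent.Helper5.DepthOne

/-- A Noetherian local domain in which the "fraction" `a / b` is not integral but becomes integral
after localizing at every non-maximal prime has depth one. -/
theorem depth_eq_one (A : Type u) [CommRing A] [IsDomain A] [IsNoetherianRing A] [IsLocalRing A]
    (a b : A) (hb : b ≠ 0) (hab : ∀ c : A, a ≠ b * c)
    (h : ∀ p : Ideal A, p.IsPrime → p ≠ maximalIdeal A → ∃ t : A, t ∉ p ∧ ∃ c : A, t * a = b * c) :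
    LocCoh.depth A A = 1 := by
  have hbm : b ∈ maximalIdeal A := by
    rw [mem_maximalIdeal]
    intro hu
    obtain ⟨u, rfl⟩ := hu
    exact hab (↑u⁻¹ * a) (by rw [← mul_assoc, Units.mul_inv, one_mul])
  let M := QuotSMulTop b A
  let abar : M := Submodule.Quotient.mk a
  have hmemN : ∀ y : A, (Submodule.Quotient.mk y : M) = 0 ↔ ∃ c : A, y = b * c := by
    intro y
    rw [Submodule.Quotient.mk_eq_zero, Submodule.mem_smul_pointwise_iff_exists]
    constructor
    · rintro ⟨c, -, hc⟩
      exact ⟨c, hc.symm⟩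
    · rintro ⟨c, hc⟩
      exact ⟨c, trivial, hc.symm⟩
  have habar : abar ≠ 0 := by
    intro h0
    obtain ⟨c, hc⟩ := (hmemN a).1 h0
    exact hab c hc
  have hnt : Nontrivial M := ⟨⟨abar, 0, habar⟩⟩
  obtain ⟨P, hP, hle⟩ := exists_le_isAssociatedPrime_of_isNoetherianRing (R := A) abar habar
  have hPprime : P.IsPrime := hP.isPrime
  have hPm : P = maximalIdeal A := by
    by_contra hne
    obtain ⟨t, htP, c, hc⟩ := h P hPprime hne
    apply htP
    apply hle
    rw [Submodule.mem_colon_singleton, Submodule.mem_bot]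
    show t • (Submodule.Quotient.mk a : M) = 0
    rw [← Submodule.Quotient.mk_smul, hmemN]
    exact ⟨c, hc⟩
  have hass : maximalIdeal A ∈ associatedPrimes A M := hPm ▸ hP
  have hnreg : ∀ x ∈ maximalIdeal A, ¬ IsSMulRegular M x := fun x hx =>
    Groth.Agent.Helper2.Depth.not_regular_of_mem_ass A M _ hass x hx
  have hd0 : LocCoh.depth A M = 0 := (Groth.Agent.Helper2.Depth.depth_eq_zero_iff A M).2 hnreg
  have hreg : IsSMulRegular A b := by
    intro x y hxy
    exact mul_left_cancel₀ hb hxy
  have hIM : maximalIdeal A • (⊤ : Submodule A A) ≠ ⊤ :=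
    Groth.Agent.Helper2.Depth.smul_top_ne_top A A
  have key := Groth.Agent.Helper2.DepthCM.idealDepth_quotSMulTop (maximalIdeal A) A hIM b hbm hreg
  unfold LocCoh.depth at hd0 ⊢
  rw [← key, hd0, zero_add]

end Groth.Agent.Helper5.DepthOne
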