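import Mathlib
import Groth.Agent.Helper5.QfAff1
import Groth.Agent.Helper5.LscDim6

/-!
# S7625 : affine neighbourhood with a quasi-finite morphism to affine space over an affine open
-/

set_option autoImplicit false
set_option linter.style.haveILetI false
universe u

namespace Groth.Agent.Helper5.QfAff

open AlgebraicGeometry CategoryTheory CategoryTheory.Limits TopologicalSpace

theorem s7625 {X S : Scheme.{u}} (f : X ⟶ S) [LocallyOfFiniteType f] (x : ↥X)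
    (V : S.Opens) (hV : IsAffineOpen V) (hxV : f x ∈ V) (d : ℕ) (hd : FlatMor.fibreDimAt f x = d) :
    ∃ (U : X.Opens), IsAffineOpen U ∧ x ∈ U ∧
      ∃ (g : (U : Scheme.{u}) ⟶ (V : Scheme.{u})) (π : (U : Scheme.{u}) ⟶ 𝔸(ULift.{u} (Fin d); (V : Scheme.{u}))),
        g ≫ V.ι = U.ι ≫ f ∧ π ≫ (𝔸(ULift.{u} (Fin d); (V : Scheme.{u})) ↘ (V : Scheme.{u})) = g ∧
          LocallyQuasiFinite π ∧ LocallyOfFiniteType π := by
  let X' : Scheme.{u} := ↑(f ⁻¹ᵁ V)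
  let f' : X' ⟶ (V : Scheme.{u}) := f ∣_ V
  let x' : X' := ⟨x, hxV⟩
  have hd' : FlatMor.fibreDimAt f' x' = (d : WithBot ℕ∞) := by
    rw [Groth.Agent.Helper5.LscDim.fibreDimAt_morphismRestrict]
    exact hd
  obtain ⟨U', g', hx'U', -, hover, hlqf⟩ := exists_lqf_to_affineSpace f' x' d hd' ⊤ trivial
  obtain ⟨_, ⟨U'' : X'.Opens, hU'', rfl⟩, hx'U'', hU''U'⟩ :=
    X'.isBasis_affineOpens.exists_subset_of_mem_open hx'U' U'.2
  let j : X' ⟶ X := (f ⁻¹ᵁ V).ι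
  let U : X.Opens := j ''ᵁ U''
  let iso : (U'' : Scheme.{u}) ≅ (U : Scheme.{u}) := j.isoImage U''
  have hiso : iso.inv ≫ U''.ι ≫ j = U.ι := j.isoImage_inv_ι U''
  let r : (U'' : Scheme.{u}) ⟶ (U' : Scheme.{u}) := X'.homOfLE hU''U'
  have hr : r ≫ U'.ι = U''.ι := X'.homOfLE_ι hU''U'
  haveI : LocallyOfFiniteType (g' ≫ (𝔸(ULift.{u} (Fin d); (V : Scheme.{u})) ↘ (V : Scheme.{u}))) := by
    rw [hover]; infer_instance
  haveI : LocallyOfFiniteType g' := locallyOfFiniteType_of_comp g'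
    (𝔸(ULift.{u} (Fin d); (V : Scheme.{u})) ↘ (V : Scheme.{u}))
  refine ⟨U, hU''.image_of_isOpenImmersion j, ⟨x', hx'U'', rfl⟩, iso.inv ≫ U''.ι ≫ f',
    iso.inv ≫ r ≫ g', ?_, ?_, inferInstance, inferInstance⟩
  · have h1 : f' ≫ V.ι = j ≫ f := morphismRestrict_ι f V
    calc (iso.inv ≫ U''.ι ≫ f') ≫ V.ι = iso.inv ≫ U''.ι ≫ (f' ≫ V.ι) := by
          simp only [Category.assoc]
      _ = (iso.inv ≫ U''.ι ≫ j) ≫ f := by rw [h1]; simp only [Category.assoc]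
      _ = U.ι ≫ f := by rw [hiso]
  · calc (iso.inv ≫ r ≫ g') ≫ (𝔸(ULift.{u} (Fin d); (V : Scheme.{u})) ↘ (V : Scheme.{u}))
        = iso.inv ≫ r ≫ (g' ≫ (𝔸(ULift.{u} (Fin d); (V : Scheme.{u})) ↘ (V : Scheme.{u}))) := by
          simp only [Category.assoc]
      _ = iso.inv ≫ (r ≫ U'.ι) ≫ f' := by rw [hover]; simp only [Category.assoc]
      _ = iso.inv ≫ U''.ι ≫ f' := by rw [hr]

end Groth.Agent.Helper5.QfAff
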