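import Groth.Agent.S1146
import Mathlib

set_option autoImplicit false
set_option linter.style.haveILetI false
set_option linter.unusedSectionVars false
set_option linter.unusedVariables false
universe u
open CategoryTheory CategoryTheory.Limits AlgebraicGeometry Opposite TopologicalSpace

namespace Groth.Agent.Helper5.FinThick

set_option backward.isDefEq.respectTransparency.types false in
/-- if `g ≫ f` is separated and `g` is surjective and universally closed then `f` is separated -/
theorem isSeparated_of_comp {X Y Z : Scheme.{u}} (g : X ⟶ Y) (f : Y ⟶ Z) [IsSeparated (g ≫ f)]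
    [hgs : Surjective g] [hgc : UniversallyClosed g] : IsSeparated f := by
  let gg := pullback.map (g ≫ f) (g ≫ f) f f g g (𝟙 Z) (by simp) (by simp)
  have hgg : UniversallyClosed gg :=
    MorphismProperty.pullbackMap (P := @UniversallyClosed) hgc hgc rfl rfl
  have hcomm : pullback.diagonal (g ≫ f) ≫ gg = g ≫ pullback.diagonal f := by
    apply pullback.hom_ext
    · simp only [Category.assoc, gg]
      rw [pullback.lift_fst, ← Category.assoc, pullback.diagonal_fst, Category.id_comp,
        pullback.diagonal_fst, Category.comp_id]
    · simp only [Category.assoc, gg]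
      rw [pullback.lift_snd, ← Category.assoc, pullback.diagonal_snd, Category.id_comp,
        pullback.diagonal_snd, Category.comp_id]
  have hrange : Set.range (pullback.diagonal f) =
      gg '' (Set.range (pullback.diagonal (g ≫ f))) := by
    ext p
    constructor
    · rintro ⟨y, rfl⟩
      obtain ⟨x, rfl⟩ := hgs.surj y
      refine ⟨(pullback.diagonal (g ≫ f)) x, ⟨x, rfl⟩, ?_⟩
      rw [← Scheme.Hom.comp_apply, hcomm, Scheme.Hom.comp_apply]
    · rintro ⟨_, ⟨x, rfl⟩, rfl⟩
      exact ⟨g x, by rw [← Scheme.Hom.comp_apply, ← hcomm, Scheme.Hom.comp_apply]⟩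
  have hcl : IsClosed (Set.range (pullback.diagonal f)) := by
    rw [hrange]
    exact gg.isClosedMap _ (pullback.diagonal (g ≫ f)).isClosedEmbedding.isClosed_range
  constructor
  exact IsClosedImmersion.of_isPreimmersion _ hcl

set_option backward.isDefEq.respectTransparency.types false in
/-- finiteness of an etale morphism can be checked on a thickening of the base -/
theorem isFinite_of_thickening {S S₀ : Scheme.{u}} (i : S₀ ⟶ S) [IsClosedImmersion i] [Surjective i]
    {W : Scheme.{u}} (f : W ⟶ S) [Etale f] (h : IsFinite (pullback.snd f i)) : IsFinite f := by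
  let g := pullback.fst f i
  have hcomp : g ≫ f = pullback.snd f i ≫ i := pullback.condition
  haveI : IsFinite (g ≫ f) := by
    rw [hcomp]
    infer_instance
  haveI : Surjective g := inferInstanceAs (Surjective (pullback.fst f i))
  haveI : IsClosedImmersion g := inferInstanceAs (IsClosedImmersion (pullback.fst f i))
  haveI : UniversallyClosed f := UniversallyClosed.of_comp_surjective g f
  haveI : IsSeparated f := isSeparated_of_comp g f
  haveI : LocallyQuasiFinite f := Groth.Agent.S1146.lqf_of_etale f
  haveI : IsProper f := {}
  exact (IsFinite.iff_isProper_and_locallyQuasiFinite (f := f)).mpr ⟨inferInstance, inferInstance⟩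

end Groth.Agent.Helper5.FinThick
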