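import Groth.Agent.Helper5.TopInv1
import Groth.Agent.Helper4.EtaleLift
import Groth.Agent.Helper2.SpfAdic
import Mathlib

set_option autoImplicit false
set_option linter.style.haveILetI false
set_option linter.unusedSectionVars false
set_option linter.unusedVariables false
universe u
open CategoryTheory CategoryTheory.Limits AlgebraicGeometry Opposite TopologicalSpace

namespace Groth.Agent.Helper5.TopInv

variable {S S₀ : Scheme.{u}} (i : S₀ ⟶ S) [IsClosedImmersion i]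

set_option backward.isDefEq.respectTransparency.types false in
set_option maxHeartbeats 800000 in
/-- local lifts of etale schemes along a closed immersion -/
theorem exists_local_chart {X₀ : Over S₀} [Etale X₀.hom] (x₀ : X₀.left) :
    ∃ (U : Over S) (w : (Over.pullback i).obj U ⟶ X₀), Etale U.hom ∧ IsOpenImmersion w.left ∧
      x₀ ∈ Set.range w.left := by
  obtain ⟨R, hR, hsR, -⟩ := (Opens.isBasis_iff_nbhd.mp S.isBasis_affineOpens)
    (show i (X₀.hom x₀) ∈ (⊤ : S.Opens) from trivial)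
  have hR : IsAffineOpen R := hR
  have hR₀ : IsAffineOpen (i ⁻¹ᵁ R) := hR.preimage i
  obtain ⟨Q, hQ, hxQ, hQle⟩ := (Opens.isBasis_iff_nbhd.mp X₀.left.isBasis_affineOpens)
    (show x₀ ∈ X₀.hom ⁻¹ᵁ (i ⁻¹ᵁ R) from hsR)
  have hQ : IsAffineOpen Q := hQ
  have hQle : Q ≤ X₀.hom ⁻¹ᵁ (i ⁻¹ᵁ R) := hQle
  let φ : Γ(S, R) ⟶ Γ(S₀, i ⁻¹ᵁ R) := i.app R
  have hφ : Function.Surjective φ.hom := i.app_surjective R hR
  let ψ₀ : Γ(S₀, i ⁻¹ᵁ R) ⟶ Γ(X₀.left, Q) := X₀.hom.appLE (i ⁻¹ᵁ R) Q hQle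
  have hψ₀ : ψ₀.hom.Etale :=
    HasRingHomProperty.appLE (P := @Etale) X₀.hom inferInstance ⟨_, hR₀⟩ ⟨Q, hQ⟩ hQle
  letI : Algebra Γ(S, R) Γ(S₀, i ⁻¹ᵁ R) := φ.hom.toAlgebra
  letI : Algebra Γ(S₀, i ⁻¹ᵁ R) Γ(X₀.left, Q) := ψ₀.hom.toAlgebra
  letI : Algebra Γ(S, R) Γ(X₀.left, Q) := (φ ≫ ψ₀).hom.toAlgebra
  haveI : IsScalarTower Γ(S, R) Γ(S₀, i ⁻¹ᵁ R) Γ(X₀.left, Q) :=
    IsScalarTower.of_algebraMap_eq fun _ => rfl
  haveI : Algebra.Etale Γ(S₀, i ⁻¹ᵁ R) Γ(X₀.left, Q) := RingHom.etale_algebraMap.mp hψ₀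
  obtain ⟨B, _, _, ψ, hB, hψs, hψk⟩ :=
    Groth.Agent.Helper4.EtaleLift.exists_etale_lift' Γ(S, R) Γ(S₀, i ⁻¹ᵁ R) Γ(X₀.left, Q) hφ
  let ιB : Γ(S, R) ⟶ CommRingCat.of B := CommRingCat.ofHom (algebraMap Γ(S, R) B)
  let ψc : CommRingCat.of B ⟶ Γ(X₀.left, Q) := CommRingCat.ofHom ψ.toRingHom
  have hpo : IsPushout ιB φ ψc ψ₀ :=
    Groth.Agent.Helper2.SpfAdic.isPushout_of_surjective (algebraMap Γ(S, R) B) φ.hom ψ.toRingHom
      ψ₀.hom (by
        ext a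
        exact ψ.commutes a) hφ hψs (le_of_eq hψk)
  have sq1 : IsPullback (Spec.map ψc) (Spec.map ψ₀) (Spec.map ιB) (Spec.map φ) :=
    isPullback_SpecMap_of_isPushout _ _ _ _ hpo
  have sq2 : IsPullback (Spec.map φ) hR₀.fromSpec hR.fromSpec i := by
    refine IsOpenImmersion.isPullback _ _ _ _ ?_ ?_
    · have := IsAffineOpen.SpecMap_appLE_fromSpec i hR hR₀ le_rfl
      rw [← this, ← Scheme.Hom.app_eq_appLE]
    · rw [hR.opensRange_fromSpec, hR₀.opensRange_fromSpec]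
  have sq := sq1.paste_vert sq2
  have e0 : Spec.map ψ₀ ≫ hR₀.fromSpec = hQ.fromSpec ≫ X₀.hom :=
    IsAffineOpen.SpecMap_appLE_fromSpec X₀.hom hR₀ hQ hQle
  rw [e0] at sq
  let U : Over S := Over.mk (Spec.map ιB ≫ hR.fromSpec)
  let e : Spec Γ(X₀.left, Q) ≅ pullback U.hom i := sq.isoPullback
  have he2 : e.hom ≫ pullback.snd U.hom i = hQ.fromSpec ≫ X₀.hom := sq.isoPullback_hom_snd
  let w : (Over.pullback i).obj U ⟶ X₀ := Over.homMk (e.inv ≫ hQ.fromSpec) (by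
    show (e.inv ≫ hQ.fromSpec) ≫ X₀.hom = pullback.snd U.hom i
    rw [Category.assoc, ← he2, Iso.inv_hom_id_assoc])
  refine ⟨U, w, ?_, ?_, ?_⟩
  · show Etale (Spec.map ιB ≫ hR.fromSpec)
    haveI : Etale (Spec.map ιB) :=
      (HasRingHomProperty.Spec_iff (P := @Etale)).mpr (RingHom.etale_algebraMap.mpr hB)
    infer_instance
  · show IsOpenImmersion (e.inv ≫ hQ.fromSpec)
    infer_instance
  · have hx : x₀ ∈ Set.range hQ.fromSpec := by
      rw [hQ.range_fromSpec]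
      exact hxQ
    obtain ⟨q, hq⟩ := hx
    refine ⟨e.hom q, ?_⟩
    show (e.inv ≫ hQ.fromSpec) (e.hom q) = x₀
    rw [Scheme.Hom.comp_apply, ← Scheme.Hom.comp_apply e.hom e.inv, e.hom_inv_id]
    exact hq

end Groth.Agent.Helper5.TopInv
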