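import Groth.Prelude.Def_StCurv2
import Mathlib

set_option autoImplicit false
set_option linter.style.haveILetI false
universe u
open CategoryTheory CategoryTheory.Limits AlgebraicGeometry Opposite

namespace Groth.Agent.Helper5.GeomFibSp

open AlgSp

variable {S : Scheme.{u}}

theorem isPullback_of_yon_map {A B C D : Over S} {a : A ⟶ B} {b : A ⟶ C} {c : B ⟶ D} {d : C ⟶ D}
    (h : IsPullback ((yon S).map a) ((yon S).map b) ((yon S).map c) ((yon S).map d)) :
    IsPullback a b c d := by
  refine IsPullback.of_map (yon S) ?_ h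
  apply (yon S).map_injective
  simp only [Functor.map_comp]
  exact h.w

theorem isPullback_left {A B C D : Over S} {a : A ⟶ B} {b : A ⟶ C} {c : B ⟶ D} {d : C ⟶ D}
    (h : IsPullback a b c d) : IsPullback a.left b.left c.left d.left :=
  h.map (Over.forget S)

theorem isPullback_of_left {A B C D : Over S} {a : A ⟶ B} {b : A ⟶ C} {c : B ⟶ D} {d : C ⟶ D}
    (w : a ≫ c = b ≫ d)
    (h : IsPullback a.left b.left c.left d.left) : IsPullback a b c d :=
  IsPullback.of_map (Over.forget S) w h

/-- For a family of schemes, the geometric fibres of the associated family of sheaves are the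
scheme-theoretic geometric fibres. -/
theorem geomFib_toSpFam_iff {n : ℕ} (A : CurvSt.PtFamObj S n)
    (P' : ∀ (Ω : Type u) [Field Ω] [IsAlgClosed Ω] (X' : Scheme.{u}),
      (X' ⟶ Spec (CommRingCat.of Ω)) → Prop) :
    CurvSt.GeomFib (fun Ω _ _ X' q _ => P' Ω X' q) ((CurvSt.toSpFam S n).obj A) ↔
    ∀ (Ω : Type u) [Field Ω] [IsAlgClosed Ω] (t : Spec (CommRingCat.of Ω) ⟶ A.base.left)
      (X' : Scheme.{u}) (q : X' ⟶ Spec (CommRingCat.of Ω)) (i₀ : X' ⟶ A.C),
      IsPullback i₀ q A.f t → P' Ω X' q := by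
  constructor
  · intro H Ω _ _ t X' q i₀ h
    have hw : i₀ ≫ A.f ≫ A.base.hom = (q ≫ t) ≫ A.base.hom := by
      rw [← Category.assoc, h.w, Category.assoc]
    let i₁ : Over.mk ((q ≫ t) ≫ A.base.hom) ⟶ A.totOver := Over.homMk i₀ hw
    have hsq : IsPullback i₁
        (Over.homMk q (by simp only [Over.mk_hom, Category.assoc]) :
          Over.mk ((q ≫ t) ≫ A.base.hom) ⟶ Over.mk (t ≫ A.base.hom))
        A.fOver (Over.homMk t rfl : Over.mk (t ≫ A.base.hom) ⟶ A.base) := by
      apply isPullback_of_left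
      · ext
        exact h.w
      · exact h
    exact H Ω t X' q ((yon S).map i₁) (hsq.map (yon S))
  · intro H Ω _ _ t X' q i hP
    obtain ⟨i₁, rfl⟩ := (yon S).map_surjective i
    have h1 := isPullback_left
      (isPullback_of_yon_map hP)
    exact H Ω t X' q i₁.left h1

end Groth.Agent.Helper5.GeomFibSp
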