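import Groth.Agent.Helper5.ZarGlue3
import Groth.Agent.Helper5.GeomFibSp1
import Mathlib

set_option autoImplicit false
set_option linter.style.haveILetI false
set_option linter.unusedSectionVars false
set_option linter.unusedVariables false
universe u
open CategoryTheory CategoryTheory.Limits AlgebraicGeometry Opposite

namespace Groth.Agent.Helper5.ZarGlue

open AlgSp Functor.relativelyRepresentable

variable {S : Scheme.{u}}

/-- a jointly surjective family of open immersions is an fppf covering -/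
theorem ofArrows_mem_of_openCover {T : Over S} {ι : Type u} (T' : ι → Over S) (t : ∀ i, T' i ⟶ T)
    (ht : ∀ i, IsOpenImmersion (t i).left) (hcov : ∀ x : T.left, ∃ i, x ∈ Set.range (t i).left) :
    Sieve.ofArrows T' t ∈ J S T := by
  rw [J_eq, GrothendieckTopology.mem_over_iff, Sieve.overEquiv_ofArrows]
  have h1 : Scheme.zariskiTopology.{u} ≤ Scheme.fppfTopology :=
    Precoverage.toGrothendieck_mono Scheme.zariskiPrecoverage_le_fppfPrecoverage
  apply h1
  apply Precoverage.generate_mem_toGrothendieck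
  rw [Scheme.ofArrows_mem_precoverage_iff]
  exact ⟨hcov, ht⟩

/-- absolute gluing, packaged -/
theorem exists_glue {F : Sp S} {ι : Type u} {X : ι → Over S}
    (f : ∀ i, (yon S).obj (X i) ⟶ F) (hf : ∀ i, RepWith @IsOpenImmersion (f i))
    (hsurj : ∀ (U : Over S) (s : (yon S).obj U ⟶ F), ∃ R ∈ J S U, ∀ ⦃V : Over S⦄ (γ : V ⟶ U),
      R γ → ∃ (i : ι) (a : V ⟶ X i), (yon S).map γ ≫ s = (yon S).map a ≫ f i) :
    ∃ (W : Over S) (e : (yon S).obj W ≅ F) (k : ∀ i, X i ⟶ W),
      (∀ i, (yon S).map (k i) ≫ e.hom = f i) ∧ (∀ i, IsOpenImmersion (k i).left) ∧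
      ∀ x : W.left, ∃ i, x ∈ Set.range (k i).left := by
  haveI := isIso_gluedToSheaf f hf hsurj
  refine ⟨glued f hf, asIso (gluedToSheaf f hf), toGlued f hf, ?_, ?_, ?_⟩
  · intro i
    exact toGlued_gluedToSheaf f hf i
  · intro i
    infer_instance
  · intro x
    obtain ⟨i, y, hy⟩ := (glueData f hf).ι_jointly_surjective x
    exact ⟨i, y, hy⟩

/-- relative gluing: a sheaf over a scheme which is representable over the members of an open
cover is representable -/
theorem exists_glue_rel {P : Sp S} {T : Over S} (p : P ⟶ (yon S).obj T) {ι : Type u}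
    (T' : ι → Over S) (t : ∀ i, T' i ⟶ T) (ht : ∀ i, IsOpenImmersion (t i).left)
    (hcov : ∀ x : T.left, ∃ i, x ∈ Set.range (t i).left)
    (W : ι → Over S) (w : ∀ i, W i ⟶ T' i) (f : ∀ i, (yon S).obj (W i) ⟶ P)
    (sq : ∀ i, IsPullback (f i) ((yon S).map (w i)) p ((yon S).map (t i))) :
    ∃ (W₀ : Over S) (e : (yon S).obj W₀ ≅ P) (w₀ : W₀ ⟶ T) (k : ∀ i, W i ⟶ W₀),
      e.hom ≫ p = (yon S).map w₀ ∧ (∀ i, (yon S).map (k i) ≫ e.hom = f i) ∧
      ∀ i, IsPullback (k i) (w i) w₀ (t i) := by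
  have hf : ∀ i, RepWith @IsOpenImmersion (f i) := fun i =>
    MorphismProperty.of_isPullback (sq i).flip
      ((repWith_yon_map_iff @IsOpenImmersion (t i)).2 (ht i))
  have hsurj : ∀ (U : Over S) (s : (yon S).obj U ⟶ P), ∃ R ∈ J S U, ∀ ⦃V : Over S⦄ (γ : V ⟶ U),
      R γ → ∃ (i : ι) (a : V ⟶ W i), (yon S).map γ ≫ s = (yon S).map a ≫ f i := by
    intro U s
    obtain ⟨τ, hτ⟩ := (yon S).map_surjective (s ≫ p)
    refine ⟨Sieve.pullback τ (Sieve.ofArrows T' t),
      (J S).pullback_stable τ (ofArrows_mem_of_openCover T' t ht hcov), ?_⟩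
    rintro V γ ⟨Z, b, _, ⟨i⟩, fac⟩
    have e1 : ((yon S).map γ ≫ s) ≫ p = (yon S).map b ≫ (yon S).map (t i) := by
      rw [Category.assoc, ← hτ, ← Functor.map_comp, ← Functor.map_comp, fac]
    obtain ⟨l, hl1, hl2⟩ := (sq i).exists_lift _ _ e1
    obtain ⟨a, rfl⟩ := (yon S).map_surjective l
    exact ⟨i, a, hl1.symm⟩
  obtain ⟨W₀, e, k, hk, -, -⟩ := exists_glue f hf hsurj
  obtain ⟨w₀, hw₀⟩ := (yon S).map_surjective (e.hom ≫ p)
  refine ⟨W₀, e, w₀, k, hw₀.symm, hk, ?_⟩
  intro i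
  apply Groth.Agent.Helper5.GeomFibSp.isPullback_of_yon_map
  rw [hw₀]
  refine IsPullback.of_iso (sq i) (Iso.refl _) e.symm (Iso.refl _) (Iso.refl _) ?_ ?_ ?_ ?_
  · rw [← hk i]; simp
  · simp
  · simp
  · simp

end Groth.Agent.Helper5.ZarGlue
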