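import Groth.Agent.Helper5.TopInv4
import Groth.Agent.Helper5.TopInv5
import Groth.Agent.Helper5.ZarGlue4
import Mathlib

set_option autoImplicit false
set_option linter.style.haveILetI false
set_option linter.unusedSectionVars false
set_option linter.unusedVariables false
universe u
open CategoryTheory CategoryTheory.Limits AlgebraicGeometry Opposite TopologicalSpace

namespace Groth.Agent.Helper5.TopInv

open AlgSp Groth.Agent.Helper4.AlgSpOpenImage Groth.Agent.Helper4.AlgSpBasic

variable {S S₀ : Scheme.{u}} (i : S₀ ⟶ S)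

theorem pb_map_left_fst' {T T' : Over S} (g : T' ⟶ T) :
    ((Over.pullback i).map g).left ≫ pullback.fst T.hom i = pullback.fst T'.hom i ≫ g.left :=
  pullback.lift_fst _ _ _

section Rho

variable [Mono i]

/-- `Y ×_S S₀ ⟶ Y` for `Y` over `S₀` -/
noncomputable def rho (Y : Over S₀) : (Over.pullback i).obj ((Over.map i).obj Y) ⟶ Y :=
  Over.homMk (pullback.fst (Y.hom ≫ i) i) (by
    rw [← cancel_mono i, Category.assoc]
    exact pullback.condition)

noncomputable def eta (Y : Over S₀) : Y ⟶ (Over.pullback i).obj ((Over.map i).obj Y) :=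
  Over.homMk (pullback.lift (𝟙 _) Y.hom (by simp)) (pullback.lift_snd _ _ _)

theorem eta_rho (Y : Over S₀) : eta i Y ≫ rho i Y = 𝟙 Y := by
  ext
  exact pullback.lift_fst _ _ _

theorem rho_left (Y : Over S₀) : (rho i Y).left = pullback.fst (Y.hom ≫ i) i := rfl

theorem eta_left_fst (Y : Over S₀) :
    (eta i Y).left ≫ pullback.fst (Y.hom ≫ i) i = 𝟙 _ := pullback.lift_fst _ _ _

theorem pb_map_rho {Y Y' : Over S₀} (α : Y ⟶ Y') :
    (Over.pullback i).map ((Over.map i).map α) ≫ rho i Y' = rho i Y ≫ α := by
  ext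
  exact pb_map_left_fst' i ((Over.map i).map α)

end Rho

set_option backward.isDefEq.respectTransparency.types false in
/-- if `W` represents `i_* h_{X₀}` then `W ×_S S₀ ≅ X₀` -/
theorem isIso_of_rep [Mono i] {X₀ : Over S₀} (W : Over S) (e : (yon S).obj W ≅ pushF i X₀) :
    IsIso (secEquiv i X₀ W e.hom) := by
  set α := secEquiv i X₀ W e.hom with hα
  obtain ⟨b, hb⟩ := (yon S).map_surjective
    ((secEquiv i X₀ ((Over.map i).obj X₀)).symm (rho i X₀) ≫ e.inv)
  have hb' : (Over.pullback i).map b ≫ α = rho i X₀ := by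
    rw [hα, ← secEquiv_comp, hb, Category.assoc, e.inv_hom_id, Category.comp_id,
      Equiv.apply_symm_apply]
  let W₀ := (Over.pullback i).obj W
  let jW : (Over.map i).obj W₀ ⟶ W := Over.homMk (pullback.fst W.hom i) pullback.condition
  have hjW : (Over.pullback i).map jW = rho i W₀ := by
    ext
    apply pullback.hom_ext
    · exact pb_map_left_fst' i jW
    · have e1 : ((Over.pullback i).map jW).left ≫ pullback.snd W.hom i =
          pullback.snd (W₀.hom ≫ i) i := Over.w ((Over.pullback i).map jW)
      have e2 : (rho i W₀).left ≫ pullback.snd W.hom i = pullback.snd (W₀.hom ≫ i) i :=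
        Over.w (rho i W₀)
      rw [e1, e2]
  have hc : jW = (Over.map i).map α ≫ b := by
    apply (yon S).map_injective
    rw [← cancel_mono e.hom]
    apply (secEquiv i X₀ _).injective
    rw [secEquiv_comp, secEquiv_comp, ← hα, hjW, Functor.map_comp, Category.assoc, hb', pb_map_rho]
  refine ⟨eta i X₀ ≫ (Over.pullback i).map b, ?_, ?_⟩
  · ext
    apply pullback.hom_ext
    · show (α.left ≫ (eta i X₀).left ≫ ((Over.pullback i).map b).left) ≫ pullback.fst W.hom i =
        𝟙 _ ≫ pullback.fst W.hom i
      rw [Category.assoc, Category.assoc, pb_map_left_fst', ← Category.assoc (eta i X₀).left]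
      have : (eta i X₀).left ≫ pullback.fst ((Over.map i).obj X₀).hom i = 𝟙 _ := eta_left_fst i X₀
      rw [this, Category.id_comp, Category.id_comp]
      have := congrArg (fun f => (f.left : _ ⟶ _)) hc
      exact this.symm
    · have e1 : (α ≫ eta i X₀ ≫ (Over.pullback i).map b).left ≫ pullback.snd W.hom i =
          pullback.snd W.hom i := Over.w (α ≫ eta i X₀ ≫ (Over.pullback i).map b)
      rw [e1]
      exact (Category.id_comp _).symm
  · rw [Category.assoc, hb', eta_rho]

variable [IsClosedImmersion i] [Surjective i]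

set_option backward.isDefEq.respectTransparency.types false in
/-- essential surjectivity of base change of etale schemes along a thickening -/
theorem exists_etale_lift {X₀ : Over S₀} [Etale X₀.hom] :
    ∃ (W : Over S), Etale W.hom ∧ Nonempty ((Over.pullback i).obj W ≅ X₀) := by
  choose U w hU hw hx using exists_local_chart i (X₀ := X₀)
  haveI : ∀ k, Etale (U k).hom := hU
  haveI : ∀ k, IsOpenImmersion (w k).left := hw
  obtain ⟨W, e, k, hk1, hk2, hk3⟩ := Groth.Agent.Helper5.ZarGlue.exists_glue
    (fun x => chart i (w x)) (fun x => repWith_chart i (w x))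
    (hsurj_charts i U w (fun x => ⟨x, hx x⟩))
  haveI := isIso_of_rep i W e
  refine ⟨W, ?_, ⟨asIso (secEquiv i X₀ W e.hom)⟩⟩
  let 𝒰 : W.left.OpenCover := Scheme.Cover.mkOfCovers X₀.left (fun x => (U x).left)
    (fun x => (k x).left) (fun y => by
      obtain ⟨x, z, hz⟩ := hk3 y
      exact ⟨x, z, hz⟩) (fun x => hk2 x)
  refine IsZariskiLocalAtSource.of_openCover (P := @Etale) 𝒰 (fun x => ?_)
  show Etale ((k x).left ≫ W.hom)
  rw [Over.w]
  exact hU x

end Groth.Agent.Helper5.TopInv
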