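import Groth.Prelude.Def_W4bk5brsh16IT
import Mathlib.Algebra.Category.ModuleCat.FilteredColimits
import Mathlib.CategoryTheory.Limits.ConcreteCategory.Basic
import Mathlib.CategoryTheory.Limits.FunctorCategory.Basic

universe u
open CategoryTheory CategoryTheory.Limits Opposite LocCoh

namespace Groth.Agent.Helper5.DTApi

variable {R : Type u} [CommRing R] (I : Ideal R)

instance instPresSmall : PreservesFilteredColimitsOfSize.{0,0} (forget (ModuleCat.{u} R)) :=
  preservesFilteredColimitsOfSize_shrink.{0,u,0,u} _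

/-- The colimit cocone at `M`. -/
noncomputable def coconeAt (M : ModuleCat.{u} R) :
    Cocone (transformDiagram I ⋙ (evaluation _ _).obj M) :=
  ((evaluation _ _).obj M).mapCocone (colimit.cocone (transformDiagram I))

noncomputable def isColimitAt (M : ModuleCat.{u} R) : IsColimit (coconeAt I M) :=
  isColimitOfPreserves ((evaluation _ _).obj M) (colimit.isColimit (transformDiagram I))

/-- leg of the colimit -/
noncomputable def ι (M : ModuleCat.{u} R) (n : ℕ) :
    (ModuleCat.of R ↥(I ^ n) ⟶ M) →ₗ[R] ((idealTransform I).obj M) :=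
  ((colimit.ι (transformDiagram I) (op (op n))).app M).hom

/-- restriction of a hom along `I^m ≤ I^n`. -/
def res (M : ModuleCat.{u} R) {n m : ℕ} (h : n ≤ m) (f : ModuleCat.of R ↥(I ^ n) ⟶ M) :
    ModuleCat.of R ↥(I ^ m) ⟶ M :=
  ModuleCat.ofHom (Submodule.inclusion (Ideal.pow_le_pow_right h)) ≫ f

theorem exists_rep (M : ModuleCat.{u} R) (x : (idealTransform I).obj M) :
    ∃ (n : ℕ) (f : ModuleCat.of R ↥(I ^ n) ⟶ M), ι I M n f = x := by
  obtain ⟨j, y, hy⟩ := Concrete.isColimit_exists_rep _ (isColimitAt I M) x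
  exact ⟨j.unop.unop, y, hy⟩

theorem ι_res (M : ModuleCat.{u} R) {n m : ℕ} (h : n ≤ m) (f : ModuleCat.of R ↥(I ^ n) ⟶ M) :
    ι I M m (res I M h f) = ι I M n f := by
  have w := colimit.w (transformDiagram I) (show (op (op n) : ℕᵒᵖᵒᵖ) ⟶ op (op m) from
    (homOfLE h).op.op)
  have w2 := congrArg (fun t => (t.app M).hom f) w
  simp only [NatTrans.comp_app, ModuleCat.hom_comp] at w2
  exact w2

theorem ι_eq_iff (M : ModuleCat.{u} R) {n m : ℕ} (f : ModuleCat.of R ↥(I ^ n) ⟶ M)
    (g : ModuleCat.of R ↥(I ^ m) ⟶ M) :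
    ι I M n f = ι I M m g ↔ ∃ (k : ℕ) (hn : n ≤ k) (hm : m ≤ k), res I M hn f = res I M hm g := by
  constructor
  · intro h
    obtain ⟨k, a, b, hk⟩ := (Concrete.isColimit_rep_eq_iff_exists
      (transformDiagram I ⋙ (evaluation _ _).obj M) (isColimitAt I M)
      (i := op (op n)) (j := op (op m)) f g).mp h
    refine ⟨k.unop.unop, leOfHom a.unop.unop, leOfHom b.unop.unop, ?_⟩
    exact hk
  · rintro ⟨k, hn, hm, h⟩
    rw [← ι_res I M hn, ← ι_res I M hm, h]

theorem ι_eq_zero_iff (M : ModuleCat.{u} R) {n : ℕ} (f : ModuleCat.of R ↥(I ^ n) ⟶ M) :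
    ι I M n f = 0 ↔ ∃ (k : ℕ) (hn : n ≤ k), res I M hn f = 0 := by
  have h0 : (0 : (idealTransform I).obj M) = ι I M n 0 := by simp
  rw [h0, ι_eq_iff]
  constructor
  · rintro ⟨k, hn, hm, h⟩
    refine ⟨k, hn, ?_⟩
    rw [h]; simp [res]
  · rintro ⟨k, hn, h⟩
    exact ⟨k, hn, hn, by rw [h]; simp [res]⟩

theorem map_ι {M N : ModuleCat.{u} R} (φ : M ⟶ N) (n : ℕ) (f : ModuleCat.of R ↥(I ^ n) ⟶ M) :
    ((idealTransform I).map φ).hom (ι I M n f) = ι I N n (f ≫ φ) := by
  have w := (colimit.ι (transformDiagram I) (op (op n))).naturality φ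
  have w2 := congrArg (fun t => t.hom f) w
  simp only [ModuleCat.hom_comp] at w2
  exact w2.symm

theorem toDT_apply (M : Type u) [AddCommGroup M] [Module R M] (m : M) :
    toDT I M m = ι I (ModuleCat.of R M) 0 (smulHom (I ^ 0) (ModuleCat.of R M) m) := rfl

theorem smulHom_apply (J : Ideal R) (M : ModuleCat.{u} R) (m : M) (r : J) :
    (smulHom J M m).hom r = (r : R) • m := rfl

end Groth.Agent.Helper5.DTApi
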