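import Groth.Agent.Helper5.NormDepth1
import Groth.Agent.Helper5.DimIneq2
import Groth.Agent.Helper2.DepthCM4
import Groth.Prelude.Def_Pi1

set_option autoImplicit false
universe u
open CategoryTheory AlgebraicGeometry IsLocalRing RingTheory.Sequence

namespace Groth.Agent.Helper5.NormCM

/-- a normal Noetherian local domain of dimension at most two is Cohen–Macaulay -/
theorem cm_of_normal_dim_le_two (A : Type u) [CommRing A] [IsDomain A] [IsNoetherianRing A]
    [IsLocalRing A] [IsIntegrallyClosed A] (hdim : ringKrullDim A ≤ 2) :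
    LocCoh.IsCohenMacaulayLocalRing A := by
  refine ⟨?_⟩
  rw [Module.supportDim_self_eq_ringKrullDim]
  have hle : ((LocCoh.depth A A : ℕ∞) : WithBot ℕ∞) ≤ ringKrullDim A := by
    have := Groth.Agent.Helper2.DepthCM4.depth_le_supportDim (A := A) A
    rwa [Module.supportDim_self_eq_ringKrullDim] at this
  apply le_antisymm _ hle
  have hIM : maximalIdeal A • (⊤ : Submodule A A) ≠ ⊤ :=
    Groth.Agent.Helper2.Depth.smul_top_ne_top A A
  have hfin : LocCoh.depth A A ≠ ⊤ :=
    Groth.Agent.Helper2.DepthCM.idealDepth_ne_top (maximalIdeal A) A hIM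
  obtain ⟨n, hn⟩ := ENat.ne_top_iff_exists.1 hfin
  by_cases hfield : IsField A
  · -- dimension zero
    let _ := hfield.toField
    rw [ringKrullDim_eq_zero_of_field]
    exact_mod_cast zero_le
  · -- a nonzero element of the maximal ideal is regular
    have hm : maximalIdeal A ≠ ⊥ := fun h => hfield (IsLocalRing.isField_iff_maximalIdeal_eq.2 h)
    obtain ⟨b, hbm, hb0⟩ := Submodule.exists_mem_ne_zero_of_ne_bot hm
    have hreg : IsSMulRegular A b := fun x y hxy => mul_left_cancel₀ hb0 hxy
    have h1 : (1 : ℕ∞) ≤ LocCoh.depth A A := by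
      have := Groth.Agent.Helper2.DepthCM3.length_le_idealDepth (I := maximalIdeal A) (M := A) [b]
        ((isWeaklyRegular_singleton_iff A b).2 hreg) (by simpa using hbm)
      unfold LocCoh.depth
      simpa using this
    by_cases h2 : LocCoh.depth A A = 1
    · have hdvr := NormDepth.isDiscreteValuationRing_of_depth_one A h2
      rw [IsDiscreteValuationRing.ringKrullDim_eq_one, h2]
      rfl
    · have h3 : (2 : ℕ∞) ≤ LocCoh.depth A A := by
        rw [← hn] at h1 h2 ⊢
        have h1' : 1 ≤ n := by exact_mod_cast h1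
        have h2' : n ≠ 1 := by
          intro h
          apply h2
          rw [h]
          rfl
        have : 2 ≤ n := by omega
        exact_mod_cast this
      refine hdim.trans ?_
      have h4 : ((2 : ℕ∞) : WithBot ℕ∞) ≤ ((LocCoh.depth A A : ℕ∞) : WithBot ℕ∞) :=
        WithBot.coe_le_coe.2 h3
      exact h4

theorem s9801 (X : Scheme.{u}) [IsLocallyNoetherian X] (hN : Pi1.IsNormalScheme X)
    (hd : topologicalKrullDim X ≤ 2) (x : X) :
    LocCoh.IsCohenMacaulayLocalRing (X.presheaf.stalk x) := by
  have := (hN x).1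
  have := (hN x).2
  exact cm_of_normal_dim_le_two _ ((Groth.Agent.Helper5.DimIneq.ringKrullDim_stalk_le_dim X x).trans hd)

end Groth.Agent.Helper5.NormCM
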