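import Mathlib
import Groth.Agent.Helper5.CMFib1
import Groth.Agent.Helper2.DepthLocHom
import Groth.Agent.Lead.PuncSec

set_option autoImplicit false
set_option linter.style.haveILetI false
universe u
open CategoryTheory CategoryTheory.Limits AlgebraicGeometry TopologicalSpace Topology TensorProduct

namespace Groth.Agent.Helper5.RelDepth

section Ring

variable (A B : Type u) [CommRing A] [CommRing B] [IsNoetherianRing A] [IsLocalRing A]
  [Algebra A B] [IsLocalRing B] [IsNoetherianRing B] [IsLocalHom (algebraMap A B)]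

/-- depth formula for a flat local homomorphism, with the closed fibre as a ring -/
theorem depth_eq_add_fibRing [Module.Flat A B] :
    LocCoh.depth B B = LocCoh.depth A A +
      LocCoh.depth (B ⧸ (IsLocalRing.maximalIdeal A).map (algebraMap A B))
        (B ⧸ (IsLocalRing.maximalIdeal A).map (algebraMap A B)) := by
  have h := Groth.Agent.Helper6.FlatCM.depth_eq_add_fib (R := A) (S := B)
  rw [h]
  congr 1
  haveI : Nontrivial (EGA4.FibMod A B B) := Groth.Agent.Helper6.FlatCM.fibMod_nontrivial' B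
  haveI : IsLocalHom (algebraMap B (EGA4.FibRing A B)) :=
    IsLocalHom.of_surjective _ Ideal.Quotient.mk_surjective
  have hne : LocCoh.depth B (EGA4.FibMod A B B) ≠ ⊤ :=
    Groth.Agent.Helper2.DepthCM.idealDepth_ne_top (IsLocalRing.maximalIdeal B) _
      (Groth.Agent.Helper2.Depth.smul_top_ne_top B _)
  obtain ⟨s, hs⟩ := ENat.ne_top_iff_exists.mp hne
  have hdepth : LocCoh.depth (EGA4.FibRing A B) (EGA4.FibMod A B B) = s :=
    Groth.Agent.Helper2.DepthLocHom.key B (EGA4.FibRing A B) s (EGA4.FibMod A B B) hs.symm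
  rw [← hs, ← hdepth]
  unfold LocCoh.depth
  exact Groth.Agent.Helper2.DepthCM.idealDepth_congr
    (IsLocalRing.maximalIdeal (EGA4.FibRing A B)) (Groth.Agent.Helper5.CMFib.fibModEquiv A B)

end Ring

/-- depth formula at a point of a flat morphism -/
theorem depth_stalk_eq {X S : Scheme.{u}} [IsLocallyNoetherian X] [IsLocallyNoetherian S]
    (f : X ⟶ S) [Flat f] (x : X) :
    LocCoh.depth ↑(X.presheaf.stalk x) ↑(X.presheaf.stalk x) =
      LocCoh.depth ↑(S.presheaf.stalk (f x)) ↑(S.presheaf.stalk (f x)) +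
        LocCoh.depth ↑(CInt.fiberStalk f x) ↑(CInt.fiberStalk f x) := by
  letI : Algebra (S.presheaf.stalk (f x)) (X.presheaf.stalk x) := (f.stalkMap x).hom.toAlgebra
  haveI : IsLocalHom (algebraMap (S.presheaf.stalk (f x)) (X.presheaf.stalk x)) :=
    inferInstanceAs (IsLocalHom (f.stalkMap x).hom)
  obtain ⟨e⟩ := Groth.Agent.Helper5.CMFib.fibre_stalk_equiv' f x
  haveI : Module.Flat (S.presheaf.stalk (f x)) (X.presheaf.stalk x) := Flat.stalkMap f x
  rw [depth_eq_add_fibRing (S.presheaf.stalk (f x)) (X.presheaf.stalk x)]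
  congr 1
  haveI : IsNoetherianRing ↑(CInt.fiberStalk f x) :=
    isNoetherianRing_of_ringEquiv _ e
  exact Groth.Agent.Lead.PuncSec.depth_eq_of_ringEquiv e

theorem s14104 {X S : Scheme.{u}} [IsLocallyNoetherian X] [IsLocallyNoetherian S]
    (f : X ⟶ S) [Flat f] (Y : Set ↥X) (d : ℕ)
    (h : ∀ y : ↥X, y ∈ Y → (d : ℕ∞) ≤ LocCoh.depth ↑(CInt.fiberStalk f y) ↑(CInt.fiberStalk f y)) :
    ∀ y : ↥X, y ∈ Y → (d : ℕ∞) ≤ LocCoh.depth ↑(X.presheaf.stalk y) ↑(X.presheaf.stalk y) := by
  intro y hy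
  rw [depth_stalk_eq f y]
  exact (h y hy).trans le_add_self

end Groth.Agent.Helper5.RelDepth
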