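import Mathlib

namespace Groth.Agent.Helper5.TopDim

theorem isIrreducible_preimage_val {X : Type*} [TopologicalSpace X] (C Z : Set X) (hZC : Z ⊆ C)
    (hZ : IsIrreducible Z) : IsIrreducible ((Subtype.val : C → X) ⁻¹' Z) := by
  obtain ⟨⟨z, hz⟩, hpre⟩ := hZ
  refine ⟨⟨⟨z, hZC hz⟩, hz⟩, ?_⟩
  intro U' V' hU' hV' hU'ne hV'ne
  obtain ⟨U, hU, rfl⟩ := isOpen_induced_iff.mp hU'
  obtain ⟨V, hV, rfl⟩ := isOpen_induced_iff.mp hV'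
  obtain ⟨a, haZ, haU⟩ := hU'ne
  obtain ⟨b, hbZ, hbV⟩ := hV'ne
  obtain ⟨w, hwZ, hwU, hwV⟩ := hpre U V hU hV ⟨a, haZ, haU⟩ ⟨b, hbZ, hbV⟩
  exact ⟨⟨w, hZC hwZ⟩, hwZ, hwU, hwV⟩

end Groth.Agent.Helper5.TopDim
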