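import Groth.Agent.Helper5.UCat4
import Groth.Prelude.Def_Cyc

set_option autoImplicit false
universe u
open AlgebraicGeometry CategoryTheory TopologicalSpace

namespace Groth.Agent.Helper5.UCat

open Groth.Agent.Helper5.DimFormula

/-- A dimension function drops by the codimension along a specialisation, when the interval has
finite dimension `c`. -/
theorem dimFun_sub_eq {S : Scheme.{u}} (δ : ↥S → ℤ) (hδ : Cyc.IsDimFun S δ) (s t : S)
    (hst : s ⤳ t) (c : ℕ) (hc : Order.krullDim ↥(Set.Icc t s) = c) :
    δ s = δ t + c := by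
  let I := ↥(Set.Icc t s)
  have hts : t ≤ s := Scheme.le_iff_specializes.2 hst
  let top : I := ⟨s, hts, le_rfl⟩
  let bot : I := ⟨t, le_rfl, hts⟩
  have htop : Order.height top = (c : ℕ∞) := by
    have h1 : Order.krullDim I = ⨆ a : I, ((Order.height a : ℕ∞) : WithBot ℕ∞) :=
      Order.krullDim_eq_iSup_height
    have h2 : (⨆ a : I, ((Order.height a : ℕ∞) : WithBot ℕ∞)) =
        ((Order.height top : ℕ∞) : WithBot ℕ∞) := by
      apply le_antisymm
      · refine iSup_le fun a => ?_
        have : a ≤ top := a.2.2
        exact_mod_cast Order.height_mono this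
      · exact le_iSup (fun a : I => ((Order.height a : ℕ∞) : WithBot ℕ∞)) top
    rw [h2] at h1
    rw [hc] at h1
    exact_mod_cast h1.symm
  obtain ⟨c0, hlast, hlen, hhead⟩ := exists_covSeries_of_height_eq top c htop
  have hheadt : (c0.head).1 = t := by
    have hmin : IsMin c0.head := Order.height_eq_zero.1 hhead
    have h1 : c0.head ≤ bot := hmin (show bot ≤ c0.head from c0.head.2.1)
    have h2 : bot ≤ c0.head := c0.head.2.1
    exact ((Scheme.le_iff_specializes.1 h2).antisymm (Scheme.le_iff_specializes.1 h1)).eq
  have key : ∀ i : ℕ, ∀ hi : i < c0.length + 1, δ (c0 ⟨i, hi⟩).1 = δ t + i := by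
    intro i
    induction i with
    | zero =>
      intro hi
      have : (c0 ⟨0, hi⟩) = c0.head := rfl
      rw [this, hheadt]
      simp
    | succ i ih =>
      intro hi
      have hi' : i < c0.length := by omega
      have hstep := c0.step ⟨i, hi'⟩
      have hcov : c0 (Fin.castSucc ⟨i, hi'⟩) ⋖ c0 (Fin.succ ⟨i, hi'⟩) := hstep
      let u := c0 (Fin.castSucc ⟨i, hi'⟩)
      let v := c0 (Fin.succ ⟨i, hi'⟩)
      have huv : u < v := hcov.1
      have hsp : v.1 ⤳ u.1 := Scheme.le_iff_specializes.1 huv.le
      have hne : v.1 ≠ u.1 := by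
        intro h
        have : v ≤ u := by
          show v.1 ≤ u.1
          rw [h]
        exact huv.not_ge this
      have himm : ∀ z : S, v.1 ⤳ z → z ⤳ u.1 → z = v.1 ∨ z = u.1 := by
        intro z hz1 hz2
        have hzI : z ∈ Set.Icc t s :=
          ⟨le_trans u.2.1 (Scheme.le_iff_specializes.2 hz2),
            le_trans (Scheme.le_iff_specializes.2 hz1) v.2.2⟩
        let z' : I := ⟨z, hzI⟩
        have h1 : u ≤ z' := Scheme.le_iff_specializes.2 hz2
        have h2 : z' ≤ v := Scheme.le_iff_specializes.2 hz1
        by_cases h3 : z' ≤ u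
        · right
          exact ((Scheme.le_iff_specializes.1 h3).antisymm
            (Scheme.le_iff_specializes.1 h1)).eq.symm
        · have h3' : u < z' := lt_of_le_not_ge h1 h3
          by_cases h4 : v ≤ z'
          · left
            exact ((Scheme.le_iff_specializes.1 h4).antisymm
              (Scheme.le_iff_specializes.1 h2)).eq
          · exact absurd (lt_of_le_not_ge h2 h4) (fun h => hcov.2 h3' h)
      have hdrop := (hδ v.1 u.1 hsp hne).2 himm
      have hidx : (c0 ⟨i + 1, hi⟩) = v := rfl
      have hidx' : (c0 ⟨i, by omega⟩) = u := rfl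
      rw [hidx, hdrop, ← hidx', ih (by omega)]
      push_cast
      ring
  have hfin := key c0.length (by omega)
  have hl : (c0 ⟨c0.length, by omega⟩) = c0.last := rfl
  rw [hl, hlast, hlen] at hfin
  exact hfin

end Groth.Agent.Helper5.UCat
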