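import Mathlib

set_option autoImplicit false
set_option linter.style.haveILetI false
set_option linter.unusedSectionVars false
universe u
open CategoryTheory AlgebraicGeometry

namespace Groth.Agent.Helper5.LocDomTr

/-- transcendence degree is invariant under compatible ring isomorphisms of base and top -/
theorem trdeg_congr₂ {k k' K K' : Type u} [CommRing k] [CommRing k'] [CommRing K] [CommRing K']
    [Algebra k K] [Algebra k' K'] (e₁ : k ≃+* k') (e₂ : K ≃+* K')
    (h : ∀ c, e₂ (algebraMap k K c) = algebraMap k' K' (e₁ c)) :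
    Algebra.trdeg k K = Algebra.trdeg k' K' := by
  have hc : RingHom.comp (algebraMap k' K') (e₁ : k →+* k') =
      RingHom.comp (e₂ : K →+* K') (algebraMap k K) := by
    ext c; exact (h c).symm
  have key : ∀ (s : Set K), AlgebraicIndepOn k id s ↔ AlgebraicIndepOn k' id (e₂ '' s) := by
    intro s
    have h1 := algebraicIndependent_ringHom_iff_of_comp_eq (x := ((↑) : s → K)) e₁
      (e₂ : K →+* K') e₂.injective hc
    have h0 : AlgebraicIndepOn k id s ↔ AlgebraicIndependent k ((↑) : s → K) := Iff.rfl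
    rw [h0, ← h1]
    have : AlgebraicIndepOn k' id (e₂ '' s) ↔
        AlgebraicIndependent k' (((↑) : (e₂ '' s) → K')) := Iff.rfl
    rw [this]
    let eq : s ≃ (e₂ '' s) := Equiv.Set.image e₂ s e₂.injective
    rw [← algebraicIndependent_equiv eq]
    rfl
  unfold Algebra.trdeg
  apply le_antisymm
  · apply ciSup_le'
    rintro ⟨s, hs⟩
    have h2 : Cardinal.mk s = Cardinal.mk (e₂ '' s) :=
      (Cardinal.mk_image_eq e₂.injective).symm
    rw [h2]
    exact le_ciSup (f := fun ι : { s : Set K' // AlgebraicIndepOn k' id s } => Cardinal.mk ι.1)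
      (Cardinal.bddAbove_of_small) ⟨e₂ '' s, (key s).1 hs⟩
  · apply ciSup_le'
    rintro ⟨s, hs⟩
    have h3 : e₂ '' (e₂.symm '' s) = s := by
      rw [← Set.image_comp]; simp
    have hs' : AlgebraicIndepOn k id (e₂.symm '' s) := (key _).2 (by rw [h3]; exact hs)
    have h2 : Cardinal.mk s = Cardinal.mk (e₂.symm '' s) :=
      (Cardinal.mk_image_eq e₂.symm.injective).symm
    rw [h2]
    exact le_ciSup (f := fun ι : { s : Set K // AlgebraicIndepOn k id s } => Cardinal.mk ι.1)
      (Cardinal.bddAbove_of_small) ⟨e₂.symm '' s, hs'⟩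

section Local

variable {R₁ R₂ R₁' R₂' : Type u} [CommRing R₁] [CommRing R₂] [CommRing R₁'] [CommRing R₂']
  [IsLocalRing R₁] [IsLocalRing R₂] [IsLocalRing R₁'] [IsLocalRing R₂']

theorem map_maximalIdeal_of_ringEquiv (e : R₁ ≃+* R₁') :
    Ideal.map (e : R₁ →+* R₁') (IsLocalRing.maximalIdeal R₁) = IsLocalRing.maximalIdeal R₁' := by
  have h1 : Ideal.comap (e : R₁ →+* R₁') (IsLocalRing.maximalIdeal R₁') =
      IsLocalRing.maximalIdeal R₁ := by
    ext a
    simp only [Ideal.mem_comap, IsLocalRing.mem_maximalIdeal, mem_nonunits_iff]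
    exact not_congr (MulEquiv.isUnit_map e)
  rw [← h1]
  exact Ideal.map_comap_of_surjective _ e.surjective _

/-- closed fibre rings of isomorphic local arrows are isomorphic -/
theorem nonempty_quotient_equiv (φ : R₁ →+* R₂) (φ' : R₁' →+* R₂') (e₁ : R₁ ≃+* R₁')
    (e₂ : R₂ ≃+* R₂') (h : ∀ a, e₂ (φ a) = φ' (e₁ a)) :
    Nonempty ((R₂ ⧸ Ideal.map φ (IsLocalRing.maximalIdeal R₁)) ≃+*
      (R₂' ⧸ Ideal.map φ' (IsLocalRing.maximalIdeal R₁'))) := by
  refine ⟨Ideal.quotientEquiv _ _ e₂ ?_⟩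
  have hc : (e₂ : R₂ →+* R₂').comp φ = φ'.comp (e₁ : R₁ →+* R₁') := by
    ext a; exact h a
  rw [← map_maximalIdeal_of_ringEquiv e₁, Ideal.map_map, Ideal.map_map, hc]

/-- residue field transcendence degrees of isomorphic local arrows agree -/
theorem trdeg_residueField_congr (φ : R₁ →+* R₂) (φ' : R₁' →+* R₂') [IsLocalHom φ]
    [IsLocalHom φ'] (e₁ : R₁ ≃+* R₁') (e₂ : R₂ ≃+* R₂') (h : ∀ a, e₂ (φ a) = φ' (e₁ a)) :
    @Algebra.trdeg (IsLocalRing.ResidueField R₁) (IsLocalRing.ResidueField R₂) _ _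
      (IsLocalRing.ResidueField.map φ).toAlgebra =
    @Algebra.trdeg (IsLocalRing.ResidueField R₁') (IsLocalRing.ResidueField R₂') _ _
      (IsLocalRing.ResidueField.map φ').toAlgebra := by
  letI := (IsLocalRing.ResidueField.map φ).toAlgebra
  letI := (IsLocalRing.ResidueField.map φ').toAlgebra
  refine trdeg_congr₂ (IsLocalRing.ResidueField.mapEquiv e₁) (IsLocalRing.ResidueField.mapEquiv e₂) ?_
  intro c
  obtain ⟨a, rfl⟩ := IsLocalRing.residue_surjective c
  show (IsLocalRing.ResidueField.mapEquiv e₂) ((IsLocalRing.ResidueField.map φ)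
    (IsLocalRing.residue R₁ a)) = (IsLocalRing.ResidueField.map φ')
      ((IsLocalRing.ResidueField.mapEquiv e₁) (IsLocalRing.residue R₁ a))
  simp only [IsLocalRing.ResidueField.map_residue, IsLocalRing.ResidueField.mapEquiv_apply]
  rw [show ((e₂ : R₂ →+* R₂') (φ a)) = e₂ (φ a) from rfl, h]
  rfl

theorem flat_congr (φ : R₁ →+* R₂) (φ' : R₁' →+* R₂') (e₁ : R₁ ≃+* R₁')
    (e₂ : R₂ ≃+* R₂') (h : ∀ a, e₂ (φ a) = φ' (e₁ a)) (hf : φ'.Flat) : φ.Flat := by
  have hc : φ = ((e₂.symm : R₂' →+* R₂).comp φ').comp (e₁ : R₁ →+* R₁') := by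
    ext a
    show φ a = e₂.symm (φ' (e₁ a))
    rw [← h, RingEquiv.symm_apply_apply]
  rw [hc]
  exact (RingHom.Flat.comp (RingHom.Flat.of_bijective e₁.bijective)
    (RingHom.Flat.comp hf (RingHom.Flat.of_bijective e₂.symm.bijective)))

end Local

end Groth.Agent.Helper5.LocDomTr
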