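import Groth.Agent.Helper5.CycDim2
import Groth.Agent.Helper5.KLem9
import Groth.Agent.Helper2.DepthCM
import Groth.Agent.Helper5.SubDim2

set_option autoImplicit false
universe u
open CategoryTheory CategoryTheory.Limits AlgebraicGeometry TopologicalSpace

namespace Groth.Agent.Helper5.CycDim

/-- the prime of the local ring at `z` cut out by a generisation `ξ` -/
theorem locQuot_prime {X : Scheme.{u}} (z ξ : X) (h : ξ ⤳ z) :
    ∃ p : ↥(Spec (X.presheaf.stalk z)), p.asIdeal = RingHom.ker (Cyc.specMap z ξ h) ∧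
      X.fromSpecStalk z p = ξ := by
  let φ := X.presheaf.stalkSpecializes h
  let c : ↥(Spec (X.presheaf.stalk ξ)) := IsLocalRing.closedPoint (X.presheaf.stalk ξ)
  refine ⟨Spec.map φ c, ?_, ?_⟩
  · show Ideal.comap φ.hom (IsLocalRing.maximalIdeal (X.presheaf.stalk ξ)) = _
    unfold Cyc.specMap
    rw [CommRingCat.hom_comp, ← RingHom.comap_ker]
    congr 1
    exact (IsLocalRing.ker_residue (R := X.presheaf.stalk ξ)).symm
  · have h1 := Scheme.SpecMap_stalkSpecializes_fromSpecStalk (X := X) h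
    have h2 := congrArg (fun ψ : Spec (X.presheaf.stalk ξ) ⟶ X => ψ c) h1
    have h3 : X.fromSpecStalk ξ c = ξ := Scheme.fromSpecStalk_closedPoint
    exact h2.trans h3

theorem ringKrullDim_locQuot {X : Scheme.{u}} (δ : X → ℤ) (hδ : Cyc.IsDimFun X δ) (z ξ : X)
    (h : ξ ⤳ z) :
    ringKrullDim (Cyc.LocQuot z ξ h) = (((δ ξ - δ z).toNat : ℕ) : WithBot ℕ∞) := by
  obtain ⟨p, hp1, hp2⟩ := locQuot_prime z ξ h
  have h1 := Groth.Agent.Helper5.StalkDict.ringKrullDim_stalk_quotient z p
  rw [hp2, krullDim_Icc δ hδ ξ z h] at h1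
  rw [← h1]
  show ringKrullDim (X.presheaf.stalk z ⧸ RingHom.ker (Cyc.specMap z ξ h)) = _
  rw [← hp1]

theorem s6462 (X : Scheme.{u}) [JacobsonSpace X] (δ : X → ℤ) (hX : Cyc.IsSetup X δ)
    (h0 : ∀ x : X, IsClosed ({x} : Set X) → δ x = 0) (ξ : X) :
    (topologicalKrullDim ↥(closure ({ξ} : Set X)) = ((δ ξ).toNat : WithBot ℕ∞) ∧ 0 ≤ δ ξ) ∧
      ∀ (z : X) (h : ξ ⤳ z), IsClosed ({z} : Set X) →
        ringKrullDim (Cyc.LocQuot z ξ h) = ((δ ξ).toNat : WithBot ℕ∞) := by
  have hδ := hX.2.2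
  have hcl : ∀ x : X, ∃ z : X, x ⤳ z ∧ IsClosed ({z} : Set X) := by
    intro x
    have h1 := JacobsonSpace.closure_inter_closedPoints (X := X) (Z := closure {x}) isClosed_closure
    have hne : (closure ({x} : Set X) ∩ closedPoints X).Nonempty := by
      by_contra hcon
      rw [Set.not_nonempty_iff_eq_empty] at hcon
      rw [hcon, closure_empty] at h1
      have : x ∈ closure ({x} : Set X) := subset_closure rfl
      rw [← h1] at this
      exact this
    obtain ⟨z, hz1, hz2⟩ := hne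
    exact ⟨z, specializes_iff_mem_closure.mpr hz1, hz2⟩
  have hnonneg : ∀ x : X, 0 ≤ δ x := by
    intro x
    obtain ⟨z, hz1, hz2⟩ := hcl x
    have := delta_mono δ hδ x z hz1
    rw [h0 z hz2] at this
    exact this
  refine ⟨⟨?_, hnonneg ξ⟩, ?_⟩
  · apply le_antisymm
    · refine Groth.Agent.Helper5.LocDim.dim_le_of_chains _
        (Groth.Agent.Helper5.KDim.genStable_of_isClosed _ isClosed_closure) _ ?_
      intro l hl
      have h1 := length_le_delta δ hδ l
      have h2 : δ l.last ≤ δ ξ :=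
        delta_mono δ hδ ξ l.last (specializes_iff_mem_closure.mpr (hl _))
      have h3 := hnonneg l.head
      have h4 : l.length ≤ (δ ξ).toNat := by omega
      exact_mod_cast h4
    · obtain ⟨z, hz1, hz2⟩ := hcl ξ
      obtain ⟨l, hl1, hl2, hl3⟩ := exists_chain δ hδ (δ ξ).toNat ξ z hz1 (by
        rw [h0 z hz2]; have := hnonneg ξ; omega)
      have hl : ∀ i, l i ∈ closure ({ξ} : Set X) := by
        intro i
        have : l i ≤ l.last := l.monotone (Fin.le_last i)
        rw [hl3] at this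
        exact (Scheme.le_iff_specializes.1 this).mem_closure
      have := Groth.Agent.Helper5.EquiDim.length_le_dim_of_forall_mem _ l hl
      rw [hl1] at this
      exact this
  · intro z h hz
    rw [ringKrullDim_locQuot δ hδ z ξ h, h0 z hz, sub_zero]

theorem s6461 (X : Scheme.{u}) (δ : X → ℤ) (hX : Cyc.IsSetup X δ)
    (hCM : ∀ x : X, LocCoh.IsCohenMacaulayLocalRing ↑(X.presheaf.stalk x)) (x : X) :
    ∃ (U : X.Opens) (n : ℤ), x ∈ U ∧ ∀ ξ : X, ξ ∈ U → (∀ ξ' : X, ξ' ⤳ ξ → ξ' = ξ) → δ ξ = n := by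
  have hδ := hX.2.2
  have hN : IsLocallyNoetherian X := hX.1
  let R := X.presheaf.stalk x
  have hCMx := hCM x
  obtain ⟨d, hd, -⟩ := Groth.Agent.Helper5.SubDim.ringKrullDim_stalk_nat X x
  obtain ⟨V, hVsub, hVopen, hxV⟩ :=
    mem_nhds_iff.mp (Groth.Agent.Helper5.KLem.components_mem_nhds x)
  refine ⟨⟨V, hVopen⟩, δ x + d, hxV, ?_⟩
  intro ξ hξV hξmax
  obtain ⟨η, hηmax, hηξ, hηx⟩ := hVsub hξV
  have hηeq : η = ξ := hξmax η hηξ
  subst hηeq
  obtain ⟨p, hp1, hp2⟩ := locQuot_prime x η hηx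
  have hmin : p.asIdeal ∈ minimalPrimes R :=
    Groth.Agent.Helper5.StalkDict.mem_minimalPrimes_of_max x p (by rw [hp2]; exact hηmax)
  have h1 := Groth.Agent.Helper5.StalkDict.ringKrullDim_stalk_quotient x p
  rw [hp2, krullDim_Icc δ hδ η x hηx] at h1
  have h2 : ringKrullDim (R ⧸ p.asIdeal) = ringKrullDim R := by
    apply le_antisymm
    · exact ringKrullDim_quotient_le _
    · have hann : Module.annihilator R R = ⊥ := Module.annihilator_eq_bot.2 inferInstance
      have hass : p.asIdeal ∈ associatedPrimes R R := by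
        apply Module.associatedPrimes.minimalPrimes_annihilator_subset_associatedPrimes
        rw [hann]
        exact hmin
      have h3 := Groth.Agent.Helper2.DepthCM.depth_le_dim_quotient_of_mem_ass R p.asIdeal hass
      rw [← Module.supportDim_self_eq_ringKrullDim, hCMx.supportDim_eq_depth]
      exact h3
  have h4 : (((δ η - δ x).toNat : ℕ) : WithBot ℕ∞) = (d : WithBot ℕ∞) := by
    rw [← h1, h2]; exact hd
  have h5 : (δ η - δ x).toNat = d := by exact_mod_cast h4
  have h6 := delta_mono δ hδ η x hηx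
  omega

end Groth.Agent.Helper5.CycDim
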