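import Mathlib
import Groth.Prelude.Def_Dual3
import Groth.Prelude.Def_Flat
import Groth.Agent.Helper5.KLem9

set_option autoImplicit false
universe u

namespace Groth.Agent.Helper5.KLem

open CategoryTheory CategoryTheory.Limits AlgebraicGeometry TopologicalSpace Topology
open Groth.Agent.Helper5.PtOpen Groth.Agent.Helper5.GenDim

/-- the set of dimensions of the irreducible components of a fibre -/
noncomputable def compDims {X Y : Scheme.{u}} (f : X ⟶ Y) (z : Y) : Set (WithBot ℕ∞) :=
  (fun Z : Set ↥(f.fiber z) => topologicalKrullDim ↥Z) '' irreducibleComponents ↥(f.fiber z)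

/-- (Tr) the dimensions of the irreducible components of a fibre are the residue transcendence
degrees of its maximal points -/
theorem mem_compDims_iff {X Y : Scheme.{u}} (f : X ⟶ Y) [LocallyOfFiniteType f] (z : Y)
    (d : WithBot ℕ∞) :
    d ∈ compDims f z ↔ ∃ x : X, f x = z ∧ (∀ w : X, f w = z → w ⤳ x → w = x) ∧
      ∃ n : ℕ, Dual3.resTrdeg f x = (n : Cardinal.{u}) ∧ d = (n : WithBot ℕ∞) := by
  let ι := f.fiberι z
  have hemb : IsEmbedding ι := ι.isEmbedding
  have hrange : Set.range ι = f ⁻¹' {z} := f.range_fiberι z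
  constructor
  · rintro ⟨Z, hZ, rfl⟩
    obtain ⟨ζ, hζ⟩ := QuasiSober.sober hZ.1 (isClosed_of_mem_irreducibleComponents Z hZ)
    have hfx : f (ι ζ) = z := by
      have : ι ζ ∈ Set.range ι := Set.mem_range_self ζ
      rw [hrange] at this
      exact this
    refine ⟨ι ζ, hfx, ?_, ?_⟩
    · intro w hw hwx
      have hwr : w ∈ Set.range ι := by rw [hrange]; exact hw
      obtain ⟨ω, rfl⟩ := hwr
      have hsp : ω ⤳ ζ := hemb.isInducing.specializes_iff.mp hwx
      have h2 : Z ⊆ closure {ω} := by
        rw [← hζ.def]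
        exact closure_minimal (Set.singleton_subset_iff.mpr hsp.mem_closure) isClosed_closure
      have h3 : closure {ω} ⊆ Z := hZ.2 isIrreducible_singleton.closure h2
      have h4 : ζ ⤳ ω := by
        rw [specializes_iff_mem_closure, hζ.def]
        exact h3 (subset_closure rfl)
      rw [(hsp.antisymm h4).eq]
    · obtain ⟨n, hn1, hn2⟩ :=
        Groth.Agent.Helper5.MaxPt.dim_closure_fibre_point f z ζ (ι ζ) rfl hfx
      refine ⟨n, hn2, ?_⟩
      show topologicalKrullDim ↥Z = n
      rw [← hζ.def]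
      exact hn1
  · rintro ⟨x, hx, hmax, n, hn, rfl⟩
    have hxr : x ∈ Set.range ι := by rw [hrange]; exact hx
    obtain ⟨ζ, rfl⟩ := hxr
    have hζmax : ∀ η : ↥(f.fiber z), η ⤳ ζ → η = ζ := by
      intro η hη
      have h1 : ι η ⤳ ι ζ := hη.map ι.continuous
      have h2 : f (ι η) = z := by
        have : ι η ∈ Set.range ι := Set.mem_range_self η
        rw [hrange] at this
        exact this
      exact hemb.injective (hmax _ h2 h1)
    refine ⟨closure {ζ},
      Groth.Agent.Helper5.DimFormula.closure_mem_irreducibleComponents ζ hζmax, ?_⟩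
    obtain ⟨n', hn'1, hn'2⟩ :=
      Groth.Agent.Helper5.MaxPt.dim_closure_fibre_point f z ζ (ι ζ) rfl hx
    show topologicalKrullDim ↥(closure {ζ}) = n
    rw [hn'1]
    have h3 : Dual3.resTrdeg f (ι ζ) = (n' : Cardinal.{u}) := hn'2
    rw [hn] at h3
    have : n = n' := by exact_mod_cast h3
    rw [this]

/-- (Claim A) for an open morphism, the dimensions of the components of a fibre persist on a
neighbourhood -/
theorem compDims_subset_mem_nhds {X Y : Scheme.{u}} [IsLocallyNoetherian Y]
    (f : X ⟶ Y) [LocallyOfFiniteType f] [QuasiCompact f] (hf : IsOpenMap f.base) (y : Y) :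
    {z : Y | compDims f y ⊆ compDims f z} ∈ nhds y := by
  have hgen := Groth.Agent.Helper5.GenLift.generalizingMap_of_isOpenMap f hf
  -- one dimension at a time
  have hone : ∀ d ∈ compDims f y, {z : Y | d ∈ compDims f z} ∈ nhds y := by
    intro d hd
    rw [mem_compDims_iff] at hd
    obtain ⟨x, hx, hmax, n, hn, rfl⟩ := hd
    obtain ⟨n', hn'1, hn'2⟩ := Groth.Agent.Helper5.MaxPt.fibreDimAt_of_maximal f x
      (Groth.Agent.Helper5.MaxPt.coheight_asFiber_eq_zero f x (fun w hw => hmax w (hw.trans hx)))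
    have hnn' : n' = n := by
      have h3 : Dual3.resTrdeg f x = (n' : Cardinal.{u}) := hn'1
      rw [hn] at h3
      exact_mod_cast h3.symm
    rw [hnn'] at hn'2
    let U : X.Opens := ⟨{x' | FlatMor.fibreDimAt f x' ≤ (n : WithBot ℕ∞)},
      Groth.Agent.Helper5.FibDim.isOpen_fibreDimAt_le f _⟩
    have hxU : x ∈ U := le_of_eq hn'2
    let g := U.ι ≫ f
    let u₀ : ↥(U : Scheme.{u}) := ⟨x, hxU⟩
    have hgu₀ : g u₀ = y := hx
    have hd' : (n : Cardinal.{u}) ≤ Dual3.resTrdeg g u₀ := by
      rw [resTrdeg_open]; exact le_of_eq hn.symm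
    have hL := le_dim_fibre_mem_nhds g u₀ n hd' (by
      intro y' hy'
      obtain ⟨x', hx', hfx'⟩ := hgen (hy' : y' ⤳ f (U.ι u₀))
      have hx'U : x' ∈ U := hx'.mem_open U.isOpen u₀.2
      exact ⟨⟨x', hx'U⟩, U.ι.isOpenEmbedding.isInducing.specializes_iff.mp hx', hfx'⟩)
    rw [hgu₀] at hL
    refine Filter.mem_of_superset hL ?_
    intro z hz
    obtain ⟨u, hu, m, hm, hnm⟩ := Groth.Agent.Helper5.KDim.exists_resTrdeg_ge g z n hz
    have hm' : Dual3.resTrdeg f (U.ι u) = (m : Cardinal.{u}) := by
      rw [← resTrdeg_open]; exact hm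
    obtain ⟨z', hfz', -, hz'max, hfd, tz, htz1, htz2⟩ :=
      Groth.Agent.Helper5.OpenAt.exists_max_generization_fibreDimAt_eq f (U.ι u)
    have hfu : f (U.ι u) = z := hu
    have h1 : (tz : WithBot ℕ∞) ≤ (n : WithBot ℕ∞) := by
      rw [← htz2, hfd]; exact u.2
    have h2 : (m : WithBot ℕ∞) ≤ (tz : WithBot ℕ∞) := by
      rw [← htz2, hfd]
      exact le_fibreDimAt_of_resTrdeg f (U.ι u) m (le_of_eq hm'.symm)
    have h1' : tz ≤ n := by exact_mod_cast h1
    have h2' : m ≤ tz := by exact_mod_cast h2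
    have htzn : tz = n := by omega
    show (n : WithBot ℕ∞) ∈ compDims f z
    rw [mem_compDims_iff]
    refine ⟨z', hfz'.trans hfu, fun w hw => hz'max w (hw.trans hfu.symm), tz, htz1, ?_⟩
    rw [htzn]
  -- finiteness
  have hfin : (compDims f y).Finite := by
    have hD := dim_fibre_ne_top f y
    have hbound : ∀ d ∈ compDims f y, ∃ n : ℕ, d = (n : WithBot ℕ∞) ∧
        (n : WithBot ℕ∞) ≤ topologicalKrullDim ↥(f ⁻¹' {y}) := by
      intro d hd
      rw [mem_compDims_iff] at hd
      obtain ⟨x, hx, -, n, hn, rfl⟩ := hd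
      refine ⟨n, rfl, ?_⟩
      have := le_dim_of_mem f y Set.univ isClosed_univ x ⟨hx, trivial⟩ n hn
      rwa [Set.inter_univ] at this
    generalize topologicalKrullDim ↥(f ⁻¹' {y}) = D at hD hbound
    induction D with
    | bot =>
      have : compDims f y = ∅ := by
        ext d
        simp only [Set.mem_empty_iff_false, iff_false]
        intro hd
        obtain ⟨n, -, hn⟩ := hbound d hd
        simp at hn
      rw [this]; exact Set.finite_empty
    | coe e =>
      induction e with
      | top => exact absurd rfl hD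
      | coe m =>
        refine ((Set.finite_le_nat m).image (fun n : ℕ => (n : WithBot ℕ∞))).subset ?_
        intro d hd
        obtain ⟨n, rfl, hn⟩ := hbound d hd
        refine ⟨n, ?_, rfl⟩
        show n ≤ m
        exact_mod_cast hn
  have := (Filter.biInter_mem hfin).mpr hone
  refine Filter.mem_of_superset this ?_
  intro z hz d hd
  simp only [Set.mem_iInter] at hz
  exact hz d hd

/-- S4923 -/
theorem s4923 {X Y : Scheme.{u}}
    [IsLocallyNoetherian Y] (f : X ⟶ Y) [LocallyOfFiniteType f] [QuasiCompact f]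
    (hf : IsOpenMap f.base) (y : Y)
    (h : ∀ η : Y, y ∈ closure {η} → closure {η} ∈ irreducibleComponents (Y : Type u) →
      compDims f y = compDims f η) :
    ∃ V ∈ nhds y, ∀ z ∈ V, compDims f z = compDims f y := by
  refine ⟨_, Filter.inter_mem (compDims_subset_mem_nhds f hf y) (components_mem_nhds y),
    fun z hz => ?_⟩
  refine Set.Subset.antisymm ?_ hz.1
  obtain ⟨η, hηmax, hηz, hηy⟩ := hz.2
  have h1 := compDims_subset_mem_nhds f hf z
  have h2 : {z' : Y | compDims f z ⊆ compDims f z'} ∈ nhds η := hηz h1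
  have h3 : compDims f z ⊆ compDims f η := mem_of_mem_nhds h2
  rw [h η hηy.mem_closure
    (Groth.Agent.Helper5.DimFormula.closure_mem_irreducibleComponents η hηmax)]
  exact h3

end Groth.Agent.Helper5.KLem
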