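import Mathlib
import Groth.Prelude.Def_W4stkschemesremainderFib
import Groth.Prelude.Def_Mor2

set_option autoImplicit false
universe u
open CategoryTheory CategoryTheory.Limits AlgebraicGeometry TopologicalSpace Opposite

namespace Groth.Agent.Helper5.BddFLF

/-- a finite flat morphism to the spectrum of a field is finite of degree its rank -/
theorem finiteOfDegLE_of_finrank (K : Type u) [Field K] {T : Scheme.{u}}
    (p : T ⟶ Spec (CommRingCat.of K)) [IsFinite p] [Flat p] (x : ↥(Spec (CommRingCat.of K)))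
    (d : ℕ) (h : p.finrank x = d) :
    BddFib.FiniteOfDegLE (CommRingCat.of K) p d := by
  haveI : IsAffine T := isAffine_of_isAffineHom p
  set φ : CommRingCat.of K ⟶ Γ(T, ⊤) := (Scheme.ΓSpecIso (CommRingCat.of K)).inv ≫ p.appTop with hφ
  have hp : p = T.isoSpec.hom ≫ Spec.map φ := by
    rw [hφ, Spec.map_comp, Scheme.isoSpec_hom, ← Scheme.toSpecΓ_naturality_assoc,
      toSpecΓ_SpecMap_ΓSpecIso_inv, Category.comp_id]
  have hfin : IsFinite (Spec.map φ) := by
    have : IsFinite (T.isoSpec.hom ≫ Spec.map φ) := hp ▸ inferInstance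
    exact (MorphismProperty.cancel_left_of_respectsIso @IsFinite T.isoSpec.hom _).mp this
  have hflat : Flat (Spec.map φ) := by
    have : Flat (T.isoSpec.hom ≫ Spec.map φ) := hp ▸ inferInstance
    exact (MorphismProperty.cancel_left_of_respectsIso @Flat T.isoSpec.hom _).mp this
  have hf₁ : φ.hom.Finite := (IsFinite.SpecMap_iff φ).mp hfin
  have hf₂ : φ.hom.Flat := Flat.SpecMap_iff.mp hflat
  have h1 : p.finrank x = φ.hom.finrank x := by
    rw [hp, Scheme.Hom.finrank_comp_left_of_isIso, Scheme.Hom.finrank_SpecMap_eq_finrank hf₁ hf₂]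
  letI : Algebra K Γ(T, ⊤) := BddFib.secAlgebra (CommRingCat.of K) p
  have hmf : Module.Finite K Γ(T, ⊤) := hf₁
  refine ⟨inferInstance, hmf, ?_⟩
  have h2 : φ.hom.finrank x = Module.rankAtStalk (R := K) Γ(T, ⊤) x := rfl
  rw [h1, h2, Module.rankAtStalk_eq_finrank_of_free] at h
  exact h.le

theorem s7435 {X Y : Scheme.{u}} (f : X ⟶ Y) (d : ℕ) (hf : Mor2.IsFinLocFreeOfDeg d f) :
    BddFib.FibreDegLE f d := by
  obtain ⟨⟨h1, h2, h3⟩, hd⟩ := hf
  intro y
  have i1 : IsFinite (f.fiberToSpecResidueField y) :=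
    inferInstanceAs (IsFinite (pullback.snd f (Y.fromSpecResidueField y)))
  have i2 : Flat (f.fiberToSpecResidueField y) :=
    inferInstanceAs (Flat (pullback.snd f (Y.fromSpecResidueField y)))
  have hr : (f.fiberToSpecResidueField y).finrank default = d := by
    show (pullback.snd f (Y.fromSpecResidueField y)).finrank default = d
    rw [Scheme.Hom.finrank_pullback_snd, Scheme.fromSpecResidueField_apply, hd]
  exact @finiteOfDegLE_of_finrank (IsLocalRing.ResidueField (Y.presheaf.stalk y)) _ _
    (f.fiberToSpecResidueField y) i1 i2 default d hr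

end Groth.Agent.Helper5.BddFLF
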