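import Mathlib
import Groth.Agent.Helper5.BddFLF

set_option autoImplicit false
universe u
open CategoryTheory CategoryTheory.Limits AlgebraicGeometry TopologicalSpace Opposite

namespace Groth.Agent.Helper5.BddBC

/-- converse dictionary: finite of degree ≤ n over a field means finite flat of rank ≤ n -/
theorem of_finiteOfDegLE (K : Type u) [Field K] {T : Scheme.{u}}
    (p : T ⟶ Spec (CommRingCat.of K)) (n : ℕ)
    (h : BddFib.FiniteOfDegLE (CommRingCat.of K) p n) :
    IsFinite p ∧ Flat p ∧ ∀ x, p.finrank x ≤ n := by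
  letI : Algebra K Γ(T, ⊤) := BddFib.secAlgebra (CommRingCat.of K) p
  obtain ⟨hA, hfin, hrk⟩ := h
  set φ : CommRingCat.of K ⟶ Γ(T, ⊤) := (Scheme.ΓSpecIso (CommRingCat.of K)).inv ≫ p.appTop with hφ
  have hp : p = T.isoSpec.hom ≫ Spec.map φ := by
    rw [hφ, Spec.map_comp, Scheme.isoSpec_hom, ← Scheme.toSpecΓ_naturality_assoc,
      toSpecΓ_SpecMap_ΓSpecIso_inv, Category.comp_id]
  have hf₁ : φ.hom.Finite := hfin
  have hf₂ : φ.hom.Flat := (inferInstance : Module.Flat K Γ(T, ⊤))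
  have hfin' : IsFinite (Spec.map φ) := (IsFinite.SpecMap_iff φ).mpr hf₁
  have hflat' : Flat (Spec.map φ) := Flat.SpecMap_iff.mpr hf₂
  have i1 : IsFinite p := by rw [hp]; infer_instance
  have i2 : Flat p := by rw [hp]; infer_instance
  refine ⟨i1, i2, fun x => ?_⟩
  have h1 : p.finrank x = φ.hom.finrank x := by
    rw [hp, Scheme.Hom.finrank_comp_left_of_isIso, Scheme.Hom.finrank_SpecMap_eq_finrank hf₁ hf₂]
  have h2 : φ.hom.finrank x = Module.rankAtStalk (R := K) Γ(T, ⊤) x := rfl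
  rw [h1, h2, Module.rankAtStalk_eq_finrank_of_free]
  exact hrk

theorem mono_finiteOfDegLE (K : CommRingCat.{u}) {T : Scheme.{u}} (p : T ⟶ Spec K) {m n : ℕ}
    (hmn : m ≤ n) (h : BddFib.FiniteOfDegLE K p m) : BddFib.FiniteOfDegLE K p n :=
  ⟨h.1, h.2.1, h.2.2.trans hmn⟩

theorem s7437 {X Y X' Y' : Scheme.{u}} (f : X ⟶ Y) (g : Y' ⟶ Y) (f' : X' ⟶ Y') (g' : X' ⟶ X)
    (h : IsPullback g' f' f g) (n : ℕ) (hf : BddFib.FibreDegLE f n) : BddFib.FibreDegLE f' n := by
  intro y'
  obtain ⟨i1, i2, hrk⟩ := of_finiteOfDegLE (IsLocalRing.ResidueField (Y.presheaf.stalk (g y')))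
    (f.fiberToSpecResidueField (g y')) n (hf (g y'))
  have hpb := isPullback_fiberToSpecResidueField_of_isPullback h y'
  have j1 : IsFinite (f'.fiberToSpecResidueField y') := MorphismProperty.of_isPullback hpb i1
  have j2 : Flat (f'.fiberToSpecResidueField y') := MorphismProperty.of_isPullback hpb i2
  have hr := @Scheme.Hom.finrank_of_isPullback _ _ _ _ _ _ _ _ hpb i2 i1 default
  refine mono_finiteOfDegLE _ _ ((hr.symm ▸ hrk _ : (f'.fiberToSpecResidueField y').finrank default ≤ n)) ?_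
  exact @BddFLF.finiteOfDegLE_of_finrank (IsLocalRing.ResidueField (Y'.presheaf.stalk y')) _ _
    (f'.fiberToSpecResidueField y') j1 j2 default _ rfl

end Groth.Agent.Helper5.BddBC
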