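import Mathlib

set_option autoImplicit false
universe u
open CategoryTheory CategoryTheory.Limits AlgebraicGeometry Opposite

namespace Groth.Agent.Helper5.PbFibre

open Scheme.Pullback

/-- The points of a fibre product over a given pair of points are finite in number as soon as the
residue field extension of one of them over the base is finite. -/
theorem finite_fibre_pullback {A B T : Scheme.{u}} (f : A ⟶ T) (g : B ⟶ T) (a : ↥A) (b : ↥B)
    (h : f a = g b) (hfin : (g.residueFieldMap b).hom.Finite) :
    {z : ↥(pullback f g) | pullback.fst f g z = a ∧ pullback.snd f g z = b}.Finite := by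
  let T₀ : Triplet f g := Triplet.mk' a b h
  -- the tensor product is a finite algebra over the field `κ(a)`
  have h1 : (T₀.tensorInl).hom.Finite := by
    refine RingHom.finite_isStableUnderBaseChange.pushout_inl RingHom.finite_respectsIso _ _ ?_
    rw [CommRingCat.hom_comp]
    exact RingHom.Finite.comp hfin (RingHom.Finite.of_surjective _
      (ConcreteCategory.bijective_of_isIso ((T.residueFieldCongr T₀.hy).inv)).2)
  have h2 : Finite ↥(Spec T₀.tensor) := by
    let i1 : Algebra (A.residueField a) T₀.tensor := (T₀.tensorInl).hom.toAlgebra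
    have : Module.Finite (A.residueField a) T₀.tensor := h1
    have : IsArtinianRing T₀.tensor := IsArtinianRing.of_finite (A.residueField a) T₀.tensor
    show Finite (PrimeSpectrum T₀.tensor)
    infer_instance
  have hsub : {z : ↥(pullback f g) | pullback.fst f g z = a ∧ pullback.snd f g z = b} ⊆
      Set.range (fun p : ↥(Spec T₀.tensor) => carrierEquiv.symm ⟨T₀, p⟩) := by
    rintro z ⟨hz1, hz2⟩
    generalize hq : carrierEquiv z = q
    obtain ⟨Tz, p⟩ := q
    have hz : z = carrierEquiv.symm ⟨Tz, p⟩ := by rw [← hq, Equiv.symm_apply_apply]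
    have hT : Tz = T₀ := by
      apply Triplet.ext
      · rw [← carrierEquiv_symm_fst Tz p, ← hz, hz1]; rfl
      · rw [← carrierEquiv_symm_snd Tz p, ← hz, hz2]; rfl
    subst hT
    exact ⟨p, hz.symm⟩
  exact (Set.finite_range _).subset hsub

/-- Residue field extensions of locally quasi-finite morphisms are finite. -/
theorem finite_residueFieldMap_of_lqf {A B : Scheme.{u}} (h : A ⟶ B) [LocallyQuasiFinite h]
    (a : ↥A) : (h.residueFieldMap a).hom.Finite := by
  have hqf : (h.stalkMap a).hom.QuasiFinite := h.quasiFiniteAt a
  let i0 : Algebra (B.presheaf.stalk (h a)) (A.presheaf.stalk a) := (h.stalkMap a).hom.toAlgebra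
  have hqf' : Algebra.QuasiFinite (B.presheaf.stalk (h a)) (A.presheaf.stalk a) := hqf
  let i2 : Algebra (B.residueField (h a)) (A.residueField a) := (h.residueFieldMap a).hom.toAlgebra
  let i1 : Algebra (A.presheaf.stalk a) (A.residueField a) := (A.residue a).hom.toAlgebra
  let i4 : Algebra (B.presheaf.stalk (h a)) (B.residueField (h a)) := (B.residue (h a)).hom.toAlgebra
  let i3 : Algebra (B.presheaf.stalk (h a)) (A.residueField a) :=
    ((A.residue a).hom.comp (h.stalkMap a).hom).toAlgebra
  have t1 : IsScalarTower (B.presheaf.stalk (h a)) (A.presheaf.stalk a) (A.residueField a) :=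
    IsScalarTower.of_algebraMap_eq' rfl
  have t2 : IsScalarTower (B.presheaf.stalk (h a)) (B.residueField (h a)) (A.residueField a) := by
    refine IsScalarTower.of_algebraMap_eq' ?_
    ext x
    rfl
  have f1 : Module.Finite (A.presheaf.stalk a) (A.residueField a) :=
    Module.Finite.of_surjective (Algebra.linearMap (A.presheaf.stalk a) (A.residueField a))
      (IsLocalRing.residue_surjective (R := A.presheaf.stalk a))
  have q1 : Algebra.QuasiFinite (B.presheaf.stalk (h a)) (A.residueField a) :=
    Algebra.QuasiFinite.trans _ (A.presheaf.stalk a) _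
  have q2 : Algebra.QuasiFinite (B.residueField (h a)) (A.residueField a) :=
    Algebra.QuasiFinite.of_restrictScalars (B.presheaf.stalk (h a)) _ _
  have f2 : Module.Finite (B.residueField (h a)) (A.residueField a) := Module.Finite.of_quasiFinite
  exact f2

end Groth.Agent.Helper5.PbFibre
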