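import Mathlib
import Groth.Agent.Helper5.AffFlat1
import Groth.Agent.Helper4.QcohGlue
import Groth.Agent.Helper4.QcqsMod
import Groth.Prelude.Def_FlatMod2
import Groth.Prelude.Def_Coh

set_option autoImplicit false
universe u
open CategoryTheory CategoryTheory.Limits AlgebraicGeometry TopologicalSpace Opposite

namespace Groth.Agent.Helper5.AffFlat
open Groth.Agent.Helper4

theorem push_flat_iff {X Y S : Scheme.{u}} (f : X ⟶ Y) [IsAffineHom f] (q : Y ⟶ S)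
    (F : X.Modules) [F.IsQuasicoherent] {V : S.Opens} (hV : IsAffineOpen V) {W : Y.Opens}
    (hW : IsAffineOpen W) (e : W ≤ q ⁻¹ᵁ V) :
    (∀ x ∈ f ⁻¹ᵁ W, FlatMod.IsFlatOverAt (f ≫ q) F x) ↔
      (∀ y ∈ W, FlatMod.IsFlatOverAt q ((Scheme.Modules.pushforward f).obj F) y) := by
  haveI : ((Scheme.Modules.pushforward f).obj F).IsQuasicoherent :=
    QcohGlue.isQuasicoherent_pushforward f F
  have hW' : IsAffineOpen (f ⁻¹ᵁ W) := hW.preimage f
  have e' : f ⁻¹ᵁ W ≤ (f ≫ q) ⁻¹ᵁ V := fun x hx => e hx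
  rw [flat_sections_iff (f ≫ q) F hV hW' e',
    flat_sections_iff q ((Scheme.Modules.pushforward f).obj F) hV hW e]
  letI m1 : Module Γ(S, V) Γ(F, f ⁻¹ᵁ W) := Module.compHom _ ((f ≫ q).appLE V (f ⁻¹ᵁ W) e').hom
  letI m2 : Module Γ(S, V) Γ((Scheme.Modules.pushforward f).obj F, W) :=
    Module.compHom _ (q.appLE V W e).hom
  let eq : Γ(F, f ⁻¹ᵁ W) ≃ₗ[Γ(S, V)] Γ((Scheme.Modules.pushforward f).obj F, W) :=
    { AddEquiv.refl _ with
      map_smul' := fun a m => by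
        show ((f ≫ q).appLE V (f ⁻¹ᵁ W) e').hom a • m = _
        have h1 : ((f ≫ q).appLE V (f ⁻¹ᵁ W) e').hom a = (f.app W).hom ((q.appLE V W e).hom a) := by
          rw [← Scheme.Hom.appLE_comp_appLE f q V W (f ⁻¹ᵁ W) e le_rfl]
          simp [Scheme.Hom.appLE]
        rw [h1]
        rfl }
  exact ⟨fun h => Module.Flat.of_linearEquiv eq.symm, fun h => Module.Flat.of_linearEquiv eq⟩

theorem s9349 {X Y S : Scheme.{u}} (f : X ⟶ Y) [IsAffineHom f] (q : Y ⟶ S)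
    (F : X.Modules) (hF : Coh.IsQCoh F) :
    FlatMod.IsFlatOver (f ≫ q) F ↔ FlatMod.IsFlatOver q ((Coh.push f).obj F) := by
  haveI : F.IsQuasicoherent := hF
  have cov : ∀ y : Y, ∃ (V : S.Opens) (W : Y.Opens), IsAffineOpen V ∧ IsAffineOpen W ∧
      W ≤ q ⁻¹ᵁ V ∧ y ∈ W := by
    intro y
    obtain ⟨_, ⟨V, hV : IsAffineOpen V, rfl⟩, hxV, -⟩ :=
      S.isBasis_affineOpens.exists_subset_of_mem_open (Set.mem_univ (q y)) isOpen_univ
    obtain ⟨_, ⟨W, hW : IsAffineOpen W, rfl⟩, hxW, hWV⟩ :=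
      Y.isBasis_affineOpens.exists_subset_of_mem_open (show y ∈ (q ⁻¹ᵁ V : Set Y) from hxV)
        (q ⁻¹ᵁ V).isOpen
    exact ⟨V, W, hV, hW, hWV, hxW⟩
  constructor
  · intro H y
    obtain ⟨V, W, hV, hW, e, hy⟩ := cov y
    exact (push_flat_iff f q F hV hW e).mp (fun x _ => H x) y hy
  · intro H x
    obtain ⟨V, W, hV, hW, e, hy⟩ := cov (f x)
    exact (push_flat_iff f q F hV hW e).mpr (fun y _ => H y) x hy

end Groth.Agent.Helper5.AffFlat
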