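import Groth.Agent.Helper5.FibDim5

set_option autoImplicit false
universe u
open CategoryTheory CategoryTheory.Limits AlgebraicGeometry Opposite TopologicalSpace

namespace Groth.Agent.Helper5.FibDim

/-- A space covered by open subsets of dimension `≤ d` has dimension `≤ d`. -/
theorem dim_le_of_open_cover {T : Type*} [TopologicalSpace T] {ι : Type*} (O : ι → Set T)
    (hO : ∀ i, IsOpen (O i)) (hcov : ∀ t, ∃ i, t ∈ O i) (d : WithBot ℕ∞)
    (h : ∀ i, topologicalKrullDim ↥(O i) ≤ d) : topologicalKrullDim T ≤ d := by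
  rw [topologicalKrullDim, Order.krullDim_eq_iSup_coheight]
  refine iSup_le fun Z => ?_
  obtain ⟨z, hz⟩ := Z.isIrreducible.nonempty
  obtain ⟨i, hi⟩ := hcov z
  have hemb : Topology.IsOpenEmbedding (Subtype.val : ↥(O i) → T) :=
    (hO i).isOpenEmbedding_subtypeVal
  have hne : ((Subtype.val : ↥(O i) → T) ⁻¹' (Z : Set T)).Nonempty := ⟨⟨z, hi⟩, hz⟩
  let Z' : IrreducibleCloseds ↥(O i) :=
    (IrreducibleCloseds.orderIsoOfIsOpenEmbedding _ hemb).symm ⟨Z, hne⟩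
  have hZ' : IrreducibleCloseds.map Subtype.val hemb.continuous Z' = Z :=
    congrArg Subtype.val
      ((IrreducibleCloseds.orderIsoOfIsOpenEmbedding _ hemb).apply_symm_apply ⟨Z, hne⟩)
  have h1 : Order.coheight Z = Order.coheight Z' := by
    rw [← hZ']
    exact hemb.coheight_map Z'
  rw [h1]
  exact (Order.coheight_le_krullDim Z').trans (h i)

theorem isOpen_setOf_preimage_dim_le {X Y : Scheme.{u}} (f : X ⟶ Y) [LocallyOfFiniteType f]
    (hf : IsClosedMap f) (d : WithBot ℕ∞) :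
    IsOpen {y : ↥Y | topologicalKrullDim ↥(f ⁻¹' {y}) ≤ d} := by
  rw [isOpen_iff_forall_mem_open]
  intro y0 hy0
  have hkey : ∀ x : ↥(f ⁻¹' {y0}), ∃ W : Set ↥X, IsOpen W ∧ x.1 ∈ W ∧
      ∀ y : ↥Y, topologicalKrullDim ↥(W ∩ f ⁻¹' {y}) ≤ d := by
    intro x
    have hx : f x.1 = y0 := x.2
    exact scheme_key f x.1 d (by rw [hx]; exact hy0)
  choose W hWopen hxW hW using hkey
  let WW : Set ↥X := ⋃ x, W x
  have hWWopen : IsOpen WW := isOpen_iUnion hWopen
  let V : Set ↥Y := (f '' WWᶜ)ᶜ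
  have hVopen : IsOpen V := (hf _ hWWopen.isClosed_compl).isOpen_compl
  have hsubV : ∀ y ∈ V, f ⁻¹' {y} ⊆ WW := by
    intro y hy w hw
    by_contra hcon
    exact hy ⟨w, hcon, hw⟩
  refine ⟨V, ?_, hVopen, ?_⟩
  · intro y hy
    show topologicalKrullDim ↥(f ⁻¹' {y}) ≤ d
    refine dim_le_of_open_cover (T := ↥(f ⁻¹' {y}))
      (fun x : ↥(f ⁻¹' {y0}) => (Subtype.val ⁻¹' (W x) : Set ↥(f ⁻¹' {y})))
      (fun x => (hWopen x).preimage continuous_subtype_val) ?_ d ?_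
    · intro t
      have := hsubV y hy t.2
      obtain ⟨x, hx⟩ := Set.mem_iUnion.1 this
      exact ⟨x, hx⟩
    · intro x
      have e := dim_range_inter_eq (Subtype.val : ↥(f ⁻¹' {y}) → ↥X)
        Topology.IsEmbedding.subtypeVal (W x)
      rw [← e, Subtype.range_coe, Set.inter_comm]
      exact hW x y
  · intro hcon
    obtain ⟨w, hw, hfw⟩ := hcon
    exact hw (Set.mem_iUnion.2 ⟨⟨w, hfw⟩, hxW ⟨w, hfw⟩⟩)

theorem isOpen_setOf_fiber_dim_le {X Y : Scheme.{u}} (f : X ⟶ Y) [LocallyOfFiniteType f]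
    (hf : IsClosedMap f) (d : WithBot ℕ∞) :
    IsOpen {y : ↥Y | topologicalKrullDim ↥(f.fiber y) ≤ d} := by
  have := isOpen_setOf_preimage_dim_le f hf d
  have e : {y : ↥Y | topologicalKrullDim ↥(f.fiber y) ≤ d} =
      {y : ↥Y | topologicalKrullDim ↥(f ⁻¹' {y}) ≤ d} := by
    ext y
    show topologicalKrullDim ↥(f.fiber y) ≤ d ↔ topologicalKrullDim ↥(f ⁻¹' {y}) ≤ d
    rw [(f.fiberHomeo y).isHomeomorph.topologicalKrullDim_eq]
  rw [e]
  exact this

theorem withBot_enat_lt_succ_iff (a : WithBot ℕ∞) (m : ℕ) :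
    a < ((m + 1 : ℕ) : WithBot ℕ∞) ↔ a ≤ (m : WithBot ℕ∞) := by
  induction a using WithBot.recBotCoe with
  | bot => simp
  | coe a =>
    induction a using ENat.recTopCoe with
    | top =>
      constructor
      · intro h
        exact absurd h (by simpa using (WithBot.coe_le_coe.2 (le_top : ((m + 1 : ℕ) : ℕ∞) ≤ ⊤)).not_gt)
      · intro h
        have : ((⊤ : ℕ∞) : WithBot ℕ∞) ≤ ((m : ℕ∞) : WithBot ℕ∞) := h
        rw [WithBot.coe_le_coe] at this
        exact absurd this (by simp)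
    | coe k =>
      have e1 : (((k : ℕ∞) : WithBot ℕ∞) < ((m + 1 : ℕ) : WithBot ℕ∞)) ↔ k < m + 1 := by
        exact_mod_cast Iff.rfl
      have e2 : (((k : ℕ∞) : WithBot ℕ∞) ≤ (m : WithBot ℕ∞)) ↔ k ≤ m := by
        exact_mod_cast Iff.rfl
      rw [e1, e2]
      omega

theorem isClosed_setOf_le_fiber_dim {X Y : Scheme.{u}} (f : X ⟶ Y) [LocallyOfFiniteType f]
    (hf : IsClosedMap f) (n : ℕ) :
    IsClosed {y : ↥Y | (n : WithBot ℕ∞) ≤ topologicalKrullDim ↥(f.fiber y)} := by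
  rw [← isOpen_compl_iff]
  cases n with
  | zero =>
    have e : {y : ↥Y | ((0 : ℕ) : WithBot ℕ∞) ≤ topologicalKrullDim ↥(f.fiber y)}ᶜ =
        {y : ↥Y | topologicalKrullDim ↥(f.fiber y) ≤ ⊥} := by
      ext y
      show ¬ ((0 : ℕ) : WithBot ℕ∞) ≤ topologicalKrullDim ↥(f.fiber y) ↔
        topologicalKrullDim ↥(f.fiber y) ≤ ⊥
      rw [not_le, le_bot_iff, Nat.cast_zero]
      exact WithBot.lt_coe_bot
    rw [e]
    exact isOpen_setOf_fiber_dim_le f hf ⊥
  | succ m =>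
    have e : {y : ↥Y | ((m + 1 : ℕ) : WithBot ℕ∞) ≤ topologicalKrullDim ↥(f.fiber y)}ᶜ =
        {y : ↥Y | topologicalKrullDim ↥(f.fiber y) ≤ (m : WithBot ℕ∞)} := by
      ext y
      show ¬ ((m + 1 : ℕ) : WithBot ℕ∞) ≤ topologicalKrullDim ↥(f.fiber y) ↔
        topologicalKrullDim ↥(f.fiber y) ≤ (m : WithBot ℕ∞)
      rw [not_le]
      exact withBot_enat_lt_succ_iff _ m
    rw [e]
    exact isOpen_setOf_fiber_dim_le f hf _

end Groth.Agent.Helper5.FibDim
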