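import Mathlib
import Groth.Prelude.Def_Found
import Groth.Agent.S6333

set_option autoImplicit false
set_option linter.unusedSectionVars false
set_option linter.style.haveILetI false
universe u

namespace Groth.Agent.Helper5.NagataRed

/-- domain case: `D ⊆ T` domains, `T` of finite type, `D` Noetherian N-2 -/
theorem finite_integralClosure_domain (D T : Type u) [CommRing D] [IsDomain D]
    [IsNoetherianRing D] [CommRing T] [IsDomain T] [Algebra D T] [Algebra.FiniteType D T]
    (hinj : Function.Injective (algebraMap D T)) (hN2 : CAlg.IsN2 D) :
    Module.Finite D (integralClosure D T) := by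
  haveI : FaithfulSMul D T := (faithfulSMul_iff_algebraMap_injective D T).2 hinj
  haveI : FaithfulSMul D (FractionRing T) := by
    rw [faithfulSMul_iff_algebraMap_injective, IsScalarTower.algebraMap_eq D T (FractionRing T)]
    exact (IsFractionRing.injective T (FractionRing T)).comp hinj
  letI : Algebra (FractionRing D) (FractionRing T) := FractionRing.liftAlgebra D (FractionRing T)
  haveI : IsScalarTower D (FractionRing D) (FractionRing T) :=
    FractionRing.isScalarTower_liftAlgebra D (FractionRing T)
  -- finitely generated field extension
  haveI h1 : Algebra.EssFiniteType D (FractionRing T) :=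
    Algebra.EssFiniteType.comp D T (FractionRing T)
  haveI h2 : Algebra.EssFiniteType (FractionRing D) (FractionRing T) :=
    Algebra.EssFiniteType.of_comp D (FractionRing D) (FractionRing T)
  have hfg : (⊤ : IntermediateField (FractionRing D) (FractionRing T)).FG :=
    IntermediateField.fg_top_iff.2 h2
  haveI hfd : FiniteDimensional (FractionRing D)
      (algebraicClosure (FractionRing D) (FractionRing T)) :=
    Groth.Agent.S6333.result hfg
  haveI hfin := hN2 (algebraicClosure (FractionRing D) (FractionRing T)) hfd
  haveI : IsNoetherian D
      (integralClosure D (algebraicClosure (FractionRing D) (FractionRing T))) :=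
    isNoetherian_of_isNoetherianRing_of_finite D _
  -- the map to `L`
  let f₁ : integralClosure D T →ₐ[D] FractionRing T :=
    (IsScalarTower.toAlgHom D T (FractionRing T)).comp (integralClosure D T).val
  have hf₁int : ∀ x, IsIntegral D (f₁ x) := fun x =>
    IsIntegral.map (IsScalarTower.toAlgHom D T (FractionRing T)) x.2
  have hf₁ : ∀ x, f₁ x ∈
      (algebraicClosure (FractionRing D) (FractionRing T)).toSubalgebra.restrictScalars D := by
    intro x
    show f₁ x ∈ algebraicClosure (FractionRing D) (FractionRing T)
    rw [mem_algebraicClosure_iff']
    exact (hf₁int x).tower_top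
  let f₂ : integralClosure D T →ₐ[D] algebraicClosure (FractionRing D) (FractionRing T) :=
    f₁.codRestrict _ hf₁
  have hf₂ : ∀ x, f₂ x ∈
      integralClosure D (algebraicClosure (FractionRing D) (FractionRing T)) := by
    intro x
    have h3 : IsIntegral D (((algebraicClosure (FractionRing D) (FractionRing T)).val.restrictScalars D)
        (f₂ x)) := hf₁int x
    exact (isIntegral_algHom_iff _ (by
      intro a b hab
      exact Subtype.ext hab)).1 h3
  let f₃ : integralClosure D T →ₐ[D]
      integralClosure D (algebraicClosure (FractionRing D) (FractionRing T)) :=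
    f₂.codRestrict _ hf₂
  refine Module.Finite.of_injective f₃.toLinearMap ?_
  intro x y hxy
  have h4 : f₁ x = f₁ y := by
    have := congrArg (fun z : integralClosure D (algebraicClosure (FractionRing D) (FractionRing T)) =>
      (((z : algebraicClosure (FractionRing D) (FractionRing T))) : FractionRing T)) hxy
    exact this
  apply Subtype.ext
  exact IsFractionRing.injective T (FractionRing T) h4

/-- transfer along a surjection `R → D` -/
theorem finite_of_surjective (R D T : Type u) [CommRing R] [CommRing D] [CommRing T]
    [Algebra R D] [Algebra D T] [Algebra R T] [IsScalarTower R D T]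
    (hsurj : Function.Surjective (algebraMap R D))
    (h : Module.Finite D (integralClosure D T)) :
    Module.Finite R (integralClosure R T) := by
  haveI : Module.Finite R D := Module.Finite.of_surjective (Algebra.linearMap R D) hsurj
  haveI : Algebra.IsIntegral R D := Algebra.isIntegral_of_surjective hsurj
  haveI h1 : Module.Finite R (integralClosure D T) := Module.Finite.trans D _
  have h2 : (integralClosure D T).restrictScalars R = integralClosure R T := by
    ext x
    constructor
    · intro hx
      exact isIntegral_trans (A := D) x hx
    · intro hx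
      exact IsIntegral.tower_top hx
  rw [← h2]
  exact h1

/-- domain case over a Nagata ring -/
theorem finite_integralClosure_of_isDomain (R : Type u) [CommRing R] (hR : CAlg.IsNagata R)
    (T : Type u) [CommRing T] [IsDomain T] [Algebra R T] [Algebra.FiniteType R T] :
    Module.Finite R (integralClosure R T) := by
  haveI := hR.1
  haveI hp : (RingHom.ker (algebraMap R T)).IsPrime := RingHom.ker_isPrime _
  have hN2 := hR.2 (RingHom.ker (algebraMap R T))
  letI : Algebra (R ⧸ RingHom.ker (algebraMap R T)) T :=
    (RingHom.kerLift (algebraMap R T)).toAlgebra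
  haveI : IsScalarTower R (R ⧸ RingHom.ker (algebraMap R T)) T :=
    IsScalarTower.of_algebraMap_eq (fun x => rfl)
  haveI : Algebra.FiniteType (R ⧸ RingHom.ker (algebraMap R T)) T :=
    Algebra.FiniteType.of_restrictScalars_finiteType R _ T
  have hinj : Function.Injective (algebraMap (R ⧸ RingHom.ker (algebraMap R T)) T) :=
    RingHom.kerLift_injective _
  have h := finite_integralClosure_domain (R ⧸ RingHom.ker (algebraMap R T)) T hinj hN2
  exact finite_of_surjective R (R ⧸ RingHom.ker (algebraMap R T)) T
    Ideal.Quotient.mk_surjective h

/-- reduction to the quotients by minimal primes -/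
theorem finite_of_minimalPrimes (R S : Type u) [CommRing R] [IsNoetherianRing R]
    [CommRing S] [IsNoetherianRing S] [IsReduced S] [Algebra R S]
    (h : ∀ q ∈ minimalPrimes S, Module.Finite R (integralClosure R (S ⧸ q))) :
    Module.Finite R (integralClosure R S) := by
  haveI : Finite (minimalPrimes S) := (minimalPrimes.finite_of_isNoetherianRing S).to_subtype
  haveI : ∀ q : minimalPrimes S, Module.Finite R (integralClosure R (S ⧸ q.1)) :=
    fun q => h q.1 q.2
  haveI : IsNoetherian R (∀ q : minimalPrimes S, integralClosure R (S ⧸ q.1)) :=
    isNoetherian_of_isNoetherianRing_of_finite R _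
  let g : ∀ q : minimalPrimes S, integralClosure R S →ₐ[R] integralClosure R (S ⧸ q.1) :=
    fun q => ((Ideal.Quotient.mkₐ R q.1).comp (integralClosure R S).val).codRestrict _
      (fun x => IsIntegral.map (Ideal.Quotient.mkₐ R q.1) x.2)
  let G : integralClosure R S →ₗ[R] (∀ q : minimalPrimes S, integralClosure R (S ⧸ q.1)) :=
    LinearMap.pi (fun q => (g q).toLinearMap)
  refine Module.Finite.of_injective G ?_
  rw [← LinearMap.ker_eq_bot, LinearMap.ker_eq_bot']
  intro x hx
  apply Subtype.ext
  have h1 : (x : S) ∈ sInf (minimalPrimes S) := by
    rw [Ideal.mem_sInf]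
    intro q hq
    have h2 := congrFun hx ⟨q, hq⟩
    have h3 : Ideal.Quotient.mk q (x : S) = 0 := congrArg Subtype.val h2
    exact Ideal.Quotient.eq_zero_iff_mem.1 h3
  have h4 : sInf (minimalPrimes S) = ⊥ := by
    rw [minimalPrimes, Ideal.sInf_minimalPrimes]
    exact nilradical_eq_zero S
  rw [h4] at h1
  exact h1

theorem main (R : Type u) [CommRing R] (hR : CAlg.IsNagata R)
    (S : Type u) [CommRing S] [IsReduced S] [Algebra R S] [Algebra.FiniteType R S] :
    Module.Finite R (integralClosure R S) := by
  haveI := hR.1
  haveI : IsNoetherianRing S := Algebra.FiniteType.isNoetherianRing R S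
  refine finite_of_minimalPrimes R S ?_
  intro q hq
  haveI : q.IsPrime := hq.1.1
  exact finite_integralClosure_of_isDomain R hR (S ⧸ q)

end Groth.Agent.Helper5.NagataRed
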