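import Groth.Agent.Helper5.TraceLen2

set_option autoImplicit false
universe u
open LinearMap IsLocalRing Module nonZeroDivisors
attribute [local instance] FractionRing.liftAlgebra FractionRing.isScalarTower_liftAlgebra

namespace Groth.Agent.Helper5.Tame

variable (A B : Type*) [CommRing A] [IsDedekindDomain A]
    [CommRing B] [IsDedekindDomain B] [Algebra A B] [Module.Finite A B] [Module.IsTorsionFree A B]
    [Algebra.IsSeparable (FractionRing A) (FractionRing B)]

theorem differentIdeal_le_span_of_intTrace_mem (π : A) (hπ : π ≠ 0)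
    (h : ∀ y : B, Algebra.intTrace A B y ∈ Ideal.span {π}) :
    differentIdeal A B ≤ Ideal.span {algebraMap A B π} := by
  have hinj : Function.Injective (algebraMap A B) := FaithfulSMul.algebraMap_injective A B
  have hb0 : algebraMap A B π ≠ 0 := fun h0 => hπ (hinj (by rw [h0, map_zero]))
  have hI : Ideal.span {algebraMap A B π} ≠ ⊥ := by simpa using hb0
  rw [differentialIdeal_le_iff (K := FractionRing A) (L := FractionRing B) hI]
  rintro _ ⟨x, hx, rfl⟩
  simp only [Submodule.coe_restrictScalars, FractionalIdeal.coeIdeal_span_singleton,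
    FractionalIdeal.spanSingleton_inv, SetLike.mem_coe, FractionalIdeal.mem_coe,
    FractionalIdeal.mem_spanSingleton] at hx
  obtain ⟨z, rfl⟩ := hx
  obtain ⟨a, ha⟩ := Ideal.mem_span_singleton'.1 (h z)
  rw [Submodule.mem_one]
  refine ⟨a, ?_⟩
  have hπK : algebraMap A (FractionRing A) π ≠ 0 := by
    simpa using hπ
  have e1 : algebraMap B (FractionRing B) (algebraMap A B π) =
      algebraMap (FractionRing A) (FractionRing B) (algebraMap A (FractionRing A) π) := by
    rw [← IsScalarTower.algebraMap_apply, ← IsScalarTower.algebraMap_apply]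
  have e2 : z • (algebraMap B (FractionRing B) (algebraMap A B π))⁻¹ =
      (algebraMap A (FractionRing A) π)⁻¹ • algebraMap B (FractionRing B) z := by
    rw [e1, ← map_inv₀, Algebra.smul_def, Algebra.smul_def, mul_comm]
  rw [e2]
  simp only [LinearMap.coe_restrictScalars, map_smul, smul_eq_mul]
  rw [← Algebra.algebraMap_intTrace (A := A), ← ha, map_mul]
  field_simp

theorem not_map_dvd_differentIdeal_of_intTrace_not_mem (p : Ideal A) (y : B)
    (hy : Algebra.intTrace A B y ∉ p) : ¬ p.map (algebraMap A B) ∣ differentIdeal A B :=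
  not_dvd_differentIdeal_of_intTrace_not_mem A (p.map (algebraMap A B)) ⊤ (Ideal.mul_top _) y
    trivial hy

omit [Module.Finite A B] [Module.IsTorsionFree A B] [Algebra.IsSeparable (FractionRing A) (FractionRing B)] in
theorem map_eq_maximalIdeal_pow [IsLocalRing B] (p : Ideal A)
    [(maximalIdeal B).LiesOver p] (hpS : p.map (algebraMap A B) ≠ ⊥) :
    p.map (algebraMap A B) = maximalIdeal B ^ (maximalIdeal B).ramificationIdx A := by
  rw [Ideal.IsDedekindDomain.ramificationIdx_eq_normalizedFactors_count p (maximalIdeal B) hpS]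
  obtain ⟨Q, hQ1, hQ2⟩ := Ideal.eq_prime_pow_mul_coprime hpS (maximalIdeal B)
  have hQtop : Q = ⊤ := by
    by_contra hne
    rw [sup_eq_left.2 (IsLocalRing.le_maximalIdeal hne)] at hQ1
    exact (Ideal.IsPrime.ne_top inferInstance) hQ1
  rw [hQtop, Ideal.mul_top] at hQ2
  exact hQ2

end Groth.Agent.Helper5.Tame
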