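import Groth.Agent.Helper5.ComplDVR
import Groth.Agent.Helper5.Tame1

set_option autoImplicit false
universe u
open Polynomial

namespace Groth.Agent.Helper5.HenselFin

/-- Adic completeness only depends on the topology: `J ^ e ≤ I ≤ J`. -/
theorem isAdicComplete_of_pow_le {R : Type*} [CommRing R] (I J : Ideal R) (e : ℕ)
    (h1 : J ^ e ≤ I) (h2 : I ≤ J) [hI : IsAdicComplete I R] : IsAdicComplete J R := by
  have h1' : J ^ (e + 1) ≤ I := (Ideal.pow_le_pow_right (Nat.le_succ e)).trans h1
  have hle : ∀ n, J ^ ((e + 1) * n) ≤ I ^ n := fun n => by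
    rw [pow_mul]; exact Ideal.pow_right_mono h1' n
  have hle2 : ∀ n, I ^ n ≤ J ^ n := fun n => Ideal.pow_right_mono h2 n
  have hn : ∀ n, n ≤ (e + 1) * n := fun n => Nat.le_mul_of_pos_left n (Nat.succ_pos e)
  have hH : IsHausdorff J R := by
    constructor
    intro x hx
    apply hI.toIsHausdorff.haus' x
    intro n
    have := hx ((e + 1) * n)
    rw [SModEq.zero] at this ⊢
    simp only [smul_eq_mul, Ideal.mul_top] at this ⊢
    exact hle n this
  have hP : IsPrecomplete J R := by
    constructor
    intro f hf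
    obtain ⟨L, hL⟩ := hI.toIsPrecomplete.prec' (fun n => f ((e + 1) * n)) (by
      intro m n hmn
      have := hf (m := (e + 1) * m) (n := (e + 1) * n) (Nat.mul_le_mul_left _ hmn)
      rw [SModEq.sub_mem] at this ⊢
      simp only [smul_eq_mul, Ideal.mul_top] at this ⊢
      exact hle m this)
    refine ⟨L, fun n => ?_⟩
    have a1 := hf (m := n) (n := (e + 1) * n) (hn n)
    have a2 := hL n
    rw [SModEq.sub_mem] at a1 a2 ⊢
    simp only [smul_eq_mul, Ideal.mul_top] at a1 a2 ⊢
    have := Ideal.add_mem _ a1 (hle2 n a2)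
    rwa [sub_add_sub_cancel] at this
  exact { }

variable (A B : Type*) [CommRing A] [IsDomain A] [IsDiscreteValuationRing A]
    [IsAdicComplete (IsLocalRing.maximalIdeal A) A]
    [CommRing B] [IsDedekindDomain B] [Algebra A B] [Module.Finite A B] [Module.IsTorsionFree A B]

omit [Module.IsTorsionFree A B] in
include A in
theorem isLocalRing : IsLocalRing B := by
  obtain ⟨M₀, hM₀, huniq⟩ := ComplDVR.existsUnique_isMaximal_of_finite_of_complete A B
  exact IsLocalRing.of_unique_max_ideal ⟨M₀, hM₀, huniq⟩

omit [IsAdicComplete (IsLocalRing.maximalIdeal A) A] [IsDedekindDomain B] [Module.IsTorsionFree A B] in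
theorem liesOver (M : Ideal B) [hM : M.IsMaximal] : M.LiesOver (IsLocalRing.maximalIdeal A) := by
  have : Algebra.IsIntegral A B := Algebra.IsIntegral.of_finite A B
  constructor
  have : (M.comap (algebraMap A B)).IsMaximal := Ideal.isMaximal_comap_of_isIntegral_of_isMaximal M
  exact (IsLocalRing.eq_maximalIdeal this).symm

omit [IsAdicComplete (IsLocalRing.maximalIdeal A) A] in
theorem map_ne_bot : (IsLocalRing.maximalIdeal A).map (algebraMap A B) ≠ ⊥ := by
  have hinj : Function.Injective (algebraMap A B) := FaithfulSMul.algebraMap_injective A B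
  have h𝔪0 : IsLocalRing.maximalIdeal A ≠ ⊥ := IsDiscreteValuationRing.not_a_field A
  intro h
  apply h𝔪0
  rw [eq_bot_iff]
  intro a ha
  have : algebraMap A B a ∈ (IsLocalRing.maximalIdeal A).map (algebraMap A B) :=
    Ideal.mem_map_of_mem _ ha
  rw [h, Ideal.mem_bot] at this
  exact hinj (by rw [this, map_zero])

include A in
/-- A Dedekind domain finite and torsion-free over a complete DVR is complete with respect to its
maximal ideal. -/
theorem isAdicComplete (M : Ideal B) [hM : M.IsMaximal] : IsAdicComplete M B := by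
  have hloc : IsLocalRing B := isLocalRing A B
  have hMe : M = IsLocalRing.maximalIdeal B := IsLocalRing.eq_maximalIdeal hM
  subst hMe
  set 𝔪 := IsLocalRing.maximalIdeal A with h𝔪
  set I : Ideal B := 𝔪.map (algebraMap A B) with hI
  have hcompl : IsAdicComplete I B := by
    rw [hI, IsAdicComplete.map_algebraMap_iff]
    have h1 : IsPrecomplete 𝔪 B := ComplDVR.isPrecomplete_of_finite 𝔪 B
    have h2 : IsHausdorff 𝔪 B := inferInstance
    exact { }
  have := liesOver A B (IsLocalRing.maximalIdeal B)
  have hpow := Tame.map_eq_maximalIdeal_pow A B 𝔪 (map_ne_bot A B)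
  refine isAdicComplete_of_pow_le I _ ((IsLocalRing.maximalIdeal B).ramificationIdx A) hpow.ge ?_
  rw [hI, Ideal.map_le_iff_le_comap, ← Ideal.under_def,
    ← Ideal.LiesOver.over (p := 𝔪) (P := IsLocalRing.maximalIdeal B)]

include A in
theorem henselianRing (M : Ideal B) [hM : M.IsMaximal] : HenselianRing B M := by
  have := isAdicComplete A B M
  infer_instance

end Groth.Agent.Helper5.HenselFin
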