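import Mathlib
import Groth.Agent.S0543

set_option autoImplicit false
universe u
open scoped TensorProduct

namespace Groth.Agent.Helper5.ComplTest

open IsLocalRing

/-- If `B` is flat over `A` and `1 ⊗ m = 0` in `B ⊗ M`, then `1 ∈ Ann(m) B`. -/
theorem one_mem_map_of_tmul_eq_zero (A : Type u) [CommRing A] (B : Type u) [CommRing B] [Algebra A B]
    [Module.Flat A B] (M : Type u) [AddCommGroup M] [Module A M] (m : M)
    (h : (1 : B) ⊗ₜ[A] m = 0) :
    (1 : B) ∈ Ideal.map (algebraMap A B) (LinearMap.ker (LinearMap.toSpanSingleton A M m)) := by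
  set φ := LinearMap.toSpanSingleton A M m with hφ
  have hker := Module.Flat.ker_lTensor_eq (R := A) B B φ
  have h1 : ((1 : B) ⊗ₜ[A] (1 : A)) ∈
      LinearMap.ker (TensorProduct.AlgebraTensorModule.lTensor B B φ) := by
    rw [LinearMap.mem_ker]
    simp [φ, h]
  rw [hker] at h1
  obtain ⟨y, hy⟩ := h1
  have key : ∀ y : B ⊗[A] (LinearMap.ker φ),
      TensorProduct.AlgebraTensorModule.rid A B B
        (TensorProduct.AlgebraTensorModule.lTensor B B (LinearMap.ker φ).subtype y) ∈
        Ideal.map (algebraMap A B) (LinearMap.ker φ) := by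
    intro y
    induction y using TensorProduct.induction_on with
    | zero => simp
    | tmul b j =>
      simp only [TensorProduct.AlgebraTensorModule.lTensor_tmul, Submodule.subtype_apply,
        TensorProduct.AlgebraTensorModule.rid_tmul]
      rw [Algebra.smul_def]
      exact Ideal.mul_mem_right _ _ (Ideal.mem_map_of_mem _ j.2)
    | add x y hx hy =>
      rw [map_add, map_add]
      exact Ideal.add_mem _ hx hy
  have := key y
  rw [hy] at this
  simpa using this

theorem main (A : Type u) [CommRing A] [IsNoetherianRing A] (M : Type u) [AddCommGroup M]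
    [Module A M] (m : M)
    (h : ∀ (B : Type u) [CommRing B] [Algebra A B] [IsNoetherianRing B] [IsLocalRing B],
      IsAdicComplete (IsLocalRing.maximalIdeal B) B → Module.Flat A B → (1 : B) ⊗ₜ[A] m = 0) :
    m = 0 := by
  by_contra hm
  set J : Ideal A := LinearMap.ker (LinearMap.toSpanSingleton A M m) with hJ
  have hJne : J ≠ ⊤ := by
    intro htop
    have : (1 : A) ∈ J := htop ▸ Submodule.mem_top
    rw [hJ, LinearMap.mem_ker] at this
    simp at this
    exact hm this
  obtain ⟨P, hPmax, hJP⟩ := Ideal.exists_le_maximal J hJne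
  haveI : P.IsPrime := hPmax.isPrime
  let AP := Localization.AtPrime P
  let B := AdicCompletion (maximalIdeal AP) AP
  haveI : IsNoetherianRing B := Groth.Agent.S0543.result AP _
  haveI : Module.Flat A AP := IsLocalization.flat AP P.primeCompl
  haveI : Module.Flat AP B := inferInstance
  haveI : Module.Flat A B := Module.Flat.trans A AP B
  have h0 := h B inferInstance inferInstance
  have h1 := one_mem_map_of_tmul_eq_zero A B M m h0
  have hle : Ideal.map (algebraMap A B) J ≤ maximalIdeal B := by
    rw [Ideal.map_le_iff_le_comap]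
    intro j hj
    rw [Ideal.mem_comap, IsScalarTower.algebraMap_apply A AP B]
    have hjP : algebraMap A AP j ∈ maximalIdeal AP :=
      (IsLocalization.AtPrime.to_map_mem_maximal_iff AP P j).2 (hJP hj)
    rw [mem_maximalIdeal, mem_nonunits_iff] at hjP ⊢
    intro hu
    exact hjP (isUnit_of_map_unit (algebraMap AP B) _ hu)
  exact (maximalIdeal.isMaximal B).ne_top ((Ideal.eq_top_iff_one _).2 (hle h1))

end Groth.Agent.Helper5.ComplTest
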