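import Mathlib
import Groth.Prelude.Def_Brnch
import Groth.Agent.Helper5.BrAlg1

set_option autoImplicit false
set_option linter.unusedSectionVars false
set_option linter.style.haveILetI false
universe u

namespace Groth.Agent.Helper5.BrAlg

/-- embeddings over the residue field, transported along an identification of residue fields -/
theorem card_emb_eq (O : Type u) [CommRing O] [IsLocalRing O]
    (m' : MaximalSpectrum (CAlg2.normRed O)) (F : Type u) [Field F]
    (r : IsLocalRing.ResidueField O →+* F)
    (Θ : (CAlg2.normRed O ⧸ m'.asIdeal) ≃+* F)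
    (hΘ : ∀ o : O, Θ (Brnch.toResidue O m' o) = r (IsLocalRing.residue O o)) :
    letI := r.toAlgebra
    ENat.card (Brnch.Emb O m') = ENat.card (Field.Emb (IsLocalRing.ResidueField O) F) := by
  letI := r.toAlgebra
  -- algebraicity
  haveI halg : Algebra.IsAlgebraic (IsLocalRing.ResidueField O) F := by
    refine ⟨fun z => ?_⟩
    obtain ⟨w, rfl⟩ := Θ.surjective z
    obtain ⟨n, rfl⟩ := Ideal.Quotient.mk_surjective w
    have h1 : IsIntegral (CAlg2.red O) n := integralClosure.isIntegral n
    let φ' : CAlg2.red O →+* IsLocalRing.ResidueField O :=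
      Ideal.Quotient.lift (nilradical O) (IsLocalRing.residue O) (by
        intro a ha
        obtain ⟨k, hk⟩ := ha
        have : (IsLocalRing.residue O a) ^ k = 0 := by rw [← map_pow, hk, map_zero]
        exact eq_zero_of_pow_eq_zero this)
    have h2 := IsIntegral.map_of_comp_eq φ'
      ((Θ : _ →+* F).comp (Ideal.Quotient.mk m'.asIdeal)) (by
        ext o
        exact (hΘ o).symm) h1
    exact h2.isAlgebraic
  haveI : IsAlgClosed (AlgebraicClosure (IsLocalRing.ResidueField O)) := inferInstance
  let e1 : Brnch.Emb O m' ≃ (F →ₐ[IsLocalRing.ResidueField O]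
      AlgebraicClosure (IsLocalRing.ResidueField O)) :=
    { toFun := fun σ =>
        { toRingHom := σ.1.comp (Θ.symm : F →+* _)
          commutes' := by
            intro c
            obtain ⟨o, rfl⟩ := IsLocalRing.residue_surjective c
            show σ.1 (Θ.symm (r (IsLocalRing.residue O o))) = _
            rw [← hΘ o, Θ.symm_apply_apply]
            exact congrArg (fun f => f o) σ.2 }
      invFun := fun τ => ⟨τ.toRingHom.comp (Θ : _ →+* F), by
        ext o
        show τ (Θ (Brnch.toResidue O m' o)) = _
        rw [hΘ]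
        exact τ.commutes _⟩
      left_inv := fun σ => by
        apply Subtype.ext
        ext w
        show σ.1 (Θ.symm (Θ w)) = σ.1 w
        rw [Θ.symm_apply_apply]
      right_inv := fun τ => by
        ext w
        show τ (Θ (Θ.symm w)) = τ w
        rw [Θ.apply_symm_apply] }
  rw [ENat.card_congr e1]
  exact (ENat.card_congr (Field.embEquivOfIsAlgClosed (IsLocalRing.ResidueField O) F
    (AlgebraicClosure (IsLocalRing.ResidueField O)))).symm

/-- the same, through the integral closure in a fraction field -/
theorem card_emb_of_chart (O K : Type u) [CommRing O] [IsDomain O] [IsLocalRing O] [Field K]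
    [Algebra O K] [IsFractionRing O K]
    (m'' : Ideal (integralClosure O K)) (m' : MaximalSpectrum (CAlg2.normRed O))
    (hm : m'.asIdeal = m''.comap (normRedEquiv O K : CAlg2.normRed O →+* integralClosure O K))
    (F : Type u) [Field F] (r : IsLocalRing.ResidueField O →+* F)
    (θ : (integralClosure O K ⧸ m'') ≃+* F)
    (hθ : ∀ o : O, θ (Ideal.Quotient.mk _ (algebraMap O (integralClosure O K) o)) =
      r (IsLocalRing.residue O o)) :
    letI := r.toAlgebra
    ENat.card (Brnch.Emb O m') = ENat.card (Field.Emb (IsLocalRing.ResidueField O) F) := by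
  have hIJ : m'' = m'.asIdeal.map
      (normRedEquiv O K : CAlg2.normRed O →+* integralClosure O K) := by
    rw [hm]
    exact (Ideal.map_comap_of_surjective _ (RingEquiv.surjective _) _).symm
  refine card_emb_eq O m' F r ((Ideal.quotientEquiv m'.asIdeal m'' (normRedEquiv O K) hIJ).trans θ) ?_
  intro o
  show θ (Ideal.quotientEquiv m'.asIdeal m'' (normRedEquiv O K) hIJ (Ideal.Quotient.mk _
    (algebraMap (CAlg2.red O) (CAlg2.normRed O) (Ideal.Quotient.mk _ o)))) = _
  rw [Ideal.quotientEquiv_mk, normRedEquiv_algebraMap]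
  exact hθ o

/-- the residue field identification over the chart, as a statement about `normRed` -/
theorem exists_Theta_of_chart (O K : Type u) [CommRing O] [IsDomain O] [IsLocalRing O] [Field K]
    [Algebra O K] [IsFractionRing O K]
    (m'' : Ideal (integralClosure O K)) (m' : MaximalSpectrum (CAlg2.normRed O))
    (hm : m'.asIdeal = m''.comap (normRedEquiv O K : CAlg2.normRed O →+* integralClosure O K))
    (F : Type u) [Field F] (r : IsLocalRing.ResidueField O →+* F)
    (θ : (integralClosure O K ⧸ m'') ≃+* F)
    (hθ : ∀ o : O, θ (Ideal.Quotient.mk _ (algebraMap O (integralClosure O K) o)) =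
      r (IsLocalRing.residue O o)) :
    ∃ Θ : (CAlg2.normRed O ⧸ m'.asIdeal) ≃+* F,
      ∀ o : O, Θ (Brnch.toResidue O m' o) = r (IsLocalRing.residue O o) := by
  have hIJ : m'' = m'.asIdeal.map
      (normRedEquiv O K : CAlg2.normRed O →+* integralClosure O K) := by
    rw [hm]
    exact (Ideal.map_comap_of_surjective _ (RingEquiv.surjective _) _).symm
  refine ⟨(Ideal.quotientEquiv m'.asIdeal m'' (normRedEquiv O K) hIJ).trans θ, ?_⟩
  intro o
  show θ (Ideal.quotientEquiv m'.asIdeal m'' (normRedEquiv O K) hIJ (Ideal.Quotient.mk _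
    (algebraMap (CAlg2.red O) (CAlg2.normRed O) (Ideal.Quotient.mk _ o)))) = _
  rw [Ideal.quotientEquiv_mk, normRedEquiv_algebraMap]
  exact hθ o

/-- geometric unibranchness gives purely inseparable residue field extensions -/
theorem isPurelyInseparable_of_Theta (O : Type u) [CommRing O] [IsLocalRing O]
    (hO : CAlg2.IsGeomUnibranch O) (m' : MaximalSpectrum (CAlg2.normRed O)) (F : Type u)
    [Field F] (r : IsLocalRing.ResidueField O →+* F)
    (Θ : (CAlg2.normRed O ⧸ m'.asIdeal) ≃+* F)
    (hΘ : ∀ o : O, Θ (Brnch.toResidue O m' o) = r (IsLocalRing.residue O o)) :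
    r.IsPurelyInseparable := by
  letI := r.toAlgebra
  haveI : m'.asIdeal.IsMaximal := m'.isMaximal
  haveI : IsDomain (CAlg2.normRed O ⧸ m'.asIdeal) := Ideal.Quotient.isDomain _
  haveI h1 : ExpChar (CAlg2.normRed O ⧸ m'.asIdeal)
      (ringExpChar (CAlg2.normRed O ⧸ m'.asIdeal)) := ringExpChar.expChar _
  haveI h2 : ExpChar F (ringExpChar (CAlg2.normRed O ⧸ m'.asIdeal)) :=
    expChar_of_injective_ringHom (f := Θ.toRingHom) Θ.injective _
  haveI h3 : ExpChar (IsLocalRing.ResidueField O)
      (ringExpChar (CAlg2.normRed O ⧸ m'.asIdeal)) :=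
    RingHom.expChar r r.injective _
  show IsPurelyInseparable (IsLocalRing.ResidueField O) F
  rw [isPurelyInseparable_iff_pow_mem (IsLocalRing.ResidueField O)
    (ringExpChar (CAlg2.normRed O ⧸ m'.asIdeal))]
  intro z
  obtain ⟨w, rfl⟩ := Θ.surjective z
  obtain ⟨n, o, ho⟩ := hO.2 m'.asIdeal w
  refine ⟨n, IsLocalRing.residue O o, ?_⟩
  show r (IsLocalRing.residue O o) = _
  rw [← hΘ o, ← map_pow]
  exact congrArg Θ ho

end Groth.Agent.Helper5.BrAlg
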