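import Mathlib
import Groth.Agent.Helper5.BrOne
import Groth.Agent.Helper5.BrAlg3
import Groth.Prelude

set_option autoImplicit false
set_option linter.unusedSectionVars false
set_option linter.style.haveILetI false
universe u

namespace Groth.Agent.Helper5.BrOne

variable (O : Type u) [CommRing O] [IsLocalRing O] (m' : MaximalSpectrum (CAlg2.normRed O))

theorem ker_toResidue : RingHom.ker (Brnch.toResidue O m') = IsLocalRing.maximalIdeal O := by
  haveI := m'.isMaximal
  have hint : ((algebraMap (CAlg2.red O) (CAlg2.normRed O)).comp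
      (Ideal.Quotient.mk (nilradical O))).IsIntegral := by
    apply RingHom.IsIntegral.trans
    · exact RingHom.isIntegral_of_surjective _ Ideal.Quotient.mk_surjective
    · exact algebraMap_isIntegral_iff.2 inferInstance
  haveI hmax : (m'.asIdeal.comap ((algebraMap (CAlg2.red O) (CAlg2.normRed O)).comp
      (Ideal.Quotient.mk (nilradical O)))).IsMaximal :=
    Ideal.isMaximal_comap_of_isIntegral_of_isMaximal' _ hint m'.asIdeal
  have h1 : RingHom.ker (Brnch.toResidue O m') = m'.asIdeal.comap
      ((algebraMap (CAlg2.red O) (CAlg2.normRed O)).comp (Ideal.Quotient.mk (nilradical O))) := by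
    ext a
    simp only [RingHom.mem_ker, Ideal.mem_comap, Brnch.toResidue, RingHom.comp_apply,
      Ideal.Quotient.eq_zero_iff_mem]
  rw [h1]
  exact IsLocalRing.eq_maximalIdeal hmax

instance isLocalHom_toResidue : IsLocalHom (Brnch.toResidue O m') where
  map_nonunit a ha := by
    by_contra hna
    have h1 : a ∈ IsLocalRing.maximalIdeal O := (IsLocalRing.mem_maximalIdeal a).2 hna
    rw [← ker_toResidue O m'] at h1
    rw [RingHom.mem_ker] at h1
    rw [h1] at ha
    haveI := m'.isMaximal
    haveI : Nontrivial (CAlg2.normRed O ⧸ m'.asIdeal) := Ideal.Quotient.nontrivial_iff.2 (Ideal.IsMaximal.ne_top inferInstance)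
    exact not_isUnit_zero ha

/-- the residue field map `κ(O) → normRed O / m'` -/
noncomputable def rMap : IsLocalRing.ResidueField O →+* (CAlg2.normRed O ⧸ m'.asIdeal) :=
  haveI := m'.isMaximal
  letI : Field (CAlg2.normRed O ⧸ m'.asIdeal) := Ideal.Quotient.field _
  IsLocalRing.ResidueField.lift (Brnch.toResidue O m')

theorem rMap_residue (o : O) : rMap O m' (IsLocalRing.residue O o) = Brnch.toResidue O m' o := rfl

theorem card_emb :
    haveI := m'.isMaximal
    letI : Field (CAlg2.normRed O ⧸ m'.asIdeal) := Ideal.Quotient.field _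
    letI := (rMap O m').toAlgebra
    ENat.card (Brnch.Emb O m') =
      ENat.card (Field.Emb (IsLocalRing.ResidueField O) (CAlg2.normRed O ⧸ m'.asIdeal)) := by
  haveI := m'.isMaximal
  letI : Field (CAlg2.normRed O ⧸ m'.asIdeal) := Ideal.Quotient.field _
  exact Groth.Agent.Helper5.BrAlg.card_emb_eq O m' (CAlg2.normRed O ⧸ m'.asIdeal) (rMap O m')
    (RingEquiv.refl _) (fun o => rfl)

theorem pi_iff :
    haveI := m'.isMaximal
    letI : Field (CAlg2.normRed O ⧸ m'.asIdeal) := Ideal.Quotient.field _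
    letI := (rMap O m').toAlgebra
    IsPurelyInseparable (IsLocalRing.ResidueField O) (CAlg2.normRed O ⧸ m'.asIdeal) ↔
      ∀ x : CAlg2.normRed O ⧸ m'.asIdeal,
        ∃ n : ℕ, x ^ (ringExpChar (CAlg2.normRed O ⧸ m'.asIdeal)) ^ n ∈
          (Brnch.toResidue O m').range := by
  haveI := m'.isMaximal
  letI : Field (CAlg2.normRed O ⧸ m'.asIdeal) := Ideal.Quotient.field _
  letI := (rMap O m').toAlgebra
  haveI h1 : ExpChar (CAlg2.normRed O ⧸ m'.asIdeal)
      (ringExpChar (CAlg2.normRed O ⧸ m'.asIdeal)) := ringExpChar.expChar _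
  haveI h3 : ExpChar (IsLocalRing.ResidueField O)
      (ringExpChar (CAlg2.normRed O ⧸ m'.asIdeal)) :=
    RingHom.expChar (rMap O m') (rMap O m').injective _
  rw [isPurelyInseparable_iff_pow_mem (IsLocalRing.ResidueField O)
    (ringExpChar (CAlg2.normRed O ⧸ m'.asIdeal))]
  have hrange : (algebraMap (IsLocalRing.ResidueField O) (CAlg2.normRed O ⧸ m'.asIdeal)).range =
      (Brnch.toResidue O m').range := by
    ext z
    constructor
    · rintro ⟨c, rfl⟩
      obtain ⟨o, rfl⟩ := IsLocalRing.residue_surjective c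
      exact ⟨o, rfl⟩
    · rintro ⟨o, rfl⟩
      exact ⟨IsLocalRing.residue O o, rfl⟩
  rw [hrange]

theorem emb_nonempty : Nonempty (Brnch.Emb O m') := by
  haveI := m'.isMaximal
  letI : Field (CAlg2.normRed O ⧸ m'.asIdeal) := Ideal.Quotient.field _
  letI := (rMap O m').toAlgebra
  rw [← ENat.card_ne_zero_iff_nonempty, card_emb O m', ENat.card_ne_zero_iff_nonempty]
  infer_instance

theorem emb_subsingleton_iff :
    haveI := m'.isMaximal
    letI : Field (CAlg2.normRed O ⧸ m'.asIdeal) := Ideal.Quotient.field _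
    letI := (rMap O m').toAlgebra
    Subsingleton (Brnch.Emb O m') ↔
      IsPurelyInseparable (IsLocalRing.ResidueField O) (CAlg2.normRed O ⧸ m'.asIdeal) := by
  haveI := m'.isMaximal
  letI : Field (CAlg2.normRed O ⧸ m'.asIdeal) := Ideal.Quotient.field _
  letI := (rMap O m').toAlgebra
  rw [isPurelyInseparable_iff_subsingleton_emb, ← ENat.card_le_one_iff_subsingleton,
    ← ENat.card_le_one_iff_subsingleton, card_emb O m']

theorem s9236 (A : Type u) [CommRing A] [IsLocalRing A] :
    Brnch.numGeomBranches A = 1 ↔ CAlg2.IsGeomUnibranch A := by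
  classical
  unfold Brnch.numGeomBranches
  constructor
  · intro h
    by_cases hfin : (minimalPrimes A).Finite
    · simp only [hfin, if_true] at h
      obtain ⟨hU⟩ := ENat.card_eq_one_iff_unique.1 h
      have hsub : Subsingleton (MaximalSpectrum (CAlg2.normRed A)) := ⟨fun m₁ m₂ => by
        obtain ⟨e₁⟩ := emb_nonempty A m₁
        obtain ⟨e₂⟩ := emb_nonempty A m₂
        have := (hU.uniq ⟨m₁, e₁⟩).trans (hU.uniq ⟨m₂, e₂⟩).symm
        exact congrArg Sigma.fst this⟩
      have hcard : ENat.card (MaximalSpectrum (CAlg2.normRed A)) = 1 := by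
        rw [ENat.card_eq_one_iff_unique]
        exact ⟨{ default := hU.default.1, uniq := fun m => Subsingleton.elim _ _ }⟩
      refine ⟨unibranch_of_card A hfin hcard, ?_⟩
      intro m' hm' x
      have hs : Subsingleton (Brnch.Emb A ⟨m', hm'⟩) := ⟨fun e₁ e₂ => by
        have := (hU.uniq ⟨⟨m', hm'⟩, e₁⟩).trans (hU.uniq ⟨⟨m', hm'⟩, e₂⟩).symm
        exact eq_of_heq (Sigma.mk.inj this).2⟩
      have hpi := (pi_iff A ⟨m', hm'⟩).1 ((emb_subsingleton_iff A ⟨m', hm'⟩).1 hs)
      exact hpi x
    · simp only [hfin, if_false] at h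
      exact absurd h (by simp)
  · rintro ⟨⟨hdom, hloc⟩, hpi⟩
    have hfin := minimalPrimes_finite_of_isDomain_red A hdom
    simp only [hfin, if_true]
    haveI := hloc
    rw [ENat.card_eq_one_iff_unique]
    let m₀ : MaximalSpectrum (CAlg2.normRed A) := ⟨IsLocalRing.maximalIdeal _, inferInstance⟩
    have hm : ∀ m : MaximalSpectrum (CAlg2.normRed A), m = m₀ := fun m =>
      MaximalSpectrum.ext (IsLocalRing.eq_maximalIdeal m.isMaximal)
    have hs : ∀ m : MaximalSpectrum (CAlg2.normRed A), Subsingleton (Brnch.Emb A m) := fun m => by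
      haveI := m.isMaximal
      exact (emb_subsingleton_iff A m).2 ((pi_iff A m).2 (fun x => hpi m.asIdeal x))
    obtain ⟨e₀⟩ := emb_nonempty A m₀
    refine ⟨{ default := ⟨m₀, e₀⟩, uniq := ?_ }⟩
    rintro ⟨m, e⟩
    obtain rfl := hm m
    haveI := hs m₀
    congr 1
    exact Subsingleton.elim _ _

end Groth.Agent.Helper5.BrOne
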