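import Mathlib
import Groth.Agent.Helper5.CMFib1

set_option autoImplicit false
set_option linter.style.haveILetI false
set_option linter.unusedSectionVars false
universe u
open TensorProduct IsLocalRing

namespace Groth.Agent.Helper5.CMFib

section Tower

variable (A B C : Type u) [CommRing A] [CommRing B] [CommRing C] [IsLocalRing A] [IsLocalRing B]
  [IsLocalRing C] [Algebra A B] [Algebra B C] [Algebra A C] [IsScalarTower A B C]
  [IsLocalHom (algebraMap A B)] [IsLocalHom (algebraMap B C)]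

lemma map_mB : (EGA4.mB A B).map (algebraMap B C) = EGA4.mB A C := by
  unfold EGA4.mB
  rw [Ideal.map_map, ← IsScalarTower.algebraMap_eq]

lemma mB_map_le : (EGA4.mB A B).map (algebraMap B C) ≤ maximalIdeal C := by
  refine (Ideal.map_mono (IsLocalRing.map_maximalIdeal_le (algebraMap A B))).trans ?_
  exact IsLocalRing.map_maximalIdeal_le (algebraMap B C)

instance nontrivial_quot : Nontrivial (C ⧸ (EGA4.mB A B).map (algebraMap B C)) :=
  Ideal.Quotient.nontrivial_iff.2 (fun h =>
    (IsLocalRing.maximalIdeal.isMaximal C).ne_top (top_le_iff.1 (h ▸ mB_map_le A B C)))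

instance isLocalHom_quot :
    IsLocalHom (algebraMap (B ⧸ EGA4.mB A B) (C ⧸ (EGA4.mB A B).map (algebraMap B C))) := by
  refine ⟨fun q hq => ?_⟩
  obtain ⟨b, rfl⟩ := Ideal.Quotient.mk_surjective q
  rw [Ideal.Quotient.algebraMap_quotient_map_quotient] at hq
  haveI : IsLocalHom (Ideal.Quotient.mk ((EGA4.mB A B).map (algebraMap B C))) :=
    IsLocalHom.of_surjective _ Ideal.Quotient.mk_surjective
  have h1 : IsUnit (algebraMap B C b) := isUnit_of_map_unit _ _ hq
  have h2 : IsUnit b := isUnit_of_map_unit _ _ h1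
  exact h2.map _

instance flat_quot [Module.Flat B C] :
    Module.Flat (B ⧸ EGA4.mB A B) (C ⧸ (EGA4.mB A B).map (algebraMap B C)) := by
  let e0 : (C ⧸ (EGA4.mB A B).map (algebraMap B C)) ≃ₗ[B] (B ⧸ EGA4.mB A B) ⊗[B] C :=
    ((Ideal.qoutMapEquivTensorQout C (I := EGA4.mB A B)).restrictScalars B).trans
      (TensorProduct.comm B C (B ⧸ EGA4.mB A B))
  let e1 : (C ⧸ (EGA4.mB A B).map (algebraMap B C)) ≃ₗ[B ⧸ EGA4.mB A B]
      (B ⧸ EGA4.mB A B) ⊗[B] C :=
    e0.extendScalarsOfSurjective Ideal.Quotient.mk_surjective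
  exact Module.Flat.of_linearEquiv e1

/-- the closed fibre of the map of closed fibre rings is the closed fibre of `B → C` -/
theorem fibre_quot_equiv :
    Nonempty (((C ⧸ (EGA4.mB A B).map (algebraMap B C)) ⧸
      (maximalIdeal (B ⧸ EGA4.mB A B)).map
        (algebraMap (B ⧸ EGA4.mB A B) (C ⧸ (EGA4.mB A B).map (algebraMap B C)))) ≃+*
      (C ⧸ EGA4.mB B C)) := by
  let I' := (EGA4.mB A B).map (algebraMap B C)
  let K' := (maximalIdeal (B ⧸ EGA4.mB A B)).map
        (algebraMap (B ⧸ EGA4.mB A B) (C ⧸ I'))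
  let φ : C →+* (C ⧸ I') ⧸ K' := (Ideal.Quotient.mk K').comp (Ideal.Quotient.mk I')
  have hφ : Function.Surjective φ :=
    Ideal.Quotient.mk_surjective.comp Ideal.Quotient.mk_surjective
  have hK' : K' = (EGA4.mB B C).map (Ideal.Quotient.mk I') := by
    show (maximalIdeal (B ⧸ EGA4.mB A B)).map _ = _
    rw [← IsLocalRing.map_maximalIdeal_of_surjective (Ideal.Quotient.mk (EGA4.mB A B))
      Ideal.Quotient.mk_surjective]
    have hcomp : (algebraMap (B ⧸ EGA4.mB A B) (C ⧸ I')).comp (Ideal.Quotient.mk (EGA4.mB A B)) =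
        (Ideal.Quotient.mk I').comp (algebraMap B C) := RingHom.ext fun b => rfl
    exact (Ideal.map_map _ _).trans ((congrArg (fun h => Ideal.map h (maximalIdeal B)) hcomp).trans
      (Ideal.map_map (I := maximalIdeal B) (algebraMap B C) (Ideal.Quotient.mk I')).symm)
  have hle : I' ≤ EGA4.mB B C :=
    Ideal.map_mono (IsLocalRing.map_maximalIdeal_le (algebraMap A B))
  have hker : RingHom.ker φ = EGA4.mB B C := by
    rw [← RingHom.comap_ker, Ideal.mk_ker, hK',
      Ideal.comap_map_of_surjective _ Ideal.Quotient.mk_surjective, ← RingHom.ker_eq_comap_bot,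
      Ideal.mk_ker]
    exact sup_eq_left.2 hle
  exact ⟨((Ideal.quotEquivOfEq hker.symm).trans
    (RingHom.quotientKerEquivOfSurjective hφ)).symm⟩

end Tower

end Groth.Agent.Helper5.CMFib
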