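import Mathlib
import Groth.Agent.Helper5.CMFib4
import Groth.Agent.Helper2.FibSmAt

set_option autoImplicit false
set_option linter.style.haveILetI false
set_option linter.unusedSectionVars false
universe u
open TensorProduct IsLocalRing AlgebraicGeometry CategoryTheory CategoryTheory.Limits

namespace Groth.Agent.Helper5.CMFib

section Tower

variable (A B C : Type u) [CommRing A] [CommRing B] [CommRing C] [IsLocalRing A] [IsLocalRing B]
  [IsLocalRing C] [Algebra A B] [Algebra B C] [Algebra A C] [IsScalarTower A B C]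
  [IsLocalHom (algebraMap A B)] [IsLocalHom (algebraMap B C)]

/-- composition of Cohen–Macaulay local homomorphisms, ring form -/
theorem cm_comp_ring [Module.Flat B C]
    (hB : LocCoh.IsCohenMacaulayLocalRing (B ⧸ EGA4.mB A B))
    (hC : LocCoh.IsCohenMacaulayLocalRing (C ⧸ EGA4.mB B C))
    [IsNoetherianRing (C ⧸ EGA4.mB A C)] :
    LocCoh.IsCohenMacaulayLocalRing (C ⧸ EGA4.mB A C) := by
  let eq : (C ⧸ (EGA4.mB A B).map (algebraMap B C)) ≃+* (C ⧸ EGA4.mB A C) :=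
    Ideal.quotEquivOfEq (map_mB A B C)
  haveI : IsNoetherianRing (C ⧸ (EGA4.mB A B).map (algebraMap B C)) :=
    isNoetherianRing_of_ringEquiv _ eq.symm
  haveI : IsNoetherianRing (B ⧸ EGA4.mB A B) := hB.toIsNoetherian
  obtain ⟨e⟩ := fibre_quot_equiv A B C
  have hF := Groth.Agent.Lead.CMCl.cm_of_ringEquiv e.symm (h := hC)
  have h1 := cm_of_flat_of_fibre (B ⧸ EGA4.mB A B) (C ⧸ (EGA4.mB A B).map (algebraMap B C)) hB hF
  exact Groth.Agent.Lead.CMCl.cm_of_ringEquiv eq (h := h1)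

/-- converse -/
theorem cm_of_comp_ring [Module.Flat B C] [IsNoetherianRing (B ⧸ EGA4.mB A B)]
    (hAC : LocCoh.IsCohenMacaulayLocalRing (C ⧸ EGA4.mB A C)) :
    LocCoh.IsCohenMacaulayLocalRing (B ⧸ EGA4.mB A B) ∧
      LocCoh.IsCohenMacaulayLocalRing (C ⧸ EGA4.mB B C) := by
  let eq : (C ⧸ (EGA4.mB A B).map (algebraMap B C)) ≃+* (C ⧸ EGA4.mB A C) :=
    Ideal.quotEquivOfEq (map_mB A B C)
  have h0 := Groth.Agent.Lead.CMCl.cm_of_ringEquiv eq.symm (h := hAC)
  haveI : IsNoetherianRing (C ⧸ (EGA4.mB A B).map (algebraMap B C)) := h0.toIsNoetherian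
  obtain ⟨e⟩ := fibre_quot_equiv A B C
  obtain ⟨h1, h2⟩ :=
    cm_of_flat (B ⧸ EGA4.mB A B) (C ⧸ (EGA4.mB A B).map (algebraMap B C)) h0
  exact ⟨h1, Groth.Agent.Lead.CMCl.cm_of_ringEquiv e (h := h2)⟩

end Tower

section Sch

variable {X Y Z : Scheme.{u}} (f : X ⟶ Y) (g : Y ⟶ Z) (x : X)

/-- S9766 -/
theorem s9766 (hN : IsLocallyNoetherian ((f ≫ g).fiber (g (f x))))
    (hf : MoreMor.IsCMAt f x) (hg : MoreMor.IsCMAt g (f x)) : MoreMor.IsCMAt (f ≫ g) x := by
  letI algAB : Algebra (Z.presheaf.stalk (g (f x))) (Y.presheaf.stalk (f x)) :=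
    (g.stalkMap (f x)).hom.toAlgebra
  letI algBC : Algebra (Y.presheaf.stalk (f x)) (X.presheaf.stalk x) :=
    (f.stalkMap x).hom.toAlgebra
  letI algAC : Algebra (Z.presheaf.stalk (g (f x))) (X.presheaf.stalk x) :=
    ((f ≫ g).stalkMap x).hom.toAlgebra
  haveI : IsLocalHom (algebraMap (Y.presheaf.stalk (f x)) (X.presheaf.stalk x)) :=
    inferInstanceAs (IsLocalHom (f.stalkMap x).hom)
  haveI : IsLocalHom (algebraMap (Z.presheaf.stalk (g (f x))) (Y.presheaf.stalk (f x))) :=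
    inferInstanceAs (IsLocalHom (g.stalkMap (f x)).hom)
  haveI : IsScalarTower (Z.presheaf.stalk (g (f x))) (Y.presheaf.stalk (f x))
      (X.presheaf.stalk x) :=
    IsScalarTower.of_algebraMap_eq (fun a => by
      change ((f ≫ g).stalkMap x).hom a = (f.stalkMap x).hom ((g.stalkMap (f x)).hom a)
      rw [Scheme.Hom.stalkMap_comp]
      rfl)
  obtain ⟨hf1, hf2⟩ := hf
  obtain ⟨hg1, hg2⟩ := hg
  haveI : Module.Flat (Y.presheaf.stalk (f x)) (X.presheaf.stalk x) := hf1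
  obtain ⟨ef⟩ := fibre_stalk_equiv' f x
  obtain ⟨eg⟩ := fibre_stalk_equiv' g (f x)
  obtain ⟨efg⟩ := fibre_stalk_equiv' (f ≫ g) x
  refine ⟨?_, ?_⟩
  · rw [Scheme.Hom.stalkMap_comp]
    exact RingHom.Flat.comp hg1 hf1
  · have hB := Groth.Agent.Lead.CMCl.cm_of_ringEquiv eg.symm (h := hg2)
    have hC := Groth.Agent.Lead.CMCl.cm_of_ringEquiv ef.symm (h := hf2)
    haveI hN' : IsLocallyNoetherian ((f ≫ g).fiber ((f ≫ g) x)) := hN
    haveI : IsNoetherianRing (((f ≫ g).fiber ((f ≫ g) x)).presheaf.stalk ((f ≫ g).asFiber x)) :=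
      inferInstance
    haveI : IsNoetherianRing (X.presheaf.stalk x ⧸
        EGA4.mB (Z.presheaf.stalk (g (f x))) (X.presheaf.stalk x)) :=
      isNoetherianRing_of_ringEquiv _ efg.symm
    have h1 := cm_comp_ring (Z.presheaf.stalk (g (f x))) (Y.presheaf.stalk (f x))
      (X.presheaf.stalk x) hB hC
    exact Groth.Agent.Lead.CMCl.cm_of_ringEquiv efg (h := h1)

/-- S9767 -/
theorem s9767 (hNg : IsLocallyNoetherian (g.fiber (g (f x))))
    (h : MoreMor.IsCMAt (f ≫ g) x) (hfl : (f.stalkMap x).hom.Flat) :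
    MoreMor.IsCMAt f x ∧ MoreMor.IsCMAt g (f x) := by
  letI algAB : Algebra (Z.presheaf.stalk (g (f x))) (Y.presheaf.stalk (f x)) :=
    (g.stalkMap (f x)).hom.toAlgebra
  letI algBC : Algebra (Y.presheaf.stalk (f x)) (X.presheaf.stalk x) :=
    (f.stalkMap x).hom.toAlgebra
  letI algAC : Algebra (Z.presheaf.stalk (g (f x))) (X.presheaf.stalk x) :=
    ((f ≫ g).stalkMap x).hom.toAlgebra
  haveI : IsLocalHom (algebraMap (Y.presheaf.stalk (f x)) (X.presheaf.stalk x)) :=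
    inferInstanceAs (IsLocalHom (f.stalkMap x).hom)
  haveI : IsLocalHom (algebraMap (Z.presheaf.stalk (g (f x))) (Y.presheaf.stalk (f x))) :=
    inferInstanceAs (IsLocalHom (g.stalkMap (f x)).hom)
  haveI : IsScalarTower (Z.presheaf.stalk (g (f x))) (Y.presheaf.stalk (f x))
      (X.presheaf.stalk x) :=
    IsScalarTower.of_algebraMap_eq (fun a => by
      change ((f ≫ g).stalkMap x).hom a = (f.stalkMap x).hom ((g.stalkMap (f x)).hom a)
      rw [Scheme.Hom.stalkMap_comp]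
      rfl)
  obtain ⟨h1, h2⟩ := h
  haveI : Module.Flat (Y.presheaf.stalk (f x)) (X.presheaf.stalk x) := hfl
  obtain ⟨ef⟩ := fibre_stalk_equiv' f x
  obtain ⟨eg⟩ := fibre_stalk_equiv' g (f x)
  obtain ⟨efg⟩ := fibre_stalk_equiv' (f ≫ g) x
  have hgfl : (g.stalkMap (f x)).hom.Flat := Groth.Agent.Helper2.FibSmAt.flat_of_comp_flat f g x h1 hfl
  haveI : IsNoetherianRing ((g.fiber (g (f x))).presheaf.stalk (g.asFiber (f x))) := inferInstance
  haveI : IsNoetherianRing (Y.presheaf.stalk (f x) ⧸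
      EGA4.mB (Z.presheaf.stalk (g (f x))) (Y.presheaf.stalk (f x))) :=
    isNoetherianRing_of_ringEquiv _ eg.symm
  have hAC := Groth.Agent.Lead.CMCl.cm_of_ringEquiv efg.symm (h := h2)
  obtain ⟨h3, h4⟩ := cm_of_comp_ring (Z.presheaf.stalk (g (f x))) (Y.presheaf.stalk (f x))
      (X.presheaf.stalk x) hAC
  exact ⟨⟨hfl, Groth.Agent.Lead.CMCl.cm_of_ringEquiv ef (h := h4)⟩,
    ⟨hgfl, Groth.Agent.Lead.CMCl.cm_of_ringEquiv eg (h := h3)⟩⟩

end Sch

end Groth.Agent.Helper5.CMFib
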