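import Mathlib

set_option autoImplicit false
universe u
open CategoryTheory CategoryTheory.Limits AlgebraicGeometry Opposite

namespace Groth.Agent.Helper5.DimIneq

/-- A morphism of schemes that is a topological embedding is strictly monotone for the
specialization order. -/
theorem strictMono_of_isEmbedding {A B : Scheme.{u}} (g : A ⟶ B)
    (hg : Topology.IsEmbedding g.base) : StrictMono (fun a : ↥A => g a) := by
  intro a a' h
  obtain ⟨h1, h2⟩ := h
  change a' ⤳ a at h1
  change ¬ a ⤳ a' at h2
  refine ⟨h1.map g.continuous, fun h3 => h2 ?_⟩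
  exact hg.toIsInducing.specializes_iff.1 h3

theorem coheight_le_of_isEmbedding {A B : Scheme.{u}} (g : A ⟶ B)
    (hg : Topology.IsEmbedding g.base) (a : ↥A) : Order.coheight a ≤ Order.coheight (g a) :=
  Order.coheight_le_coheight_apply_of_strictMono _ (strictMono_of_isEmbedding g hg) a

set_option backward.isDefEq.respectTransparency false in
/-- The local dimension inequality `dim 𝒪_{X,x} ≤ dim 𝒪_{Y,y} + dim 𝒪_{X_y,x}`. -/
theorem stalk_dim_le {X Y : Scheme.{u}} (f : X ⟶ Y) (x : ↥X)
    [IsNoetherianRing (X.presheaf.stalk x)] [IsNoetherianRing (Y.presheaf.stalk (f x))] :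
    ringKrullDim (X.presheaf.stalk x) ≤
      ringKrullDim (Y.presheaf.stalk (f x)) +
        ringKrullDim ((f.fiber (f x)).presheaf.stalk (f.asFiber x)) := by
  let A := Y.presheaf.stalk (f x)
  let B := X.presheaf.stalk x
  let φ : A →+* B := (f.stalkMap x).hom
  let _ : Algebra A B := φ.toAlgebra
  let mA := IsLocalRing.maximalIdeal A
  let mB := IsLocalRing.maximalIdeal B
  have hlies : mB.LiesOver mA := by
    constructor
    have h0 : IsLocalHom φ := inferInstanceAs (IsLocalHom (f.stalkMap x).hom)
    have h := ((IsLocalRing.local_hom_TFAE φ).out 0 4).1 h0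
    exact h.symm
  let I : Ideal B := mA.map (algebraMap A B)
  have hI : I ≤ mB := by
    rw [Ideal.map_le_iff_le_comap]
    exact hlies.over.le
  let P' : Ideal (B ⧸ I) := mB.map (Ideal.Quotient.mk I)
  have hP' : P'.IsPrime := Ideal.isPrime_map_quotientMk_of_isPrime hI
  have key := Ideal.height_le_height_add_of_liesOver mA mB
  -- scheme side
  let ψ : Y.residueField (f x) →+* (B ⧸ I) :=
    Ideal.Quotient.lift mA ((Ideal.Quotient.mk I).comp φ) (fun a ha => by
      simp only [RingHom.comp_apply]
      exact Ideal.Quotient.eq_zero_iff_mem.2 (Ideal.mem_map_of_mem _ ha))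
  let C : CommRingCat.{u} := CommRingCat.of (B ⧸ I)
  have comm : (Spec.map (CommRingCat.ofHom (Ideal.Quotient.mk I)) ≫ X.fromSpecStalk x) ≫ f =
      Spec.map (CommRingCat.ofHom ψ) ≫ Y.fromSpecResidueField (f x) := by
    rw [Category.assoc, ← Scheme.SpecMap_stalkMap_fromSpecStalk, Scheme.fromSpecResidueField,
      ← Spec.map_comp_assoc, ← Spec.map_comp_assoc]
    congr 2
  let g : Spec C ⟶ f.fiber (f x) :=
    pullback.lift (Spec.map (CommRingCat.ofHom (Ideal.Quotient.mk I)) ≫ X.fromSpecStalk x)
      (Spec.map (CommRingCat.ofHom ψ)) comm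
  have hg : g ≫ f.fiberι (f x) =
      Spec.map (CommRingCat.ofHom (Ideal.Quotient.mk I)) ≫ X.fromSpecStalk x :=
    pullback.lift_fst _ _ _
  have hemb : Topology.IsEmbedding g.base := by
    have h1 : Topology.IsEmbedding (g ≫ f.fiberι (f x)).base := by
      rw [hg]
      have : IsClosedImmersion (Spec.map (CommRingCat.ofHom (Ideal.Quotient.mk I))) :=
        IsClosedImmersion.spec_of_surjective _ Ideal.Quotient.mk_surjective
      exact (Spec.map (CommRingCat.ofHom (Ideal.Quotient.mk I)) ≫ X.fromSpecStalk x).isEmbedding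
    exact Topology.IsEmbedding.of_comp g.continuous (f.fiberι (f x)).continuous
      (by simpa using h1)
  let pt : Spec C := ⟨P', hP'⟩
  have hpt : g pt = f.asFiber x := by
    apply (f.fiberι (f x)).isEmbedding.injective
    rw [Scheme.Hom.fiberι_asFiber, ← Scheme.Hom.comp_apply, hg, Scheme.Hom.comp_apply]
    have : (Spec.map (CommRingCat.ofHom (Ideal.Quotient.mk I))) pt = IsLocalRing.closedPoint B := by
      apply PrimeSpectrum.ext
      show Ideal.comap (Ideal.Quotient.mk I) P' = mB
      rw [Ideal.comap_map_of_surjective' _ Ideal.Quotient.mk_surjective, Ideal.mk_ker,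
        sup_of_le_left hI]
    rw [this]
    exact Scheme.fromSpecStalk_closedPoint
  have h2 : (P'.height : WithBot ℕ∞) ≤
      ringKrullDim ((f.fiber (f x)).presheaf.stalk (f.asFiber x)) := by
    rw [ringKrullDim_stalk_eq_coheight, ← hpt]
    have := coheight_le_of_isEmbedding g hemb pt
    rw [← idealHeight_eq_coheight C pt] at this
    exact_mod_cast this
  calc ringKrullDim B = mB.height := (IsLocalRing.maximalIdeal_height_eq_ringKrullDim).symm
    _ ≤ mA.height + P'.height := by exact_mod_cast key
    _ = ringKrullDim A + P'.height := by rw [IsLocalRing.maximalIdeal_height_eq_ringKrullDim]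
    _ ≤ _ := by gcongr

end Groth.Agent.Helper5.DimIneq
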