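import Mathlib
import Groth.Agent.Helper5.RelDepth1
import Groth.Agent.Helper2.DepthCM4

set_option autoImplicit false
set_option linter.style.haveILetI false
universe u
open CategoryTheory CategoryTheory.Limits AlgebraicGeometry TopologicalSpace Topology TensorProduct

namespace Groth.Agent.Helper5.RelDepth

theorem depth_eq_dim_of_cm (R : Type u) [CommRing R] [IsLocalRing R]
    (h : LocCoh.IsCohenMacaulayLocalRing R) :
    ((LocCoh.depth R R : ℕ∞) : WithBot ℕ∞) = ringKrullDim R := by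
  have := h.supportDim_eq_depth
  rw [Module.supportDim_self_eq_ringKrullDim] at this
  exact this.symm

theorem dim_fiberStalk_le_depth {X S : Scheme.{u}} [IsLocallyNoetherian X] [IsLocallyNoetherian S]
    (f : X ⟶ S) [Flat f] (y : X)
    (hCM : LocCoh.IsCohenMacaulayLocalRing ↑(CInt.fiberStalk f y)) :
    ringKrullDim ↑(CInt.fiberStalk f y) ≤
      ((LocCoh.depth ↑(X.presheaf.stalk y) ↑(X.presheaf.stalk y) : ℕ∞) : WithBot ℕ∞) := by
  rw [← depth_eq_dim_of_cm _ hCM, depth_stalk_eq f y]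
  exact_mod_cast le_add_self

theorem s14107 {X S : Scheme.{u}} [IsLocallyNoetherian X]
    [IsLocallyNoetherian S] (f : X ⟶ S) [Flat f]
    (hCM : ∀ x : ↥X, LocCoh.IsCohenMacaulayLocalRing ↑(CInt.fiberStalk f x))
    (Y : Set ↥X) (d : ℕ)
    (hcodim : ∀ y : ↥X, y ∈ Y → (d : WithBot ℕ∞) ≤ ringKrullDim ↑(CInt.fiberStalk f y)) :
    ∀ y : ↥X, y ∈ Y → (d : ℕ∞) ≤ LocCoh.depth ↑(X.presheaf.stalk y) ↑(X.presheaf.stalk y) := by
  intro y hy
  have h1 := (hcodim y hy).trans (dim_fiberStalk_le_depth f y (hCM y))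
  exact_mod_cast h1

theorem s14108 {X S : Scheme.{u}} [IsLocallyNoetherian X]
    [IsLocallyNoetherian S] (f : X ⟶ S) [Flat f]
    (hCM : ∀ x : ↥X, LocCoh.IsCohenMacaulayLocalRing ↑(CInt.fiberStalk f x))
    (Y : Set ↥X)
    (hcodim : (⨅ y : Y, ringKrullDim ↑(CInt.fiberStalk f y.1)) = ⨅ y : Y, ringKrullDim ↑(X.presheaf.stalk y.1)) :
    (⨅ y : Y, ((LocCoh.depth ↑(X.presheaf.stalk y.1) ↑(X.presheaf.stalk y.1) : ℕ∞) : WithBot ℕ∞)) =
      ⨅ y : Y, ringKrullDim ↑(X.presheaf.stalk y.1) := by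
  apply le_antisymm
  · refine iInf_mono fun y => ?_
    have := Groth.Agent.Helper2.DepthCM4.depth_le_supportDim (A := X.presheaf.stalk y.1)
      (X.presheaf.stalk y.1)
    rw [Module.supportDim_self_eq_ringKrullDim] at this
    exact this
  · rw [← hcodim]
    refine iInf_mono fun y => ?_
    exact dim_fiberStalk_le_depth f y.1 (hCM y.1)

end Groth.Agent.Helper5.RelDepth
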