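import Mathlib
import Groth.Agent.Helper5.RelDepth2
import Groth.Agent.Helper5.CMFib5
import Groth.Agent.Helper5.BCDim2
import Groth.Agent.Helper5.DimIneq

set_option autoImplicit false
set_option linter.style.haveILetI false
set_option linter.unusedSectionVars false
universe u
open CategoryTheory CategoryTheory.Limits AlgebraicGeometry TopologicalSpace Topology TensorProduct
open IsLocalRing

namespace Groth.Agent.Helper5.RelDepth

/-- dimension inequality for a local homomorphism of Noetherian local rings -/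
theorem ringKrullDim_le_quot_add {R S : Type*} [CommRing R] [CommRing S] [IsLocalRing R]
    [IsLocalRing S] [IsNoetherianRing R] [IsNoetherianRing S] [Algebra R S]
    [IsLocalHom (algebraMap R S)] :
    ringKrullDim S ≤
      ringKrullDim (S ⧸ (IsLocalRing.maximalIdeal R).map (algebraMap R S)) + ringKrullDim R := by
  haveI : (IsLocalRing.maximalIdeal S).LiesOver (IsLocalRing.maximalIdeal R) :=
    ⟨(((IsLocalRing.local_hom_TFAE (algebraMap R S)).out 0 4 rfl rfl).mp inferInstance).symm⟩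
  have h := Ideal.height_le_height_add_of_liesOver (IsLocalRing.maximalIdeal R)
    (IsLocalRing.maximalIdeal S)
  set I := (IsLocalRing.maximalIdeal R).map (algebraMap R S) with hI
  have hIle : I ≤ IsLocalRing.maximalIdeal S := by
    rw [hI, Ideal.map_le_iff_le_comap]
    exact (Ideal.LiesOver.over (p := IsLocalRing.maximalIdeal R)
      (P := IsLocalRing.maximalIdeal S)).le
  haveI : Nontrivial (S ⧸ I) := Ideal.Quotient.nontrivial_iff.2 (fun h =>
    (IsLocalRing.maximalIdeal.isMaximal S).ne_top (top_le_iff.1 (h ▸ hIle)))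
  haveI : IsLocalRing (S ⧸ I) :=
    IsLocalRing.of_surjective' (Ideal.Quotient.mk I) Ideal.Quotient.mk_surjective
  have hmax : (IsLocalRing.maximalIdeal S).map (Ideal.Quotient.mk I) =
      IsLocalRing.maximalIdeal (S ⧸ I) :=
    IsLocalRing.map_maximalIdeal_of_surjective (Ideal.Quotient.mk I) Ideal.Quotient.mk_surjective
  rw [hmax] at h
  rw [← IsLocalRing.maximalIdeal_height_eq_ringKrullDim,
    ← IsLocalRing.maximalIdeal_height_eq_ringKrullDim,
    ← IsLocalRing.maximalIdeal_height_eq_ringKrullDim, add_comm]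
  exact_mod_cast h

section Tower

variable (A B C : Type u) [CommRing A] [CommRing B] [CommRing C] [IsLocalRing A] [IsLocalRing B]
  [IsLocalRing C] [Algebra A B] [Algebra B C] [Algebra A C] [IsScalarTower A B C]
  [IsLocalHom (algebraMap A B)] [IsLocalHom (algebraMap B C)]
  [IsNoetherianRing B] [IsNoetherianRing C]

theorem dim_fib_le_of_flat [Module.Flat B C] :
    ringKrullDim (B ⧸ EGA4.mB A B) ≤ ringKrullDim (C ⧸ EGA4.mB A C) := by
  let eq : (C ⧸ (EGA4.mB A B).map (algebraMap B C)) ≃+* (C ⧸ EGA4.mB A C) :=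
    Ideal.quotEquivOfEq (Groth.Agent.Helper5.CMFib.map_mB A B C)
  rw [← ringKrullDim_eq_of_ringEquiv eq]
  have h := Groth.Agent.Helper5.BCDim.ringKrullDim_quot_add (R := B ⧸ EGA4.mB A B)
    (S := C ⧸ (EGA4.mB A B).map (algebraMap B C))
  rw [← h]
  have h0 : (0 : WithBot ℕ∞) ≤ ringKrullDim
      ((C ⧸ (EGA4.mB A B).map (algebraMap B C)) ⧸
        (maximalIdeal (B ⧸ EGA4.mB A B)).map
          (algebraMap (B ⧸ EGA4.mB A B) (C ⧸ (EGA4.mB A B).map (algebraMap B C)))) := by
    obtain ⟨e⟩ := Groth.Agent.Helper5.CMFib.fibre_quot_equiv A B C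
    rw [ringKrullDim_eq_of_ringEquiv e]
    exact ringKrullDim_nonneg_of_nontrivial
  calc ringKrullDim (B ⧸ EGA4.mB A B) = 0 + ringKrullDim (B ⧸ EGA4.mB A B) := (zero_add _).symm
    _ ≤ _ := add_le_add_left h0 _

theorem dim_fib_le_add :
    ringKrullDim (C ⧸ EGA4.mB A C) ≤
      ringKrullDim (C ⧸ EGA4.mB B C) + ringKrullDim (B ⧸ EGA4.mB A B) := by
  let eq : (C ⧸ (EGA4.mB A B).map (algebraMap B C)) ≃+* (C ⧸ EGA4.mB A C) :=
    Ideal.quotEquivOfEq (Groth.Agent.Helper5.CMFib.map_mB A B C)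
  rw [← ringKrullDim_eq_of_ringEquiv eq]
  have h := ringKrullDim_le_quot_add (R := B ⧸ EGA4.mB A B)
    (S := C ⧸ (EGA4.mB A B).map (algebraMap B C))
  obtain ⟨e⟩ := Groth.Agent.Helper5.CMFib.fibre_quot_equiv A B C
  rw [ringKrullDim_eq_of_ringEquiv e] at h
  exact h

end Tower

end Groth.Agent.Helper5.RelDepth
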