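import Mathlib

set_option autoImplicit false
universe u

namespace Groth.Agent.Helper5.ComplPure

open TensorProduct

variable {R : Type u} [CommRing R]

/-- equational purity of a linear map -/
def EqPure {M N : Type u} [AddCommGroup M] [Module R M] [AddCommGroup N] [Module R N]
    (f : M →ₗ[R] N) : Prop :=
  ∀ (n k : ℕ) (a : Fin n → Fin k → R) (m : Fin n → M) (y : Fin k → N),
    (∀ i, f (m i) = ∑ j, a i j • y j) → ∃ y' : Fin k → M, ∀ i, m i = ∑ j, a i j • y' j

lemma exists_sum_of_span {Q K : Type*} [AddCommGroup Q] [Module R Q] [AddCommGroup K]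
    [Module R K] {n : ℕ} (q : Fin n → Q) (hq : Submodule.span R (Set.range q) = ⊤)
    (x : Q ⊗[R] K) : ∃ k : Fin n → K, x = ∑ i, q i ⊗ₜ[R] k i := by
  induction x with
  | zero => exact ⟨0, by simp⟩
  | tmul q' κ =>
    have : q' ∈ Submodule.span R (Set.range q) := hq ▸ Submodule.mem_top
    obtain ⟨c, rfl⟩ := (Submodule.mem_span_range_iff_exists_fun R).mp this
    refine ⟨fun i => c i • κ, ?_⟩
    rw [TensorProduct.sum_tmul]
    apply Finset.sum_congr rfl
    intro i _
    rw [TensorProduct.smul_tmul]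
  | add x y hx hy =>
    obtain ⟨k₁, rfl⟩ := hx
    obtain ⟨k₂, rfl⟩ := hy
    refine ⟨k₁ + k₂, ?_⟩
    rw [← Finset.sum_add_distrib]
    apply Finset.sum_congr rfl
    intro i _
    rw [Pi.add_apply, TensorProduct.tmul_add]

variable {M N : Type u} [AddCommGroup M] [Module R M] [AddCommGroup N] [Module R N]

theorem lTensor_injective_of_eqPure_of_finite (f : M →ₗ[R] N) (hf : EqPure f)
    (Q : Type u) [AddCommGroup Q] [Module R Q] [Module.Finite R Q] :
    Function.Injective (f.lTensor Q) := by
  rw [injective_iff_map_eq_zero]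
  intro x hx
  obtain ⟨n, q, hq⟩ := Module.Finite.exists_fin (R := R) (M := Q)
  obtain ⟨k, rfl⟩ := exists_sum_of_span q hq x
  simp only [map_sum, LinearMap.lTensor_tmul] at hx
  obtain ⟨κ, a, y, h1, h2⟩ := TensorProduct.vanishesTrivially_of_sum_tmul_eq_zero R hq hx
  obtain ⟨y', hy'⟩ := hf n κ a k y h1
  calc ∑ i, q i ⊗ₜ[R] k i = ∑ i, q i ⊗ₜ[R] (∑ j, a i j • y' j) := by
        apply Finset.sum_congr rfl
        intro i _
        rw [hy' i]
    _ = ∑ i, ∑ j, (a i j • q i) ⊗ₜ[R] y' j := by
        apply Finset.sum_congr rfl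
        intro i _
        rw [TensorProduct.tmul_sum]
        apply Finset.sum_congr rfl
        intro j _
        rw [TensorProduct.tmul_smul, TensorProduct.smul_tmul']
    _ = ∑ j, (∑ i, a i j • q i) ⊗ₜ[R] y' j := by
        rw [Finset.sum_comm]
        apply Finset.sum_congr rfl
        intro j _
        rw [TensorProduct.sum_tmul]
    _ = 0 := by
        apply Finset.sum_eq_zero
        intro j _
        rw [h2 j, TensorProduct.zero_tmul]

theorem lTensor_injective_of_eqPure (f : M →ₗ[R] N) (hf : EqPure f)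
    (Q : Type u) [AddCommGroup Q] [Module R Q] :
    Function.Injective (f.lTensor Q) := by
  rw [injective_iff_map_eq_zero]
  intro x hx
  obtain ⟨Q₀, hfg, x₀, rfl⟩ := Submodule.exists_fg_le_eq_rTensor_subtype x
  have h0 : (Q₀.subtype.rTensor N) (f.lTensor Q₀ x₀) = (Q₀.subtype.rTensor N) 0 := by
    rw [map_zero, ← hx, ← LinearMap.comp_apply, ← LinearMap.comp_apply,
      LinearMap.rTensor_comp_lTensor, LinearMap.lTensor_comp_rTensor]
  obtain ⟨Q', hfg', hle, heq⟩ := hfg.exists_rTensor_fg_inclusion_eq h0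
  rw [map_zero] at heq
  haveI : Module.Finite R Q' := Module.Finite.iff_fg.mpr hfg'
  have hx' : f.lTensor Q' ((Q₀.inclusion hle).rTensor M x₀) = 0 := by
    rw [← heq, ← LinearMap.comp_apply, ← LinearMap.comp_apply,
      LinearMap.rTensor_comp_lTensor, LinearMap.lTensor_comp_rTensor]
  have hzero := (injective_iff_map_eq_zero _).mp
    (lTensor_injective_of_eqPure_of_finite f hf Q') _ hx'
  have : Q₀.subtype = Q'.subtype ∘ₗ Q₀.inclusion hle := by
    ext; rfl
  rw [this, LinearMap.rTensor_comp, LinearMap.comp_apply, hzero, map_zero]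

theorem rTensor_injective_of_eqPure (f : M →ₗ[R] N) (hf : EqPure f)
    (Q : Type u) [AddCommGroup Q] [Module R Q] :
    Function.Injective (f.rTensor Q) :=
  (LinearMap.lTensor_inj_iff_rTensor_inj _ _).mp (lTensor_injective_of_eqPure f hf Q)

end Groth.Agent.Helper5.ComplPure
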