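import Mathlib
import Groth.Agent.Helper5.ComplPure1
import Groth.Agent.Helper8.ComplFlat

set_option autoImplicit false
universe u

namespace Groth.Agent.Helper5.ComplPure

open TensorProduct Groth.Agent.Helper8.ComplFlat

variable {R : Type u} [CommRing R]

lemma mem_smul_top_pi {n : ℕ} (J : Ideal R) (v : Fin n → R) (hv : ∀ i, v i ∈ J) :
    v ∈ J • (⊤ : Submodule R (Fin n → R)) := by
  have : v = ∑ i, v i • (Pi.single i (1 : R) : Fin n → R) := by
    ext i'
    simp [Finset.sum_apply, Pi.single_apply]
  rw [this]
  exact Submodule.sum_mem _ fun i _ => Submodule.smul_mem_smul (hv i) Submodule.mem_top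

variable [IsNoetherianRing R] (I : Ideal R) [IsAdicComplete I R] (α : Type u)

/-- the coordinate map from the completion of a free module to the product -/
noncomputable def coordMap : AdicCompletion I (α →₀ R) →ₗ[R] (α → AdicCompletion I R) :=
  (LinearMap.pi fun a : α => AdicCompletion.map I (Finsupp.lapply a : (α →₀ R) →ₗ[R] R) :
        AdicCompletion I (α →₀ R) →ₗ[R] (α → AdicCompletion I R))

theorem eqPure_coordMap : EqPure (coordMap I α) := by
  classical
  intro n k A m y h
  choose u hu using fun i => AdicCompletion.mk_surjective I (α →₀ R) (m i)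
  have hof : Function.Surjective (AdicCompletion.of I R) := (AdicCompletion.of_bijective I R).2
  choose r hr using fun j a => hof (y j a)
  set b : α → (Fin n → R) := fun a i => ∑ j, A i j * r j a with hb
  set z : Fin k → (Fin n → R) := fun j i => A i j with hz
  have hbz : ∀ a, b a = ∑ j, r j a • z j := by
    intro a
    ext i
    simp only [hb, hz, Finset.sum_apply, Pi.smul_apply, smul_eq_mul]
    exact Finset.sum_congr rfl fun j _ => mul_comm _ _
  -- key congruence
  have hcong : ∀ i t a, (u i t) a - b a i ∈ I ^ t := by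
    intro i t a
    have h1 := congrFun (h i) a
    have h2 := congrArg (fun w => w.val t) h1
    simp only [coordMap, LinearMap.pi_apply, Finset.sum_apply, Pi.smul_apply,
      AdicCompletion.val_sum_apply, AdicCompletion.val_smul_apply] at h2
    rw [← hu i] at h2
    simp only [LinearMap.coe_restrictScalars, AdicCompletion.map_mk,
      AdicCompletion.mk_apply_coe, AdicCompletion.AdicCauchySequence.map_apply_coe,
      Submodule.mkQ_apply, Finsupp.lapply_apply] at h2
    simp only [← hr, AdicCompletion.of_apply, Submodule.mkQ_apply] at h2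
    have e1 : ∑ j, (A i j) • (Submodule.Quotient.mk (r j a) :
        R ⧸ (I ^ t • ⊤ : Submodule R R)) = Submodule.Quotient.mk (∑ j, A i j * r j a) := by
      rw [← Submodule.mkQ_apply, map_sum]
      rfl
    rw [e1, Submodule.Quotient.eq, smul_eq_mul, Ideal.mul_top] at h2
    exact h2
  obtain ⟨c, hc⟩ := artinRees I z
  have hbspan : ∀ a, b a ∈ Submodule.span R (Set.range z) := by
    intro a
    rw [hbz a]
    exact Submodule.sum_mem _ fun j _ =>
      Submodule.smul_mem _ _ (Submodule.subset_span (Set.mem_range_self j))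
  -- supports
  set S : ℕ → Finset α := fun t => Finset.univ.biUnion (fun i => (u i t).support) with hS
  set S' : ℕ → Finset α := fun t => (Finset.range (t + 1)).biUnion S with hS'
  have hS'mono : ∀ t t', t ≤ t' → S' t ⊆ S' t' := by
    intro t t' htt'
    apply Finset.biUnion_subset_biUnion_of_subset_left
    intro x hx
    rw [Finset.mem_range] at hx ⊢
    omega
  have hu0 : ∀ t a, a ∉ S' t → ∀ t', t' ≤ t → ∀ i, (u i t') a = 0 := by
    intro t a ha t' ht' i
    by_contra hne
    apply ha
    rw [hS', Finset.mem_biUnion]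
    refine ⟨t', Finset.mem_range.mpr (by omega), ?_⟩
    rw [hS, Finset.mem_biUnion]
    exact ⟨i, Finset.mem_univ i, Finsupp.mem_support_iff.mpr hne⟩
  have hb0 : ∀ t a, a ∉ S' t → ∀ i, b a i ∈ I ^ t := by
    intro t a ha i
    have h1 := hcong i t a
    rw [hu0 t a ha t le_rfl i, zero_sub] at h1
    have := Ideal.neg_mem_iff (I ^ t) |>.mp h1
    exact this
  -- truncations
  set w : ℕ → α → (Fin n → R) := fun t a => if a ∈ S' (t + c) then b a else 0 with hw
  have hθ : ∀ t, ∃ θ : Fin k → (α →₀ R), (∀ j a, θ j a ∈ I ^ t) ∧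
      ∀ a, w (t + 1) a - w t a = ∑ j, θ j a • z j := by
    intro t
    apply assemble z (I ^ t) (fun a => w (t + 1) a - w t a) (S' (t + 1 + c))
    · intro a ha
      have ha' : a ∉ S' (t + c) := fun h' => ha (hS'mono _ _ (by omega) h')
      simp only [hw, if_neg ha, if_neg ha', sub_self]
    · intro a
      by_cases h1 : a ∈ S' (t + c)
      · have h2 : a ∈ S' (t + 1 + c) := hS'mono _ _ (by omega) h1
        refine ⟨0, fun _ => zero_mem _, ?_⟩
        simp only [hw, if_pos h1, if_pos h2, sub_self, Pi.zero_apply, zero_smul,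
          Finset.sum_const_zero]
      · by_cases h2 : a ∈ S' (t + 1 + c)
        · simp only [hw, if_neg h1, if_pos h2, sub_zero]
          apply hc t (b a) _ (hbspan a)
          exact mem_smul_top_pi _ _ (hb0 (t + c) a h1)
        · refine ⟨0, fun _ => zero_mem _, ?_⟩
          simp only [hw, if_neg h1, if_neg h2, sub_self, Pi.zero_apply, zero_smul,
            Finset.sum_const_zero]
  choose θ hθ1 hθ2 using hθ
  have hY0 : ∃ Y0 : Fin k → (α →₀ R), (∀ j a, Y0 j a ∈ (⊤ : Ideal R)) ∧
      ∀ a, w 0 a = ∑ j, Y0 j a • z j := by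
    apply assemble z ⊤ (fun a => w 0 a) (S' (0 + c))
    · intro a ha
      simp only [hw, if_neg ha]
    · intro a
      by_cases h1 : a ∈ S' (0 + c)
      · refine ⟨fun j => r j a, fun _ => Submodule.mem_top, ?_⟩
        simp only [hw, if_pos h1]
        exact hbz a
      · refine ⟨0, fun _ => Submodule.mem_top, ?_⟩
        simp only [hw, if_neg h1, Pi.zero_apply, zero_smul, Finset.sum_const_zero]
  obtain ⟨Y0, -, hY0⟩ := hY0
  set yy : Fin k → ℕ → (α →₀ R) := fun j t => Y0 j + ∑ m ∈ Finset.range t, θ m j with hyy
  have hinv : ∀ t a, w t a = ∑ j, (yy j t a) • z j := by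
    intro t
    induction t with
    | zero =>
      intro a
      simp only [hyy, Finset.range_zero, Finset.sum_empty, add_zero]
      exact hY0 a
    | succ t ih =>
      intro a
      have h1 : w (t + 1) a = w t a + ∑ j, θ t j a • z j := by rw [← hθ2 t a]; abel
      rw [h1, ih a, ← Finset.sum_add_distrib]
      apply Finset.sum_congr rfl
      intro j _
      rw [← add_smul]
      congr 1
      simp only [hyy, Finset.sum_range_succ, Finsupp.add_apply]
      ring
  have hycauchy : ∀ j t, yy j t ≡ yy j (t + 1) [SMOD (I ^ t • ⊤ : Submodule R (α →₀ R))] := by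
    intro j t
    rw [SModEq.sub_mem]
    have : yy j t - yy j (t + 1) = -θ t j := by
      simp only [hyy, Finset.sum_range_succ]
      abel
    rw [this]
    apply Submodule.neg_mem
    rw [mem_smul_top_iff]
    exact hθ1 t j
  refine ⟨fun j => AdicCompletion.mk I (α →₀ R)
    (AdicCompletion.AdicCauchySequence.mk I (α →₀ R) (yy j) (hycauchy j)), ?_⟩
  intro i
  rw [← hu i]
  apply AdicCompletion.ext
  intro t
  rw [AdicCompletion.val_sum_apply]
  simp only [AdicCompletion.val_smul_apply, AdicCompletion.mk_apply_coe, Submodule.mkQ_apply,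
    AdicCompletion.AdicCauchySequence.mk_coe]
  have e1 : ∑ j, (A i j) • (Submodule.Quotient.mk (yy j t) :
      (α →₀ R) ⧸ (I ^ t • ⊤ : Submodule R (α →₀ R))) =
      Submodule.Quotient.mk (∑ j, A i j • yy j t) := by
    rw [← Submodule.mkQ_apply, map_sum]
    rfl
  rw [e1, Submodule.Quotient.eq, mem_smul_top_iff]
  intro a
  rw [Finsupp.sub_apply, Finsupp.finsetSum_apply]
  simp only [Finsupp.smul_apply, smul_eq_mul]
  have hwi : w t a i = ∑ j, A i j * yy j t a := by
    have := congrFun (hinv t a) i
    rw [this, Finset.sum_apply]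
    apply Finset.sum_congr rfl
    intro j _
    simp only [Pi.smul_apply, hz, smul_eq_mul]
    ring
  rw [← hwi]
  by_cases h1 : a ∈ S' (t + c)
  · simp only [hw, if_pos h1]
    exact hcong i t a
  · simp only [hw, if_neg h1, Pi.zero_apply, sub_zero]
    rw [hu0 (t + c) a h1 t (by omega) i]
    exact zero_mem _

end Groth.Agent.Helper5.ComplPure
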