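import Mathlib
import Groth.Prelude.Def_Found
import Groth.Agent.Helper5.ComplPure2
import Groth.Agent.Helper3.ML

set_option autoImplicit false
universe u

namespace Groth.Agent.Helper5.ComplPure

open TensorProduct

variable {R : Type u} [CommRing R]

/-- a universally injective submodule of a Mittag-Leffler module is Mittag-Leffler -/
theorem isML_of_rTensor_injective {M N : Type u} [AddCommGroup M] [Module R M] [AddCommGroup N]
    [Module R N] (f : M →ₗ[R] N)
    (hf : ∀ (Q : Type u) [AddCommGroup Q] [Module R Q], Function.Injective (f.rTensor Q))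
    (hN : CAlg.IsMittagLeffler R N) : CAlg.IsMittagLeffler R M := by
  intro ι Q _ _
  rw [injective_iff_map_eq_zero]
  intro z hz
  apply hf (∀ i, Q i)
  rw [map_zero]
  apply hN ι Q
  rw [Groth.Agent.Helper3.piRightHom_rTensor, hz, map_zero]
  funext i
  simp

theorem piScalarRightHom_eq (α : Type u) (Q : Type u) [AddCommGroup Q] [Module R Q] :
    TensorProduct.piScalarRightHom R R Q α =
      (LinearMap.pi fun a => (TensorProduct.rid R Q).toLinearMap ∘ₗ LinearMap.proj a) ∘ₗ
        TensorProduct.piRightHom R R Q (fun _ : α => R) := by
  apply TensorProduct.ext'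
  intro q g
  funext a
  simp

theorem piScalarRightHom_rTensor (α : Type u) {Q Q' : Type u} [AddCommGroup Q] [Module R Q]
    [AddCommGroup Q'] [Module R Q'] (φ : Q →ₗ[R] Q') (x : Q ⊗[R] (α → R)) (a : α) :
    TensorProduct.piScalarRightHom R R Q' α (φ.rTensor (α → R) x) a =
      φ (TensorProduct.piScalarRightHom R R Q α x a) := by
  induction x using TensorProduct.induction_on with
  | zero => simp
  | tmul q g => simp
  | add x y hx hy => simp only [map_add, Pi.add_apply, hx, hy]

theorem piScalarRightHom_injective [IsNoetherianRing R] (α : Type u) (Q : Type u)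
    [AddCommGroup Q] [Module R Q] :
    Function.Injective (TensorProduct.piScalarRightHom R R Q α) := by
  rw [injective_iff_map_eq_zero]
  intro x hx
  obtain ⟨Q₀, hfg, x₀, rfl⟩ := Submodule.exists_fg_le_eq_rTensor_subtype x
  haveI : Module.Finite R Q₀ := Module.Finite.iff_fg.mpr hfg
  haveI : Module.FinitePresentation R Q₀ := Module.finitePresentation_of_finite R Q₀
  have h0 : TensorProduct.piScalarRightHom R R Q₀ α x₀ = 0 := by
    funext a
    apply Q₀.injective_subtype
    rw [← piScalarRightHom_rTensor, hx]
    simp
  have hinj : Function.Injective (TensorProduct.piScalarRightHom R R Q₀ α) := by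
    rw [piScalarRightHom_eq, LinearMap.coe_comp]
    refine Function.Injective.comp (g := ⇑(LinearMap.pi fun a =>
      (TensorProduct.rid R Q₀).toLinearMap ∘ₗ LinearMap.proj a)) ?_ ?_
    · intro v w hvw
      funext a
      have := congrFun hvw a
      simpa using this
    · exact (Groth.Agent.Helper3.piRightHom_bijective_of_finitePresentation
        (fun _ : α => R) Q₀).1
  rw [hinj (h0.trans (map_zero _).symm), map_zero]

theorem isML_pi [IsNoetherianRing R] (α : Type u) : CAlg.IsMittagLeffler R (α → R) := by
  intro ι Q _ _
  rw [injective_iff_map_eq_zero]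
  intro x hx
  have key : ∀ (x : (α → R) ⊗[R] (∀ i, Q i)) (a : α) (i : ι),
      TensorProduct.piScalarRightHom R R (∀ i, Q i) α (TensorProduct.comm R _ _ x) a i =
        TensorProduct.piScalarRightHom R R (Q i) α
          (TensorProduct.comm R _ _ (TensorProduct.piRightHom R R (α → R) Q x i)) a := by
    intro x a i
    induction x using TensorProduct.induction_on with
    | zero => simp
    | tmul g q => simp
    | add x y hx hy => simp only [map_add, Pi.add_apply, hx, hy]
  have h1 : TensorProduct.piScalarRightHom R R (∀ i, Q i) α (TensorProduct.comm R _ _ x) = 0 := by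
    funext a i
    rw [key, hx]
    simp
  have h2 := piScalarRightHom_injective α (∀ i, Q i) (h1.trans (map_zero _).symm)
  exact (TensorProduct.comm R _ _).injective (h2.trans (map_zero _).symm)

theorem s1197 (R : Type u) [CommRing R] [IsNoetherianRing R] (I : Ideal R) [IsAdicComplete I R]
    (α : Type u) :
    Module.Flat R (AdicCompletion I (α →₀ R)) ∧
      CAlg.IsMittagLeffler R (AdicCompletion I (α →₀ R)) := by
  refine ⟨Groth.Agent.Helper8.ComplFlat.main R I α, ?_⟩
  apply isML_of_rTensor_injective (coordMap I α)
  · intro Q _ _
    exact rTensor_injective_of_eqPure _ (eqPure_coordMap I α) Q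
  · exact Groth.Agent.Helper3.isML_of_equiv
      (LinearEquiv.piCongrRight (fun _ : α => (AdicCompletion.ofLinearEquiv I R).symm))
      (isML_pi α)

end Groth.Agent.Helper5.ComplPure
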