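import Groth.Prelude.Def_W4bk5brsh7111920
import Mathlib

set_option autoImplicit false
universe u
open Set TopologicalSpace Topology

namespace Groth.Agent.Helper5.ConnDim

variable {T : Type u} [TopologicalSpace T]

theorem dim_mono {S S' : Set T} (h : S ⊆ S') :
    topologicalKrullDim S ≤ topologicalKrullDim S' :=
  (Topology.IsEmbedding.inclusion h).isInducing.topologicalKrullDim_le

theorem dim_univ : topologicalKrullDim (Set.univ : Set T) = topologicalKrullDim T :=
  IsHomeomorph.topologicalKrullDim_eq _ (Homeomorph.Set.univ T).isHomeomorph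

/-- candidates for `connDim` -/
theorem connDim_le {Z : Set T} (hZ : IsClosed Z) (hc : ¬ IsConnected Zᶜ) :
    LocCoh.connDim T ≤ topologicalKrullDim Z :=
  iInf₂_le Z ⟨hZ, hc⟩

theorem le_connDim {d : WithBot ℕ∞}
    (h : ∀ Z : Set T, IsClosed Z → ¬ IsConnected Zᶜ → d ≤ topologicalKrullDim Z) :
    d ≤ LocCoh.connDim T :=
  le_iInf₂ fun Z hZ => h Z hZ.1 hZ.2

theorem connDim_le_dim : LocCoh.connDim T ≤ topologicalKrullDim T := by
  rw [← dim_univ]
  refine connDim_le isClosed_univ ?_
  rw [compl_univ]
  exact fun h => h.nonempty.ne_empty rfl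

theorem not_isConnected_of_disjoint_opens {s U V : Set T} (hU : IsOpen U) (hV : IsOpen V)
    (hs : s ⊆ U ∪ V) (hUV : Disjoint U V) (hsU : (s ∩ U).Nonempty) (hsV : (s ∩ V).Nonempty) :
    ¬ IsConnected s := by
  intro h
  obtain ⟨x, _, hxU, hxV⟩ := h.isPreconnected U V hU hV hs hsU hsV
  exact (Set.disjoint_left.1 hUV hxU hxV).elim

/-- a proper closed subset of an irreducible closed set has smaller dimension -/
theorem dim_add_one_le {Z W : Set T} (hW : IsIrreducible W) (hZW : Z ⊆ W) (hZ : IsClosed Z)
    (hne : Z ≠ W) : topologicalKrullDim Z + 1 ≤ topologicalKrullDim W := by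
  haveI : IrreducibleSpace W := Subtype.irreducibleSpace hW
  let top : IrreducibleCloseds W := ⟨Set.univ, IrreducibleSpace.isIrreducible_univ W, isClosed_univ⟩
  let f : IrreducibleCloseds Z → IrreducibleCloseds W :=
    IrreducibleCloseds.map (Set.inclusion hZW) (continuous_inclusion hZW)
  have hf : StrictMono f :=
    IrreducibleCloseds.map_strictMono_of_isInducing (Topology.IsEmbedding.inclusion hZW).isInducing
  have hlt : ∀ z : IrreducibleCloseds Z, f z < top := by
    intro z
    refine lt_of_le_of_ne (fun x _ => Set.mem_univ x) ?_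
    intro heq
    apply hne
    refine Set.Subset.antisymm hZW fun w hw => ?_
    have hmem : (⟨w, hw⟩ : W) ∈ (f z : Set W) := by
      rw [heq]; exact Set.mem_univ _
    have hcl : IsClosed (Subtype.val ⁻¹' Z : Set W) := hZ.preimage continuous_subtype_val
    have hsub : (f z : Set W) ⊆ Subtype.val ⁻¹' Z := by
      rw [IrreducibleCloseds.coe_map]
      refine hcl.closure_subset_iff.2 ?_
      rintro _ ⟨y, _, rfl⟩
      exact y.2
    exact hsub hmem
  by_cases hemp : IsEmpty (IrreducibleCloseds Z)
  · have : topologicalKrullDim Z = ⊥ := Order.krullDim_eq_bot_iff.2 hemp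
    rw [this]
    simp
  · rw [not_isEmpty_iff] at hemp
    have h1 : topologicalKrullDim Z = ((⨆ a : IrreducibleCloseds Z, Order.height a : ℕ∞) :
        WithBot ℕ∞) := Order.krullDim_eq_iSup_height_of_nonempty
    have h2 : ((Order.height top : ℕ∞) : WithBot ℕ∞) ≤ topologicalKrullDim W :=
      Order.height_le_krullDim top
    refine le_trans ?_ h2
    rw [h1]
    have h3 : (⨆ a : IrreducibleCloseds Z, Order.height a) + 1 ≤ Order.height top := by
      rw [ENat.iSup_add]
      refine iSup_le fun a => ?_
      exact le_trans (add_le_add_left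
        (Order.height_le_height_apply_of_strictMono f hf a) 1) (Order.height_add_one_le (hlt a))
    exact_mod_cast h3

theorem dim_lt_of_ne {Z W : Set T} (hW : IsIrreducible W) (hZW : Z ⊆ W) (hZ : IsClosed Z)
    (hne : Z ≠ W) (hfin : topologicalKrullDim W < ⊤) :
    topologicalKrullDim Z < topologicalKrullDim W := by
  have h := dim_add_one_le hW hZW hZ hne
  haveI : IrreducibleSpace W := Subtype.irreducibleSpace hW
  have hne : Nonempty (IrreducibleCloseds W) :=
    ⟨⟨Set.univ, IrreducibleSpace.isIrreducible_univ W, isClosed_univ⟩⟩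
  have hbot : ⊥ < topologicalKrullDim W := Order.bot_lt_krullDim
  revert h hfin hbot
  generalize topologicalKrullDim Z = a
  generalize topologicalKrullDim W = b
  intro hfin h hbot
  induction a using WithBot.recBotCoe with
  | bot => exact hbot
  | coe a =>
    induction b using WithBot.recBotCoe with
    | bot => exact absurd hbot (lt_irrefl _)
    | coe b =>
      have hb : b ≠ ⊤ := by
        intro hb
        rw [hb] at hfin
        exact lt_irrefl _ hfin
      have h' : a + 1 ≤ b := by exact_mod_cast h
      have ha : a ≠ ⊤ := by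
        rintro rfl
        simp at h'
        exact hb h'
      exact_mod_cast (ENat.add_one_le_iff ha).1 h'

section Noeth
variable [NoetherianSpace T]

theorem isClosed_sUnion_components {A : Set (Set T)} (hA : A ⊆ irreducibleComponents T) :
    IsClosed (⋃₀ A) := by
  rw [Set.sUnion_eq_biUnion]
  exact ((NoetherianSpace.finite_irreducibleComponents (α := T)).subset hA).isClosed_biUnion
    fun s hs => isClosed_of_mem_irreducibleComponents s (hA hs)

/-- the closed set `C ∩ (union of the other components)` -/
theorem component_aux {C : Set T} (hC : C ∈ irreducibleComponents T) (hne : C ≠ Set.univ) :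
    ∃ Z : Set T, IsClosed Z ∧ Z ⊆ C ∧ Z ≠ C ∧ ¬ IsConnected Zᶜ := by
  set W : Set T := ⋃₀ (irreducibleComponents T \ {C}) with hW
  have hWcl : IsClosed W := isClosed_sUnion_components Set.sdiff_subset
  have hCcl : IsClosed C := isClosed_of_mem_irreducibleComponents C hC
  have hcover : C ∪ W = Set.univ := by
    rw [← sUnion_irreducibleComponents (X := T)]
    ext x
    simp only [Set.mem_union, Set.mem_sUnion, hW, Set.mem_sdiff, Set.mem_singleton_iff]
    constructor
    · rintro (hx | ⟨D, ⟨hD, _⟩, hxD⟩)
      · exact ⟨C, hC, hx⟩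
      · exact ⟨D, hD, hxD⟩
    · rintro ⟨D, hD, hxD⟩
      by_cases hDC : D = C
      · exact Or.inl (hDC ▸ hxD)
      · exact Or.inr ⟨D, ⟨hD, hDC⟩, hxD⟩
  have hnot : ¬ C ⊆ W := fun hsub =>
    (mem_of_subset_sUnion_irreducibleComponents C hC _
      ((NoetherianSpace.finite_irreducibleComponents (α := T)).subset Set.sdiff_subset)
      Set.sdiff_subset hsub).2 rfl
  refine ⟨C ∩ W, hCcl.inter hWcl, Set.inter_subset_left, fun h => hnot (h ▸ Set.inter_subset_right),
    ?_⟩
  obtain ⟨x, hxC, hxW⟩ := Set.not_subset.1 hnot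
  obtain ⟨y, hy⟩ : ∃ y, y ∉ C := by
    by_contra hall
    push Not at hall
    exact hne (Set.eq_univ_of_forall hall)
  refine not_isConnected_of_disjoint_opens (U := Cᶜ) (V := Wᶜ) hCcl.isOpen_compl hWcl.isOpen_compl
    (by rw [Set.compl_inter]) ?_ ⟨y, fun h => hy h.1, hy⟩ ⟨x, fun h => hxW h.2, hxW⟩
  rw [Set.disjoint_compl_left_iff_subset]
  exact Set.compl_subset_iff_union.2 (by rw [Set.union_comm]; exact hcover)

theorem connDim_le_dim_component {C : Set T} (hC : C ∈ irreducibleComponents T) :
    LocCoh.connDim T ≤ topologicalKrullDim C := by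
  by_cases hne : C = Set.univ
  · rw [hne, dim_univ]; exact connDim_le_dim
  · obtain ⟨Z, hZ, hZC, _, hcon⟩ := component_aux hC hne
    exact (connDim_le hZ hcon).trans (dim_mono hZC)

theorem connDim_lt_dim_component {C : Set T} (hC : C ∈ irreducibleComponents T)
    (hne : C ≠ Set.univ) (hfin : topologicalKrullDim C < ⊤) :
    LocCoh.connDim T < topologicalKrullDim C := by
  obtain ⟨Z, hZ, hZC, hZne, hcon⟩ := component_aux hC hne
  exact (connDim_le hZ hcon).trans_lt (dim_lt_of_ne hC.1 hZC hZ hZne hfin)

theorem connDim_le_subdim : LocCoh.connDim T ≤ LocCoh.subdim T :=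
  le_iInf₂ fun _ hC => connDim_le_dim_component hC

theorem connDim_eq_of_irreducible [IrreducibleSpace T] :
    LocCoh.connDim T = topologicalKrullDim T := by
  refine le_antisymm connDim_le_dim (le_connDim fun Z hZ hcon => ?_)
  have hemp : Zᶜ = ∅ := by
    by_contra hne
    have hne' : Zᶜ.Nonempty := Set.nonempty_iff_ne_empty.2 hne
    have hpre : IsPreirreducible Zᶜ :=
      (IrreducibleSpace.isIrreducible_univ T).2.open_subset hZ.isOpen_compl (Set.subset_univ _)
    exact hcon ⟨hne', hpre.isPreconnected⟩
  rw [Set.compl_empty_iff] at hemp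
  rw [hemp, dim_univ]

theorem subdim_eq_of_irreducible [IrreducibleSpace T] :
    LocCoh.subdim T = topologicalKrullDim T := by
  unfold LocCoh.subdim
  rw [irreducibleComponents_eq_singleton]
  simp only [Set.mem_singleton_iff, iInf_iInf_eq_left]
  exact dim_univ

theorem s11667 [Nonempty T] (hfin : topologicalKrullDim T < ⊤) :
    LocCoh.connDim T ≤ LocCoh.subdim T ∧
      (LocCoh.connDim T = LocCoh.subdim T ↔ IrreducibleSpace T) := by
  refine ⟨connDim_le_subdim, ?_, ?_⟩
  · intro heq
    by_contra hirr
    have hfinC := NoetherianSpace.finite_irreducibleComponents (α := T)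
    have hnonempty : (irreducibleComponents T).Nonempty :=
      ⟨_, irreducibleComponent_mem_irreducibleComponents (Classical.arbitrary T)⟩
    obtain ⟨C₀, hC₀, hmin⟩ := Set.exists_min_image (irreducibleComponents T)
      (fun C : Set T => topologicalKrullDim C) hfinC hnonempty
    have hsub : LocCoh.subdim T = topologicalKrullDim C₀ :=
      le_antisymm (iInf₂_le C₀ hC₀) (le_iInf₂ fun C hC => hmin C hC)
    have hne : C₀ ≠ Set.univ := by
      rintro rfl
      exact hirr ((irreducibleSpace_def T).2 hC₀.1)
    have hlt := connDim_lt_dim_component hC₀ hne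
      ((topologicalKrullDim_subspace_le T C₀).trans_lt hfin)
    rw [heq, hsub] at hlt
    exact lt_irrefl _ hlt
  · intro hirr
    rw [connDim_eq_of_irreducible, subdim_eq_of_irreducible]

end Noeth

end Groth.Agent.Helper5.ConnDim
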