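import Groth.Agent.Helper5.DimFormula3
import Groth.Prelude.Def_Found

set_option autoImplicit false
universe u

namespace Groth.Agent.Helper5.DimFormula

open Order

/-- The covering relation as a `SetRel`. -/
def covRel (α : Type*) [Preorder α] : SetRel α α := {ab | ab.1 ⋖ ab.2}

theorem covRel_le_lt (α : Type*) [Preorder α] : covRel α ≤ {ab : α × α | ab.1 < ab.2} :=
  fun _ h => h.1

/-- In a chain of maximal length the height of the `i`-th element is `i`. -/
theorem height_eq_index_of_length_eq_height {α : Type*} [Preorder α] (l : LTSeries α)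
    (h : height l.last = l.length) (i : Fin (l.length + 1)) : height (l i) = (i : ℕ) := by
  refine le_antisymm ?_ (index_le_height l i)
  induction i using Fin.reverseInduction with
  | last => exact h.le
  | cast i ih =>
    have h1 : height (l i.castSucc) + 1 ≤ height (l i.succ) := height_add_one_le (l.step i)
    have h2 := h1.trans ih
    have h3 : ((i.succ : ℕ) : ℕ∞) = ((i.castSucc : ℕ) : ℕ∞) + 1 := by
      simp
    rw [h3] at h2
    exact (ENat.add_le_add_iff_right ENat.one_ne_top).1 h2

/-- A chain of maximal length is saturated and starts at a minimal element. -/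
theorem exists_covSeries_of_height_eq {α : Type*} [Preorder α] (a : α) (n : ℕ)
    (h : height a = n) :
    ∃ c : RelSeries (covRel α), c.last = a ∧ c.length = n ∧ height c.head = 0 := by
  obtain ⟨l, hl1, hl2⟩ := exists_series_of_height_eq_coe a h
  have hmax : height l.last = l.length := by rw [hl1, h, hl2]
  have hidx := height_eq_index_of_length_eq_height l hmax
  refine ⟨⟨l.length, l.toFun, ?_⟩, hl1, hl2, ?_⟩
  · intro i
    refine ⟨l.step i, ?_⟩
    intro z hz1 hz2
    have h1 : height (l i.castSucc) + 1 ≤ height z := height_add_one_le hz1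
    have h2 : height z + 1 ≤ height (l i.succ) := height_add_one_le hz2
    rw [hidx] at h1 h2
    have h3 : ((i.succ : ℕ) : ℕ∞) = ((i.castSucc : ℕ) : ℕ∞) + 1 := by
      simp
    rw [h3] at h2
    have h4 := (ENat.add_le_add_iff_right ENat.one_ne_top).1 h2
    have h5 := h1.trans h4
    have h6 : ((i.castSucc : ℕ) : ℕ∞) + 1 = (((i.castSucc : ℕ) + 1 : ℕ) : ℕ∞) := by push_cast; rfl
    rw [h6, Nat.cast_le] at h5
    omega
  · have := hidx 0
    show height (l.toFun 0) = 0
    simpa using this

/-- The comap along a surjection preserves the covering relation. -/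
theorem comap_covBy {A B : Type*} [CommRing A] [CommRing B] (π : A →+* B)
    (hπ : Function.Surjective π) (x y : PrimeSpectrum B) (h : x ⋖ y) :
    PrimeSpectrum.comap π x ⋖ PrimeSpectrum.comap π y := by
  have hle : ∀ a b : PrimeSpectrum B, PrimeSpectrum.comap π a ≤ PrimeSpectrum.comap π b ↔ a ≤ b := by
    intro a b
    exact Ideal.comap_le_comap_iff_of_surjective π hπ a.asIdeal b.asIdeal
  have hlt : ∀ a b : PrimeSpectrum B, PrimeSpectrum.comap π a < PrimeSpectrum.comap π b ↔ a < b := by
    intro a b
    rw [lt_iff_le_not_ge, lt_iff_le_not_ge, hle, hle]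
  refine ⟨(hlt x y).2 h.1, ?_⟩
  intro z hz1 hz2
  have hker : RingHom.ker π ≤ z.asIdeal := by
    refine le_trans ?_ hz1.le
    show RingHom.ker π ≤ x.asIdeal.comap π
    exact Ideal.comap_mono (f := π) bot_le
  have hzp : (z.asIdeal.map π).IsPrime := Ideal.map_isPrime_of_surjective hπ hker
  let z' : PrimeSpectrum B := ⟨z.asIdeal.map π, hzp⟩
  have hz' : PrimeSpectrum.comap π z' = z := by
    ext1
    show (z.asIdeal.map π).comap π = z.asIdeal
    rw [Ideal.comap_map_of_surjective' π hπ]
    exact sup_eq_left.2 hker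
  rw [← hz'] at hz1 hz2
  exact h.2 ((hlt x z').1 hz1) ((hlt z' y).1 hz2)

/-- In a catenary Noetherian domain, `ht (q/Q) + ht Q = ht q`. -/
theorem height_add_height_ker_eq {A B : Type u} [CommRing A] [IsDomain A] [IsNoetherianRing A]
    [CommRing B] [IsDomain B] (hcat : CAlg.IsCatenary A) (π : A →+* B)
    (hπ : Function.Surjective π) (q : Ideal B) [hq : q.IsPrime] :
    q.height + (RingHom.ker π).height = (q.comap π).height := by
  have hB : IsNoetherianRing B := isNoetherianRing_of_surjective A B π hπ
  have hQ : (RingHom.ker π).IsPrime := RingHom.ker_isPrime π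
  let q0 : PrimeSpectrum B := ⟨q, hq⟩
  let Q' : PrimeSpectrum A := ⟨RingHom.ker π, hQ⟩
  let q1 : PrimeSpectrum A := PrimeSpectrum.comap π q0
  have e0 : q.height = height q0 := PrimeSpectrum.height_eq_orderHeight q0
  have e1 : (RingHom.ker π).height = height Q' := PrimeSpectrum.height_eq_orderHeight Q'
  have e2 : (q.comap π).height = height q1 := PrimeSpectrum.height_eq_orderHeight q1
  obtain ⟨n0, hn0⟩ := ENat.ne_top_iff_exists.1 (e0 ▸ Ideal.height_ne_top_of_isPrime (I := q))
  obtain ⟨n1, hn1⟩ := ENat.ne_top_iff_exists.1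
    (e1 ▸ Ideal.height_ne_top_of_isPrime (I := RingHom.ker π))
  obtain ⟨n2, hn2⟩ := ENat.ne_top_iff_exists.1
    (e2 ▸ Ideal.height_ne_top_of_isPrime (I := q.comap π))
  obtain ⟨c0, hc0l, hc0n, hc0h⟩ := exists_covSeries_of_height_eq q0 n0 hn0.symm
  obtain ⟨c1, hc1l, hc1n, hc1h⟩ := exists_covSeries_of_height_eq Q' n1 hn1.symm
  obtain ⟨c2, hc2l, hc2n, hc2h⟩ := exists_covSeries_of_height_eq q1 n2 hn2.symm
  have hbotA : ∀ x : PrimeSpectrum A, height x = 0 → x = ⊥ := by
    intro x hx
    exact isMin_iff_eq_bot.1 (height_eq_zero.1 hx)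
  have hbotB : ∀ x : PrimeSpectrum B, height x = 0 → x = ⊥ := by
    intro x hx
    exact isMin_iff_eq_bot.1 (height_eq_zero.1 hx)
  let f : (covRel (PrimeSpectrum B)).Hom (covRel (PrimeSpectrum A)) :=
    ⟨PrimeSpectrum.comap π, fun {a b} h => comap_covBy π hπ a b h⟩
  let c0' := c0.map f
  have hconn : c1.last = c0'.head := by
    rw [hc1l]
    show Q' = PrimeSpectrum.comap π c0.head
    rw [hbotB _ hc0h]
    ext1
    show RingHom.ker π = (⊥ : Ideal B).comap π
    rfl
  let t := (c1.smash c0' hconn).ofLE (covRel_le_lt _)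
  let s := c2.ofLE (covRel_le_lt _)
  have hhead : s.head = t.head := by
    show c2.head = (c1.smash c0' hconn).head
    rw [RelSeries.head_smash, hbotA _ hc2h, hbotA _ hc1h]
  have hlast : s.last = t.last := by
    show c2.last = (c1.smash c0' hconn).last
    rw [RelSeries.last_smash, hc2l]
    show q1 = PrimeSpectrum.comap π c0.last
    rw [hc0l]
  have hlen := hcat.2 s t hhead hlast (fun i => c2.step i) (fun i => (c1.smash c0' hconn).step i)
  have hlen' : n2 = n1 + n0 := by
    have h1 : s.length = c2.length := rfl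
    have h2 : t.length = c1.length + c0.length := rfl
    rw [h1, h2, hc2n, hc1n, hc0n] at hlen
    exact hlen
  rw [e0, e1, e2, ← hn0, ← hn1, ← hn2, hlen']
  push_cast
  exact add_comm _ _

/-- The dimension formula with equality over a universally catenary Noetherian domain. -/
theorem dimension_equality (R : Type u) [CommRing R] [IsDomain R]
    (hR : CAlg.IsUniversallyCatenary R) (S : Type u) [CommRing S] [IsDomain S] [Algebra R S]
    [FaithfulSMul R S] [Algebra.FiniteType R S] (p : Ideal R) [p.IsPrime] (q : Ideal S) [q.IsPrime]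
    [q.LiesOver p] :
    (q.height : Cardinal.{u}) + Algebra.trdeg (R ⧸ p) (S ⧸ q) =
      (p.height : Cardinal.{u}) + Algebra.trdeg R S := by
  have hN : IsNoetherianRing R := hR.1
  obtain ⟨n, π, hπ⟩ := Algebra.FiniteType.iff_quotient_mvPolynomial''.mp
    (inferInstance : Algebra.FiniteType R S)
  obtain ⟨h1, h2⟩ := presentation_data R S n π hπ p q
  let P := MvPolynomial (Fin n) R
  let Q : Ideal P := RingHom.ker π.toRingHom
  have hQ : Q.IsPrime := RingHom.ker_isPrime π.toRingHom
  have hcatP : CAlg.IsCatenary P := hR.2 P inferInstance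
  have h3 : q.height + Q.height = (q.comap π.toRingHom).height :=
    height_add_height_ker_eq hcatP π.toRingHom hπ q
  have h3' : (q.height : Cardinal.{u}) + (Q.height : Cardinal.{u}) =
      ((q.comap π).height : Cardinal.{u}) := by
    rw [← Cardinal.ofENat_add]
    exact congrArg _ h3
  have hfin : (Q.height : Cardinal.{u}) < Cardinal.aleph0 :=
    Cardinal.ofENat_lt_aleph0.2 (lt_top_iff_ne_top.2 Ideal.height_ne_top_of_isPrime)
  refine Cardinal.eq_of_add_eq_add_right ?_ hfin
  calc (q.height : Cardinal.{u}) + Algebra.trdeg (R ⧸ p) (S ⧸ q) + (Q.height : Cardinal.{u})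
      = ((q.height : Cardinal.{u}) + (Q.height : Cardinal.{u})) + Algebra.trdeg (R ⧸ p) (S ⧸ q) := by
        ring
    _ = ((q.comap π).height : Cardinal.{u}) + Algebra.trdeg (R ⧸ p) (S ⧸ q) := by rw [h3']
    _ = (p.height : Cardinal.{u}) + (n : ℕ) := h1.symm
    _ = (p.height : Cardinal.{u}) + ((Q.height : Cardinal.{u}) + Algebra.trdeg R S) := by rw [h2]
    _ = _ := by ring

end Groth.Agent.Helper5.DimFormula
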