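import Mathlib
import Groth.Agent.Helper5.MinPr
import Groth.Prelude

set_option autoImplicit false
set_option linter.unusedSectionVars false
set_option linter.style.haveILetI false
universe u

namespace Groth.Agent.Helper5.NormQ

/-- a ring all of whose localizations at maximal ideals are integrally closed domains is integrally
closed in its total ring of fractions -/
theorem mem_range_of_isIntegral {R K : Type u} [CommRing R] [CommRing K] [Algebra R K]
    [IsLocalization (nonZeroDivisors R) K]
    (hR : ∀ (p : Ideal R) [p.IsMaximal],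
      IsDomain (Localization.AtPrime p) ∧ IsIntegrallyClosed (Localization.AtPrime p))
    (x : K) (hx : IsIntegral R x) : ∃ c : R, algebraMap R K c = x := by
  obtain ⟨a, s, rfl⟩ := IsLocalization.exists_mk'_eq (nonZeroDivisors R) x
  have hspec : IsLocalization.mk' K a s * algebraMap R K s = algebraMap R K a :=
    IsLocalization.mk'_spec K a s
  -- the conductor-like ideal
  let I : Ideal R := (Ideal.span {(s : R)}).colon ({a} : Set R)
  have hI : ∀ r : R, r ∈ I ↔ ∃ c, r * a = s * c := by
    intro r
    show r ∈ (Ideal.span {(s : R)}).colon ({a} : Set R) ↔ _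
    rw [Submodule.mem_colon_singleton, smul_eq_mul, Ideal.mem_span_singleton']
    constructor
    · rintro ⟨c, hc⟩; exact ⟨c, by rw [← hc, mul_comm]⟩
    · rintro ⟨c, hc⟩; exact ⟨c, by rw [hc, mul_comm]⟩
  have htop : I = ⊤ := by
    by_contra hne
    obtain ⟨m, hm, hIm⟩ := Ideal.exists_le_maximal I hne
    haveI := hm
    obtain ⟨h1, h2⟩ := hR m
    haveI := h1
    haveI := h2
    set Rm := Localization.AtPrime m
    set L := FractionRing Rm
    let g : R →+* L := (algebraMap Rm L).comp (algebraMap R Rm)
    have hg : ∀ y : nonZeroDivisors R, IsUnit (g y) := by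
      intro y
      apply IsUnit.mk0
      show algebraMap Rm L (algebraMap R Rm y) ≠ 0
      rw [Ne, map_eq_zero_iff _ (IsFractionRing.injective Rm L)]
      intro h0
      rw [IsLocalization.map_eq_zero_iff m.primeCompl] at h0
      obtain ⟨u, hu⟩ := h0
      have : (u : R) = 0 := (mem_nonZeroDivisors_iff_right.1 y.2) _ hu
      exact u.2 (this ▸ m.zero_mem)
    let φ : K →+* L := IsLocalization.lift hg
    have hφ : ∀ r : R, φ (algebraMap R K r) = g r := fun r => IsLocalization.lift_eq hg r
    have hint : IsIntegral Rm (φ (IsLocalization.mk' K a s)) :=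
      IsIntegral.map_of_comp_eq (algebraMap R Rm) φ (by
        ext r
        exact (hφ r).symm) hx
    obtain ⟨z, hz⟩ := (isIntegrallyClosed_iff L).1 inferInstance hint
    obtain ⟨b, t, rfl⟩ := IsLocalization.exists_mk'_eq m.primeCompl z
    -- z * s = a in Rm
    have h3 : IsLocalization.mk' Rm b t * algebraMap R Rm s = algebraMap R Rm a := by
      apply IsFractionRing.injective Rm L
      rw [map_mul, hz]
      have := congrArg φ hspec
      rw [map_mul, hφ, hφ] at this
      exact this
    have h4 : algebraMap R Rm (b * s) = algebraMap R Rm (t * a) := by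
      rw [map_mul, map_mul, ← h3, ← mul_assoc, mul_comm (algebraMap R Rm t),
        IsLocalization.mk'_spec]
    rw [IsLocalization.eq_iff_exists m.primeCompl] at h4
    obtain ⟨u, hu⟩ := h4
    have hmem : (u : R) * t ∈ I := by
      rw [hI]
      refine ⟨u * b, ?_⟩
      have : (u : R) * (t * a) = u * (b * s) := hu.symm
      linear_combination this
    exact (m.primeCompl.mul_mem u.2 t.2) (hIm hmem)
  have h1 : (1 : R) ∈ I := htop ▸ Submodule.mem_top
  obtain ⟨c, hc⟩ := (hI 1).1 h1
  refine ⟨c, ?_⟩
  rw [IsLocalization.eq_mk'_iff_mul_eq, ← map_mul]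
  congr 1
  rw [one_mul] at hc
  rw [hc, mul_comm]

open Groth.Agent.Helper5.MinPr

variable {R : Type u} [CommRing R] [IsReduced R]

/-- the idempotent cutting out a minimal prime -/
theorem exists_idem (hfin : (minimalPrimes R).Finite)
    (hcl : ∀ x : FractionRing R, IsIntegral R x → ∃ c : R, algebraMap R (FractionRing R) c = x)
    (p₁ : Ideal R) (hp₁ : p₁ ∈ minimalPrimes R) :
    ∃ r : R, r * r = r ∧ r ∈ p₁ ∧ ∀ q ∈ minimalPrimes R, q ≠ p₁ → 1 - r ∈ q := by
  haveI hpp : p₁.IsPrime := Ideal.minimalPrimes_isPrime hp₁
  haveI : Nontrivial R :=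
    ⟨⟨0, 1, fun h => hpp.ne_top ((Ideal.eq_top_iff_one _).2 (h ▸ p₁.zero_mem))⟩⟩
  have hinj : Function.Injective (algebraMap R (FractionRing R)) :=
    IsLocalization.injective (FractionRing R) (le_refl (nonZeroDivisors R))
  obtain ⟨x, y, hxp, hxq, hyp, hyq, hxy, hnz⟩ := exists_xy hfin p₁ hp₁
  set e : FractionRing R := IsLocalization.mk' (FractionRing R) x ⟨x + y, hnz⟩ with he
  set u : FractionRing R := algebraMap R (FractionRing R) (x + y) with hu
  have hue : e * u = algebraMap R (FractionRing R) x := IsLocalization.mk'_spec _ x ⟨x + y, hnz⟩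
  have huu : IsUnit u := IsLocalization.map_units (FractionRing R) (⟨x + y, hnz⟩ : nonZeroDivisors R)
  have hidem : e * e = e := by
    have h1 : (e * e - e) * (u * u) = 0 := by
      have : (e * e - e) * (u * u) = (e * u) * (e * u) - (e * u) * u := by ring
      rw [this, hue, hu, map_add]
      have h2 : algebraMap R (FractionRing R) x * algebraMap R (FractionRing R) y = 0 := by
        rw [← map_mul, hxy, map_zero]
      ring_nf
      ring_nf at h2
      rw [h2]
      ring
    have h3 := (huu.mul huu).mul_left_eq_zero.1 h1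
    exact sub_eq_zero.1 h3
  have hint : IsIntegral R e := by
    refine ⟨Polynomial.X ^ 2 - Polynomial.X, ?_, ?_⟩
    · exact Polynomial.monic_X_pow_sub (by
        rw [Polynomial.degree_X]; norm_num)
    · simp only [Polynomial.eval₂_sub, Polynomial.eval₂_X_pow, Polynomial.eval₂_X]
      rw [pow_two, hidem, sub_self]
  obtain ⟨c, hc⟩ := hcl e hint
  have hc1 : c * (x + y) = x := by
    apply hinj
    rw [map_mul, hc]
    exact hue
  have hc2 : c * c = c := by
    apply hinj
    rw [map_mul, hc]
    exact hidem
  refine ⟨c, hc2, ?_, ?_⟩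
  · have h1 : c * y ∈ p₁ := by
      have : c * y = x - c * x := by linear_combination hc1
      rw [this]
      exact p₁.sub_mem hxp (p₁.mul_mem_left _ hxp)
    exact (hpp.mem_or_mem h1).resolve_right hyp
  · intro q hq hne
    haveI hqq : q.IsPrime := Ideal.minimalPrimes_isPrime hq
    have h1 : (1 - c) * x ∈ q := by
      have : (1 - c) * x = c * y := by linear_combination -hc1
      rw [this]
      exact q.mul_mem_left _ (hyq q hq hne)
    exact (hqq.mem_or_mem h1).resolve_right (hxq q hq hne)

end Groth.Agent.Helper5.NormQ
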