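import Mathlib
import Groth.Agent.Helper5.NormQ1
import Groth.Prelude

set_option autoImplicit false
set_option linter.unusedSectionVars false
set_option linter.style.haveILetI false
universe u

namespace Groth.Agent.Helper5.NormQ

open Groth.Agent.Helper5.MinPr

variable {R : Type u} [CommRing R] [IsReduced R]

/-- integrally closed in the total ring of fractions + finitely many minimal primes ⇒ normal -/
theorem normal_of_closed (hfin : (minimalPrimes R).Finite)
    (hcl : ∀ x : FractionRing R, IsIntegral R x → ∃ c : R, algebraMap R (FractionRing R) c = x)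
    (p : Ideal R) [hp : p.IsPrime] :
    IsDomain (Localization.AtPrime p) ∧ IsIntegrallyClosed (Localization.AtPrime p) := by
  obtain ⟨p₁, hp₁, hle⟩ := Ideal.exists_minimalPrimes_le (I := (⊥ : Ideal R)) (J := p) bot_le
  haveI hpp : p₁.IsPrime := Ideal.minimalPrimes_isPrime hp₁
  obtain ⟨r, hrr, hrp, hrq⟩ := exists_idem hfin hcl p₁ hp₁
  set v : R := 1 - r with hv
  set Rp := Localization.AtPrime p with hRp
  have hvp : v ∉ p := by
    intro h
    have : (1 : R) ∈ p := by
      have h1 : (1 : R) = r + v := by rw [hv]; ring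
      rw [h1]
      exact p.add_mem (hle hrp) h
    exact hp.ne_top ((Ideal.eq_top_iff_one _).2 this)
  have hvp₁ : ∀ a ∈ p₁, v * a = 0 := by
    intro a ha
    apply eq_zero_of_forall_mem
    intro q hq
    by_cases hqp : q = p₁
    · rw [hqp]; exact p₁.mul_mem_left _ ha
    · exact q.mul_mem_right _ (hrq q hq hqp)
  have hrv : r * v = 0 := by rw [hv, mul_sub, mul_one, hrr, sub_self]
  have hker : ∀ n : R, algebraMap R Rp n = 0 ↔ n ∈ p₁ := by
    intro n
    rw [IsLocalization.map_eq_zero_iff p.primeCompl]
    constructor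
    · rintro ⟨u, hu⟩
      have h1 : (u : R) * n ∈ p₁ := by rw [hu]; exact p₁.zero_mem
      rcases hpp.mem_or_mem h1 with h | h
      · exact absurd (hle h) u.2
      · exact h
    · intro hn
      exact ⟨⟨v, hvp⟩, hvp₁ n hn⟩
  -- domain
  haveI hdom : IsDomain Rp := by
    haveI : NoZeroDivisors Rp := by
      refine ⟨fun {α β} hαβ => ?_⟩
      obtain ⟨a, t, rfl⟩ := IsLocalization.exists_mk'_eq p.primeCompl α
      obtain ⟨b, t', rfl⟩ := IsLocalization.exists_mk'_eq p.primeCompl β
      rw [← IsLocalization.mk'_mul, IsLocalization.mk'_eq_zero_iff] at hαβ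
      obtain ⟨u, hu⟩ := hαβ
      have h1 : (u : R) * (a * b) ∈ p₁ := by rw [hu]; exact p₁.zero_mem
      have h2 : a * b ∈ p₁ := (hpp.mem_or_mem h1).resolve_left (fun h => u.2 (hle h))
      rcases hpp.mem_or_mem h2 with h | h
      · left
        rw [IsLocalization.mk'_eq_zero_iff]
        exact ⟨⟨v, hvp⟩, hvp₁ a h⟩
      · right
        rw [IsLocalization.mk'_eq_zero_iff]
        exact ⟨⟨v, hvp⟩, hvp₁ b h⟩
    exact NoZeroDivisors.to_isDomain Rp
  refine ⟨hdom, ?_⟩
  set L := FractionRing Rp with hL
  set Q := FractionRing R with hQ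
  have hinjL : Function.Injective (algebraMap Rp L) := IsFractionRing.injective Rp L
  have hψ : ∀ n : R, algebraMap R L n = algebraMap Rp L (algebraMap R Rp n) := fun n =>
    IsScalarTower.algebraMap_apply R Rp L n
  have hψker : ∀ n : R, algebraMap R L n = 0 ↔ n ∈ p₁ := by
    intro n
    rw [hψ, map_eq_zero_iff _ hinjL, hker]
  have hψr : algebraMap R L r = 0 := (hψker r).2 hrp
  have hψv : algebraMap R L v = 1 := by rw [hv, map_sub, map_one, hψr, sub_zero]
  have hg : ∀ y : nonZeroDivisors R, IsUnit (algebraMap R L y) := by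
    intro y
    apply IsUnit.mk0
    intro h0
    have h1 : (y : R) ∈ p₁ := (hψker y).1 h0
    exact Set.disjoint_left.1 (Ideal.disjoint_nonZeroDivisors_of_mem_minimalPrimes hp₁) h1 y.2
  let σ : Q →+* L := IsLocalization.lift hg
  have hσ : ∀ n : R, σ (algebraMap R Q n) = algebraMap R L n := fun n => IsLocalization.lift_eq hg n
  have hσker : ∀ ζ : Q, σ ζ = 0 → algebraMap R Q v * ζ = 0 := by
    intro ζ hζ
    obtain ⟨n, s, rfl⟩ := IsLocalization.exists_mk'_eq (nonZeroDivisors R) ζ
    have h1 : σ (IsLocalization.mk' Q n s) * algebraMap R L s = algebraMap R L n := by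
      rw [← hσ, ← hσ, ← map_mul, IsLocalization.mk'_spec]
    rw [hζ, zero_mul] at h1
    have h2 : n ∈ p₁ := (hψker n).1 h1.symm
    have h3 : algebraMap R Q v * IsLocalization.mk' Q n s = IsLocalization.mk' Q (v * n) s := by
      rw [IsLocalization.mul_mk'_eq_mk'_of_mul]
    rw [h3, hvp₁ n h2, IsLocalization.mk'_zero]
  have hσsurj : ∀ z : L, ∃ w₀ : Q, σ w₀ = z := by
    intro z
    obtain ⟨α, β, rfl⟩ := IsLocalization.exists_mk'_eq (nonZeroDivisors Rp) z
    obtain ⟨a, t, hα⟩ := IsLocalization.exists_mk'_eq p.primeCompl α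
    obtain ⟨b, t', hβ⟩ := IsLocalization.exists_mk'_eq p.primeCompl (β : Rp)
    have hβ0 : algebraMap Rp L β ≠ 0 := by
      rw [Ne, map_eq_zero_iff _ hinjL]
      exact nonZeroDivisors.ne_zero β.2
    have ht0 : ∀ t : p.primeCompl, algebraMap R L t ≠ 0 := by
      intro t h0
      exact t.2 (hle ((hψker t).1 h0))
    have e1 : algebraMap Rp L β * algebraMap R L t' = algebraMap R L b := by
      rw [hψ, hψ, ← map_mul, ← hβ, IsLocalization.mk'_spec]
    have e2 : algebraMap Rp L α * algebraMap R L t = algebraMap R L a := by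
      rw [hψ, hψ, ← map_mul, ← hα, IsLocalization.mk'_spec]
    have e3 : IsLocalization.mk' L α β * algebraMap Rp L β = algebraMap Rp L α :=
      IsLocalization.mk'_spec L α β
    have hb0 : algebraMap R L (b * t) ≠ 0 := by
      rw [map_mul, ← e1]
      exact mul_ne_zero (mul_ne_zero hβ0 (ht0 t')) (ht0 t)
    have hbp : b * t ∉ p₁ := fun h => hb0 ((hψker _).2 h)
    have hd : b * t * v + r ∈ nonZeroDivisors R := by
      rw [mem_nonZeroDivisors_iff_right]
      intro z' hz'
      have h1 : r * z' = 0 := by
        have : r * z' = r * (z' * (b * t * v + r)) - (b * t) * z' * (r * v) - (r * r - r) * z' := by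
          ring
        rw [this, hz', hrv, hrr]
        ring
      have h2 : (b * t) * (v * z') = 0 := by
        have : (b * t) * (v * z') = (1 - r) * (z' * (b * t * v + r)) - v * z' * r * 1 +
            (r * v) * (b * t) * z' := by
          rw [hv]; ring
        rw [this, hz', hrv]
        have : v * z' * r * 1 = (r * v) * z' := by ring
        rw [this, hrv]
        ring
      have h3 : v * z' = 0 := by
        apply eq_zero_of_forall_mem
        intro q hq
        haveI hqq : q.IsPrime := Ideal.minimalPrimes_isPrime hq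
        by_cases hqp : q = p₁
        · have : (b * t) * (v * z') ∈ q := by rw [h2]; exact q.zero_mem
          rw [hqp] at this ⊢
          exact (hpp.mem_or_mem this).resolve_left hbp
        · exact q.mul_mem_right _ (hrq q hq hqp)
      have : z' = r * z' + v * z' := by rw [hv]; ring
      rw [this, h1, h3, add_zero]
    refine ⟨IsLocalization.mk' Q (a * t') ⟨b * t * v + r, hd⟩, ?_⟩
    have e4 : σ (IsLocalization.mk' Q (a * t') ⟨b * t * v + r, hd⟩) * algebraMap R L (b * t) =
        algebraMap R L (a * t') := by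
      have h1 : algebraMap R L (b * t * v + r) = algebraMap R L (b * t) := by
        rw [map_add, map_mul _ (b * t) v, hψv, hψr, mul_one, add_zero]
      rw [← h1, ← hσ, ← hσ, ← map_mul]
      congr 1
      exact IsLocalization.mk'_spec Q (a * t') ⟨b * t * v + r, hd⟩
    have e5 : IsLocalization.mk' L α β * algebraMap R L (b * t) = algebraMap R L (a * t') := by
      rw [map_mul, map_mul, ← e1, ← e2]
      have := e3
      linear_combination (algebraMap R L t' * algebraMap R L t) * this
    exact mul_right_cancel₀ hb0 (e4.trans e5.symm)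
  rw [isIntegrallyClosed_iff L]
  intro z hz
  obtain ⟨m, hm⟩ := IsIntegral.exists_multiple_integral_of_isLocalization p.primeCompl z hz
  obtain ⟨w₀, hw₀⟩ := hσsurj (m • z)
  set w : Q := algebraMap R Q v * w₀ with hw
  have hσw : σ w = m • z := by rw [hw, map_mul, hσ, hψv, one_mul, hw₀]
  have hwint : IsIntegral R w := by
    obtain ⟨P, hP, hPz⟩ := hm
    refine ⟨Polynomial.X * P, Polynomial.monic_X.mul hP, ?_⟩
    rw [Polynomial.eval₂_mul, Polynomial.eval₂_X]
    have h1 : σ (Polynomial.eval₂ (algebraMap R Q) w P) = 0 := by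
      rw [Polynomial.hom_eval₂]
      have : σ.comp (algebraMap R Q) = algebraMap R L := RingHom.ext hσ
      rw [this, hσw]
      exact hPz
    have h2 := hσker _ h1
    rw [hw, mul_assoc, mul_comm w₀, ← mul_assoc, h2, zero_mul]
  obtain ⟨c, hc⟩ := hcl w hwint
  refine ⟨IsLocalization.mk' Rp c m, ?_⟩
  have h1 : algebraMap R L c = m • z := by rw [← hσ, hc, hσw]
  have hm0 : algebraMap R L m ≠ 0 := fun h0 => m.2 (hle ((hψker m).1 h0))
  have h2 : algebraMap Rp L (IsLocalization.mk' Rp c m) * algebraMap R L m = algebraMap R L c := by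
    rw [hψ, hψ, ← map_mul, IsLocalization.mk'_spec]
  have h3 : m • z = algebraMap R L m * z := by
    rw [Submonoid.smul_def, Algebra.smul_def]
  apply mul_right_cancel₀ hm0
  rw [h2, h1, h3, mul_comm]

end Groth.Agent.Helper5.NormQ
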