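import Mathlib
import Groth.Agent.Helper5.RelDepth3

set_option autoImplicit false
set_option linter.style.haveILetI false
set_option linter.unusedSectionVars false
universe u
open CategoryTheory CategoryTheory.Limits AlgebraicGeometry TopologicalSpace Topology TensorProduct
open IsLocalRing

namespace Groth.Agent.Helper5.RelDepth

section Sch

variable {X' X S : Scheme.{u}} (g : X' ⟶ X) (f : X ⟶ S) (x : X')

/-- for flat `g`, the fibre of `g ≫ f` through `x` has local dimension at least that of the fibre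
of `f` through `g x` -/
theorem dim_fiberStalk_le_comp [IsLocallyNoetherian X] [IsLocallyNoetherian X']
    (hfl : (g.stalkMap x).hom.Flat) :
    ringKrullDim ↑(CInt.fiberStalk f (g x)) ≤ ringKrullDim ↑(CInt.fiberStalk (g ≫ f) x) := by
  letI algAB : Algebra (S.presheaf.stalk (f (g x))) (X.presheaf.stalk (g x)) :=
    (f.stalkMap (g x)).hom.toAlgebra
  letI algBC : Algebra (X.presheaf.stalk (g x)) (X'.presheaf.stalk x) :=
    (g.stalkMap x).hom.toAlgebra
  letI algAC : Algebra (S.presheaf.stalk (f (g x))) (X'.presheaf.stalk x) :=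
    ((g ≫ f).stalkMap x).hom.toAlgebra
  haveI : IsLocalHom (algebraMap (X.presheaf.stalk (g x)) (X'.presheaf.stalk x)) :=
    inferInstanceAs (IsLocalHom (g.stalkMap x).hom)
  haveI : IsLocalHom (algebraMap (S.presheaf.stalk (f (g x))) (X.presheaf.stalk (g x))) :=
    inferInstanceAs (IsLocalHom (f.stalkMap (g x)).hom)
  haveI : IsScalarTower (S.presheaf.stalk (f (g x))) (X.presheaf.stalk (g x))
      (X'.presheaf.stalk x) :=
    IsScalarTower.of_algebraMap_eq (fun a => by
      change ((g ≫ f).stalkMap x).hom a = (g.stalkMap x).hom ((f.stalkMap (g x)).hom a)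
      rw [Scheme.Hom.stalkMap_comp]
      rfl)
  haveI : Module.Flat (X.presheaf.stalk (g x)) (X'.presheaf.stalk x) := hfl
  obtain ⟨ef⟩ := Groth.Agent.Helper5.CMFib.fibre_stalk_equiv' f (g x)
  obtain ⟨egf⟩ := Groth.Agent.Helper5.CMFib.fibre_stalk_equiv' (g ≫ f) x
  have h := dim_fib_le_of_flat (S.presheaf.stalk (f (g x))) (X.presheaf.stalk (g x))
    (X'.presheaf.stalk x)
  rw [← ringKrullDim_eq_of_ringEquiv ef, ← ringKrullDim_eq_of_ringEquiv egf]
  exact h

/-- if `x` is a generic point of its `g`-fibre, the fibre of `g ≫ f` through `x` has local dimension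
at most that of the fibre of `f` through `g x` -/
theorem dim_fiberStalk_comp_le [IsLocallyNoetherian X] [IsLocallyNoetherian X']
    (h0 : ringKrullDim (X'.presheaf.stalk x ⧸ Ideal.map (g.stalkMap x).hom
      (IsLocalRing.maximalIdeal (X.presheaf.stalk (g x)))) = 0) :
    ringKrullDim ↑(CInt.fiberStalk (g ≫ f) x) ≤ ringKrullDim ↑(CInt.fiberStalk f (g x)) := by
  letI algAB : Algebra (S.presheaf.stalk (f (g x))) (X.presheaf.stalk (g x)) :=
    (f.stalkMap (g x)).hom.toAlgebra
  letI algBC : Algebra (X.presheaf.stalk (g x)) (X'.presheaf.stalk x) :=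
    (g.stalkMap x).hom.toAlgebra
  letI algAC : Algebra (S.presheaf.stalk (f (g x))) (X'.presheaf.stalk x) :=
    ((g ≫ f).stalkMap x).hom.toAlgebra
  haveI : IsLocalHom (algebraMap (X.presheaf.stalk (g x)) (X'.presheaf.stalk x)) :=
    inferInstanceAs (IsLocalHom (g.stalkMap x).hom)
  haveI : IsLocalHom (algebraMap (S.presheaf.stalk (f (g x))) (X.presheaf.stalk (g x))) :=
    inferInstanceAs (IsLocalHom (f.stalkMap (g x)).hom)
  haveI : IsScalarTower (S.presheaf.stalk (f (g x))) (X.presheaf.stalk (g x))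
      (X'.presheaf.stalk x) :=
    IsScalarTower.of_algebraMap_eq (fun a => by
      change ((g ≫ f).stalkMap x).hom a = (g.stalkMap x).hom ((f.stalkMap (g x)).hom a)
      rw [Scheme.Hom.stalkMap_comp]
      rfl)
  obtain ⟨ef⟩ := Groth.Agent.Helper5.CMFib.fibre_stalk_equiv' f (g x)
  obtain ⟨egf⟩ := Groth.Agent.Helper5.CMFib.fibre_stalk_equiv' (g ≫ f) x
  have h := dim_fib_le_add (S.presheaf.stalk (f (g x))) (X.presheaf.stalk (g x))
    (X'.presheaf.stalk x)
  rw [← ringKrullDim_eq_of_ringEquiv ef, ← ringKrullDim_eq_of_ringEquiv egf]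
  have h0' : ringKrullDim (X'.presheaf.stalk x ⧸
      EGA4.mB (X.presheaf.stalk (g x)) (X'.presheaf.stalk x)) = 0 := h0
  rw [h0', zero_add] at h
  exact h

/-- a generic point of the fibre through a given point -/
theorem exists_generic_in_fibre [IsLocallyNoetherian X'] (x₀ : X') :
    ∃ x : X', g x = g x₀ ∧
      ringKrullDim (X'.presheaf.stalk x ⧸ Ideal.map (g.stalkMap x).hom
        (IsLocalRing.maximalIdeal (X.presheaf.stalk (g x)))) = 0 := by
  set F := g.fiber (g x₀) with hF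
  set z₀ : ↥F := g.asFiber x₀ with hz₀
  have hfin : Order.coheight z₀ < ⊤ := by
    have h3 := Groth.Agent.Helper5.DimIneq.coheight_le_of_isEmbedding (g.fiberι (g x₀))
      (g.fiberι (g x₀)).isEmbedding z₀
    rw [hz₀, AlgebraicGeometry.Scheme.Hom.fiberι_asFiber] at h3
    refine lt_of_le_of_lt h3 ?_
    have h2 := AlgebraicGeometry.ringKrullDim_stalk_eq_coheight (X := X') x₀
    have h4 : ringKrullDim (X'.presheaf.stalk x₀) < ⊤ := ringKrullDim_lt_top
    rw [h2, ← WithBot.coe_top, WithBot.coe_lt_coe] at h4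
    exact h4
  obtain ⟨n, hn⟩ := ENat.ne_top_iff_exists.mp hfin.ne
  obtain ⟨p, hp1, hp2⟩ := Order.exists_series_of_coheight_eq_coe z₀ hn.symm
  have hlen : (p.length : ℕ∞) = Order.coheight p.head := by rw [hp1, hp2, hn]
  have hlast := Order.coheight_eq_index_of_length_eq_head_coheight hlen (Fin.last _)
  simp only [Fin.rev_last, Fin.val_zero, Nat.cast_zero] at hlast
  set z : ↥F := p (Fin.last _) with hz
  refine ⟨g.fiberι (g x₀) z, ?_, ?_⟩
  · have : g.fiberι (g x₀) z ∈ g ⁻¹' {g x₀} := by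
      rw [← g.range_fiberι (g x₀)]; exact ⟨z, rfl⟩
    exact this
  · obtain ⟨e⟩ := Groth.Agent.Helper5.CMFib.fibre_stalk_equiv g (g x₀) z _ rfl
    rw [ringKrullDim_eq_of_ringEquiv e, AlgebraicGeometry.ringKrullDim_stalk_eq_coheight]
    exact_mod_cast hlast

end Sch

theorem s14110 {X X' S : Scheme.{u}} [IsLocallyNoetherian X]
    [IsLocallyNoetherian X'] (f : X ⟶ S) (g : X' ⟶ X) [Flat g]
    (Y : Set ↥X) :
    (⨅ y : Y, ringKrullDim ↑(CInt.fiberStalk f y.1)) ≤
      ⨅ y' : (fun x' => g x') ⁻¹' Y, ringKrullDim ↑(CInt.fiberStalk (g ≫ f) y'.1) := by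
  refine le_iInf fun y' => ?_
  refine iInf_le_of_le ⟨g y'.1, y'.2⟩ ?_
  exact dim_fiberStalk_le_comp g f y'.1 (Flat.stalkMap g y'.1)

theorem s14109 {X X' S : Scheme.{u}} [IsLocallyNoetherian X]
    [IsLocallyNoetherian X'] (f : X ⟶ S) (g : X' ⟶ X) [Surjective g]
    (Y : Set ↥X) :
    (⨅ y' : (fun x' => g x') ⁻¹' Y, ringKrullDim ↑(CInt.fiberStalk (g ≫ f) y'.1)) ≤
      ⨅ y : Y, ringKrullDim ↑(CInt.fiberStalk f y.1) := by
  refine le_iInf fun y => ?_
  obtain ⟨x₀, hx₀⟩ := g.surjective y.1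
  obtain ⟨x, hx, h0⟩ := exists_generic_in_fibre g x₀
  have hxy : g x = y.1 := hx.trans hx₀
  refine iInf_le_of_le ⟨x, by show g x ∈ Y; rw [hxy]; exact y.2⟩ ?_
  have h := dim_fiberStalk_comp_le g f x h0
  rw [hxy] at h
  exact h

end Groth.Agent.Helper5.RelDepth
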