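import Mathlib
import Groth.Prelude

set_option autoImplicit false
set_option linter.unusedSectionVars false
set_option linter.style.haveILetI false
universe u

open AlgebraicGeometry CategoryTheory Limits

namespace Groth.Agent.Helper5.GuBir

theorem mono_fst_of_isPullback {X Y X' T : Scheme.{u}} {f : X ⟶ Y} {j : T ⟶ Y} [Mono j]
    {g' : X' ⟶ X} {f' : X' ⟶ T} (sq : IsPullback g' f' f j) : Mono g' :=
  ⟨fun a b h => sq.hom_ext h ((cancel_mono j).1 (by
    rw [Category.assoc, Category.assoc, ← sq.w, ← Category.assoc, h, Category.assoc]))⟩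

/-- base change along `Spec 𝒪_{Y,y} ⟶ Y` induces isomorphisms on stalks -/
theorem isIso_stalkMap_of_isPullback_fromSpecStalk {X Y X' : Scheme.{u}} (f : X ⟶ Y) (y : Y)
    (g' : X' ⟶ X) (f' : X' ⟶ Spec (Y.presheaf.stalk y))
    (sq : IsPullback g' f' f (Y.fromSpecStalk y)) (x' : X') : IsIso (g'.stalkMap x') := by
  haveI : Mono g' := mono_fst_of_isPullback sq
  have hsp : f (g' x') ⤳ y := by
    have h1 : f (g' x') = Y.fromSpecStalk y (f' x') := by
      rw [← Scheme.Hom.comp_apply, ← Scheme.Hom.comp_apply, sq.w]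
    have h2 : f (g' x') ∈ Set.range (Y.fromSpecStalk y) := ⟨_, h1.symm⟩
    rw [Scheme.range_fromSpecStalk] at h2
    exact h2
  let α : Spec (X.presheaf.stalk (g' x')) ⟶ X' :=
    sq.lift (X.fromSpecStalk (g' x'))
      (Spec.map (f.stalkMap (g' x')) ≫ Spec.map (Y.presheaf.stalkSpecializes hsp)) (by
        rw [Category.assoc, Scheme.SpecMap_stalkSpecializes_fromSpecStalk,
          Scheme.SpecMap_stalkMap_fromSpecStalk])
  have hα1 : α ≫ g' = X.fromSpecStalk (g' x') := sq.lift_fst _ _ _
  have hinj : Function.Injective g' := Scheme.Hom.injective g'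
  have hpt : α (IsLocalRing.closedPoint _) = x' := by
    apply hinj
    rw [← Scheme.Hom.comp_apply, hα1, Scheme.fromSpecStalk_closedPoint]
  let θ : X'.presheaf.stalk x' ⟶ X.presheaf.stalk (g' x') :=
    X'.presheaf.stalkSpecializes (specializes_of_eq hpt) ≫ Scheme.stalkClosedPointTo α
  have hθ : Spec.map θ ≫ X'.fromSpecStalk x' = α := by
    rw [Spec.map_comp, Category.assoc, Scheme.SpecMap_stalkSpecializes_fromSpecStalk,
      Scheme.Spec_stalkClosedPointTo_fromSpecStalk]
  have hβ : Spec.map (g'.stalkMap x') ≫ X.fromSpecStalk (g' x') = X'.fromSpecStalk x' ≫ g' :=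
    Scheme.SpecMap_stalkMap_fromSpecStalk g'
  have hβα : Spec.map (g'.stalkMap x') ≫ α = X'.fromSpecStalk x' := by
    rw [← cancel_mono g', Category.assoc, hα1, hβ]
  have e1 : θ ≫ g'.stalkMap x' = 𝟙 _ := by
    apply Spec.map_injective
    rw [Spec.map_comp, Spec.map_id, ← cancel_mono (X'.fromSpecStalk x'), Category.assoc, hθ, hβα,
      Category.id_comp]
  have e2 : g'.stalkMap x' ≫ θ = 𝟙 _ := by
    apply Spec.map_injective
    rw [Spec.map_comp, Spec.map_id, ← cancel_mono (X.fromSpecStalk (g' x')), Category.assoc, hβ,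
      ← Category.assoc, hθ, hα1, Category.id_comp]
  exact ⟨θ, e2, e1⟩

end Groth.Agent.Helper5.GuBir
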