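import Mathlib
import Groth.Agent.Helper5.RadBir
import Groth.Agent.Helper5.BirBC
import Groth.Agent.Helper5.GuBir3
import Groth.Prelude

set_option autoImplicit false
set_option linter.unusedSectionVars false
set_option linter.style.haveILetI false
universe u

open AlgebraicGeometry CategoryTheory Limits

namespace Groth.Agent.Helper5.GuBir

open Groth.Agent.Helper5.RadBir Groth.Agent.Helper5.BirBC

/-- evaluation of a ring element at a point of its spectrum -/
noncomputable def ev (R : CommRingCat.{u}) (x : Spec R) : R →+* (Spec R).residueField x :=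
  ((Scheme.ΓSpecIso R).inv ≫ (Spec R).Γevaluation x).hom

theorem ev_eq_zero_iff (R : CommRingCat.{u}) (x : Spec R) (r : R) :
    ev R x r = 0 ↔ r ∈ x.asIdeal := by
  show (Spec R).evaluation ⊤ x trivial ((Scheme.ΓSpecIso R).inv r) = 0 ↔ _
  rw [Scheme.evaluation_eq_zero_iff_notMem_basicOpen, basicOpen_eq_of_affine]
  show ¬ (r ∉ x.asIdeal) ↔ _
  exact not_not

theorem ev_naturality {A C : CommRingCat.{u}} (φ : A ⟶ C) (x : Spec C) (a : A) :
    ((Spec.map φ).residueFieldMap x).hom (ev A (Spec.map φ x) a) = ev C x (φ.hom a) := by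
  show (Spec.map φ).residueFieldMap x ((Spec A).Γevaluation (Spec.map φ x)
    ((Scheme.ΓSpecIso A).inv a)) = (Spec C).Γevaluation x ((Scheme.ΓSpecIso C).inv (φ.hom a))
  rw [Scheme.Γevaluation_naturality_apply]
  congr 1
  have := congrArg (fun ψ : A ⟶ Γ(Spec C, ⊤) => ψ.hom a) (Scheme.ΓSpecIso_inv_naturality φ)
  exact this.symm

theorem exists_ev_fraction (R : CommRingCat.{u}) (y : Spec R) (α : (Spec R).residueField y) :
    ∃ r₁ r₂ : R, ev R y r₂ ≠ 0 ∧ ev R y r₂ * α = ev R y r₁ := by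
  obtain ⟨c, c₁, hc, hcα⟩ := exists_fraction_residueField (V := Spec R) ⊤ (isAffineOpen_top _) y
    trivial α
  refine ⟨(Scheme.ΓSpecIso R).hom c₁, (Scheme.ΓSpecIso R).hom c, ?_, ?_⟩
  · show (Spec R).evaluation ⊤ y trivial ((Scheme.ΓSpecIso R).inv ((Scheme.ΓSpecIso R).hom c)) ≠ 0
    rw [Iso.hom_inv_id_apply]
    exact hc
  · show (Spec R).evaluation ⊤ y trivial ((Scheme.ΓSpecIso R).inv ((Scheme.ΓSpecIso R).hom c)) * α =
      (Spec R).evaluation ⊤ y trivial ((Scheme.ΓSpecIso R).inv ((Scheme.ΓSpecIso R).hom c₁))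
    rw [Iso.hom_inv_id_apply, Iso.hom_inv_id_apply]
    exact hcα

theorem mem_genericPoints_spec_iff (R : CommRingCat.{u}) (x : Spec R) :
    x ∈ genericPoints ↥(Spec R) ↔ x.asIdeal ∈ minimalPrimes R := by
  rw [mem_genericPoints_iff]
  constructor
  · intro h
    refine ⟨⟨x.isPrime, bot_le⟩, fun Q hQ hQx => ?_⟩
    let z : Spec R := ⟨Q, hQ.1⟩
    have hz : z ⤳ x := (PrimeSpectrum.le_iff_specializes z x).1 hQx
    have := h z hz
    rw [← this]
  · intro h z hz
    have hzx : z.asIdeal ≤ x.asIdeal := (PrimeSpectrum.le_iff_specializes z x).2 hz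
    have := h.2 ⟨z.isPrime, bot_le⟩ hzx
    exact PrimeSpectrum.ext (le_antisymm hzx this)

theorem specMap_apply_asIdeal {A C : CommRingCat.{u}} (φ : A ⟶ C) (x : Spec C) :
    (Spec.map φ x).asIdeal = x.asIdeal.comap φ.hom := rfl

/-- the point of `Spec C` given by a prime ideal -/
def pt (C : CommRingCat.{u}) (Q : Ideal C) (hQ : Q.IsPrime) : Spec C := ⟨Q, hQ⟩

theorem birHyp_of_isBirational {A C : CommRingCat.{u}} (φ : A ⟶ C) [IsIntegralHom (Spec.map φ)]
    (hf : RadPt.IsBirational (Spec.map φ)) : BirHyp φ.hom where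
  integral := IsIntegralHom.SpecMap_iff.1 inferInstance
  uniq := fun P hP Q₁ Q₂ h₁ h₂ e₁ e₂ => by
    have hy : pt A P hP.1.1 ∈ genericPoints ↥(Spec A) := (mem_genericPoints_spec_iff A _).2 hP
    have := (hf.2 _ hy).1 (pt C Q₁ h₁) (pt C Q₂ h₂) (PrimeSpectrum.ext e₁) (PrimeSpectrum.ext e₂)
    exact congrArg PrimeSpectrum.asIdeal this
  exist := fun P hP => by
    have hy : pt A P hP.1.1 ∈ genericPoints ↥(Spec A) := (mem_genericPoints_spec_iff A _).2 hP
    obtain ⟨x, hx, hxy⟩ := hf.1.surjOn hy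
    exact ⟨x.asIdeal, (mem_genericPoints_spec_iff C x).1 hx, congrArg PrimeSpectrum.asIdeal hxy⟩
  min := fun Q hQ => by
    have hx : pt C Q hQ.1.1 ∈ genericPoints ↥(Spec C) := (mem_genericPoints_spec_iff C _).2 hQ
    exact (mem_genericPoints_spec_iff A _).1 (hf.1.mapsTo hx)
  frac := fun P hP Q hQ e c => by
    have hy : pt A P hP.1.1 ∈ genericPoints ↥(Spec A) := (mem_genericPoints_spec_iff A _).2 hP
    have hxy : Spec.map φ (pt C Q hQ) = pt A P hP.1.1 := PrimeSpectrum.ext e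
    have hb := (hf.2 _ hy).2 (pt C Q hQ) hxy
    obtain ⟨β, hβ⟩ := hb.2 (ev C (pt C Q hQ) c)
    obtain ⟨a₁, a₂, ha₂, hβ'⟩ := exists_ev_fraction A (Spec.map φ (pt C Q hQ)) β
    refine ⟨a₁, a₂, ?_, ?_⟩
    · intro h
      apply ha₂
      rw [ev_eq_zero_iff, hxy]
      exact h
    · have h1 := congrArg ((Spec.map φ).residueFieldMap (pt C Q hQ)).hom hβ'
      rw [map_mul, hβ, ev_naturality, ev_naturality, ← map_mul, ← sub_eq_zero, ← map_sub,
        ev_eq_zero_iff] at h1
      exact h1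

end Groth.Agent.Helper5.GuBir
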