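import Mathlib
import Groth.Agent.Helper5.GuBir5
import Groth.Prelude

set_option autoImplicit false
set_option linter.unusedSectionVars false
set_option linter.style.haveILetI false
universe u

open AlgebraicGeometry CategoryTheory Limits

namespace Groth.Agent.Helper5.GuBir

/-- field-level: p.i. iff power condition with ringExpChar of the target -/
theorem piField {F E : Type u} [Field F] [Field E] (f : F →+* E) :
    f.IsPurelyInseparable ↔ ∀ x : E, ∃ k : ℕ, x ^ (ringExpChar E) ^ k ∈ f.range := by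
  letI := f.toAlgebra
  haveI : ExpChar F (ringExpChar F) := ringExpChar.expChar F
  haveI : ExpChar E (ringExpChar F) := expChar_of_injective_ringHom f.injective _
  rw [ringExpChar.eq E (ringExpChar F)]
  exact isPurelyInseparable_iff_pow_mem F (ringExpChar F)

theorem pi_transfer {F E F' E' : Type u} [Field F] [Field E] [CommRing F'] [CommRing E']
    [IsDomain E']
    (f : F →+* E) (f' : F' →+* E') (eF : F' →+* F) (eE : E' →+* E)
    (hF : Function.Surjective eF) (hE : Function.Bijective eE)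
    (comm : ∀ a, f (eF a) = eE (f' a)) :
    f.IsPurelyInseparable ↔ ∀ x : E', ∃ k : ℕ, x ^ (ringExpChar E') ^ k ∈ f'.range := by
  rw [piField]
  haveI : ExpChar E' (ringExpChar E') := ringExpChar.expChar E'
  haveI : ExpChar E (ringExpChar E') := expChar_of_injective_ringHom hE.1 _
  rw [ringExpChar.eq E (ringExpChar E')]
  constructor
  · intro h x
    obtain ⟨k, β, hβ⟩ := h (eE x)
    obtain ⟨a, rfl⟩ := hF β
    refine ⟨k, a, ?_⟩
    apply hE.1
    rw [← comm, hβ, map_pow]
  · intro h x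
    obtain ⟨x', rfl⟩ := hE.2 x
    obtain ⟨k, a, ha⟩ := h x'
    refine ⟨k, eF a, ?_⟩
    rw [comm, ha, map_pow]

/-- the map `R/p → κ(p)` -/
noncomputable def evQ (R : CommRingCat.{u}) (x : Spec R) :
    R ⧸ x.asIdeal →+* (Spec R).residueField x :=
  Ideal.Quotient.lift x.asIdeal (ev R x) (fun r hr => (ev_eq_zero_iff R x r).2 hr)

theorem evQ_mk (R : CommRingCat.{u}) (x : Spec R) (r : R) :
    evQ R x (Ideal.Quotient.mk _ r) = ev R x r := rfl

theorem evQ_injective (R : CommRingCat.{u}) (x : Spec R) : Function.Injective (evQ R x) := by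
  rw [injective_iff_map_eq_zero]
  intro a ha
  obtain ⟨r, rfl⟩ := Ideal.Quotient.mk_surjective a
  rw [evQ_mk, ev_eq_zero_iff] at ha
  exact Ideal.Quotient.eq_zero_iff_mem.2 ha

theorem evQ_surjective (R : CommRingCat.{u}) (x : Spec R) (hx : x.asIdeal.IsMaximal) :
    Function.Surjective (evQ R x) := by
  intro α
  obtain ⟨r₁, r₂, hr₂, hα⟩ := exists_ev_fraction R x α
  letI : Field (R ⧸ x.asIdeal) := Ideal.Quotient.field _
  have h2 : (Ideal.Quotient.mk x.asIdeal r₂) ≠ 0 := by
    intro h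
    apply hr₂
    rw [← evQ_mk, h, map_zero]
  refine ⟨Ideal.Quotient.mk _ r₁ * (Ideal.Quotient.mk x.asIdeal r₂)⁻¹, ?_⟩
  have h3 : evQ R x (Ideal.Quotient.mk x.asIdeal r₂) ≠ 0 := by rw [evQ_mk]; exact hr₂
  apply mul_left_cancel₀ h3
  rw [← map_mul, mul_comm _ ((Ideal.Quotient.mk x.asIdeal r₂)⁻¹), ← mul_assoc,
    mul_inv_cancel₀ h2, one_mul, evQ_mk, evQ_mk]
  exact hα.symm

theorem evQ_naturality {A C : CommRingCat.{u}} (φ : A ⟶ C) (x : Spec C)
    (a : A ⧸ (Spec.map φ x).asIdeal) :
    ((Spec.map φ).residueFieldMap x).hom (evQ A (Spec.map φ x) a) =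
      evQ C x (Ideal.quotientMap x.asIdeal φ.hom (le_refl _) a) := by
  obtain ⟨r, rfl⟩ := Ideal.Quotient.mk_surjective a
  show ((Spec.map φ).residueFieldMap x).hom (ev A (Spec.map φ x) r) = ev C x (φ.hom r)
  exact ev_naturality φ x r

theorem map_eq_closedPoint_iff {A C : CommRingCat.{u}} [IsLocalRing A] (φ : A ⟶ C)
    [IsIntegralHom (Spec.map φ)] (x : Spec C) :
    Spec.map φ x = IsLocalRing.closedPoint A ↔ x.asIdeal.IsMaximal := by
  have hint : φ.hom.IsIntegral := IsIntegralHom.SpecMap_iff.1 inferInstance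
  letI := φ.hom.toAlgebra
  haveI : Algebra.IsIntegral A C := ⟨hint⟩
  constructor
  · intro h
    have h1 : x.asIdeal.comap (algebraMap A C) = IsLocalRing.maximalIdeal A :=
      congrArg PrimeSpectrum.asIdeal h
    haveI := x.isPrime
    have h2 : (x.asIdeal.comap (algebraMap A C)).IsMaximal := by
      rw [h1]; infer_instance
    exact Ideal.isMaximal_of_isIntegral_of_isMaximal_comap (R := A) x.asIdeal h2
  · intro h
    haveI := h
    have h2 : (x.asIdeal.comap (algebraMap A C)).IsMaximal :=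
      Ideal.isMaximal_comap_of_isIntegral_of_isMaximal (R := A) x.asIdeal
    exact PrimeSpectrum.ext (IsLocalRing.eq_maximalIdeal h2)

theorem radAt_closedPoint_iff {A C : CommRingCat.{u}} [IsLocalRing A] (φ : A ⟶ C)
    [IsIntegralHom (Spec.map φ)] :
    RadPt.IsRadicialAt (Spec.map φ) (IsLocalRing.closedPoint A) ↔
      (∀ n n' : Ideal C, n.IsMaximal → n'.IsMaximal → n = n') ∧ PI φ.hom := by
  have key : ∀ x : Spec C, ∀ hx : x.asIdeal.IsMaximal,
      ((Spec.map φ).residueFieldMap x).hom.IsPurelyInseparable ↔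
        ∀ c : C ⧸ x.asIdeal, ∃ k : ℕ, c ^ (ringExpChar (C ⧸ x.asIdeal)) ^ k ∈
          ((Ideal.Quotient.mk x.asIdeal).comp φ.hom).range := by
    intro x hx
    haveI := hx
    haveI : IsDomain (C ⧸ x.asIdeal) := Ideal.Quotient.isDomain _
    have hmax : (Spec.map φ x).asIdeal.IsMaximal := by
      have := (map_eq_closedPoint_iff φ x).2 hx
      rw [this]
      exact IsLocalRing.maximalIdeal.isMaximal A
    rw [pi_transfer ((Spec.map φ).residueFieldMap x).hom
      (Ideal.quotientMap x.asIdeal φ.hom (le_refl _)) (evQ A (Spec.map φ x)) (evQ C x)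
      (evQ_surjective A _ hmax) ⟨evQ_injective C x, evQ_surjective C x hx⟩
      (evQ_naturality φ x)]
    refine forall_congr' fun c => exists_congr fun k => ?_
    constructor
    · rintro ⟨a, ha⟩
      obtain ⟨r, rfl⟩ := Ideal.Quotient.mk_surjective a
      exact ⟨r, by rw [← ha, Ideal.quotientMap_mk]; rfl⟩
    · rintro ⟨r, hr⟩
      exact ⟨Ideal.Quotient.mk _ r, by rw [Ideal.quotientMap_mk, ← hr]; rfl⟩
  constructor
  · rintro ⟨h1, h2⟩
    refine ⟨fun n n' hn hn' => ?_, fun n hn c => ?_⟩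
    · have e := h1 (pt C n hn.isPrime) (pt C n' hn'.isPrime)
        ((map_eq_closedPoint_iff φ _).2 hn) ((map_eq_closedPoint_iff φ _).2 hn')
      exact congrArg PrimeSpectrum.asIdeal e
    · have hx : (pt C n hn.isPrime).asIdeal.IsMaximal := hn
      exact (key (pt C n hn.isPrime) hx).1 (h2 _ ((map_eq_closedPoint_iff φ _).2 hx)) c
  · rintro ⟨h1, h2⟩
    refine ⟨fun x x' hx hx' => ?_, fun x hx => ?_⟩
    · exact PrimeSpectrum.ext (h1 _ _ ((map_eq_closedPoint_iff φ x).1 hx)
        ((map_eq_closedPoint_iff φ x').1 hx'))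
    · have hm := (map_eq_closedPoint_iff φ x).1 hx
      haveI := hm
      exact (key x hm).2 (h2 x.asIdeal)

end Groth.Agent.Helper5.GuBir
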