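import Mathlib
import Groth.Agent.Helper5.GuBir4
import Groth.Agent.Helper5.GuBir6
import Groth.Agent.Helper5.StalkRed
import Groth.Prelude

set_option autoImplicit false
set_option linter.unusedSectionVars false
set_option linter.style.haveILetI false
universe u

open AlgebraicGeometry CategoryTheory Limits

namespace Groth.Agent.Helper5.GuBir

open Groth.Agent.Helper5.RadBir Groth.Agent.Helper5.BirBC

/-- g.u. of a local ring `C` vs. the stalk of `Spec C` at the closed point -/
theorem gu_stalk_closedPoint_iff (C : CommRingCat.{u}) [IsLocalRing C] :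
    CAlg2.IsGeomUnibranch ((Spec C).presheaf.stalk (IsLocalRing.closedPoint C)) ↔
      CAlg2.IsGeomUnibranch C := by
  let e := (stalkClosedPointIso C).commRingCatIsoToRingEquiv
  exact ⟨gu_of_ringEquiv e, gu_of_ringEquiv e.symm⟩

theorem main {X Y : Scheme.{u}} (f : X ⟶ Y) [IsIntegralHom f] (hf : RadPt.IsBirational f) (y : Y)
    (C : CommRingCat.{u}) (φ : Y.presheaf.stalk y ⟶ C) (g' : Spec C ⟶ X)
    (sq : IsPullback g' (Spec.map φ) f (Y.fromSpecStalk y)) :
    CAlg2.IsGeomUnibranch (Y.presheaf.stalk y) ↔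
      (RadPt.IsRadicialAt f y ∧ ∀ x : X, f x = y → CAlg2.IsGeomUnibranch (X.presheaf.stalk x)) := by
  haveI : Flat (Y.fromSpecStalk y) := Groth.Agent.Helper5.StalkRed.flat_fromSpecStalk Y y
  haveI : IsIntegralHom (Spec.map φ) := MorphismProperty.of_isPullback sq inferInstance
  have hbir : RadPt.IsBirational (Spec.map φ) := isBirational_baseChange sq hf
  have hb : BirHyp φ.hom := birHyp_of_isBirational φ hbir
  have hrad : RadPt.IsRadicialAt f y ↔
      RadPt.IsRadicialAt (Spec.map φ) (IsLocalRing.closedPoint (Y.presheaf.stalk y)) := by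
    rw [← Groth.Agent.Helper5.RadAt.s5863 sq (IsLocalRing.closedPoint (Y.presheaf.stalk y)),
      Scheme.fromSpecStalk_closedPoint]
  rw [hrad, radAt_closedPoint_iff]
  -- stalk transport
  have hstalk : ∀ x' : Spec C, CAlg2.IsGeomUnibranch (X.presheaf.stalk (g' x')) ↔
      CAlg2.IsGeomUnibranch ((Spec C).presheaf.stalk x') := by
    intro x'
    haveI := isIso_stalkMap_of_isPullback_fromSpecStalk f y g' (Spec.map φ) sq x'
    let e := (asIso (g'.stalkMap x')).commRingCatIsoToRingEquiv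
    exact ⟨gu_of_ringEquiv e, gu_of_ringEquiv e.symm⟩
  constructor
  · intro hA
    obtain ⟨⟨n, hn, huniq⟩, hpi, hC⟩ := gu_forward hb hA
    refine ⟨⟨fun n₁ n₂ h₁ h₂ => (huniq n₁ h₁).trans (huniq n₂ h₂).symm, hpi⟩, ?_⟩
    intro x hx
    haveI : IsLocalRing C := IsLocalRing.of_unique_max_ideal ⟨n, hn, huniq⟩
    obtain ⟨x', rfl, hx'⟩ := Scheme.exists_preimage_of_isPullback sq x
      (IsLocalRing.closedPoint (Y.presheaf.stalk y))
      (by rw [hx]; exact (Scheme.fromSpecStalk_closedPoint (x := y)).symm)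
    have hmax : x'.asIdeal.IsMaximal := (map_eq_closedPoint_iff φ x').1 hx'
    have hx'c : x' = IsLocalRing.closedPoint C :=
      PrimeSpectrum.ext (IsLocalRing.eq_maximalIdeal hmax)
    rw [hstalk, hx'c, gu_stalk_closedPoint_iff]
    exact hC
  · rintro ⟨⟨huniq, hpi⟩, hX⟩
    have hne : Nontrivial C := by
      obtain ⟨P, hP, -⟩ := Ideal.exists_minimalPrimes_le (I := (⊥ : Ideal (Y.presheaf.stalk y)))
        (J := IsLocalRing.maximalIdeal (Y.presheaf.stalk y)) bot_le
      obtain ⟨Q, hQ, -⟩ := hb.exist P hP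
      refine ⟨⟨0, 1, fun h => hQ.1.1.ne_top ((Ideal.eq_top_iff_one _).2 ?_)⟩⟩
      rw [← h]; exact Q.zero_mem
    obtain ⟨n, hn⟩ := Ideal.exists_maximal C
    haveI : IsLocalRing C := IsLocalRing.of_unique_max_ideal ⟨n, hn, fun n' hn' => huniq n' n hn' hn⟩
    have hx' : Spec.map φ (IsLocalRing.closedPoint C) =
        IsLocalRing.closedPoint (Y.presheaf.stalk y) :=
      (map_eq_closedPoint_iff φ _).2 (IsLocalRing.maximalIdeal.isMaximal C)
    have hfx : f (g' (IsLocalRing.closedPoint C)) = y := by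
      rw [← Scheme.Hom.comp_apply, sq.w, Scheme.Hom.comp_apply, hx',
        Scheme.fromSpecStalk_closedPoint]
    have h1 := hX _ hfx
    rw [hstalk, gu_stalk_closedPoint_iff] at h1
    exact gu_backward hb hpi h1


theorem s5865 {X Y : Scheme.{u}} (f : X ⟶ Y) [IsIntegralHom f] (hf : RadPt.IsBirational f) (y : Y) :
    CAlg2.IsGeomUnibranch (Y.presheaf.stalk y) ↔
      (RadPt.IsRadicialAt f y ∧ ∀ x : X, f x = y → CAlg2.IsGeomUnibranch (X.presheaf.stalk x)) := by
  haveI : IsIntegralHom (pullback.snd f (Y.fromSpecStalk y)) := inferInstance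
  haveI : IsAffine (pullback f (Y.fromSpecStalk y)) :=
    isAffine_of_isAffineHom (pullback.snd f (Y.fromSpecStalk y))
  let e : pullback f (Y.fromSpecStalk y) ≅ Spec Γ(pullback f (Y.fromSpecStalk y), ⊤) :=
    (pullback f (Y.fromSpecStalk y)).isoSpec
  let φ : Y.presheaf.stalk y ⟶ Γ(pullback f (Y.fromSpecStalk y), ⊤) :=
    Spec.preimage (e.inv ≫ pullback.snd f (Y.fromSpecStalk y))
  have hφ : Spec.map φ = e.inv ≫ pullback.snd f (Y.fromSpecStalk y) := Spec.map_preimage _
  have sq : IsPullback (e.inv ≫ pullback.fst f (Y.fromSpecStalk y)) (Spec.map φ) f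
      (Y.fromSpecStalk y) := by
    rw [hφ]
    exact IsPullback.of_iso_pullback
      ⟨by rw [Category.assoc, Category.assoc, pullback.condition]⟩ e.symm rfl rfl
  exact main f hf y _ φ _ sq

theorem s5866 {X Y : Scheme.{u}} (f : X ⟶ Y) [IsIntegralHom f] (hf : RadPt.IsBirational f) :
    (∀ y : Y, CAlg2.IsGeomUnibranch (Y.presheaf.stalk y)) ↔
      ((∀ x : X, CAlg2.IsGeomUnibranch (X.presheaf.stalk x)) ∧ UniversallyInjective f) := by
  have hui : UniversallyInjective f ↔ Function.Injective f ∧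
      ∀ x, (f.residueFieldMap x).hom.IsPurelyInseparable :=
    (tfae_universallyInjective f).out 0 2
  rw [hui]
  constructor
  · intro h
    have h1 := fun y => (s5865 f hf y).1 (h y)
    refine ⟨fun x => (h1 (f x)).2 x rfl, fun x x' hxx' => (h1 (f x)).1.1 x x' rfl hxx'.symm,
      fun x => (h1 (f x)).1.2 x rfl⟩
  · rintro ⟨hX, hinj, hpi⟩ y
    exact (s5865 f hf y).2 ⟨⟨fun x x' hx hx' => hinj (hx.trans hx'.symm), fun x _ => hpi x⟩,
      fun x _ => hX x⟩

end Groth.Agent.Helper5.GuBir
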