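import Mathlib
import Groth.Agent.Helper5.SmNorm2
import Groth.Prelude

set_option autoImplicit false
set_option linter.unusedSectionVars false
set_option linter.style.haveILetI false
universe u

open TensorProduct

namespace Groth.Agent.Helper5.UnrGu

section
variable (A₀ C : Type u) [CommRing A₀] [IsDomain A₀] [CommRing C] [Algebra A₀ C]
  [Algebra.Etale A₀ C]

/-- primes with the same contraction, one inside the other, coincide (étale ⇒ quasi-finite) -/
theorem eq_of_le_of_under_eq (P Q : Ideal C) [P.IsPrime] [Q.IsPrime] (h : P ≤ Q)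
    (h' : P.under A₀ = Q.under A₀) : P = Q :=
  Algebra.QuasiFinite.eq_of_le_of_under_eq (R := A₀) P Q h h'

/-- a prime of an étale algebra over a domain lying over zero is a minimal prime -/
theorem mem_minimalPrimes_of_under_eq_bot (P : Ideal C) [P.IsPrime] (hP : P.under A₀ = ⊥) :
    P ∈ minimalPrimes C := by
  obtain ⟨M, hM, hMle⟩ := Ideal.exists_minimalPrimes_le (I := (⊥ : Ideal C)) (J := P) bot_le
  haveI : M.IsPrime := hM.1.1
  have h1 : M.under A₀ = ⊥ := le_bot_iff.1 (le_trans (Ideal.comap_mono hMle) (le_of_eq hP))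
  have : M = P := eq_of_le_of_under_eq A₀ C M P hMle (by rw [h1, hP])
  rw [← this]; exact hM

theorem exists_kill (q q' : Ideal C) [q.IsPrime] [q'.IsPrime] (hq' : q' ≤ q)
    (hq'0 : q'.under A₀ = ⊥)
    (huniq : ∀ P₁ P₂ : Ideal C, P₁ ∈ minimalPrimes C → P₂ ∈ minimalPrimes C → P₁ ≤ q → P₂ ≤ q →
      P₁ = P₂) :
    ∃ c : C, c ∉ q ∧ ∀ j ∈ q', c * j = 0 := by
  classical
  obtain ⟨I, hI, L, hL, hLalg, Φ, -⟩ :=
    (Algebra.FormallyEtale.iff_exists_algEquiv_prod (FractionRing A₀)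
      (FractionRing A₀ ⊗[A₀] C)).1 inferInstance
  haveI : Fintype I := Fintype.ofFinite I
  let ι₀ : C →ₐ[A₀] FractionRing A₀ ⊗[A₀] C := Algebra.TensorProduct.includeRight
  let ι : C →+* (∀ i, L i) := (Φ : FractionRing A₀ ⊗[A₀] C →+* (∀ i, L i)).comp ι₀.toRingHom
  have hι₀ : Function.Injective ι₀ :=
    Algebra.TensorProduct.includeRight_injective (IsFractionRing.injective A₀ (FractionRing A₀))
  have hι : Function.Injective ι := Φ.injective.comp hι₀
  let P : I → Ideal C := fun i => RingHom.ker ((Pi.evalRingHom L i).comp ι)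
  have hPprime : ∀ i, (P i).IsPrime := fun i => RingHom.ker_isPrime _
  have hPunder : ∀ i, (P i).under A₀ = ⊥ := by
    intro i
    rw [eq_bot_iff]
    intro a ha
    have h1 : ι (algebraMap A₀ C a) =
        algebraMap (FractionRing A₀) (∀ i, L i) (algebraMap A₀ (FractionRing A₀) a) := by
      show Φ (ι₀ (algebraMap A₀ C a)) = _
      rw [ι₀.commutes, IsScalarTower.algebraMap_apply A₀ (FractionRing A₀)
        (FractionRing A₀ ⊗[A₀] C), Φ.commutes]
    have h2 : ι (algebraMap A₀ C a) i = 0 := ha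
    rw [h1] at h2
    have h3 : algebraMap (FractionRing A₀) (L i) (algebraMap A₀ (FractionRing A₀) a) = 0 := h2
    have h4 := (map_eq_zero_iff _ (algebraMap (FractionRing A₀) (L i)).injective).1 h3
    exact (map_eq_zero_iff _ (IsFractionRing.injective A₀ (FractionRing A₀))).1 h4
  have hPmin : ∀ i, P i ∈ minimalPrimes C := fun i =>
    mem_minimalPrimes_of_under_eq_bot A₀ C (P i) (hPunder i)
  have hinf : (Finset.univ.inf P) ≤ q' := by
    intro t ht
    have : t = 0 := by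
      apply hι
      rw [map_zero]
      funext i
      have := (Finset.inf_le (f := P) (Finset.mem_univ i)) ht
      exact this
    rw [this]; exact Ideal.zero_mem _
  obtain ⟨i₀, -, hi₀⟩ := (Ideal.IsPrime.inf_le' inferInstance).1 hinf
  have hq'eq : P i₀ = q' := eq_of_le_of_under_eq A₀ C (P i₀) q' hi₀ (by rw [hPunder, hq'0])
  have hex : ∀ i, P i ≠ q' → ∃ c ∈ P i, c ∉ q := by
    intro i hi
    by_contra hcon
    push_neg at hcon
    have hle : P i ≤ q := hcon
    have := huniq (P i) (P i₀) (hPmin i) (hPmin i₀) hle (hq'eq ▸ hq')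
    exact hi (this.trans hq'eq)
  choose! cf hcf1 hcf2 using hex
  let S : Finset I := Finset.univ.filter (fun i => P i ≠ q')
  refine ⟨∏ i ∈ S, cf i, ?_, ?_⟩
  · intro hmem
    obtain ⟨i, hi, hci⟩ := (Ideal.IsPrime.prod_mem_iff (p := q)).1 hmem
    exact hcf2 i (Finset.mem_filter.1 hi).2 hci
  · intro j hj
    apply hι
    rw [map_zero]
    funext i
    rw [map_mul, Pi.mul_apply, Pi.zero_apply]
    by_cases hi : P i = q'
    · have h0 : ι j i = 0 := by
        have : j ∈ P i := hi ▸ hj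
        exact this
      rw [h0, mul_zero]
    · have hiS : i ∈ S := Finset.mem_filter.2 ⟨Finset.mem_univ _, hi⟩
      have h1 : (∏ i ∈ S, cf i) ∈ P i := Ideal.prod_mem (P i) hiS (hcf1 i hi)
      have h0 : ι (∏ i ∈ S, cf i) i = 0 := h1
      rw [h0, zero_mul]

end

end Groth.Agent.Helper5.UnrGu

namespace Groth.Agent.Helper5.UnrGu

open TensorProduct

section
variable (A₀ C : Type u) [CommRing A₀] [IsDomain A₀] [CommRing C] [Algebra A₀ C]
  [Algebra.Etale A₀ C]

/-- the normalization of a domain in its fraction field -/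
abbrev Nrm : Type u := integralClosure A₀ (FractionRing A₀)

instance : IsIntegrallyClosed (Nrm A₀) :=
  integralClosure.isIntegrallyClosedOfFiniteExtension (FractionRing A₀)

theorem algebraMap_nrm_injective : Function.Injective (algebraMap A₀ (Nrm A₀)) := by
  intro a b h
  exact IsFractionRing.injective A₀ (FractionRing A₀) (congrArg Subtype.val h)

end

section
variable {C C' : Type u} [CommRing C] [CommRing C']

theorem minimal_unique' (A' : Type u) [CommRing A'] [IsDomain A'] [IsIntegrallyClosed A']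
    [Algebra A' C'] [Algebra.Etale A' C'] (ρ : C →+* C') (hρinj : Function.Injective ρ) (hρint : ρ.IsIntegral)
    (q : Ideal C) [q.IsPrime]
    (hrad : ∀ Q₁ Q₂ : Ideal C', Q₁.IsPrime → Q₂.IsPrime → Q₁.comap ρ = q → Q₂.comap ρ = q →
      Q₁ = Q₂)
    (P₁ P₂ : Ideal C) (hP₁ : P₁ ∈ minimalPrimes C) (hP₂ : P₂ ∈ minimalPrimes C) (h₁ : P₁ ≤ q)
    (h₂ : P₂ ≤ q) : P₁ = P₂ := by
  letI := ρ.toAlgebra
  haveI : Algebra.IsIntegral C C' := ⟨hρint⟩
  have hker : RingHom.ker (algebraMap C C') = ⊥ :=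
    (RingHom.injective_iff_ker_eq_bot _).1 hρinj
  have lift : ∀ P : Ideal C, P.IsPrime → P ≤ q →
      ∃ P' Q : Ideal C', P'.IsPrime ∧ Q.IsPrime ∧ P' ≤ Q ∧
        P'.comap ρ = P ∧ Q.comap ρ = q := by
    intro P hP hPq
    haveI := hP
    obtain ⟨P', -, hP', hP'c⟩ := Ideal.exists_ideal_over_prime_of_isIntegral P
      (⊥ : Ideal C') (by
        show RingHom.ker (algebraMap C C') ≤ P
        rw [hker]; exact bot_le)
    haveI := hP'
    obtain ⟨Q, hQle, hQ, hQc⟩ := Ideal.exists_ideal_over_prime_of_isIntegral q P' (by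
      rw [hP'c]; exact hPq)
    exact ⟨P', Q, hP', hQ, hQle, hP'c, hQc⟩
  obtain ⟨P₁', Q₁, hP₁', hQ₁, hle₁, hc₁, hQc₁⟩ := lift P₁ hP₁.1.1 h₁
  obtain ⟨P₂', Q₂, hP₂', hQ₂, hle₂, hc₂, hQc₂⟩ := lift P₂ hP₂.1.1 h₂
  have hQ : Q₁ = Q₂ := hrad Q₁ Q₂ hQ₁ hQ₂ hQc₁ hQc₂
  subst hQ
  haveI := hQ₁
  obtain ⟨hdom, -⟩ := Groth.Agent.Helper5.SmNorm.normal_atPrime_of_etale A' C' Q₁
  haveI := hdom
  let M' : Ideal C' := RingHom.ker (algebraMap C' (Localization.AtPrime Q₁))
  haveI hM' : M'.IsPrime := RingHom.ker_isPrime _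
  have hM'le : ∀ P' : Ideal C', P'.IsPrime → P' ≤ Q₁ → M' ≤ P' := by
    intro P' hP' hP'Q x hx
    have hx0 : algebraMap C' (Localization.AtPrime Q₁) x = 0 := hx
    rw [IsLocalization.map_eq_zero_iff Q₁.primeCompl] at hx0
    obtain ⟨s, hs⟩ := hx0
    have hsx : (s : C') * x ∈ P' := by rw [hs]; exact P'.zero_mem
    rcases hP'.mem_or_mem hsx with h | h
    · exact absurd (hP'Q h) s.2
    · exact h
  have hM : (M'.comap ρ).IsPrime := Ideal.comap_isPrime ρ M'
  have hM1 : M'.comap ρ ≤ P₁ := by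
    rw [← hc₁]; exact Ideal.comap_mono (hM'le P₁' hP₁' hle₁)
  have hM2 : M'.comap ρ ≤ P₂ := by
    rw [← hc₂]; exact Ideal.comap_mono (hM'le P₂' hP₂' hle₂)
  have e1 : P₁ = M'.comap ρ := le_antisymm (hP₁.2 ⟨hM, bot_le⟩ hM1) hM1
  have e2 : P₂ = M'.comap ρ := le_antisymm (hP₂.2 ⟨hM, bot_le⟩ hM2) hM2
  rw [e1, ← e2]

end

end Groth.Agent.Helper5.UnrGu
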