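import Mathlib
import Groth.Agent.Helper5.UnrGu1
import Groth.Agent.Helper5.GuBir7
import Groth.Prelude

set_option autoImplicit false
set_option linter.unusedSectionVars false
set_option linter.style.haveILetI false
universe u

open AlgebraicGeometry CategoryTheory Limits TensorProduct

namespace Groth.Agent.Helper5.UnrGu

open Groth.Agent.Helper5.GuBir Groth.Agent.Helper5.BirBC

theorem mem_genericPoints_spec_domain (R : CommRingCat.{u}) [IsDomain R] (x : Spec R) :
    x ∈ genericPoints ↥(Spec R) ↔ x.asIdeal = ⊥ := by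
  rw [mem_genericPoints_spec_iff, IsDomain.minimalPrimes_eq_singleton_bot R, Set.mem_singleton_iff]

/-- an injective integral map of domains with the same fractions is birational on spectra -/
theorem isBirational_of_domains {A B : CommRingCat.{u}} [IsDomain A] [IsDomain B] (φ : A ⟶ B)
    (hinj : Function.Injective φ.hom) (hint : φ.hom.IsIntegral)
    (hfrac : ∀ b : B, ∃ a₁ a₂ : A, a₂ ≠ 0 ∧ φ.hom a₂ * b = φ.hom a₁) :
    RadPt.IsBirational (Spec.map φ) := by
  have hker : RingHom.ker φ.hom = ⊥ := (RingHom.injective_iff_ker_eq_bot _).1 hinj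
  have hfib : ∀ x : Spec B, (Spec.map φ x).asIdeal = ⊥ → x.asIdeal = ⊥ := by
    intro x hx
    letI := φ.hom.toAlgebra
    haveI : Algebra.IsIntegral A B := ⟨hint⟩
    exact Ideal.eq_bot_of_comap_eq_bot (R := A) (I := x.asIdeal) hx
  have hmap : ∀ x : Spec B, x.asIdeal = ⊥ → (Spec.map φ x).asIdeal = ⊥ := by
    intro x hx
    show x.asIdeal.comap φ.hom = ⊥
    rw [hx]; exact hker
  refine ⟨⟨?_, ?_, ?_⟩, ?_⟩
  · intro x hx
    rw [mem_genericPoints_spec_domain] at hx ⊢
    exact hmap x hx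
  · intro x hx x' hx' _
    rw [mem_genericPoints_spec_domain] at hx hx'
    exact PrimeSpectrum.ext (hx.trans hx'.symm)
  · intro y hy
    rw [mem_genericPoints_spec_domain] at hy
    refine ⟨pt B ⊥ Ideal.isPrime_bot, (mem_genericPoints_spec_domain B _).2 rfl, ?_⟩
    exact PrimeSpectrum.ext ((hmap _ rfl).trans hy.symm)
  · intro y hy
    rw [mem_genericPoints_spec_domain] at hy
    refine ⟨fun x x' hx hx' => ?_, fun x hx => ?_⟩
    · have h1 := hfib x (by rw [hx]; exact hy)
      have h2 := hfib x' (by rw [hx']; exact hy)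
      exact PrimeSpectrum.ext (h1.trans h2.symm)
    · have hx0 : x.asIdeal = ⊥ := hfib x (by rw [hx]; exact hy)
      refine ⟨RingHom.injective _, fun α => ?_⟩
      obtain ⟨b₁, b₂, hb₂, hα⟩ := exists_ev_fraction B x α
      obtain ⟨a₁, a₂, ha₂, h1⟩ := hfrac b₁
      obtain ⟨a₁', a₂', ha₂', h2⟩ := hfrac b₂
      have hne : ∀ a : A, a ≠ 0 → ev A (Spec.map φ x) a ≠ 0 := by
        intro a ha h
        rw [ev_eq_zero_iff, hmap x hx0] at h
        exact ha h
      have hb₂0 : b₂ ≠ 0 := by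
        intro h
        apply hb₂
        rw [h, map_zero]
      have ha₁' : a₁' ≠ 0 := by
        intro h
        rw [h, map_zero] at h2
        rcases mul_eq_zero.1 h2 with h3 | h3
        · exact ha₂' (hinj (by rw [h3, map_zero]))
        · exact hb₂0 h3
      refine ⟨(ev A (Spec.map φ x) a₁ * ev A (Spec.map φ x) a₂') /
        (ev A (Spec.map φ x) a₂ * ev A (Spec.map φ x) a₁'), ?_⟩
      rw [map_div₀, map_mul, map_mul, ev_naturality, ev_naturality, ev_naturality, ev_naturality]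
      have e1 : ev B x (φ.hom a₂) * ev B x b₁ = ev B x (φ.hom a₁) := by
        rw [← map_mul, h1]
      have e2 : ev B x (φ.hom a₂') * ev B x b₂ = ev B x (φ.hom a₁') := by
        rw [← map_mul, h2]
      have hu₂ : ev B x (φ.hom a₂) ≠ 0 := by
        rw [← ev_naturality]
        exact (map_ne_zero_iff _ (RingHom.injective _)).2 (hne a₂ ha₂)
      have hv₁ : ev B x (φ.hom a₁') ≠ 0 := by
        rw [← ev_naturality]
        exact (map_ne_zero_iff _ (RingHom.injective _)).2 (hne a₁' ha₁')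
      rw [div_eq_iff (mul_ne_zero hu₂ hv₁), ← e1, ← e2, ← hα]
      ring


theorem exists_frac_nrm (A₀ : Type u) [CommRing A₀] [IsDomain A₀] (b : Nrm A₀) :
    ∃ a₁ a₂ : A₀, a₂ ≠ 0 ∧ algebraMap A₀ (Nrm A₀) a₂ * b = algebraMap A₀ (Nrm A₀) a₁ := by
  obtain ⟨x, y, hy, hxy⟩ := IsFractionRing.div_surjective (A := A₀) (b : FractionRing A₀)
  refine ⟨x, y, nonZeroDivisors.ne_zero hy, ?_⟩
  apply Subtype.ext
  show algebraMap A₀ (FractionRing A₀) y * (b : FractionRing A₀) = algebraMap A₀ (FractionRing A₀) x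
  rw [← hxy]
  have hy0 : algebraMap A₀ (FractionRing A₀) y ≠ 0 :=
    (map_ne_zero_iff _ (IsFractionRing.injective A₀ (FractionRing A₀))).2
      (nonZeroDivisors.ne_zero hy)
  field_simp

/-- **Core**: in an étale algebra over a domain, a prime lying over a geometrically unibranch
point contains exactly one minimal prime. -/
theorem core (A₀ C : Type u) [CommRing A₀] [IsDomain A₀] [CommRing C] [Algebra A₀ C]
    [Algebra.Etale A₀ C] (q : Ideal C) [q.IsPrime]
    (hgu : CAlg2.IsGeomUnibranch ((Spec (CommRingCat.of A₀)).presheaf.stalk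
      (Spec.map (CommRingCat.ofHom (algebraMap A₀ C)) ⟨q, inferInstance⟩)))
    (P₁ P₂ : Ideal C) (hP₁ : P₁ ∈ minimalPrimes C) (hP₂ : P₂ ∈ minimalPrimes C) (h₁ : P₁ ≤ q)
    (h₂ : P₂ ≤ q) : P₁ = P₂ := by
  haveI : IsDomain ↑(CommRingCat.of A₀) := inferInstanceAs (IsDomain A₀)
  haveI : IsDomain ↑(CommRingCat.of (Nrm A₀)) := inferInstanceAs (IsDomain (Nrm A₀))
  let ν := Spec.map (CommRingCat.ofHom (algebraMap A₀ (Nrm A₀)))
  haveI hint : IsIntegralHom ν :=
    IsIntegralHom.SpecMap_iff.2 (algebraMap_isIntegral_iff.2 inferInstance)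
  have hbir : RadPt.IsBirational ν :=
    isBirational_of_domains (CommRingCat.ofHom (algebraMap A₀ (Nrm A₀)))
      (algebraMap_nrm_injective A₀) (algebraMap_isIntegral_iff.2 inferInstance)
      (exists_frac_nrm A₀)
  have sq := isPullback_SpecMap_of_isPushout _ _ _ _
    (CommRingCat.isPushout_tensorProduct A₀ (Nrm A₀) C)
  let y' : Spec (CommRingCat.of C) := ⟨q, inferInstance⟩
  have hrad1 : RadPt.IsRadicialAt ν (Spec.map (CommRingCat.ofHom (algebraMap A₀ C)) y') :=
    ((s5865 ν hbir _).1 hgu).1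
  have hrad2 := (Groth.Agent.Helper5.RadAt.s5863 sq y').1 hrad1
  haveI hint2 : IsIntegralHom (Spec.map (CommRingCat.ofHom (S := Nrm A₀ ⊗[A₀] C)
      (Algebra.TensorProduct.includeRight : C →ₐ[A₀] Nrm A₀ ⊗[A₀] C).toRingHom)) :=
    MorphismProperty.of_isPullback sq hint
  have hρint := IsIntegralHom.SpecMap_iff.1 hint2
  have hρinj : Function.Injective
      (Algebra.TensorProduct.includeRight : C →ₐ[A₀] Nrm A₀ ⊗[A₀] C).toRingHom :=
    Algebra.TensorProduct.includeRight_injective (algebraMap_nrm_injective A₀)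
  refine minimal_unique' (C' := Nrm A₀ ⊗[A₀] C) (Nrm A₀) _ hρinj hρint q ?_ P₁ P₂ hP₁ hP₂ h₁ h₂
  intro Q₁ Q₂ hQ₁ hQ₂ e₁ e₂
  have := hrad2.1 ⟨Q₁, hQ₁⟩ ⟨Q₂, hQ₂⟩ (PrimeSpectrum.ext e₁) (PrimeSpectrum.ext e₂)
  exact congrArg PrimeSpectrum.asIdeal this

end Groth.Agent.Helper5.UnrGu
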