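import Mathlib
import Groth.Agent.Helper5.UnrGu2
import Groth.Prelude

set_option autoImplicit false
set_option linter.unusedSectionVars false
set_option linter.style.haveILetI false
universe u

open AlgebraicGeometry CategoryTheory Limits TensorProduct

namespace Groth.Agent.Helper5.UnrGu

theorem etale_of_double_away {A₀ B S T' T : Type u} [CommRing A₀] [CommRing B] [CommRing S]
    [CommRing T'] [CommRing T]
    [Algebra A₀ B] [Algebra B S] [Algebra A₀ S] [IsScalarTower A₀ B S]
    [Algebra S T'] [Algebra A₀ T'] [IsScalarTower A₀ S T']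
    (g b : B) (y : S) [IsLocalization.Away g S] [IsLocalization.Away y T']
    (hassoc : Associated (algebraMap B S b) y) [Algebra.Etale A₀ T']
    [Algebra B T] [Algebra A₀ T] [IsScalarTower A₀ B T] [IsLocalization.Away (g * b) T] :
    Algebra.Etale A₀ T := by
  letI : Algebra B T' := ((algebraMap S T').comp (algebraMap B S)).toAlgebra
  haveI : IsScalarTower B S T' := IsScalarTower.of_algebraMap_eq' rfl
  haveI : IsScalarTower A₀ B T' := by
    refine IsScalarTower.of_algebraMap_eq' ?_
    rw [IsScalarTower.algebraMap_eq A₀ S T', IsScalarTower.algebraMap_eq A₀ B S]; rfl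
  haveI : IsLocalization.Away (g * b) T' := IsLocalization.Away.mul_of_associated g b y hassoc
  let e : T' ≃ₐ[B] T := IsLocalization.algEquiv (Submonoid.powers (g * b)) _ _
  exact Algebra.Etale.of_equiv (e.restrictScalars A₀)

/-- **Ring lemma**: a finite type algebra over a domain, unramified, with a prime `Q` over a
geometrically unibranch point and a generization `Q'` of `Q` over the generic point, is étale on a
principal open neighbourhood of `Q`. -/
theorem exists_etale_away (A₀ B : Type u) [CommRing A₀] [IsDomain A₀] [CommRing B] [Algebra A₀ B]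
    [Algebra.FiniteType A₀ B] [Algebra.FormallyUnramified A₀ B]
    (Q Q' : Ideal B) [hQ : Q.IsPrime] [hQ' : Q'.IsPrime] (hQ'Q : Q' ≤ Q)
    (hQ'0 : Q'.comap (algebraMap A₀ B) = ⊥)
    (hgu : CAlg2.IsGeomUnibranch ((Spec (CommRingCat.of A₀)).presheaf.stalk
      (Spec.map (CommRingCat.ofHom (algebraMap A₀ B)) ⟨Q, hQ⟩))) :
    ∃ h : B, h ∉ Q ∧ ∀ (T : Type u) [CommRing T] [Algebra B T] [Algebra A₀ T]
      [IsScalarTower A₀ B T] [IsLocalization.Away h T], Algebra.Etale A₀ T := by
  haveI : Algebra.IsUnramifiedAt A₀ Q := inferInstance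
  obtain ⟨g, hgQ, P, ψ, hψ⟩ :=
    Algebra.IsUnramifiedAt.exists_hasStandardEtaleSurjectionOn (R := A₀) Q
  have hgQ' : g ∉ Q' := fun h => hgQ (hQ'Q h)
  have hdisj : Disjoint (Submonoid.powers g : Set B) (Q : Set B) :=
    (Ideal.disjoint_powers_iff_notMem_of_isPrime _).mpr hgQ
  have hdisj' : Disjoint (Submonoid.powers g : Set B) (Q' : Set B) :=
    (Ideal.disjoint_powers_iff_notMem_of_isPrime _).mpr hgQ'
  let Qg : Ideal (Localization.Away g) := Q.map (algebraMap B (Localization.Away g))
  let Qg' : Ideal (Localization.Away g) := Q'.map (algebraMap B (Localization.Away g))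
  haveI hQg : Qg.IsPrime :=
    IsLocalization.isPrime_of_isPrime_disjoint (.powers g) _ _ hQ hdisj
  haveI hQg' : Qg'.IsPrime :=
    IsLocalization.isPrime_of_isPrime_disjoint (.powers g) _ _ hQ' hdisj'
  have hQgc : Qg.comap (algebraMap B (Localization.Away g)) = Q :=
    IsLocalization.comap_map_of_isPrime_disjoint (.powers g) _ hQ hdisj
  have hQgc' : Qg'.comap (algebraMap B (Localization.Away g)) = Q' :=
    IsLocalization.comap_map_of_isPrime_disjoint (.powers g) _ hQ' hdisj'
  let q : Ideal P.Ring := Qg.comap ψ.toRingHom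
  let q' : Ideal P.Ring := Qg'.comap ψ.toRingHom
  haveI hq : q.IsPrime := Ideal.comap_isPrime _ _
  haveI hq' : q'.IsPrime := Ideal.comap_isPrime _ _
  have hq'q : q' ≤ q := Ideal.comap_mono (Ideal.map_mono hQ'Q)
  have hcomap : ∀ I : Ideal (Localization.Away g),
      (I.comap ψ.toRingHom).comap (algebraMap A₀ P.Ring) =
        (I.comap (algebraMap B (Localization.Away g))).comap (algebraMap A₀ B) := by
    intro I
    rw [Ideal.comap_comap, Ideal.comap_comap]
    congr 1
    ext a
    simp [IsScalarTower.algebraMap_apply A₀ B (Localization.Away g)]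
  have hq'0 : q'.under A₀ = ⊥ := by
    show q'.comap (algebraMap A₀ P.Ring) = ⊥
    rw [hcomap, hQgc', hQ'0]
  have hpt : (Spec.map (CommRingCat.ofHom (algebraMap A₀ P.Ring)) ⟨q, hq⟩ :
      Spec (CommRingCat.of A₀)) = Spec.map (CommRingCat.ofHom (algebraMap A₀ B)) ⟨Q, hQ⟩ := by
    apply PrimeSpectrum.ext
    show q.comap (algebraMap A₀ P.Ring) = Q.comap (algebraMap A₀ B)
    rw [hcomap, hQgc]
  have hgu' : CAlg2.IsGeomUnibranch ((Spec (CommRingCat.of A₀)).presheaf.stalk
      (Spec.map (CommRingCat.ofHom (algebraMap A₀ P.Ring)) ⟨q, hq⟩)) := by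
    rw [hpt]; exact hgu
  obtain ⟨c, hcq, hc⟩ := exists_kill A₀ P.Ring q q' hq'q hq'0 (core A₀ P.Ring q hgu')
  have hker : ∀ a : P.Ring, ψ a = 0 → c * a = 0 := by
    intro a ha
    apply hc
    show ψ a ∈ Qg'
    rw [ha]; exact Qg'.zero_mem
  obtain ⟨n, b, hb⟩ := IsLocalization.Away.surj g (ψ c)
  have hunit : IsUnit (algebraMap B (Localization.Away g) g ^ n) :=
    IsLocalization.Away.algebraMap_pow_isUnit g n
  have hψc : ψ c ∉ Qg := hcq
  have hbQ : b ∉ Q := by
    intro hbQ
    have h1 : algebraMap B (Localization.Away g) b ∈ Qg := Ideal.mem_map_of_mem _ hbQ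
    rw [← hb] at h1
    rcases hQg.mem_or_mem h1 with h2 | h2
    · exact hψc h2
    · exact hQg.ne_top (Ideal.eq_top_of_isUnit_mem _ h2 hunit)
  refine ⟨g * b, hQ.mul_notMem hgQ hbQ, ?_⟩
  intro T _ _ _ _ _
  -- étaleness of the double localization
  have hbij : Function.Bijective (Localization.awayMapₐ ψ c) := by
    refine ⟨?_, IsLocalization.Away.mapₐ_surjective_of_surjective c hψ⟩
    show Function.Injective (IsLocalization.Away.map _ _ ψ.toRingHom c)
    rw [IsLocalization.Away.map_injective_iff]
    intro a ha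
    exact ⟨1, by rw [pow_one]; exact hker a ha⟩
  haveI : Algebra.Etale A₀ (Localization.Away c) :=
    Algebra.Etale.comp A₀ P.Ring (Localization.Away c)
  haveI hT' : Algebra.Etale A₀ (Localization.Away (ψ c)) :=
    Algebra.Etale.of_equiv (AlgEquiv.ofBijective (Localization.awayMapₐ ψ c) hbij)
  have hassoc : Associated (algebraMap B (Localization.Away g) b) (ψ c) := by
    refine Associated.symm ⟨hunit.unit, ?_⟩
    rw [IsUnit.unit_spec]; exact hb
  exact etale_of_double_away (S := Localization.Away g) (T' := Localization.Away (ψ c)) g b (ψ c)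
    hassoc

end Groth.Agent.Helper5.UnrGu
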