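import Mathlib
import Groth.Agent.Helper5.UnrGu3
import Groth.Prelude

set_option autoImplicit false
set_option linter.unusedSectionVars false
set_option linter.style.haveILetI false
universe u

open AlgebraicGeometry CategoryTheory Limits TensorProduct

namespace Groth.Agent.Helper5.UnrGu

open Groth.Agent.Helper5.GuBir

theorem resLE_iff_appLE {P : MorphismProperty Scheme.{u}}
    {Q : ∀ {R S : Type u} [CommRing R] [CommRing S], (R →+* S) → Prop} [HasRingHomProperty P Q]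
    {X Y : Scheme.{u}} (f : X ⟶ Y) (V : Y.Opens) (hV : IsAffineOpen V) (W : X.Opens)
    (hW : IsAffineOpen W) (e : W ≤ f ⁻¹ᵁ V) :
    P (f.resLE V W e) ↔ Q (f.appLE V W e).hom := by
  have : IsAffine _ := hV
  have : IsAffine _ := hW
  rw [HasRingHomProperty.iff_of_isAffine (P := P)]
  exact (HasRingHomProperty.isLocal_ringHomProperty P).respectsIso.arrow_mk_iso_iff
    (arrowResLEAppIso f V W e)

/-- g.u. of the local ring of `Y` at `y` in terms of the affine chart -/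
theorem gu_stalk_chart {Y : Scheme.{u}} (V : Y.Opens) (hV : IsAffineOpen V) (z : Spec Γ(Y, V)) :
    CAlg2.IsGeomUnibranch (Y.presheaf.stalk (hV.fromSpec z)) ↔
      CAlg2.IsGeomUnibranch ((Spec Γ(Y, V)).presheaf.stalk z) := by
  let e := (asIso (hV.fromSpec.stalkMap z)).commRingCatIsoToRingEquiv
  exact ⟨gu_of_ringEquiv e, gu_of_ringEquiv e.symm⟩

theorem gu_stalk_congr {Y : Scheme.{u}} {y y' : Y} (h : y = y') :
    CAlg2.IsGeomUnibranch (Y.presheaf.stalk y) ↔ CAlg2.IsGeomUnibranch (Y.presheaf.stalk y') := by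
  subst h; rfl

theorem s1451 {X Y : Scheme.{u}} (f : X ⟶ Y) [IsIntegral Y] [LocallyOfFiniteType f] (x : X)
    (hY : CAlg2.IsGeomUnibranch (Y.presheaf.stalk (f x)))
    (hsp : ∃ x' : X, x' ⤳ x ∧ f x' = genericPoint ↑Y)
    (hunr : ∃ U : X.Opens, x ∈ U ∧ FormallyUnramified (U.ι ≫ f)) :
    ∃ U : X.Opens, x ∈ U ∧ Etale (U.ι ≫ f) := by
  obtain ⟨x', hx'x, hx'η⟩ := hsp
  obtain ⟨U₀, hxU₀, hU₀⟩ := hunr
  obtain ⟨V, hV, hyV, -⟩ := exists_isAffineOpen_mem_and_subset (X := Y) (x := f x) (U := ⊤) trivial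
  obtain ⟨W, hW, hxW, hWle⟩ := exists_isAffineOpen_mem_and_subset (X := X) (x := x)
    (U := U₀ ⊓ f ⁻¹ᵁ V) ⟨hxU₀, hyV⟩
  have e : W ≤ f ⁻¹ᵁ V := hWle.trans inf_le_right
  have hWU₀ : W ≤ U₀ := hWle.trans inf_le_left
  haveI : Nonempty V := ⟨⟨f x, hyV⟩⟩
  haveI : IsDomain Γ(Y, V) := inferInstance
  -- ring-level data
  have hft : (f.appLE V W e).hom.FiniteType :=
    HasRingHomProperty.appLE (P := @LocallyOfFiniteType) f inferInstance ⟨V, hV⟩ ⟨W, hW⟩ e
  have hfu : (f.appLE V W e).hom.FormallyUnramified := by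
    rw [← resLE_iff_appLE (P := @FormallyUnramified) f V hV W hW e]
    have h1 : FormallyUnramified (W.ι ≫ f) := by
      rw [← X.homOfLE_ι hWU₀, Category.assoc]
      exact MorphismProperty.comp_mem _ _ _
        (inferInstance : FormallyUnramified (X.homOfLE hWU₀)) hU₀
    rw [← Scheme.Hom.resLE_comp_ι f e] at h1
    exact FormallyUnramified.of_comp (f.resLE V W e) V.ι
  algebraize [(f.appLE V W e).hom]
  -- points
  let w := hW.primeIdealOf ⟨x, hxW⟩
  have hx'W : x' ∈ W := hx'x.mem_open W.isOpen hxW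
  let w' := hW.primeIdealOf ⟨x', hx'W⟩
  have hw : hW.fromSpec w = x := hW.fromSpec_primeIdealOf ⟨x, hxW⟩
  have hw' : hW.fromSpec w' = x' := hW.fromSpec_primeIdealOf ⟨x', hx'W⟩
  have hsq : ∀ t : Spec Γ(X, W), hV.fromSpec (Spec.map (f.appLE V W e) t) = f (hW.fromSpec t) := by
    intro t
    rw [← Scheme.Hom.comp_apply, IsAffineOpen.SpecMap_appLE_fromSpec f hV hW e,
      Scheme.Hom.comp_apply]
  have hle : w'.asIdeal ≤ w.asIdeal := by
    have h1 : (w' : Spec Γ(X, W)) ⤳ (w : Spec Γ(X, W)) :=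
      (hW.fromSpec.isOpenEmbedding.isInducing.specializes_iff).1 (by rw [hw, hw']; exact hx'x)
    exact (PrimeSpectrum.le_iff_specializes w' w).2 h1
  have hinjV : Function.Injective hV.fromSpec := hV.fromSpec.isOpenEmbedding.injective
  have hzero : w'.asIdeal.comap (algebraMap Γ(Y, V) Γ(X, W)) = ⊥ := by
    let z' := Spec.map (f.appLE V W e) w'
    have hz' : hV.fromSpec z' = genericPoint Y := by rw [hsq, hw', hx'η]
    let z₀ : Spec Γ(Y, V) := ⟨⊥, Ideal.isPrime_bot⟩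
    have h1 : z₀ ⤳ z' := (PrimeSpectrum.le_iff_specializes z₀ z').1 bot_le
    have h2 : hV.fromSpec z₀ ⤳ hV.fromSpec z' := h1.map hV.fromSpec.continuous
    rw [hz'] at h2
    have h3 : hV.fromSpec z₀ = genericPoint Y :=
      (h2.antisymm (genericPoint_specializes _)).eq
    have h4 : z₀ = z' := hinjV (h3.trans hz'.symm)
    exact (congrArg PrimeSpectrum.asIdeal h4).symm
  have hgu : CAlg2.IsGeomUnibranch ((Spec (CommRingCat.of Γ(Y, V))).presheaf.stalk
      (Spec.map (CommRingCat.ofHom (algebraMap Γ(Y, V) Γ(X, W))) ⟨w.asIdeal, w.isPrime⟩)) := by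
    have h1 : hV.fromSpec (Spec.map (f.appLE V W e) w) = f x := by rw [hsq, hw]
    have h2 := (gu_stalk_congr h1.symm).1 hY
    exact (gu_stalk_chart V hV _).1 h2
  obtain ⟨h, hhQ, hT⟩ := exists_etale_away Γ(Y, V) Γ(X, W) w.asIdeal w'.asIdeal hle hzero hgu
  -- the basic open
  have hD : IsAffineOpen (X.basicOpen h) := hW.basicOpen h
  have hDW : X.basicOpen h ≤ W := X.basicOpen_le h
  have eD : X.basicOpen h ≤ f ⁻¹ᵁ V := hDW.trans e
  have hxD : x ∈ X.basicOpen h := by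
    have h5 : w ∈ hW.fromSpec ⁻¹ᵁ X.basicOpen h := by
      rw [hW.fromSpec_preimage_basicOpen]
      exact hhQ
    rw [← hw]
    exact h5
  refine ⟨X.basicOpen h, hxD, ?_⟩
  rw [← Scheme.Hom.resLE_comp_ι f eD]
  have hres : Etale (f.resLE V (X.basicOpen h) eD) := by
    rw [resLE_iff_appLE (P := @Etale) f V hV _ hD eD]
    letI : Algebra Γ(Y, V) Γ(X, X.basicOpen h) := (f.appLE V (X.basicOpen h) eD).hom.toAlgebra
    haveI : IsScalarTower Γ(Y, V) Γ(X, W) Γ(X, X.basicOpen h) := by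
      refine IsScalarTower.of_algebraMap_eq' ?_
      have := congrArg CommRingCat.Hom.hom (Scheme.Hom.appLE_map f e (homOfLE hDW).op)
      exact this.symm
    haveI : IsLocalization.Away h Γ(X, X.basicOpen h) := hW.isLocalization_basicOpen h
    exact hT Γ(X, X.basicOpen h)
  infer_instance

end Groth.Agent.Helper5.UnrGu
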