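import Mathlib
import Groth.Agent.Helper5.NormQ2
import Groth.Prelude

set_option autoImplicit false
set_option linter.unusedSectionVars false
set_option linter.style.haveILetI false
universe u

namespace Groth.Agent.Helper5.NormQ

/-- a subalgebra of the total fraction ring has the same total fraction ring -/
theorem isLocalization_subalgebra {A : Type u} [CommRing A]
    (B : Subalgebra A (FractionRing A)) :
    IsLocalization (nonZeroDivisors B) (FractionRing A) := by
  set K := FractionRing A with hK
  have hinjA : Function.Injective (algebraMap A K) :=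
    IsLocalization.injective K (le_refl (nonZeroDivisors A))
  have hinjB : Function.Injective (algebraMap B K) := Subtype.val_injective
  rw [isLocalization_iff]
  refine ⟨?_, ?_, ?_⟩
  · rintro ⟨b, hb⟩
    obtain ⟨a, s, has⟩ := IsLocalization.exists_mk'_eq (nonZeroDivisors A) (b : K)
    have ha : a ∈ nonZeroDivisors A := by
      rw [mem_nonZeroDivisors_iff_right]
      intro c hc
      -- b * c = 0 in B
      have h1 : (algebraMap A B c) * b = 0 := by
        apply hinjB
        rw [map_mul, map_zero]
        show algebraMap B K (algebraMap A B c) * (b : K) = 0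
        rw [← IsScalarTower.algebraMap_apply A B K, ← has]
        rw [IsLocalization.mul_mk'_eq_mk'_of_mul, hc, IsLocalization.mk'_zero]
      have h2 : algebraMap A B c = 0 := (mem_nonZeroDivisors_iff_right.1 hb) _ h1
      apply hinjA
      rw [map_zero, IsScalarTower.algebraMap_apply A B K, h2, map_zero]
    show IsUnit (b : K)
    rw [← has]
    have hua : IsUnit (algebraMap A K a) := IsLocalization.map_units K ⟨a, ha⟩
    have hus : IsUnit (algebraMap A K s) := IsLocalization.map_units K s
    have hspec : IsLocalization.mk' K a s * algebraMap A K s = algebraMap A K a :=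
      IsLocalization.mk'_spec K a s
    have : IsUnit (IsLocalization.mk' K a s * algebraMap A K s) := by rw [hspec]; exact hua
    exact isUnit_of_mul_isUnit_left this
  · intro z
    obtain ⟨⟨a, s⟩, has⟩ := IsLocalization.surj (nonZeroDivisors A) z
    have hs : algebraMap A B s ∈ nonZeroDivisors B := by
      rw [mem_nonZeroDivisors_iff_right]
      intro c hc
      apply hinjB
      have h1 : algebraMap B K c * algebraMap A K s = 0 := by
        rw [IsScalarTower.algebraMap_apply A B K, ← map_mul, hc, map_zero]
      have hus : IsUnit (algebraMap A K s) := IsLocalization.map_units K s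
      rw [map_zero]
      exact (IsUnit.mul_left_eq_zero hus).1 h1
    refine ⟨⟨algebraMap A B a, ⟨algebraMap A B s, hs⟩⟩, ?_⟩
    show z * algebraMap B K (algebraMap A B s) = algebraMap B K (algebraMap A B a)
    rw [← IsScalarTower.algebraMap_apply A B K, ← IsScalarTower.algebraMap_apply A B K]
    exact has
  · intro x y hxy
    exact ⟨1, by rw [hinjB hxy]⟩

theorem s2707 (A : Type u) [CommRing A] [IsReduced A] (hfin : (minimalPrimes A).Finite)
    (S : Set (Subalgebra A (FractionRing A))) (hS : ∀ B ∈ S, EGA4.IsNormalRing B)
    (hinf : sInf S = ⊥) : EGA4.IsNormalRing A := by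
  intro p hp
  refine normal_of_closed hfin (fun x hx => ?_) p
  have hx' : x ∈ sInf S := by
    rw [Algebra.mem_sInf]
    intro B hB
    haveI := isLocalization_subalgebra B
    have hxB : IsIntegral B x := hx.tower_top
    obtain ⟨c, hc⟩ := mem_range_of_isIntegral (R := B) (K := FractionRing A)
      (fun q hq => @hS B hB q hq.isPrime) x hxB
    rw [← hc]
    exact c.2
  rw [hinf, Algebra.mem_bot] at hx'
  exact hx'

end Groth.Agent.Helper5.NormQ
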