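import Mathlib
import Groth.Prelude

set_option autoImplicit false
set_option linter.unusedSectionVars false
set_option linter.style.haveILetI false
universe u

open AlgebraicGeometry CategoryTheory CategoryTheory.Limits TopologicalSpace

namespace Groth.Agent.Helper5.GaPts

/-- ring homomorphisms out of `ULift ℤ` are unique -/
theorem uliftInt_hom_ext {B : Type u} [Ring B] (f g : ULift.{u} ℤ →+* B) : f = g := by
  ext x
  have hx : x = ((x.down : ℤ) : ULift.{u} ℤ) := by
    apply ULift.ext
    simp
  rw [hx, map_intCast, map_intCast]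

/-- the polynomial ring `ℤ[T]` in the form used by the prelude -/
abbrev SymZ : Type u := SymmetricAlgebra (ULift.{u} ℤ) (ULift.{u} ℤ)

/-- the generator of `SymZ` -/
noncomputable abbrev gen : SymZ.{u} := SymmetricAlgebra.ι (ULift.{u} ℤ) (ULift.{u} ℤ) (ULift.up 1)

/-- the `ULift ℤ`-algebra structure on a commutative ring -/
noncomputable abbrev algULift (B : Type u) [CommRing B] : Algebra (ULift.{u} ℤ) B :=
  Algebra.ofModule (fun r x y => by rw [ULift.smul_def, ULift.smul_def, smul_mul_assoc])
    (fun r x y => by rw [ULift.smul_def, ULift.smul_def, mul_smul_comm])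

/-- ring homs out of `SymZ` are determined by the image of the generator -/
theorem symZ_hom_ext {B : Type u} [CommRing B] (f g : SymZ.{u} →+* B)
    (h : f gen = g gen) : f = g := by
  letI := algULift B
  let F : SymZ.{u} →ₐ[ULift.{u} ℤ] B :=
    { f with
      commutes' := fun r => by
        have := uliftInt_hom_ext (f.comp (algebraMap (ULift.{u} ℤ) SymZ.{u}))
          (algebraMap (ULift.{u} ℤ) B)
        exact congrArg (fun φ => φ r) this }
  let G : SymZ.{u} →ₐ[ULift.{u} ℤ] B :=
    { g with
      commutes' := fun r => by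
        have := uliftInt_hom_ext (g.comp (algebraMap (ULift.{u} ℤ) SymZ.{u}))
          (algebraMap (ULift.{u} ℤ) B)
        exact congrArg (fun φ => φ r) this }
  have hFG : F = G := by
    apply SymmetricAlgebra.algHom_ext
    apply LinearMap.ext_ring
    exact h
  ext x
  exact congrArg (fun φ => φ x) hFG

/-- the ring hom `SymZ → B` sending the generator to `b` -/
noncomputable def symZLift {B : Type u} [CommRing B] (b : B) : SymZ.{u} →+* B :=
  letI := algULift B
  (SymmetricAlgebra.lift (LinearMap.toSpanSingleton (ULift.{u} ℤ) B b)).toRingHom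

theorem symZLift_gen {B : Type u} [CommRing B] (b : B) : symZLift b gen = b := by
  letI := algULift B
  show (SymmetricAlgebra.lift (LinearMap.toSpanSingleton (ULift.{u} ℤ) B b)) gen = b
  rw [SymmetricAlgebra.lift_ι_apply, LinearMap.toSpanSingleton_apply]
  show (ULift.up (1 : ℤ) : ULift.{u} ℤ) • b = b
  rw [ULift.smul_def, one_smul]

section
variable {S : Scheme.{u}}

instance : IsAffine (Red.GaZ.{u}).left :=
  inferInstanceAs (IsAffine (Spec (CommRingCat.of SymZ.{u})))

theorem gaFn_comp {X Y : Over S} (p : Y ⟶ X) (x : X ⟶ Red.Ga S) :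
    Red.gaFn (p ≫ x) = p.left.appTop (Red.gaFn x) := by
  unfold Red.gaFn
  rw [Over.comp_left, Category.assoc, Scheme.Hom.comp_appTop]
  rfl

theorem gaFn_injective {X : Over S} :
    Function.Injective (Red.gaFn : (X ⟶ Red.Ga S) → Γ(X.left, ⊤)) := by
  intro x y hxy
  apply Over.OverMorphism.ext
  apply pullback.hom_ext
  · apply ext_of_isAffine
    refine (cancel_epi (Scheme.ΓSpecIso (CommRingCat.of SymZ.{u})).inv).1 ?_
    apply CommRingCat.hom_ext
    apply symZ_hom_ext
    exact hxy
  · have h1 : x.left ≫ (Red.Ga S).hom = X.hom := Over.w x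
    have h2 : y.left ≫ (Red.Ga S).hom = X.hom := Over.w y
    exact h1.trans h2.symm

/-- the morphism to `Spec ℤ[T]` with prescribed coordinate -/
noncomputable def ptZ {X : Scheme.{u}} (b : Γ(X, ⊤)) : X ⟶ (Red.GaZ.{u}).left :=
  show X ⟶ Spec (CommRingCat.of SymZ.{u}) from
    X.toSpecΓ ≫ Spec.map (CommRingCat.ofHom (symZLift b))

theorem ptZ_appTop {X : Scheme.{u}} (b : Γ(X, ⊤)) : (ptZ b).appTop Red.gaCoord = b := by
  show (X.toSpecΓ ≫ Spec.map (CommRingCat.ofHom (symZLift b))).appTop Red.gaCoord = b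
  rw [Scheme.Hom.comp_appTop]
  have h1 := Scheme.ΓSpecIso_inv_naturality (CommRingCat.ofHom (symZLift b))
  have h2 : (Spec.map (CommRingCat.ofHom (symZLift b))).appTop Red.gaCoord =
      (Scheme.ΓSpecIso _).inv (symZLift b gen) := by
    have := congrArg (fun φ => φ.hom gen) h1
    exact this.symm
  rw [CommRingCat.comp_apply, h2, symZLift_gen, Scheme.toSpecΓ_appTop]
  exact Iso.inv_hom_id_apply (C := CommRingCat) _ _

/-- the point of `𝔾_a` with prescribed coordinate -/
noncomputable def pt {X : Over S} (b : Γ(X.left, ⊤)) : X ⟶ Red.Ga S :=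
  Over.homMk (pullback.lift (ptZ b) X.hom (specULiftZIsTerminal.hom_ext _ _))
    (pullback.lift_snd _ _ _)

theorem gaFn_pt {X : Over S} (b : Γ(X.left, ⊤)) : Red.gaFn (pt b) = b := by
  have h : (pt b).left ≫ pullback.fst _ _ = ptZ b := pullback.lift_fst _ _ _
  unfold Red.gaFn
  rw [h, ptZ_appTop]

theorem pt_gaFn {X : Over S} (x : X ⟶ Red.Ga S) : pt (Red.gaFn x) = x :=
  gaFn_injective (gaFn_pt _)

theorem comp_pt {X Y : Over S} (p : Y ⟶ X) (b : Γ(X.left, ⊤)) :
    p ≫ pt b = pt (p.left.appTop b) := by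
  apply gaFn_injective
  rw [gaFn_comp, gaFn_pt, gaFn_pt]

end

end Groth.Agent.Helper5.GaPts
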