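import Mathlib
import Groth.Agent.Helper5.SmNorm5
import Groth.Prelude

set_option autoImplicit false
set_option linter.unusedSectionVars false
set_option linter.style.haveILetI false
universe u

open AlgebraicGeometry CategoryTheory TopologicalSpace

namespace Groth.Agent.Helper5.SmNorm

/-- transfer normality along a ring isomorphism -/
theorem normal_of_ringEquiv {R S : Type u} [CommRing R] [CommRing S] (e : R ≃+* S)
    (h : IsDomain R ∧ IsIntegrallyClosed R) : IsDomain S ∧ IsIntegrallyClosed S := by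
  obtain ⟨h1, h2⟩ := h
  haveI := h1
  haveI := h2
  exact ⟨e.symm.toMulEquiv.isDomain _, IsIntegrallyClosed.of_equiv e⟩

/-- smooth morphisms preserve normality of stalks -/
theorem stalk_normal_of_smooth {X Y : Scheme.{u}} (f : X ⟶ Y) [Smooth f] (x : X)
    (h : IsDomain (Y.presheaf.stalk (f x)) ∧ IsIntegrallyClosed (Y.presheaf.stalk (f x))) :
    IsDomain (X.presheaf.stalk x) ∧ IsIntegrallyClosed (X.presheaf.stalk x) := by
  obtain ⟨_, ⟨U, hU, rfl⟩, hxU, -⟩ :=
    Y.isBasis_affineOpens.exists_subset_of_mem_open (Set.mem_univ (f x)) isOpen_univ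
  obtain ⟨_, ⟨V, hV, rfl⟩, hxV, hVU⟩ :=
    X.isBasis_affineOpens.exists_subset_of_mem_open hxU (U.2.preimage f.continuous)
  have hsm : (f.appLE U V hVU).hom.Smooth :=
    HasRingHomProperty.appLE (P := @Smooth) f inferInstance ⟨U, hU⟩ ⟨V, hV⟩ hVU
  algebraize [(f.appLE U V hVU).hom]
  letI := Y.presheaf.algebra_section_stalk ⟨f x, hVU hxV⟩
  haveI := hU.isLocalization_stalk ⟨f x, hVU hxV⟩
  letI := X.presheaf.algebra_section_stalk ⟨x, hxV⟩
  haveI := hV.isLocalization_stalk ⟨x, hxV⟩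
  have hpq : (hV.primeIdealOf ⟨x, hxV⟩).asIdeal.comap (algebraMap Γ(Y, U) Γ(X, V)) =
      (hU.primeIdealOf ⟨f x, hVU hxV⟩).asIdeal :=
    congr($(IsAffineOpen.comap_primeIdealOf_appLE U hU V hV hVU hxV).1)
  let e1 := (IsLocalization.algEquiv (hU.primeIdealOf ⟨f x, hVU hxV⟩).asIdeal.primeCompl
      (Y.presheaf.stalk (f x))
      (Localization.AtPrime (hU.primeIdealOf ⟨f x, hVU hxV⟩).asIdeal))
  let e2 := (IsLocalization.algEquiv (hV.primeIdealOf ⟨x, hxV⟩).asIdeal.primeCompl
      (X.presheaf.stalk x)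
      (Localization.AtPrime (hV.primeIdealOf ⟨x, hxV⟩).asIdeal))
  have h1 := normal_of_ringEquiv e1.toRingEquiv h
  refine normal_of_ringEquiv e2.symm.toRingEquiv ?_
  refine normal_atPrime_of_smooth Γ(Y, U) Γ(X, V) (hV.primeIdealOf ⟨x, hxV⟩).asIdeal ?_
  have key : ∀ (P : Ideal Γ(Y, U)) [P.IsPrime] (hP : P = (hU.primeIdealOf ⟨f x, hVU hxV⟩).asIdeal),
      IsDomain (Localization.AtPrime P) ∧ IsIntegrallyClosed (Localization.AtPrime P) := by
    intro P _ hP
    subst hP
    exact h1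
  exact key _ hpq

end Groth.Agent.Helper5.SmNorm

namespace Groth.Agent.Helper5.SmNorm

/-- flat morphisms descend normality of stalks -/
theorem stalk_normal_descent {X Y : Scheme.{u}} (f : X ⟶ Y) [Flat f] (x : X)
    (h : IsDomain (X.presheaf.stalk x) ∧ IsIntegrallyClosed (X.presheaf.stalk x)) :
    IsDomain (Y.presheaf.stalk (f x)) ∧ IsIntegrallyClosed (Y.presheaf.stalk (f x)) := by
  obtain ⟨h1, h2⟩ := h
  algebraize [(f.stalkMap x).hom]
  haveI : Module.FaithfullyFlat (Y.presheaf.stalk (f x)) (X.presheaf.stalk x) :=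
    @Module.FaithfullyFlat.of_flat_of_isLocalHom _ _ _ _ _ _ _
      (Flat.stalkMap f x) (f.toLRSHom.prop x)
  exact normal_descent (Y.presheaf.stalk (f x)) (X.presheaf.stalk x)

theorem s0066 {X Y : Scheme.{u}} (f : X ⟶ Y) [AlgebraicGeometry.Etale f] (x : X) :
    (IsDomain (X.presheaf.stalk x) ∧ IsIntegrallyClosed (X.presheaf.stalk x)) ↔
      (IsDomain (Y.presheaf.stalk (f.base x)) ∧ IsIntegrallyClosed (Y.presheaf.stalk (f.base x))) :=
  ⟨stalk_normal_descent f x, stalk_normal_of_smooth f x⟩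

end Groth.Agent.Helper5.SmNorm
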