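import Mathlib
import Groth.Prelude.Def_CAlg
import Groth.Agent.Helper5.RSD1
import Groth.Agent.Helper2.DepthLoc

set_option autoImplicit false
universe u

namespace Groth.Agent.Helper5.SkOne

open IsLocalRing Groth.Agent.Helper2

variable {A : Type u} [CommRing A] [IsNoetherianRing A]
  (N : Type u) [AddCommGroup N] [Module A N] [Module.Finite A N]

/-- `q` is a minimal point of the support of `N` -/
def IsMinSupp (q : PrimeSpectrum A) : Prop :=
  ∀ q' ∈ Module.support A N, q' ≤ q → q ≤ q'

theorem mem_support_of_mem_ass (q : PrimeSpectrum A) (hq : q.asIdeal ∈ associatedPrimes A N) :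
    q ∈ Module.support A N := by
  rw [Module.mem_support_iff_of_finite, ← Submodule.annihilator_top]
  exact IsAssociatedPrime.annihilator_le hq

theorem depth_eq_zero_of_mem_ass (q : Ideal A) [hq : q.IsPrime]
    (hass : q ∈ associatedPrimes A N) :
    LocCoh.depth (Localization.AtPrime q) (LocalizedModule q.primeCompl N) = 0 := by
  have hassloc := Module.associatedPrimes.mem_associatedPrimes_atPrime_of_mem_associatedPrimes hass
  haveI : Nontrivial (LocalizedModule q.primeCompl N) := by
    by_contra hcon
    rw [not_nontrivial_iff_subsingleton] at hcon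
    exact not_isAssociatedPrime_of_subsingleton hassloc
  rw [Depth.depth_eq_zero_iff]
  intro b hb
  exact Depth.not_regular_of_mem_ass _ _ _ hassloc b hb

theorem mem_ass_of_depth_eq_zero (q : Ideal A) [hq : q.IsPrime]
    [Nontrivial (LocalizedModule q.primeCompl N)]
    (h0 : LocCoh.depth (Localization.AtPrime q) (LocalizedModule q.primeCompl N) = 0) :
    q ∈ associatedPrimes A N := by
  have hass : maximalIdeal (Localization.AtPrime q) ∈ associatedPrimes (Localization.AtPrime q)
      (LocalizedModule q.primeCompl N) := by
    apply Ass.maximalIdeal_mem_ass_of_forall_not_regular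
    exact (Depth.depth_eq_zero_iff _ _).mp h0
  have := Module.associatedPrimes.comap_mem_associatedPrimes_of_mem_associatedPrimes_of_isLocalizedModule_of_fg
    q.primeCompl (LocalizedModule.mkLinearMap q.primeCompl N)
    (maximalIdeal (Localization.AtPrime q)) hass
    ((isNoetherianRing_iff_ideal_fg A).mp inferInstance _)
  have e : (maximalIdeal (Localization.AtPrime q)).comap (algebraMap A (Localization.AtPrime q))
      = q := IsLocalization.AtPrime.under_maximalIdeal (Localization.AtPrime q) q
  rwa [e] at this

theorem hasSk_one_iff :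
    LocCoh.HasSk 1 A N ↔
      ∀ q : PrimeSpectrum A, q.asIdeal ∈ associatedPrimes A N → IsMinSupp N q := by
  constructor
  · intro h q hq
    have hqs := mem_support_of_mem_ass N q hq
    have h1 := h q.asIdeal
    rw [depth_eq_zero_of_mem_ass N q.asIdeal hq,
      Groth.Agent.Helper5.RSD.supportDim_localized_eq_height N q.asIdeal hqs] at h1
    have h2 : Order.height (⟨⟨q.asIdeal, q.isPrime⟩, hqs⟩ : Module.support A N) = 0 := by
      have h3 : min (1 : ℕ∞) (Order.height (⟨⟨q.asIdeal, q.isPrime⟩, hqs⟩ : Module.support A N))
          ≤ 0 := by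
        have : ((min (1 : ℕ∞) (Order.height (⟨⟨q.asIdeal, q.isPrime⟩, hqs⟩ :
            Module.support A N)) : ℕ∞) : WithBot ℕ∞) ≤ ((0 : ℕ∞) : WithBot ℕ∞) := by
          rw [WithBot.coe_min]
          exact h1
        exact WithBot.coe_le_coe.1 this
      rcases min_le_iff.1 h3 with h4 | h4
      · exact absurd h4 (by simp)
      · exact le_antisymm h4 (by simp)
    rw [Order.height_eq_zero] at h2
    intro q' hq' hle
    exact @h2 ⟨q', hq'⟩ hle
  · intro h q hq
    by_cases hqs : (⟨q, hq⟩ : PrimeSpectrum A) ∈ Module.support A N
    · haveI : Nontrivial (LocalizedModule q.primeCompl N) := Module.mem_support_iff.1 hqs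
      by_cases hass : q ∈ associatedPrimes A N
      · have hmin := h ⟨q, hq⟩ hass
        have h2 : Order.height (⟨⟨q, hq⟩, hqs⟩ : Module.support A N) = 0 := by
          rw [Order.height_eq_zero]
          intro b hb
          exact hmin b.1 b.2 hb
        rw [Groth.Agent.Helper5.RSD.supportDim_localized_eq_height N q hqs, h2]
        refine le_trans (min_le_right _ _) ?_
        exact WithBot.coe_le_coe.2 (by simp)
      · have h1 : (1 : ℕ∞) ≤ LocCoh.depth (Localization.AtPrime q)
            (LocalizedModule q.primeCompl N) := by
          by_contra hcon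
          rw [not_le, ENat.lt_one_iff_eq_zero] at hcon
          exact hass (mem_ass_of_depth_eq_zero N q hcon)
        refine le_trans (min_le_left _ _) ?_
        exact WithBot.coe_le_coe.2 h1
    · rw [Module.mem_support_iff, not_nontrivial_iff_subsingleton] at hqs
      rw [DepthLoc.depth_eq_top_of_subsingleton]
      exact le_top

end Groth.Agent.Helper5.SkOne
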