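import Mathlib
import Groth.Agent.Helper6.CINormal

set_option autoImplicit false
set_option linter.style.haveILetI false
universe u
open IsLocalRing RingTheory.Sequence Module

namespace Groth.Agent.Helper5.RegLoc

open Groth.Agent.Helper2.DepthCM2

/-- in a Cohen–Macaulay local ring a sequence in the maximal ideal is regular iff it cuts the
dimension down by its length -/
theorem isRegular_iff_dim (A : Type u) [CommRing A] [IsNoetherianRing A] [IsLocalRing A]
    (hCM : LocCoh.IsCohenMacaulayLocalRing A) (xs : List A)
    (mem : ∀ x ∈ xs, x ∈ maximalIdeal A) :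
    IsRegular A xs ↔
      ringKrullDim (A ⧸ Ideal.ofList xs) + (xs.length : WithBot ℕ∞) ≤ ringKrullDim A := by
  constructor
  · intro h
    exact le_of_eq (ringKrullDim_add_length_eq_ringKrullDim_of_isRegular xs h)
  · intro h
    have hI : (Ideal.ofList xs • (⊤ : Submodule A A)) = Ideal.ofList xs := by
      rw [smul_eq_mul, Ideal.mul_top]
    have hq : supportDim A (A ⧸ Ideal.ofList xs • (⊤ : Submodule A A)) =
        ringKrullDim (A ⧸ Ideal.ofList xs) := by
      rw [supportDim_eq_of_equiv (Submodule.quotEquivOfEq _ _ hI)]
      exact supportDim_quotient_eq_ringKrullDim (Ideal.ofList xs)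
    have h1 : supportDim A (A ⧸ Ideal.ofList xs • (⊤ : Submodule A A)) + xs.length =
        supportDim A A := by
      apply le_antisymm
      · rw [hq, supportDim_self_eq_ringKrullDim]
        exact h
      · exact supportDim_le_quot_ofList_add xs A mem
    have h2 := weaklyRegular_of_dim_drop xs A hCM.supportDim_eq_depth mem h1
    exact IsRegular.of_isWeaklyRegular_of_mem_maximalIdeal (L := A) mem h2

end Groth.Agent.Helper5.RegLoc
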