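import Mathlib
import Groth.Prelude
import Groth.Agent.Lead.SchDescent2

set_option autoImplicit false
set_option linter.unusedSectionVars false
set_option linter.style.haveILetI false
universe u

open AlgebraicGeometry CategoryTheory CategoryTheory.Limits MorphismProperty

namespace Groth.Agent.Helper5.GammaBC

open Groth.Agent.Lead.SchDescent2

variable {X Y' S₀ T : Scheme.{u}} {f : T ⟶ S₀} {g' : Y' ⟶ X} {iX : X ⟶ S₀} {iY : Y' ⟶ T}

set_option backward.isDefEq.respectTransparency.types false in
/-- flat base change for global sections -/
theorem isPushout_appTop (H : IsPullback g' iY iX f) [IsAffine S₀] [IsAffine T]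
    [Flat f] [CompactSpace X] [QuasiSeparatedSpace X] :
    IsPushout iX.appTop f.appTop g'.appTop iY.appTop := by
  have hiso : IsIso (pushoutSection H (US := ⊤) (UT := ⊤) (UX := ⊤) (UY := ⊤)
      (by simp) (by simp) (by simp)) := by
    apply isIso_pushoutSection_of_isQuasiSeparated_of_flat_right
    · exact isAffineOpen_top S₀
    · exact isAffineOpen_top T
    · exact isCompact_univ
    · exact isQuasiSeparated_univ
  have hpo := (isIso_pushoutSection_iff H _ _ _).mp hiso
  simp only [appLE_top_top] at hpo
  exact hpo

/-- the induced cartesian square of spectra of global sections -/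
theorem isPullback_spec_appTop (H : IsPullback g' iY iX f) [IsAffine S₀] [IsAffine T]
    [Flat f] [CompactSpace X] [QuasiSeparatedSpace X] :
    IsPullback (Spec.map iY.appTop) (Spec.map g'.appTop) (Spec.map f.appTop)
      (Spec.map iX.appTop) := by
  have := (isPushout_appTop H).op.map Scheme.Spec
  exact this

theorem bijective_appTop_of_bijective (H : IsPullback g' iY iX f) [IsAffine S₀] [IsAffine T]
    [Flat f] [CompactSpace X] [QuasiSeparatedSpace X]
    (h : Function.Bijective iX.appTop.hom) : Function.Bijective iY.appTop.hom := by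
  have t := isPullback_spec_appTop H
  have h0 : IsIso (Spec.map iX.appTop) := isIso_SpecMap_iff.mpr h
  have h1 : IsIso (Spec.map iY.appTop) :=
    MorphismProperty.of_isPullback (P := isomorphisms Scheme.{u}) t.flip h0
  exact isIso_SpecMap_iff.mp h1

set_option backward.isDefEq.respectTransparency.types false in
theorem bijective_appTop_of_bijective_of_surjective (H : IsPullback g' iY iX f) [IsAffine S₀]
    [IsAffine T] [Flat f] [Surjective f] [CompactSpace X] [QuasiSeparatedSpace X]
    (h : Function.Bijective iY.appTop.hom) : Function.Bijective iX.appTop.hom := by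
  have t := isPullback_spec_appTop H
  have h0 : IsIso (Spec.map iY.appTop) := isIso_SpecMap_iff.mpr h
  have hQf : (@Surjective ⊓ @Flat ⊓ @QuasiCompact : MorphismProperty Scheme.{u})
      (Spec.map f.appTop) := by
    have e : CategoryTheory.Arrow.mk f ≅ CategoryTheory.Arrow.mk (Spec.map f.appTop) :=
      CategoryTheory.Arrow.isoMk T.isoSpec S₀.isoSpec
        (by simp [Scheme.isoSpec, Scheme.toSpecΓ_naturality])
    rw [← (@Surjective ⊓ @Flat ⊓ @QuasiCompact : MorphismProperty Scheme.{u}).arrow_mk_iso_iff e]
    exact ⟨⟨inferInstance, inferInstance⟩, inferInstance⟩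
  have h1 : (isomorphisms Scheme.{u}) (Spec.map iX.appTop) :=
    of_isPullback_of_descendsAlong (P := isomorphisms Scheme.{u})
      (Q := (@Surjective ⊓ @Flat ⊓ @QuasiCompact : MorphismProperty Scheme.{u})) t hQf h0
  exact isIso_SpecMap_iff.mp h1

theorem bijective_appTop_iff (H : IsPullback g' iY iX f) [IsAffine S₀]
    [IsAffine T] [Flat f] [Surjective f] [CompactSpace X] [QuasiSeparatedSpace X] :
    Function.Bijective iX.appTop.hom ↔ Function.Bijective iY.appTop.hom :=
  ⟨bijective_appTop_of_bijective H, bijective_appTop_of_bijective_of_surjective H⟩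

end Groth.Agent.Helper5.GammaBC
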