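import Mathlib
import Groth.Prelude
import Groth.Agent.Helper5.GammaBC

set_option autoImplicit false
set_option linter.unusedSectionVars false
set_option linter.style.haveILetI false
universe u

open AlgebraicGeometry CategoryTheory CategoryTheory.Limits MorphismProperty

namespace Groth.Agent.Helper5.GammaBC

/-- a field extension gives a flat surjective map of spectra -/
theorem flat_spec_field (k K : Type u) [Field k] [Field K] [Algebra k K] :
    Flat (Spec.map (CommRingCat.ofHom (algebraMap k K))) := by
  rw [HasRingHomProperty.Spec_iff (P := @Flat)]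
  exact RingHom.flat_algebraMap_iff.mpr inferInstance

theorem surjective_spec_field (k K : Type u) [Field k] [Field K] [Algebra k K] :
    Surjective (Spec.map (CommRingCat.ofHom (algebraMap k K))) := by
  refine ⟨fun x => ?_⟩
  obtain ⟨y⟩ : Nonempty (PrimeSpectrum K) := inferInstance
  exact ⟨y, Subsingleton.elim (α := PrimeSpectrum k) _ _⟩

theorem bijective_comp_iso_iff {A B C : CommRingCat.{u}} (e : A ≅ B) (φ : B ⟶ C) :
    Function.Bijective (e.hom ≫ φ).hom ↔ Function.Bijective φ.hom := by
  have h1 : Function.Bijective e.hom.hom :=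
    (ConcreteCategory.isIso_iff_bijective e.hom).mp inferInstance
  have h2 : ((e.hom ≫ φ).hom : A → C) = (φ.hom : B → C) ∘ (e.hom.hom : A → B) := by
    ext x; simp
  rw [h2]
  exact Function.Bijective.of_comp_iff _ h1

theorem s19702 (k : Type u) [Field k] (K : Type u) [Field K] [Algebra k K]
    (G : Over (Spec (CommRingCat.of k))) [LocallyOfFiniteType G.hom] [QuasiCompact G.hom] :
    Function.Bijective ((Scheme.ΓSpecIso (CommRingCat.of k)).inv ≫ G.hom.appTop).hom ↔
      Function.Bijective ((Scheme.ΓSpecIso (CommRingCat.of K)).inv ≫
        (Red.bc (Spec.map (CommRingCat.ofHom (algebraMap k K))) G).hom.appTop).hom := by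
  haveI := flat_spec_field k K
  haveI := surjective_spec_field k K
  haveI : CompactSpace G.left := (quasiCompact_iff_compactSpace G.hom).mp inferInstance
  haveI : IsLocallyNoetherian G.left := LocallyOfFiniteType.isLocallyNoetherian G.hom
  have H := IsPullback.of_hasPullback G.hom (Spec.map (CommRingCat.ofHom (algebraMap k K)))
  have h := bijective_appTop_iff H
  rw [show (Scheme.ΓSpecIso (CommRingCat.of k)).inv = (Scheme.ΓSpecIso (CommRingCat.of k)).symm.hom
    from rfl, show (Scheme.ΓSpecIso (CommRingCat.of K)).inv =
      (Scheme.ΓSpecIso (CommRingCat.of K)).symm.hom from rfl,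
    bijective_comp_iso_iff, bijective_comp_iso_iff]
  exact h

end Groth.Agent.Helper5.GammaBC
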