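import Mathlib
import Groth.Prelude
import Groth.Agent.Helper5.AntiAffBC

set_option autoImplicit false
set_option linter.unusedSectionVars false
set_option linter.style.haveILetI false
universe u

open AlgebraicGeometry CategoryTheory CategoryTheory.Limits MorphismProperty

namespace Groth.Agent.Helper5.Rigid

open Groth.Agent.Helper5.GammaBC

/-- a proper geometrically integral scheme over a field has only constant global functions -/
theorem bijective_appTop_of_proper_geomIntegral (k : Type u) [Field k] {X : Scheme.{u}}
    (p : X ⟶ Spec (CommRingCat.of k)) [IsProper p] [GeometricallyIntegral p] :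
    Function.Bijective p.appTop.hom := by
  let K := AlgebraicClosure k
  let f := Spec.map (CommRingCat.ofHom (algebraMap k K))
  haveI : Flat f := flat_spec_field k K
  haveI : Surjective f := surjective_spec_field k K
  haveI : CompactSpace X := (quasiCompact_iff_compactSpace p).mp inferInstance
  haveI : QuasiSeparatedSpace X := quasiSeparatedSpace_of_quasiSeparated p
  have H := IsPullback.of_hasPullback p f
  rw [bijective_appTop_iff H]
  haveI : IsIntegral (pullback p f) :=
    GeometricallyIntegral.geometrically_isIntegral (f := p) f _ _ H
  have hint : (pullback.snd p f).appTop.hom.IsIntegral :=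
    isIntegral_appTop_of_universallyClosed _
  rw [← bijective_comp_iso_iff (Scheme.ΓSpecIso (CommRingCat.of K)).symm]
  apply IsAlgClosed.ringHom_bijective_of_isIntegral (k := K)
  rw [CommRingCat.hom_comp]
  refine RingHom.IsIntegral.trans _ _ ?_ hint
  exact RingHom.isIntegral_of_surjective _
    ((ConcreteCategory.isIso_iff_bijective _).mp inferInstance).2

end Groth.Agent.Helper5.Rigid
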