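import Mathlib
import Groth.Prelude
import Groth.Agent.Helper5.Rigid1
import Groth.Agent.Helper5.ProdDom
import Groth.Agent.Helper5.ArtUO

set_option autoImplicit false
set_option linter.unusedSectionVars false
set_option linter.style.haveILetI false
universe u

open AlgebraicGeometry CategoryTheory CategoryTheory.Limits MorphismProperty
open MonoidalCategory CartesianMonoidalCategory

namespace Groth.Agent.Helper5.Rigid

open Groth.Agent.Helper5.GammaBC Groth.Agent.Helper5.GrpDense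

variable {k : Type u} [Field k] {V W U : Over (Spec (CommRingCat.of k))}

theorem contract (f : V ⊗ W ⟶ U) (w₀ : 𝟙_ (Over (Spec (CommRingCat.of k))) ⟶ W)
    (u₀ : 𝟙_ (Over (Spec (CommRingCat.of k))) ⟶ U)
    (hV : lift (𝟙 V) (toUnit V ≫ w₀) ≫ f = toUnit V ≫ u₀) :
    (V ◁ w₀) ≫ f = toUnit _ ≫ u₀ := by
  have h1 : lift (𝟙 V) (toUnit V ≫ w₀) = lift (𝟙 V) (toUnit V) ≫ (V ◁ w₀) := by
    apply CartesianMonoidalCategory.hom_ext <;> simp
  have h2 : fst V (𝟙_ (Over (Spec (CommRingCat.of k)))) ≫ lift (𝟙 V) (toUnit V) = 𝟙 _ := by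
    apply CartesianMonoidalCategory.hom_ext
    · simp
    · exact toUnit_unique _ _
  calc (V ◁ w₀) ≫ f = (fst V _ ≫ lift (𝟙 V) (toUnit V)) ≫ (V ◁ w₀) ≫ f := by
        rw [h2, Category.id_comp]
    _ = fst V _ ≫ (lift (𝟙 V) (toUnit V ≫ w₀) ≫ f) := by
        rw [h1]; simp only [Category.assoc]
    _ = toUnit _ ≫ u₀ := by
        rw [hV, ← Category.assoc, toUnit_unique (fst V _ ≫ toUnit V) (toUnit _)]

theorem pt_unique (a b : (𝟙_ (Over (Spec (CommRingCat.of k)))).left) : a = b :=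
  Subsingleton.elim (α := PrimeSpectrum k) a b

/-- the fibre over `w₀` maps to `u₀` -/
theorem apply_of_snd_eq (f : V ⊗ W ⟶ U) (w₀ : 𝟙_ (Over (Spec (CommRingCat.of k))) ⟶ W)
    (u₀ : 𝟙_ (Over (Spec (CommRingCat.of k))) ⟶ U)
    (hV : lift (𝟙 V) (toUnit V ≫ w₀) ≫ f = toUnit V ≫ u₀)
    (pt : (𝟙_ (Over (Spec (CommRingCat.of k)))).left) (z : (V ⊗ W).left)
    (hz : (snd V W).left z = w₀.left pt) : f.left z = u₀.left pt := by
  have hr := range_whiskerLeft V w₀
  have hz' : z ∈ Set.range (V ◁ w₀).left := by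
    rw [hr]; exact ⟨pt, hz.symm⟩
  obtain ⟨z', rfl⟩ := hz'
  have h := contract f w₀ u₀ hV
  rw [← Scheme.Hom.comp_apply, ← Over.comp_left, h, Over.comp_left, Scheme.Hom.comp_apply]
  congr 1
  exact pt_unique _ _

/-- if `p ≫ q = 𝟙` and `p.appTop` … : a section of a map inducing a bijection on global functions -/
theorem appTop_comp_eq_id {P Q : Scheme.{u}} (π : P ⟶ Q) (σ : Q ⟶ P) (h : σ ≫ π = 𝟙 Q)
    (hb : Function.Bijective π.appTop.hom) : σ.appTop ≫ π.appTop = 𝟙 _ := by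
  haveI : IsIso π.appTop := (ConcreteCategory.isIso_iff_bijective π.appTop).mpr hb
  have h1 : π.appTop ≫ σ.appTop = 𝟙 _ := by
    rw [← Scheme.Hom.comp_appTop, h]; rfl
  have h2 : σ.appTop = inv π.appTop := by
    rw [← cancel_epi π.appTop, h1, IsIso.hom_inv_id]
  rw [h2, IsIso.inv_hom_id]

end Groth.Agent.Helper5.Rigid
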