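import Mathlib
import Groth.Agent.Helper5.EtOI

set_option autoImplicit false
universe u
open CategoryTheory CategoryTheory.Limits AlgebraicGeometry

namespace Groth.Agent.Helper5.EtOI

/-- An étale separated morphism which is injective on maximal points with trivial residue field
extensions there is an open immersion. -/
theorem isOpenImmersion_of_etale {X Y : Scheme.{u}} (f : X ⟶ Y) [Etale f] [IsSeparated f]
    (h1 : ∀ ξ ξ' : X, closure ({ξ} : Set X) ∈ irreducibleComponents (X : Type u) →
      closure ({ξ'} : Set X) ∈ irreducibleComponents (X : Type u) → f.base ξ = f.base ξ' → ξ = ξ')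
    (h2 : ∀ ξ : X, closure ({ξ} : Set X) ∈ irreducibleComponents (X : Type u) →
      IsIso (f.residueFieldMap ξ)) :
    IsOpenImmersion f := by
  have hsurj : Function.Surjective (pullback.diagonal f).base := by
    intro z
    obtain ⟨ζ, hζz, hζ⟩ := exists_maximal_generization (pullback f f) z
    have hg1 : GeneralizingMap (pullback.fst f f).base := Flat.generalizingMap _
    have hg2 : GeneralizingMap (pullback.snd f f).base := Flat.generalizingMap _
    have hm1 := closure_mem_irreducibleComponents_map _ hg1 ζ hζ
    have hm2 := closure_mem_irreducibleComponents_map _ hg2 ζ hζ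
    have hcond : f.base ((pullback.fst f f).base ζ) = f.base ((pullback.snd f f).base ζ) := by
      have := congrArg (fun g : pullback f f ⟶ Y => g.base ζ) (pullback.condition (f := f) (g := f))
      simpa using this
    have heq := h1 _ _ hm1 hm2 hcond
    have hfst : (pullback.fst f f).base ((pullback.diagonal f).base ((pullback.fst f f).base ζ)) =
        (pullback.fst f f).base ζ := by
      rw [← Scheme.Hom.comp_apply, pullback.diagonal_fst]; rfl
    have hsnd : (pullback.snd f f).base ((pullback.diagonal f).base ((pullback.fst f f).base ζ)) =
        (pullback.snd f f).base ζ := by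
      rw [← Scheme.Hom.comp_apply, pullback.diagonal_snd, ← heq]; rfl
    have hζeq : (pullback.diagonal f).base ((pullback.fst f f).base ζ) = ζ :=
      eq_of_fst_eq_of_snd_eq f _ _ hfst hsnd (h2 _ hm1)
    have hclosed : IsClosed (Set.range (pullback.diagonal f).base) :=
      (pullback.diagonal f).isClosedEmbedding.isClosed_range
    exact hζz.mem_closed hclosed ⟨_, hζeq⟩
  have hepi : Epi (pullback.diagonal f).base := (TopCat.epi_iff_surjective _).2 hsurj
  have hiso : IsIso (pullback.diagonal f) := IsOpenImmersion.isIso _
  have hmono : Mono f := (pullback.isIso_diagonal_iff f).1 hiso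
  exact IsOpenImmersion.of_flat_of_mono f

end Groth.Agent.Helper5.EtOI
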