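import Mathlib
import Groth.Prelude.Def_Found
import Groth.Agent.Helper5.NormFin
import Groth.Agent.Helper5.NagataRed

set_option autoImplicit false
set_option linter.unusedSectionVars false
set_option linter.style.haveILetI false
universe u

open AlgebraicGeometry CategoryTheory Opposite

namespace Groth.Agent.Helper5.NormFin

/-- S9675: finite type, reduced source, Nagata base: the relative normalization is finite -/
theorem isFinite_of_isNagata {X S : Scheme.{u}} (f : X ⟶ S)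
    [LocallyOfFiniteType f] [QuasiCompact f] [QuasiSeparated f] [IsReduced X]
    (hS : ∀ U : S.affineOpens, CAlg.IsNagata Γ(S, U)) :
    IsFinite f.fromNormalization := by
  apply isFinite_fromNormalization
  intro U hU
  letI := (f.app U).hom.toAlgebra
  have hN := hS ⟨U, hU⟩
  haveI : IsNoetherianRing Γ(S, U) := hN.1
  have hc : IsCompact (f ⁻¹ᵁ U : Set X) := f.isCompact_preimage hU.isCompact
  obtain ⟨s, hsfin, hs⟩ := isCompact_iff_finite_and_eq_biUnion_affineOpens.1 hc
  haveI : Finite s := hsfin.to_subtype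
  have hle : ∀ i : s, i.1.1 ≤ f ⁻¹ᵁ U := by
    intro i
    rw [hs]
    exact le_iSup₂ (f := fun (j : X.affineOpens) (_ : j ∈ s) => (j : X.Opens)) i.1 i.2
  letI alg : ∀ i : s, Algebra Γ(S, U) Γ(X, i.1.1) :=
    fun i => (f.appLE U i.1.1 (hle i)).hom.toAlgebra
  haveI : ∀ i : s, Algebra.FiniteType Γ(S, U) Γ(X, i.1.1) :=
    fun i => f.finiteType_appLE hU i.1.2 (hle i)
  haveI : ∀ i : s, Module.Finite Γ(S, U) (integralClosure Γ(S, U) Γ(X, i.1.1)) :=
    fun i => Groth.Agent.Helper5.NagataRed.main Γ(S, U) hN Γ(X, i.1.1)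
  haveI : IsNoetherian Γ(S, U) (∀ i : s, integralClosure Γ(S, U) Γ(X, i.1.1)) :=
    isNoetherian_of_isNoetherianRing_of_finite _ _
  let ρ : ∀ i : s, Γ(X, f ⁻¹ᵁ U) →ₐ[Γ(S, U)] Γ(X, i.1.1) := fun i =>
    { (X.presheaf.map (homOfLE (hle i)).op).hom with
      commutes' := fun r => rfl }
  let g : ∀ i : s, integralClosure Γ(S, U) Γ(X, f ⁻¹ᵁ U) →ₐ[Γ(S, U)]
      integralClosure Γ(S, U) Γ(X, i.1.1) := fun i =>
    ((ρ i).comp (integralClosure Γ(S, U) Γ(X, f ⁻¹ᵁ U)).val).codRestrict _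
      (fun x => IsIntegral.map (ρ i) x.2)
  let G : integralClosure Γ(S, U) Γ(X, f ⁻¹ᵁ U) →ₗ[Γ(S, U)]
      (∀ i : s, integralClosure Γ(S, U) Γ(X, i.1.1)) :=
    LinearMap.pi (fun i => (g i).toLinearMap)
  refine Module.Finite.of_injective G ?_
  intro x y hxy
  apply Subtype.ext
  refine X.sheaf.eq_of_locally_eq' (fun i : s => i.1.1) (f ⁻¹ᵁ U) (fun i => homOfLE (hle i)) ?_
    _ _ ?_
  · rw [hs]
    exact iSup₂_le (fun j hj => le_iSup (fun i : s => (i.1.1 : X.Opens)) ⟨j, hj⟩)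
  · intro i
    have h1 := congrFun hxy i
    exact congrArg Subtype.val h1

end Groth.Agent.Helper5.NormFin
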