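import Mathlib
import Groth.Prelude.Def_Found
import Groth.Agent.Helper5.NormFin2
import Groth.Agent.Helper5.N2Field

set_option autoImplicit false
set_option linter.unusedSectionVars false
set_option linter.style.haveILetI false
universe u

open AlgebraicGeometry CategoryTheory Opposite

namespace Groth.Agent.Helper5.NormFin

/-- finite type algebras over a field are Nagata -/
theorem isNagata_of_finiteType (k A : Type u) [Field k] [CommRing A] [Algebra k A]
    [Algebra.FiniteType k A] : CAlg.IsNagata A := by
  refine ⟨Algebra.FiniteType.isNoetherianRing k A, ?_⟩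
  intro p hp
  haveI : Algebra.FiniteType k (A ⧸ p) :=
    Algebra.FiniteType.of_surjective (Ideal.Quotient.mkₐ k p) (Ideal.Quotient.mkₐ_surjective k p)
  exact Groth.Agent.Helper5.N2Field.isN2_of_finiteType k (A ⧸ p)

/-- coordinate rings of affine opens of a scheme locally of finite type over a field are Nagata -/
theorem isNagata_of_locallyOfFiniteType (k : Type u) [Field k] (X : Scheme.{u})
    (p : X ⟶ Spec (CommRingCat.of k)) [LocallyOfFiniteType p] (U : X.Opens) (hU : IsAffineOpen U) :
    CAlg.IsNagata Γ(X, U) := by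
  have h1 : (p.appLE ⊤ U le_top).hom.FiniteType :=
    p.finiteType_appLE (isAffineOpen_top _) hU le_top
  have h2 : ((Scheme.ΓSpecIso (CommRingCat.of k)).inv.hom).FiniteType :=
    RingHom.FiniteType.of_surjective _
      (ConcreteCategory.bijective_of_isIso (Scheme.ΓSpecIso (CommRingCat.of k)).inv).2
  have h3 := h1.comp h2
  letI : Algebra k Γ(X, U) :=
    ((p.appLE ⊤ U le_top).hom.comp (Scheme.ΓSpecIso (CommRingCat.of k)).inv.hom).toAlgebra
  haveI : Algebra.FiniteType k Γ(X, U) := h3
  exact isNagata_of_finiteType k Γ(X, U)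

/-- S7616 -/
theorem isFinite_of_field (k : Type u) [Field k] (X : Scheme.{u})
    [X.Over (Spec (CommRingCat.of k))] [LocallyOfFiniteType (X ↘ (Spec (CommRingCat.of k)))]
    (Y : Scheme.{u}) [Y.Over (Spec (CommRingCat.of k))]
    [LocallyOfFiniteType (Y ↘ (Spec (CommRingCat.of k)))] [IsReduced Y]
    (f : Y ⟶ X) [f.IsOver (Spec (CommRingCat.of k))] [QuasiCompact f] [QuasiSeparated f] :
    IsFinite f.fromNormalization := by
  haveI : LocallyOfFiniteType (f ≫ (X ↘ (Spec (CommRingCat.of k)))) := by
    rw [CategoryTheory.comp_over f (Spec (CommRingCat.of k))]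
    infer_instance
  haveI : LocallyOfFiniteType f :=
    locallyOfFiniteType_of_comp f (X ↘ (Spec (CommRingCat.of k)))
  exact isFinite_of_isNagata f
    (fun U => isNagata_of_locallyOfFiniteType k X (X ↘ (Spec (CommRingCat.of k))) U.1 U.2)

end Groth.Agent.Helper5.NormFin
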