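import Groth.Agent.Helper5.VarDim5

set_option autoImplicit false
universe u
open AlgebraicGeometry CategoryTheory TopologicalSpace

namespace Groth.Agent.Helper5.VarDim

theorem resHom_comp (k : Type u) [Field k] {X Y : Scheme.{u}} (f : X ⟶ Y)
    (gY : Y ⟶ Spec (CommRingCat.of k)) (x : X) (c : k) :
    (f.residueFieldMap x).hom (resHom k gY (f x) c) = resHom k (f ≫ gY) x c := by
  have h1 : (Scheme.ΓSpecIso (CommRingCat.of k)).inv ≫ gY.appTop ≫ Y.Γevaluation (f x) ≫
      f.residueFieldMap x = (Scheme.ΓSpecIso (CommRingCat.of k)).inv ≫ (f ≫ gY).appTop ≫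
        X.Γevaluation x := by
    rw [Scheme.Γevaluation_naturality, Scheme.Hom.comp_appTop, Category.assoc]
  exact congrArg (fun φ => φ.hom c) h1

theorem trdeg_tower (k : Type u) [Field k] {X Y : Scheme.{u}} (f : X ⟶ Y)
    (gY : Y ⟶ Spec (CommRingCat.of k)) (x : X) :
    @Algebra.trdeg k (X.residueField x) _ _ (resHom k (f ≫ gY) x).toAlgebra =
      @Algebra.trdeg k (Y.residueField (f x)) _ _ (resHom k gY (f x)).toAlgebra +
        @Algebra.trdeg (Y.residueField (f x)) (X.residueField x) _ _
          (f.residueFieldMap x).hom.toAlgebra := by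
  let K := Y.residueField (f x)
  let L := X.residueField x
  let _ : Algebra k K := (resHom k gY (f x)).toAlgebra
  let _ : Algebra K L := (f.residueFieldMap x).hom.toAlgebra
  let _ : Algebra k L := (resHom k (f ≫ gY) x).toAlgebra
  have st : IsScalarTower k K L := IsScalarTower.of_algebraMap_eq (fun c =>
    (resHom_comp k f gY x c).symm)
  have f1 : FaithfulSMul k K := (faithfulSMul_iff_algebraMap_injective k K).2 (RingHom.injective _)
  have f2 : FaithfulSMul K L := (faithfulSMul_iff_algebraMap_injective K L).2 (RingHom.injective _)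
  exact (trdeg_add_eq k K (A := L)).symm

/-- For a scheme locally of finite type over a field with a generic point, the dimension is the
transcendence degree of the residue field at the generic point. -/
theorem dim_eq_trdeg_generic (k : Type u) [Field k] {X : Scheme.{u}}
    (g : X ⟶ Spec (CommRingCat.of k)) [LocallyOfFiniteType g] (ξ : X)
    (hξ : closure ({ξ} : Set X) = Set.univ) :
    ∃ n : ℕ, topologicalKrullDim X = n ∧
      @Algebra.trdeg k (X.residueField ξ) _ _ (resHom k g ξ).toAlgebra = n := by
  have hirr : IrreducibleSpace X := by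
    have h1 : IsIrreducible (Set.univ : Set X) :=
      isIrreducible_of_mem_of_generic ξ hξ Set.univ trivial
    exact { toPreirreducibleSpace := ⟨h1.isPreirreducible⟩, toNonempty := ⟨ξ⟩ }
  obtain ⟨n, hn1, hn2, -⟩ := localDim_formula k g ξ
  refine ⟨n, ?_, hn1⟩
  rw [← localDim_eq_dim_of_irreducible k g ξ, hn2, ringKrullDim_stalk_eq_coheight]
  have h0 : Order.coheight ξ = 0 := by
    rw [Order.coheight_eq_zero]
    intro y _
    show ξ ⤳ y
    rw [specializes_iff_mem_closure, hξ]
    trivial
  rw [h0]
  simp

end Groth.Agent.Helper5.VarDim
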