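import Mathlib
import Groth.Prelude.Def_FlatCA
import Groth.Agent.Helper4.WeakAss

set_option autoImplicit false
universe u
open TensorProduct

namespace Groth.Agent.Helper5.WAss

open Groth.Agent.Helper4.WeakAss (ann mem_ann minimal_of_le)

variable {A B : Type u} [CommRing A] [CommRing B] [Algebra A B]

/-- flatness: `b ⊗ m = 0` forces `b ∈ ann(m) B`. -/
theorem mem_map_ann_of_tmul_eq_zero [Module.Flat A B] {M : Type u} [AddCommGroup M] [Module A M]
    (m : M) (b : B) (h : b ⊗ₜ[A] m = 0) : b ∈ (ann A m).map (algebraMap A B) := by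
  set I := ann A m with hI
  -- the injective map `A ⧸ I → M`
  let ι : (A ⧸ I) →ₗ[A] M := Submodule.liftQ I (LinearMap.toSpanSingleton A M m) (by
    intro a ha
    rw [LinearMap.mem_ker, LinearMap.toSpanSingleton_apply]
    exact mem_ann.mp ha)
  have hι : Function.Injective ι := by
    rw [← LinearMap.ker_eq_bot, Submodule.ker_liftQ_eq_bot']
    ext a
    rw [LinearMap.mem_ker, LinearMap.toSpanSingleton_apply]
    exact mem_ann
  have hinj : Function.Injective (ι.lTensor B) := Module.Flat.lTensor_preserves_injective_linearMap ι hι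
  have h1 : (b ⊗ₜ[A] (Submodule.Quotient.mk (1 : A) : A ⧸ I)) = 0 := by
    apply hinj
    rw [LinearMap.lTensor_tmul, map_zero]
    show b ⊗ₜ[A] ι (Submodule.Quotient.mk (1 : A)) = 0
    have : ι (Submodule.Quotient.mk (1 : A)) = m := by
      show (LinearMap.toSpanSingleton A M m) 1 = m
      rw [LinearMap.toSpanSingleton_apply, one_smul]
    rw [this, h]
  have h2 := congrArg (TensorProduct.tensorQuotEquivQuotSMul B I) h1
  have h3 : (TensorProduct.tensorQuotEquivQuotSMul B I)
      (b ⊗ₜ[A] (Submodule.Quotient.mk (1 : A) : A ⧸ I)) = Submodule.Quotient.mk ((1 : A) • b) :=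
    TensorProduct.tensorQuotEquivQuotSMul_tmul_mk I b 1
  rw [map_zero, h3, one_smul, Submodule.Quotient.mk_eq_zero, Ideal.smul_top_eq_map] at h2
  exact h2


/-- (⟸) for flat quasi-finite ring maps. -/
theorem mem_weakAss_tensor_of_mem [Module.Flat A B] [Algebra.QuasiFinite A B]
    (M : Type u) [AddCommGroup M] [Module A M] (p : Ideal A) [p.IsPrime] (t : Ideal B) [t.IsPrime]
    [ht : t.LiesOver p] (hp : p ∈ FlatCA.weakAss A M) : t ∈ FlatCA.weakAss B (B ⊗[A] M) := by
  obtain ⟨m, hm⟩ := hp
  refine ⟨(1 : B) ⊗ₜ[A] m, ⟨‹t.IsPrime›, ?_⟩, ?_⟩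
  · intro b hb
    rw [mem_ann, TensorProduct.smul_tmul', smul_eq_mul, mul_one] at hb
    have h1 := mem_map_ann_of_tmul_eq_zero m b hb
    have h2 : (ann A m).map (algebraMap A B) ≤ t := by
      rw [Ideal.map_le_iff_le_comap]
      have := ht.over
      rw [Ideal.under_def] at this
      rw [← this]
      exact hm.1.2
    exact h2 h1
  · intro P ⟨hPprime, hPle⟩ hPt
    have h1 : ann A m ≤ P.comap (algebraMap A B) := by
      intro a ha
      rw [Ideal.mem_comap]
      apply hPle
      rw [mem_ann, algebraMap_smul, TensorProduct.smul_tmul', TensorProduct.smul_tmul,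
        mem_ann.mp ha, TensorProduct.tmul_zero]
    have h2 : P.comap (algebraMap A B) ≤ p := by
      have := ht.over
      rw [Ideal.under_def] at this
      rw [this]
      exact Ideal.comap_mono hPt
    have h3 : p ≤ P.comap (algebraMap A B) := hm.2 ⟨inferInstance, h1⟩ h2
    have h4 : P.under A = t.under A := by
      rw [← ht.over]
      exact le_antisymm h2 h3
    exact (Algebra.QuasiFinite.eq_of_le_of_under_eq P t hPt h4).ge


/-- Step 1: weakly associated primes of a module over an integral quasi-finite extension contract to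
weakly associated primes. -/
theorem comap_mem_weakAss_of_integral [Algebra.IsIntegral A B] [Algebra.QuasiFinite A B]
    (N : Type u) [AddCommGroup N] [Module B N] [Module A N] [IsScalarTower A B N]
    (p : Ideal A) [p.IsPrime] (t : Ideal B) [t.IsPrime] [ht : t.LiesOver p]
    (h : t ∈ FlatCA.weakAss B N) : p ∈ FlatCA.weakAss A N := by
  classical
  obtain ⟨x, hx⟩ := h
  have hfin : (p.primesOver B).Finite := Algebra.QuasiFinite.finite_primesOver p
  let T' : Finset (Ideal B) := hfin.toFinset.erase t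
  have hT' : ∀ t' ∈ T', t'.IsPrime ∧ t'.LiesOver p ∧ t' ≠ t := by
    intro t' ht'
    rw [Finset.mem_erase, Set.Finite.mem_toFinset] at ht'
    exact ⟨ht'.2.1, ht'.2.2, ht'.1⟩
  -- the multiplicative set `S₂` of elements outside all other primes over `p`
  let S₂ : Submonoid B :=
    { carrier := {b | ∀ t' ∈ T', b ∉ t'}
      one_mem' := fun t' ht' h1 => (hT' t' ht').1.ne_top ((Ideal.eq_top_iff_one _).mpr h1)
      mul_mem' := fun {a b} ha hb t' ht' hab =>
        ((hT' t' ht').1.mem_or_mem hab).elim (ha t' ht') (hb t' ht') }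
  -- there are `σ ∈ S₂`, `s ∉ t` with `σ * s ∈ ann x`
  have key : ∃ σ ∈ S₂, ∃ s : B, s ∉ t ∧ σ * s ∈ ann B x := by
    by_contra hcon
    push_neg at hcon
    let Sg : Submonoid B := S₂ ⊔ t.primeCompl
    have hdisj : Disjoint (ann B x : Set B) (Sg : Set B) := by
      rw [Set.disjoint_left]
      intro b hbI hbSg
      obtain ⟨σ, hσ, s, hs, rfl⟩ := Submonoid.mem_sup.mp hbSg
      exact hcon σ hσ s hs hbI
    obtain ⟨P, hPprime, hIP, hPdisj⟩ := Ideal.exists_le_prime_disjoint (ann B x) Sg hdisj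
    have hPt : P ≤ t := by
      intro b hb
      by_contra hbt
      exact Set.disjoint_left.mp hPdisj hb
        ((le_sup_right : t.primeCompl ≤ Sg) hbt)
    have hPeq : t ≤ P := hx.2 ⟨hPprime, hIP⟩ hPt
    -- `t` is contained in the union of the other primes
    have hunion : (t : Set B) ⊆ ⋃ t' ∈ (T' : Set (Ideal B)), (t' : Set B) := by
      intro b hb
      by_contra hbn
      simp only [Set.mem_iUnion, not_exists] at hbn
      have hbS : b ∈ S₂ := fun t' ht' hbt' => hbn t' (Finset.mem_coe.mpr ht') hbt'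
      exact Set.disjoint_left.mp hPdisj (hPeq hb) ((le_sup_left : S₂ ≤ Sg) hbS)
    obtain ⟨t', ht', htt'⟩ := (Ideal.subset_union_prime (f := fun i : Ideal B => i) t t
      (fun i hi _ _ => (hT' i hi).1)).mp hunion
    have h1 : t.under A = t'.under A := by
      rw [← ht.over, ← (hT' t' ht').2.1.over]
    haveI := (hT' t' ht').1
    exact (hT' t' ht').2.2 (Algebra.QuasiFinite.eq_of_le_of_under_eq t t' htt' h1).symm
  obtain ⟨σ, hσ, s, hs, hσs⟩ := key
  refine ⟨s • x, ⟨‹p.IsPrime›, ?_⟩, ?_⟩
  · -- `ann_A (s x) ≤ p`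
    intro a ha
    rw [mem_ann] at ha
    have h1 : algebraMap A B a * s ∈ ann B x := by
      rw [mem_ann, mul_smul, algebraMap_smul]; exact ha
    have h2 := hx.1.2 h1
    have h3 : algebraMap A B a ∈ t := (Ideal.IsPrime.mem_or_mem inferInstance h2).resolve_right hs
    have := ht.over
    rw [Ideal.under_def] at this
    rw [this]; exact h3
  · intro p' ⟨hp'prime, hp'le⟩ hp'p
    -- a prime of `B` over `p'` containing `ann_B (s x)`
    have hcomap : (ann B (s • x)).comap (algebraMap A B) ≤ p' := by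
      intro a ha
      apply hp'le
      rw [Ideal.mem_comap, mem_ann, algebraMap_smul] at ha
      exact mem_ann.mpr ha
    obtain ⟨P, hPI, hPprime, hPp'⟩ := Ideal.exists_ideal_over_prime_of_isIntegral p'
      (ann B (s • x)) hcomap
    -- going up to a prime over `p`
    obtain ⟨Q, hPQ, hQprime, hQp⟩ := Ideal.exists_ideal_over_prime_of_isIntegral_of_isPrime p P
      (by rw [hPp']; exact hp'p)
    have hσP : σ ∈ P := by
      apply hPI
      rw [mem_ann, smul_smul]; exact mem_ann.mp hσs
    have hQt : Q = t := by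
      by_contra hne
      have hQT' : Q ∈ T' := by
        rw [Finset.mem_erase, Set.Finite.mem_toFinset]
        exact ⟨hne, hQprime, ⟨hQp.symm⟩⟩
      exact hσ Q hQT' (hPQ hσP)
    have hIP : ann B x ≤ P := by
      intro b hb
      apply hPI
      rw [mem_ann, smul_comm, mem_ann.mp hb, smul_zero]
    have htP : t ≤ P := hx.2 ⟨hPprime, hIP⟩ (hQt ▸ hPQ)
    have hPt : P = t := le_antisymm (hQt ▸ hPQ) htP
    rw [← hPp', hPt]
    have := ht.over
    rw [Ideal.under_def] at this
    exact this.le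


section step2

theorem ann_linearEquiv {R : Type u} [CommRing R] {M M' : Type u} [AddCommGroup M] [Module R M]
    [AddCommGroup M'] [Module R M'] (e : M ≃ₗ[R] M') (m : M) : ann R (e m) = ann R m := by
  ext r
  rw [mem_ann, mem_ann, ← map_smul, e.map_eq_zero_iff]

theorem mem_weakAss_of_linearEquiv {R : Type u} [CommRing R] {M M' : Type u} [AddCommGroup M]
    [Module R M] [AddCommGroup M'] [Module R M'] (e : M ≃ₗ[R] M') {p : Ideal R}
    (h : p ∈ FlatCA.weakAss R M) : p ∈ FlatCA.weakAss R M' := by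
  obtain ⟨m, hm⟩ := h
  refine ⟨e m, ?_⟩
  have h1 := ann_linearEquiv e m
  unfold ann at h1
  rw [h1]; exact hm

/-- over a local ring, the maximal ideal is weakly associated to a finitely supported family iff it is
weakly associated to the module. -/
theorem maximalIdeal_mem_weakAss_of_finsupp {R : Type u} [CommRing R] [IsLocalRing R]
    {N : Type u} [AddCommGroup N] [Module R N] (ι : Type u)
    (h : IsLocalRing.maximalIdeal R ∈ FlatCA.weakAss R (ι →₀ N)) :
    IsLocalRing.maximalIdeal R ∈ FlatCA.weakAss R N := by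
  obtain ⟨z, hz⟩ := h
  have hz0 : z ≠ 0 := by
    rintro rfl
    apply hz.1.1.ne_top
    rw [eq_top_iff]
    refine le_trans ?_ hz.1.2
    intro r _
    rw [mem_ann, smul_zero]
  obtain ⟨i, hi⟩ := Finsupp.ne_iff.mp hz0
  rw [Finsupp.zero_apply] at hi
  refine ⟨z i, minimal_of_le hz ?_ ?_⟩
  · intro r hr
    rw [mem_ann] at hr ⊢
    rw [← Finsupp.smul_apply, hr, Finsupp.zero_apply]
  · apply IsLocalRing.le_maximalIdeal
    rw [Ne, Helper4.WeakAss.ann_eq_top_iff]
    exact hi


/-- Step 2: for `B` finite flat over `A`, weakly associated primes of `B ⊗ M` as an `A`-module are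
weakly associated to `M`. -/
theorem mem_weakAss_of_mem_weakAss_tensor [Module.Finite A B] [Module.Flat A B]
    (M : Type u) [AddCommGroup M] [Module A M] (p : Ideal A) [hp : p.IsPrime]
    (h : p ∈ FlatCA.weakAss A (B ⊗[A] M)) : p ∈ FlatCA.weakAss A M := by
  classical
  have hdisj : Disjoint (p.primeCompl : Set A) (p : Set A) := by
    rw [Set.disjoint_left]; exact fun a ha hap => ha hap
  rw [Helper4.WeakAss.map_mem_weakAss_iff p.primeCompl p hdisj] at h ⊢
  let Ap := Localization p.primeCompl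
  haveI : IsLocalRing Ap := inferInstanceAs (IsLocalRing (Localization.AtPrime p))
  have hmax : p.map (algebraMap A Ap) = IsLocalRing.maximalIdeal Ap :=
    Localization.AtPrime.map_eq_maximalIdeal
  rw [hmax] at h ⊢
  let F := Ap ⊗[A] B
  haveI : Module.Free Ap F := Module.free_of_flat_of_isLocalRing
  let ι := Module.Free.ChooseBasisIndex Ap F
  let b : Module.Basis ι Ap F := Module.Free.chooseBasis Ap F
  let e0 : LocalizedModule p.primeCompl (B ⊗[A] M) ≃ₗ[Ap] Ap ⊗[A] (B ⊗[A] M) :=
    LocalizedModule.equivTensorProduct p.primeCompl (B ⊗[A] M)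
  let e1 : (Ap ⊗[A] B) ⊗[A] M ≃ₗ[Ap] Ap ⊗[A] (B ⊗[A] M) :=
    TensorProduct.AlgebraTensorModule.assoc A A Ap Ap B M
  let e2 : F ⊗[A] M ≃ₗ[Ap] (ι →₀ Ap) ⊗[A] M :=
    TensorProduct.AlgebraTensorModule.congr b.repr (LinearEquiv.refl A M)
  let e3 : (ι →₀ Ap) ⊗[A] M ≃ₗ[Ap] ι →₀ (Ap ⊗[A] M) := TensorProduct.finsuppLeft A Ap Ap M ι
  let e4 : (ι →₀ (Ap ⊗[A] M)) ≃ₗ[Ap] ι →₀ LocalizedModule p.primeCompl M :=
    Finsupp.mapRange.linearEquiv (LocalizedModule.equivTensorProduct p.primeCompl M).symm
  let e : LocalizedModule p.primeCompl (B ⊗[A] M) ≃ₗ[Ap] ι →₀ LocalizedModule p.primeCompl M :=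
    e0 ≪≫ₗ e1.symm ≪≫ₗ e2 ≪≫ₗ e3 ≪≫ₗ e4
  exact maximalIdeal_mem_weakAss_of_finsupp ι (mem_weakAss_of_linearEquiv e h)

end step2


theorem s1232 [Module.Finite A B] [Module.Flat A B]
    (M : Type u) [AddCommGroup M] [Module A M] (p : Ideal A) [p.IsPrime] (t : Ideal B) [t.IsPrime] [t.LiesOver p] :
    t ∈ FlatCA.weakAss B (B ⊗[A] M) ↔ p ∈ FlatCA.weakAss A M := by
  constructor
  · intro h
    exact mem_weakAss_of_mem_weakAss_tensor M p (comap_mem_weakAss_of_integral (B ⊗[A] M) p t h)
  · intro h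
    exact mem_weakAss_tensor_of_mem M p t h

end Groth.Agent.Helper5.WAss
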