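import Mathlib
import Groth.Prelude.Def_FlatCA
import Groth.Agent.Helper5.WAss1

set_option autoImplicit false
universe u
open TensorProduct

namespace Groth.Agent.Helper5.WAss

open Groth.Agent.Helper4.WeakAss (ann mem_ann minimal_of_le)

section loc

variable {R R' : Type u} [CommRing R] [CommRing R'] [Algebra R R'] (S : Submonoid R)
  [IsLocalization S R'] {M M' : Type u} [AddCommGroup M] [Module R M] [AddCommGroup M']
  [Module R M'] [Module R' M'] [IsScalarTower R R' M'] (g : M →ₗ[R] M') [IsLocalizedModule S g]

theorem ann_mk' (m : M) (s : S) :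
    ann R' (IsLocalizedModule.mk' g m s) = (ann R m).map (algebraMap R R') := by
  apply le_antisymm
  · intro x hx
    rw [mem_ann] at hx
    obtain ⟨r, t, rfl⟩ := IsLocalization.exists_mk'_eq S x
    have h1 : g (r • m) = 0 := by
      have h2 : (algebraMap R R' r) • (IsLocalizedModule.mk' g m s) = 0 := by
        have : algebraMap R R' r = algebraMap R R' t * IsLocalization.mk' R' r t := by
          rw [IsLocalization.mul_mk'_eq_mk'_of_mul, IsLocalization.mk'_mul_cancel_left]
        rw [this, mul_smul, hx, smul_zero]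
      have h3 : g (r • m) = (s : R) • ((algebraMap R R' r) • (IsLocalizedModule.mk' g m s)) := by
        rw [algebraMap_smul, ← smul_assoc, smul_eq_mul, mul_comm, mul_smul,
          ← Submonoid.smul_def, IsLocalizedModule.mk'_cancel', map_smul]
      rw [h3, h2, smul_zero]
    obtain ⟨c, hc⟩ := (IsLocalizedModule.eq_zero_iff S g).mp h1
    rw [IsLocalization.mk'_mem_map_algebraMap_iff S]
    refine ⟨c, c.2, ?_⟩
    rw [mem_ann, mul_smul]
    exact hc
  · rw [Ideal.map_le_iff_le_comap]
    intro r hr
    rw [Ideal.mem_comap, mem_ann, algebraMap_smul, ← IsLocalizedModule.mk'_smul, mem_ann.mp hr,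
      IsLocalizedModule.mk'_zero]

include S g in
theorem mem_weakAss_localized_iff (q' : Ideal R') [q'.IsPrime] :
    q' ∈ FlatCA.weakAss R' M' ↔ q'.under R ∈ FlatCA.weakAss R M := by
  have key : ∀ (m : M) (s : S), q' ∈ (ann R' (IsLocalizedModule.mk' g m s)).minimalPrimes ↔
      q'.under R ∈ (ann R m).minimalPrimes := by
    intro m s
    rw [ann_mk' S g, IsLocalization.minimalPrimes_map S R', Set.mem_preimage]
  constructor
  · rintro ⟨z, hz⟩
    obtain ⟨⟨m, s⟩, rfl⟩ := IsLocalizedModule.mk'_surjective S g z
    exact ⟨m, (key m s).mp hz⟩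
  · rintro ⟨m, hm⟩
    exact ⟨IsLocalizedModule.mk' g m 1, (key m 1).mpr hm⟩

end loc


section tensorloc

variable {A R R' : Type u} [CommRing A] [CommRing R] [CommRing R'] [Algebra A R] [Algebra A R']
  [Algebra R R'] [IsScalarTower A R R'] (S : Submonoid R) [IsLocalization S R']
  (M : Type u) [AddCommGroup M] [Module A M]

/-- the base change map `R ⊗ M → R' ⊗ M` -/
noncomputable def tensorMap : R ⊗[A] M →ₗ[R] R' ⊗[A] M :=
  TensorProduct.AlgebraTensorModule.map (Algebra.linearMap R R') (LinearMap.id : M →ₗ[A] M)

theorem isLocalizedModule_tensorMap : IsLocalizedModule S (tensorMap (A := A) (R := R) (R' := R') M) := by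
  rw [isLocalizedModule_iff_isBaseChange S R']
  exact isBaseChange_tensorProduct_map (R := A) (S := R) (P := M) R' (IsBaseChange.linearMap R R')

end tensorloc


section sandwich

theorem under_mem_weakAss_of_sandwich {A B C : Type u} (D : Type u) [CommRing A] [CommRing B]
    [CommRing C] [CommRing D]
    [Algebra A B] [Algebra A C] [Algebra A D] [Algebra B D] [Algebra C D]
    [IsScalarTower A B D] [IsScalarTower A C D] [Module.Finite A C] [Module.Flat A C]
    (S : Submonoid B) [IsLocalization S D] (T : Submonoid C) [IsLocalization T D]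
    (M : Type u) [AddCommGroup M] [Module A M] (u : Ideal B) [hu : u.IsPrime]
    (hdisj : Disjoint (S : Set B) (u : Set B)) (h : u ∈ FlatCA.weakAss B (B ⊗[A] M)) :
    u.under A ∈ FlatCA.weakAss A M := by
  haveI : (u.map (algebraMap B D)).IsPrime :=
    IsLocalization.isPrime_of_isPrime_disjoint S D u hu hdisj
  have hunder : (u.map (algebraMap B D)).under B = u :=
    IsLocalization.under_map_of_isPrime_disjoint S D hu hdisj
  haveI := isLocalizedModule_tensorMap (A := A) (R := B) (R' := D) S M
  haveI := isLocalizedModule_tensorMap (A := A) (R := C) (R' := D) T M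
  have h1 : u.map (algebraMap B D) ∈ FlatCA.weakAss D (D ⊗[A] M) := by
    rw [mem_weakAss_localized_iff S (tensorMap (A := A) (R := B) (R' := D) M), hunder]
    exact h
  rw [mem_weakAss_localized_iff T (tensorMap (A := A) (R := C) (R' := D) M)] at h1
  haveI : ((u.map (algebraMap B D)).under C).LiesOver (u.under A) := by
    constructor
    have h2 : ((u.map (algebraMap B D)).under C).under A = (u.map (algebraMap B D)).under A :=
      Ideal.under_under _
    have h3 : ((u.map (algebraMap B D)).under B).under A = (u.map (algebraMap B D)).under A :=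
      Ideal.under_under _
    rw [h2, ← h3, hunder]
  exact (s1232 M (u.under A) ((u.map (algebraMap B D)).under C)).mp h1

end sandwich


section etale

variable {A B : Type u} [CommRing A] [CommRing B] [Algebra A B]

theorem under_mem_weakAss_of_etale [Algebra.Etale A B]
    (M : Type u) [AddCommGroup M] [Module A M] (u : Ideal B) [hu : u.IsPrime]
    (h : u ∈ FlatCA.weakAss B (B ⊗[A] M)) : u.under A ∈ FlatCA.weakAss A M := by
  obtain ⟨f, hfu, hstd⟩ := Algebra.IsEtaleAt.exists_isStandardEtale (R := A) u
  let Bf := Localization.Away f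
  let Pr : StandardEtalePresentation A Bf := hstd.nonempty_standardEtalePresentation.some
  let C := AdjoinRoot Pr.P.f
  let D := Localization.Away (AdjoinRoot.mk Pr.P.f Pr.P.g)
  let e : Bf ≃ₐ[A] D := Pr.equivRing.trans Pr.P.equivAwayAdjoinRoot
  letI : Algebra B D := (e.toRingEquiv.toRingHom.comp (algebraMap B Bf)).toAlgebra
  haveI : IsScalarTower A B D := IsScalarTower.of_algebraMap_eq (fun a => by
    show algebraMap A D a = e (algebraMap B Bf (algebraMap A B a))
    rw [← IsScalarTower.algebraMap_apply A B Bf, e.commutes])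
  let e' : Bf ≃ₐ[B] D := AlgEquiv.ofRingEquiv (f := e.toRingEquiv) (fun b => rfl)
  haveI : IsLocalization (Submonoid.powers f) D :=
    IsLocalization.isLocalization_of_algEquiv (Submonoid.powers f) e'
  haveI : Module.Finite A C := Pr.P.monic_f.finite_adjoinRoot
  haveI : Module.Free A C := Pr.P.monic_f.free_adjoinRoot
  have hdisj : Disjoint (Submonoid.powers f : Set B) (u : Set B) := by
    rw [Set.disjoint_left]
    rintro b ⟨n, rfl⟩ hb
    exact hfu (hu.mem_of_pow_mem n hb)
  exact under_mem_weakAss_of_sandwich D (Submonoid.powers f)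
    (Submonoid.powers (AdjoinRoot.mk Pr.P.f Pr.P.g)) M u hdisj h

theorem s1233 [Algebra.Etale A B]
    (M : Type u) [AddCommGroup M] [Module A M] (p : Ideal A) [p.IsPrime] (u : Ideal B) [u.IsPrime] [hup : u.LiesOver p] :
    u ∈ FlatCA.weakAss B (B ⊗[A] M) ↔ p ∈ FlatCA.weakAss A M := by
  constructor
  · intro h
    rw [hup.over]
    exact under_mem_weakAss_of_etale M u h
  · intro h
    exact mem_weakAss_tensor_of_mem M p u h

end etale

end Groth.Agent.Helper5.WAss
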