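import Mathlib
import Groth.Prelude.Def_CAlg
import Groth.Agent.Helper9.DepthS2

set_option autoImplicit false
universe u

namespace Groth.Agent.Helper5.SOne1
open Groth.Agent.Helper9 Groth.Agent.Helper9.DepthS2 Groth.Agent.Helper9.DepthKer LocCoh

variable (R : Type u) [CommRing R] [IsLocalRing R] [IsNoetherianRing R]
  (M : Type u) [AddCommGroup M] [Module R M] [Module.Finite R M]

theorem one_le_depth_iff [Nontrivial M] :
    1 ≤ depth R M ↔ ¬ IsAssociatedPrime (IsLocalRing.maximalIdeal R) M := by
  constructor
  · intro h hass
    rw [isAssociatedPrime_iff] at hass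
    obtain ⟨_, w, hw⟩ := hass
    have hw0 : w ≠ 0 := by
      rintro rfl
      have : (1 : R) ∈ IsLocalRing.maximalIdeal R := by
        rw [hw, Submodule.mem_colon_singleton]; simp
      exact (IsLocalRing.maximalIdeal.isMaximal R).ne_top ((Ideal.eq_top_iff_one _).mpr this)
    refine not_one_le_depth_of_socle w hw0 (fun r hr => ?_) h
    rw [hw, Submodule.mem_colon_singleton] at hr
    simpa using hr
  · intro hass
    have hsoc : ∀ z : M, (∀ i ∈ IsLocalRing.maximalIdeal R, i • z = 0) → z = 0 := by
      intro z hz
      by_contra hz0
      apply hass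
      rw [isAssociatedPrime_iff]
      refine ⟨inferInstance, z, ?_⟩
      have hle : IsLocalRing.maximalIdeal R ≤ Submodule.colon ⊥ {z} := by
        intro i hi
        rw [Submodule.mem_colon_singleton]
        simpa using hz i hi
      have hne : Submodule.colon (⊥ : Submodule R M) {z} ≠ ⊤ := by
        intro htop
        have : (1 : R) ∈ Submodule.colon (⊥ : Submodule R M) {z} := htop ▸ Submodule.mem_top
        rw [Submodule.mem_colon_singleton] at this
        exact hz0 (by simpa using this)
      exact (IsLocalRing.maximalIdeal.isMaximal R).eq_of_le hne hle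
    obtain ⟨y, hy, hreg⟩ := exists_regular_of_socle (I := IsLocalRing.maximalIdeal R) M hsoc
    have := le_idealDepth_of (IsLocalRing.maximalIdeal R) (M := M) [y]
      ((RingTheory.Sequence.isWeaklyRegular_cons_iff M y []).mpr
        ⟨hreg, RingTheory.Sequence.IsWeaklyRegular.nil R _⟩)
      (by simpa using hy)
    unfold depth
    simpa using this

theorem maximalIdeal_mem_support [Nontrivial M] :
    IsLocalRing.closedPoint R ∈ Module.support R M := by
  obtain ⟨q, hq⟩ := Module.nonempty_support_of_nontrivial (R := R) (M := M)
  exact Module.mem_support_mono (IsLocalRing.le_maximalIdeal q.2.ne_top) hq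

theorem supportDim_le_zero_iff [Nontrivial M] :
    Module.supportDim R M ≤ 0 ↔
      ∀ q ∈ Module.support R M, q = IsLocalRing.closedPoint R := by
  unfold Module.supportDim
  rw [Order.krullDim_nonpos_iff_forall_isMax]
  constructor
  · intro h q hq
    have h1 := h ⟨q, hq⟩
    have h2 : (⟨q, hq⟩ : Module.support R M) ≤ ⟨_, maximalIdeal_mem_support R M⟩ :=
      IsLocalRing.le_maximalIdeal q.2.ne_top
    have h3 := h1 h2
    exact le_antisymm h2 h3
  · intro h q
    intro q' _
    have h1 := h q.1 q.2
    have h2 := h q'.1 q'.2
    show q'.1 ≤ q.1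
    rw [h1, h2]

theorem s1_iff :
    min (1 : WithBot ℕ∞) (Module.supportDim R M) ≤ ((depth R M : ℕ∞) : WithBot ℕ∞) ↔
      (IsAssociatedPrime (IsLocalRing.maximalIdeal R) M →
        ∀ q ∈ Module.support R M, q = IsLocalRing.closedPoint R) := by
  by_cases hM : Subsingleton M
  · rw [Module.supportDim_eq_bot_of_subsingleton]
    simp only [min_bot_right, bot_le, true_iff]
    intro h
    exact absurd h not_isAssociatedPrime_of_subsingleton
  · rw [not_subsingleton_iff_nontrivial] at hM
    rw [← supportDim_le_zero_iff]
    by_cases hd : 1 ≤ depth R M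
    · have h1 : (1 : WithBot ℕ∞) ≤ ((depth R M : ℕ∞) : WithBot ℕ∞) := by
        exact_mod_cast hd
      constructor
      · intro _ hass
        exact absurd hass ((one_le_depth_iff R M).mp hd)
      · intro _
        exact (min_le_left _ _).trans h1
    · have hass : IsAssociatedPrime (IsLocalRing.maximalIdeal R) M := by
        by_contra h
        exact hd ((one_le_depth_iff R M).mpr h)
      have hd0 : depth R M = 0 := by
        by_contra h
        exact hd (Order.one_le_iff_ne_zero.mpr h)
      rw [hd0]
      constructor
      · intro h _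
        rcases min_le_iff.mp h with h | h
        · exact absurd h (by decide)
        · exact h
      · intro h
        exact (min_le_right _ _).trans (h hass)

end Groth.Agent.Helper5.SOne1
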