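import Mathlib
import Groth.Agent.Helper5.SOne1
import Groth.Agent.Helper5.SOne2
import Groth.Agent.Helper4.AssMax2
import Groth.Agent.Helper4.SuppDict
import Groth.Agent.Helper4.FinLocFree5
import Groth.Statements.S8871

set_option autoImplicit false
open CategoryTheory Limits AlgebraicGeometry TopologicalSpace Opposite
universe u

namespace Groth.Agent.Helper5.SOne3
open Groth.Agent.Helper5.SOne1 Groth.Agent.Helper5.SOne2
open Scheme.Modules Groth.Agent.Helper4.StalkDict Groth.Agent.Helper4.FinLocFree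
  Groth.Agent.Helper4.FinLocFree2 Groth.Agent.Helper4.FinLocFree5
  Groth.Agent.Helper4

variable {X : Scheme.{u}} (F : X.Modules)

set_option backward.isDefEq.respectTransparency false in
theorem support_stalk_iff [F.IsQuasicoherent] (x : X) :
    (∀ q ∈ Module.support (X.presheaf.stalk x) (F.presheaf.stalk x),
      q = IsLocalRing.closedPoint (X.presheaf.stalk x)) ↔
    (∀ y : X, Nontrivial (F.presheaf.stalk y) → y ⤳ x → y = x) := by
  obtain ⟨U, hU, hx⟩ := QcohLimits.exists_affine_nhd x
  letI := sectionModStalk F x hx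
  letI := X.presheaf.algebra_section_stalk ⟨x, hx⟩
  haveI := hU.isLocalization_stalk ⟨x, hx⟩
  haveI := isLocalizedModule_germ hU F x hx
  haveI : IsScalarTower Γ(X, U) (X.presheaf.stalk x) (F.presheaf.stalk x) :=
    IsScalarTower.of_algebraMap_smul (fun r m => rfl)
  have hcomap : Ideal.comap (algebraMap Γ(X, U) (X.presheaf.stalk x))
      (IsLocalRing.maximalIdeal (X.presheaf.stalk x)) = (hU.primeIdealOf ⟨x, hx⟩).asIdeal :=
    IsLocalization.AtPrime.comap_maximalIdeal (X.presheaf.stalk x)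
      (hU.primeIdealOf ⟨x, hx⟩).asIdeal
  have hkey := fun q => mem_support_iff_comap (hU.primeIdealOf ⟨x, hx⟩).asIdeal
    (X.presheaf.stalk x) (germLin F x hx) q
  constructor
  · intro h y hy hyx
    have hyU : y ∈ U := hyx.mem_open U.isOpen hx
    have hle := SuppDict.primeIdealOf_le_of_specializes hU hyU hx hyx
    have hsupp : hU.primeIdealOf ⟨y, hyU⟩ ∈ Module.support Γ(X, U) Γ(F, U) := by
      rw [SuppDict.mem_support_iff hU F y hyU]
      exact not_subsingleton_iff_nontrivial.mpr hy
    have hdisj : Disjoint ((hU.primeIdealOf ⟨x, hx⟩).asIdeal.primeCompl : Set Γ(X, U))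
        ((hU.primeIdealOf ⟨y, hyU⟩).asIdeal : Set Γ(X, U)) := by
      rw [Set.disjoint_left]
      intro b hb hb'
      exact hb (hle hb')
    have hprime := IsLocalization.isPrime_of_isPrime_disjoint
      (hU.primeIdealOf ⟨x, hx⟩).asIdeal.primeCompl (X.presheaf.stalk x)
      (hU.primeIdealOf ⟨y, hyU⟩).asIdeal (hU.primeIdealOf ⟨y, hyU⟩).2 hdisj
    have hcm := IsLocalization.comap_map_of_isPrime_disjoint
      (hU.primeIdealOf ⟨x, hx⟩).asIdeal.primeCompl (X.presheaf.stalk x)
      (hU.primeIdealOf ⟨y, hyU⟩).2 hdisj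
    let q : PrimeSpectrum (X.presheaf.stalk x) :=
      ⟨Ideal.map (algebraMap Γ(X, U) (X.presheaf.stalk x)) (hU.primeIdealOf ⟨y, hyU⟩).asIdeal,
        hprime⟩
    have hqc : q.comap (algebraMap Γ(X, U) (X.presheaf.stalk x)) = hU.primeIdealOf ⟨y, hyU⟩ :=
      PrimeSpectrum.ext hcm
    have hq : q ∈ Module.support (X.presheaf.stalk x) (F.presheaf.stalk x) := by
      rw [hkey q, hqc]
      exact hsupp
    have hq2 := h q hq
    have h3 : hU.primeIdealOf ⟨y, hyU⟩ = hU.primeIdealOf ⟨x, hx⟩ := by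
      rw [← hqc, hq2]
      exact PrimeSpectrum.ext hcomap
    have h4 := congrArg hU.fromSpec h3
    rw [hU.fromSpec_primeIdealOf, hU.fromSpec_primeIdealOf] at h4
    exact h4
  · intro h q hq
    rw [hkey q] at hq
    obtain ⟨z, hzU, hz⟩ := exists_point_of_prime hU (q.comap (algebraMap Γ(X, U) (X.presheaf.stalk x)))
    rw [← hz, SuppDict.mem_support_iff hU F z hzU] at hq
    have hzx : z ⤳ x := by
      apply AssMax.specializes_of_primeIdealOf_le hU hzU hx
      rw [hz]
      show Ideal.comap _ q.asIdeal ≤ _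
      rw [← hcomap]
      exact Ideal.comap_mono (IsLocalRing.le_maximalIdeal q.2.ne_top)
    have hzx' := h z (not_subsingleton_iff_nontrivial.mp hq) hzx
    subst hzx'
    apply PrimeSpectrum.localization_comap_injective (X.presheaf.stalk z)
      (hU.primeIdealOf ⟨z, hx⟩).asIdeal.primeCompl
    rw [← hz]
    exact (PrimeSpectrum.ext hcomap).symm

end Groth.Agent.Helper5.SOne3

namespace Groth.Agent.Helper5.SOne3
open Groth.Agent.Helper5.SOne1 Groth.Agent.Helper5.SOne2
open Scheme.Modules Groth.Agent.Helper4.StalkDict Groth.Agent.Helper4.FinLocFree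
  Groth.Agent.Helper4.FinLocFree2 Groth.Agent.Helper4.FinLocFree5
  Groth.Agent.Helper4

theorem s8871 (X : Scheme.{u}) [IsLocallyNoetherian X] (F : X.Modules) (hF : Coh.IsCoh F) :
    (∀ x : ↥X, Curv2.IsAssPoint F x → ∀ y : ↥X, Curv2.IsAssPoint F y → y ⤳ x → y = x) ↔
      ∀ x : ↥X, min (1 : WithBot ℕ∞) (Module.supportDim ↑(X.presheaf.stalk x) ↑(F.presheaf.stalk x)) ≤
        ((LocCoh.depth (X.presheaf.stalk x) (F.presheaf.stalk x) : ℕ∞) : WithBot ℕ∞) := by
  haveI : F.IsQuasicoherent := hF.1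
  have hft := hF.2
  have hpt : ∀ x : X,
      (min (1 : WithBot ℕ∞) (Module.supportDim ↑(X.presheaf.stalk x) ↑(F.presheaf.stalk x)) ≤
        ((LocCoh.depth (X.presheaf.stalk x) (F.presheaf.stalk x) : ℕ∞) : WithBot ℕ∞)) ↔
      (Curv2.IsAssPoint F x → ∀ y : ↥X, Curv2.IsAssPoint F y → y ⤳ x → y = x) := by
    intro x
    haveI := finite_stalk F hft x
    haveI : IsNoetherianRing (X.presheaf.stalk x) := inferInstance
    rw [s1_iff, support_stalk_iff]
    refine imp_congr Iff.rfl ?_
    constructor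
    · intro h y hy hyx
      exact h y (AssMax2.nontrivial_of_isAssPoint F y hy) hyx
    · intro h y hy hyx
      obtain ⟨z, hz, hzy⟩ := AssMax2.exists_isAssPoint_specializes F y hy
      have := h z hz (hzy.trans hyx)
      subst this
      exact (hzy.antisymm hyx).symm.eq
  constructor
  · intro h x
    rw [hpt x]
    exact h x
  · intro h x
    exact (hpt x).mp (h x)

end Groth.Agent.Helper5.SOne3
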