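import Mathlib
import Groth.Prelude.Def_CAlg
import Groth.Agent.Helper5.RSD1

set_option autoImplicit false
universe u

namespace Groth.Agent.Helper5.RSD

open IsLocalRing Polynomial

variable {A B : Type u} [CommRing A] [CommRing B] [Algebra A B]
  (M : Type u) [AddCommGroup M] [Module B M] [Module A M] [IsScalarTower A B M]

section basic

include A in
/-- `M` is finite over `B` as soon as it is finite over `A`. -/
theorem finite_of_finite [Module.Finite A M] : Module.Finite B M :=
  Module.Finite.of_restrictScalars_finite A B M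

/-- every element of `B` is integral over `A` modulo the annihilator of `M`. -/
theorem exists_monic_eval_mem_annihilator [Module.Finite A M] (x : B) :
    ∃ P : A[X], P.Monic ∧ P.eval₂ (algebraMap A B) x ∈ Module.annihilator B M := by
  obtain ⟨P, hP, h0⟩ := LinearMap.exists_monic_and_aeval_eq_zero A (Algebra.lsmul A A M x)
  refine ⟨P, hP, ?_⟩
  rw [Module.mem_annihilator]
  intro m
  have h1 : Algebra.lsmul A A M (Polynomial.aeval x P) = 0 := by
    rw [← Polynomial.aeval_algHom_apply]; exact h0
  have h2 := LinearMap.congr_fun h1 m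
  rw [Algebra.lsmul_apply, Polynomial.aeval_def] at h2
  exact h2

theorem annihilator_comap_le : (Module.annihilator B M).comap (algebraMap A B) ≤
    Module.annihilator A M := by
  intro a ha
  rw [Ideal.mem_comap, Module.mem_annihilator] at ha
  rw [Module.mem_annihilator]
  intro m
  rw [← algebraMap_smul B a m]
  exact ha m

theorem annihilator_le_comap : Module.annihilator A M ≤
    (Module.annihilator B M).comap (algebraMap A B) := by
  intro a ha
  rw [Module.mem_annihilator] at ha
  rw [Ideal.mem_comap, Module.mem_annihilator]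
  intro m
  rw [algebraMap_smul B a m]
  exact ha m

/-- contraction of a support prime is a support prime. -/
theorem comap_mem_support [Module.Finite A M] (q : PrimeSpectrum B)
    (hq : q ∈ Module.support B M) :
    q.comap (algebraMap A B) ∈ Module.support A M := by
  haveI := finite_of_finite (A := A) (B := B) M
  rw [Module.mem_support_iff_of_finite] at hq ⊢
  intro a ha
  exact hq (Ideal.mem_comap.mp (annihilator_le_comap M ha))

/-- incomparability. -/
theorem comap_lt_comap [Module.Finite A M] (q1 q2 : Ideal B) [q1.IsPrime]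
    (hJ : Module.annihilator B M ≤ q1) (hlt : q1 < q2) :
    q1.comap (algebraMap A B) < q2.comap (algebraMap A B) := by
  obtain ⟨x, hx2, hx1⟩ := Set.exists_of_ssubset hlt
  obtain ⟨P, hP, hPx⟩ := exists_monic_eval_mem_annihilator (A := A) M x
  exact Ideal.comap_lt_comap_of_root_mem_sdiff hlt.le ⟨hx2, hx1⟩
    (Polynomial.map_monic_ne_zero hP) (hJ hPx)

/-- lying over and going up relative to the annihilator. -/
theorem exists_prime_over [Module.Finite A M] (I : Ideal B) (hJI : Module.annihilator B M ≤ I)
    (P : Ideal A) [P.IsPrime] (hIP : I.comap (algebraMap A B) ≤ P) :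
    ∃ Q : Ideal B, I ≤ Q ∧ Q.IsPrime ∧ Q.comap (algebraMap A B) = P := by
  set J := Module.annihilator B M with hJ
  haveI : Algebra.IsIntegral A (B ⧸ J) := by
    refine ⟨fun y => ?_⟩
    obtain ⟨x, rfl⟩ := Ideal.Quotient.mk_surjective y
    obtain ⟨Q, hQ, hQx⟩ := exists_monic_eval_mem_annihilator (A := A) M x
    refine ⟨Q, hQ, ?_⟩
    have h1 : Q.eval₂ (algebraMap A (B ⧸ J)) (Ideal.Quotient.mk J x) =
        Ideal.Quotient.mk J (Q.eval₂ (algebraMap A B) x) := by
      rw [Polynomial.hom_eval₂]
      rfl
    rw [h1]
    exact Ideal.Quotient.eq_zero_iff_mem.mpr hQx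
  have hc : (I.map (Ideal.Quotient.mk J)).comap (algebraMap A (B ⧸ J)) ≤ P := by
    have e : algebraMap A (B ⧸ J) = (Ideal.Quotient.mk J).comp (algebraMap A B) := rfl
    rw [e, ← Ideal.comap_comap, Ideal.comap_map_of_surjective _ Ideal.Quotient.mk_surjective,
      ← RingHom.ker_eq_comap_bot, Ideal.mk_ker, sup_eq_left.mpr hJI]
    exact hIP
  obtain ⟨Qb, hQb, hQbp, hQbc⟩ := Ideal.exists_ideal_over_prime_of_isIntegral P
    (I.map (Ideal.Quotient.mk J)) hc
  refine ⟨Qb.comap (Ideal.Quotient.mk J), ?_, Ideal.IsPrime.comap _, ?_⟩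
  · rw [← Ideal.map_le_iff_le_comap]; exact hQb
  · rw [Ideal.comap_comap]
    exact hQbc

end basic

section chains

variable [Module.Finite A M]

/-- the contraction map on supports. -/
noncomputable def contr : Module.support B M → Module.support A M :=
  fun q => ⟨q.1.comap (algebraMap A B), comap_mem_support M q.1 q.2⟩

theorem contr_strictMono : StrictMono (contr (A := A) (B := B) M) := by
  intro q1 q2 h
  haveI := finite_of_finite (A := A) (B := B) M
  have h' : q1.1.asIdeal < q2.1.asIdeal := h
  have hJ : Module.annihilator B M ≤ q1.1.asIdeal := by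
    have := q1.2
    rw [Module.mem_support_iff_of_finite] at this
    exact this
  exact comap_lt_comap (A := A) M q1.1.asIdeal q2.1.asIdeal hJ h'

theorem height_le_height_contr (q : Module.support B M) :
    Order.height q ≤ Order.height (contr (A := A) M q) :=
  Order.height_le_height_apply_of_strictMono _ (contr_strictMono M) q

theorem exists_lift (n : ℕ) : ∀ P : Module.support A M, (n : ℕ∞) ≤ Order.height P →
    ∃ Q : Module.support B M, contr (A := A) M Q = P ∧ (n : ℕ∞) ≤ Order.height Q := by
  haveI := finite_of_finite (A := A) (B := B) M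
  induction n with
  | zero =>
    intro P _
    haveI : P.1.asIdeal.IsPrime := P.1.2
    have hP := P.2
    rw [Module.mem_support_iff_of_finite] at hP
    obtain ⟨Q, hJQ, hQp, hQc⟩ := exists_prime_over (A := A) M (Module.annihilator B M) le_rfl
      P.1.asIdeal ((annihilator_comap_le M).trans hP)
    refine ⟨⟨⟨Q, hQp⟩, ?_⟩, ?_, by simp⟩
    · rw [Module.mem_support_iff_of_finite]; exact hJQ
    · apply Subtype.ext
      apply PrimeSpectrum.ext
      exact hQc
  | succ n ih =>
    intro P hP
    rw [Order.height_eq_iSup_lt_height] at hP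
    have hlt : (n : ℕ∞) < ⨆ y, ⨆ (_ : y < P), Order.height y + 1 := by
      refine lt_of_lt_of_le ?_ hP
      exact_mod_cast Nat.lt_succ_self n
    rw [lt_iSup_iff] at hlt
    obtain ⟨P'', hlt⟩ := hlt
    rw [lt_iSup_iff] at hlt
    obtain ⟨hP''lt, hlt⟩ := hlt
    have hn : (n : ℕ∞) ≤ Order.height P'' := by
      by_cases htop : Order.height P'' = ⊤
      · rw [htop]; exact le_top
      · exact (ENat.lt_add_one_iff htop).mp hlt
    obtain ⟨Q'', hQ''c, hQ''h⟩ := ih P'' hn
    haveI : P.1.asIdeal.IsPrime := P.1.2
    have hQ''J : Module.annihilator B M ≤ Q''.1.asIdeal := by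
      have := Q''.2
      rw [Module.mem_support_iff_of_finite] at this
      exact this
    have hcl : Q''.1.asIdeal.comap (algebraMap A B) ≤ P.1.asIdeal := by
      have e : Q''.1.asIdeal.comap (algebraMap A B) = P''.1.asIdeal := by
        have := congrArg (fun x : Module.support A M => x.1.asIdeal) hQ''c
        exact this
      rw [e]
      exact hP''lt.le
    obtain ⟨Q, hQ''Q, hQp, hQc⟩ := exists_prime_over (A := A) M Q''.1.asIdeal hQ''J
      P.1.asIdeal hcl
    have hQsupp : (⟨Q, hQp⟩ : PrimeSpectrum B) ∈ Module.support B M := by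
      rw [Module.mem_support_iff_of_finite]; exact hQ''J.trans hQ''Q
    refine ⟨⟨⟨Q, hQp⟩, hQsupp⟩, ?_, ?_⟩
    · apply Subtype.ext
      apply PrimeSpectrum.ext
      exact hQc
    · have hne : Q''.1.asIdeal ≠ Q := by
        intro heq
        have e1 : Q''.1.asIdeal.comap (algebraMap A B) = P''.1.asIdeal := by
          have := congrArg (fun x : Module.support A M => x.1.asIdeal) hQ''c
          exact this
        rw [heq, hQc] at e1
        have : P''.1.asIdeal < P.1.asIdeal := hP''lt
        exact this.ne e1.symm
      have hlt' : Q'' < (⟨⟨Q, hQp⟩, hQsupp⟩ : Module.support B M) := by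
        show Q''.1.asIdeal < Q
        exact lt_of_le_of_ne hQ''Q hne
      have := Order.height_add_one_le hlt'
      refine le_trans ?_ this
      push_cast
      exact add_le_add hQ''h le_rfl

end chains

end Groth.Agent.Helper5.RSD
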