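import Mathlib
import Groth.Prelude.Def_CAlg
import Groth.Agent.Helper5.RSD2

set_option autoImplicit false
universe u

namespace Groth.Agent.Helper5.RSD

open IsLocalRing

theorem coe_le_of_forall_nat {a : ℕ∞} {R : WithBot ℕ∞}
    (h : ∀ n : ℕ, (n : ℕ∞) ≤ a → ((n : ℕ∞) : WithBot ℕ∞) ≤ R) : (a : WithBot ℕ∞) ≤ R := by
  induction R using WithBot.recBotCoe with
  | bot =>
    have := h 0 (by simp)
    exact absurd this (not_le.mpr (WithBot.bot_lt_coe _))
  | coe r =>
    rw [WithBot.coe_le_coe]
    rw [← ENat.forall_natCast_le_iff_le]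
    intro n hn
    exact WithBot.coe_le_coe.mp (h n hn)

variable {A B : Type u} [CommRing A] [CommRing B] [Algebra A B]
  (M : Type u) [AddCommGroup M] [Module B M] [Module A M] [IsScalarTower A B M]
  [Module.Finite A M]

theorem supportDim_eq_iSup (p : Ideal A) [hp : p.IsPrime] :
    Module.supportDim (Localization.AtPrime p) (LocalizedModule p.primeCompl M) =
      ⨆ q ∈ {q : PrimeSpectrum B | q.asIdeal.comap (algebraMap A B) = p ∧ q ∈ Module.support B M},
        Module.supportDim (Localization.AtPrime q.asIdeal)
          (LocalizedModule q.asIdeal.primeCompl M) := by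
  haveI := finite_of_finite (A := A) (B := B) M
  by_cases hpM : (⟨p, hp⟩ : PrimeSpectrum A) ∈ Module.support A M
  · rw [supportDim_localized_eq_height M p hpM]
    apply le_antisymm
    · apply coe_le_of_forall_nat
      intro n hn
      obtain ⟨Q, hQc, hQh⟩ := exists_lift (A := A) (B := B) M n ⟨⟨p, hp⟩, hpM⟩ hn
      have hQmem : Q.1 ∈ {q : PrimeSpectrum B |
          q.asIdeal.comap (algebraMap A B) = p ∧ q ∈ Module.support B M} :=
        ⟨congrArg (fun x : Module.support A M => x.1.asIdeal) hQc, Q.2⟩
      refine le_trans ?_ (le_iSup₂ (f := fun (q : PrimeSpectrum B)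
        (_ : q ∈ {q : PrimeSpectrum B |
          q.asIdeal.comap (algebraMap A B) = p ∧ q ∈ Module.support B M}) =>
        Module.supportDim (Localization.AtPrime q.asIdeal)
          (LocalizedModule q.asIdeal.primeCompl M)) Q.1 hQmem)
      show _ ≤ Module.supportDim (Localization.AtPrime Q.1.asIdeal)
          (LocalizedModule Q.1.asIdeal.primeCompl M)
      rw [supportDim_localized_eq_height (A := B) M Q.1.asIdeal Q.2]
      exact WithBot.coe_le_coe.mpr hQh
    · apply iSup₂_le
      intro q hq
      rw [supportDim_localized_eq_height (A := B) M q.asIdeal hq.2]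
      have h1 := height_le_height_contr (A := A) M ⟨q, hq.2⟩
      have h2 : contr (A := A) M ⟨q, hq.2⟩ = ⟨⟨p, hp⟩, hpM⟩ := by
        apply Subtype.ext
        apply PrimeSpectrum.ext
        exact hq.1
      rw [h2] at h1
      exact WithBot.coe_le_coe.mpr h1
  · rw [supportDim_localized_eq_bot M p hpM]
    symm
    rw [iSup₂_eq_bot]
    intro q hq
    exfalso
    apply hpM
    have := comap_mem_support (A := A) M q hq.2
    have e : q.comap (algebraMap A B) = ⟨p, hp⟩ := by
      apply PrimeSpectrum.ext
      exact hq.1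
    rwa [e] at this

end Groth.Agent.Helper5.RSD
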