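import Mathlib
import Groth.Prelude.Def_CAlg
import Groth.Agent.Helper2.GrFlatCrit

set_option autoImplicit false
universe u

namespace Groth.Agent.Helper5.RSD

open RingTheory.Sequence

section L

variable {R : Type u} [CommRing R] (T : Submonoid R) (N : Type u) [AddCommGroup N] [Module R N]

theorem mk_mem_map_smul_top_of_mem (I : Ideal R) (x : N) (hx : x ∈ (I • ⊤ : Submodule R N))
    (s : T) :
    LocalizedModule.mk x s ∈ ((I.map (algebraMap R (Localization T))) • ⊤ :
      Submodule (Localization T) (LocalizedModule T N)) := by
  induction hx using Submodule.smul_induction_on' with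
  | smul a ha n _ =>
    have e : LocalizedModule.mk (a • n) s =
        (algebraMap R (Localization T) a) • LocalizedModule.mk n s := by
      rw [algebraMap_smul, LocalizedModule.smul'_mk]
    rw [e]
    exact Submodule.smul_mem_smul (Ideal.mem_map_of_mem _ ha) trivial
  | add x _ y _ h1 h2 =>
    have e : LocalizedModule.mk (x + y) s = LocalizedModule.mk x s + LocalizedModule.mk y s := by
      rw [LocalizedModule.mk_add_mk, ← smul_add, LocalizedModule.mk_cancel_common_left]
    rw [e]
    exact add_mem h1 h2

theorem mk_mem_map_smul_top_iff (I : Ideal R) (m : N) (t : T) :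
    LocalizedModule.mk m t ∈ ((I.map (algebraMap R (Localization T))) • ⊤ :
      Submodule (Localization T) (LocalizedModule T N)) ↔
      ∃ u ∈ T, u • m ∈ (I • ⊤ : Submodule R N) := by
  constructor
  · intro h
    have h1 : LocalizedModule.mkLinearMap T N m ∈
        (I • ⊤ : Submodule R (LocalizedModule T N)) := by
      have e1 : (I • ⊤ : Submodule R (LocalizedModule T N)) =
          (((I.map (algebraMap R (Localization T))) • ⊤ :
            Submodule (Localization T) (LocalizedModule T N))).restrictScalars R := by
        rw [Ideal.smul_restrictScalars, Submodule.restrictScalars_top]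
      rw [e1, Submodule.restrictScalars_mem]
      have e2 : LocalizedModule.mkLinearMap T N m = (t : R) • LocalizedModule.mk m t := by
        rw [LocalizedModule.mkLinearMap_apply, LocalizedModule.smul'_mk]
        exact (LocalizedModule.mk_cancel t m).symm
      rw [e2, ← algebraMap_smul (Localization T)]
      exact Submodule.smul_mem _ _ h
    exact Groth.Agent.Helper2.GrFlatCrit.exists_smul_mem_of_map_mem T
      (LocalizedModule.mkLinearMap T N) I m h1
  · rintro ⟨u, hu, hum⟩
    have e : LocalizedModule.mk m t = LocalizedModule.mk (u • m) (⟨u, hu⟩ * t) := by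
      exact (LocalizedModule.mk_cancel_common_left ⟨u, hu⟩ t m).symm
    rw [e]
    exact mk_mem_map_smul_top_of_mem T N I _ hum _

end L

section L2

variable {R : Type u} [CommRing R] (T : Submonoid R) (N : Type u) [AddCommGroup N] [Module R N]

theorem ofList_take_map (rs : List R) (i : ℕ) :
    Ideal.ofList ((rs.map (algebraMap R (Localization T))).take i) =
      (Ideal.ofList (rs.take i)).map (algebraMap R (Localization T)) := by
  rw [Ideal.map_ofList, List.map_take]

/-- weak regularity on a localized module in terms of the original module. -/
theorem isWeaklyRegular_localized_iff (rs : List R) :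
    IsWeaklyRegular (LocalizedModule T N) (rs.map (algebraMap R (Localization T))) ↔
      ∀ (i : ℕ) (hi : i < rs.length) (m : N),
        rs[i] • m ∈ (Ideal.ofList (rs.take i) • ⊤ : Submodule R N) →
          ∃ u ∈ T, u • m ∈ (Ideal.ofList (rs.take i) • ⊤ : Submodule R N) := by
  rw [isWeaklyRegular_iff]
  constructor
  · intro h i hi m hm
    have hi' : i < (rs.map (algebraMap R (Localization T))).length := by
      rw [List.length_map]; exact hi
    have h1 := h i hi'
    rw [isSMulRegular_quotient_iff_mem_of_smul_mem, ofList_take_map] at h1
    have h2 := h1 (LocalizedModule.mk m 1) (by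
      have e : (rs.map (algebraMap R (Localization T)))[i] • LocalizedModule.mk m (1 : T) =
          LocalizedModule.mk (rs[i] • m) (1 : T) := by
        rw [List.getElem_map, algebraMap_smul, LocalizedModule.smul'_mk]
      rw [e, mk_mem_map_smul_top_iff]
      exact ⟨1, T.one_mem, by rw [one_smul]; exact hm⟩)
    exact (mk_mem_map_smul_top_iff T N _ m 1).mp h2
  · intro h i hi'
    have hi : i < rs.length := by
      rw [List.length_map] at hi'; exact hi'
    rw [isSMulRegular_quotient_iff_mem_of_smul_mem, ofList_take_map]
    intro y hy
    induction y using LocalizedModule.induction_on with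
    | h m t =>
      have e : (rs.map (algebraMap R (Localization T)))[i] • LocalizedModule.mk m t =
          LocalizedModule.mk (rs[i] • m) t := by
        rw [List.getElem_map, algebraMap_smul, LocalizedModule.smul'_mk]
      rw [e, mk_mem_map_smul_top_iff] at hy
      obtain ⟨u, hu, hum⟩ := hy
      have h1 : rs[i] • (u • m) ∈ (Ideal.ofList (rs.take i) • ⊤ : Submodule R N) := by
        rw [smul_comm]; exact hum
      obtain ⟨v, hv, hvm⟩ := h i hi (u • m) h1
      rw [mk_mem_map_smul_top_iff]
      exact ⟨v * u, T.mul_mem hv hu, by rw [mul_smul]; exact hvm⟩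

end L2

end Groth.Agent.Helper5.RSD
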