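import Mathlib
import Groth.Prelude.Def_CAlg
import Groth.Agent.Helper5.RSE1
import Groth.Agent.Helper2.DepthLoc

set_option autoImplicit false
universe u

namespace Groth.Agent.Helper5.RSD

open RingTheory.Sequence IsLocalRing Groth.Agent.Helper2

section transfer

variable {A B : Type u} [CommRing A] [CommRing B] [Algebra A B]
  (M : Type u) [AddCommGroup M] [Module B M] [Module A M] [IsScalarTower A B M]

theorem mem_smul_top_iff (I : Ideal A) (m : M) :
    m ∈ ((I.map (algebraMap A B)) • ⊤ : Submodule B M) ↔ m ∈ (I • ⊤ : Submodule A M) := by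
  have e1 : (I • ⊤ : Submodule A M) =
      (((I.map (algebraMap A B)) • ⊤ : Submodule B M)).restrictScalars A := by
    rw [Ideal.smul_restrictScalars, Submodule.restrictScalars_top]
  rw [e1, Submodule.restrictScalars_mem]

/-- transfer of weak regularity from the localization at `p` to the localization at a prime of
`B` over `p`. -/
theorem isWeaklyRegular_transfer (p : Ideal A) [p.IsPrime] (q : Ideal B) [q.IsPrime]
    (hq : q.comap (algebraMap A B) = p) (xs : List A)
    (h : IsWeaklyRegular (LocalizedModule p.primeCompl M)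
      (xs.map (algebraMap A (Localization.AtPrime p)))) :
    IsWeaklyRegular (LocalizedModule q.primeCompl M)
      ((xs.map (algebraMap A B)).map (algebraMap B (Localization.AtPrime q))) := by
  rw [isWeaklyRegular_localized_iff] at h ⊢
  intro i hi' m hm
  have hi : i < xs.length := by rw [List.length_map] at hi'; exact hi'
  have eI : Ideal.ofList ((xs.map (algebraMap A B)).take i) =
      (Ideal.ofList (xs.take i)).map (algebraMap A B) := by
    rw [Ideal.map_ofList, List.map_take]
  rw [eI, mem_smul_top_iff] at hm
  rw [List.getElem_map, algebraMap_smul] at hm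
  obtain ⟨s, hs, hsm⟩ := h i hi m hm
  refine ⟨algebraMap A B s, ?_, ?_⟩
  · show algebraMap A B s ∉ q
    intro hmem
    apply hs
    show s ∈ p
    rw [← hq]
    exact hmem
  · rw [eI, mem_smul_top_iff, algebraMap_smul]
    exact hsm

theorem length_le_depth_of_transfer (p : Ideal A) [p.IsPrime] (q : Ideal B) [q.IsPrime]
    (hq : q.comap (algebraMap A B) = p) (xs : List A) (hxs : ∀ x ∈ xs, x ∈ p)
    (h : IsWeaklyRegular (LocalizedModule p.primeCompl M)
      (xs.map (algebraMap A (Localization.AtPrime p)))) :
    (xs.length : ℕ∞) ≤ LocCoh.depth (Localization.AtPrime q) (LocalizedModule q.primeCompl M) := by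
  have h1 := isWeaklyRegular_transfer M p q hq xs h
  have hmem : ∀ y ∈ (xs.map (algebraMap A B)).map (algebraMap B (Localization.AtPrime q)),
      y ∈ maximalIdeal (Localization.AtPrime q) := by
    intro y hy
    obtain ⟨b, hb, rfl⟩ := List.mem_map.1 hy
    obtain ⟨x, hx, rfl⟩ := List.mem_map.1 hb
    rw [IsLocalization.AtPrime.to_map_mem_maximal_iff (Localization.AtPrime q) q]
    show x ∈ q.comap (algebraMap A B)
    rw [hq]
    exact hxs x hx
  have := DepthCM3.length_le_idealDepth
    (I := maximalIdeal (Localization.AtPrime q))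
    (M := LocalizedModule q.primeCompl M) _ h1 hmem
  rwa [List.length_map, List.length_map] at this

end transfer

section maximal

variable {A : Type u} [CommRing A] [IsNoetherianRing A]
  (M : Type u) [AddCommGroup M] [Module A M] [Module.Finite A M] (p : Ideal A) [p.IsPrime]

/-- a maximal weakly regular sequence on `M_p` consisting of (images of) elements of `p`. -/
theorem exists_maximal_numerators [Nontrivial (LocalizedModule p.primeCompl M)] :
    ∃ xs : List A, (∀ x ∈ xs, x ∈ p) ∧
      IsWeaklyRegular (LocalizedModule p.primeCompl M)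
        (xs.map (algebraMap A (Localization.AtPrime p))) ∧
      (∀ a ∈ p, ¬ IsWeaklyRegular (LocalizedModule p.primeCompl M)
        ((xs ++ [a]).map (algebraMap A (Localization.AtPrime p)))) ∧
      (xs.length : ℕ∞) = LocCoh.depth (Localization.AtPrime p)
        (LocalizedModule p.primeCompl M) := by
  set g := algebraMap A (Localization.AtPrime p) with hg
  set Mp := LocalizedModule p.primeCompl M with hMp
  have hIM := Depth.smul_top_ne_top (Localization.AtPrime p) Mp
  have hdtop := DepthCM.idealDepth_ne_top (maximalIdeal (Localization.AtPrime p)) Mp hIM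
  have hmemg : ∀ xs : List A, (∀ x ∈ xs, x ∈ p) → ∀ y ∈ xs.map g,
      y ∈ maximalIdeal (Localization.AtPrime p) := by
    intro xs hxs y hy
    obtain ⟨x, hx, rfl⟩ := List.mem_map.1 hy
    rw [IsLocalization.AtPrime.to_map_mem_maximal_iff (Localization.AtPrime p) p]
    exact hxs x hx
  -- existence of a maximal one
  have hex : ∃ xs : List A, (∀ x ∈ xs, x ∈ p) ∧ IsWeaklyRegular Mp (xs.map g) ∧
      ∀ a ∈ p, ¬ IsWeaklyRegular Mp ((xs ++ [a]).map g) := by
    by_contra hcon
    push_neg at hcon
    have hall : ∀ n : ℕ, ∃ xs : List A, xs.length = n ∧ (∀ x ∈ xs, x ∈ p) ∧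
        IsWeaklyRegular Mp (xs.map g) := by
      intro n
      induction n with
      | zero => exact ⟨[], rfl, by simp, by simpa using IsWeaklyRegular.nil _ Mp⟩
      | succ n ih =>
        obtain ⟨xs, hlen, hxs, hreg⟩ := ih
        obtain ⟨a, ha, hreg'⟩ := hcon xs hxs hreg
        refine ⟨xs ++ [a], by simp [hlen], ?_, hreg'⟩
        intro x hx
        rcases List.mem_append.1 hx with h | h
        · exact hxs x h
        · rw [List.mem_singleton] at h; rw [h]; exact ha
    obtain ⟨d, hd⟩ := ENat.ne_top_iff_exists.mp hdtop
    obtain ⟨xs, hlen, hxs, hreg⟩ := hall (d + 1)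
    have h1 := DepthCM3.length_le_idealDepth (I := maximalIdeal (Localization.AtPrime p))
      (M := Mp) _ hreg (hmemg xs hxs)
    rw [List.length_map, hlen, ← hd] at h1
    have : d + 1 ≤ d := by exact_mod_cast h1
    omega
  obtain ⟨xs, hxs, hreg, hmax⟩ := hex
  refine ⟨xs, hxs, hreg, hmax, ?_⟩
  have hmax' : ∀ r ∈ maximalIdeal (Localization.AtPrime p),
      ¬ IsWeaklyRegular Mp (xs.map g ++ [r]) := by
    intro r hr hcon
    obtain ⟨a, s, rfl⟩ := IsLocalization.exists_mk'_eq p.primeCompl r
    have hga : g a = g s * IsLocalization.mk' (Localization.AtPrime p) a s := by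
      rw [mul_comm, IsLocalization.mk'_spec]
    have hap : a ∈ p := by
      rw [← IsLocalization.AtPrime.to_map_mem_maximal_iff (Localization.AtPrime p) p, ← hg, hga]
      exact Ideal.mul_mem_left _ _ hr
    apply hmax a hap
    rw [isWeaklyRegular_append_iff] at hcon
    rw [List.map_append, isWeaklyRegular_append_iff]
    refine ⟨hcon.1, ?_⟩
    have h2 := hcon.2
    rw [isWeaklyRegular_singleton_iff] at h2
    rw [List.map_singleton, isWeaklyRegular_singleton_iff, hga]
    have hunit : IsUnit (g s) := IsLocalization.map_units (Localization.AtPrime p) s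
    exact IsSMulRegular.mul (hunit.isSMulRegular _) h2
  have := DepthRees.length_eq_idealDepth_of_maximal (I := maximalIdeal (Localization.AtPrime p))
    Mp hIM (xs.map g) hreg (hmemg xs hxs) hmax'
  rw [List.length_map] at this
  exact this

end maximal

end Groth.Agent.Helper5.RSD
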