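import Mathlib
import Groth.Prelude.Def_CAlg
import Groth.Agent.Helper5.RSE2
import Groth.Agent.Helper5.RSD3

set_option autoImplicit false
universe u

namespace Groth.Agent.Helper5.RSD

open RingTheory.Sequence IsLocalRing Groth.Agent.Helper2

variable {A B : Type u} [CommRing A] [CommRing B] [Algebra A B]
  [IsNoetherianRing A] [IsNoetherianRing B]
  (M : Type u) [AddCommGroup M] [Module B M] [Module A M] [IsScalarTower A B M]
  [Module.Finite A M]

theorem exists_depth_eq (p : Ideal A) [hp : p.IsPrime]
    [hnt : Nontrivial (LocalizedModule p.primeCompl M)] :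
    ∃ q : PrimeSpectrum B, q.asIdeal.comap (algebraMap A B) = p ∧ q ∈ Module.support B M ∧
      LocCoh.depth (Localization.AtPrime q.asIdeal) (LocalizedModule q.asIdeal.primeCompl M) =
        LocCoh.depth (Localization.AtPrime p) (LocalizedModule p.primeCompl M) := by
  haveI hfinB : Module.Finite B M := finite_of_finite (A := A) (B := B) M
  obtain ⟨xs, hxs, hreg, hmax, hlen⟩ := exists_maximal_numerators M p
  set g := algebraMap A (Localization.AtPrime p) with hg
  set f := algebraMap A B with hf
  set I := Ideal.ofList xs with hI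
  have hIM := Depth.smul_top_ne_top (Localization.AtPrime p) (LocalizedModule p.primeCompl M)
  have hmemg : ∀ y ∈ xs.map g, y ∈ maximalIdeal (Localization.AtPrime p) := by
    intro y hy
    obtain ⟨x, hx, rfl⟩ := List.mem_map.1 hy
    rw [IsLocalization.AtPrime.to_map_mem_maximal_iff (Localization.AtPrime p) p]
    exact hxs x hx
  -- (a) depth of the quotient is zero
  have hadd := DepthCM.idealDepth_quot_ofList (maximalIdeal (Localization.AtPrime p))
    (LocalizedModule p.primeCompl M) hIM (xs.map g) hreg hmemg
  rw [← Ideal.map_ofList, ← DepthCM.idealDepth_congr _ (DepthCM4.locQuotEquiv p M I),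
    List.length_map] at hadd
  have hlen' : (xs.length : ℕ∞) = LocCoh.idealDepth (maximalIdeal (Localization.AtPrime p))
      (LocalizedModule p.primeCompl M) := hlen
  have hd0 : LocCoh.depth (Localization.AtPrime p)
      (LocalizedModule p.primeCompl (M ⧸ (I • ⊤ : Submodule A M))) = 0 := by
    have h1 : LocCoh.idealDepth (maximalIdeal (Localization.AtPrime p))
        (LocalizedModule p.primeCompl (M ⧸ (I • ⊤ : Submodule A M))) + xs.length
          = 0 + xs.length := by
      rw [hadd, zero_add, hlen']
    exact ENat.add_left_injective_of_ne_top (by simp) h1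
  -- (b)
  have hNnt : Nontrivial (LocalizedModule p.primeCompl (M ⧸ (I • ⊤ : Submodule A M))) := by
    by_contra hcon
    rw [not_nontrivial_iff_subsingleton] at hcon
    rw [DepthLoc.depth_eq_top_of_subsingleton] at hd0
    exact absurd hd0 (by simp)
  -- (c)
  have hass : maximalIdeal (Localization.AtPrime p) ∈ associatedPrimes (Localization.AtPrime p)
      (LocalizedModule p.primeCompl (M ⧸ (I • ⊤ : Submodule A M))) := by
    apply Ass.maximalIdeal_mem_ass_of_forall_not_regular
    exact (Depth.depth_eq_zero_iff _ _).mp hd0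
  have hpass : p ∈ associatedPrimes A (M ⧸ (I • ⊤ : Submodule A M)) := by
    have := Module.associatedPrimes.comap_mem_associatedPrimes_of_mem_associatedPrimes_of_isLocalizedModule_of_fg
      p.primeCompl (LocalizedModule.mkLinearMap p.primeCompl (M ⧸ (I • ⊤ : Submodule A M)))
      (maximalIdeal (Localization.AtPrime p)) hass
      ((isNoetherianRing_iff_ideal_fg A).mp inferInstance _)
    have e : (maximalIdeal (Localization.AtPrime p)).comap (algebraMap A (Localization.AtPrime p))
        = p := IsLocalization.AtPrime.under_maximalIdeal (Localization.AtPrime p) p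
    rwa [e] at this
  -- (d)
  rw [AssociatedPrimes.mem_iff, isAssociatedPrime_iff] at hpass
  obtain ⟨-, z, hz⟩ := hpass
  obtain ⟨m, rfl⟩ := Submodule.Quotient.mk_surjective _ z
  have hpm : ∀ a : A, a ∈ p ↔ a • m ∈ (I • ⊤ : Submodule A M) := by
    intro a
    rw [hz, Submodule.mem_colon_singleton, Submodule.mem_bot, ← Submodule.Quotient.mk_smul,
      Submodule.Quotient.mk_eq_zero]
  set zB : M ⧸ ((I.map f) • ⊤ : Submodule B M) := Submodule.Quotient.mk m with hzB
  set 𝔞 : Ideal B := (Submodule.span B {zB}).annihilator with h𝔞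
  have h𝔞mem : ∀ b : B, b ∈ 𝔞 ↔ b • m ∈ ((I.map f) • ⊤ : Submodule B M) := by
    intro b
    rw [h𝔞, Submodule.mem_annihilator_span_singleton, hzB, ← Submodule.Quotient.mk_smul,
      Submodule.Quotient.mk_eq_zero]
  have hcomap : 𝔞.comap f = p := by
    ext a
    rw [Ideal.mem_comap, h𝔞mem, mem_smul_top_iff, hf, algebraMap_smul, hpm]
  have hann : Module.annihilator B M ≤ 𝔞 := by
    intro b hb
    rw [Module.mem_annihilator] at hb
    rw [h𝔞mem, hb m]
    exact zero_mem _
  obtain ⟨P, h𝔞P, hPprime, hPc⟩ := exists_prime_over (A := A) M 𝔞 hann p (le_of_eq hcomap)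
  obtain ⟨q, hqmin, hqP⟩ := Ideal.exists_minimalPrimes_le h𝔞P
  have hqprime : q.IsPrime := hqmin.1.1
  have h𝔞q : 𝔞 ≤ q := hqmin.1.2
  have hqc : q.comap f = p := by
    apply le_antisymm
    · rw [← hPc]; exact Ideal.comap_mono hqP
    · rw [← hcomap]; exact Ideal.comap_mono h𝔞q
  have hqass : q ∈ associatedPrimes B (M ⧸ ((I.map f) • ⊤ : Submodule B M)) := by
    have h1 : q ∈ associatedPrimes B (Submodule.span B {zB}) :=
      Module.associatedPrimes.minimalPrimes_annihilator_subset_associatedPrimes B
        (Submodule.span B {zB}) hqmin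
    exact associatedPrimes.subset_of_injective (Submodule.injective_subtype _) h1
  have hqsupp : (⟨q, hqprime⟩ : PrimeSpectrum B) ∈ Module.support B M := by
    rw [Module.mem_support_iff_of_finite]
    exact hann.trans h𝔞q
  refine ⟨⟨q, hqprime⟩, hqc, hqsupp, ?_⟩
  show LocCoh.depth (Localization.AtPrime q) (LocalizedModule q.primeCompl M) = _
  -- (e)
  have hassloc := Module.associatedPrimes.mem_associatedPrimes_atPrime_of_mem_associatedPrimes hqass
  have hNq_nt : Nontrivial (LocalizedModule q.primeCompl
      (M ⧸ ((I.map f) • ⊤ : Submodule B M))) := by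
    by_contra hcon
    rw [not_nontrivial_iff_subsingleton] at hcon
    exact not_isAssociatedPrime_of_subsingleton hassloc
  have hd0q : LocCoh.depth (Localization.AtPrime q) (LocalizedModule q.primeCompl
      (M ⧸ ((I.map f) • ⊤ : Submodule B M))) = 0 := by
    rw [Depth.depth_eq_zero_iff]
    intro b hb
    exact Depth.not_regular_of_mem_ass _ _ _ hassloc b hb
  have hMq_nt : Nontrivial (LocalizedModule q.primeCompl M) := Module.mem_support_iff.1 hqsupp
  have h1 := isWeaklyRegular_transfer M p q hqc xs hreg
  have hmem' : ∀ y ∈ (xs.map f).map (algebraMap B (Localization.AtPrime q)),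
      y ∈ maximalIdeal (Localization.AtPrime q) := by
    intro y hy
    obtain ⟨b, hb, rfl⟩ := List.mem_map.1 hy
    obtain ⟨x, hx, rfl⟩ := List.mem_map.1 hb
    rw [IsLocalization.AtPrime.to_map_mem_maximal_iff (Localization.AtPrime q) q]
    show x ∈ q.comap f
    rw [hqc]
    exact hxs x hx
  have hadd' := DepthCM.idealDepth_quot_ofList (maximalIdeal (Localization.AtPrime q))
    (LocalizedModule q.primeCompl M) (Depth.smul_top_ne_top _ _) _ h1 hmem'
  rw [← Ideal.map_ofList, ← Ideal.map_ofList,
    ← DepthCM.idealDepth_congr _ (DepthCM4.locQuotEquiv q M (I.map f)),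
    List.length_map, List.length_map] at hadd'
  have hd0q' : LocCoh.idealDepth (maximalIdeal (Localization.AtPrime q))
      (LocalizedModule q.primeCompl (M ⧸ ((I.map f) • ⊤ : Submodule B M))) = 0 := hd0q
  rw [hd0q', zero_add] at hadd'
  show LocCoh.idealDepth (maximalIdeal (Localization.AtPrime q))
      (LocalizedModule q.primeCompl M) = _
  rw [← hadd']
  exact hlen

theorem depth_eq_iInf (p : Ideal A) [hp : p.IsPrime] :
    LocCoh.depth (Localization.AtPrime p) (LocalizedModule p.primeCompl M) =
      ⨅ q ∈ {q : PrimeSpectrum B | q.asIdeal.comap (algebraMap A B) = p ∧ q ∈ Module.support B M},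
        LocCoh.depth (Localization.AtPrime q.asIdeal) (LocalizedModule q.asIdeal.primeCompl M) := by
  by_cases hpM : Nontrivial (LocalizedModule p.primeCompl M)
  · obtain ⟨q, hq1, hq2, hq3⟩ := exists_depth_eq (A := A) (B := B) M p
    apply le_antisymm
    · apply le_iInf₂
      intro q' hq'
      obtain ⟨xs, hxs, hreg, -, hlen⟩ := exists_maximal_numerators M p
      rw [← hlen]
      exact length_le_depth_of_transfer M p q'.asIdeal hq'.1 xs hxs hreg
    · exact le_trans (iInf₂_le q ⟨hq1, hq2⟩) (le_of_eq hq3)
  · rw [not_nontrivial_iff_subsingleton] at hpM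
    rw [DepthLoc.depth_eq_top_of_subsingleton]
    symm
    rw [iInf₂_eq_top]
    intro q hq
    exfalso
    have h1 := comap_mem_support (A := A) M q hq.2
    have e : q.comap (algebraMap A B) = ⟨p, hp⟩ := by
      apply PrimeSpectrum.ext
      exact hq.1
    rw [e, Module.mem_support_iff] at h1
    exact not_subsingleton _ hpM

end Groth.Agent.Helper5.RSD
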