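import Mathlib
import Groth.Prelude.Def_CAlg
import Groth.Agent.Helper5.RSE3

set_option autoImplicit false
universe u

namespace Groth.Agent.Helper5.RSD

open RingTheory.Sequence IsLocalRing Groth.Agent.Helper2

variable {A B : Type u} [CommRing A] [CommRing B] [Algebra A B]
  [IsNoetherianRing A] [IsNoetherianRing B]
  (M : Type u) [AddCommGroup M] [Module B M] [Module A M] [IsScalarTower A B M]
  [Module.Finite A M]

theorem hasSk_up (k : ℕ) (h : LocCoh.HasSk k A M) : LocCoh.HasSk k B M := by
  intro q hq
  by_cases hsupp : (⟨q, hq⟩ : PrimeSpectrum B) ∈ Module.support B M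
  · set p := q.comap (algebraMap A B) with hp
    haveI : p.IsPrime := Ideal.comap_isPrime _ _
    have hmem : (⟨q, hq⟩ : PrimeSpectrum B) ∈
        {q : PrimeSpectrum B | q.asIdeal.comap (algebraMap A B) = p ∧ q ∈ Module.support B M} :=
      ⟨rfl, hsupp⟩
    have h1 := h p
    have hdim := supportDim_eq_iSup (A := A) (B := B) M p
    have hdep := depth_eq_iInf (A := A) (B := B) M p
    have hdim' : Module.supportDim (Localization.AtPrime q) (LocalizedModule q.primeCompl M) ≤
        Module.supportDim (Localization.AtPrime p) (LocalizedModule p.primeCompl M) := by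
      rw [hdim]
      exact le_iSup₂_of_le (⟨q, hq⟩ : PrimeSpectrum B) hmem le_rfl
    have hdep' : LocCoh.depth (Localization.AtPrime p) (LocalizedModule p.primeCompl M) ≤
        LocCoh.depth (Localization.AtPrime q) (LocalizedModule q.primeCompl M) := by
      rw [hdep]
      exact iInf₂_le_of_le (⟨q, hq⟩ : PrimeSpectrum B) hmem le_rfl
    calc min (k : WithBot ℕ∞)
          (Module.supportDim (Localization.AtPrime q) (LocalizedModule q.primeCompl M))
        ≤ min (k : WithBot ℕ∞)
          (Module.supportDim (Localization.AtPrime p) (LocalizedModule p.primeCompl M)) :=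
          min_le_min le_rfl hdim'
      _ ≤ _ := h1
      _ ≤ _ := WithBot.coe_le_coe.2 hdep'
  · rw [Module.mem_support_iff] at hsupp
    rw [not_nontrivial_iff_subsingleton] at hsupp
    rw [DepthLoc.depth_eq_top_of_subsingleton]
    exact le_top

theorem hasSk_down (k : ℕ)
    (heq : ∀ q ∈ Module.support B M, ∀ q' ∈ Module.support B M,
          q.asIdeal.comap (algebraMap A B) = q'.asIdeal.comap (algebraMap A B) →
            Module.supportDim (Localization.AtPrime q.asIdeal)
              (LocalizedModule q.asIdeal.primeCompl M) =
              Module.supportDim (Localization.AtPrime q'.asIdeal)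
                (LocalizedModule q'.asIdeal.primeCompl M))
    (h : LocCoh.HasSk k B M) : LocCoh.HasSk k A M := by
  intro p hp
  have hdim := supportDim_eq_iSup (A := A) (B := B) M p
  have hdep := depth_eq_iInf (A := A) (B := B) M p
  set d := Module.supportDim (Localization.AtPrime p) (LocalizedModule p.primeCompl M) with hd
  -- every q in the fibre has dimension d
  have hall : ∀ q ∈ {q : PrimeSpectrum B | q.asIdeal.comap (algebraMap A B) = p ∧
      q ∈ Module.support B M},
      Module.supportDim (Localization.AtPrime q.asIdeal)
        (LocalizedModule q.asIdeal.primeCompl M) = d := by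
    intro q hq
    rw [hdim]
    apply le_antisymm
    · exact le_iSup₂_of_le q hq le_rfl
    · refine iSup₂_le ?_
      intro q' hq'
      exact le_of_eq (heq q' hq'.2 q hq.2 (hq'.1.trans hq.1.symm))
  rcases h' : min (k : WithBot ℕ∞) d with _ | y
  · exact bot_le
  · rw [hdep]
    refine WithBot.coe_le_coe.2 (le_iInf₂ ?_)
    intro q hq
    have h2 := h q.asIdeal
    rw [hall q hq, h'] at h2
    exact WithBot.coe_le_coe.1 h2

end Groth.Agent.Helper5.RSD
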