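import Mathlib
import Groth.Prelude
import Groth.Agent.Helper5.FlatOrbit2

set_option autoImplicit false
set_option linter.unusedSectionVars false
set_option linter.style.haveILetI false
universe u

open AlgebraicGeometry CategoryTheory CategoryTheory.Limits
open MonoidalCategory CartesianMonoidalCategory MonObj

namespace Groth.Agent.Helper5.FlatOrbit

theorem s5347 (A : Type u) [CommRing A] [IsArtinianRing A] [IsLocalRing A]
    (G X : Over (Spec (CommRingCat.of A))) [GrpObj G] [Flat G.hom]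
    (a : AlgGrp.Action G X) (s₀ : 𝟙_ (Over (Spec (CommRingCat.of A))) ⟶ X)
    (h : ∃ g : G.left, ((a.orbitMap s₀).left.stalkMap g).hom.Flat) :
    Flat (a.orbitMap s₀).left := by
  obtain ⟨x, hx⟩ := h
  haveI : Subsingleton (Spec (CommRingCat.of A)) := by
    show Subsingleton (PrimeSpectrum A)
    infer_instance
  haveI : Flat a.act.left := flat_act a
  refine Flat.of_stalkMap _ fun y => ?_
  exact flat_stalkMap_transfer (a.orbitMap s₀) a.act (whiskerLeft_orbitMap_act a s₀) x y
    (Subsingleton.elim _ _) hx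

variable {S : Scheme.{u}} {G H : Over S} [GrpObj G] [GrpObj H]

theorem lift_homAct (u : G ⟶ H) {T : Over S} (g : T ⟶ G) (h : T ⟶ H) :
    lift g h ≫ (u ▷ H) ≫ μ[H] = (g ≫ u) * h := by
  have : lift g h ≫ (u ▷ H) = lift (g ≫ u) h := by ext <;> simp
  rw [reassoc_of% this, Hom.mul_def]

/-- the action of `G` on `H` by left translation through a homomorphism -/
noncomputable def homAction (u : G ⟶ H) [IsMonHom u] : AlgGrp.Action G H where
  act := (u ▷ H) ≫ μ[H]
  one_act := by
    rw [← comp_whiskerRight_assoc, IsMonHom.one_hom, MonObj.one_mul]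
  mul_act := by
    have e : 𝟙 ((G ⊗ G) ⊗ H) =
        lift (lift (fst _ _ ≫ fst _ _) (fst _ _ ≫ snd _ _)) (snd _ _) := by
      ext <;> simp
    rw [← Category.id_comp ((μ[G] ▷ H) ≫ (u ▷ H) ≫ μ[H]),
      ← Category.id_comp ((α_ G G H).hom ≫ _), e]
    set p1 : (G ⊗ G) ⊗ H ⟶ G := fst _ _ ≫ fst _ _
    set p2 : (G ⊗ G) ⊗ H ⟶ G := fst _ _ ≫ snd _ _
    set p3 : (G ⊗ G) ⊗ H ⟶ H := snd _ _
    have h1 : lift (lift p1 p2) p3 ≫ (μ[G] ▷ H) = lift (p1 * p2) p3 := by
      ext
      · simp [Hom.mul_def]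
      · simp
    have h2 : lift (lift p1 p2) p3 ≫ (α_ G G H).hom = lift p1 (lift p2 p3) := by
      ext <;> simp
    have h3 : lift p1 (lift p2 p3) ≫ (G ◁ ((u ▷ H) ≫ μ[H])) = lift p1 ((p2 ≫ u) * p3) := by
      ext
      · simp
      · simp only [Category.assoc, whiskerLeft_snd, lift_snd_assoc, lift_snd]
        exact congrArg Over.Hom.left (lift_homAct u p2 p3)
    rw [reassoc_of% h1, lift_homAct, reassoc_of% h2, reassoc_of% h3, lift_homAct,
      MonObj.mul_comp, _root_.mul_assoc]

theorem orbitMap_homAction (u : G ⟶ H) [IsMonHom u] :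
    (homAction u).orbitMap η[H] = u := by
  rw [AlgGrp.Action.orbitMap]
  show lift (𝟙 G) (toUnit G ≫ η[H]) ≫ (u ▷ H) ≫ μ[H] = u
  rw [lift_homAct, Category.id_comp, ← Hom.one_def, _root_.mul_one]

theorem s5336 (A : Type u) [CommRing A] [IsArtinianRing A] [IsLocalRing A]
    (G H : Over (Spec (CommRingCat.of A))) [GrpObj G] [GrpObj H]
    [Flat G.hom] (u : G ⟶ H) [IsMonHom u]
    (h : ∃ x : G.left, (u.left.stalkMap x).hom.Flat) : Flat u.left := by
  have := s5347 A G H (homAction u) η[H]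
  rw [orbitMap_homAction] at this
  exact this h

end Groth.Agent.Helper5.FlatOrbit
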