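import Mathlib
import Groth.Agent.Helper2.FlatFibre

set_option autoImplicit false
set_option linter.style.haveILetI false
universe u
open TensorProduct IsLocalRing RingTheory.Sequence Function
open scoped Pointwise

namespace Groth.Agent.Helper5.RelGCI

lemma exact_lsmul_mkQ {B : Type u} [CommRing B] (N : Type u) [AddCommGroup N] [Module B N] (r : B) :
    Exact (LinearMap.lsmul B N r) (r • (⊤ : Submodule B N)).mkQ := by
  rw [LinearMap.exact_iff, Submodule.ker_mkQ]
  ext x
  simp only [LinearMap.mem_range, LinearMap.lsmul_apply]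
  rw [Submodule.mem_smul_pointwise_iff_exists]
  constructor
  · rintro ⟨y, -, rfl⟩; exact ⟨y, rfl⟩
  · rintro ⟨y, rfl⟩; exact ⟨y, Submodule.mem_top, rfl⟩

section

variable {A B : Type u} [CommRing A] [CommRing B] [IsLocalRing A] [IsLocalRing B]
  [IsNoetherianRing A] [IsNoetherianRing B] [Algebra A B] [IsLocalHom (algebraMap A B)]

set_option maxHeartbeats 1000000 in
/-- a sequence which is regular on the fibre of a finite flat module is regular on the module,
with flat successive quotients -/
theorem flat_regular_of_fibre : ∀ (rs : List B) (N : Type u) [AddCommGroup N] [Module B N]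
    [Module A N] [IsScalarTower A B N] [Module.Finite B N] [Module.Flat A N],
    IsWeaklyRegular ((B ⧸ (maximalIdeal A).map (algebraMap A B)) ⊗[B] N) rs →
    IsWeaklyRegular N rs ∧ ∀ i, i ≤ rs.length →
      Module.Flat A (N ⧸ (Ideal.ofList (rs.take i) • ⊤ : Submodule B N)) := by
  intro rs
  induction rs with
  | nil =>
    intro N _ _ _ _ _ _ _
    refine ⟨IsWeaklyRegular.nil B N, ?_⟩
    intro i _
    have h0 : (Ideal.ofList (([] : List B).take i) • ⊤ : Submodule B N) = ⊥ := by
      rw [List.take_nil, Ideal.ofList_nil, Submodule.bot_smul]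
    exact Module.Flat.of_linearEquiv
      ((Submodule.quotEquivOfEqBot _ h0).restrictScalars A)
  | cons r rs' ih =>
    intro N _ _ _ _ _ _ h
    rw [isWeaklyRegular_cons_iff] at h
    obtain ⟨hr, hrs'⟩ := h
    set I : Ideal B := (maximalIdeal A).map (algebraMap A B) with hI
    have hr' : IsSMulRegular (N ⧸ (I • ⊤ : Submodule B N)) r :=
      ((TensorProduct.quotTensorEquivQuotSMul N I).isSMulRegular_congr r).1 hr
    have hf : ∀ z : N, r • z ∈ (I • ⊤ : Submodule B N) → z ∈ (I • ⊤ : Submodule B N) := by
      intro z hz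
      have h1 : r • (Submodule.Quotient.mk z : N ⧸ (I • ⊤ : Submodule B N)) = r • 0 := by
        rw [smul_zero, ← Submodule.Quotient.mk_smul]
        exact (Submodule.Quotient.mk_eq_zero _).2 hz
      exact (Submodule.Quotient.mk_eq_zero _).1 (hr' h1)
    have hreg : IsSMulRegular N r := Groth.Agent.Helper2.FlatFibre.regular (A := A) r hf
    haveI hflat : Module.Flat A (QuotSMulTop r N) :=
      Groth.Agent.Helper2.FlatFibre.flat_quot (A := A) r hf (r • (⊤ : Submodule B N)).mkQ
        (Submodule.mkQ_surjective _) (exact_lsmul_mkQ N r)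
    have hrs'' : IsWeaklyRegular ((B ⧸ I) ⊗[B] QuotSMulTop r N) rs' :=
      ((QuotSMulTop.tensorQuotSMulTopEquivQuotSMulTop r (B ⧸ I) N).isWeaklyRegular_congr rs').2 hrs'
    obtain ⟨ih1, ih2⟩ := ih (QuotSMulTop r N) hrs''
    refine ⟨(isWeaklyRegular_cons_iff N r rs').2 ⟨hreg, ih1⟩, ?_⟩
    intro i hi
    cases i with
    | zero =>
      have h0 : (Ideal.ofList ((r :: rs').take 0) • ⊤ : Submodule B N) = ⊥ := by
        rw [List.take_zero, Ideal.ofList_nil, Submodule.bot_smul]
      exact Module.Flat.of_linearEquiv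
        ((Submodule.quotEquivOfEqBot _ h0).restrictScalars A)
    | succ j =>
      have hj : j ≤ rs'.length := by simpa using hi
      haveI := ih2 j hj
      rw [List.take_succ_cons]
      exact Module.Flat.of_linearEquiv
        ((Submodule.quotOfListConsSMulTopEquivQuotSMulTopInner N r (rs'.take j)).restrictScalars A)

end

end Groth.Agent.Helper5.RelGCI
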