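import Mathlib
import Groth.Agent.Helper5.FtDim8
import Groth.Agent.Helper5.SyntDim2

set_option autoImplicit false
set_option linter.style.haveILetI false
universe u
open Order

namespace Groth.Agent.Helper5.RegLoc

/-- in an equidimensional finite type algebra over a field the local dimension is constant -/
theorem localDim_of_equidim (K B : Type u) [Field K] [CommRing B] [Algebra K B]
    [Algebra.FiniteType K B] (d : ℕ)
    (heq : ∀ P ∈ minimalPrimes B, ringKrullDim (B ⧸ P) = (d : WithBot ℕ∞)) (Q : PrimeSpectrum B) :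
    FlatMor.localDim (PrimeSpectrum B) Q = (d : WithBot ℕ∞) := by
  rw [Groth.Agent.Helper5.FtDim.localDim_eq K B Q]
  have hco : ∀ P : PrimeSpectrum B, P.asIdeal ∈ minimalPrimes B → coheight P = (d : ℕ∞) := by
    intro P hP
    have h1 := heq _ hP
    rw [Groth.Agent.Helper5.FtDim.ringKrullDim_quotient_eq_coheight P] at h1
    exact_mod_cast h1
  have hdim : ringKrullDim B ≤ (d : WithBot ℕ∞) := by
    rw [ringKrullDim, Order.krullDim_eq_iSup_coheight]
    refine iSup_le fun a => ?_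
    obtain ⟨𝔓, h𝔓, hle⟩ := Ideal.exists_minimalPrimes_le (bot_le : (⊥ : Ideal B) ≤ a.asIdeal)
    let P' : PrimeSpectrum B := ⟨𝔓, h𝔓.1.1⟩
    have h2 : coheight a ≤ coheight P' := coheight_anti (show P' ≤ a from hle)
    rw [hco P' h𝔓] at h2
    exact_mod_cast h2
  apply le_antisymm
  · have h1 := Groth.Agent.Helper5.FtDim.height_add_dim_quotient_le Q.asIdeal
    rw [Groth.Agent.Helper5.FtDim.ringKrullDim_quotient_eq_coheight,
      PrimeSpectrum.height_eq_orderHeight] at h1
    exact (by exact_mod_cast h1 : ((height Q + coheight Q : ℕ∞) : WithBot ℕ∞) ≤ ringKrullDim B).trans hdim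
  · obtain ⟨𝔓, h𝔓, hle⟩ := Ideal.exists_minimalPrimes_le (bot_le : (⊥ : Ideal B) ≤ Q.asIdeal)
    let P' : PrimeSpectrum B := ⟨𝔓, h𝔓.1.1⟩
    have h2 := Groth.Agent.Helper5.FtDim.coheight_le_height_add_coheight' K B Q P' hle
    rw [hco P' h𝔓] at h2
    calc ((d : ℕ) : WithBot ℕ∞) = (((d : ℕ) : ℕ∞) : WithBot ℕ∞) := rfl
      _ ≤ _ := WithBot.coe_le_coe.2 h2

end Groth.Agent.Helper5.RegLoc
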