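import Mathlib
import Groth.Agent.Helper5.LocDomTr1

set_option autoImplicit false
set_option linter.style.haveILetI false
set_option linter.unusedSectionVars false
universe u
open CategoryTheory AlgebraicGeometry

namespace Groth.Agent.Helper5.LocDomTr

/-- ring-level: the localized map is isomorphic to any other model of it -/
theorem localRingHom_arrow {A C : Type u} [CommRing A] [CommRing C] [Algebra A C]
    (q : Ideal C) [hq : q.IsPrime] (p : Ideal A) [hp : p.IsPrime]
    (hpq : p = q.comap (algebraMap A C))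
    (A' B' : Type u) [CommRing A'] [CommRing B'] [Algebra A A'] [Algebra C B'] [Algebra A' B']
    [Algebra A B'] [IsScalarTower A A' B'] [IsScalarTower A C B']
    [IsLocalization.AtPrime A' p] [IsLocalization.AtPrime B' q] :
    ∃ (a₁ : Localization.AtPrime p ≃+* A') (a₂ : Localization.AtPrime q ≃+* B'),
      ∀ b, a₂ (Localization.localRingHom p q (algebraMap A C) hpq b) = algebraMap A' B' (a₁ b) := by
  let a₁ : Localization.AtPrime p ≃ₐ[A] A' := IsLocalization.algEquiv p.primeCompl _ A'
  let a₂ : Localization.AtPrime q ≃ₐ[C] B' := IsLocalization.algEquiv q.primeCompl _ B'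
  refine ⟨a₁.toRingEquiv, a₂.toRingEquiv, ?_⟩
  have key : ((a₂ : Localization.AtPrime q →+* B').comp
      (Localization.localRingHom p q (algebraMap A C) hpq)) =
      (algebraMap A' B').comp (a₁ : Localization.AtPrime p →+* A') := by
    apply IsLocalization.ringHom_ext p.primeCompl
    ext r
    simp only [RingHom.comp_apply]
    rw [Localization.localRingHom_to_map]
    show a₂ (algebraMap C _ (algebraMap A C r)) = algebraMap A' B' (a₁ (algebraMap A _ r))
    rw [AlgEquiv.commutes, AlgEquiv.commutes, ← IsScalarTower.algebraMap_apply,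
      ← IsScalarTower.algebraMap_apply]
  intro b
  exact congrArg (fun f => f b) key

set_option maxHeartbeats 1000000 in
/-- the stalk map of `Spec C → Spec A` at a prime is isomorphic to any model of the
localized map -/
theorem spec_stalk_arrow {A C : Type u} [CommRing A] [CommRing C] [Algebra A C]
    (q : Ideal C) [hq : q.IsPrime] (p : Ideal A) [hp : p.IsPrime]
    (hpq : p = q.comap (algebraMap A C))
    (A' B' : Type u) [CommRing A'] [CommRing B'] [Algebra A A'] [Algebra C B'] [Algebra A' B']
    [Algebra A B'] [IsScalarTower A A' B'] [IsScalarTower A C B']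
    [IsLocalization.AtPrime A' p] [IsLocalization.AtPrime B' q] :
    ∃ (e₁ : (Spec (CommRingCat.of A)).presheaf.stalk
        ((Spec.map (CommRingCat.ofHom (algebraMap A C))) (⟨q, hq⟩ : PrimeSpectrum C)) ≃+* A')
      (e₂ : (Spec (CommRingCat.of C)).presheaf.stalk (⟨q, hq⟩ : PrimeSpectrum C) ≃+* B'),
      ∀ a, e₂ (((Spec.map (CommRingCat.ofHom (algebraMap A C))).stalkMap
        (⟨q, hq⟩ : PrimeSpectrum C)).hom a) = algebraMap A' B' (e₁ a) := by
  subst hpq
  obtain ⟨a₁, a₂, ha⟩ := localRingHom_arrow q (q.comap (algebraMap A C)) rfl A' B'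
  let x : PrimeSpectrum C := ⟨q, hq⟩
  let φ : CommRingCat.of A ⟶ CommRingCat.of C := CommRingCat.ofHom (algebraMap A C)
  let s₁ := Spec.stalkIso (CommRingCat.of A) (x.comap φ.hom)
  let s₂ := Spec.stalkIso (CommRingCat.of C) x
  refine ⟨s₁.commRingCatIsoToRingEquiv.trans a₁, s₂.commRingCatIsoToRingEquiv.trans a₂, ?_⟩
  intro a
  have h1 := Scheme.localRingHom_comp_stalkIso φ x
  have h3 : ((Spec.map φ).stalkMap x).hom a = s₂.inv.hom
      (Localization.localRingHom (PrimeSpectrum.comap φ.hom x).asIdeal x.asIdeal φ.hom rfl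
        (s₁.hom.hom a)) := by
    rw [← h1]; rfl
  have h4 : ∀ y, s₂.hom.hom (s₂.inv.hom y) = y := fun y =>
    congrArg (fun f => f.hom y) s₂.inv_hom_id
  show a₂ (s₂.hom.hom (((Spec.map φ).stalkMap x).hom a)) = algebraMap A' B' (a₁ (s₁.hom.hom a))
  rw [h3, h4, ← ha]
  rfl

end Groth.Agent.Helper5.LocDomTr
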