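import Mathlib
import Groth.Agent.Helper5.LocDomTr2
import Groth.Agent.Helper5.CMFib1
import Groth.Agent.Helper2.FlatLoc

set_option autoImplicit false
set_option linter.style.haveILetI false
universe u
open CategoryTheory AlgebraicGeometry IsLocalRing

namespace Groth.Agent.Helper5.RegLoc

open Groth.Agent.Helper5.LocDomTr Groth.Agent.Helper5.CMFib

set_option maxHeartbeats 1000000 in
/-- the fibre local ring `S_q/pS_q` is the local ring of the scheme-theoretic fibre -/
theorem fibLocRing_equiv_fibre_stalk (R S : Type u) [CommRing R] [CommRing S] [Algebra R S]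
    (q : PrimeSpectrum S) :
    Nonempty (EGA4.FibLocRing R S q.asIdeal ≃+*
      ((Spec.map (CommRingCat.ofHom (algebraMap R S))).fiber
        ((Spec.map (CommRingCat.ofHom (algebraMap R S))) q)).presheaf.stalk
          ((Spec.map (CommRingCat.ofHom (algebraMap R S))).asFiber q)) := by
  obtain ⟨q, hq⟩ := q
  let p : Ideal R := q.comap (algebraMap R S)
  haveI hp : p.IsPrime := Ideal.comap_isPrime _ _
  haveI : q.LiesOver p := ⟨rfl⟩
  letI := Localization.AtPrime.algebraOfLiesOver p q
  haveI : IsLocalHom (algebraMap (Localization.AtPrime p) (Localization.AtPrime q)) :=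
    Localization.isLocalHom_localRingHom _ _ _ Ideal.LiesOver.over
  obtain ⟨e₁, e₂, he⟩ := spec_stalk_arrow q p rfl (Localization.AtPrime p) (Localization.AtPrime q)
  obtain ⟨eq⟩ := nonempty_quotient_equiv
    ((Spec.map (CommRingCat.ofHom (algebraMap R S))).stalkMap (⟨q, hq⟩ : PrimeSpectrum S)).hom
    (algebraMap (Localization.AtPrime p) (Localization.AtPrime q)) e₁ e₂ he
  obtain ⟨e3⟩ := fibre_stalk_equiv' (Spec.map (CommRingCat.ofHom (algebraMap R S)))
    (⟨q, hq⟩ : PrimeSpectrum S)
  have hI : (maximalIdeal (Localization.AtPrime p)).map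
      (algebraMap (Localization.AtPrime p) (Localization.AtPrime q)) =
      p.map (algebraMap R (Localization.AtPrime q)) := by
    rw [← Localization.AtPrime.map_eq_maximalIdeal, Ideal.map_map, ← IsScalarTower.algebraMap_eq]
  exact ⟨(Ideal.quotEquivOfEq hI.symm).trans (eq.symm.trans e3)⟩

end Groth.Agent.Helper5.RegLoc
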