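import Mathlib
import Groth.Agent.Helper6.CINormal
import Groth.Prelude.Def_EGA4b

set_option autoImplicit false
set_option linter.style.haveILetI false
universe u
open IsLocalRing

namespace Groth.Agent.Helper5.RegLoc

open Groth.Agent.Helper6.CINormal

set_option maxHeartbeats 1000000 in
/-- the fibre local ring of a quotient is the quotient of the fibre local ring -/
theorem fibLocRing_quotient_equiv (R S : Type u) [CommRing R] [CommRing S] [Algebra R S]
    (J : Ideal S) (q : Ideal S) [hq : q.IsPrime] (hJq : J ≤ q) (qbar : Ideal (S ⧸ J))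
    [hqbar : qbar.IsPrime] (hqq : qbar = q.map (Ideal.Quotient.mk J)) :
    Nonempty ((EGA4.FibLocRing R S q ⧸
        (J.map (algebraMap S (EGA4.FibLocRing R S q)))) ≃+* EGA4.FibLocRing R (S ⧸ J) qbar) := by
  subst hqq
  let Sq := Localization.AtPrime q
  let p : Ideal R := q.comap (algebraMap R S)
  have hp' : (q.map (Ideal.Quotient.mk J)).comap (algebraMap R (S ⧸ J)) = p := by
    ext r
    show Ideal.Quotient.mk J (algebraMap R S r) ∈ q.map (Ideal.Quotient.mk J) ↔ _
    rw [mem_map_mk_iff J q hJq]
    rfl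
  haveI hloc : IsLocalization.AtPrime (Sq ⧸ J.map (algebraMap S Sq)) (q.map (Ideal.Quotient.mk J)) :=
    isLocalization_atPrime J q hJq
  let ea : Localization.AtPrime (q.map (Ideal.Quotient.mk J)) ≃ₐ[S ⧸ J]
      (Sq ⧸ J.map (algebraMap S Sq)) :=
    IsLocalization.algEquiv (q.map (Ideal.Quotient.mk J)).primeCompl _ _
  -- step (ii)
  have h2 : p.map (algebraMap R (Sq ⧸ J.map (algebraMap S Sq))) =
      (((q.map (Ideal.Quotient.mk J)).comap (algebraMap R (S ⧸ J))).map
        (algebraMap R (Localization.AtPrime (q.map (Ideal.Quotient.mk J))))).map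
          (ea : Localization.AtPrime (q.map (Ideal.Quotient.mk J)) →+*
            (Sq ⧸ J.map (algebraMap S Sq))) := by
    rw [hp', Ideal.map_map]
    congr 1
    ext r
    simp only [RingHom.comp_apply]
    rw [IsScalarTower.algebraMap_apply R (S ⧸ J)
      (Localization.AtPrime (q.map (Ideal.Quotient.mk J)))]
    show _ = ea (algebraMap (S ⧸ J) _ _)
    rw [AlgEquiv.commutes]
    rfl
  let e2 := Ideal.quotientEquiv _ _ ea.toRingEquiv h2
  -- step (iii)
  let e3 := DoubleQuot.quotQuotEquivComm (J.map (algebraMap S Sq)) (p.map (algebraMap R Sq))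
  have h3 : (p.map (algebraMap R Sq)).map (Ideal.Quotient.mk (J.map (algebraMap S Sq))) =
      p.map (algebraMap R (Sq ⧸ J.map (algebraMap S Sq))) := by
    rw [Ideal.map_map]
    rfl
  have h4 : (J.map (algebraMap S Sq)).map (Ideal.Quotient.mk (p.map (algebraMap R Sq))) =
      J.map (algebraMap S (EGA4.FibLocRing R S q)) := by
    rw [Ideal.map_map]
    rfl
  exact ⟨(Ideal.quotEquivOfEq h4.symm).trans (e3.symm.trans ((Ideal.quotEquivOfEq h3).trans e2.symm))⟩

end Groth.Agent.Helper5.RegLoc
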