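import Mathlib
import Groth.Agent.Helper5.RegLoc1
import Groth.Agent.Helper5.RegLoc2
import Groth.Agent.Helper5.RegLoc3
import Groth.Agent.Helper5.RegLoc4
import Groth.Agent.Helper5.SpecFib4
import Groth.Agent.Helper5.FibCodim
import Groth.Agent.Helper5.SubDim5

set_option autoImplicit false
set_option linter.style.haveILetI false
universe u
open CategoryTheory AlgebraicGeometry IsLocalRing RingTheory.Sequence TensorProduct

namespace Groth.Agent.Helper5.RegLoc

variable (R S : Type u) [CommRing R] [CommRing S] [Algebra R S]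

/-- Cohen–Macaulay fibre rings give Cohen–Macaulay fibre local rings -/
theorem cm_fibre_stalk (x : PrimeSpectrum S)
    (hCM : ∀ p : PrimeSpectrum R, LocCoh.IsCohenMacaulayRing (p.asIdeal.Fiber S)) :
    LocCoh.IsCohenMacaulayLocalRing
      (((Spec.map (CommRingCat.ofHom (algebraMap R S))).fiber
        ((Spec.map (CommRingCat.ofHom (algebraMap R S))) x)).presheaf.stalk
          ((Spec.map (CommRingCat.ofHom (algebraMap R S))).asFiber x)) := by
  set f := Spec.map (CommRingCat.ofHom (algebraMap R S)) with hf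
  let p : PrimeSpectrum R := f x
  let E := Groth.Agent.Helper5.SpecFib.fiberIso R S p
  let z : ↥(f.fiber p) := f.asFiber x
  haveI := hCM p
  haveI h1 := Groth.Agent.Helper5.PiDecomp.cm_stalk_Spec (p.asIdeal.Fiber S) (E.hom z)
  exact Groth.Agent.Lead.CMCl.cm_of_ringEquiv
    (asIso (E.hom.stalkMap z)).commRingCatIsoToRingEquiv

/-- equidimensional fibre rings of dimension `d` give constant fibre dimension `d` -/
theorem fibreDimAt_of_equidim [Algebra.FiniteType R S] (d : ℕ)
    (heq : ∀ p : PrimeSpectrum R, ∀ P ∈ minimalPrimes (p.asIdeal.Fiber S),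
      ringKrullDim (p.asIdeal.Fiber S ⧸ P) = (d : WithBot ℕ∞)) (q : PrimeSpectrum S) :
    FlatMor.fibreDimAt (Spec.map (CommRingCat.ofHom (algebraMap R S))) q = (d : WithBot ℕ∞) := by
  obtain ⟨Q, hQ⟩ := Groth.Agent.Helper5.SpecFib.exists_over R S q
  rw [← Groth.Agent.Helper5.SpecFib.localDim_fibre_eq R S q Q hQ]
  let p : PrimeSpectrum R := ⟨q.asIdeal.under R, inferInstance⟩
  exact localDim_of_equidim p.asIdeal.ResidueField (p.asIdeal.Fiber S) d (heq p) Q

end Groth.Agent.Helper5.RegLoc
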