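import Mathlib
import Groth.Agent.Helper5.RegLoc5

set_option autoImplicit false
set_option linter.style.haveILetI false
universe u
open CategoryTheory AlgebraicGeometry IsLocalRing RingTheory.Sequence TensorProduct

namespace Groth.Agent.Helper5.RegLoc

variable (R S : Type u) [CommRing R] [CommRing S] [Algebra R S]

set_option maxHeartbeats 1000000 in
theorem regular_iff [Algebra.FiniteType R S] (d : ℕ)
    (hCM : ∀ p : PrimeSpectrum R, LocCoh.IsCohenMacaulayRing (p.asIdeal.Fiber S))
    (heq : ∀ p : PrimeSpectrum R, ∀ P ∈ minimalPrimes (p.asIdeal.Fiber S),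
      ringKrullDim (p.asIdeal.Fiber S ⧸ P) = (d : WithBot ℕ∞))
    (f : List S) (z : PrimeSpectrum (S ⧸ Ideal.ofList f)) (q : PrimeSpectrum S)
    (hq : q.asIdeal = z.asIdeal.comap (Ideal.Quotient.mk (Ideal.ofList f))) :
    IsRegular (EGA4.FibLocRing R S q.asIdeal)
        (f.map (algebraMap S (EGA4.FibLocRing R S q.asIdeal))) ↔
      FlatMor.fibreDimAt (Spec.map (CommRingCat.ofHom (algebraMap R (S ⧸ Ideal.ofList f)))) z +
        (f.length : WithBot ℕ∞) ≤ (d : WithBot ℕ∞) := by
  let J : Ideal S := Ideal.ofList f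
  let A := EGA4.FibLocRing R S q.asIdeal
  have hJq : J ≤ q.asIdeal := by
    rw [hq]
    intro x hx
    show Ideal.Quotient.mk J x ∈ z.asIdeal
    rw [Ideal.Quotient.eq_zero_iff_mem.2 hx]
    exact z.asIdeal.zero_mem
  have hzq : z.asIdeal = q.asIdeal.map (Ideal.Quotient.mk J) := by
    rw [hq, Ideal.map_comap_of_surjective _ Ideal.Quotient.mk_surjective]
  -- the local ring `A` is Cohen–Macaulay
  obtain ⟨eF⟩ := fibLocRing_equiv_fibre_stalk R S q
  haveI hcmA : LocCoh.IsCohenMacaulayLocalRing A :=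
    Groth.Agent.Lead.CMCl.cm_of_ringEquiv eF.symm (h := cm_fibre_stalk R S q hCM)
  have hmem : ∀ x ∈ f.map (algebraMap S A), x ∈ maximalIdeal A := by
    intro x hx
    rw [List.mem_map] at hx
    obtain ⟨y, hy, rfl⟩ := hx
    have hyq : y ∈ q.asIdeal := hJq (Ideal.subset_span hy)
    have h1 : algebraMap S (Localization.AtPrime q.asIdeal) y ∈
        maximalIdeal (Localization.AtPrime q.asIdeal) :=
      (IsLocalization.AtPrime.to_map_mem_maximal_iff _ q.asIdeal y).2 hyq
    rw [IsScalarTower.algebraMap_apply S (Localization.AtPrime q.asIdeal) A]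
    by_contra hnot
    rw [IsLocalRing.mem_maximalIdeal, mem_nonunits_iff, not_not] at hnot
    have hloc : IsLocalHom (algebraMap (Localization.AtPrime q.asIdeal) A) :=
      IsLocalHom.of_surjective _ Ideal.Quotient.mk_surjective
    exact (IsLocalRing.mem_maximalIdeal _).1 h1 (hloc.map_nonunit _ hnot)
  rw [isRegular_iff_dim A hcmA _ hmem, ← Ideal.map_ofList, List.length_map]
  -- dimensions
  obtain ⟨eQ⟩ := fibLocRing_quotient_equiv R S J q.asIdeal hJq z.asIdeal hzq
  obtain ⟨eF'⟩ := fibLocRing_equiv_fibre_stalk R (S ⧸ J) z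
  rw [ringKrullDim_eq_of_ringEquiv eQ, ringKrullDim_eq_of_ringEquiv eF',
    ringKrullDim_eq_of_ringEquiv eF]
  set φ := Spec.map (CommRingCat.ofHom (algebraMap R S)) with hφ
  set g := Spec.map (CommRingCat.ofHom (algebraMap R (S ⧸ J))) with hg
  haveI : LocallyOfFiniteType φ := by
    rw [hφ, HasRingHomProperty.Spec_iff (P := @LocallyOfFiniteType)]
    exact RingHom.finiteType_algebraMap.2 inferInstance
  haveI : LocallyOfFiniteType g := by
    rw [hg, HasRingHomProperty.Spec_iff (P := @LocallyOfFiniteType)]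
    exact RingHom.finiteType_algebraMap.2 inferInstance
  obtain ⟨k, n, hk, -, hn, hkn⟩ := Groth.Agent.Helper5.SubDim.fibreDimAt_eq φ q
  obtain ⟨k', n', hk', -, hn', hkn'⟩ := Groth.Agent.Helper5.SubDim.fibreDimAt_eq g z
  have hd := fibreDimAt_of_equidim R S d heq q
  -- the transcendence degrees agree
  let ι : Spec (CommRingCat.of (S ⧸ J)) ⟶ Spec (CommRingCat.of S) :=
    Spec.map (CommRingCat.ofHom (Ideal.Quotient.mk J))
  haveI : IsClosedImmersion ι := IsClosedImmersion.spec_of_surjective _ Ideal.Quotient.mk_surjective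
  have hgι : g = ι ≫ φ := by
    rw [hg, hφ, ← Spec.map_comp]
    rfl
  have hιz : ι z = q := by
    apply PrimeSpectrum.ext
    exact hq.symm
  have htr := Groth.Agent.Helper5.SubDim.trdeg_closedImmersion_comp ι φ z
  have key : ∀ (g' : Spec (CommRingCat.of (S ⧸ J)) ⟶ Spec (CommRingCat.of R)) (_ : g' = ι ≫ φ)
      (q' : ↥(Spec (CommRingCat.of S))) (_ : ι z = q'),
      @Algebra.trdeg ((Spec (CommRingCat.of R)).residueField (g' z))
        ((Spec (CommRingCat.of (S ⧸ J))).residueField z) _ _
        (g'.residueFieldMap z).hom.toAlgebra =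
      @Algebra.trdeg ((Spec (CommRingCat.of R)).residueField (φ q'))
        ((Spec (CommRingCat.of S)).residueField q') _ _
        (φ.residueFieldMap q').hom.toAlgebra := by
    intro g' hg' q' hq'
    subst hg' hq'
    exact htr
  have hnn : n' = n := by
    have h1 := key g hgι q hιz
    rw [hn, hn'] at h1
    exact_mod_cast h1
  subst hnn
  rw [hk, hk', hkn']
  rw [hkn] at hd
  have hd' : k + n' = d := by exact_mod_cast hd
  constructor
  · intro h
    have h1 : k' + f.length ≤ k := by exact_mod_cast h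
    exact_mod_cast (by omega : k' + n' + f.length ≤ d)
  · intro h
    have h1 : k' + n' + f.length ≤ d := by exact_mod_cast h
    exact_mod_cast (by omega : k' + f.length ≤ k)

end Groth.Agent.Helper5.RegLoc
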