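import Mathlib

set_option autoImplicit false
set_option linter.style.haveILetI false
universe u
open MvPolynomial

namespace Groth.Agent.Helper5.RelGCI

/-- an ideal of a polynomial ring over a finitely generated subalgebra which becomes the unit ideal
over the whole ring already becomes the unit ideal over a larger finitely generated subalgebra -/
theorem exists_fg_map_eq_top {R : Type u} [CommRing R] {σ : Type*} (R₁ : Subalgebra ℤ R)
    (hfg : R₁.FG) (J : Ideal (MvPolynomial σ R₁))
    (hJ : J.map (MvPolynomial.map (algebraMap R₁ R)) = ⊤) :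
    ∃ (R' : Subalgebra ℤ R) (h : R₁ ≤ R'), R'.FG ∧
      J.map (MvPolynomial.map ((Subalgebra.inclusion h : R₁ →ₐ[ℤ] R') : R₁ →+* R')) = ⊤ := by
  classical
  set μ : MvPolynomial σ R₁ →+* MvPolynomial σ R := MvPolynomial.map (algebraMap R₁ R) with hμ
  have h1 : (1 : MvPolynomial σ R) ∈ Ideal.span (μ '' (J : Set (MvPolynomial σ R₁))) := by
    have : Ideal.span (μ '' (J : Set (MvPolynomial σ R₁))) = J.map μ := rfl
    rw [this, hJ]; trivial
  obtain ⟨coef, t, ht, hsupp, hsum⟩ := Submodule.mem_span_iff_exists_finset_subset.1 h1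
  have hg : ∀ a, a ∈ t → ∃ g : MvPolynomial σ R₁, g ∈ J ∧ μ g = a := by
    intro a ha
    obtain ⟨g, hgJ, hga⟩ := ht ha
    exact ⟨g, hgJ, hga⟩
  choose! g hgJ hga using hg
  let C : Set R := ⋃ a ∈ t, ((coef a).coeffs : Set R)
  have hCfin : C.Finite := Set.Finite.biUnion t.finite_toSet fun a _ => Finset.finite_toSet _
  let R' : Subalgebra ℤ R := R₁ ⊔ Algebra.adjoin ℤ C
  have h : R₁ ≤ R' := le_sup_left
  have hC : C ⊆ R' := fun x hx => (le_sup_right : Algebra.adjoin ℤ C ≤ R') (Algebra.subset_adjoin hx)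
  refine ⟨R', h, hfg.sup ((by rw [← hCfin.coe_toFinset]; exact Subalgebra.fg_adjoin_finset _)), ?_⟩
  set μ' : MvPolynomial σ R' →+* MvPolynomial σ R := MvPolynomial.map (algebraMap R' R) with hμ'
  set μ₁ : MvPolynomial σ R₁ →+* MvPolynomial σ R' :=
    MvPolynomial.map ((Subalgebra.inclusion h : R₁ →ₐ[ℤ] R') : R₁ →+* R') with hμ₁
  have hcomp : ∀ y, μ' (μ₁ y) = μ y := by
    intro y
    rw [hμ', hμ₁, hμ, MvPolynomial.map_map]
    rfl
  have hinj : Function.Injective μ' := MvPolynomial.map_injective _ Subtype.val_injective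
  have hlift : ∀ a, a ∈ t → ∃ a' : MvPolynomial σ R', μ' a' = coef a := by
    intro a ha
    have : coef a ∈ Set.range (MvPolynomial.map (algebraMap R' R)) := by
      rw [MvPolynomial.mem_range_map_iff_coeffs_subset]
      intro x hx
      have hxC : x ∈ C := Set.mem_biUnion ha hx
      exact ⟨⟨x, hC hxC⟩, rfl⟩
    exact this
  choose! a' ha' using hlift
  rw [Ideal.eq_top_iff_one]
  have hz : (∑ a ∈ t, a' a * μ₁ (g a)) ∈ J.map μ₁ :=
    Ideal.sum_mem _ fun a ha => Ideal.mul_mem_left _ _ (Ideal.mem_map_of_mem _ (hgJ a ha))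
  have h1' : (∑ a ∈ t, a' a * μ₁ (g a)) = 1 := by
    apply hinj
    rw [map_sum, map_one, ← hsum]
    refine Finset.sum_congr rfl fun a ha => ?_
    rw [map_mul, ha' a ha, hcomp, hga a ha, smul_eq_mul]
  rwa [h1'] at hz

end Groth.Agent.Helper5.RelGCI
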