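import Mathlib
import Groth.Agent.Helper5.RelGCI3
import Groth.Agent.Helper5.RelGCI4
import Groth.Agent.Helper5.RelGCI5

set_option autoImplicit false
set_option linter.style.haveILetI false
universe u
open CategoryTheory CategoryTheory.Limits AlgebraicGeometry TensorProduct MvPolynomial

namespace Groth.Agent.Helper5.RelGCI

/-- a relative global complete intersection with nontrivial ring has `c ≤ n` -/
theorem le_of_isRelGCI_of_nontrivial (R : Type u) [CommRing R] (n c : ℕ)
    (F : Fin c → MvPolynomial (Fin n) R) (h : Synt.IsRelGCI R n c F)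
    [Nontrivial (Synt.RelGCIRing R n c F)] : c ≤ n := by
  obtain ⟨m, hm⟩ := Ideal.exists_maximal (Synt.RelGCIRing R n c F)
  let q : PrimeSpectrum (Synt.RelGCIRing R n c F) := ⟨m, hm.isPrime⟩
  obtain ⟨Q, hQ⟩ := Groth.Agent.Helper5.SpecFib.exists_over R (Synt.RelGCIRing R n c F) q
  let p : PrimeSpectrum R := ⟨q.asIdeal.under R, inferInstance⟩
  haveI : Nontrivial (p.asIdeal.Fiber (Synt.RelGCIRing R n c F)) :=
    ⟨⟨0, 1, fun h => Q.isPrime.ne_top ((Ideal.eq_top_iff_one _).2 (h ▸ Q.asIdeal.zero_mem))⟩⟩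
  exact (h p inferInstance).1

/-- a presentation with trivial ring is vacuously a relative global complete intersection -/
theorem isRelGCI_of_subsingleton (R : Type u) [CommRing R] (n c : ℕ)
    (F : Fin c → MvPolynomial (Fin n) R) [Subsingleton (Synt.RelGCIRing R n c F)] :
    Synt.IsRelGCI R n c F := by
  intro p hnt
  exfalso
  have h1 : (1 : p.asIdeal.Fiber (Synt.RelGCIRing R n c F)) = 0 := by
    have : (1 : p.asIdeal.Fiber (Synt.RelGCIRing R n c F)) =
        (1 : p.asIdeal.ResidueField) ⊗ₜ[R] (1 : Synt.RelGCIRing R n c F) := rfl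
    rw [this, Subsingleton.elim (1 : Synt.RelGCIRing R n c F) 0, TensorProduct.tmul_zero]
  exact hnt.exists_pair_ne.elim fun a ha => ha.elim fun b hab =>
    hab (eq_of_zero_eq_one h1.symm a b)

set_option maxHeartbeats 1000000 in
theorem main (R : Type u) [CommRing R] (R₁ : Subalgebra ℤ R) (hfg : R₁.FG) (n c : ℕ)
    (F₁ : Fin c → MvPolynomial (Fin n) R₁)
    (h : Synt.IsRelGCI R n c (fun i => MvPolynomial.map (algebraMap R₁ R) (F₁ i))) :
    ∃ (R' : Subalgebra ℤ R) (hle : R₁ ≤ R'), R'.FG ∧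
      Synt.IsRelGCI R' n c
        (fun i => MvPolynomial.map ((Subalgebra.inclusion hle : R₁ →ₐ[ℤ] R') : R₁ →+* R') (F₁ i)) := by
  by_cases hcn : c ≤ n
  · have hR : ∀ q : PrimeSpectrum
          (Synt.RelGCIRing R n c (fun i => MvPolynomial.map (algebraMap R₁ R) (F₁ i))),
        FlatMor.fibreDimAt (Spec.map (CommRingCat.ofHom (algebraMap R
          (Synt.RelGCIRing R n c (fun i => MvPolynomial.map (algebraMap R₁ R) (F₁ i)))))) q ≤
          ((n - c : ℕ) : WithBot ℕ∞) := fun q =>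
      (Groth.Agent.Helper5.SyntDim.s9366 R n c _ h q).le
    have hJ := (map_badIdeal_eq_top_iff R₁ R n c F₁ ((n - c : ℕ) : WithBot ℕ∞)).2 hR
    obtain ⟨R', hle, hfg', hJ'⟩ := exists_fg_map_eq_top R₁ hfg _ hJ
    refine ⟨R', hle, hfg', ?_⟩
    letI : Algebra R₁ R' := ((Subalgebra.inclusion hle : R₁ →ₐ[ℤ] R') : R₁ →+* R').toAlgebra
    have hR' := (map_badIdeal_eq_top_iff R₁ R' n c F₁ ((n - c : ℕ) : WithBot ℕ∞)).1 hJ'
    exact isRelGCI_of_fibreDimAt_le R' n c _ hcn hR'
  · have hsub : Subsingleton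
        (Synt.RelGCIRing R n c (fun i => MvPolynomial.map (algebraMap R₁ R) (F₁ i))) := by
      by_contra hns
      rw [not_subsingleton_iff_nontrivial] at hns
      exact hcn (le_of_isRelGCI_of_nontrivial R n c _ h)
    have htop : Ideal.span (Set.range (fun i => MvPolynomial.map (algebraMap R₁ R) (F₁ i))) = ⊤ :=
      Ideal.Quotient.subsingleton_iff.1 hsub
    have hJ : (Ideal.span (Set.range F₁)).map (MvPolynomial.map (algebraMap R₁ R)) = ⊤ := by
      rw [Ideal.map_span, ← Set.range_comp]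
      exact htop
    obtain ⟨R', hle, hfg', hJ'⟩ := exists_fg_map_eq_top R₁ hfg _ hJ
    refine ⟨R', hle, hfg', ?_⟩
    rw [Ideal.map_span, ← Set.range_comp] at hJ'
    haveI : Subsingleton (Synt.RelGCIRing R' n c
        (fun i => MvPolynomial.map ((Subalgebra.inclusion hle : R₁ →ₐ[ℤ] R') : R₁ →+* R') (F₁ i))) :=
      Ideal.Quotient.subsingleton_iff.2 hJ'
    exact isRelGCI_of_subsingleton R' n c _

theorem s9148 (R : Type u) [CommRing R] (n c : ℕ)
    (F : Fin c → MvPolynomial (Fin n) R) (h : Synt.IsRelGCI R n c F) :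
    ∃ (R₀ : Subalgebra ℤ R) (F₀ : Fin c → MvPolynomial (Fin n) R₀), Algebra.FiniteType ℤ R₀ ∧
      (∀ i, MvPolynomial.map (algebraMap R₀ R) (F₀ i) = F i) ∧ Synt.IsRelGCI R₀ n c F₀ := by
  classical
  let C : Set R := ⋃ i, ((F i).coeffs : Set R)
  have hCfin : C.Finite := Set.finite_iUnion fun i => Finset.finite_toSet _
  let R₁ : Subalgebra ℤ R := Algebra.adjoin ℤ C
  have hfg : R₁.FG := by
    show (Algebra.adjoin ℤ C).FG
    rw [← hCfin.coe_toFinset]; exact Subalgebra.fg_adjoin_finset _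
  have hlift : ∀ i, ∃ G : MvPolynomial (Fin n) R₁, MvPolynomial.map (algebraMap R₁ R) G = F i := by
    intro i
    have : F i ∈ Set.range (MvPolynomial.map (algebraMap R₁ R)) := by
      rw [MvPolynomial.mem_range_map_iff_coeffs_subset]
      intro x hx
      have hxC : x ∈ C := Set.mem_iUnion.2 ⟨i, hx⟩
      exact ⟨⟨x, Algebra.subset_adjoin hxC⟩, rfl⟩
    exact this
  choose F₁ hF₁ using hlift
  have hF : F = fun i => MvPolynomial.map (algebraMap R₁ R) (F₁ i) := funext fun i => (hF₁ i).symm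
  rw [hF] at h
  obtain ⟨R', hle, hfg', hrel⟩ := main R R₁ hfg n c F₁ h
  refine ⟨R', fun i => MvPolynomial.map ((Subalgebra.inclusion hle : R₁ →ₐ[ℤ] R') : R₁ →+* R') (F₁ i),
    (Subalgebra.fg_iff_finiteType R').1 hfg', ?_, hrel⟩
  intro i
  rw [MvPolynomial.map_map, ← hF₁ i]
  rfl

end Groth.Agent.Helper5.RelGCI
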