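import Mathlib
import Groth.Agent.Helper6.CINormal
import Groth.Agent.Helper5.FtDim4
import Groth.Agent.Lead.CMCl
import Groth.Prelude.Def_RegImm

set_option autoImplicit false
set_option linter.style.haveILetI false
universe u
open CategoryTheory TensorProduct Order IsLocalRing Module

namespace Groth.Agent.Helper5.SyntCM

/-- an ideal of a polynomial ring whose quotient has dimension at most `n - c` has height at
least `c` -/
theorem le_height_of_dim_quot_le (k : Type u) [Field k] (n c : ℕ) (hcn : c ≤ n)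
    (J : Ideal (MvPolynomial (Fin n) k))
    (hdim : ringKrullDim (MvPolynomial (Fin n) k ⧸ J) ≤ ((n - c : ℕ) : WithBot ℕ∞)) :
    (c : ℕ∞) ≤ J.height := by
  rw [Ideal.height_eq_inf_minimalPrimes]
  refine le_iInf₂ fun 𝔓 h𝔓 => ?_
  haveI : 𝔓.IsPrime := h𝔓.1.1
  have h1 := Groth.Agent.Helper5.FtDim.height_add_dim_quotient k (MvPolynomial (Fin n) k) 𝔓
  rw [Groth.Agent.Helper5.DimBC.dim_mvPolynomial] at h1
  have h2 : ringKrullDim (MvPolynomial (Fin n) k ⧸ 𝔓) ≤ ((n - c : ℕ) : WithBot ℕ∞) :=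
    (ringKrullDim_le_of_surjective (Ideal.Quotient.factor h𝔓.1.2)
      (Ideal.Quotient.factor_surjective h𝔓.1.2)).trans hdim
  have h3 : ((n : ℕ) : WithBot ℕ∞) ≤ (𝔓.height : WithBot ℕ∞) + ((n - c : ℕ) : WithBot ℕ∞) := by
    rw [← h1]; gcongr
  have h3' : (((n : ℕ) : ℕ∞) : WithBot ℕ∞) ≤ ((𝔓.height + ((n - c : ℕ) : ℕ∞) : ℕ∞) : WithBot ℕ∞) := by
    rw [WithBot.coe_add]; exact h3
  have h4 : ((n : ℕ) : ℕ∞) ≤ 𝔓.height + ((n - c : ℕ) : ℕ∞) := WithBot.coe_le_coe.1 h3'
  rcases eq_or_ne 𝔓.height ⊤ with htop | hne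
  · rw [htop]; exact le_top
  · obtain ⟨a, ha⟩ := ENat.ne_top_iff_exists.1 hne
    rw [← ha] at h4 ⊢
    have : n ≤ a + (n - c) := by exact_mod_cast h4
    exact_mod_cast (by omega : c ≤ a)


open Groth.Agent.Helper6.CINormal in
/-- the local rings of `k[x_1, …, x_n]/(r_1, …, r_c)` are Cohen–Macaulay as soon as the ideal has
height at least `c` -/
theorem cm_localization_quot (k : Type u) [Field k] (n c : ℕ)
    (r : Fin c → MvPolynomial (Fin n) k) (J : Ideal (MvPolynomial (Fin n) k))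
    (hJdef : J = Ideal.span (Set.range r))
    (hJ : (c : ℕ∞) ≤ J.height)
    (Q : Ideal (MvPolynomial (Fin n) k ⧸ J)) [hQ : Q.IsPrime] :
    LocCoh.IsCohenMacaulayLocalRing (Localization.AtPrime Q) := by
  classical
  let m : Ideal (MvPolynomial (Fin n) k) := Q.comap (Ideal.Quotient.mk J)
  haveI hmprime : m.IsPrime := Ideal.comap_isPrime _ _
  have hJm : J ≤ m := by
    intro x hx
    show Ideal.Quotient.mk J x ∈ Q
    rw [Ideal.Quotient.eq_zero_iff_mem.2 hx]
    exact Q.zero_mem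
  have hfm : ∀ i, r i ∈ m := fun i => hJm (by rw [hJdef]; exact Ideal.subset_span ⟨i, rfl⟩)
  have hQeq : m.map (Ideal.Quotient.mk J) = Q :=
    Ideal.map_comap_of_surjective _ Ideal.Quotient.mk_surjective Q
  let A := Localization.AtPrime m
  haveI : IsRegularLocalRing A := IsRegularRing.isRegularLocalRing_localization m
  have hCM : LocCoh.IsCohenMacaulayModule A A :=
    Groth.Agent.Helper2.RegCM.cm_of_isRegularLocalRing A
  let xs : List A := List.ofFn (fun i => algebraMap (MvPolynomial (Fin n) k) A (r i))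
  have hxs : xs.length = c := List.length_ofFn
  have hmem : ∀ x ∈ xs, x ∈ maximalIdeal A := by
    intro x hx
    rw [List.mem_ofFn] at hx
    obtain ⟨i, rfl⟩ := hx
    rw [← Ideal.mem_comap, ← Ideal.under_def, IsLocalization.AtPrime.under_maximalIdeal A m]
    exact hfm i
  have hJle : J ≤ (Ideal.ofList xs).under (MvPolynomial (Fin n) k) := by
    rw [hJdef, Ideal.span_le]
    rintro _ ⟨i, rfl⟩
    show algebraMap _ A (r i) ∈ Ideal.ofList xs
    exact Ideal.subset_span (List.mem_ofFn.2 ⟨i, rfl⟩)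
  have hht : (xs.length : ℕ∞) ≤ (Ideal.ofList xs).height := by
    rw [hxs, ← IsLocalization.height_under m.primeCompl (Ideal.ofList xs)]
    exact hJ.trans (Ideal.height_mono hJle)
  obtain ⟨h1, hCMq⟩ := cm_quot_of_height hCM xs hmem hht
  let I : Ideal A := J.map (algebraMap (MvPolynomial (Fin n) k) A)
  have hI : I = Ideal.ofList xs • (⊤ : Submodule A A) := by
    rw [smul_eq_mul, Ideal.mul_top]
    show Ideal.map _ J = _
    rw [hJdef, Ideal.map_span]
    unfold Ideal.ofList
    congr 1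
    ext x
    simp only [Set.mem_image, Set.mem_range, exists_exists_eq_and,
      Set.mem_ofPred_eq, xs, List.mem_ofFn]
  have hIle : I ≤ maximalIdeal A := by
    rw [hI, smul_eq_mul, Ideal.mul_top]
    exact Ideal.span_le.2 (fun x hx => hmem x hx)
  haveI hnt : Nontrivial (A ⧸ I) :=
    Ideal.Quotient.nontrivial_iff.2 (fun h => (maximalIdeal.isMaximal A).ne_top
      (top_le_iff.1 (h ▸ hIle)))
  haveI : IsLocalRing (A ⧸ I) := inferInstance
  obtain ⟨hdimC, hdepthC⟩ := quot_dim_depth I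
  have hCMC : ringKrullDim (A ⧸ I) =
      ((LocCoh.depth (A ⧸ I) (A ⧸ I) : ℕ∞) : WithBot ℕ∞) := by
    rw [hdimC, hdepthC, supportDim_eq_of_equiv (Submodule.quotEquivOfEq _ _ hI)]
    have : LocCoh.depth A (A ⧸ I) =
        LocCoh.depth A (A ⧸ Ideal.ofList xs • (⊤ : Submodule A A)) :=
      Groth.Agent.Helper2.DepthCM.idealDepth_congr (maximalIdeal A)
        (Submodule.quotEquivOfEq _ _ hI)
    rw [this]
    exact hCMq
  haveI hLoc : IsLocalization.AtPrime (A ⧸ I) Q := by
    have := isLocalization_atPrime J m hJm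
    convert this
    exact hQeq.symm
  let e : Localization.AtPrime Q ≃ₐ[MvPolynomial (Fin n) k ⧸ J] (A ⧸ I) :=
    IsLocalization.algEquiv Q.primeCompl (Localization.AtPrime Q) (A ⧸ I)
  haveI : LocCoh.IsCohenMacaulayLocalRing (A ⧸ I) :=
    { supportDim_eq_depth := by rw [Module.supportDim_self_eq_ringKrullDim]; exact hCMC }
  exact Groth.Agent.Lead.CMCl.cm_of_ringEquiv (R := A ⧸ I) (S := Localization.AtPrime Q)
    e.symm.toRingEquiv

end Groth.Agent.Helper5.SyntCM
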