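import Mathlib
import Groth.Agent.Helper5.SyntCM1

set_option autoImplicit false
set_option linter.style.haveILetI false
universe u
open CategoryTheory TensorProduct Order IsLocalRing Module

namespace Groth.Agent.Helper5.SyntCM

/-- Cohen–Macaulayness of all local rings transports along a ring isomorphism -/
theorem cm_localization_of_ringEquiv {R S : Type u} [CommRing R] [CommRing S] (e : R ≃+* S)
    (h : ∀ (Q : Ideal R) [Q.IsPrime], LocCoh.IsCohenMacaulayLocalRing (Localization.AtPrime Q))
    (P : Ideal S) [hP : P.IsPrime] : LocCoh.IsCohenMacaulayLocalRing (Localization.AtPrime P) := by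
  let Q : Ideal R := P.comap e.toRingHom
  haveI hQ : Q.IsPrime := Ideal.comap_isPrime _ _
  haveI := h Q
  have H : Q.primeCompl.map e.toMonoidHom = P.primeCompl := by
    ext x
    constructor
    · rintro ⟨y, hy, rfl⟩
      exact hy
    · intro hx
      refine ⟨e.symm x, ?_, by simp⟩
      show e.symm x ∉ Q
      intro hmem
      apply hx
      have : e (e.symm x) ∈ P := hmem
      simpa using this
  exact Groth.Agent.Lead.CMCl.cm_of_ringEquiv
    (IsLocalization.ringEquivOfRingEquiv (Localization.AtPrime Q) (Localization.AtPrime P) e H)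

/-- the local rings of a nonzero global complete intersection are Cohen–Macaulay -/
theorem cm_of_globalCI (k S : Type u) [Field k] [CommRing S] [Algebra k S]
    (h : Synt.IsGlobalCI k S) (P : Ideal S) [hP : P.IsPrime] :
    LocCoh.IsCohenMacaulayLocalRing (Localization.AtPrime P) := by
  rcases h with hsub | ⟨n, c, hcn, φ, r, hφ, hker, hdim⟩
  · exfalso
    exact hP.ne_top (Subsingleton.elim _ _)
  · let J : Ideal (MvPolynomial (Fin n) k) := RingHom.ker φ.toRingHom
    let e : (MvPolynomial (Fin n) k ⧸ J) ≃+* S := RingHom.quotientKerEquivOfSurjective hφ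
    have hdim' : ringKrullDim (MvPolynomial (Fin n) k ⧸ J) ≤ ((n - c : ℕ) : WithBot ℕ∞) := by
      rw [ringKrullDim_eq_of_ringEquiv e, hdim]
    have hJ := le_height_of_dim_quot_le k n c hcn J hdim'
    exact cm_localization_of_ringEquiv e
      (fun Q _ => cm_localization_quot k n c r J hker hJ Q) P

/-- S9142 -/
theorem s9142 (k S : Type u) [Field k] [CommRing S] [Algebra k S]
    (h : Synt.IsLCIOver k S) : LocCoh.IsCohenMacaulayRing S := by
  obtain ⟨hft, hloc⟩ := h
  haveI : IsNoetherianRing S := Algebra.FiniteType.isNoetherianRing k S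
  refine { isCohenMacaulayLocalRing_localization := ?_ }
  intro p hp
  obtain ⟨g, hg, hCI⟩ := hloc ⟨p, hp⟩
  let T := Localization.Away g
  have hdisj : Disjoint (Submonoid.powers g : Set S) (p : Set S) := by
    rw [Set.disjoint_left]
    rintro _ ⟨m, rfl⟩ hm
    exact hg (hp.mem_of_pow_mem m hm)
  let p' : Ideal T := p.map (algebraMap S T)
  haveI hp' : p'.IsPrime :=
    IsLocalization.isPrime_of_isPrime_disjoint (Submonoid.powers g) T p hp hdisj
  have hcm : p'.comap (algebraMap S T) = p :=
    IsLocalization.comap_map_of_isPrime_disjoint (Submonoid.powers g) T hp hdisj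
  haveI := cm_of_globalCI k T hCI p'
  haveI h1 : IsLocalization.AtPrime (Localization.AtPrime p') (p'.comap (algebraMap S T)) :=
    IsLocalization.isLocalization_isLocalization_atPrime_isLocalization (Submonoid.powers g) _ _
  haveI h2 : IsLocalization.AtPrime (Localization.AtPrime p') p := by
    convert h1 using 2
    exact hcm.symm
  exact Groth.Agent.Lead.CMCl.cm_of_ringEquiv
    (IsLocalization.algEquiv p.primeCompl (Localization.AtPrime p')
      (Localization.AtPrime p)).toRingEquiv

end Groth.Agent.Helper5.SyntCM
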