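import Mathlib
import Groth.Agent.Helper5.RegLoc6
import Groth.Agent.Helper5.SyntCM2
import Groth.Agent.Helper5.DimBC
import Groth.Agent.Helper5.RelGCI6

set_option autoImplicit false
set_option linter.style.haveILetI false
universe u
open TensorProduct IsLocalRing RingTheory.Sequence Function MvPolynomial

namespace Groth.Agent.Helper5.RelGCI

variable (R : Type u) [CommRing R] (n : ℕ)

/-- the fibre rings of a polynomial ring are Cohen–Macaulay -/
theorem cm_fibre_mvPolynomial (p : PrimeSpectrum R) :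
    LocCoh.IsCohenMacaulayRing (p.asIdeal.Fiber (MvPolynomial (Fin n) R)) := by
  let κ := p.asIdeal.ResidueField
  let e : κ ⊗[R] MvPolynomial (Fin n) R ≃ₐ[κ] MvPolynomial (Fin n) κ :=
    MvPolynomial.algebraTensorAlgEquiv R κ
  have hG : Synt.IsGlobalCI κ (κ ⊗[R] MvPolynomial (Fin n) R) := by
    refine Or.inr ⟨n, 0, Nat.zero_le n, e.symm.toAlgHom, Fin.elim0, e.symm.surjective, ?_, ?_⟩
    · have h1 : RingHom.ker (e.symm.toAlgHom : MvPolynomial (Fin n) κ →ₐ[κ] _).toRingHom = ⊥ :=
        (RingHom.injective_iff_ker_eq_bot _).1 e.symm.injective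
      rw [h1]
      have : Set.range (Fin.elim0 : Fin 0 → MvPolynomial (Fin n) κ) = ∅ := Set.range_eq_empty _
      rw [this, Ideal.span_empty]
    · rw [ringKrullDim_eq_of_ringEquiv e.toRingEquiv, Groth.Agent.Helper5.DimBC.dim_mvPolynomial]
      rfl
  haveI : IsNoetherianRing (κ ⊗[R] MvPolynomial (Fin n) R) :=
    isNoetherianRing_of_ringEquiv _ e.symm.toRingEquiv
  exact { isCohenMacaulayLocalRing_localization := fun P hP =>
    Groth.Agent.Helper5.SyntCM.cm_of_globalCI κ _ hG P }

/-- the fibre rings of a polynomial ring are equidimensional of dimension `n` -/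
theorem equidim_fibre_mvPolynomial (p : PrimeSpectrum R)
    (P : Ideal (p.asIdeal.Fiber (MvPolynomial (Fin n) R)))
    (hP : P ∈ minimalPrimes (p.asIdeal.Fiber (MvPolynomial (Fin n) R))) :
    ringKrullDim (p.asIdeal.Fiber (MvPolynomial (Fin n) R) ⧸ P) = (n : WithBot ℕ∞) := by
  let κ := p.asIdeal.ResidueField
  let e : κ ⊗[R] MvPolynomial (Fin n) R ≃ₐ[κ] MvPolynomial (Fin n) κ :=
    MvPolynomial.algebraTensorAlgEquiv R κ
  haveI : IsDomain (κ ⊗[R] MvPolynomial (Fin n) R) := e.toMulEquiv.isDomain _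
  rw [IsDomain.minimalPrimes_eq_singleton_bot, Set.mem_singleton_iff] at hP
  subst hP
  rw [ringKrullDim_eq_of_ringEquiv (RingEquiv.quotientBot _),
    ringKrullDim_eq_of_ringEquiv e.toRingEquiv, Groth.Agent.Helper5.DimBC.dim_mvPolynomial]

end Groth.Agent.Helper5.RelGCI

namespace Groth.Agent.Helper5.RelGCI

open CategoryTheory AlgebraicGeometry

variable (R : Type u) [CommRing R] (n c : ℕ) (F : Fin c → MvPolynomial (Fin n) R)

theorem ofList_ofFn : Ideal.ofList (List.ofFn F) = Ideal.span (Set.range F) := by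
  unfold Ideal.ofList
  congr 1
  ext x
  simp [List.mem_ofFn]

theorem fibreDimAt_of_ideal_eq (h : Synt.IsRelGCI R n c F) (J : Ideal (MvPolynomial (Fin n) R))
    (hJ : J = Ideal.span (Set.range F)) (z : PrimeSpectrum (MvPolynomial (Fin n) R ⧸ J)) :
    FlatMor.fibreDimAt (Spec.map (CommRingCat.ofHom
      (algebraMap R (MvPolynomial (Fin n) R ⧸ J)))) z = ((n - c : ℕ) : WithBot ℕ∞) := by
  subst hJ
  exact Groth.Agent.Helper5.SyntDim.s9366 R n c F h z

set_option maxHeartbeats 1000000 in
/-- the relations of a relative global complete intersection form a regular sequence in the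
local ring of the fibre of affine space at a point of the complete intersection -/
theorem regular_fibLocRing (h : Synt.IsRelGCI R n c F) (q' : Ideal (MvPolynomial (Fin n) R))
    [hq'p : q'.IsPrime] (hq' : Ideal.span (Set.range F) ≤ q') :
    IsRegular (EGA4.FibLocRing R (MvPolynomial (Fin n) R) q')
      ((List.ofFn F).map (algebraMap (MvPolynomial (Fin n) R)
        (EGA4.FibLocRing R (MvPolynomial (Fin n) R) q'))) := by
  have hof := ofList_ofFn R n c F
  have hJq : Ideal.ofList (List.ofFn F) ≤ q' := hof ▸ hq'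
  haveI hzp : (q'.map (Ideal.Quotient.mk (Ideal.ofList (List.ofFn F)))).IsPrime :=
    Groth.Agent.Helper6.CINormal.map_isPrime _ q' hJq
  let z : PrimeSpectrum (MvPolynomial (Fin n) R ⧸ Ideal.ofList (List.ofFn F)) :=
    ⟨q'.map (Ideal.Quotient.mk (Ideal.ofList (List.ofFn F))), hzp⟩
  let q : PrimeSpectrum (MvPolynomial (Fin n) R) := ⟨q', hq'p⟩
  have hq : q.asIdeal = z.asIdeal.comap (Ideal.Quotient.mk (Ideal.ofList (List.ofFn F))) := by
    ext x
    exact (Groth.Agent.Helper6.CINormal.mem_map_mk_iff _ q' hJq x).symm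
  haveI : Nontrivial (Synt.RelGCIRing R n c F) :=
    Ideal.Quotient.nontrivial_iff.2 (fun htop => hq'p.ne_top (top_le_iff.1 (htop ▸ hq')))
  have hcn : c ≤ n := le_of_isRelGCI_of_nontrivial R n c F h
  refine (Groth.Agent.Helper5.RegLoc.regular_iff R (MvPolynomial (Fin n) R) n
    (cm_fibre_mvPolynomial R n) (equidim_fibre_mvPolynomial R n) (List.ofFn F) z q hq).2 ?_
  rw [fibreDimAt_of_ideal_eq R n c F h _ hof z, List.length_ofFn]
  exact_mod_cast (by omega : n - c + c ≤ n)

end Groth.Agent.Helper5.RelGCI
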