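import Mathlib
import Groth.Agent.Helper5.RelGCI7
import Groth.Agent.Helper5.RelGCI8

set_option autoImplicit false
set_option linter.style.haveILetI false
universe u
open TensorProduct IsLocalRing RingTheory.Sequence Function MvPolynomial

namespace Groth.Agent.Helper5.RelGCI

variable (R : Type u) [CommRing R] (n c : ℕ) (F : Fin c → MvPolynomial (Fin n) R)

set_option maxHeartbeats 2000000 in
/-- Noetherian core: the relations form a regular sequence in the local ring of affine space at a
point of the complete intersection, with flat successive quotients -/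
theorem core [IsNoetherianRing R] (h : Synt.IsRelGCI R n c F)
    (q' : Ideal (MvPolynomial (Fin n) R)) [hq'p : q'.IsPrime]
    (hq' : Ideal.span (Set.range F) ≤ q') :
    IsWeaklyRegular (Localization.AtPrime q')
        ((List.ofFn F).map (algebraMap (MvPolynomial (Fin n) R) (Localization.AtPrime q'))) ∧
      ∀ i, i ≤ c → Module.Flat R (Localization.AtPrime q' ⧸
        (Ideal.ofList (((List.ofFn F).map
          (algebraMap (MvPolynomial (Fin n) R) (Localization.AtPrime q'))).take i) • ⊤ :
            Submodule (Localization.AtPrime q') (Localization.AtPrime q'))) := by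
  let P := MvPolynomial (Fin n) R
  let p : Ideal R := q'.comap (algebraMap R P)
  haveI hp : p.IsPrime := Ideal.comap_isPrime _ _
  haveI : q'.LiesOver p := ⟨rfl⟩
  let A := Localization.AtPrime p
  let B := Localization.AtPrime q'
  letI : Algebra A B := Localization.AtPrime.algebraOfLiesOver p q'
  haveI : IsLocalHom (algebraMap A B) :=
    Localization.isLocalHom_localRingHom _ _ _ Ideal.LiesOver.over
  haveI : IsNoetherianRing A := IsLocalization.isNoetherianRing p.primeCompl A inferInstance
  haveI : IsNoetherianRing B := IsLocalization.isNoetherianRing q'.primeCompl B inferInstance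
  haveI hflatRB : Module.Flat R B := by
    haveI : Module.Flat P B := IsLocalization.flat B q'.primeCompl
    exact Module.Flat.trans R P B
  haveI hflatAB : Module.Flat A B := (Module.flat_iff_of_isLocalization A p.primeCompl B).2 hflatRB
  -- the fibre
  have hreg := regular_fibLocRing R n c F h q' hq'
  let rs : List B := (List.ofFn F).map (algebraMap P B)
  let I' : Ideal B := p.map (algebraMap R B)
  let I : Ideal B := (maximalIdeal A).map (algebraMap A B)
  have hII' : I = I' := by
    show (maximalIdeal A).map (algebraMap A B) = p.map (algebraMap R B)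
    rw [← Localization.AtPrime.map_eq_maximalIdeal, Ideal.map_map, ← IsScalarTower.algebraMap_eq]
  have h1 : IsWeaklyRegular (B ⧸ I') (rs.map (algebraMap B (B ⧸ I'))) := by
    have : rs.map (algebraMap B (B ⧸ I')) = (List.ofFn F).map (algebraMap P (B ⧸ I')) := by
      rw [List.map_map]
      congr 1
    rw [this]
    exact hreg.toIsWeaklyRegular
  have h2 : IsWeaklyRegular (B ⧸ I') rs := (isWeaklyRegular_map_algebraMap_iff (B ⧸ I') (B ⧸ I') rs).1 h1
  have h3 : IsWeaklyRegular (B ⧸ I) rs :=
    ((Submodule.quotEquivOfEq I I' hII').isWeaklyRegular_congr rs).2 h2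
  have h4 : IsWeaklyRegular ((B ⧸ I) ⊗[B] B) rs :=
    ((TensorProduct.rid B (B ⧸ I)).isWeaklyRegular_congr rs).2 h3
  obtain ⟨h5, h6⟩ := flat_regular_of_fibre (A := A) (B := B) rs B h4
  refine ⟨h5, ?_⟩
  intro i hi
  have hlen : rs.length = c := by simp [rs]
  haveI := h6 i (hlen ▸ hi)
  exact Module.Flat.trans R A _

end Groth.Agent.Helper5.RelGCI
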