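import Mathlib
import Groth.Agent.Helper5.RelGCI9

set_option autoImplicit false
set_option linter.style.haveILetI false
universe u
open TensorProduct IsLocalRing RingTheory.Sequence Function MvPolynomial

namespace Groth.Agent.Helper5.RelGCI

variable (R : Type u) [CommRing R] (n c : ℕ) (F : Fin c → MvPolynomial (Fin n) R)

set_option maxHeartbeats 2000000 in
/-- a relative global complete intersection over a Noetherian ring is flat -/
theorem flat_of_noetherian [IsNoetherianRing R] (h : Synt.IsRelGCI R n c F) :
    Module.Flat R (Synt.RelGCIRing R n c F) := by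
  let P := MvPolynomial (Fin n) R
  let J : Ideal P := Ideal.span (Set.range F)
  refine Module.flat_of_isLocalized_maximal (Synt.RelGCIRing R n c F) (Synt.RelGCIRing R n c F)
    (fun q _ => Localization.AtPrime q)
    (fun q _ => Algebra.linearMap (Synt.RelGCIRing R n c F) (Localization.AtPrime q)) ?_
  intro Q hQ
  let m : Ideal P := Q.comap (Ideal.Quotient.mk J)
  haveI hmprime : m.IsPrime := Ideal.comap_isPrime _ _
  have hJm : J ≤ m := by
    intro x hx
    show Ideal.Quotient.mk J x ∈ Q
    rw [Ideal.Quotient.eq_zero_iff_mem.2 hx]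
    exact Q.zero_mem
  have hQeq : m.map (Ideal.Quotient.mk J) = Q :=
    Ideal.map_comap_of_surjective _ Ideal.Quotient.mk_surjective Q
  let B := Localization.AtPrime m
  let I : Ideal B := J.map (algebraMap P B)
  haveI hLoc : IsLocalization.AtPrime (B ⧸ I) Q := by
    have := Groth.Agent.Helper6.CINormal.isLocalization_atPrime J m hJm
    convert this
    exact hQeq.symm
  let e : Localization.AtPrime Q ≃ₐ[P ⧸ J] (B ⧸ I) :=
    IsLocalization.algEquiv Q.primeCompl (Localization.AtPrime Q) (B ⧸ I)
  obtain ⟨-, hflat⟩ := core R n c F h m hJm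
  have hflat' := hflat c le_rfl
  let rs : List B := (List.ofFn F).map (algebraMap P B)
  have hlen : rs.length = c := by simp [rs]
  have hI : (Ideal.ofList (rs.take c) • ⊤ : Submodule B B) = I := by
    rw [← hlen, List.take_length, smul_eq_mul, Ideal.mul_top]
    show Ideal.ofList ((List.ofFn F).map (algebraMap P B)) = J.map (algebraMap P B)
    rw [← Ideal.map_ofList, ofList_ofFn]
  haveI : Module.Flat R (B ⧸ I) :=
    Module.Flat.of_linearEquiv ((Submodule.quotEquivOfEq _ _ hI).symm.restrictScalars R)
  haveI : IsScalarTower R (P ⧸ J) (B ⧸ I) :=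
    IsScalarTower.of_algebraMap_eq (R := R) (S := P ⧸ J) (A := B ⧸ I) (fun r => rfl)
  exact Module.Flat.of_linearEquiv (e.restrictScalars R).toLinearEquiv

end Groth.Agent.Helper5.RelGCI
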