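import Mathlib
import Groth.Agent.Helper5.SyntDim1
import Groth.Prelude.Def_RegImm

set_option autoImplicit false
set_option linter.style.haveILetI false
universe u
open TensorProduct MvPolynomial

namespace Groth.Agent.Helper5.SyntLocz

theorem dim_localization_le {R : Type*} [CommRing R] (M : Submonoid R) (T : Type*) [CommRing T]
    [Algebra R T] [IsLocalization M T] : ringKrullDim T ≤ ringKrullDim R := by
  refine Order.krullDim_le_of_strictMono (PrimeSpectrum.comap (algebraMap R T)) ?_
  intro a b hab
  refine lt_of_le_of_ne (Ideal.comap_mono hab.le) ?_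
  intro h
  have : a = b := PrimeSpectrum.localization_comap_injective T M h
  exact hab.ne this

variable (k : Type u) [Field k]

/-- a presentation with the right dimension gives a global complete intersection -/
theorem isGlobalCI_of_presentation (T : Type u) [CommRing T] [Algebra k T] (N C : ℕ) (hCN : C ≤ N)
    (P : Algebra.Presentation k T (Fin N) (Fin C))
    (hdim : ringKrullDim T = ((N - C : ℕ) : WithBot ℕ∞)) : Synt.IsGlobalCI k T := by
  refine Or.inr ⟨N, C, hCN, aeval P.val, P.relation, ?_, ?_, hdim⟩
  · intro t
    obtain ⟨x, hx⟩ := P.algebraMap_surjective t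
    exact ⟨x, by rw [← hx, P.algebraMap_eq]; rfl⟩
  · rw [P.span_range_relation_eq_ker, P.ker_eq_ker_aeval_val]
    rfl

/-- a nonzero global complete intersection has a presentation with the right dimension -/
theorem presentation_of_isGlobalCI (T : Type u) [CommRing T] [Algebra k T] [Nontrivial T]
    (h : Synt.IsGlobalCI k T) :
    ∃ (n c : ℕ), c ≤ n ∧ Nonempty (Algebra.Presentation k T (Fin n) (Fin c)) ∧
      ringKrullDim T = ((n - c : ℕ) : WithBot ℕ∞) := by
  rcases h with hsub | ⟨n, c, hcn, φ, r, hφ, hker, hdim⟩
  · exact absurd hsub (not_subsingleton T)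
  · refine ⟨n, c, hcn, ⟨?_⟩, hdim⟩
    have hφe : φ = aeval (fun i => φ (X i)) := MvPolynomial.aeval_unique φ
    have hs : Function.Surjective (aeval (R := k) (fun i => φ (X i))) := by
      rw [← hφe]; exact hφ
    exact
      { toGenerators := Algebra.Generators.ofSurjective (fun i => φ (X i)) hs
        relation := r
        span_range_relation_eq_ker := by
          rw [Algebra.Generators.ker_eq_ker_aeval_val, ← hker]
          show RingHom.ker φ.toRingHom = RingHom.ker (aeval (fun i => φ (X i)))
          rw [← hφe]
          rfl }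

theorem isGlobalCI_of_algEquiv (T T' : Type u) [CommRing T] [CommRing T'] [Algebra k T]
    [Algebra k T'] (e : T ≃ₐ[k] T') (h : Synt.IsGlobalCI k T) : Synt.IsGlobalCI k T' := by
  rcases h with hsub | ⟨n, c, hcn, φ, r, hφ, hker, hdim⟩
  · exact Or.inl e.symm.toEquiv.subsingleton
  · refine Or.inr ⟨n, c, hcn, (e : T →ₐ[k] T').comp φ, r, ?_, ?_, ?_⟩
    · exact e.surjective.comp hφ
    · rw [← hker]
      ext x
      simp only [RingHom.mem_ker]
      show e (φ x) = 0 ↔ φ x = 0
      exact map_eq_zero_iff e e.injective
    · rw [← ringKrullDim_eq_of_ringEquiv e.toRingEquiv, hdim]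

end Groth.Agent.Helper5.SyntLocz
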