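import Mathlib
import Groth.Agent.Helper5.SyntLocz1

set_option autoImplicit false
set_option linter.style.haveILetI false
universe u
open TensorProduct MvPolynomial

namespace Groth.Agent.Helper5.SyntLocz

variable (k : Type u) [Field k]

/-- a principal localization of a global complete intersection is a global complete intersection -/
theorem isGlobalCI_away (S : Type u) [CommRing S] [Algebra k S] (g : S)
    (h : Synt.IsGlobalCI k S) : Synt.IsGlobalCI k (Localization.Away g) := by
  rcases subsingleton_or_nontrivial (Localization.Away g) with hsub | hnt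
  · exact Or.inl hsub
  haveI : Nontrivial S := by
    by_contra hS
    rw [not_nontrivial_iff_subsingleton] at hS
    haveI := hS
    have : (1 : Localization.Away g) = 0 := by
      rw [← (algebraMap S (Localization.Away g)).map_one, Subsingleton.elim (1 : S) 0, map_zero]
    exact one_ne_zero this
  obtain ⟨n, c, hcn, ⟨P⟩, hdim⟩ := presentation_of_isGlobalCI k S h
  let Q : Algebra.Presentation S (Localization.Away g) Unit Unit :=
    Algebra.Presentation.localizationAway (Localization.Away g) g
  let e : Fin (n + 1) ≃ Unit ⊕ Fin n :=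
    (finSuccEquiv n).trans ((Equiv.optionEquivSumPUnit (Fin n)).trans (Equiv.sumComm _ _))
  let e' : Fin (c + 1) ≃ Unit ⊕ Fin c :=
    (finSuccEquiv c).trans ((Equiv.optionEquivSumPUnit (Fin c)).trans (Equiv.sumComm _ _))
  let P' : Algebra.Presentation k (Localization.Away g) (Fin (n + 1)) (Fin (c + 1)) :=
    (Q.comp P).reindex e e'
  refine isGlobalCI_of_presentation k _ (n + 1) (c + 1) (by omega) P' ?_
  have hsub : n + 1 - (c + 1) = n - c := by omega
  rw [hsub]
  apply le_antisymm
  · rw [← hdim]
    exact dim_localization_le (Submonoid.powers g) (Localization.Away g)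
  · obtain ⟨𝔓, h𝔓⟩ := Ideal.nonempty_minimalPrimes
      (show (⊥ : Ideal (Localization.Away g)) ≠ ⊤ from bot_ne_top)
    have h1 := Groth.Agent.Helper5.SyntDim.dim_quot_minimalPrime_ge k (Localization.Away g)
      (n + 1) (c + 1) P' 𝔓 h𝔓
    have h2 : ringKrullDim (Localization.Away g ⧸ 𝔓) ≤ ringKrullDim (Localization.Away g) :=
      ringKrullDim_quotient_le 𝔓
    have h3 : ((n + 1 : ℕ) : WithBot ℕ∞) ≤
        ringKrullDim (Localization.Away g) + ((c + 1 : ℕ) : WithBot ℕ∞) :=
      h1.trans (by gcongr)
    have hne : ringKrullDim (Localization.Away g) ≠ ⊥ := by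
      intro hbot
      have := ringKrullDim_nonneg_of_nontrivial (R := Localization.Away g)
      rw [hbot] at this
      exact absurd this (by simp)
    obtain ⟨D, hD⟩ := WithBot.ne_bot_iff_exists.1 hne
    rw [← hD] at h3 ⊢
    rcases eq_or_ne D ⊤ with htop | hDne
    · rw [htop]; exact le_top
    · obtain ⟨D', hD'⟩ := ENat.ne_top_iff_exists.1 hDne
      rw [← hD'] at h3 ⊢
      have h3' : (((n + 1 : ℕ) : ℕ∞) : WithBot ℕ∞) ≤ ((((D' : ℕ) : ℕ∞) + ((c + 1 : ℕ) : ℕ∞) : ℕ∞) : WithBot ℕ∞) := by
        rw [WithBot.coe_add]; exact h3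
      have h4 : n + 1 ≤ D' + (c + 1) := by exact_mod_cast WithBot.coe_le_coe.1 h3'
      calc ((n - c : ℕ) : WithBot ℕ∞) = (((n - c : ℕ) : ℕ∞) : WithBot ℕ∞) := rfl
        _ ≤ (((D' : ℕ) : ℕ∞) : WithBot ℕ∞) :=
          WithBot.coe_le_coe.2 (by exact_mod_cast (by omega : n - c ≤ D'))

end Groth.Agent.Helper5.SyntLocz
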