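import Mathlib
import Groth.Agent.Helper5.RelGCI10
import Groth.Agent.Helper5.SyntLocz2

set_option autoImplicit false
set_option linter.style.haveILetI false
universe u
open TensorProduct IsLocalRing RingTheory.Sequence Function MvPolynomial

namespace Groth.Agent.Helper5.RelGCI

variable (R : Type u) [CommRing R] (n c : ℕ) (F : Fin c → MvPolynomial (Fin n) R)

/-- a relative global complete intersection is flat -/
theorem flat (h : Synt.IsRelGCI R n c F) : Module.Flat R (Synt.RelGCIRing R n c F) := by
  obtain ⟨R₀, F₀, hft, hF, hrel⟩ := s9148 R n c F h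
  haveI : IsNoetherianRing R₀ := Algebra.FiniteType.isNoetherianRing ℤ R₀
  have hF' : F = fun i => MvPolynomial.map (algebraMap R₀ R) (F₀ i) := funext fun i => (hF i).symm
  rw [hF']
  haveI := flat_of_noetherian R₀ n c F₀ hrel
  exact Module.Flat.of_linearEquiv (tensorEquiv R₀ R n c F₀).symm.toLinearEquiv

theorem s9147 (h : Synt.IsRelGCI R n c F) : Synt.IsSyntomic R (Synt.RelGCIRing R n c F) := by
  refine ⟨flat R n c F h, ?_, ?_⟩
  · exact (Algebra.Presentation.naive (v := F)).finitePresentation_of_isFinite
  · intro p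
    have hG : Synt.IsGlobalCI p.asIdeal.ResidueField (p.asIdeal.Fiber (Synt.RelGCIRing R n c F)) := by
      rcases subsingleton_or_nontrivial (p.asIdeal.Fiber (Synt.RelGCIRing R n c F)) with hs | hnt
      · exact Or.inl hs
      · obtain ⟨hcn, hdim⟩ := h p hnt
        exact Groth.Agent.Helper5.SyntLocz.isGlobalCI_of_presentation p.asIdeal.ResidueField _ n c hcn
          ((Algebra.Presentation.naive (v := F)).baseChange p.asIdeal.ResidueField) hdim
    refine ⟨inferInstance, ?_⟩
    intro 𝔓
    refine ⟨1, ?_, Groth.Agent.Helper5.SyntLocz.isGlobalCI_away _ _ 1 hG⟩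
    exact fun h1 => 𝔓.isPrime.ne_top ((Ideal.eq_top_iff_one _).2 h1)

end Groth.Agent.Helper5.RelGCI
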