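import Mathlib
import Groth.Agent.Helper5.RelGCI10
import Groth.Agent.Helper3.FFDescK
import Groth.Agent.Helper1.KoszulReg

set_option autoImplicit false
set_option linter.style.haveILetI false
universe u
open TensorProduct IsLocalRing RingTheory.Sequence Function MvPolynomial

namespace Groth.Agent.Helper5.RelGCI

variable (R : Type u) [CommRing R] (n c : ℕ) (F : Fin c → MvPolynomial (Fin n) R)

/-- a weakly regular sequence is Koszul-regular -/
theorem kreg_of_isWeaklyRegular {A : Type u} [CommRing A] (l : List A)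
    (h : IsWeaklyRegular A l) : LCI.IsKoszulRegularSeq A l := by
  rw [Groth.Agent.Lead.KoszulFunC.isKoszulRegularSeq_iff]
  exact Groth.Agent.Helper1.Koszul.isZero_homology_of_isWeaklyRegular l A h

set_option maxHeartbeats 1000000 in
/-- Noetherian case: the relations form a Koszul-regular sequence in the polynomial ring -/
theorem kreg_of_noetherian [IsNoetherianRing R] (h : Synt.IsRelGCI R n c F) :
    LCI.IsKoszulRegularSeq (MvPolynomial (Fin n) R) (List.ofFn F) := by
  apply Groth.Agent.Helper3.FFDescK.kreg_locglob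
  intro 𝔭 h𝔭
  by_cases hJ : Ideal.span (Set.range F) ≤ 𝔭
  · exact kreg_of_isWeaklyRegular _ (core R n c F h 𝔭 hJ).1
  · apply Groth.Agent.Helper3.FFDescK.kreg_unit
    rw [← Ideal.map_ofList, ofList_ofFn]
    obtain ⟨x, hxJ, hx𝔭⟩ := Set.not_subset.1 hJ
    have hu : IsUnit (algebraMap (MvPolynomial (Fin n) R) (Localization.AtPrime 𝔭) x) :=
      IsLocalization.map_units (Localization.AtPrime 𝔭) (⟨x, hx𝔭⟩ : 𝔭.primeCompl)
    exact Ideal.eq_top_of_isUnit_mem _ (Ideal.mem_map_of_mem _ hxJ) hu

end Groth.Agent.Helper5.RelGCI
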