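import Mathlib
import Groth.Agent.Helper5.RelGCI11
import Groth.Agent.Helper5.RelGCI12
import Groth.Agent.Helper3.KzRelC

set_option autoImplicit false
set_option linter.style.haveILetI false
universe u
open TensorProduct CategoryTheory CategoryTheory.Limits CohIII MvPolynomial
open Groth.Agent.Lead.KoszulFunB Groth.Agent.Lead.KoszulFunC Groth.Agent.Helper1.Koszul

namespace Groth.Agent.Helper5.RelGCI

section bc

variable (R₀ R : Type u) [CommRing R₀] [CommRing R] [Algebra R₀ R] (n : ℕ)

/-- `R₀[x] ⊗ R ≃ R[x]` as a ring isomorphism -/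
noncomputable def polyTensorEquiv :
    (MvPolynomial (Fin n) R₀ ⊗[R₀] R) ≃+* MvPolynomial (Fin n) R :=
  ((Algebra.TensorProduct.comm R₀ (MvPolynomial (Fin n) R₀) R).toRingEquiv).trans
    (MvPolynomial.algebraTensorAlgEquiv R₀ R).toRingEquiv

theorem polyTensorEquiv_tmul (p : MvPolynomial (Fin n) R₀) (r : R) :
    polyTensorEquiv R₀ R n (p ⊗ₜ[R₀] r) = r • MvPolynomial.map (algebraMap R₀ R) p := by
  simp [polyTensorEquiv, MvPolynomial.algebraTensorAlgEquiv_tmul]

/-- the same as an isomorphism of modules over `R₀[x]` -/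
noncomputable def polyTensorIso :
    ModuleCat.of (MvPolynomial (Fin n) R₀) (MvPolynomial (Fin n) R₀ ⊗[R₀] R) ≅
      (ModuleCat.restrictScalars.{u} (MvPolynomial.map (algebraMap R₀ R))).obj
        (ModuleCat.of (MvPolynomial (Fin n) R) (MvPolynomial (Fin n) R)) :=
  let e : (MvPolynomial (Fin n) R₀ ⊗[R₀] R) ≃ₗ[MvPolynomial (Fin n) R₀]
      ((ModuleCat.restrictScalars.{u} (MvPolynomial.map (algebraMap R₀ R))).obj
        (ModuleCat.of (MvPolynomial (Fin n) R) (MvPolynomial (Fin n) R))) :=
    { toFun := fun x => polyTensorEquiv R₀ R n x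
      invFun := fun y => (polyTensorEquiv R₀ R n).symm y
      left_inv := (polyTensorEquiv R₀ R n).left_inv
      right_inv := (polyTensorEquiv R₀ R n).right_inv
      map_add' := map_add _
      map_smul' := fun p x => by
        show polyTensorEquiv R₀ R n (p • x) =
          MvPolynomial.map (algebraMap R₀ R) p * polyTensorEquiv R₀ R n x
        induction x using TensorProduct.induction_on with
        | zero => simp
        | tmul a r =>
          rw [TensorProduct.smul_tmul', polyTensorEquiv_tmul, polyTensorEquiv_tmul, smul_eq_mul,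
            map_mul, mul_smul_comm]
        | add x y hx hy => rw [smul_add, map_add, map_add, hx, hy, mul_add] }
  e.toModuleIso

/-- transfer of Koszul-regularity along the base change of polynomial rings -/
theorem kreg_baseChange [Module.Flat R₀ (MvPolynomial (Fin n) R₀)]
    (l₀ : List (MvPolynomial (Fin n) R₀))
    (hreg : LCI.IsKoszulRegularSeq (MvPolynomial (Fin n) R₀) l₀)
    (hflat : Module.Flat R₀ (MvPolynomial (Fin n) R₀ ⧸ Ideal.ofList l₀)) :
    LCI.IsKoszulRegularSeq (MvPolynomial (Fin n) R)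
      (l₀.map (MvPolynomial.map (algebraMap R₀ R))) := by
  rw [isKoszulRegularSeq_iff] at hreg ⊢
  intro i hi
  rcases lt_or_gt_of_ne hi with hneg | hpos
  · have h1 := Groth.Agent.Helper3.KzRelC.isZero_koszul_tensor R₀ (MvPolynomial (Fin n) R₀) l₀
      hreg hflat R i hneg
    have h2 : IsZero ((koszulCx ((ModuleCat.restrictScalars.{u}
        (MvPolynomial.map (algebraMap R₀ R))).obj
        (ModuleCat.of (MvPolynomial (Fin n) R) (MvPolynomial (Fin n) R))) l₀).homology i) :=
      IsZero.of_iso h1 ((HomologicalComplex.homologyFunctor _ _ i).mapIso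
        (kIso (polyTensorIso R₀ R n) l₀)).symm
    obtain ⟨e⟩ := nonempty_map_koszulCx_iso
      (F := ModuleCat.restrictScalars.{u} (MvPolynomial.map (algebraMap R₀ R)))
      (l₀.map (MvPolynomial.map (algebraMap R₀ R))) l₀
      (Groth.Agent.Lead.KoszulFunE.forall₂_map (MvPolynomial.map (algebraMap R₀ R)) l₀)
      (ModuleCat.of (MvPolynomial (Fin n) R) (MvPolynomial (Fin n) R))
    have h3 := IsZero.of_iso h2 ((HomologicalComplex.homologyFunctor _ _ i).mapIso e)
    exact isZero_homology_of_map (ModuleCat.restrictScalars.{u}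
      (MvPolynomial.map (algebraMap R₀ R))) _ i h3
  · exact isZero_homology_of_isZero_X i (isZero_X_of_pos _ _ i hpos)

end bc

theorem s9254 (R : Type u) [CommRing R] (n c : ℕ)
    (F : Fin c → MvPolynomial (Fin n) R) (h : Synt.IsRelGCI R n c F) :
    LCI.IsKoszulRegularSeq (MvPolynomial (Fin n) R) (List.ofFn F) := by
  obtain ⟨R₀, F₀, hft, hF, hrel⟩ := s9148 R n c F h
  haveI : IsNoetherianRing R₀ := Algebra.FiniteType.isNoetherianRing ℤ R₀
  have hF' : F = fun i => MvPolynomial.map (algebraMap R₀ R) (F₀ i) := funext fun i => (hF i).symm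
  rw [hF']
  have hreg := kreg_of_noetherian R₀ n c F₀ hrel
  have hflat0 := flat_of_noetherian R₀ n c F₀ hrel
  have hflat : Module.Flat R₀ (MvPolynomial (Fin n) R₀ ⧸ Ideal.ofList (List.ofFn F₀)) :=
    Module.Flat.of_linearEquiv
      (Ideal.quotientEquivAlgOfEq R₀ (ofList_ofFn R₀ n c F₀)).toLinearEquiv
  have key := kreg_baseChange R₀ R n (List.ofFn F₀) hreg hflat
  rw [List.map_ofFn] at key
  exact key

end Groth.Agent.Helper5.RelGCI
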