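import Mathlib
import Groth.Agent.Helper5.RelGCI13

set_option autoImplicit false
set_option linter.style.haveILetI false
universe u
open TensorProduct CategoryTheory CategoryTheory.Limits CohIII MvPolynomial
open Groth.Agent.Lead.KoszulFunB Groth.Agent.Lead.KoszulFunC Groth.Agent.Helper1.Koszul

namespace Groth.Agent.Helper5.LciS

open Groth.Agent.Helper5.RelGCI

variable (R₀ R T : Type u) [CommRing R₀] [CommRing R] [CommRing T] [Algebra R₀ R] [Algebra R₀ T]

/-- `T ⊗ R` as a `T`-module is the restriction of scalars of the ring `T ⊗ R` -/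
noncomputable def tensorSelfIso :
    ModuleCat.of T (T ⊗[R₀] R) ≅
      (ModuleCat.restrictScalars.{u}
        (Algebra.TensorProduct.includeLeftRingHom : T →+* T ⊗[R₀] R)).obj
        (ModuleCat.of (T ⊗[R₀] R) (T ⊗[R₀] R)) :=
  let e : (T ⊗[R₀] R) ≃ₗ[T]
      ((ModuleCat.restrictScalars.{u}
        (Algebra.TensorProduct.includeLeftRingHom : T →+* T ⊗[R₀] R)).obj
        (ModuleCat.of (T ⊗[R₀] R) (T ⊗[R₀] R))) :=
    { toFun := fun x => x
      invFun := fun y => y
      left_inv := fun _ => rfl
      right_inv := fun _ => rfl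
      map_add' := fun _ _ => rfl
      map_smul' := fun t x => by
        show t • x = (Algebra.TensorProduct.includeLeftRingHom t : T ⊗[R₀] R) * x
        induction x using TensorProduct.induction_on with
        | zero => simp
        | tmul a r =>
          rw [TensorProduct.smul_tmul', Algebra.TensorProduct.includeLeftRingHom_apply,
            Algebra.TensorProduct.tmul_mul_tmul, one_mul, smul_eq_mul]
        | add x y hx hy => rw [smul_add, hx, hy, mul_add] }
  e.toModuleIso

/-- base change of Koszul-regularity for a flat algebra with flat quotient -/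
theorem kreg_baseChange_general [Module.Flat R₀ T] (l₀ : List T)
    (hreg : LCI.IsKoszulRegularSeq T l₀)
    (hflat : Module.Flat R₀ (T ⧸ Ideal.ofList l₀)) :
    LCI.IsKoszulRegularSeq (T ⊗[R₀] R)
      (l₀.map (Algebra.TensorProduct.includeLeftRingHom : T →+* T ⊗[R₀] R)) := by
  rw [isKoszulRegularSeq_iff] at hreg ⊢
  intro i hi
  rcases lt_or_gt_of_ne hi with hneg | hpos
  · have h1 := Groth.Agent.Helper3.KzRelC.isZero_koszul_tensor R₀ T l₀ hreg hflat R i hneg
    have h2 : IsZero ((koszulCx ((ModuleCat.restrictScalars.{u}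
        (Algebra.TensorProduct.includeLeftRingHom : T →+* T ⊗[R₀] R)).obj
        (ModuleCat.of (T ⊗[R₀] R) (T ⊗[R₀] R))) l₀).homology i) :=
      IsZero.of_iso h1 ((HomologicalComplex.homologyFunctor _ _ i).mapIso
        (kIso (tensorSelfIso R₀ R T) l₀)).symm
    obtain ⟨e⟩ := nonempty_map_koszulCx_iso
      (F := ModuleCat.restrictScalars.{u}
        (Algebra.TensorProduct.includeLeftRingHom : T →+* T ⊗[R₀] R))
      (l₀.map (Algebra.TensorProduct.includeLeftRingHom : T →+* T ⊗[R₀] R)) l₀
      (Groth.Agent.Lead.KoszulFunE.forall₂_map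
        (Algebra.TensorProduct.includeLeftRingHom : T →+* T ⊗[R₀] R) l₀)
      (ModuleCat.of (T ⊗[R₀] R) (T ⊗[R₀] R))
    have h3 := IsZero.of_iso h2 ((HomologicalComplex.homologyFunctor _ _ i).mapIso e)
    exact isZero_homology_of_map (ModuleCat.restrictScalars.{u}
      (Algebra.TensorProduct.includeLeftRingHom : T →+* T ⊗[R₀] R)) _ i h3
  · exact isZero_homology_of_isZero_X i (isZero_X_of_pos _ _ i hpos)

end Groth.Agent.Helper5.LciS
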