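import Mathlib
import Groth.Agent.Helper5.LciS1
import Groth.Agent.Helper2.LciGlobal

set_option autoImplicit false
set_option linter.style.haveILetI false
universe u
open TensorProduct RingTheory.Sequence

namespace Groth.Agent.Helper5.LciS

theorem ofList_map {A B : Type*} [CommRing A] [CommRing B] (φ : A →+* B) (l : List A) :
    Ideal.ofList (l.map φ) = (Ideal.ofList l).map φ := by
  unfold Ideal.ofList
  rw [Ideal.map_span]
  congr 1
  ext y
  simp only [List.mem_map, Set.mem_image]
  rfl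

/-- in a Noetherian ring, a Koszul-regular sequence cuts the height by its length -/
theorem height_add_length_le (P : Type u) [CommRing P] [IsNoetherianRing P] (l : List P)
    (hl : LCI.IsKoszulRegularSeq P l) (𝔮 : Ideal (P ⧸ Ideal.ofList l)) [h𝔮 : 𝔮.IsPrime] :
    ((𝔮.height : ℕ∞) : WithBot ℕ∞) + (l.length : WithBot ℕ∞) ≤ ringKrullDim P := by
  let I := Ideal.ofList l
  let 𝔔 : Ideal P := 𝔮.comap (Ideal.Quotient.mk I)
  haveI h𝔔 : 𝔔.IsPrime := Ideal.comap_isPrime _ _
  have hI𝔔 : I ≤ 𝔔 := by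
    intro x hx
    show Ideal.Quotient.mk I x ∈ 𝔮
    rw [Ideal.Quotient.eq_zero_iff_mem.2 hx]
    exact 𝔮.zero_mem
  have hmem : ∀ x ∈ l, x ∈ 𝔔 := fun x hx => hI𝔔 (Ideal.subset_span hx)
  let A := Localization.AtPrime 𝔔
  have hw := Groth.Agent.Helper2.LciGlobal.isWeaklyRegular_atPrime 𝔔 l hl hmem
  have hreg : IsRegular A (l.map (algebraMap P A)) := by
    rw [IsLocalRing.isRegular_iff_isWeaklyRegular_of_subset_maximalIdeal]
    · exact hw
    · intro r hr
      obtain ⟨x, hx, rfl⟩ := List.mem_map.1 hr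
      exact (IsLocalization.AtPrime.to_map_mem_maximal_iff A 𝔔 x).2 (hmem x hx)
  have h1 := ringKrullDim_add_length_eq_ringKrullDim_of_isRegular _ hreg
  rw [List.length_map, ofList_map] at h1
  have h2 : ringKrullDim A ≤ ringKrullDim P := by
    rw [IsLocalization.AtPrime.ringKrullDim_eq_height 𝔔 A]
    exact Ideal.height_le_ringKrullDim_of_ne_top h𝔔.ne_top
  have hsub : Algebra.algebraMapSubmonoid (P ⧸ I) 𝔔.primeCompl = 𝔮.primeCompl := by
    ext y
    constructor
    · rintro ⟨x, hx, rfl⟩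
      exact hx
    · intro hy
      obtain ⟨x, rfl⟩ := Ideal.Quotient.mk_surjective y
      exact ⟨x, hy, rfl⟩
  haveI hloc : IsLocalization.AtPrime (A ⧸ I.map (algebraMap P A)) 𝔮 := by
    have := (inferInstance : IsLocalization (Algebra.algebraMapSubmonoid (P ⧸ I) 𝔔.primeCompl)
      (A ⧸ I.map (algebraMap P A)))
    rw [hsub] at this
    exact this
  have h3 := IsLocalization.AtPrime.ringKrullDim_eq_height 𝔮 (A ⧸ I.map (algebraMap P A))
  rw [h3] at h1
  rw [h1]
  exact h2

end Groth.Agent.Helper5.LciS
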