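import Mathlib
import Groth.Agent.Helper5.LST5

set_option autoImplicit false
set_option linter.style.haveILetI false
set_option linter.unusedSectionVars false
universe u
open MvPolynomial TensorProduct

namespace Groth.Agent.Helper5.LST

open Groth.Agent.Helper5.RelGCI

section aux

variable (R S : Type u) [CommRing R] [CommRing S] [Algebra R S] (p : Ideal R) [p.IsPrime]

theorem map_smul_R {σ : Type*} (a : R) (d : MvPolynomial σ R) :
    MvPolynomial.map (algebraMap R p.ResidueField) (a • d) =
      a • MvPolynomial.map (algebraMap R p.ResidueField) d := by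
  rw [MvPolynomial.smul_eq_C_mul, map_mul, MvPolynomial.map_C,
    ← algebraMap_smul p.ResidueField a (MvPolynomial.map (algebraMap R p.ResidueField) d),
    MvPolynomial.smul_eq_C_mul]

/-- lifting hypothesis (H) -/
theorem exists_decomp {N C : ℕ} (gen : Fin N → S)
    (gb : Fin C → MvPolynomial (Fin N) p.ResidueField)
    (hker : RingHom.ker (aeval (fun i => (1 : p.ResidueField) ⊗ₜ[R] gen i) :
      MvPolynomial (Fin N) p.ResidueField →ₐ[p.ResidueField] p.Fiber S).toRingHom =
        Ideal.span (Set.range gb))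
    (r : R) (hr : r ∉ p) (G : Fin C → MvPolynomial (Fin N) R) (hG0 : ∀ i, aeval gen (G i) = 0)
    (hG : ∀ i, r • gb i = MvPolynomial.map (algebraMap R p.ResidueField) (G i))
    (k : MvPolynomial (Fin N) R) (hk : aeval gen k = 0) :
    ∃ s, s ∉ p ∧ ∃ d : Fin C → MvPolynomial (Fin N) R, ∃ e : MvPolynomial (Fin N) R,
      aeval gen e = 0 ∧ e ∈ (p • ⊤ : Submodule R (MvPolynomial (Fin N) R)) ∧
        s • k = ∑ i, d i * G i + e := by
  have h1 : MvPolynomial.map (algebraMap R p.ResidueField) k ∈ Ideal.span (Set.range gb) := by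
    rw [← hker]
    show (aeval (fun i => (1 : p.ResidueField) ⊗ₜ[R] gen i) :
      MvPolynomial (Fin N) p.ResidueField →ₐ[p.ResidueField] p.Fiber S) _ = 0
    rw [psi_map, hk, TensorProduct.tmul_zero]
  obtain ⟨cf, hcf⟩ := (Ideal.mem_span_range_iff_exists_fun).1 h1
  obtain ⟨a, ha, hd⟩ := exists_common p
    (fun (i : Fin C) (a : R) => ∃ d : MvPolynomial (Fin N) R,
      a • cf i = MvPolynomial.map (algebraMap R p.ResidueField) d)
    (fun i a a' ⟨d, hd⟩ => ⟨a' • d, by rw [mul_smul, hd, map_smul_R]⟩)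
    (fun i => by
      obtain ⟨a, ha, d, hd⟩ := exists_smul_eq_map p (cf i)
      exact ⟨a, ha, d, hd⟩)
  choose d hd using hd
  refine ⟨a * r, fun hm => ((inferInstance : p.IsPrime).mem_or_mem hm).elim ha hr, d,
    (a * r) • k - ∑ i, d i * G i, ?_, ?_, by abel⟩
  · rw [map_sub, map_smul, hk, smul_zero, map_sum, zero_sub, neg_eq_zero]
    exact Finset.sum_eq_zero fun i _ => by rw [map_mul, hG0, mul_zero]
  · rw [← map_eq_zero_iff, map_sub, map_sum]
    rw [map_smul_R, ← hcf, Finset.smul_sum, sub_eq_zero]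
    refine Finset.sum_congr rfl fun i _ => ?_
    rw [map_mul, ← hd, ← hG, smul_mul_smul_comm]

/-- a presentation whose fibre over `p` is a complete intersection of the expected dimension gives a
relative global complete intersection near the fibre -/
theorem core_aux [Module.Flat R S] [Algebra.FinitePresentation R S] (N C : ℕ) (hCN : C ≤ N)
    (gen : Fin N → S)
    (hπ : Function.Surjective (aeval gen : MvPolynomial (Fin N) R →ₐ[R] S))
    (gb : Fin C → MvPolynomial (Fin N) p.ResidueField)
    (hker : RingHom.ker (aeval (fun i => (1 : p.ResidueField) ⊗ₜ[R] gen i) :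
      MvPolynomial (Fin N) p.ResidueField →ₐ[p.ResidueField] p.Fiber S).toRingHom =
        Ideal.span (Set.range gb))
    (hdim : ringKrullDim (p.Fiber S) = ((N - C : ℕ) : WithBot ℕ∞)) : Good R S p := by
  -- lift the generators of the fibre kernel
  obtain ⟨r, hr, hG⟩ := exists_common p
    (fun (i : Fin C) (r : R) => ∃ G : MvPolynomial (Fin N) R, aeval gen G = 0 ∧
      r • gb i = MvPolynomial.map (algebraMap R p.ResidueField) G)
    (fun i r r' ⟨G, hG0, hG⟩ => ⟨r' • G, by rw [map_smul, hG0, smul_zero],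
      by rw [mul_smul, hG, map_smul_R]⟩)
    (fun i => by
      have hz : (aeval (fun i => (1 : p.ResidueField) ⊗ₜ[R] gen i) :
          MvPolynomial (Fin N) p.ResidueField →ₐ[p.ResidueField] p.Fiber S) (gb i) = 0 := by
        have : gb i ∈ RingHom.ker (aeval (fun i => (1 : p.ResidueField) ⊗ₜ[R] gen i) :
            MvPolynomial (Fin N) p.ResidueField →ₐ[p.ResidueField] p.Fiber S).toRingHom := by
          rw [hker]; exact Ideal.subset_span ⟨i, rfl⟩
        exact this
      obtain ⟨r, hr, k, hk0, hk⟩ := exists_lift_ker p gen hπ (gb i) hz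
      exact ⟨r, hr, k, hk0, hk⟩)
  choose G hG0 hG using hG
  -- kill the rest of the kernel
  have hKfg : (RingHom.ker (aeval gen : MvPolynomial (Fin N) R →ₐ[R] S).toRingHom).FG :=
    Algebra.FinitePresentation.ker_fG_of_surjective _ hπ
  obtain ⟨s, hs, n, h, hhn, hkill⟩ := exists_kill_ker
    (aeval gen : MvPolynomial (Fin N) R →ₐ[R] S) hπ hKfg p G
    (fun k hk => exists_decomp R S p gen gb hker r hr G hG0 hG k hk)
  -- `π h` is a fibre unit
  have hfib : FibUnit R S p (aeval gen h) := by
    intro q hq hqp hmem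
    haveI := hq
    have hle : p.map (algebraMap R (MvPolynomial (Fin N) R)) ≤
        q.comap (aeval gen : MvPolynomial (Fin N) R →ₐ[R] S).toRingHom := by
      rw [Ideal.map_le_iff_le_comap, Ideal.comap_comap, ← hqp]
      apply le_of_eq
      congr 1
      ext x
      simp
    have h1 : aeval gen (h - (algebraMap R (MvPolynomial (Fin N) R) s) ^ n) ∈ q := hle hhn
    rw [map_sub] at h1
    have h2 : aeval gen ((algebraMap R (MvPolynomial (Fin N) R) s) ^ n) ∈ q := by
      have := q.sub_mem hmem h1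
      rwa [sub_sub_cancel] at this
    rw [map_pow, AlgHom.commutes] at h2
    have h3 : algebraMap R S s ∈ q := hq.mem_of_pow_mem n h2
    apply hs
    rw [← hqp]
    exact h3
  -- the complete intersection ring
  let π₀ : Synt.RelGCIRing R N C G →ₐ[R] S :=
    Ideal.Quotient.liftₐ (Ideal.span (Set.range G)) (aeval gen) (by
      intro a ha
      have hle : Ideal.span (Set.range G) ≤
          RingHom.ker (aeval gen : MvPolynomial (Fin N) R →ₐ[R] S).toRingHom := by
        rw [Ideal.span_le]
        rintro _ ⟨i, rfl⟩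
        exact hG0 i
      exact hle ha)
  have hπ₀ : ∀ z, π₀ (Ideal.Quotient.mk _ z) = aeval gen z := fun z => rfl
  have hπ₀s : Function.Surjective π₀ := fun x => by
    obtain ⟨z, rfl⟩ := hπ x
    exact ⟨Ideal.Quotient.mk _ z, rfl⟩
  obtain ⟨e₁⟩ := awayEquiv R π₀ hπ₀s (Ideal.Quotient.mk _ h) (fun x hx => by
    obtain ⟨z, rfl⟩ := Ideal.Quotient.mk_surjective x
    rw [hπ₀] at hx
    rw [← map_mul, Ideal.Quotient.eq_zero_iff_mem]
    exact hkill z hx)
  let e₂ := snocEquiv R N C G h
  let e₃ : Localization.Away (aeval gen h) ≃ₐ[R]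
      Synt.RelGCIRing R (N + 1) (C + 1) (snocRel R N C G h) := e₁.symm.trans e₂
  -- dimension of the fibre
  have hdim' : ringKrullDim (p.Fiber (Synt.RelGCIRing R (N + 1) (C + 1) (snocRel R N C G h))) =
      (((N + 1) - (C + 1) : ℕ) : WithBot ℕ∞) := by
    have e₄ : p.Fiber (Synt.RelGCIRing R (N + 1) (C + 1) (snocRel R N C G h)) ≃ₐ[p.ResidueField]
        p.Fiber (Localization.Away (aeval gen h)) :=
      Algebra.TensorProduct.congr AlgEquiv.refl e₃.symm
    rw [ringKrullDim_eq_of_ringEquiv e₄.toRingEquiv, ringKrullDim_fibre_away p _ hfib.isUnit, hdim,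
      Nat.add_sub_add_right]
  obtain ⟨h₂, hu, hrel, ⟨ε⟩⟩ := s9173 R (N + 1) (C + 1) (snocRel R N C G h) p
    ⟨by omega, hdim'⟩
  have hgood : Good R (Synt.RelGCIRing R (N + 1) (C + 1) (snocRel R N C G h)) p :=
    ⟨_, fibUnit_of_isUnit hu, _, _, _, hrel, ⟨ε⟩⟩
  exact Good.of_away _ hfib (hgood.of_algEquiv e₃.symm)

end aux

end Groth.Agent.Helper5.LST
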