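import Mathlib
import Groth.Agent.Helper5.LST6
import Groth.Agent.Helper5.SyntLocz2

set_option autoImplicit false
set_option linter.style.haveILetI false
set_option linter.unusedSectionVars false
universe u
open MvPolynomial TensorProduct

namespace Groth.Agent.Helper5.LST

section core

variable (R S : Type u) [CommRing R] [CommRing S] [Algebra R S] (p : Ideal R) [p.IsPrime]

theorem core [Module.Flat R S] [Algebra.FinitePresentation R S] (m c : ℕ) (hcm : c ≤ m)
    (φ : MvPolynomial (Fin m) p.ResidueField →ₐ[p.ResidueField] p.Fiber S)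
    (hφ : Function.Surjective φ) (r : Fin c → MvPolynomial (Fin m) p.ResidueField)
    (hker : RingHom.ker φ.toRingHom = Ideal.span (Set.range r))
    (hdim : ringKrullDim (p.Fiber S) = ((m - c : ℕ) : WithBot ℕ∞))
    (t : Fin m → S) (ht : ∀ j, φ (X j) = (1 : p.ResidueField) ⊗ₜ[R] t j) :
    Good R S p := by
  obtain ⟨l, f, hf⟩ := Algebra.FiniteType.iff_quotient_mvPolynomial''.1
    (inferInstance : Algebra.FiniteType R S)
  choose Pl hPl using fun i : Fin l => hφ ((1 : p.ResidueField) ⊗ₜ[R] f (X i))
  have hψ : psi m l φ (fun i => (1 : p.ResidueField) ⊗ₜ[R] f (X i)) =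
      aeval (fun i => (1 : p.ResidueField) ⊗ₜ[R] (Fin.append t (fun i => f (X i)) i)) := by
    unfold psi
    congr 1
    funext i
    induction i using Fin.addCases with
    | left j => simp [ht]
    | right j => simp
  have hk := ker_psi (v := fun i => (1 : p.ResidueField) ⊗ₜ[R] f (X i)) hker hPl
  rw [hψ] at hk
  refine core_aux R S p (m + l) (c + l) (by omega) (Fin.append t (fun i => f (X i))) ?_ _ hk ?_
  · intro x
    obtain ⟨z, rfl⟩ := hf x
    refine ⟨rename (Fin.natAdd m) z, ?_⟩
    rw [aeval_rename]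
    have : (aeval (Fin.append t (fun i => f (X i)) ∘ Fin.natAdd m) :
        MvPolynomial (Fin l) R →ₐ[R] S) = f := by
      apply MvPolynomial.algHom_ext
      intro i
      simp
    rw [this]
  · rw [hdim, Nat.add_sub_add_right]

/-- the same without the normalisation of the generators -/
theorem core' [Module.Flat R S] [Algebra.FinitePresentation R S] (m c : ℕ) (hcm : c ≤ m)
    (φ : MvPolynomial (Fin m) p.ResidueField →ₐ[p.ResidueField] p.Fiber S)
    (hφ : Function.Surjective φ) (r : Fin c → MvPolynomial (Fin m) p.ResidueField)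
    (hker : RingHom.ker φ.toRingHom = Ideal.span (Set.range r))
    (hdim : ringKrullDim (p.Fiber S) = ((m - c : ℕ) : WithBot ℕ∞)) :
    Good R S p := by
  have hex : ∀ j : Fin m, ∃ s, s ∉ p ∧ ∃ t : S, s • φ (X j) = (1 : p.ResidueField) ⊗ₜ[R] t := fun j => by
    obtain ⟨s, hs, t, h⟩ := Ideal.Fiber.exists_smul_eq_one_tmul p (φ (X j))
    exact ⟨s, hs, t, h⟩
  choose s hs t hst using hex
  have hu : ∀ j, algebraMap R p.ResidueField (s j) ≠ 0 := fun j => by
    rw [ne_eq, Ideal.algebraMap_residueField_eq_zero]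
    exact hs j
  let σ : MvPolynomial (Fin m) p.ResidueField →ₐ[p.ResidueField] MvPolynomial (Fin m) p.ResidueField :=
    aeval (fun j => C (algebraMap R p.ResidueField (s j)) * X j)
  let σ' : MvPolynomial (Fin m) p.ResidueField →ₐ[p.ResidueField] MvPolynomial (Fin m) p.ResidueField :=
    aeval (fun j => C (algebraMap R p.ResidueField (s j))⁻¹ * X j)
  have h1 : σ.comp σ' = AlgHom.id _ _ := by
    apply MvPolynomial.algHom_ext
    intro j
    simp only [AlgHom.comp_apply, σ, σ', aeval_X, map_mul, aeval_C, AlgHom.id_apply]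
    rw [MvPolynomial.algebraMap_eq, ← mul_assoc, ← C_mul, inv_mul_cancel₀ (hu j), C_1, one_mul]
  have h2 : σ'.comp σ = AlgHom.id _ _ := by
    apply MvPolynomial.algHom_ext
    intro j
    simp only [AlgHom.comp_apply, σ, σ', aeval_X, map_mul, aeval_C, AlgHom.id_apply]
    rw [MvPolynomial.algebraMap_eq, ← mul_assoc, ← C_mul, mul_inv_cancel₀ (hu j), C_1, one_mul]
  have h1' : ∀ z, σ (σ' z) = z := fun z => congrArg (fun f => f z) h1
  have h2' : ∀ z, σ' (σ z) = z := fun z => congrArg (fun f => f z) h2
  refine core R S p m c hcm (φ.comp σ) ?_ (fun i => σ' (r i)) ?_ hdim t ?_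
  · intro x
    obtain ⟨z, rfl⟩ := hφ x
    exact ⟨σ' z, by rw [AlgHom.comp_apply, h1']⟩
  · apply le_antisymm
    · intro z hz
      have hz' : σ z ∈ Ideal.span (Set.range r) := by
        rw [← hker]; exact hz
      have h3 : σ' (σ z) ∈ Ideal.map σ'.toRingHom (Ideal.span (Set.range r)) :=
        Ideal.mem_map_of_mem _ hz'
      rw [h2', Ideal.map_span, ← Set.range_comp] at h3
      exact h3
    · rw [Ideal.span_le]
      rintro _ ⟨i, rfl⟩
      show φ (σ (σ' (r i))) = 0
      rw [h1']
      have : r i ∈ RingHom.ker φ.toRingHom := by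
        rw [hker]; exact Ideal.subset_span ⟨i, rfl⟩
      exact this
  · intro j
    rw [AlgHom.comp_apply]
    simp only [σ, aeval_X]
    rw [← hst j, map_mul, ← MvPolynomial.algebraMap_eq, AlgHom.commutes, ← Algebra.smul_def,
      algebraMap_smul]

end core

end Groth.Agent.Helper5.LST
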