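import Mathlib
import Groth.Agent.Helper5.LST7

set_option autoImplicit false
set_option linter.style.haveILetI false
set_option linter.unusedSectionVars false
universe u
open MvPolynomial TensorProduct

namespace Groth.Agent.Helper5.LST

/-- **local structure of syntomic algebras**: a syntomic algebra is, near every prime, a relative
global complete intersection -/
theorem lst (R S : Type u) [CommRing R] [CommRing S] [Algebra R S] (h : Synt.IsSyntomic R S)
    (q : Ideal S) [hq : q.IsPrime] :
    ∃ g : S, g ∉ q ∧ ∃ (n c : ℕ) (F : Fin c → MvPolynomial (Fin n) R), Synt.IsRelGCI R n c F ∧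
      Nonempty (Localization.Away g ≃ₐ[R] Synt.RelGCIRing R n c F) := by
  obtain ⟨hflat, hfp, hfib⟩ := h
  haveI := hflat
  haveI := hfp
  obtain ⟨Q, hQ⟩ := Groth.Agent.Helper5.SpecFib.exists_over R S ⟨q, hq⟩
  obtain ⟨-, hloc⟩ := hfib ⟨q.under R, inferInstance⟩
  obtain ⟨gb, hgb, hCI⟩ := hloc Q
  obtain ⟨r₀, hr₀, g₀, hg₀⟩ := Ideal.Fiber.exists_smul_eq_one_tmul (q.under R) gb
  have hr₀u : IsUnit (algebraMap R ((q.under R).Fiber S) r₀) := by
    rw [IsScalarTower.algebraMap_apply R (q.under R).ResidueField]
    apply IsUnit.map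
    rw [isUnit_iff_ne_zero, ne_eq, Ideal.algebraMap_residueField_eq_zero]
    exact hr₀
  have hg₀q : g₀ ∉ q := by
    intro hmem
    have h1 : ((1 : (q.under R).ResidueField) ⊗ₜ[R] g₀ : (q.under R).Fiber S) ∈ Q.asIdeal := by
      have : g₀ ∈ Q.asIdeal.comap (Algebra.TensorProduct.includeRight (R := R)
          (A := (q.under R).ResidueField) (B := S)).toRingHom := by
        rw [hQ]; exact hmem
      exact this
    rw [← hg₀, Algebra.smul_def] at h1
    rcases Q.isPrime.mem_or_mem h1 with h2 | h2
    · exact Q.isPrime.ne_top (Ideal.eq_top_of_isUnit_mem _ h2 hr₀u)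
    · exact hgb h2
  haveI : Module.Flat R (Localization.Away g₀) := Module.Flat.trans R S (Localization.Away g₀)
  haveI : Algebra.FinitePresentation S (Localization.Away g₀) :=
    IsLocalization.Away.finitePresentation g₀
  haveI : Algebra.FinitePresentation R (Localization.Away g₀) :=
    Algebra.FinitePresentation.trans R S (Localization.Away g₀)
  let e₁ := IsLocalization.Away.tensorProductEquivTMulRight R (q.under R).ResidueField g₀
    (Localization.Away g₀)
  haveI : IsLocalization.Away ((1 : (q.under R).ResidueField) ⊗ₜ[R] g₀ : (q.under R).Fiber S)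
      (Localization.Away gb) := by
    apply IsLocalization.Away.of_associated (r := gb)
    exact ⟨hr₀u.unit, by rw [← hg₀, Algebra.smul_def, mul_comm]; rfl⟩
  let e₂ : Localization.Away ((1 : (q.under R).ResidueField) ⊗ₜ[R] g₀ : (q.under R).Fiber S)
      ≃ₐ[(q.under R).Fiber S] Localization.Away gb :=
    IsLocalization.algEquiv (Submonoid.powers
      ((1 : (q.under R).ResidueField) ⊗ₜ[R] g₀ : (q.under R).Fiber S)) _ _
  let e : (q.under R).Fiber (Localization.Away g₀) ≃ₐ[(q.under R).ResidueField]
      Localization.Away gb := e₁.trans (e₂.restrictScalars (q.under R).ResidueField)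
  have hCI' := Groth.Agent.Helper5.SyntLocz.isGlobalCI_of_algEquiv (q.under R).ResidueField
    _ _ e.symm hCI
  rcases hCI' with hsub | ⟨m, c, hcm, φ, r, hφ, hker, hdim⟩
  · exfalso
    haveI : Subsingleton (Localization.Away gb) := e.symm.toEquiv.subsingleton
    obtain ⟨n, hn⟩ := (IsLocalization.subsingleton_iff (M := Submonoid.powers gb)
      (S := Localization.Away gb)).1 inferInstance
    have hn' : gb ^ n = 0 := hn
    exact hgb (Q.isPrime.mem_of_pow_mem n (hn' ▸ Q.asIdeal.zero_mem))
  · have hgood := core' R (Localization.Away g₀) (q.under R) m c hcm φ hφ r hker hdim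
    exact Good.exists_of_away g₀ q rfl hg₀q hgood

end Groth.Agent.Helper5.LST
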