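import Mathlib
import Groth.Agent.Helper5.RelGCI6
import Groth.Agent.Helper5.SyntDim3

set_option autoImplicit false
set_option linter.style.haveILetI false
universe u
open CategoryTheory AlgebraicGeometry TensorProduct MvPolynomial

namespace Groth.Agent.Helper5.SM

open Groth.Agent.Helper5.RelGCI

/-- being a relative global complete intersection only depends on the ideal of relations -/
theorem isRelGCI_congr_span (R : Type u) [CommRing R] (n c : ℕ)
    (F F' : Fin c → MvPolynomial (Fin n) R)
    (hspan : Ideal.span (Set.range F) = Ideal.span (Set.range F'))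
    (h : Synt.IsRelGCI R n c F) : Synt.IsRelGCI R n c F' := by
  let P : Ideal (MvPolynomial (Fin n) R) → Prop := fun I =>
    ∀ p : PrimeSpectrum R, Nontrivial (p.asIdeal.Fiber (MvPolynomial (Fin n) R ⧸ I)) →
      c ≤ n ∧ ringKrullDim (p.asIdeal.Fiber (MvPolynomial (Fin n) R ⧸ I)) =
        ((n - c : ℕ) : WithBot ℕ∞)
  have h1 : P (Ideal.span (Set.range F)) := h
  have h2 : P (Ideal.span (Set.range F')) := hspan ▸ h1
  exact h2

/-- base change of a relative global complete intersection -/
theorem isRelGCI_map (A B : Type u) [CommRing A] [CommRing B] [Algebra A B] (n c : ℕ)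
    (G : Fin c → MvPolynomial (Fin n) A) (h : Synt.IsRelGCI A n c G) :
    Synt.IsRelGCI B n c (fun i => MvPolynomial.map (algebraMap A B) (G i)) := by
  by_cases hcn : c ≤ n
  · refine isRelGCI_of_fibreDimAt_le B n c _ hcn fun q => ?_
    rw [fibreDimAt_bc' A B n c G q]
    exact (Groth.Agent.Helper5.SyntDim.s9366 A n c G h _).le
  · have hsub : Subsingleton (Synt.RelGCIRing A n c G) := by
      by_contra hns
      rw [not_subsingleton_iff_nontrivial] at hns
      exact hcn (le_of_isRelGCI_of_nontrivial A n c _ h)
    have htop : Ideal.span (Set.range G) = ⊤ := Ideal.Quotient.subsingleton_iff.1 hsub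
    have hJ : (Ideal.span (Set.range G)).map (MvPolynomial.map (algebraMap A B)) = ⊤ := by
      rw [htop, Ideal.map_top]
    rw [Ideal.map_span, ← Set.range_comp] at hJ
    haveI : Subsingleton (Synt.RelGCIRing B n c
        (fun i => MvPolynomial.map (algebraMap A B) (G i))) :=
      Ideal.Quotient.subsingleton_iff.2 hJ
    exact isRelGCI_of_subsingleton B n c _

/-- the base change of a presented algebra along a principal localization of the base is the
principal localization of the presented algebra -/
theorem isLocalization_bc (R R' : Type u) [CommRing R] [CommRing R'] [Algebra R R'] (a : R)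
    [IsLocalization.Away a R'] (n c : ℕ) (F : Fin c → MvPolynomial (Fin n) R) :
    @IsLocalization.Away (Synt.RelGCIRing R n c F) _ (algebraMap R (Synt.RelGCIRing R n c F) a)
      (Synt.RelGCIRing R' n c (fun i => MvPolynomial.map (algebraMap R R') (F i))) _
      (bcHom R R' n c F).toAlgebra := by
  letI alg : Algebra (Synt.RelGCIRing R n c F)
      (Synt.RelGCIRing R' n c (fun i => MvPolynomial.map (algebraMap R R') (F i))) :=
    (bcHom R R' n c F).toAlgebra
  letI : Algebra (Synt.RelGCIRing R n c F) (R' ⊗[R] Synt.RelGCIRing R n c F) :=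
    Algebra.TensorProduct.rightAlgebra
  have h1 : IsLocalization (Algebra.algebraMapSubmonoid (Synt.RelGCIRing R n c F)
      (Submonoid.powers a)) (R' ⊗[R] Synt.RelGCIRing R n c F) :=
    IsLocalization.tensorRight (R := R) (S := Synt.RelGCIRing R n c F) R' (Submonoid.powers a)
  have h2 : Algebra.algebraMapSubmonoid (Synt.RelGCIRing R n c F) (Submonoid.powers a) =
      Submonoid.powers (algebraMap R (Synt.RelGCIRing R n c F) a) := by
    unfold Algebra.algebraMapSubmonoid
    rw [Submonoid.map_powers]
  rw [h2] at h1
  let e : (R' ⊗[R] Synt.RelGCIRing R n c F) ≃ₐ[Synt.RelGCIRing R n c F]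
      Synt.RelGCIRing R' n c (fun i => MvPolynomial.map (algebraMap R R') (F i)) :=
    { (tensorEquiv R R' n c F).toRingEquiv with
      commutes' := fun y => rfl }
  exact @IsLocalization.isLocalization_of_algEquiv _ _ _ _ _ _ _ _ _ h1 e


/-- primes of the presented algebra away from `a` come from the base change to `R_a` -/
theorem exists_comap_bcHom (R R' : Type u) [CommRing R] [CommRing R'] [Algebra R R'] (a : R)
    [IsLocalization.Away a R'] (n c : ℕ) (F : Fin c → MvPolynomial (Fin n) R)
    (x : PrimeSpectrum (Synt.RelGCIRing R n c F))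
    (hx : algebraMap R (Synt.RelGCIRing R n c F) a ∉ x.asIdeal) :
    ∃ x' : PrimeSpectrum
        (Synt.RelGCIRing R' n c (fun i => MvPolynomial.map (algebraMap R R') (F i))),
      PrimeSpectrum.comap (bcHom R R' n c F) x' = x := by
  letI alg : Algebra (Synt.RelGCIRing R n c F)
      (Synt.RelGCIRing R' n c (fun i => MvPolynomial.map (algebraMap R R') (F i))) :=
    (bcHom R R' n c F).toAlgebra
  haveI := isLocalization_bc R R' a n c F
  have hr := PrimeSpectrum.localization_away_comap_range
    (Synt.RelGCIRing R' n c (fun i => MvPolynomial.map (algebraMap R R') (F i)))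
    (algebraMap R (Synt.RelGCIRing R n c F) a)
  have hmem : x ∈ Set.range (PrimeSpectrum.comap (algebraMap (Synt.RelGCIRing R n c F)
      (Synt.RelGCIRing R' n c (fun i => MvPolynomial.map (algebraMap R R') (F i))))) := by
    rw [hr]
    exact hx
  obtain ⟨x', hx'⟩ := hmem
  exact ⟨x', hx'⟩

end Groth.Agent.Helper5.SM
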