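import Mathlib
import Groth.Agent.Helper5.SM1

set_option autoImplicit false
set_option linter.style.haveILetI false
universe u
open CategoryTheory AlgebraicGeometry TensorProduct MvPolynomial

namespace Groth.Agent.Helper5.SM

open Groth.Agent.Helper5.RelGCI

/-- syntomic ring homomorphism -/
def SyntHom {R S : Type u} [CommRing R] [CommRing S] (φ : R →+* S) : Prop :=
  @Synt.IsSyntomic R _ S _ φ.toAlgebra

/-- standard syntomic ring homomorphism: isomorphic to a relative global complete intersection -/
def StdSynt {R S : Type u} [CommRing R] [CommRing S] (φ : R →+* S) : Prop :=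
  ∃ (n c : ℕ) (F : Fin c → MvPolynomial (Fin n) R), Synt.IsRelGCI R n c F ∧
    ∃ e : S ≃+* Synt.RelGCIRing R n c F, ∀ r, e (φ r) = algebraMap R _ r

theorem bcHom_algebraMap (R R' : Type u) [CommRing R] [CommRing R'] [Algebra R R'] (n c : ℕ)
    (F : Fin c → MvPolynomial (Fin n) R) (t : R) :
    bcHom R R' n c F (algebraMap R (Synt.RelGCIRing R n c F) t) =
      algebraMap R' (Synt.RelGCIRing R' n c (fun i => MvPolynomial.map (algebraMap R R') (F i)))
        (algebraMap R R' t) := by
  have h1 : algebraMap R (Synt.RelGCIRing R n c F) t =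
      Ideal.Quotient.mk (Ideal.span (Set.range F)) (C t) := rfl
  rw [h1, bcHom_mk, MvPolynomial.map_C]
  rfl

theorem stdSynt_localizationAwayPreserves : RingHom.LocalizationAwayPreserves @StdSynt := by
  intro R S _ _ f r R' S' _ _ _ _ _ _ h
  obtain ⟨n, c, F, hF, e, he⟩ := h
  refine ⟨n, c, fun i => MvPolynomial.map (algebraMap R R') (F i), isRelGCI_map R R' n c F hF, ?_⟩
  letI alg : Algebra (Synt.RelGCIRing R n c F)
      (Synt.RelGCIRing R' n c (fun i => MvPolynomial.map (algebraMap R R') (F i))) :=
    (bcHom R R' n c F).toAlgebra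
  haveI hK := isLocalization_bc R R' r n c F
  have H : Submonoid.map e.toMonoidHom (Submonoid.powers (f r)) =
      Submonoid.powers (algebraMap R (Synt.RelGCIRing R n c F) r) := by
    rw [Submonoid.map_powers]
    congr 1
    exact he r
  let e' : S' ≃+* Synt.RelGCIRing R' n c (fun i => MvPolynomial.map (algebraMap R R') (F i)) :=
    IsLocalization.ringEquivOfRingEquiv (M := Submonoid.powers (f r)) S'
      (T := Submonoid.powers (algebraMap R (Synt.RelGCIRing R n c F) r))
      (Synt.RelGCIRing R' n c (fun i => MvPolynomial.map (algebraMap R R') (F i))) e H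
  refine ⟨e', ?_⟩
  have hext : (e'.toRingHom.comp (IsLocalization.Away.map R' S' f r)) =
      algebraMap R' (Synt.RelGCIRing R' n c (fun i => MvPolynomial.map (algebraMap R R') (F i))) := by
    apply IsLocalization.ringHom_ext (Submonoid.powers r)
    ext t
    simp only [RingHom.coe_comp, Function.comp_apply, RingEquiv.toRingHom_eq_coe, RingHom.coe_coe]
    rw [IsLocalization.Away.map, IsLocalization.map_eq]
    rw [IsLocalization.ringEquivOfRingEquiv_eq, he t]
    exact bcHom_algebraMap R R' n c F t
  intro x
  exact DFunLike.congr_fun hext x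

end Groth.Agent.Helper5.SM
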