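import Mathlib
import Groth.Agent.Helper5.SM2
import Groth.Agent.Helper5.RelGCI15

set_option autoImplicit false
set_option linter.style.haveILetI false
universe u
open CategoryTheory AlgebraicGeometry TensorProduct MvPolynomial

namespace Groth.Agent.Helper5.SM

open Groth.Agent.Helper5.RelGCI

/-- a principal localization of a relative global complete intersection is one -/
theorem isRelGCI_snoc_of_isRelGCI (R : Type u) [CommRing R] (n c : ℕ)
    (F : Fin c → MvPolynomial (Fin n) R) (h : MvPolynomial (Fin n) R)
    (hF : Synt.IsRelGCI R n c F) :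
    Synt.IsRelGCI R (n + 1) (c + 1) (snocRel R n c F h) := by
  rcases subsingleton_or_nontrivial (Synt.RelGCIRing R n c F) with hsub | hnt
  · haveI : Subsingleton (Synt.RelGCIRing R (n + 1) (c + 1) (snocRel R n c F h)) := by
      refine ⟨fun a b => ?_⟩
      have h1 : (1 : Synt.RelGCIRing R (n + 1) (c + 1) (snocRel R n c F h)) = 0 := by
        rw [← map_one (snocHom R n c F h), Subsingleton.elim (1 : Synt.RelGCIRing R n c F) 0,
          map_zero]
      exact eq_of_zero_eq_one h1.symm a b
    exact isRelGCI_of_subsingleton R (n + 1) (c + 1) _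
  · have hcn : c ≤ n := le_of_isRelGCI_of_nontrivial R n c F hF
    exact isRelGCI_snoc R n c F h hcn fun x _ =>
      (Groth.Agent.Helper5.SyntDim.s9366 R n c F hF x).le

theorem stdSynt_target : RingHom.StableUnderCompositionWithLocalizationAwayTarget @StdSynt := by
  intro R S T _ _ _ _ s _ f hf
  obtain ⟨n, c, F, hF, e, he⟩ := hf
  obtain ⟨h, hh⟩ := Ideal.Quotient.mk_surjective (e s)
  refine ⟨n + 1, c + 1, snocRel R n c F h, isRelGCI_snoc_of_isRelGCI R n c F h hF, ?_⟩
  letI alg : Algebra (Synt.RelGCIRing R n c F)
      (Synt.RelGCIRing R (n + 1) (c + 1) (snocRel R n c F h)) :=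
    (snocHom R n c F h : Synt.RelGCIRing R n c F →+* _).toAlgebra
  haveI hK := isLocalization_snoc R n c F h
  have H : Submonoid.map e.toMonoidHom (Submonoid.powers s) =
      Submonoid.powers (Ideal.Quotient.mk (Ideal.span (Set.range F)) h) := by
    rw [Submonoid.map_powers]
    congr 1
    exact hh.symm
  let e' : T ≃+* Synt.RelGCIRing R (n + 1) (c + 1) (snocRel R n c F h) :=
    IsLocalization.ringEquivOfRingEquiv (M := Submonoid.powers s) T
      (T := Submonoid.powers (Ideal.Quotient.mk (Ideal.span (Set.range F)) h))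
      (Synt.RelGCIRing R (n + 1) (c + 1) (snocRel R n c F h)) e H
  refine ⟨e', fun r => ?_⟩
  simp only [RingHom.coe_comp, Function.comp_apply]
  rw [IsLocalization.ringEquivOfRingEquiv_eq, he r]
  exact (snocHom R n c F h).commutes r

end Groth.Agent.Helper5.SM
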