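import Mathlib
import Groth.Agent.Helper5.SM3

set_option autoImplicit false
set_option linter.style.haveILetI false
universe u
open CategoryTheory AlgebraicGeometry TensorProduct MvPolynomial

namespace Groth.Agent.Helper5.SM

open Groth.Agent.Helper5.RelGCI

attribute [local instance] MvPolynomial.algebraMvPolynomial in
/-- clearing denominators in a polynomial over a principal localization -/
theorem exists_clear (R R' : Type u) [CommRing R] [CommRing R'] [Algebra R R'] (r : R)
    [IsLocalization.Away r R'] (n : ℕ) (p : MvPolynomial (Fin n) R') :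
    ∃ (q : MvPolynomial (Fin n) R) (v : MvPolynomial (Fin n) R'), IsUnit v ∧
      MvPolynomial.map (algebraMap R R') q = p * v := by
  haveI : IsLocalization ((Submonoid.powers r).map (C (σ := Fin n)))
      (MvPolynomial (Fin n) R') := MvPolynomial.isLocalization (Submonoid.powers r) R'
  obtain ⟨x, hx⟩ := IsLocalization.surj ((Submonoid.powers r).map (C (σ := Fin n))) p
  refine ⟨x.1, algebraMap (MvPolynomial (Fin n) R) (MvPolynomial (Fin n) R') x.2,
    IsLocalization.map_units _ x.2, ?_⟩
  rw [hx]
  rfl

/-- replacing relations by unit multiples does not change the ideal -/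
theorem span_range_eq_of_units {A : Type*} [CommRing A] {ι : Type*} (F F' : ι → A) (v : ι → A)
    (hv : ∀ i, IsUnit (v i)) (h : ∀ i, F' i = F i * v i) :
    Ideal.span (Set.range F') = Ideal.span (Set.range F) := by
  apply le_antisymm
  · rw [Ideal.span_le]
    rintro _ ⟨i, rfl⟩
    rw [h i]
    exact Ideal.mul_mem_right _ _ (Ideal.subset_span (Set.mem_range_self i))
  · rw [Ideal.span_le]
    rintro _ ⟨i, rfl⟩
    obtain ⟨u, hu⟩ := hv i
    have : F i = F' i * ((u⁻¹ : Aˣ) : A) := by
      rw [h i, ← hu, mul_assoc, Units.mul_inv, mul_one]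
    rw [this]
    exact Ideal.mul_mem_right _ _ (Ideal.subset_span (Set.mem_range_self i))


set_option maxHeartbeats 1000000 in
theorem stdSynt_source : RingHom.StableUnderCompositionWithLocalizationAwaySource @StdSynt := by
  intro R R' T _ _ _ _ r _ f hf
  obtain ⟨n, c, F, hF, e, he⟩ := hf
  choose Ft v hv hFt using fun j => exists_clear R R' r n (F j)
  have hspan : Ideal.span (Set.range (fun i => MvPolynomial.map (algebraMap R R') (Ft i))) =
      Ideal.span (Set.range F) :=
    span_range_eq_of_units F _ v hv hFt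
  have hF' : Synt.IsRelGCI R' n c (fun i => MvPolynomial.map (algebraMap R R') (Ft i)) :=
    isRelGCI_congr_span R' n c F _ hspan.symm hF
  letI algC' : Algebra (Synt.RelGCIRing R n c Ft)
      (Synt.RelGCIRing R' n c (fun i => MvPolynomial.map (algebraMap R R') (Ft i))) :=
    (bcHom R R' n c Ft).toAlgebra
  letI algD : Algebra (Synt.RelGCIRing R n c Ft)
      (Synt.RelGCIRing R (n + 1) (c + 1) (snocRel R n c Ft (C r))) :=
    (snocHom R n c Ft (C r) : Synt.RelGCIRing R n c Ft →+* _).toAlgebra
  haveI h1 : IsLocalization.Away (algebraMap R (Synt.RelGCIRing R n c Ft) r)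
      (Synt.RelGCIRing R' n c (fun i => MvPolynomial.map (algebraMap R R') (Ft i))) :=
    isLocalization_bc R R' r n c Ft
  haveI h2 : IsLocalization.Away (algebraMap R (Synt.RelGCIRing R n c Ft) r)
      (Synt.RelGCIRing R (n + 1) (c + 1) (snocRel R n c Ft (C r))) :=
    isLocalization_snoc R n c Ft (C r)
  let ψ : Synt.RelGCIRing R' n c (fun i => MvPolynomial.map (algebraMap R R') (Ft i))
      ≃ₐ[Synt.RelGCIRing R n c Ft] Synt.RelGCIRing R (n + 1) (c + 1) (snocRel R n c Ft (C r)) :=
    IsLocalization.algEquiv (Submonoid.powers (algebraMap R (Synt.RelGCIRing R n c Ft) r)) _ _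
  have hG : Synt.IsRelGCI R (n + 1) (c + 1) (snocRel R n c Ft (C r)) := by
    rcases subsingleton_or_nontrivial
      (Synt.RelGCIRing R (n + 1) (c + 1) (snocRel R n c Ft (C r))) with hsub | hnt
    · exact isRelGCI_of_subsingleton R (n + 1) (c + 1) _
    · haveI : Nontrivial
          (Synt.RelGCIRing R' n c (fun i => MvPolynomial.map (algebraMap R R') (Ft i))) :=
        ψ.toEquiv.nontrivial
      have hcn := le_of_isRelGCI_of_nontrivial R' n c _ hF'
      refine isRelGCI_snoc R n c Ft (C r) hcn fun x hx => ?_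
      obtain ⟨x', hx'⟩ := exists_comap_bcHom R R' r n c Ft x hx
      rw [← hx', ← fibreDimAt_bc' R R' n c Ft x']
      exact (Groth.Agent.Helper5.SyntDim.s9366 R' n c _ hF' x').le
  refine ⟨n + 1, c + 1, snocRel R n c Ft (C r), hG, ?_⟩
  let e1 : Synt.RelGCIRing R' n c F ≃+*
      Synt.RelGCIRing R' n c (fun i => MvPolynomial.map (algebraMap R R') (Ft i)) :=
    Ideal.quotEquivOfEq hspan.symm
  refine ⟨(e.trans e1).trans ψ.toRingEquiv, fun t => ?_⟩
  simp only [RingHom.coe_comp, Function.comp_apply, RingEquiv.trans_apply]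
  rw [he]
  have h3 : e1 (algebraMap R' (Synt.RelGCIRing R' n c F) (algebraMap R R' t)) =
      algebraMap (Synt.RelGCIRing R n c Ft)
        (Synt.RelGCIRing R' n c (fun i => MvPolynomial.map (algebraMap R R') (Ft i)))
        (algebraMap R (Synt.RelGCIRing R n c Ft) t) := by
    rw [RingHom.algebraMap_toAlgebra, bcHom_algebraMap]
    rfl
  rw [h3]
  show ψ (algebraMap _ _ _) = _
  rw [ψ.commutes]
  exact (snocHom R n c Ft (C r)).commutes t

end Groth.Agent.Helper5.SM
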