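import Mathlib
import Groth.Agent.Helper5.SM4
import Groth.Agent.Helper5.LST8
import Groth.Agent.Helper5.RelGCI11
import Groth.Agent.Helper4.SyntLocal

set_option autoImplicit false
set_option linter.style.haveILetI false
universe u
open CategoryTheory AlgebraicGeometry TensorProduct MvPolynomial

namespace Groth.Agent.Helper5.SM

open Groth.Agent.Helper5.RelGCI

/-- syntomic algebras are invariant under algebra isomorphisms -/
theorem isSyntomic_of_algEquiv (R A B : Type u) [CommRing R] [CommRing A] [CommRing B]
    [Algebra R A] [Algebra R B] (e : A ≃ₐ[R] B) (h : Synt.IsSyntomic R A) :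
    Synt.IsSyntomic R B := by
  obtain ⟨hflat, hfp, hfib⟩ := h
  haveI := hflat
  haveI := hfp
  refine ⟨Module.Flat.of_linearEquiv e.symm.toLinearEquiv, Algebra.FinitePresentation.equiv e,
    fun p => ?_⟩
  exact Groth.Agent.Helper4.SyntLocal.isLCIOver_of_algEquiv _
    (Algebra.TensorProduct.congr (AlgEquiv.refl : p.asIdeal.ResidueField ≃ₐ[p.asIdeal.ResidueField]
      p.asIdeal.ResidueField) e) (hfib p)

theorem syntHom_of_stdSynt {R S : Type u} [CommRing R] [CommRing S] (φ : R →+* S)
    (h : StdSynt φ) : SyntHom φ := by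
  obtain ⟨n, c, F, hF, e, he⟩ := h
  letI := φ.toAlgebra
  let e' : Synt.RelGCIRing R n c F ≃ₐ[R] S :=
    { e.symm with
      commutes' := fun r => by
        show e.symm (algebraMap R _ r) = φ r
        rw [← he r, RingEquiv.symm_apply_apply] }
  exact isSyntomic_of_algEquiv R _ S e' (Groth.Agent.Helper5.RelGCI.s9147 R n c F hF)


theorem stdSynt_away : RingHom.StableUnderCompositionWithLocalizationAway @StdSynt :=
  ⟨stdSynt_source, stdSynt_target⟩

theorem stdSynt_respectsIso : RingHom.RespectsIso @StdSynt :=
  RingHom.StableUnderCompositionWithLocalizationAway.respectsIso ⟨stdSynt_source, stdSynt_target⟩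

theorem locally_of_syntHom {R S : Type u} [CommRing R] [CommRing S] (φ : R →+* S)
    (h : SyntHom φ) : RingHom.Locally @StdSynt φ := by
  letI := φ.toAlgebra
  refine ⟨{g : S | StdSynt ((algebraMap S (Localization.Away g)).comp φ)}, ?_, fun t ht => ht⟩
  by_contra hne
  obtain ⟨m, hm, hle⟩ := Ideal.exists_le_maximal _ hne
  haveI := hm.isPrime
  obtain ⟨g, hg, n, c, F, hF, ⟨e⟩⟩ := Groth.Agent.Helper5.LST.lst R S h m
  apply hg
  apply hle
  apply Ideal.subset_span
  refine ⟨n, c, F, hF, e.toRingEquiv, fun r => ?_⟩
  simp only [RingHom.coe_comp, Function.comp_apply]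
  have h1 : algebraMap S (Localization.Away g) (φ r) = algebraMap R (Localization.Away g) r :=
    (IsScalarTower.algebraMap_apply R S (Localization.Away g) r).symm
  rw [h1]
  exact e.commutes r

theorem syntHom_of_locally {R S : Type u} [CommRing R] [CommRing S] (φ : R →+* S)
    (h : RingHom.Locally @StdSynt φ) : SyntHom φ := by
  letI := φ.toAlgebra
  rw [RingHom.locally_iff_finite] at h
  obtain ⟨s, hs, hP⟩ := h
  refine Groth.Agent.Helper4.SyntLocal.isSyntomic_of_span R S s hs fun g hg => ?_
  have h1 := syntHom_of_stdSynt _ (hP g hg)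
  have h2 : ((algebraMap S (Localization.Away g)).comp φ).toAlgebra =
      (inferInstance : Algebra R (Localization.Away g)) := by
    apply Algebra.algebra_ext
    intro r
    exact (IsScalarTower.algebraMap_apply R S (Localization.Away g) r).symm
  unfold SyntHom at h1
  rw [h2] at h1
  exact h1

theorem syntHom_iff_locally {R S : Type u} [CommRing R] [CommRing S] (φ : R →+* S) :
    SyntHom φ ↔ RingHom.Locally @StdSynt φ :=
  ⟨locally_of_syntHom φ, syntHom_of_locally φ⟩

theorem syntHom_eq : @SyntHom = fun {R S : Type u} [CommRing R] [CommRing S] (φ : R →+* S) =>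
    RingHom.Locally @StdSynt φ := by
  funext R S _ _ φ
  exact propext (syntHom_iff_locally φ)

theorem syntHom_propertyIsLocal : RingHom.PropertyIsLocal @SyntHom := by
  rw [syntHom_eq]
  exact RingHom.locally_propertyIsLocal stdSynt_localizationAwayPreserves
    ⟨stdSynt_source, stdSynt_target⟩

theorem syntHom_source : RingHom.StableUnderCompositionWithLocalizationAwaySource @SyntHom := by
  rw [syntHom_eq]
  exact RingHom.locally_stableUnderCompositionWithLocalizationAwaySource stdSynt_source

end Groth.Agent.Helper5.SM
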