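import Mathlib
import Groth.Agent.Helper5.SM5

set_option autoImplicit false
set_option linter.style.haveILetI false
universe u
open CategoryTheory AlgebraicGeometry TensorProduct MvPolynomial

namespace Groth.Agent.Helper5.SM

/-- the property of morphisms of schemes attached to syntomic ring maps -/
def syntP : MorphismProperty Scheme.{u} := affineLocally @SyntHom

instance : HasRingHomProperty syntP.{u} @SyntHom := ⟨syntHom_propertyIsLocal, rfl⟩

theorem isSyntomicMor_iff {X S : Scheme.{u}} (f : X ⟶ S) : Synt.IsSyntomicMor f ↔ syntP f := by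
  rw [HasRingHomProperty.iff_exists_appLE (P := syntP) syntHom_source]
  constructor
  · intro h x
    obtain ⟨U, V, e, hx, hs⟩ := h x
    exact ⟨V, U, hx, e, hs⟩
  · intro h x
    obtain ⟨V, U, hx, e, hs⟩ := h x
    exact ⟨U, V, e, hx, hs⟩

theorem s9363 {X S : Scheme.{u}} (f : X ⟶ S) :
    Synt.IsSyntomicMor f ↔
      ∀ (U : X.affineOpens) (V : S.affineOpens) (e : U.1 ≤ f ⁻¹ᵁ V.1),
        letI := (f.appLE V.1 U.1 e).hom.toAlgebra
        Synt.IsSyntomic Γ(S, V.1) Γ(X, U.1) := by
  rw [isSyntomicMor_iff, HasRingHomProperty.iff_appLE (P := syntP)]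
  constructor
  · intro h U V e
    exact h V U e
  · intro h V U e
    exact h U V e

end Groth.Agent.Helper5.SM
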