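import Mathlib
import Groth.Agent.Helper5.SM6

set_option autoImplicit false
set_option linter.style.haveILetI false
universe u
open CategoryTheory AlgebraicGeometry TensorProduct MvPolynomial

namespace Groth.Agent.Helper5.SM

theorem exists_affine_syntHom {X S : Scheme.{u}} (f : X ⟶ S) (x : X) (V : S.affineOpens)
    (hV : f.base x ∈ V.1) (h : Synt.IsSyntomicAt f x) :
    ∃ (W : X.affineOpens) (e : W.1 ≤ f ⁻¹ᵁ V.1), x ∈ W.1 ∧ SyntHom (f.appLE V.1 W.1 e).hom := by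
  obtain ⟨U₂, V₂, e₂, hx₂, h₂⟩ := h
  obtain ⟨r, s, hxs, e, hP⟩ := exists_basicOpen_le_appLE_of_appLE_of_isAffine (P := @SyntHom)
    syntHom_propertyIsLocal.StableUnderCompositionWithLocalizationAwayTarget
    syntHom_propertyIsLocal.localizationAwayPreserves x V V₂ U₂ U₂ hx₂ hx₂ e₂ h₂ hV
  have e' : X.basicOpen s ≤ f ⁻¹ᵁ V.1 :=
    e.trans ((TopologicalSpace.Opens.map f.base).map (homOfLE (S.basicOpen_le r))).le
  refine ⟨⟨X.basicOpen s, U₂.2.basicOpen s⟩, e', hxs, ?_⟩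
  have := V.2.isLocalization_basicOpen r
  have h3 := syntHom_source Γ(S, S.basicOpen r) r (f.appLE (S.basicOpen r) (X.basicOpen s) e).hom hP
  have h4 : f.appLE V.1 (X.basicOpen s) e' =
      S.presheaf.map (homOfLE (S.basicOpen_le r)).op ≫ f.appLE (S.basicOpen r) (X.basicOpen s) e :=
    (Scheme.Hom.map_appLE f e (homOfLE (S.basicOpen_le r)).op).symm
  show SyntHom (f.appLE V.1 (X.basicOpen s) e').hom
  rw [h4]
  exact h3


theorem exists_basicOpen_stdSynt {X S : Scheme.{u}} (f : X ⟶ S) (x : X) (V : S.affineOpens)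
    (W : X.affineOpens) (e : W.1 ≤ f ⁻¹ᵁ V.1) (hx : x ∈ W.1)
    (h : SyntHom (f.appLE V.1 W.1 e).hom) :
    ∃ (U : X.affineOpens) (e' : U.1 ≤ f ⁻¹ᵁ V.1), x ∈ U.1 ∧ StdSynt (f.appLE V.1 U.1 e').hom := by
  rw [syntHom_iff_locally, RingHom.locally_iff_isLocalization stdSynt_respectsIso] at h
  obtain ⟨s, hs, hfs⟩ := h
  have hs' := iSup_basicOpen_of_span_eq_top W.1 s hs
  have h1 : x ∈ (⨆ i ∈ s, X.basicOpen i) := hs'.symm ▸ hx
  have h2 : ∃ r ∈ s, x ∈ X.basicOpen r := by simpa using h1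
  obtain ⟨r, hr, hrs⟩ := h2
  refine ⟨⟨X.basicOpen r, W.2.basicOpen r⟩, (X.basicOpen_le r).trans e, hrs, ?_⟩
  show StdSynt (f.appLE V.1 (X.basicOpen r) _).hom
  rw [← f.appLE_map e (homOfLE (X.basicOpen_le r)).op]
  have : IsLocalization.Away r Γ(X, X.basicOpen r) := W.2.isLocalization_basicOpen r
  exact hfs r hr _


theorem isStandardSyntomic_of_stdSynt {Y Z : Scheme.{u}} [IsAffine Y] [IsAffine Z] (g : Y ⟶ Z)
    (h : StdSynt g.appTop.hom) : Synt.IsStandardSyntomic g := by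
  obtain ⟨n, c, F, hF, ε, hε⟩ := h
  refine ⟨Γ(Z, ⊤), inferInstance, n, c, F, hF, ?_⟩
  let i : CommRingCat.of (Synt.RelGCIRing Γ(Z, ⊤) n c F) ≅ Γ(Y, ⊤) := ε.symm.toCommRingCatIso
  have hi : CommRingCat.ofHom (algebraMap Γ(Z, ⊤) (Synt.RelGCIRing Γ(Z, ⊤) n c F)) ≫ i.hom =
      g.appTop := by
    ext r
    show ε.symm (algebraMap Γ(Z, ⊤) (Synt.RelGCIRing Γ(Z, ⊤) n c F) r) = g.appTop.hom r
    rw [← hε r, RingEquiv.symm_apply_apply]
  refine ⟨Y.isoSpec ≪≫ Scheme.Spec.mapIso i.op, Z.isoSpec, ?_⟩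
  simp only [Iso.trans_hom, Functor.mapIso_hom, Iso.op_hom, Scheme.Spec_map, Quiver.Hom.unop_op,
    Category.assoc]
  rw [← Spec.map_comp, hi]
  exact Scheme.isoSpec_hom_naturality g


theorem syntP_of_isStandardSyntomic {Y Z : Scheme.{u}} (g : Y ⟶ Z)
    (h : Synt.IsStandardSyntomic g) : syntP g := by
  obtain ⟨R, _, n, c, F, hF, e₁, e₂, comm⟩ := h
  have h1 : syntP (Spec.map (CommRingCat.ofHom (algebraMap R (Synt.RelGCIRing R n c F)))) := by
    rw [HasRingHomProperty.Spec_iff (P := syntP)]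
    exact syntHom_of_stdSynt _ ⟨n, c, F, hF, RingEquiv.refl _, fun r => rfl⟩
  exact (MorphismProperty.arrow_mk_iso_iff syntP (Arrow.isoMk e₁ e₂ comm)).mpr h1

theorem syntHom_appLE_of_resLE {X S : Scheme.{u}} (f : X ⟶ S) (V : S.affineOpens)
    (U : X.affineOpens) (e : U.1 ≤ f ⁻¹ᵁ V.1) (h : syntP (f.resLE V.1 U.1 e)) :
    SyntHom (f.appLE V.1 U.1 e).hom := by
  haveI : IsAffine V.1 := V.2
  haveI : IsAffine U.1 := U.2
  rw [HasRingHomProperty.iff_of_isAffine (P := syntP)] at h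
  have hri : (RingHom.toMorphismProperty @SyntHom).RespectsIso :=
    RingHom.toMorphismProperty_respectsIso_iff.mp syntHom_propertyIsLocal.respectsIso
  exact (MorphismProperty.arrow_mk_iso_iff (RingHom.toMorphismProperty @SyntHom)
    (arrowResLEAppIso f V.1 U.1 e)).mp h

theorem stdSynt_resLE_of_appLE {X S : Scheme.{u}} (f : X ⟶ S) (V : S.affineOpens)
    (U : X.affineOpens) (e : U.1 ≤ f ⁻¹ᵁ V.1) (h : StdSynt (f.appLE V.1 U.1 e).hom) :
    StdSynt (f.resLE V.1 U.1 e).appTop.hom := by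
  have hri : (RingHom.toMorphismProperty @StdSynt).RespectsIso :=
    RingHom.toMorphismProperty_respectsIso_iff.mp stdSynt_respectsIso
  exact (MorphismProperty.arrow_mk_iso_iff (RingHom.toMorphismProperty @StdSynt)
    (arrowResLEAppIso f V.1 U.1 e)).mpr h

theorem s9364 {X S : Scheme.{u}} (f : X ⟶ S) (x : X) (V : S.affineOpens)
    (hV : f.base x ∈ V.1) :
    Synt.IsSyntomicAt f x ↔
      ∃ (U : X.affineOpens) (e : U.1 ≤ f ⁻¹ᵁ V.1), x ∈ U.1 ∧
        Synt.IsStandardSyntomic (f.resLE V.1 U.1 e) := by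
  constructor
  · intro h
    obtain ⟨W, eW, hxW, hW⟩ := exists_affine_syntHom f x V hV h
    obtain ⟨U, e, hxU, hU⟩ := exists_basicOpen_stdSynt f x V W eW hxW hW
    refine ⟨U, e, hxU, ?_⟩
    haveI : IsAffine V.1 := V.2
    haveI : IsAffine U.1 := U.2
    exact isStandardSyntomic_of_stdSynt _ (stdSynt_resLE_of_appLE f V U e hU)
  · rintro ⟨U, e, hxU, hstd⟩
    exact ⟨U, V, e, hxU, syntHom_appLE_of_resLE f V U e (syntP_of_isStandardSyntomic _ hstd)⟩

end Groth.Agent.Helper5.SM
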