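import Mathlib
import Groth.Agent.Helper5.SM7

set_option autoImplicit false
set_option linter.style.haveILetI false
universe u
open CategoryTheory AlgebraicGeometry TensorProduct MvPolynomial

namespace Groth.Agent.Helper5.SM

/-- change of the base field along a bijection -/
theorem isGlobalCI_of_bijective (k K : Type u) [Field k] [Field K] [Algebra k K]
    (hb : Function.Bijective (algebraMap k K)) (T : Type u) [CommRing T] [Algebra K T]
    [Algebra k T] [IsScalarTower k K T] (h : Synt.IsGlobalCI K T) : Synt.IsGlobalCI k T := by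
  rcases h with hsub | ⟨n, c, hcn, φ, r, hφ, hker, hdim⟩
  · exact Or.inl hsub
  · let σ : k ≃+* K := RingEquiv.ofBijective (algebraMap k K) hb
    let E : MvPolynomial (Fin n) k ≃+* MvPolynomial (Fin n) K := MvPolynomial.mapEquiv (Fin n) σ
    let φ' : MvPolynomial (Fin n) k →ₐ[k] T :=
      { toRingHom := φ.toRingHom.comp E.toRingHom
        commutes' := fun a => by
          show φ (E (C a)) = algebraMap k T a
          have h1 : E (C a) = algebraMap K (MvPolynomial (Fin n) K) (algebraMap k K a) := by
            show MvPolynomial.map (σ : k →+* K) (C a) = _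
            rw [MvPolynomial.map_C]
            rfl
          rw [h1, φ.commutes, ← IsScalarTower.algebraMap_apply] }
    refine Or.inr ⟨n, c, hcn, φ', fun i => E.symm (r i), ?_, ?_, hdim⟩
    · exact hφ.comp E.surjective
    · have h1 : RingHom.ker φ'.toRingHom = (RingHom.ker φ.toRingHom).comap E.toRingHom := by
        ext x
        simp only [RingHom.mem_ker, Ideal.mem_comap]
        rfl
      rw [h1, hker]
      have h2 : (Ideal.span (Set.range r)).comap E.toRingHom =
          (Ideal.span (Set.range r)).map E.symm.toRingHom :=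
        (Ideal.map_symm (I := Ideal.span (Set.range r)) E).symm
      rw [h2, Ideal.map_span, ← Set.range_comp]
      rfl


theorem isLCIOver_of_bijective (k K : Type u) [Field k] [Field K] [Algebra k K]
    (hb : Function.Bijective (algebraMap k K)) (T : Type u) [CommRing T] [Algebra K T]
    [Algebra k T] [IsScalarTower k K T] (h : Synt.IsLCIOver K T) : Synt.IsLCIOver k T := by
  obtain ⟨hft, hloc⟩ := h
  refine ⟨?_, fun p => ?_⟩
  · haveI := hft
    haveI : Algebra.FiniteType k K :=
      Algebra.FiniteType.of_surjective (Algebra.ofId k K) hb.surjective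
    exact Algebra.FiniteType.trans ‹Algebra.FiniteType k K› hft
  · obtain ⟨g, hg, hCI⟩ := hloc p
    exact ⟨g, hg, isGlobalCI_of_bijective k K hb (Localization.Away g) hCI⟩

/-- a syntomic algebra over a field is a local complete intersection over it -/
theorem isLCIOver_of_isSyntomic_field (k : Type u) [Field k] (A : Type u) [CommRing A]
    [Algebra k A] (h : Synt.IsSyntomic k A) : Synt.IsLCIOver k A := by
  let p0 : PrimeSpectrum k := ⟨⊥, Ideal.isPrime_bot⟩
  have h1 := h.2.2 p0
  haveI : (p0.asIdeal).IsMaximal := Ideal.bot_isMaximal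
  have hb : Function.Bijective (algebraMap k p0.asIdeal.ResidueField) :=
    ⟨(algebraMap k p0.asIdeal.ResidueField).injective,
      Ideal.algebraMap_residueField_surjective p0.asIdeal⟩
  have h2 : Synt.IsLCIOver k (p0.asIdeal.ResidueField ⊗[k] A) :=
    isLCIOver_of_bijective k p0.asIdeal.ResidueField hb _ h1
  let e : p0.asIdeal.ResidueField ⊗[k] A ≃ₐ[k] A :=
    (Algebra.TensorProduct.congr
      (AlgEquiv.ofBijective (Algebra.ofId k p0.asIdeal.ResidueField) hb).symm
      (AlgEquiv.refl : A ≃ₐ[k] A)).trans (Algebra.TensorProduct.lid k A)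
  exact Groth.Agent.Helper4.SyntLocal.isLCIOver_of_algEquiv k e h2


theorem isSyntomic_of_syntHom_algebraMap (R S : Type u) [CommRing R] [CommRing S] [Algebra R S]
    (h : SyntHom (algebraMap R S)) : Synt.IsSyntomic R S := by
  unfold SyntHom at h
  have h0 : (algebraMap R S).toAlgebra = ‹Algebra R S› := Algebra.algebra_ext _ _ (fun r => rfl)
  rwa [h0] at h

theorem syntHom_algebraMap_of_isSyntomic (R S : Type u) [CommRing R] [CommRing S] [Algebra R S]
    (h : Synt.IsSyntomic R S) : SyntHom (algebraMap R S) := by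
  unfold SyntHom
  have h0 : (algebraMap R S).toAlgebra = ‹Algebra R S› := Algebra.algebra_ext _ _ (fun r => rfl)
  rwa [h0]

/-- fibrewise syntomic morphisms -/
def FibSynt {X S : Scheme.{u}} (f : X ⟶ S) : Prop :=
  ∀ s : S, syntP (f.fiberToSpecResidueField s)

theorem isSyntomic_of_fibSynt (A B : Type u) [CommRing A] [CommRing B] [Algebra A B]
    [Module.Flat A B] [Algebra.FinitePresentation A B]
    (h : FibSynt (Spec.map (CommRingCat.ofHom (algebraMap A B)))) : Synt.IsSyntomic A B := by
  refine ⟨inferInstance, inferInstance, fun p => ?_⟩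
  have h1 := h p
  rw [MorphismProperty.arrow_mk_iso_iff syntP (Spec.fiberToSpecResidueFieldIso A B p),
    HasRingHomProperty.Spec_iff (P := syntP)] at h1
  have h2 : Synt.IsSyntomic p.asIdeal.ResidueField (p.asIdeal.Fiber B) := by
    exact isSyntomic_of_syntHom_algebraMap _ _ h1
  exact isLCIOver_of_isSyntomic_field _ _ h2


theorem fibSynt_of_openImmersions {X S X' S' : Scheme.{u}} (f : X ⟶ S) (g : X' ⟶ S')
    (j : X' ⟶ X) (i : S' ⟶ S) [IsOpenImmersion j] [IsOpenImmersion i]
    (comm : g ≫ i = j ≫ f) (hf : FibSynt f) : FibSynt g := by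
  intro s
  have e₂ : S'.fromSpecResidueField s ≫ i =
      Spec.map (i.residueFieldMap s) ≫ S.fromSpecResidueField (i s) :=
    (Scheme.Hom.SpecMap_residueFieldMap_fromSpecResidueField i s).symm
  let m : g.fiber s ⟶ f.fiber (i s) :=
    Limits.pullback.map g (S'.fromSpecResidueField s) f (S.fromSpecResidueField (i s)) j
      (Spec.map (i.residueFieldMap s)) i comm e₂
  haveI : IsOpenImmersion m := Scheme.pullback_map_isOpenImmersion _ _ _ _ _ _ _ _ _
  have hm : m ≫ f.fiberToSpecResidueField (i s) =
      g.fiberToSpecResidueField s ≫ Spec.map (i.residueFieldMap s) := by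
    exact Limits.pullback.lift_snd _ _ _
  have h1 : syntP (m ≫ f.fiberToSpecResidueField (i s)) :=
    IsZariskiLocalAtSource.comp (hf (i s)) m
  rw [hm] at h1
  exact (MorphismProperty.cancel_right_of_respectsIso syntP _
    (Spec.map (i.residueFieldMap s))).mp h1


theorem syntP_of_affine {Y Z : Scheme.{u}} [IsAffine Y] [IsAffine Z] (g : Y ⟶ Z) [Flat g]
    [LocallyOfFinitePresentation g] (h : FibSynt g) : syntP g := by
  rw [HasRingHomProperty.iff_of_isAffine (P := syntP)]
  letI := g.appTop.hom.toAlgebra
  haveI : Module.Flat Γ(Z, ⊤) Γ(Y, ⊤) :=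
    (HasRingHomProperty.iff_of_isAffine (P := @Flat)).mp inferInstance
  haveI : Algebra.FinitePresentation Γ(Z, ⊤) Γ(Y, ⊤) :=
    (HasRingHomProperty.iff_of_isAffine (P := @LocallyOfFinitePresentation)).mp inferInstance
  have h1 : FibSynt (Spec.map (CommRingCat.ofHom (algebraMap Γ(Z, ⊤) Γ(Y, ⊤)))) :=
    fibSynt_of_openImmersions g (Spec.map g.appTop) Y.isoSpec.inv Z.isoSpec.inv
      (Scheme.isoSpec_inv_naturality g) h
  exact isSyntomic_of_fibSynt _ _ h1

theorem s9365 {X S : Scheme.{u}} (f : X ⟶ S) [Flat f] [LocallyOfFinitePresentation f]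
    (hfib : ∀ s : S, Synt.IsSyntomicMor (f.fiberToSpecResidueField s)) :
    Synt.IsSyntomicMor f := by
  rw [isSyntomicMor_iff, HasRingHomProperty.iff_appLE (P := syntP)]
  intro V U e
  apply syntHom_appLE_of_resLE
  haveI : IsAffine V.1 := V.2
  haveI : IsAffine U.1 := U.2
  haveI : Flat (f.resLE V.1 U.1 e) := IsZariskiLocalAtSource.resLE e inferInstance
  haveI : LocallyOfFinitePresentation (f.resLE V.1 U.1 e) :=
    IsZariskiLocalAtSource.resLE e inferInstance
  apply syntP_of_affine
  exact fibSynt_of_openImmersions f _ U.1.ι V.1.ι (Scheme.Hom.resLE_comp_ι f e)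
    (fun s => (isSyntomicMor_iff _).mp (hfib s))

end Groth.Agent.Helper5.SM
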