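import Mathlib
import Groth.Agent.Helper5.LciS2
import Groth.Agent.Helper5.SM8
import Groth.Agent.Helper3.KzLoc
import Groth.Agent.Helper5.SyntLocz1

set_option autoImplicit false
set_option linter.style.haveILetI false
universe u
open TensorProduct RingTheory.Sequence MvPolynomial

namespace Groth.Agent.Helper5.LciS

open Groth.Agent.Helper5.RelGCI

/-- criterion: all fibre rings have dimension at most `n - c` -/
theorem isRelGCI_of_dim_fibre_le (R : Type u) [CommRing R] (n c : ℕ)
    (F : Fin c → MvPolynomial (Fin n) R)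
    (h : ∀ p : PrimeSpectrum R, Nontrivial (p.asIdeal.Fiber (Synt.RelGCIRing R n c F)) →
      c ≤ n ∧ ringKrullDim (p.asIdeal.Fiber (Synt.RelGCIRing R n c F)) ≤
        ((n - c : ℕ) : WithBot ℕ∞)) : Synt.IsRelGCI R n c F := by
  intro p hnt
  obtain ⟨hcn, hle⟩ := h p hnt
  refine ⟨hcn, le_antisymm hle ?_⟩
  exact le_ringKrullDim_of_presentation p.asIdeal.ResidueField
    (p.asIdeal.ResidueField ⊗[R] (Synt.RelGCIRing R n c F)) n c
    ((Algebra.Presentation.naive (v := F)).baseChange p.asIdeal.ResidueField)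

/-- Koszul-regularity after base change, with the new ring on the left -/
theorem kreg_baseChange_left (R₀ R T : Type u) [CommRing R₀] [CommRing R] [CommRing T]
    [Algebra R₀ R] [Algebra R₀ T] [Module.Flat R₀ T] (l₀ : List T)
    (hreg : LCI.IsKoszulRegularSeq T l₀)
    (hflat : Module.Flat R₀ (T ⧸ Ideal.ofList l₀)) :
    LCI.IsKoszulRegularSeq (R ⊗[R₀] T)
      (l₀.map (Algebra.TensorProduct.includeRight : T →ₐ[R₀] R ⊗[R₀] T)) := by
  have h1 := kreg_baseChange_general R₀ R T l₀ hreg hflat
  have h2 := Groth.Agent.Helper3.KzLoc.kreg_map_ringEquiv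
    (Algebra.TensorProduct.comm R₀ T R).toRingEquiv _ h1
  rw [List.map_map] at h2
  have h3 : (⇑(Algebra.TensorProduct.comm R₀ T R).toRingEquiv ∘
      ⇑(Algebra.TensorProduct.includeLeftRingHom : T →+* T ⊗[R₀] R)) =
      ⇑(Algebra.TensorProduct.includeRight : T →ₐ[R₀] R ⊗[R₀] T) := by
    funext t
    simp
  rw [h3] at h2
  exact h2


/-- abstract form: a Noetherian ring of dimension at most `n` modulo a Koszul-regular sequence -/
theorem dim_quot_kreg_le (B : Type u) [CommRing B] [IsNoetherianRing B] (n : ℕ)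
    (hdimB : ringKrullDim B ≤ (n : WithBot ℕ∞)) (lb : List B)
    (hkreg : LCI.IsKoszulRegularSeq B lb) (C : Type u) [CommRing C]
    (e : (B ⧸ Ideal.ofList lb) ≃+* C) [Nontrivial C] :
    lb.length ≤ n ∧ ringKrullDim C ≤ ((n - lb.length : ℕ) : WithBot ℕ∞) := by
  have hht : ∀ (𝔮 : Ideal (B ⧸ Ideal.ofList lb)) [𝔮.IsPrime],
      ((𝔮.height : ℕ∞) : WithBot ℕ∞) + (lb.length : WithBot ℕ∞) ≤ (n : WithBot ℕ∞) := by
    intro 𝔮 _
    exact (height_add_length_le B lb hkreg 𝔮).trans hdimB
  haveI : Nontrivial (B ⧸ Ideal.ofList lb) := e.toEquiv.nontrivial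
  have hcn : lb.length ≤ n := by
    obtain ⟨m, hm⟩ := Ideal.exists_maximal (B ⧸ Ideal.ofList lb)
    haveI := hm.isPrime
    have h1 := hht m
    have h2 : (lb.length : WithBot ℕ∞) ≤ (n : WithBot ℕ∞) :=
      le_trans (le_add_of_nonneg_left (by exact_mod_cast bot_le)) h1
    exact_mod_cast h2
  refine ⟨hcn, ?_⟩
  rw [← ringKrullDim_eq_of_ringEquiv e, ringKrullDim_le_iff_height_le]
  intro 𝔮 h𝔮
  have h1 := hht 𝔮
  have h2 : (𝔮.height + (lb.length : ℕ∞) : ℕ∞) ≤ (n : ℕ∞) := by exact_mod_cast h1
  have h3 : 𝔮.height ≤ (n : ℕ∞) - (lb.length : ℕ∞) :=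
    ENat.le_sub_of_add_le_right (ENat.natCast_ne_top _) h2
  have h4 : ((n - lb.length : ℕ) : ℕ∞) = (n : ℕ∞) - (lb.length : ℕ∞) := by
    push_cast
    rfl
  rw [← h4] at h3
  exact WithBot.coe_le_coe.2 h3

set_option maxHeartbeats 1000000 in
/-- the fibre rings of the quotient of a localized polynomial ring by a Koszul-regular sequence
with flat quotient have the expected dimension -/
theorem dim_fibre_le (R : Type u) [CommRing R] (n : ℕ) (g : MvPolynomial (Fin n) R)
    (l : List (Localization.Away g))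
    (hl : LCI.IsKoszulRegularSeq (Localization.Away g) l)
    (hflat : Module.Flat R (Localization.Away g ⧸ Ideal.ofList l)) (p : PrimeSpectrum R)
    (hnt : Nontrivial (p.asIdeal.ResidueField ⊗[R] (Localization.Away g ⧸ Ideal.ofList l))) :
    l.length ≤ n ∧
      ringKrullDim (p.asIdeal.ResidueField ⊗[R] (Localization.Away g ⧸ Ideal.ofList l)) ≤
        ((n - l.length : ℕ) : WithBot ℕ∞) := by
  haveI : Module.Flat R (Localization.Away g) :=
    Module.Flat.trans R (MvPolynomial (Fin n) R) (Localization.Away g)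
  have hkreg := kreg_baseChange_left R p.asIdeal.ResidueField (Localization.Away g) l hl hflat
  -- `κ ⊗ T` is a localization of `κ[x]`
  haveI : IsLocalization ((Submonoid.powers g).map
      (Algebra.TensorProduct.includeRight :
        MvPolynomial (Fin n) R →ₐ[R] p.asIdeal.ResidueField ⊗[R] MvPolynomial (Fin n) R))
      (Localization.Away ((1 : p.asIdeal.ResidueField) ⊗ₜ[R] g)) := by
    rw [Submonoid.map_powers]
    exact (inferInstance : IsLocalization.Away ((1 : p.asIdeal.ResidueField) ⊗ₜ[R] g)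
      (Localization.Away ((1 : p.asIdeal.ResidueField) ⊗ₜ[R] g)))
  let E : p.asIdeal.ResidueField ⊗[R] Localization.Away g ≃ₐ[p.asIdeal.ResidueField]
      Localization.Away ((1 : p.asIdeal.ResidueField) ⊗ₜ[R] g) :=
    IsLocalization.tensorProductEquivOfMapIncludeRight R p.asIdeal.ResidueField
      (Submonoid.powers g) (Localization.Away g) _
  let e0 : p.asIdeal.ResidueField ⊗[R] MvPolynomial (Fin n) R ≃ₐ[p.asIdeal.ResidueField]
      MvPolynomial (Fin n) p.asIdeal.ResidueField :=
    MvPolynomial.algebraTensorAlgEquiv R p.asIdeal.ResidueField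
  haveI : IsNoetherianRing (p.asIdeal.ResidueField ⊗[R] MvPolynomial (Fin n) R) :=
    isNoetherianRing_of_ringEquiv _ e0.symm.toRingEquiv
  haveI : IsNoetherianRing (Localization.Away ((1 : p.asIdeal.ResidueField) ⊗ₜ[R] g)) :=
    IsLocalization.isNoetherianRing
      (Submonoid.powers ((1 : p.asIdeal.ResidueField) ⊗ₜ[R] g)) _ inferInstance
  haveI : IsNoetherianRing (p.asIdeal.ResidueField ⊗[R] Localization.Away g) :=
    isNoetherianRing_of_ringEquiv _ E.symm.toRingEquiv
  have hdimB : ringKrullDim (p.asIdeal.ResidueField ⊗[R] Localization.Away g) ≤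
      (n : WithBot ℕ∞) := by
    rw [ringKrullDim_eq_of_ringEquiv E.toRingEquiv]
    refine (Groth.Agent.Helper5.SyntLocz.dim_localization_le
      (Submonoid.powers ((1 : p.asIdeal.ResidueField) ⊗ₜ[R] g)) _).trans ?_
    rw [ringKrullDim_eq_of_ringEquiv e0.toRingEquiv, Groth.Agent.Helper5.DimBC.dim_mvPolynomial]
  -- the fibre of the quotient is the quotient of `κ ⊗ T`
  let ψ : p.asIdeal.ResidueField ⊗[R] Localization.Away g →ₐ[R]
      p.asIdeal.ResidueField ⊗[R] (Localization.Away g ⧸ Ideal.ofList l) :=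
    Algebra.TensorProduct.map (AlgHom.id R p.asIdeal.ResidueField)
      (Ideal.Quotient.mkₐ R (Ideal.ofList l))
  have hψ : Function.Surjective ψ :=
    Algebra.TensorProduct.map_surjective _ _ Function.surjective_id
      (Ideal.Quotient.mkₐ_surjective R _)
  have hker : RingHom.ker ψ.toRingHom = Ideal.ofList
      (l.map (Algebra.TensorProduct.includeRight :
        Localization.Away g →ₐ[R] p.asIdeal.ResidueField ⊗[R] Localization.Away g)) := by
    have h1 := Algebra.TensorProduct.lTensor_ker (A := p.asIdeal.ResidueField)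
      (Ideal.Quotient.mkₐ R (Ideal.ofList l)) (Ideal.Quotient.mkₐ_surjective R _)
    have h2 : RingHom.ker (Ideal.Quotient.mkₐ R (Ideal.ofList l)) = Ideal.ofList l :=
      Ideal.Quotient.mkₐ_ker R _
    rw [h2] at h1
    show RingHom.ker ψ = _
    rw [h1]
    exact (ofList_map _ l).symm
  have hres := dim_quot_kreg_le (p.asIdeal.ResidueField ⊗[R] Localization.Away g) n hdimB _ hkreg
    (p.asIdeal.ResidueField ⊗[R] (Localization.Away g ⧸ Ideal.ofList l))
    ((Ideal.quotEquivOfEq hker.symm).trans (RingHom.quotientKerEquivOfSurjective hψ))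
  rw [List.length_map] at hres
  exact hres

end Groth.Agent.Helper5.LciS
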