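import Mathlib
import Groth.Agent.Helper5.LciS3

set_option autoImplicit false
set_option linter.style.haveILetI false
universe u
open TensorProduct RingTheory.Sequence MvPolynomial

namespace Groth.Agent.Helper5.LciS

open Groth.Agent.Helper5.RelGCI Groth.Agent.Helper5.SM

/-- lifting local generators of an ideal to elements of the ideal -/
theorem exists_lift_generators {A : Type u} [CommRing A] (I : Ideal A) (g : A)
    (l : List (Localization.Away g))
    (hI : I.map (algebraMap A (Localization.Away g)) = Ideal.span {x | x ∈ l}) :
    ∃ L : Fin l.length → A, (∀ i, L i ∈ I) ∧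
      (Ideal.span (Set.range L)).map (algebraMap A (Localization.Away g)) =
        I.map (algebraMap A (Localization.Away g)) := by
  have hmem : ∀ i : Fin l.length, l.get i ∈ I.map (algebraMap A (Localization.Away g)) := by
    intro i
    rw [hI]
    exact Ideal.subset_span (List.get_mem l i)
  have hex : ∀ i : Fin l.length, ∃ a : A, a ∈ I ∧ ∃ v : Localization.Away g, IsUnit v ∧
      algebraMap A (Localization.Away g) a = l.get i * v := by
    intro i
    obtain ⟨⟨a, s⟩, h⟩ := (IsLocalization.mem_map_algebraMap_iff (Submonoid.powers g)
      (Localization.Away g)).1 (hmem i)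
    exact ⟨a.1, a.2, algebraMap A (Localization.Away g) s.1,
      IsLocalization.map_units (Localization.Away g) s, h.symm⟩
  choose L hLI v hv hLv using hex
  refine ⟨L, hLI, ?_⟩
  rw [hI, Ideal.map_span, ← Set.range_comp]
  have h1 : Set.range (⇑(algebraMap A (Localization.Away g)) ∘ L) =
      Set.range (fun i => l.get i * v i) := by
    congr 1
    funext i
    exact hLv i
  rw [h1, span_range_eq_of_units l.get _ v hv (fun _ => rfl)]
  congr 1
  ext x
  simp only [Set.mem_range]
  constructor
  · rintro ⟨i, rfl⟩
    exact List.get_mem l i
  · intro hx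
    obtain ⟨i, hi⟩ := List.get_of_mem hx
    exact ⟨i, hi⟩

end Groth.Agent.Helper5.LciS
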