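import Mathlib
import Groth.Agent.Helper5.LciS4
import Groth.Agent.Helper3.KoszulGen

set_option autoImplicit false
set_option linter.style.haveILetI false
universe u
open TensorProduct RingTheory.Sequence MvPolynomial

namespace Groth.Agent.Helper5.LciS

open Groth.Agent.Helper5.RelGCI Groth.Agent.Helper5.SM

/-- the quotient of a principal localization is the principal localization of the quotient -/
theorem isLocalization_quot {A : Type u} [CommRing A] (J : Ideal A) (g : A) :
    IsLocalization.Away (Ideal.Quotient.mk J g)
      (Localization.Away g ⧸ J.map (algebraMap A (Localization.Away g))) := by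
  have h := (inferInstance : IsLocalization
    (Algebra.algebraMapSubmonoid (A ⧸ J) (Submonoid.powers g))
    (Localization.Away g ⧸ J.map (algebraMap A (Localization.Away g))))
  have h2 : Algebra.algebraMapSubmonoid (A ⧸ J) (Submonoid.powers g) =
      Submonoid.powers (Ideal.Quotient.mk J g) := by
    unfold Algebra.algebraMapSubmonoid
    rw [Submonoid.map_powers]
    rfl
  rw [h2] at h
  exact h


theorem tower_quot_loc {R A : Type*} [CommRing R] [CommRing A] [Algebra R A] (I : Ideal A) (g : A) :
    IsScalarTower R (A ⧸ I)
      (Localization.Away g ⧸ I.map (algebraMap A (Localization.Away g))) := by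
  apply IsScalarTower.of_algebraMap_eq
  intro r
  rw [IsScalarTower.algebraMap_apply R A (A ⧸ I)]
  rw [IsScalarTower.algebraMap_apply R (Localization.Away g) (Localization.Away g ⧸ _)]
  rw [IsScalarTower.algebraMap_apply R A (Localization.Away g)]
  rfl

/-- fibre rings of isomorphic algebras -/
theorem dim_fibre_congr (R κ : Type u) [CommRing R] [CommRing κ] [Algebra R κ] (X Y : Type u)
    [CommRing X] [CommRing Y] [Algebra R X] [Algebra R Y] (e : X ≃ₐ[R] Y) :
    ringKrullDim (κ ⊗[R] X) = ringKrullDim (κ ⊗[R] Y) ∧
      (Nontrivial (κ ⊗[R] X) → Nontrivial (κ ⊗[R] Y)) := by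
  let φ : κ ⊗[R] X ≃ₐ[κ] κ ⊗[R] Y := Algebra.TensorProduct.congr AlgEquiv.refl e
  exact ⟨ringKrullDim_eq_of_ringEquiv φ.toRingEquiv, fun h => φ.symm.toEquiv.nontrivial⟩

section main

variable (R : Type u) [CommRing R] (n : ℕ)

local notation "A" => MvPolynomial (Fin n) R

set_option maxHeartbeats 2000000 in
/-- an ideal of the polynomial ring that is Koszul-regular on `D(g)`, with flat quotient, gives
a standard syntomic localization -/
theorem stdSynt_away_of_kreg (I : Ideal A) [Module.Flat R (A ⧸ I)] (g : A)
    (l : List (Localization.Away g)) (hl : LCI.IsKoszulRegularSeq (Localization.Away g) l)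
    (hI : I.map (algebraMap A (Localization.Away g)) = Ideal.span {x | x ∈ l}) :
    StdSynt ((algebraMap (A ⧸ I) (Localization.Away (Ideal.Quotient.mk I g))).comp
      (algebraMap R (A ⧸ I))) := by
  obtain ⟨L, hLI, hLmap⟩ := exists_lift_generators I g l hI
  have hof : Ideal.ofList ((List.ofFn L).map (algebraMap A (Localization.Away g))) =
      (Ideal.span (Set.range L)).map (algebraMap A (Localization.Away g)) := by
    rw [ofList_map, ofList_ofFn]
  have hlen : ((List.ofFn L).map (algebraMap A (Localization.Away g))).length = l.length := by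
    simp
  have hkreg' : LCI.IsKoszulRegularSeq (Localization.Away g)
      ((List.ofFn L).map (algebraMap A (Localization.Away g))) := by
    refine Groth.Agent.Helper3.KoszulGen.isKoszulRegularSeq_of_span_eq l _ hlen.symm ?_ hl
    rw [← hI, ← hLmap, ← hof]
  -- flatness
  haveI h3 : IsLocalization.Away (Ideal.Quotient.mk I g)
      (Localization.Away g ⧸ I.map (algebraMap A (Localization.Away g))) :=
    isLocalization_quot I g
  haveI := tower_quot_loc (R := R) I g
  haveI := tower_quot_loc (R := R) (Ideal.span (Set.range L)) g
  haveI : Module.Flat (A ⧸ I)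
      (Localization.Away g ⧸ I.map (algebraMap A (Localization.Away g))) :=
    IsLocalization.flat _ (Submonoid.powers (Ideal.Quotient.mk I g))
  haveI hflatI : Module.Flat R
      (Localization.Away g ⧸ I.map (algebraMap A (Localization.Away g))) :=
    Module.Flat.trans R (A ⧸ I) _
  have hflat' : Module.Flat R (Localization.Away g ⧸
      Ideal.ofList ((List.ofFn L).map (algebraMap A (Localization.Away g)))) :=
    Module.Flat.of_linearEquiv
      (Ideal.quotientEquivAlgOfEq R (hof.trans hLmap)).toLinearEquiv
  -- fibre dimensions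
  have hdim := fun (p : PrimeSpectrum R) hnt =>
    dim_fibre_le R n g _ hkreg' hflat' p hnt
  -- the standard presentation
  letI algD : Algebra (Synt.RelGCIRing R n l.length L)
      (Synt.RelGCIRing R (n + 1) (l.length + 1) (snocRel R n l.length L g)) :=
    (snocHom R n l.length L g : Synt.RelGCIRing R n l.length L →+* _).toAlgebra
  haveI : IsScalarTower R (Synt.RelGCIRing R n l.length L)
      (Synt.RelGCIRing R (n + 1) (l.length + 1) (snocRel R n l.length L g)) :=
    IsScalarTower.of_algebraMap_eq (fun r => ((snocHom R n l.length L g).commutes r).symm)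
  haveI h1 : IsLocalization.Away (Ideal.Quotient.mk (Ideal.span (Set.range L)) g)
      (Synt.RelGCIRing R (n + 1) (l.length + 1) (snocRel R n l.length L g)) :=
    isLocalization_snoc R n l.length L g
  haveI h2 : IsLocalization.Away (Ideal.Quotient.mk (Ideal.span (Set.range L)) g)
      (Localization.Away g ⧸ (Ideal.span (Set.range L)).map (algebraMap A (Localization.Away g))) :=
    isLocalization_quot (Ideal.span (Set.range L)) g
  let ε : Synt.RelGCIRing R (n + 1) (l.length + 1) (snocRel R n l.length L g)
      ≃ₐ[Synt.RelGCIRing R n l.length L]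
      (Localization.Away g ⧸ (Ideal.span (Set.range L)).map (algebraMap A (Localization.Away g))) :=
    IsLocalization.algEquiv (Submonoid.powers (Ideal.Quotient.mk (Ideal.span (Set.range L)) g)) _ _
  let εR : Synt.RelGCIRing R (n + 1) (l.length + 1) (snocRel R n l.length L g) ≃ₐ[R]
      (Localization.Away g ⧸ (Ideal.span (Set.range L)).map (algebraMap A (Localization.Away g))) :=
    ε.restrictScalars R
  let ε' : Synt.RelGCIRing R (n + 1) (l.length + 1) (snocRel R n l.length L g) ≃ₐ[R]
      (Localization.Away g ⧸
        Ideal.ofList ((List.ofFn L).map (algebraMap A (Localization.Away g)))) :=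
    εR.trans (Ideal.quotientEquivAlgOfEq R hof.symm)
  have hG : Synt.IsRelGCI R (n + 1) (l.length + 1) (snocRel R n l.length L g) := by
    refine isRelGCI_of_dim_fibre_le R (n + 1) (l.length + 1) _ (fun p hnt => ?_)
    obtain ⟨hφ1, hφ2⟩ := dim_fibre_congr R p.asIdeal.ResidueField _ _ ε'
    obtain ⟨hcn, hle⟩ := hdim p (hφ2 hnt)
    rw [hlen] at hcn hle
    refine ⟨by omega, ?_⟩
    rw [hφ1]
    have hsub : n + 1 - (l.length + 1) = n - l.length := by omega
    rw [hsub]
    exact hle
  -- the isomorphism
  let δ : Localization.Away (Ideal.Quotient.mk I g) ≃ₐ[A ⧸ I]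
      (Localization.Away g ⧸ I.map (algebraMap A (Localization.Away g))) :=
    IsLocalization.algEquiv (Submonoid.powers (Ideal.Quotient.mk I g)) _ _
  let δR : Localization.Away (Ideal.Quotient.mk I g) ≃ₐ[R]
      (Localization.Away g ⧸ I.map (algebraMap A (Localization.Away g))) :=
    δ.restrictScalars R
  let θ : (Localization.Away g ⧸ I.map (algebraMap A (Localization.Away g))) ≃ₐ[R]
      (Localization.Away g ⧸ (Ideal.span (Set.range L)).map (algebraMap A (Localization.Away g))) :=
    Ideal.quotientEquivAlgOfEq R hLmap.symm
  let eR : Localization.Away (Ideal.Quotient.mk I g) ≃ₐ[R]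
      Synt.RelGCIRing R (n + 1) (l.length + 1) (snocRel R n l.length L g) :=
    (δR.trans θ).trans εR.symm
  refine ⟨n + 1, l.length + 1, snocRel R n l.length L g, hG, eR.toRingEquiv, fun r => ?_⟩
  simp only [RingHom.coe_comp, Function.comp_apply]
  rw [← IsScalarTower.algebraMap_apply R (A ⧸ I) (Localization.Away (Ideal.Quotient.mk I g))]
  exact eR.commutes r

end main

end Groth.Agent.Helper5.LciS
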