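import Mathlib
import Groth.Agent.Helper5.LciS5
import Groth.Agent.Helper3.KzLocal

set_option autoImplicit false
set_option linter.style.haveILetI false
universe u
open TensorProduct RingTheory.Sequence MvPolynomial

namespace Groth.Agent.Helper5.LciS

open Groth.Agent.Helper5.RelGCI Groth.Agent.Helper5.SM

/-- a flat quotient of a polynomial ring by a Koszul-regular ideal is syntomic -/
theorem isSyntomic_quot_of_kregIdeal (R : Type u) [CommRing R] (n : ℕ)
    (I : Ideal (MvPolynomial (Fin n) R)) [Module.Flat R (MvPolynomial (Fin n) R ⧸ I)]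
    (hK : LCI.IsKoszulRegularIdeal I) : Synt.IsSyntomic R (MvPolynomial (Fin n) R ⧸ I) := by
  apply isSyntomic_of_syntHom_algebraMap
  apply syntHom_of_locally
  refine ⟨{t | StdSynt ((algebraMap (MvPolynomial (Fin n) R ⧸ I) (Localization.Away t)).comp
    (algebraMap R (MvPolynomial (Fin n) R ⧸ I)))}, ?_, fun t ht => ht⟩
  by_contra hne
  obtain ⟨m, hm, hle⟩ := Ideal.exists_le_maximal _ hne
  haveI := hm.isPrime
  let 𝔭 : PrimeSpectrum (MvPolynomial (Fin n) R) :=
    ⟨m.comap (Ideal.Quotient.mk I), inferInstance⟩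
  have hI𝔭 : I ≤ 𝔭.asIdeal := by
    intro x hx
    show Ideal.Quotient.mk I x ∈ m
    rw [Ideal.Quotient.eq_zero_iff_mem.2 hx]
    exact m.zero_mem
  obtain ⟨g, hg, l, hl, hIl⟩ := hK 𝔭 hI𝔭
  apply hg
  show Ideal.Quotient.mk I g ∈ m
  apply hle
  apply Ideal.subset_span
  exact stdSynt_away_of_kreg R n I g l hl hIl

theorem isSyntomic_of_flat_isLCI (R S : Type u) [CommRing R] [CommRing S] [Algebra R S]
    (hflat : Module.Flat R S) (h : LCI.IsLCI R S) : Synt.IsSyntomic R S := by
  obtain ⟨hft, n, α, hα, hK⟩ := h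
  let e : (MvPolynomial (Fin n) R ⧸ RingHom.ker α.toRingHom) ≃ₐ[R] S :=
    Ideal.quotientKerAlgEquivOfSurjective hα
  haveI : Module.Flat R (MvPolynomial (Fin n) R ⧸ RingHom.ker α.toRingHom) :=
    Module.Flat.of_linearEquiv e.toLinearEquiv
  exact isSyntomic_of_algEquiv R _ S e (isSyntomic_quot_of_kregIdeal R n _ hK)


theorem isLCI_of_algEquiv (R A B : Type u) [CommRing R] [CommRing A] [CommRing B] [Algebra R A]
    [Algebra R B] (e : A ≃ₐ[R] B) (h : LCI.IsLCI R A) : LCI.IsLCI R B := by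
  obtain ⟨hft, n, α, hα, hK⟩ := h
  haveI := hft
  refine ⟨Algebra.FiniteType.equiv hft e, n, e.toAlgHom.comp α, e.surjective.comp hα, ?_⟩
  have h1 : RingHom.ker (e.toAlgHom.comp α).toRingHom = RingHom.ker α.toRingHom := by
    ext x
    simp [RingHom.mem_ker]
  rw [h1]
  exact hK

theorem isLCI_relGCI (R : Type u) [CommRing R] (n c : ℕ) (F : Fin c → MvPolynomial (Fin n) R)
    (hF : Synt.IsRelGCI R n c F) : LCI.IsLCI R (Synt.RelGCIRing R n c F) := by
  refine ⟨inferInstance, n, Ideal.Quotient.mkₐ R _, Ideal.Quotient.mkₐ_surjective R _, ?_⟩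
  have hker : RingHom.ker (Ideal.Quotient.mkₐ R (Ideal.span (Set.range F))).toRingHom =
      Ideal.span (Set.range F) := Ideal.mk_ker
  rw [hker]
  intro 𝔭 _
  haveI : IsLocalization.Away (1 : MvPolynomial (Fin n) R) (MvPolynomial (Fin n) R) :=
    IsLocalization.away_of_isUnit_of_bijective _ isUnit_one Function.bijective_id
  refine Groth.Agent.Helper3.KzLoc.locKReg_of_isLocalization _ 𝔭.asIdeal 1
    (fun h => 𝔭.isPrime.ne_top ((Ideal.eq_top_iff_one _).2 h)) (MvPolynomial (Fin n) R)
    (List.ofFn F) (s9254 R n c F hF) ?_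
  rw [Algebra.algebraMap_self, Ideal.map_id, ← ofList_ofFn]

theorem isLCI_of_isSyntomic (R S : Type u) [CommRing R] [CommRing S] [Algebra R S]
    (h : Synt.IsSyntomic R S) : LCI.IsLCI R S := by
  have h1 := locally_of_syntHom _ (syntHom_algebraMap_of_isSyntomic R S h)
  rw [RingHom.locally_iff_finite] at h1
  obtain ⟨s, hs, hP⟩ := h1
  refine Groth.Agent.Helper3.KzLocal.main R S s.card (fun j => (s.equivFin.symm j : S)) ?_ ?_
  · have : Set.range (fun j => (s.equivFin.symm j : S)) = (s : Set S) := by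
      ext x
      constructor
      · rintro ⟨j, rfl⟩
        exact (s.equivFin.symm j).2
      · intro hx
        exact ⟨s.equivFin ⟨x, hx⟩, by simp⟩
    rw [this]
    exact hs
  · intro j
    obtain ⟨n, c, F, hF, e, he⟩ := hP _ (s.equivFin.symm j).2
    let e' : Synt.RelGCIRing R n c F ≃ₐ[R] Localization.Away (s.equivFin.symm j : S) :=
      { e.symm with
        commutes' := fun r => by
          show e.symm (algebraMap R _ r) = algebraMap R _ r
          rw [← he r, RingEquiv.symm_apply_apply]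
          exact (IsScalarTower.algebraMap_apply R S _ r).symm }
    exact isLCI_of_algEquiv R _ _ e' (isLCI_relGCI R n c F hF)

theorem s9287 (R S : Type u) [CommRing R] [CommRing S] [Algebra R S] :
    Synt.IsSyntomic R S ↔ Module.Flat R S ∧ LCI.IsLCI R S :=
  ⟨fun h => ⟨h.1, isLCI_of_isSyntomic R S h⟩, fun h => isSyntomic_of_flat_isLCI R S h.1 h.2⟩

end Groth.Agent.Helper5.LciS
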