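import Mathlib
import Groth.Agent.Helper1.HensNoeth

set_option autoImplicit false
set_option linter.style.haveILetI false
universe u
open CategoryTheory TensorProduct

namespace Groth.Agent.Helper5.SyntDesc

attribute [local instance] Algebra.TensorProduct.rightAlgebra

/-- local descent of noetherianity along a flat finitely presented ring map -/
theorem exists_away_noetherian (A B : Type u) [CommRing A] [CommRing B] [Algebra A B]
    [Module.Flat A B] [Algebra.FinitePresentation A B] [IsNoetherianRing B]
    (q : PrimeSpectrum B) :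
    ∃ h : A, h ∉ q.asIdeal.under A ∧ IsNoetherianRing (Localization.Away h) := by
  have hopen : IsOpenMap (PrimeSpectrum.comap (algebraMap A B)) :=
    PrimeSpectrum.isOpenMap_comap_of_hasGoingDown_of_finitePresentation
  have hW : IsOpen (Set.range (PrimeSpectrum.comap (algebraMap A B))) := hopen.isOpen_range
  let p : PrimeSpectrum A := PrimeSpectrum.comap (algebraMap A B) q
  have hp : p ∈ Set.range (PrimeSpectrum.comap (algebraMap A B)) := ⟨q, rfl⟩
  obtain ⟨_, ⟨_, ⟨h, rfl⟩, rfl⟩, hph, hsub⟩ :=
    PrimeSpectrum.isBasis_basic_opens.exists_subset_of_mem_open hp hW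
  refine ⟨h, hph, ?_⟩
  let Ah := Localization.Away h
  let T := Ah ⊗[A] B
  haveI hloc : IsLocalization (Algebra.algebraMapSubmonoid B (Submonoid.powers h)) T :=
    IsLocalization.tensorRight (R := A) (S := B) Ah (Submonoid.powers h)
  haveI : IsNoetherianRing T :=
    IsLocalization.isNoetherianRing (Algebra.algebraMapSubmonoid B (Submonoid.powers h)) T
      inferInstance
  haveI : Module.FaithfullyFlat Ah T := by
    refine Module.FaithfullyFlat.of_comap_surjective fun P => ?_
    let p' : PrimeSpectrum A := PrimeSpectrum.comap (algebraMap A Ah) P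
    have hp' : p' ∈ (PrimeSpectrum.basicOpen h : Set (PrimeSpectrum A)) := by
      show h ∉ p'.asIdeal
      intro hmem
      have hu : IsUnit (algebraMap A Ah h) := IsLocalization.Away.algebraMap_isUnit h
      exact P.isPrime.ne_top (Ideal.eq_top_of_isUnit_mem _ hmem hu)
    obtain ⟨q', hq'⟩ := hsub hp'
    have hdisj : Disjoint (Algebra.algebraMapSubmonoid B (Submonoid.powers h) : Set B)
        (q'.asIdeal : Set B) := by
      rw [Set.disjoint_left]
      rintro _ ⟨_, ⟨m, rfl⟩, rfl⟩ hm
      rw [map_pow] at hm
      have h1 : algebraMap A B h ∈ q'.asIdeal := q'.isPrime.mem_of_pow_mem m hm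
      have h2 : h ∈ p'.asIdeal := by rw [← hq']; exact h1
      exact hp' h2
    let Q : PrimeSpectrum T := ⟨q'.asIdeal.map (algebraMap B T),
      IsLocalization.isPrime_of_isPrime_disjoint _ T _ q'.isPrime hdisj⟩
    have hQ : Q.asIdeal.comap (algebraMap B T) = q'.asIdeal :=
      IsLocalization.comap_map_of_isPrime_disjoint _ T q'.isPrime hdisj
    refine ⟨Q, ?_⟩
    apply PrimeSpectrum.localization_comap_injective Ah (Submonoid.powers h)
    show PrimeSpectrum.comap (algebraMap A Ah) (PrimeSpectrum.comap (algebraMap Ah T) Q) = p'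
    rw [← hq']
    ext a
    show algebraMap Ah T (algebraMap A Ah a) ∈ Q.asIdeal ↔ algebraMap A B a ∈ q'.asIdeal
    rw [← hQ, Ideal.mem_comap]
    have : algebraMap Ah T (algebraMap A Ah a) = algebraMap B T (algebraMap A B a) := by
      rw [← IsScalarTower.algebraMap_apply A Ah T, ← IsScalarTower.algebraMap_apply A B T]
    rw [this]
  exact Groth.Agent.Helper1.Hens.isNoetherianRing_of_faithfullyFlat Ah T

end Groth.Agent.Helper5.SyntDesc
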