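import Mathlib
import Groth.Agent.Helper5.SpecFib2

set_option autoImplicit false
set_option linter.style.haveILetI false
universe u
open CategoryTheory CategoryTheory.Limits AlgebraicGeometry TopologicalSpace Topology TensorProduct

namespace Groth.Agent.Helper5.SyntLC

open Groth.Agent.Helper5.CMFib

section OpenImmTarget

variable {X Y Z : Scheme.{u}} (g : X ⟶ Y) (i : Y ⟶ Z) [IsOpenImmersion i]

theorem flat_stalkMap_comp_openImmersion (w : X) :
    ((g ≫ i).stalkMap w).hom.Flat ↔ (g.stalkMap w).hom.Flat := by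
  constructor
  · intro h
    rw [Scheme.Hom.stalkMap_comp] at h
    have h2 : ((i.stalkMap (g w) ≫ g.stalkMap w).hom.comp
        (inv (i.stalkMap (g w))).hom).Flat := RingHom.Flat.comp (RingHom.Flat.of_bijective
      (ConcreteCategory.bijective_of_isIso (inv (i.stalkMap (g w))))) h
    have h3 : (i.stalkMap (g w) ≫ g.stalkMap w).hom.comp (inv (i.stalkMap (g w))).hom =
        (g.stalkMap w).hom := by
      ext a
      exact congrArg (fun φ => (g.stalkMap w).hom (φ.hom a))
        (IsIso.inv_hom_id (i.stalkMap (g w)))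
    rwa [h3] at h2
  · intro h
    rw [Scheme.Hom.stalkMap_comp]
    exact RingHom.Flat.comp (RingHom.Flat.of_bijective
      (ConcreteCategory.bijective_of_isIso (i.stalkMap (g w)))) h

theorem fibre_stalk_comp_openImmersion (w : X) :
    Nonempty (((g ≫ i).fiber ((g ≫ i) w)).presheaf.stalk ((g ≫ i).asFiber w) ≃+*
      (g.fiber (g w)).presheaf.stalk (g.asFiber w)) := by
  obtain ⟨e1⟩ := fibre_stalk_equiv' (g ≫ i) w
  obtain ⟨e2⟩ := fibre_stalk_equiv' g w
  let σ : Z.presheaf.stalk (i (g w)) ≃+* Y.presheaf.stalk (g w) :=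
    (asIso (i.stalkMap (g w))).commRingCatIsoToRingEquiv
  have hσ : ∀ a, σ a = (i.stalkMap (g w)).hom a := fun a => rfl
  have hm : Ideal.map (i.stalkMap (g w)).hom
      (IsLocalRing.maximalIdeal (Z.presheaf.stalk (i (g w)))) =
      IsLocalRing.maximalIdeal (Y.presheaf.stalk (g w)) :=
    IsLocalRing.map_ringEquiv_maximalIdeal σ
  have hI : Ideal.map ((g ≫ i).stalkMap w).hom
        (IsLocalRing.maximalIdeal (Z.presheaf.stalk ((g ≫ i) w))) =
      Ideal.map (g.stalkMap w).hom
          (IsLocalRing.maximalIdeal (Y.presheaf.stalk (g w))) := by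
    rw [← hm, Ideal.map_map]
    congr 1
    rw [Scheme.Hom.stalkMap_comp]
    rfl
  exact ⟨e1.symm.trans ((Ideal.quotEquivOfEq hI).trans e2)⟩

/-- `IsCMAt` is insensitive to postcomposition with an open immersion -/
theorem isCMAt_comp_openImmersion (w : X) :
    MoreMor.IsCMAt (g ≫ i) w ↔ MoreMor.IsCMAt g w := by
  unfold MoreMor.IsCMAt
  rw [flat_stalkMap_comp_openImmersion]
  obtain ⟨e⟩ := fibre_stalk_comp_openImmersion g i w
  exact and_congr Iff.rfl ⟨fun h => Groth.Agent.Lead.CMCl.cm_of_ringEquiv e (h := h),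
    fun h => Groth.Agent.Lead.CMCl.cm_of_ringEquiv e.symm (h := h)⟩

end OpenImmTarget

end Groth.Agent.Helper5.SyntLC
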