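import Mathlib
import Groth.Agent.Helper5.SyntLC1
import Groth.Agent.Helper5.SyntCM2
import Groth.Agent.Helper5.CMAff5

set_option autoImplicit false
set_option linter.style.haveILetI false
universe u
open CategoryTheory CategoryTheory.Limits AlgebraicGeometry TopologicalSpace Topology TensorProduct

namespace Groth.Agent.Helper5.SyntLC

/-- a syntomic ring map gives a Cohen–Macaulay morphism of spectra -/
theorem isCMAt_Spec_of_isSyntomic (A B : Type u) [CommRing A] [CommRing B] [Algebra A B]
    (h : Synt.IsSyntomic A B) (w : PrimeSpectrum B) :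
    MoreMor.IsCMAt (Spec.map (CommRingCat.ofHom (algebraMap A B))) w := by
  obtain ⟨hfl, hfp, hlci⟩ := h
  haveI : Flat (Spec.map (CommRingCat.ofHom (algebraMap A B))) := by
    rw [HasRingHomProperty.Spec_iff (P := @Flat)]
    exact RingHom.flat_algebraMap_iff.2 hfl
  have hst : ((Spec.map (CommRingCat.ofHom (algebraMap A B))).stalkMap w).hom.Flat :=
    Flat.stalkMap (Spec.map (CommRingCat.ofHom (algebraMap A B))) w
  have hCM : ∀ p : PrimeSpectrum A, LocCoh.IsCohenMacaulayRing (p.asIdeal.Fiber B) := by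
    intro p
    exact Groth.Agent.Helper5.SyntCM.s9142 p.asIdeal.ResidueField (p.asIdeal.Fiber B) (hlci p)
  exact Groth.Agent.Helper5.SpecFib.isCMAt_of_fibre_cm A B w hst hCM

theorem isCMAt_of_isSyntomicAt {X S : Scheme.{u}} (f : X ⟶ S) (x : X)
    (h : Synt.IsSyntomicAt f x) : MoreMor.IsCMAt f x := by
  obtain ⟨U, V, e, hxU, hsyn⟩ := h
  letI := (f.appLE V.1 U.1 e).hom.toAlgebra
  have hsq := IsAffineOpen.SpecMap_appLE_fromSpec f V.2 U.2 e
  have hmem : x ∈ Set.range U.2.fromSpec := by
    rw [IsAffineOpen.range_fromSpec]; exact hxU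
  obtain ⟨w, rfl⟩ := hmem
  rw [← Groth.Agent.Helper5.SpecFib.isCMAt_openImmersion_comp U.2.fromSpec f w, ← hsq,
    isCMAt_comp_openImmersion]
  exact isCMAt_Spec_of_isSyntomic Γ(S, V.1) Γ(X, U.1) hsyn w

/-- S9367 -/
theorem s9367 {X S : Scheme.{u}} (f : X ⟶ S) (hf : Synt.IsSyntomicMor f) :
    IsLocallyConstant (fun x : ↑X => FlatMor.fibreDimAt f x) := by
  have hcm : ∀ x, MoreMor.IsCMAt f x := fun x => isCMAt_of_isSyntomicAt f x (hf x)
  haveI : LocallyOfFinitePresentation f := by
    rw [HasRingHomProperty.iff_exists_appLE (P := @LocallyOfFinitePresentation)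
      (RingHom.finitePresentation_stableUnderComposition.stableUnderCompositionWithLocalizationAway
        RingHom.finitePresentation_holdsForLocalizationAway).left]
    intro x
    obtain ⟨U, V, e, hxU, hsyn⟩ := hf x
    refine ⟨V, U, hxU, e, ?_⟩
    letI := (f.appLE V.1 U.1 e).hom.toAlgebra
    exact RingHom.finitePresentation_algebraMap.2 hsyn.2.1
  exact Groth.Agent.Helper5.CMAff.s9374 f hcm

end Groth.Agent.Helper5.SyntLC
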