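import Mathlib
import Groth.Agent.Helper5.SyntDesc1
import Groth.Agent.Helper5.SyntLC2
import Groth.Agent.Helper5.CMFib3

set_option autoImplicit false
set_option linter.style.haveILetI false
universe u
open CategoryTheory CategoryTheory.Limits AlgebraicGeometry TopologicalSpace Topology TensorProduct

namespace Groth.Agent.Helper5.SyntDesc

theorem lfp_of_isSyntomicMor {X S : Scheme.{u}} (f : X ⟶ S) (hf : Synt.IsSyntomicMor f) :
    LocallyOfFinitePresentation f := by
  rw [HasRingHomProperty.iff_exists_appLE (P := @LocallyOfFinitePresentation)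
    (RingHom.finitePresentation_stableUnderComposition.stableUnderCompositionWithLocalizationAway
      RingHom.finitePresentation_holdsForLocalizationAway).left]
  intro x
  obtain ⟨U, V, e, hxU, hsyn⟩ := hf x
  refine ⟨V, U, hxU, e, ?_⟩
  letI := (f.appLE V.1 U.1 e).hom.toAlgebra
  exact RingHom.finitePresentation_algebraMap.2 hsyn.2.1

theorem flat_of_isSyntomicMor {X S : Scheme.{u}} (f : X ⟶ S) (hf : Synt.IsSyntomicMor f) :
    Flat f :=
  (Flat.iff_flat_stalkMap f).2 fun x =>
    (Groth.Agent.Helper5.SyntLC.isCMAt_of_isSyntomicAt f x (hf x)).1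

/-- a point in the image of a syntomic morphism from a locally noetherian scheme has a noetherian
affine open neighbourhood -/
theorem exists_noetherian_affine_nhd {X S : Scheme.{u}} (f : X ⟶ S) [IsLocallyNoetherian X]
    (x : X) (h : Synt.IsSyntomicAt f x) :
    ∃ W : S.affineOpens, f x ∈ W.1 ∧ IsNoetherianRing Γ(S, W.1) := by
  obtain ⟨U, V, e, hxU, hsyn⟩ := h
  letI := (f.appLE V.1 U.1 e).hom.toAlgebra
  obtain ⟨hfl, hfp, -⟩ := hsyn
  haveI : IsNoetherianRing Γ(X, U.1) := IsLocallyNoetherian.component_noetherian U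
  have hsq := IsAffineOpen.SpecMap_appLE_fromSpec f V.2 U.2 e
  obtain ⟨w, rfl⟩ : x ∈ Set.range U.2.fromSpec := by
    rw [IsAffineOpen.range_fromSpec]; exact hxU
  obtain ⟨h, hh, hN⟩ := exists_away_noetherian Γ(S, V.1) Γ(X, U.1) w
  refine ⟨⟨S.basicOpen h, V.2.basicOpen h⟩, ?_, ?_⟩
  · have h1 : f (U.2.fromSpec w) = V.2.fromSpec ((Spec.map (f.appLE V.1 U.1 e)) w) := by
      rw [← Scheme.Hom.comp_apply, ← Scheme.Hom.comp_apply, hsq]
    rw [h1]
    show (Spec.map (f.appLE V.1 U.1 e)) w ∈ V.2.fromSpec ⁻¹ᵁ S.basicOpen h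
    rw [V.2.fromSpec_preimage_basicOpen h]
    exact hh
  · haveI := V.2.isLocalization_basicOpen h
    exact isNoetherianRing_of_ringEquiv _ (IsLocalization.algEquiv (Submonoid.powers h)
      (Localization.Away h) Γ(S, S.basicOpen h)).toRingEquiv

end Groth.Agent.Helper5.SyntDesc
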