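import Mathlib
import Groth.Agent.Helper5.LciS6
import Groth.Agent.Helper5.SyntDesc2
import Groth.Agent.Helper3.KosBridgeC

set_option autoImplicit false
set_option linter.style.haveILetI false
universe u
open CategoryTheory AlgebraicGeometry TensorProduct

namespace Groth.Agent.Helper5.LciS

open Groth.Agent.Helper5.SM

theorem s9758 {X S : Scheme.{u}} (f : X ⟶ S) :
    (Flat f ∧ ∀ x : X, Synt.IsKoszulAt f x) ↔ Synt.IsSyntomicMor f := by
  constructor
  · rintro ⟨hflat, hK⟩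
    rw [s9363]
    intro U V e
    letI := (f.appLE V.1 U.1 e).hom.toAlgebra
    have h1 : Module.Flat Γ(S, V.1) Γ(X, U.1) :=
      HasRingHomProperty.appLE (P := @Flat) f hflat V U e
    have h2 : LCI.IsLCI Γ(S, V.1) Γ(X, U.1) :=
      Groth.Agent.Helper3.KosBridgeC.isLCI_of_isKoszulAt f hK U.1 V.1 U.2 V.2 e
    exact isSyntomic_of_flat_isLCI _ _ h1 h2
  · intro h
    refine ⟨Groth.Agent.Helper5.SyntDesc.flat_of_isSyntomicMor f h, fun x => ?_⟩
    obtain ⟨V, hV, hfx, -⟩ := TopologicalSpace.Opens.isBasis_iff_nbhd.mp S.isBasis_affineOpens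
      (TopologicalSpace.Opens.mem_top (f x))
    obtain ⟨U, hU, hx, e⟩ := TopologicalSpace.Opens.isBasis_iff_nbhd.mp X.isBasis_affineOpens
      (show x ∈ f ⁻¹ᵁ V from hfx)
    have h1 := (s9363 f).mp h ⟨U, hU⟩ ⟨V, hV⟩ e
    letI := (f.appLE V U e).hom.toAlgebra
    have h2 : LCI.IsLCI Γ(S, V) Γ(X, U) := isLCI_of_isSyntomic _ _ h1
    exact Groth.Agent.Helper3.KosBridgeC.isKoszulAt_of_isLCI f U V hU hV e h2 x hx

end Groth.Agent.Helper5.LciS
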