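import Mathlib
import Groth.Prelude
import Groth.Agent.Helper5.SmRelDim1
import Groth.Agent.Helper5.OverField
import Groth.Agent.Helper2.TopDim

set_option autoImplicit false
set_option linter.unusedSectionVars false
set_option linter.style.haveILetI false
universe u

open AlgebraicGeometry CategoryTheory CategoryTheory.Limits TopologicalSpace

namespace Groth.Agent.Helper5.SmSynt

/-- a non-zero standard smooth algebra of relative dimension `d` over a field has dimension `d` -/
theorem ringKrullDim_of_isStandardSmoothOfRelativeDimension (K B : Type u) [Field K] [CommRing B]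
    [Algebra K B] [Nontrivial B] (d : ℕ) [Algebra.IsStandardSmoothOfRelativeDimension d K B] :
    ringKrullDim B = (d : WithBot ℕ∞) := by
  let φ : CommRingCat.of K ⟶ CommRingCat.of B := CommRingCat.ofHom (algebraMap K B)
  let f : Spec (CommRingCat.of B) ⟶ Spec (CommRingCat.of K) := Spec.map φ
  haveI : SmoothOfRelativeDimension d f := by
    rw [HasRingHomProperty.Spec_iff (P := @SmoothOfRelativeDimension d)]
    apply RingHom.locally_of RingHom.isStandardSmoothOfRelativeDimension_respectsIso
    exact (RingHom.isStandardSmoothOfRelativeDimension_algebraMap d).2 inferInstance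
  have hloc : ∀ x : ↥(Spec (CommRingCat.of B)),
      FlatMor.localDim ↥(Spec (CommRingCat.of B)) x = (d : WithBot ℕ∞) := by
    intro x
    rw [← Groth.Agent.Helper5.OverField.fibreDimAt_of_subsingleton f x]
    exact Groth.Agent.Helper5.SmRelDim.s2768 d f x
  rw [← PrimeSpectrum.topologicalKrullDim_eq_ringKrullDim]
  change topologicalKrullDim ↥(Spec (CommRingCat.of B)) = _
  rw [Groth.Agent.Helper2.TopDim.dim_eq_iSup_localDim]
  haveI : Nonempty ↥(Spec (CommRingCat.of B)) := by
    change Nonempty (PrimeSpectrum B)
    infer_instance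
  simp only [hloc]
  exact ciSup_const

/-- a standard smooth algebra over a field is a global complete intersection -/
theorem isGlobalCI_of_isStandardSmooth (K B : Type u) [Field K] [CommRing B] [Algebra K B]
    [Algebra.IsStandardSmooth K B] : Synt.IsGlobalCI K B := by
  by_cases hB : Subsingleton B
  · exact Or.inl hB
  · right
    haveI : Nontrivial B := not_subsingleton_iff_nontrivial.1 hB
    obtain ⟨ι, σ, hσ, hι, ⟨P⟩⟩ := (inferInstance : Algebra.IsStandardSmooth K B).out
    let P' : Algebra.SubmersivePresentation K B (Fin (Nat.card ι)) (Fin (Nat.card σ)) :=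
      P.reindex (Finite.equivFin ι).symm (Finite.equivFin σ).symm
    have hcn : Nat.card σ ≤ Nat.card ι := P.card_relations_le_card_vars_of_isFinite
    refine ⟨Nat.card ι, Nat.card σ, hcn, MvPolynomial.aeval P'.val, P'.relation,
      P'.aeval_val_surjective, ?_, ?_⟩
    · rw [P'.span_range_relation_eq_ker, P'.ker_eq_ker_aeval_val]
      rfl
    · haveI : Algebra.IsStandardSmoothOfRelativeDimension (Nat.card ι - Nat.card σ) K B :=
        P'.isStandardSmoothOfRelativeDimension (by simp [Algebra.Presentation.dimension])
      exact ringKrullDim_of_isStandardSmoothOfRelativeDimension K B _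

theorem isLCIOver_of_isStandardSmooth (K B : Type u) [Field K] [CommRing B] [Algebra K B]
    [Algebra.IsStandardSmooth K B] : Synt.IsLCIOver K B := by
  refine ⟨inferInstance, fun p => ⟨1, ?_, ?_⟩⟩
  · exact fun h => p.isPrime.ne_top ((Ideal.eq_top_iff_one _).2 h)
  · haveI : Algebra.IsStandardSmooth B (Localization.Away (1 : B)) :=
      Algebra.IsStandardSmooth.localization_away (1 : B)
    haveI : Algebra.IsStandardSmooth K (Localization.Away (1 : B)) :=
      Algebra.IsStandardSmooth.trans K B (Localization.Away (1 : B))
    exact isGlobalCI_of_isStandardSmooth K _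

theorem isSyntomic_of_isStandardSmooth (R A : Type u) [CommRing R] [CommRing A] [Algebra R A]
    [Algebra.IsStandardSmooth R A] : Synt.IsSyntomic R A :=
  ⟨inferInstance, inferInstance, fun p => isLCIOver_of_isStandardSmooth _ _⟩

theorem s9699 {X S : Scheme.{u}} (f : X ⟶ S) [Smooth f] : Synt.IsSyntomicMor f := by
  intro x
  obtain ⟨V, hV, U, hU, hxU, e, hφ⟩ := Smooth.exists_isStandardSmooth f x
  refine ⟨⟨U, hU⟩, ⟨V, hV⟩, e, hxU, ?_⟩
  letI := (f.appLE V U e).hom.toAlgebra
  haveI : Algebra.IsStandardSmooth Γ(S, V) Γ(X, U) := hφ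
  exact isSyntomic_of_isStandardSmooth _ _

end Groth.Agent.Helper5.SmSynt
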