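import Mathlib
import Groth.Agent.Helper5.LciS7
import Groth.Agent.Helper5.SmSynt1
import Groth.Agent.Helper3.KosBridgeD
import Groth.Agent.S18934

set_option autoImplicit false
set_option linter.style.haveILetI false
universe u
open CategoryTheory CategoryTheory.Limits AlgebraicGeometry MorphismProperty Polynomial

namespace Groth.Agent.Helper5.QuietS

open Groth.Agent.Helper5.SM Groth.Agent.Helper5.LciS

theorem isSyntomicMor_comp {X Y Z : Scheme.{u}} (f : X ⟶ Y) (g : Y ⟶ Z)
    (hf : Synt.IsSyntomicMor f) (hg : Synt.IsSyntomicMor g) : Synt.IsSyntomicMor (f ≫ g) := by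
  have hf' := (s9758 f).mpr hf
  have hg' := (s9758 g).mpr hg
  haveI := hf'.1
  haveI := hg'.1
  exact (s9758 _).mp ⟨inferInstance, Groth.Agent.Helper3.KosBridgeD.s8661 f g hf'.2 hg'.2⟩

theorem syntHom_iff_spec {A B : Type u} [CommRing A] [CommRing B] (φ : A →+* B) :
    SyntHom φ ↔ Synt.IsSyntomicMor (Spec.map (CommRingCat.ofHom φ)) := by
  rw [isSyntomicMor_iff, HasRingHomProperty.Spec_iff (P := syntP)]
  rfl

theorem syntHom_comp {A B C : Type u} [CommRing A] [CommRing B] [CommRing C]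
    (φ : A →+* B) (ψ : B →+* C) (hφ : SyntHom φ) (hψ : SyntHom ψ) : SyntHom (ψ.comp φ) := by
  rw [syntHom_iff_spec] at hφ hψ ⊢
  rw [CommRingCat.ofHom_comp, Spec.map_comp]
  exact isSyntomicMor_comp _ _ hψ hφ

theorem syntHom_of_bijective {A B : Type u} [CommRing A] [CommRing B] (φ : A →+* B)
    (hφ : Function.Bijective φ) : SyntHom φ := by
  rw [syntHom_iff_spec]
  haveI : IsIso (CommRingCat.ofHom φ) :=
    (ConcreteCategory.isIso_iff_bijective (CommRingCat.ofHom φ)).mpr hφ
  haveI : IsIso (Spec.map (CommRingCat.ofHom φ)) := inferInstance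
  exact Groth.Agent.Helper5.SmSynt.s9699 _

theorem syntHom_of_isRootTower (p : ℕ) [Fact p.Prime] :
    ∀ (n : ℕ) (A B : Type u) [CommRing A] [CommRing B] [Algebra A B],
      Quiet.IsRootTower p n A B → SyntHom (algebraMap A B) := by
  intro n
  induction n with
  | zero =>
    intro A B _ _ _ h
    obtain ⟨e⟩ := h
    refine syntHom_of_bijective _ ?_
    have : (algebraMap A B : A → B) = e.symm := by
      ext a
      rw [← e.symm.commutes a]
      rfl
    rw [this]
    exact e.symm.bijective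
  | succ n ih =>
    intro A B _ _ _ h
    obtain ⟨a, inst, htower, h'⟩ := h
    rw [IsScalarTower.algebraMap_eq A (Quiet.RootRing p A a) B]
    exact syntHom_comp _ _
      (syntHom_algebraMap_of_isSyntomic _ _ (Groth.Agent.S18934.result p A a).1)
      (ih _ _ h')

theorem isSyntomicMor_of_isPthRoot (p : ℕ) [Fact p.Prime] {X Y : Scheme.{u}} (r : Y ⟶ X)
    (hr : Quiet.IsPthRoot p r) : Synt.IsSyntomicMor r := by
  intro y
  obtain ⟨U, hxU, haff, n, hn⟩ := hr (r.base y)
  refine ⟨⟨r ⁻¹ᵁ U.1, haff⟩, U, le_rfl, hxU, ?_⟩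
  letI := (r.app U.1).hom.toAlgebra
  have h1 := syntHom_of_isRootTower p n _ _ hn
  have h2 : (r.appLE U.1 (r ⁻¹ᵁ U.1) le_rfl) = r.app U.1 := r.appLE_eq_app
  show SyntHom (r.appLE U.1 (r ⁻¹ᵁ U.1) le_rfl).hom
  rw [h2]
  exact h1

theorem s15044 (p : ℕ) [Fact p.Prime] {X Y : Scheme.{u}}
    (f : Y ⟶ X) (hf : Quiet.IsQuiet p f) : Synt.IsSyntomicMor f := by
  choose V Y' r e hy hr he comm using hf
  rw [isSyntomicMor_iff]
  refine IsZariskiLocalAtSource.of_iSup_eq_top (P := syntP) V ?_ fun y => ?_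
  · rw [eq_top_iff]
    intro y _
    exact TopologicalSpace.Opens.mem_iSup.mpr ⟨y, hy y⟩
  · rw [← isSyntomicMor_iff, ← comm y]
    haveI := he y
    exact isSyntomicMor_comp _ _ (isSyntomicMor_of_isPthRoot p _ (hr y))
      (Groth.Agent.Helper5.SmSynt.s9699 _)

end Groth.Agent.Helper5.QuietS
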