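import Mathlib
import Groth.Agent.Helper5.RelGCI16
import Groth.Agent.Helper5.RelGCI6

set_option autoImplicit false
set_option linter.style.haveILetI false
universe u
open CategoryTheory AlgebraicGeometry MvPolynomial TensorProduct

namespace Groth.Agent.Helper5.RelGCI

variable (R : Type u) [CommRing R] (n c : ℕ) (F : Fin c → MvPolynomial (Fin n) R) (I : Ideal R)

theorem bcHom_quot_surjective : Function.Surjective (bcHom R (R ⧸ I) n c F) := by
  intro t
  obtain ⟨y, rfl⟩ := Ideal.Quotient.mk_surjective t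
  obtain ⟨z, rfl⟩ := MvPolynomial.map_surjective (algebraMap R (R ⧸ I))
    Ideal.Quotient.mk_surjective y
  exact ⟨Ideal.Quotient.mk _ z, bcHom_mk R (R ⧸ I) n c F z⟩

theorem ker_bcHom_quot_le :
    RingHom.ker (bcHom R (R ⧸ I) n c F) ≤ I.map (algebraMap R (Synt.RelGCIRing R n c F)) := by
  intro s hs
  obtain ⟨y, rfl⟩ := Ideal.Quotient.mk_surjective s
  rw [RingHom.mem_ker, bcHom_mk, Ideal.Quotient.eq_zero_iff_mem] at hs
  have h1 : Ideal.span (Set.range (fun i => MvPolynomial.map (algebraMap R (R ⧸ I)) (F i))) =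
      (Ideal.span (Set.range F)).map (MvPolynomial.map (algebraMap R (R ⧸ I))) := by
    rw [Ideal.map_span, ← Set.range_comp]
    rfl
  rw [h1, ← Ideal.mem_comap, Ideal.comap_map_of_surjective
    (MvPolynomial.map (σ := Fin n) (algebraMap R (R ⧸ I)))
    (MvPolynomial.map_surjective _ Ideal.Quotient.mk_surjective)] at hs
  obtain ⟨j, hj, k, hk, hjk⟩ := Submodule.mem_sup.1 hs
  have hk' : k ∈ RingHom.ker (MvPolynomial.map (σ := Fin n) (algebraMap R (R ⧸ I))) := hk
  rw [MvPolynomial.ker_map] at hk'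
  have hkI : RingHom.ker (algebraMap R (R ⧸ I)) = I := Ideal.mk_ker
  rw [hkI] at hk'
  rw [← hjk, map_add, Ideal.Quotient.eq_zero_iff_mem.2 hj, zero_add]
  have h2 : (I.map (C : R →+* MvPolynomial (Fin n) R)).map
      (Ideal.Quotient.mk (Ideal.span (Set.range F))) =
      I.map (algebraMap R (Synt.RelGCIRing R n c F)) := by
    rw [Ideal.map_map]
    rfl
  rw [← h2]
  exact Ideal.mem_map_of_mem _ hk'

set_option maxHeartbeats 1000000 in
/-- fibre dimension at the points of `V(IS)` -/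
theorem fibreDimAt_of_mem_zeroLocus
    (hI : Synt.IsRelGCI (R ⧸ I) n c (fun i => MvPolynomial.map (algebraMap R (R ⧸ I)) (F i)))
    (x : PrimeSpectrum (Synt.RelGCIRing R n c F))
    (hx : I.map (algebraMap R (Synt.RelGCIRing R n c F)) ≤ x.asIdeal) :
    c ≤ n ∧ FlatMor.fibreDimAt (Spec.map (CommRingCat.ofHom
      (algebraMap R (Synt.RelGCIRing R n c F)))) x = ((n - c : ℕ) : WithBot ℕ∞) := by
  have hker : RingHom.ker (bcHom R (R ⧸ I) n c F) ≤ x.asIdeal :=
    (ker_bcHom_quot_le R n c F I).trans hx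
  haveI hxb : (x.asIdeal.map (bcHom R (R ⧸ I) n c F)).IsPrime :=
    Ideal.map_isPrime_of_surjective (bcHom_quot_surjective R n c F I) hker
  let xb : PrimeSpectrum (Synt.RelGCIRing (R ⧸ I) n c
      (fun i => MvPolynomial.map (algebraMap R (R ⧸ I)) (F i))) :=
    ⟨x.asIdeal.map (bcHom R (R ⧸ I) n c F), hxb⟩
  have hcomap : PrimeSpectrum.comap (bcHom R (R ⧸ I) n c F) xb = x := by
    apply PrimeSpectrum.ext
    show Ideal.comap (bcHom R (R ⧸ I) n c F) (x.asIdeal.map (bcHom R (R ⧸ I) n c F)) = x.asIdeal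
    rw [Ideal.comap_map_of_surjective _ (bcHom_quot_surjective R n c F I)]
    exact sup_eq_left.2 hker
  haveI : Nontrivial (Synt.RelGCIRing (R ⧸ I) n c
      (fun i => MvPolynomial.map (algebraMap R (R ⧸ I)) (F i))) :=
    ⟨⟨0, 1, fun h01 => hxb.ne_top ((Ideal.eq_top_iff_one _).2 (h01 ▸ Ideal.zero_mem _))⟩⟩
  refine ⟨le_of_isRelGCI_of_nontrivial (R ⧸ I) n c _ hI, ?_⟩
  rw [← hcomap, ← fibreDimAt_bc' R (R ⧸ I) n c F xb]
  exact Groth.Agent.Helper5.SyntDim.s9366 (R ⧸ I) n c _ hI xb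

set_option maxHeartbeats 1000000 in
theorem s9172
    (hI : Synt.IsRelGCI (R ⧸ I) n c (fun i => MvPolynomial.map (Ideal.Quotient.mk I) (F i))) :
    ∃ h : MvPolynomial (Fin n) R,
      Ideal.Quotient.mk (I.map (algebraMap R (Synt.RelGCIRing R n c F)))
        (Ideal.Quotient.mk (Ideal.span (Set.range F)) h) = 1 ∧
      Synt.IsRelGCI R (n + 1) (c + 1)
        (Fin.snoc (fun i => rename Fin.castSucc (F i)) (rename Fin.castSucc h * X (Fin.last n) - 1)) ∧
      Nonempty (Localization.Away (Ideal.Quotient.mk (Ideal.span (Set.range F)) h) ≃ₐ[R]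
        Synt.RelGCIRing R (n + 1) (c + 1)
          (Fin.snoc (fun i => rename Fin.castSucc (F i)) (rename Fin.castSucc h * X (Fin.last n) - 1))) := by
  have hI' : Synt.IsRelGCI (R ⧸ I) n c
      (fun i => MvPolynomial.map (algebraMap R (R ⧸ I)) (F i)) := hI
  by_cases hV : I.map (algebraMap R (Synt.RelGCIRing R n c F)) = ⊤
  · refine ⟨0, ?_, ?_, ⟨snocEquiv R n c F 0⟩⟩
    · haveI : Subsingleton (Synt.RelGCIRing R n c F ⧸
          I.map (algebraMap R (Synt.RelGCIRing R n c F))) :=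
        Ideal.Quotient.subsingleton_iff.2 hV
      exact Subsingleton.elim _ _
    · haveI : Subsingleton (Synt.RelGCIRing R (n + 1) (c + 1) (snocRel R n c F 0)) := by
        apply subsingleton_of_zero_eq_one
        have h1 := snocHom_mul R n c F 0
        rw [map_zero, map_zero, zero_mul] at h1
        exact h1
      exact isRelGCI_of_subsingleton R (n + 1) (c + 1) (snocRel R n c F 0)
  · obtain ⟨M, hM, hle⟩ := Ideal.exists_le_maximal _ hV
    have hcn : c ≤ n := (fibreDimAt_of_mem_zeroLocus R n c F I hI' ⟨M, hM.isPrime⟩ hle).1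
    let d : WithBot ℕ∞ := ((n - c : ℕ) : WithBot ℕ∞)
    let IZ := PrimeSpectrum.vanishingIdeal (badSet R n c F d)
    have hZ := zeroLocus_vanishingIdeal_badSet R n c F d
    have hsup : IZ ⊔ I.map (algebraMap R (Synt.RelGCIRing R n c F)) = ⊤ := by
      by_contra hne
      obtain ⟨M', hM', hle'⟩ := Ideal.exists_le_maximal _ hne
      let x : PrimeSpectrum (Synt.RelGCIRing R n c F) := ⟨M', hM'.isPrime⟩
      have hx1 : x ∈ badSet R n c F d := by
        rw [← hZ]
        exact le_sup_left.trans hle'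
      exact hx1 (fibreDimAt_of_mem_zeroLocus R n c F I hI' x (le_sup_right.trans hle')).2.le
    have h1 : (1 : Synt.RelGCIRing R n c F) ∈
        IZ ⊔ I.map (algebraMap R (Synt.RelGCIRing R n c F)) := hsup ▸ Submodule.mem_top
    obtain ⟨j, hj, i, hi, hji⟩ := Submodule.mem_sup.1 h1
    obtain ⟨h, rfl⟩ := Ideal.Quotient.mk_surjective j
    refine ⟨h, ?_, isRelGCI_snoc R n c F h hcn ?_, ⟨snocEquiv R n c F h⟩⟩
    · rw [← map_one (Ideal.Quotient.mk (I.map (algebraMap R (Synt.RelGCIRing R n c F)))),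
        Ideal.Quotient.eq, ← hji]
      simpa using (Ideal.neg_mem_iff _).2 hi
    · intro x hx
      by_contra hcon
      have hxZ : x ∈ badSet R n c F d := hcon
      rw [← hZ] at hxZ
      exact hx (hxZ hj)

end Groth.Agent.Helper5.RelGCI
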