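import Mathlib
import Groth.Agent.Helper5.LST8
import Groth.Agent.Helper5.RelGCI17

set_option autoImplicit false
set_option linter.style.haveILetI false
set_option linter.unusedSectionVars false
universe u
open MvPolynomial TensorProduct

namespace Groth.Agent.Helper5.LST

open Groth.Agent.Helper5.RelGCI

section quot

variable (R : Type*) [CommRing R] (I : Ideal R)

/-- `B ↦ B/IB` is functorial for isomorphisms -/
noncomputable def quotCongr {X Y : Type*} [CommRing X] [CommRing Y] [Algebra R X] [Algebra R Y]
    (e : X ≃ₐ[R] Y) :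
    (X ⧸ I.map (algebraMap R X)) ≃ₐ[R] (Y ⧸ I.map (algebraMap R Y)) :=
  Ideal.quotientEquivAlg _ _ e (by
    rw [Ideal.map_map]
    congr 1
    ext r
    simp)

/-- localizing at an element congruent to one does not change the quotient -/
theorem nonempty_quot_away {A : Type*} [CommRing A] [Algebra R A] (h' : A)
    (hh : Ideal.Quotient.mk (I.map (algebraMap R A)) h' = 1) :
    Nonempty ((Localization.Away h' ⧸ I.map (algebraMap R (Localization.Away h'))) ≃ₐ[R]
      (A ⧸ I.map (algebraMap R A))) := by
  have hJ : I.map (algebraMap R (Localization.Away h')) =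
      (I.map (algebraMap R A)).map (algebraMap A (Localization.Away h')) := by
    rw [Ideal.map_map, ← IsScalarTower.algebraMap_eq]
  let f₀ : Localization.Away h' →+* A ⧸ I.map (algebraMap R A) :=
    IsLocalization.Away.lift h' (g := Ideal.Quotient.mk (I.map (algebraMap R A)))
      (by rw [hh]; exact isUnit_one)
  have hf₀ : ∀ a : A, f₀ (algebraMap A _ a) = Ideal.Quotient.mk _ a := fun a =>
    IsLocalization.Away.lift_eq _ _ a
  let f₁ : Localization.Away h' →ₐ[R] A ⧸ I.map (algebraMap R A) :=
    { toRingHom := f₀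
      commutes' := fun r => by
        show f₀ (algebraMap R _ r) = _
        rw [IsScalarTower.algebraMap_apply R A, hf₀]
        rfl }
  let f : (Localization.Away h' ⧸ I.map (algebraMap R (Localization.Away h'))) →ₐ[R]
      (A ⧸ I.map (algebraMap R A)) :=
    Ideal.Quotient.liftₐ _ f₁ (by
      intro a ha
      have hle : I.map (algebraMap R (Localization.Away h')) ≤ RingHom.ker f₀ := by
        rw [hJ, Ideal.map_le_iff_le_comap]
        intro a ha
        show f₀ (algebraMap A _ a) = 0
        rw [hf₀]
        exact Ideal.Quotient.eq_zero_iff_mem.2 ha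
      exact hle ha)
  let g : (A ⧸ I.map (algebraMap R A)) →ₐ[R]
      (Localization.Away h' ⧸ I.map (algebraMap R (Localization.Away h'))) :=
    Ideal.Quotient.liftₐ _ ((Ideal.Quotient.mkₐ R _).comp
      (IsScalarTower.toAlgHom R A (Localization.Away h'))) (by
      intro a ha
      show Ideal.Quotient.mk _ (algebraMap A (Localization.Away h') a) = 0
      rw [Ideal.Quotient.eq_zero_iff_mem, hJ]
      exact Ideal.mem_map_of_mem _ ha)
  have hg : ∀ a : A, g (Ideal.Quotient.mk _ a) =
      Ideal.Quotient.mk _ (algebraMap A (Localization.Away h') a) := fun a => rfl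
  have hf : ∀ y : Localization.Away h', f (Ideal.Quotient.mk _ y) = f₀ y := fun y => rfl
  have h1 : f.comp g = AlgHom.id R _ := by
    apply AlgHom.ext
    intro x
    obtain ⟨a, rfl⟩ := Ideal.Quotient.mk_surjective x
    rw [AlgHom.comp_apply, hg, hf, hf₀, AlgHom.id_apply]
  have h2 : g.comp f = AlgHom.id R _ := by
    apply AlgHom.ext
    intro x
    obtain ⟨y, rfl⟩ := Ideal.Quotient.mk_surjective x
    rw [AlgHom.comp_apply, hf, AlgHom.id_apply]
    have key : ((g : _ →+* _).comp f₀) =
        Ideal.Quotient.mk (I.map (algebraMap R (Localization.Away h'))) := by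
      apply IsLocalization.ringHom_ext (Submonoid.powers h')
      apply RingHom.ext
      intro a
      simp only [RingHom.comp_apply]
      rw [hf₀]
      exact hg a
    exact congrArg (fun φ => φ y) key
  exact ⟨AlgEquiv.ofAlgHom f g h1 h2⟩

end quot

section bc

variable (R : Type u) [CommRing R] (n c : ℕ) (F : Fin c → MvPolynomial (Fin n) R) (I : Ideal R)

theorem ker_bcHom_quot :
    RingHom.ker (bcHom R (R ⧸ I) n c F) = I.map (algebraMap R (Synt.RelGCIRing R n c F)) := by
  apply le_antisymm (ker_bcHom_quot_le R n c F I)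
  rw [Ideal.map_le_iff_le_comap]
  intro r hr
  show bcHom R (R ⧸ I) n c F (algebraMap R _ r) = 0
  have : algebraMap R (Synt.RelGCIRing R n c F) r = Ideal.Quotient.mk _ (C r) := rfl
  rw [this, bcHom_mk, MvPolynomial.map_C]
  have : algebraMap R (R ⧸ I) r = 0 := Ideal.Quotient.eq_zero_iff_mem.2 hr
  rw [this, map_zero, map_zero]

/-- `A/IA` is the base change of the presentation -/
theorem nonempty_quot_bc :
    Nonempty ((Synt.RelGCIRing R n c F ⧸ I.map (algebraMap R (Synt.RelGCIRing R n c F))) ≃ₐ[R]
      Synt.RelGCIRing (R ⧸ I) n c (fun i => MvPolynomial.map (algebraMap R (R ⧸ I)) (F i))) := by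
  let β : Synt.RelGCIRing R n c F →ₐ[R]
      Synt.RelGCIRing (R ⧸ I) n c (fun i => MvPolynomial.map (algebraMap R (R ⧸ I)) (F i)) :=
    { toRingHom := bcHom R (R ⧸ I) n c F
      commutes' := fun r => by
        show bcHom R (R ⧸ I) n c F (algebraMap R _ r) = _
        have : algebraMap R (Synt.RelGCIRing R n c F) r = Ideal.Quotient.mk _ (C r) := rfl
        rw [this, bcHom_mk, MvPolynomial.map_C]
        rfl }
  have hβ : Function.Surjective β := bcHom_quot_surjective R n c F I
  have hker : RingHom.ker (β : Synt.RelGCIRing R n c F →+* Synt.RelGCIRing (R ⧸ I) n c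
      (fun i => MvPolynomial.map (algebraMap R (R ⧸ I)) (F i))) =
      I.map (algebraMap R (Synt.RelGCIRing R n c F)) :=
    ker_bcHom_quot R n c F I
  exact ⟨(Ideal.quotientEquivAlgOfEq R hker.symm).trans
    (Ideal.quotientKerAlgEquivOfSurjective hβ)⟩

end bc

end Groth.Agent.Helper5.LST
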