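import Mathlib

set_option autoImplicit false
universe u

namespace Groth.Agent.Helper5.GCnt

open TopologicalSpace Topology

section pattern

variable {F : Type*} [TopologicalSpace F] (n : ℕ) (T : Fin n → Set F)

/-- the connected components of a space covered by finitely many connected closed sets are the
classes of the relation "the two sets meet" -/
theorem exists_equiv_quot (hcl : ∀ i, IsClosed (T i)) (hconn : ∀ i, IsConnected (T i))
    (hcov : ⋃ i, T i = Set.univ) :
    Nonempty (Quot (fun i k : Fin n => (T i ∩ T k).Nonempty) ≃ ConnectedComponents F) := by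
  classical
  have hp : ∀ i, ∃ p, p ∈ T i := fun i => (hconn i).nonempty
  choose p hp using hp
  let r : Fin n → Fin n → Prop := fun i k => (T i ∩ T k).Nonempty
  have hsame : ∀ i (x : F), x ∈ T i → (ConnectedComponents.mk x : ConnectedComponents F) =
      ConnectedComponents.mk (p i) := by
    intro i x hx
    rw [ConnectedComponents.coe_eq_coe']
    exact (hconn i).isPreconnected.subset_connectedComponent (hp i) hx
  have hr : ∀ i k, r i k → (ConnectedComponents.mk (p i) : ConnectedComponents F) =
      ConnectedComponents.mk (p k) := by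
    intro i k ⟨x, hxi, hxk⟩
    rw [← hsame i x hxi, ← hsame k x hxk]
  let Φ : Quot r → ConnectedComponents F := Quot.lift (fun i => ConnectedComponents.mk (p i)) hr
  have hsurj : Function.Surjective Φ := by
    intro c
    obtain ⟨x, rfl⟩ := ConnectedComponents.surjective_coe c
    have hx : x ∈ ⋃ i, T i := by rw [hcov]; exact Set.mem_univ x
    obtain ⟨i, hi⟩ := Set.mem_iUnion.1 hx
    exact ⟨Quot.mk r i, (hsame i x hi).symm⟩
  have hinj : Function.Injective Φ := by
    intro a b hab
    induction a using Quot.inductionOn with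
    | h i =>
    induction b using Quot.inductionOn with
    | h k =>
    have hab' : (ConnectedComponents.mk (p i) : ConnectedComponents F) =
      ConnectedComponents.mk (p k) := hab
    rw [ConnectedComponents.coe_eq_coe'] at hab'
    let A : Set F := ⋃ j : {j : Fin n // Quot.mk r j = Quot.mk r k}, T j.1
    let B : Set F := ⋃ j : {j : Fin n // Quot.mk r j ≠ Quot.mk r k}, T j.1
    have hA : IsClosed A := isClosed_iUnion_of_finite fun j => hcl j.1
    have hB : IsClosed B := isClosed_iUnion_of_finite fun j => hcl j.1
    have hAB : A ∪ B = Set.univ := by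
      apply Set.eq_univ_of_forall
      intro x
      have hx : x ∈ ⋃ i, T i := by rw [hcov]; exact Set.mem_univ x
      obtain ⟨j, hj⟩ := Set.mem_iUnion.1 hx
      by_cases hjk : Quot.mk r j = Quot.mk r k
      · exact Or.inl (Set.mem_iUnion.2 ⟨⟨j, hjk⟩, hj⟩)
      · exact Or.inr (Set.mem_iUnion.2 ⟨⟨j, hjk⟩, hj⟩)
    have hdisj : Disjoint A B := by
      rw [Set.disjoint_left]
      intro x hxA hxB
      obtain ⟨⟨j, hj⟩, hxj⟩ := Set.mem_iUnion.1 hxA
      obtain ⟨⟨l, hl⟩, hxl⟩ := Set.mem_iUnion.1 hxB
      apply hl
      rw [← hj]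
      exact (Quot.sound (⟨x, hxj, hxl⟩ : r j l)).symm
    have hAc : A = Bᶜ := by
      ext x
      constructor
      · intro hx hxB
        exact Set.disjoint_left.1 hdisj hx hxB
      · intro hx
        have : x ∈ A ∪ B := by rw [hAB]; exact Set.mem_univ x
        exact this.resolve_right hx
    have hclopen : IsClopen A := ⟨hA, by rw [hAc]; exact hB.isOpen_compl⟩
    have hpk : p k ∈ A := Set.mem_iUnion.2 ⟨⟨k, rfl⟩, hp k⟩
    have h1 : connectedComponent (p k) ⊆ A := hclopen.connectedComponent_subset hpk
    have h2 : p i ∈ A := h1 hab'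
    obtain ⟨⟨j, hj⟩, hxj⟩ := Set.mem_iUnion.1 h2
    rw [← hj]
    exact Quot.sound (⟨p i, hp i, hxj⟩ : r i j)
  exact ⟨Equiv.ofBijective Φ ⟨hinj, hsurj⟩⟩

end pattern

/-- the number of connected components is determined by the intersection pattern of a finite
cover by connected closed sets -/
theorem card_connectedComponents_eq_of_pattern {F F' : Type*} [TopologicalSpace F]
    [TopologicalSpace F'] (n : ℕ) (T : Fin n → Set F) (T' : Fin n → Set F')
    (hcl : ∀ i, IsClosed (T i)) (hcl' : ∀ i, IsClosed (T' i))
    (hconn : ∀ i, IsConnected (T i)) (hconn' : ∀ i, IsConnected (T' i))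
    (hcov : ⋃ i, T i = Set.univ) (hcov' : ⋃ i, T' i = Set.univ)
    (hpat : ∀ i k, (T i ∩ T k).Nonempty ↔ (T' i ∩ T' k).Nonempty) :
    ENat.card (ConnectedComponents F) = ENat.card (ConnectedComponents F') := by
  obtain ⟨e⟩ := exists_equiv_quot n T hcl hconn hcov
  obtain ⟨e'⟩ := exists_equiv_quot n T' hcl' hconn' hcov'
  exact ENat.card_congr ((e.symm.trans (Quot.congrRight hpat)).trans e')

end Groth.Agent.Helper5.GCnt
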