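import Mathlib

set_option autoImplicit false
universe u

namespace Groth.Agent.Helper5.GCnt

open TopologicalSpace Topology

/-- a set squeezed between a point and its closure is irreducible -/
theorem isIrreducible_of_subset_closure_singleton {F : Type*} [TopologicalSpace F] (ξ : F) (S : Set F)
    (h1 : ξ ∈ S) (h2 : S ⊆ closure {ξ}) : IsIrreducible S := by
  refine ⟨⟨ξ, h1⟩, ?_⟩
  intro U U' hU hU' ⟨a, haS, haU⟩ ⟨b, hbS, hbU'⟩
  have ha : ξ ⤳ a := specializes_iff_mem_closure.2 (h2 haS)
  have hb : ξ ⤳ b := specializes_iff_mem_closure.2 (h2 hbS)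
  exact ⟨ξ, h1, ha.mem_open hU haU, hb.mem_open hU' hbU'⟩

/-- an irreducible set contained in a finite union of closed sets is contained in one of them -/
theorem exists_subset_of_isIrreducible {F : Type*} [TopologicalSpace F] (n : ℕ) (T : Fin n → Set F)
    (hcl : ∀ i, IsClosed (T i)) (S : Set F) (hS : IsIrreducible S) (hsub : S ⊆ ⋃ i, T i) :
    ∃ i, S ⊆ T i := by
  classical
  have := (isIrreducible_iff_sUnion_isClosed.1 hS) (Finset.univ.image T) (by
    intro z hz
    obtain ⟨i, -, rfl⟩ := Finset.mem_image.1 hz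
    exact hcl i) (by
    intro x hx
    obtain ⟨i, hi⟩ := Set.mem_iUnion.1 (hsub hx)
    exact Set.mem_sUnion.2 ⟨T i, by simp, hi⟩)
  obtain ⟨z, hz, hSz⟩ := this
  obtain ⟨i, -, rfl⟩ := Finset.mem_image.1 hz
  exact ⟨i, hSz⟩

/-- counting irreducible components from a finite irredundant cover by irreducible closed sets -/
theorem encard_irreducibleComponents_eq {F : Type*} [TopologicalSpace F] (n : ℕ) (T : Fin n → Set F)
    (hcl : ∀ i, IsClosed (T i)) (hirr : ∀ i, IsIrreducible (T i)) (hcov : ⋃ i, T i = Set.univ)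
    (hsep : ∀ i, ∃ t ∈ T i, ∀ k, t ∈ T k → i = k) :
    (irreducibleComponents F).encard = n := by
  classical
  have hsub : ∀ i k, T i ⊆ T k → i = k := by
    intro i k hik
    obtain ⟨t, ht, htk⟩ := hsep i
    exact htk k (hik ht)
  have hmem : ∀ i, T i ∈ irreducibleComponents F := by
    intro i
    refine ⟨hirr i, ?_⟩
    intro S hS hTS
    obtain ⟨k, hk⟩ := exists_subset_of_isIrreducible n T hcl S hS (by rw [hcov]; exact Set.subset_univ _)
    have : i = k := hsub i k (hTS.trans hk)
    subst this
    exact hk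
  have hall : ∀ C ∈ irreducibleComponents F, ∃ i, C = T i := by
    intro C hC
    obtain ⟨k, hk⟩ := exists_subset_of_isIrreducible n T hcl C hC.1 (by rw [hcov]; exact Set.subset_univ _)
    exact ⟨k, le_antisymm hk (hC.2 (hirr k) hk)⟩
  have hrange : irreducibleComponents F = Set.range T := by
    ext C
    constructor
    · intro hC
      obtain ⟨i, rfl⟩ := hall C hC
      exact ⟨i, rfl⟩
    · rintro ⟨i, rfl⟩
      exact hmem i
  have hinj : Function.Injective T := by
    intro i k hik
    exact hsub i k (le_of_eq hik)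
  rw [hrange, ← Set.image_univ, hinj.encard_image, Set.encard_univ, ENat.card_eq_coe_fintype_card,
    Fintype.card_fin]

end Groth.Agent.Helper5.GCnt
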