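import Groth.Agent.Helper5.DimIneq2

set_option autoImplicit false
universe u
open CategoryTheory CategoryTheory.Limits AlgebraicGeometry Opposite

namespace Groth.Agent.Helper5.DimIneq

/-- Version of `stalk_dim_le` for an arbitrary point of a fibre. -/
theorem stalk_dim_le' {X Y : Scheme.{u}} (f : X ⟶ Y) [IsLocallyNoetherian X]
    [IsLocallyNoetherian Y] (y : ↥Y) (z : ↥(f.fiber y)) :
    ringKrullDim (X.presheaf.stalk (f.fiberι y z)) ≤
      ringKrullDim (Y.presheaf.stalk y) + ringKrullDim ((f.fiber y).presheaf.stalk z) := by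
  have hy : f (f.fiberι y z) = y := by
    have : f.fiberι y z ∈ Set.range (f.fiberι y) := ⟨z, rfl⟩
    rw [Scheme.Hom.range_fiberι] at this
    exact this
  generalize hx : f.fiberι y z = x at hy
  subst hy
  have hz : z = f.asFiber x := by
    apply (f.fiberι (f x)).isEmbedding.injective
    rw [hx, Scheme.Hom.fiberι_asFiber]
  subst hz
  exact stalk_dim_le f x

/-- A nonempty scheme has a point of codimension zero. -/
theorem exists_coheight_eq_zero (X : Scheme.{u}) [Nonempty ↥X] :
    ∃ x : ↥X, Order.coheight x = 0 := by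
  obtain ⟨x0⟩ := ‹Nonempty ↥X›
  obtain ⟨R, f, hf, hsub⟩ := Scheme.exists_affine_mem_range_and_range_subset
      (show x0 ∈ (⊤ : X.Opens) from trivial)
  obtain ⟨y0, -⟩ := Set.mem_range.mp hsub.1
  have : Nontrivial R := by
    have : Nonempty (PrimeSpectrum R) := ⟨y0⟩
    exact (PrimeSpectrum.nonempty_iff_nontrivial).1 this
  obtain ⟨p, hp⟩ := Ideal.nonempty_minimalPrimes (R := R) (I := ⊥) top_ne_bot.symm
  have hp' : p.IsPrime := hp.isPrime
  let y : ↥(Spec R) := ⟨p, hp'⟩
  refine ⟨f y, ?_⟩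
  rw [coheight_eq_of_isOpenImmersion, ← idealHeight_eq_coheight R y]
  exact Ideal.height_eq_zero_iff.2 hp

/-- For a flat morphism, `dim 𝒪_{Y,f x} ≤ dim 𝒪_{X,x}`. -/
theorem stalk_dim_le_of_flat {X Y : Scheme.{u}} (f : X ⟶ Y) [Flat f] (x : ↥X)
    [IsNoetherianRing (X.presheaf.stalk x)] [IsNoetherianRing (Y.presheaf.stalk (f x))] :
    ringKrullDim (Y.presheaf.stalk (f x)) ≤ ringKrullDim (X.presheaf.stalk x) := by
  let A := Y.presheaf.stalk (f x)
  let B := X.presheaf.stalk x
  let φ : A →+* B := (f.stalkMap x).hom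
  let _ : Algebra A B := φ.toAlgebra
  have hflat : Module.Flat A B := Flat.stalkMap f x
  let mA := IsLocalRing.maximalIdeal A
  let mB := IsLocalRing.maximalIdeal B
  have hlies : mB.LiesOver mA := by
    constructor
    have h0 : IsLocalHom φ := inferInstanceAs (IsLocalHom (f.stalkMap x).hom)
    have h := ((IsLocalRing.local_hom_TFAE φ).out 0 4).1 h0
    exact h.symm
  have key := Ideal.height_eq_height_add_of_liesOver_of_hasGoingDown mA mB
  calc ringKrullDim A = mA.height := (IsLocalRing.maximalIdeal_height_eq_ringKrullDim).symm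
    _ ≤ mB.height := by
        rw [key]
        exact_mod_cast le_self_add
    _ = ringKrullDim B := IsLocalRing.maximalIdeal_height_eq_ringKrullDim

theorem codim_preimage {X Y : Scheme.{u}} (f : X ⟶ Y) [IsLocallyNoetherian X]
    [IsLocallyNoetherian Y] (hf : Function.Surjective f.base) (Z : Set Y) :
    (⨅ x ∈ f.base ⁻¹' Z, ringKrullDim (X.presheaf.stalk x)) ≤
        ⨅ y ∈ Z, ringKrullDim (Y.presheaf.stalk y) ∧
      (Flat f → (⨅ x ∈ f.base ⁻¹' Z, ringKrullDim (X.presheaf.stalk x)) =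
        ⨅ y ∈ Z, ringKrullDim (Y.presheaf.stalk y)) := by
  have h1 : (⨅ x ∈ f.base ⁻¹' Z, ringKrullDim (X.presheaf.stalk x)) ≤
        ⨅ y ∈ Z, ringKrullDim (Y.presheaf.stalk y) := by
    refine le_iInf₂ fun y hy => ?_
    have : Nonempty ↥(f.fiber y) := by
      obtain ⟨x0, rfl⟩ := hf y
      exact ⟨f.asFiber x0⟩
    obtain ⟨z, hz⟩ := exists_coheight_eq_zero (f.fiber y)
    have hfz : f (f.fiberι y z) = y := by
      have : f.fiberι y z ∈ Set.range (f.fiberι y) := ⟨z, rfl⟩
      rw [Scheme.Hom.range_fiberι] at this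
      exact this
    refine iInf₂_le_of_le (f.fiberι y z) (by show f (f.fiberι y z) ∈ Z; rw [hfz]; exact hy) ?_
    refine (stalk_dim_le' f y z).trans ?_
    rw [ringKrullDim_stalk_eq_coheight z, hz]
    simp
  refine ⟨h1, fun hflat => le_antisymm h1 ?_⟩
  refine le_iInf₂ fun x hx => ?_
  exact iInf₂_le_of_le (f x) hx (stalk_dim_le_of_flat f x)

end Groth.Agent.Helper5.DimIneq
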