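import Groth.Agent.Helper5.LocDim1

set_option autoImplicit false
universe u
open AlgebraicGeometry CategoryTheory TopologicalSpace

namespace Groth.Agent.Helper5.LocDim

/-- The equicodimensionality hypothesis: all closed points of the closure of a point have the same
codimension in it. -/
def EquiCodim (X : Scheme.{u}) : Prop :=
  ∀ ζ s1 s2 : X, IsClosed ({s1} : Set X) → IsClosed ({s2} : Set X) → ζ ⤳ s1 → ζ ⤳ s2 →
    Order.krullDim ↥(Set.Icc s1 ζ) = Order.krullDim ↥(Set.Icc s2 ζ)

theorem exists_closed_specialization {X : Scheme.{u}} [JacobsonSpace X] (U : Set X) (hU : IsOpen U)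
    (x : X) (hx : x ∈ U) : ∃ s : X, IsClosed ({s} : Set X) ∧ x ⤳ s ∧ s ∈ U := by
  obtain ⟨s, ⟨hs1, hs2⟩, hs3⟩ := nonempty_inter_closedPoints (Z := U ∩ closure ({x} : Set X))
    ⟨x, hx, subset_closure rfl⟩ (hU.isLocallyClosed.inter isClosed_closure.isLocallyClosed)
  exact ⟨s, hs3, specializes_iff_mem_closure.2 hs2, hs1⟩

theorem Icc_subset_closure {X : Scheme.{u}} (s ζ : X) : Set.Icc s ζ ⊆ closure ({ζ} : Set X) := by
  intro t ht
  exact specializes_iff_mem_closure.1 (Scheme.le_iff_specializes.1 ht.2)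

/-- Lemma A: the dimension of the closure of a point is the codimension of any closed point. -/
theorem dim_closure_eq {X : Scheme.{u}} [JacobsonSpace X] (hE : EquiCodim X) (ζ s : X)
    (hs : IsClosed ({s} : Set X)) (h : ζ ⤳ s) :
    topologicalKrullDim ↥(closure ({ζ} : Set X)) = Order.krullDim ↥(Set.Icc s ζ) := by
  apply le_antisymm
  · refine dim_le_of_chains _ (genStable_of_isClosed _ isClosed_closure) _ ?_
    intro l hl
    obtain ⟨s', hs', hsp, -⟩ := exists_closed_specialization Set.univ isOpen_univ (l 0) trivial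
    have hζl0 : ζ ⤳ l 0 := specializes_iff_mem_closure.2 (hl 0)
    rw [hE ζ s s' hs hs' h (hζl0.trans hsp)]
    have hmem : ∀ i, l i ∈ Set.Icc s' ζ := by
      intro i
      refine ⟨?_, Scheme.le_iff_specializes.2 (specializes_iff_mem_closure.2 (hl i))⟩
      have h0 : l 0 ≤ l i := l.monotone (Fin.zero_le i)
      exact le_trans (Scheme.le_iff_specializes.2 hsp) h0
    let l' : LTSeries ↥(Set.Icc s' ζ) := LTSeries.mk l.length (fun i => ⟨l i, hmem i⟩)
      (fun i j hij => l.strictMono hij)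
    exact Order.LTSeries.length_le_krullDim l'
  · rw [← EquiDim.topologicalKrullDim_Icc_eq]
    exact dim_subset_le (Icc_subset_closure s ζ)

/-- Lemma B: a nonempty open subset of the closure of a point has the same dimension. -/
theorem dim_open_inter_closure {X : Scheme.{u}} [JacobsonSpace X] (hE : EquiCodim X) (ζ : X)
    (U : Set X) (hU : IsOpen U) (hζ : ζ ∈ U) :
    topologicalKrullDim ↥(U ∩ closure ({ζ} : Set X)) =
      topologicalKrullDim ↥(closure ({ζ} : Set X)) := by
  apply le_antisymm (dim_subset_le Set.inter_subset_right)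
  obtain ⟨s, hs, hsp, hsU⟩ := exists_closed_specialization U hU ζ hζ
  rw [dim_closure_eq hE ζ s hs hsp, ← EquiDim.topologicalKrullDim_Icc_eq]
  refine dim_subset_le ?_
  intro t ht
  refine ⟨?_, Icc_subset_closure s ζ ht⟩
  exact (Scheme.le_iff_specializes.1 ht.1).mem_open hU hsU

/-- Lemma C: additivity of dimension and codimension. -/
theorem dim_closure_add {X : Scheme.{u}} [JacobsonSpace X] (hE : EquiCodim X)
    (hadd : ∀ x y z : X, y ⤳ x → z ⤳ y → Order.krullDim ↥(Set.Icc x z) =
      Order.krullDim ↥(Set.Icc x y) + Order.krullDim ↥(Set.Icc y z))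
    (x ζ : X) (h : ζ ⤳ x) :
    topologicalKrullDim ↥(closure ({ζ} : Set X)) =
      topologicalKrullDim ↥(closure ({x} : Set X)) + Order.krullDim ↥(Set.Icc x ζ) := by
  obtain ⟨s, hs, hsp, -⟩ := exists_closed_specialization Set.univ isOpen_univ x trivial
  rw [dim_closure_eq hE ζ s hs (h.trans hsp), dim_closure_eq hE x s hs hsp]
  exact hadd s x ζ hsp h

/-- Equicodimensionality from the universally catenary and equidimensional components
hypotheses. -/
theorem equiCodim_of_components {X : Scheme.{u}} [IsLocallyNoetherian X]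
    (h2 : ∀ x : X, CAlg.IsUniversallyCatenary (X.presheaf.stalk x))
    (h3 : ∀ X' ∈ irreducibleComponents (X : Type u), ∀ x ∈ X', IsClosed ({x} : Set X) →
      topologicalKrullDim (↥X' : Type u) = topologicalKrullDim ↥{t : X | t ∈ X' ∧ t ⤳ x}) :
    EquiCodim X := by
  intro ζ s1 s2 hs1 hs2 hsp1 hsp2
  obtain ⟨X', hX', hsub⟩ := exists_mem_irreducibleComponents_subset_of_isIrreducible
    (closure ({ζ} : Set X)) isIrreducible_singleton.closure
  have hX'cl : IsClosed X' := isClosed_of_mem_irreducibleComponents X' hX'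
  obtain ⟨ξ, hξ⟩ := QuasiSober.sober hX'.1 hX'cl
  have hξcl : closure ({ξ} : Set X) = X' := hξ.def
  have hζX : ζ ∈ X' := hsub (subset_closure rfl)
  have hξζ : ξ ⤳ ζ := by
    rw [specializes_iff_mem_closure, hξcl]; exact hζX
  obtain ⟨b, -, -, -, hb, -, -, -, -⟩ :=
    UCat.scheme_dimension_equality (𝟙 X) h2 ζ ξ hξζ
  have key : ∀ s : X, IsClosed ({s} : Set X) → ζ ⤳ s → ∃ c : ℕ,
      Order.krullDim ↥(Set.Icc s ζ) = (c : WithBot ℕ∞) ∧
      topologicalKrullDim ↥X' = ((c + b : ℕ) : WithBot ℕ∞) := by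
    intro s hs hsp
    obtain ⟨c, -, -, -, hc, -, -, -, -⟩ := UCat.scheme_dimension_equality (𝟙 X) h2 s ζ hsp
    refine ⟨c, hc, ?_⟩
    have hsX : s ∈ X' := hsub (specializes_iff_mem_closure.1 hsp)
    have hadd := EquiDim.krullDim_Icc_add h2 s ζ ξ hsp hξζ
    have hb' : Order.krullDim ↥(Set.Icc ζ ξ) = (b : WithBot ℕ∞) := hb
    have hc' : Order.krullDim ↥(Set.Icc s ζ) = (c : WithBot ℕ∞) := hc
    rw [hb', hc'] at hadd
    have hset : {t : X | t ∈ X' ∧ t ⤳ s} = Set.Icc s ξ := by
      ext t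
      simp only [Set.mem_ofPred_eq, Set.mem_Icc]
      rw [← hξcl, ← specializes_iff_mem_closure, Scheme.le_iff_specializes,
        Scheme.le_iff_specializes]
      exact and_comm
    have h3' := h3 X' hX' s hsX hs
    rw [hset, EquiDim.topologicalKrullDim_Icc_eq, hadd] at h3'
    rw [h3']
    push_cast
    rfl
  obtain ⟨c1, hc1, hd1⟩ := key s1 hs1 hsp1
  obtain ⟨c2, hc2, hd2⟩ := key s2 hs2 hsp2
  have : c1 + b = c2 + b := by
    have : ((c1 + b : ℕ) : WithBot ℕ∞) = ((c2 + b : ℕ) : WithBot ℕ∞) := hd1.symm.trans hd2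
    exact_mod_cast this
  have hcc : c1 = c2 := by omega
  rw [hc1, hc2, hcc]

end Groth.Agent.Helper5.LocDim
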