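import Groth.Agent.Helper5.DimIneq4
import Groth.Agent.Helper5.FibCodim
import Groth.Agent.Helper5.EtDim
import Groth.Agent.Helper5.VarDim9
import Groth.Agent.Helper5.LocDim2
import Mathlib

set_option autoImplicit false
universe u
open CategoryTheory CategoryTheory.Limits AlgebraicGeometry TopologicalSpace

namespace Groth.Agent.Helper5.FlatRelDim

open Groth.Agent.Helper5.VarDim

theorem iSup_coe_add_le {ι : Sort*} [Nonempty ι] (b : ι → ℕ∞) (d : ℕ∞) (c : WithBot ℕ∞)
    (h : ∀ i, ((b i + d : ℕ∞) : WithBot ℕ∞) ≤ c) :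
    (⨆ i, ((b i : ℕ∞) : WithBot ℕ∞)) + ((d : ℕ∞) : WithBot ℕ∞) ≤ c := by
  rw [← WithBot.coe_iSup (OrderTop.bddAbove _), ← WithBot.coe_add, ENat.iSup_add,
    WithBot.coe_iSup (OrderTop.bddAbove _)]
  exact iSup_le h

/-- Flat dimension formula at a point of a fibre. -/
theorem stalk_dim_eq_of_flat' {X Y : Scheme.{u}} (f : X ⟶ Y) [Flat f] [IsLocallyNoetherian X]
    [IsLocallyNoetherian Y] (y : ↥Y) (z : ↥(f.fiber y)) :
    ringKrullDim (X.presheaf.stalk (f.fiberι y z)) =
      ringKrullDim (Y.presheaf.stalk y) + ringKrullDim ((f.fiber y).presheaf.stalk z) := by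
  have hy : f (f.fiberι y z) = y := apply_fiberι f y z
  generalize hx : f.fiberι y z = x at hy
  subst hy
  have hz : z = f.asFiber x := by
    apply (f.fiberι (f x)).isEmbedding.injective
    rw [hx, Scheme.Hom.fiberι_asFiber]
  subst hz
  exact Groth.Agent.Helper5.DimIneq.stalk_dim_eq_of_flat f x (Flat.stalkMap f x)


/-- For a flat morphism locally of finite type with all local fibre dimensions equal to `d`,
to a locally Noetherian scheme: `dim_x X = dim_{f x} Y + d`. -/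
theorem localDim_eq_add {U V : Scheme.{u}} [IsLocallyNoetherian V] (h : U ⟶ V) [Flat h]
    [LocallyOfFiniteType h] (d : ℕ) (hd : ∀ u' : U, FlatMor.fibreDimAt h u' = d) (u : U) :
    FlatMor.localDim U u = FlatMor.localDim V (h u) + (d : WithBot ℕ∞) := by
  have hUN : IsLocallyNoetherian U := LocallyOfFiniteType.isLocallyNoetherian h
  -- all points of all fibres have local dimension `d`
  have hloc : ∀ (y : V) (ζ : ↥(h.fiber y)), FlatMor.localDim ↥(h.fiber y) ζ = d := by
    intro y ζ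
    rw [localDim_fiber_eq_fibreDimAt h y ζ (h.fiberι y ζ) rfl (apply_fiberι h y ζ)]
    exact hd _
  have hfibF : ∀ (y : V), LocallyOfFiniteType (h.fiberToSpecResidueField y) := fun y =>
    inferInstanceAs (LocallyOfFiniteType (Limits.pullback.snd h (V.fromSpecResidueField y)))
  have hstalk_le : ∀ (y : V) (ζ : ↥(h.fiber y)),
      ringKrullDim ((h.fiber y).presheaf.stalk ζ) ≤ d := by
    intro y ζ
    obtain ⟨n, -, hn, -⟩ := localDim_formula (V.residueField y) (h.fiberToSpecResidueField y) ζ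
    rw [hloc y ζ] at hn
    rw [hn]
    exact le_add_of_nonneg_right (by exact_mod_cast Nat.zero_le n)
  have hstalk_closed : ∀ (y : V) (ζ : ↥(h.fiber y)), IsClosed ({ζ} : Set ↥(h.fiber y)) →
      ringKrullDim ((h.fiber y).presheaf.stalk ζ) = d := by
    intro y ζ hζ
    obtain ⟨n, -, hn, hn0⟩ := localDim_formula (V.residueField y) (h.fiberToSpecResidueField y) ζ
    rw [hloc y ζ, hn0 hζ] at hn
    rw [hn]; simp
  apply le_antisymm
  · have : Nonempty {W : V.Opens // h u ∈ W} := ⟨⟨⊤, trivial⟩⟩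
    obtain ⟨⟨W, hW⟩, hWd⟩ := ciInf_mem (fun W : {W : V.Opens // h u ∈ W} =>
      topologicalKrullDim ↥(W.1 : Set V))
    have h1 : FlatMor.localDim U u ≤ topologicalKrullDim ↥((h ⁻¹ᵁ W : U.Opens) : Set U) :=
      iInf_le (fun W : {W : U.Opens // u ∈ W} => topologicalKrullDim ↥(W.1 : Set U))
        ⟨h ⁻¹ᵁ W, hW⟩
    refine h1.trans ?_
    have h2 : FlatMor.localDim V (h u) = topologicalKrullDim ↥(W : Set V) := hWd.symm
    rw [h2, Groth.Agent.Helper5.EtDim.topologicalKrullDim_opens,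
      Groth.Agent.Helper5.EtDim.topologicalKrullDim_opens]
    refine iSup_le fun y => ?_
    obtain ⟨ζ, hζ⟩ : (y : U) ∈ Set.range (h.fiberι (h y)) := by
      rw [Scheme.Hom.range_fiberι]; rfl
    rw [← ringKrullDim_stalk_eq_coheight, ← hζ, stalk_dim_eq_of_flat' h (h y) ζ]
    refine add_le_add ?_ (hstalk_le _ ζ)
    rw [ringKrullDim_stalk_eq_coheight]
    exact le_iSup (fun w : ↥W => ((Order.coheight (w : V) : ℕ∞) : WithBot ℕ∞)) ⟨h y.1, y.2⟩
  · refine le_iInf fun ⟨U', hU'⟩ => ?_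
    have hopen : IsOpen (h '' (U' : Set U)) := h.isOpenMap _ U'.isOpen
    let W : V.Opens := ⟨h '' (U' : Set U), hopen⟩
    have hW : h u ∈ W := ⟨u, hU', rfl⟩
    have h1 : FlatMor.localDim V (h u) ≤ topologicalKrullDim ↥(W : Set V) :=
      iInf_le (fun W : {W : V.Opens // h u ∈ W} => topologicalKrullDim ↥(W.1 : Set V)) ⟨W, hW⟩
    refine (add_le_add_left h1 _).trans ?_
    rw [Groth.Agent.Helper5.EtDim.topologicalKrullDim_opens]
    have : Nonempty ↥W := ⟨⟨h u, hW⟩⟩
    refine iSup_coe_add_le _ (d : ℕ∞) _ fun w => ?_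
    obtain ⟨u₀, hu₀, hw⟩ := w.2
    -- a closed point of the fibre over `w` lying in `U'`
    have hJ : JacobsonSpace ↥(h.fiber w.1) :=
      LocallyOfFiniteType.jacobsonSpace (h.fiberToSpecResidueField w.1)
    obtain ⟨ζ₀, hζ₀⟩ : u₀ ∈ Set.range (h.fiberι w.1) := by
      rw [Scheme.Hom.range_fiberι]; exact hw
    obtain ⟨ζ, hζcl, -, hζU⟩ := Groth.Agent.Helper5.LocDim.exists_closed_specialization
      ((h.fiberι w.1) ⁻¹' (U' : Set U)) (U'.isOpen.preimage (h.fiberι w.1).continuous) ζ₀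
      (by show h.fiberι w.1 ζ₀ ∈ (U' : Set U); rw [hζ₀]; exact hu₀)
    have e1 := stalk_dim_eq_of_flat' h w.1 ζ
    rw [hstalk_closed w.1 ζ hζcl, ringKrullDim_stalk_eq_coheight,
      ringKrullDim_stalk_eq_coheight] at e1
    have e2 : ((Order.coheight (h.fiberι w.1 ζ) : ℕ∞) : WithBot ℕ∞) ≤
        topologicalKrullDim ↥((U' : U.Opens) : Set U) := by
      rw [Groth.Agent.Helper5.EtDim.topologicalKrullDim_opens]
      exact le_iSup (fun z : ↥U' => ((Order.coheight (z : U) : ℕ∞) : WithBot ℕ∞))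
        ⟨h.fiberι w.1 ζ, hζU⟩
    refine le_trans ?_ e2
    rw [e1]
    push_cast
    rfl

end Groth.Agent.Helper5.FlatRelDim
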