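import Groth.Agent.Helper5.BCMin13
import Groth.Agent.Helper5.FlatRelDim
import Groth.Agent.Helper5.VarDim15
import Groth.Agent.Helper5.SubDim2
import Groth.Agent.Helper5.DimIneq3
import Groth.Agent.Helper5.ResTr
import Mathlib

set_option autoImplicit false
universe u
open CategoryTheory CategoryTheory.Limits AlgebraicGeometry TopologicalSpace

namespace Groth.Agent.Helper5.GenDim

open Groth.Agent.Helper5.VarDim Groth.Agent.Helper5.BCMin Groth.Agent.Helper5.SubDim

/-- The dimension formula at a point of a fibre, in terms of the residue transcendence degree. -/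
theorem fp_formula {X Y : Scheme.{u}} (f : X ⟶ Y) [LocallyOfFiniteType f] (y : Y)
    (ζ : ↥(f.fiber y)) :
    ∃ k n : ℕ, ringKrullDim ((f.fiber y).presheaf.stalk ζ) = (k : WithBot ℕ∞) ∧
      Dual3.resTrdeg f (f.fiberι y ζ) = (n : Cardinal.{u}) ∧
      FlatMor.localDim ↥(f.fiber y) ζ = ((k + n : ℕ) : WithBot ℕ∞) := by
  have hft : LocallyOfFiniteType (f.fiberToSpecResidueField y) :=
    inferInstanceAs (LocallyOfFiniteType (Limits.pullback.snd f (Y.fromSpecResidueField y)))
  have hN : IsLocallyNoetherian (f.fiber y) :=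
    LocallyOfFiniteType.isLocallyNoetherian (f.fiberToSpecResidueField y)
  obtain ⟨k, hk1, -⟩ := ringKrullDim_stalk_nat (f.fiber y) ζ
  obtain ⟨n, hn1, hn2, -⟩ := localDim_formula (Y.residueField y) (f.fiberToSpecResidueField y) ζ
  refine ⟨k, n, hk1, ?_, ?_⟩
  · rw [← hn1]
    exact (trdeg_fiber' f y ζ (f.fiberι y ζ) rfl (apply_fiberι f y ζ)).symm
  · rw [hn2, hk1]; push_cast; rfl

theorem isLocallyNoetherian_fiber {X Y : Scheme.{u}} (f : X ⟶ Y) [LocallyOfFiniteType f] (y : Y) :
    IsLocallyNoetherian (f.fiber y) := by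
  have hft : LocallyOfFiniteType (f.fiberToSpecResidueField y) :=
    inferInstanceAs (LocallyOfFiniteType (Limits.pullback.snd f (Y.fromSpecResidueField y)))
  exact LocallyOfFiniteType.isLocallyNoetherian (f.fiberToSpecResidueField y)

/-- The comparison map between the fibres of a cartesian square. -/
theorem exists_fibre_map {X S X' S' : Scheme.{u}} (f : X ⟶ S) [LocallyOfFiniteType f]
    (g : S' ⟶ S) (g' : X' ⟶ X) (f' : X' ⟶ S') (hsq : IsPullback g' f' f g) (s' : S') :
    ∃ ρ : f'.fiber s' ⟶ f.fiber (g s'), Flat ρ ∧ Surjective ρ ∧ IsOpenMap ρ ∧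
      ρ ≫ f.fiberι (g s') = f'.fiberι s' ≫ g' ∧
      ∀ ζ' : ↥(f'.fiber s'), FlatMor.localDim ↥(f'.fiber s') ζ' =
        FlatMor.localDim ↥(f.fiber (g s')) (ρ ζ') := by
  let y : S := g s'
  let φ := g.residueFieldMap s'
  let h : f.fiber y ⟶ Spec (S.residueField y) := f.fiberToSpecResidueField y
  have hlft : LocallyOfFiniteType h :=
    inferInstanceAs (LocallyOfFiniteType (Limits.pullback.snd f (S.fromSpecResidueField y)))
  obtain ⟨e, he⟩ := fibre_iso_of_isPullback f g g' f' hsq s'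
  have hflat : Flat (Spec.map φ) := flat_SpecMap_field _ _ φ.hom
  have hsurj : Surjective (Spec.map φ) := surjective_SpecMap_field _ _ φ.hom
  have hsub : Subsingleton ↥(Spec (S.residueField y)) :=
    inferInstanceAs (Subsingleton (PrimeSpectrum (S.residueField y)))
  have hint : IsIntegral (Spec (S.residueField y)) := inferInstance
  have huo : UniversallyOpen (Spec.map φ) := inferInstance
  refine ⟨e.hom ≫ pullback.fst h (Spec.map φ), inferInstance, inferInstance, ?_, ?_, ?_⟩
  · exact (e.hom ≫ pullback.fst h (Spec.map φ)).isOpenMap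
  · rw [Category.assoc]; exact he
  · intro ζ'
    have e1 : FlatMor.localDim ↥(f'.fiber s') ζ' =
        FlatMor.localDim ↥(pullback h (Spec.map φ)) (e.hom ζ') :=
      localDim_homeomorph (Scheme.homeoOfIso e) ζ'
    have e2 : FlatMor.localDim ↥(pullback h (Spec.map φ)) (e.hom ζ') =
        FlatMor.localDim ↥(f.fiber y) (pullback.fst h (Spec.map φ) (e.hom ζ')) :=
      @localDim_bc (f.fiber y) (S.residueField y) (S'.residueField s') _ _ φ.hom h hlft (e.hom ζ')
    exact e1.trans e2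


/-- (F1) The residue transcendence degree does not increase under base change. -/
theorem resTrdeg_le_of_isPullback {X S X' S' : Scheme.{u}} (f : X ⟶ S) [LocallyOfFiniteType f]
    (g : S' ⟶ S) (g' : X' ⟶ X) (f' : X' ⟶ S') (hsq : IsPullback g' f' f g) (x' : X') :
    Dual3.resTrdeg f' x' ≤ Dual3.resTrdeg f (g' x') := by
  have hlft' : LocallyOfFiniteType f' := MorphismProperty.of_isPullback hsq ‹_›
  let s' := f' x'
  obtain ⟨ρ, hflat, -, -, hρ, hloc⟩ := exists_fibre_map f g g' f' hsq s'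
  let ζ' := f'.asFiber x'
  obtain ⟨k', n', hk', hn', hl'⟩ := fp_formula f' s' ζ'
  obtain ⟨k, n, hk, hn, hl⟩ := fp_formula f (g s') (ρ ζ')
  have hpt : f.fiberι (g s') (ρ ζ') = g' x' := by
    have h1 := congrArg (fun ψ : f'.fiber s' ⟶ X => ψ ζ') hρ
    have h2 : g' (f'.fiberι s' ζ') = g' x' := congrArg (fun t => g' t) (f'.fiberι_asFiber x')
    exact h1.trans h2
  rw [hpt] at hn
  have hx' : f'.fiberι s' ζ' = x' := f'.fiberι_asFiber x'
  rw [hx'] at hn'
  have hsum : k' + n' = k + n := by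
    have := (hl'.symm.trans (hloc ζ')).trans hl
    exact_mod_cast this
  have hN' : IsLocallyNoetherian (f'.fiber s') := isLocallyNoetherian_fiber f' s'
  have hN : IsLocallyNoetherian (f.fiber (g s')) := isLocallyNoetherian_fiber f (g s')
  have hkk : k ≤ k' := by
    have := Groth.Agent.Helper5.DimIneq.stalk_dim_le_of_flat ρ ζ'
    rw [hk, hk'] at this
    exact_mod_cast this
  rw [hn, hn']
  exact_mod_cast (by omega : n' ≤ n)

/-- (F2) Points of a base change with the same residue transcendence degree. -/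
theorem exists_resTrdeg_eq_of_isPullback {X S X' S' : Scheme.{u}} (f : X ⟶ S)
    [LocallyOfFiniteType f] (g : S' ⟶ S) (g' : X' ⟶ X) (f' : X' ⟶ S')
    (hsq : IsPullback g' f' f g) (x : X) (s' : S') (hs' : g s' = f x) :
    ∃ x' : X', g' x' = x ∧ f' x' = s' ∧ Dual3.resTrdeg f' x' = Dual3.resTrdeg f x := by
  have hlft' : LocallyOfFiniteType f' := MorphismProperty.of_isPullback hsq ‹_›
  obtain ⟨ρ, hflat, hsurj, -, hρ, hloc⟩ := exists_fibre_map f g g' f' hsq s'
  obtain ⟨ζ, hζ⟩ : x ∈ Set.range (f.fiberι (g s')) := by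
    rw [Scheme.Hom.range_fiberι]; exact hs'.symm
  obtain ⟨a, ha⟩ := ρ.surjective ζ
  obtain ⟨ζ₂, -, hmax⟩ := exists_max_generization (ρ.asFiber a)
  let ζ' : ↥(f'.fiber s') := ρ.fiberι (ρ a) ζ₂
  have hN' : IsLocallyNoetherian (f'.fiber s') := isLocallyNoetherian_fiber f' s'
  have hN : IsLocallyNoetherian (f.fiber (g s')) := isLocallyNoetherian_fiber f (g s')
  have hst := Groth.Agent.Helper5.FlatRelDim.stalk_dim_eq_of_flat' ρ (ρ a) ζ₂
  have h0 : ringKrullDim ((ρ.fiber (ρ a)).presheaf.stalk ζ₂) = 0 := by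
    rw [ringKrullDim_stalk_eq_coheight]
    have : Order.coheight ζ₂ = 0 := by
      rw [Order.coheight_eq_zero]
      intro w hw
      have := hmax w (Scheme.le_iff_specializes.1 hw)
      exact this ▸ le_refl _
    rw [this]; rfl
  rw [h0, add_zero] at hst
  have hρζ'a : ρ ζ' = ρ a := apply_fiberι ρ (ρ a) ζ₂
  have hxa : f.fiberι (g s') (ρ a) = x := by rw [ha]; exact hζ
  obtain ⟨k', n', hk', hn', hl'⟩ := fp_formula f' s' ζ'
  obtain ⟨k, n, hk, hn, hl⟩ := fp_formula f (g s') (ρ a)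
  rw [hxa] at hn
  have hkk : k' = k := by
    have := hk'.symm.trans (hst.trans hk)
    exact_mod_cast this
  have hsum : k' + n' = k + n := by
    have h1 := hloc ζ'
    rw [hρζ'a] at h1
    have := (hl'.symm.trans h1).trans hl
    exact_mod_cast this
  refine ⟨f'.fiberι s' ζ', ?_, apply_fiberι f' s' ζ', ?_⟩
  · have h1 := congrArg (fun ψ : f'.fiber s' ⟶ X => ψ ζ') hρ
    have h2 : f.fiberι (g s') (ρ ζ') = x := by rw [hρζ'a]; exact hxa
    exact h1.symm.trans h2
  · rw [hn', hn]
    exact_mod_cast (by omega : n' = n)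


/-- (Open) The comparison of fibres of a cartesian square is open: closures in the fibre are
compatible with base change. -/
theorem mem_closure_preimage_of_isPullback {X S X' S' : Scheme.{u}} (f : X ⟶ S)
    [LocallyOfFiniteType f] (g : S' ⟶ S) (g' : X' ⟶ X) (f' : X' ⟶ S')
    (hsq : IsPullback g' f' f g) (s' : S') (A : Set X) (hA : A ⊆ f ⁻¹' {g s'}) (x' : X')
    (hx' : f' x' = s') (hmem : g' x' ∈ closure A) :
    x' ∈ closure (g' ⁻¹' A ∩ f' ⁻¹' {s'}) := by
  obtain ⟨ρ, -, -, hopen, hρ, -⟩ := exists_fibre_map f g g' f' hsq s'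
  obtain ⟨ζ', hζ'⟩ : x' ∈ Set.range (f'.fiberι s') := by
    rw [Scheme.Hom.range_fiberι]; exact hx'
  let ι := f.fiberι (g s')
  let B : Set ↥(f.fiber (g s')) := ι ⁻¹' A
  have hpt : ι (ρ ζ') = g' x' := by
    have h1 := congrArg (fun ψ : f'.fiber s' ⟶ X => ψ ζ') hρ
    have h2 : g' (f'.fiberι s' ζ') = g' x' := congrArg (fun t => g' t) hζ'
    exact h1.trans h2
  have himg : ι '' B = A := by
    rw [Set.image_preimage_eq_inter_range, Scheme.Hom.range_fiberι]
    exact Set.inter_eq_left.2 hA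
  have h1 : ρ ζ' ∈ closure B := by
    rw [ι.isEmbedding.toIsInducing.closure_eq_preimage_closure_image, himg]
    show ι (ρ ζ') ∈ closure A
    rw [hpt]; exact hmem
  have h2 : ζ' ∈ closure (ρ ⁻¹' B) :=
    hopen.preimage_closure_subset_closure_preimage h1
  have h3 : f'.fiberι s' ζ' ∈ closure (f'.fiberι s' '' (ρ ⁻¹' B)) :=
    image_closure_subset_closure_image (f'.fiberι s').continuous ⟨ζ', h2, rfl⟩
  rw [hζ'] at h3
  refine closure_mono ?_ h3
  rintro _ ⟨a, ha, rfl⟩
  refine ⟨?_, apply_fiberι f' s' a⟩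
  show g' (f'.fiberι s' a) ∈ A
  have h4 := congrArg (fun ψ : f'.fiber s' ⟶ X => ψ a) hρ
  have h5 : g' (f'.fiberι s' a) = ι (ρ a) := h4.symm
  rw [h5]
  exact ha

end Groth.Agent.Helper5.GenDim
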