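import Mathlib
import Groth.Prelude
import Groth.Agent.Helper5.GenFib4

set_option autoImplicit false
set_option linter.unusedSectionVars false
set_option linter.style.haveILetI false
universe u

open AlgebraicGeometry CategoryTheory CategoryTheory.Limits TopologicalSpace

namespace Groth.Agent.Helper5.GenFib

/-- `n` distinct maximal points of a fibre give `n` irreducible components -/
theorem le_encard_irreducibleComponents {X Y : Scheme.{u}} (f : X ⟶ Y) (y : Y) (n : ℕ)
    (m : Fin n → X) (hm : ∀ i, f (m i) = y)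
    (hmax : ∀ i, ∀ w : X, f w = y → w ⤳ m i → w = m i) (hinj : Function.Injective m) :
    (n : ℕ∞) ≤ (irreducibleComponents ↑(f.fiber y)).encard := by
  have hp : ∀ i, ∃ p : ↥(f.fiber y), f.fiberι y p = m i := by
    intro i
    have : m i ∈ Set.range (f.fiberι y) := by rw [f.range_fiberι]; exact hm i
    exact this
  choose p hp using hp
  have hpmax : ∀ i, ∀ w : ↥(f.fiber y), w ⤳ p i → w = p i := by
    intro i w hw
    apply (f.fiberι y).isEmbedding.injective
    rw [hp]
    apply hmax i _ (Groth.Agent.Helper5.VarDim.apply_fiberι f y w)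
    rw [← hp]
    exact hw.map (f.fiberι y).continuous
  let F : Fin n → ↥(irreducibleComponents ↑(f.fiber y)) := fun i =>
    ⟨closure {p i}, Groth.Agent.Helper5.EqAt.closure_singleton_mem_irreducibleComponents (p i)
      (hpmax i)⟩
  have hF : Function.Injective F := by
    intro i k hik
    have h1 : closure ({p i} : Set ↥(f.fiber y)) = closure {p k} := congrArg Subtype.val hik
    have h2 : p i ⤳ p k := by
      rw [specializes_iff_mem_closure, h1]; exact subset_closure rfl
    have h3 : p i = p k := (hpmax k (p i) h2)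
    apply hinj
    rw [← hp i, ← hp k, h3]
  have := ENat.card_le_card_of_injective hF
  rw [ENat.card_eq_coe_fintype_card, Fintype.card_fin] at this
  exact this

end Groth.Agent.Helper5.GenFib

namespace Groth.Agent.Helper5.GenFib

open AlgebraicGeometry CategoryTheory CategoryTheory.Limits TopologicalSpace

set_option maxHeartbeats 800000 in
theorem s1328 {X Y : Scheme.{u}} (f : X ⟶ Y) [IrreducibleSpace ↑Y] [LocallyOfFiniteType f]
    [QuasiCompact f] (n : ℕ)
    (h : (irreducibleComponents ↑(f.fiber (genericPoint ↑Y))).encard = n) :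
    ∃ V : Y.Opens, (V : Set ↑Y).Nonempty ∧
      ∀ y ∈ V, (n : ℕ∞) ≤ (irreducibleComponents ↑(f.fiber y)).encard := by
  set η := genericPoint ↑Y with hηdef
  have hfin : (irreducibleComponents ↑(f.fiber η)).Finite := Set.finite_of_encard_eq_coe h
  haveI : Finite ↥(irreducibleComponents ↑(f.fiber η)) := hfin.to_subtype
  have hcard : Nat.card ↥(irreducibleComponents ↑(f.fiber η)) = n := by
    rw [Nat.card_coe_set_eq, Set.ncard_def, h]
    rfl
  let e : ↥(irreducibleComponents ↑(f.fiber η)) ≃ Fin n := Finite.equivFinOfCardEq hcard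
  -- generic points
  have hgen : ∀ i : Fin n, ∃ ζ : ↥(f.fiber η), IsGenericPoint ζ (e.symm i).1 := by
    intro i
    exact ⟨_, (e.symm i).2.1.isGenericPoint_genericPoint
      (isClosed_of_mem_irreducibleComponents _ (e.symm i).2)⟩
  choose ζ hζ using hgen
  let ξ : Fin n → X := fun i => f.fiberι η (ζ i)
  have hfξ : ∀ i, f (ξ i) = η := fun i => Groth.Agent.Helper5.VarDim.apply_fiberι f η (ζ i)
  let Xc : Fin n → Set X := fun i => closure {ξ i}
  have hXc : ∀ i, IsClosed (Xc i) := fun i => isClosed_closure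
  -- (F2)
  have hF2 : f ⁻¹' {η} ⊆ ⋃ i, Xc i := by
    intro x hx
    have : x ∈ Set.range (f.fiberι η) := by rw [f.range_fiberι]; exact hx
    obtain ⟨p, rfl⟩ := this
    let Cp : ↥(irreducibleComponents ↑(f.fiber η)) :=
      ⟨irreducibleComponent p, irreducibleComponent_mem_irreducibleComponents p⟩
    have h1 : p ∈ (e.symm (e Cp)).1 := by
      rw [Equiv.symm_apply_apply]; exact mem_irreducibleComponent
    have h2 : ζ (e Cp) ⤳ p := by
      rw [specializes_iff_mem_closure, (hζ (e Cp)).def]; exact h1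
    refine Set.mem_iUnion.2 ⟨e Cp, ?_⟩
    exact specializes_iff_mem_closure.1 (h2.map (f.fiberι η).continuous)
  -- (F3)
  have hF3 : ∀ i k : Fin n, ξ i ∈ Xc k → i = k := by
    intro i k hik
    have h1 : ξ k ⤳ ξ i := specializes_iff_mem_closure.2 hik
    have h2 : ζ k ⤳ ζ i := (f.fiberι η).isEmbedding.isInducing.specializes_iff.1 h1
    have h3 : (e.symm i).1 ⊆ (e.symm k).1 := by
      rw [← (hζ i).def, ← (hζ k).def]
      exact specializes_iff_closure_subset.1 h2
    have h4 : (e.symm i).1 = (e.symm k).1 :=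
      le_antisymm h3 ((e.symm i).2.2 (e.symm k).2.1 h3)
    exact e.symm.injective (Subtype.ext h4)
  -- covering
  obtain ⟨V₀, hV₀ne, hV₀⟩ := exists_open_preimage_subset f (⋃ i, Xc i)
    (isClosed_iUnion_of_finite hXc) hF2
  -- open pieces
  let W : Fin n → Set X := fun i => (⋃ k : {k : Fin n // k ≠ i}, Xc k.1)ᶜ
  have hW : ∀ i, IsOpen (W i) := fun i =>
    (isClosed_iUnion_of_finite fun k : {k : Fin n // k ≠ i} => hXc k.1).isOpen_compl
  have hξW : ∀ i, ξ i ∈ W i := by
    intro i hi
    obtain ⟨⟨k, hk⟩, hik⟩ := Set.mem_iUnion.1 hi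
    exact hk (hF3 i k hik).symm
  have hVi : ∀ i, ∃ V : Y.Opens, (V : Set Y).Nonempty ∧ (V : Set Y) ⊆ f '' (W i) := fun i =>
    exists_open_subset_image f (W i) (hW i) ⟨ξ i, hξW i, hfξ i⟩
  choose Vi hVine hVi using hVi
  refine ⟨⟨(V₀ : Set Y) ∩ ⋂ i, (Vi i : Set Y),
    V₀.2.inter (isOpen_iInter_of_finite fun i => (Vi i).2)⟩, ?_, ?_⟩
  · refine ⟨η, genericPoint_mem_of_isOpen _ V₀.2 hV₀ne, Set.mem_iInter.2 fun i => ?_⟩
    exact genericPoint_mem_of_isOpen _ (Vi i).2 (hVine i)
  · rintro y ⟨hy₀, hyi⟩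
    have ha : ∀ i, ∃ a : X, a ∈ W i ∧ f a = y := by
      intro i
      obtain ⟨a, haW, ha⟩ := hVi i (Set.mem_iInter.1 hyi i)
      exact ⟨a, haW, ha⟩
    choose a haW hfa using ha
    have hm : ∀ i, ∃ z : X, f z = y ∧ z ⤳ a i ∧ ∀ z' : X, f z' = y → z' ⤳ z → z' = z := by
      intro i
      obtain ⟨z, hz1, hz2, hz3, -⟩ :=
        Groth.Agent.Helper5.OpenAt.exists_max_generization_fibreDimAt_eq f (a i)
      rw [hfa i] at hz1 hz3
      exact ⟨z, hz1, hz2, hz3⟩
    choose m hm1 hm2 hm3 using hm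
    have hmW : ∀ i, m i ∈ W i := fun i => (hm2 i).mem_open (hW i) (haW i)
    have hmX : ∀ i, m i ∈ Xc i := by
      intro i
      have h1 : m i ∈ ⋃ k, Xc k := hV₀ (show f (m i) ∈ (V₀ : Set Y) by rw [hm1]; exact hy₀)
      obtain ⟨k, hk⟩ := Set.mem_iUnion.1 h1
      by_cases hki : k = i
      · subst hki; exact hk
      · exact absurd (Set.mem_iUnion.2 ⟨⟨k, hki⟩, hk⟩) (hmW i)
    have hinj : Function.Injective m := by
      intro i k hik
      by_contra hne
      apply hmW k
      refine Set.mem_iUnion.2 ⟨⟨i, hne⟩, ?_⟩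
      rw [← hik]; exact hmX i
    exact le_encard_irreducibleComponents f y n m hm1 hm3 hinj

end Groth.Agent.Helper5.GenFib
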