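import Mathlib
import Groth.Agent.Helper5.GenFib5
import Groth.Agent.Helper5.GenDim1

set_option autoImplicit false
universe u

namespace Groth.Agent.Helper5.GCnt

open AlgebraicGeometry CategoryTheory CategoryTheory.Limits TopologicalSpace Topology
open Groth.Agent.Helper5.GenFib

/-- the generic points of the irreducible components of the generic fibre -/
theorem exists_decomp {X Y : Scheme.{u}} (f : X ⟶ Y) [IrreducibleSpace ↑Y] [LocallyOfFiniteType f]
    [QuasiCompact f] :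
    ∃ (n : ℕ) (ξ : Fin n → X), (∀ i, f (ξ i) = genericPoint ↑Y) ∧
      f ⁻¹' {genericPoint ↑Y} ⊆ ⋃ i, closure {ξ i} ∧ (∀ i k, ξ i ∈ closure {ξ k} → i = k) := by
  set η := genericPoint ↑Y with hηdef
  have hLN : IsLocallyNoetherian (f.fiber η) := Groth.Agent.Helper5.GenDim.isLocallyNoetherian_fiber f η
  have hcpt : CompactSpace ↥(f.fiber η) :=
    inferInstanceAs (CompactSpace ↥(pullback f (Y.fromSpecResidueField η)))
  have hN : IsNoetherian (f.fiber η) := { }
  have hNS : NoetherianSpace ↥(f.fiber η) := inferInstance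
  have hfin : (irreducibleComponents ↑(f.fiber η)).Finite :=
    NoetherianSpace.finite_irreducibleComponents
  haveI : Finite ↥(irreducibleComponents ↑(f.fiber η)) := hfin.to_subtype
  obtain ⟨n, ⟨e⟩⟩ : ∃ n : ℕ, Nonempty (↥(irreducibleComponents ↑(f.fiber η)) ≃ Fin n) :=
    Finite.exists_equiv_fin _
  have hgen : ∀ i : Fin n, ∃ ζ : ↥(f.fiber η), IsGenericPoint ζ (e.symm i).1 := by
    intro i
    exact ⟨_, (e.symm i).2.1.isGenericPoint_genericPoint
      (isClosed_of_mem_irreducibleComponents _ (e.symm i).2)⟩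
  choose ζ hζ using hgen
  let ξ : Fin n → X := fun i => f.fiberι η (ζ i)
  have hfξ : ∀ i, f (ξ i) = η := fun i => Groth.Agent.Helper5.VarDim.apply_fiberι f η (ζ i)
  refine ⟨n, ξ, hfξ, ?_, ?_⟩
  · intro x hx
    have : x ∈ Set.range (f.fiberι η) := by rw [f.range_fiberι]; exact hx
    obtain ⟨p, rfl⟩ := this
    let Cp : ↥(irreducibleComponents ↑(f.fiber η)) :=
      ⟨irreducibleComponent p, irreducibleComponent_mem_irreducibleComponents p⟩
    have h1 : p ∈ (e.symm (e Cp)).1 := by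
      rw [Equiv.symm_apply_apply]; exact mem_irreducibleComponent
    have h2 : ζ (e Cp) ⤳ p := by
      rw [specializes_iff_mem_closure, (hζ (e Cp)).def]; exact h1
    refine Set.mem_iUnion.2 ⟨e Cp, ?_⟩
    exact specializes_iff_mem_closure.1 (h2.map (f.fiberι η).continuous)
  · intro i k hik
    have h1 : ξ k ⤳ ξ i := specializes_iff_mem_closure.2 hik
    have h2 : ζ k ⤳ ζ i := (f.fiberι η).isEmbedding.isInducing.specializes_iff.1 h1
    have h3 : (e.symm i).1 ⊆ (e.symm k).1 := by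
      rw [← (hζ i).def, ← (hζ k).def]
      exact specializes_iff_closure_subset.1 h2
    have h4 : (e.symm i).1 = (e.symm k).1 :=
      le_antisymm h3 ((e.symm i).2.2 (e.symm k).2.1 h3)
    exact e.symm.injective (Subtype.ext h4)

/-- a closed subset of the source meeting the generic fibre has image containing a nonempty open -/
theorem exists_open_subset_image_closed {X Y : Scheme.{u}} (f : X ⟶ Y) [IrreducibleSpace ↑Y]
    [LocallyOfFiniteType f] [QuasiCompact f] (E : Set X) (hE : IsClosed E)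
    (hη : genericPoint ↑Y ∈ f '' E) :
    ∃ V : Y.Opens, (V : Set ↑Y).Nonempty ∧ (V : Set ↑Y) ⊆ f '' E := by
  let C : Closeds X := ⟨E, hE⟩
  let I := Scheme.IdealSheafData.vanishingIdeal C
  have hrange : Set.range I.subschemeι = E := by
    rw [Scheme.IdealSheafData.range_subschemeι, Scheme.IdealSheafData.coe_support_vanishingIdeal]
    rfl
  let g : I.subscheme ⟶ Y := I.subschemeι ≫ f
  have hrg : g '' Set.univ = f '' E := by
    rw [Set.image_univ, ← hrange, ← Set.range_comp]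
    rfl
  obtain ⟨V, hVne, hV⟩ := exists_open_subset_image g Set.univ isOpen_univ (by rw [hrg]; exact hη)
  exact ⟨V, hVne, by rw [← hrg]; exact hV⟩

set_option maxHeartbeats 800000 in
/-- the pattern of the generic fibre persists over a nonempty open -/
theorem exists_open_pattern {X Y : Scheme.{u}} (f : X ⟶ Y) [IrreducibleSpace ↑Y]
    [LocallyOfFiniteType f] [QuasiCompact f] (n : ℕ) (ξ : Fin n → X)
    (h1 : ∀ i, f (ξ i) = genericPoint ↑Y)
    (h2 : f ⁻¹' {genericPoint ↑Y} ⊆ ⋃ i, closure {ξ i})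
    (h3 : ∀ i k, ξ i ∈ closure {ξ k} → i = k) :
    ∃ V : Y.Opens, (V : Set ↑Y).Nonempty ∧ ∃ r : Fin n → Fin n → Prop, ∀ y ∈ V,
      f ⁻¹' {y} ⊆ ⋃ i, closure {ξ i} ∧
      (∀ i, ∃ a, f a = y ∧ a ∈ closure {ξ i} ∧ ∀ k, a ∈ closure {ξ k} → i = k) ∧
      (∀ i k, (∃ a, f a = y ∧ a ∈ closure {ξ i} ∩ closure {ξ k}) ↔ r i k) := by
  classical
  set η := genericPoint ↑Y with hηdef
  let Xc : Fin n → Set X := fun i => closure {ξ i}
  have hXc : ∀ i, IsClosed (Xc i) := fun i => isClosed_closure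
  obtain ⟨V₀, hV₀ne, hV₀⟩ := exists_open_preimage_subset f (⋃ i, Xc i)
    (isClosed_iUnion_of_finite hXc) h2
  let W : Fin n → Set X := fun i => (⋃ k : {k : Fin n // k ≠ i}, Xc k.1)ᶜ
  have hW : ∀ i, IsOpen (W i) := fun i =>
    (isClosed_iUnion_of_finite fun k : {k : Fin n // k ≠ i} => hXc k.1).isOpen_compl
  have hξW : ∀ i, ξ i ∈ W i := by
    intro i hi
    obtain ⟨⟨k, hk⟩, hik⟩ := Set.mem_iUnion.1 hi
    exact hk (h3 i k hik).symm
  have hVi : ∀ i, ∃ V : Y.Opens, (V : Set Y).Nonempty ∧ (V : Set Y) ⊆ f '' (W i) := fun i =>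
    exists_open_subset_image f (W i) (hW i) ⟨ξ i, hξW i, h1 i⟩
  choose Vi hVine hVi using hVi
  let r : Fin n → Fin n → Prop := fun i k => ∃ a, f a = η ∧ a ∈ Xc i ∩ Xc k
  have hVik : ∀ i k, ∃ V : Y.Opens, (V : Set Y).Nonempty ∧
      ∀ y ∈ V, ((∃ a, f a = y ∧ a ∈ Xc i ∩ Xc k) ↔ r i k) := by
    intro i k
    by_cases hr : r i k
    · obtain ⟨a, ha, haE⟩ := hr
      obtain ⟨V, hVne, hV⟩ := exists_open_subset_image_closed f (Xc i ∩ Xc k)
        ((hXc i).inter (hXc k)) ⟨a, haE, ha⟩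
      refine ⟨V, hVne, fun y hy => ⟨fun _ => ⟨a, ha, haE⟩, fun _ => ?_⟩⟩
      obtain ⟨b, hbE, hb⟩ := hV hy
      exact ⟨b, hb, hbE⟩
    · obtain ⟨V, hVne, hV⟩ := exists_open_disjoint f (Xc i ∩ Xc k) ((hXc i).inter (hXc k))
        (fun z hz hfz => hr ⟨z, hfz, hz⟩)
      refine ⟨V, hVne, fun y hy => ⟨fun ⟨a, ha, haE⟩ => ?_, fun h => absurd h hr⟩⟩
      exact absurd (ha ▸ hy) (hV a haE)
  choose Vik hVikne hVik using hVik
  refine ⟨⟨((V₀ : Set Y) ∩ ⋂ i, (Vi i : Set Y)) ∩ ⋂ i, ⋂ k, (Vik i k : Set Y),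
    (V₀.2.inter (isOpen_iInter_of_finite fun i => (Vi i).2)).inter
      (isOpen_iInter_of_finite fun i => isOpen_iInter_of_finite fun k => (Vik i k).2)⟩, ?_, r, ?_⟩
  · refine ⟨η, ⟨genericPoint_mem_of_isOpen _ V₀.2 hV₀ne, Set.mem_iInter.2 fun i => ?_⟩,
      Set.mem_iInter.2 fun i => Set.mem_iInter.2 fun k => ?_⟩
    · exact genericPoint_mem_of_isOpen _ (Vi i).2 (hVine i)
    · exact genericPoint_mem_of_isOpen _ (Vik i k).2 (hVikne i k)
  · rintro y ⟨⟨hy₀, hyi⟩, hyik⟩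
    refine ⟨?_, ?_, ?_⟩
    · intro x hx
      exact hV₀ (show f x ∈ (V₀ : Set Y) by rw [hx]; exact hy₀)
    · intro i
      obtain ⟨a, haW, ha⟩ := hVi i (Set.mem_iInter.1 hyi i)
      have haU : a ∈ ⋃ k, Xc k := hV₀ (show f a ∈ (V₀ : Set Y) by rw [ha]; exact hy₀)
      obtain ⟨k₀, hk₀⟩ := Set.mem_iUnion.1 haU
      have hk₀i : k₀ = i := by
        by_contra hne
        exact haW (Set.mem_iUnion.2 ⟨⟨k₀, hne⟩, hk₀⟩)
      subst hk₀i
      refine ⟨a, ha, hk₀, ?_⟩
      intro k hk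
      by_contra hne
      exact haW (Set.mem_iUnion.2 ⟨⟨k, fun h => hne h.symm⟩, hk⟩)
    · intro i k
      exact hVik i k y (Set.mem_iInter.1 (Set.mem_iInter.1 hyik i) k)

end Groth.Agent.Helper5.GCnt
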