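import Mathlib

set_option autoImplicit false
universe u v w
open Polynomial

namespace Groth.Agent.Helper5.GIrr

/-- pseudo-division by a polynomial of positive degree over a domain -/
theorem pseudo_div {D : Type u} [CommRing D] [IsDomain D] (p : D[X]) (hm : 0 < p.natDegree) :
    ∀ (n : ℕ) (g : D[X]), g.natDegree ≤ n → ∃ (N : ℕ) (q rr : D[X]),
      C p.leadingCoeff ^ N * g = p * q + rr ∧ rr.natDegree < p.natDegree := by
  have hp0 : p ≠ 0 := fun h => by simp [h] at hm
  have hlc : p.leadingCoeff ≠ 0 := leadingCoeff_ne_zero.2 hp0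
  intro n
  induction n using Nat.strong_induction_on with
  | _ n ih =>
    intro g hg
    by_cases hlt : g.natDegree < p.natDegree
    · exact ⟨0, 0, g, by simp, hlt⟩
    · push Not at hlt
      have hg0 : g ≠ 0 := fun h => by simp [h] at hlt; omega
      set d := g.natDegree with hd
      set s : D[X] := C g.leadingCoeff * X ^ (d - p.natDegree) * p with hs
      set g₁ : D[X] := C p.leadingCoeff * g - s with hg₁
      have hdeg1 : (C p.leadingCoeff * g).degree = (d : WithBot ℕ) := by
        rw [degree_mul, degree_C hlc, zero_add, degree_eq_natDegree hg0]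
      have hglc : g.leadingCoeff ≠ 0 := leadingCoeff_ne_zero.2 hg0
      have hdeg2 : s.degree = (d : WithBot ℕ) := by
        rw [hs, degree_mul, degree_mul, degree_C hglc, zero_add, degree_X_pow,
          degree_eq_natDegree hp0, ← Nat.cast_add, Nat.sub_add_cancel hlt]
      have hne : C p.leadingCoeff * g ≠ 0 := mul_ne_zero (by simpa using hlc) hg0
      have hlceq : (C p.leadingCoeff * g).leadingCoeff = s.leadingCoeff := by
        rw [hs, leadingCoeff_mul, leadingCoeff_mul, leadingCoeff_mul, leadingCoeff_C, leadingCoeff_C,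
          leadingCoeff_X_pow, mul_one, mul_comm]
      have hlt' : g₁.degree < (C p.leadingCoeff * g).degree :=
        degree_sub_lt (hdeg1.trans hdeg2.symm) hne hlceq
      have hg₁d : g₁.natDegree < d := by
        by_cases h0 : g₁ = 0
        · rw [h0, natDegree_zero]; omega
        · have := natDegree_lt_natDegree h0 hlt'
          rwa [natDegree_mul (by simpa using hlc) hg0, natDegree_C, zero_add] at this
      obtain ⟨N, q₁, rr, hq, hrr⟩ := ih g₁.natDegree (lt_of_lt_of_le hg₁d hg) g₁ le_rfl
      refine ⟨N + 1, q₁ + C p.leadingCoeff ^ N * C g.leadingCoeff * X ^ (d - p.natDegree), rr, ?_, hrr⟩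
      have : C p.leadingCoeff * g = g₁ + s := by rw [hg₁]; ring
      rw [pow_succ, mul_assoc, this, mul_add, hq, hs]
      ring

end Groth.Agent.Helper5.GIrr
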