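import Mathlib
import Groth.Agent.Helper5.GIrrA

set_option autoImplicit false
universe u v w
open MvPolynomial

namespace Groth.Agent.Helper5.GIrr

section Eval

variable {R : Type u} [CommRing R] {L : Type v} [CommRing L] [Algebra R L] {r : ℕ}

/-- evaluation of `R[X][T]` at `(x, t)` -/
noncomputable def ev (x : Fin r → L) (t : L) : Polynomial (MvPolynomial (Fin r) R) →+* L :=
  Polynomial.eval₂RingHom ((aeval x : MvPolynomial (Fin r) R →ₐ[R] L) : _ →+* L) t

theorem ev_finSuccEquiv (x : Fin r → L) (t : L) (G : MvPolynomial (Fin (r+1)) R) :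
    ev x t (finSuccEquiv R r G) = aeval (Fin.cons t x : Fin (r+1) → L) G := by
  have : (ev x t).comp (finSuccEquiv R r).toAlgHom.toRingHom =
      ((aeval (Fin.cons t x : Fin (r+1) → L) : MvPolynomial (Fin (r+1)) R →ₐ[R] L) : _ →+* L) := by
    apply MvPolynomial.ringHom_ext
    · intro c
      have h1 : (finSuccEquiv R r) (C c) = Polynomial.C (C c) := by
        have := (finSuccEquiv R r).commutes c
        simpa using this
      simp [ev, h1]
    · intro i
      refine Fin.cases ?_ (fun j => ?_) i
      · simp [ev, finSuccEquiv_X_zero]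
      · simp [ev, finSuccEquiv_X_succ]
  exact RingHom.congr_fun this G

theorem finSuccEquiv_map' {K : Type w} [CommRing K] (φ : R →+* K) (P : MvPolynomial (Fin (r+1)) R) :
    finSuccEquiv K r (map φ P) = (finSuccEquiv R r P).map (map φ) := by
  have : (finSuccEquiv K r).toAlgHom.toRingHom.comp (map φ) =
      (Polynomial.mapRingHom (map φ)).comp (finSuccEquiv R r).toAlgHom.toRingHom := by
    apply MvPolynomial.ringHom_ext
    · intro c
      have h1 : (finSuccEquiv R r) (C c) = Polynomial.C (C c) := by
        have := (finSuccEquiv R r).commutes c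
        simpa using this
      have h2 : (finSuccEquiv K r) (C (φ c)) = Polynomial.C (C (φ c)) := by
        have := (finSuccEquiv K r).commutes (φ c)
        simpa using this
      simp [h1, h2]
    · intro i
      refine Fin.cases ?_ (fun j => ?_) i
      · simp [finSuccEquiv_X_zero]
      · simp [finSuccEquiv_X_succ]
  exact RingHom.congr_fun this P

end Eval

section Key

variable {R : Type u} [CommRing R] [IsDomain R] {K : Type u} [Field K] [Algebra R K]
  [IsFractionRing R K] {L : Type v} [Field L] [Algebra K L] [Algebra R L] [IsScalarTower R K L]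
  {r : ℕ}

set_option linter.unusedSectionVars false

set_option maxHeartbeats 1600000 in
theorem key_dvd (x : Fin r → L) (hx : AlgebraicIndependent K x) (t : L)
    (P : MvPolynomial (Fin (r+1)) R)
    (hirr : Irreducible (map (algebraMap R K) P))
    (hP : aeval (Fin.cons t x : Fin (r+1) → L) P = 0) :
    aeval x (finSuccEquiv R r P).leadingCoeff ≠ 0 ∧
    ∀ G : MvPolynomial (Fin (r+1)) R, aeval (Fin.cons t x : Fin (r+1) → L) G = 0 →
      ∃ N : ℕ, P ∣ ((finSuccEquiv R r).symm (Polynomial.C (finSuccEquiv R r P).leadingCoeff)) ^ N * G := by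
  classical
  have hRK : Function.Injective (algebraMap R K) := IsFractionRing.injective R K
  have hxR : AlgebraicIndependent R x := hx.restrictScalars hRK
  have hxRinj : Function.Injective (aeval x : MvPolynomial (Fin r) R →ₐ[R] L) := hxR
  set p := finSuccEquiv R r P with hp
  have hP0 : P ≠ 0 := by
    intro h
    rw [h, map_zero] at hirr
    exact not_irreducible_zero hirr
  have hp0 : p ≠ 0 := by
    intro h
    apply hP0
    have := (finSuccEquiv R r).injective (a₁ := P) (a₂ := 0) (by rw [← hp, h, map_zero])
    exact this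
  have hevp : ev x t p = 0 := by rw [hp, ev_finSuccEquiv, hP]
  have hm : 0 < p.natDegree := by
    by_contra hcon
    have h0 : p.natDegree = 0 := by omega
    obtain ⟨c₀, hc₀⟩ := Polynomial.natDegree_eq_zero.1 h0
    have : aeval x c₀ = 0 := by
      have h1 := hevp
      rw [← hc₀] at h1
      simpa [ev] using h1
    have hc0 : c₀ = 0 := hxRinj (by rw [this, map_zero])
    apply hp0
    rw [← hc₀, hc0, map_zero]
  have hlc : p.leadingCoeff ≠ 0 := Polynomial.leadingCoeff_ne_zero.2 hp0
  refine ⟨fun h => hlc (hxRinj (by rw [h, map_zero])), ?_⟩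
  -- the fraction field argument
  let KX := MvPolynomial (Fin r) K
  let F₀ := FractionRing KX
  let jR : MvPolynomial (Fin r) R →+* KX := map (algebraMap R K)
  have hjR : Function.Injective jR := map_injective _ hRK
  let ψ₀ : KX →+* L := ((aeval x : KX →ₐ[K] L) : KX →+* L)
  have hψ₀ : Function.Injective ψ₀ := hx
  let ψ : F₀ →+* L := IsFractionRing.lift hψ₀
  letI : Algebra F₀ L := ψ.toAlgebra
  have hψ : ∀ q : MvPolynomial (Fin r) R, ψ (algebraMap KX F₀ (jR q)) = aeval x q := by
    intro q
    rw [IsFractionRing.lift_algebraMap]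
    show aeval x (map (algebraMap R K) q) = aeval x q
    rw [aeval_map_algebraMap]
  have hev : ∀ h : Polynomial (MvPolynomial (Fin r) R),
      Polynomial.aeval t ((h.map jR).map (algebraMap KX F₀)) = ev x t h := by
    intro h
    have hcomp : ((algebraMap F₀ L).comp (algebraMap KX F₀)).comp jR =
        ((aeval x : MvPolynomial (Fin r) R →ₐ[R] L) : _ →+* L) := RingHom.ext fun q => hψ q
    rw [Polynomial.aeval_def, Polynomial.eval₂_map, Polynomial.eval₂_map, hcomp]
    rfl
  set pK : Polynomial KX := p.map jR with hpK
  have hpKirr : Irreducible pK := by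
    have h1 : pK = finSuccEquiv K r (map (algebraMap R K) P) := by
      rw [finSuccEquiv_map']
    rw [h1]
    exact (MulEquiv.irreducible_iff (finSuccEquiv K r).toMulEquiv).2 hirr
  have hdegK : pK.natDegree = p.natDegree := Polynomial.natDegree_map_eq_of_injective hjR p
  have hprim : pK.IsPrimitive := hpKirr.isPrimitive (by omega)
  set pt : Polynomial F₀ := pK.map (algebraMap KX F₀) with hpt
  have hptirr : Irreducible pt :=
    (Polynomial.IsPrimitive.irreducible_iff_irreducible_map_fraction_map hprim).1 hpKirr
  have hdegt : pt.natDegree = p.natDegree := by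
    rw [hpt, Polynomial.natDegree_map_eq_of_injective (IsFractionRing.injective KX F₀), hdegK]
  have hptroot : Polynomial.aeval t pt = 0 := by rw [hpt, hpK, hev, hevp]
  have hmin : pt * Polynomial.C pt.leadingCoeff⁻¹ = minpoly F₀ t :=
    minpoly.eq_of_irreducible hptirr hptroot
  have hpt0 : pt ≠ 0 := hptirr.ne_zero
  have hmindeg : (minpoly F₀ t).natDegree = p.natDegree := by
    rw [← hmin, Polynomial.natDegree_mul_C (inv_ne_zero (Polynomial.leadingCoeff_ne_zero.2 hpt0)), hdegt]
  have hrem : ∀ rr : Polynomial (MvPolynomial (Fin r) R), rr.natDegree < p.natDegree →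
      ev x t rr = 0 → rr = 0 := by
    intro rr hdeg hrr
    set rt : Polynomial F₀ := (rr.map jR).map (algebraMap KX F₀) with hrt
    have h1 : Polynomial.aeval t rt = 0 := by rw [hrt, hev, hrr]
    have h2 : rt = 0 := by
      by_contra hne
      have h3 := Polynomial.natDegree_le_natDegree (minpoly.degree_le_of_ne_zero F₀ t hne h1)
      have h4 : rt.natDegree ≤ rr.natDegree :=
        (Polynomial.natDegree_map_le).trans (Polynomial.natDegree_map_le)
      omega
    have h5 : rr.map jR = 0 :=
      Polynomial.map_injective _ (IsFractionRing.injective KX F₀) (by rw [← hrt, h2, Polynomial.map_zero])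
    exact Polynomial.map_injective _ hjR (by rw [h5, Polynomial.map_zero])
  intro G hG
  obtain ⟨N, q, rr, hq, hrr⟩ := pseudo_div p hm _ (finSuccEquiv R r G) le_rfl
  have hevG : ev x t (finSuccEquiv R r G) = 0 := by rw [ev_finSuccEquiv, hG]
  have hevrr : ev x t rr = 0 := by
    have h1 := congrArg (ev x t) hq
    rw [map_mul, map_add, map_mul, hevG, hevp, mul_zero, zero_mul, zero_add] at h1
    exact h1.symm
  have hrr0 : rr = 0 := hrem rr hrr hevrr
  rw [hrr0, add_zero] at hq
  refine ⟨N, (finSuccEquiv R r).symm q, ?_⟩
  apply (finSuccEquiv R r).injective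
  rw [map_mul, map_mul, map_pow, AlgEquiv.apply_symm_apply, AlgEquiv.apply_symm_apply, hq]

end Key

end Groth.Agent.Helper5.GIrr
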