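import Mathlib
import Groth.Agent.Helper5.GIrrB

set_option autoImplicit false
universe u v w
open MvPolynomial

namespace Groth.Agent.Helper5.GIrr

theorem exists_model_field {K : Type u} [Field K] [PerfectField K] {L : Type u} [Field L]
    [Algebra K L] [Algebra.EssFiniteType K L] :
    ∃ (r : ℕ) (x : Fin r → L) (t : L) (PK : MvPolynomial (Fin (r+1)) K),
      AlgebraicIndependent K x ∧ Irreducible PK ∧ aeval (Fin.cons t x : Fin (r+1) → L) PK = 0 ∧
      IntermediateField.adjoin K (Set.range (Fin.cons t x : Fin (r+1) → L)) = ⊤ := by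
  classical
  obtain ⟨s, hs, hsep⟩ := exists_isTranscendenceBasis_and_isSeparable_of_perfectField (k := K) (K := L)
  let F := IntermediateField.adjoin K (s : Set L)
  haveI : Algebra.IsSeparable F L := hsep
  haveI : Algebra.EssFiniteType F L := Algebra.EssFiniteType.of_comp K F L
  haveI : FiniteDimensional F L := by
    obtain ⟨S₀, hS₀⟩ := IntermediateField.fg_top F L
    have h1 : FiniteDimensional F (IntermediateField.adjoin F (S₀ : Set L)) :=
      IntermediateField.finiteDimensional_adjoin (fun z _ => Algebra.IsSeparable.isIntegral F z)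
    rw [hS₀] at h1
    exact (IntermediateField.topEquiv (F := F) (E := L)).toLinearEquiv.finiteDimensional
  obtain ⟨t, ht⟩ := Field.exists_primitive_element F L
  let r := s.card
  let e : Fin r ≃ ↥s := s.equivFin.symm
  let x : Fin r → L := fun i => (e i : L)
  have hx : AlgebraicIndependent K x := hs.1.comp e e.injective
  have hrange : Set.range x = (s : Set L) := by
    ext z
    constructor
    · rintro ⟨i, rfl⟩; exact (e i).2
    · intro hz; exact ⟨e.symm ⟨z, hz⟩, by simp [x]⟩
  have htop : IntermediateField.adjoin K (Set.range (Fin.cons t x : Fin (r+1) → L)) = ⊤ := by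
    rw [Fin.range_cons, hrange, ← Set.union_singleton, ← IntermediateField.adjoin_adjoin_left]
    show (IntermediateField.adjoin F {t}).restrictScalars K = ⊤
    rw [ht, IntermediateField.restrictScalars_top]
  -- `t` is algebraic over `K[x]`
  have hxB : IsTranscendenceBasis K x := hs.comp_equiv e
  have halg : Algebra.IsAlgebraic (Algebra.adjoin K (Set.range x)) L := hxB.isAlgebraic
  have hnot : ¬ AlgebraicIndependent K (Fin.cons t x : Fin (r+1) → L) := by
    intro hind
    have h1 : (Fin.cons t x : Fin (r+1) → L) = (fun o : Option (Fin r) => o.elim t x) ∘ finSuccEquiv r := by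
      ext i
      refine Fin.cases ?_ (fun j => ?_) i <;> simp
    rw [h1, algebraicIndependent_equiv (finSuccEquiv r) (f := fun o : Option (Fin r) => o.elim t x)] at hind
    have h2 := (AlgebraicIndependent.option_iff.1 hind).2
    exact h2 (Algebra.IsAlgebraic.isAlgebraic t)
  rw [algebraicIndependent_iff] at hnot
  push Not at hnot
  obtain ⟨F₁, hF₁, hF₁0⟩ := hnot
  let S : Set (MvPolynomial (Fin (r+1)) K) := {G | G ≠ 0 ∧ aeval (Fin.cons t x : Fin (r+1) → L) G = 0}
  have hS : S.Nonempty := ⟨F₁, hF₁0, hF₁⟩
  let PK := Function.argminOn totalDegree S hS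
  have hPK : PK ∈ S := Function.argminOn_mem totalDegree S hS
  have hmin : ∀ G : MvPolynomial (Fin (r+1)) K, G ≠ 0 → aeval (Fin.cons t x : Fin (r+1) → L) G = 0 →
      PK.totalDegree ≤ G.totalDegree := fun G hG0 hG =>
    Function.argminOn_le totalDegree S ⟨hG0, hG⟩
  exact ⟨r, x, t, PK, hx, irreducible_of_forall_totalDegree_le hmin hPK.1 hPK.2, hPK.2, htop⟩

end Groth.Agent.Helper5.GIrr
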