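import Mathlib
import Groth.Agent.Helper5.GIrrC

set_option autoImplicit false
universe u v w
open MvPolynomial

namespace Groth.Agent.Helper5.GIrr

section Int

variable {R : Type u} [CommRing R] [IsDomain R] {K : Type v} [Field K] [Algebra R K]
  [IsFractionRing R K]

attribute [local instance] MvPolynomial.algebraMvPolynomial

/-- clearing denominators of a polynomial -/
theorem exists_int {σ : Type w} (GK : MvPolynomial σ K) :
    ∃ d : R, d ≠ 0 ∧ ∃ G : MvPolynomial σ R,
      map (algebraMap R K) G = GK * C (algebraMap R K d) := by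
  obtain ⟨⟨G, s⟩, h⟩ := IsLocalization.surj ((nonZeroDivisors R).map (C (σ := σ))) GK
  obtain ⟨d, hd, hs⟩ := s.2
  refine ⟨d, nonZeroDivisors.ne_zero hd, G, ?_⟩
  have h' : GK * algebraMap (MvPolynomial σ R) (MvPolynomial σ K) (C d) =
      algebraMap (MvPolynomial σ R) (MvPolynomial σ K) G := by
    have := h
    simp only [← hs] at this
    exact this
  rw [MvPolynomial.algebraMap_def] at h'
  rw [map_C] at h'
  exact h'.symm

end Int

section Model

variable {R : Type u} [CommRing R] [IsDomain R] {K : Type u} [Field K] [Algebra R K]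
  [IsFractionRing R K] [PerfectField K] {L : Type u} [Field L] [Algebra K L] [Algebra R L]
  [IsScalarTower R K L] [Algebra.EssFiniteType K L]

open scoped IntermediateField in
theorem exists_model :
    ∃ (r : ℕ) (a : Fin (r+1) → L) (P ℓ : MvPolynomial (Fin (r+1)) R),
      Irreducible (map (algebraMap R K) P) ∧ aeval a P = 0 ∧ aeval a ℓ ≠ 0 ∧
      (∀ G : MvPolynomial (Fin (r+1)) R, aeval a G = 0 → ∃ N : ℕ, P ∣ ℓ ^ N * G) ∧
      (∀ z : L, ∃ U V : MvPolynomial (Fin (r+1)) R, aeval a V ≠ 0 ∧ z * aeval a V = aeval a U) := by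
  classical
  obtain ⟨r, x, t, PK, hx, hPKirr, hPK0, htop⟩ := exists_model_field (K := K) (L := L)
  obtain ⟨d, hd, P, hP⟩ := exists_int (R := R) PK
  have hdK : algebraMap R K d ≠ 0 := fun h =>
    hd ((IsFractionRing.injective R K) (by rw [h, map_zero]))
  have hunit : IsUnit (C (algebraMap R K d) : MvPolynomial (Fin (r+1)) K) :=
    (isUnit_iff_ne_zero.2 hdK).map C
  have hirr : Irreducible (map (algebraMap R K) P) := by
    rw [hP]
    exact (irreducible_mul_isUnit hunit).2 hPKirr
  have haevalR : ∀ G : MvPolynomial (Fin (r+1)) R,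
      aeval (Fin.cons t x : Fin (r+1) → L) G =
        aeval (Fin.cons t x : Fin (r+1) → L) (map (algebraMap R K) G) := fun G =>
    (aeval_map_algebraMap K _ G).symm
  have hP0 : aeval (Fin.cons t x : Fin (r+1) → L) P = 0 := by
    rw [haevalR, hP, map_mul, hPK0, zero_mul]
  obtain ⟨hlc, hdvd⟩ := key_dvd x hx t P hirr hP0
  refine ⟨r, Fin.cons t x, P, (finSuccEquiv R r).symm (Polynomial.C (finSuccEquiv R r P).leadingCoeff),
    hirr, hP0, ?_, hdvd, ?_⟩
  · rw [← ev_finSuccEquiv, AlgEquiv.apply_symm_apply]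
    simpa [ev] using hlc
  · intro z
    have hz : z ∈ IntermediateField.adjoin K (Set.range (Fin.cons t x : Fin (r+1) → L)) := by
      rw [htop]; trivial
    obtain ⟨u, hu_mem, v, hv_mem, huv⟩ := IntermediateField.mem_adjoin_iff_div.1 hz
    by_cases hv0 : v = 0
    · refine ⟨0, 1, by simp, ?_⟩
      rw [huv, hv0, div_zero]; simp
    have huv' : u / v = z := huv.symm
    rw [Algebra.adjoin_range_eq_range_aeval] at hu_mem hv_mem
    obtain ⟨UK, hUK⟩ := hu_mem
    obtain ⟨VK, hVK⟩ := hv_mem
    obtain ⟨d₁, hd₁, U, hU⟩ := exists_int (R := R) UK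
    obtain ⟨d₂, hd₂, V, hV⟩ := exists_int (R := R) VK
    have hd₁L : algebraMap R L d₁ ≠ 0 := by
      rw [IsScalarTower.algebraMap_apply R K L]
      intro h
      have := (algebraMap K L).injective (by rw [h, map_zero] : algebraMap K L (algebraMap R K d₁) = algebraMap K L 0)
      exact hd₁ ((IsFractionRing.injective R K) (by rw [this, map_zero]))
    have hd₂L : algebraMap R L d₂ ≠ 0 := by
      rw [IsScalarTower.algebraMap_apply R K L]
      intro h
      have := (algebraMap K L).injective (by rw [h, map_zero] : algebraMap K L (algebraMap R K d₂) = algebraMap K L 0)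
      exact hd₂ ((IsFractionRing.injective R K) (by rw [this, map_zero]))
    have hUe : aeval (Fin.cons t x : Fin (r+1) → L) U = u * algebraMap R L d₁ := by
      rw [haevalR, hU, map_mul, ← hUK, aeval_C, ← IsScalarTower.algebraMap_apply]
      rfl
    have hVe : aeval (Fin.cons t x : Fin (r+1) → L) V = v * algebraMap R L d₂ := by
      rw [haevalR, hV, map_mul, ← hVK, aeval_C, ← IsScalarTower.algebraMap_apply]
      rfl
    refine ⟨C d₂ * U, C d₁ * V, ?_, ?_⟩
    · rw [map_mul, aeval_C, hVe]
      exact mul_ne_zero hd₁L (mul_ne_zero hv0 hd₂L)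
    · rw [map_mul, map_mul, aeval_C, aeval_C, hUe, hVe, ← huv']
      field_simp

end Model

end Groth.Agent.Helper5.GIrr
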