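import Mathlib

set_option autoImplicit false
universe u v w w'

namespace Groth.Agent.Helper5.GIrr

section Loc

variable {R : Type u} [CommRing R] {L : Type v} [Field L] [Algebra R L]
  {A : Type w} [CommRing A] [Algebra R A]

/-- the subalgebra of `L` generated by the image of `A` and the inverse of `ι b` -/
noncomputable def loc (ι : A →ₐ[R] L) (b : A) : Subalgebra R L :=
  Algebra.adjoin R (Set.range ι ∪ {(ι b)⁻¹})

theorem range_le_loc (ι : A →ₐ[R] L) (b : A) : ι.range ≤ loc ι b := by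
  rintro _ ⟨a, rfl⟩
  exact Algebra.subset_adjoin (Or.inl ⟨a, rfl⟩)

theorem map_mem_loc (ι : A →ₐ[R] L) (b a : A) : ι a ∈ loc ι b :=
  range_le_loc ι b ⟨a, rfl⟩

theorem inv_mem_loc (ι : A →ₐ[R] L) (b : A) : (ι b)⁻¹ ∈ loc ι b :=
  Algebra.subset_adjoin (Or.inr rfl)

theorem inv_mem_loc_of_dvd (ι : A →ₐ[R] L) {e b : A} (h : e ∣ b) (hb : ι b ≠ 0) :
    (ι e)⁻¹ ∈ loc ι b := by
  obtain ⟨f, rfl⟩ := h
  have he : ι e ≠ 0 := fun h0 => hb (by rw [map_mul, h0, zero_mul])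
  have hf : ι f ≠ 0 := fun h0 => hb (by rw [map_mul, h0, mul_zero])
  have : (ι e)⁻¹ = ι f * (ι (e * f))⁻¹ := by
    rw [map_mul]; field_simp
  rw [this]
  exact mul_mem (map_mem_loc ι _ f) (inv_mem_loc ι _)

theorem loc_mono (ι : A →ₐ[R] L) {e b : A} (h : e ∣ b) (hb : ι b ≠ 0) : loc ι e ≤ loc ι b := by
  apply Algebra.adjoin_le
  rintro z (⟨a, rfl⟩ | hz)
  · exact map_mem_loc ι b a
  · rw [Set.mem_singleton_iff] at hz
    rw [hz]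
    exact inv_mem_loc_of_dvd ι h hb

theorem exists_of_mem_loc (ι : A →ₐ[R] L) (b : A) (hb : ι b ≠ 0) {z : L} (hz : z ∈ loc ι b) :
    ∃ (w : A) (n : ℕ), z * (ι b) ^ n = ι w := by
  induction hz using Algebra.adjoin_induction with
  | mem x hx =>
    rcases hx with ⟨a, rfl⟩ | hx
    · exact ⟨a, 0, by simp⟩
    · rw [Set.mem_singleton_iff] at hx
      refine ⟨1, 1, ?_⟩
      rw [hx, pow_one, inv_mul_cancel₀ hb, map_one]
  | algebraMap r => exact ⟨algebraMap R A r, 0, by simp⟩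
  | add x y _ _ hx hy =>
    obtain ⟨w₁, n₁, h₁⟩ := hx
    obtain ⟨w₂, n₂, h₂⟩ := hy
    refine ⟨w₁ * b ^ n₂ + w₂ * b ^ n₁, n₁ + n₂, ?_⟩
    rw [map_add, map_mul, map_mul, map_pow, map_pow, ← h₁, ← h₂, pow_add]
    ring
  | mul x y _ _ hx hy =>
    obtain ⟨w₁, n₁, h₁⟩ := hx
    obtain ⟨w₂, n₂, h₂⟩ := hy
    refine ⟨w₁ * w₂, n₁ + n₂, ?_⟩
    rw [map_mul, ← h₁, ← h₂, pow_add]
    ring

theorem exists_loc_of_finset (ι : A →ₐ[R] L)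
    (hA : ∀ z : L, ∃ u v : A, ι v ≠ 0 ∧ z * ι v = ι u) (s : Finset L) :
    ∃ b : A, ι b ≠ 0 ∧ ∀ z ∈ s, z ∈ loc ι b := by
  classical
  induction s using Finset.induction_on with
  | empty => exact ⟨1, by simp, by simp⟩
  | insert z s _ ih =>
    obtain ⟨b, hb, hbs⟩ := ih
    obtain ⟨u, v, hv, huv⟩ := hA z
    have hbv : ι (b * v) ≠ 0 := by rw [map_mul]; exact mul_ne_zero hb hv
    refine ⟨b * v, hbv, ?_⟩
    intro y hy
    rcases Finset.mem_insert.1 hy with rfl | hy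
    · have : y = ι u * (ι v)⁻¹ := by
        rw [← huv]; field_simp
      rw [this]
      exact mul_mem (map_mem_loc ι _ u) (inv_mem_loc_of_dvd ι (Dvd.intro_left b rfl) hbv)
    · exact loc_mono ι (Dvd.intro v rfl) hbv (hbs y hy)

theorem exists_range_le_loc {C : Type w'} [CommRing C] [Algebra R C] [Algebra.FiniteType R C]
    (ι : A →ₐ[R] L) (ρ : C →ₐ[R] L)
    (hA : ∀ z : L, ∃ u v : A, ι v ≠ 0 ∧ z * ι v = ι u) :
    ∃ b : A, ι b ≠ 0 ∧ ρ.range ≤ loc ι b := by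
  classical
  obtain ⟨s, hs⟩ := (Algebra.FiniteType.out : (⊤ : Subalgebra R C).FG)
  obtain ⟨b, hb, hbs⟩ := exists_loc_of_finset ι hA (s.image ρ)
  refine ⟨b, hb, ?_⟩
  rw [← Algebra.map_top, ← hs, AlgHom.map_adjoin]
  apply Algebra.adjoin_le
  rintro _ ⟨y, hy, rfl⟩
  exact hbs _ (Finset.mem_image_of_mem ρ hy)

end Loc

section Dance

variable {R : Type u} [CommRing R] {L : Type v} [Field L] [Algebra R L]
  {A : Type w} [CommRing A] [Algebra R A] [Algebra.FiniteType R A]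
  {C : Type w'} [CommRing C] [Algebra R C] [Algebra.FiniteType R C]

theorem exists_common_localization (ι : A →ₐ[R] L) (ρ : C →ₐ[R] L)
    (hA : ∀ z : L, ∃ u v : A, ι v ≠ 0 ∧ z * ι v = ι u)
    (hC : ∀ z : L, ∃ u v : C, ρ v ≠ 0 ∧ z * ρ v = ρ u)
    (c₀ : C) (hc₀ : ρ c₀ ≠ 0) :
    ∃ (b : A) (c : C), c₀ ∣ c ∧ ι b ≠ 0 ∧ ρ c ≠ 0 ∧ loc ι b = loc ρ c := by
  obtain ⟨b₁, hb₁, hρb₁⟩ := exists_range_le_loc ι ρ hA
  obtain ⟨c₁, hc₁, hιc₁⟩ := exists_range_le_loc ρ ι hC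
  obtain ⟨w, n, hw⟩ := exists_of_mem_loc ρ c₁ hc₁ (hιc₁ ⟨b₁, rfl⟩)
  replace hw : ι b₁ * ρ c₁ ^ n = ρ w := hw
  have hw0 : ρ w ≠ 0 := by
    rw [← hw]; exact mul_ne_zero hb₁ (pow_ne_zero _ hc₁)
  set c := c₀ * c₁ * w with hc
  have hc0 : ρ c ≠ 0 := by
    rw [hc, map_mul, map_mul]; exact mul_ne_zero (mul_ne_zero hc₀ hc₁) hw0
  obtain ⟨v, M, hv⟩ := exists_of_mem_loc ι b₁ hb₁ (hρb₁ ⟨c, rfl⟩)
  replace hv : ρ c * ι b₁ ^ M = ι v := hv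
  have hv0 : ι v ≠ 0 := by
    rw [← hv]; exact mul_ne_zero hc0 (pow_ne_zero _ hb₁)
  set b := b₁ * v with hb
  have hb0 : ι b ≠ 0 := by rw [hb, map_mul]; exact mul_ne_zero hb₁ hv0
  have hc₁c : c₁ ∣ c := ⟨c₀ * w, by rw [hc]; ring⟩
  have hwc : w ∣ c := ⟨c₀ * c₁, by rw [hc]; ring⟩
  have hb₁b : b₁ ∣ b := ⟨v, rfl⟩
  have hvb : v ∣ b := ⟨b₁, by rw [hb]; ring⟩
  -- `(ι b₁)⁻¹ ∈ loc ρ c`
  have h1 : (ι b₁)⁻¹ ∈ loc ρ c := by
    have : (ι b₁)⁻¹ = (ρ c₁) ^ n * (ρ w)⁻¹ := by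
      rw [← hw]; field_simp
    rw [this]
    exact mul_mem (pow_mem (map_mem_loc ρ c c₁) n) (inv_mem_loc_of_dvd ρ hwc hc0)
  have h2 : (ι v)⁻¹ ∈ loc ρ c := by
    have : (ι v)⁻¹ = (ρ c)⁻¹ * ((ι b₁)⁻¹) ^ M := by
      rw [← hv, mul_inv, inv_pow]
    rw [this]
    exact mul_mem (inv_mem_loc ρ c) (pow_mem h1 M)
  refine ⟨b, c, ⟨c₁ * w, by rw [hc]; ring⟩, hb0, hc0, le_antisymm ?_ ?_⟩
  · apply Algebra.adjoin_le
    rintro z (⟨a, rfl⟩ | hz)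
    · exact loc_mono ρ hc₁c hc0 (hιc₁ ⟨a, rfl⟩)
    · rw [Set.mem_singleton_iff] at hz
      rw [hz, hb, map_mul, mul_inv]
      exact mul_mem h1 h2
  · apply Algebra.adjoin_le
    rintro z (⟨a, rfl⟩ | hz)
    · exact loc_mono ι hb₁b hb0 (hρb₁ ⟨a, rfl⟩)
    · rw [Set.mem_singleton_iff] at hz
      have : (ρ c)⁻¹ = (ι b₁) ^ M * (ι v)⁻¹ := by
        rw [← hv]; field_simp
      rw [hz, this]
      exact mul_mem (pow_mem (map_mem_loc ι b b₁) M) (inv_mem_loc_of_dvd ι hvb hb0)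

end Dance

end Groth.Agent.Helper5.GIrr
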