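import Mathlib
import Groth.Agent.Helper5.GIrrE

set_option autoImplicit false
universe u v w w'
open MvPolynomial

namespace Groth.Agent.Helper5.GIrr

section LocMap

variable {R : Type u} [CommRing R] {L : Type v} [Field L] [Algebra R L]
  {A : Type w} [CommRing A] [Algebra R A]

/-- the map from the localization `A_b` to `L` -/
noncomputable def jmap (ι : A →ₐ[R] L) (b : A) (hb : ι b ≠ 0) : Localization.Away b →ₐ[R] L :=
  IsLocalization.liftAlgHom (M := Submonoid.powers b) (f := ι) (by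
    rintro ⟨_, n, rfl⟩
    rw [map_pow]
    exact (isUnit_iff_ne_zero.2 hb).pow n)

theorem jmap_algebraMap (ι : A →ₐ[R] L) (b : A) (hb : ι b ≠ 0) (a : A) :
    jmap ι b hb (algebraMap A (Localization.Away b) a) = ι a :=
  IsLocalization.lift_eq _ a

theorem exists_rep (b : A) (y : Localization.Away b) :
    ∃ (a : A) (n : ℕ), y * algebraMap A (Localization.Away b) b ^ n = algebraMap A _ a := by
  obtain ⟨⟨a, s⟩, h⟩ := IsLocalization.surj (Submonoid.powers b) y
  obtain ⟨n, hn⟩ := s.2
  refine ⟨a, n, ?_⟩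
  rw [← map_pow]
  have hn' : b ^ n = (s : A) := hn
  rw [hn']
  exact h

theorem jmap_range (ι : A →ₐ[R] L) (b : A) (hb : ι b ≠ 0) : (jmap ι b hb).range = loc ι b := by
  apply le_antisymm
  · rintro _ ⟨y, rfl⟩
    obtain ⟨a, n, h⟩ := exists_rep b y
    have h1 := congrArg (jmap ι b hb) h
    rw [map_mul, map_pow, jmap_algebraMap, jmap_algebraMap] at h1
    have h2 : (jmap ι b hb) y = ι a * ((ι b)⁻¹) ^ n := by
      rw [← h1, inv_pow, mul_assoc, mul_inv_cancel₀ (pow_ne_zero _ hb), mul_one]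
    show (jmap ι b hb) y ∈ loc ι b
    rw [h2]
    exact mul_mem (map_mem_loc ι b a) (pow_mem (inv_mem_loc ι b) n)
  · apply Algebra.adjoin_le
    rintro z (⟨a, rfl⟩ | hz)
    · exact ⟨algebraMap A _ a, jmap_algebraMap ι b hb a⟩
    · rw [Set.mem_singleton_iff] at hz
      refine ⟨IsLocalization.Away.invSelf b, ?_⟩
      have h1 : algebraMap A (Localization.Away b) b * IsLocalization.Away.invSelf b = 1 :=
        IsLocalization.Away.mul_invSelf b
      have h2 := congrArg (jmap ι b hb) h1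
      rw [map_mul, jmap_algebraMap, map_one] at h2
      rw [hz]
      show (jmap ι b hb) (IsLocalization.Away.invSelf b) = (ι b)⁻¹
      exact eq_inv_of_mul_eq_one_right h2

theorem jmap_eq_zero_iff (ι : A →ₐ[R] L) (b : A) (hb : ι b ≠ 0) (y : Localization.Away b) :
    jmap ι b hb y = 0 ↔ ∃ (a : A) (n : ℕ), ι a = 0 ∧
      y * algebraMap A (Localization.Away b) b ^ n = algebraMap A _ a := by
  constructor
  · intro hy
    obtain ⟨a, n, h⟩ := exists_rep b y
    refine ⟨a, n, ?_, h⟩
    have h1 := congrArg (jmap ι b hb) h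
    rw [map_mul, hy, zero_mul, jmap_algebraMap] at h1
    exact h1.symm
  · rintro ⟨a, n, ha, h⟩
    have h1 := congrArg (jmap ι b hb) h
    rw [map_mul, map_pow, jmap_algebraMap, jmap_algebraMap, ha] at h1
    exact (mul_eq_zero.1 h1).resolve_right (pow_ne_zero _ hb)

end LocMap

section Pi

variable {R : Type u} [CommRing R] {L : Type v} [Field L] [Algebra R L]
  {A : Type w} [CommRing A] [Algebra R A] {C : Type w'} [CommRing C] [Algebra R C]

theorem exists_pi (ι : A →ₐ[R] L) (ρ : C →ₐ[R] L) (b : A) (hb : ι b ≠ 0) (c : C) (hc : ρ c ≠ 0)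
    (hloc : loc ι b = loc ρ c) (hinj : Function.Injective (jmap ρ c hc)) :
    ∃ π : Localization.Away b →ₐ[R] Localization.Away c, Function.Surjective π ∧
      ∀ y, jmap ρ c hc (π y) = jmap ι b hb y := by
  let eC : Localization.Away c ≃ₐ[R] (jmap ρ c hc).range := AlgEquiv.ofInjective (jmap ρ c hc) hinj
  have hmem : ∀ y, jmap ι b hb y ∈ (jmap ρ c hc).range := by
    intro y
    rw [jmap_range, ← hloc, ← jmap_range ι b hb]
    exact ⟨y, rfl⟩
  let π : Localization.Away b →ₐ[R] Localization.Away c :=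
    eC.symm.toAlgHom.comp ((jmap ι b hb).codRestrict (jmap ρ c hc).range hmem)
  have hπ : ∀ y, jmap ρ c hc (π y) = jmap ι b hb y := by
    intro y
    have h1 : eC (π y) = (jmap ι b hb).codRestrict (jmap ρ c hc).range hmem y := by
      show eC (eC.symm ((jmap ι b hb).codRestrict (jmap ρ c hc).range hmem y)) = _
      rw [AlgEquiv.apply_symm_apply]
    have h2 := congrArg Subtype.val h1
    exact h2
  refine ⟨π, ?_, hπ⟩
  intro z
  have hz : jmap ρ c hc z ∈ (jmap ι b hb).range := by
    rw [jmap_range, hloc, ← jmap_range ρ c hc]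
    exact ⟨z, rfl⟩
  obtain ⟨y, hy⟩ := hz
  refine ⟨y, hinj ?_⟩
  rw [hπ]
  exact hy

end Pi

end Groth.Agent.Helper5.GIrr
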