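import Mathlib
import Groth.Agent.Helper5.GIrrF

set_option autoImplicit false
universe u v w w'
open MvPolynomial

namespace Groth.Agent.Helper5.GIrr

section Hyp

variable {R : Type u} [CommRing R] {L : Type v} [Field L] [Algebra R L] {m : ℕ}

/-- the hypersurface algebra -/
abbrev HC (P : MvPolynomial (Fin m) R) : Type u := MvPolynomial (Fin m) R ⧸ Ideal.span {P}

/-- the evaluation map of the hypersurface algebra -/
noncomputable def rho (a : Fin m → L) (P : MvPolynomial (Fin m) R) (hP : aeval a P = 0) :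
    HC P →ₐ[R] L :=
  Ideal.Quotient.liftₐ (Ideal.span {P}) (aeval a) (by
    intro x hx
    obtain ⟨q, rfl⟩ := Ideal.mem_span_singleton.1 hx
    rw [map_mul, hP, zero_mul])

theorem rho_mk (a : Fin m → L) (P : MvPolynomial (Fin m) R) (hP : aeval a P = 0)
    (G : MvPolynomial (Fin m) R) :
    rho a P hP (Ideal.Quotient.mk (Ideal.span {P}) G) = aeval a G := rfl

theorem jmap_rho_injective (a : Fin m → L) (P ℓ : MvPolynomial (Fin m) R) (hP : aeval a P = 0)
    (hdvd : ∀ G : MvPolynomial (Fin m) R, aeval a G = 0 → ∃ N : ℕ, P ∣ ℓ ^ N * G)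
    (c : HC P) (hc : rho a P hP c ≠ 0) (hℓc : Ideal.Quotient.mk (Ideal.span {P}) ℓ ∣ c) :
    Function.Injective (jmap (rho a P hP) c hc) := by
  rw [injective_iff_map_eq_zero]
  intro y hy
  obtain ⟨g, n, hg, hyg⟩ := (jmap_eq_zero_iff _ c hc y).1 hy
  obtain ⟨G, rfl⟩ := Ideal.Quotient.mk_surjective g
  rw [rho_mk] at hg
  obtain ⟨N, hN⟩ := hdvd G hg
  have h1 : (Ideal.Quotient.mk (Ideal.span {P}) ℓ) ^ N * Ideal.Quotient.mk (Ideal.span {P}) G = 0 := by
    rw [← map_pow, ← map_mul, Ideal.Quotient.eq_zero_iff_mem]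
    exact Ideal.mem_span_singleton.2 hN
  have hcu : IsUnit (algebraMap (HC P) (Localization.Away c) c) :=
    IsLocalization.Away.algebraMap_isUnit c
  have hℓu : IsUnit (algebraMap (HC P) (Localization.Away c) (Ideal.Quotient.mk (Ideal.span {P}) ℓ)) :=
    isUnit_of_dvd_unit (map_dvd _ hℓc) hcu
  have h2 := congrArg (algebraMap (HC P) (Localization.Away c)) h1
  rw [map_mul, map_pow, map_zero] at h2
  have h3 : algebraMap (HC P) (Localization.Away c) (Ideal.Quotient.mk (Ideal.span {P}) G) = 0 :=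
    ((hℓu.pow N).mul_right_eq_zero).1 h2
  rw [h3] at hyg
  exact ((hcu.pow n).mul_left_eq_zero).1 hyg

end Hyp

section KerFG

theorem ker_fg_of_surjective' {R : Type u} {A : Type v} {B : Type w} [CommRing R] [CommRing A]
    [Algebra R A] [CommRing B] [Algebra R B] [Algebra.FiniteType R A]
    [Algebra.FinitePresentation R B] (f : A →ₐ[R] B) (hf : Function.Surjective f) :
    (RingHom.ker f.toRingHom).FG := by
  obtain ⟨n, g, hg⟩ := Algebra.FiniteType.iff_quotient_mvPolynomial''.1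
    (inferInstance : Algebra.FiniteType R A)
  have h1 := Algebra.FinitePresentation.ker_fg_of_mvPolynomial (f.comp g) (hf.comp hg)
  have h2 : RingHom.ker f.toRingHom = (RingHom.ker (f.comp g).toRingHom).map g.toRingHom := by
    simp_rw [RingHom.ker_eq_comap_bot, AlgHom.toRingHom_eq_coe, AlgHom.comp_toRingHom]
    rw [← Ideal.comap_comap, Ideal.map_comap_of_surjective (g : MvPolynomial (Fin n) R →+* A) hg]
  rw [h2]
  exact h1.map _

end KerFG

section Nil

variable {R : Type u} [CommRing R] [IsDomain R] {L : Type v} [Field L] [Algebra R L]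
  {A : Type w} [CommRing A] [Algebra R A]

theorem exists_nil_of_jmap_eq_zero (ι : A →ₐ[R] L)
    (hnil : ∀ a : A, ι a = 0 → ∃ d : R, d ≠ 0 ∧ ∃ N : ℕ, d • a ^ N = 0)
    (b : A) (hb : ι b ≠ 0) (y : Localization.Away b) (hy : jmap ι b hb y = 0) :
    ∃ d : R, d ≠ 0 ∧ ∃ N : ℕ, d • y ^ N = 0 := by
  obtain ⟨a, n, ha, hya⟩ := (jmap_eq_zero_iff ι b hb y).1 hy
  obtain ⟨d, hd, N, hN⟩ := hnil a ha
  refine ⟨d, hd, N, ?_⟩
  have hbu : IsUnit (algebraMap A (Localization.Away b) b) :=
    IsLocalization.Away.algebraMap_isUnit b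
  have h1 : d • (y * algebraMap A (Localization.Away b) b ^ n) ^ N = 0 := by
    rw [hya, ← map_pow]
    have h0 := congrArg (algebraMap A (Localization.Away b)) hN
    rw [map_zero, Algebra.smul_def, map_mul, ← IsScalarTower.algebraMap_apply] at h0
    rw [Algebra.smul_def]
    exact h0
  rw [mul_pow, ← smul_mul_assoc] at h1
  exact (((hbu.pow n).pow N).mul_left_eq_zero).1 h1

theorem exists_bound (ι : A →ₐ[R] L)
    (hnil : ∀ a : A, ι a = 0 → ∃ d : R, d ≠ 0 ∧ ∃ N : ℕ, d • a ^ N = 0)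
    (b : A) (hb : ι b ≠ 0) (s : Finset (Localization.Away b))
    (hs : ∀ y ∈ s, jmap ι b hb y = 0) :
    ∃ d : R, d ≠ 0 ∧ ∀ y ∈ s, ∃ N : ℕ, d • y ^ N = 0 := by
  classical
  induction s using Finset.induction_on with
  | empty => exact ⟨1, one_ne_zero, by simp⟩
  | insert z s _ ih =>
    obtain ⟨d, hd, hds⟩ := ih (fun y hy => hs y (Finset.mem_insert_of_mem hy))
    obtain ⟨d', hd', N, hN⟩ := exists_nil_of_jmap_eq_zero ι hnil b hb z (hs z (Finset.mem_insert_self _ _))
    refine ⟨d * d', mul_ne_zero hd hd', ?_⟩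
    intro y hy
    rcases Finset.mem_insert.1 hy with rfl | hy
    · exact ⟨N, by rw [mul_smul, hN, smul_zero]⟩
    · obtain ⟨N', hN'⟩ := hds y hy
      exact ⟨N', by rw [mul_comm, mul_smul, hN', smul_zero]⟩

end Nil

end Groth.Agent.Helper5.GIrr
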