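import Mathlib
import Groth.Agent.Helper5.GIrrG

set_option autoImplicit false
universe u v w w'
open MvPolynomial TensorProduct

namespace Groth.Agent.Helper5.GIrr

section Spec

theorem preirr_away {D : Type u} [CommRing D] [IsDomain D] (e : D) :
    PreirreducibleSpace (PrimeSpectrum (Localization.Away e)) := by
  by_cases he : e = 0
  · haveI : Subsingleton (Localization.Away e) := by
      subst he
      exact IsLocalization.subsingleton (M := Submonoid.powers (0 : D)) ⟨1, by simp⟩
    exact ⟨fun u v _ _ ⟨x, _⟩ => isEmptyElim x⟩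
  · haveI : IsDomain (Localization.Away e) :=
      IsLocalization.isDomain_localization (powers_le_nonZeroDivisors_of_noZeroDivisors he)
    infer_instance

theorem preirr_of_ringEquiv {S : Type u} {T : Type v} [CommRing S] [CommRing T] (e : S ≃+* T)
    [PreirreducibleSpace (PrimeSpectrum T)] : PreirreducibleSpace (PrimeSpectrum S) := by
  have h := (PrimeSpectrum.homeomorphOfRingEquiv e).symm
  constructor
  have h1 : IsPreirreducible (Set.univ : Set (PrimeSpectrum T)) :=
    PreirreducibleSpace.isPreirreducible_univ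
  have h2 := h1.image h h.continuous.continuousOn
  rwa [Set.image_univ, h.surjective.range_eq] at h2

theorem preirr_of_surjective_nil {S : Type u} {T : Type v} [CommRing S] [CommRing T] (f : S →+* T)
    (hf : Function.Surjective f) (hker : RingHom.ker f ≤ nilradical S)
    [PreirreducibleSpace (PrimeSpectrum T)] : PreirreducibleSpace (PrimeSpectrum S) := by
  have hsurj : Set.range (PrimeSpectrum.comap f) = Set.univ := by
    rw [range_comap_of_surjective _ f hf]
    ext p
    simp only [PrimeSpectrum.mem_zeroLocus, Set.mem_univ, iff_true]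
    exact fun x hx => nilradical_le_prime p.asIdeal (hker hx)
  constructor
  have h1 : IsPreirreducible (Set.univ : Set (PrimeSpectrum T)) :=
    PreirreducibleSpace.isPreirreducible_univ
  have h2 := h1.image (PrimeSpectrum.comap f) (PrimeSpectrum.continuous_comap f).continuousOn
  rwa [Set.image_univ, hsurj] at h2

end Spec

section Tensor

variable {R : Type u} [CommRing R] {Ω : Type v} [Field Ω] [Algebra R Ω] {m : ℕ}

theorem isDomain_tensor_HC (P : MvPolynomial (Fin m) R)
    (hirr : Irreducible (map (algebraMap R Ω) P)) : IsDomain (Ω ⊗[R] HC P) := by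
  let e₁ : Ω ⊗[R] (MvPolynomial (Fin m) R ⧸ Ideal.span {P}) ≃ₐ[Ω]
      (Ω ⊗[R] MvPolynomial (Fin m) R) ⧸
        (Ideal.span {P}).map (Algebra.TensorProduct.includeRight (A := Ω) (R := R)) :=
    Algebra.TensorProduct.tensorQuotientEquiv Ω (MvPolynomial (Fin m) R) Ω (Ideal.span {P})
  let e₀ : (Ω ⊗[R] MvPolynomial (Fin m) R) ≃+* MvPolynomial (Fin m) Ω :=
    (algebraTensorAlgEquiv R Ω).toRingEquiv
  have hJ : Ideal.span {map (algebraMap R Ω) P} =
      ((Ideal.span {P}).map (Algebra.TensorProduct.includeRight (A := Ω) (R := R))).map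
        (e₀ : (Ω ⊗[R] MvPolynomial (Fin m) R) →+* _) := by
    rw [Ideal.map_span, Ideal.map_span, Set.image_singleton, Set.image_singleton]
    congr 2
    have : (e₀ : (Ω ⊗[R] MvPolynomial (Fin m) R) →+* _)
        ((Algebra.TensorProduct.includeRight (A := Ω) (R := R)) P) =
        algebraTensorAlgEquiv R Ω ((1 : Ω) ⊗ₜ[R] P) := rfl
    rw [this, algebraTensorAlgEquiv_tmul, one_smul]
  let e₂ : ((Ω ⊗[R] MvPolynomial (Fin m) R) ⧸
      (Ideal.span {P}).map (Algebra.TensorProduct.includeRight (A := Ω) (R := R))) ≃+*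
      (MvPolynomial (Fin m) Ω ⧸ Ideal.span {map (algebraMap R Ω) P}) :=
    Ideal.quotientEquiv _ _ e₀ hJ
  have : (Ideal.span {map (algebraMap R Ω) P}).IsPrime := by
    rw [Ideal.span_singleton_prime hirr.ne_zero]
    exact UniqueFactorizationMonoid.irreducible_iff_prime.1 hirr
  have : IsDomain (MvPolynomial (Fin m) Ω ⧸ Ideal.span {map (algebraMap R Ω) P}) :=
    Ideal.Quotient.isDomain _
  exact MulEquiv.isDomain _ (e₁.toRingEquiv.trans e₂).toMulEquiv

theorem preirr_tensor_away (P : MvPolynomial (Fin m) R)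
    (hirr : Irreducible (map (algebraMap R Ω) P)) (c : HC P) :
    PreirreducibleSpace (PrimeSpectrum (Ω ⊗[R] Localization.Away c)) := by
  haveI := isDomain_tensor_HC (Ω := Ω) P hirr
  haveI := preirr_away ((1 : Ω) ⊗ₜ[R] c)
  exact preirr_of_ringEquiv
    (IsLocalization.Away.tensorProductEquivTMulRight R Ω c (Localization.Away c)).toRingEquiv

variable {A : Type w} [CommRing A] [Algebra R A] {C : Type w'} [CommRing C] [Algebra R C]

theorem preirr_tensor_of_pi (π : A →ₐ[R] C) (hπ : Function.Surjective π)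
    (s : Finset A) (hs : Ideal.span (s : Set A) = RingHom.ker π.toRingHom)
    (d : R) (hd : algebraMap R Ω d ≠ 0) (hds : ∀ y ∈ s, ∃ N : ℕ, d • y ^ N = 0)
    [PreirreducibleSpace (PrimeSpectrum (Ω ⊗[R] C))] :
    PreirreducibleSpace (PrimeSpectrum (Ω ⊗[R] A)) := by
  let f : Ω ⊗[R] A →ₐ[R] Ω ⊗[R] C := Algebra.TensorProduct.map (AlgHom.id R Ω) π
  have hf : Function.Surjective f :=
    Algebra.TensorProduct.map_surjective _ _ (fun x => ⟨x, rfl⟩) hπ
  have hker : RingHom.ker (f : Ω ⊗[R] A →+* Ω ⊗[R] C) ≤ nilradical (Ω ⊗[R] A) := by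
    have h1 : RingHom.ker (f : Ω ⊗[R] A →+* Ω ⊗[R] C) =
        (RingHom.ker π).map (Algebra.TensorProduct.includeRight : A →ₐ[R] Ω ⊗[R] A) :=
      Algebra.TensorProduct.lTensor_ker π hπ
    rw [h1]
    have h2 : RingHom.ker π = Ideal.span (s : Set A) := hs.symm
    rw [h2, Ideal.map_span, Ideal.span_le]
    rintro _ ⟨y, hy, rfl⟩
    obtain ⟨N, hN⟩ := hds y hy
    show IsNilpotent ((1 : Ω) ⊗ₜ[R] y)
    refine ⟨N, ?_⟩
    rw [Algebra.TensorProduct.tmul_pow, one_pow]
    have h3 : (algebraMap R Ω d) ⊗ₜ[R] (y ^ N) = (0 : Ω ⊗[R] A) := by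
      rw [Algebra.algebraMap_eq_smul_one, TensorProduct.smul_tmul, hN, TensorProduct.tmul_zero]
    have h4 : ((algebraMap R Ω d)⁻¹ ⊗ₜ[R] (1 : A)) * ((algebraMap R Ω d) ⊗ₜ[R] (y ^ N)) =
        (1 : Ω) ⊗ₜ[R] (y ^ N) := by
      rw [Algebra.TensorProduct.tmul_mul_tmul, inv_mul_cancel₀ hd, one_mul]
    rw [← h4, h3, mul_zero]
  exact preirr_of_surjective_nil (f : Ω ⊗[R] A →+* Ω ⊗[R] C) hf hker

end Tensor

end Groth.Agent.Helper5.GIrr
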