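import Mathlib
import Groth.Agent.Helper5.GIrrH

set_option autoImplicit false
universe u v w w'
open MvPolynomial TensorProduct

namespace Groth.Agent.Helper5.GIrr

set_option maxHeartbeats 1600000 in
theorem exists_field_data (R A : Type u) [CommRing R] [IsDomain R] [CommRing A] [Algebra R A]
    [Algebra.FiniteType R A]
    (hirr : IrreducibleSpace (PrimeSpectrum (A ⊗[R] FractionRing R))) :
    ∃ (L : Type u) (_ : Field L) (_ : Algebra R L) (_ : Algebra (FractionRing R) L)
      (_ : IsScalarTower R (FractionRing R) L)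
      (_ : Algebra.EssFiniteType (FractionRing R) L) (ι : A →ₐ[R] L),
      (∀ a : A, ι a = 0 ↔ IsNilpotent (a ⊗ₜ[R] (1 : FractionRing R))) ∧
      (∀ a : A, ι a = 0 → ∃ d : R, d ≠ 0 ∧ ∃ N : ℕ, d • a ^ N = 0) ∧
      (∀ z : L, ∃ u v : A, ι v ≠ 0 ∧ z * ι v = ι u) := by
  classical
  let K := FractionRing R
  let B := A ⊗[R] K
  have hprime : (nilradical B).IsPrime :=
    PrimeSpectrum.irreducibleSpace_iff_isPrime_nilradical.1 hirr
  let 𝔭 : Ideal A := (nilradical B).comap (algebraMap A B)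
  haveI : 𝔭.IsPrime := Ideal.comap_isPrime _ _
  let A' := A ⧸ 𝔭
  let L := FractionRing A'
  let ι : A →ₐ[R] L := (IsScalarTower.toAlgHom R A' L).comp (Ideal.Quotient.mkₐ R 𝔭)
  have hι0 : ∀ a : A, ι a = 0 ↔ IsNilpotent (a ⊗ₜ[R] (1 : K)) := by
    intro a
    show algebraMap A' L (Ideal.Quotient.mk 𝔭 a) = 0 ↔ _
    rw [map_eq_zero_iff _ (IsFractionRing.injective A' L), Ideal.Quotient.eq_zero_iff_mem]
    show algebraMap A B a ∈ nilradical B ↔ _
    rw [mem_nilradical]
    rfl
  have hnil : ∀ a : A, ι a = 0 → ∃ d : R, d ≠ 0 ∧ ∃ N : ℕ, d • a ^ N = 0 := by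
    intro a ha
    obtain ⟨N, hN⟩ := (hι0 a).1 ha
    rw [Algebra.TensorProduct.tmul_pow, one_pow] at hN
    have h1 : algebraMap A B (a ^ N) = 0 := hN
    obtain ⟨⟨_, d, hd, rfl⟩, hm⟩ :=
      (IsLocalization.map_eq_zero_iff (Algebra.algebraMapSubmonoid A (nonZeroDivisors R)) B _).1 h1
    refine ⟨d, nonZeroDivisors.ne_zero hd, N, ?_⟩
    rw [Algebra.smul_def]
    exact hm
  -- injectivity of `R → L`
  haveI : Nontrivial B := by
    have : Nonempty (PrimeSpectrum B) := hirr.toNonempty
    exact (PrimeSpectrum.nonempty_iff_nontrivial.1 this)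
  have hRL : Function.Injective (algebraMap R L) := by
    rw [injective_iff_map_eq_zero]
    intro r hr
    by_contra hr0
    have h1 : ι (algebraMap R A r) = 0 := by rw [AlgHom.commutes]; exact hr
    obtain ⟨N, hN⟩ := (hι0 _).1 h1
    have hu : IsUnit ((algebraMap R A r) ⊗ₜ[R] (1 : K) : B) := by
      have h2 : ((algebraMap R A r) ⊗ₜ[R] (1 : K) : B) = (1 : A) ⊗ₜ[R] (algebraMap R K r) := by
        rw [Algebra.algebraMap_eq_smul_one, TensorProduct.smul_tmul, ← Algebra.algebraMap_eq_smul_one]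
      rw [h2]
      have h3 : IsUnit (algebraMap R K r) :=
        isUnit_iff_ne_zero.2 (fun h => hr0 ((IsFractionRing.injective R K) (by rw [h, map_zero])))
      exact h3.map (Algebra.TensorProduct.includeRight : K →ₐ[R] A ⊗[R] K)
    have := (hu.pow N)
    rw [hN] at this
    exact not_isUnit_zero this
  haveI : FaithfulSMul R L := (faithfulSMul_iff_algebraMap_injective R L).2 hRL
  letI : Algebra K L := FractionRing.liftAlgebra R L
  haveI : IsScalarTower R K L := FractionRing.isScalarTower_liftAlgebra R L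
  haveI : Algebra.EssFiniteType A' L := Algebra.EssFiniteType.of_isLocalization L (nonZeroDivisors A')
  haveI : Algebra.EssFiniteType R L := Algebra.EssFiniteType.comp R A' L
  haveI : Algebra.EssFiniteType K L := Algebra.EssFiniteType.of_comp R K L
  refine ⟨L, inferInstance, inferInstance, inferInstance, inferInstance, inferInstance, ι, hι0, hnil, ?_⟩
  intro z
  obtain ⟨u', v', hv', huv⟩ := IsFractionRing.div_surjective (A := A') z
  obtain ⟨u, rfl⟩ := Ideal.Quotient.mk_surjective u'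
  obtain ⟨v, rfl⟩ := Ideal.Quotient.mk_surjective v'
  have hv0 : algebraMap A' L (Ideal.Quotient.mk 𝔭 v) ≠ 0 := by
    intro h
    rw [map_eq_zero_iff _ (IsFractionRing.injective A' L)] at h
    rw [h] at hv'
    exact zero_notMem_nonZeroDivisors hv'
  refine ⟨u, v, hv0, ?_⟩
  show z * algebraMap A' L (Ideal.Quotient.mk 𝔭 v) = algebraMap A' L (Ideal.Quotient.mk 𝔭 u)
  rw [← huv]
  exact div_mul_cancel₀ _ hv0

end Groth.Agent.Helper5.GIrr
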