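import Mathlib

set_option autoImplicit false
universe u v w
open MvPolynomial

namespace Groth.Agent.Helper5.PolyIrr

section Generic

variable {A : Type u} [CommRing A] {n : ℕ} (T : Finset (Fin n →₀ ℕ))

/-- the generic polynomial with coefficients indexed by `T` (first copy) -/
noncomputable def G₁ : MvPolynomial (Fin n) (MvPolynomial (↥T ⊕ ↥T) A) :=
  ∑ m : ↥T, monomial m.1 (X (Sum.inl m))

/-- the generic polynomial with coefficients indexed by `T` (second copy) -/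
noncomputable def G₂ : MvPolynomial (Fin n) (MvPolynomial (↥T ⊕ ↥T) A) :=
  ∑ m : ↥T, monomial m.1 (X (Sum.inr m))

/-- `G₁ G₂ - P` -/
noncomputable def D (P : MvPolynomial (Fin n) A) :
    MvPolynomial (Fin n) (MvPolynomial (↥T ⊕ ↥T) A) :=
  G₁ T * G₂ T - map C P

/-- the ideal of the scheme of factorisations -/
noncomputable def I (P : MvPolynomial (Fin n) A) : Ideal (MvPolynomial (↥T ⊕ ↥T) A) :=
  Ideal.span (Set.range fun m => coeff m (D T P))

theorem coeff_sum_monomial {B : Type v} [CommRing B] (c : ↥T → B) (α : ↥T) :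
    coeff α.1 (∑ m : ↥T, monomial m.1 (c m)) = c α := by
  classical
  rw [coeff_sum, Finset.sum_eq_single α]
  · simp
  · intro b _ hb
    rw [coeff_monomial, if_neg]
    intro h
    exact hb (Subtype.ext h)
  · intro h; exact absurd (Finset.mem_univ _) h

theorem map_G₁ {B : Type v} [CommRing B] (ψ : MvPolynomial (↥T ⊕ ↥T) A →+* B) :
    map ψ (G₁ T) = ∑ m : ↥T, monomial m.1 (ψ (X (Sum.inl m))) := by
  simp [G₁, map_sum, map_monomial]

theorem map_G₂ {B : Type v} [CommRing B] (ψ : MvPolynomial (↥T ⊕ ↥T) A →+* B) :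
    map ψ (G₂ T) = ∑ m : ↥T, monomial m.1 (ψ (X (Sum.inr m))) := by
  simp [G₂, map_sum, map_monomial]

theorem I_le_ker_iff {B : Type v} [CommRing B] (P : MvPolynomial (Fin n) A)
    (ψ : MvPolynomial (↥T ⊕ ↥T) A →+* B) :
    I T P ≤ RingHom.ker ψ ↔ map ψ (G₁ T) * map ψ (G₂ T) = map (ψ.comp C) P := by
  have h1 : map ψ (D T P) = map ψ (G₁ T) * map ψ (G₂ T) - map (ψ.comp C) P := by
    rw [D, map_sub, map_mul, map_map]
  rw [← sub_eq_zero, ← h1, I, Ideal.span_le, Set.range_subset_iff]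
  constructor
  · intro h
    ext m
    rw [coeff_map, coeff_zero]
    exact h m
  · intro h m
    show ψ (coeff m (D T P)) = 0
    rw [← coeff_map, h, coeff_zero]

theorem eval_zero {L : Type v} [CommRing L] [IsDomain L] (P : MvPolynomial (Fin n) A)
    (ψ : MvPolynomial (↥T ⊕ ↥T) A →+* L)
    (hI : I T P ≤ RingHom.ker ψ) (hirr : Irreducible (map (ψ.comp C) P))
    (α β : ↥T) (hα : α.1 ≠ 0) (hβ : β.1 ≠ 0) :
    ψ (X (Sum.inl α)) * ψ (X (Sum.inr β)) = 0 := by
  rw [I_le_ker_iff] at hI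
  rcases hirr.isUnit_or_isUnit hI.symm with h | h
  · obtain ⟨r, -, hr⟩ := (isUnit_iff_eq_C_of_isReduced).1 h
    have h0 : coeff α.1 (map ψ (G₁ T)) = 0 := by rw [hr, coeff_C, if_neg hα.symm]
    rw [map_G₁, coeff_sum_monomial] at h0
    rw [h0, zero_mul]
  · obtain ⟨r, -, hr⟩ := (isUnit_iff_eq_C_of_isReduced).1 h
    have h0 : coeff β.1 (map ψ (G₂ T)) = 0 := by rw [hr, coeff_C, if_neg hβ.symm]
    rw [map_G₂, coeff_sum_monomial] at h0
    rw [h0, mul_zero]

end Generic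

section Field

variable {A : Type u} [CommRing A] {n : ℕ} (T : Finset (Fin n →₀ ℕ))
variable (K : Type v) [Field K] [Algebra A K] (L : Type w) [Field L] [Algebra K L] [IsAlgClosed L]
  [Algebra A L] [IsScalarTower A K L]

theorem mem_radical (P : MvPolynomial (Fin n) A) (hP : Irreducible (map (algebraMap A L) P))
    (α β : ↥T) (hα : α.1 ≠ 0) (hβ : β.1 ≠ 0) :
    map (algebraMap A K) (X (Sum.inl α) * X (Sum.inr β)) ∈
      ((I T P).map (map (σ := ↥T ⊕ ↥T) (algebraMap A K))).radical := by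
  rw [Ideal.radical_eq_jacobson, Ideal.jacobson, Ideal.mem_sInf]
  rintro m ⟨hIm, hmax⟩
  haveI := hmax
  letI : Field (MvPolynomial (↥T ⊕ ↥T) K ⧸ m) := Ideal.Quotient.field m
  haveI : Module.Finite K (MvPolynomial (↥T ⊕ ↥T) K ⧸ m) :=
    finite_of_finite_type_of_isJacobsonRing K _
  haveI : Algebra.IsAlgebraic K (MvPolynomial (↥T ⊕ ↥T) K ⧸ m) := Algebra.IsAlgebraic.of_finite _ _
  let ι : (MvPolynomial (↥T ⊕ ↥T) K ⧸ m) →ₐ[K] L := IsAlgClosed.lift
  let ψK : MvPolynomial (↥T ⊕ ↥T) K →+* L := (ι : _ →+* L).comp (Ideal.Quotient.mk m)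
  have hker : ∀ x, ψK x = 0 ↔ x ∈ m := by
    intro x
    show ι (Ideal.Quotient.mk m x) = 0 ↔ _
    rw [map_eq_zero_iff ι ι.toRingHom.injective, Ideal.Quotient.eq_zero_iff_mem]
  let ψ : MvPolynomial (↥T ⊕ ↥T) A →+* L := ψK.comp (map (algebraMap A K))
  have hIψ : I T P ≤ RingHom.ker ψ := fun x hx =>
    (hker _).2 (hIm (Ideal.mem_map_of_mem _ hx))
  have hC : ψ.comp C = algebraMap A L := by
    ext a
    show ι (Ideal.Quotient.mk m (map (algebraMap A K) (C a))) = _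
    rw [map_C]
    have : (Ideal.Quotient.mk m (C (algebraMap A K a)) : MvPolynomial (↥T ⊕ ↥T) K ⧸ m) =
        algebraMap K _ (algebraMap A K a) := rfl
    rw [this, ι.commutes, ← IsScalarTower.algebraMap_apply]
  have h0 := eval_zero T P ψ hIψ (by rw [hC]; exact hP) α β hα hβ
  refine (hker _).1 ?_
  show ψ (X (Sum.inl α) * X (Sum.inr β)) = 0
  rw [map_mul]; exact h0

end Field

section Clear

variable {A : Type u} [CommRing A] [IsDomain A] {n : ℕ} (T : Finset (Fin n →₀ ℕ))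

attribute [local instance] MvPolynomial.algebraMvPolynomial

theorem clear (P : MvPolynomial (Fin n) A)
    (hP : Irreducible (map (algebraMap A (AlgebraicClosure (FractionRing A))) P))
    (α β : ↥T) (hα : α.1 ≠ 0) (hβ : β.1 ≠ 0) :
    ∃ a : A, a ≠ 0 ∧ ∃ N : ℕ,
      (X (Sum.inl α) * X (Sum.inr β) : MvPolynomial (↥T ⊕ ↥T) A) ^ N * C a ∈ I T P := by
  obtain ⟨N, hN⟩ := mem_radical T (FractionRing A) (AlgebraicClosure (FractionRing A)) P hP α β hα hβ
  rw [← map_pow] at hN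
  have hN' : algebraMap (MvPolynomial (↥T ⊕ ↥T) A) (MvPolynomial (↥T ⊕ ↥T) (FractionRing A))
      ((X (Sum.inl α) * X (Sum.inr β)) ^ N) ∈
      Ideal.map (algebraMap (MvPolynomial (↥T ⊕ ↥T) A) (MvPolynomial (↥T ⊕ ↥T) (FractionRing A)))
        (I T P) := hN
  obtain ⟨⟨i, s⟩, h⟩ := (IsLocalization.mem_map_algebraMap_iff
    ((nonZeroDivisors A).map (C (σ := ↥T ⊕ ↥T))) (MvPolynomial (↥T ⊕ ↥T) (FractionRing A))).1 hN'
  obtain ⟨a, ha, hs⟩ := s.2
  refine ⟨a, nonZeroDivisors.ne_zero ha, N, ?_⟩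
  have h2 : (X (Sum.inl α) * X (Sum.inr β) : MvPolynomial (↥T ⊕ ↥T) A) ^ N * C a = i.1 := by
    apply map_injective (algebraMap A (FractionRing A)) (IsFractionRing.injective A (FractionRing A))
    have h' := h
    simp only [← hs] at h'
    rw [← map_mul] at h'
    exact h'
  rw [h2]; exact i.2

end Clear

end Groth.Agent.Helper5.PolyIrr
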