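import Mathlib
import Groth.Agent.Helper5.PolyIrr1

set_option autoImplicit false
universe u v w
open MvPolynomial

namespace Groth.Agent.Helper5.PolyIrr

/-- a nonzero non-unit polynomial over a field has a nonzero coefficient of nonzero exponent -/
theorem exists_coeff_ne_zero {κ : Type v} [Field κ] {n : ℕ} (Q : MvPolynomial (Fin n) κ)
    (h0 : Q ≠ 0) (hu : ¬ IsUnit Q) : ∃ α : Fin n →₀ ℕ, α ≠ 0 ∧ coeff α Q ≠ 0 := by
  classical
  by_contra hcon
  push Not at hcon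
  have hQ : Q = C (coeff 0 Q) := by
    ext m
    rw [coeff_C]
    split_ifs with hm
    · rw [hm]
    · exact hcon m (Ne.symm hm)
  have hc : coeff 0 Q ≠ 0 := by
    intro hc
    rw [hc, map_zero] at hQ
    exact h0 hQ
  apply hu
  rw [hQ]
  exact (isUnit_iff_ne_zero.2 hc).map C

/-- the box of exponents -/
noncomputable def box (n d : ℕ) : Finset (Fin n →₀ ℕ) :=
  (Finset.univ : Finset (Fin n → Fin (d + 1))).image
    (fun g => Finsupp.equivFunOnFinite.symm (fun i => (g i : ℕ)))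

theorem mem_box {n d : ℕ} (m : Fin n →₀ ℕ) (h : ∀ i, m i ≤ d) : m ∈ box n d := by
  classical
  rw [box, Finset.mem_image]
  refine ⟨fun i => ⟨m i, Nat.lt_succ_of_le (h i)⟩, Finset.mem_univ _, ?_⟩
  ext i
  simp

theorem support_subset_box {κ : Type v} [CommRing κ] {n d : ℕ} (Q : MvPolynomial (Fin n) κ)
    (h : Q.totalDegree ≤ d) : Q.support ⊆ box n d := by
  intro m hm
  apply mem_box
  intro i
  have h1 := le_totalDegree hm
  have h2 : m i ≤ m.sum fun _ e => e := by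
    rw [Finsupp.sum_fintype _ _ (fun _ => rfl)]
    exact Finset.single_le_sum (f := fun j => m j) (fun _ _ => Nat.zero_le _) (Finset.mem_univ i)
  omega

theorem sum_box_eq {κ : Type v} [CommRing κ] {n : ℕ} (T : Finset (Fin n →₀ ℕ))
    (Q : MvPolynomial (Fin n) κ) (h : Q.support ⊆ T) :
    ∑ m : ↥T, monomial m.1 (coeff m.1 Q) = Q := by
  classical
  rw [Finset.sum_coe_sort T (fun m => monomial m (coeff m Q))]
  conv_rhs => rw [as_sum Q]
  symm
  apply Finset.sum_subset h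
  intro m _ hm
  rw [notMem_support_iff.1 hm, monomial_zero]

theorem main {A : Type u} [CommRing A] [IsDomain A] {n : ℕ} (P : MvPolynomial (Fin n) A)
    (hP : Irreducible (MvPolynomial.map (algebraMap A (AlgebraicClosure (FractionRing A))) P)) :
    ∃ f : A, f ≠ 0 ∧ ∀ (κ : Type v) [Field κ] (φ : A →+* κ), IsUnit (φ f) →
      Irreducible (MvPolynomial.map φ P) := by
  classical
  set d := P.totalDegree with hd
  set T := box n d with hT
  -- a nonconstant coefficient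
  obtain ⟨γ, hγ0, hγ⟩ := exists_coeff_ne_zero _ hP.ne_zero hP.not_isUnit
  rw [coeff_map] at hγ
  have hc : coeff γ P ≠ 0 := fun h => hγ (by rw [h, map_zero])
  have H : ∀ p : {p : ↥T × ↥T // p.1.1 ≠ 0 ∧ p.2.1 ≠ 0}, ∃ a : A, a ≠ 0 ∧ ∃ N : ℕ,
      (X (Sum.inl p.1.1) * X (Sum.inr p.1.2) : MvPolynomial (↥T ⊕ ↥T) A) ^ N * C a ∈ I T P :=
    fun p => clear T P hP p.1.1 p.1.2 p.2.1 p.2.2
  choose a ha N hN using H
  refine ⟨(∏ p, a p) * coeff γ P, mul_ne_zero (Finset.prod_ne_zero_iff.2 fun p _ => ha p) hc, ?_⟩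
  intro κ _ φ hf
  have hφa : ∀ p, φ (a p) ≠ 0 := by
    intro p
    have hdvd : a p ∣ (∏ p, a p) * coeff γ P :=
      Dvd.dvd.mul_right (Finset.dvd_prod_of_mem a (Finset.mem_univ p)) _
    exact (isUnit_of_dvd_unit (map_dvd φ hdvd) hf).ne_zero
  have hφc : φ (coeff γ P) ≠ 0 :=
    (isUnit_of_dvd_unit (map_dvd φ (Dvd.intro_left _ rfl)) hf).ne_zero
  have hγ' : coeff γ (map φ P) ≠ 0 := by rwa [coeff_map]
  have hP0 : map φ P ≠ 0 := fun h => hγ' (by rw [h, coeff_zero])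
  have hnu : ¬ IsUnit (map φ P) := by
    intro hu
    obtain ⟨r, -, hr⟩ := (isUnit_iff_eq_C_of_isReduced).1 hu
    apply hγ'
    rw [hr, coeff_C, if_neg hγ0.symm]
  rw [irreducible_iff]
  refine ⟨hnu, ?_⟩
  intro Q₁ Q₂ hQ
  by_contra hcon
  push Not at hcon
  obtain ⟨hu1, hu2⟩ := hcon
  have hQ1 : Q₁ ≠ 0 := fun h => hP0 (by rw [hQ, h, zero_mul])
  have hQ2 : Q₂ ≠ 0 := fun h => hP0 (by rw [hQ, h, mul_zero])
  have hdeg : Q₁.totalDegree + Q₂.totalDegree ≤ d := by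
    rw [← totalDegree_mul_of_isDomain hQ1 hQ2, ← hQ]
    exact Finset.sup_mono (support_map_subset φ P)
  have hs1 : Q₁.support ⊆ T := support_subset_box Q₁ (by omega)
  have hs2 : Q₂.support ⊆ T := support_subset_box Q₂ (by omega)
  obtain ⟨α, hα0, hα⟩ := exists_coeff_ne_zero Q₁ hQ1 hu1
  obtain ⟨β, hβ0, hβ⟩ := exists_coeff_ne_zero Q₂ hQ2 hu2
  have hαT : α ∈ T := hs1 (mem_support_iff.2 hα)
  have hβT : β ∈ T := hs2 (mem_support_iff.2 hβ)
  let pt : ↥T ⊕ ↥T → κ := Sum.elim (fun m => coeff m.1 Q₁) (fun m => coeff m.1 Q₂)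
  let ψ : MvPolynomial (↥T ⊕ ↥T) A →+* κ := eval₂Hom φ pt
  have hψC : ψ.comp C = φ := by
    ext x
    simp [ψ]
  have h1 : map ψ (G₁ T) = Q₁ := by
    rw [map_G₁]
    have : ∀ m : ↥T, ψ (X (Sum.inl m)) = coeff m.1 Q₁ := fun m => by simp [ψ, pt]
    simp only [this]
    exact sum_box_eq T Q₁ hs1
  have h2 : map ψ (G₂ T) = Q₂ := by
    rw [map_G₂]
    have : ∀ m : ↥T, ψ (X (Sum.inr m)) = coeff m.1 Q₂ := fun m => by simp [ψ, pt]
    simp only [this]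
    exact sum_box_eq T Q₂ hs2
  have hle : I T P ≤ RingHom.ker ψ := by
    rw [I_le_ker_iff, h1, h2, hψC, hQ]
  have hmem := hle (hN ⟨(⟨α, hαT⟩, ⟨β, hβT⟩), hα0, hβ0⟩)
  rw [RingHom.mem_ker, map_mul, map_pow, map_mul] at hmem
  have e1 : ψ (X (Sum.inl ⟨α, hαT⟩)) = coeff α Q₁ := by simp [ψ, pt]
  have e2 : ψ (X (Sum.inr ⟨β, hβT⟩)) = coeff β Q₂ := by simp [ψ, pt]
  have e3 : ψ (C (a ⟨(⟨α, hαT⟩, ⟨β, hβT⟩), hα0, hβ0⟩)) = φ (a ⟨(⟨α, hαT⟩, ⟨β, hβT⟩), hα0, hβ0⟩) := by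
    simp [ψ]
  rw [e1, e2, e3] at hmem
  exact mul_ne_zero (pow_ne_zero _ (mul_ne_zero hα hβ)) (hφa _) hmem

end Groth.Agent.Helper5.PolyIrr
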