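import Mathlib
import Groth.Agent.Helper5.GIrrI
import Groth.Agent.Helper5.GIrrD
import Groth.Agent.Helper5.PolyIrr2

set_option autoImplicit false
universe u v w w'
open MvPolynomial TensorProduct

namespace Groth.Agent.Helper5.GIrr

theorem irreducible_map_algClosure {R : Type u} [CommRing R] [IsDomain R]
    [IsAlgClosed (FractionRing R)] {m : ℕ} (P : MvPolynomial (Fin m) R)
    (h : Irreducible (map (algebraMap R (FractionRing R)) P)) :
    Irreducible (map (algebraMap R (AlgebraicClosure (FractionRing R))) P) := by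
  have hbij : Function.Bijective (algebraMap (FractionRing R) (AlgebraicClosure (FractionRing R))) :=
    IsAlgClosed.algebraMap_bijective_of_isIntegral
  let e : FractionRing R ≃+* AlgebraicClosure (FractionRing R) := RingEquiv.ofBijective _ hbij
  have h1 : map (algebraMap R (AlgebraicClosure (FractionRing R))) P =
      (mapEquiv (Fin m) e) (map (algebraMap R (FractionRing R)) P) := by
    show _ = MvPolynomial.map (e : FractionRing R →+* AlgebraicClosure (FractionRing R)) (MvPolynomial.map (algebraMap R (FractionRing R)) P)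
    rw [MvPolynomial.map_map]
    congr 1
  rw [h1]
  exact (MulEquiv.irreducible_iff (mapEquiv (Fin m) e).toMulEquiv).2 h

set_option maxHeartbeats 1600000 in
theorem ring_core_irr (R A : Type u) [CommRing R] [IsDomain R] [IsAlgClosed (FractionRing R)]
    [CommRing A] [Algebra R A] [Algebra.FiniteType R A]
    (hirr : IrreducibleSpace (PrimeSpectrum (A ⊗[R] FractionRing R))) :
    ∃ g : R, g ≠ 0 ∧ ∃ b : A, ¬ IsNilpotent (b ⊗ₜ[R] (1 : FractionRing R)) ∧
      ∀ (Ω : Type u) [Field Ω] [Algebra R Ω], algebraMap R Ω g ≠ 0 →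
        PreirreducibleSpace (PrimeSpectrum (Ω ⊗[R] Localization.Away b)) := by
  classical
  obtain ⟨L, _, _, _, _, _, ι, hι0, hnil, hA⟩ := exists_field_data R A hirr
  obtain ⟨r, a, P, ℓ, hPirr, hP0, hℓ, hdvd, hfrac⟩ :=
    exists_model (R := R) (K := FractionRing R) (L := L)
  let ρ : HC P →ₐ[R] L := rho a P hP0
  let c₀ : HC P := Ideal.Quotient.mk (Ideal.span {P}) ℓ
  have hc₀ : ρ c₀ ≠ 0 := hℓ
  have hC : ∀ z : L, ∃ u v : HC P, ρ v ≠ 0 ∧ z * ρ v = ρ u := by
    intro z
    obtain ⟨U, V, hV, hUV⟩ := hfrac z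
    exact ⟨Ideal.Quotient.mk _ U, Ideal.Quotient.mk _ V, hV, hUV⟩
  haveI : Algebra.FinitePresentation R (HC P) :=
    Algebra.FinitePresentation.quotient (Submodule.fg_span_singleton P)
  obtain ⟨b, c, hc₀c, hb, hc, hloc⟩ := exists_common_localization ι ρ hA hC c₀ hc₀
  have hinj := jmap_rho_injective a P ℓ hP0 hdvd c hc hc₀c
  obtain ⟨π, hπsurj, hπ⟩ := exists_pi ι ρ b hb c hc hloc hinj
  haveI : Algebra.FinitePresentation (HC P) (Localization.Away c) :=
    IsLocalization.Away.finitePresentation c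
  haveI : Algebra.FinitePresentation R (Localization.Away c) :=
    Algebra.FinitePresentation.trans R (HC P) (Localization.Away c)
  haveI : Algebra.FinitePresentation A (Localization.Away b) :=
    IsLocalization.Away.finitePresentation b
  haveI : Algebra.FiniteType R (Localization.Away b) :=
    Algebra.FiniteType.trans (S := A) inferInstance inferInstance
  obtain ⟨s, hs⟩ := ker_fg_of_surjective' π hπsurj
  have hs0 : ∀ y ∈ s, jmap ι b hb y = 0 := by
    intro y hy
    have h1 : y ∈ RingHom.ker π.toRingHom := by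
      rw [← hs]; exact Ideal.subset_span hy
    have h2 : π y = 0 := h1
    rw [← hπ, h2, map_zero]
  obtain ⟨d, hd, hds⟩ := exists_bound ι hnil b hb s hs0
  obtain ⟨fP, hfP0, hfP⟩ := Groth.Agent.Helper5.PolyIrr.main P (irreducible_map_algClosure P hPirr)
  refine ⟨d * fP, mul_ne_zero hd hfP0, b, fun h => hb ((hι0 b).2 h), ?_⟩
  intro Ω _ _ hg
  rw [map_mul] at hg
  have hdΩ : algebraMap R Ω d ≠ 0 := left_ne_zero_of_mul hg
  have hfΩ : IsUnit (algebraMap R Ω fP) := isUnit_iff_ne_zero.2 (right_ne_zero_of_mul hg)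
  have hirrΩ : Irreducible (map (algebraMap R Ω) P) := hfP Ω (algebraMap R Ω) hfΩ
  haveI := preirr_tensor_away (Ω := Ω) P hirrΩ c
  exact preirr_tensor_of_pi π hπsurj s hs d hdΩ hds

end Groth.Agent.Helper5.GIrr
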