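import Mathlib
import Groth.Agent.Helper5.GIrrJ

set_option autoImplicit false
universe u

namespace Groth.Agent.Helper5.GIrr

open CategoryTheory CategoryTheory.Limits AlgebraicGeometry TopologicalSpace Topology TensorProduct

/-- base change of a geometrically irreducible fibre along a field-valued point at `y` -/
theorem irreducible_pullback_of_fiber {X Y : Scheme.{u}} (f : X ⟶ Y) (y : Y)
    (h : GeometricallyIrreducible (f.fiberToSpecResidueField y)) (L : Type u) [Field L]
    (a : Spec (CommRingCat.of L) ⟶ Y) (ha : a (IsLocalRing.closedPoint L) = y) :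
    IrreducibleSpace ↥(pullback f a) := by
  obtain ⟨⟨y', φ⟩, rfl⟩ := (Scheme.SpecToEquivOfField L Y).symm.surjective a
  have hy' : y' = y := by
    rw [← ha]
    show y' = (Spec.map φ ≫ Y.fromSpecResidueField y') (IsLocalRing.closedPoint L)
    rw [Scheme.Hom.comp_apply]
    exact (Scheme.fromSpecResidueField_apply y' _).symm
  subst hy'
  show IrreducibleSpace ↥(pullback f (Spec.map φ ≫ Y.fromSpecResidueField y'))
  have h1 : IrreducibleSpace ↥(pullback (f.fiberToSpecResidueField y') (Spec.map φ)) :=
    GeometricallyIrreducible.geometrically_irreducibleSpace (f := f.fiberToSpecResidueField y') _ _ _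
      (IsPullback.of_hasPullback _ _)
  have h2 : IrreducibleSpace ↥(pullback (pullback.snd f (Y.fromSpecResidueField y')) (Spec.map φ)) := h1
  exact ((pullbackLeftPullbackSndIso f (Y.fromSpecResidueField y') (Spec.map φ)).hom.homeomorph.irreducibleSpace_iff).1 h2

/-- a fibre is geometrically irreducible if all base changes along field-valued points at `y` are
irreducible -/
theorem geometricallyIrreducible_fiber_of_forall {X Y : Scheme.{u}} (f : X ⟶ Y) (y : Y)
    (H : ∀ (L : Type u) [Field L] (a : Spec (CommRingCat.of L) ⟶ Y),
      a (IsLocalRing.closedPoint L) = y → IrreducibleSpace ↥(pullback f a)) :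
    GeometricallyIrreducible (f.fiberToSpecResidueField y) := by
  rw [geometricallyIrreducible_iff]
  intro K _ y' Z fst snd hpb
  let a : Spec (CommRingCat.of K) ⟶ Y := y' ≫ Y.fromSpecResidueField y
  have ha : a (IsLocalRing.closedPoint K) = y := by
    show (y' ≫ Y.fromSpecResidueField y) _ = y
    rw [Scheme.Hom.comp_apply]
    exact Scheme.fromSpecResidueField_apply y _
  have hpb' : IsPullback (fst ≫ f.fiberι y) snd f a :=
    hpb.paste_horiz (IsPullback.of_hasPullback f (Y.fromSpecResidueField y))
  have := H K a ha
  exact (hpb'.isoPullback.hom.homeomorph.irreducibleSpace_iff).2 this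

end Groth.Agent.Helper5.GIrr
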