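import Mathlib
import Groth.Agent.Helper5.GIrrK
import Groth.Agent.Lead.GeomFibre

set_option autoImplicit false
universe u

namespace Groth.Agent.Helper5.GIrr

open CategoryTheory CategoryTheory.Limits AlgebraicGeometry TopologicalSpace Topology TensorProduct

set_option maxHeartbeats 800000 in
/-- irreducibility of a base change of a fibre from a dense preirreducible open -/
theorem irreducible_pullback_of_dense {X Y : Scheme.{u}} (f : X ⟶ Y) (y : Y) (W : Set X)
    (hne : ∃ x ∈ W, f x = y)
    (hdense : IsNowhereDense ((f.fiberι y) ⁻¹' Wᶜ))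
    (Ω : Type u) [Field Ω] (a : Spec (CommRingCat.of Ω) ⟶ Y)
    (ha : a (IsLocalRing.closedPoint Ω) = y)
    (hW : IsPreirreducible ((pullback.fst f a) ⁻¹' W)) :
    IrreducibleSpace ↥(pullback f a) := by
  obtain ⟨⟨y', φ⟩, rfl⟩ := (Scheme.SpecToEquivOfField Ω Y).symm.surjective a
  have hy' : y' = y := by
    rw [← ha]
    show y' = (Spec.map φ ≫ Y.fromSpecResidueField y') (IsLocalRing.closedPoint Ω)
    rw [Scheme.Hom.comp_apply]
    exact (Scheme.fromSpecResidueField_apply y' _).symm
  subst hy'
  change IsPreirreducible ((pullback.fst f (Spec.map φ ≫ Y.fromSpecResidueField y')) ⁻¹' W) at hW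
  show IrreducibleSpace ↥(pullback f (Spec.map φ ≫ Y.fromSpecResidueField y'))
  let e := pullbackLeftPullbackSndIso f (Y.fromSpecResidueField y') (Spec.map φ)
  let q' : pullback (f.fiberToSpecResidueField y') (Spec.map φ) ⟶ f.fiber y' :=
    pullback.fst (f.fiberToSpecResidueField y') (Spec.map φ)
  haveI : Surjective (Spec.map φ) := (Groth.Agent.Lead.GeomFibre.flat_surj_of_fields (Spec.map φ)).2
  haveI : UniversallyOpen q' := by dsimp only [q']; infer_instance
  haveI : Surjective q' := by dsimp only [q']; infer_instance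
  let q : pullback f (Spec.map φ ≫ Y.fromSpecResidueField y') ⟶ f.fiber y' := e.inv ≫ q'
  have hq : q ≫ f.fiberι y' = pullback.fst f (Spec.map φ ≫ Y.fromSpecResidueField y') := by
    show (e.inv ≫ q') ≫ pullback.fst f (Y.fromSpecResidueField y') = _
    rw [Category.assoc, Iso.inv_comp_eq]
    exact (pullbackLeftPullbackSndIso_hom_fst f (Y.fromSpecResidueField y') (Spec.map φ)).symm
  have hqopen : IsOpenMap q := by
    show IsOpenMap (e.inv ≫ q')
    rw [Scheme.Hom.comp_base, TopCat.coe_comp]
    exact q'.isOpenMap.comp e.inv.homeomorph.isOpenMap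
  have hqsurj : Function.Surjective q := by
    show Function.Surjective (e.inv ≫ q')
    rw [Scheme.Hom.comp_base, TopCat.coe_comp]
    exact q'.surjective.comp e.inv.homeomorph.surjective
  -- density in the fibre
  have hD : Dense ((f.fiberι y') ⁻¹' W) := by
    have h1 : interior ((f.fiberι y') ⁻¹' Wᶜ) = ∅ := by
      apply Set.eq_empty_of_subset_empty
      calc interior ((f.fiberι y') ⁻¹' Wᶜ) ⊆ interior (closure ((f.fiberι y') ⁻¹' Wᶜ)) :=
            interior_mono subset_closure
        _ = ∅ := hdense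
    have h2 := interior_eq_empty_iff_dense_compl.1 h1
    rwa [← Set.preimage_compl, compl_compl] at h2
  have hpre : (pullback.fst f (Spec.map φ ≫ Y.fromSpecResidueField y')) ⁻¹' W =
      q ⁻¹' ((f.fiberι y') ⁻¹' W) := by
    rw [← hq, Scheme.Hom.comp_base, TopCat.coe_comp, Set.preimage_comp]
  have hDΩ : Dense ((pullback.fst f (Spec.map φ ≫ Y.fromSpecResidueField y')) ⁻¹' W) := by
    rw [hpre]
    exact hD.preimage hqopen
  -- nonemptiness
  obtain ⟨x, hxW, hxy⟩ := hne
  obtain ⟨p, hp⟩ : ∃ p : f.fiber y', f.fiberι y' p = x := by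
    have : x ∈ Set.range (f.fiberι y') := by
      rw [Scheme.Hom.range_fiberι]; exact hxy
    exact this
  obtain ⟨z, hz⟩ := hqsurj p
  haveI : Nonempty ↥(pullback f (Spec.map φ ≫ Y.fromSpecResidueField y')) := ⟨z⟩
  have h3 : IsPreirreducible (closure ((pullback.fst f (Spec.map φ ≫ Y.fromSpecResidueField y')) ⁻¹' W)) :=
    hW.closure
  rw [hDΩ.closure_eq] at h3
  exact @IrreducibleSpace.mk _ _ ⟨h3⟩ ⟨z⟩

end Groth.Agent.Helper5.GIrr
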