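import Mathlib
import Groth.Agent.Helper5.GIrrL

set_option autoImplicit false
universe u

namespace Groth.Agent.Helper5.GIrr

open CategoryTheory CategoryTheory.Limits AlgebraicGeometry TopologicalSpace Topology TensorProduct

set_option maxHeartbeats 800000 in
theorem isPreirreducible_preimage_of_tensor {R S Ω : Type u} [CommRing R] [CommRing S] [CommRing Ω]
    [Algebra R S] [Algebra R Ω] {X : Scheme.{u}} (f : X ⟶ Spec (.of R))
    (jS : Spec (.of S) ⟶ X) [IsOpenImmersion jS]
    (hjS : jS ≫ f = Spec.map (CommRingCat.ofHom (algebraMap R S)))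
    (h : PreirreducibleSpace (PrimeSpectrum (S ⊗[R] Ω))) :
    IsPreirreducible ((pullback.fst f (Spec.map (CommRingCat.ofHom (algebraMap R Ω)))) ⁻¹'
      (Set.range jS)) := by
  let a : Spec (.of Ω) ⟶ Spec (.of R) := Spec.map (CommRingCat.ofHom (algebraMap R Ω))
  let m : pullback (jS ≫ f) a ⟶ pullback f a :=
    pullback.map (jS ≫ f) a f a jS (𝟙 _) (𝟙 _) (by simp) (by simp)
  have hrange : Set.range m = (pullback.fst f a) ⁻¹' (Set.range jS) := by
    rw [Scheme.Pullback.range_map]
    simp
  let e : pullback (Spec.map (CommRingCat.ofHom (algebraMap R S)))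
      (Spec.map (CommRingCat.ofHom (algebraMap R Ω))) ≅ Spec (.of (S ⊗[R] Ω)) :=
    pullbackSpecIso R S Ω
  haveI : PreirreducibleSpace ↥(Spec (.of (S ⊗[R] Ω))) := h
  have h1 : PreirreducibleSpace ↥(pullback (Spec.map (CommRingCat.ofHom (algebraMap R S)))
      (Spec.map (CommRingCat.ofHom (algebraMap R Ω)))) := by
    constructor
    have h2 : IsPreirreducible (Set.univ : Set ↥(Spec (.of (S ⊗[R] Ω)))) :=
      PreirreducibleSpace.isPreirreducible_univ
    have h3 := h2.image e.inv e.inv.continuous.continuousOn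
    have h5 : Set.range e.inv = Set.univ := e.inv.homeomorph.surjective.range_eq
    rwa [Set.image_univ, h5] at h3
  have h4 : PreirreducibleSpace ↥(pullback (jS ≫ f) a) := by
    rw [hjS]; exact h1
  show IsPreirreducible ((pullback.fst f a) ⁻¹' (Set.range jS))
  rw [← hrange, ← Set.image_univ]
  exact (PreirreducibleSpace.isPreirreducible_univ).image m m.continuous.continuousOn

end Groth.Agent.Helper5.GIrr
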