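import Mathlib
import Groth.Agent.Helper5.GIrrM
import Groth.Agent.Helper5.GenFib3

set_option autoImplicit false
universe u

namespace Groth.Agent.Helper5.GIrr

open CategoryTheory CategoryTheory.Limits AlgebraicGeometry TopologicalSpace Topology TensorProduct

/-- a point of the generic fibre in `D(b)` from non-nilpotency -/
theorem exists_prime_of_not_isNilpotent {R A : Type u} [CommRing R] [IsDomain R] [CommRing A]
    [Algebra R A] (b : A) (hb : ¬ IsNilpotent (b ⊗ₜ[R] (1 : FractionRing R))) :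
    ∃ 𝔮 : PrimeSpectrum A, b ∉ 𝔮.asIdeal ∧ Ideal.comap (algebraMap R A) 𝔮.asIdeal = ⊥ := by
  have h1 : (b ⊗ₜ[R] (1 : FractionRing R)) ∉ nilradical (A ⊗[R] FractionRing R) := hb
  rw [nilradical_eq_sInf, Ideal.mem_sInf] at h1
  push Not at h1
  obtain ⟨𝔔, h𝔔, hb𝔔⟩ := h1
  haveI : 𝔔.IsPrime := h𝔔
  refine ⟨⟨Ideal.comap (algebraMap A (A ⊗[R] FractionRing R)) 𝔔, Ideal.comap_isPrime _ _⟩, hb𝔔, ?_⟩
  rw [eq_bot_iff]
  intro r hr
  rw [Ideal.mem_bot]
  by_contra hr0
  have h2 : algebraMap A (A ⊗[R] FractionRing R) (algebraMap R A r) ∈ 𝔔 := hr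
  have h3 : algebraMap A (A ⊗[R] FractionRing R) (algebraMap R A r) =
      (1 : A) ⊗ₜ[R] (algebraMap R (FractionRing R) r) := by
    show (algebraMap R A r) ⊗ₜ[R] (1 : FractionRing R) = _
    rw [Algebra.algebraMap_eq_smul_one, TensorProduct.smul_tmul, ← Algebra.algebraMap_eq_smul_one]
  rw [h3] at h2
  have h4 : IsUnit (algebraMap R (FractionRing R) r) :=
    isUnit_iff_ne_zero.2 (fun h => hr0 ((IsFractionRing.injective R (FractionRing R)) (by rw [h, map_zero])))
  have h5 : IsUnit ((1 : A) ⊗ₜ[R] (algebraMap R (FractionRing R) r)) :=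
    h4.map (Algebra.TensorProduct.includeRight : FractionRing R →ₐ[R] A ⊗[R] FractionRing R)
  exact (Ideal.IsPrime.ne_top h𝔔) (Ideal.eq_top_of_isUnit_mem _ h2 h5)

end Groth.Agent.Helper5.GIrr
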