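import Mathlib
import Groth.Agent.Helper5.GIrrN
import Groth.Agent.Helper5.GenFib1

set_option autoImplicit false
universe u

namespace Groth.Agent.Helper5.GIrr

open CategoryTheory CategoryTheory.Limits AlgebraicGeometry TopologicalSpace Topology TensorProduct

set_option maxHeartbeats 3200000 in
theorem affine_closed_case (R : CommRingCat.{u}) [IsDomain R] [IsAlgClosed (FractionRing R)]
    {X : Scheme.{u}} (f : X ⟶ Spec R) [LocallyOfFiniteType f] [QuasiCompact f]
    (hgen : GeometricallyIrreducible (f.fiberToSpecResidueField (genericPoint ↥(Spec R)))) :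
    ∃ g : R, g ≠ 0 ∧ ∀ y : ↥(Spec R), g ∉ y.asIdeal →
      GeometricallyIrreducible (f.fiberToSpecResidueField y) := by
  classical
  set η := genericPoint ↥(Spec R) with hη
  haveI : IrreducibleSpace ↥(f.fiber η) :=
    GeometricallyIrreducible.irreducibleSpace_of_subsingleton (f := f.fiberToSpecResidueField η)
  -- a point over the generic point and an affine neighbourhood
  obtain ⟨p₀⟩ : Nonempty ↥(f.fiber η) := inferInstance
  let x₀ : X := f.fiberι η p₀
  have hx₀ : f x₀ = η := by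
    have : x₀ ∈ Set.range (f.fiberι η) := ⟨p₀, rfl⟩
    rw [Scheme.Hom.range_fiberι] at this
    exact this
  obtain ⟨U, hU, hx₀U⟩ : ∃ U : X.Opens, IsAffineOpen U ∧ x₀ ∈ U := by
    obtain ⟨_, ⟨U, hU, rfl⟩, hxU, -⟩ :=
      (X.isBasis_affineOpens).exists_subset_of_mem_open (Set.mem_univ x₀) isOpen_univ
    exact ⟨U, hU, hxU⟩
  let A : CommRingCat.{u} := Γ(X, U)
  let j : Spec A ⟶ X := hU.fromSpec
  have hjrange : Set.range j = U := hU.range_fromSpec
  letI : Algebra R A := (Spec.preimage (j ≫ f)).hom.toAlgebra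
  have e1 : Spec.map (CommRingCat.ofHom (algebraMap R A)) = j ≫ f := Spec.map_preimage _
  haveI : Algebra.FiniteType R A := by
    have h1 : LocallyOfFiniteType (j ≫ f) := inferInstance
    rw [← Spec.map_preimage (j ≫ f), HasRingHomProperty.Spec_iff (P := @LocallyOfFiniteType)] at h1
    exact (RingHom.finiteType_algebraMap (A := R) (B := A)).1 h1
  -- the generic fibre of the chart
  let K := FractionRing R
  let aK : Spec (CommRingCat.of K) ⟶ Spec R := Spec.map (CommRingCat.ofHom (algebraMap R K))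
  have haK : aK (IsLocalRing.closedPoint K) = η := by
    rw [hη, genericPoint_eq_bot_of_affine]
    apply PrimeSpectrum.ext
    show Ideal.comap (algebraMap R K) (IsLocalRing.closedPoint K).asIdeal = ⊥
    have : (IsLocalRing.closedPoint K).asIdeal = ⊥ := by
      show IsLocalRing.maximalIdeal K = ⊥
      exact IsLocalRing.maximalIdeal_eq_bot
    rw [this]
    exact Ideal.comap_bot_of_injective _ (IsFractionRing.injective R K)
  haveI : IrreducibleSpace ↥(pullback f aK) := irreducible_pullback_of_fiber f η hgen K aK haK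
  have hirrK : IrreducibleSpace (PrimeSpectrum (A ⊗[R] K)) := by
    let mK : pullback (j ≫ f) aK ⟶ pullback f aK :=
      pullback.map (j ≫ f) aK f aK j (𝟙 _) (𝟙 _) (by simp) (by simp)
    have : IsOpenImmersion mK := by
      dsimp only [mK]
      infer_instance
    obtain ⟨s₀, hs₀⟩ : x₀ ∈ Set.range j := by rw [hjrange]; exact hx₀U
    have hs₀' : (j ≫ f) s₀ = aK (IsLocalRing.closedPoint K) := by
      rw [Scheme.Hom.comp_apply, hs₀, hx₀, haK]
    obtain ⟨z, -, -⟩ := Scheme.Pullback.exists_preimage_pullback (f := j ≫ f) (g := aK) s₀ _ hs₀'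
    haveI : Nonempty ↥(pullback (j ≫ f) aK) := ⟨z⟩
    have h1 : IrreducibleSpace ↥(pullback (j ≫ f) aK) := mK.isOpenEmbedding.irreducibleSpace
    rw [← e1] at h1
    exact ((pullbackSpecIso R A K).hom.homeomorph.irreducibleSpace_iff).1 h1
  obtain ⟨g₁, hg₁, b, hb, hcore⟩ := ring_core_irr R A hirrK
  let Ab := Localization.Away b
  let ib : Spec (CommRingCat.of Ab) ⟶ Spec A := Spec.map (CommRingCat.ofHom (algebraMap A Ab))
  haveI : IsOpenImmersion ib := by
    dsimp only [ib]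
    infer_instance
  let jb : Spec (CommRingCat.of Ab) ⟶ X := ib ≫ j
  have hjb : jb ≫ f = Spec.map (CommRingCat.ofHom (algebraMap R Ab)) := by
    show (ib ≫ j) ≫ f = _
    rw [Category.assoc, ← e1]
    show Spec.map (CommRingCat.ofHom (algebraMap A Ab)) ≫ Spec.map (CommRingCat.ofHom (algebraMap R A)) = _
    rw [← Spec.map_comp, ← CommRingCat.ofHom_comp, ← IsScalarTower.algebraMap_eq]
  let W : Set X := Set.range jb
  have hWopen : IsOpen W := jb.isOpenEmbedding.isOpen_range
  -- a point of `W` over the generic point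
  have hWη : ∃ x ∈ W, f x = η := by
    obtain ⟨𝔮, hb𝔮, h𝔮⟩ := exists_prime_of_not_isNilpotent (R := R) (A := A) b hb
    have h1 : 𝔮 ∈ Set.range (PrimeSpectrum.comap (algebraMap A Ab)) := by
      rw [PrimeSpectrum.localization_away_comap_range Ab b]
      exact hb𝔮
    obtain ⟨s', hs'⟩ := h1
    refine ⟨jb s', ⟨s', rfl⟩, ?_⟩
    have h2 : f (jb s') = (jb ≫ f) s' := (Scheme.Hom.comp_apply _ _ _).symm
    rw [h2, hjb, hη, genericPoint_eq_bot_of_affine]
    apply PrimeSpectrum.ext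
    show Ideal.comap (algebraMap R Ab) s'.asIdeal = ⊥
    rw [IsScalarTower.algebraMap_eq R A Ab, ← Ideal.comap_comap]
    have h3 : Ideal.comap (algebraMap A Ab) s'.asIdeal = 𝔮.asIdeal := congrArg PrimeSpectrum.asIdeal hs'
    rw [h3, h𝔮]
  -- nowhere density on the generic fibre
  have hnd : IsNowhereDense ((f.fiberι η) ⁻¹' Wᶜ) := by
    have hcl : IsClosed ((f.fiberι η) ⁻¹' Wᶜ) := (hWopen.isClosed_compl).preimage (f.fiberι η).continuous
    rw [hcl.isNowhereDense_iff]
    have hop : IsOpen ((f.fiberι η) ⁻¹' W) := hWopen.preimage (f.fiberι η).continuous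
    have hne : ((f.fiberι η) ⁻¹' W).Nonempty := by
      obtain ⟨x, hxW, hxη⟩ := hWη
      have : x ∈ Set.range (f.fiberι η) := by rw [Scheme.Hom.range_fiberι]; exact hxη
      obtain ⟨p, hp⟩ := this
      exact ⟨p, by rw [Set.mem_preimage, hp]; exact hxW⟩
    have hd : Dense ((f.fiberι η) ⁻¹' W) := hop.dense hne
    rw [Set.preimage_compl]
    exact interior_eq_empty_iff_dense_compl.2 (by rwa [compl_compl])
  obtain ⟨V₂, hV₂ne, hV₂⟩ := Groth.Agent.Helper5.GenFib.s1298 f Wᶜ hWopen.isClosed_compl hnd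
  -- non-emptiness of the fibres of `W`
  let Ared : CommRingCat.{u} := CommRingCat.of (Ab ⧸ nilradical Ab)
  let πr : CommRingCat.of Ab ⟶ Ared := CommRingCat.ofHom (Ideal.Quotient.mk (nilradical Ab))
  have hπrsurj : Function.Surjective πr.hom := Ideal.Quotient.mk_surjective
  let ir : Spec Ared ⟶ Spec (CommRingCat.of Ab) := Spec.map πr
  have hirsurj : Function.Surjective ir := by
    intro p
    have hp : p ∈ Set.range (PrimeSpectrum.comap πr.hom) := by
      rw [range_comap_of_surjective _ _ hπrsurj]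
      intro x hx
      have hx' : x ∈ nilradical Ab := by
        have : πr.hom x = 0 := hx
        exact Ideal.Quotient.eq_zero_iff_mem.1 this
      exact nilradical_le_prime p.asIdeal hx'
    exact hp
  haveI : IsClosedImmersion ir := IsClosedImmersion.spec_of_surjective πr hπrsurj
  let gT : Spec Ared ⟶ Spec R := ir ≫ jb ≫ f
  haveI : IsReduced (Spec Ared) := by
    haveI : _root_.IsReduced (Ab ⧸ nilradical Ab) :=
      (Ideal.isRadical_iff_quotient_reduced _).1 (Ideal.radical_isRadical (⊥ : Ideal Ab))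
    infer_instance
  have hηT : genericPoint ↥(Spec R) ∈ Set.range gT := by
    obtain ⟨x, ⟨s', rfl⟩, hxη⟩ := hWη
    obtain ⟨t, rfl⟩ := hirsurj s'
    refine ⟨t, ?_⟩
    show (ir ≫ jb ≫ f) t = _
    rw [Scheme.Hom.comp_apply, Scheme.Hom.comp_apply]
    exact hxη
  obtain ⟨V₃, hV₃ne, hV₃⟩ := Groth.Agent.Helper5.GenFib.exists_open_subset_range gT hηT
  have hV₃' : ∀ y ∈ V₃, ∃ x ∈ W, f x = y := by
    intro y hy
    obtain ⟨t, rfl⟩ := hV₃ hy
    refine ⟨jb (ir t), ⟨ir t, rfl⟩, ?_⟩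
    show _ = (ir ≫ jb ≫ f) t
    rw [Scheme.Hom.comp_apply, Scheme.Hom.comp_apply]
    rfl
  -- a basic open inside everything
  have hηV₂ : η ∈ (V₂ : Set ↥(Spec R)) := by
    rw [hη]
    exact (genericPoint_spec ↥(Spec R)).mem_open_set_iff V₂.2 |>.2 (by simpa using hV₂ne)
  have hηV₃ : η ∈ (V₃ : Set ↥(Spec R)) := by
    rw [hη]
    exact (genericPoint_spec ↥(Spec R)).mem_open_set_iff V₃.2 |>.2 (by simpa using hV₃ne)
  have hopen : IsOpen ((V₂ : Set ↥(Spec R)) ∩ (V₃ : Set ↥(Spec R))) := V₂.2.inter V₃.2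
  obtain ⟨_, ⟨_, ⟨g₂, rfl⟩, rfl⟩, hηg₂, hg₂sub⟩ :=
    (PrimeSpectrum.isBasis_basic_opens (R := R)).exists_subset_of_mem_open
      (show η ∈ (V₂ : Set ↥(Spec R)) ∩ (V₃ : Set ↥(Spec R)) from ⟨hηV₂, hηV₃⟩) hopen
  have hg₂ : g₂ ≠ 0 := by
    intro h0
    have : g₂ ∉ η.asIdeal := hηg₂
    rw [h0] at this
    exact this (Ideal.zero_mem _)
  refine ⟨g₁ * g₂, mul_ne_zero hg₁ hg₂, ?_⟩
  intro y hy
  have hyg₁ : g₁ ∉ y.asIdeal := fun h => hy (Ideal.mul_mem_right _ _ h)
  have hyg₂ : g₂ ∉ y.asIdeal := fun h => hy (Ideal.mul_mem_left _ _ h)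
  have hyV : y ∈ (V₂ : Set ↥(Spec R)) ∩ (V₃ : Set ↥(Spec R)) := hg₂sub hyg₂
  apply geometricallyIrreducible_fiber_of_forall
  intro Ω _ a ha
  obtain ⟨α, rfl⟩ := Spec.map_surjective a
  letI : Algebra R Ω := α.hom.toAlgebra
  have hαg₁ : algebraMap R Ω g₁ ≠ 0 := by
    intro h0
    apply hyg₁
    rw [← ha]
    show g₁ ∈ Ideal.comap α.hom (IsLocalRing.closedPoint Ω).asIdeal
    rw [Ideal.mem_comap]
    have : α.hom g₁ = 0 := h0
    rw [this]
    exact Ideal.zero_mem _
  have h1 : PreirreducibleSpace (PrimeSpectrum (Ω ⊗[R] Ab)) := hcore Ω hαg₁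
  have h2 : PreirreducibleSpace (PrimeSpectrum (Ab ⊗[R] Ω)) :=
    preirr_of_ringEquiv (Algebra.TensorProduct.comm R Ab Ω).toRingEquiv
  have h3 : IsPreirreducible ((pullback.fst f (Spec.map α)) ⁻¹' W) :=
    isPreirreducible_preimage_of_tensor (R := R) (S := Ab) (Ω := Ω) f jb hjb h2
  exact irreducible_pullback_of_dense f y W (hV₃' y hyV.2) (hV₂ y hyV.1) Ω (Spec.map α) ha h3

end Groth.Agent.Helper5.GIrr
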