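import Mathlib
import Groth.Agent.Helper5.GIrrO

set_option autoImplicit false
universe u

namespace Groth.Agent.Helper5.GIrr

open CategoryTheory CategoryTheory.Limits AlgebraicGeometry TopologicalSpace Topology TensorProduct

/-- base change invariance of geometric irreducibility of a fibre -/
theorem geomIrr_fiber_iff {X Y X' Y' : Scheme.{u}} {f : X ⟶ Y} {g : Y' ⟶ Y} {f' : X' ⟶ Y'}
    {g' : X' ⟶ X} (hc : IsPullback g' f' f g) (y' : Y') :
    GeometricallyIrreducible (f'.fiberToSpecResidueField y') ↔
      GeometricallyIrreducible (f.fiberToSpecResidueField (g y')) := by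
  simp only [geometricallyIrreducible_iff]
  refine Groth.Agent.Lead.GeomFibre.fibre_iff (fun Z : Scheme.{u} => IrreducibleSpace Z) ?_
    f g f' g' hc y'
  intro A B q _ hs hA
  have h5 : IsIrreducible (Set.range q) := by
    rw [← Set.image_univ]
    exact (IrreducibleSpace.isIrreducible_univ _).image _ q.continuous.continuousOn
  rw [q.surjective.range_eq] at h5
  exact (irreducibleSpace_def _).mpr h5

/-- a nonzero integral element of a domain divides a nonzero element of the base -/
theorem exists_dvd_of_isIntegral {R S : Type u} [CommRing R] [IsDomain R] [CommRing S] [IsDomain S]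
    [Algebra R S] (x : S) (hx : IsIntegral R x) (hx0 : x ≠ 0) :
    ∃ c : R, c ≠ 0 ∧ x ∣ algebraMap R S c := by
  classical
  obtain ⟨p, hpm, hp⟩ := hx
  have hp0 : p ≠ 0 := hpm.ne_zero
  obtain ⟨q, hq, hndvd⟩ := Polynomial.exists_eq_pow_rootMultiplicity_mul_and_not_dvd p hp0 (0 : R)
  rw [map_zero, sub_zero] at hq hndvd
  have hev : Polynomial.eval₂ (algebraMap R S) x q = 0 := by
    have h1 := hp
    rw [hq, Polynomial.eval₂_mul, Polynomial.eval₂_pow, Polynomial.eval₂_X] at h1
    exact (mul_eq_zero.1 h1).resolve_left (pow_ne_zero _ hx0)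
  have hc0 : q.coeff 0 ≠ 0 := fun h => hndvd (Polynomial.X_dvd_iff.2 h)
  have h2 : Polynomial.eval₂ (algebraMap R S) x (q.divX * Polynomial.X + Polynomial.C (q.coeff 0)) = 0 := by
    rw [Polynomial.divX_mul_X_add]; exact hev
  rw [Polynomial.eval₂_add, Polynomial.eval₂_mul, Polynomial.eval₂_X, Polynomial.eval₂_C] at h2
  exact ⟨q.coeff 0, hc0, ⟨-(Polynomial.eval₂ (algebraMap R S) x q.divX), by linear_combination h2⟩⟩

end Groth.Agent.Helper5.GIrr
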