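import Mathlib
import Groth.Agent.Helper5.GIrrP

set_option autoImplicit false
universe u

namespace Groth.Agent.Helper5.GIrr

open CategoryTheory CategoryTheory.Limits AlgebraicGeometry TopologicalSpace Topology TensorProduct

set_option maxHeartbeats 1600000 in
theorem affine_integral_case (R : CommRingCat.{u}) [IsDomain R]
    {X : Scheme.{u}} (f : X ⟶ Spec R) [LocallyOfFiniteType f] [QuasiCompact f]
    (hgen : GeometricallyIrreducible (f.fiberToSpecResidueField (genericPoint ↥(Spec R)))) :
    ∃ g : R, g ≠ 0 ∧ ∀ y : ↥(Spec R), g ∉ y.asIdeal →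
      GeometricallyIrreducible (f.fiberToSpecResidueField y) := by
  classical
  let K := FractionRing R
  let Kbar := AlgebraicClosure K
  let R'ty := integralClosure R Kbar
  let R' : CommRingCat.{u} := CommRingCat.of ↥R'ty
  haveI : Algebra.IsAlgebraic R Kbar :=
    ⟨fun x => (IsFractionRing.isAlgebraic_iff R K Kbar).2 (Algebra.IsAlgebraic.isAlgebraic x)⟩
  have hinjRK : Function.Injective (algebraMap R Kbar) := by
    rw [IsScalarTower.algebraMap_eq R K Kbar]
    exact (algebraMap K Kbar).injective.comp (IsFractionRing.injective R K)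
  haveI : IsFractionRing ↥R'ty Kbar :=
    integralClosure.isFractionRing_of_algebraic (A := R) (L := Kbar)
      (fun x hx => hinjRK (by rw [hx, map_zero]))
  haveI : IsAlgClosed (FractionRing ↥R'ty) :=
    IsAlgClosed.of_ringEquiv (k := Kbar) (FractionRing ↥R'ty)
      (FractionRing.algEquiv ↥R'ty Kbar).symm.toRingEquiv
  haveI : IsAlgClosed (FractionRing ↑R') := ‹IsAlgClosed (FractionRing ↥R'ty)›
  have hinj : Function.Injective (algebraMap R ↥R'ty) := by
    intro x y hxy
    apply hinjRK
    have := congrArg (algebraMap ↥R'ty Kbar) hxy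
    rwa [← IsScalarTower.algebraMap_apply, ← IsScalarTower.algebraMap_apply] at this
  let g : Spec R' ⟶ Spec R := Spec.map (CommRingCat.ofHom (algebraMap R ↥R'ty))
  let f' : pullback f g ⟶ Spec R' := pullback.snd f g
  have sq : IsPullback (pullback.fst f g) f' f g := IsPullback.of_hasPullback f g
  have hgη : g (genericPoint ↥(Spec R')) = genericPoint ↥(Spec R) := by
    rw [genericPoint_eq_bot_of_affine, genericPoint_eq_bot_of_affine]
    apply PrimeSpectrum.ext
    show Ideal.comap (algebraMap R ↥R'ty) ⊥ = ⊥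
    exact Ideal.comap_bot_of_injective _ hinj
  have hgen' : GeometricallyIrreducible (f'.fiberToSpecResidueField (genericPoint ↥(Spec R'))) := by
    rw [geomIrr_fiber_iff sq, hgη]
    exact hgen
  obtain ⟨g', hg'0, Hg'⟩ := affine_closed_case R' f' hgen'
  have hint : IsIntegral R (g' : ↥R'ty) := Algebra.IsIntegral.isIntegral (R := R) (A := ↥R'ty) g'
  obtain ⟨c, hc0, hdvd⟩ := exists_dvd_of_isIntegral (R := R) (S := ↥R'ty) g' hint hg'0
  refine ⟨c, hc0, ?_⟩
  intro y hy
  haveI : y.asIdeal.IsPrime := y.2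
  obtain ⟨Q, -, hQprime, hQ⟩ := Ideal.exists_ideal_over_prime_of_isIntegral (R := R) (S := ↥R'ty)
    y.asIdeal (⊥ : Ideal ↥R'ty) (by
      rw [Ideal.comap_bot_of_injective _ hinj]; exact bot_le)
  let y' : ↥(Spec R') := ⟨Q, hQprime⟩
  have hgy' : g y' = y := PrimeSpectrum.ext hQ
  have hg'y' : g' ∉ y'.asIdeal := by
    intro hmem
    apply hy
    have h1 : algebraMap R ↥R'ty c ∈ Q := by
      obtain ⟨w, hw⟩ := hdvd
      rw [hw]
      exact Q.mul_mem_right _ hmem
    rw [← hQ]
    exact h1
  have := Hg' y' hg'y'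
  rw [geomIrr_fiber_iff sq, hgy'] at this
  exact this

end Groth.Agent.Helper5.GIrr
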