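import Mathlib
import Groth.Agent.Helper5.GIrrQ

set_option autoImplicit false
universe u

namespace Groth.Agent.Helper5.GIrr

open CategoryTheory CategoryTheory.Limits AlgebraicGeometry TopologicalSpace Topology TensorProduct

set_option maxHeartbeats 3200000 in
/-- S0419, pointwise form -/
theorem s0419_pointwise {X Y : Scheme.{u}} (f : X ⟶ Y) [IrreducibleSpace ↑Y]
    [LocallyOfFiniteType f] [QuasiCompact f]
    (h : GeometricallyIrreducible (f.fiberToSpecResidueField (genericPoint ↑Y))) :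
    ∃ V : Y.Opens, (V : Set ↑Y).Nonempty ∧
      ∀ y ∈ V, GeometricallyIrreducible (f.fiberToSpecResidueField y) := by
  let η := genericPoint Y
  obtain ⟨U, hU, hηU⟩ : ∃ U : Y.Opens, IsAffineOpen U ∧ η ∈ U := by
    obtain ⟨_, ⟨U, hU, rfl⟩, hxU, -⟩ :=
      (Y.isBasis_affineOpens).exists_subset_of_mem_open (Set.mem_univ η) isOpen_univ
    exact ⟨U, hU, hxU⟩
  let R₀ : CommRingCat.{u} := Γ(Y, U)
  let j₀ : Spec R₀ ⟶ Y := hU.fromSpec
  have hj₀range : Set.range j₀ = U := hU.range_fromSpec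
  have hne : Nonempty ↥(Spec R₀) := by
    obtain ⟨s, -⟩ : η ∈ Set.range j₀ := by rw [hj₀range]; exact hηU
    exact ⟨s⟩
  have hirr : IrreducibleSpace ↥(Spec R₀) := by
    have h1 : IsPreirreducible (j₀ ⁻¹' (Set.univ : Set Y)) :=
      (PreirreducibleSpace.isPreirreducible_univ (X := Y)).preimage j₀.isOpenEmbedding
    rw [Set.preimage_univ] at h1
    have : PreirreducibleSpace ↥(Spec R₀) := ⟨h1⟩
    exact IrreducibleSpace.mk hne
  have hprime : (nilradical ↑R₀).IsPrime :=
    PrimeSpectrum.irreducibleSpace_iff_isPrime_nilradical.1 hirr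
  let R : CommRingCat.{u} := CommRingCat.of (↑R₀ ⧸ nilradical ↑R₀)
  haveI : IsDomain ↑R := Ideal.Quotient.isDomain _
  let π : R₀ ⟶ R := CommRingCat.ofHom (Ideal.Quotient.mk (nilradical ↑R₀))
  have hπsurj : Function.Surjective π.hom := Ideal.Quotient.mk_surjective
  let ι₁ : Spec R ⟶ Spec R₀ := Spec.map π
  have hι₁surj : Function.Surjective ι₁ := by
    intro p
    have hp : p ∈ Set.range (PrimeSpectrum.comap π.hom) := by
      rw [range_comap_of_surjective _ _ hπsurj]
      intro x hx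
      have hx' : x ∈ nilradical ↑R₀ := by
        have : π.hom x = 0 := hx
        exact Ideal.Quotient.eq_zero_iff_mem.1 this
      exact nilradical_le_prime p.asIdeal hx'
    exact hp
  let j : Spec R ⟶ Y := ι₁ ≫ j₀
  have hjrange : Set.range j = U := by
    show Set.range (ι₁ ≫ j₀) = U
    rw [Scheme.Hom.comp_base, TopCat.coe_comp, Set.range_comp, hι₁surj.range_eq, Set.image_univ]
    exact hj₀range
  have hjgen : j (genericPoint ↥(Spec R)) = η := by
    have h1 : IsGenericPoint (j (genericPoint ↥(Spec R))) (closure (Set.range j)) := by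
      have := (genericPoint_spec ↥(Spec R)).image j.continuous
      simpa [Set.image_univ] using this
    have h2 : closure (Set.range j) = Set.univ := by
      rw [hjrange]
      exact (U.2.dense ⟨η, hηU⟩).closure_eq
    rw [h2] at h1
    exact h1.eq (genericPoint_spec Y)
  let f₁ : pullback f j ⟶ Spec R := pullback.snd f j
  have sq : IsPullback (pullback.fst f j) f₁ f j := IsPullback.of_hasPullback f j
  have hgen₁ : GeometricallyIrreducible (f₁.fiberToSpecResidueField (genericPoint ↥(Spec R))) := by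
    rw [geomIrr_fiber_iff sq, hjgen]
    exact h
  obtain ⟨g, hg0, Hg⟩ := affine_integral_case R f₁ hgen₁
  obtain ⟨g₀, hg₀⟩ := hπsurj g
  let V₀ : Set ↥(Spec R₀) := (PrimeSpectrum.basicOpen g₀ : Set (PrimeSpectrum ↑R₀))
  have hV₀open : IsOpen V₀ := (PrimeSpectrum.basicOpen g₀).2
  refine ⟨⟨j₀ '' V₀, j₀.isOpenEmbedding.isOpenMap _ hV₀open⟩, ?_, ?_⟩
  · refine ⟨j₀ (ι₁ (genericPoint ↥(Spec R))), ι₁ (genericPoint ↥(Spec R)), ?_, rfl⟩
    show g₀ ∉ (ι₁ (genericPoint ↥(Spec R))).asIdeal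
    rw [genericPoint_eq_bot_of_affine]
    show ¬ (π.hom g₀ ∈ (⊥ : Ideal ↑R))
    rw [hg₀, Ideal.mem_bot]
    exact hg0
  · rintro _ ⟨y₀, hy₀, rfl⟩
    obtain ⟨y₁, rfl⟩ := hι₁surj y₀
    have hgy₁ : g ∉ y₁.asIdeal := by
      intro hmem
      apply hy₀
      show π.hom g₀ ∈ y₁.asIdeal
      rw [hg₀]
      exact hmem
    have h1 : GeometricallyIrreducible (f₁.fiberToSpecResidueField y₁) := Hg y₁ hgy₁
    exact (geomIrr_fiber_iff sq y₁).1 h1

/-- S0419 -/
theorem s0419 {X Y : Scheme.{u}} (f : X ⟶ Y) [IrreducibleSpace ↑Y]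
    [LocallyOfFiniteType f] [QuasiCompact f]
    (h : GeometricallyIrreducible (f.fiberToSpecResidueField (genericPoint ↑Y))) :
    ∃ V : Y.Opens, (V : Set ↑Y).Nonempty ∧ GeometricallyIrreducible (f ∣_ V) := by
  obtain ⟨V, hVne, hV⟩ := s0419_pointwise f h
  refine ⟨V, hVne, ?_⟩
  rw [GeometricallyIrreducible.iff_geometricallyIrreducible_fiber]
  intro y
  have sqV : IsPullback (f ⁻¹ᵁ V).ι (f ∣_ V) f V.ι := (isPullback_morphismRestrict f V).flip
  exact (geomIrr_fiber_iff sqV y).2 (hV (V.ι y) y.2)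

end Groth.Agent.Helper5.GIrr
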