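import Mathlib
import Groth.Agent.Helper5.GCntA
import Groth.Agent.Helper5.GCntC
import Groth.Agent.Helper5.GIrrR
import Groth.Agent.S2500

set_option autoImplicit false
set_option linter.style.haveILetI false
universe u

namespace Groth.Agent.Helper5.GCnt

open AlgebraicGeometry CategoryTheory CategoryTheory.Limits TopologicalSpace Topology
open Groth.Agent.Helper5.GenFib

theorem irreducibleSpace_of_isInducing {A B : Type*} [TopologicalSpace A] [TopologicalSpace B]
    (j : A → B) (hj : IsInducing j) (ζ : A) (h : Set.range j ⊆ closure {j ζ}) :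
    IrreducibleSpace A := by
  have h1 : closure ({ζ} : Set A) = Set.univ := by
    rw [hj.closure_eq_preimage_closure_image, Set.image_singleton]
    apply Set.eq_univ_of_forall
    intro x
    exact h ⟨x, rfl⟩
  rw [irreducibleSpace_def]
  show IsIrreducible (Set.univ : Set A)
  rw [← h1]
  exact isIrreducible_singleton.closure

/-- the preimage, in a geometric fibre, of a closed subset whose reduced subscheme has a
geometrically irreducible fibre is irreducible -/
theorem isIrreducible_preimage_of_geomIrr {X Y : Scheme.{u}} (f : X ⟶ Y) (E : Set X)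
    (hE : IsClosed E) (y : Y)
    (hgeo : GeometricallyIrreducible
      (((Scheme.IdealSheafData.vanishingIdeal (⟨E, hE⟩ : Closeds X)).subschemeι ≫ f).fiberToSpecResidueField y))
    (Ω : Type u) [Field Ω] (a : Spec (CommRingCat.of Ω) ⟶ Y)
    (ha : a (IsLocalRing.closedPoint Ω) = y) :
    IsIrreducible ((pullback.fst f a) ⁻¹' E) := by
  let C : Closeds X := ⟨E, hE⟩
  let I := Scheme.IdealSheafData.vanishingIdeal C
  have hrange : Set.range I.subschemeι = E := by
    rw [Scheme.IdealSheafData.range_subschemeι, Scheme.IdealSheafData.coe_support_vanishingIdeal]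
    rfl
  let ι := I.subschemeι
  let q := pullback.fst f a
  have big : IsPullback (pullback.fst ι q) (pullback.snd ι q ≫ pullback.snd f a) (ι ≫ f) a :=
    (IsPullback.of_hasPullback ι q).paste_vert (IsPullback.of_hasPullback f a)
  haveI h1 : IrreducibleSpace ↥(pullback (ι ≫ f) a) :=
    Groth.Agent.Helper5.GIrr.irreducible_pullback_of_fiber (ι ≫ f) y hgeo Ω a ha
  haveI h2 : IrreducibleSpace ↥(pullback ι q) :=
    (big.isoPullback.hom.homeomorph.irreducibleSpace_iff).2 h1
  have h3 : Set.range (pullback.snd ι q) = q ⁻¹' E := by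
    rw [Scheme.Pullback.range_snd, hrange]
  rw [← h3, ← Set.image_univ]
  exact (IrreducibleSpace.isIrreducible_univ _).image _ (pullback.snd ι q).continuous.continuousOn

/-- over an algebraically closed residue field, the reduced closure of a point has geometrically
irreducible fibre over the image of that point -/
theorem geomIrr_closure {X Y : Scheme.{u}} (f : X ⟶ Y) (ξ : X)
    [IsAlgClosed (Y.residueField (f ξ))] :
    GeometricallyIrreducible
      (((Scheme.IdealSheafData.vanishingIdeal
        (⟨closure {ξ}, isClosed_closure⟩ : Closeds X)).subschemeι ≫ f).fiberToSpecResidueField (f ξ)) := by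
  let C : Closeds X := ⟨closure {ξ}, isClosed_closure⟩
  let I := Scheme.IdealSheafData.vanishingIdeal C
  have hrange : Set.range I.subschemeι = closure {ξ} := by
    rw [Scheme.IdealSheafData.range_subschemeι, Scheme.IdealSheafData.coe_support_vanishingIdeal]
    rfl
  let ι := I.subschemeι
  let g := ι ≫ f
  obtain ⟨z, hz⟩ : ξ ∈ Set.range ι := by rw [hrange]; exact subset_closure rfl
  have hgz : g z = f ξ := by
    show (ι ≫ f) z = f ξ
    rw [Scheme.Hom.comp_apply, hz]
  obtain ⟨ζ, hζ⟩ : z ∈ Set.range (g.fiberι (f ξ)) := by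
    rw [Scheme.Hom.range_fiberι]; exact hgz
  haveI : IrreducibleSpace ↥(g.fiber (f ξ)) := by
    refine irreducibleSpace_of_isInducing (fun p => ι (g.fiberι (f ξ) p))
      (ι.isEmbedding.isInducing.comp (g.fiberι (f ξ)).isEmbedding.isInducing) ζ ?_
    rintro _ ⟨p, rfl⟩
    show ι (g.fiberι (f ξ) p) ∈ closure {ι (g.fiberι (f ξ) ζ)}
    rw [hζ, hz, ← hrange]
    exact ⟨_, rfl⟩
  exact Groth.Agent.S2500.result (k := Y.residueField (f ξ)) (g.fiberToSpecResidueField (f ξ))

end Groth.Agent.Helper5.GCnt
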