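import Mathlib
import Groth.Agent.Helper5.GCntD

set_option autoImplicit false
set_option linter.style.haveILetI false
universe u

namespace Groth.Agent.Helper5.GCnt

open AlgebraicGeometry CategoryTheory CategoryTheory.Limits TopologicalSpace Topology
open Groth.Agent.Helper5.GenFib

set_option maxHeartbeats 1600000 in
/-- the structure of the geometric fibres near the generic point, when the residue field of the
generic point is algebraically closed -/
theorem core {X Y : Scheme.{u}} (f : X ⟶ Y) [IrreducibleSpace ↑Y] [LocallyOfFiniteType f]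
    [QuasiCompact f] [IsAlgClosed (Y.residueField (genericPoint ↑Y))] :
    ∃ V : Y.Opens, (V : Set ↑Y).Nonempty ∧ ∃ (n : ℕ) (r : Fin n → Fin n → Prop),
      ∀ y ∈ V, ∀ (Ω : Type u) [Field Ω] (a : Spec (CommRingCat.of Ω) ⟶ Y),
        a (IsLocalRing.closedPoint Ω) = y →
        ∃ T : Fin n → Set ↥(pullback f a), (∀ i, IsClosed (T i)) ∧ (∀ i, IsIrreducible (T i)) ∧
          (⋃ i, T i = Set.univ) ∧ (∀ i, ∃ t ∈ T i, ∀ k, t ∈ T k → i = k) ∧
          (∀ i k, (T i ∩ T k).Nonempty ↔ r i k) := by
  classical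
  set η := genericPoint ↑Y with hηdef
  obtain ⟨n, ξ, h1, h2, h3⟩ := exists_decomp f
  obtain ⟨V₁, hV₁ne, r, hV₁⟩ := exists_open_pattern f n ξ h1 h2 h3
  have key : ∀ i, GeometricallyIrreducible
      (((Scheme.IdealSheafData.vanishingIdeal
        (⟨closure {ξ i}, isClosed_closure⟩ : Closeds X)).subschemeι ≫ f).fiberToSpecResidueField η) := by
    intro i
    have hi := h1 i
    haveI : IsAlgClosed (Y.residueField (f (ξ i))) := by rw [hi]; infer_instance
    have := geomIrr_closure f (ξ i)
    rwa [hi] at this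
  have hVi : ∀ i, ∃ V : Y.Opens, (V : Set ↑Y).Nonempty ∧ ∀ y ∈ V, GeometricallyIrreducible
      (((Scheme.IdealSheafData.vanishingIdeal
        (⟨closure {ξ i}, isClosed_closure⟩ : Closeds X)).subschemeι ≫ f).fiberToSpecResidueField y) :=
    fun i => Groth.Agent.Helper5.GIrr.s0419_pointwise _ (key i)
  choose Vi hVine hVi using hVi
  refine ⟨⟨(V₁ : Set Y) ∩ ⋂ i, (Vi i : Set Y),
    V₁.2.inter (isOpen_iInter_of_finite fun i => (Vi i).2)⟩, ?_, n, r, ?_⟩
  · refine ⟨η, genericPoint_mem_of_isOpen _ V₁.2 hV₁ne, Set.mem_iInter.2 fun i => ?_⟩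
    exact genericPoint_mem_of_isOpen _ (Vi i).2 (hVine i)
  · rintro y ⟨hy₁, hyi⟩ Ω _ a ha
    obtain ⟨hcov, hsep, hpat⟩ := hV₁ y hy₁
    let q := pullback.fst f a
    have hall : ∀ s : ↥(Spec (CommRingCat.of Ω)), a s = y := by
      intro s
      have : s = IsLocalRing.closedPoint Ω := Subsingleton.elim _ _
      rw [this, ha]
    have hfq : ∀ t : ↥(pullback f a), f (q t) = y := by
      intro t
      rw [← Scheme.Hom.comp_apply, pullback.condition, Scheme.Hom.comp_apply]
      exact hall _
    have hlift : ∀ x : X, f x = y → ∃ t : ↥(pullback f a), q t = x := by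
      intro x hx
      obtain ⟨t, ht, -⟩ := Scheme.Pullback.exists_preimage_pullback (f := f) (g := a) x
        (IsLocalRing.closedPoint Ω) (by rw [hx, ha])
      exact ⟨t, ht⟩
    refine ⟨fun i => q ⁻¹' closure {ξ i}, fun i => isClosed_closure.preimage q.continuous, ?_, ?_, ?_, ?_⟩
    · intro i
      exact isIrreducible_preimage_of_geomIrr f (closure {ξ i}) isClosed_closure y
        (hVi i y (Set.mem_iInter.1 hyi i)) Ω a ha
    · apply Set.eq_univ_of_forall
      intro t
      obtain ⟨i, hi⟩ := Set.mem_iUnion.1 (hcov (hfq t))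
      exact Set.mem_iUnion.2 ⟨i, hi⟩
    · intro i
      obtain ⟨x, hx, hxi, hxk⟩ := hsep i
      obtain ⟨t, ht⟩ := hlift x hx
      refine ⟨t, ?_, ?_⟩
      · show q t ∈ closure {ξ i}
        rw [ht]; exact hxi
      · intro k hk
        apply hxk k
        rw [← ht]; exact hk
    · intro i k
      rw [← hpat i k]
      constructor
      · rintro ⟨t, hti, htk⟩
        exact ⟨q t, hfq t, hti, htk⟩
      · rintro ⟨x, hx, hxi, hxk⟩
        obtain ⟨t, ht⟩ := hlift x hx
        refine ⟨t, ?_, ?_⟩
        · show q t ∈ closure {ξ i}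
          rw [ht]; exact hxi
        · show q t ∈ closure {ξ k}
          rw [ht]; exact hxk

end Groth.Agent.Helper5.GCnt
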