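import Mathlib
import Groth.Prelude
import Groth.Agent.Helper5.GCntB
import Groth.Agent.Helper5.GCntE

set_option autoImplicit false
set_option linter.style.haveILetI false
universe u

namespace Groth.Agent.Helper5.GCnt

open AlgebraicGeometry CategoryTheory CategoryTheory.Limits TopologicalSpace Topology
open Groth.Agent.Helper5.GenFib

/-- a finite irredundant cover by irreducible closed sets with prescribed intersection pattern -/
def HasPattern (F : Type*) [TopologicalSpace F] (n : ℕ) (r : Fin n → Fin n → Prop) : Prop :=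
  ∃ T : Fin n → Set F, (∀ i, IsClosed (T i)) ∧ (∀ i, IsIrreducible (T i)) ∧
    (⋃ i, T i = Set.univ) ∧ (∀ i, ∃ t ∈ T i, ∀ k, t ∈ T k → i = k) ∧
    (∀ i k, (T i ∩ T k).Nonempty ↔ r i k)

theorem HasPattern.of_homeomorph {A B : Type*} [TopologicalSpace A] [TopologicalSpace B]
    (h : A ≃ₜ B) {n : ℕ} {r : Fin n → Fin n → Prop} (hB : HasPattern B n r) : HasPattern A n r := by
  obtain ⟨T, hcl, hirr, hcov, hsep, hpat⟩ := hB
  refine ⟨fun i => h ⁻¹' T i, fun i => (hcl i).preimage h.continuous, ?_, ?_, ?_, ?_⟩
  · intro i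
    rw [← h.image_symm]
    exact (hirr i).image _ h.symm.continuous.continuousOn
  · rw [← Set.preimage_iUnion, hcov, Set.preimage_univ]
  · intro i
    obtain ⟨t, ht, htk⟩ := hsep i
    refine ⟨h.symm t, ?_, ?_⟩
    · show h (h.symm t) ∈ T i
      rw [h.apply_symm_apply]; exact ht
    · intro k hk
      apply htk k
      have : h (h.symm t) ∈ T k := hk
      rwa [h.apply_symm_apply] at this
  · intro i k
    rw [← hpat i k]
    constructor
    · rintro ⟨x, hxi, hxk⟩
      exact ⟨h x, hxi, hxk⟩
    · rintro ⟨t, hti, htk⟩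
      refine ⟨h.symm t, ?_, ?_⟩
      · show h (h.symm t) ∈ T i
        rw [h.apply_symm_apply]; exact hti
      · show h (h.symm t) ∈ T k
        rw [h.apply_symm_apply]; exact htk

theorem HasPattern.encard {F : Type*} [TopologicalSpace F] {n : ℕ} {r : Fin n → Fin n → Prop}
    (hF : HasPattern F n r) : (irreducibleComponents F).encard = n := by
  obtain ⟨T, hcl, hirr, hcov, hsep, -⟩ := hF
  exact encard_irreducibleComponents_eq n T hcl hirr hcov hsep

theorem HasPattern.card_eq {F F' : Type*} [TopologicalSpace F] [TopologicalSpace F'] {n : ℕ}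
    {r : Fin n → Fin n → Prop} (hF : HasPattern F n r) (hF' : HasPattern F' n r) :
    ENat.card (ConnectedComponents F) = ENat.card (ConnectedComponents F') := by
  obtain ⟨T, hcl, hirr, hcov, -, hpat⟩ := hF
  obtain ⟨T', hcl', hirr', hcov', -, hpat'⟩ := hF'
  exact card_connectedComponents_eq_of_pattern n T T' hcl hcl'
    (fun i => (hirr i).isConnected) (fun i => (hirr' i).isConnected) hcov hcov'
    (fun i k => (hpat i k).trans (hpat' i k).symm)

/-- the geometric fibres near the generic point all have the same pattern, when the residue field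
of the generic point is algebraically closed -/
theorem geomFiber_hasPattern {X Y : Scheme.{u}} (f : X ⟶ Y) [IrreducibleSpace ↑Y]
    [LocallyOfFiniteType f] [QuasiCompact f] [IsAlgClosed (Y.residueField (genericPoint ↑Y))] :
    ∃ V : Y.Opens, (V : Set ↑Y).Nonempty ∧ ∃ (n : ℕ) (r : Fin n → Fin n → Prop),
      ∀ y ∈ V, HasPattern ↥(MoreMor.geomFiber f y) n r := by
  obtain ⟨V, hVne, n, r, hV⟩ := core f
  refine ⟨V, hVne, n, r, fun y hy => ?_⟩
  let φ : Y.residueField y ⟶ CommRingCat.of (SeparableClosure (Y.residueField y)) :=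
    CommRingCat.ofHom (algebraMap (Y.residueField y) (SeparableClosure (Y.residueField y)))
  let a : Spec (CommRingCat.of (SeparableClosure (Y.residueField y))) ⟶ Y :=
    Spec.map φ ≫ Y.fromSpecResidueField y
  have ha : a (IsLocalRing.closedPoint (SeparableClosure (Y.residueField y))) = y := by
    show (Spec.map φ ≫ Y.fromSpecResidueField y) _ = y
    rw [Scheme.Hom.comp_apply]
    exact Scheme.fromSpecResidueField_apply y _
  have h1 : HasPattern ↥(pullback f a) n r := hV y hy _ a ha
  let e : MoreMor.geomFiber f y ≅ pullback f a :=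
    pullbackLeftPullbackSndIso f (Y.fromSpecResidueField y) (Spec.map φ)
  exact h1.of_homeomorph e.hom.homeomorph

/-- constancy of the numbers of geometric irreducible and connected components near the generic
point, when the residue field of the generic point is algebraically closed -/
theorem counts_const_of_isAlgClosed {X Y : Scheme.{u}} (f : X ⟶ Y) [IrreducibleSpace ↑Y]
    [LocallyOfFiniteType f] [QuasiCompact f] [IsAlgClosed (Y.residueField (genericPoint ↑Y))] :
    ∃ V : Y.Opens, (V : Set ↑Y).Nonempty ∧ ∀ y ∈ V,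
      MoreMor.nGeomIrredComp f y = MoreMor.nGeomIrredComp f (genericPoint ↑Y) ∧
      MoreMor.nGeomConnComp f y = MoreMor.nGeomConnComp f (genericPoint ↑Y) := by
  obtain ⟨V, hVne, n, r, hV⟩ := geomFiber_hasPattern f
  have hη : genericPoint ↑Y ∈ V := genericPoint_mem_of_isOpen _ V.2 hVne
  refine ⟨V, hVne, fun y hy => ⟨?_, ?_⟩⟩
  · show (irreducibleComponents ↥(MoreMor.geomFiber f y)).encard =
      (irreducibleComponents ↥(MoreMor.geomFiber f (genericPoint ↑Y))).encard
    rw [(hV y hy).encard, (hV _ hη).encard]
  · exact (hV y hy).card_eq (hV _ hη)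

end Groth.Agent.Helper5.GCnt
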