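import Mathlib
import Groth.Prelude
import Groth.Agent.Helper5.GCntF

set_option autoImplicit false
set_option linter.style.haveILetI false
universe u

namespace Groth.Agent.Helper5.GCnt

open AlgebraicGeometry CategoryTheory CategoryTheory.Limits TopologicalSpace Topology
open Groth.Agent.Helper5.GenFib

/-- the residue field at the generic point of the spectrum of a domain with algebraically closed
fraction field is algebraically closed -/
theorem isAlgClosed_residueField_genericPoint (R : CommRingCat.{u}) [IsDomain R]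
    [IsAlgClosed (FractionRing R)] :
    IsAlgClosed ((Spec R).residueField (genericPoint ↥(Spec R))) := by
  let K := FractionRing R
  let aK : Spec (CommRingCat.of K) ⟶ Spec R := Spec.map (CommRingCat.ofHom (algebraMap R K))
  have haK : aK (IsLocalRing.closedPoint K) = genericPoint ↥(Spec R) := by
    rw [genericPoint_eq_bot_of_affine]
    apply PrimeSpectrum.ext
    show Ideal.comap (algebraMap R K) (IsLocalRing.closedPoint K).asIdeal = ⊥
    have : (IsLocalRing.closedPoint K).asIdeal = ⊥ := by
      show IsLocalRing.maximalIdeal K = ⊥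
      exact IsLocalRing.maximalIdeal_eq_bot
    rw [this]
    exact Ideal.comap_bot_of_injective _ (IsFractionRing.injective R K)
  obtain ⟨⟨y', φ⟩, hφ⟩ := (Scheme.SpecToEquivOfField K (Spec R)).symm.surjective aK
  have hφ' : Spec.map φ ≫ (Spec R).fromSpecResidueField y' = aK := hφ
  have hy' : y' = genericPoint ↥(Spec R) := by
    rw [← haK, ← hφ', Scheme.Hom.comp_apply]
    exact (Scheme.fromSpecResidueField_apply y' _).symm
  subst hy'
  let ρ : R ⟶ (Spec R).residueField (genericPoint ↥(Spec R)) :=
    Spec.preimage ((Spec R).fromSpecResidueField (genericPoint ↥(Spec R)))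
  have hρ : Spec.map ρ = (Spec R).fromSpecResidueField (genericPoint ↥(Spec R)) :=
    Spec.map_preimage _
  have hcomp : ρ ≫ φ = CommRingCat.ofHom (algebraMap R K) := by
    apply Spec.map_injective
    rw [Spec.map_comp, hρ]
    exact hφ'
  have hcomp' : ∀ a : R, φ.hom (ρ.hom a) = algebraMap R K a := by
    intro a
    have := congrArg (fun ψ => ψ.hom a) hcomp
    exact this
  have hsurj : Function.Surjective φ.hom := by
    intro x
    obtain ⟨a, b, hb, rfl⟩ := IsFractionRing.div_surjective (A := R) x
    refine ⟨ρ.hom a / ρ.hom b, ?_⟩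
    rw [map_div₀, hcomp', hcomp']
  let e : (Spec R).residueField (genericPoint ↥(Spec R)) ≃+* K :=
    RingEquiv.ofBijective φ.hom ⟨φ.hom.injective, hsurj⟩
  exact IsAlgClosed.of_ringEquiv (k := K) _ e.symm

section transfer

variable {α : Type*}

/-- descent of generic constancy along a closed surjection with a single point over the generic
point -/
theorem transfer_closed {Y Y' : Type*} [TopologicalSpace Y] [TopologicalSpace Y']
    (g : Y' → Y) (hcl : IsClosedMap g) (hsurj : Function.Surjective g)
    (η : Y) (η' : Y') (hη : ∀ y', g y' = η → y' = η')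
    (N : Y → α) (V' : Set Y') (hV' : IsOpen V') (hη' : η' ∈ V')
    (hN : ∀ y' ∈ V', N (g y') = N (g η')) :
    ∃ V : Set Y, IsOpen V ∧ η ∈ V ∧ ∀ y ∈ V, N y = N η := by
  obtain ⟨y₀, hy₀⟩ := hsurj η
  have hgη' : g η' = η := by rw [← hη y₀ hy₀]; exact hy₀
  refine ⟨(g '' V'ᶜ)ᶜ, (hcl _ hV'.isClosed_compl).isOpen_compl, ?_, ?_⟩
  · rintro ⟨y', hy'V, hy'⟩
    exact hy'V (hη y' hy' ▸ hη')
  · intro y hy
    obtain ⟨y', rfl⟩ := hsurj y
    have hy'V : y' ∈ V' := by
      by_contra h
      exact hy ⟨y', h, rfl⟩
    rw [hN y' hy'V, hgη']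

end transfer

end Groth.Agent.Helper5.GCnt
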