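import Mathlib
import Groth.Prelude
import Groth.Agent.Helper5.GCntG
import Groth.Agent.S1334
import Groth.Agent.S1335

set_option autoImplicit false
set_option linter.style.haveILetI false
universe u

namespace Groth.Agent.Helper5.GCnt

open AlgebraicGeometry CategoryTheory CategoryTheory.Limits TopologicalSpace Topology
open Groth.Agent.Helper5.GenFib

/-- the pair of counts -/
noncomputable def cnt {X Y : Scheme.{u}} (f : X ⟶ Y) (y : Y) : ℕ∞ × ℕ∞ :=
  (MoreMor.nGeomIrredComp f y, MoreMor.nGeomConnComp f y)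

theorem cnt_baseChange {X Y X' Y' : Scheme.{u}} (f : X ⟶ Y) (f' : X' ⟶ Y') (g' : X' ⟶ X) (g : Y' ⟶ Y)
    (hc : IsPullback g' f' f g) (y' : Y') : cnt f' y' = cnt f (g y') := by
  unfold cnt
  rw [Groth.Agent.S1334.result f f' g' g hc y', Groth.Agent.S1335.result f f' g' g hc y']

set_option maxHeartbeats 1600000 in
theorem affine_integral_case (R : CommRingCat.{u}) [IsDomain R]
    {X : Scheme.{u}} (f : X ⟶ Spec R) [LocallyOfFiniteType f] [QuasiCompact f] :
    ∃ V : Set ↥(Spec R), IsOpen V ∧ genericPoint ↥(Spec R) ∈ V ∧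
      ∀ y ∈ V, cnt f y = cnt f (genericPoint ↥(Spec R)) := by
  classical
  let K := FractionRing R
  let Kbar := AlgebraicClosure K
  let R'ty := integralClosure R Kbar
  let R' : CommRingCat.{u} := CommRingCat.of ↥R'ty
  haveI : Algebra.IsAlgebraic R Kbar :=
    ⟨fun x => (IsFractionRing.isAlgebraic_iff R K Kbar).2 (Algebra.IsAlgebraic.isAlgebraic x)⟩
  have hinjRK : Function.Injective (algebraMap R Kbar) := by
    rw [IsScalarTower.algebraMap_eq R K Kbar]
    exact (algebraMap K Kbar).injective.comp (IsFractionRing.injective R K)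
  haveI : IsFractionRing ↥R'ty Kbar :=
    integralClosure.isFractionRing_of_algebraic (A := R) (L := Kbar)
      (fun x hx => hinjRK (by rw [hx, map_zero]))
  haveI : IsAlgClosed (FractionRing ↥R'ty) :=
    IsAlgClosed.of_ringEquiv (k := Kbar) (FractionRing ↥R'ty)
      (FractionRing.algEquiv ↥R'ty Kbar).symm.toRingEquiv
  haveI : IsAlgClosed (FractionRing ↑R') := ‹IsAlgClosed (FractionRing ↥R'ty)›
  have hinj : Function.Injective (algebraMap R ↥R'ty) := by
    intro x y hxy
    apply hinjRK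
    have := congrArg (algebraMap ↥R'ty Kbar) hxy
    rwa [← IsScalarTower.algebraMap_apply, ← IsScalarTower.algebraMap_apply] at this
  have hint : (algebraMap R ↥R'ty).IsIntegral := fun x =>
    Algebra.IsIntegral.isIntegral (R := R) (A := ↥R'ty) x
  let g : Spec R' ⟶ Spec R := Spec.map (CommRingCat.ofHom (algebraMap R ↥R'ty))
  let f' : pullback f g ⟶ Spec R' := pullback.snd f g
  have sq : IsPullback (pullback.fst f g) f' f g := IsPullback.of_hasPullback f g
  haveI : IsAlgClosed ((Spec R').residueField (genericPoint ↥(Spec R'))) :=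
    isAlgClosed_residueField_genericPoint R'
  obtain ⟨V', hV'ne, hV'⟩ := counts_const_of_isAlgClosed f'
  have hη'V' : genericPoint ↥(Spec R') ∈ V' := genericPoint_mem_of_isOpen _ V'.2 hV'ne
  have hcl : IsClosedMap g := PrimeSpectrum.isClosedMap_comap_of_isIntegral _ hint
  have hsurj : Function.Surjective g := hint.comap_surjective hinj
  have hη : ∀ y' : ↥(Spec R'), g y' = genericPoint ↥(Spec R) → y' = genericPoint ↥(Spec R') := by
    intro y' hy'
    rw [genericPoint_eq_bot_of_affine] at hy' ⊢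
    apply PrimeSpectrum.ext
    show y'.asIdeal = ⊥
    have h1 : Ideal.comap (algebraMap R ↥R'ty) y'.asIdeal = ⊥ := congrArg PrimeSpectrum.asIdeal hy'
    exact Ideal.eq_bot_of_comap_eq_bot (R := R) (S := ↥R'ty) h1
  refine transfer_closed g hcl hsurj _ _ hη (cnt f) (V' : Set ↥(Spec R')) V'.2 hη'V' ?_
  intro y' hy'
  rw [← cnt_baseChange f f' _ g sq y', ← cnt_baseChange f f' _ g sq (genericPoint ↥(Spec R'))]
  unfold cnt
  rw [(hV' y' hy').1, (hV' y' hy').2]

set_option maxHeartbeats 1600000 in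
/-- constancy of the numbers of geometric irreducible and connected components near the generic
point -/
theorem counts_const {X Y : Scheme.{u}} (f : X ⟶ Y) [IrreducibleSpace ↑Y]
    [LocallyOfFiniteType f] [QuasiCompact f] :
    ∃ V : Y.Opens, (V : Set ↑Y).Nonempty ∧ ∀ y ∈ V, cnt f y = cnt f (genericPoint ↑Y) := by
  let η := genericPoint Y
  obtain ⟨U, hU, hηU⟩ : ∃ U : Y.Opens, IsAffineOpen U ∧ η ∈ U := by
    obtain ⟨_, ⟨U, hU, rfl⟩, hxU, -⟩ :=
      (Y.isBasis_affineOpens).exists_subset_of_mem_open (Set.mem_univ η) isOpen_univ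
    exact ⟨U, hU, hxU⟩
  let R₀ : CommRingCat.{u} := Γ(Y, U)
  let j₀ : Spec R₀ ⟶ Y := hU.fromSpec
  have hj₀range : Set.range j₀ = U := hU.range_fromSpec
  have hne : Nonempty ↥(Spec R₀) := by
    obtain ⟨s, -⟩ : η ∈ Set.range j₀ := by rw [hj₀range]; exact hηU
    exact ⟨s⟩
  have hirr : IrreducibleSpace ↥(Spec R₀) := by
    have h1 : IsPreirreducible (j₀ ⁻¹' (Set.univ : Set Y)) :=
      (PreirreducibleSpace.isPreirreducible_univ (X := Y)).preimage j₀.isOpenEmbedding
    rw [Set.preimage_univ] at h1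
    have : PreirreducibleSpace ↥(Spec R₀) := ⟨h1⟩
    exact IrreducibleSpace.mk hne
  have hprime : (nilradical ↑R₀).IsPrime :=
    PrimeSpectrum.irreducibleSpace_iff_isPrime_nilradical.1 hirr
  let R : CommRingCat.{u} := CommRingCat.of (↑R₀ ⧸ nilradical ↑R₀)
  haveI : IsDomain ↑R := Ideal.Quotient.isDomain _
  let π : R₀ ⟶ R := CommRingCat.ofHom (Ideal.Quotient.mk (nilradical ↑R₀))
  have hπsurj : Function.Surjective π.hom := Ideal.Quotient.mk_surjective
  let ι₁ : Spec R ⟶ Spec R₀ := Spec.map π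
  have hι₁surj : Function.Surjective ι₁ := by
    intro p
    have hp : p ∈ Set.range (PrimeSpectrum.comap π.hom) := by
      rw [range_comap_of_surjective _ _ hπsurj]
      intro x hx
      have hx' : x ∈ nilradical ↑R₀ := by
        have : π.hom x = 0 := hx
        exact Ideal.Quotient.eq_zero_iff_mem.1 this
      exact nilradical_le_prime p.asIdeal hx'
    exact hp
  have hι₁cl : IsClosedMap ι₁ :=
    (PrimeSpectrum.isClosedEmbedding_comap_of_surjective _ π.hom hπsurj).isClosedMap
  have hι₁inj : Function.Injective ι₁ :=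
    (PrimeSpectrum.isClosedEmbedding_comap_of_surjective _ π.hom hπsurj).injective
  let j : Spec R ⟶ Y := ι₁ ≫ j₀
  have hjrange : Set.range j = U := by
    show Set.range (ι₁ ≫ j₀) = U
    rw [Scheme.Hom.comp_base, TopCat.coe_comp, Set.range_comp, hι₁surj.range_eq, Set.image_univ]
    exact hj₀range
  have hjgen : j (genericPoint ↥(Spec R)) = η := by
    have h1 : IsGenericPoint (j (genericPoint ↥(Spec R))) (closure (Set.range j)) := by
      have := (genericPoint_spec ↥(Spec R)).image j.continuous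
      simpa [Set.image_univ] using this
    have h2 : closure (Set.range j) = Set.univ := by
      rw [hjrange]
      exact (U.2.dense ⟨η, hηU⟩).closure_eq
    rw [h2] at h1
    exact h1.eq (genericPoint_spec Y)
  let f₁ : pullback f j ⟶ Spec R := pullback.snd f j
  have sq : IsPullback (pullback.fst f j) f₁ f j := IsPullback.of_hasPullback f j
  obtain ⟨V₁, hV₁open, hηV₁, hV₁⟩ := affine_integral_case R f₁
  -- the image of `V₁` in `Y` is open
  have hopen : IsOpen (j '' V₁) := by
    have h1 : j '' V₁ = j₀ '' (ι₁ '' V₁) := by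
      show (ι₁ ≫ j₀) '' V₁ = _
      rw [Scheme.Hom.comp_base, TopCat.coe_comp, Set.image_comp]
    rw [h1]
    apply j₀.isOpenEmbedding.isOpenMap
    have h2 : ι₁ '' V₁ = (ι₁ '' V₁ᶜ)ᶜ := by
      ext p
      constructor
      · rintro ⟨v, hv, rfl⟩ ⟨w, hw, hwv⟩
        exact hw (hι₁inj hwv ▸ hv)
      · intro hp
        obtain ⟨v, rfl⟩ := hι₁surj p
        refine ⟨v, ?_, rfl⟩
        by_contra hv
        exact hp ⟨v, hv, rfl⟩
    rw [h2]
    exact (hι₁cl _ hV₁open.isClosed_compl).isOpen_compl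
  refine ⟨⟨j '' V₁, hopen⟩, ⟨η, genericPoint ↥(Spec R), hηV₁, hjgen⟩, ?_⟩
  rintro _ ⟨y₁, hy₁, rfl⟩
  rw [← cnt_baseChange f f₁ _ j sq y₁, hV₁ y₁ hy₁, cnt_baseChange f f₁ _ j sq, hjgen]

end Groth.Agent.Helper5.GCnt
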