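import Mathlib
import Groth.Prelude
import Groth.Agent.Helper5.GCntH

set_option autoImplicit false
set_option linter.style.haveILetI false
universe u

namespace Groth.Agent.Helper5.GCnt

open AlgebraicGeometry CategoryTheory CategoryTheory.Limits TopologicalSpace Topology
open Groth.Agent.Helper5.GenFib

set_option maxHeartbeats 800000 in
/-- constancy of the counts on a relatively open neighbourhood of `y` in its closure -/
theorem counts_const_closure {X Y : Scheme.{u}} (f : X ⟶ Y) [LocallyOfFiniteType f]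
    [QuasiCompact f] (y : Y) :
    ∃ V : Set ↑Y, V ⊆ closure {y} ∧ y ∈ V ∧
      IsOpen (Subtype.val ⁻¹' V : Set ↑(closure ({y} : Set ↑Y))) ∧
      ∀ y' ∈ V, cnt f y' = cnt f y := by
  let C : Closeds Y := ⟨closure {y}, isClosed_closure⟩
  let I := Scheme.IdealSheafData.vanishingIdeal C
  have hrange : Set.range I.subschemeι = closure {y} := by
    rw [Scheme.IdealSheafData.range_subschemeι, Scheme.IdealSheafData.coe_support_vanishingIdeal]
    rfl
  let ι := I.subschemeι
  obtain ⟨z₀, hz₀⟩ : y ∈ Set.range ι := by rw [hrange]; exact subset_closure rfl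
  haveI : IrreducibleSpace ↥I.subscheme := by
    refine irreducibleSpace_of_isInducing ι ι.isEmbedding.isInducing z₀ ?_
    rw [hz₀, hrange]
  have hgen : ι (genericPoint ↥I.subscheme) = y := by
    have h1 : IsGenericPoint (ι (genericPoint ↥I.subscheme)) (closure (Set.range ι)) := by
      have := (genericPoint_spec ↥I.subscheme).image ι.continuous
      simpa [Set.image_univ] using this
    rw [hrange, closure_closure] at h1
    exact h1.eq (isGenericPoint_def.2 rfl)
  let f₁ : pullback f ι ⟶ I.subscheme := pullback.snd f ι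
  have sq : IsPullback (pullback.fst f ι) f₁ f ι := IsPullback.of_hasPullback f ι
  obtain ⟨V₁, hV₁ne, hV₁⟩ := counts_const f₁
  have hηV₁ : genericPoint ↥I.subscheme ∈ V₁ := genericPoint_mem_of_isOpen _ V₁.2 hV₁ne
  obtain ⟨O, hO, hOV⟩ := ι.isEmbedding.isInducing.isOpen_iff.1 V₁.2
  have himg : ι '' (V₁ : Set ↥I.subscheme) = O ∩ closure {y} := by
    have hOV' : (V₁ : Set ↥I.subscheme) = ι ⁻¹' O := hOV.symm
    rw [hOV', Set.image_preimage_eq_inter_range, hrange]
  refine ⟨ι '' (V₁ : Set ↥I.subscheme), ?_, ⟨_, hηV₁, hgen⟩, ?_, ?_⟩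
  · rw [himg]; exact Set.inter_subset_right
  · rw [himg]
    have : (Subtype.val ⁻¹' (O ∩ closure {y}) : Set ↑(closure ({y} : Set ↑Y))) =
        Subtype.val ⁻¹' O := by
      ext p
      constructor
      · exact fun hp => hp.1
      · exact fun hp => ⟨hp, p.2⟩
    rw [this]
    exact hO.preimage continuous_subtype_val
  · rintro _ ⟨z, hz, rfl⟩
    rw [← cnt_baseChange f f₁ _ ι sq z, hV₁ z hz, cnt_baseChange f f₁ _ ι sq, hgen]

end Groth.Agent.Helper5.GCnt
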