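import Mathlib
import Groth.Prelude
import Groth.Agent.Helper5.GCntI
import Groth.Agent.Helper5.ConsLc9

set_option autoImplicit false
set_option linter.style.haveILetI false
universe u

namespace Groth.Agent.Helper5.GCnt

open AlgebraicGeometry CategoryTheory CategoryTheory.Limits TopologicalSpace Topology
open Groth.Agent.Helper5.GenFib

/-- the relation "the pair of counts lies in `A`" on algebraic schemes over a field -/
def PCnt (A : Set (ℕ∞ × ℕ∞)) : ∀ ⦃Y T : Scheme.{u}⦄, (Y ⟶ T) → Prop :=
  fun _ T g => ∀ t : T, cnt g t ∈ A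

theorem isFieldStable_PCnt (A : Set (ℕ∞ × ℕ∞)) : ConsProp.IsFieldStable (PCnt.{u} A) := by
  intro Y Y' T T' g g' e h _ _ _ _ _ _ sq
  constructor
  · intro hg t'
    rw [cnt_baseChange g g' e h sq t']
    exact hg _
  · intro hg' t
    obtain ⟨t'⟩ := (inferInstance : Nonempty T')
    have ht : h t' = t := Subsingleton.elim _ _
    rw [← ht, ← cnt_baseChange g g' e h sq t']
    exact hg' t'

theorem locus_PCnt (A : Set (ℕ∞ × ℕ∞)) {X S : Scheme.{u}} (f : X ⟶ S) :
    ConsProp.locus (PCnt.{u} A) f = {s | cnt f s ∈ A} := by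
  ext s
  have sq : IsPullback (f.fiberι s) (f.fiberToSpecResidueField s) f (S.fromSpecResidueField s) :=
    IsPullback.of_hasPullback _ _
  have key : ∀ t : ↥(Spec (S.residueField s)), cnt (f.fiberToSpecResidueField s) t = cnt f s := by
    intro t
    rw [cnt_baseChange f _ _ _ sq t, Scheme.fromSpecResidueField_apply]
  constructor
  · intro hs
    have := hs (IsLocalRing.closedPoint (S.residueField s))
    rwa [key] at this
  · intro hs t
    rw [key]
    exact hs

theorem isCons_PCnt (A : Set (ℕ∞ × ℕ∞)) : ConsProp.IsCons (PCnt.{u} A) := by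
  refine ⟨isFieldStable_PCnt A, ?_⟩
  intro X S f _ _ _ _
  rw [locus_PCnt]
  obtain ⟨V, ⟨v, hv⟩, hV⟩ := counts_const f
  by_cases hη : cnt f (genericPoint S) ∈ A
  · left
    refine ⟨v, ?_⟩
    rw [mem_interior]
    exact ⟨V, fun y hy => by show cnt f y ∈ A; rw [hV y hy]; exact hη, V.2, hv⟩
  · right
    refine ⟨v, ?_⟩
    rw [mem_interior]
    exact ⟨V, fun y hy => by show cnt f y ∉ A; rw [hV y hy]; exact hη, V.2, hv⟩

/-- the loci where the pair of counts lies in a given set are locally constructible -/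
theorem isLocallyConstructible_cnt (A : Set (ℕ∞ × ℕ∞)) {X Y : Scheme.{u}} (f : X ⟶ Y)
    [LocallyOfFinitePresentation f] [QuasiCompact f] [QuasiSeparated f] :
    IsLocallyConstructible {y : Y | cnt f y ∈ A} := by
  rw [← locus_PCnt]
  exact Groth.Agent.Helper5.ConsLc.isLocallyConstructible_locus (isCons_PCnt A) f

end Groth.Agent.Helper5.GCnt
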