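import Mathlib
import Groth.Agent.Helper1.EtRed

set_option autoImplicit false
universe u

namespace Groth.Agent.Helper5.GRed

open TensorProduct

/-- a localization map of a module on which the element already acts bijectively is bijective;
here only injectivity -/
theorem injective_of_isLocalizedModule_of_smul_injective {R M M' : Type*} [CommRing R]
    [AddCommGroup M] [Module R M] [AddCommGroup M'] [Module R M'] (g : R)
    (φ : M →ₗ[R] M') [IsLocalizedModule (Submonoid.powers g) φ]
    (hinj : Function.Injective (fun x : M => g • x)) : Function.Injective φ := by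
  rw [injective_iff_map_eq_zero]
  intro x hx
  obtain ⟨⟨_, n, rfl⟩, hs⟩ := (IsLocalizedModule.eq_zero_iff (Submonoid.powers g) φ).1 hx
  have hs' : g ^ n • x = 0 := hs
  clear hs hx
  induction n with
  | zero => simpa using hs'
  | succ n ih =>
    apply ih
    apply hinj
    show g • (g ^ n • x) = g • 0
    rw [smul_zero, smul_smul, ← pow_succ']
    exact hs'

/-- the action of `g` on `A ⊗ L` is injective if `g` is nonzero in the field `L` -/
theorem smul_injective_tensor_field (R A L : Type u) [CommRing R] [CommRing A] [Algebra R A]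
    [Field L] [Algebra R L] (g : R) (hg : algebraMap R L g ≠ 0) :
    Function.Injective (fun x : A ⊗[R] L => g • x) := by
  let u : L := (algebraMap R L g)⁻¹
  let ρ : A ⊗[R] L →ₗ[R] A ⊗[R] L := LinearMap.lTensor A (LinearMap.mulLeft R u)
  apply Function.LeftInverse.injective (g := ρ)
  intro x
  induction x using TensorProduct.induction_on with
  | zero => simp
  | tmul a l =>
    show ρ (g • (a ⊗ₜ[R] l)) = a ⊗ₜ[R] l
    rw [TensorProduct.smul_tmul', TensorProduct.smul_tmul]
    show a ⊗ₜ[R] (u * (g • l)) = a ⊗ₜ[R] l
    congr 1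
    rw [Algebra.smul_def, ← mul_assoc]
    show (algebraMap R L g)⁻¹ * algebraMap R L g * l = l
    rw [inv_mul_cancel₀ hg, one_mul]
  | add x y hx hy =>
    have : (g • (x + y)) = g • x + g • y := smul_add _ _ _
    show ρ (g • (x + y)) = x + y
    rw [this, map_add]
    exact congrArg₂ (· + ·) hx hy

end Groth.Agent.Helper5.GRed

namespace Groth.Agent.Helper5.GRed

open TensorProduct

set_option maxHeartbeats 800000 in
/-- spreading of a regular element: if `h` is regular on `A` and `(A/h)[1/g]` is flat over `R`,
then `h ⊗ 1` is regular on `A ⊗ L` for every field `L` in which `g` is nonzero -/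
theorem regular_tmul_of_flat (R A : Type u) [CommRing R] [CommRing A] [Algebra R A] (h : A) (g : R)
    (hreg : h ∈ nonZeroDivisors A)
    (hflat : Module.Flat R (LocalizedModule (Submonoid.powers g) (A ⧸ Ideal.span {h})))
    (L : Type u) [Field L] [Algebra R L] (hg : algebraMap R L g ≠ 0) :
    (h ⊗ₜ[R] (1 : L)) ∈ nonZeroDivisors (A ⊗[R] L) := by
  let S := Submonoid.powers g
  let m : A →ₗ[R] A := LinearMap.mulLeft R h
  let π : A →ₗ[R] (A ⧸ Ideal.span {h}) := (Ideal.Quotient.mkₐ R (Ideal.span {h})).toLinearMap
  have hm : Function.Injective m := by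
    intro x y hxy
    have h1 : h * (x - y) = 0 := by
      rw [mul_sub]
      exact sub_eq_zero.2 hxy
    have := (mem_nonZeroDivisors_iff.1 hreg).1 _ h1
    exact sub_eq_zero.1 this
  have hπ : Function.Surjective π := Ideal.Quotient.mk_surjective
  have hex : Function.Exact m π := by
    intro y
    show (Ideal.Quotient.mk _ y = 0) ↔ y ∈ Set.range m
    rw [Ideal.Quotient.eq_zero_iff_mem, Ideal.mem_span_singleton']
    constructor
    · rintro ⟨a, rfl⟩
      exact ⟨a, mul_comm _ _⟩
    · rintro ⟨a, rfl⟩
      exact ⟨a, mul_comm _ _⟩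
  let ψ : A →ₗ[R] LocalizedModule S A := LocalizedModule.mkLinearMap S A
  let ψQ : (A ⧸ Ideal.span {h}) →ₗ[R] LocalizedModule S (A ⧸ Ideal.span {h}) :=
    LocalizedModule.mkLinearMap S _
  let m' : LocalizedModule S A →ₗ[R] LocalizedModule S A := IsLocalizedModule.map S ψ ψ m
  let π' : LocalizedModule S A →ₗ[R] LocalizedModule S (A ⧸ Ideal.span {h}) :=
    IsLocalizedModule.map S ψ ψQ π
  have hm' : Function.Injective m' := IsLocalizedModule.map_injective S ψ ψ m hm
  have hπ' : Function.Surjective π' := IsLocalizedModule.map_surjective S ψ ψQ π hπ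
  have hex' : Function.Exact m' π' := IsLocalizedModule.map_exact S ψ ψ ψQ m π hex
  have hinj' : Function.Injective (m'.lTensor L) :=
    LinearMap.lTensor_injective_of_exact_of_flat π' hπ' m' hm' hex' L
  have hinjr' : Function.Injective (m'.rTensor L) :=
    (LinearMap.lTensor_inj_iff_rTensor_inj L m').1 hinj'
  -- the localization map on tensor products
  have hloc : IsLocalizedModule S (TensorProduct.AlgebraTensorModule.rTensor R L ψ) :=
    IsLocalizedModule.rTensor (R := R) (A := R) S (N := L) ψ
  have hψL : Function.Injective (ψ.rTensor L) := by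
    have h1 : Function.Injective (TensorProduct.AlgebraTensorModule.rTensor R L ψ) :=
      injective_of_isLocalizedModule_of_smul_injective g _
        (smul_injective_tensor_field R A L g hg)
    exact h1
  have hcomm : (m'.rTensor L) ∘ₗ (ψ.rTensor L) = (ψ.rTensor L) ∘ₗ (m.rTensor L) := by
    rw [← LinearMap.rTensor_comp, ← LinearMap.rTensor_comp]
    congr 1
    exact IsLocalizedModule.map_comp S ψ ψ m
  have hminj : Function.Injective (m.rTensor L) := by
    have h1 : Function.Injective ((ψ.rTensor L) ∘ₗ (m.rTensor L)) := by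
      rw [← hcomm]
      exact hinjr'.comp hψL
    exact Function.Injective.of_comp h1
  have hmul : ∀ x : A ⊗[R] L, (m.rTensor L) x = (h ⊗ₜ[R] (1 : L)) * x := by
    intro x
    induction x using TensorProduct.induction_on with
    | zero => simp
    | tmul a l =>
      rw [LinearMap.rTensor_tmul, Algebra.TensorProduct.tmul_mul_tmul, one_mul]
      rfl
    | add x y hx hy => rw [map_add, hx, hy, mul_add]
  rw [mem_nonZeroDivisors_iff_right]
  intro x hx
  apply hminj
  rw [map_zero, hmul, mul_comm]
  exact hx

end Groth.Agent.Helper5.GRed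

namespace Groth.Agent.Helper5.GRed

open TensorProduct

set_option maxHeartbeats 800000 in
/-- Lemma B: the good case -/
theorem isReduced_tensor_of_good (R A : Type u) [CommRing R] [CommRing A] [Algebra R A]
    [Algebra.FinitePresentation R A] (h : A) (g : R)
    (hreg : h ∈ nonZeroDivisors A)
    (hflat : Module.Flat R (LocalizedModule (Submonoid.powers g) (A ⧸ Ideal.span {h})))
    (hsm : (PrimeSpectrum.basicOpen (h * algebraMap R A g) : Set (PrimeSpectrum A)) ⊆
      Algebra.smoothLocus R A)
    (L : Type u) [Field L] [Algebra R L] (hg : algebraMap R L g ≠ 0) :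
    _root_.IsReduced (A ⊗[R] L) := by
  let t : A := h * algebraMap R A g
  let C := Localization.Away t
  haveI : Algebra.Smooth R C := Algebra.basicOpen_subset_smoothLocus_iff_smooth.1 hsm
  haveI : Algebra.Smooth L (L ⊗[R] C) := inferInstance
  haveI : _root_.IsReduced (L ⊗[R] C) := Groth.Agent.Helper1.EtRed.isReduced_of_smooth L (L ⊗[R] C)
  have hredC : _root_.IsReduced (C ⊗[R] L) :=
    isReduced_of_injective (Algebra.TensorProduct.comm R C L).toRingHom
      (Algebra.TensorProduct.comm R C L).injective
  let Φ : A ⊗[R] L →ₐ[R] C ⊗[R] L :=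
    Algebra.TensorProduct.map (IsScalarTower.toAlgHom R A C) (AlgHom.id R L)
  let φ : A ⊗[R] L →ₗ[A] C ⊗[R] L :=
    TensorProduct.AlgebraTensorModule.rTensor R L (Algebra.linearMap A C)
  have hloc : IsLocalizedModule (Submonoid.powers t) φ :=
    IsLocalizedModule.rTensor (R := R) (A := A) (Submonoid.powers t) (N := L)
      (Algebra.linearMap A C)
  have hΦφ : ∀ x, Φ x = φ x := by
    intro x
    induction x using TensorProduct.induction_on with
    | zero => simp
    | tmul a l => rfl
    | add x y hx hy => rw [map_add, map_add, hx, hy]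
  have hh1 := regular_tmul_of_flat R A h g hreg hflat L hg
  have hsmul : ∀ x : A ⊗[R] L, t • x = (h ⊗ₜ[R] (1 : L)) * (g • x) := by
    intro x
    induction x using TensorProduct.induction_on with
    | zero => simp
    | tmul a l =>
      rw [TensorProduct.smul_tmul', TensorProduct.smul_tmul', Algebra.TensorProduct.tmul_mul_tmul,
        one_mul]
      congr 1
      show h * algebraMap R A g * a = h * (g • a)
      rw [Algebra.smul_def, mul_assoc]
    | add x y hx hy => rw [smul_add, hx, hy, smul_add, mul_add]
  have htinj : Function.Injective (fun x : A ⊗[R] L => t • x) := by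
    intro x y hxy
    have h1 : (h ⊗ₜ[R] (1 : L)) * (g • x) = (h ⊗ₜ[R] (1 : L)) * (g • y) := by
      rw [← hsmul, ← hsmul]
      exact hxy
    have h2 : g • x = g • y := by
      have h3 : (g • x - g • y) * (h ⊗ₜ[R] (1 : L)) = 0 := by
        rw [mul_comm, mul_sub, h1, sub_self]
      exact sub_eq_zero.1 ((mem_nonZeroDivisors_iff_right.1 hh1) _ h3)
    exact smul_injective_tensor_field R A L g hg h2
  have hφinj : Function.Injective φ :=
    injective_of_isLocalizedModule_of_smul_injective (R := A) t φ htinj
  have hΦinj : Function.Injective Φ.toRingHom := by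
    intro x y hxy
    apply hφinj
    rw [← hΦφ, ← hΦφ]
    exact hxy
  exact isReduced_of_injective Φ.toRingHom hΦinj

end Groth.Agent.Helper5.GRed
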