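import Mathlib
import Groth.Agent.Helper3.GeomRedPt3

set_option autoImplicit false
universe u

namespace Groth.Agent.Helper5.GRed

open TensorProduct

/-- every minimal prime of a geometrically reduced algebra over a field is a smooth point -/
theorem isSmoothAt_of_mem_minimalPrimes (k C : Type u) [Field k] [CommRing C] [Algebra k C]
    [Algebra.IsGeometricallyReduced k C] (q : Ideal C) [hqp : q.IsPrime]
    (hq : q ∈ minimalPrimes C) : Algebra.IsSmoothAt k q := by
  haveI : _root_.IsReduced C := Algebra.isReduced_of_isGeometricallyReduced k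
  have hmax : IsLocalRing.maximalIdeal (Localization.AtPrime q) = ⊥ := by
    have h := IsLocalization.AtPrime.radical_map_of_mem_minimalPrimes (Localization.AtPrime q) q ⊥ hq
    rw [Ideal.map_bot, IsLocalization.AtPrime.map_eq_maximalIdeal q] at h
    rw [← h]
    exact nilradical_eq_zero _
  have hfield : IsField (Localization.AtPrime q) :=
    IsLocalRing.isField_iff_maximalIdeal_eq.mpr hmax
  letI : Field (Localization.AtPrime q) := hfield.toField
  haveI : Algebra.IsGeometricallyReduced k (Localization.AtPrime q) :=
    Groth.Agent.Helper3.GeomRedPt3.isGeometricallyReduced_localization k C q.primeCompl _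
  exact Groth.Agent.Helper1.FieldSmooth.formallySmooth_iff_isGeometricallyReduced.mpr inferInstance

/-- Lemma A: a geometrically reduced finite type algebra over a field has a regular element whose
basic open lies in the smooth locus -/
theorem exists_regular_smooth (k B : Type u) [Field k] [CommRing B] [Algebra k B]
    [Algebra.FiniteType k B] [Algebra.IsGeometricallyReduced k B] :
    ∃ s : B, s ∈ nonZeroDivisors B ∧
      (PrimeSpectrum.basicOpen s : Set (PrimeSpectrum B)) ⊆ Algebra.smoothLocus k B := by
  classical
  haveI : IsNoetherianRing B := Algebra.FiniteType.isNoetherianRing k B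
  haveI : Algebra.FinitePresentation k B := Algebra.FinitePresentation.of_finiteType.mp inferInstance
  haveI : _root_.IsReduced B := Algebra.isReduced_of_isGeometricallyReduced k
  have hopen : IsOpen (Algebra.smoothLocus k B) := Algebra.isOpen_smoothLocus
  set T : Set (PrimeSpectrum B) := (Algebra.smoothLocus k B)ᶜ with hT
  have hTc : IsClosed T := hopen.isClosed_compl
  set I : Ideal B := PrimeSpectrum.vanishingIdeal T with hI
  have hzl : PrimeSpectrum.zeroLocus (I : Set B) = T := by
    rw [hI, PrimeSpectrum.zeroLocus_vanishingIdeal_eq_closure, hTc.closure_eq]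
  have hmin : ∀ q ∈ minimalPrimes B, ¬ I ≤ q := by
    intro q hq hle
    haveI : q.IsPrime := hq.1.1
    have h1 : (⟨q, hq.1.1⟩ : PrimeSpectrum B) ∈ T := by
      rw [← hzl]
      exact hle
    exact h1 (isSmoothAt_of_mem_minimalPrimes k B q hq)
  have hfin : (minimalPrimes B).Finite := minimalPrimes.finite_of_isNoetherianRing B
  have hnot : ¬ ((I : Set B) ⊆ ⋃ q ∈ (hfin.toFinset : Set (Ideal B)), ((id q : Ideal B) : Set B)) := by
    rw [Ideal.subset_union_prime (s := hfin.toFinset) (f := id) ⊥ ⊥]
    · rintro ⟨q, hq, hle⟩
      exact hmin q (hfin.mem_toFinset.1 hq) hle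
    · intro q hq _ _
      exact (hfin.mem_toFinset.1 hq).1.1
  obtain ⟨s, hsI, hs⟩ := Set.not_subset.1 hnot
  have hs' : ∀ q ∈ minimalPrimes B, s ∉ q := by
    intro q hq hsq
    apply hs
    simp only [Set.mem_iUnion]
    exact ⟨q, by simpa using hq, hsq⟩
  refine ⟨s, ?_, ?_⟩
  · rw [mem_nonZeroDivisors_iff_right]
    intro x hx
    by_contra hx0
    have hmem : s ∈ ⋃ p ∈ (⊥ : Ideal B).minimalPrimes, (p : Set B) := by
      rw [Ideal.iUnion_minimalPrimes]
      refine ⟨x, ?_, ?_⟩
      · intro hxr
        apply hx0
        have : x ∈ nilradical B := hxr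
        rw [nilradical_eq_zero] at this
        exact this
      · rw [mul_comm, hx]
        exact Ideal.zero_mem _
    simp only [Set.mem_iUnion] at hmem
    obtain ⟨p, hp, hsp⟩ := hmem
    exact hs' p hp hsp
  · intro p hp
    by_contra hpn
    have h1 : p ∈ T := hpn
    rw [← hzl] at h1
    exact hp (h1 hsI)

end Groth.Agent.Helper5.GRed
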