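import Mathlib
import Groth.Agent.Helper5.GRed1

set_option autoImplicit false
universe u

namespace Groth.Agent.Helper5.GRed

open TensorProduct

/-- the smooth locus of a localization is the preimage of the smooth locus -/
theorem smoothLocus_comap_of_isLocalization' {R A Af : Type*} [CommRing R] [CommRing A]
    [Algebra R A] [CommRing Af] [Algebra A Af] [Algebra R Af] [IsScalarTower R A Af]
    (M : Submonoid A) [IsLocalization M Af] :
    PrimeSpectrum.comap (algebraMap A Af) ⁻¹' Algebra.smoothLocus R A =
      Algebra.smoothLocus R Af := by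
  ext p
  let q := PrimeSpectrum.comap (algebraMap A Af) p
  have : IsLocalization.AtPrime (Localization.AtPrime p.asIdeal) q.asIdeal :=
    IsLocalization.isLocalization_isLocalization_atPrime_isLocalization M _ p.asIdeal
  refine Algebra.FormallySmooth.iff_of_equiv ?_
  exact (IsLocalization.algEquiv q.asIdeal.primeCompl _ _).restrictScalars R

attribute [local instance] Algebra.TensorProduct.rightAlgebra in
set_option maxHeartbeats 1600000 in
/-- Lemma C and the spreading of smoothness -/
theorem exists_regular_smooth_spread (R A : Type u) [CommRing R] [IsDomain R] [CommRing A]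
    [Algebra R A] [Algebra.FinitePresentation R A] [Module.Flat R A]
    (hgr : Algebra.IsGeometricallyReduced (FractionRing R) (FractionRing R ⊗[R] A)) :
    ∃ (h : A) (g : R), g ≠ 0 ∧ h ∈ nonZeroDivisors A ∧
      (PrimeSpectrum.basicOpen (h * algebraMap R A g) : Set (PrimeSpectrum A)) ⊆
        Algebra.smoothLocus R A := by
  classical
  let K := FractionRing R
  let B := K ⊗[R] A
  let M : Submonoid A := Algebra.algebraMapSubmonoid A (nonZeroDivisors R)
  have hlocB : IsLocalization M B := IsLocalization.tensorRight K (nonZeroDivisors R)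
  have hfe : Algebra.FormallyEtale R K := Algebra.FormallyEtale.of_isLocalization (nonZeroDivisors R)
  have hMle : M ≤ nonZeroDivisors A := by
    rintro _ ⟨r, hr, rfl⟩
    have h1 : IsSMulRegular R r := by
      intro x y hxy
      have h2 : r * (x - y) = 0 := by
        rw [mul_sub]; exact sub_eq_zero.2 hxy
      have := (mem_nonZeroDivisors_iff.1 hr).1 _ h2
      exact sub_eq_zero.1 this
    have h3 : IsSMulRegular A (algebraMap R A r) := IsSMulRegular.of_flat h1
    rw [mem_nonZeroDivisors_iff_right]
    intro x hx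
    apply h3
    show algebraMap R A r * x = algebraMap R A r * 0
    rw [mul_zero, mul_comm]
    exact hx
  have hinjB : Function.Injective (algebraMap A B) := IsLocalization.injective B hMle
  obtain ⟨s, hsreg, hsD⟩ := exists_regular_smooth K B
  obtain ⟨⟨a, ⟨mm, hmm⟩⟩, has⟩ := IsLocalization.surj M s
  obtain ⟨r, hr, rfl⟩ := hmm
  have has' : s * algebraMap A B (algebraMap R A r) = algebraMap A B a := has
  have hunit : IsUnit (algebraMap A B (algebraMap R A r)) :=
    IsLocalization.map_units B (⟨algebraMap R A r, ⟨r, hr, rfl⟩⟩ : M)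
  -- `a` is regular
  have hareg : a ∈ nonZeroDivisors A := by
    rw [mem_nonZeroDivisors_iff_right]
    intro x hx
    apply hinjB
    rw [map_zero]
    have h1 : algebraMap A B x * algebraMap A B a = 0 := by
      rw [← map_mul, hx, map_zero]
    rw [← has', ← mul_assoc] at h1
    have h2 : algebraMap A B x * s = 0 := by
      obtain ⟨u, hu⟩ := hunit
      have h3 : algebraMap A B x * s * (u : B) = 0 := by rw [hu]; exact h1
      have := congrArg (· * ((u⁻¹ : Bˣ) : B)) h3
      simpa [mul_assoc] using this
    exact (mem_nonZeroDivisors_iff_right.1 hsreg) _ h2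
  -- smooth points on the generic fibre
  have hgen : ∀ q₁ : PrimeSpectrum A, a ∉ q₁.asIdeal → Disjoint (M : Set A) (q₁.asIdeal : Set A) →
      q₁ ∈ Algebra.smoothLocus R A := by
    intro q₁ haq hdis
    have hrange : q₁ ∈ Set.range (PrimeSpectrum.comap (algebraMap A B)) := by
      rw [PrimeSpectrum.localization_comap_range B M]
      exact hdis
    obtain ⟨q, rfl⟩ := hrange
    have hsq : s ∉ q.asIdeal := by
      intro hsq
      apply haq
      show algebraMap A B a ∈ q.asIdeal
      rw [← has']
      exact Ideal.mul_mem_right _ _ hsq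
    have h1 : q ∈ Algebra.smoothLocus K B := hsD hsq
    have h2 : q ∈ Algebra.smoothLocus R B := by
      show Algebra.FormallySmooth R (Localization.AtPrime q.asIdeal)
      exact (Algebra.FormallySmooth.iff_restrictScalars (R := R) (A := K)
        (B := Localization.AtPrime q.asIdeal)).2 h1
    rw [← smoothLocus_comap_of_isLocalization' (R := R) (A := A) (Af := B) M] at h2
    exact h2
  -- spreading
  have hopen : IsOpen (Algebra.smoothLocus R A) := Algebra.isOpen_smoothLocus
  set T : Set (PrimeSpectrum A) := (Algebra.smoothLocus R A)ᶜ with hT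
  have hTc : IsClosed T := hopen.isClosed_compl
  set J : Ideal A := PrimeSpectrum.vanishingIdeal T with hJ
  have hzl : PrimeSpectrum.zeroLocus (J : Set A) = T := by
    rw [hJ, PrimeSpectrum.zeroLocus_vanishingIdeal_eq_closure, hTc.closure_eq]
  let M' : Submonoid A := Submonoid.powers a ⊔ M
  have hnd : ¬ Disjoint (J : Set A) (M' : Set A) := by
    intro hdis
    obtain ⟨p, hp, hJp, hpM⟩ := Ideal.exists_le_prime_disjoint J M' hdis
    have hap : a ∉ p := fun hap =>
      Set.disjoint_left.1 hpM hap (Submonoid.mem_sup_left (Submonoid.mem_powers a))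
    have hMp : Disjoint (M : Set A) (p : Set A) := by
      rw [Set.disjoint_left]
      intro x hxM hxp
      exact Set.disjoint_left.1 hpM hxp (Submonoid.mem_sup_right hxM)
    have h1 : (⟨p, hp⟩ : PrimeSpectrum A) ∈ Algebra.smoothLocus R A := hgen ⟨p, hp⟩ hap hMp
    have h2 : (⟨p, hp⟩ : PrimeSpectrum A) ∈ T := by
      rw [← hzl]
      exact hJp
    exact h2 h1
  obtain ⟨x, hxJ, hxM'⟩ := Set.not_disjoint_iff.1 hnd
  obtain ⟨y, hy, z, hz, rfl⟩ := Submonoid.mem_sup.1 hxM'
  obtain ⟨n, rfl⟩ := hy
  obtain ⟨g, hg, rfl⟩ := hz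
  refine ⟨a, g, nonZeroDivisors.ne_zero hg, hareg, ?_⟩
  intro p hp
  by_contra hpn
  have h1 : p ∈ T := hpn
  rw [← hzl] at h1
  have h2 : a ^ n * algebraMap R A g ∈ p.asIdeal := h1 hxJ
  apply hp
  show a * algebraMap R A g ∈ p.asIdeal
  rcases p.2.mem_or_mem h2 with h3 | h3
  · exact Ideal.mul_mem_right _ _ (p.2.mem_of_pow_mem n h3)
  · exact Ideal.mul_mem_left _ _ h3

end Groth.Agent.Helper5.GRed
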