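import Mathlib
import Groth.Agent.Helper5.GRed2
import Groth.Agent.Helper5.GRed3
import Groth.Agent.Helper3.RedGF5

set_option autoImplicit false
universe u

namespace Groth.Agent.Helper5.GRed

open TensorProduct

/-- the comparison map `A ⊗ L → A[1/g] ⊗ L` -/
noncomputable def awayTensorMap (R A A₁ L : Type u) [CommRing R] [CommRing A] [Algebra R A]
    [CommRing A₁] [Algebra A A₁] [Algebra R A₁] [IsScalarTower R A A₁] [Field L] [Algebra R L] :
    A ⊗[R] L →ₐ[R] A₁ ⊗[R] L :=
  Algebra.TensorProduct.map (IsScalarTower.toAlgHom R A A₁) (AlgHom.id R L)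

set_option maxHeartbeats 800000 in
theorem awayTensorMap_injective (R A A₁ L : Type u) [CommRing R] [CommRing A] [Algebra R A]
    [CommRing A₁] [Algebra A A₁] [Algebra R A₁] [IsScalarTower R A A₁] [Field L] [Algebra R L]
    (g : R) [IsLocalization.Away (algebraMap R A g) A₁] (hg : algebraMap R L g ≠ 0) :
    Function.Injective (awayTensorMap R A A₁ L) := by
  let ψ : A →ₗ[R] A₁ := (IsScalarTower.toAlgHom R A A₁).toLinearMap
  haveI : IsLocalization (Algebra.algebraMapSubmonoid A (Submonoid.powers g)) A₁ := by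
    rw [Algebra.algebraMapSubmonoid_powers]
    infer_instance
  haveI : IsLocalizedModule (Submonoid.powers g) ψ := inferInstance
  let φ : A ⊗[R] L →ₗ[R] A₁ ⊗[R] L := TensorProduct.AlgebraTensorModule.rTensor R L ψ
  have hloc : IsLocalizedModule (Submonoid.powers g) φ :=
    IsLocalizedModule.rTensor (R := R) (A := R) (Submonoid.powers g) (N := L) ψ
  have hφ : Function.Injective φ :=
    injective_of_isLocalizedModule_of_smul_injective g φ (smul_injective_tensor_field R A L g hg)
  have hΦφ : ∀ x, awayTensorMap R A A₁ L x = φ x := by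
    intro x
    induction x using TensorProduct.induction_on with
    | zero => simp
    | tmul a l => rfl
    | add x y hx hy => rw [map_add, map_add, hx, hy]
  intro x y hxy
  apply hφ
  rw [← hΦφ, ← hΦφ]
  exact hxy

theorem awayTensorMap_surjective (R A A₁ L : Type u) [CommRing R] [CommRing A] [Algebra R A]
    [CommRing A₁] [Algebra A A₁] [Algebra R A₁] [IsScalarTower R A A₁] [Field L] [Algebra R L]
    (g : R) [IsLocalization.Away (algebraMap R A g) A₁] (hg : algebraMap R L g ≠ 0) :
    Function.Surjective (awayTensorMap R A A₁ L) := by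
  intro y
  induction y using TensorProduct.induction_on with
  | zero => exact ⟨0, map_zero _⟩
  | tmul a₁ l =>
    obtain ⟨n, a, ha⟩ := IsLocalization.Away.surj (algebraMap R A g) a₁
    let u : L := (algebraMap R L g)⁻¹
    refine ⟨a ⊗ₜ[R] (u ^ n * l), ?_⟩
    show (algebraMap A A₁ a) ⊗ₜ[R] (u ^ n * l) = a₁ ⊗ₜ[R] l
    rw [← ha]
    have h1 : (algebraMap A A₁ (algebraMap R A g)) ^ n = algebraMap R A₁ (g ^ n) := by
      rw [← IsScalarTower.algebraMap_apply, map_pow]
    rw [h1, mul_comm, ← Algebra.smul_def, TensorProduct.smul_tmul]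
    congr 1
    rw [Algebra.smul_def, map_pow, ← mul_assoc, ← mul_pow]
    show (algebraMap R L g * (algebraMap R L g)⁻¹) ^ n * l = l
    rw [mul_inv_cancel₀ hg, one_pow, one_mul]
  | add x y hx hy =>
    obtain ⟨x', rfl⟩ := hx
    obtain ⟨y', rfl⟩ := hy
    exact ⟨x' + y', map_add _ _ _⟩

/-- reducedness passes between `A ⊗ L` and `A[1/g] ⊗ L` -/
theorem isReduced_tensor_away_iff (R A A₁ L : Type u) [CommRing R] [CommRing A] [Algebra R A]
    [CommRing A₁] [Algebra A A₁] [Algebra R A₁] [IsScalarTower R A A₁] [Field L] [Algebra R L]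
    (g : R) [IsLocalization.Away (algebraMap R A g) A₁] (hg : algebraMap R L g ≠ 0) :
    _root_.IsReduced (A ⊗[R] L) ↔ _root_.IsReduced (A₁ ⊗[R] L) := by
  let e : A ⊗[R] L ≃+* A₁ ⊗[R] L :=
    RingEquiv.ofBijective (awayTensorMap R A A₁ L).toRingHom
      ⟨awayTensorMap_injective R A A₁ L g hg, awayTensorMap_surjective R A A₁ L g hg⟩
  constructor
  · intro h
    exact isReduced_of_injective e.symm.toRingHom e.symm.injective
  · intro h
    exact isReduced_of_injective e.toRingHom e.injective

end Groth.Agent.Helper5.GRed
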