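import Mathlib
import Groth.Agent.Helper5.GRed4

set_option autoImplicit false
universe u

namespace Groth.Agent.Helper5.GRed

open TensorProduct Groth.Agent.Helper3

set_option maxHeartbeats 1600000 in
/-- finite presentation and flatness of `A[1/g]` over `R` from the generic freeness data -/
theorem good_away (R A : Type u) [CommRing R] [CommRing A] [Algebra R A] (g : R)
    (hfree : Module.Free (Localization.Away g) (LocalizedModule (Submonoid.powers g) A))
    (hfp : (Localization.awayMap (algebraMap R A) g).FinitePresentation) :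
    Algebra.FinitePresentation R (Localization.Away (algebraMap R A g)) ∧
      Module.Flat R (Localization.Away (algebraMap R A g)) := by
  let A₁ := Localization.Away (algebraMap R A g)
  constructor
  · rw [← RingHom.finitePresentation_algebraMap]
    have h1 : (algebraMap R (Localization.Away g)).FinitePresentation :=
      RingHom.finitePresentation_algebraMap.2 (IsLocalization.Away.finitePresentation g)
    have h2 := hfp.comp h1
    have h3 : (Localization.awayMap (algebraMap R A) g).comp (algebraMap R (Localization.Away g)) =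
        algebraMap R A₁ := by
      rw [IsScalarTower.algebraMap_eq R A A₁]
      exact IsLocalization.map_comp _
    rw [h3] at h2
    exact h2
  · let ψ : A →ₗ[R] A₁ := (IsScalarTower.toAlgHom R A A₁).toLinearMap
    haveI : IsLocalization (Algebra.algebraMapSubmonoid A (Submonoid.powers g)) A₁ := by
      rw [Algebra.algebraMapSubmonoid_powers]
      infer_instance
    haveI : IsLocalizedModule (Submonoid.powers g) ψ := inferInstance
    let e : LocalizedModule (Submonoid.powers g) A ≃ₗ[R] A₁ :=
      IsLocalizedModule.iso (Submonoid.powers g) ψ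
    haveI : Module.Flat (Localization.Away g) (LocalizedModule (Submonoid.powers g) A) :=
      inferInstance
    haveI : Module.Flat R (LocalizedModule (Submonoid.powers g) A) :=
      Module.Flat.trans R (Localization.Away g) _
    exact Module.Flat.of_linearEquiv e.symm

end Groth.Agent.Helper5.GRed

namespace Groth.Agent.Helper5.GRed

open TensorProduct Groth.Agent.Helper3

set_option maxHeartbeats 1600000 in
/-- the ring-level core: geometric reducedness spreads out from the generic fibre -/
theorem ring_core (R A : Type u) [CommRing R] [IsDomain R] [CommRing A] [Algebra R A]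
    [Algebra.FiniteType R A]
    (hgen : ∀ (L : Type u) [Field L] [Algebra R L], Function.Injective (algebraMap R L) →
      _root_.IsReduced (A ⊗[R] L)) :
    ∃ g : R, g ≠ 0 ∧ ∀ (L : Type u) [Field L] [Algebra R L], algebraMap R L g ≠ 0 →
      _root_.IsReduced (A ⊗[R] L) := by
  -- stage 1
  obtain ⟨g₁, hg₁, hfree₁, hfp₁⟩ : ∃ g₁ : R, g₁ ≠ 0 ∧
      Module.Free (Localization.Away g₁) (LocalizedModule (Submonoid.powers g₁) A) ∧
      (Localization.awayMap (algebraMap R A) g₁).FinitePresentation := by
    obtain ⟨f₁, hf₁, H₁⟩ := RedGF5.keyAlg R A 1 one_ne_zero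
    obtain ⟨hfree₁, hfp₁⟩ := H₁ 1
    exact ⟨1 * f₁ * 1, by rw [mul_one]; exact hf₁, hfree₁, hfp₁⟩
  let A₁ := Localization.Away (algebraMap R A g₁)
  obtain ⟨hfpA₁, hflatA₁⟩ := good_away R A g₁ hfree₁ hfp₁
  haveI : Algebra.FinitePresentation R A₁ := hfpA₁
  haveI : Module.Flat R A₁ := hflatA₁
  -- stage 2
  let K := FractionRing R
  have hgr : Algebra.IsGeometricallyReduced K (K ⊗[R] A₁) := by
    rw [Algebra.isGeometricallyReduced_field_iff]
    let Ω := AlgebraicClosure K
    have hinjΩ : Function.Injective (algebraMap R Ω) := by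
      rw [IsScalarTower.algebraMap_eq R K Ω]
      exact (algebraMap K Ω).injective.comp (IsFractionRing.injective R K)
    have hg₁Ω : algebraMap R Ω g₁ ≠ 0 := by
      intro h0
      exact hg₁ (hinjΩ (by rw [h0, map_zero]))
    have h1 : _root_.IsReduced (A ⊗[R] Ω) := hgen Ω hinjΩ
    have h2 : _root_.IsReduced (A₁ ⊗[R] Ω) :=
      (isReduced_tensor_away_iff R A A₁ Ω g₁ hg₁Ω).1 h1
    have h3 : _root_.IsReduced (Ω ⊗[R] A₁) :=
      isReduced_of_injective (Algebra.TensorProduct.comm R Ω A₁).toRingHom
        (Algebra.TensorProduct.comm R Ω A₁).injective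
    exact isReduced_of_injective (Algebra.TensorProduct.cancelBaseChange R K Ω Ω A₁).toRingHom
      (Algebra.TensorProduct.cancelBaseChange R K Ω Ω A₁).injective
  -- stage 3
  obtain ⟨h, g₂, hg₂, hreg, hsm₂⟩ := exists_regular_smooth_spread R A₁ hgr
  -- stage 4
  haveI : Algebra.FiniteType R A₁ := inferInstance
  obtain ⟨g₃, f₃, hg₃def, hg₃, hfree₃⟩ : ∃ g₃ f₃ : R, g₃ = g₂ * f₃ ∧ g₃ ≠ 0 ∧
      Module.Free (Localization.Away g₃)
        (LocalizedModule (Submonoid.powers g₃) (A₁ ⧸ Ideal.span {h})) := by
    obtain ⟨f₃, hg₃, hgood⟩ := RedGF4.key R A₁ (A₁ ⧸ Ideal.span {h}) g₂ hg₂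
    exact ⟨g₂ * f₃, f₃, rfl, hg₃, hgood.1⟩
  have hflat₃ : Module.Flat R (LocalizedModule (Submonoid.powers g₃) (A₁ ⧸ Ideal.span {h})) := by
    haveI : Module.Flat (Localization.Away g₃)
      (LocalizedModule (Submonoid.powers g₃) (A₁ ⧸ Ideal.span {h})) := inferInstance
    exact Module.Flat.trans R (Localization.Away g₃) _
  have hsm₃ : (PrimeSpectrum.basicOpen (h * algebraMap R A₁ g₃) : Set (PrimeSpectrum A₁)) ⊆
      Algebra.smoothLocus R A₁ := by
    intro p hp
    apply hsm₂
    intro hmem
    apply hp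
    show h * algebraMap R A₁ g₃ ∈ p.asIdeal
    have h4 : algebraMap R A₁ g₃ = algebraMap R A₁ g₂ * algebraMap R A₁ f₃ := by
      rw [hg₃def]; exact map_mul _ _ _
    rw [h4, ← mul_assoc]
    exact Ideal.mul_mem_right _ _ hmem
  -- stage 5
  refine ⟨g₁ * g₃, mul_ne_zero hg₁ hg₃, fun L _ _ hL => ?_⟩
  have hL' : algebraMap R L g₁ * algebraMap R L g₃ ≠ 0 := by
    rw [← map_mul]; exact hL
  have hL₁ : algebraMap R L g₁ ≠ 0 := left_ne_zero_of_mul hL'
  have hL₃ : algebraMap R L g₃ ≠ 0 := right_ne_zero_of_mul hL'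
  have h1 : _root_.IsReduced (A₁ ⊗[R] L) :=
    isReduced_tensor_of_good R A₁ h g₃ hreg hflat₃ hsm₃ L hL₃
  exact (isReduced_tensor_away_iff R A A₁ L g₁ hL₁).2 h1

end Groth.Agent.Helper5.GRed
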