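import Mathlib
import Groth.Agent.Helper5.RedFib

set_option autoImplicit false
universe u

namespace Groth.Agent.Helper5.RedNear

open CategoryTheory CategoryTheory.Limits AlgebraicGeometry TopologicalSpace Topology TensorProduct

/-- the base change of an affine chart is the spectrum of the tensor product -/
theorem isReduced_pullback_iff_tensor {R C L : CommRingCat.{u}} {X : Scheme.{u}}
    (f : X ⟶ Spec R) (j : Spec C ⟶ X) (α : R ⟶ L) :
    letI : Algebra R C := (Spec.preimage (j ≫ f)).hom.toAlgebra
    letI : Algebra R L := α.hom.toAlgebra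
    IsReduced (pullback (j ≫ f) (Spec.map α)) ↔ _root_.IsReduced (C ⊗[R] L) := by
  letI : Algebra R C := (Spec.preimage (j ≫ f)).hom.toAlgebra
  letI : Algebra R L := α.hom.toAlgebra
  have e1 : Spec.map (CommRingCat.ofHom (algebraMap R C)) = j ≫ f := Spec.map_preimage _
  have e2 : Spec.map (CommRingCat.ofHom (algebraMap R L)) = Spec.map α := rfl
  let e : pullback (Spec.map (CommRingCat.ofHom (algebraMap R C)))
      (Spec.map (CommRingCat.ofHom (algebraMap R L))) ≅ Spec (.of (C ⊗[R] L)) :=
    pullbackSpecIso R C L
  rw [← affine_isReduced_iff (.of (C ⊗[R] L))]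
  have key : IsReduced (pullback (j ≫ f) (Spec.map α)) ↔
      IsReduced (pullback (Spec.map (CommRingCat.ofHom (algebraMap R C)))
        (Spec.map (CommRingCat.ofHom (algebraMap R L)))) := by
    rw [e1, e2]
  rw [key]
  constructor
  · intro h
    exact isReduced_of_isOpenImmersion e.inv
  · intro h
    exact isReduced_of_isOpenImmersion e.hom

/-- Lemma F'': if a base change of `f` is reduced, so is the corresponding tensor product for
every affine chart -/
theorem isReduced_tensor_of_isReduced_pullback {R C L : CommRingCat.{u}} {X : Scheme.{u}}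
    (f : X ⟶ Spec R) (j : Spec C ⟶ X) [IsOpenImmersion j] (α : R ⟶ L)
    (hred : IsReduced (pullback f (Spec.map α))) :
    letI : Algebra R C := (Spec.preimage (j ≫ f)).hom.toAlgebra
    letI : Algebra R L := α.hom.toAlgebra
    _root_.IsReduced (C ⊗[R] L) := by
  rw [← isReduced_pullback_iff_tensor f j α]
  let m : pullback (j ≫ f) (Spec.map α) ⟶ pullback f (Spec.map α) :=
    pullback.map (j ≫ f) (Spec.map α) f (Spec.map α) j (𝟙 _) (𝟙 _) (by simp) (by simp)
  have : IsOpenImmersion m := by
    dsimp only [m]
    infer_instance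
  exact isReduced_of_isOpenImmersion m

/-- Lemma G: if all tensor products for affine charts are reduced, so is the base change -/
theorem isReduced_pullback_of_forall_tensor {R L : CommRingCat.{u}} {X : Scheme.{u}}
    (f : X ⟶ Spec R) (α : R ⟶ L)
    (H : ∀ (C : CommRingCat.{u}) (j : Spec C ⟶ X) [IsOpenImmersion j],
      letI : Algebra R C := (Spec.preimage (j ≫ f)).hom.toAlgebra
      letI : Algebra R L := α.hom.toAlgebra
      _root_.IsReduced (C ⊗[R] L)) :
    IsReduced (pullback f (Spec.map α)) := by
  let 𝒰 := Scheme.Pullback.openCoverOfLeft X.affineOpenCover.openCover f (Spec.map α)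
  have : ∀ i, IsReduced (𝒰.X i) := by
    intro i
    exact (isReduced_pullback_iff_tensor f (X.affineOpenCover.f i) α).2
      (H _ (X.affineOpenCover.f i))
  exact Groth.Agent.Helper5.RedFib.isReduced_of_openCover 𝒰

/-- Alg'': a nonzero nilpotent of `C ⊗ K` coming from `C ⊗ L` for a subfield `L` shows that
`C ⊗ L` is not reduced -/
theorem not_isReduced_of_mem_range {A C L K : Type u} [CommRing A] [CommRing C] [Algebra A C]
    [Field L] [Field K] [Algebra A L] [Algebra A K] (β : L →ₐ[A] K) (t : C ⊗[A] K)
    (ht : IsNilpotent t) (ht0 : t ≠ 0)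
    (hmem : t ∈ Set.range (Algebra.TensorProduct.map (AlgHom.id A C) β)) :
    ¬ _root_.IsReduced (C ⊗[A] L) := by
  obtain ⟨z, rfl⟩ := hmem
  -- a retraction of `β`
  letI : Algebra L K := β.toRingHom.toAlgebra
  haveI : IsScalarTower A L K := IsScalarTower.of_algebraMap_eq fun a => (β.commutes a).symm
  let βl : L →ₗ[L] K := Algebra.linearMap L K
  have hker : LinearMap.ker βl = ⊥ := LinearMap.ker_eq_bot.2 (algebraMap L K).injective
  obtain ⟨r, hr⟩ := LinearMap.exists_leftInverse_of_injective βl hker
  have hr' : ∀ l : L, r (β l) = l := fun l => by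
    have h1 : r (βl l) = l := LinearMap.congr_fun hr l
    exact h1
  have hinj : Function.Injective (Algebra.TensorProduct.map (AlgHom.id A C) β) := by
    apply Function.LeftInverse.injective
      (g := TensorProduct.map (LinearMap.id : C →ₗ[A] C) (r.restrictScalars A))
    intro w
    induction w using TensorProduct.induction_on with
    | zero => simp
    | tmul c l => simp [hr']
    | add x y hx hy => simp only [map_add, hx, hy]
  intro hred
  have hz : IsNilpotent z := (IsNilpotent.map_iff hinj).mp ht
  have : z = 0 := hred.eq_zero z hz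
  exact ht0 (by rw [this, map_zero])

end Groth.Agent.Helper5.RedNear
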