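import Mathlib
import Groth.Agent.Helper5.GRed5
import Groth.Agent.Helper5.RedNear4

set_option autoImplicit false
universe u

namespace Groth.Agent.Helper5.GRed

open CategoryTheory CategoryTheory.Limits AlgebraicGeometry TopologicalSpace Topology TensorProduct

/-- ring-hom form of the ring-level core -/
theorem ring_core' (R A : Type u) [CommRing R] [IsDomain R] [CommRing A] [Algebra R A]
    [Algebra.FiniteType R A]
    (hgen : ∀ (L : Type u) [Field L] (α : R →+* L), Function.Injective α →
      letI : Algebra R L := α.toAlgebra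
      _root_.IsReduced (A ⊗[R] L)) :
    ∃ g : R, g ≠ 0 ∧ ∀ (L : Type u) [Field L] (α : R →+* L), α g ≠ 0 →
      letI : Algebra R L := α.toAlgebra
      _root_.IsReduced (A ⊗[R] L) := by
  obtain ⟨g, hg, H⟩ := ring_core R A (fun L _ inst hinj => by
    have h1 := hgen L (algebraMap R L) hinj
    have e : (algebraMap R L).toAlgebra = inst := Algebra.algebra_ext _ _ (fun r => rfl)
    rw [e] at h1
    exact h1)
  exact ⟨g, hg, fun L _ α hα => by
    letI : Algebra R L := α.toAlgebra
    exact H L hα⟩

/-- Lemma G for a given cover by affine charts -/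
theorem isReduced_pullback_of_cover {R L : CommRingCat.{u}} {X : Scheme.{u}}
    (f : X ⟶ Spec R) (α : R ⟶ L) {ι : Type u} (C : ι → CommRingCat.{u})
    (j : ∀ i, Spec (C i) ⟶ X) [∀ i, IsOpenImmersion (j i)]
    (hcov : ∀ x : X, ∃ i, x ∈ Set.range (j i))
    (H : ∀ i,
      letI : Algebra R (C i) := (Spec.preimage (j i ≫ f)).hom.toAlgebra
      letI : Algebra R L := α.hom.toAlgebra
      _root_.IsReduced (C i ⊗[R] L)) :
    IsReduced (pullback f (Spec.map α)) := by
  let 𝒰 : X.OpenCover := Scheme.Cover.mkOfCovers ι (fun i => Spec (C i)) j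
    (fun x => by
      obtain ⟨i, y, hy⟩ := hcov x
      exact ⟨i, y, hy⟩)
    (fun i => inferInstance)
  let 𝒰' := Scheme.Pullback.openCoverOfLeft 𝒰 f (Spec.map α)
  have : ∀ i, IsReduced (𝒰'.X i) := by
    intro i
    exact (Groth.Agent.Helper5.RedNear.isReduced_pullback_iff_tensor f (j i) α).2 (H i)
  exact Groth.Agent.Helper5.RedFib.isReduced_of_openCover 𝒰'

end Groth.Agent.Helper5.GRed

namespace Groth.Agent.Helper5.GRed

open CategoryTheory CategoryTheory.Limits AlgebraicGeometry TopologicalSpace Topology TensorProduct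

set_option maxHeartbeats 1600000 in
/-- the case of an integral affine base, in terms of base changes to fields -/
theorem affine_integral_case (R : CommRingCat.{u}) [IsDomain R] {X : Scheme.{u}}
    (f : X ⟶ Spec R) [LocallyOfFiniteType f] [QuasiCompact f]
    (hgen : ∀ (L : Type u) [Field L] (α : R ⟶ CommRingCat.of L), Function.Injective α.hom →
      IsReduced (pullback f (Spec.map α))) :
    ∃ g : R, g ≠ 0 ∧ ∀ (L : Type u) [Field L] (α : R ⟶ CommRingCat.of L), α.hom g ≠ 0 →
      IsReduced (pullback f (Spec.map α)) := by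
  classical
  haveI : CompactSpace X := QuasiCompact.compactSpace_of_compactSpace f
  let 𝒱 := X.affineOpenCover.openCover.finiteSubcover
  let ι := 𝒱.I₀
  let idx : ι → X.affineOpenCover.I₀ := fun v => X.affineOpenCover.openCover.idx v.1
  let C : ι → CommRingCat.{u} := fun v => X.affineOpenCover.X (idx v)
  let j : ∀ v, Spec (C v) ⟶ X := fun v => X.affineOpenCover.f (idx v)
  haveI : ∀ v, IsOpenImmersion (j v) := fun v => inferInstance
  have hcov : ∀ x : X, ∃ v, x ∈ Set.range (j v) := by
    intro x
    obtain ⟨v, y, hy⟩ := 𝒱.exists_eq x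
    exact ⟨v, y, hy⟩
  have key : ∀ v : ι, ∃ g : R, g ≠ 0 ∧ ∀ (L : Type u) [Field L] (α : R ⟶ CommRingCat.of L),
      α.hom g ≠ 0 →
      letI : Algebra R (C v) := (Spec.preimage (j v ≫ f)).hom.toAlgebra
      letI : Algebra R L := α.hom.toAlgebra
      _root_.IsReduced (C v ⊗[R] L) := by
    intro v
    letI : Algebra R (C v) := (Spec.preimage (j v ≫ f)).hom.toAlgebra
    haveI : Algebra.FiniteType R (C v) := by
      have h1 : LocallyOfFiniteType (j v ≫ f) := inferInstance
      rw [← Spec.map_preimage (j v ≫ f), HasRingHomProperty.Spec_iff (P := @LocallyOfFiniteType)] at h1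
      exact (RingHom.finiteType_algebraMap (A := R) (B := C v)).1 h1
    obtain ⟨g, hg, H⟩ := ring_core' R (C v) (fun L _ α hα => by
      have hred := hgen L (CommRingCat.ofHom α) hα
      exact Groth.Agent.Helper5.RedNear.isReduced_tensor_of_isReduced_pullback f (j v)
        (CommRingCat.ofHom α) hred)
    exact ⟨g, hg, fun L _ α hα => H L α.hom hα⟩
  choose g hg0 hg using key
  haveI : Fintype ι := inferInstanceAs (Fintype 𝒱.I₀)
  refine ⟨∏ v, g v, Finset.prod_ne_zero_iff.2 (fun v _ => hg0 v), fun L _ α hα => ?_⟩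
  have hαv : ∀ v, α.hom (g v) ≠ 0 := by
    intro v h0
    apply hα
    rw [map_prod]
    exact Finset.prod_eq_zero (Finset.mem_univ v) h0
  exact isReduced_pullback_of_cover f α C j hcov (fun v => hg v L α (hαv v))

end Groth.Agent.Helper5.GRed
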