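import Mathlib
import Groth.Agent.Helper5.GenFib4
import Groth.Agent.Helper5.FlatCons3
import Groth.Agent.Helper5.RedFib
import Groth.Agent.Helper5.CutSec7

set_option autoImplicit false
universe u

namespace Groth.Agent.Helper5.RedNear

open CategoryTheory CategoryTheory.Limits AlgebraicGeometry TopologicalSpace Topology
open Groth.Agent.Helper5.ConsPr

theorem isReduced_iff_of_isPullback_isIso {A B C Dd : Scheme.{u}} {a : A ⟶ B} {b : A ⟶ C}
    {c : B ⟶ Dd} {d : C ⟶ Dd} (h : IsPullback a b c d) [IsIso d] :
    IsReduced A ↔ IsReduced B := by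
  have hiso : IsIso a := h.isIso_fst_of_isIso
  constructor
  · intro hr
    exact isReduced_of_isOpenImmersion (inv a)
  · intro hr
    exact isReduced_of_isOpenImmersion a

/-- Lemma R1: the fibres of a base change along a morphism inducing isomorphisms of residue
fields are isomorphic; in particular they are reduced at the same time. -/
theorem isReduced_fiber_iff_of_isPullback {X' X Y' Y : Scheme.{u}} {e : X' ⟶ X} {f' : X' ⟶ Y'}
    {f : X ⟶ Y} {g : Y' ⟶ Y} (sq : IsPullback e f' f g) (y' : Y')
    [IsIso (g.residueFieldMap y')] :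
    IsReduced (f'.fiber y') ↔ IsReduced (f.fiber (g y')) :=
  isReduced_iff_of_isPullback_isIso (isPullback_fiberToSpecResidueField_of_isPullback sq y')

/-- closed immersions induce isomorphisms of residue fields -/
instance isIso_residueFieldMap_of_isClosedImmersion {X Y : Scheme.{u}} (f : X ⟶ Y)
    [IsClosedImmersion f] (x : X) : IsIso (f.residueFieldMap x) := by
  rw [ConcreteCategory.isIso_iff_bijective]
  refine ⟨(f.residueFieldMap x).hom.injective, ?_⟩
  have h1 : Function.Surjective (f.stalkMap x ≫ X.residue x).hom := by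
    rw [CommRingCat.hom_comp, RingHom.coe_comp]
    exact (X.residue_surjective x).comp (f.stalkMap_surjective x)
  rw [← Scheme.residue_residueFieldMap] at h1
  rw [CommRingCat.hom_comp, RingHom.coe_comp] at h1
  exact Function.Surjective.of_comp h1

/-- Lemma C: generic openness for the image of a closed subset. -/
theorem exists_open_subset_image_closed {X Y : Scheme.{u}} (f : X ⟶ Y) [IrreducibleSpace Y]
    [LocallyOfFiniteType f] [QuasiCompact f] (N : Set X) (hN : IsClosed N)
    (hη : genericPoint Y ∈ f '' N) :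
    ∃ V : Y.Opens, (V : Set Y).Nonempty ∧ (V : Set Y) ⊆ f '' N := by
  let C : Closeds X := ⟨N, hN⟩
  let I := Scheme.IdealSheafData.vanishingIdeal C
  have hrange : Set.range I.subschemeι = N := by
    rw [Scheme.IdealSheafData.range_subschemeι,
      Scheme.IdealSheafData.coe_support_vanishingIdeal]
    rfl
  have : IsReduced I.subscheme :=
    Groth.Agent.Helper5.CutSec.isReduced_vanishingIdeal_subscheme C
  have hηg : genericPoint Y ∈ Set.range (I.subschemeι ≫ f) := by
    obtain ⟨x, hxN, hx⟩ := hη
    rw [← hrange] at hxN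
    obtain ⟨t, rfl⟩ := hxN
    exact ⟨t, hx⟩
  obtain ⟨V, hVne, hV⟩ := Groth.Agent.Helper5.GenFib.exists_open_subset_range
    (I.subschemeι ≫ f) hηg
  refine ⟨V, hVne, fun y hy => ?_⟩
  obtain ⟨t, rfl⟩ := hV hy
  refine ⟨I.subschemeι t, ?_, rfl⟩
  rw [← hrange]
  exact ⟨t, rfl⟩

end Groth.Agent.Helper5.RedNear
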