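import Mathlib
import Groth.Agent.Helper5.RedNear1

set_option autoImplicit false
universe u

namespace Groth.Agent.Helper5.RedNear

open CategoryTheory CategoryTheory.Limits AlgebraicGeometry TopologicalSpace Topology
open Groth.Agent.Helper5.ConsPr Groth.Agent.Helper5.FlatCons

/-- Lemma S: the core of S1330.  `Z` is a reduced closed subscheme of `X` with the same
underlying space, flat and of finite presentation over the irreducible base. -/
theorem core {X Z V : Scheme.{u}} [IrreducibleSpace V] (f : X ⟶ V) (i : Z ⟶ X)
    [IsClosedImmersion i] [Surjective i] [IsReduced Z]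
    [LocallyOfFinitePresentation f] [QuasiCompact f]
    [LocallyOfFinitePresentation (i ≫ f)] [Flat (i ≫ f)]
    (h : ¬ IsReduced (f.fiber (genericPoint V))) :
    ∃ V' : V.Opens, (V' : Set V).Nonempty ∧ ∀ y ∈ V', ¬ IsReduced (f.fiber y) := by
  have hi : LocallyOfFinitePresentation i :=
    Groth.Agent.Helper2.LfpComp.locallyOfFinitePresentation_of_comp i f inferInstance inferInstance
  let N : Set Z := {z | ¬ (i.stalkMap z).hom.Flat}
  have hN : IsClosed N := by
    have := Groth.Agent.Helper2.FlatLocusSch.isOpen_flat_locus i
    exact this.isClosed_compl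
  -- properties of the fibre maps
  have hcl : ∀ y : V, IsClosedImmersion (MoreMor.fiberMap i f y) := fun y =>
    MorphismProperty.of_isPullback (isPullback_fiberMap i f y) (inferInstance : IsClosedImmersion i)
  have hsurj : ∀ y : V, Surjective (MoreMor.fiberMap i f y) := fun y =>
    MorphismProperty.of_isPullback (isPullback_fiberMap i f y) (inferInstance : Surjective i)
  have hlfp : ∀ y : V, LocallyOfFinitePresentation (MoreMor.fiberMap i f y) := fun y =>
    MorphismProperty.of_isPullback (isPullback_fiberMap i f y) hi
  -- if the fibre at `y` is reduced, `i` is flat at all points over `y`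
  have key : ∀ y : V, IsReduced (f.fiber y) → ∀ z : Z, (i ≫ f) z = y →
      (i.stalkMap z).hom.Flat := by
    intro y hy z hz
    have := hcl y
    have := hsurj y
    have hiso : IsIso (MoreMor.fiberMap i f y) := isIso_of_isClosedImmersion_of_surjective _
    have hfl : Flat (MoreMor.fiberMap i f y) := inferInstance
    exact forall_of_flat_fiberMap i f y hfl z hz
  -- the generic point is in the image of the non-flat locus
  have hmax : ∀ η' : V, η' ⤳ genericPoint V → η' = genericPoint V := by
    intro η' hη'
    have h1 : genericPoint V ⤳ η' := by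
      rw [specializes_iff_mem_closure, genericPoint_closure]; trivial
    exact (hη'.antisymm h1).eq
  have hη : genericPoint V ∈ (i ≫ f) '' N := by
    by_contra hcon
    have H : ∀ z : Z, (i ≫ f) z = genericPoint V → (i.stalkMap z).hom.Flat := by
      intro z hz
      by_contra hz'
      exact hcon ⟨z, hz', hz⟩
    have hfl : Flat (MoreMor.fiberMap i f (genericPoint V)) := flat_fiberMap_of_forall i f _ H
    have := hcl (genericPoint V)
    have := hsurj (genericPoint V)
    have := hlfp (genericPoint V)
    have hopen : IsOpenImmersion (MoreMor.fiberMap i f (genericPoint V)) :=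
      IsOpenImmersion.of_flat_of_mono _
    have hiso : IsIso (MoreMor.fiberMap i f (genericPoint V)) :=
      (isIso_iff_isOpenImmersion_and_surjective _).mpr ⟨hopen, inferInstance⟩
    have hZred : IsReduced ((i ≫ f).fiber (genericPoint V)) :=
      Groth.Agent.Helper5.RedFib.isReduced_fiber (i ≫ f) _ hmax
    exact h (isReduced_of_isOpenImmersion (inv (MoreMor.fiberMap i f (genericPoint V))))
  obtain ⟨V', hne, hV'⟩ := exists_open_subset_image_closed (i ≫ f) N hN hη
  refine ⟨V', hne, fun y hy hred => ?_⟩
  obtain ⟨z, hzN, hz⟩ := hV' hy
  exact hzN (key y hred z hz)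

end Groth.Agent.Helper5.RedNear
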