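import Mathlib
import Groth.Agent.Helper5.RedNear2
import Groth.Agent.Helper5.ConsLc3
import Groth.Agent.Helper5.SmCons3

set_option autoImplicit false
universe u

namespace Groth.Agent.Helper5.RedNear

open CategoryTheory CategoryTheory.Limits AlgebraicGeometry TopologicalSpace Topology
open Groth.Agent.Helper5.ConsPr Groth.Agent.Helper5.FlatCons

/-- Lemma Rst: restriction to a smaller open of a property stable under base change -/
theorem restrict_of_le (P : MorphismProperty Scheme.{u}) [P.IsStableUnderBaseChange]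
    {X Y : Scheme.{u}} (f : X ⟶ Y) {U V : Y.Opens} (e : U ≤ V) (h : P (f ∣_ V)) : P (f ∣_ U) := by
  have sq : IsPullback (X.homOfLE (f.preimage_mono e)) (f ∣_ U) (f ∣_ V) (Y.homOfLE e) := by
    refine IsPullback.of_right (h₁₂ := (f ⁻¹ᵁ V).ι) (h₂₂ := V.ι) (v₁₃ := f) ?_
      (morphismRestrict_homOfLE f U V e).symm (isPullback_morphismRestrict f V).flip
    rw [Scheme.homOfLE_ι, Scheme.homOfLE_ι]
    exact (isPullback_morphismRestrict f U).flip
  exact MorphismProperty.of_isPullback sq h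

set_option maxHeartbeats 1600000 in
/-- S1330 -/
theorem s1330 {X Y : Scheme.{u}} (f : X ⟶ Y) [IrreducibleSpace ↑Y] [LocallyOfFiniteType f]
    [QuasiCompact f] (h : ¬ IsReduced (f.fiber (genericPoint ↑Y))) :
    ∃ V : Y.Opens, (V : Set ↑Y).Nonempty ∧ ∀ y ∈ V, ¬ IsReduced (f.fiber y) := by
  -- Step 0: an integral model of the base
  obtain ⟨Y₀, r, hr, hY₀, hrange⟩ := exists_integral_subscheme (Set.univ : Set Y) isClosed_univ
    (IrreducibleSpace.isIrreducible_univ Y)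
  have hrs : Function.Surjective r := Set.range_eq_univ.1 hrange
  have hrη : r (genericPoint Y₀) = genericPoint Y :=
    ((Groth.Agent.Helper5.ConsLc.isGenericPoint_image_genericPoint r Set.univ isClosed_univ
      hrange).eq (genericPoint_spec Y))
  have hropen : IsOpenMap r := by
    intro O hO
    have hb : Function.Bijective r := ⟨r.isClosedEmbedding.injective, hrs⟩
    have h1 : IsClosed (r '' Oᶜ) := r.isClosedEmbedding.isClosedMap _ hO.isClosed_compl
    rw [Set.image_compl_eq hb] at h1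
    exact isClosed_compl_iff.1 h1
  let f₀ : pullback f r ⟶ Y₀ := pullback.snd f r
  have sq₀ : IsPullback (pullback.fst f r) f₀ f r := IsPullback.of_hasPullback f r
  -- the reduced subscheme of the total space
  let C : Closeds ↥(pullback f r) := ⊤
  let I := Scheme.IdealSheafData.vanishingIdeal C
  let i : I.subscheme ⟶ pullback f r := I.subschemeι
  have hirange : Set.range i = Set.univ := by
    rw [Scheme.IdealSheafData.range_subschemeι,
      Scheme.IdealSheafData.coe_support_vanishingIdeal]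
    rfl
  have hisurj : Surjective i := ⟨Set.range_eq_univ.1 hirange⟩
  have hZred : IsReduced I.subscheme :=
    Groth.Agent.Helper5.CutSec.isReduced_vanishingIdeal_subscheme C
  -- generic flatness
  obtain ⟨U₁, hU₁d, -, hU₁fp⟩ := Groth.Agent.Helper3.RedGF6.main f₀
  obtain ⟨U₂, hU₂d, hU₂fl, hU₂fp⟩ := Groth.Agent.Helper3.RedGF6.main (i ≫ f₀)
  let V : Y₀.Opens := U₁ ⊓ U₂
  have hVne : (V : Set Y₀).Nonempty := by
    obtain ⟨x, hx⟩ := hU₁d.nonempty
    obtain ⟨y, hy⟩ := hU₂d.nonempty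
    exact nonempty_preirreducible_inter U₁.2 U₂.2 ⟨x, hx⟩ ⟨y, hy⟩
  have hVne' : Nonempty ↥(V : Scheme.{u}) := by
    obtain ⟨x, hx⟩ := hVne
    exact ⟨⟨x, hx⟩⟩
  have hVint : IsIntegral (V : Scheme.{u}) := isIntegral_of_isOpenImmersion V.ι
  have hVη : V.ι (genericPoint ↥(V : Scheme.{u})) = genericPoint Y₀ :=
    genericPoint_eq_of_isOpenImmersion V.ι
  -- the restricted data
  have hfVfp : LocallyOfFinitePresentation (f₀ ∣_ V) :=
    restrict_of_le @LocallyOfFinitePresentation f₀ inf_le_left hU₁fp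
  have hfVqc : QuasiCompact (f₀ ∣_ V) :=
    MorphismProperty.of_isPullback (isPullback_morphismRestrict f₀ V).flip
      (inferInstance : QuasiCompact f₀)
  have hcomp : i ∣_ (f₀ ⁻¹ᵁ V) ≫ f₀ ∣_ V = (i ≫ f₀) ∣_ V :=
    Groth.Agent.Helper5.SmCons.restrict_comp i f₀ V
  have hiVfp : LocallyOfFinitePresentation (i ∣_ (f₀ ⁻¹ᵁ V) ≫ f₀ ∣_ V) := by
    rw [hcomp]
    exact restrict_of_le @LocallyOfFinitePresentation (i ≫ f₀) inf_le_right hU₂fp
  have hiVfl : Flat (i ∣_ (f₀ ⁻¹ᵁ V) ≫ f₀ ∣_ V) := by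
    rw [hcomp]
    exact restrict_of_le @Flat (i ≫ f₀) inf_le_right hU₂fl
  have hiVcl : IsClosedImmersion (i ∣_ (f₀ ⁻¹ᵁ V)) :=
    MorphismProperty.of_isPullback (isPullback_morphismRestrict i (f₀ ⁻¹ᵁ V)).flip
      (inferInstance : IsClosedImmersion i)
  have hiVsurj : Surjective (i ∣_ (f₀ ⁻¹ᵁ V)) :=
    MorphismProperty.of_isPullback (isPullback_morphismRestrict i (f₀ ⁻¹ᵁ V)).flip hisurj
  have hZVred : IsReduced ((i ⁻¹ᵁ (f₀ ⁻¹ᵁ V) : I.subscheme.Opens) : Scheme.{u}) :=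
    isReduced_of_isOpenImmersion (i ⁻¹ᵁ (f₀ ⁻¹ᵁ V)).ι
  -- fibres
  have hfibV : ∀ v : ↥(V : Scheme.{u}),
      IsReduced ((f₀ ∣_ V).fiber v) ↔ IsReduced (f.fiber (r (V.ι v))) := by
    intro v
    rw [isReduced_fiber_iff_of_isPullback (isPullback_morphismRestrict f₀ V).flip v,
      isReduced_fiber_iff_of_isPullback sq₀ (V.ι v)]
  have hgen : ¬ IsReduced ((f₀ ∣_ V).fiber (genericPoint ↥(V : Scheme.{u}))) := by
    rw [hfibV, hVη, hrη]
    exact h
  obtain ⟨V', hV'ne, hV'⟩ := core (f₀ ∣_ V) (i ∣_ (f₀ ⁻¹ᵁ V)) hgen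
  refine ⟨⟨r '' (V.ι '' (V' : Set ↥(V : Scheme.{u}))),
    hropen _ (V.ι.isOpenEmbedding.isOpenMap _ V'.2)⟩, ?_, ?_⟩
  · obtain ⟨v, hv⟩ := hV'ne
    exact ⟨r (V.ι v), V.ι v, ⟨v, hv, rfl⟩, rfl⟩
  · rintro _ ⟨_, ⟨v, hv, rfl⟩, rfl⟩ hred
    exact hV' v hv ((hfibV v).2 hred)

end Groth.Agent.Helper5.RedNear
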