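import Mathlib
import Groth.Agent.Helper5.RedNear3
import Groth.Agent.Helper5.RedNear4
import Groth.Agent.Helper5.CPair4
import Groth.Agent.Lead.GeomFibre

set_option autoImplicit false
universe u

namespace Groth.Agent.Helper5.RedNear

open CategoryTheory CategoryTheory.Limits AlgebraicGeometry TopologicalSpace Topology TensorProduct
open Groth.Agent.Helper5.CPair

/-- a geometrically reduced scheme over the spectrum of a residue field is reduced -/
theorem isReduced_of_geometricallyReduced_fiber {X Y : Scheme.{u}} (f : X ⟶ Y) (y : Y)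
    (h : GeometricallyReduced (f.fiberToSpecResidueField y)) : IsReduced (f.fiber y) := by
  have h1 := (geometricallyReduced_iff _).1 h
  exact h1 (K := ↑(Y.residueField y)) (𝟙 _) (𝟙 _) (f.fiberToSpecResidueField y) IsPullback.of_id_fst

/-- geometric reducedness of fibres under base change -/
theorem geometricallyReduced_fiber_iff {X Y X' Y' : Scheme.{u}} {f : X ⟶ Y} {g : Y' ⟶ Y}
    {f' : X' ⟶ Y'} {g' : X' ⟶ X} (hc : IsPullback g' f' f g) (y' : Y') :
    GeometricallyReduced (f'.fiberToSpecResidueField y') ↔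
      GeometricallyReduced (f.fiberToSpecResidueField (g y')) := by
  rw [geometricallyReduced_iff, geometricallyReduced_iff]
  exact Groth.Agent.Lead.GeomFibre.fibre_iff IsReduced
    (fun q hq hs hA => Groth.Agent.Lead.GeomFibre.isReduced_descend q hq hs hA) f g f' g' hc y'

set_option maxHeartbeats 1600000 in
/-- the affine case of S1331 -/
theorem affine_case (A : CommRingCat.{u}) [IrreducibleSpace ↥(Spec A)] {X : Scheme.{u}}
    (f : X ⟶ Spec A) [LocallyOfFiniteType f] [QuasiCompact f] {K : Type u} [Field K]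
    (φ : A ⟶ CommRingCat.of K)
    (hφ : ∀ w, Spec.map φ w = genericPoint ↥(Spec A))
    (hnr : ¬ IsReduced (pullback f (Spec.map φ))) :
    ∃ V : (Spec A).Opens, (V : Set ↥(Spec A)).Nonempty ∧
      ∀ y ∈ V, ¬ GeometricallyReduced (f.fiberToSpecResidueField y) := by
  letI algK : Algebra ↑A K := φ.hom.toAlgebra
  -- an affine chart with non-reduced base change
  obtain ⟨C, j, hj, hC⟩ : ∃ (C : CommRingCat.{u}) (j : Spec C ⟶ X) (_ : IsOpenImmersion j),
      letI : Algebra ↑A ↑C := (Spec.preimage (j ≫ f)).hom.toAlgebra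
      ¬ _root_.IsReduced (↑C ⊗[↑A] K) := by
    by_contra hcon
    apply hnr
    apply isReduced_pullback_of_forall_tensor f φ
    intro C j hj
    by_contra hC
    exact hcon ⟨C, j, hj, hC⟩
  letI algC : Algebra ↑A ↑C := (Spec.preimage (j ≫ f)).hom.toAlgebra
  obtain ⟨t, ht0, ht⟩ := exists_isNilpotent_of_not_isReduced hC
  obtain ⟨B, hBfg, hBt⟩ := exists_fg_and_mem_baseChange t
  obtain ⟨z, hz⟩ : ∃ z : ↑C ⊗[↑A] ↥B, Algebra.TensorProduct.map (AlgHom.id ↑A ↑C) B.val z = t := hBt
  -- the stage
  let k : (Idx ↑A K)ᵒᵖ := Opposite.op ⟨B, hBfg⟩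
  let Z : Scheme.{u} := (D ↑A K).obj k
  let σ : Z ⟶ Spec A := str ↑A K k
  let p : Spec (CommRingCat.of K) ⟶ Z := proj ↑A K k
  have hpσ : p ≫ σ = Spec.map φ := proj_str ↑A K k
  have hdomB : IsDomain ↥B := inferInstance
  have hZint : IsIntegral Z := by
    show IsIntegral (Spec (CommRingCat.of ↥B))
    infer_instance
  have hBft : Algebra.FiniteType ↑A ↥B := (Subalgebra.fg_iff_finiteType _).1 hBfg
  have hσft : LocallyOfFiniteType σ := by
    show LocallyOfFiniteType (Spec.map (CommRingCat.ofHom (algebraMap ↑A ↥B)))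
    rw [HasRingHomProperty.Spec_iff (P := @LocallyOfFiniteType)]
    exact (RingHom.finiteType_algebraMap (A := ↑A) (B := ↥B)).2 hBft
  let w₀ : ↥(Spec (CommRingCat.of K)) := IsLocalRing.closedPoint K
  let z₀ : Z := p w₀
  have hz₀gen : z₀ = genericPoint Z := by
    have hw₀ : w₀ = (⊥ : PrimeSpectrum K) := Subsingleton.elim _ _
    show (Spec.map (CommRingCat.ofHom B.val.toRingHom)) w₀ =
      genericPoint (Spec (CommRingCat.of ↥B))
    rw [genericPoint_eq_bot_of_affine, hw₀]
    apply PrimeSpectrum.ext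
    show Ideal.comap B.val.toRingHom (⊥ : Ideal K) = ⊥
    exact Ideal.comap_bot_of_injective _ Subtype.val_injective
  have hσz₀ : σ z₀ = genericPoint ↥(Spec A) := by
    show σ (p w₀) = _
    rw [← Scheme.Hom.comp_apply, hpσ]
    exact hφ w₀
  -- the base change to the stage
  let fB : pullback f σ ⟶ Z := pullback.snd f σ
  have sqB : IsPullback (pullback.fst f σ) fB f σ := IsPullback.of_hasPullback f σ
  -- the residue field at the generic point of the stage
  let L : CommRingCat.{u} := Z.residueField z₀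
  let β₀ : L ⟶ CommRingCat.of K := Z.descResidueField (Scheme.stalkClosedPointTo p)
  have hβ₀ : Spec.map β₀ ≫ Z.fromSpecResidueField z₀ = p :=
    Scheme.descResidueField_stalkClosedPointTo_fromSpecResidueField K Z p
  let α : A ⟶ L := Spec.preimage (Z.fromSpecResidueField z₀ ≫ σ)
  have hα : Spec.map α = Z.fromSpecResidueField z₀ ≫ σ := Spec.map_preimage _
  let γ₀ : CommRingCat.of ↥B ⟶ L := Spec.preimage (Z.fromSpecResidueField z₀)
  have hγ₀ : Spec.map γ₀ = Z.fromSpecResidueField z₀ := Spec.map_preimage _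
  have hαβ : α ≫ β₀ = φ := by
    apply Spec.map_injective
    rw [Spec.map_comp, hα, ← Category.assoc, hβ₀, hpσ]
  have hγβ : γ₀ ≫ β₀ = CommRingCat.ofHom B.val.toRingHom := by
    apply Spec.map_injective
    rw [Spec.map_comp, hγ₀]
    exact hβ₀
  have hAγ : CommRingCat.ofHom (algebraMap ↑A ↥B) ≫ γ₀ = α := by
    apply Spec.map_injective
    rw [Spec.map_comp, hγ₀, hα]
    rfl
  -- the generic fibre of the stage is not reduced
  have hgen : ¬ IsReduced (fB.fiber (genericPoint Z)) := by
    rw [← hz₀gen]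
    intro hred
    have h1 : IsReduced (pullback fB (Z.fromSpecResidueField z₀)) := hred
    have h2 : IsReduced (pullback f (Z.fromSpecResidueField z₀ ≫ σ)) :=
      isReduced_of_isOpenImmersion (pullbackLeftPullbackSndIso f σ (Z.fromSpecResidueField z₀)).inv
    rw [← hα] at h2
    have h3 := isReduced_tensor_of_isReduced_pullback f j α h2
    let algL : Algebra ↑A ↑L := α.hom.toAlgebra
    let β : ↑L →ₐ[↑A] K := { β₀.hom with
      commutes' := fun a => by
        have := congrArg (fun ψ => ψ.hom a) hαβ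
        exact this }
    let γ : ↥B →ₐ[↑A] ↑L := { γ₀.hom with
      commutes' := fun a => by
        have := congrArg (fun ψ => ψ.hom a) hAγ
        exact this }
    have hβγ : β.comp γ = B.val := by
      ext b
      have := congrArg (fun ψ => ψ.hom b) hγβ
      exact this
    refine not_isReduced_of_mem_range β t ht ht0
      ⟨Algebra.TensorProduct.map (AlgHom.id ↑A ↑C) γ z, ?_⟩ h3
    rw [← hz, ← AlgHom.comp_apply, ← Algebra.TensorProduct.map_comp, AlgHom.comp_id, hβγ]
  obtain ⟨VB, hVBne, hVB⟩ := s1330 fB hgen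
  have hz₀VB : z₀ ∈ (VB : Set Z) := by
    rw [hz₀gen]
    exact Groth.Agent.Helper5.GenFib.genericPoint_mem_of_isOpen _ VB.2 hVBne
  obtain ⟨V, hVne, hV⟩ := Groth.Agent.Helper5.GenFib.exists_open_subset_image σ
    (VB : Set Z) VB.2 ⟨z₀, hz₀VB, hσz₀⟩
  refine ⟨V, hVne, fun y hy hgr => ?_⟩
  obtain ⟨z', hz', rfl⟩ := hV hy
  have h1 : GeometricallyReduced (fB.fiberToSpecResidueField z') :=
    (geometricallyReduced_fiber_iff sqB z').2 hgr
  exact hVB z' hz' (isReduced_of_geometricallyReduced_fiber fB z' h1)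

end Groth.Agent.Helper5.RedNear
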