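import Mathlib
import Groth.Agent.Helper5.GRed6
import Groth.Agent.Helper5.RedNear5

set_option autoImplicit false
universe u

namespace Groth.Agent.Helper5.GRed

open CategoryTheory CategoryTheory.Limits AlgebraicGeometry TopologicalSpace Topology TensorProduct

/-- base change of a geometrically reduced fibre along a field-valued point at `y` -/
theorem isReduced_pullback_of_fiber {X Y : Scheme.{u}} (f : X ⟶ Y) (y : Y)
    (h : GeometricallyReduced (f.fiberToSpecResidueField y)) (L : Type u) [Field L]
    (a : Spec (CommRingCat.of L) ⟶ Y) (ha : a (IsLocalRing.closedPoint L) = y) :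
    IsReduced (pullback f a) := by
  obtain ⟨⟨y', φ⟩, rfl⟩ := (Scheme.SpecToEquivOfField L Y).symm.surjective a
  have hy' : y' = y := by
    rw [← ha]
    show y' = (Spec.map φ ≫ Y.fromSpecResidueField y') (IsLocalRing.closedPoint L)
    rw [Scheme.Hom.comp_apply]
    exact (Scheme.fromSpecResidueField_apply y' _).symm
  subst hy'
  show IsReduced (pullback f (Spec.map φ ≫ Y.fromSpecResidueField y'))
  have h1 : IsReduced (pullback (f.fiberToSpecResidueField y') (Spec.map φ)) :=
    GeometricallyReduced.geometrically_isReduced (f := f.fiberToSpecResidueField y') _ _ _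
      (IsPullback.of_hasPullback _ _)
  have h2 : IsReduced (pullback (pullback.snd f (Y.fromSpecResidueField y')) (Spec.map φ)) := h1
  exact isReduced_of_isOpenImmersion
    (pullbackLeftPullbackSndIso f (Y.fromSpecResidueField y') (Spec.map φ)).inv

/-- a fibre is geometrically reduced if all base changes along field-valued points at `y` are
reduced -/
theorem geometricallyReduced_fiber_of_forall {X Y : Scheme.{u}} (f : X ⟶ Y) (y : Y)
    (H : ∀ (L : Type u) [Field L] (a : Spec (CommRingCat.of L) ⟶ Y),
      a (IsLocalRing.closedPoint L) = y → IsReduced (pullback f a)) :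
    GeometricallyReduced (f.fiberToSpecResidueField y) := by
  rw [geometricallyReduced_iff]
  intro K _ y' Z fst snd hpb
  let a : Spec (CommRingCat.of K) ⟶ Y := y' ≫ Y.fromSpecResidueField y
  have ha : a (IsLocalRing.closedPoint K) = y := by
    show (y' ≫ Y.fromSpecResidueField y) _ = y
    rw [Scheme.Hom.comp_apply]
    exact Scheme.fromSpecResidueField_apply y _
  have hpb' : IsPullback (fst ≫ f.fiberι y) snd f a :=
    hpb.paste_horiz (IsPullback.of_hasPullback f (Y.fromSpecResidueField y))
  have := H K a ha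
  exact isReduced_of_isOpenImmersion hpb'.isoPullback.hom

end Groth.Agent.Helper5.GRed

namespace Groth.Agent.Helper5.GRed

open CategoryTheory CategoryTheory.Limits AlgebraicGeometry TopologicalSpace Topology TensorProduct

set_option maxHeartbeats 3200000 in
/-- S0434, pointwise form -/
theorem s0434_pointwise {X Y : Scheme.{u}} (f : X ⟶ Y) [IrreducibleSpace ↑Y]
    [LocallyOfFiniteType f] [QuasiCompact f]
    (h : GeometricallyReduced (f.fiberToSpecResidueField (genericPoint ↑Y))) :
    ∃ V : Y.Opens, (V : Set ↑Y).Nonempty ∧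
      ∀ y ∈ V, GeometricallyReduced (f.fiberToSpecResidueField y) := by
  let η := genericPoint Y
  obtain ⟨U, hU, hηU⟩ : ∃ U : Y.Opens, IsAffineOpen U ∧ η ∈ U := by
    obtain ⟨_, ⟨U, hU, rfl⟩, hxU, -⟩ :=
      (Y.isBasis_affineOpens).exists_subset_of_mem_open (Set.mem_univ η) isOpen_univ
    exact ⟨U, hU, hxU⟩
  let R₀ : CommRingCat.{u} := Γ(Y, U)
  let j₀ : Spec R₀ ⟶ Y := hU.fromSpec
  have hj₀range : Set.range j₀ = U := hU.range_fromSpec
  have hne : Nonempty ↥(Spec R₀) := by
    obtain ⟨s, -⟩ : η ∈ Set.range j₀ := by rw [hj₀range]; exact hηU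
    exact ⟨s⟩
  have hirr : IrreducibleSpace ↥(Spec R₀) := by
    have h1 : IsPreirreducible (j₀ ⁻¹' (Set.univ : Set Y)) :=
      (PreirreducibleSpace.isPreirreducible_univ (X := Y)).preimage j₀.isOpenEmbedding
    rw [Set.preimage_univ] at h1
    have : PreirreducibleSpace ↥(Spec R₀) := ⟨h1⟩
    exact IrreducibleSpace.mk hne
  have hprime : (nilradical ↑R₀).IsPrime :=
    PrimeSpectrum.irreducibleSpace_iff_isPrime_nilradical.1 hirr
  let R : CommRingCat.{u} := CommRingCat.of (↑R₀ ⧸ nilradical ↑R₀)
  haveI : IsDomain ↑R := Ideal.Quotient.isDomain _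
  let π : R₀ ⟶ R := CommRingCat.ofHom (Ideal.Quotient.mk (nilradical ↑R₀))
  have hπsurj : Function.Surjective π.hom := Ideal.Quotient.mk_surjective
  let ι₁ : Spec R ⟶ Spec R₀ := Spec.map π
  have hι₁surj : Function.Surjective ι₁ := by
    intro p
    have hp : p ∈ Set.range (PrimeSpectrum.comap π.hom) := by
      rw [range_comap_of_surjective _ _ hπsurj]
      intro x hx
      have hx' : x ∈ nilradical ↑R₀ := by
        have : π.hom x = 0 := hx
        exact Ideal.Quotient.eq_zero_iff_mem.1 this
      exact nilradical_le_prime p.asIdeal hx'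
    exact hp
  let j : Spec R ⟶ Y := ι₁ ≫ j₀
  have hjrange : Set.range j = U := by
    show Set.range (ι₁ ≫ j₀) = U
    rw [Scheme.Hom.comp_base, TopCat.coe_comp, Set.range_comp, hι₁surj.range_eq, Set.image_univ]
    exact hj₀range
  have hjgen : j (genericPoint ↥(Spec R)) = η := by
    have h1 : IsGenericPoint (j (genericPoint ↥(Spec R))) (closure (Set.range j)) := by
      have := (genericPoint_spec ↥(Spec R)).image j.continuous
      simpa [Set.image_univ] using this
    have h2 : closure (Set.range j) = Set.univ := by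
      rw [hjrange]
      exact (U.2.dense ⟨η, hηU⟩).closure_eq
    rw [h2] at h1
    exact h1.eq (genericPoint_spec Y)
  let f₁ : pullback f j ⟶ Spec R := pullback.snd f j
  have sq : IsPullback (pullback.fst f j) f₁ f j := IsPullback.of_hasPullback f j
  -- the hypothesis on the generic fibre
  have hgen₁ : ∀ (L : Type u) [Field L] (α : R ⟶ CommRingCat.of L), Function.Injective α.hom →
      IsReduced (pullback f₁ (Spec.map α)) := by
    intro L _ α hα
    let a : Spec (CommRingCat.of L) ⟶ Y := Spec.map α ≫ j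
    have ha : a (IsLocalRing.closedPoint L) = η := by
      show (Spec.map α ≫ j) _ = η
      rw [Scheme.Hom.comp_apply, ← hjgen]
      congr 1
      rw [genericPoint_eq_bot_of_affine]
      apply PrimeSpectrum.ext
      show Ideal.comap α.hom (IsLocalRing.closedPoint L).asIdeal = ⊥
      have : (IsLocalRing.closedPoint L).asIdeal = ⊥ := by
        show IsLocalRing.maximalIdeal L = ⊥
        exact IsLocalRing.maximalIdeal_eq_bot
      rw [this]
      exact Ideal.comap_bot_of_injective _ hα
    have h1 : IsReduced (pullback f a) := isReduced_pullback_of_fiber f η h L a ha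
    exact isReduced_of_isOpenImmersion (pullbackLeftPullbackSndIso f j (Spec.map α)).hom
  obtain ⟨g, hg0, Hg⟩ := affine_integral_case R f₁ hgen₁
  obtain ⟨g₀, hg₀⟩ := hπsurj g
  let V₀ : Set ↥(Spec R₀) := (PrimeSpectrum.basicOpen g₀ : Set (PrimeSpectrum ↑R₀))
  have hV₀open : IsOpen V₀ := (PrimeSpectrum.basicOpen g₀).2
  refine ⟨⟨j₀ '' V₀, j₀.isOpenEmbedding.isOpenMap _ hV₀open⟩, ?_, ?_⟩
  · refine ⟨j₀ (ι₁ (genericPoint ↥(Spec R))), ι₁ (genericPoint ↥(Spec R)), ?_, rfl⟩
    show g₀ ∉ (ι₁ (genericPoint ↥(Spec R))).asIdeal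
    rw [genericPoint_eq_bot_of_affine]
    show ¬ (π.hom g₀ ∈ (⊥ : Ideal ↑R))
    rw [hg₀, Ideal.mem_bot]
    exact hg0
  · rintro _ ⟨y₀, hy₀, rfl⟩
    obtain ⟨y₁, rfl⟩ := hι₁surj y₀
    have hgy₁ : g ∉ y₁.asIdeal := by
      intro hmem
      apply hy₀
      show π.hom g₀ ∈ y₁.asIdeal
      rw [hg₀]
      exact hmem
    have h1 : GeometricallyReduced (f₁.fiberToSpecResidueField y₁) := by
      apply geometricallyReduced_fiber_of_forall
      intro L _ a₁ ha₁
      let α : R ⟶ CommRingCat.of L := Spec.preimage a₁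
      have hα : Spec.map α = a₁ := Spec.map_preimage _
      have hαg : α.hom g ≠ 0 := by
        intro h0
        apply hgy₁
        rw [← ha₁, ← hα]
        show g ∈ Ideal.comap α.hom (IsLocalRing.closedPoint L).asIdeal
        rw [Ideal.mem_comap, h0]
        exact Ideal.zero_mem _
      have := Hg L α hαg
      rw [hα] at this
      exact this
    exact (Groth.Agent.Helper5.RedNear.geometricallyReduced_fiber_iff sq y₁).1 h1

/-- S0434 -/
theorem s0434 {X Y : Scheme.{u}} (f : X ⟶ Y) [IrreducibleSpace ↑Y]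
    [LocallyOfFiniteType f] [QuasiCompact f]
    (h : GeometricallyReduced (f.fiberToSpecResidueField (genericPoint ↑Y))) :
    ∃ V : Y.Opens, (V : Set ↑Y).Nonempty ∧ GeometricallyReduced (f ∣_ V) := by
  obtain ⟨V, hVne, hV⟩ := s0434_pointwise f h
  refine ⟨V, hVne, ?_⟩
  rw [geometricallyReduced_iff, geometrically_iff_forall_fiberToSpecResidueField]
  intro y
  rw [← geometricallyReduced_iff]
  have sqV : IsPullback (f ⁻¹ᵁ V).ι (f ∣_ V) f V.ι := (isPullback_morphismRestrict f V).flip
  exact (Groth.Agent.Helper5.RedNear.geometricallyReduced_fiber_iff sqV y).2 (hV (V.ι y) y.2)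

end Groth.Agent.Helper5.GRed
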