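import Mathlib
import Groth.Agent.Helper5.RedNear5

set_option autoImplicit false
universe u

namespace Groth.Agent.Helper5.RedNear

open CategoryTheory CategoryTheory.Limits AlgebraicGeometry TopologicalSpace Topology TensorProduct

set_option maxHeartbeats 1600000 in
/-- S1331 -/
theorem s1331 {X Y : Scheme.{u}} (f : X ⟶ Y) [IrreducibleSpace ↑Y] [LocallyOfFiniteType f]
    [QuasiCompact f]
    (h : ¬ GeometricallyReduced (f.fiberToSpecResidueField (genericPoint ↑Y))) :
    ∃ V : Y.Opens, (V : Set ↑Y).Nonempty ∧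
      ∀ y ∈ V, ¬ GeometricallyReduced (f.fiberToSpecResidueField y) := by
  let η := genericPoint Y
  -- a field-valued point with non-reduced base change
  rw [geometricallyReduced_iff] at h
  unfold geometrically at h
  push_neg at h
  obtain ⟨K, hK, y, Z', fst, snd, hpb, hZ'⟩ := h
  let a : Spec (CommRingCat.of K) ⟶ Y := y ≫ Y.fromSpecResidueField η
  have ha : ∀ w, a w = η := by
    intro w
    show (y ≫ Y.fromSpecResidueField η) w = η
    rw [Scheme.Hom.comp_apply]
    exact Scheme.fromSpecResidueField_apply η _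
  have hpb' : IsPullback (fst ≫ f.fiberι η) snd f a :=
    hpb.paste_horiz (IsPullback.of_hasPullback f (Y.fromSpecResidueField η))
  -- affine open neighbourhood of the generic point
  obtain ⟨U, hU, hηU⟩ : ∃ U : Y.Opens, IsAffineOpen U ∧ η ∈ U := by
    obtain ⟨_, ⟨U, hU, rfl⟩, hxU, -⟩ :=
      (Y.isBasis_affineOpens).exists_subset_of_mem_open (Set.mem_univ η) isOpen_univ
    exact ⟨U, hU, hxU⟩
  let j : Spec Γ(Y, U) ⟶ Y := hU.fromSpec
  have hjrange : Set.range j = U := hU.range_fromSpec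
  have harange : Set.range a ⊆ Set.range j := by
    rintro _ ⟨t, rfl⟩
    rw [ha, hjrange]
    exact hηU
  obtain ⟨a', ha'⟩ : ∃ a' : Spec (CommRingCat.of K) ⟶ Spec Γ(Y, U), a' ≫ j = a :=
    ⟨IsOpenImmersion.lift j a harange, IsOpenImmersion.lift_fac _ _ _⟩
  let φ : Γ(Y, U) ⟶ CommRingCat.of K := Spec.preimage a'
  have hφ : Spec.map φ = a' := Spec.map_preimage _
  -- irreducibility of the affine open
  have hne : Nonempty ↥(Spec Γ(Y, U)) := by
    obtain ⟨s, -⟩ : η ∈ Set.range j := by rw [hjrange]; exact hηU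
    exact ⟨s⟩
  have hirr : IrreducibleSpace ↥(Spec Γ(Y, U)) := by
    have h1 : IsPreirreducible (j ⁻¹' (Set.univ : Set Y)) :=
      (PreirreducibleSpace.isPreirreducible_univ (X := Y)).preimage j.isOpenEmbedding
    rw [Set.preimage_univ] at h1
    have : PreirreducibleSpace ↥(Spec Γ(Y, U)) := ⟨h1⟩
    exact IrreducibleSpace.mk hne
  have hjη : j (genericPoint ↥(Spec Γ(Y, U))) = η := genericPoint_eq_of_isOpenImmersion j
  have hφη : ∀ w, Spec.map φ w = genericPoint ↥(Spec Γ(Y, U)) := by
    intro w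
    apply j.isOpenEmbedding.injective
    rw [hjη, hφ, ← Scheme.Hom.comp_apply, ha']
    exact ha w
  -- the base change to the affine open
  let fA : pullback f j ⟶ Spec Γ(Y, U) := pullback.snd f j
  have sqA : IsPullback (pullback.fst f j) fA f j := IsPullback.of_hasPullback f j
  have hnr : ¬ IsReduced (pullback fA (Spec.map φ)) := by
    intro hred
    apply hZ'
    have e1 : pullback fA (Spec.map φ) ≅ pullback f (Spec.map φ ≫ j) :=
      pullbackLeftPullbackSndIso f j (Spec.map φ)
    have h2 : IsReduced (pullback f (Spec.map φ ≫ j)) := isReduced_of_isOpenImmersion e1.inv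
    rw [hφ, ha'] at h2
    exact isReduced_of_isOpenImmersion hpb'.isoPullback.hom
  obtain ⟨VA, hVAne, hVA⟩ := affine_case Γ(Y, U) fA φ hφη hnr
  refine ⟨⟨j '' (VA : Set ↥(Spec Γ(Y, U))), j.isOpenEmbedding.isOpenMap _ VA.2⟩, ?_, ?_⟩
  · obtain ⟨s, hs⟩ := hVAne
    exact ⟨j s, s, hs, rfl⟩
  · rintro _ ⟨s, hs, rfl⟩ hgr
    exact hVA s hs ((geometricallyReduced_fiber_iff sqA s).2 hgr)

end Groth.Agent.Helper5.RedNear
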