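import Mathlib
import Groth.Agent.Helper5.GRed7
import Groth.Agent.Helper5.RedNear6
import Groth.Agent.Helper5.ConsLc9

set_option autoImplicit false
universe u

namespace Groth.Agent.Helper5.GRed

open CategoryTheory CategoryTheory.Limits AlgebraicGeometry TopologicalSpace Topology TensorProduct

/-- the relation "geometrically reduced" on algebraic schemes over a field -/
def PGR : ∀ ⦃Y T : Scheme.{u}⦄, (Y ⟶ T) → Prop := fun _ _ g => GeometricallyReduced g

theorem isFieldStable_PGR : ConsProp.IsFieldStable PGR.{u} := by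
  intro Y Y' T T' g g' e h _ _ _ _ _ _ sq
  constructor
  · intro hg
    exact MorphismProperty.of_isPullback (P := @GeometricallyReduced) sq hg
  · intro hg'
    haveI : Surjective h := ⟨fun t => by
      obtain ⟨t'⟩ := (inferInstance : Nonempty T')
      exact ⟨t', Subsingleton.elim _ _⟩⟩
    have hg'' : geometrically IsReduced g' := (geometricallyReduced_iff _).1 hg'
    show GeometricallyReduced g
    rw [geometricallyReduced_iff]
    apply Groth.Agent.Lead.GeomFibre.geometrically_descend IsReduced
      (fun q hq hs hA => Groth.Agent.Lead.GeomFibre.isReduced_descend q hq hs hA) g h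
    have sq' : IsPullback sq.isoPullback.inv (pullback.snd g h) g' (𝟙 _) :=
      IsPullback.of_horiz_isIso ⟨by rw [IsPullback.isoPullback_inv_snd, Category.comp_id]⟩
    exact MorphismProperty.of_isPullback sq' hg''

theorem isCons_PGR : ConsProp.IsCons PGR.{u} := by
  refine ⟨isFieldStable_PGR, ?_⟩
  intro X S u _ _ _ _
  by_cases hη : GeometricallyReduced (u.fiberToSpecResidueField (genericPoint S))
  · left
    obtain ⟨V, ⟨v, hv⟩, hV⟩ := s0434_pointwise u hη
    refine ⟨v, ?_⟩
    rw [mem_interior]
    exact ⟨V, fun y hy => hV y hy, V.2, hv⟩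
  · right
    obtain ⟨V, ⟨v, hv⟩, hV⟩ := Groth.Agent.Helper5.RedNear.s1331 u hη
    refine ⟨v, ?_⟩
    rw [mem_interior]
    exact ⟨V, fun y hy => hV y hy, V.2, hv⟩

/-- the quasi-separated case of S1301 -/
theorem lc_geomRed_qs {X Y : Scheme.{u}} (f : X ⟶ Y) [QuasiCompact f] [QuasiSeparated f]
    [LocallyOfFinitePresentation f] :
    IsLocallyConstructible {y : Y | GeometricallyReduced (f.fiberToSpecResidueField y)} :=
  Groth.Agent.Helper5.ConsLc.isLocallyConstructible_locus isCons_PGR f

/-- geometric reducedness of a fibre can be checked on an open cover of the source -/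
theorem geomRed_fiber_iff_cover {X Y : Scheme.{u}} (f : X ⟶ Y) (𝒱 : X.OpenCover) (y : Y) :
    GeometricallyReduced (f.fiberToSpecResidueField y) ↔
      ∀ i, GeometricallyReduced ((𝒱.f i ≫ f).fiberToSpecResidueField y) := by
  constructor
  · intro h i
    apply geometricallyReduced_fiber_of_forall
    intro L _ a ha
    have := isReduced_pullback_of_fiber f y h L a ha
    exact @isReduced_of_isOpenImmersion _ _ ((Scheme.Pullback.openCoverOfLeft 𝒱 f a).f i)
      ((Scheme.Pullback.openCoverOfLeft 𝒱 f a).map_prop i) this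
  · intro h
    apply geometricallyReduced_fiber_of_forall
    intro L _ a ha
    have : ∀ i, IsReduced ((Scheme.Pullback.openCoverOfLeft 𝒱 f a).X i) := fun i =>
      isReduced_pullback_of_fiber (𝒱.f i ≫ f) y (h i) L a ha
    exact Groth.Agent.Helper5.RedFib.isReduced_of_openCover (Scheme.Pullback.openCoverOfLeft 𝒱 f a)

end Groth.Agent.Helper5.GRed

namespace Groth.Agent.Helper5.GRed

open CategoryTheory CategoryTheory.Limits AlgebraicGeometry TopologicalSpace Topology TensorProduct

set_option maxHeartbeats 1600000 in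
/-- S1301 -/
theorem s1301 {X Y : Scheme.{u}} (f : X ⟶ Y) [QuasiCompact f] [LocallyOfFinitePresentation f] :
    IsLocallyConstructible {y : Y | GeometricallyReduced (f.fiberToSpecResidueField y)} := by
  apply IsLocallyConstructible.of_isOpenCover (U := fun U : Y.affineOpens => U.1)
    (iSup_affineOpens_eq_top Y)
  intro U
  haveI : IsAffine (U.1 : Scheme.{u}) := U.2
  let fU := f ∣_ U.1
  have sqU : IsPullback (f ⁻¹ᵁ U.1).ι fU f U.1.ι := (isPullback_morphismRestrict f U.1).flip
  haveI : CompactSpace ↥(f ⁻¹ᵁ U.1 : Scheme.{u}) := QuasiCompact.compactSpace_of_compactSpace fU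
  let 𝒱 := (f ⁻¹ᵁ U.1 : Scheme.{u}).affineCover.finiteSubcover
  have hi : ∀ i, IsLocallyConstructible {w : (U.1 : Scheme.{u}) |
      GeometricallyReduced ((𝒱.f i ≫ fU).fiberToSpecResidueField w)} := by
    intro i
    haveI : IsAffine (𝒱.X i) := inferInstance
    exact lc_geomRed_qs (𝒱.f i ≫ fU)
  have heq : (U.1.ι ⁻¹' {y : Y | GeometricallyReduced (f.fiberToSpecResidueField y)}) =
      ⋂ i, {w : (U.1 : Scheme.{u}) |
        GeometricallyReduced ((𝒱.f i ≫ fU).fiberToSpecResidueField w)} := by
    ext w
    simp only [Set.mem_preimage, Set.mem_setOf_eq, Set.mem_iInter]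
    rw [← geomRed_fiber_iff_cover fU 𝒱 w]
    exact (Groth.Agent.Helper5.RedNear.geometricallyReduced_fiber_iff sqU w).symm
  have key : IsLocallyConstructible
      (U.1.ι ⁻¹' {y : Y | GeometricallyReduced (f.fiberToSpecResidueField y)}) := by
    rw [heq]
    exact IsLocallyConstructible.iInter hi
  exact key

end Groth.Agent.Helper5.GRed
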