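import Mathlib
import Groth.Agent.Helper5.NoethDim1
import Groth.Agent.Helper5.GRed8

set_option autoImplicit false
universe u

namespace Groth.Agent.Helper5.NoethApprox

open CategoryTheory CategoryTheory.Limits AlgebraicGeometry TopologicalSpace Topology
open Groth.Agent.Lead Groth.Agent.Helper5.ConsLc

/-- the data of a fibrewise property that is compatible with base change and has locally
constructible loci -/
structure FibProp (Q : ∀ ⦃X Y : Scheme.{u}⦄, (X ⟶ Y) → Y → Prop) : Prop where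
  bc : ∀ ⦃X' X Y' Y : Scheme.{u}⦄ {e : X' ⟶ X} {f' : X' ⟶ Y'} {f : X ⟶ Y} {g : Y' ⟶ Y},
    IsPullback e f' f g → ∀ y' : Y', (Q f' y' ↔ Q f (g y'))
  lc : ∀ ⦃X Y : Scheme.{u}⦄ (f : X ⟶ Y) [LocallyOfFinitePresentation f] [QuasiCompact f]
    [QuasiSeparated f], IsLocallyConstructible {y : Y | Q f y}

section Stage

variable {I : Type u} [SmallCategory I] [IsCofiltered I]
  (D : I ⥤ Scheme.{u}) (c : Limits.Cone D) (hc : Limits.IsLimit c)
  [∀ (i j : I) (f : i ⟶ j), IsAffineHom (D.map f)]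

include hc in
/-- a finitely presented affine morphism to the limit all of whose fibres have the property `Q`
has a model over a stage, affine over that stage, with the same property -/
theorem exists_stage_model_prop {Q : ∀ ⦃X Y : Scheme.{u}⦄, (X ⟶ Y) → Y → Prop} (hQ : FibProp Q)
    [∀ i, IsAffine (D.obj i)]
    {X : Scheme.{u}} (u : X ⟶ c.pt) [LocallyOfFinitePresentation u] [IsAffineHom u]
    (hd : ∀ s : c.pt, Q u s) (i₁ : I) :
    ∃ (k : I) (_ : k ⟶ i₁) (Xk : Scheme.{u}) (uk : Xk ⟶ D.obj k) (q : X ⟶ Xk),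
      LocallyOfFinitePresentation uk ∧ IsAffineHom uk ∧ IsPullback q u uk (c.π.app k) ∧
        ∀ t : D.obj k, Q uk t := by
  have hA : ∀ {i j : I} (f : i ⟶ j), IsAffineHom (D.map f) := fun f => inferInstance
  haveI : ∀ i, CompactSpace (D.obj i) := fun i => inferInstance
  haveI : ∀ i, QuasiSeparatedSpace (D.obj i) := fun i => inferInstance
  obtain ⟨k, a, Xk, uk, q, h1, h2, h3, H⟩ := exists_stage_model D c hc u i₁
  haveI : CompactSpace Xk := QuasiCompact.compactSpace_of_compactSpace uk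
  haveI : QuasiSeparatedSpace Xk := quasiSeparatedSpace_of_quasiSeparated uk
  have hY : IsPullback (c.π.app k) (𝟙 c.pt) (𝟙 (D.obj k)) (c.π.app k) :=
    haveI : IsIso (𝟙 c.pt) := inferInstance
    IsPullback.of_vert_isIso ⟨by simp⟩
  obtain ⟨i, φ, Xi, Yi, fi, gi, pY, pX, hYi, hXi, hfi⟩ :=
    Groth.Agent.S9186.result D c hc k uk (𝟙 _) u (𝟙 _) (c.π.app k) q hY H
  haveI : IsIso gi := hYi.isIso_snd_of_isIso
  have Hi : IsPullback pX (fi ≫ gi) uk (D.map φ) := by
    have := hXi.paste_vert hYi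
    rwa [Category.comp_id] at this
  have hfp : LocallyOfFinitePresentation (fi ≫ gi) := MorphismProperty.of_isPullback Hi h1
  have hqc : QuasiCompact (fi ≫ gi) := MorphismProperty.of_isPullback Hi h2
  have hqs : QuasiSeparated (fi ≫ gi) := MorphismProperty.of_isPullback Hi h3
  have haff : IsAffineHom (fi ≫ gi) := inferInstance
  have hqi : ∃ qi : X ⟶ Xi, IsPullback qi u (fi ≫ gi) (c.π.app i) := by
    have hw : c.π.app i ≫ D.map φ = c.π.app k := c.w φ
    have hcomm : q ≫ uk = (u ≫ c.π.app i) ≫ D.map φ := by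
      rw [Category.assoc, hw]; exact H.w
    refine ⟨Hi.lift q (u ≫ c.π.app i) hcomm, ?_⟩
    refine IsPullback.of_right (h₁₂ := pX) (h₂₂ := D.map φ) (v₁₃ := uk) ?_ (Hi.lift_snd _ _ _) Hi
    rw [Hi.lift_fst, hw]
    exact H
  obtain ⟨qi, Hqi⟩ := hqi
  let E : Set (D.obj i) := {t | Q (fi ≫ gi) t}
  have hE : ProCons.IsIndConstructible E :=
    ProConsLib.ind_of_isLocallyConstructible (hQ.lc (fi ≫ gi))
  have hmem : ∀ s : c.pt, c.π.app i s ∈ E := by
    intro s
    show Q (fi ≫ gi) (c.π.app i s)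
    rw [← hQ.bc Hqi s]
    exact hd s
  obtain ⟨j, ψ, hj⟩ := exists_stage_forall_mem hc i E hE hmem
  have Hj : IsPullback (pullback.fst (fi ≫ gi) (D.map ψ)) (pullback.snd (fi ≫ gi) (D.map ψ))
      (fi ≫ gi) (D.map ψ) := IsPullback.of_hasPullback _ _
  obtain ⟨q', -, H'⟩ := model_baseChange D c u ψ (fi ≫ gi) qi Hqi
  refine ⟨j, ψ ≫ φ ≫ a, _, pullback.snd (fi ≫ gi) (D.map ψ), q',
    MorphismProperty.pullback_snd _ _ hfp, MorphismProperty.pullback_snd _ _ haff, H', fun t => ?_⟩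
  rw [hQ.bc Hj t]
  exact hj t

end Stage

set_option backward.isDefEq.respectTransparency false in
/-- Noetherian approximation of a finitely presented morphism of affine schemes all of whose fibres
have a given constructible property -/
theorem approx {Q : ∀ ⦃X Y : Scheme.{u}⦄, (X ⟶ Y) → Y → Prop} (hQ : FibProp Q)
    {X S : Scheme.{u}} (f : X ⟶ S) [IsAffine X] [IsAffine S]
    [LocallyOfFinitePresentation f] (hd : ∀ s : S, Q f s) :
    ∃ (X₀ S₀ : Scheme.{u}) (f₀ : X₀ ⟶ S₀) (g : S ⟶ S₀) (g' : X ⟶ X₀), IsAffine X₀ ∧ IsAffine S₀ ∧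
      IsPullback g' f f₀ g ∧ Algebra.FiniteType ℤ Γ(S₀, ⊤) ∧ LocallyOfFiniteType f₀ ∧
        ∀ s₀ : S₀, Q f₀ s₀ := by
  have hfg : (⊥ : Subalgebra ℤ Γ(S, ⊤)).FG := Subalgebra.fg_bot
  haveI := SubalgSys.isCofiltered hfg
  have hc : IsLimit (SubalgSys.cone Γ(S, ⊤) ⊥) := SubalgSys.coneIsLimit hfg
  haveI : ∀ (i j : (SubalgSys.Idx Γ(S, ⊤) ⊥)ᵒᵖ) (f : i ⟶ j),
      IsAffineHom ((SubalgSys.D Γ(S, ⊤) ⊥).map f) := fun _ _ f => inferInstance
  haveI : ∀ i, IsAffine ((SubalgSys.D Γ(S, ⊤) ⊥).obj i) := fun i => by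
    change IsAffine (Spec _); infer_instance
  let s : S ≅ (SubalgSys.cone Γ(S, ⊤) ⊥).pt := S.isoSpec
  haveI : IsAffine (SubalgSys.cone Γ(S, ⊤) ⊥).pt := by
    change IsAffine (Spec _); infer_instance
  haveI : IsAffineHom (f ≫ s.hom) := isAffineHom_of_isAffine _
  have sq : IsPullback (𝟙 X) f (f ≫ s.hom) s.hom := IsPullback.of_horiz_isIso ⟨by simp⟩
  have hd' : ∀ t : (SubalgSys.cone Γ(S, ⊤) ⊥).pt, Q (f ≫ s.hom) t := by
    intro t
    have h1 := hQ.bc sq (s.inv t)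
    have h2 : s.hom (s.inv t) = t := by
      rw [← Scheme.Hom.comp_apply, s.inv_hom_id]; rfl
    rw [h2] at h1
    exact h1.1 (hd _)
  obtain ⟨k, -, Xk, uk, q, h1, h2, H, hk⟩ :=
    exists_stage_model_prop (SubalgSys.D Γ(S, ⊤) ⊥) (SubalgSys.cone Γ(S, ⊤) ⊥) hc hQ
      (f ≫ s.hom) hd' (Opposite.op (SubalgSys.base _ ⊥ hfg))
  have hXk : IsAffine Xk := isAffine_of_isAffineHom uk
  have hft : Algebra.FiniteType ℤ k.unop.1 := (Subalgebra.fg_iff_finiteType k.unop.1).mp k.unop.2.1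
  refine ⟨Xk, _, uk, s.hom ≫ (SubalgSys.cone Γ(S, ⊤) ⊥).π.app k, q, hXk, inferInstance,
    isPullback_of_comp_iso s H, ?_, inferInstance, hk⟩
  change Algebra.FiniteType ℤ Γ(Spec (.of k.unop.1), ⊤)
  exact Algebra.FiniteType.equiv hft
    ((Scheme.ΓSpecIso (.of k.unop.1)).symm.commRingCatIsoToRingEquiv.toIntAlgEquiv)

/-- the fibrewise property "geometrically reduced" -/
theorem fibProp_geomRed :
    FibProp (fun (X Y : Scheme.{u}) (f : X ⟶ Y) (y : Y) =>
      GeometricallyReduced (f.fiberToSpecResidueField y)) where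
  bc := fun _ _ _ _ _ _ _ _ sq y' =>
    Groth.Agent.Helper5.RedNear.geometricallyReduced_fiber_iff sq y'
  lc := fun _ _ f _ _ _ => Groth.Agent.Helper5.GRed.s1301 f

theorem s1461 {X S : Scheme.{u}} (f : X ⟶ S) [IsAffine X] [IsAffine S]
    [LocallyOfFinitePresentation f] [GeometricallyReduced f] :
    ∃ (X₀ S₀ : Scheme.{u}) (f₀ : X₀ ⟶ S₀) (g : S ⟶ S₀) (g' : X ⟶ X₀), IsAffine X₀ ∧ IsAffine S₀ ∧
      IsPullback g' f f₀ g ∧ Algebra.FiniteType ℤ Γ(S₀, ⊤) ∧ LocallyOfFiniteType f₀ ∧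
        GeometricallyReduced f₀ := by
  obtain ⟨X₀, S₀, f₀, g, g', h1, h2, h3, h4, h5, h6⟩ :=
    approx fibProp_geomRed f (fun s => inferInstance)
  refine ⟨X₀, S₀, f₀, g, g', h1, h2, h3, h4, h5, ?_⟩
  rw [geometricallyReduced_iff, geometrically_iff_forall_fiberToSpecResidueField]
  intro y
  rw [← geometricallyReduced_iff]
  exact h6 y

end Groth.Agent.Helper5.NoethApprox
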