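import Mathlib
import Groth.Prelude
import Groth.Agent.Helper5.GCntJ
import Groth.Agent.Helper5.NoethApprox1
import Groth.Agent.Helper4.GeomConnSch

set_option autoImplicit false
set_option linter.style.haveILetI false
universe u

namespace Groth.Agent.Helper5.GCnt

open AlgebraicGeometry CategoryTheory CategoryTheory.Limits TopologicalSpace Topology
open Groth.Agent.Helper5.GenFib

theorem irreducibleSpace_iff_encard {F : Type*} [TopologicalSpace F] :
    IrreducibleSpace F ↔ (irreducibleComponents F).encard = 1 := by
  constructor
  · intro h
    rw [irreducibleComponents_eq_singleton, Set.encard_singleton]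
  · intro h
    obtain ⟨C, hC⟩ := Set.encard_eq_one.1 h
    have h1 : ⋃₀ irreducibleComponents F = Set.univ := sUnion_irreducibleComponents
    rw [hC, Set.sUnion_singleton] at h1
    have h2 : C ∈ irreducibleComponents F := by rw [hC]; exact Set.mem_singleton C
    rw [irreducibleSpace_def]
    show IsIrreducible (Set.univ : Set F)
    rw [← h1]
    exact h2.1

theorem connectedSpace_iff_card {F : Type*} [TopologicalSpace F] :
    ConnectedSpace F ↔ ENat.card (ConnectedComponents F) = 1 := by
  constructor
  · intro h
    haveI : Subsingleton (ConnectedComponents F) := by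
      constructor
      intro a b
      obtain ⟨x, rfl⟩ := ConnectedComponents.surjective_coe a
      obtain ⟨y, rfl⟩ := ConnectedComponents.surjective_coe b
      rw [ConnectedComponents.coe_eq_coe']
      rw [PreconnectedSpace.connectedComponent_eq_univ y]
      exact Set.mem_univ x
    obtain ⟨x⟩ := (inferInstance : Nonempty F)
    haveI : Nonempty (ConnectedComponents F) := ⟨ConnectedComponents.mk x⟩
    exact ENat.card_eq_one_iff_unique.2 ⟨⟨⟨ConnectedComponents.mk x⟩, fun a => Subsingleton.elim _ _⟩⟩
  · intro h
    obtain ⟨hu⟩ := ENat.card_eq_one_iff_unique.1 h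
    obtain ⟨x, -⟩ := ConnectedComponents.surjective_coe (default : ConnectedComponents F)
    rw [connectedSpace_iff_connectedComponent]
    refine ⟨x, ?_⟩
    apply Set.eq_univ_of_forall
    intro y
    have : (ConnectedComponents.mk y : ConnectedComponents F) = ConnectedComponents.mk x :=
      Subsingleton.elim _ _
    exact ConnectedComponents.coe_eq_coe'.1 this

/-- geometric irreducibility of a fibre in terms of the count -/
theorem geomIrr_fiber_iff_count {X Y : Scheme.{u}} (f : X ⟶ Y) (y : Y) :
    GeometricallyIrreducible (f.fiberToSpecResidueField y) ↔ MoreMor.nGeomIrredComp f y = 1 := by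
  show _ ↔ (irreducibleComponents ↥(MoreMor.geomFiber f y)).encard = 1
  rw [← irreducibleSpace_iff_encard]
  constructor
  · intro h
    exact GeometricallyIrreducible.geometrically_irreducibleSpace
      (f := f.fiberToSpecResidueField y) (Spec.map (CommRingCat.ofHom (algebraMap (Y.residueField y)
          (SeparableClosure (Y.residueField y))))) _ _ (IsPullback.of_hasPullback _ _)
  · intro h
    haveI : IrreducibleSpace ↥(pullback (f.fiberToSpecResidueField y)
        (Spec.map (CommRingCat.ofHom (algebraMap (Y.residueField y)
          (SeparableClosure (Y.residueField y)))))) := h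
    exact @Groth.Agent.Helper4.GeomIrrSch.geometricallyIrreducible_of_sepClosure
      (Y.residueField y) _ _ (f.fiberToSpecResidueField y) h

/-- geometric connectedness of a fibre in terms of the count -/
theorem geomConn_fiber_iff_count {X Y : Scheme.{u}} (f : X ⟶ Y) (y : Y) :
    GeometricallyConnected (f.fiberToSpecResidueField y) ↔ MoreMor.nGeomConnComp f y = 1 := by
  show _ ↔ ENat.card (_root_.ConnectedComponents ↥(MoreMor.geomFiber f y)) = 1
  rw [← connectedSpace_iff_card]
  constructor
  · intro h
    exact GeometricallyConnected.geometrically_connectedSpace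
      (f := f.fiberToSpecResidueField y) (Spec.map (CommRingCat.ofHom (algebraMap (Y.residueField y)
          (SeparableClosure (Y.residueField y))))) _ _ (IsPullback.of_hasPullback _ _)
  · intro h
    haveI : ConnectedSpace ↥(pullback (f.fiberToSpecResidueField y)
        (Spec.map (CommRingCat.ofHom (algebraMap (Y.residueField y)
          (SeparableClosure (Y.residueField y)))))) := h
    exact @Groth.Agent.Helper4.GeomConnSch.geometricallyConnected_of_sepClosure
      (Y.residueField y) _ _ (f.fiberToSpecResidueField y) h

/-- base change invariance of geometric connectedness of a fibre -/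
theorem geomConn_fiber_iff {X Y X' Y' : Scheme.{u}} {f : X ⟶ Y} {g : Y' ⟶ Y} {f' : X' ⟶ Y'}
    {g' : X' ⟶ X} (hc : IsPullback g' f' f g) (y' : Y') :
    GeometricallyConnected (f'.fiberToSpecResidueField y') ↔
      GeometricallyConnected (f.fiberToSpecResidueField (g y')) := by
  rw [geomConn_fiber_iff_count, geomConn_fiber_iff_count, Groth.Agent.S1335.result f f' g' g hc y']

end Groth.Agent.Helper5.GCnt
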