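import Mathlib
import Groth.Prelude
import Groth.Agent.Helper5.GCntK

set_option autoImplicit false
set_option linter.style.haveILetI false
universe u

namespace Groth.Agent.Helper5.GCnt

open AlgebraicGeometry CategoryTheory CategoryTheory.Limits TopologicalSpace Topology
open Groth.Agent.Helper5.GenFib Groth.Agent.Helper5.NoethApprox

/-- the fibrewise property "geometrically irreducible" -/
theorem fibProp_geomIrr :
    FibProp (fun (X Y : Scheme.{u}) (f : X ⟶ Y) (y : Y) =>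
      GeometricallyIrreducible (f.fiberToSpecResidueField y)) where
  bc := fun _ _ _ _ _ _ _ _ sq y' => Groth.Agent.Helper5.GIrr.geomIrr_fiber_iff sq y'
  lc := fun X Y f _ _ _ => by
    have h := isLocallyConstructible_cnt {p : ℕ∞ × ℕ∞ | p.1 = 1} f
    have e : {y : Y | GeometricallyIrreducible (f.fiberToSpecResidueField y)} =
        {y : Y | cnt f y ∈ {p : ℕ∞ × ℕ∞ | p.1 = 1}} := by
      ext y
      exact geomIrr_fiber_iff_count f y
    rw [e]
    exact h

/-- the fibrewise property "geometrically connected" -/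
theorem fibProp_geomConn :
    FibProp (fun (X Y : Scheme.{u}) (f : X ⟶ Y) (y : Y) =>
      GeometricallyConnected (f.fiberToSpecResidueField y)) where
  bc := fun _ _ _ _ _ _ _ _ sq y' => geomConn_fiber_iff sq y'
  lc := fun X Y f _ _ _ => by
    have h := isLocallyConstructible_cnt {p : ℕ∞ × ℕ∞ | p.2 = 1} f
    have e : {y : Y | GeometricallyConnected (f.fiberToSpecResidueField y)} =
        {y : Y | cnt f y ∈ {p : ℕ∞ × ℕ∞ | p.2 = 1}} := by
      ext y
      exact geomConn_fiber_iff_count f y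
    rw [e]
    exact h

theorem s1462 {X S : Scheme.{u}} (f : X ⟶ S) [IsAffine X] [IsAffine S]
    [LocallyOfFinitePresentation f] [GeometricallyIrreducible f] :
    ∃ (X₀ S₀ : Scheme.{u}) (f₀ : X₀ ⟶ S₀) (g : S ⟶ S₀) (g' : X ⟶ X₀), IsAffine X₀ ∧ IsAffine S₀ ∧
      IsPullback g' f f₀ g ∧ Algebra.FiniteType ℤ Γ(S₀, ⊤) ∧ LocallyOfFiniteType f₀ ∧
        GeometricallyIrreducible f₀ := by
  obtain ⟨X₀, S₀, f₀, g, g', h1, h2, h3, h4, h5, h6⟩ :=
    approx fibProp_geomIrr f (fun s => inferInstance)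
  refine ⟨X₀, S₀, f₀, g, g', h1, h2, h3, h4, h5, ?_⟩
  rw [GeometricallyIrreducible.iff_geometricallyIrreducible_fiber]
  exact h6

theorem s1463 {X S : Scheme.{u}} (f : X ⟶ S) [IsAffine X] [IsAffine S]
    [LocallyOfFinitePresentation f] [GeometricallyConnected f] :
    ∃ (X₀ S₀ : Scheme.{u}) (f₀ : X₀ ⟶ S₀) (g : S ⟶ S₀) (g' : X ⟶ X₀), IsAffine X₀ ∧ IsAffine S₀ ∧
      IsPullback g' f f₀ g ∧ Algebra.FiniteType ℤ Γ(S₀, ⊤) ∧ LocallyOfFiniteType f₀ ∧
        GeometricallyConnected f₀ := by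
  obtain ⟨X₀, S₀, f₀, g, g', h1, h2, h3, h4, h5, h6⟩ :=
    approx fibProp_geomConn f (fun s => inferInstance)
  refine ⟨X₀, S₀, f₀, g, g', h1, h2, h3, h4, h5, ?_⟩
  rw [GeometricallyConnected.iff_geometricallyConnected_fiber]
  exact h6

theorem s0420 {X Y : Scheme.{u}} (f : X ⟶ Y) [IrreducibleSpace ↑Y] [LocallyOfFiniteType f]
    [QuasiCompact f]
    (h : GeometricallyConnected (f.fiberToSpecResidueField (genericPoint ↑Y))) :
    ∃ V : Y.Opens, (V : Set ↑Y).Nonempty ∧ GeometricallyConnected (f ∣_ V) := by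
  obtain ⟨V, hVne, hV⟩ := counts_const f
  refine ⟨V, hVne, ?_⟩
  rw [GeometricallyConnected.iff_geometricallyConnected_fiber]
  intro y
  have sqV : IsPullback (f ⁻¹ᵁ V).ι (f ∣_ V) f V.ι := (isPullback_morphismRestrict f V).flip
  rw [geomConn_fiber_iff sqV y, geomConn_fiber_iff_count]
  have h1 : MoreMor.nGeomConnComp f (V.ι y) = MoreMor.nGeomConnComp f (genericPoint ↑Y) :=
    congrArg Prod.snd (hV (V.ι y) y.2)
  rw [h1]
  exact (geomConn_fiber_iff_count f _).1 h

end Groth.Agent.Helper5.GCnt
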