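import Mathlib
import Groth.Prelude
import Groth.Agent.Helper4.GeomConnSch

set_option autoImplicit false
set_option linter.style.haveILetI false
universe u

namespace Groth.Agent.Helper5.SecComp

open AlgebraicGeometry CategoryTheory CategoryTheory.Limits TopologicalSpace Topology

/-- identities are geometrically connected over the spectrum of a field -/
theorem geometricallyConnected_of_eq_id {k : Type u} [Field k] {f : Spec (CommRingCat.of k) ⟶ Spec (CommRingCat.of k)}
    (hf : f = 𝟙 _) : GeometricallyConnected f := by
  subst hf
  refine ⟨?_⟩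
  intro K _ y Z fst snd hpb
  haveI : IsIso snd := hpb.isIso_snd_of_isIso
  haveI : ConnectedSpace ↥(Spec (CommRingCat.of K)) :=
    inferInstanceAs (ConnectedSpace (PrimeSpectrum K))
  exact snd.homeomorph.connectedSpace_iff.2 inferInstance

/-- a morphism from a reduced scheme with set-theoretic image in a closed subset factors through
the reduced induced subscheme -/
theorem exists_lift_of_isReduced {W X : Scheme.{u}} [IsReduced W] (g : W ⟶ X) (Z : Closeds X)
    (h : Set.range g ⊆ (Z : Set X)) :
    ∃ τ : W ⟶ (Scheme.IdealSheafData.vanishingIdeal Z).subscheme,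
      τ ≫ (Scheme.IdealSheafData.vanishingIdeal Z).subschemeι = g := by
  have H : (Scheme.IdealSheafData.vanishingIdeal Z).subschemeι.ker ≤ g.ker := by
    rw [Scheme.IdealSheafData.ker_subschemeι, ← Scheme.IdealSheafData.map_bot,
      ← Scheme.nilradical_eq_bot, ← Scheme.IdealSheafData.vanishingIdeal_top,
      Scheme.IdealSheafData.map_vanishingIdeal]
    apply Scheme.IdealSheafData.vanishingIdeal_antimono
    rw [TopologicalSpace.Closeds.closure_le]
    rintro _ ⟨w, -, rfl⟩
    exact h ⟨w, rfl⟩
  exact ⟨IsClosedImmersion.lift _ g H, IsClosedImmersion.lift_fac _ g H⟩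

end Groth.Agent.Helper5.SecComp
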