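import Mathlib
import Groth.Prelude
import Groth.Agent.Helper5.SecCompA

set_option autoImplicit false
set_option linter.style.haveILetI false
universe u

namespace Groth.Agent.Helper5.SecComp

open AlgebraicGeometry CategoryTheory CategoryTheory.Limits TopologicalSpace Topology

set_option maxHeartbeats 1600000 in
/-- a connected, relatively closed subset of a fibre through the value of a section has connected
preimage in the fibres of a base change -/
theorem isPreconnected_preimage {X Y X' Y' : Scheme.{u}} (f : X ⟶ Y) (s : Y ⟶ X) (hs : s ≫ f = 𝟙 Y)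
    (f' : X' ⟶ Y') (g' : X' ⟶ X) (g : Y' ⟶ Y) (hc : IsPullback g' f' f g) (y' : Y')
    (C : Set X) (Z : Set X) (hZ : IsClosed Z) (hCZ : C = Z ∩ f ⁻¹' {g y'})
    (hCconn : _root_.IsPreconnected C) (hsC : s (g y') ∈ C) :
    _root_.IsPreconnected (f' ⁻¹' {y'} ∩ g' ⁻¹' C) := by
  set y := g y' with hy
  let ι := f.fiberι y
  let C₀ : Set ↥(f.fiber y) := ι ⁻¹' Z
  have hC₀cl : IsClosed C₀ := hZ.preimage ι.continuous
  have hιC₀ : ι '' C₀ = C := by
    rw [Set.image_preimage_eq_inter_range, Scheme.Hom.range_fiberι, hCZ]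
  have hC₀conn : _root_.IsPreconnected C₀ :=
    ι.isEmbedding.isInducing.isPreconnected_image.1 (by rw [hιC₀]; exact hCconn)
  let 𝒞 : Closeds ↥(f.fiber y) := ⟨C₀, hC₀cl⟩
  let I := Scheme.IdealSheafData.vanishingIdeal 𝒞
  have hrange : Set.range I.subschemeι = C₀ := by
    rw [Scheme.IdealSheafData.range_subschemeι, Scheme.IdealSheafData.coe_support_vanishingIdeal]
    rfl
  let j := I.subschemeι
  haveI : PreconnectedSpace ↥I.subscheme := by
    refine ⟨j.isEmbedding.isInducing.isPreconnected_image.1 ?_⟩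
    rw [Set.image_univ, hrange]
    exact hC₀conn
  -- the rational point
  let σ : Spec (Y.residueField y) ⟶ f.fiber y :=
    pullback.lift (Y.fromSpecResidueField y ≫ s) (𝟙 _)
      (by rw [Category.assoc, hs, Category.comp_id, Category.id_comp])
  have hσ1 : σ ≫ ι = Y.fromSpecResidueField y ≫ s := pullback.lift_fst _ _ _
  have hσ2 : σ ≫ f.fiberToSpecResidueField y = 𝟙 _ := pullback.lift_snd _ _ _
  have hσrange : Set.range σ ⊆ (𝒞 : Set ↥(f.fiber y)) := by
    rintro _ ⟨w, rfl⟩
    show ι (σ w) ∈ Z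
    rw [← Scheme.Hom.comp_apply, hσ1, Scheme.Hom.comp_apply, Scheme.fromSpecResidueField_apply]
    rw [hCZ] at hsC
    exact hsC.1
  obtain ⟨τ, hτ⟩ := exists_lift_of_isReduced σ 𝒞 hσrange
  haveI : Nonempty ↥(Spec (Y.residueField y)) :=
    inferInstanceAs (Nonempty (PrimeSpectrum (Y.residueField y)))
  obtain ⟨w₀⟩ := (inferInstance : Nonempty ↥(Spec (Y.residueField y)))
  haveI : Nonempty ↥I.subscheme := ⟨τ w₀⟩
  haveI : ConnectedSpace ↥I.subscheme := ConnectedSpace.mk ‹_›
  let hT : I.subscheme ⟶ Spec (Y.residueField y) := j ≫ f.fiberToSpecResidueField y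
  have hτT : τ ≫ hT = 𝟙 _ := by
    show τ ≫ j ≫ f.fiberToSpecResidueField y = 𝟙 _
    rw [← Category.assoc, hτ, hσ2]
  haveI hgc1 : GeometricallyConnected (τ ≫ hT) :=
    geometricallyConnected_of_eq_id (k := Y.residueField y) hτT
  haveI hgc : GeometricallyConnected hT :=
    @Groth.Agent.Helper4.GeomConnSch.geometricallyConnected_of_source (Y.residueField y) _ _ _ τ hT
      ⟨w₀⟩ inferInstance hgc1
  -- the comparison of fibres
  let ρ : f'.fiber y' ⟶ f.fiber y :=
    pullback.map _ _ _ _ g' (Spec.map (g.residueFieldMap y')) g hc.w.symm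
      (Scheme.Hom.SpecMap_residueFieldMap_fromSpecResidueField g y').symm
  have sqρ : IsPullback ρ (f'.fiberToSpecResidueField y') (f.fiberToSpecResidueField y)
      (Spec.map (g.residueFieldMap y')) := isPullback_fiberToSpecResidueField_of_isPullback hc y'
  have hρι : ρ ≫ ι = f'.fiberι y' ≫ g' := pullback.lift_fst _ _ _
  have big : IsPullback (pullback.fst j ρ) (pullback.snd j ρ ≫ f'.fiberToSpecResidueField y') hT
      (Spec.map (g.residueFieldMap y')) :=
    (IsPullback.of_hasPullback j ρ).paste_vert sqρ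
  haveI : ConnectedSpace ↥(pullback j ρ) :=
    GeometricallyConnected.geometrically_connectedSpace (f := hT)
      (K := Y'.residueField y') (Spec.map (g.residueFieldMap y')) _ _ big
  have hpre : _root_.IsPreconnected (ρ ⁻¹' C₀) := by
    rw [← hrange, ← Scheme.Pullback.range_snd]
    exact isPreconnected_range (pullback.snd j ρ).continuous
  have hD : f' ⁻¹' {y'} ∩ g' ⁻¹' C = (f'.fiberι y') '' (ρ ⁻¹' C₀) := by
    ext x'
    constructor
    · rintro ⟨hx'1, hx'2⟩
      obtain ⟨p, rfl⟩ : x' ∈ Set.range (f'.fiberι y') := by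
        rw [Scheme.Hom.range_fiberι]; exact hx'1
      refine ⟨p, ?_, rfl⟩
      show ι (ρ p) ∈ Z
      rw [← Scheme.Hom.comp_apply, hρι, Scheme.Hom.comp_apply]
      rw [hCZ] at hx'2
      exact hx'2.1
    · rintro ⟨p, hp, rfl⟩
      have h1 : f' (f'.fiberι y' p) = y' := by
        have : f'.fiberι y' p ∈ Set.range (f'.fiberι y') := ⟨p, rfl⟩
        rw [Scheme.Hom.range_fiberι] at this
        exact this
      refine ⟨h1, ?_⟩
      show g' (f'.fiberι y' p) ∈ C
      rw [← Scheme.Hom.comp_apply, ← hρι, Scheme.Hom.comp_apply, ← hιC₀]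
      exact ⟨ρ p, hp, rfl⟩
  rw [hD]
  exact hpre.image _ (f'.fiberι y').continuous.continuousOn

end Groth.Agent.Helper5.SecComp
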