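import Mathlib
import Groth.Prelude
import Groth.Agent.Helper5.SecCompB

set_option autoImplicit false
set_option linter.style.haveILetI false
universe u

namespace Groth.Agent.Helper5.SecComp

open AlgebraicGeometry CategoryTheory CategoryTheory.Limits TopologicalSpace Topology

/-- a connected component of a subspace is the trace of a closed subset -/
theorem exists_isClosed_connectedComponentIn {T : Type*} [TopologicalSpace T] (F : Set T) (x : T)
    (hx : x ∈ F) : ∃ Z : Set T, IsClosed Z ∧ connectedComponentIn F x = Z ∩ F := by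
  have h1 : IsClosed (connectedComponent (⟨x, hx⟩ : F)) := isClosed_connectedComponent
  obtain ⟨Z, hZ, hZe⟩ := isClosed_induced_iff.1 h1
  refine ⟨Z, hZ, ?_⟩
  rw [connectedComponentIn_eq_image hx, ← hZe, Subtype.image_preimage_coe, Set.inter_comm]

theorem s1324 {X Y X' Y' : Scheme.{u}} (f : X ⟶ Y) (s : Y ⟶ X) (hs : s ≫ f = 𝟙 Y)
    (f' : X' ⟶ Y') (g' : X' ⟶ X) (g : Y' ⟶ Y) (hc : IsPullback g' f' f g)
    (s' : Y' ⟶ X') (hs' : s' ≫ f' = 𝟙 Y') (hs'g : s' ≫ g' = g ≫ s) :
    MoreMor.sectionComponents f' s' = g' ⁻¹' MoreMor.sectionComponents f s := by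
  have hfs : ∀ y : Y, f (s y) = y := by
    intro y
    rw [← Scheme.Hom.comp_apply, hs]; rfl
  have hfs' : ∀ y' : Y', f' (s' y') = y' := by
    intro y'
    rw [← Scheme.Hom.comp_apply, hs']; rfl
  have hgs : ∀ y' : Y', g' (s' y') = s (g y') := by
    intro y'
    rw [← Scheme.Hom.comp_apply, hs'g, Scheme.Hom.comp_apply]
  have hfg : ∀ x' : X', f (g' x') = g (f' x') := by
    intro x'
    rw [← Scheme.Hom.comp_apply, hc.w, Scheme.Hom.comp_apply]
  ext x'
  show x' ∈ connectedComponentIn (f' ⁻¹' {f' x'}) (s' (f' x')) ↔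
    g' x' ∈ connectedComponentIn (f ⁻¹' {f (g' x')}) (s (f (g' x')))
  rw [hfg x']
  set y' := f' x' with hy'
  have hsF : s (g y') ∈ f ⁻¹' {g y'} := hfs _
  have hs'F : s' y' ∈ f' ⁻¹' {y'} := hfs' _
  constructor
  · intro hx'
    have h1 : _root_.IsPreconnected (g' '' connectedComponentIn (f' ⁻¹' {y'}) (s' y')) :=
      isPreconnected_connectedComponentIn.image _ g'.continuous.continuousOn
    have h2 : g' '' connectedComponentIn (f' ⁻¹' {y'}) (s' y') ⊆ f ⁻¹' {g y'} := by
      rintro _ ⟨c, hc', rfl⟩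
      show f (g' c) = g y'
      rw [hfg]
      have hc'' : c ∈ f' ⁻¹' {y'} := connectedComponentIn_subset _ _ hc'
      exact congrArg g hc''
    have h3 : s (g y') ∈ g' '' connectedComponentIn (f' ⁻¹' {y'}) (s' y') :=
      ⟨s' y', mem_connectedComponentIn hs'F, hgs y'⟩
    exact h1.subset_connectedComponentIn h3 h2 ⟨x', hx', rfl⟩
  · intro hx'
    obtain ⟨Z, hZ, hZe⟩ := exists_isClosed_connectedComponentIn (f ⁻¹' {g y'}) (s (g y')) hsF
    have hD := isPreconnected_preimage f s hs f' g' g hc y'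
      (connectedComponentIn (f ⁻¹' {g y'}) (s (g y'))) Z hZ hZe
      isPreconnected_connectedComponentIn (mem_connectedComponentIn hsF)
    have h3 : s' y' ∈ f' ⁻¹' {y'} ∩ g' ⁻¹' connectedComponentIn (f ⁻¹' {g y'}) (s (g y')) := by
      refine ⟨hs'F, ?_⟩
      rw [Set.mem_preimage, hgs]
      exact mem_connectedComponentIn hsF
    exact hD.subset_connectedComponentIn h3 Set.inter_subset_left ⟨rfl, hx'⟩

end Groth.Agent.Helper5.SecComp
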