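import Mathlib
import Groth.Prelude
import Groth.Agent.Helper5.SecCompC
import Groth.Agent.Helper5.GCntL
import Groth.Agent.Helper1.FinCondTop

set_option autoImplicit false
set_option linter.style.haveILetI false
universe u

namespace Groth.Agent.Helper5.SecComp

open AlgebraicGeometry CategoryTheory CategoryTheory.Limits TopologicalSpace Topology
open Groth.Agent.Helper5.GenFib Groth.Agent.Helper5.GCnt

set_option maxHeartbeats 3200000 in
/-- near the generic point the section components are the trace of a closed subset and of an open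
subset -/
theorem generic_case {X Y : Scheme.{u}} (f : X ⟶ Y) (s : Y ⟶ X) (hs : s ≫ f = 𝟙 Y)
    [IrreducibleSpace ↑Y] [LocallyOfFiniteType f] [QuasiCompact f] :
    ∃ V : Y.Opens, (V : Set ↑Y).Nonempty ∧ ∃ Z O : Set X, IsClosed Z ∧ IsOpen O ∧
      ∀ x : X, f x ∈ V → ((x ∈ MoreMor.sectionComponents f s ↔ x ∈ Z) ∧
        (x ∈ MoreMor.sectionComponents f s ↔ x ∈ O)) := by
  classical
  set η := genericPoint ↑Y with hηdef
  have hfs : ∀ y : Y, f (s y) = y := by
    intro y
    rw [← Scheme.Hom.comp_apply, hs]; rfl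
  let ι := f.fiberι η
  have hLN : IsLocallyNoetherian (f.fiber η) := Groth.Agent.Helper5.GenDim.isLocallyNoetherian_fiber f η
  have hcpt : CompactSpace ↥(f.fiber η) :=
    inferInstanceAs (CompactSpace ↥(pullback f (Y.fromSpecResidueField η)))
  have hN : IsNoetherian (f.fiber η) := { }
  have hNS : NoetherianSpace ↥(f.fiber η) := inferInstance
  obtain ⟨p₀, hp₀⟩ : s η ∈ Set.range ι := by
    rw [Scheme.Hom.range_fiberι]; exact hfs η
  let K₀ : Set ↥(f.fiber η) := connectedComponent p₀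
  have hK₀cl : IsClosed K₀ := isClosed_connectedComponent
  have hK₀op : IsOpen K₀ :=
    Groth.Agent.Helper1.FinCondTop.isOpen_connectedComponent_of_noetherian p₀
  obtain ⟨O₁, hO₁, hO₁K⟩ := ι.isEmbedding.isInducing.isOpen_iff.1 hK₀op
  let Z₁ : Set X := O₁ᶜ
  have hZ₁ : IsClosed Z₁ := hO₁.isClosed_compl
  let Z : Set X := closure (ι '' K₀)
  have hZ : IsClosed Z := isClosed_closure
  have hιZ : ι ⁻¹' Z = K₀ := by
    rw [← ι.isEmbedding.isInducing.closure_eq_preimage_closure_image K₀, hK₀cl.closure_eq]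
  have hmemK : ∀ p : ↥(f.fiber η), p ∈ K₀ ↔ ι p ∈ O₁ := by
    intro p
    rw [← hO₁K]; rfl
  -- (a)
  obtain ⟨V₁, hV₁ne, hV₁⟩ := exists_open_disjoint f (Z ∩ Z₁) (hZ.inter hZ₁) (by
    rintro z ⟨hzZ, hzZ₁⟩ hfz
    obtain ⟨p, rfl⟩ : z ∈ Set.range ι := by
      rw [Scheme.Hom.range_fiberι]; exact hfz
    have hp : p ∈ K₀ := by rw [← hιZ]; exact hzZ
    exact hzZ₁ ((hmemK p).1 hp))
  -- (b)
  obtain ⟨V₂, hV₂ne, hV₂⟩ := exists_open_preimage_subset f (Z ∪ Z₁) (hZ.union hZ₁) (by
    intro z hfz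
    obtain ⟨p, rfl⟩ : z ∈ Set.range ι := by
      rw [Scheme.Hom.range_fiberι]; exact hfz
    by_cases hp : p ∈ K₀
    · exact Or.inl (subset_closure ⟨p, hp, rfl⟩)
    · exact Or.inr (fun h => hp ((hmemK p).2 h)))
  -- (c)
  let 𝒵 : Closeds X := ⟨Z, hZ⟩
  let I := Scheme.IdealSheafData.vanishingIdeal 𝒵
  have hrange : Set.range I.subschemeι = Z := by
    rw [Scheme.IdealSheafData.range_subschemeι, Scheme.IdealSheafData.coe_support_vanishingIdeal]
    rfl
  let j := I.subschemeι
  let h : I.subscheme ⟶ Y := j ≫ f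
  have hconnfib : ∀ y : Y, GeometricallyConnected (h.fiberToSpecResidueField y) →
      _root_.IsPreconnected (Z ∩ f ⁻¹' {y}) := by
    intro y hy
    haveI : ConnectedSpace ↥(h.fiber y) :=
      GeometricallyConnected.connectedSpace_of_subsingleton (f := h.fiberToSpecResidueField y)
    have h1 : Z ∩ f ⁻¹' {y} = Set.range (fun p : ↥(h.fiber y) => j (h.fiberι y p)) := by
      ext z
      constructor
      · rintro ⟨hzZ, hfz⟩
        obtain ⟨t, rfl⟩ : z ∈ Set.range j := by rw [hrange]; exact hzZ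
        obtain ⟨p, rfl⟩ : t ∈ Set.range (h.fiberι y) := by
          rw [Scheme.Hom.range_fiberι]; exact hfz
        exact ⟨p, rfl⟩
      · rintro ⟨p, rfl⟩
        refine ⟨by rw [← hrange]; exact ⟨_, rfl⟩, ?_⟩
        have : h.fiberι y p ∈ Set.range (h.fiberι y) := ⟨p, rfl⟩
        rw [Scheme.Hom.range_fiberι] at this
        exact this
    rw [h1]
    exact isPreconnected_range (j.continuous.comp (h.fiberι y).continuous)
  -- the generic fibre of `Z` is geometrically connected
  have hgenconn : GeometricallyConnected (h.fiberToSpecResidueField η) := by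
    have hZη : Z ∩ f ⁻¹' {η} = ι '' K₀ := by
      rw [← hιZ, Set.image_preimage_eq_inter_range, Scheme.Hom.range_fiberι]
    have hemb : IsInducing (fun p : ↥(h.fiber η) => j (h.fiberι η p)) :=
      j.isEmbedding.isInducing.comp (h.fiberι η).isEmbedding.isInducing
    have himg : (fun p : ↥(h.fiber η) => j (h.fiberι η p)) '' Set.univ = ι '' K₀ := by
      rw [Set.image_univ, ← hZη]
      ext z
      constructor
      · rintro ⟨p, rfl⟩
        refine ⟨by rw [← hrange]; exact ⟨_, rfl⟩, ?_⟩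
        have : h.fiberι η p ∈ Set.range (h.fiberι η) := ⟨p, rfl⟩
        rw [Scheme.Hom.range_fiberι] at this
        exact this
      · rintro ⟨hzZ, hfz⟩
        obtain ⟨t, rfl⟩ : z ∈ Set.range j := by rw [hrange]; exact hzZ
        obtain ⟨p, rfl⟩ : t ∈ Set.range (h.fiberι η) := by
          rw [Scheme.Hom.range_fiberι]; exact hfz
        exact ⟨p, rfl⟩
    haveI : PreconnectedSpace ↥(h.fiber η) := by
      refine ⟨hemb.isPreconnected_image.1 ?_⟩
      rw [himg]
      exact (isPreconnected_connectedComponent (x := p₀)).image _ ι.continuous.continuousOn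
    -- the rational point
    have hr : Set.range (Y.fromSpecResidueField η ≫ s) ⊆ (𝒵 : Set X) := by
      rintro _ ⟨w, rfl⟩
      rw [Scheme.Hom.comp_apply, Scheme.fromSpecResidueField_apply, ← hp₀]
      exact subset_closure ⟨p₀, mem_connectedComponent, rfl⟩
    obtain ⟨τ₀, hτ₀⟩ := exists_lift_of_isReduced (Y.fromSpecResidueField η ≫ s) 𝒵 hr
    let σ : Spec (Y.residueField η) ⟶ h.fiber η :=
      pullback.lift τ₀ (𝟙 _) (by
        show τ₀ ≫ j ≫ f = 𝟙 _ ≫ Y.fromSpecResidueField η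
        rw [← Category.assoc, hτ₀, Category.assoc, hs, Category.comp_id, Category.id_comp])
    have hσ2 : σ ≫ h.fiberToSpecResidueField η = 𝟙 _ := pullback.lift_snd _ _ _
    haveI : Nonempty ↥(Spec (Y.residueField η)) :=
      inferInstanceAs (Nonempty (PrimeSpectrum (Y.residueField η)))
    obtain ⟨w₀⟩ := (inferInstance : Nonempty ↥(Spec (Y.residueField η)))
    haveI : Nonempty ↥(h.fiber η) := ⟨σ w₀⟩
    haveI : ConnectedSpace ↥(h.fiber η) := ConnectedSpace.mk ‹_›
    haveI hgc1 : GeometricallyConnected (σ ≫ h.fiberToSpecResidueField η) :=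
      geometricallyConnected_of_eq_id (k := Y.residueField η) hσ2
    exact @Groth.Agent.Helper4.GeomConnSch.geometricallyConnected_of_source (Y.residueField η) _ _ _ σ
      (h.fiberToSpecResidueField η) ⟨w₀⟩ inferInstance hgc1
  obtain ⟨V₃, hV₃ne, hV₃⟩ := counts_const h
  have hV₃' : ∀ y ∈ V₃, GeometricallyConnected (h.fiberToSpecResidueField y) := by
    intro y hy
    rw [geomConn_fiber_iff_count]
    have h1 : MoreMor.nGeomConnComp h y = MoreMor.nGeomConnComp h η :=
      congrArg Prod.snd (hV₃ y hy)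
    rw [h1]
    exact (geomConn_fiber_iff_count h η).1 hgenconn
  -- (d)
  have hsZ : ∀ y : Y, s y ∈ Z := by
    have h1 : IsClosed (s ⁻¹' Z) := hZ.preimage s.continuous
    have h2 : η ∈ s ⁻¹' Z := by
      show s η ∈ Z
      rw [← hp₀]
      exact subset_closure ⟨p₀, mem_connectedComponent, rfl⟩
    have h3 : closure {η} ⊆ s ⁻¹' Z := closure_minimal (Set.singleton_subset_iff.2 h2) h1
    intro y
    apply h3
    rw [(genericPoint_spec Y).def]
    exact Set.mem_univ y
  -- conclusion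
  refine ⟨⟨((V₁ : Set Y) ∩ V₂) ∩ V₃, (V₁.2.inter V₂.2).inter V₃.2⟩,
    ⟨η, ⟨genericPoint_mem_of_isOpen _ V₁.2 hV₁ne, genericPoint_mem_of_isOpen _ V₂.2 hV₂ne⟩,
      genericPoint_mem_of_isOpen _ V₃.2 hV₃ne⟩, Z, O₁, hZ, hO₁, ?_⟩
  rintro x ⟨⟨hx₁, hx₂⟩, hx₃⟩
  set y := f x with hy
  have hsF : s y ∈ f ⁻¹' {y} := hfs y
  have hZy : _root_.IsPreconnected (Z ∩ f ⁻¹' {y}) := hconnfib y (hV₃' y hx₃)
  have hcomp : connectedComponentIn (f ⁻¹' {y}) (s y) = Z ∩ f ⁻¹' {y} := by
    apply Set.Subset.antisymm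
    · -- the component is contained in `Z`
      intro k hk
      have hkF : k ∈ f ⁻¹' {y} := connectedComponentIn_subset _ _ hk
      refine ⟨?_, hkF⟩
      by_contra hkZ
      have hpre : _root_.IsPreconnected (connectedComponentIn (f ⁻¹' {y}) (s y)) :=
        isPreconnected_connectedComponentIn
      have hsub : connectedComponentIn (f ⁻¹' {y}) (s y) ⊆ Z ∪ Z₁ := by
        intro k' hk'
        have hk'F : k' ∈ f ⁻¹' {y} := connectedComponentIn_subset _ _ hk'
        apply hV₂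
        show f k' ∈ (V₂ : Set Y)
        rw [show f k' = y from hk'F]; exact hx₂
      have hkZ₁ : k ∈ Z₁ := (hsub hk).resolve_left hkZ
      obtain ⟨w, hw, hwZ, hwZ₁⟩ := (isPreconnected_closed_iff.1 hpre) Z Z₁ hZ hZ₁ hsub
        ⟨s y, mem_connectedComponentIn hsF, hsZ y⟩ ⟨k, hk, hkZ₁⟩
      have hwF : w ∈ f ⁻¹' {y} := connectedComponentIn_subset _ _ hw
      exact hV₁ w ⟨hwZ, hwZ₁⟩ (by rw [show f w = y from hwF]; exact hx₁)
    · exact hZy.subset_connectedComponentIn ⟨hsZ y, hsF⟩ Set.inter_subset_right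
  have hSC : x ∈ MoreMor.sectionComponents f s ↔ x ∈ Z := by
    show x ∈ connectedComponentIn (f ⁻¹' {f x}) (s (f x)) ↔ x ∈ Z
    rw [hcomp]
    exact ⟨fun hx => hx.1, fun hx => ⟨hx, rfl⟩⟩
  refine ⟨hSC, hSC.trans ?_⟩
  constructor
  · intro hxZ
    by_contra hxO
    exact hV₁ x ⟨hxZ, hxO⟩ hx₁
  · intro hxO
    have : x ∈ Z ∪ Z₁ := hV₂ hx₂
    exact this.resolve_right (fun h => h hxO)

end Groth.Agent.Helper5.SecComp
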