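import Mathlib
import Groth.Prelude
import Groth.Agent.Helper5.SecCompD

set_option autoImplicit false
set_option linter.style.haveILetI false
universe u

namespace Groth.Agent.Helper5.SecComp

open AlgebraicGeometry CategoryTheory CategoryTheory.Limits TopologicalSpace Topology
open Groth.Agent.Helper5.GenFib Groth.Agent.Helper5.GCnt

set_option maxHeartbeats 1600000 in
/-- S1325 in the form: the section components are, over a relatively open neighbourhood of `y` in
its closure, the trace of a closed subset and of an open subset -/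
theorem s1325_aux {X Y : Scheme.{u}} (f : X ⟶ Y) (s : Y ⟶ X) (hs : s ≫ f = 𝟙 Y)
    [LocallyOfFiniteType f] [QuasiCompact f] (y : Y) :
    ∃ V : Set ↑Y, V ⊆ closure {y} ∧ y ∈ V ∧
      IsOpen (Subtype.val ⁻¹' V : Set ↑(closure ({y} : Set ↑Y))) ∧
      ∃ Z O : Set X, IsClosed Z ∧ IsOpen O ∧
        ∀ x : X, f x ∈ V → ((x ∈ MoreMor.sectionComponents f s ↔ x ∈ Z) ∧
          (x ∈ MoreMor.sectionComponents f s ↔ x ∈ O)) := by
  let C : Closeds Y := ⟨closure {y}, isClosed_closure⟩
  let I := Scheme.IdealSheafData.vanishingIdeal C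
  have hrange : Set.range I.subschemeι = closure {y} := by
    rw [Scheme.IdealSheafData.range_subschemeι, Scheme.IdealSheafData.coe_support_vanishingIdeal]
    rfl
  let i := I.subschemeι
  obtain ⟨z₀, hz₀⟩ : y ∈ Set.range i := by rw [hrange]; exact subset_closure rfl
  haveI : IrreducibleSpace ↥I.subscheme := by
    refine irreducibleSpace_of_isInducing i i.isEmbedding.isInducing z₀ ?_
    rw [hz₀, hrange]
  have hgen : i (genericPoint ↥I.subscheme) = y := by
    have h1 : IsGenericPoint (i (genericPoint ↥I.subscheme)) (closure (Set.range i)) := by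
      have := (genericPoint_spec ↥I.subscheme).image i.continuous
      simpa [Set.image_univ] using this
    rw [hrange, closure_closure] at h1
    exact h1.eq (isGenericPoint_def.2 rfl)
  let fB : pullback f i ⟶ I.subscheme := pullback.snd f i
  let g' : pullback f i ⟶ X := pullback.fst f i
  have sq : IsPullback g' fB f i := IsPullback.of_hasPullback f i
  let sB : I.subscheme ⟶ pullback f i :=
    pullback.lift (i ≫ s) (𝟙 _) (by rw [Category.assoc, hs, Category.comp_id, Category.id_comp])
  have hsB1 : sB ≫ g' = i ≫ s := pullback.lift_fst _ _ _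
  have hsB2 : sB ≫ fB = 𝟙 _ := pullback.lift_snd _ _ _
  have hSC : MoreMor.sectionComponents fB sB = g' ⁻¹' MoreMor.sectionComponents f s :=
    s1324 f s hs fB g' i sq sB hsB2 hsB1
  obtain ⟨VB, hVBne, ZB, OB, hZB, hOB, hVB⟩ := generic_case fB sB hsB2
  have hηVB : genericPoint ↥I.subscheme ∈ VB := genericPoint_mem_of_isOpen _ VB.2 hVBne
  obtain ⟨U, hU, hUV⟩ := i.isEmbedding.isInducing.isOpen_iff.1 VB.2
  have himg : i '' (VB : Set ↥I.subscheme) = U ∩ closure {y} := by
    have hUV' : (VB : Set ↥I.subscheme) = i ⁻¹' U := hUV.symm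
    rw [hUV', Set.image_preimage_eq_inter_range, hrange]
  haveI : IsClosedImmersion g' := by
    dsimp only [g']
    infer_instance
  have hg'range : Set.range g' = f ⁻¹' closure {y} := by
    rw [← hrange]
    exact Scheme.Pullback.range_fst f i
  have hg'inj : Function.Injective g' := g'.isClosedEmbedding.injective
  obtain ⟨O', hO', hO'B⟩ := g'.isClosedEmbedding.isInducing.isOpen_iff.1 hOB
  have hfg : ∀ q : ↥(pullback f i), f (g' q) = i (fB q) := by
    intro q
    rw [← Scheme.Hom.comp_apply, sq.w, Scheme.Hom.comp_apply]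
  refine ⟨i '' (VB : Set ↥I.subscheme), ?_, ⟨_, hηVB, hgen⟩, ?_, g' '' ZB, O',
    g'.isClosedEmbedding.isClosedMap _ hZB, hO', ?_⟩
  · rw [himg]; exact Set.inter_subset_right
  · rw [himg]
    have : (Subtype.val ⁻¹' (U ∩ closure {y}) : Set ↑(closure ({y} : Set ↑Y))) =
        Subtype.val ⁻¹' U := by
      ext p
      constructor
      · exact fun hp => hp.1
      · exact fun hp => ⟨hp, p.2⟩
    rw [this]
    exact hU.preimage continuous_subtype_val
  · rintro x ⟨b, hb, hbx⟩
    have hxr : x ∈ Set.range g' := by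
      rw [hg'range]
      show f x ∈ closure {y}
      rw [← hbx, ← hrange]
      exact ⟨b, rfl⟩
    obtain ⟨q, rfl⟩ := hxr
    have hq : fB q = b := by
      apply i.isEmbedding.injective
      rw [← hfg, hbx]
    have hqV : fB q ∈ VB := by rw [hq]; exact hb
    obtain ⟨h1, h2⟩ := hVB q hqV
    have h0 : g' q ∈ MoreMor.sectionComponents f s ↔ q ∈ MoreMor.sectionComponents fB sB := by
      rw [hSC]; rfl
    refine ⟨h0.trans (h1.trans ?_), h0.trans (h2.trans ?_)⟩
    · constructor
      · intro hqZ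
        exact ⟨q, hqZ, rfl⟩
      · rintro ⟨q', hq'Z, hq'⟩
        rw [← hg'inj hq']; exact hq'Z
    · rw [← hO'B]; rfl

theorem s1325 {X Y : Scheme.{u}} (f : X ⟶ Y) (s : Y ⟶ X) (hs : s ≫ f = 𝟙 Y)
    [LocallyOfFiniteType f] [QuasiCompact f] (y : Y) :
    ∃ V : Set ↑Y, V ⊆ closure {y} ∧ y ∈ V ∧
      IsOpen (Subtype.val ⁻¹' V : Set ↑(closure ({y} : Set ↑Y))) ∧
      IsClopen (Subtype.val ⁻¹' MoreMor.sectionComponents f s : Set ↑(f ⁻¹' V)) := by
  obtain ⟨V, h1, h2, h3, Z, O, hZ, hO, hV⟩ := s1325_aux f s hs y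
  refine ⟨V, h1, h2, h3, ?_, ?_⟩
  · have : (Subtype.val ⁻¹' MoreMor.sectionComponents f s : Set ↑(f ⁻¹' V)) = Subtype.val ⁻¹' Z := by
      ext p
      exact (hV p.1 p.2).1
    rw [this]
    exact hZ.preimage continuous_subtype_val
  · have : (Subtype.val ⁻¹' MoreMor.sectionComponents f s : Set ↑(f ⁻¹' V)) = Subtype.val ⁻¹' O := by
      ext p
      exact (hV p.1 p.2).2
    rw [this]
    exact hO.preimage continuous_subtype_val

end Groth.Agent.Helper5.SecComp
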