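import Mathlib
import Groth.Prelude
import Groth.Agent.Helper5.SecCompE
import Groth.Agent.Helper5.ConsLc1

set_option autoImplicit false
set_option linter.style.haveILetI false
universe u

namespace Groth.Agent.Helper5.SecComp

open AlgebraicGeometry CategoryTheory CategoryTheory.Limits TopologicalSpace Topology
open Groth.Agent.Helper5.GenFib Groth.Agent.Helper5.GCnt

set_option maxHeartbeats 800000 in
/-- the Noetherian case: the section components are constructible -/
theorem isConstructible_of_noetherianSpace {X Y : Scheme.{u}} (f : X ⟶ Y) (s : Y ⟶ X)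
    (hs : s ≫ f = 𝟙 Y) [LocallyOfFiniteType f] [QuasiCompact f] [NoetherianSpace X] :
    IsConstructible (MoreMor.sectionComponents f s) := by
  apply Groth.Agent.Helper5.ConsLc.isConstructible_of_noeth
  intro W hWcl hWirr
  obtain ⟨w, hw⟩ := QuasiSober.sober hWirr hWcl
  obtain ⟨V, hVsub, hyV, hVopen, Z, O, hZ, hO, hV⟩ := s1325_aux f s hs (f w)
  obtain ⟨U, hU, hUV⟩ := isOpen_induced_iff.1 hVopen
  have hWf : ∀ x ∈ W, f x ∈ closure {f w} := by
    intro x hx
    have h1 : w ⤳ x := by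
      rw [specializes_iff_mem_closure, hw.def]; exact hx
    exact specializes_iff_mem_closure.1 (h1.map f.continuous)
  have hfU : ∀ x ∈ W, f x ∈ U → f x ∈ V := by
    intro x hx hxU
    have h1 : (⟨f x, hWf x hx⟩ : ↑(closure ({f w} : Set ↑Y))) ∈ Subtype.val ⁻¹' U := hxU
    rw [hUV] at h1
    exact h1
  have hwU : f w ∈ U := by
    have h1 : (⟨f w, subset_closure rfl⟩ : ↑(closure ({f w} : Set ↑Y))) ∈ Subtype.val ⁻¹' V := hyV
    rw [← hUV] at h1
    exact h1
  have hwW : w ∈ W := hw.mem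
  by_cases hwSC : w ∈ MoreMor.sectionComponents f s
  · refine ⟨f ⁻¹' U ∩ O, (hU.preimage f.continuous).inter hO, ⟨w, hwW, hwU, ?_⟩, Or.inl ?_⟩
    · exact (hV w (hfU w hwW hwU)).2.1 hwSC
    · rintro x ⟨hxW, hxU, hxO⟩
      exact (hV x (hfU x hxW hxU)).2.2 hxO
  · refine ⟨f ⁻¹' U ∩ Zᶜ, (hU.preimage f.continuous).inter hZ.isOpen_compl, ⟨w, hwW, hwU, ?_⟩,
      Or.inr ?_⟩
    · exact fun hwZ => hwSC ((hV w (hfU w hwW hwU)).1.2 hwZ)
    · rintro x ⟨hxW, hxU, hxZ⟩ hxSC
      exact hxZ ((hV x (hfU x hxW hxU)).1.1 hxSC)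

end Groth.Agent.Helper5.SecComp
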