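import Mathlib

set_option autoImplicit false
universe u

namespace Groth.Agent.Helper5.DvrFlat

/-- a ring map from a discrete valuation ring to a Noetherian local ring is flat as soon as the
uniformizer avoids the minimal primes and the nilpotents lie in the ideal generated by the
uniformizer -/
theorem flat_of_uniformizer {A B : Type u} [CommRing A] [IsDomain A] [IsDiscreteValuationRing A]
    [CommRing B] [IsNoetherianRing B] [IsLocalRing B] (g : A →+* B) (t : A) (ht : Irreducible t)
    (hloc : g t ∈ IsLocalRing.maximalIdeal B)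
    (hmin : ∀ q ∈ minimalPrimes B, g t ∉ q)
    (hnil : ∀ b : B, IsNilpotent b → b ∈ Ideal.span {g t}) : g.Flat := by
  letI := g.toAlgebra
  show Module.Flat A B
  have hτ : ∀ (n : ℕ) (b : B), (g t) ^ n * b = 0 → IsNilpotent b := by
    intro n b hb
    rw [← mem_nilradical, nilradical, Ideal.radical_eq_sInf]
    rw [Ideal.mem_sInf]
    rintro J ⟨-, hJ⟩
    obtain ⟨q, hq, hqJ⟩ := Ideal.exists_minimalPrimes_le (I := (⊥ : Ideal B)) (J := J) bot_le
    apply hqJ
    have hqp : q.IsPrime := hq.1.1
    have h1 : (g t) ^ n * b ∈ q := by rw [hb]; exact q.zero_mem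
    rcases hqp.mem_or_mem h1 with h2 | h2
    · exact absurd (hqp.mem_of_pow_mem n h2) (hmin q hq)
    · exact h2
  -- power torsion elements are divisible by all powers of the uniformizer
  have hdiv : ∀ (m : ℕ) (b : B), (∃ n, (g t) ^ n * b = 0) → b ∈ (Ideal.span {g t}) ^ m := by
    intro m
    induction m with
    | zero => intro b _; simp
    | succ m ih =>
      rintro b ⟨n, hb⟩
      obtain ⟨b₁, hb₁⟩ := Ideal.mem_span_singleton'.1 (hnil b (hτ n b hb))
      have hb₁' : (g t) ^ (n + 1) * b₁ = 0 := by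
        rw [pow_succ, mul_assoc, mul_comm (g t) b₁, hb₁, hb]
      have := ih b₁ ⟨n + 1, hb₁'⟩
      rw [pow_succ, ← hb₁]
      exact Ideal.mul_mem_mul this (Ideal.mem_span_singleton_self _)
  have hne : Ideal.span {g t} ≠ ⊤ := by
    intro h
    have : Ideal.span {g t} ≤ IsLocalRing.maximalIdeal B :=
      (Ideal.span_singleton_le_iff_mem _).2 hloc
    rw [h] at this
    exact (IsLocalRing.maximalIdeal.isMaximal B).ne_top (top_le_iff.1 this)
  have hzero : ∀ b : B, (∃ n, (g t) ^ n * b = 0) → b = 0 := by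
    intro b hb
    have h1 : b ∈ ⨅ m, (Ideal.span {g t}) ^ m := by
      rw [Ideal.mem_iInf]
      exact fun m => hdiv m b hb
    rw [Ideal.iInf_pow_eq_bot_of_isLocalRing _ hne] at h1
    exact h1
  rw [IsDedekindDomain.flat_iff_torsion_eq_bot, Submodule.eq_bot_iff]
  intro b hb
  obtain ⟨⟨a, ha⟩, hab⟩ := (Submodule.mem_torsion_iff b).1 hb
  have ha0 : a ≠ 0 := nonZeroDivisors.ne_zero ha
  obtain ⟨n, u, rfl⟩ := IsDiscreteValuationRing.eq_unit_mul_pow_irreducible ha0 ht
  apply hzero b ⟨n, ?_⟩
  have h2 : ((u : A) * t ^ n) • b = 0 := hab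
  rw [Algebra.smul_def, map_mul, map_pow, mul_assoc] at h2
  have hu : IsUnit (algebraMap A B (u : A)) := u.isUnit.map _
  exact (hu.mul_right_eq_zero).1 h2

end Groth.Agent.Helper5.DvrFlat
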