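import Mathlib
import Groth.Prelude
import Groth.Agent.Helper5.DvrFlatA

set_option autoImplicit false
set_option linter.style.haveILetI false
universe u

namespace Groth.Agent.Helper5.DvrFlat

open AlgebraicGeometry CategoryTheory CategoryTheory.Limits TopologicalSpace Topology

/-- in a Noetherian quasi-sober space, a maximal point has an open neighbourhood inside its
closure -/
theorem exists_open_subset_closure_of_maximal_top {W : Type*} [TopologicalSpace W] [NoetherianSpace W]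
    [QuasiSober W] (ξ : W) (hξ : ∀ w : W, w ⤳ ξ → w = ξ) :
    ∃ U : Set W, IsOpen U ∧ ξ ∈ U ∧ U ⊆ closure {ξ} := by
  have hfin : (irreducibleComponents W).Finite := NoetherianSpace.finite_irreducibleComponents
  let 𝒮 : Set (Set W) := {Z | Z ∈ irreducibleComponents W ∧ ξ ∉ Z}
  have h𝒮fin : 𝒮.Finite := hfin.subset (fun Z hZ => hZ.1)
  have hScl : IsClosed (⋃₀ 𝒮) := by
    rw [Set.sUnion_eq_biUnion]
    exact Set.Finite.isClosed_biUnion h𝒮fin
      (fun Z hZ => isClosed_of_mem_irreducibleComponents Z hZ.1)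
  refine ⟨(⋃₀ 𝒮)ᶜ, hScl.isOpen_compl, ?_, ?_⟩
  · rintro ⟨Z, hZ, hξZ⟩
    exact hZ.2 hξZ
  · intro u hu
    have hZ : irreducibleComponent u ∈ irreducibleComponents W :=
      irreducibleComponent_mem_irreducibleComponents u
    have hξZ : ξ ∈ irreducibleComponent u := by
      by_contra hcon
      exact hu ⟨_, ⟨hZ, hcon⟩, mem_irreducibleComponent⟩
    obtain ⟨ζ, hζ⟩ := QuasiSober.sober hZ.1 (isClosed_of_mem_irreducibleComponents _ hZ)
    have h1 : ζ ⤳ ξ := by
      rw [specializes_iff_mem_closure, hζ.def]; exact hξZ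
    have h2 : ζ = ξ := hξ ζ h1
    rw [← h2, hζ.def]
    exact mem_irreducibleComponent

/-- in a locally Noetherian scheme, a maximal point has an open neighbourhood inside its closure -/
theorem exists_open_subset_closure_of_maximal {X : Scheme.{u}} [IsLocallyNoetherian X] (ξ : X)
    (hξ : ∀ w : X, w ⤳ ξ → w = ξ) :
    ∃ U : Set X, IsOpen U ∧ ξ ∈ U ∧ U ⊆ closure {ξ} := by
  obtain ⟨_, ⟨W, hW, rfl⟩, hξW, -⟩ :=
    (X.isBasis_affineOpens).exists_subset_of_mem_open (Set.mem_univ ξ) isOpen_univ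
  haveI : IsNoetherianRing Γ(X, W) := IsLocallyNoetherian.component_noetherian ⟨W, hW⟩
  haveI : NoetherianSpace ↥W := noetherianSpace_of_isAffineOpen W hW
  haveI : QuasiSober ↥W := inferInstanceAs (QuasiSober ↥(W : Scheme.{u}))
  let ξW : ↥W := ⟨ξ, hξW⟩
  have hξW' : ∀ w : ↥W, w ⤳ ξW → w = ξW := by
    intro w hw
    apply Subtype.ext
    exact hξ w.1 (hw.map continuous_subtype_val)
  obtain ⟨U, hU, hξU, hUsub⟩ := exists_open_subset_closure_of_maximal_top ξW hξW'
  refine ⟨Subtype.val '' U, W.2.isOpenMap_subtype_val U hU, ⟨ξW, hξU, rfl⟩, ?_⟩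
  rintro _ ⟨u, hu, rfl⟩
  have h1 : ξW ⤳ u := specializes_iff_mem_closure.2 (hUsub hu)
  exact specializes_iff_mem_closure.1 (h1.map continuous_subtype_val)

/-- a morphism to the spectrum of a discrete valuation ring is not open at a maximal point of the
source lying over the closed point -/
theorem not_isOpenAt_of_maximal {A : Type u} [CommRing A] [IsDomain A] [IsDiscreteValuationRing A]
    {X : Scheme.{u}} [IsLocallyNoetherian X] (f : X ⟶ Spec (CommRingCat.of A)) (ξ : X)
    (hξ : ∀ w : X, w ⤳ ξ → w = ξ) (hfξ : f ξ = IsLocalRing.closedPoint A) :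
    ¬ EGA43.IsOpenAt f ξ := by
  intro hopen
  obtain ⟨U, hU, hξU, hUsub⟩ := exists_open_subset_closure_of_maximal ξ hξ
  have h1 := hopen U (hU.mem_nhds hξU)
  rw [hfξ] at h1
  obtain ⟨O, hOsub, hO, hcO⟩ := mem_nhds_iff.1 h1
  let η : ↥(Spec (CommRingCat.of A)) := (⊥ : PrimeSpectrum A)
  have hη : η ⤳ IsLocalRing.closedPoint A :=
    (PrimeSpectrum.le_iff_specializes (⊥ : PrimeSpectrum A) (IsLocalRing.closedPoint A)).1 bot_le
  have hηO : η ∈ O := hη.mem_open hO hcO
  obtain ⟨u, hu, hfu⟩ := hOsub hηO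
  have h2 : ξ ⤳ u := specializes_iff_mem_closure.2 (hUsub hu)
  have h3 : f ξ ⤳ f u := h2.map f.continuous
  rw [hfξ, hfu] at h3
  have h4 : IsLocalRing.maximalIdeal A ≤ ⊥ :=
    (PrimeSpectrum.le_iff_specializes (IsLocalRing.closedPoint A) (⊥ : PrimeSpectrum A)).2 h3
  have h5 : IsLocalRing.maximalIdeal A = ⊥ := le_bot_iff.1 h4
  exact IsDiscreteValuationRing.not_a_field A h5

end Groth.Agent.Helper5.DvrFlat
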