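import Mathlib
import Groth.Prelude
import Groth.Agent.Helper5.DvrFlatB
import Groth.Agent.Helper5.FibStalk

set_option autoImplicit false
set_option linter.style.haveILetI false
universe u

namespace Groth.Agent.Helper5.DvrFlat

open AlgebraicGeometry CategoryTheory CategoryTheory.Limits TopologicalSpace Topology

section

variable {A : Type u} [CommRing A] {X : Scheme.{u}} (f : X ⟶ Spec (CommRingCat.of A))

/-- the composite ring map `A → 𝒪_{Y, f x} → 𝒪_{X, x}` -/
noncomputable def gmap (x : X) : A →+* X.presheaf.stalk x :=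
  (f.stalkMap x).hom.comp (StructureSheaf.toStalk (CommRingCat.of A) (f x)).hom

theorem specMap_gmap (x : X) :
    Spec.map (CommRingCat.ofHom (gmap f x)) = X.fromSpecStalk x ≫ f := by
  have h1 : CommRingCat.ofHom (gmap f x) =
      StructureSheaf.toStalk (CommRingCat.of A) (f x) ≫ f.stalkMap x := rfl
  rw [h1, Spec.map_comp, ← Spec.fromSpecStalk_eq']
  exact Scheme.SpecMap_stalkMap_fromSpecStalk f

theorem comap_gmap (x : X) (q : PrimeSpectrum (X.presheaf.stalk x)) :
    f ((X.fromSpecStalk x) q) = PrimeSpectrum.comap (gmap f x) q := by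
  rw [← Scheme.Hom.comp_apply, ← specMap_gmap]
  rfl

end

section

variable {A : Type u} [CommRing A] [IsDomain A] [IsDiscreteValuationRing A] {X : Scheme.{u}}
  (f : X ⟶ Spec (CommRingCat.of A))

theorem eq_closedPoint_of_mem {t : A} (ht : Irreducible t) (x : X)
    (q : PrimeSpectrum (X.presheaf.stalk x)) (hq : gmap f x t ∈ q.asIdeal) :
    f ((X.fromSpecStalk x) q) = IsLocalRing.closedPoint A := by
  rw [comap_gmap]
  apply PrimeSpectrum.ext
  show Ideal.comap (gmap f x) q.asIdeal = IsLocalRing.maximalIdeal A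
  have h1 : IsLocalRing.maximalIdeal A ≤ Ideal.comap (gmap f x) q.asIdeal := by
    rw [(IsDiscreteValuationRing.irreducible_iff_uniformizer t).1 ht,
      Ideal.span_singleton_le_iff_mem]
    exact hq
  have h2 : (Ideal.comap (gmap f x) q.asIdeal).IsPrime := Ideal.comap_isPrime _ _
  exact ((IsLocalRing.maximalIdeal.isMaximal A).eq_of_le h2.ne_top h1).symm

theorem gmap_mem_maximalIdeal {t : A} (ht : Irreducible t) (x : X)
    (hx : f x = IsLocalRing.closedPoint A) :
    gmap f x t ∈ IsLocalRing.maximalIdeal (X.presheaf.stalk x) := by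
  have h1 : f ((X.fromSpecStalk x) (IsLocalRing.closedPoint (X.presheaf.stalk x))) =
      IsLocalRing.closedPoint A := by
    rw [Scheme.fromSpecStalk_closedPoint, hx]
  rw [comap_gmap] at h1
  have h2 : Ideal.comap (gmap f x) (IsLocalRing.maximalIdeal (X.presheaf.stalk x)) =
      IsLocalRing.maximalIdeal A := congrArg PrimeSpectrum.asIdeal h1
  have h3 : t ∈ IsLocalRing.maximalIdeal A := by
    rw [(IsDiscreteValuationRing.irreducible_iff_uniformizer t).1 ht]
    exact Ideal.mem_span_singleton_self t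
  rw [← h2] at h3
  exact h3

theorem gmap_not_mem_minimal [IsLocallyNoetherian X] {t : A} (ht : Irreducible t) (x : X)
    (hx : f x = IsLocalRing.closedPoint A)
    (h : ∀ z : ↥(f.fiber (f x)), f.asFiber x ∈ closure {z} →
      (∀ z' : ↥(f.fiber (f x)), z ∈ closure {z'} → z' = z) →
        EGA43.IsOpenAt f ((f.fiberι (f x)) z))
    (q : Ideal (X.presheaf.stalk x)) (hq : q ∈ minimalPrimes (X.presheaf.stalk x)) :
    gmap f x t ∉ q := by
  intro hmem
  have hqp : q.IsPrime := hq.1.1
  let Q : PrimeSpectrum (X.presheaf.stalk x) := ⟨q, hqp⟩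
  let ξ : X := (X.fromSpecStalk x) Q
  have hfξ : f ξ = IsLocalRing.closedPoint A := eq_closedPoint_of_mem f ht x Q hmem
  have hξx : ξ ⤳ x := by
    have h1 : ξ ∈ Set.range (X.fromSpecStalk x) := ⟨Q, rfl⟩
    rw [Scheme.range_fromSpecStalk] at h1
    exact h1
  have hemb : IsEmbedding (X.fromSpecStalk x) := (X.fromSpecStalk x).isEmbedding
  have hmax : ∀ w : X, w ⤳ ξ → w = ξ := by
    intro w hw
    have h1 : w ∈ Set.range (X.fromSpecStalk x) := by
      rw [Scheme.range_fromSpecStalk]
      exact hw.trans hξx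
    obtain ⟨Q'₀, rfl⟩ := h1
    let Q' : PrimeSpectrum (X.presheaf.stalk x) := Q'₀
    have h2 : Q'₀ ⤳ Q := hemb.isInducing.specializes_iff.1 hw
    have h3 : Q'.asIdeal ≤ Q.asIdeal := (PrimeSpectrum.le_iff_specializes Q' Q).2 h2
    have h4 : q ≤ Q'.asIdeal := hq.2 ⟨Q'.isPrime, bot_le⟩ h3
    have h5 : Q' = Q := PrimeSpectrum.ext (le_antisymm h3 h4)
    show (X.fromSpecStalk x) Q' = (X.fromSpecStalk x) Q
    rw [h5]
  -- the point of the fibre
  have hξfib : ξ ∈ Set.range (f.fiberι (f x)) := by
    rw [Scheme.Hom.range_fiberι]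
    show f ξ = f x
    rw [hfξ, hx]
  obtain ⟨z, hz⟩ := hξfib
  have hembι : IsEmbedding (f.fiberι (f x)) := (f.fiberι (f x)).isEmbedding
  have hz1 : f.asFiber x ∈ closure {z} := by
    rw [← specializes_iff_mem_closure, ← hembι.isInducing.specializes_iff, hz,
      Scheme.Hom.fiberι_asFiber]
    exact hξx
  have hz2 : ∀ z' : ↥(f.fiber (f x)), z ∈ closure {z'} → z' = z := by
    intro z' hz'
    rw [← specializes_iff_mem_closure, ← hembι.isInducing.specializes_iff, hz] at hz'
    apply hembι.injective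
    rw [hz]
    exact hmax _ hz'
  have hopen := h z hz1 hz2
  rw [hz] at hopen
  exact not_isOpenAt_of_maximal f ξ hmax hfξ hopen

theorem nil_mem {t : A} (ht : Irreducible t) (s : ↥(Spec (CommRingCat.of A)))
    (hs : s = IsLocalRing.closedPoint A) (y : ↥(f.fiber s))
    (hred : _root_.IsReduced ((f.fiber s).presheaf.stalk y)) :
    ∀ b : X.presheaf.stalk ((f.fiberι s) y), IsNilpotent b →
      b ∈ Ideal.span {gmap f ((f.fiberι s) y) t} := by
  intro b hb
  obtain ⟨-, hker⟩ := FibStalk.s9501 f s y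
  have h1 : ((f.fiberι s).stalkMap y).hom b = 0 := (hb.map _).eq_zero
  have h2 : b ∈ RingHom.ker ((f.fiberι s).stalkMap y).hom := h1
  rw [hker] at h2
  have hfx : f ((f.fiberι s) y) = IsLocalRing.closedPoint A := by
    rw [FibStalk.fiberι_apply, hs]
  let P : PrimeSpectrum A := f ((f.fiberι s) y)
  have hP : P.asIdeal = Ideal.span {t} := by
    have : P = IsLocalRing.closedPoint A := hfx
    rw [this]
    exact (IsDiscreteValuationRing.irreducible_iff_uniformizer t).1 ht
  let A' := (Spec (CommRingCat.of A)).presheaf.stalk (f ((f.fiberι s) y))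
  let ψ : A →+* A' := (StructureSheaf.toStalk (CommRingCat.of A) (f ((f.fiberι s) y))).hom
  letI : Algebra A A' := ψ.toAlgebra
  haveI : IsLocalization.AtPrime A' P.asIdeal := StructureSheaf.IsLocalization.to_stalk (R := A) P
  have h3 : P.asIdeal.map (algebraMap A A') = IsLocalRing.maximalIdeal A' :=
    IsLocalization.AtPrime.map_eq_maximalIdeal P.asIdeal A'
  have h4 : IsLocalRing.maximalIdeal A' = Ideal.span {ψ t} := by
    rw [← h3, hP, Ideal.map_span, Set.image_singleton]
    rfl
  have h5 : b ∈ Ideal.map (f.stalkMap ((f.fiberι s) y)).hom (IsLocalRing.maximalIdeal A') := h2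
  rw [h4, Ideal.map_span, Set.image_singleton] at h5
  exact h5

theorem s4948 [LocallyOfFiniteType f] (x : X)
    (hx : f x = IsLocalRing.closedPoint A)
    (h : ∀ z : ↥(f.fiber (f x)), f.asFiber x ∈ closure {z} →
      (∀ z' : ↥(f.fiber (f x)), z ∈ closure {z'} → z' = z) →
        EGA43.IsOpenAt f ((f.fiberι (f x)) z))
    (hred : _root_.IsReduced ((f.fiber (f x)).presheaf.stalk (f.asFiber x))) :
    (f.stalkMap x).hom.Flat := by
  haveI : IsLocallyNoetherian X := LocallyOfFiniteType.isLocallyNoetherian f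
  obtain ⟨t, ht⟩ := IsDiscreteValuationRing.exists_irreducible A
  have key := nil_mem f ht (f x) hx (f.asFiber x) hred
  have key' : ∀ b : X.presheaf.stalk x, IsNilpotent b → b ∈ Ideal.span {gmap f x t} := by
    let P : X → Prop := fun x' => ∀ b : X.presheaf.stalk x', IsNilpotent b →
      b ∈ Ideal.span {gmap f x' t}
    have h1 : P ((f.fiberι (f x)) (f.asFiber x)) := key
    have h2 : P x := (f.fiberι_asFiber x) ▸ h1
    exact h2
  have hg : (gmap f x).Flat := flat_of_uniformizer (gmap f x) t ht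
    (gmap_mem_maximalIdeal f ht x hx) (gmap_not_mem_minimal f ht x hx h) key'
  let B := X.presheaf.stalk x
  let A' := (Spec (CommRingCat.of A)).presheaf.stalk (f x)
  let ψ : A →+* A' := (StructureSheaf.toStalk (CommRingCat.of A) (f x)).hom
  let φ : A' →+* B := (f.stalkMap x).hom
  let P : PrimeSpectrum A := f x
  letI : Algebra A A' := ψ.toAlgebra
  letI : Algebra A' B := φ.toAlgebra
  letI : Algebra A B := (gmap f x).toAlgebra
  haveI : IsScalarTower A A' B := IsScalarTower.of_algebraMap_eq (fun _ => rfl)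
  haveI : IsLocalization.AtPrime A' P.asIdeal := StructureSheaf.IsLocalization.to_stalk (R := A) P
  have hg' : Module.Flat A B := hg
  show Module.Flat A' B
  exact (Module.flat_iff_of_isLocalization A' P.asIdeal.primeCompl B).2 hg'

end

end Groth.Agent.Helper5.DvrFlat
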