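import Mathlib

set_option autoImplicit false
universe u

namespace Groth.Agent.Helper5.SecNb

/-- idempotents of `B[1/t]` come from `B` when `t` is a nonzerodivisor and `B/tB` is reduced -/
theorem idem_lift {B : Type*} [CommRing B] (t : B) (ht : t ∈ nonZeroDivisors B)
    (hred : ∀ b : B, b ^ 2 ∈ Ideal.span {t} → b ∈ Ideal.span {t})
    (S : Type*) [CommRing S] [Algebra B S] [IsLocalization.Away t S] (e : S)
    (he : IsIdempotentElem e) :
    ∃ e₀ : B, IsIdempotentElem e₀ ∧ algebraMap B S e₀ = e := by
  have hinj : Function.Injective (algebraMap B S) := by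
    apply IsLocalization.injective S (M := Submonoid.powers t)
    exact Submonoid.powers_le.2 ht
  have hunit : IsUnit (algebraMap B S t) := IsLocalization.Away.algebraMap_isUnit t
  have key : ∀ (n : ℕ) (b : B), algebraMap B S b = e * (algebraMap B S t) ^ n →
      ∃ b₀ : B, algebraMap B S b₀ = e := by
    intro n
    induction n with
    | zero => intro b hb; exact ⟨b, by simpa using hb⟩
    | succ n ih =>
      intro b hb
      have h1 : algebraMap B S (b ^ 2) = algebraMap B S (b * t ^ (n + 1)) := by
        rw [map_pow, map_mul, map_pow, hb]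
        have : e * e = e := he
        calc (e * (algebraMap B S t) ^ (n + 1)) ^ 2
            = (e * e) * (algebraMap B S t) ^ (n + 1) * (algebraMap B S t) ^ (n + 1) := by ring
          _ = e * (algebraMap B S t) ^ (n + 1) * (algebraMap B S t) ^ (n + 1) := by rw [this]
      have h2 : b ^ 2 = b * t ^ (n + 1) := hinj h1
      have h3 : b ^ 2 ∈ Ideal.span {t} := by
        rw [h2, pow_succ, ← mul_assoc]
        exact Ideal.mul_mem_left _ _ (Ideal.mem_span_singleton_self t)
      obtain ⟨b', hb'⟩ := Ideal.mem_span_singleton'.1 (hred b h3)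
      apply ih b'
      have h4 : algebraMap B S b' * algebraMap B S t =
          e * (algebraMap B S t) ^ n * algebraMap B S t := by
        rw [← map_mul, hb', hb, pow_succ, mul_assoc]
      exact hunit.mul_left_injective h4
  obtain ⟨n, b, hb⟩ := IsLocalization.Away.surj t e
  obtain ⟨e₀, he₀⟩ := key n b hb.symm
  refine ⟨e₀, ?_, he₀⟩
  apply hinj
  rw [map_mul, he₀]
  exact he

/-- the punctured spectrum `D(t)` of a local ring is connected when `t` is a nonzerodivisor and
`B/tB` is reduced -/
theorem isPreconnected_basicOpen {B : Type*} [CommRing B] [IsLocalRing B] (t : B)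
    (ht : t ∈ nonZeroDivisors B)
    (hred : ∀ b : B, b ^ 2 ∈ Ideal.span {t} → b ∈ Ideal.span {t}) :
    IsPreconnected (PrimeSpectrum.basicOpen t : Set (PrimeSpectrum B)) := by
  let S := Localization.Away t
  have hemb := PrimeSpectrum.localization_away_isOpenEmbedding S t
  have hrange := PrimeSpectrum.localization_away_comap_range S t
  haveI : PreconnectedSpace (PrimeSpectrum S) := by
    rw [preconnectedSpace_iff_clopen]
    intro s hs
    obtain ⟨e, he, rfl⟩ := PrimeSpectrum.isClopen_iff.1 hs
    obtain ⟨e₀, he₀, rfl⟩ := idem_lift t ht hred S e he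
    rcases IsLocalRing.isUnit_or_isUnit_one_sub_self e₀ with h | h
    · right
      have h1 : e₀ = 1 := by
        have h2 : e₀ * (1 - e₀) = 0 := by rw [mul_sub, mul_one, he₀.eq, sub_self]
        have h3 : 1 - e₀ = 0 := (h.mul_right_eq_zero).1 h2
        exact (sub_eq_zero.1 h3).symm
      rw [h1, map_one]
      simp
    · left
      have h1 : e₀ = 0 := by
        have h2 : (1 - e₀) * e₀ = 0 := by rw [sub_mul, one_mul, he₀.eq, sub_self]
        exact (h.mul_right_eq_zero).1 h2
      rw [h1, map_zero]
      simp
  rw [← hrange]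
  exact isPreconnected_range hemb.continuous

end Groth.Agent.Helper5.SecNb
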