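import Mathlib
import Groth.Prelude
import Groth.Agent.Helper5.DvrFlatC
import Groth.Agent.Helper5.SecNbA

set_option autoImplicit false
set_option linter.style.haveILetI false
universe u

namespace Groth.Agent.Helper5.SecNb

open AlgebraicGeometry CategoryTheory CategoryTheory.Limits TopologicalSpace Topology
open Groth.Agent.Helper5.DvrFlat

section

variable {R : Type u} [CommRing R] [IsDomain R] [IsDiscreteValuationRing R]

/-- the generic point of the spectrum of a discrete valuation ring -/
def gen (R : Type u) [CommRing R] [IsDomain R] : ↥(Spec (CommRingCat.of R)) :=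
  (⊥ : PrimeSpectrum R)

theorem eq_gen_or_closedPoint (q : ↥(Spec (CommRingCat.of R))) :
    q = gen R ∨ q = IsLocalRing.closedPoint R := by
  let Q : PrimeSpectrum R := q
  by_cases h : Q.asIdeal = ⊥
  · left
    exact PrimeSpectrum.ext h
  · right
    apply PrimeSpectrum.ext
    show Q.asIdeal = IsLocalRing.maximalIdeal R
    have hmax : Q.asIdeal.IsMaximal := Q.isPrime.isMaximal h
    exact IsLocalRing.eq_maximalIdeal hmax

theorem gen_ne_closedPoint : gen R ≠ IsLocalRing.closedPoint R := by
  intro h
  have h1 : (⊥ : Ideal R) = IsLocalRing.maximalIdeal R := congrArg PrimeSpectrum.asIdeal h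
  exact IsDiscreteValuationRing.not_a_field R h1.symm

theorem isOpen_gen : IsOpen ({gen R} : Set ↥(Spec (CommRingCat.of R))) := by
  have h1 : ({gen R} : Set ↥(Spec (CommRingCat.of R))) = {IsLocalRing.closedPoint R}ᶜ := by
    ext q
    simp only [Set.mem_singleton_iff, Set.mem_compl_iff]
    constructor
    · rintro rfl
      exact gen_ne_closedPoint
    · intro hq
      rcases eq_gen_or_closedPoint q with h | h
      · exact h
      · exact absurd h hq
  rw [h1]
  exact (IsLocalRing.isClosed_singleton_closedPoint R).isOpen_compl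

theorem gen_specializes (q : ↥(Spec (CommRingCat.of R))) : gen R ⤳ q :=
  (PrimeSpectrum.le_iff_specializes (⊥ : PrimeSpectrum R) q).1 bot_le

end

section

variable {R : Type u} [CommRing R] [IsDomain R] [IsDiscreteValuationRing R] {W : Scheme.{u}}
  (p : W ⟶ Spec (CommRingCat.of R))

theorem apply_eq_gen_iff {t : R} (ht : Irreducible t) (z : W)
    (q : PrimeSpectrum (W.presheaf.stalk z)) :
    p ((W.fromSpecStalk z) q) = gen R ↔ gmap p z t ∉ q.asIdeal := by
  constructor
  · intro h hq
    have h1 := eq_closedPoint_of_mem p ht z q hq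
    rw [h] at h1
    exact gen_ne_closedPoint h1
  · intro h
    rcases eq_gen_or_closedPoint (p ((W.fromSpecStalk z) q)) with h1 | h1
    · exact h1
    · exfalso
      apply h
      rw [comap_gmap] at h1
      have h2 : Ideal.comap (gmap p z) q.asIdeal = IsLocalRing.maximalIdeal R :=
        congrArg PrimeSpectrum.asIdeal h1
      have h3 : t ∈ IsLocalRing.maximalIdeal R := by
        rw [(IsDiscreteValuationRing.irreducible_iff_uniformizer t).1 ht]
        exact Ideal.mem_span_singleton_self t
      rw [← h2] at h3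
      exact h3

theorem gmap_flat (z : W) (h : (p.stalkMap z).hom.Flat) : (gmap p z).Flat := by
  let B := W.presheaf.stalk z
  let A' := (Spec (CommRingCat.of R)).presheaf.stalk (p z)
  let ψ : R →+* A' := (StructureSheaf.toStalk (CommRingCat.of R) (p z)).hom
  let φ : A' →+* B := (p.stalkMap z).hom
  let P : PrimeSpectrum R := p z
  letI : Algebra R A' := ψ.toAlgebra
  letI : Algebra A' B := φ.toAlgebra
  letI : Algebra R B := (gmap p z).toAlgebra
  haveI : IsScalarTower R A' B := IsScalarTower.of_algebraMap_eq (fun _ => rfl)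
  haveI : IsLocalization.AtPrime A' P.asIdeal := StructureSheaf.IsLocalization.to_stalk (R := R) P
  have hg' : Module.Flat A' B := h
  show Module.Flat R B
  exact (Module.flat_iff_of_isLocalization A' P.asIdeal.primeCompl B).1 hg'

theorem gmap_mem_nonZeroDivisors {t : R} (ht : Irreducible t) (z : W) (h : (gmap p z).Flat) :
    gmap p z t ∈ nonZeroDivisors (W.presheaf.stalk z) := by
  letI : Algebra R (W.presheaf.stalk z) := (gmap p z).toAlgebra
  haveI : Module.Flat R (W.presheaf.stalk z) := h
  have h1 : IsSMulRegular R t := by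
    intro a b hab
    exact mul_left_cancel₀ ht.ne_zero hab
  have h2 : IsSMulRegular (W.presheaf.stalk z) (algebraMap R (W.presheaf.stalk z) t) :=
    h1.of_flat
  rw [mem_nonZeroDivisors_iff_right]
  intro b hb
  apply h2
  show algebraMap R (W.presheaf.stalk z) t * b = algebraMap R (W.presheaf.stalk z) t * 0
  rw [mul_zero, mul_comm]
  exact hb

theorem exists_generization_gen {t : R} (ht : Irreducible t) (z : W) (h : (gmap p z).Flat) :
    ∃ ξ : W, ξ ⤳ z ∧ p ξ = gen R := by
  have hnzd := gmap_mem_nonZeroDivisors p ht z h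
  have hnil : ¬ IsNilpotent (gmap p z t) := by
    intro hn
    have : gmap p z t = 0 := by
      obtain ⟨n, hn⟩ := hn
      have h1 : (gmap p z t) ^ n ∈ nonZeroDivisors (W.presheaf.stalk z) := pow_mem hnzd n
      rw [hn] at h1
      exact absurd h1 (by
        intro h0
        exact zero_notMem_nonZeroDivisors h0)
    rw [this] at hnzd
    exact zero_notMem_nonZeroDivisors hnzd
  rw [← mem_nilradical, nilradical_eq_sInf, Ideal.mem_sInf] at hnil
  push_neg at hnil
  obtain ⟨q, hq, hqt⟩ := hnil
  let Q : PrimeSpectrum (W.presheaf.stalk z) := ⟨q, hq⟩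
  refine ⟨(W.fromSpecStalk z) Q, ?_, (apply_eq_gen_iff p ht z Q).2 hqt⟩
  have h1 : (W.fromSpecStalk z) Q ∈ Set.range (W.fromSpecStalk z) := ⟨Q, rfl⟩
  rw [Scheme.range_fromSpecStalk] at h1
  exact h1

theorem ker_eq_span {t : R} (ht : Irreducible t) (s : ↥(Spec (CommRingCat.of R)))
    (hs : s = IsLocalRing.closedPoint R) (y : ↥(p.fiber s)) :
    RingHom.ker ((p.fiberι s).stalkMap y).hom = Ideal.span {gmap p ((p.fiberι s) y) t} := by
  obtain ⟨-, hker⟩ := FibStalk.s9501 p s y
  rw [hker]
  have hfx : p ((p.fiberι s) y) = IsLocalRing.closedPoint R := by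
    rw [FibStalk.fiberι_apply, hs]
  let P : PrimeSpectrum R := p ((p.fiberι s) y)
  have hP : P.asIdeal = Ideal.span {t} := by
    have : P = IsLocalRing.closedPoint R := hfx
    rw [this]
    exact (IsDiscreteValuationRing.irreducible_iff_uniformizer t).1 ht
  let A' := (Spec (CommRingCat.of R)).presheaf.stalk (p ((p.fiberι s) y))
  let ψ : R →+* A' := (StructureSheaf.toStalk (CommRingCat.of R) (p ((p.fiberι s) y))).hom
  letI : Algebra R A' := ψ.toAlgebra
  haveI : IsLocalization.AtPrime A' P.asIdeal := StructureSheaf.IsLocalization.to_stalk (R := R) P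
  have h3 : P.asIdeal.map (algebraMap R A') = IsLocalRing.maximalIdeal A' :=
    IsLocalization.AtPrime.map_eq_maximalIdeal P.asIdeal A'
  have h4 : IsLocalRing.maximalIdeal A' = Ideal.span {ψ t} := by
    rw [← h3, hP, Ideal.map_span, Set.image_singleton]
    rfl
  show Ideal.map (p.stalkMap ((p.fiberι s) y)).hom (IsLocalRing.maximalIdeal A') = _
  rw [h4, Ideal.map_span, Set.image_singleton]
  rfl

theorem sq_mem {t : R} (ht : Irreducible t) (s : ↥(Spec (CommRingCat.of R)))
    (hs : s = IsLocalRing.closedPoint R) (y : ↥(p.fiber s))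
    (hred : _root_.IsReduced ((p.fiber s).presheaf.stalk y)) :
    ∀ b : W.presheaf.stalk ((p.fiberι s) y), b ^ 2 ∈ Ideal.span {gmap p ((p.fiberι s) y) t} →
      b ∈ Ideal.span {gmap p ((p.fiberι s) y) t} := by
  intro b hb
  rw [← ker_eq_span p ht s hs y] at hb ⊢
  have h1 : ((p.fiberι s).stalkMap y).hom (b ^ 2) = 0 := hb
  rw [map_pow] at h1
  have h2 : IsNilpotent (((p.fiberι s).stalkMap y).hom b) := ⟨2, h1⟩
  exact h2.eq_zero

theorem sq_mem' {t : R} (ht : Irreducible t) (z : W) (hz : p z = IsLocalRing.closedPoint R)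
    (hred : _root_.IsReduced ((p.fiber (p z)).presheaf.stalk (p.asFiber z))) :
    ∀ b : W.presheaf.stalk z, b ^ 2 ∈ Ideal.span {gmap p z t} → b ∈ Ideal.span {gmap p z t} := by
  have key := sq_mem p ht (p z) hz (p.asFiber z) hred
  let P : W → Prop := fun x' => ∀ b : W.presheaf.stalk x', b ^ 2 ∈ Ideal.span {gmap p x' t} →
    b ∈ Ideal.span {gmap p x' t}
  have h1 : P ((p.fiberι (p z)) (p.asFiber z)) := key
  have h2 : P z := (p.fiberι_asFiber z) ▸ h1
  exact h2

end

end Groth.Agent.Helper5.SecNb
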