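import Mathlib
import Groth.Prelude
import Groth.Agent.Helper5.SecNbB
import Groth.Agent.Lead.ProConsLib7
import Groth.Agent.Helper1.FinCondTop

set_option autoImplicit false
set_option linter.style.haveILetI false
universe u

namespace Groth.Agent.Helper5.SecNb

open AlgebraicGeometry CategoryTheory CategoryTheory.Limits TopologicalSpace Topology
open Groth.Agent.Helper5.DvrFlat

variable {R : Type u} [CommRing R] [IsDomain R] [IsDiscreteValuationRing R] {W : Scheme.{u}}
  (p : W ⟶ Spec (CommRingCat.of R))

/-- over a discrete valuation ring: a point of the special fibre at which the morphism is flat with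
reduced fibre cannot lie in the closures of two disjoint open subsets covering the generic
fibre -/
theorem not_mem_closure_both [IsNoetherian W] {t : R} (ht : Irreducible t) (z : W)
    (hflat : (gmap p z).Flat)
    (hred : ∀ b : W.presheaf.stalk z, b ^ 2 ∈ Ideal.span {gmap p z t} →
      b ∈ Ideal.span {gmap p z t})
    (K K' : Set W) (hK : IsOpen K) (hK' : IsOpen K') (hdisj : Disjoint K K')
    (hcov : p ⁻¹' {gen R} = K ∪ K') (hz : z ∈ closure K) (hz' : z ∈ closure K') : False := by
  have hcons : ∀ O : Set W, IsOpen O → ProCons.IsProConstructible O := by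
    intro O hO
    apply Groth.Agent.Lead.ProConsLib.pro_of_isLocallyConstructible
    apply IsConstructible.isLocallyConstructible
    apply IsRetrocompact.isConstructible hO
    intro V _ _
    exact NoetherianSpace.isCompact _
  obtain ⟨ξ, hξK, hξz⟩ :=
    Groth.Agent.Lead.ProConsLib.exists_specializes_of_mem_closure (hcons K hK) hz
  obtain ⟨ξ', hξK', hξz'⟩ :=
    Groth.Agent.Lead.ProConsLib.exists_specializes_of_mem_closure (hcons K' hK') hz'
  let j := W.fromSpecStalk z
  have hrange : ∀ w : W, w ⤳ z → ∃ q : PrimeSpectrum (W.presheaf.stalk z), j q = w := by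
    intro w hw
    have : w ∈ Set.range j := by
      rw [Scheme.range_fromSpecStalk]; exact hw
    exact this
  obtain ⟨q, hq⟩ := hrange ξ hξz
  obtain ⟨q', hq'⟩ := hrange ξ' hξz'
  have hpre := isPreconnected_basicOpen (gmap p z t) (gmap_mem_nonZeroDivisors p ht z hflat) hred
  let U₁ : Set (PrimeSpectrum (W.presheaf.stalk z)) := j ⁻¹' K
  let U₂ : Set (PrimeSpectrum (W.presheaf.stalk z)) := j ⁻¹' K'
  have hU₁ : IsOpen U₁ := hK.preimage j.continuous
  have hU₂ : IsOpen U₂ := hK'.preimage j.continuous
  have hmemD : ∀ r : PrimeSpectrum (W.presheaf.stalk z),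
      r ∈ (PrimeSpectrum.basicOpen (gmap p z t) : Set _) ↔ j r ∈ K ∪ K' := by
    intro r
    rw [← hcov]
    exact (apply_eq_gen_iff p ht z r).symm
  have h1 : (PrimeSpectrum.basicOpen (gmap p z t) : Set (PrimeSpectrum (W.presheaf.stalk z))) ⊆
      U₁ ∪ U₂ := fun r hr => (hmemD r).1 hr
  have h2 : ((PrimeSpectrum.basicOpen (gmap p z t) : Set _) ∩ U₁).Nonempty := by
    refine ⟨q, (hmemD q).2 ?_, ?_⟩
    · rw [hq]; exact Or.inl hξK
    · show j q ∈ K
      rw [hq]; exact hξK
  have h3 : ((PrimeSpectrum.basicOpen (gmap p z t) : Set _) ∩ U₂).Nonempty := by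
    refine ⟨q', (hmemD q').2 ?_, ?_⟩
    · rw [hq']; exact Or.inr hξK'
    · show j q' ∈ K'
      rw [hq']; exact hξK'
  obtain ⟨r, -, hr1, hr2⟩ := hpre U₁ U₂ hU₁ hU₂ h1 h2 h3
  exact Set.disjoint_iff.1 hdisj ⟨hr1, hr2⟩

/-- a generization inside the same fibre stays in the connected component -/
theorem mem_connectedComponentIn_of_specializes {T : Type*} [TopologicalSpace T] {F : Set T}
    {x z w : T} (hz : z ∈ connectedComponentIn F x) (hwz : w ⤳ z) (hw : w ∈ F) :
    w ∈ connectedComponentIn F x := by
  have hzF : z ∈ F := connectedComponentIn_subset F x hz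
  rw [connectedComponentIn_eq hz]
  have h1 : IsPreconnected ({w, z} : Set T) := by
    apply (isPreconnected_singleton (x := w)).subset_closure
    · intro y hy
      rw [Set.mem_singleton_iff] at hy
      rw [hy]; exact Set.mem_insert _ _
    · intro y hy
      rcases hy with rfl | hy
      · exact subset_closure rfl
      · rw [Set.mem_singleton_iff] at hy
        rw [hy]
        exact specializes_iff_mem_closure.1 hwz
  have h2 : ({w, z} : Set T) ⊆ connectedComponentIn F z := by
    apply h1.subset_connectedComponentIn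
    · exact Set.mem_insert_of_mem _ rfl
    · intro y hy
      rcases hy with rfl | hy
      · exact hw
      · rw [Set.mem_singleton_iff] at hy
        rw [hy]; exact hzF
  exact h2 (Set.mem_insert _ _)

theorem dvr_lemma [LocallyOfFiniteType p] [QuasiCompact p]
    (a b : Spec (CommRingCat.of R) ⟶ W) (ha : a ≫ p = 𝟙 _) (hb : b ≫ p = 𝟙 _)
    (hopen : ∀ z ∈ connectedComponentIn (p ⁻¹' {IsLocalRing.closedPoint R})
      (a (IsLocalRing.closedPoint R)), EGA43.IsOpenAt p z)
    (hred : ∀ z ∈ connectedComponentIn (p ⁻¹' {IsLocalRing.closedPoint R})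
      (a (IsLocalRing.closedPoint R)),
        _root_.IsReduced ((p.fiber (p z)).presheaf.stalk (p.asFiber z)))
    (hbs : b (IsLocalRing.closedPoint R) ∈
      connectedComponentIn (p ⁻¹' {IsLocalRing.closedPoint R}) (a (IsLocalRing.closedPoint R))) :
    b (gen R) ∈ connectedComponentIn (p ⁻¹' {gen R}) (a (gen R)) := by
  classical
  obtain ⟨t, ht⟩ := IsDiscreteValuationRing.exists_irreducible R
  haveI : IsLocallyNoetherian W := LocallyOfFiniteType.isLocallyNoetherian p
  haveI : CompactSpace ↥W := QuasiCompact.compactSpace_of_compactSpace p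
  haveI : IsNoetherian W := { }
  set s := IsLocalRing.closedPoint R with hsdef
  set Cs := connectedComponentIn (p ⁻¹' {s}) (a s) with hCs
  have hpa : ∀ r, p (a r) = r := fun r => by
    rw [← Scheme.Hom.comp_apply, ha]; rfl
  have hpb : ∀ r, p (b r) = r := fun r => by
    rw [← Scheme.Hom.comp_apply, hb]; rfl
  have hCsF : ∀ z ∈ Cs, p z = s := by
    intro z hz
    have h1 : z ∈ p ⁻¹' {s} := connectedComponentIn_subset _ _ hz
    exact h1
  -- flatness along `Cs`
  have hflat : ∀ z ∈ Cs, (gmap p z).Flat := by
    intro z hz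
    apply gmap_flat
    have hpz : p z = s := hCsF z hz
    apply Groth.Agent.Helper5.DvrFlat.s4948 p z hpz ?_ (hred z hz)
    intro z' hz' _
    apply hopen
    have hemb : IsEmbedding (p.fiberι (p z)) := (p.fiberι (p z)).isEmbedding
    have h1 : (p.fiberι (p z)) z' ⤳ z := by
      have h2 : z' ⤳ p.asFiber z := specializes_iff_mem_closure.2 hz'
      have h3 := h2.map (p.fiberι (p z)).continuous
      rwa [Scheme.Hom.fiberι_asFiber] at h3
    apply mem_connectedComponentIn_of_specializes hz h1
    show p ((p.fiberι (p z)) z') = s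
    rw [FibStalk.fiberι_apply, hpz]
  have hsq : ∀ z ∈ Cs, ∀ c : W.presheaf.stalk z, c ^ 2 ∈ Ideal.span {gmap p z t} →
      c ∈ Ideal.span {gmap p z t} := fun z hz => sq_mem' p ht z (hCsF z hz) (hred z hz)
  -- the generic fibre and its component
  let F : Set W := p ⁻¹' {gen R}
  have hF : IsOpen F := isOpen_gen.preimage p.continuous
  have haF : a (gen R) ∈ F := hpa _
  let a₀ : ↥F := ⟨a (gen R), haF⟩
  let K₀ : Set ↥F := connectedComponent a₀
  have hK₀op : IsOpen K₀ :=
    Groth.Agent.Helper1.FinCondTop.isOpen_connectedComponent_of_noetherian a₀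
  have hK₀cl : IsClosed K₀ := isClosed_connectedComponent
  let K : Set W := Subtype.val '' K₀
  let K' : Set W := Subtype.val '' K₀ᶜ
  have hK : IsOpen K := hF.isOpenMap_subtype_val K₀ hK₀op
  have hK' : IsOpen K' := hF.isOpenMap_subtype_val _ hK₀cl.isOpen_compl
  have hKeq : connectedComponentIn F (a (gen R)) = K := connectedComponentIn_eq_image haF
  have hdisj : Disjoint K K' := by
    rw [Set.disjoint_iff]
    rintro _ ⟨⟨u, hu, rfl⟩, ⟨v, hv, huv⟩⟩
    have : v = u := Subtype.ext huv
    rw [this] at hv
    exact hv hu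
  have hcov : p ⁻¹' {gen R} = K ∪ K' := by
    ext w
    constructor
    · intro hw
      by_cases h : (⟨w, hw⟩ : ↥F) ∈ K₀
      · exact Or.inl ⟨_, h, rfl⟩
      · exact Or.inr ⟨_, h, rfl⟩
    · rintro (⟨u, -, rfl⟩ | ⟨u, -, rfl⟩)
      · exact u.2
      · exact u.2
  -- the component of the special fibre lies in `closure K` and misses `closure K'`
  have hcover : Cs ⊆ closure K ∪ closure K' := by
    intro z hz
    obtain ⟨ξ, hξz, hξ⟩ := exists_generization_gen p ht z (hflat z hz)
    have hξF : ξ ∈ K ∪ K' := by rw [← hcov]; exact hξ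
    rcases hξF with h | h
    · exact Or.inl (hξz.mem_closed isClosed_closure (subset_closure h))
    · exact Or.inr (hξz.mem_closed isClosed_closure (subset_closure h))
  have hCspre : _root_.IsPreconnected Cs := isPreconnected_connectedComponentIn
  have hasCs : a s ∈ Cs := mem_connectedComponentIn (hpa s)
  have hasK : a s ∈ closure K := by
    have h1 : a (gen R) ⤳ a s := (gen_specializes s).map a.continuous
    apply h1.mem_closed isClosed_closure
    apply subset_closure
    rw [← hKeq]
    exact mem_connectedComponentIn haF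
  have hmiss : ∀ z ∈ Cs, z ∉ closure K' := by
    intro z hz hzK'
    have h1 := (isPreconnected_closed_iff.1 hCspre) (closure K) (closure K') isClosed_closure
      isClosed_closure hcover ⟨a s, hasCs, hasK⟩ ⟨z, hz, hzK'⟩
    obtain ⟨w, hw, hw1, hw2⟩ := h1
    exact not_mem_closure_both p ht w (hflat w hw) (hsq w hw) K K' hK hK' hdisj hcov hw1 hw2
  -- conclusion
  rw [hKeq]
  have hbF : b (gen R) ∈ K ∪ K' := by rw [← hcov]; exact hpb _
  rcases hbF with h | h
  · exact h
  · exfalso
    apply hmiss _ hbs
    have h1 : b (gen R) ⤳ b s := (gen_specializes s).map b.continuous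
    exact h1.mem_closed isClosed_closure (subset_closure h)

end Groth.Agent.Helper5.SecNb
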