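import Mathlib
import Groth.Prelude
import Groth.Agent.Helper4.GeomRedPt2
import Groth.Agent.Helper5.FibStalk

set_option autoImplicit false
set_option linter.style.haveILetI false
universe u

namespace Groth.Agent.Helper5.SecNb

open AlgebraicGeometry CategoryTheory CategoryTheory.Limits TopologicalSpace Topology

/-- transport of pointwise geometric reducedness between the two descriptions of a point of a
fibre -/
theorem geomReducedAt_transport {X Y : Scheme.{u}} (f : X ⟶ Y) (y : Y) (x₀ : ↥(f.fiber y))
    (h : FBase.IsGeomReducedAt (f.fiberToSpecResidueField (f ((f.fiberι y) x₀)))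
      (f.asFiber ((f.fiberι y) x₀))) :
    FBase.IsGeomReducedAt (f.fiberToSpecResidueField y) x₀ := by
  have key : ∀ (y' : Y) (hy : y' = y) (x₁ : ↥(f.fiber y')),
      (f.fiberι y') x₁ = (f.fiberι y) x₀ →
      FBase.IsGeomReducedAt (f.fiberToSpecResidueField y') x₁ →
      FBase.IsGeomReducedAt (f.fiberToSpecResidueField y) x₀ := by
    intro y' hy
    subst hy
    intro x₁ h1 h2
    have : x₁ = x₀ := (f.fiberι y').isEmbedding.injective h1
    rwa [this] at h2
  exact key _ (FibStalk.fiberι_apply f y x₀) _ (f.fiberι_asFiber _) h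

/-- an isomorphism of schemes preserves reducedness of local rings -/
theorem isReduced_stalk_of_iso {A B : Scheme.{u}} (e : A ⟶ B) [IsIso e] (a : A)
    (h : _root_.IsReduced (B.presheaf.stalk (e a))) : _root_.IsReduced (A.presheaf.stalk a) := by
  haveI : IsIso (e.stalkMap a) := inferInstance
  let φ := (asIso (e.stalkMap a)).commRingCatIsoToRingEquiv
  exact isReduced_of_injective φ.symm.toRingHom φ.symm.injective

/-- the fibres of a base change of `f` are reduced at the points lying over a point at which the
fibre of `f` is geometrically reduced -/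
theorem isReduced_fiber_stalk_of_geomReducedAt {X Y T : Scheme.{u}} (f : X ⟶ Y) (h : T ⟶ Y)
    (z : ↥(pullback f h))
    (hgr : FBase.IsGeomReducedAt (f.fiberToSpecResidueField (f (pullback.fst f h z)))
      (f.asFiber (pullback.fst f h z))) :
    _root_.IsReduced (((pullback.snd f h).fiber (pullback.snd f h z)).presheaf.stalk
      ((pullback.snd f h).asFiber z)) := by
  let q := pullback.snd f h
  let pr := pullback.fst f h
  let s : T := q z
  have hsq := isPullback_fiberToSpecResidueField_of_isPullback (IsPullback.of_hasPullback f h) s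
  let m : q.fiber s ⟶ f.fiber (h s) := pullback.map _ _ _ _ pr (Spec.map (h.residueFieldMap s)) h
    (IsPullback.of_hasPullback f h).w.symm (by simp)
  have hm : m ≫ f.fiberι (h s) = q.fiberι s ≫ pr := pullback.lift_fst _ _ _
  let fX := f.fiberToSpecResidueField (h s)
  let fY : Spec (T.residueField s) ⟶ Spec (Y.residueField (h s)) := Spec.map (h.residueFieldMap s)
  let e : q.fiber s ≅ pullback fX fY := hsq.isoPullback
  have he : e.hom ≫ pullback.fst fX fY = m := hsq.isoPullback_hom_fst
  let z₀ : ↥(q.fiber s) := q.asFiber z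
  let x₀ : ↥(f.fiber (h s)) := m z₀
  have hx₀ : (f.fiberι (h s)) x₀ = pr z := by
    show (f.fiberι (h s)) (m z₀) = pr z
    rw [← Scheme.Hom.comp_apply, hm, Scheme.Hom.comp_apply]
    show pr ((q.fiberι (q z)) (q.asFiber z)) = pr z
    rw [Scheme.Hom.fiberι_asFiber]
  have hgr₀ : FBase.IsGeomReducedAt fX x₀ := by
    apply geomReducedAt_transport
    rw [hx₀]
    exact hgr
  haveI : AlgebraicGeometry.IsReduced (Spec (T.residueField s)) := inferInstance
  have hred := Groth.Agent.Helper4.GeomRedPt2.isReduced_stalk_prod_of_geomReducedAt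
    (k := Y.residueField (h s)) fX fY x₀ hgr₀ (e.hom z₀) (by
      show (e.hom ≫ pullback.fst fX fY) z₀ = m z₀
      exact congrArg (fun g : q.fiber s ⟶ f.fiber (h s) => g z₀) he)
  exact isReduced_stalk_of_iso e.hom z₀ hred

/-- the fibres of all base changes of `f` are reduced at the points over `x` -/
def URed {X Y : Scheme.{u}} (f : X ⟶ Y) (x : X) : Prop :=
  ∀ (T : Scheme.{u}) (h : T ⟶ Y) (z : ↥(pullback f h)), pullback.fst f h z = x →
    _root_.IsReduced (((pullback.snd f h).fiber (pullback.snd f h z)).presheaf.stalk
      ((pullback.snd f h).asFiber z))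

theorem URed.of_geomReducedAt {X Y : Scheme.{u}} (f : X ⟶ Y) (x : X)
    (hgr : FBase.IsGeomReducedAt (f.fiberToSpecResidueField (f x)) (f.asFiber x)) :
    URed f x := by
  intro T h z hz
  subst hz
  exact isReduced_fiber_stalk_of_geomReducedAt f h z hgr

end Groth.Agent.Helper5.SecNb
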