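import Mathlib
import Groth.Prelude
import Groth.Agent.Helper5.SecNbC
import Groth.Agent.Helper5.SecNbD
import Groth.Agent.Helper5.SecCompF
import Groth.Agent.Helper5.DvrSpec
import Groth.Agent.Lead.ProConsLib3

set_option autoImplicit false
set_option linter.style.haveILetI false
universe u

namespace Groth.Agent.Helper5.SecNb

open AlgebraicGeometry CategoryTheory CategoryTheory.Limits TopologicalSpace Topology

theorem mem_sectionComponents_iff {X Y : Scheme.{u}} (f : X ⟶ Y) (g : Y ⟶ X) {x : X} {y : Y}
    (hxy : f x = y) :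
    x ∈ MoreMor.sectionComponents f g ↔ x ∈ connectedComponentIn (f ⁻¹' {y}) (g y) := by
  subst hxy
  rfl

/-- a discrete valuation ring through a proper specialization in a locally Noetherian scheme -/
theorem exists_dvr_through {X : Scheme.{u}} [IsLocallyNoetherian X] (x x' : X) (hsp : x' ⤳ x)
    (hne : x ≠ x') :
    ∃ (A : Type u) (_ : CommRing A) (_ : IsDomain A) (_ : IsDiscreteValuationRing A)
      (σ : Spec (CommRingCat.of A) ⟶ X),
      σ (IsLocalRing.closedPoint A) = x ∧ σ (gen A) = x' := by
  obtain ⟨A, σ, hA, hσ1, hσ2⟩ := Groth.Agent.Helper5.DvrSpec.main (𝟙 X) x' x hsp hne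
  refine ⟨A, inferInstance, inferInstance, hA, σ, hσ1, ?_⟩
  let pt : ↥(Spec (X.residueField x')) := IsLocalRing.closedPoint (X.residueField x')
  have h1 : (Spec.map (CommRingCat.ofHom A.subtype) ≫ σ) pt = x' := by
    rw [hσ2, Category.comp_id, Scheme.fromSpecResidueField_apply]
  rw [Scheme.Hom.comp_apply] at h1
  have h2 : (Spec.map (CommRingCat.ofHom A.subtype)) pt = gen A := by
    apply PrimeSpectrum.ext
    show Ideal.comap A.subtype _ = ⊥
    rw [eq_bot_iff]
    intro a ha
    have h3 : A.subtype a ∈ IsLocalRing.maximalIdeal (X.residueField x') := ha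
    rw [IsLocalRing.maximalIdeal_eq_bot, Ideal.mem_bot] at h3
    rw [Ideal.mem_bot]
    exact Subtype.ext h3
  rw [h2] at h1
  exact h1

/-- the Noetherian case -/
theorem nhd_noeth {X Y : Scheme.{u}} [IsLocallyNoetherian Y] (f : X ⟶ Y) [LocallyOfFiniteType f]
    [QuasiCompact f] [NoetherianSpace X] (g : Y ⟶ X) (hg : g ≫ f = 𝟙 Y) (y : Y)
    (hy : ∀ x ∈ connectedComponentIn (f ⁻¹' {y}) (g y), EGA43.IsUnivOpenAt f x ∧ URed f x) :
    connectedComponentIn (f ⁻¹' {y}) (g y) ⊆ interior (MoreMor.sectionComponents f g) := by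
  intro x hx
  have hfx : f x = y := by
    have h1 : x ∈ f ⁻¹' {y} := connectedComponentIn_subset _ _ hx
    exact h1
  haveI : IsLocallyNoetherian X := LocallyOfFiniteType.isLocallyNoetherian f
  have hcons : IsConstructible (MoreMor.sectionComponents f g) :=
    Groth.Agent.Helper5.SecComp.isConstructible_of_noetherianSpace f g hg
  rw [Groth.Agent.Lead.ProConsLib.mem_interior_iff_of_ind
    (Groth.Agent.Lead.ProConsLib.ind_of_isLocallyConstructible hcons.isLocallyConstructible)]
  intro x' hx'
  by_cases hne : x = x'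
  · rw [← hne]
    exact (mem_sectionComponents_iff f g hfx).2 hx
  obtain ⟨A, _, _, _, σ₀, hσs, hση⟩ := exists_dvr_through x x' hx' hne
  let T := Spec (CommRingCat.of A)
  let h : T ⟶ Y := σ₀ ≫ f
  let W := pullback f h
  let p : W ⟶ T := pullback.snd f h
  let pr : W ⟶ X := pullback.fst f h
  let a : T ⟶ W := pullback.lift (h ≫ g) (𝟙 T) (by
    rw [Category.assoc, hg, Category.comp_id, Category.id_comp])
  let b : T ⟶ W := pullback.lift σ₀ (𝟙 T) (by rw [Category.id_comp])
  have hap : a ≫ p = 𝟙 T := pullback.lift_snd _ _ _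
  have hbp : b ≫ p = 𝟙 T := pullback.lift_snd _ _ _
  have hapr : a ≫ pr = h ≫ g := pullback.lift_fst _ _ _
  have hbpr : b ≫ pr = σ₀ := pullback.lift_fst _ _ _
  have hSC : MoreMor.sectionComponents p a = pr ⁻¹' MoreMor.sectionComponents f g :=
    Groth.Agent.Helper5.SecComp.s1324 f g hg p pr h (IsPullback.of_hasPullback f h) a hap hapr
  set s : ↥T := IsLocalRing.closedPoint A with hsdef
  have hhs : h s = y := by
    show (σ₀ ≫ f) s = y
    rw [Scheme.Hom.comp_apply, hσs, hfx]
  have hpb : ∀ r : ↥T, p (b r) = r := fun r => by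
    rw [← Scheme.Hom.comp_apply, hbp]; rfl
  have hprb : ∀ r : ↥T, pr (b r) = σ₀ r := fun r => by
    rw [← Scheme.Hom.comp_apply, hbpr]
  have hsq : ∀ z : ↥W, f (pr z) = h (p z) := fun z => by
    rw [← Scheme.Hom.comp_apply, ← Scheme.Hom.comp_apply, pullback.condition]
  -- points of the special component lie over the component of `y`
  have hover : ∀ z ∈ connectedComponentIn (p ⁻¹' {s}) (a s),
      pr z ∈ connectedComponentIn (f ⁻¹' {y}) (g y) := by
    intro z hz
    have hpz : p z = s := by
      have h0 : z ∈ p ⁻¹' {s} := connectedComponentIn_subset _ _ hz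
      exact h0
    have h1 : z ∈ MoreMor.sectionComponents p a := (mem_sectionComponents_iff p a hpz).2 hz
    rw [hSC] at h1
    have h2 : f (pr z) = y := by rw [hsq, hpz, hhs]
    exact (mem_sectionComponents_iff f g h2).1 h1
  have key := dvr_lemma p a b hap hbp
    (fun z hz => (hy (pr z) (hover z hz)).1 T h z rfl)
    (fun z hz => (hy (pr z) (hover z hz)).2 T h z rfl)
    (by
      have h1 : b s ∈ MoreMor.sectionComponents p a := by
        rw [hSC]
        show pr (b s) ∈ MoreMor.sectionComponents f g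
        rw [hprb, hσs]
        exact (mem_sectionComponents_iff f g hfx).2 hx
      exact (mem_sectionComponents_iff p a (hpb s)).1 h1)
  have h1 : b (gen A) ∈ MoreMor.sectionComponents p a :=
    (mem_sectionComponents_iff p a (hpb _)).2 key
  rw [hSC] at h1
  have h2 : pr (b (gen A)) ∈ MoreMor.sectionComponents f g := h1
  rw [hprb, hση] at h2
  exact h2

end Groth.Agent.Helper5.SecNb
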