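import Mathlib
import Groth.Prelude
import Groth.Agent.Helper5.SecNbE

set_option autoImplicit false
set_option linter.style.haveILetI false
universe u

namespace Groth.Agent.Helper5.Neut

open AlgebraicGeometry CategoryTheory CategoryTheory.Limits MonoidalCategory
  CartesianMonoidalCategory MonObj GrpObj TopologicalSpace Topology

variable {S : Scheme.{u}} (G : Over S) [GrpObj G]

/-- the unit section as a morphism from `S` -/
noncomputable abbrev e : S ⟶ G.left := η[G].left

theorem e_hom : e G ≫ G.hom = 𝟙 S := Over.w η[G]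

theorem hom_e (t : S) : G.hom (e G t) = t := by
  rw [← Scheme.Hom.comp_apply, e_hom]; rfl

theorem neutralSet_eq : SGA3x.neutralSet G = MoreMor.sectionComponents G.hom (e G) := by
  ext x
  constructor
  · intro hx
    obtain ⟨p, hp⟩ := Set.mem_iUnion.1 hx
    have hp' : x ∈ connectedComponentIn (G.hom ⁻¹' {(p : S)}) (e G p) := hp
    have hxp : G.hom x = p := by
      have h0 : x ∈ G.hom ⁻¹' {(p : S)} := connectedComponentIn_subset _ _ hp'
      exact h0
    exact (Groth.Agent.Helper5.SecNb.mem_sectionComponents_iff G.hom (e G) hxp).2 hp'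
  · intro hx
    have hx' : x ∈ connectedComponentIn (G.hom ⁻¹' {G.hom x}) (e G (G.hom x)) := hx
    exact Set.mem_iUnion.2 ⟨(G.hom x : S), hx'⟩

theorem mem_neutralSet_iff {x : G.left} {t : S} (hxt : G.hom x = t) :
    x ∈ SGA3x.neutralSet G ↔ x ∈ connectedComponentIn (G.hom ⁻¹' {t}) (e G t) := by
  rw [neutralSet_eq]
  exact Groth.Agent.Helper5.SecNb.mem_sectionComponents_iff G.hom (e G) hxt

end Groth.Agent.Helper5.Neut
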