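import Mathlib
import Groth.Agent.Helper1.FinCondTop

set_option autoImplicit false
universe u

namespace Groth.Agent.Helper5.SecNb

open TopologicalSpace Topology Set

/-- image of a relative connected component under an embedding -/
theorem image_connectedComponentIn_of_isEmbedding {A B : Type*} [TopologicalSpace A]
    [TopologicalSpace B] {ι : A → B} (hι : IsEmbedding ι) (F : Set A) (p : A) (hp : p ∈ F) :
    ι '' connectedComponentIn F p = connectedComponentIn (ι '' F) (ι p) := by
  apply Subset.antisymm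
  · exact hι.continuous.continuousOn.image_connectedComponentIn_subset hp
  · set D := connectedComponentIn (ι '' F) (ι p) with hD
    have hDsub : D ⊆ ι '' F := connectedComponentIn_subset _ _
    have hDeq : ι '' (ι ⁻¹' D) = D := by
      rw [image_preimage_eq_inter_range]
      apply inter_eq_left.2
      exact hDsub.trans (image_subset_range _ _)
    have hpre : IsPreconnected (ι ⁻¹' D) := by
      rw [← hι.isInducing.isPreconnected_image, hDeq]
      exact isPreconnected_connectedComponentIn
    have hsub : ι ⁻¹' D ⊆ connectedComponentIn F p := by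
      apply hpre.subset_connectedComponentIn
      · show ι p ∈ D
        exact mem_connectedComponentIn (mem_image_of_mem _ hp)
      · intro a ha
        obtain ⟨a', ha', haa'⟩ := hDsub ha
        rw [← hι.injective haa']
        exact ha'
    rw [← hDeq]
    exact image_mono hsub

/-- relative connected components of a Noetherian subspace are relatively open -/
theorem exists_open_inter_eq_connectedComponentIn {X : Type u} [TopologicalSpace X] (G : Set X)
    [NoetherianSpace ↥G] (q : X) (hq : q ∈ G) :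
    ∃ O : Set X, IsOpen O ∧ O ∩ G = connectedComponentIn G q := by
  have h1 : IsOpen (connectedComponent (⟨q, hq⟩ : ↥G)) :=
    Groth.Agent.Helper1.FinCondTop.isOpen_connectedComponent_of_noetherian _
  obtain ⟨O, hO, hOeq⟩ := isOpen_induced_iff.1 h1
  refine ⟨O, hO, ?_⟩
  rw [connectedComponentIn_eq_image hq, ← hOeq]
  ext w
  constructor
  · rintro ⟨hwO, hwG⟩
    exact ⟨⟨w, hwG⟩, hwO, rfl⟩
  · rintro ⟨⟨w', hw'G⟩, hw'O, rfl⟩
    exact ⟨hw'O, hw'G⟩

theorem noetherianSpace_of_subset {X : Type u} [TopologicalSpace X] {U G : Set X}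
    [NoetherianSpace ↥U] (h : G ⊆ U) : NoetherianSpace ↥G := by
  rw [noetherianSpace_set_iff]
  intro t ht
  exact (noetherianSpace_set_iff U).1 inferInstance t (ht.trans h)

theorem noetherianSpace_union {X : Type u} [TopologicalSpace X] {U U' : Set X}
    [NoetherianSpace ↥U] [NoetherianSpace ↥U'] : NoetherianSpace ↥(U ∪ U') := by
  rw [noetherianSpace_set_iff]
  intro t ht
  have h1 : t = (t ∩ U) ∪ (t ∩ U') := by
    rw [← inter_union_distrib_left]
    exact (inter_eq_left.2 ht).symm
  rw [h1]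
  exact ((noetherianSpace_set_iff U).1 inferInstance _ inter_subset_right).union
    ((noetherianSpace_set_iff U').1 inferInstance _ inter_subset_right)

/-- in a locally Noetherian space, a relative connected component is exhausted by the relative
connected components inside Noetherian open subsets -/
theorem connectedComponentIn_subset_iUnion {X : Type u} [TopologicalSpace X] (F : Set X) (p : X)
    (hp : p ∈ F) (hloc : ∀ z : X, ∃ U : Set X, IsOpen U ∧ z ∈ U ∧ NoetherianSpace ↥U) :
    ∀ x ∈ connectedComponentIn F p, ∃ U : Set X, IsOpen U ∧ p ∈ U ∧ NoetherianSpace ↥U ∧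
      x ∈ connectedComponentIn (U ∩ F) p := by
  classical
  let D : Set X := {x | ∃ U : Set X, IsOpen U ∧ p ∈ U ∧ NoetherianSpace ↥U ∧
      x ∈ connectedComponentIn (U ∩ F) p}
  show connectedComponentIn F p ⊆ D
  have hDF : D ⊆ F := by
    rintro x ⟨U, -, -, -, hx⟩
    exact (connectedComponentIn_subset _ _ hx).2
  have hpD : p ∈ D := by
    obtain ⟨U, hU, hpU, hN⟩ := hloc p
    exact ⟨U, hU, hpU, hN, mem_connectedComponentIn ⟨hpU, hp⟩⟩
  -- `D` is relatively open
  have hopen : ∃ u : Set X, IsOpen u ∧ u ∩ F = D := by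
    have hch : ∀ x : ↥D, ∃ O : Set X, IsOpen O ∧ (x : X) ∈ O ∧ O ∩ F ⊆ D := by
      rintro ⟨x, U, hU, hpU, hN, hx⟩
      haveI := hN
      haveI : NoetherianSpace ↥(U ∩ F) := noetherianSpace_of_subset inter_subset_left
      obtain ⟨O, hO, hOeq⟩ := exists_open_inter_eq_connectedComponentIn (U ∩ F) p ⟨hpU, hp⟩
      refine ⟨O ∩ U, hO.inter hU, ?_, ?_⟩
      · have : x ∈ O ∩ (U ∩ F) := by rw [hOeq]; exact hx
        exact ⟨this.1, this.2.1⟩
      · rintro w ⟨⟨hwO, hwU⟩, hwF⟩
        refine ⟨U, hU, hpU, hN, ?_⟩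
        rw [← hOeq]
        exact ⟨hwO, hwU, hwF⟩
    choose O hO hxO hOD using hch
    refine ⟨⋃ x, O x, isOpen_iUnion hO, ?_⟩
    ext w
    constructor
    · rintro ⟨hw, hwF⟩
      obtain ⟨x, hx⟩ := mem_iUnion.1 hw
      exact hOD x ⟨hx, hwF⟩
    · intro hw
      exact ⟨mem_iUnion.2 ⟨⟨w, hw⟩, hxO ⟨w, hw⟩⟩, hDF hw⟩
  -- `F \ D` is relatively open
  have hclosed : ∃ v : Set X, IsOpen v ∧ v ∩ F = F \ D := by
    have hch : ∀ z : ↥(F \ D), ∃ O : Set X, IsOpen O ∧ (z : X) ∈ O ∧ O ∩ F ⊆ F \ D := by
      rintro ⟨z, hzF, hzD⟩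
      obtain ⟨U₀, hU₀, hzU₀, hN₀⟩ := hloc z
      haveI := hN₀
      haveI : NoetherianSpace ↥(U₀ ∩ F) := noetherianSpace_of_subset inter_subset_left
      obtain ⟨O, hO, hOeq⟩ := exists_open_inter_eq_connectedComponentIn (U₀ ∩ F) z ⟨hzU₀, hzF⟩
      refine ⟨O ∩ U₀, hO.inter hU₀, ?_, ?_⟩
      · have : z ∈ O ∩ (U₀ ∩ F) := by
          rw [hOeq]; exact mem_connectedComponentIn ⟨hzU₀, hzF⟩
        exact ⟨this.1, this.2.1⟩
      · rintro w ⟨⟨hwO, hwU₀⟩, hwF⟩
        refine ⟨hwF, ?_⟩
        rintro ⟨U, hU, hpU, hN, hw⟩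
        apply hzD
        haveI := hN
        refine ⟨U ∪ U₀, hU.union hU₀, Or.inl hpU, noetherianSpace_union, ?_⟩
        have hw' : w ∈ connectedComponentIn (U₀ ∩ F) z := by
          rw [← hOeq]; exact ⟨hwO, hwU₀, hwF⟩
        have hpre : IsPreconnected (connectedComponentIn (U ∩ F) p ∪
            connectedComponentIn (U₀ ∩ F) z) :=
          IsPreconnected.union w hw hw' isPreconnected_connectedComponentIn
            isPreconnected_connectedComponentIn
        have hsub : connectedComponentIn (U ∩ F) p ∪ connectedComponentIn (U₀ ∩ F) z ⊆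
            connectedComponentIn ((U ∪ U₀) ∩ F) p := by
          apply hpre.subset_connectedComponentIn
          · exact Or.inl (mem_connectedComponentIn ⟨hpU, hp⟩)
          · rintro a (ha | ha)
            · have := connectedComponentIn_subset _ _ ha
              exact ⟨Or.inl this.1, this.2⟩
            · have := connectedComponentIn_subset _ _ ha
              exact ⟨Or.inr this.1, this.2⟩
        exact hsub (Or.inr (mem_connectedComponentIn ⟨hzU₀, hzF⟩))
    choose O hO hzO hOD using hch
    refine ⟨⋃ z, O z, isOpen_iUnion hO, ?_⟩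
    ext w
    constructor
    · rintro ⟨hw, hwF⟩
      obtain ⟨z, hz⟩ := mem_iUnion.1 hw
      exact hOD z ⟨hz, hwF⟩
    · intro hw
      exact ⟨mem_iUnion.2 ⟨⟨w, hw⟩, hzO ⟨w, hw⟩⟩, hw.1⟩
  obtain ⟨u, hu, huD⟩ := hopen
  obtain ⟨v, hv, hvD⟩ := hclosed
  set S := connectedComponentIn F p with hS
  have hSF : S ⊆ F := connectedComponentIn_subset _ _
  have hSpre : IsPreconnected S := isPreconnected_connectedComponentIn
  have hcov : S ⊆ u ∪ v := by
    intro w hw
    by_cases hwD : w ∈ D
    · left
      have : w ∈ u ∩ F := by rw [huD]; exact hwD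
      exact this.1
    · right
      have : w ∈ v ∩ F := by rw [hvD]; exact ⟨hSF hw, hwD⟩
      exact this.1
  have hempty : S ∩ (u ∩ v) = ∅ := by
    rw [eq_empty_iff_forall_notMem]
    rintro w ⟨hw, hwu, hwv⟩
    have h1 : w ∈ D := by rw [← huD]; exact ⟨hwu, hSF hw⟩
    have h2 : w ∈ F \ D := by rw [← hvD]; exact ⟨hwv, hSF hw⟩
    exact h2.2 h1
  rcases (isPreconnected_iff_subset_of_disjoint.1 hSpre) u v hu hv hcov hempty with h | h
  · intro w hw
    rw [← huD]
    exact ⟨h hw, hSF hw⟩
  · exfalso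
    have hpS : p ∈ S := mem_connectedComponentIn hp
    have h2 : p ∈ F \ D := by rw [← hvD]; exact ⟨h hpS, hp⟩
    exact h2.2 hpD

end Groth.Agent.Helper5.SecNb
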