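import Mathlib
import Groth.Prelude
import Groth.Agent.Helper5.NeutA
import Groth.Agent.Helper5.SecNbF
import Groth.Agent.Helper3.FibQC

set_option autoImplicit false
set_option linter.style.haveILetI false
universe u

namespace Groth.Agent.Helper5.Neut

open AlgebraicGeometry CategoryTheory CategoryTheory.Limits MonoidalCategory
  CartesianMonoidalCategory MonObj GrpObj TopologicalSpace Topology
open Groth.Agent.Helper2 Groth.Agent.Helper3.ArtConn

variable {S : Scheme.{u}} (G : Over S) [GrpObj G]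

section fibre

variable (t : S)

/-- the inclusion of the point `t` -/
noncomputable abbrev it : Spec (CommRingCat.of (S.residueField t)) ⟶ S := S.fromSpecResidueField t

/-- the fibre of `G` at `t`, a group scheme over the residue field -/
noncomputable abbrev Gt : Over (Spec (CommRingCat.of (S.residueField t))) := Red.bc (it t) G

/-- the unique point of the base of the fibre -/
noncomputable abbrev pts : ↥(𝟙_ (Over (Spec (CommRingCat.of (S.residueField t))))).left :=
  (default : PrimeSpectrum (S.residueField t))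

theorem range_pr (X : Over S) : Set.range (pr (it t) X) = X.hom ⁻¹' {t} := by
  have h1 : Set.range (pr (it t) X) = X.hom ⁻¹' Set.range (it t) :=
    Scheme.Pullback.range_fst X.hom (it t)
  rw [h1]
  congr 1
  exact S.range_fromSpecResidueField t

theorem isEmbedding_pr (X : Over S) : IsEmbedding (pr (it t) X) := by
  haveI : IsPreimmersion (it t) := inferInstanceAs (IsPreimmersion (S.fromSpecResidueField t))
  haveI : IsPreimmersion (pr (it t) X) :=
    inferInstanceAs (IsPreimmersion (pullback.fst X.hom (it t)))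
  exact (pr (it t) X).isEmbedding

theorem pr_unit : pr (it t) G (η[Gt G t].left (pts t)) = e G t := by
  have h1 : pr (it t) G (η[Gt G t].left (pts t)) = η[G].left (it t (pts t)) := by
    rw [← Scheme.Hom.comp_apply, Groth.Agent.Helper3.FibQC.unit_bc_fst, Scheme.Hom.comp_apply]
  have h2 : it t (pts t) = t := Scheme.fromSpecResidueField_apply _ _
  rw [h1, h2]

theorem ccIn_eq : connectedComponentIn (G.hom ⁻¹' {t}) (e G t) =
    pr (it t) G '' connectedComponent (η[Gt G t].left (pts t)) := by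
  have h := Groth.Agent.Helper5.SecNb.image_connectedComponentIn_of_isEmbedding
    (isEmbedding_pr t G) Set.univ (η[Gt G t].left (pts t)) trivial
  rw [connectedComponentIn_univ, Set.image_univ, range_pr, pr_unit] at h
  exact h.symm

theorem mem_neutralSet_pr_iff (x' : (Gt G t).left) :
    pr (it t) G x' ∈ SGA3x.neutralSet G ↔ x' ∈ connectedComponent (η[Gt G t].left (pts t)) := by
  have hx' : G.hom (pr (it t) G x') = t := by
    have h0 : pr (it t) G x' ∈ Set.range (pr (it t) G) := ⟨x', rfl⟩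
    rw [range_pr] at h0
    exact h0
  rw [mem_neutralSet_iff G hx', ccIn_eq]
  exact (isEmbedding_pr t G).injective.mem_set_image

theorem range_ρ : Set.range (ρ (it t) G) = (G ⊗ G).hom ⁻¹' {t} := by
  haveI : IsIso (Functor.LaxMonoidal.μ (Over.pullback (it t)) G G) :=
    inferInstanceAs (IsIso (Functor.Monoidal.μIso (Over.pullback (it t)) G G).hom)
  haveI : IsIso (Functor.LaxMonoidal.μ (Over.pullback (it t)) G G).left :=
    (Over.forget _).map_isIso _
  rw [← range_pr t (G ⊗ G)]
  apply Set.Subset.antisymm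
  · rintro _ ⟨z, rfl⟩
    exact ⟨(Functor.LaxMonoidal.μ (Over.pullback (it t)) G G).left z, rfl⟩
  · rintro _ ⟨z, rfl⟩
    obtain ⟨z', rfl⟩ := (Functor.LaxMonoidal.μ (Over.pullback (it t)) G G).left.surjective z
    exact ⟨z', rfl⟩

end fibre

theorem unit_mem (t : S) : e G t ∈ SGA3x.neutralSet G := by
  rw [mem_neutralSet_iff G (hom_e G t)]
  exact mem_connectedComponentIn (hom_e G t)

theorem hom_fst (z : (G ⊗ G).left) : G.hom ((fst G G).left z) = (G ⊗ G).hom z := by
  rw [← Scheme.Hom.comp_apply, Over.w (fst G G)]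

theorem hom_snd (z : (G ⊗ G).left) : G.hom ((snd G G).left z) = (G ⊗ G).hom z := by
  rw [← Scheme.Hom.comp_apply, Over.w (snd G G)]

theorem hom_mul (z : (G ⊗ G).left) : G.hom (μ[G].left z) = (G ⊗ G).hom z := by
  rw [← Scheme.Hom.comp_apply, Over.w μ[G]]

/-- `G⁰ · G⁰ ⊆ G⁰` -/
theorem mul_mem (z : (G ⊗ G).left) (h1 : (fst G G).left z ∈ SGA3x.neutralSet G)
    (h2 : (snd G G).left z ∈ SGA3x.neutralSet G) : μ[G].left z ∈ SGA3x.neutralSet G := by
  obtain ⟨t, ht⟩ : ∃ t, (G ⊗ G).hom z = t := ⟨_, rfl⟩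
  obtain ⟨z', rfl⟩ : z ∈ Set.range (ρ (it t) G) := by rw [range_ρ]; exact ht
  rw [← Scheme.Hom.comp_apply, ρ_fst, Scheme.Hom.comp_apply, mem_neutralSet_pr_iff] at h1
  rw [← Scheme.Hom.comp_apply, ρ_snd, Scheme.Hom.comp_apply, mem_neutralSet_pr_iff] at h2
  have h3 := mul_field (Gt G t) (pts t) z' h1 h2
  rw [← Scheme.Hom.comp_apply, ← ρ_map, Scheme.Hom.comp_apply, mem_neutralSet_pr_iff]
  exact h3

/-- `(G⁰)⁻¹ ⊆ G⁰` -/
theorem inv_mem (x : G.left) (hx : x ∈ SGA3x.neutralSet G) :
    ι[G].left x ∈ SGA3x.neutralSet G := by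
  set t := G.hom x with ht
  have hιt : G.hom (ι[G].left x) = t := by
    rw [← Scheme.Hom.comp_apply, Over.w ι[G]]
  rw [mem_neutralSet_iff G hιt]
  rw [mem_neutralSet_iff G ht.symm] at hx
  have hmaps : Set.MapsTo ι[G].left (G.hom ⁻¹' {t}) (G.hom ⁻¹' {t}) := by
    intro y hy
    show G.hom (ι[G].left y) = t
    rw [← Scheme.Hom.comp_apply, Over.w ι[G]]
    exact hy
  have h1 := ι[G].left.continuous.continuousOn.image_connectedComponentIn_subset
    (s := G.hom ⁻¹' {t}) (a := e G t) (hom_e G t) ⟨x, hx, rfl⟩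
  have h2 : ι[G].left (e G t) = e G t := by
    show ι[G].left (η[G].left t) = η[G].left t
    rw [← Scheme.Hom.comp_apply, ← Over.comp_left, GrpObj.one_inv]
  rw [h2] at h1
  exact connectedComponentIn_mono _ hmaps.image_subset h1

/-- every point of `G⁰` is a product of two points of `U ∩ G⁰`, for `U` an open neighbourhood of
the unit of the fibre -/
theorem exists_mul (g : G.left) (hg : g ∈ SGA3x.neutralSet G) (U : G.left.Opens)
    (hU : e G (G.hom g) ∈ U) :
    ∃ z : (G ⊗ G).left, μ[G].left z = g ∧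
      (fst G G).left z ∈ (U : Set G.left) ∩ SGA3x.neutralSet G ∧
      (snd G G).left z ∈ (U : Set G.left) ∩ SGA3x.neutralSet G := by
  obtain ⟨t, ht⟩ : ∃ t, G.hom g = t := ⟨_, rfl⟩
  rw [ht] at hU
  obtain ⟨g', rfl⟩ : g ∈ Set.range (pr (it t) G) := by rw [range_pr]; exact ht
  rw [mem_neutralSet_pr_iff] at hg
  set C0 := irreducibleComponent (η[Gt G t].left (pts t)) with hC0def
  have hC0 : C0 ∈ irreducibleComponents (Gt G t).left :=
    irreducibleComponent_mem_irreducibleComponents _
  have he : η[Gt G t].left (pts t) ∈ C0 := mem_irreducibleComponent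
  have hcc := HS6.connectedComponent_eq (Gt G t) C0 hC0 (pts t) he
  let Us : (Gt G t).left.Opens := pr (it t) G ⁻¹ᵁ U
  have heU : η[Gt G t].left (pts t) ∈ Us := by
    show pr (it t) G (η[Gt G t].left (pts t)) ∈ U
    rw [pr_unit]; exact hU
  obtain ⟨z', hz1, hz2, hz3⟩ :=
    HS6.exists_mul_mem_C0 (Gt G t) C0 hC0 (pts t) he Us heU g' (hcc ▸ hg)
  refine ⟨ρ (it t) G z', ?_, ?_, ?_⟩
  · rw [← Scheme.Hom.comp_apply, ← ρ_map, Scheme.Hom.comp_apply]
    have h4 : (Functor.LaxMonoidal.μ (Over.pullback (it t)) G G ≫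
        (Over.pullback (it t)).map μ[G]).left z' = g' := hz1
    rw [h4]
  · rw [← Scheme.Hom.comp_apply, ρ_fst, Scheme.Hom.comp_apply]
    refine ⟨hz2.1, ?_⟩
    rw [mem_neutralSet_pr_iff, hcc]
    exact hz2.2
  · rw [← Scheme.Hom.comp_apply, ρ_snd, Scheme.Hom.comp_apply]
    refine ⟨hz3.1, ?_⟩
    rw [mem_neutralSet_pr_iff, hcc]
    exact hz3.2

end Groth.Agent.Helper5.Neut
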