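import Mathlib
import Groth.Prelude
import Groth.Agent.Helper5.NeutB

set_option autoImplicit false
set_option linter.style.haveILetI false
universe u

namespace Groth.Agent.Helper5.Neut

open AlgebraicGeometry CategoryTheory CategoryTheory.Limits MonoidalCategory
  CartesianMonoidalCategory MonObj GrpObj TopologicalSpace Topology

variable {S : Scheme.{u}} (G : Over S) [GrpObj G]

/-- locally on the base, `G⁰` is contained in a quasi-compact subset -/
theorem exists_isCompact_supset (s : S) :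
    ∃ W : S.Opens, s ∈ W ∧ ∃ K : Set G.left, IsCompact K ∧
      SGA3x.neutralSet G ∩ G.hom ⁻¹' (W : Set S) ⊆ K := by
  obtain ⟨V, hV, hsV, -⟩ := exists_isAffineOpen_mem_and_subset (x := s) (U := ⊤) trivial
  have hes : e G s ∈ G.hom ⁻¹ᵁ V := by
    show G.hom (e G s) ∈ V
    rw [hom_e]; exact hsV
  obtain ⟨U, hU, hesU, hUV⟩ :=
    exists_isAffineOpen_mem_and_subset (x := e G s) (U := G.hom ⁻¹ᵁ V) hes
  obtain ⟨f, hfO, hsf⟩ := hV.exists_basicOpen_le (V := e G ⁻¹ᵁ U) ⟨s, hesU⟩ hsV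
  let W := S.basicOpen f
  have hW : IsAffineOpen W := hV.basicOpen f
  let f' := G.hom.appLE V U hUV f
  let U' := G.left.basicOpen f'
  have hU' : IsAffineOpen U' := hU.basicOpen f'
  have hU'eq : U' = U ⊓ G.hom ⁻¹ᵁ W := Scheme.basicOpen_appLE G.hom U V hUV f
  have hU'W : U' ≤ G.hom ⁻¹ᵁ W := by rw [hU'eq]; exact inf_le_right
  let a : U'.toScheme ⟶ W.toScheme := G.hom.resLE W U' hU'W
  haveI : IsAffine U'.toScheme := hU'
  haveI : IsAffine W.toScheme := hW
  let j := pullback.map a a G.hom G.hom U'.ι U'.ι W.ι (by simp [a]) (by simp [a])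
  have hr : Set.range j =
      (fst G G).left ⁻¹' (U' : Set G.left) ∩ (snd G G).left ⁻¹' (U' : Set G.left) := by
    have := Scheme.Pullback.range_map a a G.hom G.hom U'.ι U'.ι W.ι (by simp [a]) (by simp [a])
    rw [Scheme.Opens.range_ι] at this
    exact this
  have hK : IsCompact (Set.range j) := isCompact_range j.continuous
  refine ⟨W, hsf, μ[G].left '' Set.range j, hK.image μ[G].left.continuous, ?_⟩
  rintro g ⟨hg0, hgW⟩
  have hgW' : G.hom g ∈ W := hgW
  have h1 : e G (G.hom g) ∈ U := hfO hgW'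
  obtain ⟨z, hz1, hz2, hz3⟩ := exists_mul G g hg0 U h1
  refine ⟨z, ?_, hz1⟩
  rw [hr]
  constructor
  · show (fst G G).left z ∈ U'
    rw [hU'eq]
    refine ⟨hz2.1, ?_⟩
    show G.hom ((fst G G).left z) ∈ W
    rw [hom_fst, ← hom_mul, hz1]; exact hgW'
  · show (snd G G).left z ∈ U'
    rw [hU'eq]
    refine ⟨hz3.1, ?_⟩
    show G.hom ((snd G G).left z) ∈ W
    rw [hom_snd, ← hom_mul, hz1]; exact hgW'

/-- a compact subset of a scheme is contained in a quasi-compact open -/
theorem exists_isCompact_open_supset {X : Scheme.{u}} (K : Set X) (hK : IsCompact K) :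
    ∃ U : X.Opens, IsCompact (U : Set X) ∧ K ⊆ U := by
  have hcov : ∀ x : X, ∃ W : X.Opens, IsAffineOpen W ∧ x ∈ W := fun x => by
    obtain ⟨W, hW, hxW, -⟩ := exists_isAffineOpen_mem_and_subset (x := x) (U := ⊤) trivial
    exact ⟨W, hW, hxW⟩
  choose W hW hxW using hcov
  obtain ⟨t, ht⟩ := hK.elim_finite_subcover (fun x => (W x : Set X)) (fun x => (W x).2)
    (fun x _ => Set.mem_iUnion.2 ⟨x, hxW x⟩)
  refine ⟨⨆ x ∈ t, W x, ?_, ?_⟩
  · have : ((⨆ x ∈ t, W x : X.Opens) : Set X) = ⋃ x ∈ t, (W x : Set X) := by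
      simp
    rw [this]
    exact t.finite_toSet.isCompact_biUnion fun x _ => (hW x).isCompact
  · intro x hx
    have := ht hx
    simpa using this

theorem s5323 (S : Scheme.{u}) [CompactSpace S] [QuasiSeparatedSpace S]
    (G : Over S) [GrpObj G] (hG : ∀ s : S, LocallyOfFiniteType (G.hom.fiberToSpecResidueField s)) :
    ∃ U : G.left.Opens, IsCompact (U : Set G.left) ∧ SGA3x.neutralSet G ⊆ U := by
  choose W hsW K hK hsub using exists_isCompact_supset G
  obtain ⟨t, ht⟩ := isCompact_univ.elim_finite_subcover (fun s => (W s : Set S))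
    (fun s => (W s).2) (fun s _ => Set.mem_iUnion.2 ⟨s, hsW s⟩)
  have hKc : IsCompact (⋃ s ∈ t, K s) := t.finite_toSet.isCompact_biUnion fun s _ => hK s
  obtain ⟨U, hU, hKU⟩ := exists_isCompact_open_supset _ hKc
  refine ⟨U, hU, fun g hg => hKU ?_⟩
  obtain ⟨s, hs, hgs⟩ := Set.mem_iUnion₂.1 (ht (Set.mem_univ (G.hom g)))
  exact Set.mem_biUnion hs (hsub s ⟨hg, hgs⟩)

end Groth.Agent.Helper5.Neut
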