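import Groth.Agent.Helper5.FpqcTop
import Groth.Agent.Helper4.AlgSpUC
import Groth.Agent.Helper4.AlgSpPts
import Mathlib

set_option autoImplicit false
universe u
open CategoryTheory CategoryTheory.Limits AlgebraicGeometry Opposite

namespace Groth.Agent.Helper5.FpqcUniv

open AlgSp Groth.Agent.Helper4.AlgSpPtsDesc Groth.Agent.Helper5.FpqcCore Groth.Agent.Helper5.FpqcTop

variable {S : Scheme.{u}}

/-- every point of an algebraic space lifts to an affine open of an atlas -/
theorem exists_affine_lift {W : Sp S} {U : Over S} (q : (yon S).obj U ⟶ W)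
    (hqs : RepWith @Surjective q) (w : Points W) :
    ∃ (V : U.left.affineOpens) (v : Points ((yon S).obj (affOver U V))),
      Points.map ((yon S).map (affι U V) ≫ q) v = w := by
  obtain ⟨r, hr⟩ := Groth.Agent.Helper4.AlgSpPts.isSurjectiveMor_of_repWith q hqs w
  obtain ⟨u, rfl⟩ := (Points.schemeHomeo U).surjective r
  obtain ⟨A, hA, huA, -⟩ :=
    (U.left.isBasis_affineOpens.exists_subset_of_mem_open (Set.mem_univ u) isOpen_univ)
  obtain ⟨W', hW, rfl⟩ := hA
  let V : U.left.affineOpens := ⟨W', hW⟩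
  obtain ⟨v, hv⟩ : ∃ v : ↥(affOver U V).left, (affι U V).left v = u := by
    have : u ∈ Set.range V.1.ι := by
      rw [Scheme.Opens.range_ι]; exact huA
    exact this
  refine ⟨V, Points.schemeHomeo _ v, ?_⟩
  rw [Points.map_comp, Points.map_yon_map_apply, hv, hr]

theorem univInjective_of_affine {X Y : Sp S} (f : X ⟶ Y)
    (h : ∀ (Z : Over S), IsAffine Z.left → ∀ (g : (yon S).obj Z ⟶ Y) (P : Sp S)
      (fst : P ⟶ X) (snd : P ⟶ (yon S).obj Z), IsPullback fst snd f g →
      Function.Injective (Points.map snd)) : IsUnivInjectiveMor f := by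
  intro W W' hW g a b sq'
  obtain ⟨U, q, hqe, hqs⟩ := hW.atlas
  intro x x' hxx
  obtain ⟨V, v, hv⟩ := exists_affine_lift q hqs (Points.map b x)
  have hpb : IsPullback (pullback.fst b ((yon S).map (affι U V) ≫ q))
      (pullback.snd b ((yon S).map (affι U V) ≫ q)) b ((yon S).map (affι U V) ≫ q) :=
    IsPullback.of_hasPullback _ _
  obtain ⟨z, hz1, hz2⟩ := exists_point_of_isPullback hpb x v hv.symm
  obtain ⟨z', hz1', hz2'⟩ := exists_point_of_isPullback hpb x' v (by rw [← hxx, hv])
  have hbig := hpb.paste_horiz sq'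
  have : z = z' := h (affOver U V) V.2 _ _ _ _ hbig (hz2.trans hz2'.symm)
  rw [← hz1, ← hz1', this]

theorem univSubmersive_of_affine {X Y : Sp S} (f : X ⟶ Y)
    (h : ∀ (Z : Over S), IsAffine Z.left → ∀ (g : (yon S).obj Z ⟶ Y) (P : Sp S)
      (fst : P ⟶ X) (snd : P ⟶ (yon S).obj Z), IsPullback fst snd f g →
      Topology.IsQuotientMap (Points.map snd)) : IsUnivSubmersiveMor f := by
  intro W W' hW g a b sq'
  obtain ⟨U, q, hqe, hqs⟩ := hW.atlas
  show Topology.IsQuotientMap (Points.map b)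
  rw [Topology.isQuotientMap_iff]
  refine ⟨.of_isOpen_preimage_iff_isOpen fun B => ⟨fun hB => ?_, fun hB =>
    hB.preimage (Points.continuous_map _)⟩, ?_⟩
  · apply isOpen_of_isOpen_preimage q hqe hqs
    apply isOpen_points_yon_of_affine
    intro V
    have hpb : IsPullback (pullback.fst b ((yon S).map (affι U V) ≫ q))
        (pullback.snd b ((yon S).map (affι U V) ≫ q)) b ((yon S).map (affι U V) ≫ q) :=
      IsPullback.of_hasPullback _ _
    have hbig := hpb.paste_horiz sq'
    have hq := h (affOver U V) V.2 _ _ _ _ hbig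
    rw [← hq.isOpen_preimage, ← Set.preimage_comp, ← Set.preimage_comp]
    have : Points.map q ∘ Points.map ((yon S).map (affι U V)) ∘
        Points.map (pullback.snd b ((yon S).map (affι U V) ≫ q)) =
        Points.map b ∘ Points.map (pullback.fst b ((yon S).map (affι U V) ≫ q)) := by
      funext z
      simp only [Function.comp_apply]
      rw [← Points.map_comp, ← Points.map_comp, ← Points.map_comp, ← hpb.w]
    rw [this, Set.preimage_comp]
    exact hB.preimage (Points.continuous_map _)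
  · intro w
    obtain ⟨V, v, hv⟩ := exists_affine_lift q hqs w
    have hpb : IsPullback (pullback.fst b ((yon S).map (affι U V) ≫ q))
        (pullback.snd b ((yon S).map (affι U V) ≫ q)) b ((yon S).map (affι U V) ≫ q) :=
      IsPullback.of_hasPullback _ _
    have hbig := hpb.paste_horiz sq'
    obtain ⟨z, hz⟩ := (h (affOver U V) V.2 _ _ _ _ hbig).surjective v
    refine ⟨Points.map (pullback.fst b ((yon S).map (affι U V) ≫ q)) z, ?_⟩
    rw [← Points.map_comp, hpb.w, Points.map_comp, hz, hv]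


theorem univHomeo_of_affine {X Y : Sp S} (f : X ⟶ Y)
    (h : ∀ (Z : Over S), IsAffine Z.left → ∀ (g : (yon S).obj Z ⟶ Y) (P : Sp S)
      (fst : P ⟶ X) (snd : P ⟶ (yon S).obj Z), IsPullback fst snd f g →
      IsHomeomorph (Points.map snd)) : IsUnivHomeoMor f := by
  intro W W' hW g a b sq'
  have h1 : IsUnivOpenMor f := univOpen_of_affine f fun Z hZ g P fst snd sq =>
    (h Z hZ g P fst snd sq).isOpenMap
  have h2 : IsUnivInjectiveMor f := univInjective_of_affine f fun Z hZ g P fst snd sq =>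
    (h Z hZ g P fst snd sq).injective
  have h3 : IsUnivSubmersiveMor f := univSubmersive_of_affine f fun Z hZ g P fst snd sq =>
    (h Z hZ g P fst snd sq).isQuotientMap
  exact ⟨Points.continuous_map _, h1 hW g a b sq', h2 hW g a b sq',
    (h3 hW g a b sq').surjective⟩

theorem of_univSp {Q : MorphismProperty (Sp S)} {F : Sp S} {W : Over S}
    (s : F ⟶ (yon S).obj W) (hs : UnivSp Q s) : Q s :=
  hs (IsAlgSpace.yon_obj W) (𝟙 _) (𝟙 _) s (IsPullback.id_horiz s)

/-- generic: fpqc-locality for `UnivSp Q` from an affine criterion and a descent lemma. -/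
theorem isLocalOnBase_univSp (Q : MorphismProperty (Sp S))
    (haff : ∀ {X Y : Sp S} (f : X ⟶ Y),
      (∀ (Z : Over S), IsAffine Z.left → ∀ (g : (yon S).obj Z ⟶ Y) (P : Sp S)
        (fst : P ⟶ X) (snd : P ⟶ (yon S).obj Z), IsPullback fst snd f g → Q snd) → UnivSp Q f)
    (hdesc : ∀ {V : Over S} {m : ℕ} {W : Fin m → Over S} {F : Sp S} (c : ∀ j, W j ⟶ V)
      (φ : F ⟶ (yon S).obj V) (Fj : Fin m → Sp S) (a : ∀ j, Fj j ⟶ F)
      (s : ∀ j, Fj j ⟶ (yon S).obj (W j))
      (_ : ∀ j, IsPullback (a j) (s j) φ ((yon S).map (c j)))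
      (_ : IsAffine V.left) (_ : ∀ j, IsAffine (W j).left)
      (_ : ∀ j, Flat (c j).left) (_ : ∀ z : ↥V.left, ∃ j, z ∈ Set.range (c j).left)
      (_ : ∀ j, Q (s j)), Q φ) :
    IsLocalOnBase (IsFpqcCover (S := S)) (UnivSp Q) := by
  apply isLocalOnBase_fpqc
  · intro X Y X' Y' f g f' g' _ _ _ _ sq hf
    exact Groth.Agent.Helper4.AlgSpUC.univSp_of_isPullback Q sq hf
  · intro X Y f _ _ H
    apply haff
    intro Z hZ g P fst snd sqZ
    obtain ⟨m, W, c, hWa, hcf, hcs, hj⟩ := H Z hZ g P fst snd sqZ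
    choose Fj a sj hFj sqj hQj using hj
    exact hdesc c snd Fj a sj sqj hZ hWa hcf hcs (fun j => of_univSp _ (hQj j))

theorem isLocalOnBase_isUnivClosedMor :
    IsLocalOnBase (IsFpqcCover (S := S)) IsUnivClosedMor :=
  isLocalOnBase_univSp IsClosedMor (fun f h => univClosed_of_affine f h)
    (fun c φ Fj a s sq hV hWa hcf hcs h => isClosedMap_of_forall c φ Fj a s sq hV hWa hcf hcs h)

theorem isLocalOnBase_isUnivOpenMor :
    IsLocalOnBase (IsFpqcCover (S := S)) IsUnivOpenMor :=
  isLocalOnBase_univSp IsOpenMor (fun f h => univOpen_of_affine f h)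
    (fun c φ Fj a s sq hV hWa hcf hcs h => isOpenMap_of_forall c φ Fj a s sq hV hWa hcf hcs h)

theorem isLocalOnBase_isUnivSubmersiveMor :
    IsLocalOnBase (IsFpqcCover (S := S)) IsUnivSubmersiveMor :=
  isLocalOnBase_univSp IsSubmersiveMor (fun f h => univSubmersive_of_affine f h)
    (fun c φ Fj a s sq hV hWa hcf hcs h => isQuotientMap_of_forall c φ Fj a s sq hV hWa hcf hcs h)

theorem isLocalOnBase_isUnivInjectiveMor :
    IsLocalOnBase (IsFpqcCover (S := S)) IsUnivInjectiveMor :=
  isLocalOnBase_univSp (fun _ _ f => Function.Injective (Points.map f))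
    (fun f h => univInjective_of_affine f h)
    (fun c φ Fj a s sq _ _ _ hcs h => injective_of_forall c φ Fj a s sq hcs h)

theorem isLocalOnBase_isUnivHomeoMor :
    IsLocalOnBase (IsFpqcCover (S := S)) IsUnivHomeoMor :=
  isLocalOnBase_univSp (fun _ _ f => IsHomeomorph (Points.map f))
    (fun f h => univHomeo_of_affine f h)
    (fun c φ Fj a s sq hV hWa hcf hcs h => isHomeomorph_of_forall c φ Fj a s sq hV hWa hcf hcs h)

end Groth.Agent.Helper5.FpqcUniv
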