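import Groth.Agent.Helper5.FpqcRef
import Groth.Agent.Helper5.FpqcUniv
import Groth.Agent.Helper4.AlgSpPtsDesc
import Groth.Agent.Helper4.AlgSpLocPBC
import Groth.Agent.Helper4.AlgSpPB
import Mathlib

set_option autoImplicit false
universe u
open CategoryTheory CategoryTheory.Limits AlgebraicGeometry Opposite

namespace Groth.Agent.Helper5.FppfFpqc

open AlgSp Groth.Agent.Helper4.SDClasses Groth.Agent.Helper5.FpqcRef
open Groth.Agent.Helper4.AlgSpPtsDesc

variable {S : Scheme.{u}}

set_option backward.isDefEq.respectTransparency.types false in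
/-- local lifting through a flat lfp morphism at a point -/
theorem exists_local_lift {X Y : Sp S} (hX : IsAlgSpace X) (hY : IsAlgSpace Y) (f : Y ⟶ X)
    (hf1 : LocP @Flat f) (hf2 : LocP @LocallyOfFinitePresentation f)
    (Z : Over S) (h : (yon S).obj Z ⟶ X) (z : ↥Z.left) (y : Points Y)
    (hy : Points.map f y = Points.map h (Points.schemeHomeo Z z)) :
    ∃ (V : Over S) (c : V ⟶ Z) (l : (yon S).obj V ⟶ Y),
      IsAffine V.left ∧ Flat c.left ∧ LocallyOfFinitePresentation c.left ∧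
      z ∈ Set.range c.left ∧ l ≫ f = (yon S).map c ≫ h := by
  have sq : IsPullback (pullback.fst f h) (pullback.snd f h) f h := IsPullback.of_hasPullback _ _
  have hF : IsAlgSpace (pullback f h) :=
    Groth.Agent.Helper4.AlgSpPB.isAlgSpace_of_isPullback hX.diag hY (IsAlgSpace.yon_obj Z)
      f h _ _ sq
  obtain ⟨w, hw1, hw2⟩ := exists_point_of_isPullback sq y _ hy
  obtain ⟨A, a, hae, has⟩ := hF.atlas
  obtain ⟨V, v, hv⟩ := Groth.Agent.Helper5.FpqcUniv.exists_affine_lift a has w
  obtain ⟨c, hc⟩ := (yon S).map_surjective (((yon S).map (affι A V) ≫ a) ≫ pullback.snd f h)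
  have hιe : RepWith @Etale ((yon S).map (affι A V) ≫ a) := by
    refine Groth.Agent.Helper4.AlgSpSrc.repWith_comp _ ((repWith_yon_map_iff _ _).2 ?_) hae
    show Etale V.1.ι
    infer_instance
  have hide : RepWith @Etale (𝟙 ((yon S).obj Z)) := repWith_id _ _
  have hcomm : ((yon S).map (affι A V) ≫ a) ≫ pullback.snd f h = (yon S).map c ≫ 𝟙 _ := by
    rw [hc, Category.comp_id]
  have hG1 : Good (@Flat : MorphismProperty Scheme.{u}) := good_flat
  have hG2 : Good (@LocallyOfFinitePresentation : MorphismProperty Scheme.{u}) := good_lfp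
  have hs1 : LocP @Flat (pullback.snd f h) := by
    have := hG1.bc
    have := hG1.comp
    exact Groth.Agent.Helper4.AlgSpLocPBC.locP_of_isPullback @Flat hG1.etale_le hG1.sd hY hX
      f h _ _ sq hf1
  have hs2 : LocP @LocallyOfFinitePresentation (pullback.snd f h) := by
    have := hG2.bc
    have := hG2.comp
    exact Groth.Agent.Helper4.AlgSpLocPBC.locP_of_isPullback @LocallyOfFinitePresentation
      hG2.etale_le hG2.sd hY hX f h _ _ sq hf2
  refine ⟨affOver A V, c, ((yon S).map (affι A V) ≫ a) ≫ pullback.fst f h, V.2,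
    hs1 _ _ c hιe hide hcomm, hs2 _ _ c hιe hide hcomm, ?_, ?_⟩
  · obtain ⟨v', rfl⟩ := (Points.schemeHomeo _).surjective v
    refine ⟨v', ?_⟩
    apply (Points.schemeHomeo Z).injective
    rw [← Points.map_yon_map_apply, hc, Points.map_comp, hv, hw2]
  · rw [Category.assoc, sq.w, ← Category.assoc, hc]

/-- local flat lfp lifts at all points of an affine give a standard fpqc refinement -/
theorem hasRef_of_local {ι : Type u} {X : Sp S} {Xi : ι → Sp S} {g : ∀ i, Xi i ⟶ X} {Z : Over S}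
    {h : (yon S).obj Z ⟶ X} (hZ : IsAffine Z.left)
    (H : ∀ z : ↥Z.left, ∃ (V : Over S) (c : V ⟶ Z) (i : ι) (l : (yon S).obj V ⟶ Xi i),
      IsAffine V.left ∧ Flat c.left ∧ LocallyOfFinitePresentation c.left ∧
      z ∈ Set.range c.left ∧ l ≫ g i = (yon S).map c ≫ h) :
    HasRef Xi g Z h := by
  choose V c i l hVa hcf hcp hz hl using H
  have hopen : ∀ z : ↥Z.left, IsOpen (Set.range (c z).left) := fun z => by
    have := hcf z
    have := hcp z
    exact (c z).left.isOpenMap.isOpen_range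
  have hcov : (Set.univ : Set Z.left) ⊆ ⋃ z : ↥Z.left, Set.range (c z).left :=
    fun z _ => Set.mem_iUnion.2 ⟨z, hz z⟩
  obtain ⟨t, ht⟩ := isCompact_univ.elim_finite_subcover _ hopen hcov
  refine hasRef_of_finite (κ := ↥t) (fun k => V k.1) (fun k => c k.1) (fun k => hVa _)
    (fun k => hcf _) (fun z => ?_) (fun k => ⟨i k.1, l k.1, hl k.1⟩)
  have hz' := ht (Set.mem_univ z)
  simp only [Set.mem_iUnion] at hz'
  obtain ⟨z', hz't, hzz'⟩ := hz'
  exact ⟨⟨z', hz't⟩, hzz'⟩

set_option backward.isDefEq.respectTransparency.types false in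
theorem isFpqcCover_of_isFppfCover {X : Sp S} (hX : IsAlgSpace X) {ι : Type u} (Xi : ι → Sp S)
    (hXi : ∀ i, IsAlgSpace (Xi i)) (g : ∀ i, Xi i ⟶ X) (h : IsFppfCover Xi g) :
    IsFpqcCover Xi g := by
  refine ⟨fun i => (h.1 i).1, fun Z hZ k => hasRef_of_local hZ fun z => ?_⟩
  obtain ⟨i, y, hy⟩ := h.2 (Points.map k (Points.schemeHomeo Z z))
  obtain ⟨V, c, l, hVa, hcf, hcp, hz, hl⟩ :=
    exists_local_lift hX (hXi i) (g i) (h.1 i).1 (h.1 i).2 Z k z y hy
  exact ⟨V, c, i, l, hVa, hcf, hcp, hz, hl⟩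

end Groth.Agent.Helper5.FppfFpqc
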