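import Mathlib
import Groth.Agent.Helper5.StalkDict

set_option autoImplicit false
universe u

namespace Groth.Agent.Helper5.CIntDim

open CategoryTheory CategoryTheory.Limits AlgebraicGeometry TopologicalSpace Topology
open Groth.Agent.Helper5.StalkDict

/-- the dimension of the local ring at a generization is the height of the corresponding prime -/
theorem ringKrullDim_stalk_fromSpecStalk {X : Scheme.{u}} (x : X)
    (p : ↥(Spec (X.presheaf.stalk x))) :
    ringKrullDim (X.presheaf.stalk (X.fromSpecStalk x p)) = p.asIdeal.height := by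
  rw [ringKrullDim_stalk_eq_coheight, idealHeight_eq_coheight]
  congr 1
  refine (Order.coheight_eq_of_strictMono (X.fromSpecStalk x) ?_ ?_ p).symm
  · intro a b hab
    rw [lt_iff_le_not_ge] at hab ⊢
    simp only [Scheme.le_iff_specializes] at hab ⊢
    rw [fromSpecStalk_specializes_iff, fromSpecStalk_specializes_iff]
    refine ⟨?_, ?_⟩
    · exact (PrimeSpectrum.le_iff_specializes (show PrimeSpectrum _ from b)
        (show PrimeSpectrum _ from a)).mpr hab.1
    · intro h
      exact hab.2 ((PrimeSpectrum.le_iff_specializes (show PrimeSpectrum _ from a)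
        (show PrimeSpectrum _ from b)).mp h)
  · intro a t hat
    have hta : t ⤳ X.fromSpecStalk x a := Scheme.le_iff_specializes.mp hat.le
    obtain ⟨q, rfl⟩ := exists_prime_of_specializes x t (hta.trans (fromSpecStalk_specializes x a))
    refine ⟨q, ?_, rfl⟩
    rw [lt_iff_le_not_ge] at hat ⊢
    simp only [Scheme.le_iff_specializes] at hat ⊢
    rw [fromSpecStalk_specializes_iff, fromSpecStalk_specializes_iff] at hat
    refine ⟨?_, ?_⟩
    · exact (PrimeSpectrum.le_iff_specializes (show PrimeSpectrum _ from q)
        (show PrimeSpectrum _ from a)).mp hat.1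
    · intro h
      exact hat.2 ((PrimeSpectrum.le_iff_specializes (show PrimeSpectrum _ from a)
        (show PrimeSpectrum _ from q)).mpr h)

/-- S2881 -/
theorem s2881 {X Y : Scheme.{u}} [IsLocallyNoetherian X] (i : Y ⟶ X) [IsClosedImmersion i] (y : ↥Y)
    (rs : List ↑(X.presheaf.stalk (i y)))
    (hreg : RingTheory.Sequence.IsRegular ↑(X.presheaf.stalk (i y)) rs)
    (hker : RingHom.ker (i.stalkMap y).hom = Ideal.ofList rs) (z : ↥Y) (hzy : z ⤳ y)
    (hmax : ∀ z' : ↥Y, z' ⤳ z → z' = z) : ringKrullDim (X.presheaf.stalk (i z)) = rs.length := by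
  have hsurj : Function.Surjective (i.stalkMap y).hom := i.stalkMap_surjective y
  obtain ⟨p', hp'⟩ := exists_prime_of_specializes y z hzy
  -- the prime of `O_{X, i y}` corresponding to `i z`
  let p : ↥(Spec (X.presheaf.stalk (i y))) := Spec.map (i.stalkMap y) p'
  have hp : X.fromSpecStalk (i y) p = i z := by
    rw [← hp', map_fromSpecStalk]
  rw [← hp, ringKrullDim_stalk_fromSpecStalk]
  have hQ : p.asIdeal = Ideal.comap (i.stalkMap y).hom p'.asIdeal := rfl
  have hIQ : Ideal.ofList rs ≤ p.asIdeal := by
    rw [← hker, hQ]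
    exact Ideal.comap_mono bot_le
  -- minimality
  have hmin : p.asIdeal ∈ (Ideal.ofList rs).minimalPrimes := by
    refine ⟨⟨p.isPrime, hIQ⟩, ?_⟩
    rintro Q' ⟨hQ'p, hIQ'⟩ hQ'Q
    have hkQ' : RingHom.ker (i.stalkMap y).hom ≤ Q' := hker ▸ hIQ'
    have hprime : (Ideal.map (i.stalkMap y).hom Q').IsPrime :=
      Ideal.map_isPrime_of_surjective hsurj hkQ'
    let q'' : ↥(Spec (Y.presheaf.stalk y)) := ⟨Ideal.map (i.stalkMap y).hom Q', hprime⟩
    have hcomap : Ideal.comap (i.stalkMap y).hom (Ideal.map (i.stalkMap y).hom Q') = Q' :=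
      Ideal.comap_map_of_surjective' _ hsurj _ |>.trans (sup_eq_left.mpr hkQ')
    have hle : q''.asIdeal ≤ p'.asIdeal := by
      change Ideal.map (i.stalkMap y).hom Q' ≤ p'.asIdeal
      rw [Ideal.map_le_iff_le_comap]
      exact hQ'Q
    have hsp : Y.fromSpecStalk y q'' ⤳ Y.fromSpecStalk y p' :=
      (fromSpecStalk_specializes_iff y q'' p').mpr hle
    rw [hp'] at hsp
    have heq : Y.fromSpecStalk y q'' = Y.fromSpecStalk y p' := (hmax _ hsp).trans hp'.symm
    have heq' : q'' = p' := (Y.fromSpecStalk y).isEmbedding.injective heq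
    rw [hQ, ← heq']
    exact hcomap.le
  -- upper bound: Krull's height theorem
  have hle : p.asIdeal.height ≤ rs.length := by
    classical
    have hfin : {r | r ∈ rs}.Finite := List.finite_toSet rs
    have h1 := Ideal.height_le_card_of_mem_minimalPrimes_span hfin hmin
    refine h1.trans ?_
    have : {r | r ∈ rs}.ncard ≤ rs.length := by
      have : {r | r ∈ rs} = (rs.toFinset : Set _) := by
        ext r
        simp
      rw [this, Set.ncard_coe_finset]
      exact List.toFinset_card_le rs
    exact_mod_cast this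
  -- lower bound: regular sequences localize
  have hge : ((rs.length : ℕ) : WithBot ℕ∞) ≤ (p.asIdeal.height : WithBot ℕ∞) := by
    have hmem : ∀ r ∈ rs, r ∈ p.asIdeal := fun r hr => hIQ (Ideal.subset_span hr)
    have hreg' := RingTheory.Sequence.IsWeaklyRegular.isRegular_of_isLocalization_of_mem
      (Localization.AtPrime p.asIdeal) p.asIdeal hreg.toIsWeaklyRegular hmem
    have hdim := ringKrullDim_add_length_eq_ringKrullDim_of_isRegular _ hreg'
    rw [List.length_map] at hdim
    have hh : ringKrullDim (Localization.AtPrime p.asIdeal) = p.asIdeal.height :=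
      IsLocalization.AtPrime.ringKrullDim_eq_height p.asIdeal _
    have hnt : Nontrivial (Localization.AtPrime p.asIdeal ⧸
        Ideal.ofList (rs.map (algebraMap _ (Localization.AtPrime p.asIdeal)))) := by
      rw [Ideal.Quotient.nontrivial_iff]
      intro htop
      apply hreg'.top_ne_smul
      rw [htop]
      simp
    have hnn := ringKrullDim_nonneg_of_nontrivial (R := Localization.AtPrime p.asIdeal ⧸
        Ideal.ofList (rs.map (algebraMap _ (Localization.AtPrime p.asIdeal))))
    rw [← hh, ← hdim]
    exact le_add_of_nonneg_left hnn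
  refine le_antisymm ?_ hge
  exact_mod_cast hle

end Groth.Agent.Helper5.CIntDim
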