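import Groth.Agent.Helper5.PairPt1
import Groth.Agent.Helper5.BCMin6

set_option autoImplicit false
universe u
open CategoryTheory CategoryTheory.Limits AlgebraicGeometry TopologicalSpace

namespace Groth.Agent.Helper5.PairPt

open Groth.Agent.Helper5.GenDim

/-- Step A: the double base change is the fibre square of `X'` over `X`. -/
theorem isPullback_pair {X S S' S'' X' X'' : Scheme.{u}}
    (f : X ⟶ S) (g : S' ⟶ S)
    (p q : S'' ⟶ S') (hS : IsPullback p q g g)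
    (f' : X' ⟶ S') (g' : X' ⟶ X) (hX : IsPullback g' f' f g)
    (f'' : X'' ⟶ S'') (p' q' : X'' ⟶ X') (hp : IsPullback p' f'' f' p)
    (hq : IsPullback q' f'' f' q) (hpq : p' ≫ g' = q' ≫ g') :
    IsPullback q' p' g' g' := by
  have hbig : IsPullback (f'' ≫ q) p' g (f' ≫ g) := hp.flip.paste_horiz hS.flip
  have e1 : f'' ≫ q = q' ≫ f' := hq.w.symm
  have e2 : f' ≫ g = g' ≫ f := hX.w.symm
  rw [e1, e2] at hbig
  exact IsPullback.of_right hbig hpq.symm hX.flip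

/-- points of a cartesian square over a pair of points with the same image -/
theorem exists_point_of_isPullback {P A B C : Scheme.{u}} (a : P ⟶ A) (b : P ⟶ B) (u : A ⟶ C)
    (v : B ⟶ C) (h : IsPullback a b u v) (x : A) (y : B) (hxy : u x = v y) :
    ∃ z : P, a z = x ∧ b z = y := by
  obtain ⟨w, hw1, hw2⟩ := Scheme.Pullback.exists_preimage_pullback (f := u) (g := v) x y hxy
  refine ⟨h.isoPullback.inv w, ?_, ?_⟩
  · have := congrArg (fun ψ : pullback u v ⟶ A => ψ w) h.isoPullback_inv_fst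
    exact this.trans hw1
  · have := congrArg (fun ψ : pullback u v ⟶ B => ψ w) h.isoPullback_inv_snd
    exact this.trans hw2

/-- Step B: a point over a given pair of points, maximal among such points. -/
theorem exists_maximal_over_pair {X'' X' : Scheme.{u}} (p' q' : X'' ⟶ X') (x₁ x₂ : X')
    (hne : ∃ z : X'', p' z = x₁ ∧ q' z = x₂) :
    ∃ x'' : X'', p' x'' = x₁ ∧ q' x'' = x₂ ∧
      ∀ z : X'', p' z = x₁ → q' z = x₂ → z ⤳ x'' → z = x'' := by
  let j₁ := X'.fromSpecResidueField x₁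
  let j₂ := X'.fromSpecResidueField x₂
  let π₁ : pullback p' j₁ ⟶ X'' := pullback.fst p' j₁
  let π₂ : pullback (π₁ ≫ q') j₂ ⟶ pullback p' j₁ := pullback.fst (π₁ ≫ q') j₂
  have hπ₁ : IsPreimmersion π₁ := by dsimp only [π₁]; infer_instance
  have hπ₂ : IsPreimmersion π₂ := by dsimp only [π₂]; infer_instance
  have hr₁ : Set.range π₁ = p' ⁻¹' {x₁} := by
    dsimp only [π₁, j₁]
    rw [Scheme.Pullback.range_fst, Scheme.range_fromSpecResidueField]
  have hr₂ : Set.range π₂ = (π₁ ≫ q') ⁻¹' {x₂} := by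
    dsimp only [π₂, j₂]
    rw [Scheme.Pullback.range_fst, Scheme.range_fromSpecResidueField]
  let θ : pullback (π₁ ≫ q') j₂ ⟶ X'' := π₂ ≫ π₁
  have hθ : Topology.IsEmbedding θ := θ.isEmbedding
  have hmem : ∀ w, p' (θ w) = x₁ ∧ q' (θ w) = x₂ := by
    intro w
    constructor
    · have : π₁ (π₂ w) ∈ Set.range π₁ := ⟨_, rfl⟩
      rw [hr₁] at this
      exact this
    · have : π₂ w ∈ Set.range π₂ := ⟨_, rfl⟩
      rw [hr₂] at this
      exact this
  have hsurj : ∀ z : X'', p' z = x₁ → q' z = x₂ → ∃ w, θ w = z := by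
    intro z hz1 hz2
    have h1 : z ∈ Set.range π₁ := by rw [hr₁]; exact hz1
    obtain ⟨w₁, rfl⟩ := h1
    have h2 : w₁ ∈ Set.range π₂ := by rw [hr₂]; exact hz2
    obtain ⟨w, rfl⟩ := h2
    exact ⟨w, rfl⟩
  obtain ⟨z₀, hz₀1, hz₀2⟩ := hne
  obtain ⟨w, hw⟩ := hsurj z₀ hz₀1 hz₀2
  obtain ⟨w₀, -, hw₀max⟩ := Groth.Agent.Helper5.BCMin.exists_max_generization w
  refine ⟨θ w₀, (hmem w₀).1, (hmem w₀).2, ?_⟩
  intro z hz1 hz2 hz3
  obtain ⟨w', rfl⟩ := hsurj z hz1 hz2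
  have : w' ⤳ w₀ := hθ.isInducing.specializes_iff.mp hz3
  rw [hw₀max w' this]

theorem s7287 {X S S' S'' X' X'' : Scheme.{u}}
    (f : X ⟶ S) [LocallyOfFiniteType f] (r : ℕ) (g : S' ⟶ S) [Surjective g]
    (p q : S'' ⟶ S') (hS : IsPullback p q g g)
    (f' : X' ⟶ S') (g' : X' ⟶ X) (hX : IsPullback g' f' f g)
    (f'' : X'' ⟶ S'') (p' q' : X'' ⟶ X') (hp : IsPullback p' f'' f' p) (hq : IsPullback q' f'' f' q)
    (hpq : p' ≫ g' = q' ≫ g')
    (x : ↥X) (hx : Dual3.resTrdeg f x = r)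
    (x₁ x₂ : ↥X') (h₁ : g'.base x₁ = x) (h₂ : g'.base x₂ = x)
    (hx₁ : Dual3.resTrdeg f' x₁ = r) (hx₂ : Dual3.resTrdeg f' x₂ = r) :
    ∃ x'' : ↥X'', Dual3.resTrdeg f'' x'' = r ∧ p'.base x'' = x₁ ∧ q'.base x'' = x₂ := by
  have hlft' : LocallyOfFiniteType f' := MorphismProperty.of_isPullback hX ‹_›
  have hpp := isPullback_pair f g p q hS f' g' hX f'' p' q' hp hq hpq
  obtain ⟨z₀, hz₀q, hz₀p⟩ := exists_point_of_isPullback q' p' g' g' hpp x₂ x₁ (h₂.trans h₁.symm)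
  obtain ⟨x'', hx''1, hx''2, hx''max⟩ := exists_maximal_over_pair p' q' x₁ x₂ ⟨z₀, hz₀p, hz₀q⟩
  refine ⟨x'', ?_, hx''1, hx''2⟩
  -- x₂ is maximal among the points of X' over (x, f' x₂)
  have hM2 := maximal_of_resTrdeg_eq f g g' f' hX x₂ (by rw [hx₂, h₂, hx])
  have hmax'' : ∀ w : X'', p' w = p' x'' → f'' w = f'' x'' → w ⤳ x'' → w = x'' := by
    intro w hw1 hw2 hw3
    refine hx''max w (hw1.trans hx''1) ?_ hw3
    refine hM2 (q' w) ?_ ?_ ?_
    · have e1 : g' (q' w) = g' (p' w) :=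
        (congrArg (fun ψ : X'' ⟶ X => ψ w) hpq).symm
      rw [e1, hw1, hx''1, h₁, h₂]
    · have e1 : f' (q' w) = q (f'' w) := congrArg (fun ψ : X'' ⟶ S' => ψ w) hq.w
      have e2 : f' (q' x'') = q (f'' x'') := congrArg (fun ψ : X'' ⟶ S' => ψ x'') hq.w
      rw [e1, hw2, ← e2, hx''2]
    · have := hw3.map q'.continuous
      rw [hx''2] at this
      exact this
  have := resTrdeg_eq_of_isPullback_of_maximal f' p p' f'' hp x'' hmax''
  rw [this, hx''1, hx₁]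

end Groth.Agent.Helper5.PairPt
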