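import Mathlib
import Groth.Prelude
import Groth.Agent.Helper5.NeutB
import Groth.Agent.Helper5.PairPt2
import Groth.Agent.Helper2.MaxOpenGrp

set_option autoImplicit false
set_option linter.style.haveILetI false
universe u

namespace Groth.Agent.Helper5.Neut

open AlgebraicGeometry CategoryTheory CategoryTheory.Limits MonoidalCategory
  CartesianMonoidalCategory MonObj GrpObj TopologicalSpace Topology

section shear

variable {S : Scheme.{u}} (G : Over S) [GrpObj G] {N : Over S} (j : N ⟶ G)

/-- `(g, n) ↦ g · j n` -/
noncomputable def mN : G ⊗ N ⟶ G := (G ◁ j) ≫ μ[G]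

theorem mN_eq : mN G j = fst G N * (snd G N ≫ j) := by
  rw [mN, Hom.mul_def]
  congr 1

/-- the shear map `(g, n) ↦ (g · j n, n)` -/
noncomputable def shearN : G ⊗ N ⟶ G ⊗ N := lift (mN G j) (snd G N)

noncomputable def shearNinv : G ⊗ N ⟶ G ⊗ N := lift (fst G N * (snd G N ≫ j)⁻¹) (snd G N)

theorem shearN_inv : shearN G j ≫ shearNinv G j = 𝟙 _ := by
  apply CartesianMonoidalCategory.hom_ext
  · simp only [shearN, shearNinv, Category.assoc, lift_fst, Category.id_comp]
    rw [MonObj.comp_mul, GrpObj.comp_inv, ← Category.assoc, lift_fst, lift_snd, mN_eq]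
    simp
  · simp [shearN, shearNinv]

theorem shearNinv_shearN : shearNinv G j ≫ shearN G j = 𝟙 _ := by
  apply CartesianMonoidalCategory.hom_ext
  · simp only [shearN, shearNinv, Category.assoc, lift_fst, Category.id_comp]
    rw [mN_eq, MonObj.comp_mul, ← Category.assoc, lift_fst, lift_snd]
    simp
  · simp [shearN, shearNinv]

instance : IsIso (shearN G j) := ⟨shearNinv G j, shearN_inv G j, shearNinv_shearN G j⟩

theorem shearN_fst : shearN G j ≫ fst G N = mN G j := lift_fst _ _

theorem smooth_mN [Smooth N.hom] : Smooth (mN G j).left := by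
  rw [← shearN_fst, Over.comp_left]
  haveI : IsIso (shearN G j).left := (Over.forget _).map_isIso (shearN G j)
  haveI : Smooth (fst G N).left := by
    rw [Over.fst_left]
    infer_instance
  infer_instance

end shear

end Groth.Agent.Helper5.Neut
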