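import Mathlib
import Groth.Prelude
import Groth.Agent.Helper5.SecCompF
import Groth.Agent.Helper5.ConsLc4

set_option autoImplicit false
set_option linter.style.haveILetI false
universe u

namespace Groth.Agent.Helper5.SecComp

open AlgebraicGeometry CategoryTheory CategoryTheory.Limits TopologicalSpace Topology
open Groth.Agent.Helper5.ConsLc

section Stage

variable {I : Type u} [SmallCategory I] [IsCofiltered I]
  (D : I ⥤ Scheme.{u}) (c : Limits.Cone D) (hc : Limits.IsLimit c)
  [∀ (i j : I) (f : i ⟶ j), IsAffineHom (D.map f)]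

include hc in
set_option maxHeartbeats 1600000 in
set_option backward.isDefEq.respectTransparency false in
/-- a morphism of finite presentation to the limit together with a section has a model over a
stage -/
theorem exists_stage_model_section [∀ i, CompactSpace (D.obj i)]
    [∀ i, QuasiSeparatedSpace (D.obj i)]
    {X : Scheme.{u}} (u : X ⟶ c.pt) (s : c.pt ⟶ X) (hs : s ≫ u = 𝟙 _)
    [LocallyOfFinitePresentation u] [QuasiCompact u] [QuasiSeparated u] (i₁ : I) :
    ∃ (j : I) (_ : j ⟶ i₁) (Xj : Scheme.{u}) (uj : Xj ⟶ D.obj j) (sj : D.obj j ⟶ Xj) (q : X ⟶ Xj),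
      LocallyOfFinitePresentation uj ∧ QuasiCompact uj ∧ IsPullback q u uj (c.π.app j) ∧
        sj ≫ uj = 𝟙 _ ∧ s ≫ q = c.π.app j ≫ sj := by
  obtain ⟨k, a₁, Xk, uk, q, h1, h2, h3, H⟩ := exists_stage_model D c hc u i₁
  let D' : Over k ⥤ Scheme.{u} := Over.forget k ⋙ D
  let t : D' ⟶ (Functor.const (Over k)).obj (D.obj k) :=
    { app := fun j => D.map j.hom
      naturality := fun j j' φ => by
        simp only [Functor.const_obj_obj, Functor.const_obj_map, Category.comp_id]
        show D.map φ.left ≫ D.map j'.hom = D.map j.hom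
        rw [← D.map_comp, Over.w] }
  let c' : Cone D' := c.whisker (Over.forget k)
  have hc' : IsLimit c' := (Functor.Initial.isLimitWhiskerEquiv (Over.forget k) c).symm hc
  haveI : ∀ {a b : Over k} (φ : a ⟶ b), IsAffineHom (D'.map φ) := fun φ =>
    inferInstanceAs (IsAffineHom (D.map φ.left))
  haveI : ∀ j : Over k, CompactSpace ↥(D'.obj j) := fun j =>
    inferInstanceAs (CompactSpace ↥(D.obj j.left))
  haveI : ∀ j : Over k, QuasiSeparatedSpace ↥(D'.obj j) := fun j =>
    inferInstanceAs (QuasiSeparatedSpace ↥(D.obj j.left))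
  let a : c.pt ⟶ Xk := s ≫ q
  have hauk : a ≫ uk = c.π.app k := by
    show (s ≫ q) ≫ uk = _
    rw [Category.assoc, H.w, ← Category.assoc, hs, Category.id_comp]
  have ha : c'.π ≫ t = (Functor.const _).map (a ≫ uk) := by
    ext j
    simp only [NatTrans.comp_app, Functor.const_obj_obj, Functor.const_map_app]
    show c.π.app j.left ≫ D.map j.hom = a ≫ uk
    rw [hauk, c.w]
  obtain ⟨j, g, hg1, hg2⟩ := Scheme.exists_π_app_comp_eq_of_locallyOfFinitePresentation
    D' t uk c' hc' a ha
  have hg1' : c.π.app j.left ≫ g = s ≫ q := hg1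
  have hg2' : g ≫ uk = D.map j.hom := hg2
  let uj : pullback uk (D.map j.hom) ⟶ D.obj j.left := pullback.snd uk (D.map j.hom)
  let sj : D.obj j.left ⟶ pullback uk (D.map j.hom) :=
    pullback.lift g (𝟙 _) (by rw [hg2', Category.id_comp])
  let qj : X ⟶ pullback uk (D.map j.hom) :=
    pullback.lift q (u ≫ c.π.app j.left) (by rw [H.w, Category.assoc, c.w])
  have hqj1 : qj ≫ pullback.fst uk (D.map j.hom) = q := pullback.lift_fst _ _ _
  have hqj2 : qj ≫ uj = u ≫ c.π.app j.left := pullback.lift_snd _ _ _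
  have Hj : IsPullback qj u uj (c.π.app j.left) := by
    refine IsPullback.of_right (h₁₂ := pullback.fst uk (D.map j.hom)) (h₂₂ := D.map j.hom)
      (v₁₃ := uk) ?_ hqj2 (IsPullback.of_hasPullback uk (D.map j.hom))
    rw [hqj1, c.w]
    exact H
  refine ⟨j.left, j.hom ≫ a₁, _, uj, sj, qj, MorphismProperty.pullback_snd _ _ h1,
    MorphismProperty.pullback_snd _ _ h2, Hj, pullback.lift_snd _ _ _, ?_⟩
  apply pullback.hom_ext
  · rw [Category.assoc, hqj1, Category.assoc, pullback.lift_fst, hg1']
  · have h5 : sj ≫ pullback.snd uk (D.map j.hom) = 𝟙 _ := pullback.lift_snd _ _ _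
    rw [Category.assoc, Category.assoc, h5, Category.comp_id]
    show s ≫ qj ≫ uj = _
    rw [hqj2, ← Category.assoc, hs, Category.id_comp]

end Stage

end Groth.Agent.Helper5.SecComp
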