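import Mathlib
import Groth.Prelude
import Groth.Agent.Helper5.SecCompG
import Groth.Agent.Helper5.ConsLc5

set_option autoImplicit false
set_option linter.style.haveILetI false
universe u

namespace Groth.Agent.Helper5.SecComp

open AlgebraicGeometry CategoryTheory CategoryTheory.Limits TopologicalSpace Topology
open Groth.Agent.Lead Groth.Agent.Helper5.ConsLc

set_option maxHeartbeats 1600000 in
set_option backward.isDefEq.respectTransparency false in
/-- the case of an affine base -/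
theorem isConstructible_affine {S : Scheme.{u}} [IsAffine S] {X : Scheme.{u}} (u : X ⟶ S)
    (s : S ⟶ X) (hs : s ≫ u = 𝟙 S)
    [LocallyOfFinitePresentation u] [QuasiCompact u] [QuasiSeparated u] :
    IsConstructible (MoreMor.sectionComponents u s) := by
  have hfg : (⊥ : Subalgebra ℤ Γ(S, ⊤)).FG := Subalgebra.fg_bot
  haveI := SubalgSys.isCofiltered hfg
  have hc : IsLimit (SubalgSys.cone Γ(S, ⊤) ⊥) := SubalgSys.coneIsLimit hfg
  haveI : ∀ (i j : (SubalgSys.Idx Γ(S, ⊤) ⊥)ᵒᵖ) (f : i ⟶ j),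
      IsAffineHom ((SubalgSys.D Γ(S, ⊤) ⊥).map f) := fun _ _ f => inferInstance
  haveI : ∀ i, CompactSpace ((SubalgSys.D Γ(S, ⊤) ⊥).obj i) := fun i => inferInstance
  haveI : ∀ i, QuasiSeparatedSpace ((SubalgSys.D Γ(S, ⊤) ⊥).obj i) := fun i => inferInstance
  let e : S ≅ (SubalgSys.cone Γ(S, ⊤) ⊥).pt := S.isoSpec
  have hs' : (e.inv ≫ s) ≫ (u ≫ e.hom) = 𝟙 _ := by
    rw [Category.assoc, ← Category.assoc s, hs, Category.id_comp, e.inv_hom_id]
  obtain ⟨j, -, Xj, uj, sj, q, h1, h2, H, hsj, hcompat⟩ :=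
    exists_stage_model_section (SubalgSys.D Γ(S, ⊤) ⊥) (SubalgSys.cone Γ(S, ⊤) ⊥) hc
      (u ≫ e.hom) (e.inv ≫ s) hs' (Opposite.op (SubalgSys.base _ ⊥ hfg))
  have H' : IsPullback q u uj (e.hom ≫ (SubalgSys.cone Γ(S, ⊤) ⊥).π.app j) :=
    isPullback_of_comp_iso e H
  have hcompat' : s ≫ q = (e.hom ≫ (SubalgSys.cone Γ(S, ⊤) ⊥).π.app j) ≫ sj := by
    rw [Category.assoc, ← hcompat, ← Category.assoc, ← Category.assoc, e.hom_inv_id,
      Category.id_comp]
  have hSC := s1324 uj sj hsj u q _ H' s hs hcompat'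
  haveI : IsNoetherian ((SubalgSys.D Γ(S, ⊤) ⊥).obj j) := isNoetherian_stage j
  haveI := h1
  haveI := h2
  haveI : IsLocallyNoetherian Xj := LocallyOfFiniteType.isLocallyNoetherian uj
  haveI : CompactSpace Xj := QuasiCompact.compactSpace_of_compactSpace uj
  haveI : IsNoetherian Xj := {}
  haveI : NoetherianSpace Xj := inferInstance
  have hD := isConstructible_of_noetherianSpace uj sj hsj
  rw [hSC]
  exact q.isConstructible_preimage hD

set_option maxHeartbeats 1600000 in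
theorem s1326 {X Y : Scheme.{u}} (f : X ⟶ Y) (s : Y ⟶ X) (hs : s ≫ f = 𝟙 Y)
    [LocallyOfFinitePresentation f] [QuasiCompact f] [QuasiSeparated f] :
    IsLocallyConstructible (MoreMor.sectionComponents f s) := by
  intro x
  obtain ⟨_, ⟨V₀, hV, rfl⟩, hxV, -⟩ :=
    Y.isBasis_affineOpens.exists_subset_of_mem_open (Set.mem_univ (f x)) isOpen_univ
  let V : Y.Opens := V₀
  let U : X.Opens := f ⁻¹ᵁ V
  have hxU : x ∈ U := hxV
  have sq : IsPullback U.ι (f ∣_ V) f V.ι := (isPullback_morphismRestrict f V).flip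
  let sV : (V : Scheme.{u}) ⟶ (U : Scheme.{u}) :=
    sq.lift (V.ι ≫ s) (𝟙 _) (by rw [Category.assoc, hs, Category.comp_id, Category.id_comp])
  have hsV1 : sV ≫ U.ι = V.ι ≫ s := sq.lift_fst _ _ _
  have hsV2 : sV ≫ (f ∣_ V) = 𝟙 _ := sq.lift_snd _ _ _
  have hSC : MoreMor.sectionComponents (f ∣_ V) sV = U.ι ⁻¹' MoreMor.sectionComponents f s :=
    s1324 f s hs (f ∣_ V) U.ι V.ι sq sV hsV2 hsV1
  haveI : IsAffine (V : Scheme.{u}) := hV
  have hcons : IsConstructible (MoreMor.sectionComponents (f ∣_ V) sV) :=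
    isConstructible_affine (f ∣_ V) sV hsV2
  refine ⟨U, U.2.mem_nhds hxU, U.2, ?_⟩
  have : IsConstructible ((U.ι : U.toScheme → X) ⁻¹' MoreMor.sectionComponents f s) := by
    rw [← hSC]; exact hcons
  exact this

end Groth.Agent.Helper5.SecComp
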