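import Mathlib
import Groth.Prelude
import Groth.Agent.Helper5.SecNbD

set_option autoImplicit false
set_option linter.style.haveILetI false
universe u

namespace Groth.Agent.Helper5.SecNb

open AlgebraicGeometry CategoryTheory CategoryTheory.Limits TopologicalSpace Topology

theorem isReduced_stalk_of_isOpenImmersion {A B : Scheme.{u}} (e : A ⟶ B) [IsOpenImmersion e]
    (a : A) (h : _root_.IsReduced (B.presheaf.stalk (e a))) :
    _root_.IsReduced (A.presheaf.stalk a) := by
  haveI : IsIso (e.stalkMap a) := inferInstance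
  let φ := (asIso (e.stalkMap a)).commRingCatIsoToRingEquiv
  exact isReduced_of_injective φ.symm.toRingHom φ.symm.injective

/-- reducedness of the fibre at a point passes to an open subscheme of the source -/
theorem isReduced_fiber_stalk_of_isOpenImmersion {W' W T : Scheme.{u}} (μ : W' ⟶ W)
    [IsOpenImmersion μ] (p : W ⟶ T) (z' : W')
    (h : _root_.IsReduced ((p.fiber (p (μ z'))).presheaf.stalk (p.asFiber (μ z')))) :
    _root_.IsReduced (((μ ≫ p).fiber ((μ ≫ p) z')).presheaf.stalk ((μ ≫ p).asFiber z')) := by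
  let s : T := (μ ≫ p) z'
  let ν : (μ ≫ p).fiber s ⟶ p.fiber s :=
    pullback.map (μ ≫ p) (T.fromSpecResidueField s) p (T.fromSpecResidueField s) μ (𝟙 _) (𝟙 T)
      (by simp) (by simp)
  have hν : ν ≫ p.fiberι s = (μ ≫ p).fiberι s ≫ μ := pullback.lift_fst _ _ _
  have hpt : ν ((μ ≫ p).asFiber z') = p.asFiber (μ z') := by
    apply (p.fiberι s).isEmbedding.injective
    show (ν ≫ p.fiberι s) ((μ ≫ p).asFiber z') = (p.fiberι (p (μ z'))) (p.asFiber (μ z'))
    rw [hν, Scheme.Hom.comp_apply, Scheme.Hom.fiberι_asFiber, Scheme.Hom.fiberι_asFiber]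
  haveI : IsOpenImmersion ν :=
    Scheme.pullback_map_isOpenImmersion (μ ≫ p) (T.fromSpecResidueField s) p
      (T.fromSpecResidueField s) μ (𝟙 _) (𝟙 T) (by simp) (by simp)
  apply isReduced_stalk_of_isOpenImmersion ν
  rw [hpt]
  exact h

variable {X X' Y Y' : Scheme.{u}} (f : X ⟶ Y) (f' : X' ⟶ Y') (i : X' ⟶ X) (j : Y' ⟶ Y)
  [IsOpenImmersion i] [IsOpenImmersion j] (sq : f' ≫ j = i ≫ f)

include sq in
theorem isUnivOpenAt_of_square (x' : X') (h : EGA43.IsUnivOpenAt f (i x')) :
    EGA43.IsUnivOpenAt f' x' := by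
  intro T t z' hz'
  let μ : pullback f' t ⟶ pullback f (t ≫ j) :=
    pullback.map f' t f (t ≫ j) i (𝟙 T) j sq (by simp)
  have hμ1 : μ ≫ pullback.fst f (t ≫ j) = pullback.fst f' t ≫ i := pullback.lift_fst _ _ _
  have hμ2 : μ ≫ pullback.snd f (t ≫ j) = pullback.snd f' t :=
    (pullback.lift_snd _ _ _).trans (Category.comp_id _)
  have hsnd : ∀ w, (pullback.snd f (t ≫ j)) (μ w) = (pullback.snd f' t) w := fun w => by
    rw [← Scheme.Hom.comp_apply, hμ2]
  have h1 : (pullback.fst f (t ≫ j)) (μ z') = i x' := by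
    rw [← Scheme.Hom.comp_apply, hμ1, Scheme.Hom.comp_apply, hz']
  have hopen := h T (t ≫ j) (μ z') h1
  intro N hN
  have h2 : μ '' N ∈ nhds (μ z') := μ.isOpenEmbedding.isOpenMap.image_mem_nhds hN
  have h3 := hopen _ h2
  rw [hsnd] at h3
  have h4 : (pullback.snd f (t ≫ j)) '' (μ '' N) = (pullback.snd f' t) '' N := by
    rw [Set.image_image]
    exact Set.image_congr (fun w _ => hsnd w)
  rw [h4] at h3
  exact h3

include sq in
theorem uRed_of_square (x' : X') (h : URed f (i x')) : URed f' x' := by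
  intro T t z' hz'
  let μ : pullback f' t ⟶ pullback f (t ≫ j) :=
    pullback.map f' t f (t ≫ j) i (𝟙 T) j sq (by simp)
  have hμ1 : μ ≫ pullback.fst f (t ≫ j) = pullback.fst f' t ≫ i := pullback.lift_fst _ _ _
  have hμ2 : μ ≫ pullback.snd f (t ≫ j) = pullback.snd f' t :=
    (pullback.lift_snd _ _ _).trans (Category.comp_id _)
  have h1 : (pullback.fst f (t ≫ j)) (μ z') = i x' := by
    rw [← Scheme.Hom.comp_apply, hμ1, Scheme.Hom.comp_apply, hz']
  have hred := h T (t ≫ j) (μ z') h1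
  have key := isReduced_fiber_stalk_of_isOpenImmersion μ (pullback.snd f (t ≫ j)) z' hred
  let P : (pullback f' t ⟶ T) → Prop := fun q =>
    _root_.IsReduced ((q.fiber (q z')).presheaf.stalk (q.asFiber z'))
  have h2 : P (μ ≫ pullback.snd f (t ≫ j)) := key
  have h3 : P (pullback.snd f' t) := hμ2 ▸ h2
  exact h3

end Groth.Agent.Helper5.SecNb
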