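import Mathlib
import Groth.Prelude
import Groth.Agent.Helper5.SecNbE
import Groth.Agent.Helper5.SecNbF
import Groth.Agent.Helper5.SecNbG

set_option autoImplicit false
set_option linter.style.haveILetI false
universe u

namespace Groth.Agent.Helper5.SecNb

open AlgebraicGeometry CategoryTheory CategoryTheory.Limits TopologicalSpace Topology

theorem nhd_of_locallyNoetherian {X Y : Scheme.{u}} [IsLocallyNoetherian Y] (f : X ⟶ Y)
    [LocallyOfFiniteType f] (g : Y ⟶ X) (hg : g ≫ f = 𝟙 Y) (y : Y)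
    (hy : ∀ x ∈ connectedComponentIn (f ⁻¹' {y}) (g y), EGA43.IsUnivOpenAt f x ∧ URed f x) :
    connectedComponentIn (f ⁻¹' {y}) (g y) ⊆ interior (MoreMor.sectionComponents f g) := by
  intro x hx
  haveI : IsLocallyNoetherian X := LocallyOfFiniteType.isLocallyNoetherian f
  have hfg : ∀ v : Y, f (g v) = v := fun v => by
    rw [← Scheme.Hom.comp_apply, hg]; rfl
  have hloc : ∀ z : X, ∃ U : Set X, IsOpen U ∧ z ∈ U ∧ NoetherianSpace ↥U := by
    intro z
    obtain ⟨_, ⟨W, hW, rfl⟩, hzW, -⟩ :=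
      (X.isBasis_affineOpens).exists_subset_of_mem_open (Set.mem_univ z) isOpen_univ
    haveI : IsNoetherianRing Γ(X, W) := IsLocallyNoetherian.component_noetherian ⟨W, hW⟩
    exact ⟨W, W.2, hzW, noetherianSpace_of_isAffineOpen W hW⟩
  obtain ⟨U₀, hU₀, hpU₀, hN, hxU⟩ :=
    connectedComponentIn_subset_iUnion (f ⁻¹' {y}) (g y) (hfg y) hloc x hx
  haveI := hN
  let Uo : X.Opens := ⟨U₀, hU₀⟩
  let V : Y.Opens := g ⁻¹ᵁ Uo
  let U' : X.Opens := Uo ⊓ f ⁻¹ᵁ V
  have hyV : y ∈ V := hpU₀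
  have e : U' ≤ f ⁻¹ᵁ V := inf_le_right
  have e' : V ≤ g ⁻¹ᵁ U' := by
    intro v hv
    refine ⟨hv, ?_⟩
    show f (g v) ∈ V
    rw [hfg]; exact hv
  let f' : (U' : Scheme.{u}) ⟶ (V : Scheme.{u}) := f.resLE V U' e
  let g' : (V : Scheme.{u}) ⟶ (U' : Scheme.{u}) := g.resLE U' V e'
  have hf' : f' ≫ V.ι = U'.ι ≫ f := Scheme.Hom.resLE_comp_ι f e
  have hg' : g' ≫ U'.ι = V.ι ≫ g := Scheme.Hom.resLE_comp_ι g e'
  have hgf' : g' ≫ f' = 𝟙 _ := by
    rw [← cancel_mono V.ι, Category.assoc, hf', ← Category.assoc, hg', Category.assoc, hg,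
      Category.comp_id, Category.id_comp]
  haveI : LocallyOfFiniteType f' := IsZariskiLocalAtSource.resLE e inferInstance
  have hNU' : NoetherianSpace ↥(U' : Set X) :=
    noetherianSpace_of_subset (U := U₀) (G := (U' : Set X)) Set.inter_subset_left
  haveI : NoetherianSpace ↥(U' : Scheme.{u}) := hNU'
  haveI : QuasiCompact f' := ⟨fun W _ _ => NoetherianSpace.isCompact _⟩
  have hfι : ∀ w : ↥U', f (U'.ι w) = V.ι (f' w) := fun w => by
    rw [← Scheme.Hom.comp_apply, ← Scheme.Hom.comp_apply, hf']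
  have hgι : ∀ v : ↥V, U'.ι (g' v) = g (V.ι v) := fun v => by
    rw [← Scheme.Hom.comp_apply, ← Scheme.Hom.comp_apply, hg']
  let y' : ↥V := ⟨y, hyV⟩
  have hy'ι : V.ι y' = y := Scheme.Opens.ι_apply V y'
  -- the image of the fibre of `f'`
  have himg : ∀ v : ↥V, U'.ι '' (f' ⁻¹' {v}) ⊆ f ⁻¹' {V.ι v} := by
    rintro v _ ⟨w, hw, rfl⟩
    show f (U'.ι w) = V.ι v
    rw [hfι, hw]
  have himg' : U'.ι '' (f' ⁻¹' {y'}) = U₀ ∩ f ⁻¹' {y} := by
    apply Set.Subset.antisymm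
    · rintro _ ⟨w, hw, rfl⟩
      refine ⟨w.2.1, ?_⟩
      show f (U'.ι w) = y
      rw [hfι, hw, hy'ι]
    · rintro w ⟨hwU, hwy⟩
      have hwy' : f w = y := hwy
      have hwU' : w ∈ U' := ⟨hwU, by show f w ∈ V; rw [hwy']; exact hyV⟩
      refine ⟨⟨w, hwU'⟩, ?_, rfl⟩
      show f' ⟨w, hwU'⟩ = y'
      apply V.ι.isEmbedding.injective
      rw [← hfι]
      exact hwy'
  have hgy : U'.ι (g' y') = g y := hgι y'
  have hmem : g' y' ∈ f' ⁻¹' {y'} := by
    show f' (g' y') = y'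
    rw [← Scheme.Hom.comp_apply, hgf']; rfl
  have hcomp : U'.ι '' connectedComponentIn (f' ⁻¹' {y'}) (g' y') =
      connectedComponentIn (U₀ ∩ f ⁻¹' {y}) (g y) := by
    rw [image_connectedComponentIn_of_isEmbedding U'.ι.isEmbedding _ _ hmem, himg', hgy]
  have hxmem : x ∈ U'.ι '' connectedComponentIn (f' ⁻¹' {y'}) (g' y') := by
    rw [hcomp]; exact hxU
  obtain ⟨x'', hx'', rfl⟩ := hxmem
  have key := nhd_noeth f' g' hgf' y' (by
    intro w hw
    have h1 : U'.ι w ∈ connectedComponentIn (f ⁻¹' {y}) (g y) := by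
      apply connectedComponentIn_mono (g y) (Set.inter_subset_right : U₀ ∩ f ⁻¹' {y} ⊆ _)
      rw [← hcomp]
      exact ⟨w, hw, rfl⟩
    obtain ⟨h2, h3⟩ := hy _ h1
    exact ⟨isUnivOpenAt_of_square f f' U'.ι V.ι hf' w h2, uRed_of_square f f' U'.ι V.ι hf' w h3⟩)
    hx''
  rw [mem_interior]
  refine ⟨U'.ι '' interior (MoreMor.sectionComponents f' g'), ?_,
    U'.ι.isOpenEmbedding.isOpenMap _ isOpen_interior, ⟨x'', key, rfl⟩⟩
  rintro _ ⟨w, hw, rfl⟩
  have hw' : w ∈ MoreMor.sectionComponents f' g' := interior_subset hw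
  have h1 : U'.ι w ∈ U'.ι '' connectedComponentIn (f' ⁻¹' {f' w}) (g' (f' w)) := ⟨w, hw', rfl⟩
  have h2 := U'.ι.continuous.continuousOn.image_connectedComponentIn_subset
    (s := f' ⁻¹' {f' w}) (a := g' (f' w)) (by
      show f' (g' (f' w)) = f' w
      rw [← Scheme.Hom.comp_apply g' f', hgf']; rfl) h1
  rw [hgι] at h2
  have h3 := connectedComponentIn_mono (g (V.ι (f' w))) (himg (f' w)) h2
  rw [← hfι] at h3
  exact h3

end Groth.Agent.Helper5.SecNb
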