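import Mathlib
import Groth.Prelude
import Groth.Agent.Helper5.SecNbH

set_option autoImplicit false
set_option linter.style.haveILetI false
universe u

namespace Groth.Agent.Helper5.SecNb

open AlgebraicGeometry CategoryTheory CategoryTheory.Limits TopologicalSpace Topology

theorem isUnivOpenAt_of_universallyOpen {X Y : Scheme.{u}} (f : X ⟶ Y) [UniversallyOpen f]
    (x : X) : EGA43.IsUnivOpenAt f x := by
  intro T h z _ N hN
  exact (pullback.snd f h).isOpenMap.image_mem_nhds hN

theorem s3420 {X Y : Scheme.{u}} [IsLocallyNoetherian Y] (f : X ⟶ Y)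
    [LocallyOfFiniteType f] (g : Y ⟶ X) (hg : g ≫ f = 𝟙 Y) :
    (∀ y : Y, (∀ x ∈ connectedComponentIn (f ⁻¹' {y}) (g y), EGA43.IsUnivOpenAt f x ∧
        FBase.IsGeomReducedAt (f.fiberToSpecResidueField (f x)) (f.asFiber x)) →
      connectedComponentIn (f ⁻¹' {y}) (g y) ⊆ interior (MoreMor.sectionComponents f g)) ∧
    (UniversallyOpen f → (∀ x ∈ MoreMor.sectionComponents f g,
        FBase.IsGeomReducedAt (f.fiberToSpecResidueField (f x)) (f.asFiber x)) →
      IsOpen (MoreMor.sectionComponents f g)) := by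
  have part1 : ∀ y : Y, (∀ x ∈ connectedComponentIn (f ⁻¹' {y}) (g y), EGA43.IsUnivOpenAt f x ∧
        FBase.IsGeomReducedAt (f.fiberToSpecResidueField (f x)) (f.asFiber x)) →
      connectedComponentIn (f ⁻¹' {y}) (g y) ⊆ interior (MoreMor.sectionComponents f g) := by
    intro y h
    exact nhd_of_locallyNoetherian f g hg y
      (fun x hx => ⟨(h x hx).1, URed.of_geomReducedAt f x (h x hx).2⟩)
  refine ⟨part1, ?_⟩
  intro hf hred
  rw [← interior_eq_iff_isOpen]
  apply Set.Subset.antisymm interior_subset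
  intro x hx
  have hx' : x ∈ connectedComponentIn (f ⁻¹' {f x}) (g (f x)) := hx
  apply part1 (f x) ?_ hx'
  intro x₁ hx₁
  have h1 : f x₁ = f x := by
    have h0 : x₁ ∈ f ⁻¹' {f x} := connectedComponentIn_subset _ _ hx₁
    exact h0
  exact ⟨isUnivOpenAt_of_universallyOpen f x₁,
    hred x₁ ((mem_sectionComponents_iff f g h1).2 hx₁)⟩

end Groth.Agent.Helper5.SecNb
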