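import Mathlib
import Groth.Prelude
import Groth.Agent.Helper5.SecCompG
import Groth.Agent.S2075

set_option autoImplicit false
set_option linter.style.haveILetI false
universe u

namespace Groth.Agent.Helper5.SecNb

open AlgebraicGeometry CategoryTheory CategoryTheory.Limits TopologicalSpace Topology
open Groth.Agent.Helper5.ConsLc

section Stage

variable {I : Type u} [SmallCategory I] [IsCofiltered I]
  (D : I ⥤ Scheme.{u}) (c : Limits.Cone D) (hc : Limits.IsLimit c)
  [∀ (i j : I) (f : i ⟶ j), IsAffineHom (D.map f)]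

include hc in
set_option maxHeartbeats 1600000 in
set_option backward.isDefEq.respectTransparency false in
/-- a morphism of finite presentation to the limit together with a section has a model over a
stage -/
theorem exists_stage_model_section' [∀ i, CompactSpace (D.obj i)]
    [∀ i, QuasiSeparatedSpace (D.obj i)]
    {X : Scheme.{u}} (u : X ⟶ c.pt) (s : c.pt ⟶ X) (hs : s ≫ u = 𝟙 _)
    [LocallyOfFinitePresentation u] [QuasiCompact u] [QuasiSeparated u] (i₁ : I) :
    ∃ (j : I) (_ : j ⟶ i₁) (Xj : Scheme.{u}) (uj : Xj ⟶ D.obj j) (sj : D.obj j ⟶ Xj) (q : X ⟶ Xj),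
      LocallyOfFinitePresentation uj ∧ QuasiCompact uj ∧ QuasiSeparated uj ∧
        IsPullback q u uj (c.π.app j) ∧
        sj ≫ uj = 𝟙 _ ∧ s ≫ q = c.π.app j ≫ sj := by
  obtain ⟨k, a₁, Xk, uk, q, h1, h2, h3, H⟩ := exists_stage_model D c hc u i₁
  let D' : Over k ⥤ Scheme.{u} := Over.forget k ⋙ D
  let t : D' ⟶ (Functor.const (Over k)).obj (D.obj k) :=
    { app := fun j => D.map j.hom
      naturality := fun j j' φ => by
        simp only [Functor.const_obj_obj, Functor.const_obj_map, Category.comp_id]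
        show D.map φ.left ≫ D.map j'.hom = D.map j.hom
        rw [← D.map_comp, Over.w] }
  let c' : Cone D' := c.whisker (Over.forget k)
  have hc' : IsLimit c' := (Functor.Initial.isLimitWhiskerEquiv (Over.forget k) c).symm hc
  haveI : ∀ {a b : Over k} (φ : a ⟶ b), IsAffineHom (D'.map φ) := fun φ =>
    inferInstanceAs (IsAffineHom (D.map φ.left))
  haveI : ∀ j : Over k, CompactSpace ↥(D'.obj j) := fun j =>
    inferInstanceAs (CompactSpace ↥(D.obj j.left))
  haveI : ∀ j : Over k, QuasiSeparatedSpace ↥(D'.obj j) := fun j =>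
    inferInstanceAs (QuasiSeparatedSpace ↥(D.obj j.left))
  let a : c.pt ⟶ Xk := s ≫ q
  have hauk : a ≫ uk = c.π.app k := by
    show (s ≫ q) ≫ uk = _
    rw [Category.assoc, H.w, ← Category.assoc, hs, Category.id_comp]
  have ha : c'.π ≫ t = (Functor.const _).map (a ≫ uk) := by
    ext j
    simp only [NatTrans.comp_app, Functor.const_obj_obj, Functor.const_map_app]
    show c.π.app j.left ≫ D.map j.hom = a ≫ uk
    rw [hauk, c.w]
  obtain ⟨j, g, hg1, hg2⟩ := Scheme.exists_π_app_comp_eq_of_locallyOfFinitePresentation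
    D' t uk c' hc' a ha
  have hg1' : c.π.app j.left ≫ g = s ≫ q := hg1
  have hg2' : g ≫ uk = D.map j.hom := hg2
  let uj : pullback uk (D.map j.hom) ⟶ D.obj j.left := pullback.snd uk (D.map j.hom)
  let sj : D.obj j.left ⟶ pullback uk (D.map j.hom) :=
    pullback.lift g (𝟙 _) (by rw [hg2', Category.id_comp])
  let qj : X ⟶ pullback uk (D.map j.hom) :=
    pullback.lift q (u ≫ c.π.app j.left) (by rw [H.w, Category.assoc, c.w])
  have hqj1 : qj ≫ pullback.fst uk (D.map j.hom) = q := pullback.lift_fst _ _ _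
  have hqj2 : qj ≫ uj = u ≫ c.π.app j.left := pullback.lift_snd _ _ _
  have Hj : IsPullback qj u uj (c.π.app j.left) := by
    refine IsPullback.of_right (h₁₂ := pullback.fst uk (D.map j.hom)) (h₂₂ := D.map j.hom)
      (v₁₃ := uk) ?_ hqj2 (IsPullback.of_hasPullback uk (D.map j.hom))
    rw [hqj1, c.w]
    exact H
  refine ⟨j.left, j.hom ≫ a₁, _, uj, sj, qj, MorphismProperty.pullback_snd _ _ h1,
    MorphismProperty.pullback_snd _ _ h2, MorphismProperty.pullback_snd _ _ h3, Hj,
    pullback.lift_snd _ _ _, ?_⟩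
  apply pullback.hom_ext
  · rw [Category.assoc, hqj1, Category.assoc, pullback.lift_fst, hg1']
  · have h5 : sj ≫ pullback.snd uk (D.map j.hom) = 𝟙 _ := pullback.lift_snd _ _ _
    rw [Category.assoc, Category.assoc, h5, Category.comp_id]
    show s ≫ qj ≫ uj = _
    rw [hqj2, ← Category.assoc, hs, Category.id_comp]

include hc in
set_option maxHeartbeats 1600000 in
set_option backward.isDefEq.respectTransparency false in
/-- a flat morphism of finite presentation to the limit together with a section has a flat model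
over a stage -/
theorem exists_flat_stage_model_section [∀ i, CompactSpace (D.obj i)]
    [∀ i, QuasiSeparatedSpace (D.obj i)]
    {X : Scheme.{u}} (u : X ⟶ c.pt) (s : c.pt ⟶ X) (hs : s ≫ u = 𝟙 _)
    [LocallyOfFinitePresentation u] [QuasiCompact u] [QuasiSeparated u] [Flat u] (i₁ : I) :
    ∃ (j : I) (_ : j ⟶ i₁) (Xj : Scheme.{u}) (uj : Xj ⟶ D.obj j) (sj : D.obj j ⟶ Xj) (q : X ⟶ Xj),
      LocallyOfFinitePresentation uj ∧ QuasiCompact uj ∧ Flat uj ∧
        IsPullback q u uj (c.π.app j) ∧ sj ≫ uj = 𝟙 _ ∧ s ≫ q = c.π.app j ≫ sj := by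
  obtain ⟨j, a₁, Xj, uj, sj, q, h1, h2, h3, H, hsj, hcompat⟩ :=
    exists_stage_model_section' D c hc u s hs i₁
  haveI := h1
  haveI := h2
  haveI := h3
  haveI : CompactSpace ↥Xj := QuasiCompact.compactSpace_of_compactSpace uj
  haveI : QuasiSeparatedSpace ↥Xj := quasiSeparatedSpace_of_quasiSeparated uj
  have hY : IsPullback (c.π.app j) (𝟙 c.pt) (𝟙 (D.obj j)) (c.π.app j) := IsPullback.of_id_snd
  obtain ⟨i, φ, Xi, Yi, fi, gi, pY, pX, hYi, hXi, hflat⟩ :=
    Groth.Agent.S2075.result D c hc j uj (𝟙 (D.obj j)) u (𝟙 c.pt) (c.π.app j) q hY H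
  haveI : IsIso gi := hYi.isIso_snd_of_isIso
  have hpY : pY = gi ≫ D.map φ := by
    have := hYi.w
    rw [Category.comp_id] at this
    exact this
  let ui : Xi ⟶ D.obj i := fi ≫ gi
  have Hi : IsPullback pX ui uj (D.map φ) := by
    have h0 : IsPullback pX (ui ≫ (asIso gi).symm.hom) uj (gi ≫ D.map φ) := by
      have : ui ≫ (asIso gi).symm.hom = fi := by
        show (fi ≫ gi) ≫ inv gi = fi
        rw [Category.assoc, IsIso.hom_inv_id, Category.comp_id]
      rw [this, ← hpY]
      exact hXi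
    have h1' := isPullback_of_comp_iso (asIso gi).symm h0
    have : (asIso gi).symm.hom ≫ gi ≫ D.map φ = D.map φ := by
      show inv gi ≫ gi ≫ D.map φ = D.map φ
      rw [← Category.assoc, IsIso.inv_hom_id, Category.id_comp]
    rw [this] at h1'
    exact h1'
  haveI := hflat
  have hflat' : Flat ui := inferInstance
  let si : D.obj i ⟶ Xi := Hi.lift (D.map φ ≫ sj) (𝟙 _) (by
    rw [Category.assoc, hsj, Category.comp_id, Category.id_comp])
  have hsi1 : si ≫ pX = D.map φ ≫ sj := Hi.lift_fst _ _ _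
  have hsi2 : si ≫ ui = 𝟙 _ := Hi.lift_snd _ _ _
  let qi : X ⟶ Xi := Hi.lift q (u ≫ c.π.app i) (by rw [H.w, Category.assoc, c.w])
  have hqi1 : qi ≫ pX = q := Hi.lift_fst _ _ _
  have hqi2 : qi ≫ ui = u ≫ c.π.app i := Hi.lift_snd _ _ _
  have HH : IsPullback qi u ui (c.π.app i) := by
    refine IsPullback.of_right (h₁₂ := pX) (h₂₂ := D.map φ) (v₁₃ := uj) ?_ hqi2 Hi
    rw [hqi1, c.w]
    exact H
  refine ⟨i, φ ≫ a₁, Xi, ui, si, qi, MorphismProperty.of_isPullback Hi h1,
    MorphismProperty.of_isPullback Hi h2, hflat', HH, hsi2, ?_⟩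
  apply Hi.hom_ext
  · rw [Category.assoc, hqi1, Category.assoc, hsi1, hcompat, ← Category.assoc, c.w]
  · rw [Category.assoc, hqi2, ← Category.assoc, hs, Category.id_comp, Category.assoc, hsi2,
      Category.comp_id]

end Stage

end Groth.Agent.Helper5.SecNb
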