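import Mathlib
import Groth.Prelude
import Groth.Agent.Helper5.SecNbI
import Groth.Agent.Helper5.SecNbJ
import Groth.Agent.Helper5.SecCompH
import Groth.Agent.Helper5.RedNear5

set_option autoImplicit false
set_option linter.style.haveILetI false
universe u

namespace Groth.Agent.Helper5.SecNb

open AlgebraicGeometry CategoryTheory CategoryTheory.Limits TopologicalSpace Topology
open Groth.Agent.Lead Groth.Agent.Helper5.ConsLc Groth.Agent.Helper5.SecComp

theorem geomReducedAt_of_geometricallyReduced {k : Type u} [Field k] {Z : Scheme.{u}}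
    (g : Z ⟶ Spec (CommRingCat.of k)) [GeometricallyReduced g] (z : Z) :
    FBase.IsGeomReducedAt g z := by
  intro K _ _ x' _
  haveI : IsReduced (FBase.bc g K) :=
    GeometricallyReduced.geometrically_isReduced (f := g) _ _ _ (.of_hasPullback _ _)
  infer_instance

theorem uRed_of_geometricallyReduced_fiber {X Y : Scheme.{u}} (f : X ⟶ Y) (x : X) (y : Y)
    (hxy : f x = y) (h : GeometricallyReduced (f.fiberToSpecResidueField y)) : URed f x := by
  subst hxy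
  exact URed.of_geomReducedAt f x
    (@geomReducedAt_of_geometricallyReduced (Y.residueField (f x)) _ _
      (f.fiberToSpecResidueField (f x)) h _)

set_option maxHeartbeats 1600000 in
set_option backward.isDefEq.respectTransparency false in
/-- the flat case over an affine base, with a hypothesis that passes to a Noetherian stage -/
theorem nhd_flat_affine {S : Scheme.{u}} [IsAffine S] {X : Scheme.{u}} (u : X ⟶ S)
    (s : S ⟶ X) (hs : s ≫ u = 𝟙 S)
    [LocallyOfFinitePresentation u] [QuasiCompact u] [QuasiSeparated u] [Flat u] (y : S)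
    (P : ∀ {X' S' : Scheme.{u}} (u' : X' ⟶ S') (s' : S' ⟶ X') (y' : S'), Prop)
    (hP : ∀ {X' S' : Scheme.{u}} (u' : X' ⟶ S') (s' : S' ⟶ X') (y' : S'), P u' s' y' →
      ∀ x ∈ connectedComponentIn (u' ⁻¹' {y'}) (s' y'), URed u' x)
    (hdesc : ∀ {X' S' : Scheme.{u}} (u' : X' ⟶ S') (s' : S' ⟶ X') (hs' : s' ≫ u' = 𝟙 S')
      (q : X ⟶ X') (π : S ⟶ S'), IsPullback q u u' π → s ≫ q = π ≫ s' → P u s y → P u' s' (π y))
    (hy : P u s y) :
    connectedComponentIn (u ⁻¹' {y}) (s y) ⊆ interior (MoreMor.sectionComponents u s) := by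
  have hfg : (⊥ : Subalgebra ℤ Γ(S, ⊤)).FG := Subalgebra.fg_bot
  haveI := SubalgSys.isCofiltered hfg
  have hc : IsLimit (SubalgSys.cone Γ(S, ⊤) ⊥) := SubalgSys.coneIsLimit hfg
  haveI : ∀ (i j : (SubalgSys.Idx Γ(S, ⊤) ⊥)ᵒᵖ) (f : i ⟶ j),
      IsAffineHom ((SubalgSys.D Γ(S, ⊤) ⊥).map f) := fun _ _ f => inferInstance
  haveI : ∀ i, CompactSpace ((SubalgSys.D Γ(S, ⊤) ⊥).obj i) := fun i => inferInstance
  haveI : ∀ i, QuasiSeparatedSpace ((SubalgSys.D Γ(S, ⊤) ⊥).obj i) := fun i => inferInstance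
  let e : S ≅ (SubalgSys.cone Γ(S, ⊤) ⊥).pt := S.isoSpec
  have hs' : (e.inv ≫ s) ≫ (u ≫ e.hom) = 𝟙 _ := by
    rw [Category.assoc, ← Category.assoc s, hs, Category.id_comp, e.inv_hom_id]
  obtain ⟨j, -, Xj, uj, sj, q, h1, h2, h3, H, hsj, hcompat⟩ :=
    exists_flat_stage_model_section (SubalgSys.D Γ(S, ⊤) ⊥) (SubalgSys.cone Γ(S, ⊤) ⊥) hc
      (u ≫ e.hom) (e.inv ≫ s) hs' (Opposite.op (SubalgSys.base _ ⊥ hfg))
  let π : S ⟶ (SubalgSys.D Γ(S, ⊤) ⊥).obj j := e.hom ≫ (SubalgSys.cone Γ(S, ⊤) ⊥).π.app j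
  have H' : IsPullback q u uj π := isPullback_of_comp_iso e H
  have hcompat' : s ≫ q = π ≫ sj := by
    show s ≫ q = (e.hom ≫ _) ≫ sj
    rw [Category.assoc, ← hcompat, ← Category.assoc, ← Category.assoc, e.hom_inv_id,
      Category.id_comp]
  have hSC := s1324 uj sj hsj u q _ H' s hs hcompat'
  haveI : IsNoetherian ((SubalgSys.D Γ(S, ⊤) ⊥).obj j) := isNoetherian_stage j
  haveI := h1
  haveI := h2
  haveI := h3
  have hPj : P uj sj (π y) := hdesc uj sj hsj q π H' hcompat' hy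
  have key := nhd_of_locallyNoetherian uj sj hsj (π y)
    (fun x hx => ⟨isUnivOpenAt_of_universallyOpen uj x, hP uj sj (π y) hPj x hx⟩)
  intro x hx
  have hux : u x = y := by
    have h0 : x ∈ u ⁻¹' {y} := connectedComponentIn_subset _ _ hx
    exact h0
  have hsq : ∀ w : X, uj (q w) = π (u w) := fun w => by
    rw [← Scheme.Hom.comp_apply, ← Scheme.Hom.comp_apply, H'.w]
  have hxX : x ∈ MoreMor.sectionComponents u s := (mem_sectionComponents_iff u s hux).2 hx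
  rw [hSC] at hxX
  have hqx : q x ∈ connectedComponentIn (uj ⁻¹' {π y}) (sj (π y)) :=
    (mem_sectionComponents_iff uj sj (by rw [hsq, hux])).1 hxX
  have h4 := key hqx
  rw [hSC]
  exact preimage_interior_subset_interior_preimage q.continuous h4

set_option maxHeartbeats 1600000 in
/-- the flat case over a general base -/
theorem nhd_flat {X Y : Scheme.{u}} (f : X ⟶ Y) (s : Y ⟶ X) (hs : s ≫ f = 𝟙 Y)
    [LocallyOfFinitePresentation f] [QuasiCompact f] [QuasiSeparated f] [Flat f] (y : Y)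
    (P : ∀ {X' S' : Scheme.{u}} (u' : X' ⟶ S') (s' : S' ⟶ X') (y' : S'), Prop)
    (hP : ∀ {X' S' : Scheme.{u}} (u' : X' ⟶ S') (s' : S' ⟶ X') (y' : S'), P u' s' y' →
      ∀ x ∈ connectedComponentIn (u' ⁻¹' {y'}) (s' y'), URed u' x)
    (hbc : ∀ {X₁ S₁ X₂ S₂ : Scheme.{u}} (u₁ : X₁ ⟶ S₁) (s₁ : S₁ ⟶ X₁) (u₂ : X₂ ⟶ S₂)
      (s₂ : S₂ ⟶ X₂) (q : X₁ ⟶ X₂) (π : S₁ ⟶ S₂), s₁ ≫ u₁ = 𝟙 _ → s₂ ≫ u₂ = 𝟙 _ →
      IsPullback q u₁ u₂ π → s₁ ≫ q = π ≫ s₂ → ∀ y₁ : S₁, (P u₁ s₁ y₁ ↔ P u₂ s₂ (π y₁)))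
    (hy : P f s y) :
    connectedComponentIn (f ⁻¹' {y}) (s y) ⊆ interior (MoreMor.sectionComponents f s) := by
  obtain ⟨_, ⟨V₀, hV, rfl⟩, hyV, -⟩ :=
    Y.isBasis_affineOpens.exists_subset_of_mem_open (Set.mem_univ y) isOpen_univ
  let V : Y.Opens := V₀
  let U : X.Opens := f ⁻¹ᵁ V
  have sq : IsPullback U.ι (f ∣_ V) f V.ι := (isPullback_morphismRestrict f V).flip
  let sV : (V : Scheme.{u}) ⟶ (U : Scheme.{u}) :=
    sq.lift (V.ι ≫ s) (𝟙 _) (by rw [Category.assoc, hs, Category.comp_id, Category.id_comp])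
  have hsV1 : sV ≫ U.ι = V.ι ≫ s := sq.lift_fst _ _ _
  have hsV2 : sV ≫ (f ∣_ V) = 𝟙 _ := sq.lift_snd _ _ _
  have hSC : MoreMor.sectionComponents (f ∣_ V) sV = U.ι ⁻¹' MoreMor.sectionComponents f s :=
    s1324 f s hs (f ∣_ V) U.ι V.ι sq sV hsV2 hsV1
  haveI : IsAffine (V : Scheme.{u}) := hV
  let yV : ↥V := ⟨y, hyV⟩
  have hyVι : V.ι yV = y := Scheme.Opens.ι_apply V yV
  have hPV : P (f ∣_ V) sV yV := by
    rw [hbc (f ∣_ V) sV f s U.ι V.ι hsV2 hs sq hsV1 yV, hyVι]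
    exact hy
  have key := nhd_flat_affine (f ∣_ V) sV hsV2 yV P hP
    (fun u' s' hs' q π H hc h => (hbc (f ∣_ V) sV u' s' q π hsV2 hs' H hc yV).1 h) hPV
  have hfι : ∀ w : ↥U, f (U.ι w) = V.ι ((f ∣_ V) w) := fun w => by
    rw [← Scheme.Hom.comp_apply, ← Scheme.Hom.comp_apply, sq.w]
  have hsι : U.ι (sV yV) = s y := by
    rw [← Scheme.Hom.comp_apply, hsV1, Scheme.Hom.comp_apply, hyVι]
  have himg : U.ι '' ((f ∣_ V) ⁻¹' {yV}) = f ⁻¹' {y} := by
    apply Set.Subset.antisymm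
    · rintro _ ⟨w, hw, rfl⟩
      show f (U.ι w) = y
      rw [hfι, hw, hyVι]
    · intro w hw
      have hw' : f w = y := hw
      have hwU : w ∈ U := by
        show f w ∈ V
        rw [hw']; exact hyV
      refine ⟨⟨w, hwU⟩, ?_, rfl⟩
      show (f ∣_ V) ⟨w, hwU⟩ = yV
      apply V.ι.isEmbedding.injective
      rw [← hfι, hyVι]
      exact hw'
  have hmem : sV yV ∈ (f ∣_ V) ⁻¹' {yV} := by
    show (f ∣_ V) (sV yV) = yV
    rw [← Scheme.Hom.comp_apply, hsV2]; rfl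
  have hcomp : U.ι '' connectedComponentIn ((f ∣_ V) ⁻¹' {yV}) (sV yV) =
      connectedComponentIn (f ⁻¹' {y}) (s y) := by
    rw [image_connectedComponentIn_of_isEmbedding U.ι.isEmbedding _ _ hmem, himg, hsι]
  intro x hx
  rw [← hcomp] at hx
  obtain ⟨x', hx', rfl⟩ := hx
  have h1 := key hx'
  rw [hSC] at h1
  rw [mem_interior]
  refine ⟨U.ι '' interior (U.ι ⁻¹' MoreMor.sectionComponents f s), ?_,
    U.ι.isOpenEmbedding.isOpenMap _ isOpen_interior, ⟨x', h1, rfl⟩⟩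
  rintro _ ⟨w, hw, rfl⟩
  have hw' : w ∈ U.ι ⁻¹' MoreMor.sectionComponents f s := interior_subset hw
  exact hw'

theorem s1327 {X Y : Scheme.{u}} (f : X ⟶ Y) (s : Y ⟶ X) (hs : s ≫ f = 𝟙 Y)
    [LocallyOfFinitePresentation f] [QuasiCompact f] [QuasiSeparated f] [Flat f] (y : Y)
    (hy : GeometricallyReduced (f.fiberToSpecResidueField y)) :
    connectedComponentIn (f ⁻¹' {y}) (s y) ⊆ interior (MoreMor.sectionComponents f s) := by
  apply nhd_flat f s hs y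
    (fun {X' S'} u' _ y' => GeometricallyReduced (u'.fiberToSpecResidueField y'))
  · intro X' S' u' s' y' h x hx
    have hxy : u' x = y' := by
      have h0 : x ∈ u' ⁻¹' {y'} := connectedComponentIn_subset _ _ hx
      exact h0
    exact uRed_of_geometricallyReduced_fiber u' x y' hxy h
  · intro X₁ S₁ X₂ S₂ u₁ s₁ u₂ s₂ q π _ _ H _ y₁
    exact Groth.Agent.Helper5.RedNear.geometricallyReduced_fiber_iff H y₁
  · exact hy

end Groth.Agent.Helper5.SecNb
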