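import Mathlib
import Groth.Prelude
import Groth.Agent.Helper4.ConnImage
import Groth.Agent.Helper5.SecNbF

set_option autoImplicit false
set_option linter.style.haveILetI false
universe u

namespace Groth.Agent.Helper5.SecNb

open AlgebraicGeometry CategoryTheory CategoryTheory.Limits TopologicalSpace Topology

/-- the image of a connected component under a base change by a field extension is a connected
component: arbitrary cartesian square -/
theorem image_cc_of_isPullback {k K : Type u} [Field k] [Field K] (φ : k →+* K)
    {Z Z' : Scheme.{u}} (h : Z ⟶ Spec (CommRingCat.of k)) (ρ : Z' ⟶ Z)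
    (h' : Z' ⟶ Spec (CommRingCat.of K))
    (H : IsPullback ρ h' h (Spec.map (CommRingCat.ofHom φ))) (z' : Z') :
    ρ '' connectedComponent z' = connectedComponent (ρ z') := by
  letI : Algebra k K := φ.toAlgebra
  letI : Z.Over (Spec (CommRingCat.of k)) := ⟨h⟩
  have H' : IsPullback ρ h' (Z ↘ Spec (CommRingCat.of k))
      (Spec.map (CommRingCat.ofHom (algebraMap k K))) := H
  let e := H'.isoPullback
  have he : e.hom ≫ Curv2.bcFst k Z K = ρ := H'.isoPullback_hom_fst
  have hpt : ∀ t, ρ t = Curv2.bcFst k Z K (e.hom t) := fun t => by rw [← he]; rfl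
  have h1 : e.hom '' connectedComponent z' = connectedComponent (e.hom z') :=
    Groth.Agent.Helper4.ConnImage.homeomorph_image_connectedComponent e.hom.homeomorph z'
  have h2 := Groth.Agent.Helper4.ConnImage.image_cc (k := k) Z K (e.hom z')
  rw [hpt z', ← h2, ← h1, Set.image_image]
  exact Set.image_congr fun t _ => hpt t

theorem connectedComponentIn_fiber_eq {X S : Scheme.{u}} (f : X ⟶ S) (s : S)
    (ζ : ↥(f.fiber s)) :
    connectedComponentIn (f ⁻¹' {s}) (f.fiberι s ζ) = f.fiberι s '' connectedComponent ζ := by
  have h := image_connectedComponentIn_of_isEmbedding (f.fiberι s).isEmbedding Set.univ ζ trivial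
  rw [connectedComponentIn_univ, Set.image_univ, f.range_fiberι] at h
  exact h.symm

/-- for a cartesian square, the relative connected component of a point in its fibre surjects
onto the relative connected component of its image -/
theorem image_connectedComponentIn_fiber_of_isPullback {X S X' S' : Scheme.{u}} {pr : X' ⟶ X}
    {f' : X' ⟶ S'} {f : X ⟶ S} {g : S' ⟶ S} (H : IsPullback pr f' f g) (s' : S') (x' : X')
    (hx' : f' x' = s') :
    pr '' connectedComponentIn (f' ⁻¹' {s'}) x' =
      connectedComponentIn (f ⁻¹' {g s'}) (pr x') := by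
  have HP := isPullback_fiberToSpecResidueField_of_isPullback H s'
  set ρ : f'.fiber s' ⟶ f.fiber (g s') :=
    pullback.map _ _ _ _ pr (Spec.map (g.residueFieldMap s')) g H.w.symm (by simp) with hρ
  have hρι : ρ ≫ f.fiberι (g s') = f'.fiberι s' ≫ pr := by
    rw [hρ]
    exact pullback.lift_fst _ _ _
  have hρι' : ∀ t, f.fiberι (g s') (ρ t) = pr (f'.fiberι s' t) := fun t => by
    rw [← Scheme.Hom.comp_apply, ← Scheme.Hom.comp_apply, hρι]
  obtain ⟨ζ', rfl⟩ : x' ∈ Set.range (f'.fiberι s') := by
    rw [f'.range_fiberι]; exact hx'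
  have hcc := @image_cc_of_isPullback (S.residueField (g s')) (S'.residueField s') _ _
    (g.residueFieldMap s').hom _ _ (f.fiberToSpecResidueField (g s')) ρ
    (f'.fiberToSpecResidueField s') HP ζ'
  rw [connectedComponentIn_fiber_eq f' s' ζ', ← hρι', connectedComponentIn_fiber_eq f (g s') (ρ ζ'),
    ← hcc, Set.image_image, Set.image_image]
  exact Set.image_congr fun t _ => (hρι' t).symm

end Groth.Agent.Helper5.SecNb
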