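import Mathlib
import Groth.Prelude
import Groth.Agent.Helper5.SecNbK
import Groth.Agent.Helper5.SecNbP
import Groth.Agent.Helper2.SmoothRegSch

set_option autoImplicit false
set_option linter.style.haveILetI false
universe u

namespace Groth.Agent.Helper5.SecNb

open AlgebraicGeometry CategoryTheory CategoryTheory.Limits TopologicalSpace Topology

theorem geometricallyReduced_fiber_of_smooth {X S : Scheme.{u}} (f : X ⟶ S) [Smooth f] (s : S) :
    GeometricallyReduced (f.fiberToSpecResidueField s) := by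
  haveI : Smooth (f.fiberToSpecResidueField s) :=
    inferInstanceAs (Smooth (pullback.snd f (S.fromSpecResidueField s)))
  exact Groth.Agent.Helper2.SmoothRegSch.geometricallyReduced_of_smooth
    (S.residueField s) _ (f.fiberToSpecResidueField s)

theorem isOpen_sectionComponents_of_smooth_qcqs {X S : Scheme.{u}} (f : X ⟶ S) [Smooth f]
    [QuasiCompact f] [QuasiSeparated f] (e : S ⟶ X) (he : e ≫ f = 𝟙 S) :
    IsOpen (MoreMor.sectionComponents f e) := by
  rw [← interior_eq_iff_isOpen]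
  apply Set.Subset.antisymm interior_subset
  intro x hx
  have hx' : x ∈ connectedComponentIn (f ⁻¹' {f x}) (e (f x)) := hx
  exact s1327 f e he (f x) (geometricallyReduced_fiber_of_smooth f (f x)) hx'

theorem s15350 {S S' X : Scheme.{u}} (f : X ⟶ S)
    [Smooth f] [QuasiCompact f] [QuasiSeparated f] (g : S' ⟶ S) [UniversallyOpen g] (e : S' ⟶ X)
    (he : e ≫ f = g) :
    ∃ U : X.Opens, ∀ s : S, (U : Set ↥X) ∩ f.base ⁻¹' {s} =
      ⋃ x ∈ Set.range e.base ∩ f.base ⁻¹' {s}, connectedComponentIn (f.base ⁻¹' {s}) x := by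
  let pr := pullback.fst f g
  let f' := pullback.snd f g
  have H : IsPullback pr f' f g := IsPullback.of_hasPullback f g
  let e' : S' ⟶ pullback f g := pullback.lift e (𝟙 S') (by rw [he, Category.id_comp])
  have he'f : e' ≫ f' = 𝟙 S' := pullback.lift_snd _ _ _
  have he'pr : e' ≫ pr = e := pullback.lift_fst _ _ _
  have hopen := isOpen_sectionComponents_of_smooth_qcqs f' e' he'f
  have hfe' : ∀ v : S', f' (e' v) = v := fun v => by
    rw [← Scheme.Hom.comp_apply, he'f]; rfl
  have hpre' : ∀ v : S', pr (e' v) = e v := fun v => by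
    rw [← Scheme.Hom.comp_apply, he'pr]
  have hfpr : ∀ t, f (pr t) = g (f' t) := fun t => by
    rw [← Scheme.Hom.comp_apply, ← Scheme.Hom.comp_apply, H.w]
  have hfe : ∀ v : S', f (e v) = g v := fun v => by
    rw [← Scheme.Hom.comp_apply, he]
  refine ⟨⟨pr '' MoreMor.sectionComponents f' e', pr.isOpenMap _ hopen⟩, ?_⟩
  intro s
  show (pr '' MoreMor.sectionComponents f' e') ∩ f ⁻¹' {s} =
    ⋃ x ∈ Set.range e ∩ f ⁻¹' {s}, connectedComponentIn (f ⁻¹' {s}) x
  apply Set.Subset.antisymm
  · rintro _ ⟨⟨x', hx', rfl⟩, hs⟩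
    have hs' : f (pr x') = s := hs
    have hgs : g (f' x') = s := by rw [← hfpr]; exact hs'
    have h1 : x' ∈ connectedComponentIn (f' ⁻¹' {f' x'}) (e' (f' x')) := hx'
    have h2 := image_connectedComponentIn_fiber_of_isPullback H (f' x') (e' (f' x')) (hfe' _)
    have h3 : pr x' ∈ connectedComponentIn (f ⁻¹' {g (f' x')}) (pr (e' (f' x'))) := by
      rw [← h2]; exact ⟨x', h1, rfl⟩
    rw [hgs, hpre'] at h3
    refine Set.mem_biUnion (x := e (f' x')) ⟨⟨f' x', rfl⟩, ?_⟩ h3
    show f (e (f' x')) = s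
    rw [hfe, hgs]
  · intro z hz
    obtain ⟨x, ⟨⟨s', rfl⟩, hxs⟩, hzx⟩ := Set.mem_iUnion₂.1 hz
    have hxs' : f (e s') = s := hxs
    have hgs : g s' = s := by rw [← hfe]; exact hxs'
    subst hgs
    have h2 := image_connectedComponentIn_fiber_of_isPullback H s' (e' s') (hfe' _)
    rw [hpre'] at h2
    rw [← h2] at hzx
    obtain ⟨x', hx', rfl⟩ := hzx
    have hx's : f' x' = s' := by
      have h0 : x' ∈ f' ⁻¹' {s'} := connectedComponentIn_subset _ _ hx'
      exact h0
    refine ⟨⟨x', (mem_sectionComponents_iff f' e' hx's).2 hx', rfl⟩, ?_⟩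
    show f (pr x') = g s'
    rw [hfpr, hx's]

end Groth.Agent.Helper5.SecNb
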