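import Mathlib
import Groth.Prelude
import Groth.Agent.Helper5.NeutC
import Groth.Agent.Helper5.SecNbQ
import Groth.Agent.Helper5.GrpClosed1
import Groth.Agent.Helper3.GrpImg1
import Groth.Agent.Helper9.SubGrpObj
import Groth.Agent.Helper6.FppfSm2

set_option autoImplicit false
set_option linter.style.haveILetI false
universe u

namespace Groth.Agent.Helper5.Neut

open AlgebraicGeometry CategoryTheory CategoryTheory.Limits MonoidalCategory
  CartesianMonoidalCategory MonObj GrpObj TopologicalSpace Topology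
open Groth.Agent.Helper5.SecNb

/-- functoriality of the section components for a commutative square compatible with sections -/
theorem image_sectionComponents_subset {X S X' S' : Scheme.{u}} (f : X ⟶ S) (e : S ⟶ X)
    (f' : X' ⟶ S') (e' : S' ⟶ X') (he' : e' ≫ f' = 𝟙 S') (a : X' ⟶ X) (b : S' ⟶ S)
    (h1 : f' ≫ b = a ≫ f) (h2 : e' ≫ a = b ≫ e) :
    a '' MoreMor.sectionComponents f' e' ⊆ MoreMor.sectionComponents f e := by
  rintro _ ⟨w, hw, rfl⟩
  have hw' : w ∈ connectedComponentIn (f' ⁻¹' {f' w}) (e' (f' w)) := hw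
  have hfa : ∀ z, f (a z) = b (f' z) := fun z => by
    rw [← Scheme.Hom.comp_apply, ← Scheme.Hom.comp_apply, h1]
  have hae : ∀ v, a (e' v) = e (b v) := fun v => by
    rw [← Scheme.Hom.comp_apply, ← Scheme.Hom.comp_apply, h2]
  have himg : a '' (f' ⁻¹' {f' w}) ⊆ f ⁻¹' {b (f' w)} := by
    rintro _ ⟨z, hz, rfl⟩
    show f (a z) = _
    rw [hfa, hz]
  have h3 := a.continuous.continuousOn.image_connectedComponentIn_subset
    (s := f' ⁻¹' {f' w}) (a := e' (f' w)) (by
      show f' (e' (f' w)) = f' w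
      rw [← Scheme.Hom.comp_apply e' f', he']; rfl) ⟨w, hw', rfl⟩
  rw [hae] at h3
  have h4 := connectedComponentIn_mono _ himg h3
  exact (mem_sectionComponents_iff f e (hfa w)).2 h4

/-- for a smooth morphism with a section, the unit section lies in the interior of the union of
the fibre components through the section -/
theorem exists_open_nhd_section {X S : Scheme.{u}} (h : X ⟶ S) [Smooth h] (e : S ⟶ X)
    (he : e ≫ h = 𝟙 S) (s : S) :
    ∃ O : Set X, IsOpen O ∧ e s ∈ O ∧ O ⊆ MoreMor.sectionComponents h e := by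
  have hhe : ∀ v : S, h (e v) = v := fun v => by
    rw [← Scheme.Hom.comp_apply, he]; rfl
  obtain ⟨V₀, hV₀, hsV₀, -⟩ := exists_isAffineOpen_mem_and_subset (x := s) (U := ⊤) trivial
  have hes : e s ∈ h ⁻¹ᵁ V₀ := by
    show h (e s) ∈ V₀
    rw [hhe]; exact hsV₀
  obtain ⟨W₀, hW₀, hesW₀, hW₀V⟩ :=
    exists_isAffineOpen_mem_and_subset (x := e s) (U := h ⁻¹ᵁ V₀) hes
  obtain ⟨r, hrle, hsr⟩ := hV₀.exists_basicOpen_le (V := e ⁻¹ᵁ W₀) ⟨s, hesW₀⟩ hsV₀
  let V : S.Opens := S.basicOpen r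
  have hV : IsAffineOpen V := hV₀.basicOpen r
  let r' := h.appLE V₀ W₀ hW₀V r
  let W : X.Opens := X.basicOpen r'
  have hW : IsAffineOpen W := hW₀.basicOpen r'
  have hWeq : W = W₀ ⊓ h ⁻¹ᵁ V := Scheme.basicOpen_appLE h W₀ V₀ hW₀V r
  have e1 : W ≤ h ⁻¹ᵁ V := by rw [hWeq]; exact inf_le_right
  have e2 : V ≤ e ⁻¹ᵁ W := by
    intro v hv
    show e v ∈ W
    rw [hWeq]
    refine ⟨hrle hv, ?_⟩
    show h (e v) ∈ V
    rw [hhe]; exact hv
  let h' : (W : Scheme.{u}) ⟶ (V : Scheme.{u}) := h.resLE V W e1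
  let e' : (V : Scheme.{u}) ⟶ (W : Scheme.{u}) := e.resLE W V e2
  have hh' : h' ≫ V.ι = W.ι ≫ h := Scheme.Hom.resLE_comp_ι h e1
  have he'ι : e' ≫ W.ι = V.ι ≫ e := Scheme.Hom.resLE_comp_ι e e2
  have he'h' : e' ≫ h' = 𝟙 _ := by
    rw [← cancel_mono V.ι, Category.assoc, hh', ← Category.assoc, he'ι, Category.assoc, he,
      Category.comp_id, Category.id_comp]
  haveI : Smooth h' := IsZariskiLocalAtSource.resLE e1 inferInstance
  haveI : IsAffine (V : Scheme.{u}) := hV
  haveI : IsAffine (W : Scheme.{u}) := hW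
  have hopen : IsOpen (MoreMor.sectionComponents h' e') :=
    isOpen_sectionComponents_of_smooth_qcqs h' e' he'h'
  refine ⟨W.ι '' MoreMor.sectionComponents h' e', W.ι.isOpenEmbedding.isOpenMap _ hopen, ?_,
    image_sectionComponents_subset h e h' e' he'h' W.ι V.ι hh' he'ι⟩
  let s' : ↥V := ⟨s, hsr⟩
  refine ⟨e' s', ?_, ?_⟩
  · have hx : h' (e' s') = s' := by
      rw [← Scheme.Hom.comp_apply, he'h']; rfl
    rw [mem_sectionComponents_iff h' e' hx]
    exact mem_connectedComponentIn hx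
  · rw [← Scheme.Hom.comp_apply, he'ι, Scheme.Hom.comp_apply]
    congr 1

end Groth.Agent.Helper5.Neut
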