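import Groth.Agent.Helper5.GenDim1
import Groth.Agent.Helper5.MaxPt1
import Groth.Agent.Helper5.LocDim1
import Groth.Agent.Helper5.EquiDim1
import Groth.Agent.Helper5.FibDim5
import Mathlib

set_option autoImplicit false
universe u
open CategoryTheory CategoryTheory.Limits AlgebraicGeometry TopologicalSpace

namespace Groth.Agent.Helper5.GenDim

open Groth.Agent.Helper5.VarDim Groth.Agent.Helper5.BCMin Groth.Agent.Helper5.SubDim

/-- (L1') The dimension of the closure of a point in its fibre is the residue transcendence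
degree. -/
theorem dim_fibre_closure_point {X S : Scheme.{u}} (f : X ⟶ S) [LocallyOfFiniteType f] (x : X) :
    ∃ n : ℕ, Dual3.resTrdeg f x = (n : Cardinal.{u}) ∧
      topologicalKrullDim ↥(f ⁻¹' {f x} ∩ closure ({x} : Set X)) = (n : WithBot ℕ∞) := by
  obtain ⟨n, hn1, hn2⟩ := Groth.Agent.Helper5.MaxPt.dim_closure_fibre_point f (f x) (f.asFiber x) x
    (f.fiberι_asFiber x) rfl
  refine ⟨n, hn2, ?_⟩
  let ι := f.fiberι (f x)
  have hemb : Topology.IsEmbedding ι := (f.fiberι (f x)).isEmbedding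
  have himg : ι '' (closure ({f.asFiber x} : Set ↥(f.fiber (f x)))) =
      f ⁻¹' {f x} ∩ closure ({x} : Set X) := by
    rw [hemb.toIsInducing.closure_eq_preimage_closure_image, Set.image_singleton,
      Set.image_preimage_eq_inter_range, Scheme.Hom.range_fiberι]
    have : ι (f.asFiber x) = x := f.fiberι_asFiber x
    rw [this, Set.inter_comm]
  rw [← himg, Groth.Agent.Helper5.FibDim.dim_image_eq ι hemb]
  exact hn1

/-- The sets `f⁻¹(s) ∩ C` with `C` closed are stable under generic points. -/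
theorem genStable_fibre_inter_closed {X S : Scheme.{u}} (f : X ⟶ S) (s : S) (C : Set X)
    (hC : IsClosed C) : Groth.Agent.Helper5.LocDim.GenStable (f ⁻¹' {s} ∩ C) := by
  intro D hD hirr γ hγ
  have hγmem : γ ∈ closure D := by
    have := hγ.mem
    exact this
  refine ⟨?_, ?_⟩
  · -- f γ = s
    obtain ⟨d, hd⟩ := hirr.nonempty
    have hdγ : γ ⤳ d := hγ.specializes (subset_closure hd)
    have h1 : f γ ⤳ s := by
      have := hdγ.map f.continuous
      rwa [show f d = s from (hD hd).1] at this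
    have h2 : s ⤳ f γ := by
      -- γ ∈ closure D, f D ⊆ {s}
      have : f γ ∈ closure (f '' D) :=
        image_closure_subset_closure_image f.continuous ⟨γ, hγmem, rfl⟩
      have hsub : f '' D ⊆ {s} := by
        rintro _ ⟨d', hd', rfl⟩; exact (hD hd').1
      have := closure_mono hsub this
      exact specializes_iff_mem_closure.2 this
    exact (h1.antisymm h2).eq
  · exact (closure_minimal (fun d hd => (hD hd).2) hC) hγmem

/-- (L1a) Bounding the dimension of `f⁻¹(s) ∩ C` by residue transcendence degrees. -/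
theorem dim_fibre_inter_closed_le {X S : Scheme.{u}} (f : X ⟶ S) [LocallyOfFiniteType f] (s : S)
    (C : Set X) (hC : IsClosed C) (B : WithBot ℕ∞)
    (h : ∀ ζ ∈ f ⁻¹' {s} ∩ C, ∀ n : ℕ, Dual3.resTrdeg f ζ = (n : Cardinal.{u}) →
      (n : WithBot ℕ∞) ≤ B) :
    topologicalKrullDim ↥(f ⁻¹' {s} ∩ C) ≤ B := by
  refine Groth.Agent.Helper5.LocDim.dim_le_of_chains _ (genStable_fibre_inter_closed f s C hC) B ?_
  intro l hl
  have hlast := hl (Fin.last _)
  obtain ⟨n, hn1, hn2⟩ := dim_fibre_closure_point f (l (Fin.last _))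
  have hB := h _ hlast n hn1
  refine le_trans ?_ hB
  rw [← hn2]
  refine Groth.Agent.Helper5.EquiDim.length_le_dim_of_forall_mem _ l ?_
  intro i
  refine ⟨?_, ?_⟩
  · show f (l i) = f (l (Fin.last _))
    rw [(hl i).1, hlast.1]
  · have : l i ≤ l (Fin.last _) := l.monotone (Fin.le_last i)
    exact (Scheme.le_iff_specializes.1 this).mem_closure

/-- (L1b) A lower bound. -/
theorem le_dim_of_mem {X S : Scheme.{u}} (f : X ⟶ S) [LocallyOfFiniteType f] (s : S)
    (C : Set X) (hC : IsClosed C) (γ : X) (hγ : γ ∈ f ⁻¹' {s} ∩ C) (n : ℕ)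
    (hn : Dual3.resTrdeg f γ = (n : Cardinal.{u})) :
    (n : WithBot ℕ∞) ≤ topologicalKrullDim ↥(f ⁻¹' {s} ∩ C) := by
  obtain ⟨m, hm1, hm2⟩ := dim_fibre_closure_point f γ
  have hmn : m = n := by
    have := hm1.symm.trans hn
    exact_mod_cast this
  subst hmn
  rw [← hm2]
  refine Groth.Agent.Helper5.FibDim.dim_subset_le ?_
  rintro z ⟨hz1, hz2⟩
  refine ⟨?_, closure_minimal (Set.singleton_subset_iff.2 hγ.2) hC hz2⟩
  show f z = s
  rw [show f z = f γ from hz1, hγ.1]

end Groth.Agent.Helper5.GenDim
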