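import Mathlib
import Groth.Agent.Helper5.SOne3
import Groth.Agent.Helper1.SupportDim
import Groth.Statements.S4637

set_option autoImplicit false
open CategoryTheory Limits AlgebraicGeometry TopologicalSpace Opposite
universe u

namespace Groth.Agent.Helper5.SOne4
open Groth.Agent.Helper5.SOne1 Groth.Agent.Helper5.SOne3 Groth.Agent.Helper4.FinLocFree2

theorem s4637 {X : Scheme.{u}} [IsLocallyNoetherian X] (F : X.Modules)
    (hF : Coh.IsCoh F) (x : X) :
    (Nontrivial ↑(F.presheaf.stalk x) ∧ ∀ y : X, Nontrivial ↑(F.presheaf.stalk y) → y ⤳ x → y = x) ↔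
      (Nontrivial ↑(F.presheaf.stalk x) ∧ IsFiniteLength ↑(X.presheaf.stalk x) ↑(F.presheaf.stalk x)) := by
  haveI : F.IsQuasicoherent := hF.1
  haveI := finite_stalk F hF.2 x
  haveI : IsNoetherianRing (X.presheaf.stalk x) := inferInstance
  refine and_congr_right fun hnt => ?_
  rw [← support_stalk_iff, ← supportDim_le_zero_iff]
  constructor
  · exact Groth.Agent.Helper1.SupportDim.isFiniteLength_of_supportDim_le_zero
  · exact Groth.Agent.Helper1.SupportDim.supportDim_le_zero_of_isFiniteLength

end Groth.Agent.Helper5.SOne4
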