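import Mathlib
import Groth.Prelude
import Groth.Agent.Helper2.FlatLoc

/-!
# FibModA: properties of the pair (local ring of a fibre, stalk of a module on the fibre)

A generic framework: a property of pairs `(R, N)` (a local ring and a module over it) which is
invariant under semilinear isomorphisms and under extension of the base field (for localizations
of finite modules over algebras of finite type).
-/

set_option autoImplicit false
set_option linter.style.haveILetI false
set_option linter.unusedSectionVars false
set_option linter.unusedVariables false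
universe u

namespace Groth.Agent.Helper5.FibMod

open TensorProduct IsLocalRing

/-- a property of pairs (local ring, module), invariant under semilinear isomorphism -/
structure LocModIso where
  /-- the property -/
  P : ∀ (R : Type u) [CommRing R] [IsLocalRing R] (N : Type u) [AddCommGroup N] [Module R N], Prop
  iso : ∀ (R R' : Type u) [CommRing R] [CommRing R'] [IsLocalRing R] [IsLocalRing R']
    (N N' : Type u) [AddCommGroup N] [AddCommGroup N'] [Module R N] [Module R' N']
    (e : R ≃+* R') (eN : N ≃+ N'), (∀ (r : R) (n : N), eN (r • n) = e r • eN n) → P R N → P R' N'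

/-- a property of pairs (local ring, module), invariant under semilinear isomorphism and under
extension of the base field -/
structure LocModProp extends LocModIso.{u} where
  field : ∀ (k k' S : Type u) [Field k] [Field k'] [Algebra k k'] [CommRing S] [Algebra k S]
    [Algebra.FiniteType k S] (N : Type u) [AddCommGroup N] [Module S N] [Module.Finite S N]
    (q' : Ideal (S ⊗[k] k')) [q'.IsPrime],
    P (Localization.AtPrime q') (LocalizedModule q'.primeCompl ((S ⊗[k] k') ⊗[S] N)) ↔
      P (Localization.AtPrime (q'.comap (algebraMap S (S ⊗[k] k'))))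
        (LocalizedModule (q'.comap (algebraMap S (S ⊗[k] k'))).primeCompl N)

variable (Pr : LocModIso.{u})

theorem LocModIso.iso_iff (R R' : Type u) [CommRing R] [CommRing R'] [IsLocalRing R]
    [IsLocalRing R'] (N N' : Type u) [AddCommGroup N] [AddCommGroup N'] [Module R N] [Module R' N']
    (e : R ≃+* R') (eN : N ≃+ N') (h : ∀ (r : R) (n : N), eN (r • n) = e r • eN n) :
    Pr.P R N ↔ Pr.P R' N' := by
  refine ⟨Pr.iso R R' N N' e eN h, Pr.iso R' R N' N e.symm eN.symm ?_⟩
  intro r n
  apply eN.injective
  rw [AddEquiv.apply_symm_apply, h, RingEquiv.apply_symm_apply, AddEquiv.apply_symm_apply]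

/-- invariance under linear isomorphisms -/
theorem LocModIso.lin_iff (R : Type u) [CommRing R] [IsLocalRing R]
    (N N' : Type u) [AddCommGroup N] [AddCommGroup N'] [Module R N] [Module R N']
    (e : N ≃ₗ[R] N') : Pr.P R N ↔ Pr.P R N' :=
  Pr.iso_iff R R N N' (RingEquiv.refl R) e.toAddEquiv (fun r n => e.map_smul r n)

/-- invariance under isomorphisms of algebras, for the base changes of a fixed module -/
theorem LocModIso.tensor_algEquiv (B : Type u) [CommRing B] (T T' : Type u) [CommRing T]
    [CommRing T'] [IsLocalRing T] [IsLocalRing T'] [Algebra B T] [Algebra B T']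
    (e : T ≃ₐ[B] T') (M : Type u) [AddCommGroup M] [Module B M] :
    Pr.P T (T ⊗[B] M) ↔ Pr.P T' (T' ⊗[B] M) := by
  refine Pr.iso_iff T T' _ _ e.toRingEquiv
    (TensorProduct.congr e.toLinearEquiv (LinearEquiv.refl B M)).toAddEquiv ?_
  intro t x
  induction x using TensorProduct.induction_on with
  | zero => simp
  | add x y hx hy =>
    rw [smul_add, map_add, hx, hy, map_add, smul_add]
  | tmul t' m =>
    simp [TensorProduct.smul_tmul']

section N23

variable (A B : Type u) [CommRing A] [CommRing B] [Algebra A B] (q : Ideal B) [q.IsPrime]
  (M : Type u) [AddCommGroup M] [Module B M]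

/-- the fibre module `M_q / p M_q` is the base change of `M` to the fibre local ring -/
noncomputable def fibTensorEquiv :
    (EGA4.FibLocRing A B q) ⊗[B] M ≃ₗ[EGA4.FibLocRing A B q] EGA4.FibLocMod A B q M := by
  set I : Ideal (Localization.AtPrime q) :=
    (q.comap (algebraMap A B)).map (algebraMap A (Localization.AtPrime q)) with hI
  let e1 : (Localization.AtPrime q ⧸ I) ⊗[Localization.AtPrime q]
      (Localization.AtPrime q ⊗[B] M) ≃ₗ[Localization.AtPrime q]
      (Localization.AtPrime q ⧸ I) ⊗[B] M :=
    TensorProduct.AlgebraTensorModule.cancelBaseChange B (Localization.AtPrime q)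
      (Localization.AtPrime q) (Localization.AtPrime q ⧸ I) M
  let e2 : (Localization.AtPrime q ⧸ I) ⊗[Localization.AtPrime q]
      (Localization.AtPrime q ⊗[B] M) ≃ₗ[Localization.AtPrime q]
      (Localization.AtPrime q ⧸ I) ⊗[Localization.AtPrime q] (LocalizedModule q.primeCompl M) :=
    TensorProduct.congr (LinearEquiv.refl _ _)
      (LocalizedModule.equivTensorProduct q.primeCompl M).symm
  let e3 : (Localization.AtPrime q ⧸ I) ⊗[Localization.AtPrime q]
      (LocalizedModule q.primeCompl M) ≃ₗ[Localization.AtPrime q]
      (LocalizedModule q.primeCompl M ⧸ (I • (⊤ : Submodule (Localization.AtPrime q)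
        (LocalizedModule q.primeCompl M)))) :=
    TensorProduct.quotTensorEquivQuotSMul (LocalizedModule q.primeCompl M) I
  exact LinearEquiv.extendScalarsOfSurjective
    (R := Localization.AtPrime q) (S := Localization.AtPrime q ⧸ I)
    Ideal.Quotient.mk_surjective (e1.symm.trans (e2.trans e3))

/-- the two descriptions of the pair at a prime -/
theorem fibLocMod_iff :
    Pr.P (EGA4.FibLocRing A B q) ((EGA4.FibLocRing A B q) ⊗[B] M) ↔
      Pr.P (EGA4.FibLocRing A B q) (EGA4.FibLocMod A B q M) :=
  Pr.lin_iff _ _ _ (fibTensorEquiv A B q M)

end N23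

end Groth.Agent.Helper5.FibMod
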