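import Mathlib
import Groth.Prelude
import Groth.Agent.Helper5.FibModA

/-!
# FibModB: the local rings of the fibre rings, as algebras over the total ring
-/

set_option autoImplicit false
set_option linter.style.haveILetI false
set_option linter.unusedSectionVars false
set_option linter.unusedVariables false
universe u

namespace Groth.Agent.Helper5.FibMod

open TensorProduct IsLocalRing

attribute [local instance] Algebra.TensorProduct.rightAlgebra

section

variable (A B : Type u) [CommRing A] [CommRing B] [Algebra A B] (p : Ideal A) [p.IsPrime]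
  (Q : Ideal (p.Fiber B)) [Q.IsPrime]

/-- compatibility of Mathlib's isomorphism with the maps from `B` -/
theorem algEquivAux₂_tmul (b : B) :
    (Ideal.Fiber.algEquivAux₂ p Q) (algebraMap (p.Fiber B) (Localization.AtPrime Q) (1 ⊗ₜ b)) =
      Ideal.Quotient.mk _ (algebraMap B
        (Localization.AtPrime (Q.comap Algebra.TensorProduct.includeRight)) b) := by
  unfold Ideal.Fiber.algEquivAux₂
  simp
  have h1 : (Ideal.Fiber.algEquivAux₁ (S := B) p) (1 ⊗ₜ[A] b) = algebraMap B _ b := by
    have : (1 : p.ResidueField) ⊗ₜ[A] b = algebraMap B (p.Fiber B) b := rfl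
    rw [this, AlgEquiv.commutes]
  rw [h1]
  have h2 : (algebraMap
          (Localization (Algebra.algebraMapSubmonoid B p.primeCompl) ⧸
            Ideal.map (algebraMap B (Localization (Algebra.algebraMapSubmonoid B p.primeCompl)))
              (Ideal.map (algebraMap A B) p))
          (Localization.AtPrime (Ideal.comap (Ideal.Fiber.algEquivAux₁ p).symm Q)))
        ((algebraMap B
            (Localization (Algebra.algebraMapSubmonoid B p.primeCompl) ⧸
              Ideal.map (algebraMap B (Localization (Algebra.algebraMapSubmonoid B p.primeCompl)))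
                (Ideal.map (algebraMap A B) p)))
          b) = algebraMap (B ⧸ Ideal.map (algebraMap A B) p)
            (Localization.AtPrime (Ideal.comap (Ideal.Fiber.algEquivAux₁ p).symm Q))
            (Ideal.Quotient.mk _ b) := by
    rw [← IsScalarTower.algebraMap_apply, ← Ideal.Quotient.algebraMap_eq,
      ← IsScalarTower.algebraMap_apply]
  rw [h2]
  simp only [IsLocalization.map_eq]
  rfl

theorem comap_includeRight_comap :
    (Q.comap (Algebra.TensorProduct.includeRight : B →ₐ[A] p.Fiber B)).comap (algebraMap A B) =
      p := by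
  have h0 := (Ideal.LiesOver.over (p := p) (P := Q))
  refine Eq.trans ?_ h0.symm
  ext x
  simp only [Ideal.mem_comap, Ideal.under]
  have h1 : (Algebra.TensorProduct.includeRight (R := A) (A := p.ResidueField)
      (B := B)) (algebraMap A B x) = algebraMap A (p.Fiber B) x := by
    simp only [Algebra.algebraMap_eq_smul_one, map_smul, map_one]
  rw [h1]

/-- the local ring of the fibre ring at a prime is the fibre local ring, as algebras over `B` -/
noncomputable def fibLocAlgEquiv (q : Ideal B) [q.IsPrime]
    (hq : Q.comap (Algebra.TensorProduct.includeRight : B →ₐ[A] p.Fiber B) = q) :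
    Localization.AtPrime Q ≃ₐ[B] EGA4.FibLocRing A B q := by
  subst hq
  have hover := comap_includeRight_comap A B p Q
  let e0 : (Localization.AtPrime (Q.comap (Algebra.TensorProduct.includeRight :
        B →ₐ[A] p.Fiber B)) ⧸ (p.map (algebraMap A B)).map (algebraMap B
          (Localization.AtPrime (Q.comap (Algebra.TensorProduct.includeRight :
            B →ₐ[A] p.Fiber B))))) ≃+*
      EGA4.FibLocRing A B (Q.comap (Algebra.TensorProduct.includeRight : B →ₐ[A] p.Fiber B)) :=
    Ideal.quotEquivOfEq (by rw [hover, Ideal.map_map, ← IsScalarTower.algebraMap_eq])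
  refine AlgEquiv.ofRingEquiv
    (f := (Ideal.Fiber.algEquivAux₂ (S := B) p Q).toRingEquiv.trans e0) ?_
  intro b
  have h1 : algebraMap B (Localization.AtPrime Q) b =
      algebraMap (p.Fiber B) (Localization.AtPrime Q) (1 ⊗ₜ b) := rfl
  rw [h1]
  show e0 ((Ideal.Fiber.algEquivAux₂ p Q) _) = _
  rw [algEquivAux₂_tmul]
  rfl

end

end Groth.Agent.Helper5.FibMod
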