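import Mathlib
import Groth.Prelude
import Groth.Agent.Helper5.FibModB
import Groth.Agent.Helper2.FibBC1

/-!
# FibModC: invariance of fibrewise module properties under base change (ring level)
-/

set_option autoImplicit false
set_option linter.style.haveILetI false
set_option linter.unusedSectionVars false
set_option linter.unusedVariables false
universe u

namespace Groth.Agent.Helper5.FibMod

open TensorProduct IsLocalRing

variable (Pr : LocModProp.{u})

section Gen

variable (Pi : LocModIso.{u})

variable (C C' : Type u) [CommRing C] [CommRing C'] [Algebra C C'] (Q' : Ideal C') [Q'.IsPrime]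
  (N : Type u) [AddCommGroup N] [Module C N]

/-- localizing a base change, in terms of tensor products -/
theorem locTensor_iff :
    Pi.P (Localization.AtPrime Q') (LocalizedModule Q'.primeCompl (C' ⊗[C] N)) ↔
      Pi.P (Localization.AtPrime Q') (Localization.AtPrime Q' ⊗[C] N) := by
  refine Pi.lin_iff _ _ _ ?_
  exact (LocalizedModule.equivTensorProduct Q'.primeCompl (C' ⊗[C] N)).trans
    (TensorProduct.AlgebraTensorModule.cancelBaseChange C C' (Localization.AtPrime Q')
      (Localization.AtPrime Q') N)

theorem congr_prime (I J : Ideal C) [I.IsPrime] [J.IsPrime] (h : I = J) :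
    Pi.P (Localization.AtPrime I) (LocalizedModule I.primeCompl N) ↔
      Pi.P (Localization.AtPrime J) (LocalizedModule J.primeCompl N) := by
  subst h
  rfl

end Gen

section BC2

/-- field extension invariance, for an abstract base change of the algebra -/
theorem bc2 (k k' C C' : Type u) [Field k] [Field k'] [Algebra k k'] [CommRing C] [CommRing C']
    [Algebra k C] [Algebra k C'] [Algebra k' C'] [Algebra C C'] [IsScalarTower k k' C']
    [IsScalarTower k C C'] [Algebra.FiniteType k C] [Algebra.IsPushout k C k' C']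
    (N : Type u) [AddCommGroup N] [Module C N] [Module.Finite C N]
    (Q' : Ideal C') [Q'.IsPrime] :
    Pr.P (Localization.AtPrime Q') (LocalizedModule Q'.primeCompl (C' ⊗[C] N)) ↔
      Pr.P (Localization.AtPrime (Q'.comap (algebraMap C C')))
        (LocalizedModule (Q'.comap (algebraMap C C')).primeCompl N) := by
  let e : C ⊗[k] k' ≃ₐ[C] C' := Algebra.IsPushout.equiv k C k' C'
  set Q'' : Ideal (C ⊗[k] k') := Q'.comap e with hQ''
  haveI : Q''.IsPrime := Ideal.comap_isPrime _ _
  let eL : Localization.AtPrime Q'' ≃ₐ[C] Localization.AtPrime Q' :=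
    Localization.localAlgEquiv Q'' Q' e rfl
  have hcomap : Q''.comap (algebraMap C (C ⊗[k] k')) = Q'.comap (algebraMap C C') := by
    rw [hQ'']
    ext c
    simp only [Ideal.mem_comap]
    rw [e.commutes c]
  rw [locTensor_iff Pr.toLocModIso C C' Q' N, ← Pr.tensor_algEquiv C _ _ eL N,
    ← locTensor_iff Pr.toLocModIso C (C ⊗[k] k') Q'' N, Pr.field k k' C N Q'']
  exact congr_prime Pr.toLocModIso C N _ _ hcomap

end BC2

section Phi

open Groth.Agent.Helper2.FibBC

variable (A B A' B' k k' : Type u) [CommRing A] [CommRing B] [CommRing A'] [CommRing B']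
  [CommRing k] [CommRing k']
  [Algebra A B] [Algebra A A'] [Algebra B B'] [Algebra A' B'] [Algebra A B']
  [IsScalarTower A B B'] [IsScalarTower A A' B'] [Algebra.IsPushout A B A' B']
  [Algebra A k] [Algebra A' k'] [Algebra k k'] [Algebra A k'] [IsScalarTower A k k']
  [IsScalarTower A A' k']

attribute [local instance] Algebra.TensorProduct.rightAlgebra

theorem tower_phi :
    letI := (phi A B A' B' k k').toRingHom.toAlgebra
    IsScalarTower k (k ⊗[A] B) (k' ⊗[A'] B') := by
  letI algCC' : Algebra (k ⊗[A] B) (k' ⊗[A'] B') := (phi A B A' B' k k').toRingHom.toAlgebra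
  refine IsScalarTower.of_algebraMap_eq fun x => ?_
  show _ = phi A B A' B' k k' (x ⊗ₜ 1)
  rw [phi_tmul, map_one]
  rfl

/-- the fibre ring of the base change is the base change of the fibre ring (after helper2) -/
theorem isPushout_phi :
    letI := (phi A B A' B' k k').toRingHom.toAlgebra
    haveI := tower_phi A B A' B' k k'
    Algebra.IsPushout k (k ⊗[A] B) k' (k' ⊗[A'] B') := by
  letI algBC' : Algebra B (k' ⊗[A'] B') :=
    ((algebraMap B' (k' ⊗[A'] B')).comp (algebraMap B B')).toAlgebra
  haveI : IsScalarTower B B' (k' ⊗[A'] B') := IsScalarTower.of_algebraMap_eq fun _ => rfl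
  haveI : IsScalarTower A B' (k' ⊗[A'] B') := by
    refine IsScalarTower.of_algebraMap_eq' ?_
    have h1 := IsScalarTower.algebraMap_eq A A' (k' ⊗[A'] B')
    have h2 := IsScalarTower.algebraMap_eq A' B' (k' ⊗[A'] B')
    have h3 := IsScalarTower.algebraMap_eq A A' B'
    rw [h1, h2, RingHom.comp_assoc, ← h3]
  haveI : IsScalarTower A B (k' ⊗[A'] B') := by
    refine IsScalarTower.of_algebraMap_eq' ?_
    have h1 := IsScalarTower.algebraMap_eq A B' (k' ⊗[A'] B')
    have h2 := IsScalarTower.algebraMap_eq A B B'
    rw [h1, h2, ← RingHom.comp_assoc]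
    rfl
  have hP1 : Algebra.IsPushout A k' B (k' ⊗[A'] B') := by
    haveI : Algebra.IsPushout A A' B B' := Algebra.IsPushout.symm inferInstance
    exact (Algebra.IsPushout.comp_iff A A' B (S' := B') (T := k')
      (T' := k' ⊗[A'] B')).2 inferInstance
  letI algCC' : Algebra (k ⊗[A] B) (k' ⊗[A'] B') := (phi A B A' B' k k').toRingHom.toAlgebra
  haveI : IsScalarTower k k' (k' ⊗[A'] B') := inferInstance
  haveI t1 : IsScalarTower k (k ⊗[A] B) (k' ⊗[A'] B') := tower_phi A B A' B' k k'
  haveI : IsScalarTower A (k ⊗[A] B) (k' ⊗[A'] B') := by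
    refine IsScalarTower.of_algebraMap_eq fun x => ?_
    exact ((phi A B A' B' k k').commutes x).symm
  haveI t2 : IsScalarTower B (k ⊗[A] B) (k' ⊗[A'] B') := by
    refine IsScalarTower.of_algebraMap_eq fun x => ?_
    show _ = phi A B A' B' k k' (1 ⊗ₜ x)
    rw [phi_tmul, map_one]
    rfl
  have hP2 : Algebra.IsPushout k k' (k ⊗[A] B) (k' ⊗[A'] B') :=
    (Algebra.IsPushout.comp_iff A k B (S' := k ⊗[A] B) (T := k')
      (T' := k' ⊗[A'] B')).1 hP1
  exact Algebra.IsPushout.symm hP2

end Phi

section BC

open Groth.Agent.Helper2.FibBC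

variable (A B A' B' : Type u) [CommRing A] [CommRing B] [CommRing A'] [CommRing B']
  [Algebra A B] [Algebra A A'] [Algebra B B'] [Algebra A' B'] [Algebra A B']
  [IsScalarTower A B B'] [IsScalarTower A A' B'] [Algebra.IsPushout A B A' B']
  [Algebra.FiniteType A B]
  (M : Type u) [AddCommGroup M] [Module B M] [Module.Finite B M]

attribute [local instance] Algebra.TensorProduct.rightAlgebra

set_option maxHeartbeats 1600000 in
/-- base change invariance, in terms of primes of the fibre rings -/
theorem bc_aux (p' : Ideal A') [p'.IsPrime] (Q' : Ideal (p'.Fiber B')) [Q'.IsPrime] :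
    Pr.P (EGA4.FibLocRing A' B' (Q'.comap (Algebra.TensorProduct.includeRight (R := A')
        (A := p'.ResidueField) (B := B'))))
      ((EGA4.FibLocRing A' B' (Q'.comap (Algebra.TensorProduct.includeRight (R := A')
        (A := p'.ResidueField) (B := B')))) ⊗[B'] (B' ⊗[B] M)) ↔
    Pr.P (EGA4.FibLocRing A B ((Q'.comap (Algebra.TensorProduct.includeRight (R := A')
        (A := p'.ResidueField) (B := B'))).comap (algebraMap B B')))
      ((EGA4.FibLocRing A B ((Q'.comap (Algebra.TensorProduct.includeRight (R := A')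
        (A := p'.ResidueField) (B := B'))).comap (algebraMap B B'))) ⊗[B] M) := by
  letI algkk : Algebra (p'.comap (algebraMap A A')).ResidueField p'.ResidueField :=
    (Ideal.ResidueField.mapₐ (p'.comap (algebraMap A A')) p' (Algebra.ofId A A')
      rfl).toRingHom.toAlgebra
  haveI : IsScalarTower A (p'.comap (algebraMap A A')).ResidueField p'.ResidueField :=
    IsScalarTower.of_algebraMap_eq fun x =>
      ((Ideal.ResidueField.mapₐ (p'.comap (algebraMap A A')) p' (Algebra.ofId A A')
        rfl).commutes x).symm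
  letI algCC : Algebra ((p'.comap (algebraMap A A')).Fiber B) (p'.Fiber B') :=
    (phi A B A' B' (p'.comap (algebraMap A A')).ResidueField p'.ResidueField).toRingHom.toAlgebra
  haveI t1 := tower_phi A B A' B' (p'.comap (algebraMap A A')).ResidueField p'.ResidueField
  haveI hpo := isPushout_phi A B A' B' (p'.comap (algebraMap A A')).ResidueField p'.ResidueField
  letI algBC' : Algebra B (p'.Fiber B') :=
    ((algebraMap B' (p'.Fiber B')).comp (algebraMap B B')).toAlgebra
  haveI : IsScalarTower B B' (p'.Fiber B') := IsScalarTower.of_algebraMap_eq fun _ => rfl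
  haveI t2 : IsScalarTower B ((p'.comap (algebraMap A A')).Fiber B) (p'.Fiber B') := by
    refine IsScalarTower.of_algebraMap_eq fun x => ?_
    show _ = phi A B A' B' _ _ (1 ⊗ₜ x)
    rw [phi_tmul, map_one]
    rfl
  set p := p'.comap (algebraMap A A') with hp
  set Q : Ideal (p.Fiber B) := Q'.comap (algebraMap (p.Fiber B) (p'.Fiber B')) with hQ
  haveI : Q.IsPrime := Ideal.comap_isPrime _ _
  have hq : (Q'.comap (Algebra.TensorProduct.includeRight (R := A')
        (A := p'.ResidueField) (B := B'))).comap (algebraMap B B') =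
      Q.comap (Algebra.TensorProduct.includeRight (R := A) (A := p.ResidueField) (B := B)) := by
    ext b
    simp only [Ideal.mem_comap, hQ]
    have : algebraMap (p.Fiber B) (p'.Fiber B')
        ((Algebra.TensorProduct.includeRight (R := A) (A := p.ResidueField) (B := B)) b) =
        (Algebra.TensorProduct.includeRight (R := A')
        (A := p'.ResidueField) (B := B')) (algebraMap B B' b) := by
      show phi A B A' B' p.ResidueField p'.ResidueField (1 ⊗ₜ b) = _
      rw [phi_tmul, map_one]
      rfl
    rw [this]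
  haveI : Algebra.FiniteType p.ResidueField (p.Fiber B) := inferInstance
  haveI : Module.Finite (p.Fiber B) ((p.Fiber B) ⊗[B] M) := inferInstance
  -- step 1: pass to the local ring of the fibre ring
  rw [Pr.tensor_algEquiv B' _ (Localization.AtPrime Q') (fibLocAlgEquiv A' B' p' Q' _ rfl).symm,
    Pr.tensor_algEquiv B _ (Localization.AtPrime Q) (fibLocAlgEquiv A B p Q _ hq.symm).symm]
  haveI t3 : IsScalarTower B (p.Fiber B) (Localization.AtPrime Q') := by
    refine IsScalarTower.of_algebraMap_eq fun x => ?_
    rw [IsScalarTower.algebraMap_apply B (p'.Fiber B') (Localization.AtPrime Q'),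
      IsScalarTower.algebraMap_apply (p.Fiber B) (p'.Fiber B') (Localization.AtPrime Q'),
      ← IsScalarTower.algebraMap_apply B (p.Fiber B) (p'.Fiber B')]
  haveI t4 : IsScalarTower B B' (Localization.AtPrime Q') := by
    refine IsScalarTower.of_algebraMap_eq fun x => ?_
    rw [IsScalarTower.algebraMap_apply B (p'.Fiber B') (Localization.AtPrime Q'),
      IsScalarTower.algebraMap_apply B' (p'.Fiber B') (Localization.AtPrime Q'),
      ← IsScalarTower.algebraMap_apply B B' (p'.Fiber B')]
  have h1 : Pr.P (Localization.AtPrime Q') (Localization.AtPrime Q' ⊗[B'] (B' ⊗[B] M)) ↔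
      Pr.P (Localization.AtPrime Q') (Localization.AtPrime Q' ⊗[B] M) :=
    Pr.lin_iff _ _ _ (TensorProduct.AlgebraTensorModule.cancelBaseChange B B'
      (Localization.AtPrime Q') (Localization.AtPrime Q') M)
  have h2 : Pr.P (Localization.AtPrime Q') (Localization.AtPrime Q' ⊗[p.Fiber B]
        ((p.Fiber B) ⊗[B] M)) ↔
      Pr.P (Localization.AtPrime Q') (Localization.AtPrime Q' ⊗[B] M) :=
    Pr.lin_iff _ _ _ (TensorProduct.AlgebraTensorModule.cancelBaseChange B (p.Fiber B)
      (Localization.AtPrime Q') (Localization.AtPrime Q') M)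
  have h3 := locTensor_iff Pr.toLocModIso (p.Fiber B) (p'.Fiber B') Q' ((p.Fiber B) ⊗[B] M)
  have h4 := bc2 Pr p.ResidueField p'.ResidueField (p.Fiber B) (p'.Fiber B')
    ((p.Fiber B) ⊗[B] M) Q'
  have h5 := locTensor_iff Pr.toLocModIso B (p.Fiber B) Q M
  exact h1.trans (h2.symm.trans (h3.symm.trans (h4.trans h5)))

omit [Algebra A B'] [IsScalarTower A B B'] [IsScalarTower A A' B'] [Algebra.IsPushout A B A' B']
  [Algebra.FiniteType A B] [Algebra A A'] [Algebra B B'] in
/-- every prime comes from a prime of a fibre ring -/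
theorem exists_fibre_prime (q' : Ideal B') [q'.IsPrime] :
    ∃ (p' : Ideal A') (_ : p'.IsPrime) (Q' : Ideal (p'.Fiber B')) (_ : Q'.IsPrime),
      Q'.comap (Algebra.TensorProduct.includeRight (R := A') (A := p'.ResidueField) (B := B')) =
        q' := by
  have hmem : q' ∈ (q'.comap (algebraMap A' B')).primesOver B' := ⟨inferInstance, ⟨rfl⟩⟩
  let Q'' := PrimeSpectrum.primesOverOrderIsoFiber A' B' (q'.comap (algebraMap A' B')) ⟨q', hmem⟩
  have hQ : Q''.asIdeal.comap (Algebra.TensorProduct.includeRight (R := A')
        (A := (q'.comap (algebraMap A' B')).ResidueField) (B := B')) = q' := by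
    have h1 := PrimeSpectrum.coe_primesOverOrderIsoFiber_symm_apply
      (R := A') (S := B') (p := q'.comap (algebraMap A' B')) Q''
    rw [OrderIso.symm_apply_apply] at h1
    exact h1.symm
  exact ⟨q'.comap (algebraMap A' B'), inferInstance, Q''.asIdeal, Q''.2, hQ⟩

/-- **base change invariance** of a fibrewise property of a module -/
theorem bc (q' : Ideal B') [q'.IsPrime] :
    Pr.P (EGA4.FibLocRing A' B' q') ((EGA4.FibLocRing A' B' q') ⊗[B'] (B' ⊗[B] M)) ↔
      Pr.P (EGA4.FibLocRing A B (q'.comap (algebraMap B B')))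
        ((EGA4.FibLocRing A B (q'.comap (algebraMap B B'))) ⊗[B] M) := by
  obtain ⟨p', hp', Q', hQ', hq⟩ := exists_fibre_prime A' B' q'
  subst hq
  exact bc_aux Pr A B A' B' M p' Q'

end BC

end Groth.Agent.Helper5.FibMod
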