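import Mathlib
import Groth.Prelude
import Groth.Agent.Helper5.FibModC
import Groth.Agent.Helper5.FibStalk
import Groth.Agent.Helper4.StalkDict
import Groth.Agent.Lead.StalkPull2

/-!
# FibModD: the pair (local ring of the fibre, stalk of the restriction of a module to the fibre)
in terms of rings of sections over affine opens
-/

set_option autoImplicit false
set_option linter.style.haveILetI false
set_option linter.unusedSectionVars false
set_option linter.unusedVariables false
universe u

namespace Groth.Agent.Helper5.FibMod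

open CategoryTheory CategoryTheory.Limits AlgebraicGeometry TopologicalSpace TensorProduct
open IsLocalRing
open Groth.Agent.Helper4.StalkDict

variable (Pr : LocModIso.{u})

section Alg

/-- a quotient of a localization by the extension of the contracted prime, as an algebra:
uniqueness up to isomorphism -/
theorem nonempty_fibLocRing_algEquiv (A B R Rz : Type u) [CommRing A] [CommRing B] [CommRing R]
    [CommRing Rz] [Algebra A B] [Algebra B R] [Algebra R Rz] [Algebra B Rz]
    [IsScalarTower B R Rz] (q : Ideal B) [q.IsPrime] [IsLocalization.AtPrime R q]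
    (hsurj : Function.Surjective (algebraMap R Rz))
    (hker : RingHom.ker (algebraMap R Rz) =
      (q.comap (algebraMap A B)).map ((algebraMap B R).comp (algebraMap A B))) :
    Nonempty (Rz ≃ₐ[B] EGA4.FibLocRing A B q) := by
  let ψ₀ : Localization.AtPrime q ≃ₐ[B] R :=
    IsLocalization.algEquiv q.primeCompl (Localization.AtPrime q) R
  let ψ : Localization.AtPrime q →ₐ[B] Rz := (IsScalarTower.toAlgHom B R Rz).comp ψ₀.toAlgHom
  have hψs : Function.Surjective ψ := hsurj.comp ψ₀.surjective
  have hψk : RingHom.ker ψ.toRingHom =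
      (q.comap (algebraMap A B)).map (algebraMap A (Localization.AtPrime q)) := by
    ext y
    rw [RingHom.mem_ker]
    show algebraMap R Rz (ψ₀ y) = 0 ↔ _
    rw [← RingHom.mem_ker, hker]
    have h1 : (q.comap (algebraMap A B)).map ((algebraMap B R).comp (algebraMap A B)) =
        ((q.comap (algebraMap A B)).map (algebraMap A (Localization.AtPrime q))).map
          ψ₀.toAlgHom.toRingHom := by
      rw [Ideal.map_map]
      congr 1
      ext a
      simp only [RingHom.comp_apply]
      rw [IsScalarTower.algebraMap_apply A B (Localization.AtPrime q)]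
      exact (ψ₀.commutes _).symm
    rw [h1]
    constructor
    · intro hy
      obtain ⟨y', hy', hyy'⟩ := (Ideal.mem_map_iff_of_surjective ψ₀.toAlgHom.toRingHom
        ψ₀.surjective).1 hy
      have : y' = y := ψ₀.injective hyy'
      rw [← this]
      exact hy'
    · intro hy
      exact Ideal.mem_map_of_mem _ hy
  let e1 : (Localization.AtPrime q ⧸ RingHom.ker ψ.toRingHom) ≃ₐ[B] Rz :=
    Ideal.quotientKerAlgEquivOfSurjective hψs
  let e2 : (Localization.AtPrime q ⧸ RingHom.ker ψ.toRingHom) ≃ₐ[B] EGA4.FibLocRing A B q :=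
    Ideal.quotientEquivAlgOfEq B hψk
  exact ⟨e1.symm.trans e2⟩

end Alg

section Geom

variable {X Y : Scheme.{u}} (f : X ⟶ Y) (F : X.Modules) [F.IsQuasicoherent]

set_option maxHeartbeats 1600000 in
/-- **the dictionary**: the pair at a point of a fibre, in terms of rings and modules of sections
over affine opens -/
theorem fibre_pair_iff (s : Y) (z : ↥(f.fiber s)) {U : X.Opens} (hU : IsAffineOpen U)
    {V : Y.Opens} (hV : IsAffineOpen V) (e : U ≤ f ⁻¹ᵁ V) (hzU : f.fiberι s z ∈ U) :
    letI : Algebra Γ(Y, V) Γ(X, U) := (f.appLE V U e).hom.toAlgebra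
    Pr.P ((f.fiber s).presheaf.stalk z)
        (((Scheme.Modules.pullback (f.fiberι s)).obj F).presheaf.stalk z) ↔
      Pr.P (EGA4.FibLocRing Γ(Y, V) Γ(X, U) (hU.primeIdealOf ⟨f.fiberι s z, hzU⟩).asIdeal)
        ((EGA4.FibLocRing Γ(Y, V) Γ(X, U) (hU.primeIdealOf ⟨f.fiberι s z, hzU⟩).asIdeal)
          ⊗[Γ(X, U)] Γ(F, U)) := by
  letI algAB : Algebra Γ(Y, V) Γ(X, U) := (f.appLE V U e).hom.toAlgebra
  set x : X := f.fiberι s z with hx
  set q : Ideal Γ(X, U) := (hU.primeIdealOf ⟨x, hzU⟩).asIdeal with hq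
  letI algRRz : Algebra (X.presheaf.stalk x) ((f.fiber s).presheaf.stalk z) :=
    ((f.fiberι s).stalkMap z).hom.toAlgebra
  obtain ⟨E⟩ := Groth.Agent.Lead.StalkPull.nonempty_stalk_pullback_equiv (f.fiberι s) F z
  letI algBR : Algebra Γ(X, U) (X.presheaf.stalk x) := X.presheaf.algebra_section_stalk ⟨x, hzU⟩
  haveI locR : IsLocalization.AtPrime (X.presheaf.stalk x) q := hU.isLocalization_stalk ⟨x, hzU⟩
  letI modBF : Module Γ(X, U) (F.presheaf.stalk x) := sectionModStalk F x hzU
  haveI : IsScalarTower Γ(X, U) (X.presheaf.stalk x) (F.presheaf.stalk x) :=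
    IsScalarTower.of_algebraMap_smul (fun _ _ => rfl)
  haveI := isLocalizedModule_germ hU F x hzU
  have hbc : IsBaseChange (X.presheaf.stalk x) (germLin F x hzU) :=
    IsLocalizedModule.isBaseChange q.primeCompl (X.presheaf.stalk x) _
  letI algBRz : Algebra Γ(X, U) ((f.fiber s).presheaf.stalk z) :=
    ((algebraMap (X.presheaf.stalk x) ((f.fiber s).presheaf.stalk z)).comp
      (algebraMap Γ(X, U) (X.presheaf.stalk x))).toAlgebra
  haveI : IsScalarTower Γ(X, U) (X.presheaf.stalk x) ((f.fiber s).presheaf.stalk z) :=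
    IsScalarTower.of_algebraMap_eq (fun _ => rfl)
  let e2 : ((f.fiber s).presheaf.stalk z) ⊗[X.presheaf.stalk x] (F.presheaf.stalk x) ≃ₗ[
      (f.fiber s).presheaf.stalk z] ((f.fiber s).presheaf.stalk z) ⊗[Γ(X, U)] Γ(F, U) :=
    (TensorProduct.AlgebraTensorModule.congr (LinearEquiv.refl _ _) hbc.equiv.symm).trans
      (TensorProduct.AlgebraTensorModule.cancelBaseChange Γ(X, U) (X.presheaf.stalk x)
        ((f.fiber s).presheaf.stalk z) ((f.fiber s).presheaf.stalk z) Γ(F, U))
  rw [Pr.lin_iff _ _ _ (E.trans e2)]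
  have hs9501 := Groth.Agent.Helper5.FibStalk.s9501 f s z
  have hVx : f x ∈ V := e hzU
  letI algAS : Algebra Γ(Y, V) (Y.presheaf.stalk (f x)) :=
    Y.presheaf.algebra_section_stalk ⟨f x, hVx⟩
  haveI locS : IsLocalization.AtPrime (Y.presheaf.stalk (f x))
      (hV.primeIdealOf ⟨f x, hVx⟩).asIdeal := hV.isLocalization_stalk ⟨f x, hVx⟩
  have hcomm : (f.stalkMap x).hom.comp (algebraMap Γ(Y, V) (Y.presheaf.stalk (f x))) =
      (algebraMap Γ(X, U) (X.presheaf.stalk x)).comp (algebraMap Γ(Y, V) Γ(X, U)) := by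
    ext r
    show (f.stalkMap x).hom (Y.presheaf.germ V (f x) hVx r) =
      (X.presheaf.germ U x hzU) ((f.appLE V U e).hom r)
    rw [Scheme.Hom.germ_stalkMap_apply, Scheme.Hom.appLE, CommRingCat.comp_apply,
      TopCat.Presheaf.germ_res_apply]
  have hpY : (hV.primeIdealOf ⟨f x, hVx⟩).asIdeal = q.comap (algebraMap Γ(Y, V) Γ(X, U)) := by
    have h1 : (hV.primeIdealOf ⟨f x, hVx⟩).asIdeal =
        (maximalIdeal (Y.presheaf.stalk (f x))).comap
          (algebraMap Γ(Y, V) (Y.presheaf.stalk (f x))) :=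
      (IsLocalization.AtPrime.under_maximalIdeal (Y.presheaf.stalk (f x))
        (hV.primeIdealOf ⟨f x, hVx⟩).asIdeal).symm
    have h2 : q = (maximalIdeal (X.presheaf.stalk x)).comap
        (algebraMap Γ(X, U) (X.presheaf.stalk x)) :=
      (IsLocalization.AtPrime.under_maximalIdeal (X.presheaf.stalk x) q).symm
    have h3 : (maximalIdeal (X.presheaf.stalk x)).comap (f.stalkMap x).hom =
        maximalIdeal (Y.presheaf.stalk (f x)) :=
      ((IsLocalRing.local_hom_TFAE (f.stalkMap x).hom).out 0 4).1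
        (inferInstance : IsLocalHom (f.stalkMap x).hom)
    rw [h1, h2, Ideal.comap_comap, ← hcomm, ← Ideal.comap_comap, h3]
  have hker : RingHom.ker (algebraMap (X.presheaf.stalk x) ((f.fiber s).presheaf.stalk z)) =
      (q.comap (algebraMap Γ(Y, V) Γ(X, U))).map
        ((algebraMap Γ(X, U) (X.presheaf.stalk x)).comp (algebraMap Γ(Y, V) Γ(X, U))) := by
    have h1 : RingHom.ker (algebraMap (X.presheaf.stalk x) ((f.fiber s).presheaf.stalk z)) =
        Ideal.map (f.stalkMap x).hom (maximalIdeal (Y.presheaf.stalk (f x))) := hs9501.2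
    rw [h1, ← IsLocalization.AtPrime.map_eq_maximalIdeal (hV.primeIdealOf ⟨f x, hVx⟩).asIdeal
      (Y.presheaf.stalk (f x)), Ideal.map_map, hcomm, hpY]
  obtain ⟨eT⟩ := nonempty_fibLocRing_algEquiv Γ(Y, V) Γ(X, U) (X.presheaf.stalk x)
    ((f.fiber s).presheaf.stalk z) q hs9501.1 hker
  exact Pr.tensor_algEquiv Γ(X, U) _ _ eT Γ(F, U)

end Geom

end Groth.Agent.Helper5.FibMod
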