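import Mathlib
import Groth.Prelude
import Groth.Agent.Helper5.FibModD
import Groth.Agent.Lead.FD21
import Groth.Agent.Helper4.FPGlue
import Groth.Agent.Helper5.AffFlat1

/-!
# FibModE: openness of fibrewise module properties, from the Noetherian ring case
-/

set_option autoImplicit false
set_option linter.style.haveILetI false
set_option linter.unusedSectionVars false
set_option linter.unusedVariables false
universe u

namespace Groth.Agent.Helper5.FibMod

open CategoryTheory CategoryTheory.Limits AlgebraicGeometry TopologicalSpace TensorProduct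
open IsLocalRing

variable (Pr : LocModProp.{u})

/-- the ring-level openness statement over Noetherian bases -/
def RingOpenMod : Prop :=
  ∀ (A B : Type u) [CommRing A] [CommRing B] [IsNoetherianRing A] [Algebra A B]
    [Algebra.FiniteType A B] (M : Type u) [AddCommGroup M] [Module B M] [Module A M]
    [IsScalarTower A B M] [Module.Finite B M] [Module.Flat A M],
    IsOpen {q : PrimeSpectrum B | Pr.P (EGA4.FibLocRing A B q.asIdeal)
      (EGA4.FibLocMod A B q.asIdeal M)}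

set_option maxHeartbeats 1600000 in
/-- openness over an arbitrary base, ring version -/
theorem isOpen_ring (hN : RingOpenMod Pr) (A B : Type u) [CommRing A] [CommRing B] [Algebra A B]
    [Algebra.FinitePresentation A B] (M : Type u) [AddCommGroup M] [Module B M] [Module A M]
    [IsScalarTower A B M] [Module.FinitePresentation B M] [Module.Flat A M] :
    IsOpen {q : PrimeSpectrum B | Pr.P (EGA4.FibLocRing A B q.asIdeal)
      ((EGA4.FibLocRing A B q.asIdeal) ⊗[B] M)} := by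
  obtain ⟨C₀, D₀, _, _, _, α, β, M₀, _, _, _, _, hpo, hft, hφft, hfin, ⟨eN⟩, hflat⟩ :=
    Groth.Agent.Lead.FD21.exists_noeth_model_module (A := A) (B := B) M
  haveI := hφft
  haveI := hfin
  haveI : Module.Flat C₀ M₀ := hflat inferInstance
  haveI : IsNoetherianRing C₀ := Algebra.FiniteType.isNoetherianRing ℤ C₀
  letI algCA : Algebra C₀ A := α.toAlgebra
  letI algDB : Algebra D₀ B := β.toAlgebra
  letI algCB : Algebra C₀ B := ((algebraMap A B).comp α).toAlgebra
  haveI : IsScalarTower C₀ A B := IsScalarTower.of_algebraMap_eq (fun _ => rfl)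
  haveI : IsScalarTower C₀ D₀ B := by
    refine IsScalarTower.of_algebraMap_eq (fun c => ?_)
    have := congrArg (fun φ => φ.hom c) hpo.w
    exact this.symm
  haveI : Algebra.IsPushout C₀ D₀ A B := CommRingCat.isPushout_iff_isPushout.mp hpo
  have h0 := hN C₀ D₀ M₀
  have hEq : {q : PrimeSpectrum B | Pr.P (EGA4.FibLocRing A B q.asIdeal)
      ((EGA4.FibLocRing A B q.asIdeal) ⊗[B] M)} =
      PrimeSpectrum.comap (algebraMap D₀ B) ⁻¹' {q : PrimeSpectrum D₀ |
        Pr.P (EGA4.FibLocRing C₀ D₀ q.asIdeal) (EGA4.FibLocMod C₀ D₀ q.asIdeal M₀)} := by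
    ext q
    simp only [Set.mem_ofPred_eq, Set.mem_preimage]
    rw [← fibLocMod_iff Pr.toLocModIso C₀ D₀ _ M₀]
    have h1 := bc Pr C₀ D₀ A B M₀ q.asIdeal
    refine Iff.trans ?_ h1
    exact Pr.lin_iff _ _ _ (TensorProduct.AlgebraTensorModule.congr (LinearEquiv.refl _ _) eN)
  rw [hEq]
  exact h0.preimage (PrimeSpectrum.continuous_comap _)

/-- the property holds for the pair at `x` -/
def FibModAt (Pi : LocModIso.{u}) {X Y : Scheme.{u}} (f : X ⟶ Y) (F : X.Modules) (x : X) : Prop :=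
  Pi.P ((f.fiber (f.base x)).presheaf.stalk (f.asFiber x))
    (((Scheme.Modules.pullback (f.fiberι (f.base x))).obj F).presheaf.stalk (f.asFiber x))

theorem primeIdealOf_congr {X : Scheme.{u}} {U : X.Opens} (hU : IsAffineOpen U) (x x' : X)
    (h : x' = x) (hx : x ∈ U) (hx' : x' ∈ U) :
    hU.primeIdealOf ⟨x', hx'⟩ = hU.primeIdealOf ⟨x, hx⟩ := by
  subst h
  rfl

set_option maxHeartbeats 1600000 in
/-- the affine-local description of the locus -/
theorem fibModAt_iff (Pi : LocModIso.{u}) {X Y : Scheme.{u}} (f : X ⟶ Y) (F : X.Modules) [F.IsQuasicoherent]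
    {U : X.Opens} (hU : IsAffineOpen U) {V : Y.Opens} (hV : IsAffineOpen V) (e : U ≤ f ⁻¹ᵁ V)
    (x : X) (hxU : x ∈ U) :
    letI : Algebra Γ(Y, V) Γ(X, U) := (f.appLE V U e).hom.toAlgebra
    FibModAt Pi f F x ↔
      Pi.P (EGA4.FibLocRing Γ(Y, V) Γ(X, U) (hU.primeIdealOf ⟨x, hxU⟩).asIdeal)
        ((EGA4.FibLocRing Γ(Y, V) Γ(X, U) (hU.primeIdealOf ⟨x, hxU⟩).asIdeal)
          ⊗[Γ(X, U)] Γ(F, U)) := by
  letI : Algebra Γ(Y, V) Γ(X, U) := (f.appLE V U e).hom.toAlgebra
  have hz : f.fiberι (f.base x) (f.asFiber x) = x := f.fiberι_asFiber x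
  have hzU : f.fiberι (f.base x) (f.asFiber x) ∈ U := by rw [hz]; exact hxU
  have h1 := fibre_pair_iff Pi f F (f.base x) (f.asFiber x) hU hV e hzU
  have h2 := primeIdealOf_congr hU x _ hz hxU hzU
  unfold FibModAt
  rw [h1, h2]

set_option maxHeartbeats 1600000 in
/-- **openness of a fibrewise property of a flat finitely presented module** -/
theorem isOpen_fibModAt (hN : RingOpenMod Pr) {X Y : Scheme.{u}} (f : X ⟶ Y)
    [LocallyOfFinitePresentation f] (F : X.Modules) (hF : CohB1.IsFP F)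
    (hflat : FlatMod.IsFlatOver f F) : IsOpen {x : X | FibModAt Pr.toLocModIso f F x} := by
  haveI : SheafOfModules.IsFinitePresentation (R := X.ringCatSheaf) F := hF
  haveI : F.IsQuasicoherent := inferInstance
  rw [isOpen_iff_forall_mem_open]
  intro x hx
  obtain ⟨_, ⟨V, hV, rfl⟩, hxV, -⟩ :=
    Y.isBasis_affineOpens.exists_subset_of_mem_open (Set.mem_univ (f.base x)) isOpen_univ
  let Vo : Y.Opens := V
  obtain ⟨_, ⟨U, hU, rfl⟩, hxU, hUV⟩ :=
    X.isBasis_affineOpens.exists_subset_of_mem_open (show x ∈ (f ⁻¹ᵁ Vo : Set X) from hxV)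
      (f ⁻¹ᵁ Vo).isOpen
  let Uo : X.Opens := U
  have e : Uo ≤ f ⁻¹ᵁ Vo := hUV
  have hUo : IsAffineOpen Uo := hU
  have hVo : IsAffineOpen Vo := hV
  letI algAB : Algebra Γ(Y, Vo) Γ(X, Uo) := (f.appLE Vo Uo e).hom.toAlgebra
  haveI : Algebra.FinitePresentation Γ(Y, Vo) Γ(X, Uo) :=
    RingHom.finitePresentation_algebraMap.1 <|
      HasRingHomProperty.appLE (P := @LocallyOfFinitePresentation) f inferInstance ⟨Vo, hVo⟩
        ⟨Uo, hUo⟩ e
  haveI : Module.FinitePresentation Γ(X, Uo) Γ(F, Uo) :=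
    Groth.Agent.Helper4.FPGlue.fp_sections F hF hUo
  letI modAF : Module Γ(Y, Vo) Γ(F, Uo) := Module.compHom _ (f.appLE Vo Uo e).hom
  haveI : IsScalarTower Γ(Y, Vo) Γ(X, Uo) Γ(F, Uo) :=
    IsScalarTower.of_algebraMap_smul fun r m => rfl
  haveI : Module.Flat Γ(Y, Vo) Γ(F, Uo) :=
    (Groth.Agent.Helper5.AffFlat.flat_sections_iff f F hVo hUo e).mp (fun x _ => hflat x)
  have hT := isOpen_ring Pr hN Γ(Y, Vo) Γ(X, Uo) Γ(F, Uo)
  set T : Set (PrimeSpectrum Γ(X, Uo)) := {q | Pr.P (EGA4.FibLocRing Γ(Y, Vo) Γ(X, Uo) q.asIdeal)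
      ((EGA4.FibLocRing Γ(Y, Vo) Γ(X, Uo) q.asIdeal) ⊗[Γ(X, Uo)] Γ(F, Uo))} with hTdef
  have hcont : Continuous (fun y : Uo => hUo.primeIdealOf y) := by
    have : (fun y : Uo => hUo.primeIdealOf y) = hUo.isoSpec.hom := rfl
    rw [this]
    exact hUo.isoSpec.hom.continuous
  refine ⟨Subtype.val '' ((fun y : Uo => hUo.primeIdealOf y) ⁻¹' T), ?_, ?_, ?_⟩
  · rintro _ ⟨y, hy, rfl⟩
    exact (fibModAt_iff Pr.toLocModIso f F hUo hVo e y.1 y.2).2 hy
  · exact Uo.isOpen.isOpenMap_subtype_val _ (hT.preimage hcont)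
  · exact ⟨⟨x, hxU⟩, (fibModAt_iff Pr.toLocModIso f F hUo hVo e x hxU).1 hx, rfl⟩

end Groth.Agent.Helper5.FibMod
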