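import Mathlib
import Groth.Agent.Helper5.CMBC3

set_option autoImplicit false
set_option linter.style.haveILetI false
set_option linter.unusedSectionVars false
universe u
open CategoryTheory CategoryTheory.Limits AlgebraicGeometry TopologicalSpace Topology TensorProduct

namespace Groth.Agent.Helper5.CMBC

/-- Noetherianity descends along faithfully flat ring maps -/
theorem isNoetherianRing_of_faithfullyFlat (A B : Type u) [CommRing A] [CommRing B] [Algebra A B]
    [Module.FaithfullyFlat A B] [IsNoetherianRing B] : IsNoetherianRing A := by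
  rw [isNoetherianRing_iff, isNoetherian_iff']
  let φ : Ideal A ↪o Ideal B :=
    { toFun := fun I => I.map (algebraMap A B)
      inj' := Ideal.map_injective_of_faithfullyFlat
      map_rel_iff' := by
        intro I J
        constructor
        · intro h
          have h' : I.map (algebraMap A B) ≤ J.map (algebraMap A B) := h
          have := Ideal.comap_mono (f := algebraMap A B) h'
          rwa [Ideal.comap_map_eq_self_of_faithfullyFlat,
            Ideal.comap_map_eq_self_of_faithfullyFlat] at this
        · intro h
          exact Ideal.map_mono h }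
  haveI : WellFoundedGT (Ideal B) := by
    rw [← isNoetherian_iff', ← isNoetherianRing_iff]
    infer_instance
  exact φ.wellFoundedGT

section Fields

variable (k K : Type u) [Field k] [Field K] [Algebra k K]
  {F F' : Scheme.{u}} (φ : F ⟶ Spec (CommRingCat.of k))
  (φ' : F' ⟶ Spec (CommRingCat.of K)) (ψ : F' ⟶ F)
  (H : IsPullback ψ φ' φ (Spec.map (CommRingCat.ofHom (algebraMap k K))))

include H in
/-- the base change of an affine chart of `F` is the spectrum of a tensor product -/
theorem exists_iso_tensor (R : CommRingCat.{u}) (v : Spec R ⟶ F) :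
    ∃ (_ : Algebra k R), Nonempty (pullback ψ v ≅ Spec (CommRingCat.of (R ⊗[k] K))) := by
  have sq1 : IsPullback (pullback.snd ψ v) (pullback.fst ψ v) v ψ :=
    (IsPullback.of_hasPullback ψ v).flip
  have sq2 := sq1.paste_vert H
  let θ : CommRingCat.of k ⟶ R := Spec.preimage (v ≫ φ)
  have hθ : Spec.map θ = v ≫ φ := Spec.map_preimage _
  letI alg : Algebra k R := θ.hom.toAlgebra
  refine ⟨alg, ?_⟩
  have sq3 : IsPullback (pullback.snd ψ v) (pullback.fst ψ v ≫ φ')
      (Spec.map (CommRingCat.ofHom (algebraMap k R)))
      (Spec.map (CommRingCat.ofHom (algebraMap k K))) := by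
    have : Spec.map (CommRingCat.ofHom (algebraMap k R)) = v ≫ φ := hθ
    rw [this]
    exact sq2
  exact ⟨sq3.isoPullback ≪≫ pullbackSpecIso k R K⟩

include H in
theorem isLocallyNoetherian_of_isPullback_fields [Algebra.EssFiniteType k K]
    [IsLocallyNoetherian F] : IsLocallyNoetherian F' := by
  rw [isLocallyNoetherian_iff_openCover (F.affineOpenCover.openCover.pullback₁ ψ)]
  intro i
  show IsLocallyNoetherian (pullback ψ (F.affineOpenCover.f i))
  obtain ⟨alg, ⟨e⟩⟩ := exists_iso_tensor k K φ φ' ψ H (F.affineOpenCover.X i)
    (F.affineOpenCover.f i)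
  haveI : IsLocallyNoetherian (Spec (F.affineOpenCover.X i)) :=
    isLocallyNoetherian_of_isOpenImmersion (F.affineOpenCover.f i)
  haveI : IsNoetherianRing (F.affineOpenCover.X i) := isLocallyNoetherian_Spec.mp inferInstance
  haveI : IsNoetherianRing ((F.affineOpenCover.X i) ⊗[k] K) :=
    Groth.Agent.Helper2.GeomReg.isNoetherianRing_of_essFiniteType (F.affineOpenCover.X i) _
  exact isLocallyNoetherian_of_isOpenImmersion e.hom

include H in
theorem isLocallyNoetherian_of_isPullback_fields' [IsLocallyNoetherian F'] :
    IsLocallyNoetherian F := by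
  rw [isLocallyNoetherian_iff_openCover F.affineOpenCover.openCover]
  intro i
  show IsLocallyNoetherian (Spec (F.affineOpenCover.X i))
  obtain ⟨alg, ⟨e⟩⟩ := exists_iso_tensor k K φ φ' ψ H (F.affineOpenCover.X i)
    (F.affineOpenCover.f i)
  haveI : IsLocallyNoetherian (pullback ψ (F.affineOpenCover.f i)) :=
    isLocallyNoetherian_of_isOpenImmersion (pullback.fst ψ (F.affineOpenCover.f i))
  haveI : IsLocallyNoetherian (Spec (CommRingCat.of ((F.affineOpenCover.X i) ⊗[k] K))) :=
    isLocallyNoetherian_of_isOpenImmersion e.inv
  haveI : IsNoetherianRing ((F.affineOpenCover.X i) ⊗[k] K) :=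
    (isLocallyNoetherian_Spec (R := CommRingCat.of ((F.affineOpenCover.X i) ⊗[k] K))).mp
      inferInstance
  haveI : IsNoetherianRing (F.affineOpenCover.X i) :=
    isNoetherianRing_of_faithfullyFlat (F.affineOpenCover.X i) ((F.affineOpenCover.X i) ⊗[k] K)
  exact isLocallyNoetherian_Spec.mpr inferInstance

end Fields

end Groth.Agent.Helper5.CMBC
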