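import Mathlib
import Groth.Agent.Helper5.CMBC4

set_option autoImplicit false
set_option linter.style.haveILetI false
set_option linter.unusedSectionVars false
universe u
open CategoryTheory CategoryTheory.Limits AlgebraicGeometry TopologicalSpace Topology TensorProduct

namespace Groth.Agent.Helper5.CMBC

set_option maxHeartbeats 1000000 in
/-- local Noetherianity of fibres under a base change locally of finite type -/
theorem fibre_noeth_iff {X S X' S' : Scheme.{u}} (f : X ⟶ S)
    (f' : X' ⟶ S') (g' : X' ⟶ X) (g : S' ⟶ S) [LocallyOfFiniteType g]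
    (hc : IsPullback g' f' f g) (s' : S') :
    IsLocallyNoetherian (f'.fiber s') ↔ IsLocallyNoetherian (f.fiber (g s')) := by
  let s : S := g s'
  let ρ := g.residueFieldMap s'
  have H := isPullback_fiberToSpecResidueField_of_isPullback hc s'
  letI alg : Algebra (S.residueField s) (S'.residueField s') := ρ.hom.toAlgebra
  haveI : Algebra.EssFiniteType (S.residueField s) (S'.residueField s') :=
    RingHom.EssFiniteType.residueFieldMap (LocallyOfFiniteType.stalkMap g s')
  constructor
  · intro h
    exact isLocallyNoetherian_of_isPullback_fields' (S.residueField s) (S'.residueField s')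
      (f.fiberToSpecResidueField s) (f'.fiberToSpecResidueField s') _ H
  · intro h
    exact isLocallyNoetherian_of_isPullback_fields (S.residueField s) (S'.residueField s')
      (f.fiberToSpecResidueField s) (f'.fiberToSpecResidueField s') _ H

/-- S1407 -/
theorem s1407 {X Y X' Y' : Scheme.{u}} (f : X ⟶ Y) (f' : X' ⟶ Y') (g' : X' ⟶ X) (g : Y' ⟶ Y)
    [Flat g] [LocallyOfFinitePresentation g] [Surjective g]
    (hc : IsPullback g' f' f g) :
    ((∀ y : Y, IsLocallyNoetherian (f.fiber y)) ∧ ∀ x : X, MoreMor.IsCMAt f x) ↔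
      (∀ y' : Y', IsLocallyNoetherian (f'.fiber y')) ∧ ∀ x' : X', MoreMor.IsCMAt f' x' := by
  constructor
  · rintro ⟨hN, hCM⟩
    refine ⟨fun y' => (fibre_noeth_iff f f' g' g hc y').mpr (hN _), fun x' => ?_⟩
    exact ⟨flat_stalkMap_baseChange f f' g' g hc x' (hCM _).1,
      (cm_fibre_baseChange_iff' f f' g' g hc x' (hN _)).mpr (hCM _).2⟩
  · rintro ⟨hN', hCM'⟩
    have hN : ∀ y : Y, IsLocallyNoetherian (f.fiber y) := by
      intro y
      obtain ⟨y', rfl⟩ := g.surjective y
      exact (fibre_noeth_iff f f' g' g hc y').mp (hN' y')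
    refine ⟨hN, fun x => ?_⟩
    haveI : Surjective g' := MorphismProperty.of_isPullback hc.flip inferInstance
    obtain ⟨x', rfl⟩ := g'.surjective x
    exact ⟨flat_stalkMap_of_baseChange f f' g' g hc x' (Flat.stalkMap g _) (hCM' x').1,
      (cm_fibre_baseChange_iff' f f' g' g hc x' (hN _)).mp (hCM' x').2⟩

end Groth.Agent.Helper5.CMBC
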