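import Mathlib
import Groth.Agent.Helper5.CMBC6

set_option autoImplicit false
set_option linter.style.haveILetI false
set_option linter.unusedSectionVars false
set_option linter.deprecated false
universe u
open CategoryTheory CategoryTheory.Limits AlgebraicGeometry TopologicalSpace Topology TensorProduct

namespace Groth.Agent.Helper5.CMBC

open Groth.Agent.Helper2.StalkDict

set_option maxHeartbeats 1000000 in
/-- Cohen–Macaulayness of local rings along an arbitrary field extension, for schemes locally of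
finite type -/
theorem cm_bc_iff_of_lft (k : Type u) [Field k] (X : Scheme.{u}) [X.Over (Spec (CommRingCat.of k))]
    [LocallyOfFiniteType (X ↘ Spec (CommRingCat.of k))] (k' : Type u) [Field k'] [Algebra k k']
    (x' : ↥(Curv2.bc k X k')) :
    LocCoh.IsCohenMacaulayLocalRing ((Curv2.bc k X k').presheaf.stalk x') ↔
      LocCoh.IsCohenMacaulayLocalRing (X.presheaf.stalk (Curv2.bcFst k X k' x')) := by
  set x := Curv2.bcFst k X k' x' with hx
  obtain ⟨_, ⟨U, hU, rfl⟩, hxU, -⟩ := X.isBasis_affineOpens.exists_subset_of_mem_open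
    (Set.mem_univ x) isOpen_univ
  let g : Spec Γ(X, U) ⟶ X := hU.fromSpec
  let f : X ⟶ Spec (CommRingCat.of k) := X ↘ Spec (CommRingCat.of k)
  let φ : CommRingCat.of k ⟶ Γ(X, U) := Spec.preimage (g ≫ f)
  letI : Algebra k Γ(X, U) := φ.hom.toAlgebra
  have hφ : Spec.map (CommRingCat.ofHom (algebraMap k Γ(X, U))) = g ≫ f := Spec.map_preimage _
  haveI : Algebra.FiniteType k Γ(X, U) := by
    have h1 : LocallyOfFiniteType (Spec.map φ) := by
      rw [show Spec.map φ = g ≫ f from Spec.map_preimage _]; infer_instance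
    exact (HasRingHomProperty.Spec_iff (P := @LocallyOfFiniteType)).1 h1
  obtain ⟨u', hu'⟩ : ∃ u' : ↥(Spec Γ(X, U)), g u' = x := by
    have : x ∈ Set.range g := by rw [hU.range_fromSpec]; exact hxU
    exact this
  obtain ⟨z₁, hz1, -, ⟨e1⟩⟩ := stepA f (Spec.map (CommRingCat.ofHom (algebraMap k k'))) g _ hφ x' u'
    hu'.symm
  obtain ⟨e2⟩ := nonempty_stalk_pullbackSpec_equiv k Γ(X, U) k' z₁
  have hcomap := fst_eq_comap k Γ(X, U) k' z₁
  rw [hz1] at hcomap
  set q' := ((pullbackSpecIso k Γ(X, U) k').hom z₁).asIdeal with hq'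
  obtain ⟨e3⟩ := nonempty_stalkEquiv' g u' x hu'
  have key : ∀ (I : Ideal Γ(X, U)) [I.IsPrime], u'.asIdeal = I →
      Nonempty (X.presheaf.stalk x ≃+* Localization.AtPrime I) := by
    rintro I _ rfl
    exact ⟨e3.trans (Spec.stalkIso Γ(X, U) u').commRingCatIsoToRingEquiv⟩
  obtain ⟨e4⟩ := key _ hcomap
  have hring := cm_tensor_localization_iff_of_finiteType k Γ(X, U) k' q'
  constructor
  · intro h
    have h1 : LocCoh.IsCohenMacaulayLocalRing (Localization.AtPrime q') :=
      Groth.Agent.Lead.CMCl.cm_of_ringEquiv (e1.trans e2) (h := h)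
    exact Groth.Agent.Lead.CMCl.cm_of_ringEquiv e4.symm (h := hring.1 h1)
  · intro h
    have h1 := Groth.Agent.Lead.CMCl.cm_of_ringEquiv e4 (h := h)
    exact Groth.Agent.Lead.CMCl.cm_of_ringEquiv (e1.trans e2).symm (h := hring.2 h1)

end Groth.Agent.Helper5.CMBC
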