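import Mathlib
import Groth.Prelude
import Groth.Agent.Helper3.GorBC2

/-!
# FibPropA: properties of the local rings of fibres, invariance under base change

A generic framework: a property of local rings which is invariant under isomorphisms and under
extension of the base field (for localizations of algebras of finite type) gives a property of
points of a morphism locally of finite type which is compatible with arbitrary base change.
-/

set_option autoImplicit false
set_option linter.style.haveILetI false
set_option linter.unusedSectionVars false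
set_option linter.unusedVariables false
universe u

namespace Groth.Agent.Helper5.FibProp

open CategoryTheory CategoryTheory.Limits AlgebraicGeometry TopologicalSpace Topology TensorProduct
open IsLocalRing
open Groth.Agent.Helper5.CMFib Groth.Agent.Helper5.CMAff Groth.Agent.Helper5.CMSrc
open Groth.Agent.Helper5.CMBC Groth.Agent.Helper2.StalkDict

/-- a property of local rings, invariant under isomorphism and under extension of the base field -/
structure LocProp where
  /-- the property -/
  P : ∀ (R : Type u) [CommRing R] [IsLocalRing R], Prop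
  iso : ∀ (R R' : Type u) [CommRing R] [CommRing R'] [IsLocalRing R] [IsLocalRing R'],
    (R ≃+* R') → P R → P R'
  field : ∀ (k k' S : Type u) [Field k] [Field k'] [Algebra k k'] [CommRing S] [Algebra k S]
    [Algebra.FiniteType k S] (q' : Ideal (S ⊗[k] k')) [q'.IsPrime],
    P (Localization.AtPrime q') ↔ P (Localization.AtPrime (q'.comap (algebraMap S (S ⊗[k] k'))))

variable (Pr : LocProp.{u})

/-- the property holds for the local ring of the fibre through `x` at `x` -/
def FibAt {X S : Scheme.{u}} (f : X ⟶ S) (x : X) : Prop :=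
  Pr.P ((f.fiber (f.base x)).presheaf.stalk (f.asFiber x))

theorem LocProp.iso_iff (R R' : Type u) [CommRing R] [CommRing R'] [IsLocalRing R] [IsLocalRing R']
    (e : R ≃+* R') : Pr.P R ↔ Pr.P R' :=
  ⟨Pr.iso R R' e, Pr.iso R' R e.symm⟩

/-- the property of the local ring of a fibre at a point, in the two descriptions -/
theorem fibre_stalk_iff {X S : Scheme.{u}} (f : X ⟶ S) (s : S) (z : ↥(f.fiber s)) (x : X)
    (hx : f.fiberι s z = x) :
    Pr.P ((f.fiber s).presheaf.stalk z) ↔ FibAt Pr f x := by
  subst hx
  obtain ⟨e⟩ := fibre_stalk_equiv_asFiber f s z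
  exact Pr.iso_iff _ _ e

attribute [local instance] Curv2.stalkAlgebra

set_option maxHeartbeats 1000000 in
/-- the property along an arbitrary field extension, for schemes locally of finite type -/
theorem bc_iff_of_lft (k : Type u) [Field k] (X : Scheme.{u}) [X.Over (Spec (CommRingCat.of k))]
    [LocallyOfFiniteType (X ↘ Spec (CommRingCat.of k))] (k' : Type u) [Field k'] [Algebra k k']
    (x' : ↥(Curv2.bc k X k')) :
    Pr.P ((Curv2.bc k X k').presheaf.stalk x') ↔
      Pr.P (X.presheaf.stalk (Curv2.bcFst k X k' x')) := by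
  set x := Curv2.bcFst k X k' x' with hx
  obtain ⟨_, ⟨U, hU, rfl⟩, hxU, -⟩ := X.isBasis_affineOpens.exists_subset_of_mem_open
    (Set.mem_univ x) isOpen_univ
  let g : Spec Γ(X, U) ⟶ X := hU.fromSpec
  let f : X ⟶ Spec (CommRingCat.of k) := X ↘ Spec (CommRingCat.of k)
  let φ : CommRingCat.of k ⟶ Γ(X, U) := Spec.preimage (g ≫ f)
  letI : Algebra k Γ(X, U) := φ.hom.toAlgebra
  have hφ : Spec.map (CommRingCat.ofHom (algebraMap k Γ(X, U))) = g ≫ f := Spec.map_preimage _
  haveI : Algebra.FiniteType k Γ(X, U) := by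
    have h1 : LocallyOfFiniteType (Spec.map φ) := by
      rw [show Spec.map φ = g ≫ f from Spec.map_preimage _]; infer_instance
    exact (HasRingHomProperty.Spec_iff (P := @LocallyOfFiniteType)).1 h1
  obtain ⟨u', hu'⟩ : ∃ u' : ↥(Spec Γ(X, U)), g u' = x := by
    have : x ∈ Set.range g := by rw [hU.range_fromSpec]; exact hxU
    exact this
  obtain ⟨z₁, hz1, -, ⟨e1⟩⟩ := stepA f (Spec.map (CommRingCat.ofHom (algebraMap k k'))) g _ hφ x' u'
    hu'.symm
  obtain ⟨e2⟩ := nonempty_stalk_pullbackSpec_equiv k Γ(X, U) k' z₁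
  have hcomap := fst_eq_comap k Γ(X, U) k' z₁
  rw [hz1] at hcomap
  set q' := ((pullbackSpecIso k Γ(X, U) k').hom z₁).asIdeal with hq'
  obtain ⟨e3⟩ := nonempty_stalkEquiv' g u' x hu'
  have key : ∀ (I : Ideal Γ(X, U)) [I.IsPrime], u'.asIdeal = I →
      Nonempty (X.presheaf.stalk x ≃+* Localization.AtPrime I) := by
    rintro I _ rfl
    exact ⟨e3.trans (Spec.stalkIso Γ(X, U) u').commRingCatIsoToRingEquiv⟩
  obtain ⟨e4⟩ := key _ hcomap
  have hring := Pr.field k k' Γ(X, U) q'
  rw [Pr.iso_iff _ _ (e1.trans e2), hring, ← Pr.iso_iff _ _ e4]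

/-- the property along a base change of fields, arbitrary extension, locally of finite type -/
theorem of_isPullback_fields_lft (k K : Type u) [Field k] [Field K] [Algebra k K]
    {F F' : Scheme.{u}} (φ : F ⟶ Spec (CommRingCat.of k)) [LocallyOfFiniteType φ]
    (φ' : F' ⟶ Spec (CommRingCat.of K)) (ψ : F' ⟶ F)
    (H : IsPullback ψ φ' φ (Spec.map (CommRingCat.ofHom (algebraMap k K)))) (z' : F') :
    Pr.P (F'.presheaf.stalk z') ↔ Pr.P (F.presheaf.stalk (ψ z')) := by
  letI : F.Over (Spec (CommRingCat.of k)) := ⟨φ⟩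
  haveI : LocallyOfFiniteType (F ↘ Spec (CommRingCat.of k)) := ‹LocallyOfFiniteType φ›
  have H'' : IsPullback ψ φ' (F ↘ Spec (CommRingCat.of k))
      (Spec.map (CommRingCat.ofHom (algebraMap k K))) := H
  let w : ↥(Curv2.bc k F K) := H''.isoPullback.hom z'
  have hw : Curv2.bcFst k F K w = ψ z' := by
    show (Curv2.bcFst k F K) (H''.isoPullback.hom z') = ψ z'
    rw [← Scheme.Hom.comp_apply]
    show (H''.isoPullback.hom ≫ pullback.fst _ _) z' = ψ z'
    rw [H''.isoPullback_hom_fst]
  have h1 := bc_iff_of_lft Pr k F K w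
  rw [hw] at h1
  rw [← h1]
  obtain ⟨e⟩ := Groth.Agent.Helper2.StalkDict.nonempty_stalkEquiv H''.isoPullback.hom z'
  exact Pr.iso_iff _ _ e.symm

set_option maxHeartbeats 1000000 in
/-- the property of the local ring of the fibre is invariant under arbitrary base change, for
morphisms locally of finite type -/
theorem fibAt_baseChange_iff {X S X' S' : Scheme.{u}} (f : X ⟶ S) [LocallyOfFiniteType f]
    (f' : X' ⟶ S') (g' : X' ⟶ X) (g : S' ⟶ S)
    (hc : IsPullback g' f' f g) (x' : X') :
    FibAt Pr f' x' ↔ FibAt Pr f (g' x') := by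
  let s' : S' := f' x'
  let s : S := g s'
  let ρ := g.residueFieldMap s'
  have H := isPullback_fiberToSpecResidueField_of_isPullback hc s'
  obtain ⟨ψ, hψfst, H'⟩ : ∃ ψ : f'.fiber s' ⟶ f.fiber s,
      ψ ≫ f.fiberι s = f'.fiberι s' ≫ g' ∧
      IsPullback ψ (f'.fiberToSpecResidueField s') (f.fiberToSpecResidueField s) (Spec.map ρ) :=
    ⟨_, pullback.lift_fst _ _ _, H⟩
  let z' : ↥(f'.fiber s') := f'.asFiber x'
  let z : ↥(f.fiber s) := ψ z'
  have hz : f.fiberι s z = g' x' := by
    have h1 : ψ ≫ f.fiberι s = f'.fiberι s' ≫ g' := hψfst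
    have h2 := congrArg (fun φ : f'.fiber s' ⟶ X => φ z') h1
    simp only [Scheme.Hom.comp_apply] at h2
    rw [f'.fiberι_asFiber] at h2
    exact h2
  rw [← fibre_stalk_iff Pr f s z (g' x') hz]
  letI alg : Algebra (S.residueField s) (S'.residueField s') := ρ.hom.toAlgebra
  haveI : LocallyOfFiniteType (f.fiberToSpecResidueField s) :=
    inferInstanceAs (LocallyOfFiniteType (Limits.pullback.snd f (S.fromSpecResidueField s)))
  exact of_isPullback_fields_lft Pr (S.residueField s) (S'.residueField s')
    (f.fiberToSpecResidueField s) (f'.fiberToSpecResidueField s') ψ H' z'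

end Groth.Agent.Helper5.FibProp
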