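import Mathlib
import Groth.Prelude
import Groth.Agent.Helper5.FibPropA
import Groth.Agent.Helper2.Codepth
import Groth.Agent.Helper2.SkFlat
import Groth.Agent.Helper2.FlatAscent

/-!
# FibPropB: codepth and `(S_k)` as properties of local rings invariant under base field extension
-/

set_option autoImplicit false
set_option linter.style.haveILetI false
set_option linter.unusedSectionVars false
set_option linter.unusedVariables false
universe u

namespace Groth.Agent.Helper5.FibProp

open CategoryTheory AlgebraicGeometry TensorProduct IsLocalRing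

/-- dimension and depth of a Noetherian local ring, as natural numbers -/
theorem exists_dim_depth (R : Type u) [CommRing R] [IsLocalRing R] [IsNoetherianRing R] :
    ∃ a d : ℕ, ringKrullDim R = (a : WithBot ℕ∞) ∧ LocCoh.depth R R = (d : ℕ∞) ∧ d ≤ a := by
  have hne_bot : ringKrullDim R ≠ ⊥ := ringKrullDim_ne_bot
  have hne_top : ringKrullDim R ≠ ⊤ := ringKrullDim_ne_top
  obtain ⟨x, hx⟩ := WithBot.ne_bot_iff_exists.mp hne_bot
  have hx' : x ≠ ⊤ := by
    rintro rfl
    exact hne_top hx.symm
  obtain ⟨a, rfl⟩ := ENat.ne_top_iff_exists.mp hx'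
  have h1 := Groth.Agent.Helper2.DepthCM4.depth_le_supportDim (A := R) R
  rw [Module.supportDim_self_eq_ringKrullDim, ← hx] at h1
  have h2 : LocCoh.depth R R ≤ (a : ℕ∞) := by exact_mod_cast h1
  have h3 : LocCoh.depth R R ≠ ⊤ := ne_top_of_le_ne_top (ENat.natCast_ne_top a) h2
  obtain ⟨d, hd⟩ := ENat.ne_top_iff_exists.mp h3
  refine ⟨a, d, hx.symm, hd.symm, ?_⟩
  rw [← hd] at h2
  exact_mod_cast h2

/-- codepth at most `n` -/
def CodLE (n : ℕ) (R : Type u) [CommRing R] [IsLocalRing R] : Prop :=
  IsNoetherianRing R ∧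
    ringKrullDim R ≤ ((LocCoh.depth R R : ℕ∞) : WithBot ℕ∞) + n

/-- codepth exactly `n` -/
def CodEQ (n : ℕ) (R : Type u) [CommRing R] [IsLocalRing R] : Prop :=
  IsNoetherianRing R ∧
    ringKrullDim R = ((LocCoh.depth R R : ℕ∞) : WithBot ℕ∞) + n

/-- Serre's condition `(S_k)` -/
def SkProp (k : ℕ) (R : Type u) [CommRing R] [IsLocalRing R] : Prop :=
  IsNoetherianRing R ∧ LocCoh.HasSk k R R

section field

variable (k k' S : Type u) [Field k] [Field k'] [Algebra k k'] [CommRing S] [Algebra k S]
  [Algebra.FiniteType k S] (q' : Ideal (S ⊗[k] k')) [q'.IsPrime]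

omit q' in
theorem noeth_tensor : IsNoetherianRing (S ⊗[k] k') := by
  haveI : IsNoetherianRing (k' ⊗[k] S) := Algebra.FiniteType.isNoetherianRing k' _
  exact isNoetherianRing_of_ringEquiv (k' ⊗[k] S) (Algebra.TensorProduct.comm k k' S).toRingEquiv

theorem field_data :
    ∃ a d a' d' : ℕ,
      ringKrullDim (Localization.AtPrime (q'.comap (algebraMap S (S ⊗[k] k')))) = (a : WithBot ℕ∞) ∧
      LocCoh.depth (Localization.AtPrime (q'.comap (algebraMap S (S ⊗[k] k'))))
        (Localization.AtPrime (q'.comap (algebraMap S (S ⊗[k] k')))) = (d : ℕ∞) ∧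
      ringKrullDim (Localization.AtPrime q') = (a' : WithBot ℕ∞) ∧
      LocCoh.depth (Localization.AtPrime q') (Localization.AtPrime q') = (d' : ℕ∞) ∧
      a + d' = a' + d := by
  haveI : IsNoetherianRing S := Algebra.FiniteType.isNoetherianRing k S
  haveI : IsNoetherianRing (S ⊗[k] k') := noeth_tensor k k' S
  have h := (Groth.Agent.Helper2.Codepth.main k S k' (Or.inl inferInstance) q' 0).1
  obtain ⟨a, d, ha, hd, -⟩ := exists_dim_depth
    (Localization.AtPrime (q'.comap (algebraMap S (S ⊗[k] k'))))
  obtain ⟨a', d', ha', hd', -⟩ := exists_dim_depth (Localization.AtPrime q')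
  refine ⟨a, d, a', d', ha, hd, ha', hd', ?_⟩
  rw [ha, hd, ha', hd'] at h
  exact_mod_cast h

end field

/-- codepth at most `n`, as an invariant property -/
noncomputable def codLE (n : ℕ) : LocProp.{u} where
  P R _ _ := CodLE n R
  iso R R' _ _ _ _ e h := by
    obtain ⟨hN, h⟩ := h
    haveI := hN
    haveI hN' : IsNoetherianRing R' := isNoetherianRing_of_ringEquiv R e
    refine ⟨hN', ?_⟩
    rw [← ringKrullDim_eq_of_ringEquiv e,
      ← Groth.Agent.Helper2.FlatAscent.depth_eq_of_ringEquiv e]
    exact h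
  field k k' S _ _ _ _ _ _ q' _ := by
    haveI : IsNoetherianRing S := Algebra.FiniteType.isNoetherianRing k S
    haveI : IsNoetherianRing (S ⊗[k] k') := noeth_tensor k k' S
    obtain ⟨a, d, a', d', ha, hd, ha', hd', heq⟩ := field_data k k' S q'
    unfold CodLE
    rw [ha, hd, ha', hd']
    constructor
    · rintro ⟨-, h⟩
      refine ⟨inferInstance, ?_⟩
      have h1 : a' ≤ d' + n := by exact_mod_cast h
      have h2 : a ≤ d + n := by omega
      exact_mod_cast h2
    · rintro ⟨-, h⟩
      refine ⟨inferInstance, ?_⟩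
      have h1 : a ≤ d + n := by exact_mod_cast h
      have h2 : a' ≤ d' + n := by omega
      exact_mod_cast h2

/-- codepth exactly `n`, as an invariant property -/
noncomputable def codEQ (n : ℕ) : LocProp.{u} where
  P R _ _ := CodEQ n R
  iso R R' _ _ _ _ e h := by
    obtain ⟨hN, h⟩ := h
    haveI := hN
    haveI hN' : IsNoetherianRing R' := isNoetherianRing_of_ringEquiv R e
    refine ⟨hN', ?_⟩
    rw [← ringKrullDim_eq_of_ringEquiv e,
      ← Groth.Agent.Helper2.FlatAscent.depth_eq_of_ringEquiv e]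
    exact h
  field k k' S _ _ _ _ _ _ q' _ := by
    haveI : IsNoetherianRing S := Algebra.FiniteType.isNoetherianRing k S
    haveI : IsNoetherianRing (S ⊗[k] k') := noeth_tensor k k' S
    obtain ⟨a, d, a', d', ha, hd, ha', hd', heq⟩ := field_data k k' S q'
    unfold CodEQ
    rw [ha, hd, ha', hd']
    constructor
    · rintro ⟨-, h⟩
      refine ⟨inferInstance, ?_⟩
      have h1 : a' = d' + n := by exact_mod_cast h
      have h2 : a = d + n := by omega
      exact_mod_cast h2
    · rintro ⟨-, h⟩
      refine ⟨inferInstance, ?_⟩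
      have h1 : a = d + n := by exact_mod_cast h
      have h2 : a' = d' + n := by omega
      exact_mod_cast h2

/-- `(S_k)`, as an invariant property -/
noncomputable def skProp (m : ℕ) : LocProp.{u} where
  P R _ _ := SkProp m R
  iso R R' _ _ _ _ e h := by
    obtain ⟨hN, h⟩ := h
    haveI := hN
    haveI hN' : IsNoetherianRing R' := isNoetherianRing_of_ringEquiv R e
    exact ⟨hN', Groth.Agent.Helper2.SkFlat.hasSk_of_ringEquiv e m h⟩
  field k k' S _ _ _ _ _ _ q' _ := by
    haveI : IsNoetherianRing S := Algebra.FiniteType.isNoetherianRing k S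
    haveI : IsNoetherianRing (S ⊗[k] k') := noeth_tensor k k' S
    have h := (Groth.Agent.Helper2.Codepth.main k S k' (Or.inl inferInstance) q' m).2
    rw [Groth.Agent.Helper2.Codepth.hasSkAt_self_iff,
      Groth.Agent.Helper2.Codepth.hasSkAt_self_iff] at h
    unfold SkProp
    constructor
    · rintro ⟨-, h1⟩
      exact ⟨inferInstance, h.2 h1⟩
    · rintro ⟨-, h1⟩
      exact ⟨inferInstance, h.1 h1⟩

end Groth.Agent.Helper5.FibProp
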