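import Mathlib
import Groth.Prelude
import Groth.Agent.Helper5.FibModA
import Groth.Agent.Helper5.FibPropB
import Groth.Agent.Helper2.ZT1
import Groth.Agent.Helper2.Codepth
import Groth.Agent.Helper7.IntMod5

/-!
# FibModF: the codepth of a module, as a property invariant under base field extension
-/

set_option autoImplicit false
set_option linter.style.haveILetI false
set_option linter.unusedSectionVars false
set_option linter.unusedVariables false
universe u

namespace Groth.Agent.Helper5.FibMod

open TensorProduct IsLocalRing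

/-- support dimension and depth of a nonzero finite module over a Noetherian local ring -/
theorem exists_dim_depth_mod (R : Type u) [CommRing R] [IsLocalRing R] [IsNoetherianRing R]
    (N : Type u) [AddCommGroup N] [Module R N] [Module.Finite R N] [Nontrivial N] :
    ∃ a d : ℕ, Module.supportDim R N = (a : WithBot ℕ∞) ∧ LocCoh.depth R N = (d : ℕ∞) ∧ d ≤ a := by
  obtain ⟨a, ha⟩ := Groth.Agent.Helper7.IntMod.exists_nat_supportDim (A := R) N
  have h1 := Groth.Agent.Helper2.DepthCM4.depth_le_supportDim (A := R) N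
  rw [ha] at h1
  have h2 : LocCoh.depth R N ≤ (a : ℕ∞) := by exact_mod_cast h1
  have h3 : LocCoh.depth R N ≠ ⊤ := ne_top_of_le_ne_top (ENat.natCast_ne_top a) h2
  obtain ⟨d, hd⟩ := ENat.ne_top_iff_exists.mp h3
  refine ⟨a, d, ha, hd.symm, ?_⟩
  rw [← hd] at h2
  exact_mod_cast h2

/-- codepth at most `n`, for modules -/
def CodLEM (n : ℕ) (R : Type u) [CommRing R] [IsLocalRing R] (N : Type u) [AddCommGroup N]
    [Module R N] : Prop :=
  IsNoetherianRing R ∧ Module.Finite R N ∧
    Module.supportDim R N ≤ ((LocCoh.depth R N : ℕ∞) : WithBot ℕ∞) + n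

section Iso

variable (R R' : Type u) [CommRing R] [CommRing R'] [IsLocalRing R] [IsLocalRing R']
  (N N' : Type u) [AddCommGroup N] [AddCommGroup N'] [Module R N] [Module R' N']
  (e : R ≃+* R') (eN : N ≃+ N') (h : ∀ (r : R) (n : N), eN (r • n) = e r • eN n)

include h in
/-- invariants of a pair under a semilinear isomorphism -/
theorem pair_iso [IsNoetherianRing R] [Module.Finite R N] :
    IsNoetherianRing R' ∧ Module.Finite R' N' ∧
      Module.supportDim R' N' = Module.supportDim R N ∧ LocCoh.depth R' N' = LocCoh.depth R N := by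
  haveI hN' : IsNoetherianRing R' := isNoetherianRing_of_ringEquiv R e
  letI algRR' : Algebra R R' := e.toRingHom.toAlgebra
  letI modRN' : Module R N' := Module.compHom N' e.toRingHom
  haveI : IsScalarTower R R' N' := IsScalarTower.of_algebraMap_smul fun r m => rfl
  let eL : N ≃ₗ[R] N' := { eN with map_smul' := fun r n => h r n }
  haveI : Module.Finite R N' := Module.Finite.equiv eL
  haveI hfin' : Module.Finite R' N' := Module.Finite.of_restrictScalars_finite R R' N'
  haveI : IsLocalHom (algebraMap R R') := by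
    show IsLocalHom e.toRingHom
    exact IsLocalHom.of_surjective _ e.surjective
  refine ⟨hN', hfin', ?_, ?_⟩
  · rw [← Groth.Agent.Helper6.FlatCM.supportDim_of_surjective (R := R) (R' := R') N' e.surjective]
    exact (Module.supportDim_eq_of_equiv eL).symm
  · rw [← Groth.Agent.Helper2.RegCM.depth_eq_of_isLocalHom R R' N']
    exact (Groth.Agent.Helper2.DepthCM.idealDepth_congr (maximalIdeal R) eL).symm

end Iso

section Field

variable (k k' S : Type u) [Field k] [Field k'] [Algebra k k'] [CommRing S] [Algebra k S]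
  [Algebra.FiniteType k S] (N : Type u) [AddCommGroup N] [Module S N] [Module.Finite S N]
  (q' : Ideal (S ⊗[k] k')) [q'.IsPrime]

set_option maxHeartbeats 1600000 in
/-- the numerical data of a base field extension -/
theorem field_data_mod :
    IsNoetherianRing (Localization.AtPrime q') ∧
    IsNoetherianRing (Localization.AtPrime (q'.comap (algebraMap S (S ⊗[k] k')))) ∧
    Module.Finite (Localization.AtPrime q')
      (LocalizedModule q'.primeCompl ((S ⊗[k] k') ⊗[S] N)) ∧
    Module.Finite (Localization.AtPrime (q'.comap (algebraMap S (S ⊗[k] k'))))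
      (LocalizedModule (q'.comap (algebraMap S (S ⊗[k] k'))).primeCompl N) ∧
    ((Subsingleton (LocalizedModule (q'.comap (algebraMap S (S ⊗[k] k'))).primeCompl N) ∧
        Subsingleton (LocalizedModule q'.primeCompl ((S ⊗[k] k') ⊗[S] N))) ∨
      ∃ a d h : ℕ,
        Module.supportDim (Localization.AtPrime (q'.comap (algebraMap S (S ⊗[k] k'))))
          (LocalizedModule (q'.comap (algebraMap S (S ⊗[k] k'))).primeCompl N) =
            (a : WithBot ℕ∞) ∧
        LocCoh.depth (Localization.AtPrime (q'.comap (algebraMap S (S ⊗[k] k'))))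
          (LocalizedModule (q'.comap (algebraMap S (S ⊗[k] k'))).primeCompl N) = (d : ℕ∞) ∧
        Module.supportDim (Localization.AtPrime q')
          (LocalizedModule q'.primeCompl ((S ⊗[k] k') ⊗[S] N)) = ((a + h : ℕ) : WithBot ℕ∞) ∧
        LocCoh.depth (Localization.AtPrime q')
          (LocalizedModule q'.primeCompl ((S ⊗[k] k') ⊗[S] N)) = ((d + h : ℕ) : ℕ∞)) := by
  haveI : IsNoetherianRing S := Algebra.FiniteType.isNoetherianRing k S
  haveI : IsNoetherianRing (S ⊗[k] k') := Groth.Agent.Helper5.FibProp.noeth_tensor k k' S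
  set q := q'.comap (algebraMap S (S ⊗[k] k')) with hq
  haveI n1 : IsNoetherianRing (Localization.AtPrime q') :=
    IsLocalization.isNoetherianRing q'.primeCompl _ inferInstance
  haveI n2 : IsNoetherianRing (Localization.AtPrime q) :=
    IsLocalization.isNoetherianRing q.primeCompl _ inferInstance
  haveI f1 : Module.Finite (Localization.AtPrime q')
      (LocalizedModule q'.primeCompl ((S ⊗[k] k') ⊗[S] N)) :=
    Module.Finite.of_isLocalizedModule q'.primeCompl
      (LocalizedModule.mkLinearMap q'.primeCompl ((S ⊗[k] k') ⊗[S] N))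
  haveI f2 : Module.Finite (Localization.AtPrime q) (LocalizedModule q.primeCompl N) :=
    Module.Finite.of_isLocalizedModule q.primeCompl (LocalizedModule.mkLinearMap q.primeCompl N)
  refine ⟨n1, n2, f1, f2, ?_⟩
  rcases subsingleton_or_nontrivial (LocalizedModule q.primeCompl N) with hs | hnt
  · left
    exact ⟨hs, Groth.Agent.Helper2.ZT.subsingleton_loc S (S ⊗[k] k') N (S ⊗[k] k') q' (Or.inl hs)⟩
  · right
    obtain ⟨a, d, ha, hd, -⟩ := exists_dim_depth_mod (Localization.AtPrime q)
      (LocalizedModule q.primeCompl N)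
    -- the fibre
    set Fib := EGA4.FibLocRing S (S ⊗[k] k') q' with hFib
    haveI : IsNoetherianRing Fib := Ideal.Quotient.isNoetherianRing _
    let eF : EGA4.FibLocMod S (S ⊗[k] k') q' (S ⊗[k] k') ≃ₗ[Fib] Fib :=
      (fibTensorEquiv S (S ⊗[k] k') q' (S ⊗[k] k')).symm.trans
        (TensorProduct.AlgebraTensorModule.rid (S ⊗[k] k') Fib Fib)
    have hcm := Groth.Agent.Helper2.Codepth.fibLoc_cm k S k' (Or.inl inferInstance) q'
    obtain ⟨h, hh⟩ := ENat.ne_top_iff_exists.mp
      (Ideal.height_ne_top (I := maximalIdeal Fib) (IsLocalRing.maximalIdeal.isMaximal Fib).ne_top)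
    have hdF : LocCoh.depth Fib (EGA4.FibLocMod S (S ⊗[k] k') q' (S ⊗[k] k')) = (h : ℕ∞) := by
      rw [show LocCoh.depth Fib (EGA4.FibLocMod S (S ⊗[k] k') q' (S ⊗[k] k')) =
        LocCoh.depth Fib Fib from
        Groth.Agent.Helper2.DepthCM.idealDepth_congr (maximalIdeal Fib) eF, hcm, hh]
    have hsF : Module.supportDim Fib (EGA4.FibLocMod S (S ⊗[k] k') q' (S ⊗[k] k')) =
        (h : WithBot ℕ∞) := by
      rw [Module.supportDim_eq_of_equiv eF, Module.supportDim_self_eq_ringKrullDim,
        ← IsLocalRing.maximalIdeal_height_eq_ringKrullDim, ← hh]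
      rfl
    haveI : Nontrivial (LocalizedModule q'.primeCompl (S ⊗[k] k')) :=
      (Groth.Agent.Helper1.SerreFlatU.selfEquiv q').toEquiv.nontrivial
    have h1 := Groth.Agent.Helper2.ZT.depth_loc S (S ⊗[k] k') N (S ⊗[k] k') q'
    have h2 := Groth.Agent.Helper2.ZT.supportDim_loc S (S ⊗[k] k') N (S ⊗[k] k') q'
    refine ⟨a, d, h, ha, hd, ?_, ?_⟩
    · rw [h2, ha, hsF]
      push_cast
      rfl
    · rw [h1, hd, hdF]
      push_cast
      rfl

end Field

theorem supportDim_eq_bot_of_subsingleton' (R : Type u) [CommRing R] (N : Type u) [AddCommGroup N]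
    [Module R N] [Subsingleton N] : Module.supportDim R N = ⊥ :=
  Module.supportDim_eq_bot_of_subsingleton R N

/-- codepth at most `n`, as an invariant property of pairs -/
noncomputable def codLEM (n : ℕ) : LocModProp.{u} where
  P R _ _ N _ _ := CodLEM n R N
  iso R R' _ _ _ _ N N' _ _ _ _ e eN h hP := by
    obtain ⟨hN, hF, hle⟩ := hP
    haveI := hN
    haveI := hF
    obtain ⟨h1, h2, h3, h4⟩ := pair_iso R R' N N' e eN h
    exact ⟨h1, h2, by rw [h3, h4]; exact hle⟩
  field k k' S _ _ _ _ _ _ N _ _ _ q' _ := by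
    obtain ⟨n1, n2, f1, f2, hdata⟩ := field_data_mod k k' S N q'
    unfold CodLEM
    rcases hdata with ⟨hs1, hs2⟩ | ⟨a, d, h, ha, hd, ha', hd'⟩
    · constructor
      · intro _
        refine ⟨n2, f2, ?_⟩
        rw [supportDim_eq_bot_of_subsingleton']
        exact bot_le
      · intro _
        refine ⟨n1, f1, ?_⟩
        rw [supportDim_eq_bot_of_subsingleton']
        exact bot_le
    · rw [ha, hd, ha', hd']
      constructor
      · rintro ⟨-, -, hle⟩
        refine ⟨n2, f2, ?_⟩
        have h1 : a + h ≤ d + h + n := by exact_mod_cast hle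
        have h2 : a ≤ d + n := by omega
        exact_mod_cast h2
      · rintro ⟨-, -, hle⟩
        refine ⟨n1, f1, ?_⟩
        have h1 : a ≤ d + n := by exact_mod_cast hle
        have h2 : a + h ≤ d + h + n := by omega
        exact_mod_cast h2

end Groth.Agent.Helper5.FibMod
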