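import Mathlib
import Groth.Prelude
import Groth.Agent.Helper1.TorCrit
import Groth.Agent.Helper2.FibCrit
import Groth.Agent.Helper2.FlatFibre3
import Groth.Agent.Helper9.VP6

/-!
# FibPdA: projective dimension of a flat family equals that of its closed fibre

For a flat local homomorphism `A → B` of Noetherian local rings and a finite `B`-module `M` flat
over `A`, the projective dimension of `M` over `B` equals that of `M / 𝔪_A M` over `B / 𝔪_A B`.
-/

set_option autoImplicit false
set_option linter.unusedSectionVars false
set_option linter.unusedVariables false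
set_option linter.style.haveILetI false
universe u
open CategoryTheory TensorProduct IsLocalRing

namespace Groth.Agent.Helper5.FibPd

open Groth.Agent.Helper1.TorLib Groth.Agent.Helper9.VP6

section Local

variable {A B : Type u} [CommRing A] [CommRing B] [IsLocalRing A] [IsLocalRing B]
  [IsNoetherianRing A] [IsNoetherianRing B] [Algebra A B] [IsLocalHom (algebraMap A B)]

/-- the fibre functor `M ↦ (B / 𝔪_A B) ⊗ M` -/
abbrev Fib (A B : Type u) [CommRing A] [CommRing B] [IsLocalRing A] [Algebra A B]
    (M : Type u) [AddCommGroup M] [Module B M] : Type u :=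
  (B ⧸ EGA4.mB A B) ⊗[B] M

/-- reduction of `0 → ker π → B^k → M → 0` to the closed fibre stays short exact when `M` is flat
over `A` -/
theorem fibre_shortExact {k : ℕ}
    (M : Type u) [AddCommGroup M] [Module B M] [Module A M] [IsScalarTower A B M]
    [Module.Flat A B] [Module.Flat A M]
    (π : (Fin k → B) →ₗ[B] M) (hπ : Function.Surjective π) :
    Function.Injective ((LinearMap.ker π).subtype.baseChange (B ⧸ EGA4.mB A B)) ∧
      Function.Surjective (π.baseChange (B ⧸ EGA4.mB A B)) ∧
      Function.Exact ((LinearMap.ker π).subtype.baseChange (B ⧸ EGA4.mB A B))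
        (π.baseChange (B ⧸ EGA4.mB A B)) := by
  set I : Ideal B := EGA4.mB A B with hIdef
  haveI : Module.Flat A (Fin k → B) := Module.Flat.trans A B (Fin k → B)
  haveI hq : Module.Flat A ((Fin k → B) ⧸ LinearMap.ker π) :=
    Module.Flat.of_linearEquiv ((π.quotKerEquivOfSurjective hπ).restrictScalars A)
  refine ⟨?_, ?_, ?_⟩
  · rw [injective_iff_map_eq_zero]
    intro t ht
    obtain ⟨x, rfl⟩ := exists_one_tmul I t
    rw [LinearMap.baseChange_tmul, one_tmul_eq_zero_iff] at ht
    rw [one_tmul_eq_zero_iff]
    have h1 : ((LinearMap.ker π).subtype x) ∈ I • LinearMap.ker π :=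
      Groth.Agent.Helper2.FlatFibre3.mem_smul_of_flat_quot (A := A) (B := B)
        (LinearMap.ker π) _ x.2 ht
    have h2 : I • LinearMap.ker π =
        (I • (⊤ : Submodule B (LinearMap.ker π))).map (LinearMap.ker π).subtype := by
      rw [Submodule.map_smul'', Submodule.map_subtype_top]
    rw [h2] at h1
    obtain ⟨x', hx', hxx'⟩ := h1
    have : x' = x := (LinearMap.ker π).injective_subtype hxx'
    rw [← this]
    exact hx'
  · intro t
    obtain ⟨m, rfl⟩ := exists_one_tmul I t
    obtain ⟨x, rfl⟩ := hπ m
    exact ⟨(1 : B ⧸ I) ⊗ₜ[B] x, LinearMap.baseChange_tmul _ _ _⟩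
  · have hex : Function.Exact (LinearMap.ker π).subtype π := fun y => by
      simp
    have := lTensor_exact (B ⧸ I) hex hπ
    intro y
    exact this y

/-- base case: if the fibre is projective, the module is free -/
theorem free_of_projective_fibre [Module.Flat A B]
    (M : Type u) [AddCommGroup M] [Module B M] [Module A M] [IsScalarTower A B M]
    [Module.Finite B M] [Module.Flat A M]
    (hproj : Module.Projective (B ⧸ EGA4.mB A B) ((B ⧸ EGA4.mB A B) ⊗[B] M)) :
    Module.Free B M := by
  rcases subsingleton_or_nontrivial M with h | h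
  · exact Module.Free.of_subsingleton B M
  · have hfl : Module.Flat (B ⧸ EGA4.mB A B) (M ⧸ (EGA4.mB A B • (⊤ : Submodule B M))) :=
      Module.Flat.of_linearEquiv (Groth.Agent.Helper2.FibCrit.quotEquiv (EGA4.mB A B) M).symm
    have h2 := (Groth.Agent.Helper2.FibCrit.fibre_criterion (A := A) (B := B) (C := B) M).1
      ⟨inferInstance, hfl⟩
    haveI := h2.2
    exact Module.free_of_flat_of_isLocalRing

/-- **Core induction**: the projective dimension of a finite module flat over the base equals
that of its closed fibre. -/
theorem pd_fibre_iff [Module.Flat A B] (j : ℕ) :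
    ∀ (M : Type u) [AddCommGroup M] [Module B M] [Module A M] [IsScalarTower A B M]
      [Module.Finite B M] [Module.Flat A M],
      HasProjectiveDimensionLT (ModuleCat.of (B ⧸ EGA4.mB A B)
        ((B ⧸ EGA4.mB A B) ⊗[B] M)) (j + 1) ↔
      HasProjectiveDimensionLT (ModuleCat.of B M) (j + 1) := by
  induction j with
  | zero =>
    intro M _ _ _ _ _ _
    rw [zero_add, ← projective_iff_hasProjectiveDimensionLT_one,
      ← projective_iff_hasProjectiveDimensionLT_one, ← IsProjective.iff_projective,
      ← IsProjective.iff_projective]
    constructor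
    · intro hpd
      have := free_of_projective_fibre (A := A) M hpd
      infer_instance
    · intro hpd
      infer_instance
  | succ j ih =>
    intro M _ _ _ _ _ _
    obtain ⟨k, π, hπ⟩ := Module.Finite.exists_fin' B M
    set K := LinearMap.ker π with hK
    haveI : Module.Flat A (Fin k → B) := Module.Flat.trans A B (Fin k → B)
    haveI hKflat : Module.Flat A K :=
      Groth.Agent.Helper2.FlatFibre.flat_of_exact_of_flat (K.subtype.restrictScalars A)
        (π.restrictScalars A) K.injective_subtype (fun y => by simp [hK]) hπ
    have hex' : Function.Exact K.subtype π := fun y => by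
      simp [hK]
    have hS := scOfLinear_shortExact _ _ K.injective_subtype hπ hex'
    have hproj : Projective (ModuleCat.of B (Fin k → B)) :=
      (IsProjective.iff_projective _).1 inferInstance
    have h1 := hS.hasProjectiveDimensionLT_X₃_iff j hproj
    obtain ⟨hinj, hsurj, hexf⟩ := fibre_shortExact (A := A) M π hπ
    have hS' := scOfLinear_shortExact _ _ hinj hsurj hexf
    have hproj' : Projective (ModuleCat.of (B ⧸ EGA4.mB A B)
        ((B ⧸ EGA4.mB A B) ⊗[B] (Fin k → B))) :=
      (IsProjective.iff_projective _).1 inferInstance
    have h2 := hS'.hasProjectiveDimensionLT_X₃_iff j hproj'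
    exact h2.trans ((ih K).trans h1.symm)

end Local

end Groth.Agent.Helper5.FibPd
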