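import Mathlib
import Groth.Prelude
import Groth.Agent.Helper5.FibPdA
import Groth.Agent.Helper7.CMOpenA

/-!
# FibPdB: the local formula `pd_B M + depth (M / 𝔪_A M) = dim (B / 𝔪_A B)`

For a flat local homomorphism `A → B` of Noetherian local rings with regular closed fibre ring and
a nonzero finite `B`-module `M` flat over `A`.
-/

set_option autoImplicit false
set_option linter.unusedSectionVars false
set_option linter.unusedVariables false
set_option linter.style.haveILetI false
universe u
open CategoryTheory TensorProduct IsLocalRing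

namespace Groth.Agent.Helper5.FibPd

section Local

variable {A B : Type u} [CommRing A] [CommRing B] [IsLocalRing A] [IsLocalRing B]
  [IsNoetherianRing A] [IsNoetherianRing B] [Algebra A B] [IsLocalHom (algebraMap A B)]

/-- the closed fibre of a nonzero finite module is nonzero -/
theorem nontrivial_fib (M : Type u) [AddCommGroup M] [Module B M] [Module.Finite B M]
    [Nontrivial M] : Nontrivial ((B ⧸ EGA4.mB A B) ⊗[B] M) := by
  have hle : EGA4.mB A B ≤ maximalIdeal B := IsLocalRing.map_maximalIdeal_le (algebraMap A B)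
  have hne : (EGA4.mB A B) • (⊤ : Submodule B M) ≠ ⊤ := by
    intro h
    have h2 : (⊤ : Submodule B M) ≤ (EGA4.mB A B) • (⊤ : Submodule B M) := h.ge
    have h3 := Submodule.eq_bot_of_le_smul_of_le_jacobson_bot (EGA4.mB A B) ⊤
      Module.Finite.fg_top h2 (hle.trans (IsLocalRing.maximalIdeal_le_jacobson _))
    exact top_ne_bot h3
  have : Nontrivial (M ⧸ (EGA4.mB A B) • (⊤ : Submodule B M)) :=
    Submodule.Quotient.nontrivial_iff.mpr hne
  exact (TensorProduct.quotTensorEquivQuotSMul M (EGA4.mB A B)).toEquiv.nontrivial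

/-- **the local formula** -/
theorem local_formula [Module.Flat A B] (hreg : IsRegularLocalRing (B ⧸ EGA4.mB A B))
    (M : Type u) [AddCommGroup M] [Module B M] [Module A M] [IsScalarTower A B M]
    [Module.Finite B M] [Module.Flat A M] [Nontrivial M] :
    ∃ e δ : ℕ, (∀ j : ℕ, HasProjectiveDimensionLT (ModuleCat.of B M) (j + 1) ↔ e ≤ j) ∧
      LocCoh.depth (B ⧸ EGA4.mB A B) ((B ⧸ EGA4.mB A B) ⊗[B] M) = δ ∧
      ringKrullDim (B ⧸ EGA4.mB A B) = ((e + δ : ℕ) : WithBot ℕ∞) := by
  haveI := nontrivial_fib (A := A) (B := B) M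
  obtain ⟨d, hd⟩ := Groth.Agent.Helper7.CMOpen.exists_dim (B := B ⧸ EGA4.mB A B)
  obtain ⟨e, δ, h1, h2, h3, h4⟩ := Groth.Agent.Helper7.CMOpen.ab
    ((B ⧸ EGA4.mB A B) ⊗[B] M) d hd
  refine ⟨e, δ, fun j => ?_, h3, by rw [hd, h4]⟩
  rw [← pd_fibre_iff (A := A) j M]
  constructor
  · intro h
    by_contra hlt
    exact h2 (hasProjectiveDimensionLT_of_ge _ (j + 1) e (by omega))
  · intro h
    exact hasProjectiveDimensionLT_of_ge _ (e + 1) (j + 1) (by omega)

end Local

end Groth.Agent.Helper5.FibPd
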