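import Mathlib
import Groth.Prelude
import Groth.Agent.Helper5.FibPdB
import Groth.Agent.Helper2.FlatLoc
import Groth.Agent.Helper2.ZT1
import Groth.Agent.Helper1.RegBound
import Groth.Agent.Helper1.Syzygy

/-!
# FibModG: the pointwise formula for a finite module flat over the base

`A → P ↠ B` with `P` flat over the Noetherian ring `A`, `M` a finite `B`-module flat over `A`, `q` a
prime of `B` in the support of `M` with contraction `Q` to `P`: if the fibre local ring of `P` at
`Q` is regular then `pd_{P_Q} M_Q + depth (M_q / p M_q) = dim (P_Q / p P_Q)`.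
-/

set_option autoImplicit false
set_option linter.unusedSectionVars false
set_option linter.unusedVariables false
set_option linter.style.haveILetI false
universe u
open CategoryTheory TensorProduct IsLocalRing

namespace Groth.Agent.Helper5.FibMod

open Groth.Agent.Helper1 Groth.Agent.Helper2 Groth.Agent.Helper5.FibPd

/-- the two descriptions of `I M` for an ideal of the smaller ring -/
theorem smul_top_restrictScalars {R R' : Type*} [CommRing R] [CommRing R'] [Algebra R R']
    (I : Ideal R) (X : Type*) [AddCommGroup X] [Module R X] [Module R' X] [IsScalarTower R R' X] :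
    (I • (⊤ : Submodule R X)) =
      ((I.map (algebraMap R R')) • (⊤ : Submodule R' X)).restrictScalars R := by
  apply le_antisymm
  · rw [Submodule.smul_le]
    intro i hi x _
    rw [Submodule.restrictScalars_mem, ← algebraMap_smul R' i x]
    exact Submodule.smul_mem_smul (Ideal.mem_map_of_mem _ hi) trivial
  · have key : ∀ r ∈ I.map (algebraMap R R'), ∀ y : X, r • y ∈ I • (⊤ : Submodule R X) := by
      intro r hr
      refine Submodule.span_induction
        (p := fun r _ => ∀ y : X, r • y ∈ I • (⊤ : Submodule R X)) ?_ ?_ ?_ ?_ hr
      · rintro _ ⟨i, hi, rfl⟩ y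
        rw [algebraMap_smul]
        exact Submodule.smul_mem_smul hi trivial
      · intro y
        simp
      · intro a b _ _ ha hb y
        rw [add_smul]
        exact Submodule.add_mem _ (ha y) (hb y)
      · intro a b _ hb y
        rw [smul_eq_mul, mul_comm, mul_smul]
        exact hb (a • y)
    intro x hx
    rw [Submodule.restrictScalars_mem] at hx
    refine Submodule.smul_induction_on hx ?_ ?_
    · intro r hr y _
      exact key r hr y
    · intro a b ha hb
      exact Submodule.add_mem _ ha hb

section Global

variable (A P B : Type u) [CommRing A] [CommRing P] [CommRing B]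
  [IsNoetherianRing A] [IsNoetherianRing P] [IsNoetherianRing B]
  [Algebra A P] [Algebra A B] [Algebra P B] [IsScalarTower A P B]
  [Module.Flat A P]
  (M : Type u) [AddCommGroup M] [Module B M] [Module A M] [IsScalarTower A B M]
  [Module P M] [IsScalarTower P B M] [Module.Finite B M] [Module.Flat A M]

set_option maxHeartbeats 3200000 in
/-- **the pointwise formula for a module** -/
theorem pointwise_mod (hs : Function.Surjective (algebraMap P B)) (q : Ideal B) [q.IsPrime]
    [Nontrivial (LocalizedModule q.primeCompl M)]
    (hreg : IsRegularLocalRing (EGA4.FibLocRing A P (q.comap (algebraMap P B)))) :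
    ∃ e δ : ℕ,
      (∀ j : ℕ, (⟨q.comap (algebraMap P B), inferInstance⟩ : PrimeSpectrum P) ∈
        RegBound.pdLocus (ModuleCat.of P M) j ↔ e ≤ j) ∧
      LocCoh.depth (EGA4.FibLocRing A B q) (EGA4.FibLocMod A B q M) = δ ∧
      ringKrullDim (EGA4.FibLocRing A P (q.comap (algebraMap P B))) =
        ((e + δ : ℕ) : WithBot ℕ∞) := by
  set Q : Ideal P := q.comap (algebraMap P B) with hQ
  set p : Ideal A := Q.comap (algebraMap A P) with hp
  have hpq : q.comap (algebraMap A B) = p := by
    rw [hp, hQ, Ideal.comap_comap, ← IsScalarTower.algebraMap_eq]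
  haveI l1 : Q.LiesOver p := ⟨rfl⟩
  haveI l2 : q.LiesOver Q := ⟨rfl⟩
  haveI l3 : q.LiesOver p := ⟨hpq.symm⟩
  letI a1 := Localization.AtPrime.algebraOfLiesOver p Q
  letI a2 := Localization.AtPrime.algebraOfLiesOver Q q
  letI a3 := Localization.AtPrime.algebraOfLiesOver p q
  haveI : IsLocalHom (algebraMap (Localization.AtPrime p) (Localization.AtPrime Q)) :=
    Localization.isLocalHom_localRingHom _ _ _ Ideal.LiesOver.over
  haveI : IsLocalHom (algebraMap (Localization.AtPrime Q) (Localization.AtPrime q)) :=
    Localization.isLocalHom_localRingHom _ _ _ Ideal.LiesOver.over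
  have hsurj : Function.Surjective (algebraMap (Localization.AtPrime Q) (Localization.AtPrime q)) :=
    RingHom.surjective_localRingHom_of_surjective (algebraMap P B) hs q
  haveI : Module.Finite (Localization.AtPrime Q) (Localization.AtPrime q) :=
    Module.Finite.of_surjective (Algebra.linearMap _ _) hsurj
  haveI tw : IsScalarTower (Localization.AtPrime p) (Localization.AtPrime Q)
      (Localization.AtPrime q) := inferInstance
  -- the module structures on `M_q`
  set Mq := LocalizedModule q.primeCompl M with hMq
  letI mPQ : Module (Localization.AtPrime Q) Mq :=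
    Module.compHom Mq (algebraMap (Localization.AtPrime Q) (Localization.AtPrime q))
  letI mAp : Module (Localization.AtPrime p) Mq :=
    Module.compHom Mq (algebraMap (Localization.AtPrime p) (Localization.AtPrime q))
  haveI t1 : IsScalarTower (Localization.AtPrime Q) (Localization.AtPrime q) Mq :=
    IsScalarTower.of_algebraMap_smul fun _ _ => rfl
  haveI t2 : IsScalarTower (Localization.AtPrime p) (Localization.AtPrime q) Mq :=
    IsScalarTower.of_algebraMap_smul fun _ _ => rfl
  haveI t3 : IsScalarTower (Localization.AtPrime p) (Localization.AtPrime Q) Mq := by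
    refine IsScalarTower.of_algebraMap_smul fun a m => ?_
    show algebraMap (Localization.AtPrime Q) (Localization.AtPrime q)
      (algebraMap (Localization.AtPrime p) (Localization.AtPrime Q) a) • m =
      algebraMap (Localization.AtPrime p) (Localization.AtPrime q) a • m
    rw [← IsScalarTower.algebraMap_apply]
  haveI fB : Module.Finite (Localization.AtPrime q) Mq :=
    Module.Finite.of_isLocalizedModule q.primeCompl (LocalizedModule.mkLinearMap q.primeCompl M)
  haveI fP : Module.Finite (Localization.AtPrime Q) Mq :=
    Module.Finite.trans (Localization.AtPrime q) Mq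
  -- flatness over `A_p`
  haveI t4 : IsScalarTower A (Localization.AtPrime p) Mq := by
    refine ⟨fun a x n => ?_⟩
    show algebraMap _ (Localization.AtPrime q) (a • x) • n =
      a • (algebraMap _ (Localization.AtPrime q) x • n)
    rw [Algebra.smul_def, map_mul, mul_smul, ← IsScalarTower.algebraMap_apply, algebraMap_smul]
  haveI flAp : Module.Flat (Localization.AtPrime p) Mq := by
    rw [Module.flat_iff_of_isLocalization (Localization.AtPrime p) p.primeCompl]
    haveI : Module.Flat A (Localization.AtPrime q ⊗[B] M) :=
      ZT.flat_tensor A B (Localization.AtPrime q) M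
    let e : (Localization.AtPrime q ⊗[B] M) ≃ₗ[Localization.AtPrime q] Mq :=
      (IsLocalizedModule.isBaseChange q.primeCompl (Localization.AtPrime q)
        (LocalizedModule.mkLinearMap q.primeCompl M)).equiv
    exact Module.Flat.of_linearEquiv (e.symm.restrictScalars A)
  -- the closed fibre ring of `P_Q` over `A_p`
  have hI : EGA4.mB (Localization.AtPrime p) (Localization.AtPrime Q) =
      p.map (algebraMap A (Localization.AtPrime Q)) := FlatLoc.map_maximalIdeal A P Q
  let eR : (Localization.AtPrime Q ⧸ EGA4.mB (Localization.AtPrime p) (Localization.AtPrime Q)) ≃+*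
      EGA4.FibLocRing A P Q := Ideal.quotEquivOfEq hI
  have hreg' : IsRegularLocalRing
      (Localization.AtPrime Q ⧸ EGA4.mB (Localization.AtPrime p) (Localization.AtPrime Q)) :=
    IsRegularLocalRing.of_ringEquiv eR.symm
  obtain ⟨e, δ, hpd, hdepth, hdim⟩ := local_formula (A := Localization.AtPrime p)
    (B := Localization.AtPrime Q) hreg' Mq
  refine ⟨e, δ, fun j => ?_, ?_, ?_⟩
  · -- projective dimension
    rw [← hpd j]
    show HasProjectiveDimensionLE ((ModuleCat.of P M).localizedModule Q.primeCompl) j ↔ _
    rw [Syzygy.hasPdLE_loc_iff, projectiveDimension_le_iff]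
    haveI : IsScalarTower P B Mq := inferInstance
    haveI : IsScalarTower P (Localization.AtPrime Q) Mq := by
      refine IsScalarTower.of_algebraMap_smul fun x m => ?_
      show algebraMap (Localization.AtPrime Q) (Localization.AtPrime q)
        (algebraMap P (Localization.AtPrime Q) x) • m = x • m
      rw [← IsScalarTower.algebraMap_apply P (Localization.AtPrime Q) (Localization.AtPrime q),
        IsScalarTower.algebraMap_apply P B (Localization.AtPrime q), algebraMap_smul,
        algebraMap_smul]
    have hsub : Algebra.algebraMapSubmonoid B Q.primeCompl = q.primeCompl :=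
      Ideal.algebraMapSubmonoid_primeCompl_of_liesOver_surjective q Q hs
    haveI : IsLocalizedModule (Algebra.algebraMapSubmonoid B Q.primeCompl)
        (LocalizedModule.mkLinearMap q.primeCompl M) := by
      rw [hsub]
      infer_instance
    let f : M →ₗ[P] Mq := (LocalizedModule.mkLinearMap q.primeCompl M).restrictScalars P
    haveI : IsLocalizedModule Q.primeCompl f :=
      IsLocalizedModule.restrictScalars Q.primeCompl (LocalizedModule.mkLinearMap q.primeCompl M)
    let e0 : LocalizedModule Q.primeCompl M ≃ₗ[P] Mq := IsLocalizedModule.iso Q.primeCompl f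
    let e1 : LocalizedModule Q.primeCompl M ≃ₗ[Localization.AtPrime Q] Mq :=
      LinearEquiv.extendScalarsOfIsLocalization Q.primeCompl (Localization.AtPrime Q) e0
    exact ⟨fun h => hasProjectiveDimensionLT_of_iso e1.toModuleIso (j + 1),
      fun h => hasProjectiveDimensionLT_of_iso e1.toModuleIso.symm (j + 1)⟩
  · -- depth
    rw [← hdepth]
    set I := EGA4.mB (Localization.AtPrime p) (Localization.AtPrime Q) with hIdef
    haveI : Module.Finite (Localization.AtPrime Q) (Localization.AtPrime Q ⧸ I) :=
      Module.Finite.of_surjective (Algebra.linearMap _ _) Ideal.Quotient.mk_surjective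
    haveI : Module.Finite (Localization.AtPrime Q)
        ((Localization.AtPrime Q ⧸ I) ⊗[Localization.AtPrime Q] Mq) :=
      Module.Finite.trans (Localization.AtPrime Q ⧸ I) _
    haveI : IsLocalHom (algebraMap (Localization.AtPrime Q) (Localization.AtPrime Q ⧸ I)) :=
      IsLocalHom.of_surjective _ Ideal.Quotient.mk_surjective
    have h1 := RegCM.depth_eq_of_isLocalHom (Localization.AtPrime Q) (Localization.AtPrime Q ⧸ I)
      ((Localization.AtPrime Q ⧸ I) ⊗[Localization.AtPrime Q] Mq)
    rw [← h1]
    have hJ : (I • (⊤ : Submodule (Localization.AtPrime Q) Mq)) =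
        (((q.comap (algebraMap A B)).map (algebraMap A (Localization.AtPrime q))) •
          (⊤ : Submodule (Localization.AtPrime q) Mq)).restrictScalars
            (Localization.AtPrime Q) := by
      rw [smul_top_restrictScalars (R := Localization.AtPrime Q) (R' := Localization.AtPrime q) I Mq,
        hI, Ideal.map_map, ← IsScalarTower.algebraMap_eq, hpq]
    let e2 : ((Localization.AtPrime Q ⧸ I) ⊗[Localization.AtPrime Q] Mq)
        ≃ₗ[Localization.AtPrime Q] EGA4.FibLocMod A B q M :=
      (TensorProduct.quotTensorEquivQuotSMul Mq I).trans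
        ((Submodule.quotEquivOfEq _ _ hJ).trans
          (Submodule.Quotient.restrictScalarsEquiv (Localization.AtPrime Q) _))
    have h2 : LocCoh.depth (Localization.AtPrime Q)
        ((Localization.AtPrime Q ⧸ I) ⊗[Localization.AtPrime Q] Mq) =
        LocCoh.depth (Localization.AtPrime Q) (EGA4.FibLocMod A B q M) :=
      DepthCM.idealDepth_congr (maximalIdeal (Localization.AtPrime Q)) e2
    rw [h2]
    have hsF : Function.Surjective (algebraMap (Localization.AtPrime Q) (EGA4.FibLocRing A B q)) := by
      rw [IsScalarTower.algebraMap_eq (Localization.AtPrime Q) (Localization.AtPrime q)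
        (EGA4.FibLocRing A B q)]
      exact Ideal.Quotient.mk_surjective.comp hsurj
    haveI : IsLocalHom (algebraMap (Localization.AtPrime Q) (EGA4.FibLocRing A B q)) :=
      IsLocalHom.of_surjective _ hsF
    haveI : Module.Finite (Localization.AtPrime Q) (EGA4.FibLocMod A B q M) :=
      Module.Finite.equiv e2
    haveI : IsNoetherianRing (EGA4.FibLocRing A B q) := Ideal.Quotient.isNoetherianRing _
    exact (RegCM.depth_eq_of_isLocalHom (Localization.AtPrime Q) (EGA4.FibLocRing A B q)
      (EGA4.FibLocMod A B q M)).symm
  · rw [← hdim]
    exact (ringKrullDim_eq_of_ringEquiv eR).symm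

end Global

end Groth.Agent.Helper5.FibMod
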