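import Mathlib
import Groth.Prelude
import Groth.Agent.Helper5.FtDim7

/-!
# FibModH: heights inside a specialization-closed subset of the spectrum of a finite type algebra
over a field
-/

set_option autoImplicit false
set_option linter.unusedSectionVars false
set_option linter.unusedVariables false
set_option linter.style.haveILetI false
universe u
open Order

namespace Groth.Agent.Helper5.FibMod

open Groth.Agent.Helper5.FtDim

section

variable (C : Type u) [CommRing C]
  (Z : Set (PrimeSpectrum C)) (hZ : ∀ x ∈ Z, ∀ y : PrimeSpectrum C, x ≤ y → y ∈ Z)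

theorem height_subtype_le (x : Z) : height x ≤ height x.1 :=
  Order.height_le_height_apply_of_strictMono (f := fun z : Z => z.1) (fun _ _ h => h) x

theorem height_subtype_ne_top (k : Type u) [Field k] [Algebra k C] [Algebra.FiniteType k C]
    (x : Z) : height x ≠ ⊤ :=
  ne_top_of_le_ne_top (FtDim.height_ne_top k C x.1) (height_subtype_le C Z x)

include hZ in
theorem coheight_le_height_subtype_add (k : Type u) [Field k] [Algebra k C]
    [Algebra.FiniteType k C] :
    ∀ (n : ℕ) (x : Z), height x = n → ∀ P : PrimeSpectrum C, P ∈ Z → P ≤ x.1 →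
      coheight P ≤ height x + coheight x.1 := by
  intro n
  induction n using Nat.strong_induction_on with
  | _ n ih =>
    intro x hn P hPZ hP
    rcases eq_or_lt_of_le hP with rfl | hlt
    · exact le_add_self
    · obtain ⟨p', hPp', hcov⟩ := exists_le_covBy k C P x.1 hlt
      have hp'Z : p' ∈ Z := hZ P hPZ p' hPp'
      have hlt' : (⟨p', hp'Z⟩ : Z) < x := hcov.lt
      have h1 : height (⟨p', hp'Z⟩ : Z) + 1 ≤ height x := height_add_one_le hlt'
      obtain ⟨n', hn'⟩ := ENat.ne_top_iff_exists.1 (height_subtype_ne_top C Z k ⟨p', hp'Z⟩)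
      have h2 : n' < n := by
        rw [hn, ← hn'] at h1
        have : ((n' + 1 : ℕ) : ℕ∞) ≤ (n : ℕ∞) := by exact_mod_cast h1
        exact Nat.lt_of_succ_le (by exact_mod_cast this)
      have h3 := ih n' h2 ⟨p', hp'Z⟩ hn'.symm P hPZ hPp'
      have h4 := coheight_add_one_of_covBy k C p' x.1 hcov
      calc coheight P ≤ height (⟨p', hp'Z⟩ : Z) + coheight p' := h3
        _ = height (⟨p', hp'Z⟩ : Z) + (coheight x.1 + 1) := by rw [h4]
        _ = (height (⟨p', hp'Z⟩ : Z) + 1) + coheight x.1 := by
            rw [add_comm (coheight x.1) 1, add_assoc]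
        _ ≤ height x + coheight x.1 := by gcongr

include hZ in
/-- the local dimension of a specialization-closed subset, via coheights of generizations -/
theorem coheight_char (k : Type u) [Field k] [Algebra k C] [Algebra.FiniteType k C]
    (x : Z) (m : ℕ) :
    (m : ℕ∞) ≤ height x + coheight x.1 ↔
      ∃ Q' : PrimeSpectrum C, Q' ∈ Z ∧ Q' ≤ x.1 ∧ (m : ℕ∞) ≤ coheight Q' := by
  constructor
  · intro hm
    obtain ⟨n, hn⟩ := ENat.ne_top_iff_exists.1 (height_subtype_ne_top C Z k x)
    obtain ⟨l, hl1, hl2⟩ := exists_series_of_height_eq_coe x hn.symm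
    let l' : LTSeries (PrimeSpectrum C) := l.map (fun z : Z => z.1) (fun _ _ h => h)
    have h1 := length_add_coheight_last_le l'
    have hlast : l'.last = x.1 := by
      show (l.map _ _).last = x.1
      rw [LTSeries.last_map, hl1]
    have hhead : l'.head = l.head.1 := LTSeries.head_map _ _ _
    have hlen : l'.length = l.length := rfl
    refine ⟨l.head.1, l.head.2, ?_, ?_⟩
    · have := LTSeries.head_le_last l
      rw [hl1] at this
      exact this
    · rw [hlast, hhead, hlen, hl2, hn] at h1
      exact hm.trans h1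
  · rintro ⟨Q', hQ'Z, hQ'x, hm⟩
    obtain ⟨n, hn⟩ := ENat.ne_top_iff_exists.1 (height_subtype_ne_top C Z k x)
    exact hm.trans (coheight_le_height_subtype_add C Z hZ k n x hn.symm Q' hQ'Z hQ'x)

end

end Groth.Agent.Helper5.FibMod
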