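import Mathlib
import Groth.Agent.Helper7.CKO16
import Groth.Agent.Helper7.CKO9
import Groth.Agent.Helper7.CIQuot

/-!
# Ascent of the complete intersection property along a flat local homomorphism (presented form)

`R → S` a flat local homomorphism of regular local rings with regular closed fibre, `A = R/I`,
`B` a flat local `A`-algebra which is a quotient of `S` compatibly.  If `A` and `B/m_A B` are complete
intersections then so is `B`.
-/

set_option autoImplicit false
set_option linter.style.haveILetI false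
set_option linter.unusedSectionVars false
set_option linter.unusedVariables false
universe u
open IsLocalRing RingTheory.Sequence

namespace Groth.Agent.Helper5.CIAsc

open Groth.Agent.Helper5.CIP Groth.Agent.Helper7.CKd

section core

variable (R S : Type u) [CommRing R] [CommRing S] [IsRegularLocalRing R] [IsRegularLocalRing S]
  [Algebra R S] [Module.Flat R S] [IsLocalHom (algebraMap R S)]

/-- the closed fibre of `R/I → S/IS` is the closed fibre of `R → S` -/
theorem fibre_quot_equiv' (I : Ideal R) (hI : I ≠ ⊤) [IsLocalRing (R ⧸ I)] :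
    Nonempty (((S ⧸ I.map (algebraMap R S)) ⧸ (maximalIdeal (R ⧸ I)).map
      (algebraMap (R ⧸ I) (S ⧸ I.map (algebraMap R S)))) ≃+*
      S ⧸ (maximalIdeal R).map (algebraMap R S)) := by
  have hmap : (maximalIdeal (R ⧸ I)).map
      (algebraMap (R ⧸ I) (S ⧸ I.map (algebraMap R S))) =
      ((maximalIdeal R).map (algebraMap R S)).map (Ideal.Quotient.mk (I.map (algebraMap R S))) := by
    rw [← IsLocalRing.map_maximalIdeal_of_surjective (Ideal.Quotient.mk I)
      Ideal.Quotient.mk_surjective, Ideal.map_map, Ideal.map_map]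
    rfl
  have hsup : I.map (algebraMap R S) ⊔ (maximalIdeal R).map (algebraMap R S) =
      (maximalIdeal R).map (algebraMap R S) :=
    sup_eq_right.mpr (Ideal.map_mono (le_maximalIdeal hI))
  exact ⟨(Ideal.quotEquivOfEq hmap).trans
      ((DoubleQuot.quotQuotEquivQuotSup _ _).trans (Ideal.quotEquivOfEq hsup))⟩

theorem core (hfib : IsRegularLocalRing (S ⧸ (maximalIdeal R).map (algebraMap R S)))
    (I : Ideal R) (hI : I ≠ ⊤) [IsLocalRing (R ⧸ I)]
    (B : Type u) [CommRing B] [IsLocalRing B] [Algebra (R ⧸ I) B]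
    [IsLocalHom (algebraMap (R ⧸ I) B)] [Module.Flat (R ⧸ I) B]
    (ρ : S →+* B) (hρ : Function.Surjective ρ)
    (hcomm : ∀ r : R, ρ (algebraMap R S r) = algebraMap (R ⧸ I) B (Ideal.Quotient.mk I r))
    (hA : Pi1.IsCompleteIntersection (R ⧸ I))
    (hF : Pi1.IsCompleteIntersection (EGA4.FibRing (R ⧸ I) B)) :
    Pi1.IsCompleteIntersection B := by
  classical
  -- the intermediate ring `C = S/IS`
  have hIS : I.map (algebraMap R S) ≠ ⊤ := map_ne_top'' R S I hI
  haveI : Nontrivial (S ⧸ I.map (algebraMap R S)) := Ideal.Quotient.nontrivial_iff.mpr hIS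
  haveI : IsLocalRing (S ⧸ I.map (algebraMap R S)) :=
    IsLocalRing.of_surjective' (Ideal.Quotient.mk _) Ideal.Quotient.mk_surjective
  haveI : Module.Flat (R ⧸ I) (S ⧸ I.map (algebraMap R S)) := flat_quot_map'' R S I
  haveI : IsLocalHom (algebraMap (R ⧸ I) (S ⧸ I.map (algebraMap R S))) :=
    isLocalHom_quot_map'' R S I
  obtain ⟨e⟩ := fibre_quot_equiv' R S I hI
  have hregC : IsRegularLocalRing (EGA4.FibRing (R ⧸ I) (S ⧸ I.map (algebraMap R S))) :=
    IsRegularLocalRing.of_ringEquiv e.symm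
  -- `B` as a `C`-algebra
  have hkill : ∀ a ∈ I.map (algebraMap R S), ρ a = 0 := by
    intro a ha
    have hle : I.map (algebraMap R S) ≤ RingHom.ker ρ := by
      rw [Ideal.map_le_iff_le_comap]
      intro r hr
      rw [Ideal.mem_comap, RingHom.mem_ker, hcomm, Ideal.Quotient.eq_zero_iff_mem.mpr hr, map_zero]
    exact hle ha
  let φ : (S ⧸ I.map (algebraMap R S)) →+* B := Ideal.Quotient.lift _ ρ hkill
  letI algCB : Algebra (S ⧸ I.map (algebraMap R S)) B := φ.toAlgebra
  have hφmk : ∀ s : S, algebraMap (S ⧸ I.map (algebraMap R S)) B (Ideal.Quotient.mk _ s) = ρ s :=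
    fun s => rfl
  haveI : IsScalarTower (R ⧸ I) (S ⧸ I.map (algebraMap R S)) B :=
    IsScalarTower.of_algebraMap_eq (fun a => by
      obtain ⟨r, rfl⟩ := Ideal.Quotient.mk_surjective a
      have h1 : algebraMap (R ⧸ I) (S ⧸ I.map (algebraMap R S)) (Ideal.Quotient.mk I r) =
          Ideal.Quotient.mk _ (algebraMap R S r) := rfl
      rw [h1, hφmk, hcomm])
  have hsurj : Function.Surjective (algebraMap (S ⧸ I.map (algebraMap R S)) B) := by
    intro b
    obtain ⟨s, rfl⟩ := hρ b
    exact ⟨Ideal.Quotient.mk _ s, hφmk s⟩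
  obtain ⟨rs, hrs, hw, -⟩ := (s5068 (R ⧸ I) (S ⧸ I.map (algebraMap R S)) B hregC hsurj).mpr
    ⟨inferInstance, hF⟩
  -- generators of `I`
  obtain ⟨fs, hfs, hfreg⟩ := (s2166 I hI).mp hA
  -- lift `rs` to `S`
  obtain ⟨rs', -, hrs'⟩ := exists_lift_list_of_mem_map
    (Ideal.Quotient.mk (I.map (algebraMap R S))) Ideal.Quotient.mk_surjective ⊤ rs
    (fun r _ => by rw [Ideal.map_top]; trivial)
  set fs' : List S := fs.map (algebraMap R S) with hfs'
  have hfs'I : Ideal.ofList fs' = I.map (algebraMap R S) := by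
    rw [hfs', ← Ideal.map_ofList, hfs]
  -- the kernel of `ρ`
  have hker : RingHom.ker ρ = Ideal.ofList (fs' ++ rs') := by
    have h1 : RingHom.ker ρ = (RingHom.ker (algebraMap (S ⧸ I.map (algebraMap R S)) B)).comap
        (Ideal.Quotient.mk (I.map (algebraMap R S))) := by
      ext s
      rw [Ideal.mem_comap, RingHom.mem_ker, RingHom.mem_ker, hφmk]
    rw [h1, ← hrs, ← hrs']
    rw [← Ideal.map_ofList, Ideal.comap_map_of_surjective _ Ideal.Quotient.mk_surjective,
      ← RingHom.ker_eq_comap_bot, Ideal.mk_ker, Ideal.ofList_append, hfs'I, sup_comm]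
  have hKtop : RingHom.ker ρ ≠ ⊤ := RingHom.ker_ne_top ρ
  -- weak regularity of the combined list
  have hw1 : IsWeaklyRegular S fs' := hfreg.1.of_flat
  have hw2 : IsWeaklyRegular (S ⧸ (Ideal.ofList fs' • ⊤ : Submodule S S)) rs' := by
    have h3 : IsWeaklyRegular (S ⧸ RingHom.ker (Ideal.Quotient.mk (I.map (algebraMap R S)))) rs' := by
      rw [wreg_map_iff _ Ideal.Quotient.mk_surjective, hrs']
      exact hw
    have heq : (Ideal.ofList fs' • ⊤ : Submodule S S) =
        RingHom.ker (Ideal.Quotient.mk (I.map (algebraMap R S))) := by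
      rw [Ideal.mk_ker, smul_eq_mul, Ideal.mul_top, hfs'I]
    exact (LinearEquiv.isWeaklyRegular_congr (Submodule.quotEquivOfEq _ _ heq) rs').mpr h3
  have hwall : IsWeaklyRegular S (fs' ++ rs') :=
    (isWeaklyRegular_append_iff S fs' rs').mpr ⟨hw1, hw2⟩
  have hmem : ∀ r ∈ fs' ++ rs', r ∈ maximalIdeal S :=
    genReg_ne_top_mem hKtop hker.symm
  have hreg : IsRegular S (fs' ++ rs') :=
    (IsLocalRing.isRegular_iff_isWeaklyRegular_of_subset_maximalIdeal hmem).2 hwall
  -- conclude
  let eB : (S ⧸ RingHom.ker ρ) ≃+* B := RingHom.quotientKerEquivOfSurjective hρ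
  haveI : IsLocalRing (S ⧸ RingHom.ker ρ) := eB.symm.isLocalRing
  have hCI := Groth.Agent.Helper7.CIQuot.isCompleteIntersection_quot S (fs' ++ rs') hreg hmem
    (RingHom.ker ρ) hker
  haveI : IsNoetherianRing B := isNoetherianRing_of_surjective S B ρ hρ
  exact isCI_of_ringEquiv eB hCI

end core

end Groth.Agent.Helper5.CIAsc
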