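import Mathlib
import Groth.Agent.Lead.RegLocal
import Groth.Agent.Helper2.RegSeq2
import Groth.Agent.Helper2.RegSeq3
import Groth.Agent.Helper2.CIConormal

set_option autoImplicit false
universe u
open IsLocalRing RingTheory.Sequence

namespace Groth.Agent.Helper5.CIP

/-- the ideal is generated by a regular sequence -/
def GenReg {R : Type u} [CommRing R] (I : Ideal R) : Prop :=
  ∃ rs : List R, Ideal.ofList rs = I ∧ IsRegular R rs

section basic

variable {R R' : Type u} [CommRing R] [CommRing R']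

/-- weak regularity along a surjective ring hom -/
theorem wreg_map_iff (φ : R →+* R') (hφ : Function.Surjective φ) (rs : List R) :
    IsWeaklyRegular (R ⧸ RingHom.ker φ) rs ↔ IsWeaklyRegular R' (rs.map φ) := by
  let e : (R ⧸ RingHom.ker φ) ≃+* R' := RingHom.quotientKerEquivOfSurjective hφ
  refine AddEquiv.isWeaklyRegular_congr (e := e.toAddEquiv) ?_
  rw [List.forall₂_map_right_iff]
  refine List.forall₂_same.mpr fun r _ x => ?_
  obtain ⟨y, rfl⟩ := Ideal.Quotient.mk_surjective x
  show e (r • Ideal.Quotient.mk _ y) = φ r • e (Ideal.Quotient.mk _ y)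
  have h1 : r • (Ideal.Quotient.mk (RingHom.ker φ) y) = Ideal.Quotient.mk (RingHom.ker φ) (r * y) := by
    rw [map_mul]; rfl
  rw [h1]
  simp [e, RingHom.quotientKerEquivOfSurjective]

theorem cancel_one {a b : WithBot ℕ∞} (h : a + 1 = b + 1) : a = b := by
  induction a with
  | bot =>
    induction b with
    | bot => rfl
    | coe b =>
      exfalso
      rw [WithBot.bot_add, ← WithBot.coe_one, ← WithBot.coe_add] at h
      exact WithBot.bot_ne_coe h
  | coe a =>
    induction b with
    | bot =>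
      exfalso
      rw [WithBot.bot_add, ← WithBot.coe_one, ← WithBot.coe_add] at h
      exact WithBot.bot_ne_coe h.symm
    | coe b =>
      rw [← WithBot.coe_one, ← WithBot.coe_add, ← WithBot.coe_add, WithBot.coe_inj] at h
      rw [WithBot.coe_inj]
      exact ENat.add_left_injective_of_ne_top (n := 1) (by simp) h

theorem genReg_ne_top_mem {R : Type u} [CommRing R] [IsLocalRing R] {I : Ideal R} (hI : I ≠ ⊤)
    {rs : List R} (hrs : Ideal.ofList rs = I) : ∀ r ∈ rs, r ∈ maximalIdeal R := by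
  intro r hr
  exact IsLocalRing.le_maximalIdeal hI (hrs ▸ Ideal.subset_span hr)

end basic

section comap

variable {R₃ R₁ : Type u} [CommRing R₃] [CommRing R₁] [IsRegularLocalRing R₃]
  [IsRegularLocalRing R₁]

/-- the preimage of an ideal generated by a regular sequence under a surjection of regular local
rings is generated by a regular sequence -/
theorem genReg_comap (φ : R₃ →+* R₁) (hφ : Function.Surjective φ) (I : Ideal R₁) (hI : I ≠ ⊤)
    (h : GenReg I) : GenReg (I.comap φ) := by
  obtain ⟨rs, hrs, hreg⟩ := h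
  set K := RingHom.ker φ with hKdef
  have hK : K ≠ ⊤ := RingHom.ker_ne_top φ
  have hregq : IsRegularLocalRing (R₃ ⧸ K) :=
    IsRegularLocalRing.of_ringEquiv (RingHom.quotientKerEquivOfSurjective hφ).symm
  obtain ⟨c, x, hli, hx⟩ := Groth.Agent.Helper2.RegSeq3.exists_indep_generators K hK hregq
  obtain ⟨hR, hof⟩ := Groth.Agent.Helper2.RegSeq3.isRegular_ofFn c x hli
  let rs₃ : List R₃ := rs.map (Function.surjInv hφ)
  have hmap : rs₃.map φ = rs := by
    simp only [rs₃, List.map_map]
    conv_rhs => rw [← List.map_id rs]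
    apply List.map_congr_left
    intro a _
    exact Function.surjInv_eq hφ a
  have hcomap : I.comap φ ≠ ⊤ := by
    intro htop
    apply hI
    rw [← Ideal.map_comap_of_surjective φ hφ I, htop, Ideal.map_top]
  have hofl : Ideal.ofList (List.ofFn (fun i => (x i : R₃)) ++ rs₃) = I.comap φ := by
    rw [Ideal.ofList_append, hof, ← hx, ← hrs, ← hmap, ← Ideal.map_ofList,
      Ideal.comap_map_of_surjective φ hφ, sup_comm]
    rfl
  refine ⟨List.ofFn (fun i => (x i : R₃)) ++ rs₃, hofl, ?_⟩
  refine IsRegular.of_isWeaklyRegular_of_mem_maximalIdeal R₃ (genReg_ne_top_mem hcomap hofl) ?_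
  rw [isWeaklyRegular_append_iff]
  refine ⟨hR.toIsWeaklyRegular, ?_⟩
  have heq : (Ideal.ofList (List.ofFn fun i => (x i : R₃)) • ⊤ : Submodule R₃ R₃) = K := by
    rw [smul_eq_mul, Ideal.mul_top, hof, ← hx]
  rw [(Submodule.quotEquivOfEq _ _ heq).isWeaklyRegular_congr]
  rw [wreg_map_iff φ hφ, hmap]
  exact hreg.toIsWeaklyRegular

end comap

section exchange

variable {R : Type u} [CommRing R] [IsLocalRing R]

/-- exchange lemma: an element of `I` outside `𝔪 I` can replace one of the generators -/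
theorem exists_span_map_mk (ℓ : ℕ) (g : Fin (ℓ + 1) → R) (x : R)
    (hx : x ∈ Ideal.span (Set.range g))
    (hx' : x ∉ maximalIdeal R * Ideal.span (Set.range g)) :
    ∃ j : Fin (ℓ + 1), (Ideal.span (Set.range g)).map (Ideal.Quotient.mk (Ideal.span {x})) =
      Ideal.span (Set.range fun i : Fin ℓ => Ideal.Quotient.mk (Ideal.span {x}) (g (j.succAbove i))) := by
  classical
  obtain ⟨a, ha⟩ := Ideal.mem_span_range_iff_exists_fun.mp hx
  have hj : ∃ j, a j ∉ maximalIdeal R := by
    by_contra hcon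
    push Not at hcon
    apply hx'
    rw [← ha]
    refine Ideal.sum_mem _ fun i _ => ?_
    exact Ideal.mul_mem_mul (hcon i) (Ideal.subset_span ⟨i, rfl⟩)
  obtain ⟨j, hj⟩ := hj
  have hu : IsUnit (a j) := by
    by_contra hnu
    exact hj ((IsLocalRing.mem_maximalIdeal _).mpr hnu)
  obtain ⟨u, hu⟩ := hu
  refine ⟨j, ?_⟩
  set mk := Ideal.Quotient.mk (Ideal.span {x}) with hmk
  set J := Ideal.span (Set.range fun i : Fin ℓ => mk (g (j.succAbove i))) with hJ
  rw [Ideal.map_span]
  apply le_antisymm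
  · rw [Ideal.span_le]
    rintro _ ⟨_, ⟨i, rfl⟩, rfl⟩
    by_cases hij : i = j
    · subst hij
      -- mk (g i) expressed through the others
      have h0 : mk x = 0 := Ideal.Quotient.eq_zero_iff_mem.mpr (Ideal.mem_span_singleton_self x)
      have h1 : mk (a i) * mk (g i) + ∑ k : Fin ℓ, mk (a (i.succAbove k)) * mk (g (i.succAbove k)) = 0 := by
        have h5 : mk (∑ k, a k * g k) = 0 := by rw [ha]; exact h0
        rw [map_sum, Fin.sum_univ_succAbove _ i] at h5
        simpa [map_mul] using h5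
      have h2 : mk (g i) = - (mk (↑u⁻¹ : R)) * ∑ k : Fin ℓ, mk (a (i.succAbove k)) * mk (g (i.succAbove k)) := by
        have h3 : mk (↑u⁻¹ : R) * mk (a i) = 1 := by
          rw [← map_mul, ← hu, Units.inv_mul, map_one]
        have h4 : mk (g i) = mk (↑u⁻¹ : R) * (mk (a i) * mk (g i)) := by
          rw [← mul_assoc, h3, one_mul]
        rw [h4, eq_neg_of_add_eq_zero_left h1]
        ring
      show mk (g i) ∈ J
      rw [h2]
      refine Ideal.mul_mem_left _ _ (Ideal.sum_mem _ fun k _ => ?_)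
      exact Ideal.mul_mem_left _ _ (Ideal.subset_span ⟨k, rfl⟩)
    · obtain ⟨k, rfl⟩ := Fin.exists_succAbove_eq hij
      exact Ideal.subset_span ⟨k, rfl⟩
  · rw [Ideal.span_le]
    rintro _ ⟨k, rfl⟩
    exact Ideal.subset_span ⟨_, ⟨j.succAbove k, rfl⟩, rfl⟩

end exchange

section step

variable {R : Type u} [CommRing R] [IsRegularLocalRing R]

theorem map_mk_ne_top {A : Type u} [CommRing A] (J I : Ideal A) (hJI : J ≤ I) (hI : I ≠ ⊤) :
    I.map (Ideal.Quotient.mk J) ≠ ⊤ := by
  intro htop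
  apply hI
  have h1 := Ideal.comap_map_of_surjective (Ideal.Quotient.mk J) Ideal.Quotient.mk_surjective I
  rw [htop, Ideal.comap_top, ← RingHom.ker_eq_comap_bot, Ideal.mk_ker, sup_eq_left.mpr hJI] at h1
  exact h1.symm

/-- one step: dividing by an element of `I` that is part of a regular system of parameters -/
theorem genReg_map_mk_singleton (x : R) (hx : x ∈ maximalIdeal R) (hx2 : x ∉ maximalIdeal R ^ 2)
    (I : Ideal R) (hI : I ≠ ⊤) (hxI : x ∈ I) (h : GenReg I) :
    GenReg (I.map (Ideal.Quotient.mk (Ideal.span {x}))) := by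
  classical
  obtain ⟨rs, hrs, hreg⟩ := h
  obtain ⟨hregq, hdimq, -⟩ := Groth.Agent.Lead.RegLocal.quotient_isRegularLocalRing hx hx2
  have hxne : x ≠ 0 := by
    rintro rfl
    exact hx2 (Ideal.zero_mem _)
  -- the length is positive
  obtain ⟨ℓ, hℓ⟩ : ∃ ℓ, rs.length = ℓ + 1 := by
    cases rs with
    | nil =>
      exfalso
      rw [Ideal.ofList_nil] at hrs
      rw [← hrs] at hxI
      exact hxne ((Ideal.mem_bot).mp hxI)
    | cons a l => exact ⟨l.length, rfl⟩
  let g : Fin (ℓ + 1) → R := fun i => rs[(i : ℕ)]'(by rw [hℓ]; exact i.2)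
  have hg : Ideal.span (Set.range g) = I := by
    rw [← hrs]
    unfold Ideal.ofList
    congr 1
    ext r
    simp only [Set.mem_range, Set.mem_ofPred_eq, g]
    constructor
    · rintro ⟨i, rfl⟩
      exact List.getElem_mem _
    · intro hr
      obtain ⟨i, hi, rfl⟩ := List.getElem_of_mem hr
      exact ⟨⟨i, by rw [← hℓ]; exact hi⟩, rfl⟩
  have hIm : I ≤ maximalIdeal R := IsLocalRing.le_maximalIdeal hI
  have hx' : x ∉ maximalIdeal R * Ideal.span (Set.range g) := by
    intro hmem
    apply hx2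
    rw [pow_two]
    exact Ideal.mul_mono_right (hg ▸ hIm) hmem
  obtain ⟨j, hj⟩ := exists_span_map_mk ℓ g x (hg ▸ hxI) hx'
  rw [hg] at hj
  set R' := R ⧸ Ideal.span {x} with hR'
  let hfun : Fin ℓ → R' := fun i => Ideal.Quotient.mk (Ideal.span {x}) (g (j.succAbove i))
  have hxIle : Ideal.span {x} ≤ I := (Ideal.span_singleton_le_iff_mem I).mpr hxI
  have hI' : I.map (Ideal.Quotient.mk (Ideal.span {x})) ≠ ⊤ := map_mk_ne_top _ I hxIle hI
  have hm : ∀ i, hfun i ∈ maximalIdeal R' := by
    intro i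
    apply IsLocalRing.le_maximalIdeal hI'
    rw [hj]
    exact Ideal.subset_span ⟨i, rfl⟩
  have hdim : ringKrullDim (R' ⧸ Ideal.span (Set.range hfun)) + (ℓ : ℕ) = ringKrullDim R' := by
    have h1 := ringKrullDim_add_length_eq_ringKrullDim_of_isRegular rs hreg
    rw [hrs, hℓ] at h1
    have h2 : ringKrullDim (R' ⧸ Ideal.span (Set.range hfun)) = ringKrullDim (R ⧸ I) := by
      rw [← hj]
      exact ringKrullDim_eq_of_ringEquiv (DoubleQuot.quotQuotEquivQuotOfLE hxIle)
    rw [h2]
    apply cancel_one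
    rw [hdimq, ← h1]
    push_cast
    rw [add_assoc]
  have hregfn := Groth.Agent.Helper2.CIConormal.isRegular_ofFn_of_dim hfun hm hdim
  refine ⟨List.ofFn hfun, ?_, hregfn⟩
  rw [hj]
  unfold Ideal.ofList
  congr 1
  ext r
  simp only [List.mem_ofFn, Set.mem_range, Set.mem_ofPred_eq]
  constructor <;> rintro ⟨i, rfl⟩ <;> exact ⟨i, rfl⟩

end step

section descend

theorem map_ne_top_of_ker_le {A B : Type u} [CommRing A] [CommRing B] (φ : A →+* B)
    (hφ : Function.Surjective φ) (I : Ideal A) (hker : RingHom.ker φ ≤ I) (hI : I ≠ ⊤) :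
    I.map φ ≠ ⊤ := by
  intro htop
  apply hI
  have h1 := Ideal.comap_map_of_surjective φ hφ I
  rw [htop, Ideal.comap_top, ← RingHom.ker_eq_comap_bot, sup_eq_left.mpr hker] at h1
  exact h1.symm

/-- the image of an ideal generated by a regular sequence under a surjection of regular local
rings (whose kernel it contains) is generated by a regular sequence -/
theorem genReg_map_of_surjective : ∀ (d : ℕ) (R₃ R₁ : Type u) [CommRing R₃] [CommRing R₁]
    [IsRegularLocalRing R₃] [IsRegularLocalRing R₁] (φ : R₃ →+* R₁), Function.Surjective φ →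
    ringKrullDim R₃ = d → ∀ I : Ideal R₃, RingHom.ker φ ≤ I → I ≠ ⊤ → GenReg I →
    GenReg (I.map φ) := by
  intro d
  induction d with
  | zero =>
    intro R₃ R₁ _ _ _ _ φ hφ hd I hker hI h
    have hk : RingHom.ker φ = ⊥ := by
      by_contra hne
      have hregq : IsRegularLocalRing (R₃ ⧸ RingHom.ker φ) :=
        IsRegularLocalRing.of_ringEquiv (RingHom.quotientKerEquivOfSurjective hφ).symm
      have hnot : ¬ RingHom.ker φ ≤ maximalIdeal R₃ ^ 2 := fun hle =>
        hne (Groth.Agent.Helper2.RegSeq2.eq_bot_of_le_sq _ hle hregq)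
      obtain ⟨x, hxk, hx2⟩ := SetLike.not_le_iff_exists.mp hnot
      have hxm : x ∈ maximalIdeal R₃ :=
        IsLocalRing.le_maximalIdeal (RingHom.ker_ne_top φ) hxk
      obtain ⟨hregq', hdimq, -⟩ := Groth.Agent.Lead.RegLocal.quotient_isRegularLocalRing hxm hx2
      rw [hd] at hdimq
      have h0 : (0 : WithBot ℕ∞) ≤ ringKrullDim (R₃ ⧸ Ideal.span {x}) :=
        ringKrullDim_nonneg_of_nontrivial
      have h1 : (1 : WithBot ℕ∞) ≤ ringKrullDim (R₃ ⧸ Ideal.span {x}) + 1 := by
        calc (1 : WithBot ℕ∞) = 0 + 1 := by simp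
          _ ≤ _ := add_le_add_left h0 1
      rw [hdimq] at h1
      have h2 : ((0 : ℕ) : WithBot ℕ∞) = 0 := by norm_cast
      rw [h2] at h1
      exact (zero_lt_one : (0 : WithBot ℕ∞) < 1).not_ge h1
    obtain ⟨rs, hrs, hreg⟩ := h
    have hImap : I.map φ ≠ ⊤ := map_ne_top_of_ker_le φ hφ I hker hI
    have hofl : Ideal.ofList (rs.map φ) = I.map φ := by rw [← Ideal.map_ofList, hrs]
    refine ⟨rs.map φ, hofl, ?_⟩
    refine IsRegular.of_isWeaklyRegular_of_mem_maximalIdeal R₁ (genReg_ne_top_mem hImap hofl) ?_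
    rw [← wreg_map_iff φ hφ]
    rw [(Submodule.quotEquivOfEqBot _ hk).isWeaklyRegular_congr]
    exact hreg.toIsWeaklyRegular
  | succ d ih =>
    intro R₃ R₁ _ _ _ _ φ hφ hd I hker hI h
    by_cases hk : RingHom.ker φ = ⊥
    · obtain ⟨rs, hrs, hreg⟩ := h
      have hImap : I.map φ ≠ ⊤ := map_ne_top_of_ker_le φ hφ I hker hI
      have hofl : Ideal.ofList (rs.map φ) = I.map φ := by rw [← Ideal.map_ofList, hrs]
      refine ⟨rs.map φ, hofl, ?_⟩
      refine IsRegular.of_isWeaklyRegular_of_mem_maximalIdeal R₁ (genReg_ne_top_mem hImap hofl) ?_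
      rw [← wreg_map_iff φ hφ]
      rw [(Submodule.quotEquivOfEqBot _ hk).isWeaklyRegular_congr]
      exact hreg.toIsWeaklyRegular
    · have hregq : IsRegularLocalRing (R₃ ⧸ RingHom.ker φ) :=
        IsRegularLocalRing.of_ringEquiv (RingHom.quotientKerEquivOfSurjective hφ).symm
      have hnot : ¬ RingHom.ker φ ≤ maximalIdeal R₃ ^ 2 := fun hle =>
        hk (Groth.Agent.Helper2.RegSeq2.eq_bot_of_le_sq _ hle hregq)
      obtain ⟨x, hxk, hx2⟩ := SetLike.not_le_iff_exists.mp hnot
      have hxm : x ∈ maximalIdeal R₃ :=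
        IsLocalRing.le_maximalIdeal (RingHom.ker_ne_top φ) hxk
      obtain ⟨hregq', hdimq, -⟩ := Groth.Agent.Lead.RegLocal.quotient_isRegularLocalRing hxm hx2
      have hd' : ringKrullDim (R₃ ⧸ Ideal.span {x}) = d := by
        apply cancel_one
        rw [hdimq, hd]
        push_cast
        rfl
      have hxI : x ∈ I := hker hxk
      have hxIle : Ideal.span {x} ≤ I := (Ideal.span_singleton_le_iff_mem I).mpr hxI
      have hlift : ∀ a ∈ Ideal.span {x}, φ a = 0 := by
        intro a ha
        have : Ideal.span {x} ≤ RingHom.ker φ := (Ideal.span_singleton_le_iff_mem _).mpr hxk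
        exact this ha
      let φ' : R₃ ⧸ Ideal.span {x} →+* R₁ := Ideal.Quotient.lift (Ideal.span {x}) φ hlift
      have hφ' : Function.Surjective φ' := Ideal.Quotient.lift_surjective_of_surjective _ hlift hφ
      have hcomp : φ'.comp (Ideal.Quotient.mk (Ideal.span {x})) = φ := Ideal.Quotient.lift_comp_mk _ _ _
      have hker' : RingHom.ker φ' ≤ I.map (Ideal.Quotient.mk (Ideal.span {x})) := by
        intro y hy
        obtain ⟨a, rfl⟩ := Ideal.Quotient.mk_surjective y
        have ha : φ a = 0 := by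
          have := (RingHom.mem_ker).mp hy
          simpa [φ'] using this
        exact Ideal.mem_map_of_mem _ (hker ((RingHom.mem_ker).mpr ha))
      have hI' := map_mk_ne_top _ I hxIle hI
      have h' := genReg_map_mk_singleton x hxm hx2 I hI hxI h
      have := ih (R₃ ⧸ Ideal.span {x}) R₁ φ' hφ' hd' _ hker' hI' h'
      rwa [Ideal.map_map, hcomp] at this

/-- **local presentation independence**, abstract form -/
theorem genReg_ker_of_genReg_ker {R₁ R₂ R₃ T : Type u} [CommRing R₁] [CommRing R₂] [CommRing R₃]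
    [CommRing T] [Nontrivial T] [IsRegularLocalRing R₁] [IsRegularLocalRing R₂]
    [IsRegularLocalRing R₃] (φ₁ : R₃ →+* R₁) (hφ₁ : Function.Surjective φ₁) (φ₂ : R₃ →+* R₂)
    (hφ₂ : Function.Surjective φ₂) (π₁ : R₁ →+* T) (π₂ : R₂ →+* T)
    (hπ : π₁.comp φ₁ = π₂.comp φ₂) (h : GenReg (RingHom.ker π₂)) : GenReg (RingHom.ker π₁) := by
  have h2 : GenReg ((RingHom.ker π₂).comap φ₂) :=
    genReg_comap φ₂ hφ₂ _ (RingHom.ker_ne_top π₂) h
  have heq : (RingHom.ker π₂).comap φ₂ = (RingHom.ker π₁).comap φ₁ := by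
    rw [RingHom.comap_ker, RingHom.comap_ker, hπ]
  rw [heq] at h2
  obtain ⟨d, hd⟩ : ∃ d : ℕ, ringKrullDim R₃ = d :=
    ⟨_, (IsRegularLocalRing.spanFinrank_maximalIdeal (R := R₃)).symm⟩
  have hker : RingHom.ker φ₁ ≤ (RingHom.ker π₁).comap φ₁ := by
    intro a ha
    rw [Ideal.mem_comap, (RingHom.mem_ker).mp ha]
    exact Ideal.zero_mem _
  have hne : (RingHom.ker π₁).comap φ₁ ≠ ⊤ := by
    rw [RingHom.comap_ker]
    exact RingHom.ker_ne_top _
  have := genReg_map_of_surjective d R₃ R₁ φ₁ hφ₁ hd _ hker hne h2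
  rwa [Ideal.map_comap_of_surjective φ₁ hφ₁] at this

end descend

end Groth.Agent.Helper5.CIP
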