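import Mathlib
import Groth.Agent.Helper5.CIP1

set_option autoImplicit false
set_option linter.style.haveILetI false
universe u
open IsLocalRing RingTheory.Sequence MvPolynomial

namespace Groth.Agent.Helper5.CIP

section construct

variable (k : Type u) [Field k] {T : Type u} [CommRing T] [IsLocalRing T] [Algebra k T]

/-- a surjection from the localization of a bigger polynomial ring -/
theorem exists_surj_to {n : ℕ} (q : Ideal (MvPolynomial (Fin n) k)) [q.IsPrime]
    (π : Localization.AtPrime q →ₐ[k] T) (hπ : Function.Surjective π)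
    {σ : Type} [Finite σ] (ψ : MvPolynomial σ k →ₐ[k] T) (ι : Fin n → σ)
    (hι : Function.Injective ι)
    (hψ : ∀ i, ψ (X (ι i)) =
      π (algebraMap (MvPolynomial (Fin n) k) (Localization.AtPrime q) (X i)))
    (Q : Ideal (MvPolynomial σ k)) [Q.IsPrime] (hQ : Q = (maximalIdeal T).comap ψ.toRingHom) :
    ∃ φ : Localization.AtPrime Q →+* Localization.AtPrime q, Function.Surjective φ ∧
      ∀ a : MvPolynomial σ k,
        π (φ (algebraMap (MvPolynomial σ k) (Localization.AtPrime Q) a)) = ψ a := by
  classical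
  have hloc : IsLocalHom π.toRingHom := IsLocalHom.of_surjective π.toRingHom hπ
  let l : σ → Localization.AtPrime q := fun s =>
    if h : ∃ i, ι i = s then
      algebraMap (MvPolynomial (Fin n) k) (Localization.AtPrime q) (X h.choose)
    else Function.surjInv hπ (ψ (X s))
  have hl : ∀ s, π (l s) = ψ (X s) := by
    intro s
    by_cases h : ∃ i, ι i = s
    · simp only [l, dif_pos h]
      rw [← hψ, h.choose_spec]
    · simp only [l, dif_neg h]
      exact Function.surjInv_eq hπ _
  have hlι : ∀ i, l (ι i) =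
      algebraMap (MvPolynomial (Fin n) k) (Localization.AtPrime q) (X i) := by
    intro i
    have h : ∃ j, ι j = ι i := ⟨i, rfl⟩
    simp only [l, dif_pos h]
    rw [hι h.choose_spec]
  let Φ : MvPolynomial σ k →ₐ[k] Localization.AtPrime q := aeval l
  have hΦ : ∀ a, π (Φ a) = ψ a := by
    have : π.comp Φ = ψ := by
      apply MvPolynomial.algHom_ext
      intro s
      simp [Φ, hl]
    intro a
    exact DFunLike.congr_fun this a
  have hunits : ∀ y : Q.primeCompl, IsUnit (Φ.toRingHom y) := by
    intro y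
    have hy : (y : MvPolynomial σ k) ∉ Q := y.2
    have hgen : ∀ z : MvPolynomial σ k, z ∉ Q → ψ z ∉ maximalIdeal T := by
      intro z hz hmem
      apply hz
      rw [hQ]
      exact hmem
    have hu : IsUnit (ψ (y : MvPolynomial σ k)) := by
      by_contra hnu
      exact hgen _ hy ((IsLocalRing.mem_maximalIdeal _).mpr hnu)
    rw [← hΦ] at hu
    exact isUnit_of_map_unit π.toRingHom _ hu
  let φ : Localization.AtPrime Q →+* Localization.AtPrime q :=
    IsLocalization.lift (M := Q.primeCompl) hunits
  have hφ : ∀ a, φ (algebraMap (MvPolynomial σ k) (Localization.AtPrime Q) a) = Φ a :=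
    fun a => IsLocalization.lift_eq hunits a
  refine ⟨φ, ?_, fun a => by rw [hφ, hΦ]⟩
  intro r
  obtain ⟨a, s, rfl⟩ := IsLocalization.exists_mk'_eq q.primeCompl r
  have hren : ∀ b : MvPolynomial (Fin n) k, Φ (rename ι b) =
      algebraMap (MvPolynomial (Fin n) k) (Localization.AtPrime q) b := by
    intro b
    have : (Φ.comp (rename ι)) = IsScalarTower.toAlgHom k (MvPolynomial (Fin n) k)
        (Localization.AtPrime q) := by
      apply MvPolynomial.algHom_ext
      intro i
      simp [Φ, hlι]
    exact DFunLike.congr_fun this b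
  have hs' : rename ι (s : MvPolynomial (Fin n) k) ∈ Q.primeCompl := by
    show rename ι (s : MvPolynomial (Fin n) k) ∉ Q
    rw [hQ, Ideal.mem_comap]
    show ψ _ ∉ _
    rw [← hΦ, hren]
    intro hmem
    have hu : IsUnit (π (algebraMap _ (Localization.AtPrime q) (s : MvPolynomial (Fin n) k))) :=
      (IsLocalization.map_units (Localization.AtPrime q) s).map π
    exact (IsLocalRing.mem_maximalIdeal _).mp hmem hu
  refine ⟨IsLocalization.mk' _ (rename ι a) ⟨_, hs'⟩, ?_⟩
  have hspec := IsLocalization.mk'_spec (Localization.AtPrime Q) (rename ι a)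
    (⟨_, hs'⟩ : Q.primeCompl)
  rw [IsLocalization.eq_mk'_iff_mul_eq, ← hren (s : MvPolynomial (Fin n) k), ← hφ, ← map_mul]
  rw [hspec, hφ, hren]

/-- **local presentation independence** for localizations of polynomial rings -/
theorem lpi_poly {n₁ n₂ : ℕ} (q₁ : Ideal (MvPolynomial (Fin n₁) k)) [q₁.IsPrime]
    (q₂ : Ideal (MvPolynomial (Fin n₂) k)) [q₂.IsPrime]
    (π₁ : Localization.AtPrime q₁ →ₐ[k] T) (hπ₁ : Function.Surjective π₁)
    (π₂ : Localization.AtPrime q₂ →ₐ[k] T) (hπ₂ : Function.Surjective π₂)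
    (h : GenReg (RingHom.ker π₂.toRingHom)) : GenReg (RingHom.ker π₁.toRingHom) := by
  let ψ : MvPolynomial (Fin n₁ ⊕ Fin n₂) k →ₐ[k] T :=
    aeval (Sum.elim
      (fun i => π₁ (algebraMap (MvPolynomial (Fin n₁) k) (Localization.AtPrime q₁) (X i)))
      (fun j => π₂ (algebraMap (MvPolynomial (Fin n₂) k) (Localization.AtPrime q₂) (X j))))
  let Q : Ideal (MvPolynomial (Fin n₁ ⊕ Fin n₂) k) := (maximalIdeal T).comap ψ.toRingHom
  haveI : Q.IsPrime := Ideal.comap_isPrime _ _
  haveI : IsRegularRing (MvPolynomial (Fin n₁ ⊕ Fin n₂) k) := inferInstance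
  haveI : IsRegularRing (MvPolynomial (Fin n₁) k) := inferInstance
  haveI : IsRegularRing (MvPolynomial (Fin n₂) k) := inferInstance
  haveI : IsRegularLocalRing (Localization.AtPrime Q) :=
    IsRegularRing.isRegularLocalRing_localization _
  haveI : IsRegularLocalRing (Localization.AtPrime q₁) :=
    IsRegularRing.isRegularLocalRing_localization _
  haveI : IsRegularLocalRing (Localization.AtPrime q₂) :=
    IsRegularRing.isRegularLocalRing_localization _
  obtain ⟨φ₁, hφ₁, h1⟩ := exists_surj_to k q₁ π₁ hπ₁ ψ Sum.inl Sum.inl_injective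
    (fun i => by simp [ψ]) Q rfl
  obtain ⟨φ₂, hφ₂, h2⟩ := exists_surj_to k q₂ π₂ hπ₂ ψ Sum.inr Sum.inr_injective
    (fun i => by simp [ψ]) Q rfl
  refine genReg_ker_of_genReg_ker φ₁ hφ₁ φ₂ hφ₂ π₁.toRingHom π₂.toRingHom ?_ h
  apply IsLocalization.ringHom_ext Q.primeCompl
  refine RingHom.ext fun a => ?_
  show π₁ (φ₁ (algebraMap _ _ a)) = π₂ (φ₂ (algebraMap _ _ a))
  rw [h1, h2]

end construct

section essft

variable (k : Type u) [Field k]

/-- a local algebra essentially of finite type is a quotient of a localization of a polynomial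
ring at a prime -/
theorem exists_surj_of_essFiniteType (R : Type u) [CommRing R] [IsLocalRing R] [Algebra k R]
    [Algebra.EssFiniteType k R] :
    ∃ (n : ℕ) (q : Ideal (MvPolynomial (Fin n) k)) (_ : q.IsPrime)
      (π : Localization.AtPrime q →ₐ[k] R), Function.Surjective π := by
  obtain ⟨n, f, hf⟩ := Algebra.FiniteType.iff_quotient_mvPolynomial''.mp
    (inferInstance : Algebra.FiniteType k (Algebra.EssFiniteType.subalgebra k R))
  let ψ : MvPolynomial (Fin n) k →ₐ[k] R := (Algebra.EssFiniteType.subalgebra k R).val.comp f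
  let q : Ideal (MvPolynomial (Fin n) k) := (maximalIdeal R).comap ψ.toRingHom
  haveI : q.IsPrime := Ideal.comap_isPrime _ _
  have hunits : ∀ y : q.primeCompl, IsUnit (ψ y) := by
    intro y
    by_contra hnu
    exact y.2 ((IsLocalRing.mem_maximalIdeal _).mpr hnu)
  refine ⟨n, q, inferInstance, IsLocalization.liftAlgHom (M := q.primeCompl) hunits, ?_⟩
  intro r
  obtain ⟨a, s, rfl⟩ := IsLocalization.exists_mk'_eq (Algebra.EssFiniteType.submonoid k R) r
  obtain ⟨a', rfl⟩ := hf a
  obtain ⟨s', hs'⟩ := hf (s : Algebra.EssFiniteType.subalgebra k R)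
  have hsu : IsUnit (ψ s') := by
    show IsUnit ((f s' : Algebra.EssFiniteType.subalgebra k R) : R)
    rw [hs']
    exact s.2
  have hsq : s' ∈ q.primeCompl := by
    intro hmem
    exact (IsLocalRing.mem_maximalIdeal _).mp hmem hsu
  refine ⟨IsLocalization.mk' _ a' ⟨s', hsq⟩, ?_⟩
  rw [IsLocalization.eq_mk'_iff_mul_eq]
  show IsLocalization.lift hunits (IsLocalization.mk' _ a' ⟨s', hsq⟩) *
    ((s : Algebra.EssFiniteType.subalgebra k R) : R) = ((f a' : _) : R)
  rw [← hs']
  have hspec := (IsLocalization.lift_mk'_spec (S := Localization.AtPrime q)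
    (g := ψ.toRingHom) hunits a' _ ⟨s', hsq⟩).mp rfl
  rw [mul_comm]
  exact hspec.symm

/-- **local presentation independence**: for two surjections from regular local rings
essentially of finite type over `k` onto the same local `k`-algebra, one kernel is generated by a
regular sequence iff the other is -/
theorem lpi_general {T : Type u} [CommRing T] [IsLocalRing T] [Algebra k T]
    (R R' : Type u) [CommRing R] [CommRing R'] [IsRegularLocalRing R] [IsRegularLocalRing R']
    [Algebra k R] [Algebra k R'] [Algebra.EssFiniteType k R] [Algebra.EssFiniteType k R']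
    (ρ : R →ₐ[k] T) (hρ : Function.Surjective ρ) (ρ' : R' →ₐ[k] T) (hρ' : Function.Surjective ρ')
    (h : GenReg (RingHom.ker ρ'.toRingHom)) : GenReg (RingHom.ker ρ.toRingHom) := by
  obtain ⟨n, q, hq, π, hπ⟩ := exists_surj_of_essFiniteType k R
  obtain ⟨n', q', hq', π', hπ'⟩ := exists_surj_of_essFiniteType k R'
  haveI : IsRegularRing (MvPolynomial (Fin n) k) := inferInstance
  haveI : IsRegularRing (MvPolynomial (Fin n') k) := inferInstance
  haveI : IsRegularLocalRing (Localization.AtPrime q) :=
    IsRegularRing.isRegularLocalRing_localization _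
  haveI : IsRegularLocalRing (Localization.AtPrime q') :=
    IsRegularRing.isRegularLocalRing_localization _
  have h1 : GenReg ((RingHom.ker ρ'.toRingHom).comap π'.toRingHom) :=
    genReg_comap π'.toRingHom hπ' _ (RingHom.ker_ne_top _) h
  rw [RingHom.comap_ker] at h1
  have h2 : GenReg (RingHom.ker (ρ.comp π).toRingHom) :=
    lpi_poly k q q' (ρ.comp π) (hρ.comp hπ) (ρ'.comp π') (hρ'.comp hπ') h1
  obtain ⟨d, hd⟩ : ∃ d : ℕ, ringKrullDim (Localization.AtPrime q) = d :=
    ⟨_, (IsRegularLocalRing.spanFinrank_maximalIdeal (R := Localization.AtPrime q)).symm⟩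
  have hcomap : RingHom.ker (ρ.comp π).toRingHom = (RingHom.ker ρ.toRingHom).comap π.toRingHom := by
    rw [RingHom.comap_ker]
    rfl
  rw [hcomap] at h2
  have hker : RingHom.ker π.toRingHom ≤ (RingHom.ker ρ.toRingHom).comap π.toRingHom := by
    intro a ha
    rw [Ideal.mem_comap, (RingHom.mem_ker).mp ha]
    exact Ideal.zero_mem _
  have hne : (RingHom.ker ρ.toRingHom).comap π.toRingHom ≠ ⊤ := by
    rw [RingHom.comap_ker]
    exact RingHom.ker_ne_top _
  have := genReg_map_of_surjective d _ R π.toRingHom hπ hd _ hker hne h2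
  rwa [Ideal.map_comap_of_surjective π.toRingHom hπ] at this

end essft

end Groth.Agent.Helper5.CIP
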