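import Mathlib
import Groth.Agent.Helper5.CIAsc1
import Groth.Agent.Helper5.CIP2
import Groth.Agent.Helper2.SerreLoc
import Groth.Agent.Helper2.CotTSmooth

/-!
# Ascent of the complete intersection property for algebras essentially of finite type over a field
-/

set_option autoImplicit false
set_option linter.style.haveILetI false
set_option linter.unusedSectionVars false
set_option linter.unusedVariables false
universe u
open IsLocalRing RingTheory.Sequence MvPolynomial

namespace Groth.Agent.Helper5.CIAsc

open Groth.Agent.Helper5.CIP Groth.Agent.Helper7.CKd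

section essft

/-- a local algebra essentially of finite type over a ring is a quotient of a localization of a
polynomial ring at a prime -/
theorem exists_surj_of_essFiniteType' (R₀ : Type u) [CommRing R₀] (T : Type u) [CommRing T]
    [IsLocalRing T] [Algebra R₀ T] [Algebra.EssFiniteType R₀ T] :
    ∃ (n : ℕ) (q : Ideal (MvPolynomial (Fin n) R₀)) (_ : q.IsPrime)
      (π : Localization.AtPrime q →ₐ[R₀] T), Function.Surjective π := by
  obtain ⟨n, f, hf⟩ := Algebra.FiniteType.iff_quotient_mvPolynomial''.mp
    (inferInstance : Algebra.FiniteType R₀ (Algebra.EssFiniteType.subalgebra R₀ T))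
  let ψ : MvPolynomial (Fin n) R₀ →ₐ[R₀] T := (Algebra.EssFiniteType.subalgebra R₀ T).val.comp f
  let q : Ideal (MvPolynomial (Fin n) R₀) := (maximalIdeal T).comap ψ.toRingHom
  haveI : q.IsPrime := Ideal.comap_isPrime _ _
  have hunits : ∀ y : q.primeCompl, IsUnit (ψ y) := by
    intro y
    by_contra hnu
    exact y.2 ((IsLocalRing.mem_maximalIdeal _).mpr hnu)
  refine ⟨n, q, inferInstance, IsLocalization.liftAlgHom (M := q.primeCompl) hunits, ?_⟩
  intro r
  obtain ⟨a, s, rfl⟩ := IsLocalization.exists_mk'_eq (Algebra.EssFiniteType.submonoid R₀ T) r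
  obtain ⟨a', rfl⟩ := hf a
  obtain ⟨s', hs'⟩ := hf (s : Algebra.EssFiniteType.subalgebra R₀ T)
  have hsu : IsUnit (ψ s') := by
    show IsUnit ((f s' : Algebra.EssFiniteType.subalgebra R₀ T) : T)
    rw [hs']
    exact s.2
  have hsq : s' ∈ q.primeCompl := by
    intro hmem
    exact (IsLocalRing.mem_maximalIdeal _).mp hmem hsu
  refine ⟨IsLocalization.mk' _ a' ⟨s', hsq⟩, ?_⟩
  rw [IsLocalization.eq_mk'_iff_mul_eq]
  show IsLocalization.lift hunits (IsLocalization.mk' _ a' ⟨s', hsq⟩) *
    ((s : Algebra.EssFiniteType.subalgebra R₀ T) : T) = ((f a' : _) : T)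
  rw [← hs']
  have hspec := (IsLocalization.lift_mk'_spec (S := Localization.AtPrime q)
    (g := ψ.toRingHom) hunits a' _ ⟨s', hsq⟩).mp rfl
  rw [mul_comm]
  exact hspec.symm

end essft

section fibreReg

variable (R : Type u) [CommRing R] [IsRegularLocalRing R] {m : ℕ}
  (Q : Ideal (MvPolynomial (Fin m) R)) [Q.IsPrime]

/-- the localization of a polynomial ring over a regular local ring at a prime is regular -/
theorem isRegularLocalRing_loc_poly : IsRegularLocalRing (Localization.AtPrime Q) := by
  haveI : IsRegularRing R := Groth.Agent.Helper2.SerreLoc.isRegularRing_of_isRegularLocalRing R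
  haveI : IsRegularRing (MvPolynomial (Fin m) R) := inferInstance
  exact IsRegularRing.isRegularLocalRing_localization Q

/-- the closed fibre of `R → R[y]_Q` is regular when `Q` contains the maximal ideal of `R` -/
theorem isRegularLocalRing_fibre_loc_poly
    (hQ : (maximalIdeal R).map (C : R →+* MvPolynomial (Fin m) R) ≤ Q) :
    IsRegularLocalRing (Localization.AtPrime Q ⧸
      (maximalIdeal R).map (algebraMap R (Localization.AtPrime Q))) := by
  let φ : MvPolynomial (Fin m) R →+* MvPolynomial (Fin m) (ResidueField R) :=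
    MvPolynomial.map (residue R)
  have hφ : Function.Surjective φ := MvPolynomial.map_surjective _ residue_surjective
  have hker : RingHom.ker φ = (maximalIdeal R).map (C : R →+* MvPolynomial (Fin m) R) := by
    rw [MvPolynomial.ker_map, IsLocalRing.ker_residue]
  letI : Algebra (MvPolynomial (Fin m) R) (MvPolynomial (Fin m) (ResidueField R)) := φ.toAlgebra
  have hkerQ : RingHom.ker φ ≤ Q := hker ▸ hQ
  let qb : Ideal (MvPolynomial (Fin m) (ResidueField R)) := Q.map φ
  haveI : qb.IsPrime := Ideal.map_isPrime_of_surjective hφ hkerQ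
  have hcomap : Q = qb.comap (algebraMap (MvPolynomial (Fin m) R)
      (MvPolynomial (Fin m) (ResidueField R))) := by
    show Q = (Q.map φ).comap φ
    rw [Ideal.comap_map_of_surjective φ hφ, ← RingHom.ker_eq_comap_bot]
    exact (sup_eq_left.mpr hkerQ).symm
  obtain ⟨e⟩ := Groth.Agent.Helper2.CotTSmooth.exists_ringEquiv'
    (R := MvPolynomial (Fin m) R) (B := MvPolynomial (Fin m) (ResidueField R)) hφ Q qb hcomap
  have hker' : RingHom.ker (algebraMap (MvPolynomial (Fin m) R)
      (MvPolynomial (Fin m) (ResidueField R))) = RingHom.ker φ := rfl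
  have hmap : (RingHom.ker (algebraMap (MvPolynomial (Fin m) R)
      (MvPolynomial (Fin m) (ResidueField R)))).map
        (algebraMap (MvPolynomial (Fin m) R) (Localization.AtPrime Q)) =
      (maximalIdeal R).map (algebraMap R (Localization.AtPrime Q)) := by
    rw [hker', hker, Ideal.map_map]
    rfl
  haveI : IsRegularRing (MvPolynomial (Fin m) (ResidueField R)) := inferInstance
  haveI : IsRegularLocalRing (Localization.AtPrime qb) :=
    IsRegularRing.isRegularLocalRing_localization qb
  exact IsRegularLocalRing.of_ringEquiv ((Ideal.quotEquivOfEq hmap.symm).trans e).symm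

end fibreReg

end Groth.Agent.Helper5.CIAsc
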