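import Mathlib
import Groth.Agent.Helper5.CIAsc2

/-!
# Ascent of the complete intersection property for algebras essentially of finite type over a field
(main theorem)
-/

set_option autoImplicit false
set_option linter.style.haveILetI false
set_option linter.unusedSectionVars false
set_option linter.unusedVariables false
universe u
open IsLocalRing RingTheory.Sequence MvPolynomial

namespace Groth.Agent.Helper5.CIAsc

open Groth.Agent.Helper5.CIP Groth.Agent.Helper7.CKd

/-- flatness is invariant under replacing the base ring by an isomorphic one -/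
theorem flat_of_ringEquiv_base {A' A B : Type u} [CommRing A'] [CommRing A] [CommRing B]
    [Algebra A B] [Module.Flat A B] (e : A' ≃+* A) :
    letI : Algebra A' B := ((algebraMap A B).comp e.toRingHom).toAlgebra
    Module.Flat A' B := by
  letI algA'B : Algebra A' B := ((algebraMap A B).comp e.toRingHom).toAlgebra
  letI algA'A : Algebra A' A := e.toRingHom.toAlgebra
  haveI : IsScalarTower A' A B := IsScalarTower.of_algebraMap_eq (fun _ => rfl)
  haveI : Module.Flat A' A :=
    Module.Flat.of_linearEquiv (LinearEquiv.ofBijective (Algebra.linearMap A' A) e.bijective).symm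
  exact Module.Flat.trans A' A B

theorem ascent (k : Type u) [Field k] (A B : Type u) [CommRing A] [CommRing B]
    [IsLocalRing A] [IsLocalRing B] [Algebra k A] [Algebra.EssFiniteType k A]
    [Algebra A B] [Algebra.EssFiniteType A B] [IsLocalHom (algebraMap A B)] [Module.Flat A B]
    (hA : Pi1.IsCompleteIntersection A) (hF : Pi1.IsCompleteIntersection (EGA4.FibRing A B)) :
    Pi1.IsCompleteIntersection B := by
  classical
  obtain ⟨n, q, hq, π, hπ⟩ := exists_surj_of_essFiniteType k A
  haveI : IsRegularRing (MvPolynomial (Fin n) k) := inferInstance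
  haveI hR : IsRegularLocalRing (Localization.AtPrime q) :=
    IsRegularRing.isRegularLocalRing_localization _
  -- abbreviations
  obtain ⟨R, _, _, π', hπ', hRdef⟩ : ∃ (R : Type u) (_ : CommRing R) (_ : IsRegularLocalRing R)
      (π' : R →+* A), Function.Surjective π' ∧ True :=
    ⟨Localization.AtPrime q, inferInstance, hR, π.toRingHom, hπ, trivial⟩
  clear hRdef
  let I : Ideal R := RingHom.ker π'
  have hI : I ≠ ⊤ := RingHom.ker_ne_top _
  let eA : (R ⧸ I) ≃+* A := RingHom.quotientKerEquivOfSurjective hπ'
  have heA : ∀ r : R, eA (Ideal.Quotient.mk I r) = π' r := fun r => rfl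
  haveI : IsLocalRing (R ⧸ I) := eA.symm.isLocalRing
  haveI : IsNoetherianRing A := isNoetherianRing_of_surjective R A π' hπ'
  have hA' : Pi1.IsCompleteIntersection (R ⧸ I) := isCI_of_ringEquiv eA.symm hA
  -- `B` as an `R ⧸ I`-algebra
  letI algA'B : Algebra (R ⧸ I) B := ((algebraMap A B).comp eA.toRingHom).toAlgebra
  haveI : IsLocalHom eA.toRingHom := IsLocalHom.of_surjective _ eA.surjective
  haveI : IsLocalHom (algebraMap (R ⧸ I) B) :=
    RingHom.isLocalHom_comp (algebraMap A B) eA.toRingHom
  haveI : Module.Flat (R ⧸ I) B := flat_of_ringEquiv_base eA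
  -- `B` as an `R`-algebra
  letI algRA : Algebra R A := π'.toAlgebra
  letI algRB : Algebra R B := ((algebraMap A B).comp π').toAlgebra
  haveI : IsScalarTower R A B := IsScalarTower.of_algebraMap_eq (fun _ => rfl)
  haveI : Algebra.EssFiniteType R A :=
    Algebra.EssFiniteType.of_surjective (Algebra.ofId R A) hπ'
  haveI : Algebra.EssFiniteType R B := Algebra.EssFiniteType.comp R A B
  obtain ⟨m, Q, hQ, ρ, hρ⟩ := exists_surj_of_essFiniteType' R B
  haveI : IsRegularLocalRing (Localization.AtPrime Q) := isRegularLocalRing_loc_poly R Q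
  haveI : Module.Flat R (Localization.AtPrime Q) :=
    Module.Flat.trans R (MvPolynomial (Fin m) R) (Localization.AtPrime Q)
  haveI : IsLocalHom π' := IsLocalHom.of_surjective _ hπ'
  haveI hlocRB : IsLocalHom (algebraMap R B) := RingHom.isLocalHom_comp (algebraMap A B) π'
  have hcomp : ρ.toRingHom.comp (algebraMap R (Localization.AtPrime Q)) = algebraMap R B := by
    ext r
    exact ρ.commutes r
  haveI : IsLocalHom (algebraMap R (Localization.AtPrime Q)) := by
    haveI : IsLocalHom (ρ.toRingHom.comp (algebraMap R (Localization.AtPrime Q))) := by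
      rw [hcomp]; exact hlocRB
    exact isLocalHom_of_comp _ ρ.toRingHom
  haveI : IsLocalHom ρ.toRingHom := IsLocalHom.of_surjective _ hρ
  -- the prime `Q` contains the maximal ideal of `R`
  have hQm : (maximalIdeal R).map (C : R →+* MvPolynomial (Fin m) R) ≤ Q := by
    rw [Ideal.map_le_iff_le_comap]
    intro r hr
    rw [Ideal.mem_comap, ← IsLocalization.AtPrime.to_map_mem_maximal_iff (Localization.AtPrime Q) Q]
    by_contra hnot
    have hu : IsUnit (algebraMap (MvPolynomial (Fin m) R) (Localization.AtPrime Q) (C r)) := by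
      by_contra hnu
      exact hnot ((IsLocalRing.mem_maximalIdeal _).mpr hnu)
    have hu' : IsUnit (ρ (algebraMap (MvPolynomial (Fin m) R) (Localization.AtPrime Q) (C r))) :=
      hu.map ρ
    have h1 : ρ (algebraMap (MvPolynomial (Fin m) R) (Localization.AtPrime Q) (C r)) =
        algebraMap R B r := by
      have h2 : algebraMap (MvPolynomial (Fin m) R) (Localization.AtPrime Q) (C r) =
          algebraMap R (Localization.AtPrime Q) r := by
        rw [IsScalarTower.algebraMap_apply R (MvPolynomial (Fin m) R) (Localization.AtPrime Q)]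
        rfl
      rw [h2]
      exact ρ.commutes r
    rw [h1] at hu'
    have hur : IsUnit r := isUnit_of_map_unit (algebraMap R B) r hu'
    exact (IsLocalRing.mem_maximalIdeal _).mp hr hur
  have hfib := isRegularLocalRing_fibre_loc_poly R Q hQm
  -- compatibility
  have hcomm : ∀ r : R, ρ.toRingHom (algebraMap R (Localization.AtPrime Q) r) =
      algebraMap (R ⧸ I) B (Ideal.Quotient.mk I r) := by
    intro r
    have h1 : ρ.toRingHom (algebraMap R (Localization.AtPrime Q) r) = algebraMap R B r :=
      ρ.commutes r
    rw [h1]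
    show (algebraMap A B) (π' r) = (algebraMap A B) (eA (Ideal.Quotient.mk I r))
    rw [heA]
  -- the fibre ring
  have hideal : (maximalIdeal (R ⧸ I)).map (algebraMap (R ⧸ I) B) =
      (maximalIdeal A).map (algebraMap A B) := by
    have h1 : algebraMap (R ⧸ I) B = (algebraMap A B).comp eA.toRingHom := rfl
    rw [h1, ← Ideal.map_map, IsLocalRing.map_maximalIdeal_of_surjective eA.toRingHom eA.surjective]
  haveI : IsNoetherianRing B :=
    isNoetherianRing_of_surjective (Localization.AtPrime Q) B ρ.toRingHom hρ
  have hF' : Pi1.IsCompleteIntersection (EGA4.FibRing (R ⧸ I) B) :=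
    isCI_of_ringEquiv (Ideal.quotEquivOfEq hideal.symm) hF
  exact core R (Localization.AtPrime Q) hfib I hI B ρ.toRingHom hρ hcomm hA' hF'

end Groth.Agent.Helper5.CIAsc
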