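import Mathlib
import Groth.Agent.Helper5.CIAsc3
import Groth.Agent.Helper5.CMFib4
import Groth.Prelude.Def_CInt

/-!
# Composition of complete intersection morphisms
-/

set_option autoImplicit false
set_option linter.style.haveILetI false
set_option linter.unusedSectionVars false
set_option linter.unusedVariables false
universe u
open IsLocalRing AlgebraicGeometry CategoryTheory CategoryTheory.Limits

namespace Groth.Agent.Helper5.CIAsc

open Groth.Agent.Helper5.CMFib Groth.Agent.Helper7.CKd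

section Tower

variable (A B C : Type u) [CommRing A] [CommRing B] [CommRing C] [IsLocalRing A] [IsLocalRing B]
  [IsLocalRing C] [Algebra A B] [Algebra B C] [Algebra A C] [IsScalarTower A B C]
  [IsLocalHom (algebraMap A B)] [IsLocalHom (algebraMap B C)] [IsLocalHom (algebraMap A C)]

omit [IsLocalRing C] [Algebra B C] [Algebra A C] [IsScalarTower A B C]
  [IsLocalHom (algebraMap B C)] [IsLocalHom (algebraMap A C)] [CommRing C] in
/-- the closed fibre ring of a local homomorphism essentially of finite type is Noetherian -/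
theorem noeth_fibRing [Algebra.EssFiniteType A B] : IsNoetherianRing (B ⧸ EGA4.mB A B) := by
  letI algk : Algebra (ResidueField A) (B ⧸ EGA4.mB A B) :=
    inferInstanceAs (Algebra (A ⧸ maximalIdeal A) (B ⧸ (maximalIdeal A).map (algebraMap A B)))
  haveI : Algebra.EssFiniteType (ResidueField A) (B ⧸ EGA4.mB A B) :=
    inferInstanceAs (Algebra.EssFiniteType (A ⧸ maximalIdeal A)
      (B ⧸ (maximalIdeal A).map (algebraMap A B)))
  exact Algebra.EssFiniteType.isNoetherianRing (ResidueField A) _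

/-- composition of complete intersection local homomorphisms essentially of finite type,
ring form -/
theorem ci_comp_ring [Algebra.EssFiniteType A B] [Algebra.EssFiniteType B C] [Module.Flat B C]
    (hB : Pi1.IsCompleteIntersection (B ⧸ EGA4.mB A B))
    (hC : Pi1.IsCompleteIntersection (C ⧸ EGA4.mB B C)) :
    Pi1.IsCompleteIntersection (C ⧸ EGA4.mB A C) := by
  -- the rings
  haveI : IsLocalRing (C ⧸ (EGA4.mB A B).map (algebraMap B C)) :=
    IsLocalRing.of_surjective' (Ideal.Quotient.mk _) Ideal.Quotient.mk_surjective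
  -- algebra structures over the residue field
  letI algk : Algebra (ResidueField A) (B ⧸ EGA4.mB A B) :=
    inferInstanceAs (Algebra (A ⧸ maximalIdeal A) (B ⧸ (maximalIdeal A).map (algebraMap A B)))
  haveI : Algebra.EssFiniteType (ResidueField A) (B ⧸ EGA4.mB A B) :=
    inferInstanceAs (Algebra.EssFiniteType (A ⧸ maximalIdeal A)
      (B ⧸ (maximalIdeal A).map (algebraMap A B)))
  haveI : Algebra.EssFiniteType (B ⧸ EGA4.mB A B) (C ⧸ (EGA4.mB A B).map (algebraMap B C)) :=
    inferInstance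
  -- Noetherianity
  haveI : IsNoetherianRing (B ⧸ EGA4.mB A B) :=
    Algebra.EssFiniteType.isNoetherianRing (ResidueField A) _
  haveI : IsNoetherianRing (C ⧸ (EGA4.mB A B).map (algebraMap B C)) :=
    Algebra.EssFiniteType.isNoetherianRing (B ⧸ EGA4.mB A B) _
  haveI : IsNoetherianRing (C ⧸ EGA4.mB B C) := by
    letI : Algebra (ResidueField B) (C ⧸ EGA4.mB B C) :=
      inferInstanceAs (Algebra (B ⧸ maximalIdeal B) (C ⧸ (maximalIdeal B).map (algebraMap B C)))
    haveI : Algebra.EssFiniteType (ResidueField B) (C ⧸ EGA4.mB B C) :=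
      inferInstanceAs (Algebra.EssFiniteType (B ⧸ maximalIdeal B)
        (C ⧸ (maximalIdeal B).map (algebraMap B C)))
    exact Algebra.EssFiniteType.isNoetherianRing (ResidueField B) _
  obtain ⟨e⟩ := fibre_quot_equiv A B C
  have hF : Pi1.IsCompleteIntersection
      (EGA4.FibRing (B ⧸ EGA4.mB A B) (C ⧸ (EGA4.mB A B).map (algebraMap B C))) :=
    isCI_of_ringEquiv e.symm hC
  have h1 := ascent (ResidueField A) (B ⧸ EGA4.mB A B)
    (C ⧸ (EGA4.mB A B).map (algebraMap B C)) hB hF
  let eq : (C ⧸ (EGA4.mB A B).map (algebraMap B C)) ≃+* (C ⧸ EGA4.mB A C) :=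
    Ideal.quotEquivOfEq (map_mB A B C)
  haveI : IsNoetherianRing (C ⧸ EGA4.mB A C) := isNoetherianRing_of_ringEquiv _ eq
  exact isCI_of_ringEquiv eq h1

end Tower

section Sch

variable {X Y Z : Scheme.{u}} (f : X ⟶ Y) (g : Y ⟶ Z)

theorem ci_fibre_comp [LocallyOfFiniteType f] [LocallyOfFiniteType g] [Flat f] (x : X)
    (hf : Pi1.IsCompleteIntersection (CInt.fiberStalk f x))
    (hg : Pi1.IsCompleteIntersection (CInt.fiberStalk g (f x))) :
    Pi1.IsCompleteIntersection (CInt.fiberStalk (f ≫ g) x) := by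
  letI algAB : Algebra (Z.presheaf.stalk (g (f x))) (Y.presheaf.stalk (f x)) :=
    (g.stalkMap (f x)).hom.toAlgebra
  letI algBC : Algebra (Y.presheaf.stalk (f x)) (X.presheaf.stalk x) :=
    (f.stalkMap x).hom.toAlgebra
  letI algAC : Algebra (Z.presheaf.stalk (g (f x))) (X.presheaf.stalk x) :=
    ((f ≫ g).stalkMap x).hom.toAlgebra
  haveI : IsLocalHom (algebraMap (Y.presheaf.stalk (f x)) (X.presheaf.stalk x)) :=
    inferInstanceAs (IsLocalHom (f.stalkMap x).hom)
  haveI : IsLocalHom (algebraMap (Z.presheaf.stalk (g (f x))) (Y.presheaf.stalk (f x))) :=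
    inferInstanceAs (IsLocalHom (g.stalkMap (f x)).hom)
  haveI : IsLocalHom (algebraMap (Z.presheaf.stalk (g (f x))) (X.presheaf.stalk x)) :=
    inferInstanceAs (IsLocalHom ((f ≫ g).stalkMap x).hom)
  haveI : IsScalarTower (Z.presheaf.stalk (g (f x))) (Y.presheaf.stalk (f x))
      (X.presheaf.stalk x) :=
    IsScalarTower.of_algebraMap_eq (fun a => by
      change ((f ≫ g).stalkMap x).hom a = (f.stalkMap x).hom ((g.stalkMap (f x)).hom a)
      rw [Scheme.Hom.stalkMap_comp]
      rfl)
  haveI : Module.Flat (Y.presheaf.stalk (f x)) (X.presheaf.stalk x) := Flat.stalkMap f x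
  haveI : Algebra.EssFiniteType (Z.presheaf.stalk (g (f x))) (Y.presheaf.stalk (f x)) :=
    LocallyOfFiniteType.stalkMap (f := g) (f x)
  haveI : Algebra.EssFiniteType (Y.presheaf.stalk (f x)) (X.presheaf.stalk x) :=
    LocallyOfFiniteType.stalkMap (f := f) x
  haveI : Algebra.EssFiniteType (Z.presheaf.stalk (g (f x))) (X.presheaf.stalk x) :=
    Algebra.EssFiniteType.comp _ (Y.presheaf.stalk (f x)) _
  obtain ⟨ef⟩ : Nonempty ((X.presheaf.stalk x ⧸
      EGA4.mB (Y.presheaf.stalk (f x)) (X.presheaf.stalk x)) ≃+* CInt.fiberStalk f x) :=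
    fibre_stalk_equiv' f x
  obtain ⟨eg⟩ : Nonempty ((Y.presheaf.stalk (f x) ⧸
      EGA4.mB (Z.presheaf.stalk (g (f x))) (Y.presheaf.stalk (f x))) ≃+*
        CInt.fiberStalk g (f x)) :=
    fibre_stalk_equiv' g (f x)
  obtain ⟨efg⟩ : Nonempty ((X.presheaf.stalk x ⧸
      EGA4.mB (Z.presheaf.stalk (g (f x))) (X.presheaf.stalk x)) ≃+*
        CInt.fiberStalk (f ≫ g) x) :=
    fibre_stalk_equiv' (f ≫ g) x
  -- Noetherianity of the rings involved
  haveI := noeth_fibRing (Z.presheaf.stalk (g (f x))) (Y.presheaf.stalk (f x))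
  haveI := noeth_fibRing (Y.presheaf.stalk (f x)) (X.presheaf.stalk x)
  haveI := noeth_fibRing (Z.presheaf.stalk (g (f x))) (X.presheaf.stalk x)
  haveI : IsNoetherianRing (CInt.fiberStalk f x) := isNoetherianRing_of_ringEquiv _ ef
  haveI : IsNoetherianRing (CInt.fiberStalk g (f x)) := isNoetherianRing_of_ringEquiv _ eg
  haveI : IsNoetherianRing (CInt.fiberStalk (f ≫ g) x) := isNoetherianRing_of_ringEquiv _ efg
  have hB := isCI_of_ringEquiv eg.symm hg
  have hC := isCI_of_ringEquiv ef.symm hf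
  have h1 := ci_comp_ring (Z.presheaf.stalk (g (f x))) (Y.presheaf.stalk (f x))
    (X.presheaf.stalk x) hB hC
  exact isCI_of_ringEquiv efg h1

theorem main (hf : CInt.IsCIMorphism f) (hg : CInt.IsCIMorphism g) :
    CInt.IsCIMorphism (f ≫ g) := by
  obtain ⟨hf1, hf2, hf3⟩ := hf
  obtain ⟨hg1, hg2, hg3⟩ := hg
  haveI := hf1
  haveI := hf2
  haveI := hg1
  haveI := hg2
  refine ⟨inferInstance, inferInstance, fun x => ?_⟩
  exact ci_fibre_comp f g x (hf3 x) (hg3 (f x))

end Sch

end Groth.Agent.Helper5.CIAsc
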