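import Mathlib
import Groth.Agent.Helper5.SyntLocz2

set_option autoImplicit false
set_option linter.style.haveILetI false
universe u
open TensorProduct MvPolynomial

namespace Groth.Agent.Helper5.SyntLocz

variable (k : Type u) [Field k]

theorem isLCIOver_away (S : Type u) [CommRing S] [Algebra k S] (g : S)
    (h : Synt.IsLCIOver k S) : Synt.IsLCIOver k (Localization.Away g) := by
  obtain ⟨hft, hloc⟩ := h
  refine ⟨?_, ?_⟩
  · haveI := hft
    haveI : Algebra.FiniteType S (Localization.Away g) :=
      IsLocalization.finiteType_of_monoid_fg (Submonoid.powers g) (Localization.Away g)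
    exact Algebra.FiniteType.trans hft this
  · intro P
    let p : PrimeSpectrum S := PrimeSpectrum.comap (algebraMap S (Localization.Away g)) P
    obtain ⟨h', hh', hCI⟩ := hloc p
    refine ⟨algebraMap S _ h', hh', ?_⟩
    have h1 := isGlobalCI_away k (Localization.Away h') (algebraMap S (Localization.Away h') g) hCI
    haveI i1 : IsLocalization.Away (g * h')
        (Localization.Away (algebraMap S (Localization.Away h') g)) := inferInstance
    haveI i2 : IsLocalization.Away (g * h')
        (Localization.Away (algebraMap S (Localization.Away g) h')) := by
      rw [mul_comm]; infer_instance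
    let e : Localization.Away (algebraMap S (Localization.Away h') g) ≃ₐ[S]
        Localization.Away (algebraMap S (Localization.Away g) h') :=
      IsLocalization.algEquiv (Submonoid.powers (g * h')) _ _
    exact isGlobalCI_of_algEquiv k _ _ (e.restrictScalars k) h1

/-- S9141 -/
theorem s9141 (S : Type u) [CommRing S] [Algebra k S] (g : S) :
    (Synt.IsGlobalCI k S → Synt.IsGlobalCI k (Localization.Away g)) ∧
      (Synt.IsLCIOver k S → Synt.IsLCIOver k (Localization.Away g)) :=
  ⟨isGlobalCI_away k S g, isLCIOver_away k S g⟩

end Groth.Agent.Helper5.SyntLocz
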