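import Mathlib
import Groth.Agent.Helper5.CIP2
import Groth.Agent.Helper5.LciS7
import Groth.Agent.Helper5.SyntCM2
import Groth.Agent.Helper5.SyntLocz3
import Groth.Agent.Helper7.VascF
import Groth.Agent.S15821

set_option autoImplicit false
set_option linter.style.haveILetI false
universe u
open IsLocalRing RingTheory.Sequence MvPolynomial TensorProduct

namespace Groth.Agent.Helper5.CIP

open Groth.Agent.Helper5.SM Groth.Agent.Helper5.LciS

section field

variable (k : Type u) [Field k]

/-- a standard syntomic algebra over a field is a global complete intersection -/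
theorem isGlobalCI_of_stdSynt (S' : Type u) [CommRing S'] [Algebra k S']
    (h : StdSynt (algebraMap k S')) : Synt.IsGlobalCI k S' := by
  obtain ⟨n, c, F, hF, e, he⟩ := h
  by_cases hsub : Subsingleton S'
  · exact Or.inl hsub
  · rw [not_subsingleton_iff_nontrivial] at hsub
    let B := Synt.RelGCIRing k n c F
    haveI : Nontrivial B := e.symm.toEquiv.nontrivial
    let p0 : PrimeSpectrum k := ⟨⊥, Ideal.isPrime_bot⟩
    haveI : (p0.asIdeal).IsMaximal := Ideal.bot_isMaximal
    have hb : Function.Bijective (algebraMap k p0.asIdeal.ResidueField) :=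
      ⟨(algebraMap k p0.asIdeal.ResidueField).injective,
        Ideal.algebraMap_residueField_surjective p0.asIdeal⟩
    let e0 : p0.asIdeal.ResidueField ⊗[k] B ≃ₐ[k] B :=
      (Algebra.TensorProduct.congr
        (AlgEquiv.ofBijective (Algebra.ofId k p0.asIdeal.ResidueField) hb).symm
        (AlgEquiv.refl : B ≃ₐ[k] B)).trans (Algebra.TensorProduct.lid k B)
    haveI : Nontrivial (p0.asIdeal.Fiber B) := e0.toEquiv.nontrivial
    obtain ⟨hcn, hdim⟩ := hF p0 inferInstance
    have hdimB : ringKrullDim B = ((n - c : ℕ) : WithBot ℕ∞) := by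
      rw [← hdim]
      exact (ringKrullDim_eq_of_ringEquiv e0.toRingEquiv).symm
    let φ' : MvPolynomial (Fin n) k →ₐ[k] S' :=
      { toRingHom := e.symm.toRingHom.comp (Ideal.Quotient.mk (Ideal.span (Set.range F)))
        commutes' := by
          intro r
          show e.symm (Ideal.Quotient.mk _ (algebraMap k _ r)) = algebraMap k S' r
          rw [RingEquiv.symm_apply_eq, he]
          rfl }
    refine Or.inr ⟨n, c, hcn, φ', F, ?_, ?_, ?_⟩
    · exact e.symm.surjective.comp Ideal.Quotient.mk_surjective
    · show RingHom.ker (e.symm.toRingHom.comp (Ideal.Quotient.mk (Ideal.span (Set.range F)))) = _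
      have hinj : RingHom.ker e.symm.toRingHom = ⊥ :=
        (RingHom.injective_iff_ker_eq_bot _).mp e.symm.injective
      rw [← RingHom.comap_ker, hinj, ← RingHom.ker_eq_comap_bot, Ideal.mk_ker]
    · rw [ringKrullDim_eq_of_ringEquiv e, hdimB]

/-- spreading out: if the extension of `J` to the local ring at `m` is generated by a regular
sequence, a basic open neighbourhood is a global complete intersection -/
theorem exists_isGlobalCI_away_of_genReg (n : ℕ) (J : Ideal (MvPolynomial (Fin n) k))
    (m : Ideal (MvPolynomial (Fin n) k)) [m.IsPrime] (hJm : J ≤ m)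
    (h : GenReg (J.map (algebraMap (MvPolynomial (Fin n) k) (Localization.AtPrime m)))) :
    ∃ g, g ∉ m ∧ Synt.IsGlobalCI k (Localization.Away (Ideal.Quotient.mk J g)) := by
  classical
  obtain ⟨xs, hxs, hreg⟩ := h
  let P := MvPolynomial (Fin n) k
  let S := Localization.AtPrime m
  let sec : S → P × m.primeCompl := IsLocalization.sec m.primeCompl
  let u : S → S := fun a => algebraMap P S (sec a).2
  have hu : ∀ a, IsUnit (u a) := fun a => IsLocalization.map_units S (sec a).2
  let ys : List P := xs.map fun a => (sec a).1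
  have hys : ys.map (algebraMap P S) = xs.map fun a => a * u a := by
    rw [List.map_map]
    apply List.map_congr_left
    intro a _
    exact (IsLocalization.sec_spec m.primeCompl a).symm
  have hreg' : IsWeaklyRegular S (ys.map (algebraMap P S)) := by
    rw [hys]
    exact Groth.Agent.Helper7.Vasc.isWeaklyRegular_map_mul_unit u hu xs hreg.toIsWeaklyRegular
  have hof' : Ideal.ofList (ys.map (algebraMap P S)) = J.map (algebraMap P S) := by
    rw [hys, Groth.Agent.Helper7.Vasc.ofList_map_mul_unit u hu xs, hxs]
  obtain ⟨g, hg, hregg, hofg⟩ := Groth.Agent.Helper7.Vasc.spread m J hJm ys hreg' hof'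
  refine ⟨g, hg, ?_⟩
  have hl := (Groth.Agent.S15821.result _ _ hregg.toIsWeaklyRegular).1
  haveI : Module.Flat k (MvPolynomial (Fin n) k ⧸ J) := inferInstance
  have hstd := stdSynt_away_of_kreg k n J g _ hl hofg.symm
  exact isGlobalCI_of_stdSynt k _ hstd

end field

section localized

variable {k A B : Type u} [CommRing k] [CommRing A] [CommRing B] [Algebra k A] [Algebra k B]

/-- the localization of a surjection at a prime is surjective, with kernel the extension of the
kernel -/
theorem localAlgHom_surjective_ker (φ : A →ₐ[k] B) (hφ : Function.Surjective φ) (P : Ideal B)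
    [P.IsPrime] (m : Ideal A) [m.IsPrime] (hm : m = P.comap φ) :
    Function.Surjective (Localization.localAlgHom m P φ hm) ∧
      RingHom.ker (Localization.localAlgHom m P φ hm).toRingHom =
        (RingHom.ker φ.toRingHom).map (algebraMap A (Localization.AtPrime m)) := by
  have hprime : ∀ s : A, s ∈ m.primeCompl ↔ φ s ∈ P.primeCompl := by
    intro s
    show s ∉ m ↔ φ s ∉ P
    rw [hm, Ideal.mem_comap]
  constructor
  · intro z
    obtain ⟨b, t, rfl⟩ := IsLocalization.exists_mk'_eq P.primeCompl z
    obtain ⟨a, rfl⟩ := hφ b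
    obtain ⟨s, hs⟩ := hφ (t : B)
    have hsm : s ∈ m.primeCompl := (hprime s).mpr (hs ▸ t.2)
    refine ⟨IsLocalization.mk' _ a ⟨s, hsm⟩, ?_⟩
    rw [Localization.localAlgHom_apply, Localization.localRingHom_mk']
    congr 1
    exact Subtype.ext hs
  · have hT : Submonoid.map φ.toRingHom m.primeCompl = P.primeCompl := by
      ext y
      constructor
      · rintro ⟨s, hs, rfl⟩
        exact (hprime s).mp hs
      · intro hy
        obtain ⟨s, rfl⟩ := hφ y
        exact ⟨s, (hprime s).mpr hy, rfl⟩
    exact IsLocalization.ker_map (Localization.AtPrime P) φ.toRingHom hT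

theorem awayMap_bijective (e : A ≃ₐ[k] B) (a : A) :
    Function.Bijective (Localization.awayMapₐ e.toAlgHom a) := by
  have H : (Submonoid.powers a).map e.toRingEquiv.toMonoidHom = Submonoid.powers (e a) := by
    rw [Submonoid.map_powers]; rfl
  let E := IsLocalization.ringEquivOfRingEquiv (Localization.Away a) (Localization.Away (e a))
    e.toRingEquiv H
  have : (Localization.awayMapₐ e.toAlgHom a : Localization.Away a → Localization.Away (e a)) = E := by
    ext x
    rfl
  rw [this]
  exact E.bijective

/-- isomorphic algebras have isomorphic basic localizations -/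
noncomputable def awayAlgEquiv (e : A ≃ₐ[k] B) (a : A) :
    Localization.Away a ≃ₐ[k] Localization.Away (e a) :=
  AlgEquiv.ofBijective (Localization.awayMapₐ e.toAlgHom a) (awayMap_bijective e a)

end localized

section bridge

variable (k : Type u) [Field k]

theorem isCIOver_of_algEquiv (T T' : Type u) [CommRing T] [CommRing T'] [IsLocalRing T]
    [IsLocalRing T'] [Algebra k T] [Algebra k T'] (e : T ≃ₐ[k] T') (h : Synt.IsCIOver k T) :
    Synt.IsCIOver k T' := by
  obtain ⟨R, i1, i2, i3, hess, rs, hmem, hreg, ⟨e'⟩⟩ := h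
  exact ⟨R, i1, i2, i3, hess, rs, hmem, hreg, ⟨e.symm.trans e'⟩⟩

/-- the local rings of a global complete intersection over a field are complete intersections -/
theorem isCIOver_atPrime_of_isGlobalCI (S : Type u) [CommRing S] [Algebra k S]
    (h : Synt.IsGlobalCI k S) (P : Ideal S) [hP : P.IsPrime] :
    Synt.IsCIOver k (Localization.AtPrime P) := by
  classical
  rcases h with hsub | ⟨n, c, hcn, φ, r, hφ, hker, hdim⟩
  · exfalso
    exact hP.ne_top (Subsingleton.elim _ _)
  · let J : Ideal (MvPolynomial (Fin n) k) := RingHom.ker φ.toRingHom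
    let e : (MvPolynomial (Fin n) k ⧸ J) ≃+* S := RingHom.quotientKerEquivOfSurjective hφ
    have hdim' : ringKrullDim (MvPolynomial (Fin n) k ⧸ J) ≤ ((n - c : ℕ) : WithBot ℕ∞) := by
      rw [ringKrullDim_eq_of_ringEquiv e, hdim]
    have hJ := Groth.Agent.Helper5.SyntCM.le_height_of_dim_quot_le k n c hcn J hdim'
    let m : Ideal (MvPolynomial (Fin n) k) := P.comap φ
    haveI hmprime : m.IsPrime := Ideal.comap_isPrime _ _
    have hJm : J ≤ m := by
      intro x hx
      show φ x ∈ P
      have h0 : φ x = 0 := (RingHom.mem_ker).mp hx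
      rw [h0]
      exact P.zero_mem
    let A := Localization.AtPrime m
    haveI : IsRegularRing (MvPolynomial (Fin n) k) := inferInstance
    haveI : IsRegularLocalRing A := IsRegularRing.isRegularLocalRing_localization m
    have hCM : LocCoh.IsCohenMacaulayModule A A :=
      Groth.Agent.Helper2.RegCM.cm_of_isRegularLocalRing A
    let xs : List A := List.ofFn (fun i => algebraMap (MvPolynomial (Fin n) k) A (r i))
    have hxs : xs.length = c := List.length_ofFn
    have hfm : ∀ i, r i ∈ m := fun i => hJm (by
      show r i ∈ RingHom.ker φ.toRingHom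
      rw [hker]; exact Ideal.subset_span ⟨i, rfl⟩)
    have hmem : ∀ x ∈ xs, x ∈ maximalIdeal A := by
      intro x hx
      rw [List.mem_ofFn] at hx
      obtain ⟨i, rfl⟩ := hx
      rw [← Ideal.mem_comap, ← Ideal.under_def, IsLocalization.AtPrime.under_maximalIdeal A m]
      exact hfm i
    have hJle : J ≤ (Ideal.ofList xs).under (MvPolynomial (Fin n) k) := by
      show RingHom.ker φ.toRingHom ≤ _
      rw [hker, Ideal.span_le]
      rintro _ ⟨i, rfl⟩
      show algebraMap _ A (r i) ∈ Ideal.ofList xs
      exact Ideal.subset_span (List.mem_ofFn.2 ⟨i, rfl⟩)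
    have hht : (xs.length : ℕ∞) ≤ (Ideal.ofList xs).height := by
      rw [hxs, ← IsLocalization.height_under m.primeCompl (Ideal.ofList xs)]
      exact hJ.trans (Ideal.height_mono hJle)
    obtain ⟨h1, -⟩ := Groth.Agent.Helper6.CINormal.cm_quot_of_height hCM xs hmem hht
    have hwreg := Groth.Agent.Helper2.DepthCM2.weaklyRegular_of_dim_drop xs A hCM hmem h1
    have hreg : IsRegular A xs := IsRegular.of_isWeaklyRegular_of_mem_maximalIdeal A hmem hwreg
    obtain ⟨hρsurj, hρker⟩ := localAlgHom_surjective_ker φ hφ P m rfl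
    have hkereq : RingHom.ker (Localization.localAlgHom m P φ rfl).toRingHom = Ideal.ofList xs := by
      rw [hρker, hker, Ideal.map_span]
      unfold Ideal.ofList
      congr 1
      ext x
      simp only [Set.mem_image, Set.mem_range, exists_exists_eq_and, xs, List.mem_ofFn]
      rfl
    refine ⟨A, inferInstance, inferInstance, inferInstance, inferInstance, xs, hmem, hreg, ⟨?_⟩⟩
    exact ((Ideal.quotientEquivAlgOfEq k hkereq.symm).trans
      (Ideal.quotientKerAlgEquivOfSurjective hρsurj)).symm

/-- if the local ring at `P` is a complete intersection, the kernel of any polynomial presentation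
becomes generated by a regular sequence in the local ring of the polynomial ring -/
theorem genReg_of_isCIOver (S : Type u) [CommRing S] [Algebra k S] {n : ℕ}
    (φ : MvPolynomial (Fin n) k →ₐ[k] S) (hφ : Function.Surjective φ) (P : Ideal S) [P.IsPrime]
    (m : Ideal (MvPolynomial (Fin n) k)) [m.IsPrime] (hm : m = P.comap φ)
    (h : Synt.IsCIOver k (Localization.AtPrime P)) :
    GenReg ((RingHom.ker φ.toRingHom).map
      (algebraMap (MvPolynomial (Fin n) k) (Localization.AtPrime m))) := by
  obtain ⟨R, i1, i2, i3, hess, rs, hmem, hreg, ⟨e⟩⟩ := h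
  haveI : IsRegularRing (MvPolynomial (Fin n) k) := inferInstance
  haveI : IsRegularLocalRing (Localization.AtPrime m) :=
    IsRegularRing.isRegularLocalRing_localization m
  obtain ⟨hρsurj, hρker⟩ := localAlgHom_surjective_ker φ hφ P m hm
  let ρ' : R →ₐ[k] Localization.AtPrime P :=
    e.symm.toAlgHom.comp (Ideal.Quotient.mkₐ k (Ideal.ofList rs))
  have hρ' : Function.Surjective ρ' :=
    e.symm.surjective.comp (Ideal.Quotient.mkₐ_surjective k _)
  have hker' : RingHom.ker ρ'.toRingHom = Ideal.ofList rs := by
    ext x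
    simp only [RingHom.mem_ker, ρ']
    show e.symm (Ideal.Quotient.mk _ x) = 0 ↔ _
    rw [map_eq_zero_iff _ e.symm.injective, Ideal.Quotient.eq_zero_iff_mem]
  have h1 : GenReg (RingHom.ker ρ'.toRingHom) := ⟨rs, hker'.symm, hreg⟩
  have := lpi_general k (Localization.AtPrime m) R (Localization.localAlgHom m P φ hm) hρsurj
    ρ' hρ' h1
  rwa [hρker] at this

/-- a complete intersection local ring of a finite type algebra has a basic open neighbourhood
which is a global complete intersection -/
theorem exists_isGlobalCI_away (S : Type u) [CommRing S] [Algebra k S] [Algebra.FiniteType k S]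
    (P : Ideal S) [P.IsPrime] (h : Synt.IsCIOver k (Localization.AtPrime P)) :
    ∃ g : S, g ∉ P ∧ Synt.IsGlobalCI k (Localization.Away g) := by
  obtain ⟨n, φ, hφ⟩ := Algebra.FiniteType.iff_quotient_mvPolynomial''.mp
    (inferInstance : Algebra.FiniteType k S)
  let m : Ideal (MvPolynomial (Fin n) k) := P.comap φ
  haveI : m.IsPrime := Ideal.comap_isPrime _ _
  have hgen := genReg_of_isCIOver k S φ hφ P m rfl h
  have hJm : RingHom.ker φ.toRingHom ≤ m := by
    intro x hx
    show φ x ∈ P
    have h0 : φ x = 0 := (RingHom.mem_ker).mp hx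
    rw [h0]
    exact P.zero_mem
  obtain ⟨g, hg, hG⟩ := exists_isGlobalCI_away_of_genReg k n _ m hJm hgen
  let e : (MvPolynomial (Fin n) k ⧸ RingHom.ker φ.toRingHom) ≃ₐ[k] S :=
    Ideal.quotientKerAlgEquivOfSurjective hφ
  refine ⟨φ g, hg, ?_⟩
  exact Groth.Agent.Helper5.SyntLocz.isGlobalCI_of_algEquiv k _ _
    (awayAlgEquiv e (Ideal.Quotient.mk _ g)) hG

end bridge

end Groth.Agent.Helper5.CIP
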