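import Mathlib
import Groth.Agent.Helper5.CIP3

set_option autoImplicit false
set_option linter.style.haveILetI false
universe u
open IsLocalRing

namespace Groth.Agent.Helper5.CIP

variable (k : Type u) [Field k]

section away

variable (S : Type u) [CommRing S] [Algebra k S]

theorem isCIOver_iff_away (g : S) (p : Ideal (Localization.Away g)) [p.IsPrime] :
    Synt.IsCIOver k (Localization.AtPrime (p.comap (algebraMap S (Localization.Away g)))) ↔
      Synt.IsCIOver k (Localization.AtPrime p) := by
  haveI : IsScalarTower k S (Localization.AtPrime p) := IsScalarTower.of_algebraMap_eq (fun x => by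
    rw [IsScalarTower.algebraMap_apply k (Localization.Away g) (Localization.AtPrime p),
      IsScalarTower.algebraMap_apply k S (Localization.Away g),
      ← IsScalarTower.algebraMap_apply S (Localization.Away g) (Localization.AtPrime p)])
  let e : Localization.AtPrime (p.comap (algebraMap S (Localization.Away g))) ≃ₐ[k]
      Localization.AtPrime p :=
    (IsLocalization.localizationLocalizationAtPrimeIsoLocalization (Submonoid.powers g)
      p).restrictScalars k
  exact ⟨isCIOver_of_algEquiv k _ _ e, isCIOver_of_algEquiv k _ _ e.symm⟩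

theorem isCIOver_congr_ideal (q q' : Ideal S) [q.IsPrime] [q'.IsPrime] (h : q' = q) :
    Synt.IsCIOver k (Localization.AtPrime q') ↔ Synt.IsCIOver k (Localization.AtPrime q) := by
  subst h
  exact Iff.rfl

theorem disjoint_powers (q : Ideal S) [hq : q.IsPrime] (g : S) (hg : g ∉ q) :
    Disjoint (Submonoid.powers g : Set S) (q : Set S) := by
  rw [Set.disjoint_left]
  rintro _ ⟨n, rfl⟩ hn
  exact hg (hq.mem_of_pow_mem n hn)

/-- a prime with a global complete intersection basic open neighbourhood has a complete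
intersection local ring -/
theorem isCIOver_of_isGlobalCI_away (q : Ideal S) [hq : q.IsPrime] (g : S) (hg : g ∉ q)
    (h : Synt.IsGlobalCI k (Localization.Away g)) : Synt.IsCIOver k (Localization.AtPrime q) := by
  have hdisj := disjoint_powers S q g hg
  let p : Ideal (Localization.Away g) := q.map (algebraMap S (Localization.Away g))
  haveI : p.IsPrime := IsLocalization.isPrime_of_isPrime_disjoint (Submonoid.powers g) _ q hq hdisj
  have hcomap : p.comap (algebraMap S (Localization.Away g)) = q :=
    IsLocalization.under_map_of_isPrime_disjoint (Submonoid.powers g) _ hq hdisj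
  have h1 := isCIOver_atPrime_of_isGlobalCI k (Localization.Away g) h p
  have h2 := (isCIOver_iff_away k S g p).mpr h1
  exact (isCIOver_congr_ideal k S q _ hcomap).mp h2

theorem isLCIOver_of_isGlobalCI [Algebra.FiniteType k S] (h : Synt.IsGlobalCI k S) :
    Synt.IsLCIOver k S := by
  refine ⟨inferInstance, fun p => ⟨1, ?_, Groth.Agent.Helper5.SyntLocz.isGlobalCI_away k S 1 h⟩⟩
  intro h1
  exact p.isPrime.ne_top ((Ideal.eq_top_iff_one _).mpr h1)

theorem s9144 [Algebra.FiniteType k S] (q : Ideal S) [q.IsPrime] :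
    (Synt.IsCIOver k (Localization.AtPrime q) ↔
        ∃ g : S, g ∉ q ∧ Synt.IsLCIOver k (Localization.Away g)) ∧
      (Synt.IsCIOver k (Localization.AtPrime q) ↔
        ∃ g : S, g ∉ q ∧ Synt.IsGlobalCI k (Localization.Away g)) := by
  have hsecond : Synt.IsCIOver k (Localization.AtPrime q) ↔
      ∃ g : S, g ∉ q ∧ Synt.IsGlobalCI k (Localization.Away g) :=
    ⟨exists_isGlobalCI_away k S q, fun ⟨g, hg, h⟩ => isCIOver_of_isGlobalCI_away k S q g hg h⟩
  refine ⟨⟨fun h => ?_, fun ⟨g, hg, h⟩ => ?_⟩, hsecond⟩
  · obtain ⟨g, hg, hG⟩ := hsecond.mp h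
    exact ⟨g, hg, isLCIOver_of_isGlobalCI k _ hG⟩
  · have hdisj := disjoint_powers S q g hg
    let p : Ideal (Localization.Away g) := q.map (algebraMap S (Localization.Away g))
    haveI hp : p.IsPrime :=
      IsLocalization.isPrime_of_isPrime_disjoint (Submonoid.powers g) _ q inferInstance hdisj
    have hcomap : p.comap (algebraMap S (Localization.Away g)) = q :=
      IsLocalization.under_map_of_isPrime_disjoint (Submonoid.powers g) _ inferInstance hdisj
    obtain ⟨g', hg', hG⟩ := h.2 ⟨p, hp⟩
    have h1 := isCIOver_of_isGlobalCI_away k (Localization.Away g) p g' hg' hG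
    have h2 := (isCIOver_iff_away k S g p).mpr h1
    exact (isCIOver_congr_ideal k S q _ hcomap).mp h2

theorem s9145 [Algebra.FiniteType k S] :
    (Synt.IsLCIOver k S ↔ ∀ p : PrimeSpectrum S, Synt.IsCIOver k (Localization.AtPrime p.asIdeal)) ∧
      (Synt.IsLCIOver k S ↔
        ∀ m : MaximalSpectrum S, Synt.IsCIOver k (Localization.AtPrime m.asIdeal)) := by
  have h1 : Synt.IsLCIOver k S → ∀ p : PrimeSpectrum S,
      Synt.IsCIOver k (Localization.AtPrime p.asIdeal) := by
    intro h p
    obtain ⟨g, hg, hG⟩ := h.2 p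
    exact isCIOver_of_isGlobalCI_away k S p.asIdeal g hg hG
  have h2 : (∀ m : MaximalSpectrum S, Synt.IsCIOver k (Localization.AtPrime m.asIdeal)) →
      Synt.IsLCIOver k S := by
    intro h
    refine ⟨inferInstance, fun p => ?_⟩
    obtain ⟨M, hM, hpM⟩ := Ideal.exists_le_maximal p.asIdeal p.isPrime.ne_top
    obtain ⟨g, hg, hG⟩ := exists_isGlobalCI_away k S M (h ⟨M, hM⟩)
    exact ⟨g, fun hgp => hg (hpM hgp), hG⟩
  have h3 : (∀ p : PrimeSpectrum S, Synt.IsCIOver k (Localization.AtPrime p.asIdeal)) →
      ∀ m : MaximalSpectrum S, Synt.IsCIOver k (Localization.AtPrime m.asIdeal) :=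
    fun h m => h ⟨m.asIdeal, m.isMaximal.isPrime⟩
  exact ⟨⟨h1, fun h => h2 (h3 h)⟩, ⟨fun h => h3 (h1 h), h2⟩⟩

end away

end Groth.Agent.Helper5.CIP
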