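import Mathlib
import Groth.Agent.Helper5.CIP4

set_option autoImplicit false
set_option linter.style.haveILetI false
universe u
open IsLocalRing RingTheory.Sequence

namespace Groth.Agent.Helper5.CIP

theorem subsingleton_of_mem_of_isSMulRegular {R M : Type*} [CommRing R] [AddCommGroup M] [Module R M]
    (J : Ideal R) (r : R) (hr : r ∈ J) (h : IsSMulRegular (M ⧸ (J • ⊤ : Submodule R M)) r) :
    (J • ⊤ : Submodule R M) = ⊤ := by
  apply Submodule.Quotient.subsingleton_iff.mp
  constructor
  intro x y
  apply h
  obtain ⟨x, rfl⟩ := Submodule.Quotient.mk_surjective _ x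
  obtain ⟨y, rfl⟩ := Submodule.Quotient.mk_surjective _ y
  show r • Submodule.Quotient.mk x = r • Submodule.Quotient.mk y
  rw [← Submodule.Quotient.mk_smul, ← Submodule.Quotient.mk_smul,
    (Submodule.Quotient.mk_eq_zero _).mpr (Submodule.smul_mem_smul hr Submodule.mem_top),
    (Submodule.Quotient.mk_eq_zero _).mpr (Submodule.smul_mem_smul hr Submodule.mem_top)]

/-- a regular sequence has no repetitions -/
theorem nodup_of_isRegular {R M : Type*} [CommRing R] [AddCommGroup M] [Module R M]
    (rs : List R) (h : RingTheory.Sequence.IsRegular M rs) : rs.Nodup := by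
  rw [List.nodup_iff_getElem?_ne_getElem?]
  intro i j hij hj heq
  have hi : i < rs.length := hij.trans hj
  rw [List.getElem?_eq_getElem hi, List.getElem?_eq_getElem hj, Option.some_inj] at heq
  have hreg := h.toIsWeaklyRegular.regular_mod_prev j hj
  have hmem : rs[j] ∈ Ideal.ofList (rs.take j) := by
    apply Ideal.subset_span
    rw [← heq]
    show rs[i] ∈ rs.take j
    rw [List.mem_take_iff_getElem]
    exact ⟨i, by simp only [lt_min_iff]; exact ⟨hij, hi⟩, rfl⟩
  have htop := subsingleton_of_mem_of_isSMulRegular _ _ hmem hreg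
  have hle : (Ideal.ofList (rs.take j) • ⊤ : Submodule R M) ≤ Ideal.ofList rs • ⊤ := by
    apply Submodule.smul_mono_left
    apply Ideal.span_mono
    intro x hx
    exact List.mem_of_mem_take hx
  exact h.top_ne_smul (le_antisymm (htop.ge.trans hle) le_top)

section s9171

variable (k : Type u) [Field k] (n : ℕ) (I : Ideal (MvPolynomial (Fin n) k))
  (q : Ideal (MvPolynomial (Fin n) k ⧸ I)) [q.IsPrime]

theorem globalCI_nhd_iff_genReg :
    (∃ g : MvPolynomial (Fin n) k ⧸ I, g ∉ q ∧ Synt.IsGlobalCI k (Localization.Away g)) ↔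
      GenReg (I.map (algebraMap (MvPolynomial (Fin n) k)
        (Localization.AtPrime (q.comap (Ideal.Quotient.mk I))))) := by
  have hIq' : I ≤ q.comap (Ideal.Quotient.mk I) := by
    intro x hx
    rw [Ideal.mem_comap, Ideal.Quotient.eq_zero_iff_mem.mpr hx]
    exact q.zero_mem
  constructor
  · intro h
    have hCI := (s9144 k _ q).2.mpr h
    have := genReg_of_isCIOver k _ (Ideal.Quotient.mkₐ k I) (Ideal.Quotient.mkₐ_surjective k I) q
      (q.comap (Ideal.Quotient.mk I)) rfl hCI
    have hker : RingHom.ker (Ideal.Quotient.mkₐ k I).toRingHom = I := Ideal.mk_ker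
    rwa [hker] at this
  · intro h
    obtain ⟨g, hg, hG⟩ := exists_isGlobalCI_away_of_genReg k n I _ hIq' h
    exact ⟨Ideal.Quotient.mk I g, hg, hG⟩

theorem dim_quot_map_eq_height :
    ringKrullDim (Localization.AtPrime (q.comap (Ideal.Quotient.mk I)) ⧸
      I.map (algebraMap (MvPolynomial (Fin n) k)
        (Localization.AtPrime (q.comap (Ideal.Quotient.mk I))))) = q.height := by
  obtain ⟨hρsurj, hρker⟩ := localAlgHom_surjective_ker (Ideal.Quotient.mkₐ k I)
    (Ideal.Quotient.mkₐ_surjective k I) q (q.comap (Ideal.Quotient.mk I)) rfl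
  have hker : RingHom.ker (Ideal.Quotient.mkₐ k I).toRingHom = I := Ideal.mk_ker
  rw [hker] at hρker
  rw [← hρker, ringKrullDim_eq_of_ringEquiv (RingHom.quotientKerEquivOfSurjective hρsurj),
    IsLocalization.AtPrime.ringKrullDim_eq_height q]

theorem s9171 (c : ℕ)
    (hc : (c : ℕ∞) + q.height = (q.comap (Ideal.Quotient.mk I)).height) :
    ((∃ g : MvPolynomial (Fin n) k ⧸ I, g ∉ q ∧ Synt.IsGlobalCI k (Localization.Away g)) ↔
        ∃ s : Finset (Localization.AtPrime (q.comap (Ideal.Quotient.mk I))), s.card = c ∧
          Ideal.span (s : Set _) =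
            I.map (algebraMap _ (Localization.AtPrime (q.comap (Ideal.Quotient.mk I))))) ∧
      ((∃ g : MvPolynomial (Fin n) k ⧸ I, g ∉ q ∧ Synt.IsGlobalCI k (Localization.Away g)) ↔
        ∃ rs : List (Localization.AtPrime (q.comap (Ideal.Quotient.mk I))),
          RingTheory.Sequence.IsRegular (Localization.AtPrime (q.comap (Ideal.Quotient.mk I))) rs ∧
          Ideal.ofList rs =
            I.map (algebraMap _ (Localization.AtPrime (q.comap (Ideal.Quotient.mk I))))) := by
  classical
  have h5 : GenReg (I.map (algebraMap (MvPolynomial (Fin n) k)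
        (Localization.AtPrime (q.comap (Ideal.Quotient.mk I))))) ↔
      ∃ rs : List (Localization.AtPrime (q.comap (Ideal.Quotient.mk I))),
          RingTheory.Sequence.IsRegular (Localization.AtPrime (q.comap (Ideal.Quotient.mk I))) rs ∧
          Ideal.ofList rs =
            I.map (algebraMap _ (Localization.AtPrime (q.comap (Ideal.Quotient.mk I)))) :=
    ⟨fun ⟨rs, h1, h2⟩ => ⟨rs, h2, h1⟩, fun ⟨rs, h1, h2⟩ => ⟨rs, h2, h1⟩⟩
  have h2 : GenReg (I.map (algebraMap (MvPolynomial (Fin n) k)
        (Localization.AtPrime (q.comap (Ideal.Quotient.mk I))))) ↔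
      ∃ s : Finset (Localization.AtPrime (q.comap (Ideal.Quotient.mk I))), s.card = c ∧
          Ideal.span (s : Set _) =
            I.map (algebraMap _ (Localization.AtPrime (q.comap (Ideal.Quotient.mk I)))) := by
    constructor
    · rintro ⟨rs, hrs, hreg⟩
      have hnd := nodup_of_isRegular rs hreg
      refine ⟨rs.toFinset, ?_, ?_⟩
      · rw [List.toFinset_card_of_nodup hnd]
        have hdim := ringKrullDim_add_length_eq_ringKrullDim_of_isRegular rs hreg
        rw [hrs, dim_quot_map_eq_height k n I q,
          IsLocalization.AtPrime.ringKrullDim_eq_height (q.comap (Ideal.Quotient.mk I)), ← hc] at hdim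
        obtain ⟨a, ha⟩ := ENat.ne_top_iff_exists.mp (Ideal.height_ne_top_of_isPrime (I := q))
        rw [← ha] at hdim
        have : (a : ℕ) + rs.length = c + a := by exact_mod_cast hdim
        omega
      · rw [← hrs, List.coe_toFinset]
    · rintro ⟨s, hcard, hspan⟩
      let f : Fin c → Localization.AtPrime (q.comap (Ideal.Quotient.mk I)) :=
        fun i => ((s.equivFin.symm (i.cast hcard.symm) : s) : _)
      have hrange : Set.range f = (s : Set _) := by
        ext x
        constructor
        · rintro ⟨i, rfl⟩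
          exact (s.equivFin.symm (i.cast hcard.symm)).2
        · intro hx
          refine ⟨(s.equivFin ⟨x, hx⟩).cast hcard, ?_⟩
          simp [f]
      have hspan' : Ideal.span (Set.range f) = I.map (algebraMap _ _) := by rw [hrange, hspan]
      have hf : ∀ i, f i ∈ I.map (algebraMap (MvPolynomial (Fin n) k)
          (Localization.AtPrime (q.comap (Ideal.Quotient.mk I)))) := by
        intro i
        rw [← hspan']
        exact Ideal.subset_span ⟨i, rfl⟩
      have hgen : Ideal.span (Set.range f) ⊔
          IsLocalRing.maximalIdeal (Localization.AtPrime (q.comap (Ideal.Quotient.mk I))) *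
            I.map (algebraMap _ (Localization.AtPrime (q.comap (Ideal.Quotient.mk I)))) =
          I.map (algebraMap _ (Localization.AtPrime (q.comap (Ideal.Quotient.mk I)))) := by
        rw [hspan']
        exact sup_eq_left.mpr Ideal.mul_le_right
      have hreg := Groth.Agent.Helper2.CIConormal.s12082 k n I q c hc f hf hgen
      refine ⟨List.ofFn f, ?_, hreg⟩
      rw [← hspan']
      unfold Ideal.ofList
      congr 1
      ext x
      simp [List.mem_ofFn]
  rw [globalCI_nhd_iff_genReg k n I q]
  exact ⟨h2, h5⟩

end s9171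

end Groth.Agent.Helper5.CIP
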