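import Mathlib
import Groth.Agent.Helper5.CIP5

set_option autoImplicit false
set_option linter.style.haveILetI false
universe u
open IsLocalRing RingTheory.Sequence

namespace Groth.Agent.Helper5.CIP

variable (k : Type u) [Field k]

section s9143

variable (S : Type u) [CommRing S] [IsLocalRing S] [Algebra k S]

/-- generators of the kernel of a surjection onto a local ring lie in the maximal ideal -/
theorem mem_maximalIdeal_of_ker {R : Type u} [CommRing R] [IsLocalRing R] [Algebra k R]
    (π : R →ₐ[k] S) (rs : List R) (hker : RingHom.ker π.toRingHom = Ideal.ofList rs) :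
    ∀ r ∈ rs, r ∈ maximalIdeal R := by
  intro r hr
  have h1 : r ∈ RingHom.ker π.toRingHom := by
    rw [hker]
    exact Ideal.subset_span hr
  exact IsLocalRing.le_maximalIdeal (RingHom.ker_ne_top _) h1

/-- a presentation by a regular sequence exhibits a complete intersection -/
theorem isCIOver_of_presentation (R : Type u) [CommRing R] [IsRegularLocalRing R] [Algebra k R]
    (hess : Algebra.EssFiniteType k R) (π : R →ₐ[k] S) (hπ : Function.Surjective π)
    (rs : List R) (hreg : IsRegular R rs) (hker : RingHom.ker π.toRingHom = Ideal.ofList rs) :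
    Synt.IsCIOver k S := by
  refine ⟨R, inferInstance, inferInstance, inferInstance, hess, rs,
    mem_maximalIdeal_of_ker k S π rs hker, hreg, ⟨?_⟩⟩
  exact (Ideal.quotientKerAlgEquivOfSurjective hπ).symm.trans
    (Ideal.quotientEquivAlgOfEq k hker)

/-- a complete intersection has a presentation by a regular sequence -/
theorem presentation_of_isCIOver (h : Synt.IsCIOver k S) :
    ∃ (R : Type u) (_ : CommRing R) (_ : IsRegularLocalRing R) (_ : Algebra k R),
      Algebra.EssFiniteType k R ∧ ∃ π : R →ₐ[k] S, Function.Surjective π ∧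
        ∃ rs : List R, IsRegular R rs ∧ RingHom.ker π.toRingHom = Ideal.ofList rs := by
  obtain ⟨R, i1, i2, i3, hess, rs, hmem, hreg, ⟨e⟩⟩ := h
  refine ⟨R, i1, i2, i3, hess, e.symm.toAlgHom.comp (Ideal.Quotient.mkₐ k (Ideal.ofList rs)),
    e.symm.surjective.comp (Ideal.Quotient.mkₐ_surjective k _), rs, hreg, ?_⟩
  ext x
  rw [RingHom.mem_ker]
  show e.symm (Ideal.Quotient.mk _ x) = 0 ↔ _
  rw [map_eq_zero_iff _ e.symm.injective, Ideal.Quotient.eq_zero_iff_mem]

/-- a local essentially of finite type algebra is a quotient of a regular local one -/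
theorem exists_regular_surj [Algebra.EssFiniteType k S] :
    ∃ (R : Type u) (_ : CommRing R) (_ : IsRegularLocalRing R) (_ : Algebra k R),
      Algebra.EssFiniteType k R ∧ ∃ π : R →ₐ[k] S, Function.Surjective π := by
  obtain ⟨n, q, hq, π, hπ⟩ := exists_surj_of_essFiniteType k S
  haveI : IsRegularRing (MvPolynomial (Fin n) k) := inferInstance
  haveI : IsRegularLocalRing (Localization.AtPrime q) :=
    IsRegularRing.isRegularLocalRing_localization _
  exact ⟨Localization.AtPrime q, inferInstance, inferInstance, inferInstance, inferInstance, π, hπ⟩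

theorem part2 [Algebra.EssFiniteType k S] :
    Synt.IsCIOver k S ↔
        ∀ (R : Type u) [CommRing R] [IsRegularLocalRing R] [Algebra k R], Algebra.EssFiniteType k R →
          ∀ π : R →ₐ[k] S, Function.Surjective π →
            ∃ rs : List R, RingTheory.Sequence.IsRegular R rs ∧ RingHom.ker π.toRingHom = Ideal.ofList rs := by
  constructor
  · intro h R _ _ _ hess π hπ
    obtain ⟨R₀, i1, i2, i3, hess₀, ρ', hρ', rs₀, hreg₀, hker₀⟩ := presentation_of_isCIOver k S h
    haveI := hess
    obtain ⟨rs, hrs, hreg⟩ := lpi_general k R R₀ π hπ ρ' hρ' ⟨rs₀, hker₀.symm, hreg₀⟩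
    exact ⟨rs, hreg, hrs.symm⟩
  · intro h
    obtain ⟨R, i1, i2, i3, hess, π, hπ⟩ := exists_regular_surj k S
    obtain ⟨rs, hreg, hker⟩ := h R hess π hπ
    exact isCIOver_of_presentation k S R hess π hπ rs hreg hker

theorem part3 :
    Synt.IsCIOver k S ↔
        ∃ (R : Type u) (_ : CommRing R) (_ : IsRegularLocalRing R) (_ : Algebra k R),
          Algebra.EssFiniteType k R ∧ ∃ π : R →ₐ[k] S, Function.Surjective π ∧
            ∃ rs : List R, RingHom.ker π.toRingHom = Ideal.ofList rs ∧
              ringKrullDim R = ringKrullDim S + (rs.length : WithBot ℕ∞) := by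
  constructor
  · intro h
    obtain ⟨R, i1, i2, i3, hess, π, hπ, rs, hreg, hker⟩ := presentation_of_isCIOver k S h
    refine ⟨R, i1, i2, i3, hess, π, hπ, rs, hker, ?_⟩
    have hdim := ringKrullDim_add_length_eq_ringKrullDim_of_isRegular rs hreg
    rw [← hdim, ← hker]
    congr 1
    exact ringKrullDim_eq_of_ringEquiv (RingHom.quotientKerEquivOfSurjective hπ)
  · rintro ⟨R, i1, i2, i3, hess, π, hπ, rs, hker, hdim⟩
    have hmem := mem_maximalIdeal_of_ker k S π rs hker
    have hspan : Ideal.span (Set.range rs.get) = Ideal.ofList rs := by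
      unfold Ideal.ofList
      congr 1
      ext x
      rw [Set.mem_range, Set.mem_ofPred_eq, List.mem_iff_get]
    have hreg : IsRegular R (List.ofFn rs.get) := by
      apply Groth.Agent.Helper2.CIConormal.isRegular_ofFn_of_dim rs.get
      · intro i
        exact hmem _ (List.get_mem rs i)
      · rw [hspan, ← hker, hdim]
        congr 1
        exact ringKrullDim_eq_of_ringEquiv (RingHom.quotientKerEquivOfSurjective hπ)
    rw [List.ofFn_get] at hreg
    exact isCIOver_of_presentation k S R hess π hπ rs hreg hker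


/-- a local essentially of finite type algebra is the localization of a finite type algebra at
a prime -/
theorem exists_algEquiv_atPrime [Algebra.EssFiniteType k S] :
    ∃ (A : Type u) (_ : CommRing A) (_ : Algebra k A) (a : Ideal A) (_ : a.IsPrime),
      Algebra.FiniteType k A ∧ Nonempty (S ≃ₐ[k] Localization.AtPrime a) := by
  let A := Algebra.EssFiniteType.subalgebra k S
  let a : Ideal A := (maximalIdeal S).comap (algebraMap A S)
  haveI : a.IsPrime := Ideal.comap_isPrime _ _
  have hsub : Algebra.EssFiniteType.submonoid k S = a.primeCompl := by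
    ext x
    show IsUnit (algebraMap A S x) ↔ x ∉ a
    rw [Ideal.mem_comap, IsLocalRing.mem_maximalIdeal, mem_nonunits_iff, not_not]
  haveI : IsLocalization.AtPrime S a := by
    show IsLocalization a.primeCompl S
    rw [← hsub]
    infer_instance
  let e : Localization.AtPrime a ≃ₐ[A] S := IsLocalization.algEquiv a.primeCompl _ _
  exact ⟨A, inferInstance, inferInstance, a, inferInstance, inferInstance,
    ⟨(e.restrictScalars k).symm⟩⟩

/-- passing to a basic open neighbourhood does not change the local ring -/
theorem exists_algEquiv_atPrime_away (A : Type u) [CommRing A] [Algebra k A] (a : Ideal A)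
    [ha : a.IsPrime] (g : A) (hg : g ∉ a) :
    ∃ (a' : Ideal (Localization.Away g)) (_ : a'.IsPrime),
      Nonempty (Localization.AtPrime a ≃ₐ[k] Localization.AtPrime a') := by
  have hdisj := disjoint_powers A a g hg
  let p : Ideal (Localization.Away g) := a.map (algebraMap A (Localization.Away g))
  haveI hp : p.IsPrime :=
    IsLocalization.isPrime_of_isPrime_disjoint (Submonoid.powers g) _ a ha hdisj
  have hcomap : p.comap (algebraMap A (Localization.Away g)) = a :=
    IsLocalization.under_map_of_isPrime_disjoint (Submonoid.powers g) _ ha hdisj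
  haveI : IsScalarTower k A (Localization.AtPrime p) := IsScalarTower.of_algebraMap_eq (fun x => by
    rw [IsScalarTower.algebraMap_apply k (Localization.Away g) (Localization.AtPrime p),
      IsScalarTower.algebraMap_apply k A (Localization.Away g),
      ← IsScalarTower.algebraMap_apply A (Localization.Away g) (Localization.AtPrime p)])
  let e : Localization.AtPrime (p.comap (algebraMap A (Localization.Away g))) ≃ₐ[k]
      Localization.AtPrime p :=
    (IsLocalization.localizationLocalizationAtPrimeIsoLocalization (Submonoid.powers g)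
      p).restrictScalars k
  have key : ∀ (q : Ideal A) [q.IsPrime], q = a →
      Nonempty (Localization.AtPrime a ≃ₐ[k] Localization.AtPrime q) := by
    intro q _ h
    subst h
    exact ⟨AlgEquiv.refl⟩
  obtain ⟨e0⟩ := key (p.comap (algebraMap A (Localization.Away g))) hcomap
  exact ⟨p, hp, ⟨e0.trans e⟩⟩

theorem part4 [Algebra.EssFiniteType k S] :
    Synt.IsCIOver k S ↔
        ∃ (A : Type u) (_ : CommRing A) (_ : Algebra k A) (a : Ideal A) (_ : a.IsPrime),
          Algebra.FiniteType k A ∧ Synt.IsGlobalCI k A ∧ Nonempty (S ≃ₐ[k] Localization.AtPrime a) := by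
  constructor
  · intro h
    obtain ⟨A, i1, i2, a, ha, hft, ⟨e⟩⟩ := exists_algEquiv_atPrime k S
    have h1 : Synt.IsCIOver k (Localization.AtPrime a) := isCIOver_of_algEquiv k _ _ e h
    obtain ⟨g, hg, hG⟩ := exists_isGlobalCI_away k A a h1
    obtain ⟨a', ha', ⟨e'⟩⟩ := exists_algEquiv_atPrime_away k A a g hg
    exact ⟨Localization.Away g, inferInstance, inferInstance, a', ha', inferInstance, hG,
      ⟨e.trans e'⟩⟩
  · rintro ⟨A, i1, i2, a, ha, hft, hG, ⟨e⟩⟩
    exact isCIOver_of_algEquiv k _ _ e.symm (isCIOver_atPrime_of_isGlobalCI k A hG a)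

theorem part5 [Algebra.EssFiniteType k S] :
    Synt.IsCIOver k S ↔
        ∃ (A : Type u) (_ : CommRing A) (_ : Algebra k A) (a : Ideal A) (_ : a.IsPrime),
          Synt.IsLCIOver k A ∧ Nonempty (S ≃ₐ[k] Localization.AtPrime a) := by
  constructor
  · intro h
    obtain ⟨A, i1, i2, a, ha, hft, hG, he⟩ := (part4 k S).mp h
    exact ⟨A, i1, i2, a, ha, isLCIOver_of_isGlobalCI k A hG, he⟩
  · rintro ⟨A, i1, i2, a, ha, hL, ⟨e⟩⟩
    haveI := hL.1
    exact isCIOver_of_algEquiv k _ _ e.symm ((s9145 k A).1.mp hL ⟨a, ha⟩)

theorem s9143 [Algebra.EssFiniteType k S] :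
    (Synt.IsCIOver k S ↔
        ∀ (R : Type u) [CommRing R] [IsRegularLocalRing R] [Algebra k R], Algebra.EssFiniteType k R →
          ∀ π : R →ₐ[k] S, Function.Surjective π →
            ∃ rs : List R, RingTheory.Sequence.IsRegular R rs ∧ RingHom.ker π.toRingHom = Ideal.ofList rs) ∧
      (Synt.IsCIOver k S ↔
        ∃ (R : Type u) (_ : CommRing R) (_ : IsRegularLocalRing R) (_ : Algebra k R),
          Algebra.EssFiniteType k R ∧ ∃ π : R →ₐ[k] S, Function.Surjective π ∧
            ∃ rs : List R, RingHom.ker π.toRingHom = Ideal.ofList rs ∧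
              ringKrullDim R = ringKrullDim S + (rs.length : WithBot ℕ∞)) ∧
      (Synt.IsCIOver k S ↔
        ∃ (A : Type u) (_ : CommRing A) (_ : Algebra k A) (a : Ideal A) (_ : a.IsPrime),
          Algebra.FiniteType k A ∧ Synt.IsGlobalCI k A ∧ Nonempty (S ≃ₐ[k] Localization.AtPrime a)) ∧
      (Synt.IsCIOver k S ↔
        ∃ (A : Type u) (_ : CommRing A) (_ : Algebra k A) (a : Ideal A) (_ : a.IsPrime),
          Synt.IsLCIOver k A ∧ Nonempty (S ≃ₐ[k] Localization.AtPrime a)) :=
  ⟨part2 k S, part3 k S, part4 k S, part5 k S⟩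

end s9143

end Groth.Agent.Helper5.CIP
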