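import Mathlib

/-!
# Unramifiedness over a polynomial ring from a separating transcendence basis of the residue field
-/

set_option autoImplicit false
universe u

namespace Groth.Agent.Helper5.UOFlat

open TensorProduct IsLocalRing

theorem formallyUnramified_adjoin {R k K : Type u} [CommRing R] [Field k] [Field K] [Algebra k K]
    (s : Set K) [Algebra R (IntermediateField.adjoin k s)]
    (h1 : ∀ x (hx : x ∈ s), ∃ r : R, algebraMap R (IntermediateField.adjoin k s) r =
      ⟨x, IntermediateField.subset_adjoin k s hx⟩)
    (h2 : ∀ c : k, ∃ r r' : R, algebraMap k (IntermediateField.adjoin k s) c =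
      algebraMap R (IntermediateField.adjoin k s) r / algebraMap R (IntermediateField.adjoin k s) r') :
    Algebra.FormallyUnramified R (IntermediateField.adjoin k s) := by
  constructor
  have key : ∀ (x : K) (hx : x ∈ IntermediateField.adjoin k s),
      KaehlerDifferential.D R (IntermediateField.adjoin k s) ⟨x, hx⟩ = 0 := by
    intro x hx
    induction hx using IntermediateField.adjoin_induction with
    | mem x hx =>
      obtain ⟨r, hr⟩ := h1 x hx
      rw [← hr, Derivation.map_algebraMap]
    | algebraMap c =>
      obtain ⟨r, r', hr⟩ := h2 c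
      have : (⟨algebraMap k K c, IntermediateField.algebraMap_mem _ c⟩ :
          IntermediateField.adjoin k s) = algebraMap k (IntermediateField.adjoin k s) c := rfl
      rw [this, hr, Derivation.leibniz_div, Derivation.map_algebraMap, Derivation.map_algebraMap,
        smul_zero, smul_zero, sub_zero, smul_zero]
    | add x y hx hy h1 h2 =>
      have : (⟨x + y, add_mem hx hy⟩ : IntermediateField.adjoin k s) = ⟨x, hx⟩ + ⟨y, hy⟩ := rfl
      rw [this, map_add, h1, h2, add_zero]
    | inv x hx h1 =>
      have : (⟨x⁻¹, inv_mem hx⟩ : IntermediateField.adjoin k s) =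
          (⟨x, hx⟩ : IntermediateField.adjoin k s)⁻¹ := rfl
      rw [this, Derivation.leibniz_inv, h1, smul_zero]
    | mul x y hx hy h1 h2 =>
      have : (⟨x * y, mul_mem hx hy⟩ : IntermediateField.adjoin k s) = ⟨x, hx⟩ * ⟨y, hy⟩ := rfl
      rw [this, Derivation.leibniz, h1, h2, smul_zero, smul_zero, add_zero]
  have htop := KaehlerDifferential.span_range_derivation R (IntermediateField.adjoin k s)
  have hbot : Submodule.span (IntermediateField.adjoin k s)
      (Set.range (KaehlerDifferential.D R (IntermediateField.adjoin k s))) = ⊥ := by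
    rw [Submodule.span_eq_bot]
    rintro _ ⟨f, rfl⟩
    exact key f.1 f.2
  rw [hbot] at htop
  exact (Submodule.subsingleton_iff (IntermediateField.adjoin k s)).1
    (subsingleton_of_bot_eq_top htop)


theorem formallyUnramified_of_map_eq {R S : Type u} [CommRing R] [CommRing S] [Algebra R S]
    [IsLocalRing S] [Algebra.EssFiniteType R S]
    [Algebra.FormallyUnramified R (ResidueField S)] (I : Ideal R)
    (H : I.map (algebraMap R S) = maximalIdeal S) : Algebra.FormallyUnramified R S := by
  constructor
  rw [← subsingleton_tensorProduct (R := S)]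
  refine subsingleton_of_forall_eq 0 fun x ↦ ?_
  obtain ⟨x, rfl⟩ := (KaehlerDifferential.exact_kerCotangentToTensor_mapBaseChange R S
    (ResidueField S) Ideal.Quotient.mk_surjective x).mp (Subsingleton.elim _ _)
  obtain ⟨⟨x, hx⟩, rfl⟩ := Ideal.toCotangent_surjective _ x
  simp only [KaehlerDifferential.kerCotangentToTensor_toCotangent]
  replace hx : x ∈ Ideal.map (algebraMap R S) I := by simpa [H] using hx
  induction hx using Submodule.span_induction with
  | zero => simp
  | mem x h => obtain ⟨x, hx, rfl⟩ := h; simp
  | add x y hx hy _ _ => simp [*, TensorProduct.tmul_add]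
  | smul a x hx _ =>
    have : residue S x = 0 := by rwa [residue_eq_zero_iff, ← H]
    simp [*, TensorProduct.tmul_add, TensorProduct.smul_tmul', ← Algebra.algebraMap_eq_smul_one]

section

variable {A C A' B : Type u} [CommRing A] [CommRing C] [Algebra A C] [CommRing A'] [CommRing B]
  [IsLocalRing A'] [IsLocalRing B] [Algebra A A'] [Algebra C B] [Algebra A B] [IsScalarTower A C B]
  [Algebra A' B] [IsScalarTower A A' B] [IsLocalHom (algebraMap A' B)]
  (q : Ideal C) [q.IsPrime] [IsLocalization.AtPrime B q]
  (p : Ideal A) [p.IsPrime] [IsLocalization.AtPrime A' p]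
  {ι : Type u} (t : ι → C)

/-- the residues of the `t i` -/
noncomputable def tbar (i : ι) : ResidueField B := residue B (algebraMap C B (t i))

include q p in
/-- Step I: a polynomial relation among the `t i` modulo `q` has coefficients in `p`. -/
theorem mem_map_C_of_aeval_mem
    (hind : AlgebraicIndependent (ResidueField A') (tbar (B := B) t))
    (r : MvPolynomial ι A) (hr : MvPolynomial.aeval t r ∈ q) : r ∈ p.map MvPolynomial.C := by
  let gk : A →+* ResidueField A' := (residue A').comp (algebraMap A A')
  let Φ : C →+* ResidueField B := (residue B).comp (algebraMap C B)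
  have hΦ : Φ.comp (algebraMap A C) = (algebraMap (ResidueField A') (ResidueField B)).comp gk := by
    ext a
    show residue B (algebraMap C B (algebraMap A C a)) =
      algebraMap (ResidueField A') (ResidueField B) (residue A' (algebraMap A A' a))
    rw [← IsScalarTower.algebraMap_apply A C B, IsScalarTower.algebraMap_apply A A' B]
    rfl
  have h1 : Φ (MvPolynomial.aeval t r) = 0 := by
    show residue B (algebraMap C B (MvPolynomial.aeval t r)) = 0
    rw [residue_eq_zero_iff]
    exact (IsLocalization.AtPrime.to_map_mem_maximal_iff B q _).2 hr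
  have h2 : Φ (MvPolynomial.aeval t r) =
      MvPolynomial.aeval (tbar (B := B) t) (MvPolynomial.map gk r) := by
    rw [MvPolynomial.aeval_def, MvPolynomial.hom_eval₂, hΦ, MvPolynomial.aeval_def,
      MvPolynomial.eval₂_map]
    rfl
  rw [h2] at h1
  have h3 : MvPolynomial.map gk r = 0 := hind.eq_zero_of_aeval_eq_zero _ h1
  rw [MvPolynomial.mem_map_C_iff]
  intro m
  have h4 : gk (r.coeff m) = 0 := by
    rw [← MvPolynomial.coeff_map, h3, MvPolynomial.coeff_zero]
  have h5 : algebraMap A A' (r.coeff m) ∈ maximalIdeal A' := by
    rw [← residue_eq_zero_iff]; exact h4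
  exact (IsLocalization.AtPrime.to_map_mem_maximal_iff A' p _).1 h5

/-- the ring map `A → κ(A')` -/
noncomputable def gk : A →+* ResidueField A' := (residue A').comp (algebraMap A A')

omit [IsLocalRing B] [Algebra A B] [Algebra A' B] in
include p in
theorem residue_mk' (a : A) (s : p.primeCompl) :
    residue A' (IsLocalization.mk' A' a s) = gk (A' := A') a / gk (A' := A') s.1 := by
  have hs : gk (A' := A') s.1 ≠ 0 := by
    intro h
    have h5 : algebraMap A A' s.1 ∈ maximalIdeal A' := by
      rw [← residue_eq_zero_iff]; exact h
    exact s.2 ((IsLocalization.AtPrime.to_map_mem_maximal_iff A' p _).1 h5)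
  rw [eq_div_iff hs]
  show residue A' (IsLocalization.mk' A' a s) * residue A' (algebraMap A A' s.1) = _
  rw [← map_mul, IsLocalization.mk'_spec]
  rfl

variable [Algebra (MvPolynomial ι A) C] [IsScalarTower A (MvPolynomial ι A) C]
  [Algebra (MvPolynomial ι A) B] [IsScalarTower (MvPolynomial ι A) C B]

include p in
/-- Step U1: the residue field of `B` is formally unramified over the polynomial ring. -/
theorem formallyUnramified_residueField
    (hX : ∀ i, algebraMap (MvPolynomial ι A) C (MvPolynomial.X i) = t i)
    (hsep : Algebra.IsSeparable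
      (IntermediateField.adjoin (ResidueField A') (Set.range (tbar (B := B) t))) (ResidueField B)) :
    Algebra.FormallyUnramified (MvPolynomial ι A) (ResidueField B) := by
  let R := MvPolynomial ι A
  let k := ResidueField A'
  let K := ResidueField B
  let F := IntermediateField.adjoin k (Set.range (tbar (B := B) t))
  let τF : ι → F := fun i => ⟨tbar (B := B) t i, IntermediateField.subset_adjoin _ _ ⟨i, rfl⟩⟩
  let ρF : R →+* F := MvPolynomial.eval₂Hom ((algebraMap k F).comp (gk (A' := A'))) τF
  letI : Algebra R F := ρF.toAlgebra
  have hρC : ∀ a : A, algebraMap R F (MvPolynomial.C a) = algebraMap k F (gk (A' := A') a) := by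
    intro a
    show ρF (MvPolynomial.C a) = _
    exact MvPolynomial.eval₂Hom_C _ _ a
  have hρX : ∀ i, algebraMap R F (MvPolynomial.X i) = τF i := by
    intro i
    show ρF (MvPolynomial.X i) = _
    exact MvPolynomial.eval₂Hom_X' _ _ i
  haveI : IsScalarTower R F K := by
    refine IsScalarTower.of_algebraMap_eq' ?_
    apply MvPolynomial.ringHom_ext
    · intro a
      rw [RingHom.comp_apply, hρC]
      have h1 : algebraMap R K (MvPolynomial.C a) = residue B (algebraMap A B a) := by
        rw [IsScalarTower.algebraMap_apply R B K, IsScalarTower.algebraMap_apply R C B,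
          ← MvPolynomial.algebraMap_eq, ← IsScalarTower.algebraMap_apply A R C,
          ← IsScalarTower.algebraMap_apply A C B]
        rfl
      rw [h1, IsScalarTower.algebraMap_apply A A' B]
      rfl
    · intro i
      rw [RingHom.comp_apply, hρX]
      rw [IsScalarTower.algebraMap_apply R B K, IsScalarTower.algebraMap_apply R C B, hX]
      rfl
  haveI : Algebra.FormallyUnramified F K := Algebra.FormallyUnramified.of_isSeparable F K
  haveI : Algebra.FormallyUnramified R F := by
    refine formallyUnramified_adjoin (R := R) (k := k) (K := K) (Set.range (tbar (B := B) t)) ?_ ?_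
    · rintro _ ⟨i, rfl⟩
      exact ⟨MvPolynomial.X i, hρX i⟩
    · intro c
      obtain ⟨a', rfl⟩ := residue_surjective c
      obtain ⟨a, s, rfl⟩ := IsLocalization.exists_mk'_eq p.primeCompl a'
      refine ⟨MvPolynomial.C a, MvPolynomial.C s.1, ?_⟩
      rw [hρC, hρC, ← map_div₀, ← residue_mk' p a s]
  exact Algebra.FormallyUnramified.comp R F K

include p in
/-- Steps U2, U3: `C` is unramified over the polynomial ring at `q`. -/
theorem isUnramifiedAt_of_sepBasis [Algebra.FiniteType A C]
    (hX : ∀ i, algebraMap (MvPolynomial ι A) C (MvPolynomial.X i) = t i)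
    (hsep : Algebra.IsSeparable
      (IntermediateField.adjoin (ResidueField A') (Set.range (tbar (B := B) t))) (ResidueField B))
    (hmax : (maximalIdeal A').map (algebraMap A' B) = maximalIdeal B) :
    Algebra.IsUnramifiedAt (MvPolynomial ι A) q := by
  let R := MvPolynomial ι A
  haveI : Algebra.FormallyUnramified R (ResidueField B) :=
    formallyUnramified_residueField (A' := A') p t hX hsep
  haveI : Algebra.FiniteType R C := Algebra.FiniteType.of_restrictScalars_finiteType A R C
  haveI : Algebra.EssFiniteType C B := Algebra.EssFiniteType.of_isLocalization B q.primeCompl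
  haveI : Algebra.EssFiniteType R B := Algebra.EssFiniteType.comp R C B
  have hI : (p.map (MvPolynomial.C : A →+* R)).map (algebraMap R B) = maximalIdeal B := by
    rw [Ideal.map_map, ← hmax, ← IsLocalization.AtPrime.map_eq_maximalIdeal p A', Ideal.map_map]
    congr 1
    ext a
    show algebraMap R B (MvPolynomial.C a) = algebraMap A' B (algebraMap A A' a)
    rw [← IsScalarTower.algebraMap_apply A A' B, IsScalarTower.algebraMap_apply R C B,
      ← MvPolynomial.algebraMap_eq, ← IsScalarTower.algebraMap_apply A R C,
      ← IsScalarTower.algebraMap_apply A C B]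
  haveI : Algebra.FormallyUnramified R B := formallyUnramified_of_map_eq _ hI
  let e : B ≃ₐ[C] Localization.AtPrime q := IsLocalization.algEquiv q.primeCompl _ _
  exact Algebra.FormallyUnramified.of_equiv (e.restrictScalars R)

end

end Groth.Agent.Helper5.UOFlat
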