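import Mathlib

/-!
# The discrete valuation ring step

`π : D → C₁` a surjection of `A`-algebras, `τ : D → V` a map to a discrete valuation ring, such that
the kernel of `π` lies in `𝔞 D` locally at the centre `Q` of `τ` (with `𝔞 V ⊆ 𝔪_V`), and such that
`V ⊗ C₁` is flat over `V` at the point determined by `τ`.  Then `τ` kills the kernel of `π`.
-/

set_option autoImplicit false
universe u

namespace Groth.Agent.Helper5.UOFlat

open TensorProduct IsLocalRing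

theorem ker_le_ker_of_flat {A D C₁ V : Type u} [CommRing A] [CommRing D] [CommRing C₁]
    [CommRing V] [IsDomain V] [IsDiscreteValuationRing V] [Algebra A D] [Algebra A C₁]
    [Algebra A V] (π : D →ₐ[A] C₁) (hπ : Function.Surjective π) (τ : D →ₐ[A] V) (𝔞 : Ideal A)
    (h𝔞 : 𝔞.map (algebraMap A V) ≤ maximalIdeal V)
    (hfg : (RingHom.ker π).FG)
    (hle : RingHom.ker π ≤ (maximalIdeal V).comap τ.toRingHom)
    (ha : ∀ j ∈ RingHom.ker π, ∃ h : D, τ h ∉ maximalIdeal V ∧ h * j ∈ 𝔞.map (algebraMap A D))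
    (hflat : ∀ (𝔮 : Ideal (V ⊗[A] C₁)) [𝔮.IsPrime],
      (∀ v : V, v ⊗ₜ[A] (1 : C₁) ∈ 𝔮 ↔ v ∈ maximalIdeal V) →
      (∀ d : D, (1 : V) ⊗ₜ[A] π d ∈ 𝔮 ↔ τ d ∈ maximalIdeal V) →
      Module.Flat V (Localization.AtPrime 𝔮)) :
    RingHom.ker π ≤ RingHom.ker τ := by
  classical
  obtain ⟨ϖ, hϖ⟩ := IsDiscreteValuationRing.exists_irreducible V
  have hmax : maximalIdeal V = Ideal.span {ϖ} :=
    (IsDiscreteValuationRing.irreducible_iff_uniformizer ϖ).1 hϖ
  have hϖ0 : ϖ ≠ 0 := hϖ.ne_zero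
  let DV := V ⊗[A] D
  let E := V ⊗[A] C₁
  let πV : DV →ₐ[A] E := Algebra.TensorProduct.map (AlgHom.id A V) π
  have hπV : Function.Surjective πV :=
    Algebra.TensorProduct.map_surjective (AlgHom.id A V) π (fun x => ⟨x, rfl⟩) hπ
  have hker : RingHom.ker πV =
      (RingHom.ker π).map (Algebra.TensorProduct.includeRight : D →ₐ[A] V ⊗[A] D) :=
    Algebra.TensorProduct.lTensor_ker π hπ
  let μ : DV →ₐ[A] V := Algebra.TensorProduct.lift (AlgHom.id A V) τ (fun _ _ => Commute.all _ _)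
  have hμ : ∀ (v : V) (d : D), μ (v ⊗ₜ d) = v * τ d := fun v d =>
    Algebra.TensorProduct.lift_tmul (AlgHom.id A V) τ _ v d
  let Ξ : Ideal DV := (maximalIdeal V).comap μ.toRingHom
  have hΞp : Ξ.IsPrime := Ideal.comap_isPrime _ _
  have hΞ : ∀ x : DV, x ∈ Ξ ↔ μ x ∈ maximalIdeal V := fun x => Iff.rfl
  have hkΞ : RingHom.ker πV ≤ Ξ := by
    rw [hker, Ideal.map_le_iff_le_comap]
    intro j hj
    show μ ((1 : V) ⊗ₜ j) ∈ maximalIdeal V
    rw [hμ, one_mul]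
    exact hle hj
  let 𝔮 : Ideal E := Ξ.map πV
  have h𝔮p : 𝔮.IsPrime := Ideal.map_isPrime_of_surjective hπV hkΞ
  have hcomap : 𝔮.comap πV = Ξ := by
    show (Ξ.map πV).comap πV = Ξ
    rw [Ideal.comap_map_of_surjective _ hπV]
    exact sup_eq_left.2 hkΞ
  have hmem : ∀ x : DV, πV x ∈ 𝔮 ↔ μ x ∈ maximalIdeal V := by
    intro x
    rw [← hΞ, ← hcomap]
    rfl
  have hfl : Module.Flat V (Localization.AtPrime 𝔮) := by
    apply hflat 𝔮
    · intro v
      have h1 : πV (v ⊗ₜ (1 : D)) = v ⊗ₜ (1 : C₁) :=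
        (Algebra.TensorProduct.map_tmul (AlgHom.id A V) π v 1).trans (by rw [map_one]; rfl)
      rw [← h1, hmem, hμ, map_one, mul_one]
    · intro d
      have h1 : πV ((1 : V) ⊗ₜ d) = (1 : V) ⊗ₜ π d :=
        Algebra.TensorProduct.map_tmul (AlgHom.id A V) π 1 d
      rw [← h1, hmem, hμ, one_mul]
  -- elements of `𝔞 D` are divisible by the uniformizer after base change
  have hdiv : ∀ d ∈ 𝔞.map (algebraMap A D), ∃ w : DV, (1 : V) ⊗ₜ[A] d = (ϖ ⊗ₜ[A] (1 : D)) * w := by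
    intro d hd
    refine Submodule.span_induction ?_ ?_ ?_ ?_ hd
    · rintro _ ⟨a, ha𝔞, rfl⟩
      have h1 : algebraMap A V a ∈ Ideal.span {ϖ} := by
        rw [← hmax]; exact h𝔞 (Ideal.mem_map_of_mem _ ha𝔞)
      obtain ⟨v, hv⟩ := Ideal.mem_span_singleton'.1 h1
      refine ⟨v ⊗ₜ (1 : D), ?_⟩
      rw [Algebra.TensorProduct.tmul_mul_tmul, mul_one, mul_comm ϖ v, hv,
        Algebra.algebraMap_eq_smul_one, Algebra.algebraMap_eq_smul_one, TensorProduct.smul_tmul]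
    · exact ⟨0, by rw [TensorProduct.tmul_zero, mul_zero]⟩
    · rintro x y _ _ ⟨w₁, h₁⟩ ⟨w₂, h₂⟩
      exact ⟨w₁ + w₂, by rw [TensorProduct.tmul_add, h₁, h₂, mul_add]⟩
    · rintro d' x _ ⟨w, hw⟩
      refine ⟨((1 : V) ⊗ₜ d') * w, ?_⟩
      rw [smul_eq_mul, ← mul_left_comm, ← hw, Algebra.TensorProduct.tmul_mul_tmul, one_mul]
  let M := Localization.AtPrime Ξ
  let 𝔍 : Ideal M := (RingHom.ker πV).map (algebraMap DV M)
  let ϖ' : M := algebraMap DV M (ϖ ⊗ₜ 1)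
  have hunit : ∀ x : DV, μ x ∉ maximalIdeal V → IsUnit (algebraMap DV M x) := fun x hx =>
    IsLocalization.map_units M (⟨x, hx⟩ : Ξ.primeCompl)
  have hϖ' : ϖ' ∈ maximalIdeal M := by
    refine (IsLocalization.AtPrime.to_map_mem_maximal_iff M Ξ _).2 ?_
    show μ (ϖ ⊗ₜ 1) ∈ maximalIdeal V
    rw [hμ, map_one, mul_one, hmax]
    exact Ideal.mem_span_singleton_self ϖ
  have hN1 : 𝔍 ≤ Ideal.span {ϖ'} • 𝔍 := by
    show (RingHom.ker πV).map (algebraMap DV M) ≤ _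
    rw [hker, Ideal.map_le_iff_le_comap, Ideal.map_le_iff_le_comap]
    intro j hj
    show algebraMap DV M ((1 : V) ⊗ₜ j) ∈ Ideal.span {ϖ'} • 𝔍
    obtain ⟨h, hτh, hhj⟩ := ha j hj
    obtain ⟨w, hw⟩ := hdiv _ hhj
    -- `ϖ • πV w = 0`
    have h1 : πV ((ϖ ⊗ₜ[A] (1 : D)) * w) = 0 := by
      rw [← hw]
      have : πV ((1 : V) ⊗ₜ (h * j)) = (1 : V) ⊗ₜ π (h * j) :=
        Algebra.TensorProduct.map_tmul (AlgHom.id A V) π 1 (h * j)
      rw [this, map_mul, (RingHom.mem_ker).1 hj, mul_zero, TensorProduct.tmul_zero]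
    have h2 : ϖ • πV w = 0 := by
      rw [map_mul] at h1
      have : πV (ϖ ⊗ₜ[A] (1 : D)) = ϖ ⊗ₜ (1 : C₁) :=
        (Algebra.TensorProduct.map_tmul (AlgHom.id A V) π ϖ 1).trans (by rw [map_one]; rfl)
      rw [this] at h1
      rw [Algebra.smul_def, Algebra.TensorProduct.algebraMap_apply]
      exact h1
    have h3 : algebraMap E (Localization.AtPrime 𝔮) (πV w) = 0 := by
      have hreg := Module.Flat.isSMulRegular_of_nonZeroDivisors (R := V)
        (M := Localization.AtPrime 𝔮) (mem_nonZeroDivisors_of_ne_zero hϖ0)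
      apply hreg
      simp only [smul_zero]
      rw [← algebraMap_smul E ϖ, Algebra.smul_def, ← map_mul, ← Algebra.smul_def, h2, map_zero]
    obtain ⟨u', hu'⟩ := (IsLocalization.map_eq_zero_iff 𝔮.primeCompl (Localization.AtPrime 𝔮) _).1 h3
    obtain ⟨u, hu⟩ := hπV u'.1
    have huΞ : μ u ∉ maximalIdeal V := by
      rw [← hmem, hu]; exact u'.2
    have h4 : u * w ∈ RingHom.ker πV := by
      rw [RingHom.mem_ker, map_mul, hu]; exact hu'
    have h5 : algebraMap DV M (u * w) ∈ 𝔍 := Ideal.mem_map_of_mem _ h4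
    have hτh' : μ ((1 : V) ⊗ₜ h) ∉ maximalIdeal V := by rw [hμ, one_mul]; exact hτh
    have hu1 := hunit _ hτh'
    have hu2 := hunit _ huΞ
    have h6 : algebraMap DV M ((1 : V) ⊗ₜ h) * algebraMap DV M u * algebraMap DV M ((1 : V) ⊗ₜ j) =
        ϖ' * algebraMap DV M (u * w) := by
      have : ((1 : V) ⊗ₜ[A] h) * ((1 : V) ⊗ₜ[A] j) = (ϖ ⊗ₜ[A] (1 : D)) * w := by
        rw [← hw, Algebra.TensorProduct.tmul_mul_tmul, one_mul]
      show _ = algebraMap DV M (ϖ ⊗ₜ 1) * _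
      rw [← map_mul, ← map_mul, ← map_mul, mul_right_comm, this]
      congr 1; ring
    rw [← Ideal.unit_mul_mem_iff_mem _ (hu1.mul hu2), h6, smul_eq_mul]
    exact Ideal.mul_mem_mul (Ideal.mem_span_singleton_self _) h5
  have h𝔍fg : 𝔍.FG := by
    show ((RingHom.ker πV).map (algebraMap DV M)).FG
    rw [hker]
    exact (hfg.map _).map _
  have h𝔍bot : 𝔍 = ⊥ :=
    Submodule.eq_bot_of_le_smul_of_le_jacobson_bot (Ideal.span {ϖ'}) 𝔍 h𝔍fg hN1
      (((Ideal.span_singleton_le_iff_mem _).2 hϖ').trans (maximalIdeal_le_jacobson _))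
  intro j hj
  have h1 : algebraMap DV M ((1 : V) ⊗ₜ j) ∈ 𝔍 :=
    Ideal.mem_map_of_mem _ (by rw [hker]; exact Ideal.mem_map_of_mem _ hj)
  rw [h𝔍bot, Ideal.mem_bot] at h1
  obtain ⟨u, hu⟩ := (IsLocalization.map_eq_zero_iff Ξ.primeCompl M _).1 h1
  have h2 : μ u.1 * τ j = 0 := by
    have := congrArg μ hu
    rw [map_mul, hμ, one_mul, map_zero] at this
    exact this
  have h3 : μ u.1 ≠ 0 := fun h0 => u.2 (by
    show μ u.1 ∈ maximalIdeal V
    rw [h0]; exact zero_mem _)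
  exact (mul_eq_zero.1 h2).resolve_left h3

end Groth.Agent.Helper5.UOFlat
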