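import Mathlib
import Groth.Agent.Helper1.EtRed
import Groth.Agent.Helper5.SecNbE

/-!
# Two auxiliary results on a smooth algebra over a ring which is reduced at a prime
-/

set_option autoImplicit false
universe u

namespace Groth.Agent.Helper5.UOFlat

open TensorProduct IsLocalRing AlgebraicGeometry CategoryTheory

/-- an element of a Noetherian ring lying in all minimal primes below `Q` is nilpotent after
multiplication by an element outside `Q` -/
theorem exists_isNilpotent_mul {D : Type u} [CommRing D] [IsNoetherianRing D] (Q : Ideal D)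
    [hQ : Q.IsPrime] (d : D) (hd : ∀ P' ∈ minimalPrimes D, P' ≤ Q → d ∈ P') :
    ∃ u : D, u ∉ Q ∧ IsNilpotent (u * d) := by
  classical
  have hfin : (minimalPrimes D).Finite := minimalPrimes.finite_of_isNoetherianRing D
  let S := hfin.toFinset.filter (fun P' => ¬ P' ≤ Q)
  have hex : ∀ P' : Ideal D, ∃ c : D, P' ∈ S → c ∈ P' ∧ c ∉ Q := by
    intro P'
    by_cases h : P' ∈ S
    · have h1 : ¬ P' ≤ Q := (Finset.mem_filter.1 h).2
      obtain ⟨c, hc1, hc2⟩ := SetLike.not_le_iff_exists.1 h1
      exact ⟨c, fun _ => ⟨hc1, hc2⟩⟩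
    · exact ⟨0, fun h' => absurd h' h⟩
  choose c hc using hex
  refine ⟨∏ P' ∈ S, c P', ?_, ?_⟩
  · rw [Ideal.IsPrime.prod_mem_iff]
    rintro ⟨P', hP', h⟩
    exact (hc P' hP').2 h
  · rw [← mem_nilradical, nilradical, ← Ideal.sInf_minimalPrimes, Ideal.mem_sInf]
    intro P' hP'
    by_cases h : P' ≤ Q
    · exact P'.mul_mem_left _ (hd P' hP' h)
    · have hS : P' ∈ S := Finset.mem_filter.2 ⟨hfin.mem_toFinset.2 hP', h⟩
      apply P'.mul_mem_right
      obtain ⟨r, hr⟩ := Finset.dvd_prod_of_mem c hS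
      rw [hr]
      exact P'.mul_mem_right _ (hc P' hS).1

/-- in a smooth algebra `D` over `A`, with `A` reduced at the prime `p` below `Q`, an element lying in
all the minimal primes below `Q` is killed by an element outside `Q` -/
theorem exists_mul_eq_zero_of_mem_minimalPrimes {A A' D : Type u} [CommRing A] [CommRing A']
    [CommRing D] [Algebra A D] [Algebra.Smooth A D] [IsNoetherianRing D] (p : Ideal A) [p.IsPrime]
    [Algebra A A'] [IsLocalization.AtPrime A' p] [IsReduced A'] (Q : Ideal D) [Q.IsPrime]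
    (hQ : Q.comap (algebraMap A D) = p) (d : D)
    (hd : ∀ P' ∈ minimalPrimes D, P' ≤ Q → d ∈ P') : ∃ u : D, u ∉ Q ∧ u * d = 0 := by
  obtain ⟨u₁, hu₁, hnil⟩ := exists_isNilpotent_mul Q d hd
  let T := A' ⊗[A] D
  haveI : IsReduced T := Groth.Agent.Helper1.EtRed.isReduced_of_smooth A' T
  letI : Algebra D T := Algebra.TensorProduct.rightAlgebra
  haveI : IsLocalization (Algebra.algebraMapSubmonoid D p.primeCompl) T :=
    IsLocalization.tensorRight A' p.primeCompl
  have h0 : algebraMap D T (u₁ * d) = 0 := (hnil.map _).eq_zero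
  obtain ⟨m, hm⟩ := (IsLocalization.map_eq_zero_iff (Algebra.algebraMapSubmonoid D p.primeCompl)
    T _).1 h0
  obtain ⟨a, ha, ham⟩ := m.2
  refine ⟨m.1 * u₁, ?_, by rw [mul_assoc]; exact hm⟩
  intro h
  rcases (inferInstance : Q.IsPrime).mem_or_mem h with h1 | h1
  · rw [← ham] at h1
    have : a ∈ Q.comap (algebraMap A D) := h1
    rw [hQ] at this
    exact ha this
  · exact hu₁ h1

/-- a discrete valuation ring through a strict inclusion of primes of a Noetherian ring -/
theorem exists_dvr_hom {D : Type u} [CommRing D] [IsNoetherianRing D] (P' Q : Ideal D)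
    [P'.IsPrime] [Q.IsPrime] (hlt : P' < Q) :
    ∃ (V : Type u) (_ : CommRing V) (_ : IsDomain V) (_ : IsDiscreteValuationRing V)
      (τ : D →+* V), RingHom.ker τ = P' ∧ (maximalIdeal V).comap τ = Q := by
  let x : Spec (CommRingCat.of D) := ⟨Q, inferInstance⟩
  let x' : Spec (CommRingCat.of D) := ⟨P', inferInstance⟩
  have hsp : x' ⤳ x := (PrimeSpectrum.le_iff_specializes x' x).1 hlt.le
  have hne : x ≠ x' := by
    intro h
    have : Q = P' := congrArg PrimeSpectrum.asIdeal h
    exact hlt.ne this.symm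
  obtain ⟨V, _, _, _, σ, hσ1, hσ2⟩ := Groth.Agent.Helper5.SecNb.exists_dvr_through x x' hsp hne
  let τ : D →+* V := (Spec.preimage σ).hom
  have hσ : σ = Spec.map (CommRingCat.ofHom τ) := (Spec.map_preimage σ).symm
  refine ⟨V, inferInstance, inferInstance, inferInstance, τ, ?_, ?_⟩
  · have h1 : (Spec.map (CommRingCat.ofHom τ)) (Groth.Agent.Helper5.SecNb.gen V) = x' := by
      rw [← hσ]; exact hσ2
    have h2 : Ideal.comap τ ⊥ = P' := congrArg PrimeSpectrum.asIdeal h1
    rw [← h2, RingHom.ker_eq_comap_bot]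
  · have h1 : (Spec.map (CommRingCat.ofHom τ)) (closedPoint V) = x := by
      rw [← hσ]; exact hσ1
    have h2 : Ideal.comap τ (maximalIdeal V) = Q := congrArg PrimeSpectrum.asIdeal h1
    exact h2

end Groth.Agent.Helper5.UOFlat
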