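import Mathlib
import Groth.Agent.Helper5.UOFlat2
import Groth.Agent.Helper5.UOFlat3

/-!
# Flatness of a local ring that is a quotient of a localisation of a smooth algebra
-/

set_option autoImplicit false
universe u

namespace Groth.Agent.Helper5.UOFlat

open TensorProduct IsLocalRing

theorem flat_of_surjective_smooth {A D C₁ A' B : Type u} [CommRing A] [IsNoetherianRing A]
    [CommRing D] [CommRing C₁] [CommRing A'] [CommRing B]
    [Algebra A D] [Algebra.Smooth A D] [Algebra A C₁] [Algebra A A'] [Algebra A B] [Algebra C₁ B]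
    [IsScalarTower A C₁ B]
    (π : D →ₐ[A] C₁) (hπ : Function.Surjective π)
    (q₁ : Ideal C₁) [q₁.IsPrime] [IsLocalization.AtPrime B q₁]
    (p : Ideal A) [p.IsPrime] [IsLocalization.AtPrime A' p] [IsReduced A']
    (hp : q₁.comap (algebraMap A C₁) = p)
    (hF1 : ∀ j ∈ RingHom.ker π, ∃ h : D, π h ∉ q₁ ∧ h * j ∈ p.map (algebraMap A D))
    (h3 : ∀ (V : Type u) [CommRing V] [IsDomain V] [IsDiscreteValuationRing V] [Algebra A V]
      (𝔮 : Ideal (V ⊗[A] C₁)) [𝔮.IsPrime],
      (∀ v : V, v ⊗ₜ[A] (1 : C₁) ∈ 𝔮 ↔ v ∈ maximalIdeal V) →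
      (∀ c : C₁, (1 : V) ⊗ₜ[A] c ∈ 𝔮 ↔ c ∈ q₁) → Module.Flat V (Localization.AtPrime 𝔮)) :
    Module.Flat A B := by
  haveI : IsNoetherianRing D := Algebra.FiniteType.isNoetherianRing A D
  let Q : Ideal D := q₁.comap π.toRingHom
  haveI hQp : Q.IsPrime := Ideal.comap_isPrime _ _
  have hQmem : ∀ d : D, d ∈ Q ↔ π d ∈ q₁ := fun d => Iff.rfl
  have hQ : Q.comap (algebraMap A D) = p := by
    rw [← hp]
    ext a
    rw [Ideal.mem_comap, Ideal.mem_comap]
    show π (algebraMap A D a) ∈ q₁ ↔ _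
    rw [AlgHom.commutes, Ideal.mem_comap]
  have hkerQ : RingHom.ker π ≤ Q := by
    intro j hj
    rw [hQmem, (RingHom.mem_ker).1 hj]
    exact zero_mem _
  -- the kernel lies in every minimal prime below `Q`
  have hmin : ∀ P' ∈ minimalPrimes D, P' ≤ Q → RingHom.ker π ≤ P' := by
    intro P' hP' hle
    haveI : P'.IsPrime := hP'.1.1
    by_cases hPQ : P' = Q
    · rw [hPQ]; exact hkerQ
    have hlt : P' < Q := lt_of_le_of_ne hle hPQ
    obtain ⟨V, _, _, _, τ₀, hτ1, hτ2⟩ := exists_dvr_hom P' Q hlt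
    letI : Algebra A V := (τ₀.comp (algebraMap A D)).toAlgebra
    let τ : D →ₐ[A] V := ⟨τ₀, fun a => rfl⟩
    have hτmem : ∀ d : D, τ d ∈ maximalIdeal V ↔ d ∈ Q := by
      intro d
      rw [← hτ2]; rfl
    have hker : RingHom.ker π ≤ RingHom.ker τ := by
      refine ker_le_ker_of_flat π hπ τ p ?_ (IsNoetherian.noetherian _) ?_ ?_ ?_
      · rw [Ideal.map_le_iff_le_comap]
        intro a ha
        rw [Ideal.mem_comap]
        have : algebraMap A D a ∈ Q := by
          rw [← Ideal.mem_comap, hQ]; exact ha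
        exact (hτmem _).2 this
      · intro j hj
        exact (hτmem j).2 (hkerQ hj)
      · intro j hj
        obtain ⟨h, h1, h2⟩ := hF1 j hj
        exact ⟨h, fun hh => h1 ((hQmem h).1 ((hτmem h).1 hh)), h2⟩
      · intro 𝔮 _ h1 h2
        refine h3 V 𝔮 h1 ?_
        intro c
        obtain ⟨d, rfl⟩ := hπ c
        rw [h2 d, hτmem, hQmem]
    intro j hj
    have : j ∈ RingHom.ker τ := hker hj
    rw [← hτ1]
    exact this
  have hkill : ∀ j ∈ RingHom.ker π, ∃ u : D, u ∉ Q ∧ u * j = 0 := by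
    intro j hj
    exact exists_mul_eq_zero_of_mem_minimalPrimes (A' := A') p Q hQ j
      (fun P' hP' hle => hmin P' hP' hle hj)
  -- `B` is the localisation of `D` at `Q`
  letI : Algebra D B := ((algebraMap C₁ B).comp π.toRingHom).toAlgebra
  have halg : ∀ d : D, algebraMap D B d = algebraMap C₁ B (π d) := fun d => rfl
  haveI : IsScalarTower A D B := by
    refine IsScalarTower.of_algebraMap_eq fun a => ?_
    rw [halg, AlgHom.commutes, ← IsScalarTower.algebraMap_apply]
  haveI : IsLocalization.AtPrime B Q := by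
    refine (isLocalization_iff _ _).2 ⟨?_, ?_, ?_⟩
    · rintro ⟨d, hd⟩
      rw [halg]
      exact IsLocalization.map_units B (⟨π d, hd⟩ : q₁.primeCompl)
    · intro b
      obtain ⟨⟨c, s⟩, hcs⟩ := IsLocalization.surj q₁.primeCompl b
      obtain ⟨d, rfl⟩ := hπ c
      obtain ⟨e, he⟩ := hπ s.1
      have heQ : e ∈ Q.primeCompl := by
        show e ∉ Q
        rw [hQmem, he]; exact s.2
      refine ⟨⟨d, ⟨e, heQ⟩⟩, ?_⟩
      show b * algebraMap D B e = algebraMap D B d
      rw [halg, halg, he]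
      exact hcs
    · intro d₁ d₂ h
      rw [halg, halg] at h
      obtain ⟨s, hs⟩ := IsLocalization.exists_of_eq (M := q₁.primeCompl) h
      obtain ⟨e, he⟩ := hπ s.1
      have heQ : e ∉ Q := by
        rw [hQmem, he]; exact s.2
      have hj : e * (d₁ - d₂) ∈ RingHom.ker π := by
        rw [RingHom.mem_ker, map_mul, map_sub, he, mul_sub, hs, sub_self]
      obtain ⟨u, hu, hu0⟩ := hkill _ hj
      refine ⟨⟨u * e, hQp.mul_notMem hu heQ⟩, ?_⟩
      show u * e * d₁ = u * e * d₂
      rw [← sub_eq_zero, ← mul_sub, mul_assoc, hu0]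
  haveI : Module.Flat D B := IsLocalization.flat B Q.primeCompl
  exact Module.Flat.trans A D B

end Groth.Agent.Helper5.UOFlat
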