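import Mathlib
import Groth.Agent.Helper5.UOFlat4
import Groth.Agent.Helper5.UOFlat5

/-!
# Flatness of a local ring with a separating transcendence basis in the residue field
-/

set_option autoImplicit false
universe u

namespace Groth.Agent.Helper5.UOFlat

open TensorProduct IsLocalRing

section

variable {A C A' B : Type u} [CommRing A] [CommRing C] [Algebra A C] [CommRing A'] [CommRing B]
  [IsLocalRing A'] [IsLocalRing B] [Algebra A A'] [Algebra C B] [Algebra A B] [IsScalarTower A C B]
  [Algebra A' B] [IsScalarTower A A' B] [IsLocalHom (algebraMap A' B)]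
  (q : Ideal C) [q.IsPrime] [IsLocalization.AtPrime B q]
  (p : Ideal A) [p.IsPrime] [IsLocalization.AtPrime A' p]
  {ι : Type u} (t : ι → C)

theorem flat_of_sepBasis [IsNoetherianRing A] [Algebra.FiniteType A C] [IsReduced A'] [Finite ι]
    (hqp : q.comap (algebraMap A C) = p)
    (hind : AlgebraicIndependent (ResidueField A') (tbar (B := B) t))
    (hsep : Algebra.IsSeparable
      (IntermediateField.adjoin (ResidueField A') (Set.range (tbar (B := B) t))) (ResidueField B))
    (hmax : (maximalIdeal A').map (algebraMap A' B) = maximalIdeal B)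
    (h3 : ∀ g : C, g ∉ q → ∀ (V : Type u) [CommRing V] [IsDomain V] [IsDiscreteValuationRing V]
      [Algebra A V] (𝔮 : Ideal (V ⊗[A] Localization.Away g)) [𝔮.IsPrime],
      (∀ v : V, v ⊗ₜ[A] (1 : Localization.Away g) ∈ 𝔮 ↔ v ∈ maximalIdeal V) →
      (∀ c : Localization.Away g, (1 : V) ⊗ₜ[A] c ∈ 𝔮 ↔
        c ∈ q.map (algebraMap C (Localization.Away g))) →
      Module.Flat V (Localization.AtPrime 𝔮)) :
    Module.Flat A B := by
  classical
  let R := MvPolynomial ι A
  letI : Algebra R C := (MvPolynomial.aeval t : R →ₐ[A] C).toRingHom.toAlgebra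
  have hRC : ∀ r : R, algebraMap R C r = MvPolynomial.aeval t r := fun r => rfl
  haveI : IsScalarTower A R C := IsScalarTower.of_algebraMap_eq fun a => by
    rw [hRC, MvPolynomial.algebraMap_eq, MvPolynomial.aeval_C]
  letI : Algebra R B := ((algebraMap C B).comp (algebraMap R C)).toAlgebra
  haveI : IsScalarTower R C B := IsScalarTower.of_algebraMap_eq fun r => rfl
  have hX : ∀ i, algebraMap R C (MvPolynomial.X i) = t i := fun i => by
    rw [hRC, MvPolynomial.aeval_X]
  haveI : Algebra.IsUnramifiedAt R q :=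
    isUnramifiedAt_of_sepBasis (A' := A') (B := B) q p t hX hsep hmax
  haveI : Algebra.FiniteType R C := Algebra.FiniteType.of_restrictScalars_finiteType A R C
  obtain ⟨g, hg, P, π₀, hπ₀⟩ :=
    Algebra.IsUnramifiedAt.exists_hasStandardEtaleSurjectionOn (R := R) q
  let D := P.Ring
  let C₁ := Localization.Away g
  letI : Algebra A D := ((algebraMap R D).comp (algebraMap A R)).toAlgebra
  haveI : IsScalarTower A R D := IsScalarTower.of_algebraMap_eq fun a => rfl
  haveI : Algebra.Smooth A R := ⟨inferInstance, inferInstance⟩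
  haveI : Algebra.Smooth A D := Algebra.Smooth.comp A R D
  let π : D →ₐ[A] C₁ := π₀.restrictScalars A
  have hπ : Function.Surjective π := hπ₀
  -- the prime of `C₁`
  have hdisj : Disjoint (Submonoid.powers g : Set C) (q : Set C) := by
    rw [Set.disjoint_left]
    rintro _ ⟨n, rfl⟩ hn
    exact hg (Ideal.IsPrime.mem_of_pow_mem inferInstance n hn)
  let q₁ : Ideal C₁ := q.map (algebraMap C C₁)
  haveI hq₁ : q₁.IsPrime :=
    IsLocalization.isPrime_of_isPrime_disjoint (Submonoid.powers g) C₁ q inferInstance hdisj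
  have hq₁c : q₁.comap (algebraMap C C₁) = q :=
    IsLocalization.comap_map_of_isPrime_disjoint (Submonoid.powers g) C₁ inferInstance hdisj
  -- `B` as a `C₁`-algebra
  have hgu : IsUnit (algebraMap C B g) :=
    IsLocalization.map_units B (⟨g, hg⟩ : q.primeCompl)
  letI : Algebra C₁ B := (IsLocalization.Away.lift (S := C₁) g hgu).toAlgebra
  haveI : IsScalarTower C C₁ B := IsScalarTower.of_algebraMap_eq fun c =>
    (IsLocalization.Away.lift_eq g hgu c).symm
  haveI : IsScalarTower A C₁ B := by
    refine IsScalarTower.of_algebraMap_eq fun a => ?_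
    rw [IsScalarTower.algebraMap_apply A C B, IsScalarTower.algebraMap_apply A C C₁,
      ← IsScalarTower.algebraMap_apply C C₁ B]
  have hle : Submonoid.powers g ≤ q.primeCompl := by
    rintro _ ⟨n, rfl⟩
    exact fun hn => hg (Ideal.IsPrime.mem_of_pow_mem inferInstance n hn)
  haveI hloc1 : IsLocalization (q.primeCompl.map (algebraMap C C₁)) B :=
    IsLocalization.isLocalization_of_submonoid_le C₁ B (Submonoid.powers g) q.primeCompl hle
  haveI : IsLocalization.AtPrime B q₁ := by
    refine IsLocalization.of_le (M := q.primeCompl.map (algebraMap C C₁)) q₁.primeCompl ?_ ?_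
    · rintro _ ⟨c, hc, rfl⟩
      show algebraMap C C₁ c ∉ q₁
      rw [← Ideal.mem_comap, hq₁c]
      exact hc
    · intro r hr
      obtain ⟨c, s, rfl⟩ := IsLocalization.exists_mk'_eq (Submonoid.powers g) r
      have hc : c ∉ q := by
        intro hc
        apply hr
        show IsLocalization.mk' C₁ c s ∈ q.map (algebraMap C C₁)
        rw [IsLocalization.mk'_mem_map_algebraMap_iff (Submonoid.powers g)]
        exact ⟨1, one_mem _, by rwa [one_mul]⟩
      have h1 : algebraMap C₁ B (IsLocalization.mk' C₁ c s) * algebraMap C₁ B (algebraMap C C₁ s.1) =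
          algebraMap C B c := by
        rw [← map_mul, IsLocalization.mk'_spec, ← IsScalarTower.algebraMap_apply]
      have h2 : IsUnit (algebraMap C B c) := IsLocalization.map_units B (⟨c, hc⟩ : q.primeCompl)
      rw [← h1] at h2
      exact isUnit_of_mul_isUnit_left h2
  have hp₁ : q₁.comap (algebraMap A C₁) = p := by
    rw [IsScalarTower.algebraMap_eq A C C₁, ← Ideal.comap_comap, hq₁c, hqp]
  refine flat_of_surjective_smooth (A' := A') (B := B) π hπ q₁ p hp₁ ?_ (h3 g hg)
  -- F1
  let Q : Ideal D := q₁.comap π₀.toRingHom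
  haveI hQp : Q.IsPrime := Ideal.comap_isPrime _ _
  have hQmem : ∀ d : D, d ∈ Q ↔ π₀ d ∈ q₁ := fun d => Iff.rfl
  let 𝔭₁ : Ideal R := Q.comap (algebraMap R D)
  haveI : Q.LiesOver 𝔭₁ := ⟨rfl⟩
  have h𝔭₁ : 𝔭₁ ≤ p.map (MvPolynomial.C : A →+* R) := by
    intro r hr
    have h1 : π₀ (algebraMap R D r) ∈ q₁ := hr
    rw [AlgHom.commutes, IsScalarTower.algebraMap_apply R C C₁, ← Ideal.mem_comap, hq₁c, hRC] at h1
    exact mem_map_C_of_aeval_mem (A' := A') (B := B) q p t hind r h1
  letI := Localization.AtPrime.algebraOfLiesOver 𝔭₁ Q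
  have hmaxQ : 𝔭₁.map (algebraMap R (Localization.AtPrime Q)) = maximalIdeal _ :=
    ((Algebra.isUnramifiedAt_iff_map_eq R 𝔭₁ Q).1 inferInstance).2
  intro j hj
  have hjQ : j ∈ Q := by
    rw [hQmem]
    have : π₀ j = 0 := hj
    rw [this]; exact zero_mem _
  have h1 : algebraMap D (Localization.AtPrime Q) j ∈
      (𝔭₁.map (algebraMap R D)).map (algebraMap D (Localization.AtPrime Q)) := by
    rw [Ideal.map_map, ← IsScalarTower.algebraMap_eq, hmaxQ]
    exact (IsLocalization.AtPrime.to_map_mem_maximal_iff _ Q j).2 hjQ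
  rw [IsLocalization.mem_map_algebraMap_iff Q.primeCompl] at h1
  obtain ⟨⟨⟨x, hx⟩, s⟩, hxs⟩ := h1
  rw [← map_mul] at hxs
  obtain ⟨u, hu⟩ := IsLocalization.exists_of_eq (M := Q.primeCompl) hxs
  refine ⟨u.1 * s.1, ?_, ?_⟩
  · have : u.1 * s.1 ∉ Q := hQp.mul_notMem u.2 s.2
    exact this
  · have h2 : u.1 * s.1 * j = u.1 * x := by
      rw [mul_assoc, mul_comm s.1 j]; exact hu
    rw [h2]
    have h3 : x ∈ p.map (algebraMap A D) := by
      have h4 : 𝔭₁.map (algebraMap R D) ≤ p.map (algebraMap A D) := by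
        refine (Ideal.map_mono h𝔭₁).trans ?_
        rw [Ideal.map_map]
        exact le_of_eq rfl
      exact h4 hx
    exact Ideal.mul_mem_left _ _ h3

end

end Groth.Agent.Helper5.UOFlat
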