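import Mathlib
import Groth.Prelude
import Groth.Agent.Helper5.PtOpen8
import Groth.Agent.Helper5.SecNbG
import Groth.Agent.Helper5.DvrFlatC
import Groth.Agent.Helper2.FlatLocusSch

/-!
# From universal openness and universally reduced fibres to flatness over discrete valuation rings
-/

set_option autoImplicit false
set_option linter.style.haveILetI false
universe u

namespace Groth.Agent.Helper5.UOFlat

open TensorProduct IsLocalRing AlgebraicGeometry CategoryTheory CategoryTheory.Limits

theorem h3_of_isUnivOpenAt {A C₁ : Type u} [CommRing A] [CommRing C₁] [Algebra A C₁]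
    [Algebra.FiniteType A C₁] (x' : Spec (CommRingCat.of C₁))
    (hopen : EGA43.IsUnivOpenAt (Spec.map (CommRingCat.ofHom (algebraMap A C₁))) x')
    (hred : Groth.Agent.Helper5.SecNb.URed (Spec.map (CommRingCat.ofHom (algebraMap A C₁))) x')
    (hmaxpt : ∀ w : Spec (CommRingCat.of C₁), w ⤳ x' →
      (Spec.map (CommRingCat.ofHom (algebraMap A C₁))) w =
        (Spec.map (CommRingCat.ofHom (algebraMap A C₁))) x' → w = x')
    (V : Type u) [CommRing V] [IsDomain V] [IsDiscreteValuationRing V] [Algebra A V]
    (𝔮 : Ideal (V ⊗[A] C₁)) [𝔮.IsPrime]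
    (h1 : ∀ v : V, v ⊗ₜ[A] (1 : C₁) ∈ 𝔮 ↔ v ∈ maximalIdeal V)
    (h2 : ∀ c : C₁, (1 : V) ⊗ₜ[A] c ∈ 𝔮 ↔ c ∈ (x' : PrimeSpectrum C₁).asIdeal) :
    Module.Flat V (Localization.AtPrime 𝔮) := by
  let E := V ⊗[A] C₁
  let fA : CommRingCat.of A ⟶ CommRingCat.of C₁ := CommRingCat.ofHom (algebraMap A C₁)
  let tA : CommRingCat.of A ⟶ CommRingCat.of V := CommRingCat.ofHom (algebraMap A V)
  let gE : CommRingCat.of V ⟶ CommRingCat.of E :=
    CommRingCat.ofHom (Algebra.TensorProduct.includeLeftRingHom)
  let hE : CommRingCat.of C₁ ⟶ CommRingCat.of E :=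
    CommRingCat.ofHom (Algebra.TensorProduct.includeRight (R := A) (A := V) (B := C₁)).toRingHom
  have hpo : IsPushout tA fA gE hE := CommRingCat.isPushout_tensorProduct A V C₁
  have hsq : IsPullback (Spec.map hE) (Spec.map gE) (Spec.map fA) (Spec.map tA) :=
    (isPullback_SpecMap_of_isPushout _ _ _ _ hpo).flip
  let g := Spec.map gE
  let z : Spec (CommRingCat.of E) := (⟨𝔮, inferInstance⟩ : PrimeSpectrum E)
  have hgz : g z = IsLocalRing.closedPoint V :=
    PrimeSpectrum.ext (Ideal.ext fun v => h1 v)
  have hhz : Spec.map hE z = x' := PrimeSpectrum.ext (Ideal.ext fun c => h2 c)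
  haveI : LocallyOfFiniteType g := by
    rw [HasRingHomProperty.Spec_iff (P := @LocallyOfFiniteType)]
    show (algebraMap V E).FiniteType
    rw [RingHom.finiteType_algebraMap]
    infer_instance
  have hflat : (g.stalkMap z).hom.Flat := by
    apply Groth.Agent.Helper5.DvrFlat.s4948 g z hgz
    · intro w hw _
      have hw'z : (g.fiberι (g z)) w ⤳ z := by
        have h3 : w ⤳ g.asFiber z := specializes_iff_mem_closure.2 hw
        have h4 := h3.map (g.fiberι (g z)).continuous
        rwa [Scheme.Hom.fiberι_asFiber] at h4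
      have hgw' : g ((g.fiberι (g z)) w) = g z := Groth.Agent.Helper5.FibStalk.fiberι_apply g _ w
      have h3 : Spec.map hE ((g.fiberι (g z)) w) = x' := by
        apply hmaxpt
        · rw [← hhz]; exact hw'z.map (Spec.map hE).continuous
        · have e1 := fun y => congrArg (fun ψ : Spec (CommRingCat.of E) ⟶ Spec (CommRingCat.of A) =>
            ψ y) hsq.w
          simp only [Scheme.Hom.comp_apply] at e1
          rw [← hhz]
          show Spec.map fA (Spec.map hE ((g.fiberι (g z)) w)) = Spec.map fA (Spec.map hE z)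
          rw [e1, e1]
          show Spec.map tA (g ((g.fiberι (g z)) w)) = Spec.map tA (g z)
          rw [hgw']
      refine Groth.Agent.Helper5.PtOpen.isOpenAt_of_isUnivOpenAt_of_isPullback hsq _ ?_
      rw [h3]; exact hopen
    · have e1 : hsq.isoPullback.hom ≫ pullback.fst (Spec.map fA) (Spec.map tA) = Spec.map hE :=
        hsq.isoPullback_hom_fst
      have e2 : hsq.isoPullback.hom ≫ pullback.snd (Spec.map fA) (Spec.map tA) = g :=
        hsq.isoPullback_hom_snd
      have hz' : (pullback.fst (Spec.map fA) (Spec.map tA)) (hsq.isoPullback.hom z) = x' := by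
        rw [← Scheme.Hom.comp_apply, e1]; exact hhz
      have hr := hred _ (Spec.map tA) (hsq.isoPullback.hom z) hz'
      have key := Groth.Agent.Helper5.SecNb.isReduced_fiber_stalk_of_isOpenImmersion
        hsq.isoPullback.hom (pullback.snd (Spec.map fA) (Spec.map tA)) z hr
      let P : (Spec (CommRingCat.of E) ⟶ Spec (CommRingCat.of V)) → Prop := fun q =>
        _root_.IsReduced ((q.fiber (q z)).presheaf.stalk (q.asFiber z))
      have k2 : P (hsq.isoPullback.hom ≫ pullback.snd (Spec.map fA) (Spec.map tA)) := key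
      have k3 : P g := e2 ▸ k2
      exact k3
  rw [RingHom.Flat.respectsIso.arrow_mk_iso_iff (Scheme.arrowStalkMapSpecIso gE z)] at hflat
  have h5 := Groth.Agent.Helper2.FlatLocusSch.flat_of_localRingHom_flat gE.hom _ 𝔮 rfl hflat
  have h6 : (algebraMap E (Localization.AtPrime 𝔮)).comp gE.hom =
      algebraMap V (Localization.AtPrime 𝔮) := by
    ext v
    rw [IsScalarTower.algebraMap_apply V E (Localization.AtPrime 𝔮)]
    rfl
  rw [h6, RingHom.flat_algebraMap_iff] at h5
  exact h5

end Groth.Agent.Helper5.UOFlat
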