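import Mathlib
import Groth.Prelude
import Groth.Agent.Helper5.DvrFlatC
import Groth.Agent.Helper5.FibStalk
import Groth.Agent.Helper4.GeomRedPt

/-!
# The local ring of a fibre at a maximal point at which the fibre is geometrically reduced
-/

set_option autoImplicit false
set_option linter.style.haveILetI false
universe u

namespace Groth.Agent.Helper5.UOFlat

open IsLocalRing AlgebraicGeometry CategoryTheory CategoryTheory.Limits

section

variable {X Y : Scheme.{u}} (f : X ⟶ Y)

/-- transport of `FibStalk.s9501` along an equality of points -/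
theorem fib_aux (y : Y) (w : ↥(f.fiber y)) (x' : X) (e : (f.fiberι y) w = x') :
    Function.Surjective (X.presheaf.stalkSpecializes (specializes_of_eq e) ≫
      (f.fiberι y).stalkMap w).hom ∧
    RingHom.ker (X.presheaf.stalkSpecializes (specializes_of_eq e) ≫
      (f.fiberι y).stalkMap w).hom =
      Ideal.map (f.stalkMap x').hom (maximalIdeal (Y.presheaf.stalk (f x'))) := by
  subst e
  have h := Groth.Agent.Helper5.FibStalk.s9501 f y w
  have h1 : X.presheaf.stalkSpecializes (specializes_of_eq (rfl : (f.fiberι y) w = _)) ≫
      (f.fiberι y).stalkMap w = (f.fiberι y).stalkMap w := by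
    rw [TopCat.Presheaf.stalkSpecializes_refl, Category.id_comp]
  rw [h1]
  exact h

variable (x : X)

/-- the map from the local ring of `X` at `x` to the local ring of the fibre at `x` -/
noncomputable def fibStalkMap :
    X.presheaf.stalk x ⟶ (f.fiber (f x)).presheaf.stalk (f.asFiber x) :=
  X.presheaf.stalkSpecializes (specializes_of_eq (f.fiberι_asFiber x)) ≫
    (f.fiberι (f x)).stalkMap (f.asFiber x)

theorem fibStalkMap_surjective : Function.Surjective (fibStalkMap f x).hom :=
  (fib_aux f (f x) (f.asFiber x) x (f.fiberι_asFiber x)).1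

theorem ker_fibStalkMap : RingHom.ker (fibStalkMap f x).hom =
    Ideal.map (f.stalkMap x).hom (maximalIdeal (Y.presheaf.stalk (f x))) :=
  (fib_aux f (f x) (f.asFiber x) x (f.fiberι_asFiber x)).2

theorem specMap_fibStalkMap :
    Spec.map (fibStalkMap f x) ≫ X.fromSpecStalk x =
      (f.fiber (f x)).fromSpecStalk (f.asFiber x) ≫ f.fiberι (f x) := by
  rw [fibStalkMap, Spec.map_comp, Category.assoc, Scheme.SpecMap_stalkSpecializes_fromSpecStalk,
    Scheme.SpecMap_stalkMap_fromSpecStalk]

/-- the structure map from the residue field of the base point to the local ring of the fibre -/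
noncomputable def fibStr : ResidueField (Y.presheaf.stalk (f x)) →+*
    (f.fiber (f x)).presheaf.stalk (f.asFiber x) :=
  Groth.Agent.Helper5.DvrFlat.gmap (A := ResidueField (Y.presheaf.stalk (f x)))
    (f.fiberToSpecResidueField (f x)) (f.asFiber x)

theorem specMap_fibStr :
    Spec.map (CommRingCat.ofHom (fibStr f x)) =
      (f.fiber (f x)).fromSpecStalk (f.asFiber x) ≫ f.fiberToSpecResidueField (f x) :=
  Groth.Agent.Helper5.DvrFlat.specMap_gmap (A := ResidueField (Y.presheaf.stalk (f x)))
    (f.fiberToSpecResidueField (f x)) (f.asFiber x)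

theorem fibStr_comp :
    (fibStr f x).comp (residue (Y.presheaf.stalk (f x))) =
      (fibStalkMap f x).hom.comp (f.stalkMap x).hom := by
  have e1 : Spec.map (CommRingCat.ofHom (residue (Y.presheaf.stalk (f x)))) ≫
      Y.fromSpecStalk (f x) = Y.fromSpecResidueField (f x) := rfl
  have key : CommRingCat.ofHom (residue (Y.presheaf.stalk (f x))) ≫
      CommRingCat.ofHom (fibStr f x) = f.stalkMap x ≫ fibStalkMap f x := by
    apply Spec.map_injective
    rw [← cancel_mono (Y.fromSpecStalk (f x))]
    calc Spec.map (CommRingCat.ofHom (residue (Y.presheaf.stalk (f x))) ≫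
          CommRingCat.ofHom (fibStr f x)) ≫ Y.fromSpecStalk (f x)
        = Spec.map (CommRingCat.ofHom (fibStr f x)) ≫
          (Spec.map (CommRingCat.ofHom (residue (Y.presheaf.stalk (f x)))) ≫
            Y.fromSpecStalk (f x)) := by
          rw [Spec.map_comp, Category.assoc]
      _ = ((f.fiber (f x)).fromSpecStalk (f.asFiber x) ≫ f.fiberToSpecResidueField (f x)) ≫
          Y.fromSpecResidueField (f x) := by
          rw [e1, specMap_fibStr]
          rfl
      _ = (f.fiber (f x)).fromSpecStalk (f.asFiber x) ≫ f.fiberι (f x) ≫ f := by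
          rw [Category.assoc, ← Scheme.Hom.fiber_fac]
      _ = Spec.map (fibStalkMap f x) ≫ X.fromSpecStalk x ≫ f := by
          rw [← Category.assoc, ← specMap_fibStalkMap, Category.assoc]
      _ = Spec.map (f.stalkMap x ≫ fibStalkMap f x) ≫ Y.fromSpecStalk (f x) := by
          rw [Spec.map_comp, Category.assoc, Scheme.SpecMap_stalkMap_fromSpecStalk]
  exact congrArg CommRingCat.Hom.hom key

/-- the local ring of the fibre at a maximal point at which the fibre is geometrically reduced is
a field; consequences for the local rings of `X` and `Y` -/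
theorem fib_package (hmax : ∀ x' : X, x' ⤳ x → f x' = f x → x' = x)
    (hred : FBase.IsGeomReducedAt (f.fiberToSpecResidueField (f x)) (f.asFiber x)) :
    (maximalIdeal (Y.presheaf.stalk (f x))).map (f.stalkMap x).hom =
      maximalIdeal (X.presheaf.stalk x) ∧
    (∀ [Algebra (Y.presheaf.stalk (f x)) (X.presheaf.stalk x)]
      [IsLocalHom (algebraMap (Y.presheaf.stalk (f x)) (X.presheaf.stalk x))],
      algebraMap (Y.presheaf.stalk (f x)) (X.presheaf.stalk x) = (f.stalkMap x).hom →
      Algebra.IsGeometricallyReduced (ResidueField (Y.presheaf.stalk (f x)))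
        (ResidueField (X.presheaf.stalk x))) := by
  let k := ResidueField (Y.presheaf.stalk (f x))
  let S := (f.fiber (f x)).presheaf.stalk (f.asFiber x)
  let B := X.presheaf.stalk x
  let σ : B →+* S := (fibStalkMap f x).hom
  letI : Algebra k S := (fibStr f x).toAlgebra
  have hgr : Algebra.IsGeometricallyReduced k S :=
    (Groth.Agent.Helper4.GeomRedPt.geomReducedAt_iff_stalk _ _ (fibStr f x)
      (specMap_fibStr f x)).1 hred
  haveI : _root_.IsReduced S := Algebra.isReduced_of_isGeometricallyReduced k
  have huniq : ∀ P : PrimeSpectrum S, P = closedPoint S := by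
    intro P
    have h1 : ((f.fiber (f x)).fromSpecStalk (f.asFiber x)) P ⤳ f.asFiber x := by
      have : ((f.fiber (f x)).fromSpecStalk (f.asFiber x)) P ∈
          Set.range ((f.fiber (f x)).fromSpecStalk (f.asFiber x)) := ⟨P, rfl⟩
      rw [Scheme.range_fromSpecStalk] at this
      exact this
    have h2 : (f.fiberι (f x)) (((f.fiber (f x)).fromSpecStalk (f.asFiber x)) P) ⤳ x := by
      have := h1.map (f.fiberι (f x)).continuous
      rwa [Scheme.Hom.fiberι_asFiber] at this
    have h3 : f ((f.fiberι (f x)) (((f.fiber (f x)).fromSpecStalk (f.asFiber x)) P)) = f x :=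
      Groth.Agent.Helper5.FibStalk.fiberι_apply f (f x) _
    have h4 := hmax _ h2 h3
    have h5 : ((f.fiber (f x)).fromSpecStalk (f.asFiber x)) P = f.asFiber x := by
      apply (f.fiberι (f x)).isEmbedding.injective
      rw [h4, Scheme.Hom.fiberι_asFiber]
    apply ((f.fiber (f x)).fromSpecStalk (f.asFiber x)).isEmbedding.injective
    rw [h5, Scheme.fromSpecStalk_closedPoint]
  have hfield : IsField S := by
    rw [isField_iff_maximalIdeal_eq]
    refine le_bot_iff.1 fun a ha => ?_
    have hn : IsNilpotent a := by
      rw [nilpotent_iff_mem_prime]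
      intro J hJ
      have hJ' : J = maximalIdeal S := congrArg PrimeSpectrum.asIdeal (huniq ⟨J, hJ⟩)
      rw [hJ']; exact ha
    exact (Ideal.mem_bot).2 hn.eq_zero
  have hsurj : Function.Surjective σ := fibStalkMap_surjective f x
  have hker : RingHom.ker σ = maximalIdeal B := by
    have hle : RingHom.ker σ ≤ maximalIdeal B :=
      le_maximalIdeal (RingHom.ker_ne_top σ)
    refine le_antisymm hle fun b hb => ?_
    by_contra hb0
    have hb1 : σ b ≠ 0 := hb0
    obtain ⟨s, hs⟩ := hfield.mul_inv_cancel hb1
    obtain ⟨c, rfl⟩ := hsurj s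
    have h1 : b * c - 1 ∈ RingHom.ker σ := by
      rw [RingHom.mem_ker, map_sub, map_mul, hs, map_one, sub_self]
    have h2 : b * c ∈ maximalIdeal B := Ideal.mul_mem_right _ _ hb
    have h3 : (1 : B) ∈ maximalIdeal B := by
      have := Ideal.sub_mem _ h2 (hle h1)
      rwa [sub_sub_cancel] at this
    exact (Ideal.ne_top_iff_one _).1 (maximalIdeal.isMaximal B).ne_top h3
  refine ⟨?_, ?_⟩
  · rw [← ker_fibStalkMap, hker]
  · intro _ _ halg
    let K := ResidueField B
    let ψ : K →+* S := Ideal.Quotient.lift (maximalIdeal B) σ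
      (fun a ha => by rw [← hker] at ha; exact ha)
    let ψa : K →ₐ[k] S :=
      { ψ with
        commutes' := by
          intro c
          obtain ⟨a', rfl⟩ := residue_surjective c
          have h1 := congrArg (fun φ : Y.presheaf.stalk (f x) →+* S => φ a') (fibStr_comp f x)
          have h2 : algebraMap k K (residue _ a') = residue B ((f.stalkMap x).hom a') := by
            rw [ResidueField.algebraMap_residue, halg]
          show ψ (algebraMap k K (residue _ a')) = _
          rw [h2]
          exact h1.symm }
    exact Algebra.IsGeometricallyReduced.of_injective ψa (RingHom.injective ψ)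

end

end Groth.Agent.Helper5.UOFlat
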