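import Mathlib
import Groth.Agent.Helper5.CIAsc4
import Groth.Agent.Helper5.CIP6
import Groth.Agent.Helper5.UOFlat9
import Groth.Prelude.Def_CInt

/-!
# Complete intersection local rings of fibres: dictionary with rings
-/

set_option autoImplicit false
set_option linter.style.haveILetI false
set_option linter.unusedSectionVars false
set_option linter.unusedVariables false
universe u
open IsLocalRing AlgebraicGeometry CategoryTheory CategoryTheory.Limits TensorProduct

namespace Groth.Agent.Helper5.CIOpen

open Groth.Agent.Helper5.CIP Groth.Agent.Helper7.CKd Groth.Agent.Helper5.CMFib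

section bridge

variable (k : Type u) [Field k] (T : Type u) [CommRing T] [IsLocalRing T] [Algebra k T]
  [Algebra.EssFiniteType k T]

/-- for a local algebra essentially of finite type over a field, "complete intersection over the
field" is the absolute complete intersection property -/
theorem isCIOver_iff_isCI : Synt.IsCIOver k T ↔ Pi1.IsCompleteIntersection T := by
  haveI : IsNoetherianRing T := Algebra.EssFiniteType.isNoetherianRing k T
  constructor
  · intro h
    obtain ⟨R, _, _, _, hess, π, hπ, rs, hreg, hker⟩ := presentation_of_isCIOver k T h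
    have hne : RingHom.ker π.toRingHom ≠ ⊤ := RingHom.ker_ne_top _
    let e : (R ⧸ RingHom.ker π.toRingHom) ≃+* T := RingHom.quotientKerEquivOfSurjective hπ
    haveI : IsLocalRing (R ⧸ RingHom.ker π.toRingHom) := e.symm.isLocalRing
    have h1 : Pi1.IsCompleteIntersection (R ⧸ RingHom.ker π.toRingHom) :=
      (s2166 _ hne).mpr ⟨rs, hker.symm, hreg⟩
    exact isCI_of_ringEquiv e h1
  · intro h
    obtain ⟨R, _, _, _, hess, π, hπ⟩ := exists_regular_surj k T
    have hne : RingHom.ker π.toRingHom ≠ ⊤ := RingHom.ker_ne_top _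
    let e : (R ⧸ RingHom.ker π.toRingHom) ≃+* T := RingHom.quotientKerEquivOfSurjective hπ
    haveI : IsLocalRing (R ⧸ RingHom.ker π.toRingHom) := e.symm.isLocalRing
    have h1 : Pi1.IsCompleteIntersection (R ⧸ RingHom.ker π.toRingHom) :=
      isCI_of_ringEquiv e.symm h
    obtain ⟨rs, hrs, hreg⟩ := (s2166 _ hne).mp h1
    exact isCIOver_of_presentation k T R hess π hπ rs hreg hrs.symm

end bridge

section fibprime

variable (A B : Type u) [CommRing A] [CommRing B] [Algebra A B]

/-- the prime of the fibre ring over a prime of `B`, with the fibre local ring as its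
localization -/
theorem exists_fibre_prime (Q : Ideal B) [hQ : Q.IsPrime] :
    ∃ (q : Ideal ((Q.comap (algebraMap A B)).Fiber B)) (_ : q.IsPrime),
      q.comap (Algebra.TensorProduct.includeRight :
        B →ₐ[A] (Q.comap (algebraMap A B)).Fiber B).toRingHom = Q ∧
      Nonempty (Localization.AtPrime q ≃+* EGA4.FibLocRing A B Q) := by
  set p := Q.comap (algebraMap A B) with hp
  haveI : p.IsPrime := Ideal.comap_isPrime _ _
  let q := PrimeSpectrum.preimageEquivFiber A B ⟨p, inferInstance⟩ ⟨⟨Q, hQ⟩, rfl⟩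
  have hq : q.asIdeal.comap (Algebra.TensorProduct.includeRight : B →ₐ[A] p.Fiber B) = Q := by
    have := (PrimeSpectrum.preimageEquivFiber A B ⟨p, inferInstance⟩).left_inv ⟨⟨Q, hQ⟩, rfl⟩
    exact congrArg (fun x => x.1.asIdeal) this
  letI := Localization.AtPrime.algebraOfLiesOver p
    (q.asIdeal.comap (Algebra.TensorProduct.includeRight : B →ₐ[A] p.Fiber B))
  have e := Ideal.Fiber.localizationAlgEquivQuotient p q.asIdeal
  have key : ∀ (r : Ideal B) [r.IsPrime], r = Q →
      Nonempty (Localization.AtPrime q.asIdeal ≃+*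
        (Localization.AtPrime r ⧸ p.map (algebraMap A (Localization.AtPrime r)))) →
      Nonempty (Localization.AtPrime q.asIdeal ≃+*
        (Localization.AtPrime Q ⧸ p.map (algebraMap A (Localization.AtPrime Q)))) := by
    rintro r _ rfl h
    exact h
  exact ⟨q.asIdeal, q.isPrime, hq, key _ hq ⟨e.toRingEquiv⟩⟩

end fibprime

section sch

variable {X S : Scheme.{u}} (f : X ⟶ S)

/-- the local ring of the fibre through `x`, computed on affine charts -/
theorem fiberStalk_equiv_fibLocRing (x : X) (U : X.affineOpens) (V : S.affineOpens)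
    (e : U.1 ≤ f ⁻¹ᵁ V.1) (hx : x ∈ U.1) :
    letI := (f.appLE V.1 U.1 e).hom.toAlgebra
    Nonempty (CInt.fiberStalk f x ≃+*
      EGA4.FibLocRing Γ(S, V.1) Γ(X, U.1) (U.2.primeIdealOf ⟨x, hx⟩).asIdeal) := by
  letI algRS : Algebra Γ(S, V.1) Γ(X, U.1) := (f.appLE V.1 U.1 e).hom.toAlgebra
  set q : Ideal Γ(X, U.1) := (U.2.primeIdealOf ⟨x, hx⟩).asIdeal with hq
  set p' : Ideal Γ(S, V.1) := (V.2.primeIdealOf ⟨f x, e hx⟩).asIdeal with hp'
  letI algSX : Algebra Γ(X, U.1) (X.presheaf.stalk x) :=
    TopCat.Presheaf.algebra_section_stalk X.presheaf (⟨x, hx⟩ : U.1)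
  haveI locX : IsLocalization.AtPrime (X.presheaf.stalk x) q := U.2.isLocalization_stalk ⟨x, hx⟩
  letI algRY : Algebra Γ(S, V.1) (S.presheaf.stalk (f x)) :=
    TopCat.Presheaf.algebra_section_stalk S.presheaf (⟨f x, e hx⟩ : V.1)
  haveI locS : IsLocalization.AtPrime (S.presheaf.stalk (f x)) p' :=
    V.2.isLocalization_stalk ⟨f x, e hx⟩
  let ε : Localization.AtPrime q ≃ₐ[Γ(X, U.1)] X.presheaf.stalk x :=
    IsLocalization.algEquiv q.primeCompl _ _
  obtain ⟨e3⟩ := fibre_stalk_equiv' f x
  have hcomap : q.comap (algebraMap Γ(S, V.1) Γ(X, U.1)) = p' := by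
    have := IsAffineOpen.comap_primeIdealOf_appLE (f := f) V.1 V.2 U.1 U.2 e hx
    exact congrArg PrimeSpectrum.asIdeal this
  have hhom : ((ε : Localization.AtPrime q ≃+* X.presheaf.stalk x) :
        Localization.AtPrime q →+* X.presheaf.stalk x).comp
      (algebraMap Γ(S, V.1) (Localization.AtPrime q)) =
      (f.stalkMap x).hom.comp (algebraMap Γ(S, V.1) (S.presheaf.stalk (f x))) := by
    ext r
    have h1 : algebraMap Γ(S, V.1) (Localization.AtPrime q) r =
        algebraMap Γ(X, U.1) (Localization.AtPrime q) (algebraMap Γ(S, V.1) Γ(X, U.1) r) :=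
      IsScalarTower.algebraMap_apply _ _ _ r
    show ε (algebraMap Γ(S, V.1) (Localization.AtPrime q) r) = _
    rw [h1, AlgEquiv.commutes]
    have h2 := Groth.Agent.Helper5.UOFlat.germ_appLE f V.1 U.1 e x hx
    exact congrArg (fun φ => φ.hom r) h2
  have hI : Ideal.map (f.stalkMap x).hom (maximalIdeal (S.presheaf.stalk (f x))) =
      Ideal.map ((ε : Localization.AtPrime q ≃+* X.presheaf.stalk x) :
        Localization.AtPrime q →+* X.presheaf.stalk x)
        ((q.comap (algebraMap Γ(S, V.1) Γ(X, U.1))).map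
          (algebraMap Γ(S, V.1) (Localization.AtPrime q))) := by
    rw [hcomap, Ideal.map_map, hhom, ← Ideal.map_map,
      IsLocalization.AtPrime.map_eq_maximalIdeal p' (S.presheaf.stalk (f x))]
  exact ⟨e3.symm.trans (Ideal.quotientEquiv _ _ (ε : Localization.AtPrime q ≃+* X.presheaf.stalk x)
    hI).symm⟩

end sch

end Groth.Agent.Helper5.CIOpen
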