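import Mathlib
import Groth.Agent.Helper5.SpecFib4
import Groth.Agent.Helper5.NoethModel1
import Groth.Agent.Helper5.BCMin13
import Groth.Agent.Helper5.FibDim7

set_option autoImplicit false
set_option linter.style.haveILetI false
universe u
open CategoryTheory CategoryTheory.Limits AlgebraicGeometry TopologicalSpace Topology TensorProduct

namespace Groth.Agent.Helper5.SpecFib

variable (R S : Type u) [CommRing R] [CommRing S] [Algebra R S]

theorem setOf_eq (n : ℕ) :
    {q : PrimeSpectrum S | ∀ Q : PrimeSpectrum ((q.asIdeal.under R).Fiber S),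
        Q.asIdeal.comap (Algebra.TensorProduct.includeRight.toRingHom) = q.asIdeal →
          FlatMor.localDim (PrimeSpectrum ((q.asIdeal.under R).Fiber S)) Q ≤ (n : WithBot ℕ∞)} =
      {q : PrimeSpectrum S |
        FlatMor.fibreDimAt (Spec.map (CommRingCat.ofHom (algebraMap R S))) q ≤ (n : WithBot ℕ∞)} := by
  ext q
  show (∀ Q : PrimeSpectrum ((q.asIdeal.under R).Fiber S),
        Q.asIdeal.comap (Algebra.TensorProduct.includeRight.toRingHom) = q.asIdeal →
          FlatMor.localDim (PrimeSpectrum ((q.asIdeal.under R).Fiber S)) Q ≤ (n : WithBot ℕ∞)) ↔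
      FlatMor.fibreDimAt (Spec.map (CommRingCat.ofHom (algebraMap R S))) q ≤ (n : WithBot ℕ∞)
  constructor
  · intro h
    obtain ⟨Q, hQ⟩ := exists_over R S q
    rw [← localDim_fibre_eq R S q Q hQ]
    exact h Q hQ
  · intro h Q hQ
    rw [localDim_fibre_eq R S q Q hQ]
    exact h

set_option maxHeartbeats 1000000 in
theorem s9176 [Algebra.FinitePresentation R S] (n : ℕ) :
    IsOpen {q : PrimeSpectrum S | ∀ Q : PrimeSpectrum ((q.asIdeal.under R).Fiber S),
        Q.asIdeal.comap (Algebra.TensorProduct.includeRight.toRingHom) = q.asIdeal →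
          FlatMor.localDim (PrimeSpectrum ((q.asIdeal.under R).Fiber S)) Q ≤ (n : WithBot ℕ∞)} ∧
      IsCompact {q : PrimeSpectrum S | ∀ Q : PrimeSpectrum ((q.asIdeal.under R).Fiber S),
        Q.asIdeal.comap (Algebra.TensorProduct.includeRight.toRingHom) = q.asIdeal →
          FlatMor.localDim (PrimeSpectrum ((q.asIdeal.under R).Fiber S)) Q ≤ (n : WithBot ℕ∞)} := by
  rw [setOf_eq R S n]
  set f := Spec.map (CommRingCat.ofHom (algebraMap R S)) with hf
  haveI : LocallyOfFinitePresentation f := by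
    rw [hf, HasRingHomProperty.Spec_iff (P := @LocallyOfFinitePresentation)]
    exact RingHom.finitePresentation_algebraMap.2 inferInstance
  haveI : LocallyOfFiniteType f := inferInstance
  refine ⟨Groth.Agent.Helper5.FibDim.isOpen_fibreDimAt_le f (n : WithBot ℕ∞), ?_⟩
  obtain ⟨R₀, S₀, _, _, _, _, ψ, hN, hft, hsq⟩ :=
    Groth.Agent.Helper5.NoethModel.exists_noetherian_model R S
  set f₀ := Spec.map (CommRingCat.ofHom (algebraMap R₀ S₀)) with hf₀
  haveI : LocallyOfFiniteType f₀ := by
    rw [hf₀, HasRingHomProperty.Spec_iff (P := @LocallyOfFiniteType)]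
    exact RingHom.finiteType_algebraMap.2 hft
  set g' := Spec.map (CommRingCat.ofHom ψ) with hg'
  have hpre : {q : PrimeSpectrum S | FlatMor.fibreDimAt f q ≤ (n : WithBot ℕ∞)} =
      g' ⁻¹' {y : ↥(Spec (CommRingCat.of S₀)) | FlatMor.fibreDimAt f₀ y ≤ (n : WithBot ℕ∞)} := by
    ext q
    show FlatMor.fibreDimAt f q ≤ (n : WithBot ℕ∞) ↔ FlatMor.fibreDimAt f₀ (g' q) ≤ (n : WithBot ℕ∞)
    rw [Groth.Agent.Helper5.BCMin.fibreDimAt_of_isPullback f₀ _ g' f hsq q]
  rw [hpre]
  haveI : IsNoetherianRing S₀ := Algebra.FiniteType.isNoetherianRing R₀ S₀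
  haveI : NoetherianSpace ↥(Spec (CommRingCat.of S₀)) :=
    inferInstanceAs (NoetherianSpace (PrimeSpectrum S₀))
  have hopen := Groth.Agent.Helper5.FibDim.isOpen_fibreDimAt_le f₀ (n : WithBot ℕ∞)
  exact QuasiCompact.isCompact_preimage (f := g') _ hopen (NoetherianSpace.isCompact _)

end Groth.Agent.Helper5.SpecFib
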