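import Mathlib
import Groth.Prelude
import Groth.Agent.Helper5.SpecFib5
import Groth.Agent.Helper5.FtDim8
import Groth.Agent.Helper5.CIOpen1

/-!
# FibPdD: primes of the fibre rings — local rings and local dimensions
-/

set_option autoImplicit false
set_option linter.unusedSectionVars false
set_option linter.unusedVariables false
set_option linter.style.haveILetI false
universe u
open CategoryTheory TensorProduct IsLocalRing AlgebraicGeometry

namespace Groth.Agent.Helper5.FibPd

section FibrePrime

variable (A B : Type u) [CommRing A] [CommRing B] [Algebra A B]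

/-- the local ring of the fibre ring at a prime is the fibre local ring -/
theorem fibLoc_equiv (p : Ideal A) [p.IsPrime] (Q : Ideal (p.Fiber B)) [Q.IsPrime]
    (q : Ideal B) [q.IsPrime]
    (hq : Q.comap (Algebra.TensorProduct.includeRight : B →ₐ[A] p.Fiber B) = q) :
    Nonempty (Localization.AtPrime Q ≃+* EGA4.FibLocRing A B q) := by
  subst hq
  letI := Localization.AtPrime.algebraOfLiesOver p
    (Q.comap (Algebra.TensorProduct.includeRight : B →ₐ[A] p.Fiber B))
  have e := Ideal.Fiber.localizationAlgEquivQuotient p Q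
  have hp : (Q.comap (Algebra.TensorProduct.includeRight : B →ₐ[A] p.Fiber B)).comap
      (algebraMap A B) = p :=
    (Ideal.over_def (Q.comap (Algebra.TensorProduct.includeRight : B →ₐ[A] p.Fiber B)) p).symm
  exact ⟨e.toRingEquiv.trans (Ideal.quotEquivOfEq (by rw [hp]))⟩

/-- the local fibre dimension at a prime is the local dimension of the fibre ring -/
theorem fibreDimAt_eq (p : PrimeSpectrum A) (Q : PrimeSpectrum (p.asIdeal.Fiber B))
    (q : PrimeSpectrum B)
    (hq : Q.asIdeal.comap (Algebra.TensorProduct.includeRight : B →ₐ[A] p.asIdeal.Fiber B) =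
      q.asIdeal) :
    FlatMor.fibreDimAt (Spec.map (CommRingCat.ofHom (algebraMap A B))) q =
      FlatMor.localDim (PrimeSpectrum (p.asIdeal.Fiber B)) Q := by
  have hp : p = ⟨q.asIdeal.under A, inferInstance⟩ := by
    apply PrimeSpectrum.ext
    show p.asIdeal = q.asIdeal.comap (algebraMap A B)
    rw [← hq]
    exact Ideal.over_def
      (Q.asIdeal.comap (Algebra.TensorProduct.includeRight : B →ₐ[A] p.asIdeal.Fiber B)) p.asIdeal
  revert Q
  rw [hp]
  intro Q hq
  exact (Groth.Agent.Helper5.SpecFib.localDim_fibre_eq A B q Q hq).symm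

/-- every prime of `B` comes from a prime of a fibre ring -/
theorem exists_fibre_prime' (q : PrimeSpectrum B) :
    ∃ (p : PrimeSpectrum A) (Q : PrimeSpectrum (p.asIdeal.Fiber B)),
      Q.asIdeal.comap (Algebra.TensorProduct.includeRight : B →ₐ[A] p.asIdeal.Fiber B) =
        q.asIdeal := by
  haveI := q.2
  obtain ⟨Q, hQ, hcomap, -⟩ := Groth.Agent.Helper5.CIOpen.exists_fibre_prime A B q.asIdeal
  exact ⟨⟨q.asIdeal.comap (algebraMap A B), inferInstance⟩, ⟨Q, hQ⟩, hcomap⟩

end FibrePrime

end Groth.Agent.Helper5.FibPd
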