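import Mathlib
import Groth.Prelude
import Groth.Agent.Helper5.FibPdD

/-!
# FibPdE: fibre rings of a polynomial presentation
-/

set_option autoImplicit false
set_option linter.unusedSectionVars false
set_option linter.unusedVariables false
set_option linter.style.haveILetI false
universe u
open CategoryTheory TensorProduct IsLocalRing AlgebraicGeometry

namespace Groth.Agent.Helper5.FibPd

/-- the quotient by the contraction of a prime along a surjection has the same dimension -/
theorem ringKrullDim_quotient_comap {S S' : Type u} [CommRing S] [CommRing S'] (ψ : S →+* S')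
    (hψ : Function.Surjective ψ) (I : Ideal S') :
    ringKrullDim (S ⧸ I.comap ψ) = ringKrullDim (S' ⧸ I) := by
  let g : S →+* S' ⧸ I := (Ideal.Quotient.mk I).comp ψ
  have hg : Function.Surjective g := Ideal.Quotient.mk_surjective.comp hψ
  have hker : RingHom.ker g = I.comap ψ := by
    ext x
    simp [g, RingHom.mem_ker, Ideal.Quotient.eq_zero_iff_mem]
  exact ringKrullDim_eq_of_ringEquiv
    ((Ideal.quotEquivOfEq hker.symm).trans (RingHom.quotientKerEquivOfSurjective hg))

section Poly

variable (A B : Type u) [CommRing A] [CommRing B] [Algebra A B] (N : ℕ)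
  [Algebra (MvPolynomial (Fin N) A) B] [IsScalarTower A (MvPolynomial (Fin N) A) B]

/-- the map of fibre rings induced by the presentation -/
noncomputable def fibMap (p : Ideal A) [p.IsPrime] :
    p.Fiber (MvPolynomial (Fin N) A) →ₐ[p.ResidueField] p.Fiber B :=
  Algebra.TensorProduct.map (AlgHom.id _ _) (IsScalarTower.toAlgHom A (MvPolynomial (Fin N) A) B)

theorem fibMap_surjective (hs : Function.Surjective (algebraMap (MvPolynomial (Fin N) A) B))
    (p : Ideal A) [p.IsPrime] : Function.Surjective (fibMap A B N p) := by
  unfold fibMap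
  exact Algebra.TensorProduct.map_surjective _ _ Function.surjective_id hs

theorem fibMap_comap (p : Ideal A) [p.IsPrime] (Q : Ideal (p.Fiber B)) :
    (Q.comap (fibMap A B N p)).comap (Algebra.TensorProduct.includeRight :
        MvPolynomial (Fin N) A →ₐ[A] p.Fiber (MvPolynomial (Fin N) A)) =
      (Q.comap (Algebra.TensorProduct.includeRight : B →ₐ[A] p.Fiber B)).comap
        (algebraMap (MvPolynomial (Fin N) A) B) := by
  ext x
  simp only [Ideal.mem_comap]
  have : fibMap A B N p (Algebra.TensorProduct.includeRight x) =
      Algebra.TensorProduct.includeRight (algebraMap (MvPolynomial (Fin N) A) B x) := by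
    simp [fibMap]
  rw [this]

/-- in the fibre of the polynomial ring: `ht Q̄ + dim (S_p / q̄) = N` -/
theorem height_add_coheight (hs : Function.Surjective (algebraMap (MvPolynomial (Fin N) A) B))
    (p : Ideal A) [p.IsPrime] (Q : PrimeSpectrum (p.Fiber B)) :
    (((Q.asIdeal.comap (fibMap A B N p)).height + Order.coheight Q : ℕ∞) : WithBot ℕ∞) = N := by
  let e : p.Fiber (MvPolynomial (Fin N) A) ≃ₐ[p.ResidueField] MvPolynomial (Fin N) p.ResidueField :=
    MvPolynomial.algebraTensorAlgEquiv A p.ResidueField
  haveI : IsDomain (p.Fiber (MvPolynomial (Fin N) A)) := e.toMulEquiv.isDomain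
  have hdim : ringKrullDim (p.Fiber (MvPolynomial (Fin N) A)) = N := by
    rw [ringKrullDim_eq_of_ringEquiv e.toRingEquiv, MvPolynomial.ringKrullDim_of_isNoetherianRing,
      ringKrullDim_eq_zero_of_field]
    simp
  have h1 := Groth.Agent.Helper5.FtDim.height_add_dim_quotient p.ResidueField
    (p.Fiber (MvPolynomial (Fin N) A)) (Q.asIdeal.comap (fibMap A B N p))
  have h2 : ringKrullDim (p.Fiber (MvPolynomial (Fin N) A) ⧸ Ideal.comap (fibMap A B N p) Q.asIdeal) =
      ringKrullDim (p.Fiber B ⧸ Q.asIdeal) :=
    ringKrullDim_quotient_comap (fibMap A B N p).toRingHom (fibMap_surjective A B N hs p) Q.asIdeal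
  rw [hdim, h2, Groth.Agent.Helper5.FtDim.ringKrullDim_quotient_eq_coheight Q] at h1
  rw [← h1]
  push_cast
  rfl

end Poly

end Groth.Agent.Helper5.FibPd
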