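import Mathlib
import Groth.Prelude
import Groth.Agent.Helper5.FibPdE
import Groth.Agent.Helper5.FibDim7
import Groth.Agent.Helper5.FtDim7

/-!
# FibPdG: a Chevalley-type closedness statement inside the fibres

For a closed subset `V(I)` of `Spec B` and `m`, the set of primes `q` having a generization `q'`
in its fibre over `A`, lying in `V(I)` and with `dim` of the closure of `q'` in the fibre at least
`m`, is closed.
-/

set_option autoImplicit false
set_option linter.unusedSectionVars false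
set_option linter.unusedVariables false
set_option linter.style.haveILetI false
universe u
open CategoryTheory TensorProduct IsLocalRing AlgebraicGeometry

namespace Groth.Agent.Helper5.FibPd

section FibMapG

variable (A B B' : Type u) [CommRing A] [CommRing B] [CommRing B'] [Algebra A B] [Algebra A B']

/-- the map of fibre rings induced by an algebra map -/
noncomputable def fibMapG (p : Ideal A) [p.IsPrime] (φ : B →ₐ[A] B') :
    p.Fiber B →ₐ[A] p.Fiber B' :=
  Algebra.TensorProduct.map (AlgHom.id A p.ResidueField) φ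

variable {A B B'}

theorem fibMapG_surjective (p : Ideal A) [p.IsPrime] (φ : B →ₐ[A] B')
    (hφ : Function.Surjective φ) : Function.Surjective (fibMapG A B B' p φ) := by
  unfold fibMapG
  exact Algebra.TensorProduct.map_surjective _ _ Function.surjective_id hφ

theorem fibMapG_comap (p : Ideal A) [p.IsPrime] (φ : B →ₐ[A] B') (Q : Ideal (p.Fiber B')) :
    (Q.comap (fibMapG A B B' p φ)).comap
        (Algebra.TensorProduct.includeRight : B →ₐ[A] p.Fiber B) =
      (Q.comap (Algebra.TensorProduct.includeRight : B' →ₐ[A] p.Fiber B')).comap φ := by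
  ext x
  simp only [Ideal.mem_comap]
  have : fibMapG A B B' p φ (Algebra.TensorProduct.includeRight x) =
      Algebra.TensorProduct.includeRight (φ x) := by
    simp [fibMapG]
  rw [this]

theorem fibMapG_ker (p : Ideal A) [p.IsPrime] (φ : B →ₐ[A] B') (hφ : Function.Surjective φ) :
    RingHom.ker (fibMapG A B B' p φ) =
      (RingHom.ker φ).map (Algebra.TensorProduct.includeRight : B →ₐ[A] p.Fiber B) :=
  Algebra.TensorProduct.lTensor_ker φ hφ

end FibMapG

section Chev

variable (A B : Type u) [CommRing A] [CommRing B] [Algebra A B]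

/-- the contraction of a prime of a fibre ring -/
noncomputable def fibPt (p : PrimeSpectrum A) (Q : PrimeSpectrum (p.asIdeal.Fiber B)) :
    PrimeSpectrum B :=
  ⟨Q.asIdeal.comap (Algebra.TensorProduct.includeRight : B →ₐ[A] p.asIdeal.Fiber B),
    Ideal.comap_isPrime _ _⟩

/-- the set of primes with a generization in the fibre, in `V(I)`, of fibre-coheight at least `m` -/
def chevSet (I : Ideal B) (m : ℕ) : Set (PrimeSpectrum B) :=
  {q | ∃ (p : PrimeSpectrum A) (Q Q' : PrimeSpectrum (p.asIdeal.Fiber B)),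
    fibPt A B p Q = q ∧ Q' ≤ Q ∧ I ≤ (fibPt A B p Q').asIdeal ∧ (m : ℕ∞) ≤ Order.coheight Q'}

variable [Algebra.FiniteType A B]

set_option maxHeartbeats 1600000 in
theorem chevSet_eq (I : Ideal B) (m : ℕ) :
    chevSet A B I m = PrimeSpectrum.comap (Ideal.Quotient.mk I) ''
      {x : PrimeSpectrum (B ⧸ I) | (m : WithBot ℕ∞) ≤
        FlatMor.fibreDimAt (Spec.map (CommRingCat.ofHom (algebraMap A (B ⧸ I)))) x} := by
  haveI : Algebra.FiniteType A (B ⧸ I) :=
    Algebra.FiniteType.of_surjective (Ideal.Quotient.mkₐ A I) (Ideal.Quotient.mkₐ_surjective A I)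
  ext q
  constructor
  · rintro ⟨p, Q, Q', hQ, hle, hI, hm⟩
    haveI := p.2
    haveI := Q.2
    haveI := Q'.2
    set ψ := fibMapG A B (B ⧸ I) p.asIdeal (Ideal.Quotient.mkₐ A I) with hψ
    have hψs : Function.Surjective ψ :=
      fibMapG_surjective p.asIdeal _ (Ideal.Quotient.mkₐ_surjective A I)
    have hker : RingHom.ker ψ = I.map
        (Algebra.TensorProduct.includeRight : B →ₐ[A] p.asIdeal.Fiber B) := by
      rw [hψ, fibMapG_ker p.asIdeal _ (Ideal.Quotient.mkₐ_surjective A I)]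
      congr 1
      ext y
      simp [RingHom.mem_ker, Ideal.Quotient.eq_zero_iff_mem]
    have hk' : RingHom.ker ψ ≤ Q'.asIdeal := by
      rw [hker, Ideal.map_le_iff_le_comap]
      exact hI
    have hk : RingHom.ker ψ ≤ Q.asIdeal := hk'.trans hle
    haveI hX'p : (Q'.asIdeal.map ψ).IsPrime := Ideal.map_isPrime_of_surjective hψs hk'
    haveI hXp : (Q.asIdeal.map ψ).IsPrime := Ideal.map_isPrime_of_surjective hψs hk
    let X' : PrimeSpectrum (p.asIdeal.Fiber (B ⧸ I)) := ⟨Q'.asIdeal.map ψ, hX'p⟩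
    let X : PrimeSpectrum (p.asIdeal.Fiber (B ⧸ I)) := ⟨Q.asIdeal.map ψ, hXp⟩
    have hcX' : X'.asIdeal.comap ψ = Q'.asIdeal := by
      show (Q'.asIdeal.map ψ).comap ψ = Q'.asIdeal
      rw [Ideal.comap_map_of_surjective ψ hψs, ← RingHom.ker_eq_comap_bot]
      exact sup_eq_left.mpr hk'
    have hcX : X.asIdeal.comap ψ = Q.asIdeal := by
      show (Q.asIdeal.map ψ).comap ψ = Q.asIdeal
      rw [Ideal.comap_map_of_surjective ψ hψs, ← RingHom.ker_eq_comap_bot]
      exact sup_eq_left.mpr hk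
    have hXle : X' ≤ X := Ideal.map_mono hle
    refine ⟨fibPt A (B ⧸ I) p X, ?_, ?_⟩
    · -- the dimension
      show (m : WithBot ℕ∞) ≤ _
      rw [fibreDimAt_eq A (B ⧸ I) p X (fibPt A (B ⧸ I) p X) rfl,
        Groth.Agent.Helper5.FtDim.localDim_eq p.asIdeal.ResidueField (p.asIdeal.Fiber (B ⧸ I)) X]
      have h1 := Groth.Agent.Helper5.FtDim.coheight_le_height_add_coheight'
        p.asIdeal.ResidueField (p.asIdeal.Fiber (B ⧸ I)) X X' hXle
      have h2 : Order.coheight X' = Order.coheight Q' := by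
        have h3 := ringKrullDim_quotient_comap ψ.toRingHom hψs X'.asIdeal
        have h4 : ringKrullDim (p.asIdeal.Fiber B ⧸ Q'.asIdeal) =
            ringKrullDim (p.asIdeal.Fiber (B ⧸ I) ⧸ X'.asIdeal) := by
          rw [← h3]
          exact ringKrullDim_eq_of_ringEquiv (Ideal.quotEquivOfEq hcX'.symm)
        rw [Groth.Agent.Helper5.FtDim.ringKrullDim_quotient_eq_coheight Q',
          Groth.Agent.Helper5.FtDim.ringKrullDim_quotient_eq_coheight X'] at h4
        exact_mod_cast h4.symm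
      rw [h2] at h1
      exact_mod_cast hm.trans h1
    · -- the point
      rw [← hQ]
      apply PrimeSpectrum.ext
      show ((X.asIdeal.comap (Algebra.TensorProduct.includeRight :
        (B ⧸ I) →ₐ[A] p.asIdeal.Fiber (B ⧸ I))).comap (Ideal.Quotient.mk I)) = _
      have h5 := fibMapG_comap p.asIdeal (Ideal.Quotient.mkₐ A I) X.asIdeal
      rw [← hψ, hcX] at h5
      exact h5.symm
  · rintro ⟨x, hx, rfl⟩
    obtain ⟨p, Xb, hXb⟩ := exists_fibre_prime' A (B ⧸ I) x
    haveI := p.2
    haveI := Xb.2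
    haveI hNF : IsNoetherianRing (p.asIdeal.Fiber (B ⧸ I)) :=
      Algebra.FiniteType.isNoetherianRing p.asIdeal.ResidueField _
    have hx' : (m : WithBot ℕ∞) ≤ _ := hx
    rw [fibreDimAt_eq A (B ⧸ I) p Xb x hXb,
      Groth.Agent.Helper5.FtDim.localDim_eq p.asIdeal.ResidueField (p.asIdeal.Fiber (B ⧸ I)) Xb]
      at hx'
    obtain ⟨X', hX'le, hX'⟩ := Groth.Agent.Helper5.FtDim.exists_le_with_coheight_ge hNF Xb
    haveI := X'.2
    set ψ := fibMapG A B (B ⧸ I) p.asIdeal (Ideal.Quotient.mkₐ A I) with hψ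
    have hψs : Function.Surjective ψ :=
      fibMapG_surjective p.asIdeal _ (Ideal.Quotient.mkₐ_surjective A I)
    let Q : PrimeSpectrum (p.asIdeal.Fiber B) := ⟨Xb.asIdeal.comap ψ, Ideal.comap_isPrime _ _⟩
    let Q' : PrimeSpectrum (p.asIdeal.Fiber B) := ⟨X'.asIdeal.comap ψ, Ideal.comap_isPrime _ _⟩
    refine ⟨p, Q, Q', ?_, Ideal.comap_mono hX'le, ?_, ?_⟩
    · apply PrimeSpectrum.ext
      show (Xb.asIdeal.comap ψ).comap (Algebra.TensorProduct.includeRight :
        B →ₐ[A] p.asIdeal.Fiber B) = x.asIdeal.comap (Ideal.Quotient.mk I)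
      rw [hψ, fibMapG_comap p.asIdeal (Ideal.Quotient.mkₐ A I) Xb.asIdeal, hXb]
      rfl
    · show I ≤ (X'.asIdeal.comap ψ).comap (Algebra.TensorProduct.includeRight :
        B →ₐ[A] p.asIdeal.Fiber B)
      rw [hψ, fibMapG_comap p.asIdeal (Ideal.Quotient.mkₐ A I) X'.asIdeal]
      intro y hy
      rw [Ideal.mem_comap]
      have : (Ideal.Quotient.mkₐ A I) y = 0 := Ideal.Quotient.eq_zero_iff_mem.mpr hy
      rw [this]
      exact Ideal.zero_mem _
    · have h2 : Order.coheight Q' = Order.coheight X' := by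
        have h3 := ringKrullDim_quotient_comap ψ.toRingHom hψs X'.asIdeal
        have h4 : ringKrullDim (p.asIdeal.Fiber B ⧸ Q'.asIdeal) =
            ringKrullDim (p.asIdeal.Fiber (B ⧸ I) ⧸ X'.asIdeal) := h3
        rw [Groth.Agent.Helper5.FtDim.ringKrullDim_quotient_eq_coheight Q',
          Groth.Agent.Helper5.FtDim.ringKrullDim_quotient_eq_coheight X'] at h4
        exact_mod_cast h4
      rw [h2]
      have h6 : (m : ℕ∞) ≤ Order.height Xb + Order.coheight Xb := by exact_mod_cast hx'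
      exact h6.trans hX'

set_option maxHeartbeats 1600000 in
theorem isClosed_chevSet (I : Ideal B) (m : ℕ) : IsClosed (chevSet A B I m) := by
  haveI : Algebra.FiniteType A (B ⧸ I) :=
    Algebra.FiniteType.of_surjective (Ideal.Quotient.mkₐ A I) (Ideal.Quotient.mkₐ_surjective A I)
  rw [chevSet_eq]
  refine (PrimeSpectrum.isClosedEmbedding_comap_of_surjective _ (Ideal.Quotient.mk I)
    Ideal.Quotient.mk_surjective).isClosedMap _ ?_
  set g := Spec.map (CommRingCat.ofHom (algebraMap A (B ⧸ I))) with hg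
  haveI : LocallyOfFiniteType g := by
    rw [hg, HasRingHomProperty.Spec_iff (P := @LocallyOfFiniteType)]
    exact RingHom.finiteType_algebraMap.2 inferInstance
  have hval : ∀ x : PrimeSpectrum (B ⧸ I), ∃ a : ℕ∞,
      FlatMor.fibreDimAt g x = ((a : ℕ∞) : WithBot ℕ∞) := by
    intro x
    obtain ⟨p, Xb, hXb⟩ := exists_fibre_prime' A (B ⧸ I) x
    haveI := p.2
    refine ⟨Order.height Xb + Order.coheight Xb, ?_⟩
    rw [fibreDimAt_eq A (B ⧸ I) p Xb x hXb,
      Groth.Agent.Helper5.FtDim.localDim_eq p.asIdeal.ResidueField (p.asIdeal.Fiber (B ⧸ I)) Xb]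
  rcases m with _ | m'
  · have : {x : PrimeSpectrum (B ⧸ I) | ((0 : ℕ) : WithBot ℕ∞) ≤ FlatMor.fibreDimAt g x} =
        Set.univ := by
      ext x
      simp only [Set.mem_ofPred_eq, Set.mem_univ, iff_true]
      obtain ⟨a, ha⟩ := hval x
      rw [ha]
      exact_mod_cast bot_le (a := a)
    rw [this]
    exact isClosed_univ
  · have : {x : PrimeSpectrum (B ⧸ I) | ((m' + 1 : ℕ) : WithBot ℕ∞) ≤ FlatMor.fibreDimAt g x} =
        {x : PrimeSpectrum (B ⧸ I) | FlatMor.fibreDimAt g x ≤ ((m' : ℕ) : WithBot ℕ∞)}ᶜ := by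
      ext x
      simp only [Set.mem_ofPred_eq, Set.mem_compl_iff]
      obtain ⟨a, ha⟩ := hval x
      rw [ha]
      have h1 : (((m' + 1 : ℕ) : WithBot ℕ∞) ≤ ((a : ℕ∞) : WithBot ℕ∞)) ↔ ((m' : ℕ∞) + 1 ≤ a) := by
        constructor
        · intro h; exact_mod_cast h
        · intro h; exact_mod_cast h
      have h2 : (((a : ℕ∞) : WithBot ℕ∞) ≤ ((m' : ℕ) : WithBot ℕ∞)) ↔ (a ≤ (m' : ℕ∞)) := by
        constructor
        · intro h; exact_mod_cast h
        · intro h; exact_mod_cast h
      rw [h1, h2, ENat.add_one_le_iff (ENat.natCast_ne_top m'), not_le]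
    rw [this]
    exact isClosed_compl_iff.mpr (Groth.Agent.Helper5.FibDim.isOpen_fibreDimAt_le g _)

end Chev

end Groth.Agent.Helper5.FibPd
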