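import Mathlib
import Groth.Prelude
import Groth.Agent.Helper5.FibModC
import Groth.Agent.Helper5.FibModF
import Groth.Agent.Helper5.FibModG
import Groth.Agent.Helper5.FibModH
import Groth.Agent.Helper5.FibModE
import Groth.Agent.Helper5.FibPdG
import Groth.Agent.Helper5.RSD1

/-!
# FibModI: the fibre local rings and modules, via the fibre rings
-/

set_option autoImplicit false
set_option linter.unusedSectionVars false
set_option linter.unusedVariables false
set_option linter.style.haveILetI false
universe u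
open CategoryTheory TensorProduct IsLocalRing

namespace Groth.Agent.Helper5.FibMod

open Groth.Agent.Helper1 Groth.Agent.Helper2 Groth.Agent.Helper5.FibPd

attribute [local instance] Algebra.TensorProduct.rightAlgebra

section Basic

variable (A B : Type u) [CommRing A] [CommRing B] [Algebra A B]

theorem fibPt_base (p : PrimeSpectrum A) (Q : PrimeSpectrum (p.asIdeal.Fiber B)) :
    PrimeSpectrum.comap (algebraMap A B) (fibPt A B p Q) = p := by
  haveI := p.2
  haveI := Q.2
  apply PrimeSpectrum.ext
  exact comap_includeRight_comap A B p.asIdeal Q.asIdeal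

theorem fibPt_injective (p : PrimeSpectrum A) : Function.Injective (fibPt A B p) := by
  intro Q₁ Q₂ h
  apply (PrimeSpectrum.preimageEquivFiber A B p).symm.injective
  apply Subtype.ext
  exact h

theorem fibPt_eq_iff (p p' : PrimeSpectrum A) (Q : PrimeSpectrum (p.asIdeal.Fiber B))
    (Q' : PrimeSpectrum (p'.asIdeal.Fiber B)) (h : fibPt A B p' Q' = fibPt A B p Q) :
    ∃ hp : p' = p, hp ▸ Q' = Q := by
  have hp : p' = p := by
    rw [← fibPt_base A B p' Q', h, fibPt_base]
  subst hp
  exact ⟨rfl, fibPt_injective A B p' h⟩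

variable (q : Ideal B) [q.IsPrime] (M : Type u) [AddCommGroup M] [Module B M]

instance noeth_fibLocRing [IsNoetherianRing B] : IsNoetherianRing (EGA4.FibLocRing A B q) := by
  haveI : IsNoetherianRing (Localization.AtPrime q) :=
    IsLocalization.isNoetherianRing q.primeCompl _ inferInstance
  exact Ideal.Quotient.isNoetherianRing _

instance finite_fibLocMod [Module.Finite B M] :
    Module.Finite (EGA4.FibLocRing A B q) (EGA4.FibLocMod A B q M) :=
  Module.Finite.equiv (fibTensorEquiv A B q M)

theorem subsingleton_fibLocMod [Subsingleton (LocalizedModule q.primeCompl M)] :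
    Subsingleton (EGA4.FibLocMod A B q M) := by
  infer_instance

end Basic

section Form

variable (Pi : LocModIso.{u})

variable (A B : Type u) [CommRing A] [CommRing B] [Algebra A B]
  (M : Type u) [AddCommGroup M] [Module B M]

/-- the pair at a point of a fibre, computed in the fibre ring -/
theorem fibre_form_iff (p : PrimeSpectrum A) (Qb : PrimeSpectrum (p.asIdeal.Fiber B)) :
    Pi.P (EGA4.FibLocRing A B (fibPt A B p Qb).asIdeal)
        (EGA4.FibLocMod A B (fibPt A B p Qb).asIdeal M) ↔
      Pi.P (Localization.AtPrime Qb.asIdeal)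
        (LocalizedModule Qb.asIdeal.primeCompl ((p.asIdeal.Fiber B) ⊗[B] M)) := by
  haveI := p.2
  haveI := Qb.2
  rw [← fibLocMod_iff Pi A B (fibPt A B p Qb).asIdeal M,
    locTensor_iff Pi B (p.asIdeal.Fiber B) Qb.asIdeal M]
  exact (Pi.tensor_algEquiv B _ _
    (fibLocAlgEquiv A B p.asIdeal Qb.asIdeal (fibPt A B p Qb).asIdeal rfl) M).symm

/-- the property "support dimension equal to `v`" -/
noncomputable def sdEq (v : WithBot ℕ∞) : LocModIso.{u} where
  P R _ _ N _ _ := IsNoetherianRing R ∧ Module.Finite R N ∧ Module.supportDim R N = v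
  iso R R' _ _ _ _ N N' _ _ _ _ e eN h hP := by
    obtain ⟨hN, hF, hle⟩ := hP
    haveI := hN
    haveI := hF
    obtain ⟨h1, h2, h3, h4⟩ := pair_iso R R' N N' e eN h
    exact ⟨h1, h2, by rw [h3]; exact hle⟩

end Form

section Supp

variable (A B : Type u) [CommRing A] [CommRing B] [Algebra A B]
  (M : Type u) [AddCommGroup M] [Module B M] [Module.Finite B M]

/-- the support of the restriction of `M` to a fibre -/
theorem mem_fibre_support_iff (p : PrimeSpectrum A) (Q' : PrimeSpectrum (p.asIdeal.Fiber B)) :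
    Q' ∈ Module.support (p.asIdeal.Fiber B) ((p.asIdeal.Fiber B) ⊗[B] M) ↔
      Module.annihilator B M ≤ (fibPt A B p Q').asIdeal := by
  rw [Groth.Agent.Helper3.SuppBC.mem_support_baseChange_iff, Module.mem_support_iff_of_finite]
  rfl

theorem mem_fibre_support_iff' (p : PrimeSpectrum A) (Q' : PrimeSpectrum (p.asIdeal.Fiber B)) :
    Q' ∈ Module.support (p.asIdeal.Fiber B) ((p.asIdeal.Fiber B) ⊗[B] M) ↔
      fibPt A B p Q' ∈ Module.support B M := by
  rw [Groth.Agent.Helper3.SuppBC.mem_support_baseChange_iff]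
  rfl

variable [IsNoetherianRing A] [Algebra.FiniteType A B]

set_option maxHeartbeats 1600000 in
/-- the support dimension of the pair at a point of a fibre -/
theorem supportDim_fibLocMod (p : PrimeSpectrum A) (Qb : PrimeSpectrum (p.asIdeal.Fiber B))
    (hmem : Qb ∈ Module.support (p.asIdeal.Fiber B) ((p.asIdeal.Fiber B) ⊗[B] M)) :
    Module.supportDim (EGA4.FibLocRing A B (fibPt A B p Qb).asIdeal)
        (EGA4.FibLocMod A B (fibPt A B p Qb).asIdeal M) =
      ((Order.height (⟨Qb, hmem⟩ :
        Module.support (p.asIdeal.Fiber B) ((p.asIdeal.Fiber B) ⊗[B] M)) : ℕ∞) : WithBot ℕ∞) := by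
  haveI := p.2
  haveI := Qb.2
  haveI hNF : IsNoetherianRing (p.asIdeal.Fiber B) :=
    Algebra.FiniteType.isNoetherianRing p.asIdeal.ResidueField _
  have h1 := Groth.Agent.Helper5.RSD.supportDim_localized_eq_height
    (A := p.asIdeal.Fiber B) ((p.asIdeal.Fiber B) ⊗[B] M) Qb.asIdeal hmem
  have h2 := (fibre_form_iff (sdEq _) A B M p Qb).mpr ⟨
    IsLocalization.isNoetherianRing Qb.asIdeal.primeCompl _ inferInstance,
    Module.Finite.of_isLocalizedModule Qb.asIdeal.primeCompl
      (LocalizedModule.mkLinearMap Qb.asIdeal.primeCompl ((p.asIdeal.Fiber B) ⊗[B] M)), h1⟩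
  exact h2.2.2

set_option maxHeartbeats 1600000 in
/-- membership in the Chevalley set of the support, via the local dimension of the support of
the fibre -/
theorem mem_chevSet_iff (p : PrimeSpectrum A) (Qb : PrimeSpectrum (p.asIdeal.Fiber B))
    (hmem : Qb ∈ Module.support (p.asIdeal.Fiber B) ((p.asIdeal.Fiber B) ⊗[B] M)) (m : ℕ) :
    fibPt A B p Qb ∈ chevSet A B (Module.annihilator B M) m ↔
      (m : ℕ∞) ≤ Order.height (⟨Qb, hmem⟩ :
        Module.support (p.asIdeal.Fiber B) ((p.asIdeal.Fiber B) ⊗[B] M)) + Order.coheight Qb := by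
  haveI := p.2
  have hZ : ∀ x ∈ Module.support (p.asIdeal.Fiber B) ((p.asIdeal.Fiber B) ⊗[B] M),
      ∀ y : PrimeSpectrum (p.asIdeal.Fiber B), x ≤ y →
        y ∈ Module.support (p.asIdeal.Fiber B) ((p.asIdeal.Fiber B) ⊗[B] M) := by
    intro x hx y hxy
    exact Module.mem_support_mono hxy hx
  have hchar := coheight_char (p.asIdeal.Fiber B)
    (Module.support (p.asIdeal.Fiber B) ((p.asIdeal.Fiber B) ⊗[B] M)) hZ p.asIdeal.ResidueField
    ⟨Qb, hmem⟩ m
  rw [hchar]
  constructor
  · rintro ⟨p', Q, Q', hQ, hle, hI, hm⟩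
    obtain ⟨hp, hQQ⟩ := fibPt_eq_iff A B p p' Qb Q hQ
    subst hp
    subst hQQ
    exact ⟨Q', (mem_fibre_support_iff A B M p' Q').mpr hI, hle, hm⟩
  · rintro ⟨Q', hQ'Z, hle, hm⟩
    exact ⟨p, Qb, Q', rfl, hle, (mem_fibre_support_iff A B M p Q').mp hQ'Z, hm⟩

end Supp

section Core

variable (A B : Type u) [CommRing A] [CommRing B] [IsNoetherianRing A] [Algebra A B] (N : ℕ)
  [Algebra (MvPolynomial (Fin N) A) B] [IsScalarTower A (MvPolynomial (Fin N) A) B]
  (M : Type u) [AddCommGroup M] [Module B M] [Module A M] [IsScalarTower A B M]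
  [Module (MvPolynomial (Fin N) A) M] [IsScalarTower (MvPolynomial (Fin N) A) B M]
  [Module.Finite B M] [Module.Flat A M]

set_option maxHeartbeats 1600000 in
/-- the numerical data at a point of the support -/
theorem core_mod (hs : Function.Surjective (algebraMap (MvPolynomial (Fin N) A) B))
    (p : PrimeSpectrum A) (Qb : PrimeSpectrum (p.asIdeal.Fiber B))
    (hsupp : fibPt A B p Qb ∈ Module.support B M) :
    ∃ e δ c : ℕ,
      (∀ j : ℕ, PrimeSpectrum.comap (algebraMap (MvPolynomial (Fin N) A) B) (fibPt A B p Qb) ∈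
        RegBound.pdLocus (ModuleCat.of (MvPolynomial (Fin N) A) M) j ↔ e ≤ j) ∧
      LocCoh.depth (EGA4.FibLocRing A B (fibPt A B p Qb).asIdeal)
        (EGA4.FibLocMod A B (fibPt A B p Qb).asIdeal M) = δ ∧
      Order.coheight Qb = c ∧ N = e + δ + c := by
  haveI := p.2
  haveI := Qb.2
  set q := fibPt A B p Qb with hqdef
  haveI := q.2
  have hq : Qb.asIdeal.comap (Algebra.TensorProduct.includeRight : B →ₐ[A] p.asIdeal.Fiber B) =
      q.asIdeal := rfl
  haveI hft : Algebra.FiniteType A B :=
    Algebra.FiniteType.of_surjective (IsScalarTower.toAlgHom A (MvPolynomial (Fin N) A) B) hs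
  haveI hNB : IsNoetherianRing B := Algebra.FiniteType.isNoetherianRing A B
  haveI : Nontrivial (LocalizedModule q.asIdeal.primeCompl M) :=
    Module.mem_support_iff.mp hsupp
  -- the polynomial ring
  set Qp : Ideal (p.asIdeal.Fiber (MvPolynomial (Fin N) A)) :=
    Qb.asIdeal.comap (fibMap A B N p.asIdeal) with hQp
  haveI : Qp.IsPrime := Ideal.comap_isPrime _ _
  have hQ : Qp.comap (Algebra.TensorProduct.includeRight :
        MvPolynomial (Fin N) A →ₐ[A] p.asIdeal.Fiber (MvPolynomial (Fin N) A)) =
      q.asIdeal.comap (algebraMap (MvPolynomial (Fin N) A) B) := by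
    rw [hQp, fibMap_comap, hq]
  obtain ⟨e2⟩ := fibLoc_equiv A (MvPolynomial (Fin N) A) p.asIdeal Qp
    (q.asIdeal.comap (algebraMap (MvPolynomial (Fin N) A) B)) hQ
  let eP : p.asIdeal.Fiber (MvPolynomial (Fin N) A) ≃ₐ[p.asIdeal.ResidueField]
      MvPolynomial (Fin N) p.asIdeal.ResidueField :=
    MvPolynomial.algebraTensorAlgEquiv A p.asIdeal.ResidueField
  haveI : IsRegularRing (p.asIdeal.Fiber (MvPolynomial (Fin N) A)) :=
    IsRegularRing.of_ringEquiv eP.symm.toRingEquiv
  have hreg : IsRegularLocalRing (EGA4.FibLocRing A (MvPolynomial (Fin N) A)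
      (q.asIdeal.comap (algebraMap (MvPolynomial (Fin N) A) B))) :=
    IsRegularLocalRing.of_ringEquiv (R := Localization.AtPrime Qp) e2
  have hdimP : ringKrullDim (EGA4.FibLocRing A (MvPolynomial (Fin N) A)
      (q.asIdeal.comap (algebraMap (MvPolynomial (Fin N) A) B))) = (Qp.height : WithBot ℕ∞) := by
    rw [← ringKrullDim_eq_of_ringEquiv e2]
    exact IsLocalization.AtPrime.ringKrullDim_eq_height Qp (Localization.AtPrime Qp)
  obtain ⟨e, δ, hpd, hdepth, hdim⟩ :=
    pointwise_mod A (MvPolynomial (Fin N) A) B M hs q.asIdeal hreg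
  have hN := height_add_coheight A B N hs p.asIdeal Qb
  rw [← hQp] at hN
  rw [hdimP] at hdim
  have hQph : Qp.height = ((e + δ : ℕ) : ℕ∞) := by exact_mod_cast hdim
  have hN' : Qp.height + Order.coheight Qb = (N : ℕ∞) := by exact_mod_cast hN
  have hcne : Order.coheight Qb ≠ ⊤ := by
    intro htop
    rw [htop, add_top] at hN'
    exact ENat.top_ne_natCast N hN'
  obtain ⟨c, hc⟩ := ENat.ne_top_iff_exists.mp hcne
  refine ⟨e, δ, c, hpd, hdepth, hc.symm, ?_⟩
  rw [hQph, ← hc] at hN'
  have : ((e + δ + c : ℕ) : ℕ∞) = (N : ℕ∞) := by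
    push_cast
    exact hN'
  exact_mod_cast this.symm

end Core

section Open

set_option maxHeartbeats 3200000 in
/-- **openness of the fibrewise codepth loci of a module**, ring version over a Noetherian base -/
theorem ringOpen_codLEM (n : ℕ) : RingOpenMod (codLEM.{u} n) := by
  intro A B _ _ _ _ _ M _ _ _ _ _ _
  obtain ⟨N, φ, hφ⟩ := (Algebra.FiniteType.iff_quotient_mvPolynomial'' (R := A) (S := B)).mp
    inferInstance
  letI : Algebra (MvPolynomial (Fin N) A) B := φ.toRingHom.toAlgebra
  haveI : IsScalarTower A (MvPolynomial (Fin N) A) B :=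
    IsScalarTower.of_algebraMap_eq (fun a => (φ.commutes a).symm)
  have hs : Function.Surjective (algebraMap (MvPolynomial (Fin N) A) B) := hφ
  letI : Module (MvPolynomial (Fin N) A) M := Module.compHom M (algebraMap (MvPolynomial (Fin N) A) B)
  haveI : IsScalarTower (MvPolynomial (Fin N) A) B M :=
    IsScalarTower.of_algebraMap_smul fun r m => rfl
  haveI hNB : IsNoetherianRing B := Algebra.FiniteType.isNoetherianRing A B
  haveI : Module.Finite (MvPolynomial (Fin N) A) B :=
    Module.Finite.of_surjective (Algebra.linearMap _ _) hs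
  haveI : Module.Finite (MvPolynomial (Fin N) A) M := Module.Finite.trans B M
  have hEq : {q : PrimeSpectrum B | (codLEM.{u} n).P (EGA4.FibLocRing A B q.asIdeal)
      (EGA4.FibLocMod A B q.asIdeal M)} =
      (Module.support B M)ᶜ ∪ ⋃ j ∈ Finset.range (N + n + 1),
        (PrimeSpectrum.comap (algebraMap (MvPolynomial (Fin N) A) B) ⁻¹'
          RegBound.pdLocus (ModuleCat.of (MvPolynomial (Fin N) A) M) j) ∩
        (chevSet A B (Module.annihilator B M) (N + n - j + 1))ᶜ := by
    ext q
    haveI := q.2
    simp only [Set.mem_ofPred_eq, Set.mem_union, Set.mem_compl_iff, Set.mem_iUnion,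
      Finset.mem_range, Set.mem_inter_iff, Set.mem_preimage, exists_prop]
    show CodLEM n _ _ ↔ _
    unfold CodLEM
    by_cases hsupp : q ∈ Module.support B M
    · obtain ⟨p, Qb, hq⟩ := exists_fibre_prime' A B q
      obtain rfl : fibPt A B p Qb = q := PrimeSpectrum.ext hq
      haveI := p.2
      have hmem := (mem_fibre_support_iff' A B M p Qb).mpr hsupp
      obtain ⟨e, δ, c, hpd, hdepth, hc, hN⟩ := core_mod A B N M hs p Qb hsupp
      obtain ⟨hM, hhM⟩ := ENat.ne_top_iff_exists.1 (height_subtype_ne_top (p.asIdeal.Fiber B)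
        (Module.support (p.asIdeal.Fiber B) ((p.asIdeal.Fiber B) ⊗[B] M)) p.asIdeal.ResidueField
        ⟨Qb, hmem⟩)
      have hsd := supportDim_fibLocMod A B M p Qb hmem
      rw [← hhM] at hsd
      have hchev := fun m => mem_chevSet_iff A B M p Qb hmem m
      rw [hsd, hdepth]
      have h1 : ((hM : ℕ∞) : WithBot ℕ∞) ≤ (((δ : ℕ) : ℕ∞) : WithBot ℕ∞) + (n : WithBot ℕ∞) ↔
          hM ≤ δ + n := by
        constructor
        · intro hle; exact_mod_cast hle
        · intro hle; exact_mod_cast hle
      rw [h1]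
      have h2 : ∀ m : ℕ, fibPt A B p Qb ∈ chevSet A B (Module.annihilator B M) m ↔
          m ≤ hM + c := by
        intro m
        rw [hchev m, ← hhM, hc]
        constructor
        · intro hle; exact_mod_cast hle
        · intro hle; exact_mod_cast hle
      constructor
      · rintro ⟨-, -, hle⟩
        right
        refine ⟨e, by omega, (hpd e).2 le_rfl, ?_⟩
        rw [h2]
        omega
      · rintro (hns | ⟨j, hj, hmemj, hnc⟩)
        · exact absurd hsupp hns
        · refine ⟨inferInstance, inferInstance, ?_⟩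
          have h3 := (hpd j).1 hmemj
          rw [h2] at hnc
          omega
    · have hsub : Subsingleton (LocalizedModule q.asIdeal.primeCompl M) := by
        by_contra hns
        rw [not_subsingleton_iff_nontrivial] at hns
        exact hsupp (Module.mem_support_iff.mpr hns)
      haveI := subsingleton_fibLocMod A B q.asIdeal M
      constructor
      · intro _
        exact Or.inl hsupp
      · intro _
        refine ⟨inferInstance, inferInstance, ?_⟩
        rw [supportDim_eq_bot_of_subsingleton']
        exact bot_le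
  rw [hEq]
  refine IsOpen.union ?_ ?_
  · exact (Module.isClosed_support (R := B) (M := M)).isOpen_compl
  · refine isOpen_biUnion fun j _ => IsOpen.inter ?_ ?_
    · exact (RegBound.isOpen_pdLocus j (ModuleCat.of (MvPolynomial (Fin N) A) M)).preimage
        (PrimeSpectrum.continuous_comap _)
    · exact (isClosed_chevSet A B _ _).isOpen_compl

end Open

end Groth.Agent.Helper5.FibMod
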