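import Mathlib
import Groth.Prelude
import Groth.Agent.Helper5.FibPdB
import Groth.Agent.Helper2.FlatLoc
import Groth.Agent.Helper1.RegBound
import Groth.Agent.Helper1.Syzygy

/-!
# FibPdC: the pointwise formula for a quotient of a flat algebra

`A → P ↠ B` with `P`, `B` flat over the Noetherian ring `A`, and `q` a prime of `B` with
contraction `Q` to `P`: if the fibre local ring of `P` at `Q` is regular then
`pd_{P_Q} B_Q + depth (B_q / p B_q) = dim (P_Q / p P_Q)`.
-/

set_option autoImplicit false
set_option linter.unusedSectionVars false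
set_option linter.unusedVariables false
set_option linter.style.haveILetI false
universe u
open CategoryTheory TensorProduct IsLocalRing

namespace Groth.Agent.Helper5.FibPd

open Groth.Agent.Helper1 Groth.Agent.Helper2

section Global

variable (A P B : Type u) [CommRing A] [CommRing P] [CommRing B]
  [IsNoetherianRing A] [IsNoetherianRing P] [IsNoetherianRing B]
  [Algebra A P] [Algebra A B] [Algebra P B] [IsScalarTower A P B]
  [Module.Flat A P] [Module.Flat A B]

set_option maxHeartbeats 1600000 in
/-- **the pointwise formula** -/
theorem pointwise (hs : Function.Surjective (algebraMap P B)) (q : Ideal B) [q.IsPrime]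
    (hreg : IsRegularLocalRing (EGA4.FibLocRing A P (q.comap (algebraMap P B)))) :
    ∃ e δ : ℕ,
      (∀ j : ℕ, (⟨q.comap (algebraMap P B), inferInstance⟩ : PrimeSpectrum P) ∈
        RegBound.pdLocus (ModuleCat.of P B) j ↔ e ≤ j) ∧
      LocCoh.depth (EGA4.FibLocRing A B q) (EGA4.FibLocRing A B q) = δ ∧
      ringKrullDim (EGA4.FibLocRing A P (q.comap (algebraMap P B))) =
        ((e + δ : ℕ) : WithBot ℕ∞) := by
  set Q : Ideal P := q.comap (algebraMap P B) with hQ
  set p : Ideal A := Q.comap (algebraMap A P) with hp
  have hpq : q.comap (algebraMap A B) = p := by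
    rw [hp, hQ, Ideal.comap_comap, ← IsScalarTower.algebraMap_eq]
  haveI l1 : Q.LiesOver p := ⟨rfl⟩
  haveI l2 : q.LiesOver Q := ⟨rfl⟩
  haveI l3 : q.LiesOver p := ⟨hpq.symm⟩
  letI a1 := Localization.AtPrime.algebraOfLiesOver p Q
  letI a2 := Localization.AtPrime.algebraOfLiesOver Q q
  letI a3 := Localization.AtPrime.algebraOfLiesOver p q
  haveI : IsLocalHom (algebraMap (Localization.AtPrime p) (Localization.AtPrime Q)) :=
    Localization.isLocalHom_localRingHom _ _ _ Ideal.LiesOver.over
  haveI : IsLocalHom (algebraMap (Localization.AtPrime Q) (Localization.AtPrime q)) :=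
    Localization.isLocalHom_localRingHom _ _ _ Ideal.LiesOver.over
  have hsurj : Function.Surjective (algebraMap (Localization.AtPrime Q) (Localization.AtPrime q)) :=
    RingHom.surjective_localRingHom_of_surjective (algebraMap P B) hs q
  haveI : Module.Finite (Localization.AtPrime Q) (Localization.AtPrime q) :=
    Module.Finite.of_surjective (Algebra.linearMap _ _) hsurj
  -- the closed fibre ring of `P_Q` over `A_p`
  have hI : EGA4.mB (Localization.AtPrime p) (Localization.AtPrime Q) =
      p.map (algebraMap A (Localization.AtPrime Q)) := FlatLoc.map_maximalIdeal A P Q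
  let eR : (Localization.AtPrime Q ⧸ EGA4.mB (Localization.AtPrime p) (Localization.AtPrime Q)) ≃+*
      EGA4.FibLocRing A P Q := Ideal.quotEquivOfEq hI
  have hreg' : IsRegularLocalRing
      (Localization.AtPrime Q ⧸ EGA4.mB (Localization.AtPrime p) (Localization.AtPrime Q)) :=
    IsRegularLocalRing.of_ringEquiv eR.symm
  obtain ⟨e, δ, hpd, hdepth, hdim⟩ := local_formula (A := Localization.AtPrime p)
    (B := Localization.AtPrime Q) hreg' (Localization.AtPrime q)
  refine ⟨e, δ, fun j => ?_, ?_, ?_⟩
  · -- projective dimension
    rw [← hpd j]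
    show HasProjectiveDimensionLE ((ModuleCat.of P B).localizedModule Q.primeCompl) j ↔ _
    rw [Syzygy.hasPdLE_loc_iff, projectiveDimension_le_iff]
    haveI hloc : IsLocalization (Algebra.algebraMapSubmonoid B Q.primeCompl)
        (Localization.AtPrime q) := by
      rw [Ideal.algebraMapSubmonoid_primeCompl_of_liesOver_surjective q Q hs]
      infer_instance
    let f : B →ₗ[P] Localization.AtPrime q :=
      (IsScalarTower.toAlgHom P B (Localization.AtPrime q)).toLinearMap
    haveI : IsLocalizedModule Q.primeCompl f := isLocalizedModule_iff_isLocalization.mpr hloc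
    let e0 : LocalizedModule Q.primeCompl B ≃ₗ[P] Localization.AtPrime q :=
      IsLocalizedModule.iso Q.primeCompl f
    let e1 : LocalizedModule Q.primeCompl B ≃ₗ[Localization.AtPrime Q] Localization.AtPrime q :=
      LinearEquiv.extendScalarsOfIsLocalization Q.primeCompl (Localization.AtPrime Q) e0
    exact ⟨fun h => hasProjectiveDimensionLT_of_iso e1.toModuleIso (j + 1),
      fun h => hasProjectiveDimensionLT_of_iso e1.toModuleIso.symm (j + 1)⟩
  · -- depth
    rw [← hdepth]
    set I := EGA4.mB (Localization.AtPrime p) (Localization.AtPrime Q) with hIdef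
    haveI : Module.Finite (Localization.AtPrime Q) (Localization.AtPrime Q ⧸ I) :=
      Module.Finite.of_surjective (Algebra.linearMap _ _) Ideal.Quotient.mk_surjective
    haveI : Module.Finite (Localization.AtPrime Q)
        ((Localization.AtPrime Q ⧸ I) ⊗[Localization.AtPrime Q] Localization.AtPrime q) :=
      Module.Finite.trans (Localization.AtPrime Q ⧸ I) _
    haveI : IsLocalHom (algebraMap (Localization.AtPrime Q) (Localization.AtPrime Q ⧸ I)) :=
      IsLocalHom.of_surjective _ Ideal.Quotient.mk_surjective
    have h1 := RegCM.depth_eq_of_isLocalHom (Localization.AtPrime Q) (Localization.AtPrime Q ⧸ I)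
      ((Localization.AtPrime Q ⧸ I) ⊗[Localization.AtPrime Q] Localization.AtPrime q)
    rw [← h1]
    -- the fibre ring of `B_q`
    have hJ : (I • (⊤ : Submodule (Localization.AtPrime Q) (Localization.AtPrime q))) =
        ((q.comap (algebraMap A B)).map (algebraMap A (Localization.AtPrime q))).restrictScalars
          (Localization.AtPrime Q) := by
      rw [Ideal.smul_top_eq_map, hI, Ideal.map_map, ← IsScalarTower.algebraMap_eq, hpq]
    let e2 : ((Localization.AtPrime Q ⧸ I) ⊗[Localization.AtPrime Q] Localization.AtPrime q)
        ≃ₗ[Localization.AtPrime Q] EGA4.FibLocRing A B q :=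
      (TensorProduct.quotTensorEquivQuotSMul (Localization.AtPrime q) I).trans
        ((Submodule.quotEquivOfEq _ _ hJ).trans
          (Submodule.Quotient.restrictScalarsEquiv (Localization.AtPrime Q) _))
    have h2 : LocCoh.depth (Localization.AtPrime Q)
        ((Localization.AtPrime Q ⧸ I) ⊗[Localization.AtPrime Q] Localization.AtPrime q) =
        LocCoh.depth (Localization.AtPrime Q) (EGA4.FibLocRing A B q) :=
      DepthCM.idealDepth_congr (maximalIdeal (Localization.AtPrime Q)) e2
    rw [h2]
    have hsF : Function.Surjective (algebraMap (Localization.AtPrime Q) (EGA4.FibLocRing A B q)) := by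
      rw [IsScalarTower.algebraMap_eq (Localization.AtPrime Q) (Localization.AtPrime q)
        (EGA4.FibLocRing A B q)]
      exact Ideal.Quotient.mk_surjective.comp hsurj
    haveI : Module.Finite (Localization.AtPrime Q) (EGA4.FibLocRing A B q) :=
      Module.Finite.of_surjective (Algebra.linearMap _ _) hsF
    haveI : IsLocalHom (algebraMap (Localization.AtPrime Q) (EGA4.FibLocRing A B q)) :=
      IsLocalHom.of_surjective _ hsF
    exact (RegCM.depth_eq_of_isLocalHom (Localization.AtPrime Q) (EGA4.FibLocRing A B q)
      (EGA4.FibLocRing A B q)).symm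
  · rw [← hdim]
    exact (ringKrullDim_eq_of_ringEquiv eR).symm

end Global

end Groth.Agent.Helper5.FibPd
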