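import Mathlib
import Groth.Prelude
import Groth.Agent.Helper5.FibPdC
import Groth.Agent.Helper5.FibPdE
import Groth.Agent.Helper5.FibDim7

/-!
# FibPdF: openness of the fibrewise codepth loci (ring version, Noetherian base)
-/

set_option autoImplicit false
set_option linter.unusedSectionVars false
set_option linter.unusedVariables false
set_option linter.style.haveILetI false
universe u
open CategoryTheory TensorProduct IsLocalRing AlgebraicGeometry

namespace Groth.Agent.Helper5.FibPd

open Groth.Agent.Helper1 Groth.Agent.Helper2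

section Core

variable (A B : Type u) [CommRing A] [CommRing B] [IsNoetherianRing A] [Algebra A B]
  [Module.Flat A B] (N : ℕ)
  [Algebra (MvPolynomial (Fin N) A) B] [IsScalarTower A (MvPolynomial (Fin N) A) B]

set_option maxHeartbeats 1600000 in
/-- the numerical data at a prime -/
theorem core (hs : Function.Surjective (algebraMap (MvPolynomial (Fin N) A) B))
    (p : PrimeSpectrum A) (Qb : PrimeSpectrum (p.asIdeal.Fiber B)) (q : PrimeSpectrum B)
    (hq : Qb.asIdeal.comap (Algebra.TensorProduct.includeRight : B →ₐ[A] p.asIdeal.Fiber B) =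
      q.asIdeal) :
    ∃ e δ h c : ℕ,
      (∀ j : ℕ, PrimeSpectrum.comap (algebraMap (MvPolynomial (Fin N) A) B) q ∈
        RegBound.pdLocus (ModuleCat.of (MvPolynomial (Fin N) A) B) j ↔ e ≤ j) ∧
      LocCoh.depth (EGA4.FibLocRing A B q.asIdeal) (EGA4.FibLocRing A B q.asIdeal) = δ ∧
      ringKrullDim (EGA4.FibLocRing A B q.asIdeal) = (h : WithBot ℕ∞) ∧
      Order.height Qb = h ∧ Order.coheight Qb = c ∧
      FlatMor.fibreDimAt (Spec.map (CommRingCat.ofHom (algebraMap A B))) q =
        ((h + c : ℕ) : WithBot ℕ∞) ∧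
      N = e + δ + c ∧ h ≤ e + δ := by
  haveI := p.2
  haveI := q.2
  haveI := Qb.2
  haveI hft : Algebra.FiniteType A B :=
    Algebra.FiniteType.of_surjective (IsScalarTower.toAlgHom A (MvPolynomial (Fin N) A) B) hs
  haveI hNB : IsNoetherianRing B := Algebra.FiniteType.isNoetherianRing A B
  haveI hNF : IsNoetherianRing (p.asIdeal.Fiber B) :=
    Algebra.FiniteType.isNoetherianRing p.asIdeal.ResidueField _
  -- the fibre local ring of `B`
  obtain ⟨e1⟩ := fibLoc_equiv A B p.asIdeal Qb.asIdeal q.asIdeal hq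
  have hdimB : ringKrullDim (EGA4.FibLocRing A B q.asIdeal) = (Qb.asIdeal.height : WithBot ℕ∞) := by
    rw [← ringKrullDim_eq_of_ringEquiv e1]
    exact IsLocalization.AtPrime.ringKrullDim_eq_height Qb.asIdeal (Localization.AtPrime Qb.asIdeal)
  have hloc := Groth.Agent.Helper5.FtDim.localDim_eq p.asIdeal.ResidueField (p.asIdeal.Fiber B) Qb
  have hfd := fibreDimAt_eq A B p Qb q hq
  -- the polynomial ring
  set Qp : Ideal (p.asIdeal.Fiber (MvPolynomial (Fin N) A)) :=
    Qb.asIdeal.comap (fibMap A B N p.asIdeal) with hQp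
  haveI : Qp.IsPrime := Ideal.comap_isPrime _ _
  have hQ : Qp.comap (Algebra.TensorProduct.includeRight :
        MvPolynomial (Fin N) A →ₐ[A] p.asIdeal.Fiber (MvPolynomial (Fin N) A)) =
      q.asIdeal.comap (algebraMap (MvPolynomial (Fin N) A) B) := by
    rw [hQp, fibMap_comap, hq]
  obtain ⟨e2⟩ := fibLoc_equiv A (MvPolynomial (Fin N) A) p.asIdeal Qp
    (q.asIdeal.comap (algebraMap (MvPolynomial (Fin N) A) B)) hQ
  let eP : p.asIdeal.Fiber (MvPolynomial (Fin N) A) ≃ₐ[p.asIdeal.ResidueField]
      MvPolynomial (Fin N) p.asIdeal.ResidueField :=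
    MvPolynomial.algebraTensorAlgEquiv A p.asIdeal.ResidueField
  haveI : IsRegularRing (p.asIdeal.Fiber (MvPolynomial (Fin N) A)) :=
    IsRegularRing.of_ringEquiv eP.symm.toRingEquiv
  have hreg : IsRegularLocalRing (EGA4.FibLocRing A (MvPolynomial (Fin N) A)
      (q.asIdeal.comap (algebraMap (MvPolynomial (Fin N) A) B))) :=
    IsRegularLocalRing.of_ringEquiv (R := Localization.AtPrime Qp) e2
  have hdimP : ringKrullDim (EGA4.FibLocRing A (MvPolynomial (Fin N) A)
      (q.asIdeal.comap (algebraMap (MvPolynomial (Fin N) A) B))) = (Qp.height : WithBot ℕ∞) := by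
    rw [← ringKrullDim_eq_of_ringEquiv e2]
    exact IsLocalization.AtPrime.ringKrullDim_eq_height Qp (Localization.AtPrime Qp)
  obtain ⟨e, δ, hpd, hdepth, hdim⟩ := pointwise A (MvPolynomial (Fin N) A) B hs q.asIdeal hreg
  have hN := height_add_coheight A B N hs p.asIdeal Qb
  rw [← hQp] at hN
  rw [hdimP] at hdim
  have hQph : Qp.height = ((e + δ : ℕ) : ℕ∞) := by exact_mod_cast hdim
  -- finiteness
  obtain ⟨h, hh⟩ := ENat.ne_top_iff_exists.mp (Ideal.height_ne_top_of_isPrime (I := Qb.asIdeal))
  have hN' : Qp.height + Order.coheight Qb = (N : ℕ∞) := by exact_mod_cast hN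
  have hcne : Order.coheight Qb ≠ ⊤ := by
    intro htop
    rw [htop, add_top] at hN'
    exact ENat.top_ne_natCast N hN'
  obtain ⟨c, hc⟩ := ENat.ne_top_iff_exists.mp hcne
  have hheight : Order.height Qb = h := by
    rw [← PrimeSpectrum.height_eq_orderHeight, hh]
  have hle : Qb.asIdeal.height ≤ Qp.height := by
    have h1 := ringKrullDim_le_of_surjective _
      (RingHom.surjective_localRingHom_of_surjective (fibMap A B N p.asIdeal).toRingHom
        (fibMap_surjective A B N hs p.asIdeal) Qb.asIdeal)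
    rw [IsLocalization.AtPrime.ringKrullDim_eq_height Qb.asIdeal (Localization.AtPrime Qb.asIdeal)]
      at h1
    have h2 := IsLocalization.AtPrime.ringKrullDim_eq_height Qp (Localization.AtPrime Qp)
    have h3 : ((Qb.asIdeal.height : ℕ∞) : WithBot ℕ∞) ≤ ringKrullDim (Localization.AtPrime Qp) := h1
    rw [h2] at h3
    exact_mod_cast h3
  refine ⟨e, δ, h, c, hpd, hdepth, ?_, hheight, hc.symm, ?_, ?_, ?_⟩
  · rw [hdimB, ← hh]
    rfl
  · rw [hfd, hloc, hheight, ← hc]
    rfl
  · rw [hQph, ← hc] at hN'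
    have : ((e + δ + c : ℕ) : ℕ∞) = (N : ℕ∞) := by
      push_cast
      exact hN'
    exact_mod_cast this.symm
  · rw [hQph, ← hh] at hle
    exact_mod_cast hle

end Core

section Open

variable (A B : Type u) [CommRing A] [CommRing B] [IsNoetherianRing A] [Algebra A B]
  [Algebra.FiniteType A B] [Module.Flat A B]

set_option maxHeartbeats 1600000 in
/-- **openness of the fibrewise codepth loci**, ring version over a Noetherian base -/
theorem isOpen_codepth_le (n : ℕ) :
    IsOpen {q : PrimeSpectrum B | ringKrullDim (EGA4.FibLocRing A B q.asIdeal) ≤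
      ((LocCoh.depth (EGA4.FibLocRing A B q.asIdeal) (EGA4.FibLocRing A B q.asIdeal) : ℕ∞) :
        WithBot ℕ∞) + n} := by
  obtain ⟨N, φ, hφ⟩ := (Algebra.FiniteType.iff_quotient_mvPolynomial'' (R := A) (S := B)).mp
    inferInstance
  letI : Algebra (MvPolynomial (Fin N) A) B := φ.toRingHom.toAlgebra
  haveI : IsScalarTower A (MvPolynomial (Fin N) A) B :=
    IsScalarTower.of_algebraMap_eq (fun a => (φ.commutes a).symm)
  have hs : Function.Surjective (algebraMap (MvPolynomial (Fin N) A) B) := hφ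
  haveI : Module.Finite (MvPolynomial (Fin N) A) B :=
    Module.Finite.of_surjective (Algebra.linearMap _ _) hs
  set f := Spec.map (CommRingCat.ofHom (algebraMap A B)) with hf
  haveI : LocallyOfFiniteType f := by
    rw [hf, HasRingHomProperty.Spec_iff (P := @LocallyOfFiniteType)]
    exact RingHom.finiteType_algebraMap.2 inferInstance
  have hEq : {q : PrimeSpectrum B | ringKrullDim (EGA4.FibLocRing A B q.asIdeal) ≤
      ((LocCoh.depth (EGA4.FibLocRing A B q.asIdeal) (EGA4.FibLocRing A B q.asIdeal) : ℕ∞) :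
        WithBot ℕ∞) + n} =
      ⋃ j ∈ Finset.range (N + n + 1),
        (PrimeSpectrum.comap (algebraMap (MvPolynomial (Fin N) A) B) ⁻¹'
          RegBound.pdLocus (ModuleCat.of (MvPolynomial (Fin N) A) B) j) ∩
        {q : PrimeSpectrum B | FlatMor.fibreDimAt f q ≤ ((N + n - j : ℕ) : WithBot ℕ∞)} := by
    ext q
    obtain ⟨p, Qb, hq⟩ := exists_fibre_prime' A B q
    obtain ⟨e, δ, h, c, hpd, hdepth, hdim, -, -, hfd, hN, -⟩ := core A B N hs p Qb q hq
    simp only [Set.mem_ofPred_eq, Set.mem_iUnion, Finset.mem_range, Set.mem_inter_iff,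
      Set.mem_preimage, exists_prop]
    rw [hdim, hdepth, hfd]
    have h1 : ((h : ℕ) : WithBot ℕ∞) ≤ (((δ : ℕ) : ℕ∞) : WithBot ℕ∞) + (n : WithBot ℕ∞) ↔
        h ≤ δ + n := by
      constructor
      · intro hle; exact_mod_cast hle
      · intro hle; exact_mod_cast hle
    rw [h1]
    constructor
    · intro hle
      refine ⟨e, by omega, (hpd e).2 le_rfl, ?_⟩
      have : h + c ≤ N + n - e := by omega
      exact_mod_cast this
    · rintro ⟨j, hj, hmem, hle⟩
      have h2 := (hpd j).1 hmem
      have h3 : h + c ≤ N + n - j := by exact_mod_cast hle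
      omega
  rw [hEq]
  refine isOpen_biUnion fun j _ => IsOpen.inter ?_ ?_
  · exact (RegBound.isOpen_pdLocus j (ModuleCat.of (MvPolynomial (Fin N) A) B)).preimage
      (PrimeSpectrum.continuous_comap _)
  · exact Groth.Agent.Helper5.FibDim.isOpen_fibreDimAt_le f _

end Open

end Groth.Agent.Helper5.FibPd
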