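import Groth.Agent.Helper5.EquiDim4
import Mathlib.AlgebraicGeometry.Morphisms.Finite

set_option autoImplicit false
universe u
open AlgebraicGeometry CategoryTheory TopologicalSpace

namespace Groth.Agent.Helper5.EquiDim

open Groth.Agent.Helper5.UCat Groth.Agent.Helper5.DimFormula Groth.Agent.Helper5.VarDim

/-- At a closed point of the source, the residue field extension is algebraic. -/
theorem trdeg_eq_zero_of_isClosed {X Y : Scheme.{u}} (f : X ⟶ Y) [LocallyOfFiniteType f] (x : X)
    (hx : IsClosed ({x} : Set X)) :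
    @Algebra.trdeg (Y.residueField (f x)) (X.residueField x) _ _
      (f.residueFieldMap x).hom.toAlgebra = 0 := by
  let y := f x
  have hft : LocallyOfFiniteType (f.fiberToSpecResidueField y) :=
    inferInstanceAs (LocallyOfFiniteType (Limits.pullback.snd f (Y.fromSpecResidueField y)))
  let z : ↥(f.fiber y) := f.asFiber x
  have hz : IsClosed ({z} : Set ↥(f.fiber y)) := by
    have : ({z} : Set ↥(f.fiber y)) = (f.fiberι y) ⁻¹' {x} := by
      ext w
      simp only [Set.mem_singleton_iff, Set.mem_preimage]
      constructor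
      · rintro rfl
        exact f.fiberι_asFiber x
      · intro h
        apply (f.fiberι y).isEmbedding.injective
        rw [h, f.fiberι_asFiber]
    rw [this]
    exact hx.preimage (f.fiberι y).continuous
  obtain ⟨n, hn1, -, hn3⟩ := localDim_formula (Y.residueField y) (f.fiberToSpecResidueField y) z
  have hn0 : n = 0 := hn3 hz
  rw [trdeg_fiber f x, hn0] at hn1
  simpa using hn1

/-- Equicodimensionality: in an irreducible scheme locally of finite type over a Jacobson,
universally catenary, locally Noetherian base with equicodimensional components, all closed points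
have the same codimension. -/
theorem coheight_closed_eq {Y S : Scheme.{u}} [IsLocallyNoetherian S] [JacobsonSpace S]
    (h2 : ∀ s : S, CAlg.IsUniversallyCatenary (S.presheaf.stalk s))
    (h3 : ∀ S' ∈ irreducibleComponents (S : Type u), ∀ s ∈ S', IsClosed ({s} : Set S) →
      topologicalKrullDim (↥S' : Type u) = topologicalKrullDim ↥{t : S | t ∈ S' ∧ t ⤳ s})
    (q : Y ⟶ S) [LocallyOfFiniteType q] (η : Y) (hη : ∀ y : Y, η ⤳ y)
    (y1 y2 : Y) (hy1 : IsClosed ({y1} : Set Y)) (hy2 : IsClosed ({y2} : Set Y)) :
    Order.coheight y1 = Order.coheight y2 := by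
  let σ : S := q η
  obtain ⟨S'', hS'', hsub⟩ := exists_mem_irreducibleComponents_subset_of_isIrreducible
    (closure ({σ} : Set S)) isIrreducible_singleton.closure
  have hS''cl : IsClosed S'' := isClosed_of_mem_irreducibleComponents S'' hS''
  obtain ⟨ξ'', hξ''⟩ := QuasiSober.sober hS''.1 hS''cl
  have hξ''cl : closure ({ξ''} : Set S) = S'' := hξ''.def
  have hσS : σ ∈ S'' := hsub (subset_closure rfl)
  have hσξ : ξ'' ⤳ σ := by
    rw [specializes_iff_mem_closure, hξ''cl]; exact hσS
  obtain ⟨b', -, -, -, hb', -, -, -, -⟩ := scheme_dimension_equality (𝟙 S) h2 σ ξ'' hσξ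
  obtain ⟨-, -, -, e, -, -, -, he, -⟩ := scheme_dimension_equality q h2 η η specializes_rfl
  have key : ∀ y : Y, IsClosed ({y} : Set Y) → ∃ c : ℕ, Order.coheight y = ((c + e : ℕ) : ℕ∞) ∧
      topologicalKrullDim ↥S'' = ((c + b' : ℕ) : WithBot ℕ∞) := by
    intro y hy
    obtain ⟨a, c, n, e', ha, hc, hn, he', hsum⟩ := scheme_dimension_equality q h2 y η (hη y)
    have hee : e' = e := by
      have : (e' : Cardinal.{u}) = (e : Cardinal.{u}) := he'.symm.trans he
      exact_mod_cast this
    have hn0 : n = 0 := by
      have : (n : Cardinal.{u}) = 0 := hn.symm.trans (trdeg_eq_zero_of_isClosed q y hy)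
      exact_mod_cast this
    subst hee hn0
    refine ⟨c, ?_, ?_⟩
    · have h1 : Set.Icc y η = Set.Ici y := by
        ext z
        simp only [Set.mem_Icc, Set.mem_Ici, and_iff_left_iff_imp]
        intro _
        exact Scheme.le_iff_specializes.2 (hη z)
      rw [h1, ← Order.coheight_eq_krullDim_Ici] at ha
      have : Order.coheight y = (a : ℕ∞) := by exact_mod_cast ha
      rw [this]
      have : a = c + e' := by omega
      rw [this]
    · let s : S := q y
      have hs : IsClosed ({s} : Set S) :=
        q.closePoints_subset_preimage_closedPoints (show y ∈ closedPoints Y from hy)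
      have hσs : σ ⤳ s := (hη y).map q.continuous
      have hsS : s ∈ S'' := hsub (specializes_iff_mem_closure.1 hσs)
      have hadd := krullDim_Icc_add h2 s σ ξ'' hσs hσξ
      have hb'' : Order.krullDim ↥(Set.Icc σ ξ'') = (b' : WithBot ℕ∞) := hb'
      have hc' : Order.krullDim ↥(Set.Icc s σ) = (c : WithBot ℕ∞) := hc
      rw [hb'', hc'] at hadd
      have hset : {t : S | t ∈ S'' ∧ t ⤳ s} = Set.Icc s ξ'' := by
        ext t
        simp only [Set.mem_ofPred_eq, Set.mem_Icc]
        rw [← hξ''cl, ← specializes_iff_mem_closure, Scheme.le_iff_specializes,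
          Scheme.le_iff_specializes]
        exact and_comm
      have h3' := h3 S'' hS'' s hsS hs
      rw [hset, topologicalKrullDim_Icc_eq, hadd] at h3'
      rw [h3']
      push_cast
      rfl
  obtain ⟨c1, hc1, hd1⟩ := key y1 hy1
  obtain ⟨c2, hc2, hd2⟩ := key y2 hy2
  have : c1 + b' = c2 + b' := by
    have : ((c1 + b' : ℕ) : WithBot ℕ∞) = ((c2 + b' : ℕ) : WithBot ℕ∞) := hd1.symm.trans hd2
    exact_mod_cast this
  have hcc : c1 = c2 := by omega
  rw [hc1, hc2, hcc]

/-- EGA IV 10.6.1 (ii): the dimension formula `dim X = dim Y + dim (generic fibre)` for a dominant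
morphism of irreducible schemes locally of finite type over a Jacobson, universally catenary,
locally Noetherian base with equicodimensional irreducible components. -/
theorem dim_eq_dim_add_generic_fibre {X Y S : Scheme.{u}} [IsLocallyNoetherian S]
    [JacobsonSpace S] (h2 : ∀ s : S, CAlg.IsUniversallyCatenary (S.presheaf.stalk s))
    (h3 : ∀ S' ∈ irreducibleComponents (S : Type u), ∀ s ∈ S', IsClosed ({s} : Set S) →
      topologicalKrullDim (↥S' : Type u) = topologicalKrullDim ↥{t : S | t ∈ S' ∧ t ⤳ s})
    (p : X ⟶ S) (q : Y ⟶ S) [LocallyOfFiniteType p] [LocallyOfFiniteType q] (f : X ⟶ Y)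
    (hf : f ≫ q = p) [IrreducibleSpace X] [IrreducibleSpace Y] [IsDominant f]
    (hmain : ∀ (_ : IsLocallyNoetherian Y) (_ : LocallyOfFiniteType f),
      (∀ y : Y, CAlg.IsUniversallyCatenary (Y.presheaf.stalk y)) →
        (topologicalKrullDim X = topologicalKrullDim Y +
            topologicalKrullDim (f.fiber (genericPoint Y)) ↔
          topologicalKrullDim Y = ⨆ y ∈ Set.range f.base, ringKrullDim (Y.presheaf.stalk y))) :
    topologicalKrullDim (X : Type u) =
      topologicalKrullDim (Y : Type u) + topologicalKrullDim ↥(f.fiber (genericPoint Y)) := by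
  have hYN : IsLocallyNoetherian Y := LocallyOfFiniteType.isLocallyNoetherian q
  have hflft : LocallyOfFiniteType f := by
    have : LocallyOfFiniteType (f ≫ q) := hf ▸ inferInstance
    exact locallyOfFiniteType_of_comp f q
  have hYJ : JacobsonSpace Y := LocallyOfFiniteType.jacobsonSpace q
  have hXJ : JacobsonSpace X := LocallyOfFiniteType.jacobsonSpace p
  have hYuc := stalk_isUniversallyCatenary q h2
  rw [hmain hYN hflft hYuc]
  let η := genericPoint ↥Y
  have hη : ∀ y : Y, η ⤳ y := by
    intro y
    rw [specializes_iff_mem_closure, genericPoint_closure]; trivial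
  -- a closed point in the image
  obtain ⟨xs, -, hxs⟩ := nonempty_inter_closedPoints (X := ↥X) (Z := Set.univ)
    ⟨genericPoint ↥X, trivial⟩ isOpen_univ.isLocallyClosed
  have hys : IsClosed ({f xs} : Set Y) := f.closePoints_subset_preimage_closedPoints hxs
  apply le_antisymm
  · rw [Groth.Agent.Helper5.EtDim.topologicalKrullDim_eq_iSup_coheight Y]
    refine iSup_le fun y0 => ?_
    obtain ⟨y1, hy1cl, hy1⟩ := nonempty_inter_closedPoints (X := ↥Y)
      (Z := closure ({y0} : Set Y)) ⟨y0, subset_closure rfl⟩ isClosed_closure.isLocallyClosed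
    have h01 : y1 ≤ y0 := Scheme.le_iff_specializes.2 (specializes_iff_mem_closure.2 hy1cl)
    have h1 : Order.coheight y0 ≤ Order.coheight y1 := Order.coheight_anti h01
    have h2' : Order.coheight y1 = Order.coheight (f xs) :=
      coheight_closed_eq h2 h3 q η hη y1 (f xs) hy1 hys
    calc ((Order.coheight y0 : ℕ∞) : WithBot ℕ∞) ≤ ((Order.coheight (f xs) : ℕ∞) : WithBot ℕ∞) := by
          rw [← h2']; exact_mod_cast h1
      _ = ringKrullDim (Y.presheaf.stalk (f xs)) :=
          (AlgebraicGeometry.ringKrullDim_stalk_eq_coheight (f xs)).symm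
      _ ≤ ⨆ y ∈ Set.range f.base, ringKrullDim (Y.presheaf.stalk y) :=
          le_iSup₂ (f := fun y (_ : y ∈ Set.range f.base) => ringKrullDim (Y.presheaf.stalk y))
            (f xs) ⟨xs, rfl⟩
  · refine iSup₂_le fun y _ => ?_
    rw [AlgebraicGeometry.ringKrullDim_stalk_eq_coheight y,
      Groth.Agent.Helper5.EtDim.topologicalKrullDim_eq_iSup_coheight Y]
    exact le_iSup (fun y : ↥Y => ((Order.coheight y : ℕ∞) : WithBot ℕ∞)) y

end Groth.Agent.Helper5.EquiDim
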