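import Groth.Agent.Helper5.LocDim3
import Groth.Prelude.Def_Flat

set_option autoImplicit false
universe u
open AlgebraicGeometry CategoryTheory TopologicalSpace

namespace Groth.Agent.Helper5.LocDim

theorem add_dim_le_of_chains {X : Scheme.{u}} (Z : Set X) (hZ : GenStable Z) (hne : Z.Nonempty)
    (a : ℕ) (S : WithBot ℕ∞)
    (h : ∀ l : LTSeries X, (∀ i, l i ∈ Z) → ((a + l.length : ℕ) : WithBot ℕ∞) ≤ S) :
    (a : WithBot ℕ∞) + topologicalKrullDim ↥Z ≤ S := by
  obtain ⟨z, hz⟩ := hne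
  have h0 := h (RelSeries.singleton _ z) (fun i => by simpa using hz)
  induction S using WithBot.recBotCoe with
  | bot => simp at h0
  | coe s =>
    induction s using ENat.recTopCoe with
    | top => exact le_top
    | coe m =>
      have hK : topologicalKrullDim ↥Z ≤ ((m - a : ℕ) : WithBot ℕ∞) := by
        refine dim_le_of_chains Z hZ _ ?_
        intro l hl
        have := h l hl
        have h' : a + l.length ≤ m := by exact_mod_cast this
        exact_mod_cast (by omega : l.length ≤ m - a)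
      have ham : a ≤ m := by
        have h' : a + 0 ≤ m := by exact_mod_cast h0
        omega
      calc (a : WithBot ℕ∞) + topologicalKrullDim ↥Z
          ≤ (a : WithBot ℕ∞) + ((m - a : ℕ) : WithBot ℕ∞) := by gcongr
        _ = ((m : ℕ∞) : WithBot ℕ∞) := by
            have : a + (m - a) = m := by omega
            rw [← Nat.cast_add, this]
            rfl

/-- EGA IV 10.6.2-style description of the local dimension of a closed subset of an
equicodimensional, catenary, Jacobson, locally Noetherian scheme. -/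
theorem localDim_closed {X : Scheme.{u}} [IsLocallyNoetherian X] [JacobsonSpace X]
    (hE : EquiCodim X)
    (hadd : ∀ x y z : X, y ⤳ x → z ⤳ y → Order.krullDim ↥(Set.Icc x z) =
      Order.krullDim ↥(Set.Icc x y) + Order.krullDim ↥(Set.Icc y z))
    (hfin : ∀ x z : X, z ⤳ x → ∃ n : ℕ, Order.krullDim ↥(Set.Icc x z) = n)
    (Y : Set X) (hY : IsClosed Y) (x : X) (hx : x ∈ Y) :
    FlatMor.localDim ↥Y ⟨x, hx⟩ =
        topologicalKrullDim ↥(closure ({x} : Set X)) + topologicalKrullDim ↥{t : X | t ∈ Y ∧ t ⤳ x} ∧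
      FlatMor.localDim ↥Y ⟨x, hx⟩ =
        ⨆ C ∈ {C : Set ↥Y | C ∈ irreducibleComponents ↥Y ∧ (⟨x, hx⟩ : ↥Y) ∈ C}, topologicalKrullDim ↥C ∧
      ∀ U : Set X, IsOpen U → x ∈ U →
        (∀ C ∈ irreducibleComponents ↥Y, (⟨x, hx⟩ : ↥Y) ∉ C → Disjoint (Subtype.val ⁻¹' U) C) →
        topologicalKrullDim ↥(U ∩ Y) = FlatMor.localDim ↥Y ⟨x, hx⟩ := by
  set S : WithBot ℕ∞ :=
    ⨆ C ∈ {C : Set ↥Y | C ∈ irreducibleComponents ↥Y ∧ (⟨x, hx⟩ : ↥Y) ∈ C}, topologicalKrullDim ↥C
    with hSdef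
  have hSle : ∀ U : Set X, IsOpen U → x ∈ U → S ≤ topologicalKrullDim ↥(U ∩ Y) := by
    intro U hU hxU
    refine iSup₂_le ?_
    intro C hC
    exact dim_component_le hE Y hY x hx C hC.1 hC.2 U hU hxU
  have hS : FlatMor.localDim ↥Y ⟨x, hx⟩ = S := by
    unfold FlatMor.localDim
    apply le_antisymm
    · obtain ⟨U0, hU0, hxU0, hdisj⟩ := exists_good_open Y x hx
      refine iInf_le_of_le ⟨⟨Subtype.val ⁻¹' U0, hU0.preimage continuous_subtype_val⟩, hxU0⟩ ?_
      show topologicalKrullDim ↥(Subtype.val ⁻¹' U0 : Set ↥Y) ≤ S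
      rw [dim_preimage_val]
      exact dim_good_open_le Y hY x hx U0 hU0 hdisj
    · refine le_iInf ?_
      rintro ⟨V, hxV⟩
      obtain ⟨U, hUo, hUeq⟩ := isOpen_induced_iff.1 V.2
      have hxU : x ∈ U := by
        have : (⟨x, hx⟩ : ↥Y) ∈ Subtype.val ⁻¹' U := by rw [hUeq]; exact hxV
        exact this
      have hVU : topologicalKrullDim ↥(V : Set ↥Y) = topologicalKrullDim ↥(U ∩ Y) := by
        rw [← dim_preimage_val Y U]
        exact congrArg (fun A : Set ↥Y => topologicalKrullDim ↥A) hUeq.symm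
      show S ≤ topologicalKrullDim ↥(V : Set ↥Y)
      rw [hVU]
      exact hSle U hUo hxU
  have h3 : ∀ U : Set X, IsOpen U → x ∈ U →
      (∀ C ∈ irreducibleComponents ↥Y, (⟨x, hx⟩ : ↥Y) ∉ C → Disjoint (Subtype.val ⁻¹' U) C) →
      topologicalKrullDim ↥(U ∩ Y) = FlatMor.localDim ↥Y ⟨x, hx⟩ := by
    intro U hU hxU hdisj
    rw [hS]
    exact le_antisymm (dim_good_open_le Y hY x hx U hU hdisj) (hSle U hU hxU)
  refine ⟨?_, hS, h3⟩
  rw [hS]
  -- the dimension of the closure of x is a natural number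
  obtain ⟨s, hs, hsp, -⟩ := exists_closed_specialization Set.univ isOpen_univ x trivial
  obtain ⟨a, ha⟩ := hfin s x hsp
  have hd : topologicalKrullDim ↥(closure ({x} : Set X)) = (a : WithBot ℕ∞) := by
    rw [dim_closure_eq hE x s hs hsp, ha]
  let G : Set X := {t : X | t ∈ Y ∧ t ⤳ x}
  have hG : GenStable G := genStable_generizations Y hY x
  -- components through x
  have hcomp : ∀ C : Set ↥Y, C ∈ irreducibleComponents ↥Y → (⟨x, hx⟩ : ↥Y) ∈ C →
      ∃ ζ : X, closure ({ζ} : Set X) = Subtype.val '' C ∧ ζ ⤳ x ∧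
        topologicalKrullDim ↥C = (a : WithBot ℕ∞) + Order.krullDim ↥(Set.Icc x ζ) := by
    intro C hC hxC
    obtain ⟨ζ, hζ⟩ := exists_generic_of_component Y hY C hC
    have hx' : x ∈ closure ({ζ} : Set X) := by rw [hζ]; exact ⟨⟨x, hx⟩, hxC, rfl⟩
    have hζx : ζ ⤳ x := specializes_iff_mem_closure.2 hx'
    refine ⟨ζ, hζ, hζx, ?_⟩
    rw [← dim_image_val Y C, ← hζ, dim_closure_add hE hadd x ζ hζx, hd]
  apply le_antisymm
  · refine iSup₂_le ?_
    intro C hC
    obtain ⟨ζ, hζ, hζx, hdim⟩ := hcomp C hC.1 hC.2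
    rw [hdim, hd]
    gcongr
    rw [← EquiDim.topologicalKrullDim_Icc_eq]
    refine dim_subset_le ?_
    intro t ht
    refine ⟨?_, Scheme.le_iff_specializes.1 ht.1⟩
    have : t ∈ closure ({ζ} : Set X) := Icc_subset_closure x ζ ht
    rw [hζ] at this
    obtain ⟨c, -, rfl⟩ := this
    exact c.2
  · rw [hd]
    refine add_dim_le_of_chains G hG ⟨x, hx, specializes_rfl⟩ a S ?_
    intro l hl
    let top : X := l (Fin.last _)
    have htop : top ∈ G := hl _
    obtain ⟨C, hC, htC⟩ := exists_component_mem (⟨top, htop.1⟩ : ↥Y)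
    have hCcl : IsClosed (Subtype.val '' C : Set X) :=
      hY.isClosedEmbedding_subtypeVal.isClosedMap _ (isClosed_of_mem_irreducibleComponents C hC)
    have hxC : (⟨x, hx⟩ : ↥Y) ∈ C := by
      have h1 : x ∈ closure ({top} : Set X) := specializes_iff_mem_closure.1 htop.2
      have h2 : x ∈ (Subtype.val '' C : Set X) := by
        refine closure_minimal ?_ hCcl h1
        rintro _ rfl
        exact ⟨⟨top, htop.1⟩, htC, rfl⟩
      obtain ⟨c, hc, hcx⟩ := h2
      have : c = ⟨x, hx⟩ := Subtype.ext hcx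
      rwa [this] at hc
    obtain ⟨ζ, hζ, hζx, hdim⟩ := hcomp C hC hxC
    have htopζ : top ≤ ζ := by
      rw [Scheme.le_iff_specializes, specializes_iff_mem_closure, hζ]
      exact ⟨⟨top, htop.1⟩, htC, rfl⟩
    have hmem : ∀ i, l i ∈ Set.Icc x ζ := by
      intro i
      refine ⟨Scheme.le_iff_specializes.2 (hl i).2, ?_⟩
      exact le_trans (l.monotone (Fin.le_last i)) htopζ
    let l' : LTSeries ↥(Set.Icc x ζ) := LTSeries.mk l.length (fun i => ⟨l i, hmem i⟩)
      (fun i j hij => l.strictMono hij)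
    have hlen : (l.length : WithBot ℕ∞) ≤ Order.krullDim ↥(Set.Icc x ζ) :=
      Order.LTSeries.length_le_krullDim l'
    have h5 : topologicalKrullDim ↥C ≤ S :=
      le_biSup (fun C : Set ↥Y => topologicalKrullDim ↥C) ⟨hC, hxC⟩
    refine le_trans ?_ h5
    rw [hdim]
    push_cast
    gcongr

end Groth.Agent.Helper5.LocDim
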