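import Mathlib
import Groth.Prelude
import Groth.Agent.Helper5.FibPdF
import Groth.Agent.Helper5.FibPdG
import Groth.Agent.Helper7.CodepthB
import Groth.Agent.Helper2.Codepth
import Groth.Agent.Helper2.SkFlat
import Groth.Agent.Helper2.FlatAscent
import Groth.Agent.Helper1.SerreFlatU

/-!
# FibPdH: openness of the fibrewise `(S_k)` loci (ring version, Noetherian base)
-/

set_option autoImplicit false
set_option linter.unusedSectionVars false
set_option linter.unusedVariables false
set_option linter.style.haveILetI false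
universe u
open CategoryTheory TensorProduct IsLocalRing AlgebraicGeometry

namespace Groth.Agent.Helper5.FibPd

open Groth.Agent.Helper1 Groth.Agent.Helper2

section L1

variable (A B : Type u) [CommRing A] [CommRing B] [IsNoetherianRing A] [Algebra A B]
  [Algebra.FiniteType A B]

set_option maxHeartbeats 1600000 in
/-- `(S_k)` of a fibre local ring in terms of the generizations inside the fibre -/
theorem hasSk_fibLoc_iff (k : ℕ) (p : PrimeSpectrum A) (Q : PrimeSpectrum (p.asIdeal.Fiber B)) :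
    LocCoh.HasSk k (EGA4.FibLocRing A B (fibPt A B p Q).asIdeal)
        (EGA4.FibLocRing A B (fibPt A B p Q).asIdeal) ↔
      ∀ Q' : PrimeSpectrum (p.asIdeal.Fiber B), Q' ≤ Q →
        min (k : WithBot ℕ∞) (ringKrullDim (EGA4.FibLocRing A B (fibPt A B p Q').asIdeal)) ≤
          ((LocCoh.depth (EGA4.FibLocRing A B (fibPt A B p Q').asIdeal)
            (EGA4.FibLocRing A B (fibPt A B p Q').asIdeal) : ℕ∞) : WithBot ℕ∞) := by
  haveI := p.2
  haveI := Q.2
  haveI hNB : IsNoetherianRing B := Algebra.FiniteType.isNoetherianRing A B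
  haveI hNF : IsNoetherianRing (p.asIdeal.Fiber B) :=
    Algebra.FiniteType.isNoetherianRing p.asIdeal.ResidueField _
  obtain ⟨e1⟩ := fibLoc_equiv A B p.asIdeal Q.asIdeal (fibPt A B p Q).asIdeal rfl
  have h1 : LocCoh.HasSk k (EGA4.FibLocRing A B (fibPt A B p Q).asIdeal)
        (EGA4.FibLocRing A B (fibPt A B p Q).asIdeal) ↔
      LocCoh.HasSk k (Localization.AtPrime Q.asIdeal) (Localization.AtPrime Q.asIdeal) :=
    ⟨SkFlat.hasSk_of_ringEquiv e1.symm k, SkFlat.hasSk_of_ringEquiv e1 k⟩
  rw [h1, ← Groth.Agent.Helper2.Codepth.hasSkAt_self_iff (p.asIdeal.Fiber B) Q.asIdeal k,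
    Groth.Agent.Helper7.Codepth.hasSkAt_iff (p.asIdeal.Fiber B) k Q]
  refine forall_congr' fun Q' => forall_congr' fun hQ' => ?_
  haveI := Q'.2
  obtain ⟨e2⟩ := fibLoc_equiv A B p.asIdeal Q'.asIdeal (fibPt A B p Q').asIdeal rfl
  unfold Groth.Agent.Helper7.Codepth.Good
  rw [SerreFlatU.supportDim_self, SerreFlatU.depth_self, ringKrullDim_eq_of_ringEquiv e2,
    FlatAscent.depth_eq_of_ringEquiv e2]

end L1

section Main

variable (A B : Type u) [CommRing A] [CommRing B] [IsNoetherianRing A] [Algebra A B]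
  [Module.Flat A B] (N : ℕ)
  [Algebra (MvPolynomial (Fin N) A) B] [IsScalarTower A (MvPolynomial (Fin N) A) B]

/-- the closed sets `C_j` -/
def cSet (j : ℕ) : Set (PrimeSpectrum B) :=
  ((PrimeSpectrum.comap (algebraMap (MvPolynomial (Fin N) A) B) ⁻¹'
      RegBound.pdLocus (ModuleCat.of (MvPolynomial (Fin N) A) B) j) ∪
    {q : PrimeSpectrum B | j + 1 ≤ N ∧
      FlatMor.fibreDimAt (Spec.map (CommRingCat.ofHom (algebraMap A B))) q ≤
        ((N - j - 1 : ℕ) : WithBot ℕ∞)})ᶜ

theorem isClosed_cSet (hs : Function.Surjective (algebraMap (MvPolynomial (Fin N) A) B)) (j : ℕ) :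
    IsClosed (cSet A B N j) := by
  haveI hft : Algebra.FiniteType A B :=
    Algebra.FiniteType.of_surjective (IsScalarTower.toAlgHom A (MvPolynomial (Fin N) A) B) hs
  haveI : Module.Finite (MvPolynomial (Fin N) A) B :=
    Module.Finite.of_surjective (Algebra.linearMap _ _) hs
  set f := Spec.map (CommRingCat.ofHom (algebraMap A B)) with hf
  haveI : LocallyOfFiniteType f := by
    rw [hf, HasRingHomProperty.Spec_iff (P := @LocallyOfFiniteType)]
    exact RingHom.finiteType_algebraMap.2 inferInstance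
  unfold cSet
  rw [isClosed_compl_iff]
  refine IsOpen.union ?_ ?_
  · exact (RegBound.isOpen_pdLocus j (ModuleCat.of (MvPolynomial (Fin N) A) B)).preimage
      (PrimeSpectrum.continuous_comap _)
  · by_cases hj : j + 1 ≤ N
    · have : {q : PrimeSpectrum B | j + 1 ≤ N ∧
          FlatMor.fibreDimAt f q ≤ ((N - j - 1 : ℕ) : WithBot ℕ∞)} =
          {q : PrimeSpectrum B | FlatMor.fibreDimAt f q ≤ ((N - j - 1 : ℕ) : WithBot ℕ∞)} := by
        ext q
        simp [hj]
      rw [this]
      exact Groth.Agent.Helper5.FibDim.isOpen_fibreDimAt_le f _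
    · have : {q : PrimeSpectrum B | j + 1 ≤ N ∧
          FlatMor.fibreDimAt f q ≤ ((N - j - 1 : ℕ) : WithBot ℕ∞)} = ∅ := by
        ext q
        simp [hj]
      rw [this]
      exact isOpen_empty

set_option maxHeartbeats 1600000 in
/-- the numerical criterion for the failure of the `(S_k)` inequality at a prime -/
theorem bad_iff (hs : Function.Surjective (algebraMap (MvPolynomial (Fin N) A) B)) (k : ℕ)
    (p : PrimeSpectrum A) (Q' : PrimeSpectrum (p.asIdeal.Fiber B)) :
    ¬ (min (k : WithBot ℕ∞) (ringKrullDim (EGA4.FibLocRing A B (fibPt A B p Q').asIdeal)) ≤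
        ((LocCoh.depth (EGA4.FibLocRing A B (fibPt A B p Q').asIdeal)
          (EGA4.FibLocRing A B (fibPt A B p Q').asIdeal) : ℕ∞) : WithBot ℕ∞)) ↔
      ∃ j ∈ Finset.range (N + 1), fibPt A B p Q' ∈ cSet A B N j ∧
        ((N - j - k : ℕ) : ℕ∞) ≤ Order.coheight Q' := by
  obtain ⟨e, δ, h, c, hpd, hdepth, hdim, -, hc, hfd, hN, hle⟩ :=
    core A B N hs p Q' (fibPt A B p Q') rfl
  rw [hdim, hdepth, hc]
  have h1 : (min (k : WithBot ℕ∞) ((h : ℕ) : WithBot ℕ∞) ≤ (((δ : ℕ) : ℕ∞) : WithBot ℕ∞)) ↔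
      min k h ≤ δ := by
    rcases le_total k h with hkh | hkh
    · have hc1 : (k : WithBot ℕ∞) ≤ ((h : ℕ) : WithBot ℕ∞) := by exact_mod_cast hkh
      rw [min_eq_left hc1, min_eq_left hkh]
      constructor
      · intro hh; exact_mod_cast hh
      · intro hh; exact_mod_cast hh
    · have hc1 : ((h : ℕ) : WithBot ℕ∞) ≤ (k : WithBot ℕ∞) := by exact_mod_cast hkh
      rw [min_eq_right hc1, min_eq_right hkh]
      constructor
      · intro hh; exact_mod_cast hh
      · intro hh; exact_mod_cast hh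
  rw [h1]
  have hmem : ∀ j : ℕ, fibPt A B p Q' ∈ cSet A B N j ↔ (¬ e ≤ j ∧ ¬ (j + 1 ≤ N ∧ h + c ≤ N - j - 1)) := by
    intro j
    unfold cSet
    rw [Set.mem_compl_iff, Set.mem_union, not_or, Set.mem_preimage, hpd j, Set.mem_ofPred_eq, hfd]
    have : (((h + c : ℕ) : WithBot ℕ∞) ≤ ((N - j - 1 : ℕ) : WithBot ℕ∞)) ↔ h + c ≤ N - j - 1 := by
      constructor
      · intro hh; exact_mod_cast hh
      · intro hh; exact_mod_cast hh
    rw [this]
  constructor
  · intro hbad
    have hbad' : δ < k ∧ δ < h := by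
      rw [not_le, lt_min_iff] at hbad
      exact hbad
    refine ⟨e - 1, Finset.mem_range.mpr (by omega), (hmem (e - 1)).mpr ⟨by omega, ?_⟩, ?_⟩
    · rintro ⟨h2, h3⟩
      omega
    · have : N - (e - 1) - k ≤ c := by omega
      exact_mod_cast this
  · rintro ⟨j, hj, hmemj, hco⟩
    rw [hmem j] at hmemj
    obtain ⟨h2, h3⟩ := hmemj
    have h4 : N - j - k ≤ c := by exact_mod_cast hco
    rw [Finset.mem_range] at hj
    rw [not_le, lt_min_iff]
    rw [not_and_or] at h3
    constructor
    · omega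
    · rcases h3 with h3 | h3
      · omega
      · omega

end Main

end Groth.Agent.Helper5.FibPd
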