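import Mathlib
import Groth.Prelude
import Groth.Agent.Helper5.FibPdH

/-!
# FibPdI: openness of the fibrewise `(S_k)` loci (ring version, Noetherian base), main theorem
-/

set_option autoImplicit false
set_option linter.unusedSectionVars false
set_option linter.unusedVariables false
set_option linter.style.haveILetI false
universe u
open CategoryTheory TensorProduct IsLocalRing AlgebraicGeometry

namespace Groth.Agent.Helper5.FibPd

open Groth.Agent.Helper1 Groth.Agent.Helper2

variable (A B : Type u) [CommRing A] [CommRing B] [IsNoetherianRing A] [Algebra A B]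
  [Algebra.FiniteType A B] [Module.Flat A B]

set_option maxHeartbeats 1600000 in
/-- **openness of the fibrewise `(S_k)` loci**, ring version over a Noetherian base -/
theorem isOpen_hasSk (k : ℕ) :
    IsOpen {q : PrimeSpectrum B | LocCoh.HasSk k (EGA4.FibLocRing A B q.asIdeal)
      (EGA4.FibLocRing A B q.asIdeal)} := by
  obtain ⟨N, φ, hφ⟩ := (Algebra.FiniteType.iff_quotient_mvPolynomial'' (R := A) (S := B)).mp
    inferInstance
  letI : Algebra (MvPolynomial (Fin N) A) B := φ.toRingHom.toAlgebra
  haveI : IsScalarTower A (MvPolynomial (Fin N) A) B :=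
    IsScalarTower.of_algebraMap_eq (fun a => (φ.commutes a).symm)
  have hs : Function.Surjective (algebraMap (MvPolynomial (Fin N) A) B) := hφ
  rw [← isClosed_compl_iff]
  have hEq : {q : PrimeSpectrum B | LocCoh.HasSk k (EGA4.FibLocRing A B q.asIdeal)
      (EGA4.FibLocRing A B q.asIdeal)}ᶜ =
      ⋃ j ∈ Finset.range (N + 1),
        chevSet A B (PrimeSpectrum.vanishingIdeal (cSet A B N j)) (N - j - k) := by
    ext q
    simp only [Set.mem_compl_iff, Set.mem_ofPred_eq, Set.mem_iUnion, exists_prop]
    constructor
    · intro hq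
      obtain ⟨p, Q, hQ⟩ := exists_fibre_prime' A B q
      obtain rfl : fibPt A B p Q = q := PrimeSpectrum.ext hQ
      rw [hasSk_fibLoc_iff] at hq
      push Not at hq
      obtain ⟨Q', hQ'le, hbad⟩ := hq
      have hbad' := (bad_iff A B N hs k p Q').mp (not_le.mpr hbad)
      obtain ⟨j, hj, hmem, hco⟩ := hbad'
      refine ⟨j, hj, p, Q, Q', rfl, hQ'le, ?_, hco⟩
      intro x hx
      exact (PrimeSpectrum.mem_vanishingIdeal _ _).mp hx _ hmem
    · rintro ⟨j, hj, p, Q, Q', rfl, hle, hI, hm⟩
      rw [hasSk_fibLoc_iff]
      intro hall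
      have hgood := hall Q' hle
      refine (bad_iff A B N hs k p Q').mpr ⟨j, hj, ?_, hm⟩ hgood
      have h1 : fibPt A B p Q' ∈ PrimeSpectrum.zeroLocus
          ((PrimeSpectrum.vanishingIdeal (cSet A B N j) : Ideal B) : Set B) := by
        rw [PrimeSpectrum.mem_zeroLocus]
        exact hI
      rw [PrimeSpectrum.zeroLocus_vanishingIdeal_eq_closure,
        (isClosed_cSet A B N hs j).closure_eq] at h1
      exact h1
  rw [hEq]
  exact isClosed_biUnion_finset fun j _ => isClosed_chevSet A B _ _

end Groth.Agent.Helper5.FibPd
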