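import Mathlib
import Groth.Prelude
import Groth.Agent.Helper5.SecNbD
import Groth.Agent.Helper5.PairPt2
import Groth.Agent.Helper5.StalkRed

set_option autoImplicit false
set_option linter.style.haveILetI false
universe u

namespace Groth.Agent.Helper5.SecNb

open AlgebraicGeometry CategoryTheory CategoryTheory.Limits TopologicalSpace Topology

/-- reducedness of the local ring of a fibre at a point does not depend on how the point of the
fibre is presented -/
theorem isReduced_fiber_stalk_transport {W T : Scheme.{u}} (p : W ⟶ T) (t : T) (w₀ : ↥(p.fiber t))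
    (h : _root_.IsReduced ((p.fiber t).presheaf.stalk w₀)) :
    _root_.IsReduced ((p.fiber (p ((p.fiberι t) w₀))).presheaf.stalk
      (p.asFiber ((p.fiberι t) w₀))) := by
  have key : ∀ (t' : T) (ht : t' = t) (w₁ : ↥(p.fiber t')),
      (p.fiberι t') w₁ = (p.fiberι t) w₀ →
      _root_.IsReduced ((p.fiber t').presheaf.stalk w₁) := by
    intro t' ht
    subst ht
    intro w₁ h1
    have : w₁ = w₀ := (p.fiberι t').isEmbedding.injective h1
    rw [this]
    exact h
  exact key _ (FibStalk.fiberι_apply p t w₀) _ (p.fiberι_asFiber _)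

/-- `URed` descends along an arbitrary base change -/
theorem URed.of_isPullback {X Y X' Y' : Scheme.{u}} {f : X ⟶ Y} {g : Y' ⟶ Y} {f' : X' ⟶ Y'}
    {g' : X' ⟶ X} (hc : IsPullback g' f' f g) (x' : X') (h : URed f' x') : URed f (g' x') := by
  intro T h₀ z hz
  let a : pullback h₀ g ⟶ T := pullback.fst h₀ g
  let b : pullback h₀ g ⟶ Y' := pullback.snd h₀ g
  have hab : a ≫ h₀ = b ≫ g := pullback.condition
  let p : pullback f h₀ ⟶ T := pullback.snd f h₀
  let pr : pullback f h₀ ⟶ X := pullback.fst f h₀
  let p' : pullback f' b ⟶ pullback h₀ g := pullback.snd f' b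
  let pr' : pullback f' b ⟶ X' := pullback.fst f' b
  have hm : (pr' ≫ g') ≫ f = (p' ≫ a) ≫ h₀ := by
    rw [Category.assoc, hc.w, ← Category.assoc, pullback.condition, Category.assoc, Category.assoc,
      hab]
  let m : pullback f' b ⟶ pullback f h₀ := pullback.lift (pr' ≫ g') (p' ≫ a) hm
  have hm1 : m ≫ pr = pr' ≫ g' := pullback.lift_fst _ _ _
  have hm2 : m ≫ p = p' ≫ a := pullback.lift_snd _ _ _
  -- first cartesian square
  have S1 : IsPullback m p' p a := by
    have hout : IsPullback (pr' ≫ g') p' f (b ≫ g) :=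
      (IsPullback.of_hasPullback f' b).paste_horiz hc
    rw [← hab, ← hm1] at hout
    exact IsPullback.of_right hout hm2 (IsPullback.of_hasPullback f h₀)
  -- second cartesian square
  have S2 : IsPullback pr' m g' pr := by
    have hout : IsPullback (p' ≫ b) m g (p ≫ h₀) :=
      S1.flip.paste_horiz (IsPullback.of_hasPullback h₀ g).flip
    have e1 : p' ≫ b = pr' ≫ f' := pullback.condition.symm
    have e2 : p ≫ h₀ = pr ≫ f := pullback.condition.symm
    rw [e1, e2] at hout
    exact IsPullback.of_right hout hm1.symm hc.flip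
  obtain ⟨z', hz'1, hz'2⟩ :=
    Groth.Agent.Helper5.PairPt.exists_point_of_isPullback pr' m g' pr S2 x' z hz.symm
  have hred := h _ b z' hz'1
  -- compare the fibres
  let t' : ↥(pullback h₀ g) := p' z'
  have hsq := isPullback_fiberToSpecResidueField_of_isPullback S1 t'
  let φ : p'.fiber t' ⟶ p.fiber (a t') :=
    pullback.map _ _ _ _ m (Spec.map (a.residueFieldMap t')) a S1.w.symm (by simp)
  have hφ : φ ≫ p.fiberι (a t') = p'.fiberι t' ≫ m := pullback.lift_fst _ _ _
  haveI : Flat (Spec.map (a.residueFieldMap t')) := by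
    rw [Flat.SpecMap_iff]
    letI := (a.residueFieldMap t').hom.toAlgebra
    show Module.Flat _ _
    infer_instance
  haveI : Flat φ := MorphismProperty.of_isPullback hsq.flip inferInstance
  have h1 := Groth.Agent.Helper5.StalkRed.isReduced_stalk_of_flat φ (p'.asFiber z') hred
  have h2 := isReduced_fiber_stalk_transport p (a t') (φ (p'.asFiber z')) h1
  have h3 : (p.fiberι (a t')) (φ (p'.asFiber z')) = z := by
    rw [← Scheme.Hom.comp_apply, hφ, Scheme.Hom.comp_apply]
    show m ((p'.fiberι (p' z')) (p'.asFiber z')) = z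
    rw [Scheme.Hom.fiberι_asFiber, hz'2]
  rw [h3] at h2
  exact h2

end Groth.Agent.Helper5.SecNb
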