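import Mathlib

set_option autoImplicit false
set_option linter.unusedSectionVars false
set_option linter.style.haveILetI false
universe u

namespace Groth.Agent.Helper5.BrAlg

variable {A : Type u} [CommRing A] [IsDomain A] (K : Type u) [Field K] [Algebra A K]
  [IsFractionRing A K] (p : Ideal A) [p.IsPrime]
  (O : Type u) [CommRing O] [Algebra A O] [IsLocalization.AtPrime O p] [Algebra O K]
  [IsScalarTower A O K]
  (B : Type u) [CommRing B] [IsDomain B] [Algebra A B] (sig : B →ₐ[A] K)

/-- the inclusion of `B` into the integral closure of the local ring -/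
def incl (hint : ∀ b : B, IsIntegral A (sig b)) : B →+* integralClosure O K where
  toFun b := ⟨sig b, (hint b).tower_top⟩
  map_one' := Subtype.ext (map_one sig)
  map_mul' a b := Subtype.ext (map_mul sig a b)
  map_zero' := Subtype.ext (map_zero sig)
  map_add' a b := Subtype.ext (map_add sig a b)

theorem incl_injective (hinj : Function.Injective sig) (hint : ∀ b : B, IsIntegral A (sig b)) :
    Function.Injective (incl K O B sig hint) := by
  intro a b h
  exact hinj (congrArg Subtype.val h)

theorem incl_algebraMap (hint : ∀ b : B, IsIntegral A (sig b)) (a : A) :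
    incl K O B sig hint (algebraMap A B a) = algebraMap O (integralClosure O K)
      (algebraMap A O a) := by
  apply Subtype.ext
  show sig (algebraMap A B a) = algebraMap O K (algebraMap A O a)
  rw [sig.commutes, ← IsScalarTower.algebraMap_apply]

theorem isLocalization_incl (hinj : Function.Injective sig)
    (hint : ∀ b : B, IsIntegral A (sig b))
    (hsurj : ∀ y : K, IsIntegral A y → ∃ b : B, sig b = y) :
    letI := (incl K O B sig hint).toAlgebra
    IsLocalization (Algebra.algebraMapSubmonoid B p.primeCompl) (integralClosure O K) := by
  letI := (incl K O B sig hint).toAlgebra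
  refine ⟨⟨?_, ?_, ?_⟩⟩
  · rintro ⟨_, a, ha, rfl⟩
    show IsUnit (incl K O B sig hint (algebraMap A B a))
    rw [incl_algebraMap]
    exact (IsLocalization.map_units O (⟨a, ha⟩ : p.primeCompl)).map _
  · intro z
    obtain ⟨m, hm⟩ := IsIntegral.exists_multiple_integral_of_isLocalization p.primeCompl
      (Rₘ := O) (z : K) z.2
    obtain ⟨b, hb⟩ := hsurj _ hm
    refine ⟨(b, ⟨algebraMap A B m, m, m.2, rfl⟩), ?_⟩
    apply Subtype.ext
    show (z : K) * sig (algebraMap A B m) = sig b
    rw [hb, sig.commutes, Submonoid.smul_def, Algebra.smul_def, mul_comm]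
  · intro x y hxy
    exact ⟨1, by rw [incl_injective K O B sig hinj hint hxy]⟩

theorem disjoint_of_comap (q : Ideal B) (hq : q.comap (algebraMap A B) = p) :
    Disjoint ((Algebra.algebraMapSubmonoid B p.primeCompl : Submonoid B) : Set B) (q : Set B) := by
  rw [Set.disjoint_left]
  rintro _ ⟨a, ha, rfl⟩ hmem
  apply ha
  rw [← hq]
  exact hmem

theorem comp_eq (hint : ∀ b : B, IsIntegral A (sig b)) :
    (incl K O B sig hint).comp (algebraMap A B) =
      (algebraMap O (integralClosure O K)).comp (algebraMap A O) :=
  RingHom.ext (fun a => incl_algebraMap K O B sig hint a)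

/-- a prime of `O` lying over `p` is the maximal ideal -/
theorem eq_maximalIdeal_of_comap (n : Ideal O) (hn : n.comap (algebraMap A O) = p) :
    haveI := IsLocalization.AtPrime.isLocalRing O p
    n = IsLocalRing.maximalIdeal O := by
  haveI := IsLocalization.AtPrime.isLocalRing O p
  have h1 := IsLocalization.map_under p.primeCompl O n
  have h2 := IsLocalization.map_under p.primeCompl O (IsLocalRing.maximalIdeal O)
  have h3 := IsLocalization.AtPrime.under_maximalIdeal O p
  rw [Ideal.under_def] at h1 h2 h3
  rw [← h1, ← h2, hn, h3]

theorem map_props (hinj : Function.Injective sig) (hint : ∀ b : B, IsIntegral A (sig b))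
    (hsurj : ∀ y : K, IsIntegral A y → ∃ b : B, sig b = y)
    (q : Ideal B) [q.IsPrime] (hq : q.comap (algebraMap A B) = p) :
    (q.map (incl K O B sig hint)).IsMaximal ∧ (q.map (incl K O B sig hint)).comap
      (incl K O B sig hint) = q := by
  letI := (incl K O B sig hint).toAlgebra
  haveI := isLocalization_incl K p O B sig hinj hint hsurj
  haveI := IsLocalization.AtPrime.isLocalRing O p
  have hd := disjoint_of_comap p B q hq
  have hprime : (q.map (algebraMap B (integralClosure O K))).IsPrime :=
    IsLocalization.isPrime_of_isPrime_disjoint (Algebra.algebraMapSubmonoid B p.primeCompl)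
      (integralClosure O K) q inferInstance hd
  have hcomap : (q.map (algebraMap B (integralClosure O K))).comap
      (algebraMap B (integralClosure O K)) = q :=
    IsLocalization.under_map_of_isPrime_disjoint (Algebra.algebraMapSubmonoid B p.primeCompl)
      (integralClosure O K) inferInstance hd
  refine ⟨?_, hcomap⟩
  have hn : ((q.map (algebraMap B (integralClosure O K))).comap
      (algebraMap O (integralClosure O K))).comap (algebraMap A O) = p := by
    rw [Ideal.comap_comap, ← comp_eq K O B sig hint, ← Ideal.comap_comap]
    show ((q.map (algebraMap B (integralClosure O K))).comap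
      (algebraMap B (integralClosure O K))).comap (algebraMap A B) = p
    rw [hcomap, hq]
  have h1 := eq_maximalIdeal_of_comap p O _ hn
  have h2 : ((q.map (algebraMap B (integralClosure O K))).comap
      (algebraMap O (integralClosure O K))).IsMaximal := by
    rw [h1]; infer_instance
  exact Ideal.isMaximal_of_isIntegral_of_isMaximal_comap (R := O) _ h2

theorem comap_props (hinj : Function.Injective sig) (hint : ∀ b : B, IsIntegral A (sig b))
    (hsurj : ∀ y : K, IsIntegral A y → ∃ b : B, sig b = y)
    (m' : Ideal (integralClosure O K)) [m'.IsMaximal] :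
    ((m'.comap (incl K O B sig hint)).comap (algebraMap A B) = p) ∧
      (m'.comap (incl K O B sig hint)).map (incl K O B sig hint) = m' := by
  letI := (incl K O B sig hint).toAlgebra
  haveI := isLocalization_incl K p O B sig hinj hint hsurj
  haveI := IsLocalization.AtPrime.isLocalRing O p
  refine ⟨?_, IsLocalization.map_under (Algebra.algebraMapSubmonoid B p.primeCompl)
    (integralClosure O K) m'⟩
  rw [Ideal.comap_comap, comp_eq K O B sig hint, ← Ideal.comap_comap]
  have h1 : (m'.comap (algebraMap O (integralClosure O K))).IsMaximal :=
    Ideal.isMaximal_comap_of_isIntegral_of_isMaximal (R := O) m'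
  have h3 := IsLocalization.AtPrime.under_maximalIdeal O p
  rw [Ideal.under_def] at h3
  rw [IsLocalRing.eq_maximalIdeal h1, h3]

/-- the primes of `B` over `p` are the maximal ideals of the integral closure of `O` -/
noncomputable def primesEquiv (hinj : Function.Injective sig)
    (hint : ∀ b : B, IsIntegral A (sig b))
    (hsurj : ∀ y : K, IsIntegral A y → ∃ b : B, sig b = y) :
    {q : PrimeSpectrum B // q.asIdeal.comap (algebraMap A B) = p} ≃
      MaximalSpectrum (integralClosure O K) where
  toFun q := ⟨q.1.asIdeal.map (incl K O B sig hint),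
    (map_props K p O B sig hinj hint hsurj q.1.asIdeal q.2).1⟩
  invFun m' := ⟨⟨m'.asIdeal.comap (incl K O B sig hint), inferInstance⟩,
    (comap_props K p O B sig hinj hint hsurj m'.asIdeal).1⟩
  left_inv q := by
    apply Subtype.ext
    apply PrimeSpectrum.ext
    exact (map_props K p O B sig hinj hint hsurj q.1.asIdeal q.2).2
  right_inv m' := by
    apply MaximalSpectrum.ext
    exact (comap_props K p O B sig hinj hint hsurj m'.asIdeal).2

/-- the residue field of the maximal ideal `q O'` is the residue field of `B_q` -/
theorem exists_residue_equiv (hinj : Function.Injective sig)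
    (hint : ∀ b : B, IsIntegral A (sig b))
    (hsurj : ∀ y : K, IsIntegral A y → ∃ b : B, sig b = y)
    (q : Ideal B) [q.IsPrime] (hq : q.comap (algebraMap A B) = p)
    (S' : Type u) [CommRing S'] [Algebra B S'] [IsLocalization.AtPrime S' q] [IsLocalRing S']
    (ℓ : O →+* S') (hℓ : ∀ a : A, ℓ (algebraMap A O a) = algebraMap B S' (algebraMap A B a)) :
    ∃ θ : (integralClosure O K ⧸ q.map (incl K O B sig hint)) ≃+*
        IsLocalRing.ResidueField S',
      ∀ o : O, θ (Ideal.Quotient.mk _ (algebraMap O (integralClosure O K) o)) =
        IsLocalRing.residue S' (ℓ o) := by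
  letI algBO' := (incl K O B sig hint).toAlgebra
  haveI locO' := isLocalization_incl K p O B sig hinj hint hsurj
  have hd := disjoint_of_comap p B q hq
  have hM'q : Algebra.algebraMapSubmonoid B p.primeCompl ≤ q.primeCompl := by
    intro x hx hxq
    exact Set.disjoint_left.1 hd hx hxq
  have hunits : ∀ y : Algebra.algebraMapSubmonoid B p.primeCompl, IsUnit (algebraMap B S' y) :=
    fun y => IsLocalization.map_units S' (⟨y, hM'q y.2⟩ : q.primeCompl)
  let j : integralClosure O K →+* S' := IsLocalization.lift hunits
  letI algO'S' : Algebra (integralClosure O K) S' := j.toAlgebra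
  haveI : IsScalarTower B (integralClosure O K) S' :=
    IsScalarTower.of_algebraMap_eq (fun b => (IsLocalization.lift_eq hunits b).symm)
  haveI loc1 : IsLocalization (q.primeCompl.map (algebraMap B (integralClosure O K))) S' :=
    IsLocalization.isLocalization_of_submonoid_le (integralClosure O K) S'
      (Algebra.algebraMapSubmonoid B p.primeCompl) q.primeCompl hM'q
  obtain ⟨hmax, hcomap⟩ := map_props K p O B sig hinj hint hsurj q hq
  haveI := hmax
  have hle : q.primeCompl.map (algebraMap B (integralClosure O K)) ≤
      (q.map (incl K O B sig hint)).primeCompl := by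
    rintro _ ⟨b, hb, rfl⟩ hmem
    apply hb
    have : b ∈ (q.map (incl K O B sig hint)).comap (incl K O B sig hint) := hmem
    rw [hcomap] at this
    exact this
  have hex : ∀ x : (q.map (incl K O B sig hint)).primeCompl,
      ∃ m : integralClosure O K, m * x ∈ q.primeCompl.map (algebraMap B (integralClosure O K)) := by
    intro x
    obtain ⟨⟨b, s⟩, hbs⟩ := IsLocalization.surj (Algebra.algebraMapSubmonoid B p.primeCompl)
      (x : integralClosure O K)
    refine ⟨algebraMap B (integralClosure O K) s, b, ?_, ?_⟩
    · intro hbq
      have h1 : algebraMap B (integralClosure O K) b ∈ q.map (incl K O B sig hint) :=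
        Ideal.mem_map_of_mem _ hbq
      rw [← hbs] at h1
      rcases (hmax.isPrime).mem_or_mem h1 with h2 | h2
      · exact x.2 h2
      · have h3 : IsUnit (algebraMap B (integralClosure O K) s) :=
          IsLocalization.map_units (integralClosure O K) s
        exact hmax.ne_top (Ideal.eq_top_of_isUnit_mem _ h2 h3)
    · rw [mul_comm]
      exact hbs.symm
  haveI loc2 : IsLocalization.AtPrime S' (q.map (incl K O B sig hint)) :=
    IsLocalization.isLocalization_of_is_exists_mul_mem S'
      (q.primeCompl.map (algebraMap B (integralClosure O K)))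
      (q.map (incl K O B sig hint)).primeCompl hle hex
  refine ⟨(IsLocalization.AtPrime.equivQuotMaximalIdeal (q.map (incl K O B sig hint)) S' :
    _ ≃+* S' ⧸ IsLocalRing.maximalIdeal S'), ?_⟩
  intro o
  show (IsLocalization.AtPrime.equivQuotMaximalIdeal (q.map (incl K O B sig hint)) S')
    (Ideal.Quotient.mk _ (algebraMap O (integralClosure O K) o)) =
    Ideal.Quotient.mk (IsLocalRing.maximalIdeal S') (ℓ o)
  rw [IsLocalization.AtPrime.equivQuotMaximalIdeal_apply_mk]
  have h1 : (j.comp (algebraMap O (integralClosure O K))) = ℓ := by
    apply IsLocalization.ringHom_ext p.primeCompl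
    ext a
    show j (algebraMap O (integralClosure O K) (algebraMap A O a)) = ℓ (algebraMap A O a)
    rw [← incl_algebraMap K O B sig hint a, hℓ]
    exact IsLocalization.lift_eq hunits _
  have h2 : algebraMap (integralClosure O K) S' (algebraMap O (integralClosure O K) o) = ℓ o :=
    congrArg (fun f => f o) h1
  rw [h2]

end Groth.Agent.Helper5.BrAlg
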