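import Mathlib
import Groth.Prelude.Def_CAlg2
import Groth.Agent.Helper5.BrAlg1
import Groth.Agent.Helper5.BrAlg2
import Groth.Agent.Helper5.BrAlg4

set_option autoImplicit false
set_option linter.unusedSectionVars false
set_option linter.style.haveILetI false
universe u

namespace Groth.Agent.Helper5.BrAlg

/-- a prime of an integral extension is the kernel of a map to the algebraic closure of the
residue field of its contraction -/
theorem exists_hom_ker {A B : Type u} [CommRing A] [CommRing B] [Algebra A B]
    [Algebra.IsIntegral A B] (p : Ideal A) [p.IsPrime] (q : Ideal B) [q.IsPrime]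
    (hq : q.comap (algebraMap A B) = p) :
    ∃ γ : B →+* AlgebraicClosure (FractionRing (A ⧸ p)), RingHom.ker γ = q ∧
      γ.comp (algebraMap A B) = (algebraMap (A ⧸ p) (AlgebraicClosure (FractionRing (A ⧸ p)))).comp
        (Ideal.Quotient.mk p) := by
  subst hq
  let f : A ⧸ q.comap (algebraMap A B) →+* B ⧸ q := Ideal.quotientMap q (algebraMap A B) le_rfl
  have hf : Function.Injective f := Ideal.quotientMap_injective
  have hfi : f.IsIntegral :=
    RingHom.IsIntegral.quotient (algebraMap A B) Algebra.IsIntegral.isIntegral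
  letI := f.toAlgebra
  haveI : IsDomain (B ⧸ q) := Ideal.Quotient.isDomain _
  haveI : Module.IsTorsionFree (A ⧸ q.comap (algebraMap A B)) (B ⧸ q) :=
    Module.isTorsionFree_iff_algebraMap_injective.2 hf
  have hg : Function.Injective (algebraMap (A ⧸ q.comap (algebraMap A B))
      (AlgebraicClosure (FractionRing (A ⧸ q.comap (algebraMap A B))))) := by
    rw [IsScalarTower.algebraMap_eq (A ⧸ q.comap (algebraMap A B))
      (FractionRing (A ⧸ q.comap (algebraMap A B)))
      (AlgebraicClosure (FractionRing (A ⧸ q.comap (algebraMap A B))))]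
    exact (algebraMap (FractionRing (A ⧸ q.comap (algebraMap A B)))
      (AlgebraicClosure (FractionRing (A ⧸ q.comap (algebraMap A B))))).injective.comp
      (IsFractionRing.injective (A ⧸ q.comap (algebraMap A B))
        (FractionRing (A ⧸ q.comap (algebraMap A B))))
  haveI : Module.IsTorsionFree (A ⧸ q.comap (algebraMap A B))
      (AlgebraicClosure (FractionRing (A ⧸ q.comap (algebraMap A B)))) :=
    Module.isTorsionFree_iff_algebraMap_injective.2 hg
  haveI : Algebra.IsIntegral (A ⧸ q.comap (algebraMap A B)) (B ⧸ q) := ⟨hfi⟩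
  haveI : Algebra.IsAlgebraic (A ⧸ q.comap (algebraMap A B)) (B ⧸ q) :=
    Algebra.IsIntegral.isAlgebraic
  let l : B ⧸ q →ₐ[A ⧸ q.comap (algebraMap A B)]
    AlgebraicClosure (FractionRing (A ⧸ q.comap (algebraMap A B))) := IsAlgClosed.lift
  have hl : Function.Injective l := by
    rw [injective_iff_map_eq_zero]
    intro x hx
    have hker : RingHom.ker l.toRingHom = ⊥ := by
      apply Ideal.eq_bot_of_comap_eq_bot (R := A ⧸ q.comap (algebraMap A B))
      rw [eq_bot_iff]
      intro a ha
      have h1 : l (algebraMap _ _ a) = 0 := ha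
      rw [l.commutes] at h1
      have : a = 0 := hg (h1.trans (map_zero _).symm)
      rw [this]
      exact Ideal.zero_mem _
    have : x ∈ RingHom.ker l.toRingHom := hx
    rw [hker] at this
    exact this
  refine ⟨l.toRingHom.comp (Ideal.Quotient.mk q), ?_, ?_⟩
  · ext b
    rw [RingHom.mem_ker]
    show l (Ideal.Quotient.mk q b) = 0 ↔ _
    rw [map_eq_zero_iff _ hl, Ideal.Quotient.eq_zero_iff_mem]
  · ext a
    exact l.commutes (Ideal.Quotient.mk _ a)


variable {A : Type u} [CommRing A] [IsDomain A] (K : Type u) [Field K] [Algebra A K]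
  [IsFractionRing A K] (p : Ideal A) [p.IsPrime]
  (O : Type u) [CommRing O] [Algebra A O] [IsLocalization.AtPrime O p] [Algebra O K]
  [IsScalarTower A O K] [IsDomain O] [IsLocalRing O] [IsFractionRing O K]
  (B : Type u) [CommRing B] [IsDomain B] [Algebra A B] (sig : B →ₐ[A] K)

/-- Part I: geometric unibranchness at `p` makes field-valued points over `p` unique -/
theorem hom_eq_of_isGeomUnibranch (hinj : Function.Injective sig)
    (hint : ∀ b : B, IsIntegral A (sig b))
    (hsurj : ∀ y : K, IsIntegral A y → ∃ b : B, sig b = y)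
    (hO : CAlg2.IsGeomUnibranch O) (L : Type u) [Field L] (γ₁ γ₂ : B →+* L)
    (hγ : γ₁.comp (algebraMap A B) = γ₂.comp (algebraMap A B))
    (hp : RingHom.ker (γ₁.comp (algebraMap A B)) = p) : γ₁ = γ₂ := by
  obtain ⟨hloc, hpi⟩ := (isGeomUnibranch_iff O K).1 hO
  haveI := hloc
  have hq1 : (RingHom.ker γ₁).comap (algebraMap A B) = p := by
    rw [RingHom.comap_ker]; exact hp
  have hq2 : (RingHom.ker γ₂).comap (algebraMap A B) = p := by
    rw [RingHom.comap_ker, ← hγ]; exact hp
  -- the kernels coincide
  have hsub : ∀ m₁ m₂ : MaximalSpectrum (integralClosure O K), m₁ = m₂ := by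
    intro m₁ m₂
    apply MaximalSpectrum.ext
    rw [IsLocalRing.eq_maximalIdeal m₁.isMaximal, IsLocalRing.eq_maximalIdeal m₂.isMaximal]
  have hqq : RingHom.ker γ₁ = RingHom.ker γ₂ := by
    have := (primesEquiv K p O B sig hinj hint hsurj).injective
      (hsub (primesEquiv K p O B sig hinj hint hsurj ⟨⟨RingHom.ker γ₁, RingHom.ker_isPrime _⟩, hq1⟩)
        (primesEquiv K p O B sig hinj hint hsurj ⟨⟨RingHom.ker γ₂, RingHom.ker_isPrime _⟩, hq2⟩))
    exact congrArg (fun q => q.1.asIdeal) this
  haveI : (RingHom.ker γ₁).IsPrime := RingHom.ker_isPrime _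
  obtain ⟨hmax, hcomap⟩ := map_props K p O B sig hinj hint hsurj (RingHom.ker γ₁) hq1
  haveI := hmax
  set m'' := (RingHom.ker γ₁).map (incl K O B sig hint) with hm''
  -- exponential characteristics
  haveI : IsDomain (integralClosure O K ⧸ m'') := Ideal.Quotient.isDomain _
  haveI e1 : ExpChar (integralClosure O K ⧸ m'') (ringExpChar (integralClosure O K ⧸ m'')) :=
    ringExpChar.expChar _
  let j : B ⧸ RingHom.ker γ₁ →+* integralClosure O K ⧸ m'' :=
    Ideal.quotientMap m'' (incl K O B sig hint) (le_of_eq hcomap.symm)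
  have hj : Function.Injective j := Ideal.quotientMap_injective' (le_of_eq hcomap)
  haveI e2 : ExpChar (B ⧸ RingHom.ker γ₁) (ringExpChar (integralClosure O K ⧸ m'')) :=
    RingHom.expChar j hj _
  haveI e3 : ExpChar L (ringExpChar (integralClosure O K ⧸ m'')) :=
    expChar_of_injective_ringHom (f := RingHom.kerLift γ₁) (RingHom.kerLift_injective γ₁) _
  refine RingHom.ext (fun b => ?_)
  obtain ⟨n, o, ho⟩ := hpi m'' (Ideal.Quotient.mk m'' (incl K O B sig hint b))
  obtain ⟨⟨a, s⟩, has⟩ := IsLocalization.surj p.primeCompl o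
  -- the key membership
  have hmem : b ^ (ringExpChar (integralClosure O K ⧸ m'')) ^ n * algebraMap A B s.1 -
      algebraMap A B a ∈ RingHom.ker γ₁ := by
    rw [← hcomap, Ideal.mem_comap, ← Ideal.Quotient.eq_zero_iff_mem]
    rw [map_sub, map_mul, map_pow, map_sub, map_mul, map_pow, incl_algebraMap, incl_algebraMap]
    have h1 : Ideal.Quotient.mk m'' (algebraMap O (integralClosure O K) o) =
        Ideal.Quotient.mk m'' (incl K O B sig hint b) ^
          (ringExpChar (integralClosure O K ⧸ m'')) ^ n := ho
    rw [← h1, ← map_mul, ← map_mul, ← map_sub, ← map_sub, has, sub_self, map_zero, map_zero]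
  have hmem2 : b ^ (ringExpChar (integralClosure O K ⧸ m'')) ^ n * algebraMap A B s.1 -
      algebraMap A B a ∈ RingHom.ker γ₂ := hqq ▸ hmem
  rw [RingHom.mem_ker, map_sub, map_mul, map_pow, sub_eq_zero] at hmem hmem2
  have hs : γ₁ (algebraMap A B s.1) ≠ 0 := by
    intro h0
    have : s.1 ∈ RingHom.ker (γ₁.comp (algebraMap A B)) := h0
    rw [hp] at this
    exact s.2 this
  have hs2 : γ₂ (algebraMap A B s.1) = γ₁ (algebraMap A B s.1) :=
    (congrArg (fun f => f s.1) hγ).symm
  have ha2 : γ₂ (algebraMap A B a) = γ₁ (algebraMap A B a) :=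
    (congrArg (fun f => f a) hγ).symm
  rw [hs2, ha2, ← hmem] at hmem2
  have hpow := mul_right_cancel₀ hs hmem2
  have hfrob : Function.Injective
      (iterateFrobenius L (ringExpChar (integralClosure O K ⧸ m'')) n) := RingHom.injective _
  apply hfrob
  rw [iterateFrobenius_def, iterateFrobenius_def]
  exact hpow.symm


include p in
/-- Part II: uniqueness of field-valued points gives geometric unibranchness at `p` -/
theorem isGeomUnibranch_of_hom_eq [Algebra.IsIntegral A B] (hinj : Function.Injective sig)
    (hint : ∀ b : B, IsIntegral A (sig b))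
    (hsurj : ∀ y : K, IsIntegral A y → ∃ b : B, sig b = y)
    (hrad : ∀ (L : Type u) [Field L] (γ₁ γ₂ : B →+* L),
      γ₁.comp (algebraMap A B) = γ₂.comp (algebraMap A B) → γ₁ = γ₂) :
    CAlg2.IsGeomUnibranch O := by
  rw [isGeomUnibranch_iff O K]
  letI algBO' := (incl K O B sig hint).toAlgebra
  haveI locO' := isLocalization_incl K p O B sig hinj hint hsurj
  constructor
  · -- local
    obtain ⟨m₀, hm₀⟩ := Ideal.exists_maximal (integralClosure O K)
    apply IsLocalRing.of_unique_max_ideal
    refine ⟨m₀, hm₀, ?_⟩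
    intro m₁ hm₁
    haveI := hm₁
    haveI := hm₀
    obtain ⟨h1, h1'⟩ := comap_props K p O B sig hinj hint hsurj m₁
    obtain ⟨h0, h0'⟩ := comap_props K p O B sig hinj hint hsurj m₀
    obtain ⟨γ₁, hk1, hc1⟩ := exists_hom_ker p (m₁.comap (incl K O B sig hint)) h1
    obtain ⟨γ₀, hk0, hc0⟩ := exists_hom_ker p (m₀.comap (incl K O B sig hint)) h0
    have := hrad _ γ₁ γ₀ (hc1.trans hc0.symm)
    rw [← h1', ← h0', ← hk1, ← hk0, this]
  · -- purely inseparable
    intro m'' hm'' x
    haveI hmO : (m''.comap (algebraMap O (integralClosure O K))).IsMaximal :=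
      Ideal.isMaximal_comap_of_isIntegral_of_isMaximal (R := O) m''
    letI : Field (O ⧸ m''.comap (algebraMap O (integralClosure O K))) := Ideal.Quotient.field _
    letI : Field (integralClosure O K ⧸ m'') := Ideal.Quotient.field _
    let r : O ⧸ m''.comap (algebraMap O (integralClosure O K)) →+* integralClosure O K ⧸ m'' :=
      Ideal.quotientMap m'' (algebraMap O (integralClosure O K)) le_rfl
    letI := r.toAlgebra
    have hsubs : Subsingleton (Field.Emb (O ⧸ m''.comap (algebraMap O (integralClosure O K)))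
        (integralClosure O K ⧸ m'')) := by
      refine ⟨fun σ₁ σ₂ => ?_⟩
      have hγ := hrad _ (σ₁.toRingHom.comp ((Ideal.Quotient.mk m'').comp (incl K O B sig hint)))
        (σ₂.toRingHom.comp ((Ideal.Quotient.mk m'').comp (incl K O B sig hint))) (by
          ext a
          show σ₁ (Ideal.Quotient.mk m'' (incl K O B sig hint (algebraMap A B a))) =
            σ₂ (Ideal.Quotient.mk m'' (incl K O B sig hint (algebraMap A B a)))
          rw [incl_algebraMap]
          have e : Ideal.Quotient.mk m'' (algebraMap O (integralClosure O K) (algebraMap A O a)) =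
              algebraMap (O ⧸ m''.comap (algebraMap O (integralClosure O K)))
                (integralClosure O K ⧸ m'') (Ideal.Quotient.mk _ (algebraMap A O a)) := rfl
          rw [e, σ₁.commutes, σ₂.commutes])
      apply AlgHom.ext
      intro y
      obtain ⟨z, rfl⟩ := Ideal.Quotient.mk_surjective y
      obtain ⟨⟨b, t⟩, hbt⟩ := IsLocalization.surj (Algebra.algebraMapSubmonoid B p.primeCompl) z
      have hbt' : z * incl K O B sig hint t.1 = incl K O B sig hint b := hbt
      have hunit : IsUnit (incl K O B sig hint t.1) :=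
        IsLocalization.map_units (integralClosure O K) t
      have h1 := congrArg (fun w => σ₁ (Ideal.Quotient.mk m'' w)) hbt'
      have h2 := congrArg (fun w => σ₂ (Ideal.Quotient.mk m'' w)) hbt'
      simp only [map_mul] at h1 h2
      have e1 : σ₁ (Ideal.Quotient.mk m'' (incl K O B sig hint t.1)) =
          σ₂ (Ideal.Quotient.mk m'' (incl K O B sig hint t.1)) :=
        congrArg (fun f => f t.1) hγ
      have e2 : σ₁ (Ideal.Quotient.mk m'' (incl K O B sig hint b)) =
          σ₂ (Ideal.Quotient.mk m'' (incl K O B sig hint b)) :=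
        congrArg (fun f => f b) hγ
      have hne : σ₂ (Ideal.Quotient.mk m'' (incl K O B sig hint t.1)) ≠ 0 :=
        ((hunit.map (Ideal.Quotient.mk m'')).map σ₂).ne_zero
      rw [e1, e2, ← h2] at h1
      exact mul_right_cancel₀ hne h1
    haveI hpi : IsPurelyInseparable (O ⧸ m''.comap (algebraMap O (integralClosure O K)))
        (integralClosure O K ⧸ m'') := (isPurelyInseparable_iff_subsingleton_emb _ _).2 hsubs
    haveI e1 : ExpChar (integralClosure O K ⧸ m'') (ringExpChar (integralClosure O K ⧸ m'')) :=
      ringExpChar.expChar _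
    haveI e2 : ExpChar (O ⧸ m''.comap (algebraMap O (integralClosure O K)))
        (ringExpChar (integralClosure O K ⧸ m'')) := RingHom.expChar r r.injective _
    obtain ⟨n, w, hw⟩ := (isPurelyInseparable_iff_pow_mem
      (O ⧸ m''.comap (algebraMap O (integralClosure O K)))
      (ringExpChar (integralClosure O K ⧸ m''))).1 hpi x
    obtain ⟨o, rfl⟩ := Ideal.Quotient.mk_surjective w
    exact ⟨n, o, hw⟩

end Groth.Agent.Helper5.BrAlg
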