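import Groth.Prelude.Def_AlgSp4
import Groth.Prelude.Def_AlgSpDec
import Groth.Agent.Helper5.Decent2
import Groth.Agent.Helper5.SrcEt
import Mathlib

set_option autoImplicit false
universe u
open CategoryTheory CategoryTheory.Limits AlgebraicGeometry Opposite

namespace Groth.Agent.Helper5.Decent3

open AlgSp Groth.Agent.Helper4.AlgSpPtsDesc Groth.Agent.Helper4.AlgSpQC2

variable {S : Scheme.{u}}

theorem continuous_ofPt' {X : Sp S} {U : Over S} (a : (yon S).obj U ⟶ X) :
    Continuous (Points.ofPt a) := Points.continuous_ofPt a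

theorem isOpenMap_ofPt {X : Sp S} (hX : IsAlgSpace X) {U : Over S} (a : (yon S).obj U ⟶ X)
    (ha : RepWith @Etale a) : IsOpenMap (Points.ofPt a) := by
  have h1 : IsOpenMap (Points.map a) := isOpenMor_of_repWith_etale hX a ha
  have h2 : Points.ofPt a = Points.map a ∘ Points.schemeHomeo U := by
    funext t
    exact (ofPt_eq_map_schemeHomeo a t).symm
  rw [h2]
  exact h1.comp (Points.schemeHomeo U).isOpenMap

/-- Generizations lift to étale charts at points represented by quasi-compact field points. -/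
theorem exists_generization_in_chart {X : Sp S} (hX : IsAlgSpace X) (x x' : Points X)
    (h : x' ⤳ x) (p : FieldPt X) (hp : Points.mk p = x') (hpq : RepWith @QuasiCompact p.toHom)
    {U : Over S} (a : (yon S).obj U ⟶ X) (ha : RepWith @Etale a) (u : ↥U.left)
    (hu : Points.ofPt a u = x) :
    ∃ u' : ↥U.left, u' ⤳ u ∧ Points.ofPt a u' = x' := by
  obtain ⟨_, ⟨V₀, hV₀, rfl⟩, huV, -⟩ :=
    (U.left.isBasis_affineOpens).exists_subset_of_mem_open (Set.mem_univ u) isOpen_univ
  let V := opOver U V₀
  let b : (yon S).obj V ⟶ X := (yon S).map (opι U V₀) ≫ a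
  have hb : RepWith @Etale b :=
    Groth.Agent.Helper4.AlgSpSrc.repWith_comp _
      ((repWith_yon_map_iff _ _).2 (by
        show Etale (Scheme.Opens.ι V₀)
        infer_instance)) ha
  have hVaff : IsAffine V.left := hV₀
  have hVc : CompactSpace ↥V.left := inferInstance
  have hF : (Points.ofPt b ⁻¹' {x'}).Finite := by
    rw [← hp]
    exact Groth.Agent.Helper5.Decent2.finite_fibre_of_qc_point p hpq b hb
  have hbpt : ∀ w : ↥V.left, Points.ofPt b w = Points.ofPt a ((opι U V₀).left w) := fun w =>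
    ofPt_yon_map_comp _ _ _
  let v : ↥V.left := ⟨u, huV⟩
  have hv : Points.ofPt b v = x := by rw [hbpt]; exact hu
  have hmem : v ∈ Points.ofPt b ⁻¹' closure {x'} := by
    show Points.ofPt b v ∈ closure {x'}
    rw [hv]
    exact specializes_iff_mem_closure.1 h
  rw [(isOpenMap_ofPt hX b hb).preimage_closure_eq_closure_preimage (Points.continuous_ofPt b)]
    at hmem
  have hcl : closure (Points.ofPt b ⁻¹' {x'}) = ⋃ w ∈ Points.ofPt b ⁻¹' {x'}, closure {w} := by
    conv_lhs => rw [← Set.biUnion_of_singleton (Points.ofPt b ⁻¹' {x'})]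
    exact hF.closure_biUnion _
  rw [hcl] at hmem
  obtain ⟨w, hw⟩ := Set.mem_iUnion.1 hmem
  obtain ⟨hwF, hwv⟩ := Set.mem_iUnion.1 hw
  have hsp : w ⤳ v := specializes_iff_mem_closure.2 hwv
  refine ⟨w.1, (subtype_specializes_iff w v).1 hsp, ?_⟩
  have : Points.ofPt b w = x' := hwF
  rw [hbpt] at this
  exact this

/-- Generizations lift along flat morphisms at points represented by quasi-compact field points. -/
theorem exists_generization_of_flat {X Y : Sp S} (hX : IsAlgSpace X) (hY : IsAlgSpace Y)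
    (f : Y ⟶ X) (hf : LocP @Flat f) (x x' : Points X) (h : x' ⤳ x) (p : FieldPt X)
    (hp : Points.mk p = x') (hpq : RepWith @QuasiCompact p.toHom)
    (y : Points Y) (hy : Points.map f y = x) :
    ∃ y' : Points Y, y' ⤳ y ∧ Points.map f y' = x' := by
  obtain ⟨W, U, c, a, g, w, hce, hae, hcomm, hw⟩ :=
    Groth.Agent.Helper5.SrcEt.exists_chart_at hY hX f y
  have hfl : Flat g.left := hf c a g hce hae hcomm
  have hu : Points.ofPt a (g.left w) = x := by
    rw [← ofPt_yon_map_comp, ← hcomm, ← Points.map_ofPt, hw, hy]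
  obtain ⟨u', hu'sp, hu'⟩ := exists_generization_in_chart hX x x' h p hp hpq a hae (g.left w) hu
  obtain ⟨w', hw'sp, hw'⟩ := (Flat.generalizingMap g.left) (a := w) (b := u') hu'sp
  refine ⟨Points.ofPt c w', ?_, ?_⟩
  · rw [← hw]
    exact hw'sp.map (Points.continuous_ofPt c)
  · rw [Points.map_ofPt, hcomm, ofPt_yon_map_comp, hw', hu']

/-- The space of points of a decent algebraic space is `T0`. -/
theorem t0Space_of_isDecent {X : Sp S} (hX : IsAlgSpace X) (hd : IsDecent X) :
    T0Space (Points X) := by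
  refine ⟨fun x x' hxx' => ?_⟩
  obtain ⟨U, a, hae, has⟩ := hX.atlas
  obtain ⟨r, hr⟩ := Groth.Agent.Helper4.AlgSpPts.isSurjectiveMor_of_repWith _ has x
  obtain ⟨u, rfl⟩ := (Points.schemeHomeo U).surjective r
  rw [ofPt_eq_map_schemeHomeo] at hr
  obtain ⟨p', hp', -, hp'q⟩ := hd x'
  obtain ⟨p, hp, -, hpq⟩ := hd x
  obtain ⟨u', hu'sp, hu'⟩ :=
    exists_generization_in_chart hX x x' hxx'.symm.specializes p' hp' hp'q a hae u hr
  obtain ⟨u'', hu''sp, hu''⟩ :=
    exists_generization_in_chart hX x' x hxx'.specializes p hp hpq a hae u' hu'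
  have hxfin : ∀ (V : Over S) (b : (yon S).obj V ⟶ X), IsAffine V.left → RepWith @Etale b →
      (Points.ofPt b ⁻¹' {x}).Finite := by
    intro V b hV hb
    have : CompactSpace ↥V.left := inferInstance
    rw [← hp]
    exact Groth.Agent.Helper5.Decent2.finite_fibre_of_qc_point p hpq b hb
  have h1 : u = u'' :=
    Groth.Agent.Helper5.Decent2.eq_of_specializes_of_finite_fibres x hxfin a hae u u'' hr hu''
      (hu''sp.trans hu'sp)
  have h2 : u = u' := by
    have : u ⤳ u' := by rw [h1]; exact hu''sp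
    exact (this.antisymm hu'sp).eq
  rw [← hr, ← hu', h2]

end Groth.Agent.Helper5.Decent3
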