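import Groth.Agent.Helper5.NoethDesc
import Groth.Agent.Helper4.AlgSpPtsDesc
import Groth.Agent.Helper4.AlgSpSrc
import Mathlib

set_option autoImplicit false
universe u
open CategoryTheory CategoryTheory.Limits AlgebraicGeometry Opposite

namespace Groth.Agent.Helper5.NoethChart

open AlgSp Groth.Agent.Helper4 Groth.Agent.Helper4.AlgSpPtsDesc

variable {S : Scheme.{u}}

set_option backward.isDefEq.respectTransparency.types false in
/-- Every scheme étale over a locally Noetherian sheaf is locally Noetherian. -/
theorem isLocallyNoetherian_of_etale_chart {X : Sp S} (hX : IsLocNoethSp X) {U : Over S}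
    (a : (yon S).obj U ⟶ X) (ha : RepWith @Etale a) : IsLocallyNoetherian U.left := by
  obtain ⟨U₀, p₀, hpe, hps, hU₀⟩ := hX
  have hrep := hpe.1
  let A := hrep.pullback a
  have sq : IsPullback (hrep.fst a) ((yon S).map (hrep.snd a)) p₀ a := hrep.isPullback a
  obtain ⟨k, hk⟩ := (yon S).map_surjective (hrep.fst a)
  -- `A → U` is étale surjective
  have h1 : Etale (hrep.snd a).left := hpe.2 a _ _ sq
  have h2 : Surjective (hrep.snd a).left := hps.2 a _ _ sq
  -- `A → U₀` is étale
  have sq' : IsPullback ((yon S).map (hrep.snd a)) ((yon S).map k) a p₀ := by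
    rw [hk]; exact sq.flip
  have h3 : Etale k.left := ha.2 p₀ _ _ sq'
  have : IsLocallyNoetherian U₀.left := hU₀
  have hA : IsLocallyNoetherian A.left := LocallyOfFiniteType.isLocallyNoetherian k.left
  exact Groth.Agent.Helper5.NoethDesc.isLocallyNoetherian_of_flat_lfp_surjective (hrep.snd a).left

set_option backward.isDefEq.respectTransparency.types false in
theorem finite_irreducibleComponents_of_isCompact {X : Sp S} (hX : IsLocNoethSp X) {U : Over S}
    (a : (yon S).obj U ⟶ X) (ha : RepWith @Etale a) (W : U.left.Opens)
    (hW : IsCompact (W : Set ↥U.left)) : (irreducibleComponents ↥W).Finite := by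
  have : IsLocallyNoetherian U.left := isLocallyNoetherian_of_etale_chart hX a ha
  have hc : CompactSpace ↥W := isCompact_iff_compactSpace.1 hW
  have hN : IsNoetherian W.toScheme := { toIsLocallyNoetherian := inferInstance, toCompactSpace := hc }
  have h5 : TopologicalSpace.NoetherianSpace ↥W.toScheme := inferInstance
  exact @TopologicalSpace.NoetherianSpace.finite_irreducibleComponents _ _ h5

end Groth.Agent.Helper5.NoethChart
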