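import Groth.Agent.Helper5.DiscFib1
import Groth.Agent.Helper5.NoethChart
import Groth.Agent.Helper5.Decent3
import Groth.Agent.Helper3.RelDivCurve
import Groth.Agent.Helper2.TopDim
import Mathlib

set_option autoImplicit false
set_option linter.style.haveILetI false
set_option linter.unusedSectionVars false
set_option linter.unusedVariables false
universe u
open CategoryTheory CategoryTheory.Limits AlgebraicGeometry Opposite TopologicalSpace

namespace Groth.Agent.Helper5.FieldPtCond

open AlgSp Groth.Agent.Helper4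

/-- local dimensions are nonnegative -/
theorem localDim_nonneg {T : Type*} [TopologicalSpace T] (t : T) : 0 ≤ FlatMor.localDim T t := by
  unfold FlatMor.localDim
  refine le_iInf fun ⟨O, htO⟩ => ?_
  haveI : Nonempty ↥(O : Set T) := ⟨⟨t, htO⟩⟩
  exact Groth.Agent.Helper2.TopDim.dim_nonneg_of_nonempty _

/-- a point of local dimension at most zero has an open neighbourhood of dimension at most zero -/
theorem exists_open_dim_le_zero {T : Type*} [TopologicalSpace T] (t : T)
    (h : FlatMor.localDim T t ≤ 0) :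
    ∃ O : Opens T, t ∈ O ∧ topologicalKrullDim ↥(O : Set T) ≤ 0 := by
  by_contra hne
  push Not at hne
  have h1 : (1 : WithBot ℕ∞) ≤ FlatMor.localDim T t := by
    unfold FlatMor.localDim
    refine le_iInf fun ⟨O, hdO⟩ => ?_
    exact Groth.Agent.Helper3.RelDivCurve.withBot_one_le_of_pos (hne O hdO)
  exact absurd (h1.trans h) (by decide)

/-- in a `T0` space of dimension at most zero there are no nontrivial specializations -/
theorem eq_of_specializes_of_dim_le_zero {T : Type*} [TopologicalSpace T] [T0Space T]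
    (h : topologicalKrullDim T ≤ 0) {x y : T} (hxy : x ⤳ y) : x = y := by
  rw [topologicalKrullDim, Order.krullDim_nonpos_iff_forall_isMax] at h
  have hy : y ∈ closure ({x} : Set T) := specializes_iff_mem_closure.1 hxy
  have hle : Groth.Agent.Helper2.TopDim.ptCl y ≤ Groth.Agent.Helper2.TopDim.ptCl x := by
    show closure {y} ⊆ closure {x}
    exact closure_minimal (Set.singleton_subset_iff.mpr hy) isClosed_closure
  have hge : Groth.Agent.Helper2.TopDim.ptCl x ≤ Groth.Agent.Helper2.TopDim.ptCl y :=
    h (Groth.Agent.Helper2.TopDim.ptCl y) hle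
  have heq : closure ({y} : Set T) = closure {x} := le_antisymm hle hge
  exact ((inseparable_iff_closure_eq.mpr heq).eq).symm

/-- a discrete space has dimension at most zero -/
theorem dim_le_zero_of_discrete (T : Type*) [TopologicalSpace T] [DiscreteTopology T] :
    topologicalKrullDim T ≤ 0 := by
  rw [topologicalKrullDim, Order.krullDim_nonpos_iff_forall_isMax]
  intro Z Z' hZZ'
  obtain ⟨z, hz⟩ := Z.isIrreducible.nonempty
  have hsub : ∀ W : IrreducibleCloseds T, ∀ w ∈ (W : Set T), (W : Set T) = {w} := by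
    intro W w hw
    have := W.isIrreducible.isPreirreducible
    apply Set.Subset.antisymm
    · intro v hv
      by_contra hne
      obtain ⟨q, hq, hq1, hq2⟩ := this {w} {v} (isOpen_discrete _) (isOpen_discrete _)
        ⟨w, hw, rfl⟩ ⟨v, hv, rfl⟩
      rw [Set.mem_singleton_iff] at hq1 hq2
      exact hne (by rw [← hq2, hq1]; rfl)
    · exact Set.singleton_subset_iff.2 hw
  have h1 := hsub Z z hz
  have h2 := hsub Z' z (hZZ' hz)
  show (Z' : Set T) ⊆ (Z : Set T)
  rw [h1, h2]

/-- a point of a locally Noetherian scheme without proper generizations and specializations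
is open -/
theorem isOpen_singleton_of_isolated (W : Scheme.{u}) [IsLocallyNoetherian W] (u : W)
    (hgen : ∀ u' : W, u' ⤳ u → u' = u) (hspec : ∀ z : W, u ⤳ z → z = u) :
    IsOpen ({u} : Set W) := by
  obtain ⟨V₀, hV₀, huV⟩ : ∃ V₁ : W.Opens, IsAffineOpen V₁ ∧ u ∈ V₁ := by
    obtain ⟨_, ⟨V₀, hV₀, rfl⟩, hwV, -⟩ :=
      (W.isBasis_affineOpens).exists_subset_of_mem_open (Set.mem_univ u) isOpen_univ
    exact ⟨V₀, hV₀, hwV⟩
  haveI : IsNoetherianRing Γ(W, V₀) := IsLocallyNoetherian.component_noetherian ⟨V₀, hV₀⟩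
  haveI : NoetherianSpace ↥V₀ := noetherianSpace_of_isAffineOpen V₀ hV₀
  let v : ↥V₀ := ⟨u, huV⟩
  have hvcl : closure ({v} : Set ↥V₀) = {v} := by
    apply Set.Subset.antisymm
    · intro z hz
      have h1 : v ⤳ z := specializes_iff_mem_closure.2 hz
      have h2 : u ⤳ z.1 := (subtype_specializes_iff v z).1 h1
      exact Subtype.ext (hspec _ h2)
    · exact subset_closure
  have hcomp : ({v} : Set ↥V₀) ∈ irreducibleComponents ↥V₀ := by
    refine ⟨isIrreducible_singleton, ?_⟩
    intro s hs hvs
    have hsc : IsIrreducible (closure s) := hs.closure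
    haveI : QuasiSober ↥V₀ := inferInstanceAs (QuasiSober ↥(V₀ : Scheme))
    obtain ⟨η, hη⟩ := QuasiSober.sober hsc isClosed_closure
    have h1 : η ⤳ v := by
      rw [specializes_iff_mem_closure, hη.def]
      exact subset_closure (hvs rfl)
    have h2 : η.1 ⤳ u := (subtype_specializes_iff η v).1 h1
    have h3 : η = v := Subtype.ext (hgen _ h2)
    have h4 : closure s = {v} := by rw [← hη.def, h3, hvcl]
    exact subset_closure.trans h4.le
  obtain ⟨o, ho, hone, hov⟩ :=
    NoetherianSpace.exists_isOpen_nonempty_subset_irreducibleComponent ({v} : Set ↥V₀) hcomp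
  have hoeq : o = {v} := by
    apply Set.Subset.antisymm hov
    obtain ⟨z, hz⟩ := hone
    have : z = v := hov hz
    rw [← this]
    exact Set.singleton_subset_iff.2 hz
  rw [hoeq] at ho
  have h2 := V₀.2.isOpenMap_subtype_val _ ho
  rw [Set.image_singleton] at h2
  exact h2

variable {S : Scheme.{u}}

/-- points of a chart over an open set of points without nontrivial specializations are open -/
theorem isOpen_singleton_chart_of_open {X : Sp S} (hN : IsLocNoethSp X) {U : Over S}
    (a : (yon S).obj U ⟶ X) (ha : RepWith @Etale a) (O : Set (Points X)) (hOo : IsOpen O)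
    (hO : ∀ x1 ∈ O, ∀ x2 ∈ O, x1 ⤳ x2 → x1 = x2) (u : ↥U.left) (hu : Points.ofPt a u ∈ O) :
    IsOpen ({u} : Set ↥U.left) := by
  haveI : IsLocallyNoetherian U.left :=
    Groth.Agent.Helper5.NoethChart.isLocallyNoetherian_of_etale_chart hN a ha
  have hcont : Continuous (Points.ofPt a) := Points.continuous_ofPt a
  let W₀ : U.left.Opens := ⟨Points.ofPt a ⁻¹' O, hOo.preimage hcont⟩
  haveI : IsLocallyNoetherian (W₀ : Scheme) := inferInstance
  haveI : DiscreteTopology ↥(W₀ : Scheme) := by
    apply Groth.Agent.Helper5.DiscFib.discreteTopology_of_no_specializes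
    intro v v' hs
    have h1 : v'.1 ⤳ v.1 := (subtype_specializes_iff v' v).1 hs
    have h2 : Points.ofPt a v'.1 ⤳ Points.ofPt a v.1 := h1.map hcont
    have h3 := hO _ v'.2 _ v.2 h2
    exact Subtype.ext
      (Groth.Agent.Helper5.Decent4.eq_of_specializes_of_isLocNoethSp hN a ha v.1 v'.1 h3.symm h1)
  have h1 : IsOpen (W₀.ι '' {(⟨u, hu⟩ : W₀.toScheme)}) :=
    W₀.ι.isOpenEmbedding.isOpenMap _ (isOpen_discrete _)
  have h2 : (W₀.ι '' {(⟨u, hu⟩ : W₀.toScheme)}) = {u} := by
    ext z
    simp only [Set.mem_image, Set.mem_singleton_iff]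
    constructor
    · rintro ⟨y, rfl, rfl⟩; rfl
    · rintro rfl; exact ⟨_, rfl, rfl⟩
  rw [← h2]
  exact h1

/-- points of a chart over an open point are open -/
theorem isOpen_singleton_chart {X : Sp S} (hN : IsLocNoethSp X) {U : Over S}
    (a : (yon S).obj U ⟶ X) (ha : RepWith @Etale a) (u : ↥U.left)
    (hopen : IsOpen ({Points.ofPt a u} : Set (Points X))) : IsOpen ({u} : Set ↥U.left) := by
  refine isOpen_singleton_chart_of_open hN a ha _ hopen ?_ u rfl
  intro x1 h1 x2 h2 _
  rw [Set.mem_singleton_iff] at h1 h2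
  rw [h1, h2]

end Groth.Agent.Helper5.FieldPtCond
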