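import Mathlib

/-!
# A flatness criterion through the generic points of a reduced closed fibre

`A → B` with `B` Noetherian local, `𝔪` a maximal ideal of `A` with `𝔪 B ≠ B`, `B ⧸ 𝔪 B` reduced and
`B_P` flat over `A` for every minimal prime `P` of `𝔪 B`.  Then `B` is flat over `A`.
-/

set_option autoImplicit false
universe u

namespace Groth.Agent.Helper5.UOFlat

open TensorProduct

section

variable {A B : Type u} [CommRing A] [CommRing B] [Algebra A B]

/-- Lemma L: an element of the kernel of `B ⊗ J → B ⊗ A` dies in the localisation at a prime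
at which `B` is flat over `A`. -/
theorem exists_smul_eq_zero_of_flat_localization (J : Ideal A) (y : B ⊗[A] J)
    (hy : (J.subtype.lTensor B) y = 0) (P : Ideal B) [P.IsPrime]
    [Module.Flat A (Localization.AtPrime P)] :
    ∃ s : B, s ∉ P ∧ s • y = 0 := by
  let BP := Localization.AtPrime P
  let M := B ⊗[A] J
  let e : BP ⊗[B] M ≃ₗ[BP] BP ⊗[A] J :=
    TensorProduct.AlgebraTensorModule.cancelBaseChange A B BP BP J
  have hinj : Function.Injective (J.subtype.lTensor BP) :=
    Module.Flat.lTensor_preserves_injective_linearMap _ Subtype.val_injective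
  -- the two ways around the square agree
  let φ1 : M →ₗ[A] BP ⊗[A] A :=
    (J.subtype.lTensor BP) ∘ₗ (e.toLinearMap.restrictScalars A) ∘ₗ
      ((TensorProduct.mk B BP M 1).restrictScalars A)
  let φ2 : M →ₗ[A] BP ⊗[A] A :=
    ((Algebra.linearMap B BP).restrictScalars A).rTensor A ∘ₗ (J.subtype.lTensor B)
  have hφ : φ1 = φ2 := by
    apply TensorProduct.ext'
    intro b j
    simp only [φ1, φ2, LinearMap.coe_comp, Function.comp_apply, LinearMap.coe_restrictScalars,
      LinearEquiv.coe_coe, LinearMap.lTensor_tmul, LinearMap.rTensor_tmul,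
      Submodule.subtype_apply, Algebra.linearMap_apply, e]
    have h0 : ((TensorProduct.mk B BP M) 1) (b ⊗ₜ[A] j) = (1 : BP) ⊗ₜ[B] (b ⊗ₜ[A] j) := rfl
    rw [h0, TensorProduct.AlgebraTensorModule.cancelBaseChange_tmul, LinearMap.lTensor_tmul,
      Algebra.smul_def, mul_one, Submodule.subtype_apply]
  have h1 : φ1 y = 0 := by
    rw [hφ]
    simp only [φ2, LinearMap.coe_comp, Function.comp_apply, hy, map_zero]
  have h2 : e ((TensorProduct.mk B BP M 1) y) = 0 := by
    apply hinj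
    rw [map_zero]
    exact h1
  have h3 : (TensorProduct.mk B BP M 1) y = 0 := by
    apply e.injective
    rw [h2, map_zero]
  obtain ⟨s, hs⟩ := (IsLocalizedModule.eq_zero_iff P.primeCompl (TensorProduct.mk B BP M 1)).1 h3
  exact ⟨s.1, s.2, hs⟩

end

section

variable {A B : Type u} [CommRing A] [CommRing B] [Algebra A B] (𝔪 : Ideal A)

/-- the cyclic case of Lemma T -/
theorem eq_zero_of_torsion_cyclic (hred : IsReduced (B ⧸ 𝔪.map (algebraMap A B)))
    (w : B ⊗[A] (A ⧸ 𝔪))
    (hw : ∀ P ∈ (𝔪.map (algebraMap A B)).minimalPrimes, ∃ s : B, s ∉ P ∧ s • w = 0) : w = 0 := by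
  let e := Algebra.TensorProduct.quotIdealMapEquivTensorQuot B 𝔪
  obtain ⟨b, hb⟩ := Ideal.Quotient.mk_surjective (e.symm w)
  have hrad : b ∈ (𝔪.map (algebraMap A B)).radical := by
    rw [← Ideal.sInf_minimalPrimes, Ideal.mem_sInf]
    intro P hP
    obtain ⟨s, hsP, hs⟩ := hw P hP
    have h1 : e.symm (s • w) = 0 := by rw [hs, map_zero]
    rw [map_smul, ← hb, Algebra.smul_def, Ideal.Quotient.algebraMap_eq, ← map_mul,
      Ideal.Quotient.eq_zero_iff_mem] at h1
    have h2 : s * b ∈ P := hP.1.2 h1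
    exact (hP.1.1.mem_or_mem h2).resolve_left hsP
  obtain ⟨n, hn⟩ := hrad
  have hnil : IsNilpotent (Ideal.Quotient.mk (𝔪.map (algebraMap A B)) b) :=
    ⟨n, by rw [← map_pow, Ideal.Quotient.eq_zero_iff_mem]; exact hn⟩
  have h0 : e.symm w = 0 := by rw [← hb]; exact hnil.eq_zero
  exact e.symm.injective (by rw [h0, map_zero])

/-- Lemma T: an element of `B ⊗ N`, `N` killed by the maximal ideal `𝔪`, which is killed by an
element outside each minimal prime of `𝔪 B`, is zero as soon as `B ⧸ 𝔪 B` is reduced. -/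
theorem eq_zero_of_torsion [h𝔪 : 𝔪.IsMaximal] (hred : IsReduced (B ⧸ 𝔪.map (algebraMap A B)))
    (N : Type u) [AddCommGroup N] [Module A N] (hN : ∀ a ∈ 𝔪, ∀ n : N, a • n = 0)
    (z : B ⊗[A] N)
    (hz : ∀ P ∈ (𝔪.map (algebraMap A B)).minimalPrimes, ∃ s : B, s ∉ P ∧ s • z = 0) : z = 0 := by
  classical
  have htors : Module.IsTorsionBySet A N (𝔪 : Set A) := fun n a => hN a.1 a.2 n
  letI : Module (A ⧸ 𝔪) N := htors.module
  letI : Field (A ⧸ 𝔪) := Ideal.Quotient.field 𝔪
  haveI : IsScalarTower A (A ⧸ 𝔪) N := htors.isScalarTower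
  let ι := Module.Free.ChooseBasisIndex (A ⧸ 𝔪) N
  let b : Module.Basis ι (A ⧸ 𝔪) N := Module.Free.chooseBasis (A ⧸ 𝔪) N
  let e1 : N ≃ₗ[A] (ι →₀ (A ⧸ 𝔪)) := b.repr.restrictScalars A
  let e3 := TensorProduct.finsuppRight A B B (A ⧸ 𝔪) ι
  have key : ∀ i : ι, (((Finsupp.lapply i : (ι →₀ (A ⧸ 𝔪)) →ₗ[A ⧸ 𝔪] (A ⧸ 𝔪)).restrictScalars A ∘ₗ
      e1.toLinearMap).lTensor B) z = 0 := by
    intro i
    apply eq_zero_of_torsion_cyclic 𝔪 hred
    intro P hP
    obtain ⟨s, hsP, hs⟩ := hz P hP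
    refine ⟨s, hsP, ?_⟩
    have hlin : ∀ (f : N →ₗ[A] (A ⧸ 𝔪)) (y : B ⊗[A] N), s • (f.lTensor B y) = f.lTensor B (s • y) := by
      intro f y
      induction y using TensorProduct.induction_on with
      | zero => simp
      | tmul x n => simp [TensorProduct.smul_tmul']
      | add x y hx hy => rw [smul_add, map_add, smul_add, map_add, hx, hy]
    rw [hlin, hs, map_zero]
  have h2 : e3 ((e1.toLinearMap.lTensor B) z) = 0 := by
    ext i
    rw [TensorProduct.finsuppRight_apply, Finsupp.zero_apply, ← LinearMap.comp_apply,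
      ← LinearMap.lTensor_comp]
    exact key i
  have h3 : (e1.toLinearMap.lTensor B) z = 0 := e3.injective (by rw [h2, map_zero])
  have h4 : Function.Injective (e1.toLinearMap.lTensor B) := by
    have : (e1.toLinearMap.lTensor B) = (e1.lTensor B).toLinearMap := rfl
    rw [this]
    exact (e1.lTensor B).injective
  exact h4 (by rw [h3, map_zero])

end

section main

variable {A B : Type u} [CommRing A] [CommRing B] [Algebra A B]

theorem smul_lTensor {M N : Type u} [AddCommGroup M] [Module A M] [AddCommGroup N] [Module A N]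
    (f : M →ₗ[A] N) (s : B) (y : B ⊗[A] M) : s • (f.lTensor B y) = f.lTensor B (s • y) := by
  induction y using TensorProduct.induction_on with
  | zero => simp
  | tmul x n => simp [TensorProduct.smul_tmul']
  | add x y hx hy => rw [smul_add, map_add, smul_add, map_add, hx, hy]

variable (𝔪 : Ideal A)

/-- the image of `B ⊗ 𝔞 J → B ⊗ J` lies in `𝔞 B • (B ⊗ J)` -/
theorem lTensor_inclusion_mem (𝔞 J : Ideal A) (y : B ⊗[A] (𝔞 * J : Ideal A)) :
    (Submodule.inclusion (Ideal.mul_le_right : 𝔞 * J ≤ J)).lTensor B y ∈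
      (𝔞.map (algebraMap A B)) • (⊤ : Submodule B (B ⊗[A] J)) := by
  induction y using TensorProduct.induction_on with
  | zero => simp
  | add x y hx hy => rw [map_add]; exact add_mem hx hy
  | tmul b j =>
    obtain ⟨j, hj⟩ := j
    rw [LinearMap.lTensor_tmul]
    have key : j ∈ 𝔞 * J ∧ ∀ hj' : j ∈ J, b ⊗ₜ[A] (⟨j, hj'⟩ : J) ∈
        (𝔞.map (algebraMap A B)) • (⊤ : Submodule B (B ⊗[A] J)) := by
      refine Submodule.mul_induction_on hj ?_ ?_
      · intro m hm n hn
        refine ⟨Ideal.mul_mem_mul hm hn, fun hj' => ?_⟩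
        have h1 : (⟨m * n, hj'⟩ : J) = m • (⟨n, hn⟩ : J) := rfl
        rw [h1, TensorProduct.tmul_smul, ← algebraMap_smul B m]
        exact Submodule.smul_mem_smul (Ideal.mem_map_of_mem _ hm) trivial
      · rintro x y ⟨hx1, hx2⟩ ⟨hy1, hy2⟩
        refine ⟨add_mem hx1 hy1, fun hj' => ?_⟩
        have hxJ : x ∈ J := Ideal.mul_le_right hx1
        have hyJ : y ∈ J := Ideal.mul_le_right hy1
        have h1 : (⟨x + y, hj'⟩ : J) = (⟨x, hxJ⟩ : J) + ⟨y, hyJ⟩ := rfl
        rw [h1, TensorProduct.tmul_add]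
        exact add_mem (hx2 hxJ) (hy2 hyJ)
    exact key.2 _

theorem lTensor_inclusion_comp {J₁ J₂ J₃ : Ideal A} (h12 : J₁ ≤ J₂) (h23 : J₂ ≤ J₃)
    (y : B ⊗[A] J₁) :
    (Submodule.inclusion (h12.trans h23)).lTensor B y =
      (Submodule.inclusion h23).lTensor B ((Submodule.inclusion h12).lTensor B y) := by
  rw [← LinearMap.comp_apply, ← LinearMap.lTensor_comp]
  rfl

/-- the filtration `𝔪^n I` -/
def fil (I : Ideal A) : ℕ → Ideal A
  | 0 => I
  | n + 1 => 𝔪 * fil I n

theorem fil_le (I : Ideal A) (n : ℕ) : fil 𝔪 I n ≤ I := by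
  induction n with
  | zero => exact le_rfl
  | succ n ih => exact (Ideal.mul_le_right).trans ih

theorem lTensor_fil_mem (I : Ideal A) (n : ℕ) (y : B ⊗[A] (fil 𝔪 I n)) :
    (Submodule.inclusion (fil_le 𝔪 I n)).lTensor B y ∈
      (𝔪.map (algebraMap A B)) ^ n • (⊤ : Submodule B (B ⊗[A] I)) := by
  induction n with
  | zero => rw [pow_zero, Ideal.one_eq_top, Submodule.top_smul]; trivial
  | succ n ih =>
    have h0 := lTensor_inclusion_comp (B := B) (J₁ := 𝔪 * fil 𝔪 I n) (J₂ := fil 𝔪 I n) (J₃ := I)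
      Ideal.mul_le_right (fil_le 𝔪 I n) y
    refine (congrArg (· ∈ (𝔪.map (algebraMap A B)) ^ (n + 1) •
      (⊤ : Submodule B (B ⊗[A] I))) h0).mpr ?_
    have h1 := lTensor_inclusion_mem (B := B) 𝔪 (fil 𝔪 I n) y
    rw [pow_succ', mul_smul]
    refine Submodule.smul_induction_on h1 ?_ ?_
    · intro r hr m _
      rw [← smul_lTensor]
      exact Submodule.smul_mem_smul hr (ih m)
    · intro x y hx hy
      rw [map_add]; exact add_mem hx hy

variable [h𝔪 : 𝔪.IsMaximal]

/-- one step of the descent along the filtration -/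
theorem step (hred : IsReduced (B ⧸ 𝔪.map (algebraMap A B)))
    (hflat : ∀ (P : Ideal B) (hP : P ∈ (𝔪.map (algebraMap A B)).minimalPrimes),
      haveI := hP.1.1; Module.Flat A (Localization.AtPrime P))
    (J : Ideal A) (y : B ⊗[A] J) (hy : (J.subtype.lTensor B) y = 0) :
    ∃ y' : B ⊗[A] (𝔪 * J : Ideal A),
      (Submodule.inclusion (Ideal.mul_le_right : 𝔪 * J ≤ J)).lTensor B y' = y := by
  let f : (𝔪 * J : Ideal A) →ₗ[A] J := Submodule.inclusion (Ideal.mul_le_right : 𝔪 * J ≤ J)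
  let g : J →ₗ[A] (J ⧸ LinearMap.range f) := (LinearMap.range f).mkQ
  have hex : Function.Exact f g := LinearMap.exact_map_mkQ_range f
  have hg : Function.Surjective g := Submodule.mkQ_surjective _
  have hex' := lTensor_exact B hex hg
  have hN : ∀ a ∈ 𝔪, ∀ n : J ⧸ LinearMap.range f, a • n = 0 := by
    intro a ha n
    obtain ⟨j, rfl⟩ := hg n
    rw [← map_smul]
    show g (a • j) = 0
    rw [hex]
    exact ⟨⟨a * j.1, Ideal.mul_mem_mul ha j.2⟩, rfl⟩
  have hz : g.lTensor B y = 0 := by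
    apply eq_zero_of_torsion 𝔪 hred _ hN
    intro P hP
    haveI := hP.1.1
    haveI := hflat P hP
    obtain ⟨s, hsP, hs⟩ := exists_smul_eq_zero_of_flat_localization J y hy P
    exact ⟨s, hsP, by rw [smul_lTensor, hs, map_zero]⟩
  exact (hex' y).1 hz

theorem exists_lift (hred : IsReduced (B ⧸ 𝔪.map (algebraMap A B)))
    (hflat : ∀ (P : Ideal B) (hP : P ∈ (𝔪.map (algebraMap A B)).minimalPrimes),
      haveI := hP.1.1; Module.Flat A (Localization.AtPrime P))
    (I : Ideal A) (x : B ⊗[A] I) (hx : (I.subtype.lTensor B) x = 0) (n : ℕ) :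
    ∃ y : B ⊗[A] (fil 𝔪 I n), (Submodule.inclusion (fil_le 𝔪 I n)).lTensor B y = x := by
  induction n with
  | zero =>
    refine ⟨x, ?_⟩
    have : Submodule.inclusion (fil_le 𝔪 I 0) = (LinearMap.id : I →ₗ[A] I) := by ext; rfl
    rw [this]
    exact LinearMap.congr_fun (LinearMap.lTensor_id B I) x
  | succ n ih =>
    obtain ⟨y, hy⟩ := ih
    have h1 : ((fil 𝔪 I n).subtype.lTensor B) y = 0 := by
      have : (fil 𝔪 I n).subtype = I.subtype ∘ₗ Submodule.inclusion (fil_le 𝔪 I n) := by ext; rfl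
      rw [this, LinearMap.lTensor_comp, LinearMap.comp_apply, hy, hx]
    obtain ⟨y', hy'⟩ := step 𝔪 hred hflat (fil 𝔪 I n) y h1
    refine ⟨y', ?_⟩
    have h0 := lTensor_inclusion_comp (B := B) (J₁ := 𝔪 * fil 𝔪 I n) (J₂ := fil 𝔪 I n) (J₃ := I)
      Ideal.mul_le_right (fil_le 𝔪 I n) y'
    refine h0.trans ?_
    rw [hy', hy]

/-- **(H)**: flatness over `A` of a Noetherian local `A`-algebra `B` whose fibre over the maximal
ideal `𝔪` is reduced, from flatness at the generic points of that fibre. -/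
theorem flat_of_flat_minimalPrimes [IsNoetherianRing B] [IsLocalRing B]
    (hloc : 𝔪.map (algebraMap A B) ≠ ⊤)
    (hred : IsReduced (B ⧸ 𝔪.map (algebraMap A B)))
    (hflat : ∀ (P : Ideal B) (hP : P ∈ (𝔪.map (algebraMap A B)).minimalPrimes),
      haveI := hP.1.1; Module.Flat A (Localization.AtPrime P)) :
    Module.Flat A B := by
  rw [Module.Flat.iff_lTensor_injective]
  intro I hI
  rw [injective_iff_map_eq_zero]
  intro x hx
  have : Module.Finite A I := Module.Finite.iff_fg.mpr hI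
  have hk := Ideal.iInf_pow_smul_eq_bot_of_isLocalRing (𝔪.map (algebraMap A B))
    (M := B ⊗[A] I) hloc
  have hmem : x ∈ (⨅ i : ℕ, (𝔪.map (algebraMap A B)) ^ i • ⊤ : Submodule B (B ⊗[A] I)) := by
    rw [Submodule.mem_iInf]
    intro n
    obtain ⟨y, hy⟩ := exists_lift 𝔪 hred hflat I x hx n
    rw [← hy]
    exact lTensor_fil_mem 𝔪 I n y
  rw [hk] at hmem
  exact hmem

end main

end Groth.Agent.Helper5.UOFlat
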