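import Mathlib
import Groth.Agent.Helper5.UOFlat1

/-!
# Flatness from flatness at the generic points of the reduced fibre, chart form
-/

set_option autoImplicit false
set_option linter.style.haveILetI false
universe u

namespace Groth.Agent.Helper5.UOFlat

open TensorProduct IsLocalRing

section

variable {A C A' B : Type u} [CommRing A] [CommRing C] [Algebra A C] [CommRing A'] [CommRing B]
  [IsLocalRing A'] [IsLocalRing B] [Algebra A A'] [Algebra C B] [Algebra A B] [IsScalarTower A C B]
  [Algebra A' B] [IsScalarTower A A' B] [IsLocalHom (algebraMap A' B)]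
  (q : Ideal C) [q.IsPrime] [IsLocalization.AtPrime B q]
  (p : Ideal A) [p.IsPrime] [IsLocalization.AtPrime A' p]

theorem flat_localization_congr {I J : Ideal C} [I.IsPrime] [J.IsPrime] (h : I = J)
    (hf : Module.Flat A (Localization.AtPrime I)) : Module.Flat A (Localization.AtPrime J) := by
  subst h; exact hf

include p in
theorem flat_of_flat_generic [IsNoetherianRing B] (hqp : q.comap (algebraMap A C) = p)
    (hredB : IsReduced (B ⧸ (maximalIdeal A').map (algebraMap A' B)))
    (hgen : ∀ (q' : Ideal C) [q'.IsPrime], q' ≤ q → q'.comap (algebraMap A C) = p →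
      (∀ q'' : Ideal C, q''.IsPrime → q'' ≤ q' → q''.comap (algebraMap A C) = p → q'' = q') →
      Module.Flat A (Localization.AtPrime q')) :
    Module.Flat A' B := by
  have hloc : (maximalIdeal A').map (algebraMap A' B) ≠ ⊤ := by
    have h1 : (maximalIdeal A').map (algebraMap A' B) ≤ maximalIdeal B :=
      ((local_hom_TFAE (algebraMap A' B)).out 0 2 rfl rfl).mp inferInstance
    exact fun h => (maximalIdeal.isMaximal B).ne_top (top_le_iff.1 (h ▸ h1))
  have h𝔪 : (maximalIdeal A').map (algebraMap A' B) =
      (p.map (algebraMap A C)).map (algebraMap C B) := by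
    rw [← IsLocalization.AtPrime.map_eq_maximalIdeal p A', Ideal.map_map, Ideal.map_map,
      ← IsScalarTower.algebraMap_eq, ← IsScalarTower.algebraMap_eq]
  refine flat_of_flat_minimalPrimes (maximalIdeal A') hloc hredB ?_
  intro P hP
  haveI hPp : P.IsPrime := hP.1.1
  let q' : Ideal C := P.comap (algebraMap C B)
  haveI : q'.IsPrime := Ideal.comap_isPrime _ _
  have hq'q : q' ≤ q := by
    rw [← IsLocalization.AtPrime.comap_maximalIdeal B q]
    exact Ideal.comap_mono (le_maximalIdeal hPp.ne_top)
  have hPq' : q'.map (algebraMap C B) = P := IsLocalization.map_comap q.primeCompl B P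
  have hpq' : p.map (algebraMap A C) ≤ q' := by
    rw [Ideal.map_le_iff_le_comap]
    intro a ha
    show algebraMap C B (algebraMap A C a) ∈ P
    apply hP.1.2
    rw [h𝔪]
    exact Ideal.mem_map_of_mem _ (Ideal.mem_map_of_mem _ ha)
  have hq'p : q'.comap (algebraMap A C) = p := by
    refine le_antisymm ?_ (Ideal.map_le_iff_le_comap.1 hpq')
    rw [← hqp]
    exact Ideal.comap_mono hq'q
  have hminq' : ∀ q'' : Ideal C, q''.IsPrime → q'' ≤ q' → q''.comap (algebraMap A C) = p →
      q'' = q' := by
    intro q'' hq''p hle hc
    have hdisj : Disjoint (q.primeCompl : Set C) (q'' : Set C) := by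
      rw [Set.disjoint_left]
      intro c hc1 hc2
      exact hc1 (hq'q (hle hc2))
    have hprime : (q''.map (algebraMap C B)).IsPrime :=
      IsLocalization.isPrime_of_isPrime_disjoint q.primeCompl B q'' hq''p hdisj
    have h1 : (maximalIdeal A').map (algebraMap A' B) ≤ q''.map (algebraMap C B) := by
      rw [h𝔪]
      apply Ideal.map_mono
      rw [Ideal.map_le_iff_le_comap, hc]
    have h2 : q''.map (algebraMap C B) ≤ P := by
      rw [← hPq']; exact Ideal.map_mono hle
    have h3 : P ≤ q''.map (algebraMap C B) := hP.2 ⟨hprime, h1⟩ h2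
    have h4 : q''.map (algebraMap C B) = P := le_antisymm h2 h3
    have h5 : (q''.map (algebraMap C B)).comap (algebraMap C B) = q'' :=
      IsLocalization.under_map_of_isPrime_disjoint q.primeCompl B hq''p hdisj
    rw [← h5, h4]
  have hfl : Module.Flat A (Localization.AtPrime q') := hgen q' hq'q hq'p hminq'
  haveI : IsLocalization.AtPrime (Localization.AtPrime P) q' :=
    IsLocalization.isLocalization_isLocalization_atPrime_isLocalization q.primeCompl
      (Localization.AtPrime P) P
  let eP : Localization.AtPrime q' ≃ₐ[C] Localization.AtPrime P :=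
    IsLocalization.algEquiv q'.primeCompl _ _
  haveI : IsScalarTower A C (Localization.AtPrime P) := by
    refine IsScalarTower.of_algebraMap_eq fun a => ?_
    rw [IsScalarTower.algebraMap_apply A B (Localization.AtPrime P),
      IsScalarTower.algebraMap_apply A C B,
      ← IsScalarTower.algebraMap_apply C B (Localization.AtPrime P)]
  have hfl2 : Module.Flat A (Localization.AtPrime P) :=
    Module.Flat.of_linearEquiv (eP.restrictScalars A).symm.toLinearEquiv
  haveI : IsScalarTower A A' (Localization.AtPrime P) := by
    refine IsScalarTower.of_algebraMap_eq fun a => ?_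
    rw [IsScalarTower.algebraMap_apply A B (Localization.AtPrime P),
      IsScalarTower.algebraMap_apply A A' B,
      ← IsScalarTower.algebraMap_apply A' B (Localization.AtPrime P)]
  exact (Module.flat_iff_of_isLocalization A' p.primeCompl (Localization.AtPrime P)).2 hfl2

end

end Groth.Agent.Helper5.UOFlat
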