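import Mathlib
import Groth.Prelude
import Groth.Agent.Helper5.UOFlat9
import Groth.Agent.Helper5.UOFlat10
import Groth.Agent.Helper4.GeomRedPt2
import Groth.Agent.Helper2.FlatLocusSch

/-!
# Flatness from universal openness at the generic points of a geometrically reduced fibre
-/

set_option autoImplicit false
set_option linter.style.haveILetI false
universe u

namespace Groth.Agent.Helper5.UOFlat

open TensorProduct IsLocalRing AlgebraicGeometry CategoryTheory CategoryTheory.Limits
  TopologicalSpace Opposite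

section

variable {X Y : Scheme.{u}} (f : X ⟶ Y)

theorem isReduced_fibStalk (x : X)
    (hred : FBase.IsGeomReducedAt (f.fiberToSpecResidueField (f x)) (f.asFiber x)) :
    _root_.IsReduced ((f.fiber (f x)).presheaf.stalk (f.asFiber x)) := by
  letI : Algebra (ResidueField (Y.presheaf.stalk (f x)))
      ((f.fiber (f x)).presheaf.stalk (f.asFiber x)) := (fibStr f x).toAlgebra
  have hgr : Algebra.IsGeometricallyReduced (ResidueField (Y.presheaf.stalk (f x)))
      ((f.fiber (f x)).presheaf.stalk (f.asFiber x)) :=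
    (Groth.Agent.Helper4.GeomRedPt.geomReducedAt_iff_stalk _ _ (fibStr f x)
      (specMap_fibStr f x)).1 hred
  exact Algebra.isReduced_of_isGeometricallyReduced (ResidueField (Y.presheaf.stalk (f x)))

theorem geomReducedAt_transport (y : Y) (w : ↥(f.fiber y))
    (h : FBase.IsGeomReducedAt (f.fiberToSpecResidueField y) w) :
    FBase.IsGeomReducedAt (f.fiberToSpecResidueField (f ((f.fiberι y) w)))
      (f.asFiber ((f.fiberι y) w)) := by
  have key : ∀ (y' : Y) (_ : y' = y) (w₁ : ↥(f.fiber y')),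
      (f.fiberι y') w₁ = (f.fiberι y) w →
      FBase.IsGeomReducedAt (f.fiberToSpecResidueField y') w₁ := by
    intro y' hy'
    subst hy'
    intro w₁ h1
    have : w₁ = w := (f.fiberι y').isEmbedding.injective h1
    rw [this]
    exact h
  exact key _ (Groth.Agent.Helper5.FibStalk.fiberι_apply f y w) _ (f.fiberι_asFiber _)

/-- **S2561** -/
theorem s2561 [IsLocallyNoetherian Y] [LocallyOfFiniteType f] (x : X)
    (hopen : ∀ z : ↥(f.fiber (f x)), f.asFiber x ∈ closure {z} →
      (∀ z' : ↥(f.fiber (f x)), z ∈ closure {z'} → z' = z) →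
      EGA43.IsUnivOpenAt f ((f.fiberι (f x)) z))
    (hred : FBase.IsGeomReducedAt (f.fiberToSpecResidueField (f x)) (f.asFiber x))
    (hy : _root_.IsReduced (Y.presheaf.stalk (f x))) :
    (f.stalkMap x).hom.Flat := by
  classical
  haveI : IsLocallyNoetherian X := LocallyOfFiniteType.isLocallyNoetherian f
  obtain ⟨U, hU, hfxU, -⟩ := (Opens.isBasis_iff_nbhd.1 Y.isBasis_affineOpens)
    (show f x ∈ (⊤ : Y.Opens) from trivial)
  obtain ⟨W, hW, hxW, e⟩ := (Opens.isBasis_iff_nbhd.1 X.isBasis_affineOpens)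
    (show x ∈ f ⁻¹ᵁ U from hfxU)
  let A := Γ(Y, U)
  let C := Γ(X, W)
  let A' := Y.presheaf.stalk (f x)
  let B := X.presheaf.stalk x
  letI : Algebra A' B := (f.stalkMap x).hom.toAlgebra
  haveI : IsLocalHom (algebraMap A' B) := inferInstanceAs (IsLocalHom (f.stalkMap x).hom)
  letI : Algebra A C := (f.appLE U W e).hom.toAlgebra
  letI : Algebra A A' := (Y.presheaf.germ U (f x) hfxU).hom.toAlgebra
  letI : Algebra C B := (X.presheaf.germ W x hxW).hom.toAlgebra
  letI : Algebra A B := ((algebraMap A' B).comp (algebraMap A A')).toAlgebra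
  haveI : IsScalarTower A A' B := IsScalarTower.of_algebraMap_eq fun _ => rfl
  haveI : IsScalarTower A C B := IsScalarTower.of_algebraMap_eq fun a =>
    (congrArg (fun φ => φ.hom a) (germ_appLE f U W e x hxW)).symm
  let q : Ideal C := (hW.primeIdealOf ⟨x, hxW⟩).asIdeal
  let p : Ideal A := (hU.primeIdealOf ⟨f x, hfxU⟩).asIdeal
  haveI : IsLocalization.AtPrime B q := hW.isLocalization_stalk ⟨x, hxW⟩
  haveI : IsLocalization.AtPrime A' p := hU.isLocalization_stalk ⟨f x, hfxU⟩
  have hqp : q.comap (algebraMap A C) = p :=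
    congr($(IsAffineOpen.comap_primeIdealOf_appLE U hU W hW e hxW).1)
  haveI : IsNoetherianRing B := inferInstance
  -- the fibre is reduced at `x`
  have hredB : _root_.IsReduced (B ⧸ (maximalIdeal A').map (algebraMap A' B)) := by
    haveI := isReduced_fibStalk f x hred
    have h1 : _root_.IsReduced (B ⧸ RingHom.ker (fibStalkMap f x).hom) :=
      isReduced_of_injective (RingHom.kerLift (fibStalkMap f x).hom)
        (RingHom.kerLift_injective _)
    have h2 : RingHom.ker (fibStalkMap f x).hom = (maximalIdeal A').map (algebraMap A' B) :=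
      ker_fibStalkMap f x
    exact h2 ▸ h1
  show Module.Flat A' B
  refine flat_of_flat_generic q p hqp hredB ?_
  intro q' _ hq'q hq'p hq'min
  -- the point of `X` given by `q'`
  let Q' : PrimeSpectrum C := ⟨q', inferInstance⟩
  let xP : X := hW.fromSpec Q'
  have hxPW : xP ∈ W := by
    have : xP ∈ Set.range hW.fromSpec := ⟨Q', rfl⟩
    rw [hW.range_fromSpec] at this
    exact this
  have hprime : ∀ (x₁ : X) (hx₁ : x₁ ∈ W), hW.fromSpec (hW.primeIdealOf ⟨x₁, hx₁⟩) = x₁ :=
    fun x₁ hx₁ => hW.fromSpec_primeIdealOf ⟨x₁, hx₁⟩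
  have hQ' : hW.primeIdealOf ⟨xP, hxPW⟩ = Q' :=
    hW.fromSpec.isEmbedding.injective (hprime xP hxPW)
  have hxPx : xP ⤳ x := by
    have h1 : Q' ⤳ hW.primeIdealOf ⟨x, hxW⟩ :=
      (PrimeSpectrum.le_iff_specializes Q' (hW.primeIdealOf ⟨x, hxW⟩)).1 hq'q
    have h2 := h1.map hW.fromSpec.continuous
    rwa [hprime x hxW] at h2
  have hfib : ∀ (x₁ : X) (hx₁ : x₁ ∈ W),
      (hW.primeIdealOf ⟨x₁, hx₁⟩).asIdeal.comap (algebraMap A C) = p → f x₁ = f x := by
    intro x₁ hx₁ h
    have h1 := IsAffineOpen.comap_primeIdealOf_appLE U hU W hW e hx₁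
    have h2 : hU.primeIdealOf ⟨f x₁, e hx₁⟩ = hU.primeIdealOf ⟨f x, hfxU⟩ := by
      rw [← h1]
      exact PrimeSpectrum.ext h
    have h3 := congrArg hU.fromSpec h2
    rwa [hU.fromSpec_primeIdealOf, hU.fromSpec_primeIdealOf] at h3
  have hfxP : f xP = f x := by
    apply hfib xP hxPW
    rw [hQ']; exact hq'p
  have hmaxP : ∀ x'' : X, x'' ⤳ xP → f x'' = f xP → x'' = xP := by
    intro x'' hsp hf''
    have hx''W : x'' ∈ W := hsp.mem_open W.2 hxPW
    have hle : (hW.primeIdealOf ⟨x'', hx''W⟩).asIdeal ≤ q' := by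
      have h1 : (⟨x'', hx''W⟩ : W) ⤳ ⟨xP, hxPW⟩ := (subtype_specializes_iff _ _).mpr hsp
      have h2 : hW.primeIdealOf ⟨x'', hx''W⟩ ⤳ hW.primeIdealOf ⟨xP, hxPW⟩ :=
        h1.map hW.isoSpec.hom.continuous
      rw [hQ'] at h2
      exact (PrimeSpectrum.le_iff_specializes _ _).mpr h2
    have hc : (hW.primeIdealOf ⟨x'', hx''W⟩).asIdeal.comap (algebraMap A C) = p := by
      have h1 := IsAffineOpen.comap_primeIdealOf_appLE U hU W hW e hx''W
      have h2 : hU.primeIdealOf ⟨f x'', e hx''W⟩ = hU.primeIdealOf ⟨f x, hfxU⟩ := by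
        congr 1
        exact Subtype.ext (hf''.trans hfxP)
      rw [h2] at h1
      exact congr($(h1).1)
    have h3 := hq'min _ (hW.primeIdealOf ⟨x'', hx''W⟩).isPrime hle hc
    have h4 : hW.primeIdealOf ⟨x'', hx''W⟩ = Q' := PrimeSpectrum.ext h3
    rw [← hprime x'' hx''W, h4]
  -- the corresponding point of the fibre
  have hmem : xP ∈ Set.range (f.fiberι (f x)) := by
    rw [Scheme.Hom.range_fiberι]; exact hfxP
  obtain ⟨z, hz⟩ := hmem
  have hemb := (f.fiberι (f x)).isEmbedding
  have hzsp : z ⤳ f.asFiber x := by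
    rw [← hemb.specializes_iff, hz, Scheme.Hom.fiberι_asFiber]
    exact hxPx
  have hzmax : ∀ z' : ↥(f.fiber (f x)), z ∈ closure {z'} → z' = z := by
    intro z' hz'
    have h1 : z' ⤳ z := specializes_iff_mem_closure.2 hz'
    have h2 : (f.fiberι (f x)) z' ⤳ xP := hz ▸ h1.map (f.fiberι (f x)).continuous
    have h3 : f ((f.fiberι (f x)) z') = f xP :=
      (Groth.Agent.Helper5.FibStalk.fiberι_apply f (f x) z').trans hfxP.symm
    have h4 := hmaxP _ h2 h3
    exact hemb.injective (h4.trans hz.symm)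
  have hopenP : EGA43.IsUnivOpenAt f xP :=
    hz ▸ hopen z (specializes_iff_mem_closure.1 hzsp) hzmax
  have hredz : FBase.IsGeomReducedAt (f.fiberToSpecResidueField (f x)) z :=
    Groth.Agent.Helper4.GeomRedPt2.geomReducedAt_of_specializes _ _ z hzsp hred
  have hredP : FBase.IsGeomReducedAt (f.fiberToSpecResidueField (f xP)) (f.asFiber xP) := by
    have h1 := geomReducedAt_transport f (f x) z hredz
    let Pr : X → Prop := fun x₁ =>
      FBase.IsGeomReducedAt (f.fiberToSpecResidueField (f x₁)) (f.asFiber x₁)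
    have h2 : Pr ((f.fiberι (f x)) z) := h1
    have h3 : Pr xP := hz ▸ h2
    exact h3
  have hyP : _root_.IsReduced (Y.presheaf.stalk (f xP)) := by
    let Pr : Y → Prop := fun y₁ => _root_.IsReduced (Y.presheaf.stalk y₁)
    have h2 : Pr (f x) := hy
    have h3 : Pr (f xP) := hfxP.symm ▸ h2
    exact h3
  have hflatP := flat_stalkMap_of_maximal f xP hmaxP hopenP hredP hyP
  have h5 := (Groth.Agent.Helper2.FlatLocusSch.flat_stalkMap_iff f hU hW e xP hxPW).1 hflatP
  have h6 := (Groth.Agent.Helper2.FlatLocusSch.flat_localization_iff A C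
    (hW.primeIdealOf ⟨xP, hxPW⟩).asIdeal).2 h5
  exact flat_localization_congr (congrArg PrimeSpectrum.asIdeal hQ') h6

end

end Groth.Agent.Helper5.UOFlat
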