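import Mathlib
import Groth.Prelude
import Groth.Agent.Helper5.UOFlat9
import Groth.Agent.Helper5.UOFlat14

/-!
# Flatness and reducedness at a maximal point of a fibre
-/

set_option autoImplicit false
set_option linter.style.haveILetI false
universe u

namespace Groth.Agent.Helper5.UOFlat

open TensorProduct IsLocalRing AlgebraicGeometry CategoryTheory CategoryTheory.Limits
  TopologicalSpace Opposite

section

variable {X Y : Scheme.{u}} (f : X ⟶ Y)

/-- **Step 1**: at a maximal point of its fibre at which `f` is universally open and the fibre is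
geometrically reduced, over a reduced local ring, `f` is flat. -/
theorem flat_reduced_of_maximal [IsLocallyNoetherian Y] [LocallyOfFiniteType f] (x : X)
    (hmax : ∀ x' : X, x' ⤳ x → f x' = f x → x' = x)
    (hopen : EGA43.IsUnivOpenAt f x)
    (hred : FBase.IsGeomReducedAt (f.fiberToSpecResidueField (f x)) (f.asFiber x))
    (hy : _root_.IsReduced (Y.presheaf.stalk (f x))) :
    (f.stalkMap x).hom.Flat ∧ _root_.IsReduced (X.presheaf.stalk x) := by
  classical
  obtain ⟨hmaxI, hgr⟩ := fib_package f x hmax hred
  let A' := Y.presheaf.stalk (f x)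
  let B := X.presheaf.stalk x
  letI : Algebra A' B := (f.stalkMap x).hom.toAlgebra
  haveI : IsLocalHom (algebraMap A' B) := inferInstanceAs (IsLocalHom (f.stalkMap x).hom)
  let k := ResidueField A'
  let K := ResidueField B
  haveI : Algebra.IsGeometricallyReduced k K := hgr rfl
  haveI : Algebra.EssFiniteType k K := essFiniteType_residueField f x rfl
  haveI : Algebra.FormallySmooth k K :=
    Groth.Agent.Helper1.FieldSmooth.formallySmooth_iff_isGeometricallyReduced.2 inferInstance
  obtain ⟨s, hs1, hs2⟩ :=
    Groth.Agent.Helper4.SepGen.exists_finset_sepBasis_of_formallySmooth (k := k) (K := K)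
  -- lift to germs
  have hb : ∀ i : s, ∃ b : B, residue B b = i.1 := fun i => residue_surjective _
  choose b hb using hb
  obtain ⟨U, hU, hfxU, -⟩ := (Opens.isBasis_iff_nbhd.1 Y.isBasis_affineOpens)
    (show f x ∈ (⊤ : Y.Opens) from trivial)
  obtain ⟨W, hW, hxW, e, t, ht⟩ := exists_chart_sections x (f ⁻¹ᵁ U) hfxU b
  let A := Γ(Y, U)
  let C := Γ(X, W)
  letI : Algebra A C := (f.appLE U W e).hom.toAlgebra
  letI : Algebra A A' := (Y.presheaf.germ U (f x) hfxU).hom.toAlgebra
  letI : Algebra C B := (X.presheaf.germ W x hxW).hom.toAlgebra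
  letI : Algebra A B := ((algebraMap A' B).comp (algebraMap A A')).toAlgebra
  haveI : IsScalarTower A A' B := IsScalarTower.of_algebraMap_eq fun _ => rfl
  haveI : IsScalarTower A C B := IsScalarTower.of_algebraMap_eq fun a =>
    (congrArg (fun φ => φ.hom a) (germ_appLE f U W e x hxW)).symm
  let q : Ideal C := (hW.primeIdealOf ⟨x, hxW⟩).asIdeal
  let p : Ideal A := (hU.primeIdealOf ⟨f x, hfxU⟩).asIdeal
  haveI : IsLocalization.AtPrime B q := hW.isLocalization_stalk ⟨x, hxW⟩
  haveI : IsLocalization.AtPrime A' p := hU.isLocalization_stalk ⟨f x, hfxU⟩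
  have hqp : q.comap (algebraMap A C) = p :=
    congr($(IsAffineOpen.comap_primeIdealOf_appLE U hU W hW e hxW).1)
  haveI : IsNoetherianRing A := IsLocallyNoetherian.component_noetherian ⟨U, hU⟩
  haveI : Algebra.FiniteType A C :=
    HasRingHomProperty.appLE @LocallyOfFiniteType f inferInstance ⟨U, hU⟩ ⟨W, hW⟩ e
  haveI : _root_.IsReduced A' := hy
  have hT : tbar (B := B) t = ((↑) : s → K) := by
    funext i
    show residue B (algebraMap C B (t i)) = i.1
    rw [← hb i, ← ht i]
    rfl
  have hind : AlgebraicIndependent k (tbar (B := B) t) := by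
    rw [hT]; exact hs1.1
  have hsep : Algebra.IsSeparable
      (IntermediateField.adjoin k (Set.range (tbar (B := B) t))) K := by
    have aux : ∀ S : Set K, S = (s : Set K) →
        Algebra.IsSeparable (IntermediateField.adjoin k S) K := by
      intro S hS; subst hS; exact hs2
    exact aux _ (by rw [hT, Subtype.range_coe])
  have hmaxI' : (maximalIdeal A').map (algebraMap A' B) = maximalIdeal B := hmaxI
  have hflat : Module.Flat A B ∧ _root_.IsReduced B := by
    refine flat_reduced_of_sepBasis (A' := A') (B := B) q p t hqp hind hsep hmaxI' ?_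
    intro g hg V _ _ _ _ 𝔮 _ h1 h2
    let Cg := Localization.Away g
    have hdisj : Disjoint (Submonoid.powers g : Set C) (q : Set C) := by
      rw [Set.disjoint_left]
      rintro _ ⟨n, rfl⟩ hn
      exact hg (Ideal.IsPrime.mem_of_pow_mem inferInstance n hn)
    haveI hq₁ : (q.map (algebraMap C Cg)).IsPrime :=
      IsLocalization.isPrime_of_isPrime_disjoint (Submonoid.powers g) Cg q inferInstance hdisj
    have hq₁c : (q.map (algebraMap C Cg)).comap (algebraMap C Cg) = q :=
      IsLocalization.under_map_of_isPrime_disjoint (Submonoid.powers g) Cg inferInstance hdisj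
    let x' : Spec (CommRingCat.of Cg) := (⟨q.map (algebraMap C Cg), hq₁⟩ : PrimeSpectrum Cg)
    haveI : Algebra.FiniteType A Cg :=
      Algebra.FiniteType.trans (inferInstance : Algebra.FiniteType A C)
        (inferInstance : Algebra.FiniteType C Cg)
    let f' : Spec (CommRingCat.of Cg) ⟶ Spec (CommRingCat.of A) :=
      Spec.map (CommRingCat.ofHom (algebraMap A Cg))
    let i : Spec (CommRingCat.of Cg) ⟶ X :=
      Spec.map (CommRingCat.ofHom (algebraMap C Cg)) ≫ hW.fromSpec
    let j : Spec (CommRingCat.of A) ⟶ Y := hU.fromSpec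
    have sq : f' ≫ j = i ≫ f := by
      have h1 : CommRingCat.ofHom (algebraMap A Cg) =
          f.appLE U W e ≫ CommRingCat.ofHom (algebraMap C Cg) := by
        ext a
        exact IsScalarTower.algebraMap_apply A C Cg a
      show Spec.map (CommRingCat.ofHom (algebraMap A Cg)) ≫ hU.fromSpec =
        (Spec.map (CommRingCat.ofHom (algebraMap C Cg)) ≫ hW.fromSpec) ≫ f
      rw [h1, Spec.map_comp, Category.assoc, Category.assoc,
        IsAffineOpen.SpecMap_appLE_fromSpec f hU hW e]
    have hix : i x' = x := by
      show hW.fromSpec ((Spec.map (CommRingCat.ofHom (algebraMap C Cg))) x') = x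
      have h1 : (Spec.map (CommRingCat.ofHom (algebraMap C Cg))) x' =
          hW.primeIdealOf ⟨x, hxW⟩ := PrimeSpectrum.ext hq₁c
      rw [h1]
      exact hW.fromSpec_primeIdealOf ⟨x, hxW⟩
    have hopen' : EGA43.IsUnivOpenAt f' x' :=
      Groth.Agent.Helper5.SecNb.isUnivOpenAt_of_square f f' i j sq x' (hix ▸ hopen)
    have hred' : Groth.Agent.Helper5.SecNb.URed f' x' :=
      Groth.Agent.Helper5.SecNb.uRed_of_square f f' i j sq x'
        (hix ▸ Groth.Agent.Helper5.SecNb.URed.of_geomReducedAt f x hred)
    have hmaxpt : ∀ w : Spec (CommRingCat.of Cg), w ⤳ x' → f' w = f' x' → w = x' := by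
      intro w hw hfw
      have h1 : i w ⤳ x := hix ▸ hw.map i.continuous
      have h2 : f (i w) = f x := by
        have e1 := fun y => congrArg (fun ψ : Spec (CommRingCat.of Cg) ⟶ Y => ψ y) sq
        simp only [Scheme.Hom.comp_apply] at e1
        rw [← e1, hfw, e1, hix]
      have h3 := hmax _ h1 h2
      exact i.isEmbedding.injective (h3.trans hix.symm)
    exact h3_of_isUnivOpenAt x' hopen' hred' hmaxpt V 𝔮 h1 h2
  exact ⟨(Module.flat_iff_of_isLocalization A' p.primeCompl B).2 hflat.1, hflat.2⟩

end

end Groth.Agent.Helper5.UOFlat
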