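import Mathlib
import Groth.Agent.Helper5.UOFlat1

/-!
# Torsion-freeness along the generic points of a reduced closed fibre, for flat algebras
-/

set_option autoImplicit false
set_option linter.style.haveILetI false
universe u

namespace Groth.Agent.Helper5.UOFlat

open TensorProduct

section

variable {A B : Type u} [CommRing A] [CommRing B] [Algebra A B] (𝔪 : Ideal A)

/-- the property of Lemma T for a module `N` -/
def TorsFree (N : Type u) [AddCommGroup N] [Module A N] : Prop :=
  ∀ z : B ⊗[A] N, (∀ P ∈ (𝔪.map (algebraMap A B)).minimalPrimes, ∃ s : B, s ∉ P ∧ s • z = 0) →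
    z = 0

theorem TorsFree.of_exact [Module.Flat A B] {N' N N'' : Type u} [AddCommGroup N'] [Module A N']
    [AddCommGroup N] [Module A N] [AddCommGroup N''] [Module A N''] (f : N' →ₗ[A] N)
    (g : N →ₗ[A] N'') (hf : Function.Injective f) (hex : Function.Exact f g)
    (hg : Function.Surjective g) (h' : TorsFree (B := B) 𝔪 N') (h'' : TorsFree (B := B) 𝔪 N'') :
    TorsFree (B := B) 𝔪 N := by
  intro z hz
  have h1 : g.lTensor B z = 0 := by
    apply h''
    intro P hP
    obtain ⟨s, hsP, hs⟩ := hz P hP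
    exact ⟨s, hsP, by rw [smul_lTensor, hs, map_zero]⟩
  obtain ⟨z', rfl⟩ := (lTensor_exact B hex hg z).1 h1
  have hinj : Function.Injective (f.lTensor B) :=
    Module.Flat.lTensor_preserves_injective_linearMap f hf
  have h2 : z' = 0 := by
    apply h'
    intro P hP
    obtain ⟨s, hsP, hs⟩ := hz P hP
    refine ⟨s, hsP, hinj ?_⟩
    rw [← smul_lTensor, hs, map_zero]
  rw [h2, map_zero]

variable [h𝔪 : 𝔪.IsMaximal]

theorem torsFree_quot_pow [Module.Flat A B] (hred : IsReduced (B ⧸ 𝔪.map (algebraMap A B)))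
    (n : ℕ) : TorsFree (B := B) 𝔪 (A ⧸ 𝔪 ^ n) := by
  induction n with
  | zero =>
    intro z hz
    refine eq_zero_of_torsion 𝔪 hred _ ?_ z hz
    intro a _ x
    haveI : Subsingleton (A ⧸ 𝔪 ^ 0) := by
      rw [pow_zero, Ideal.one_eq_top]
      exact Ideal.Quotient.subsingleton_iff.2 rfl
    exact Subsingleton.elim _ _
  | succ n ih =>
    have hle : 𝔪 ^ (n + 1) ≤ 𝔪 ^ n := Ideal.pow_le_pow_right (Nat.le_succ n)
    let g : (A ⧸ 𝔪 ^ (n + 1)) →ₗ[A] (A ⧸ 𝔪 ^ n) :=
      Submodule.mapQ (𝔪 ^ (n + 1)) (𝔪 ^ n) LinearMap.id hle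
    have hg : Function.Surjective g := by
      intro x
      obtain ⟨a, rfl⟩ := Submodule.mkQ_surjective _ x
      exact ⟨Submodule.mkQ _ a, rfl⟩
    let f : LinearMap.ker g →ₗ[A] (A ⧸ 𝔪 ^ (n + 1)) := (LinearMap.ker g).subtype
    have hex : Function.Exact f g := LinearMap.exact_subtype_ker_map g
    have hker : TorsFree (B := B) 𝔪 (LinearMap.ker g) := by
      intro z hz
      refine eq_zero_of_torsion 𝔪 hred _ ?_ z hz
      rintro a ha ⟨x, hx⟩
      apply Subtype.ext
      show a • x = 0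
      obtain ⟨c, rfl⟩ := Submodule.mkQ_surjective _ x
      have hc : c ∈ 𝔪 ^ n := by
        have h1 : g (Submodule.mkQ _ c) = 0 := hx
        have h2 : g (Submodule.mkQ _ c) = Submodule.mkQ (𝔪 ^ n) c := rfl
        rw [h2] at h1
        exact (Submodule.Quotient.mk_eq_zero _).1 h1
      rw [← map_smul]
      refine (Submodule.Quotient.mk_eq_zero _).2 ?_
      rw [smul_eq_mul, pow_succ']
      exact Ideal.mul_mem_mul ha hc
    exact TorsFree.of_exact 𝔪 f g (Submodule.subtype_injective _) hex hg hker ih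

/-- **Lemma R**: for `B` flat over `A` with reduced closed fibre, an element of `B` killed by an
element outside each minimal prime of `𝔪 B` is zero. -/
theorem eq_zero_of_torsion_flat [IsNoetherianRing B] [IsLocalRing B] [Module.Flat A B]
    (hloc : 𝔪.map (algebraMap A B) ≠ ⊤) (hred : IsReduced (B ⧸ 𝔪.map (algebraMap A B)))
    (b : B) (hb : ∀ P ∈ (𝔪.map (algebraMap A B)).minimalPrimes, ∃ s : B, s ∉ P ∧ s * b = 0) :
    b = 0 := by
  have hk := Ideal.iInf_pow_eq_bot_of_isLocalRing (𝔪.map (algebraMap A B)) hloc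
  have hmem : b ∈ ⨅ i : ℕ, (𝔪.map (algebraMap A B)) ^ i := by
    rw [Ideal.mem_iInf]
    intro n
    let e := Algebra.TensorProduct.quotIdealMapEquivTensorQuot B (𝔪 ^ n)
    have h1 : e (Ideal.Quotient.mk _ b) = 0 := by
      apply torsFree_quot_pow 𝔪 hred n
      intro P hP
      obtain ⟨s, hsP, hs⟩ := hb P hP
      refine ⟨s, hsP, ?_⟩
      rw [← map_smul, Algebra.smul_def, Ideal.Quotient.algebraMap_eq, ← map_mul, hs, map_zero,
        map_zero]
    have h2 : Ideal.Quotient.mk ((𝔪 ^ n).map (algebraMap A B)) b = 0 :=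
      e.injective (by rw [h1, map_zero])
    rw [Ideal.Quotient.eq_zero_iff_mem, Ideal.map_pow] at h2
    exact h2
  rw [hk] at hmem
  exact hmem

end

end Groth.Agent.Helper5.UOFlat
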