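import Mathlib
import Groth.Prelude
import Groth.Agent.Helper5.FibPropA
import Groth.Agent.Helper5.RegLoc3
import Groth.Agent.Helper5.SpecFib2
import Groth.Agent.Helper3.GRO6
import Groth.Agent.Lead.FD15

/-!
# FibPropC: openness of fibrewise properties on the flat locus, from the Noetherian ring case
-/

set_option autoImplicit false
set_option linter.style.haveILetI false
set_option linter.unusedSectionVars false
set_option linter.unusedVariables false
universe u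

namespace Groth.Agent.Helper5.FibProp

open CategoryTheory CategoryTheory.Limits AlgebraicGeometry TopologicalSpace Topology TensorProduct
open IsLocalRing

variable (Pr : LocProp.{u})

/-- the ring-level openness statement over Noetherian bases -/
def RingOpen : Prop :=
  ∀ (A B : Type u) [CommRing A] [CommRing B] [IsNoetherianRing A] [Algebra A B]
    [Algebra.FiniteType A B] [Module.Flat A B],
    IsOpen {q : PrimeSpectrum B | Pr.P (EGA4.FibLocRing A B q.asIdeal)}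

/-- precomposition with an open immersion -/
theorem fibAt_openImmersion_comp {T X Y : Scheme.{u}} (j : T ⟶ X) [IsOpenImmersion j] (f : X ⟶ Y)
    (w : T) : FibAt Pr (j ≫ f) w ↔ FibAt Pr f (j w) := by
  obtain ⟨e⟩ := Groth.Agent.Helper5.SpecFib.fibre_stalk_openImmersion_comp j f w
  exact Pr.iso_iff _ _ e

/-- the spectrum of a ring map -/
theorem fibAt_spec_iff (A B : Type u) [CommRing A] [CommRing B] [Algebra A B]
    (q : PrimeSpectrum B) :
    FibAt Pr (Spec.map (CommRingCat.ofHom (algebraMap A B))) q ↔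
      Pr.P (EGA4.FibLocRing A B q.asIdeal) := by
  obtain ⟨e⟩ := Groth.Agent.Helper5.RegLoc.fibLocRing_equiv_fibre_stalk A B q
  exact (Pr.iso_iff _ _ e).symm

set_option maxHeartbeats 1000000 in
/-- the affine Noetherian case -/
theorem isOpen_fibAt_of_noetherian (hN : RingOpen Pr) {X Y : Scheme.{u}} [IsAffine X] [IsAffine Y]
    [IsNoetherianRing Γ(Y, ⊤)] (f : X ⟶ Y) [Flat f] [LocallyOfFiniteType f] :
    IsOpen {x : X | FibAt Pr f x} := by
  have h1 : f.appTop.hom.FiniteType :=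
    (HasRingHomProperty.iff_of_isAffine (P := @LocallyOfFiniteType)).mp inferInstance
  have h2 : f.appTop.hom.Flat :=
    (HasRingHomProperty.iff_of_isAffine (P := @Flat)).mp inferInstance
  algebraize [f.appTop.hom]
  have hsq : IsPullback X.isoSpec.hom f (Spec.map (CommRingCat.ofHom (algebraMap Γ(Y, ⊤) Γ(X, ⊤))))
      Y.isoSpec.hom := by
    have : CommRingCat.ofHom (algebraMap Γ(Y, ⊤) Γ(X, ⊤)) = f.appTop := rfl
    rw [this]
    exact IsPullback.of_horiz_isIso ⟨Scheme.isoSpec_hom_naturality f⟩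
  haveI : LocallyOfFiniteType (Spec.map (CommRingCat.ofHom (algebraMap Γ(Y, ⊤) Γ(X, ⊤)))) := by
    rw [HasRingHomProperty.Spec_iff (P := @LocallyOfFiniteType)]
    exact RingHom.finiteType_algebraMap.2 inferInstance
  have hEq : {x : X | FibAt Pr f x} = X.isoSpec.hom ⁻¹'
      {q : PrimeSpectrum Γ(X, ⊤) | Pr.P (EGA4.FibLocRing Γ(Y, ⊤) Γ(X, ⊤) q.asIdeal)} := by
    ext x
    show FibAt Pr f x ↔ Pr.P (EGA4.FibLocRing Γ(Y, ⊤) Γ(X, ⊤)
      (show PrimeSpectrum Γ(X, ⊤) from X.isoSpec.hom x).asIdeal)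
    rw [fibAt_baseChange_iff Pr _ f X.isoSpec.hom Y.isoSpec.hom hsq x]
    exact fibAt_spec_iff Pr Γ(Y, ⊤) Γ(X, ⊤) (X.isoSpec.hom x)
  rw [hEq]
  exact (hN Γ(Y, ⊤) Γ(X, ⊤)).preimage X.isoSpec.hom.continuous

set_option maxHeartbeats 1000000 in
/-- **openness for flat morphisms locally of finite presentation** -/
theorem isOpen_fibAt_of_flat (hN : RingOpen Pr) {X Y : Scheme.{u}} (f : X ⟶ Y) [Flat f]
    [LocallyOfFinitePresentation f] : IsOpen {x : X | FibAt Pr f x} := by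
  rw [isOpen_iff_forall_mem_open]
  intro x hx
  obtain ⟨_, ⟨V, hV, rfl⟩, hxV, -⟩ :=
    Y.isBasis_affineOpens.exists_subset_of_mem_open (Set.mem_univ (f.base x)) isOpen_univ
  let Vo : Y.Opens := V
  obtain ⟨_, ⟨U, hU, rfl⟩, hxU, hUV⟩ :=
    X.isBasis_affineOpens.exists_subset_of_mem_open (show x ∈ (f ⁻¹ᵁ Vo : Set X) from hxV)
      (f ⁻¹ᵁ Vo).isOpen
  let Uo : X.Opens := U
  have e : Uo ≤ f ⁻¹ᵁ Vo := hUV
  haveI : IsAffine (Uo : Scheme.{u}) := hU
  haveI : IsAffine (Vo : Scheme.{u}) := hV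
  let fU : (Uo : Scheme.{u}) ⟶ (Vo : Scheme.{u}) := f.resLE Vo Uo e
  have hfU : fU ≫ Vo.ι = Uo.ι ≫ f := Scheme.Hom.resLE_comp_ι f e
  haveI : Flat fU := inferInstance
  haveI : LocallyOfFinitePresentation fU := inferInstance
  obtain ⟨X₀, S₀, f₀, g, g', hX₀, hS₀, hpb, hft, hf₀ft, hf₀fl⟩ :=
    Groth.Agent.Lead.FD15.noetherian_approximation_flat fU
  haveI := hX₀
  haveI := hS₀
  haveI := hf₀ft
  haveI := hf₀fl
  haveI : IsNoetherianRing Γ(S₀, ⊤) := Algebra.FiniteType.isNoetherianRing ℤ _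
  have h0 : IsOpen {x : X₀ | FibAt Pr f₀ x} := isOpen_fibAt_of_noetherian Pr hN f₀
  have h1 : {x' : ↥(Uo : Scheme.{u}) | FibAt Pr fU x'} = g'.base ⁻¹' {x : X₀ | FibAt Pr f₀ x} := by
    ext x'
    exact fibAt_baseChange_iff Pr f₀ fU g' g hpb x'
  have h2 : IsOpen {x' : ↥(Uo : Scheme.{u}) | FibAt Pr fU x'} := by
    rw [h1]; exact h0.preimage g'.continuous
  have hsq : IsPullback (𝟙 (Uo : Scheme.{u})) fU (fU ≫ Vo.ι) Vo.ι := by
    have := (IsPullback.id_horiz fU).paste_vert (IsKernelPair.id_of_mono Vo.ι)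
    simpa using this
  haveI : LocallyOfFiniteType (fU ≫ Vo.ι) := inferInstance
  have h3 : ∀ x' : ↥(Uo : Scheme.{u}), FibAt Pr fU x' ↔ FibAt Pr f (Uo.ι.base x') := by
    intro x'
    have h4 := fibAt_baseChange_iff Pr (fU ≫ Vo.ι) fU (𝟙 _) Vo.ι hsq x'
    have h5 := fibAt_openImmersion_comp Pr Uo.ι f x'
    rw [← hfU] at h5
    rw [h4]
    exact h5
  refine ⟨Uo.ι.base '' {x' : ↥(Uo : Scheme.{u}) | FibAt Pr fU x'}, ?_,
    Uo.ι.isOpenEmbedding.isOpenMap _ h2, ⟨⟨x, hxU⟩, ?_, rfl⟩⟩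
  · rintro _ ⟨x', hx', rfl⟩
    exact (h3 x').1 hx'
  · exact (h3 ⟨x, hxU⟩).2 hx

/-- **openness on the flat locus** -/
theorem isOpen_flat_inter_fibAt (hN : RingOpen Pr) {X Y : Scheme.{u}} (f : X ⟶ Y)
    [LocallyOfFinitePresentation f] :
    IsOpen {x : X | (f.stalkMap x).hom.Flat ∧ FibAt Pr f x} := by
  have hfl := Groth.Agent.Helper2.FlatLocusSch.isOpen_flat_locus f
  let Uo : X.Opens := ⟨_, hfl⟩
  haveI : Flat (Uo.ι ≫ f) := by
    rw [Flat.iff_flat_stalkMap]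
    intro x'
    rw [Groth.Agent.Helper3.GRO.flat_stalkMap_comp_iff]
    exact x'.2
  haveI : LocallyOfFinitePresentation (Uo.ι ≫ f) := inferInstance
  have h1 : IsOpen {w : ↥(Uo : Scheme.{u}) | FibAt Pr (Uo.ι ≫ f) w} :=
    isOpen_fibAt_of_flat Pr hN (Uo.ι ≫ f)
  have h2 : {x : X | (f.stalkMap x).hom.Flat ∧ FibAt Pr f x} =
      Uo.ι.base '' {w : ↥(Uo : Scheme.{u}) | FibAt Pr (Uo.ι ≫ f) w} := by
    ext x
    constructor
    · rintro ⟨hx1, hx2⟩
      exact ⟨⟨x, hx1⟩, (fibAt_openImmersion_comp Pr Uo.ι f ⟨x, hx1⟩).2 hx2, rfl⟩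
    · rintro ⟨x', hx', rfl⟩
      exact ⟨x'.2, (fibAt_openImmersion_comp Pr Uo.ι f x').1 hx'⟩
  rw [h2]
  exact Uo.ι.isOpenEmbedding.isOpenMap _ h1

end Groth.Agent.Helper5.FibProp
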