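import Mathlib
import Groth.Prelude
import Groth.Agent.Helper5.FibPropB
import Groth.Agent.Helper5.FibPropC
import Groth.Agent.Helper5.FibPdF

/-!
# FibPropD: openness of the fibrewise codepth loci (S5922)
-/

set_option autoImplicit false
set_option linter.style.haveILetI false
set_option linter.unusedSectionVars false
set_option linter.unusedVariables false
universe u

namespace Groth.Agent.Helper5.FibProp

open CategoryTheory CategoryTheory.Limits AlgebraicGeometry TopologicalSpace Topology TensorProduct
open IsLocalRing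

/-- the local rings of the fibres of a morphism locally of finite type are Noetherian -/
theorem noeth_fibre_stalk {X Y : Scheme.{u}} (f : X ⟶ Y) [LocallyOfFiniteType f] (y : Y)
    (z : ↥(f.fiber y)) : IsNoetherianRing ((f.fiber y).presheaf.stalk z) := by
  haveI hft : LocallyOfFiniteType (f.fiberToSpecResidueField y) :=
    inferInstanceAs (LocallyOfFiniteType (Limits.pullback.snd f (Y.fromSpecResidueField y)))
  haveI hFN : IsLocallyNoetherian (f.fiber y) :=
    LocallyOfFiniteType.isLocallyNoetherian (f.fiberToSpecResidueField y)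
  infer_instance

theorem ringOpen_codLE (n : ℕ) : RingOpen (codLE.{u} n) := by
  intro A B _ _ _ _ _ _
  haveI : IsNoetherianRing B := Algebra.FiniteType.isNoetherianRing A B
  have hEq : {q : PrimeSpectrum B | (codLE.{u} n).P (EGA4.FibLocRing A B q.asIdeal)} =
      {q : PrimeSpectrum B | ringKrullDim (EGA4.FibLocRing A B q.asIdeal) ≤
        ((LocCoh.depth (EGA4.FibLocRing A B q.asIdeal) (EGA4.FibLocRing A B q.asIdeal) : ℕ∞) :
          WithBot ℕ∞) + n} := by
    ext q
    show CodLE n (EGA4.FibLocRing A B q.asIdeal) ↔ _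
    unfold CodLE
    constructor
    · exact fun h => h.2
    · exact fun h => ⟨inferInstance, h⟩
  rw [hEq]
  exact Groth.Agent.Helper5.FibPd.isOpen_codepth_le A B n

/-- S5922 -/
theorem s5922 {X Y : Scheme.{u}} (f : X ⟶ Y) [LocallyOfFinitePresentation f]
    (n : ℕ) :
    IsOpen {x : X | (f.stalkMap x).hom.Flat ∧
      ringKrullDim ((f.fiber (f.base x)).presheaf.stalk (f.asFiber x)) ≤
        ((LocCoh.depth ((f.fiber (f.base x)).presheaf.stalk (f.asFiber x)) ((f.fiber (f.base x)).presheaf.stalk (f.asFiber x)) : ℕ∞) : WithBot ℕ∞) + n} := by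
  have h := isOpen_flat_inter_fibAt (codLE.{u} n) (ringOpen_codLE n) f
  have hEq : {x : X | (f.stalkMap x).hom.Flat ∧
      ringKrullDim ((f.fiber (f.base x)).presheaf.stalk (f.asFiber x)) ≤
        ((LocCoh.depth ((f.fiber (f.base x)).presheaf.stalk (f.asFiber x)) ((f.fiber (f.base x)).presheaf.stalk (f.asFiber x)) : ℕ∞) : WithBot ℕ∞) + n} =
      {x : X | (f.stalkMap x).hom.Flat ∧ FibAt (codLE.{u} n) f x} := by
    ext x
    refine and_congr Iff.rfl ?_
    show _ ↔ CodLE n ((f.fiber (f.base x)).presheaf.stalk (f.asFiber x))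
    unfold CodLE
    constructor
    · exact fun h => ⟨noeth_fibre_stalk f _ _, h⟩
    · exact fun h => h.2
  rw [hEq]
  exact h

end Groth.Agent.Helper5.FibProp
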