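import Mathlib
import Groth.Prelude
import Groth.Agent.Helper5.FibPropD
import Groth.Agent.Helper5.FibPdI

/-!
# FibPropE: openness of the fibrewise `(S_k)` loci (S4962, S2551)
-/

set_option autoImplicit false
set_option linter.style.haveILetI false
set_option linter.unusedSectionVars false
set_option linter.unusedVariables false
universe u

namespace Groth.Agent.Helper5.FibProp

open CategoryTheory CategoryTheory.Limits AlgebraicGeometry TopologicalSpace Topology TensorProduct
open IsLocalRing

theorem ringOpen_skProp (k : ℕ) : RingOpen (skProp.{u} k) := by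
  intro A B _ _ _ _ _ _
  haveI : IsNoetherianRing B := Algebra.FiniteType.isNoetherianRing A B
  have hEq : {q : PrimeSpectrum B | (skProp.{u} k).P (EGA4.FibLocRing A B q.asIdeal)} =
      {q : PrimeSpectrum B | LocCoh.HasSk k (EGA4.FibLocRing A B q.asIdeal)
        (EGA4.FibLocRing A B q.asIdeal)} := by
    ext q
    show SkProp k (EGA4.FibLocRing A B q.asIdeal) ↔ _
    unfold SkProp
    constructor
    · exact fun h => h.2
    · exact fun h => ⟨inferInstance, h⟩
  rw [hEq]
  exact Groth.Agent.Helper5.FibPd.isOpen_hasSk A B k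

theorem fibAt_skProp_iff {X Y : Scheme.{u}} (f : X ⟶ Y) [LocallyOfFiniteType f] (k : ℕ) (x : X) :
    FibAt (skProp.{u} k) f x ↔
      LocCoh.HasSk k ((f.fiber (f.base x)).presheaf.stalk (f.asFiber x))
        ((f.fiber (f.base x)).presheaf.stalk (f.asFiber x)) := by
  show SkProp k ((f.fiber (f.base x)).presheaf.stalk (f.asFiber x)) ↔ _
  unfold SkProp
  constructor
  · exact fun h => h.2
  · exact fun h => ⟨noeth_fibre_stalk f _ _, h⟩

/-- S4962 -/
theorem s4962 {X Y : Scheme.{u}} (f : X ⟶ Y) [LocallyOfFinitePresentation f]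
    (k : ℕ) :
    IsOpen {x : X | (f.stalkMap x).hom.Flat ∧ LocCoh.HasSk k ((f.fiber (f.base x)).presheaf.stalk (f.asFiber x)) ((f.fiber (f.base x)).presheaf.stalk (f.asFiber x))} := by
  have h := isOpen_flat_inter_fibAt (skProp.{u} k) (ringOpen_skProp k) f
  have hEq : {x : X | (f.stalkMap x).hom.Flat ∧ LocCoh.HasSk k ((f.fiber (f.base x)).presheaf.stalk (f.asFiber x)) ((f.fiber (f.base x)).presheaf.stalk (f.asFiber x))} =
      {x : X | (f.stalkMap x).hom.Flat ∧ FibAt (skProp.{u} k) f x} := by
    ext x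
    exact and_congr Iff.rfl (fibAt_skProp_iff f k x).symm
  rw [hEq]
  exact h

/-- S2551 -/
theorem s2551 {X Y : Scheme.{u}} (f : X ⟶ Y) [Flat f] [LocallyOfFinitePresentation f]
    (k : ℕ) :
    IsOpen {x : X | LocCoh.HasSk k ((f.fiber (f.base x)).presheaf.stalk (f.asFiber x))
      ((f.fiber (f.base x)).presheaf.stalk (f.asFiber x))} := by
  have h := isOpen_fibAt_of_flat (skProp.{u} k) (ringOpen_skProp k) f
  have hEq : {x : X | LocCoh.HasSk k ((f.fiber (f.base x)).presheaf.stalk (f.asFiber x))
      ((f.fiber (f.base x)).presheaf.stalk (f.asFiber x))} =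
      {x : X | FibAt (skProp.{u} k) f x} := by
    ext x
    exact (fibAt_skProp_iff f k x).symm
  rw [hEq]
  exact h

end Groth.Agent.Helper5.FibProp
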