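import Mathlib
import Groth.Prelude
import Groth.Agent.Helper5.FibPropE

/-!
# FibPropF: fibrewise properties on the base of a closed morphism (S2555)
-/

set_option autoImplicit false
set_option linter.style.haveILetI false
set_option linter.unusedSectionVars false
set_option linter.unusedVariables false
universe u

namespace Groth.Agent.Helper5.FibProp

open CategoryTheory CategoryTheory.Limits AlgebraicGeometry TopologicalSpace Topology TensorProduct
open IsLocalRing

variable (Pr : LocProp.{u})

/-- for a closed morphism, openness on the source gives openness of the locus of the base over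
which every point of the fibre has the property -/
theorem isOpen_base_of_isClosedMap {X Y : Scheme.{u}} (f : X ⟶ Y) (hcl : IsClosedMap f.base)
    (hopen : IsOpen {x : X | FibAt Pr f x}) :
    IsOpen {y : Y | ∀ x : ↥(f.fiber y), Pr.P ((f.fiber y).presheaf.stalk x)} := by
  have hEq : {y : Y | ∀ x : ↥(f.fiber y), Pr.P ((f.fiber y).presheaf.stalk x)} =
      (f.base '' {x : X | FibAt Pr f x}ᶜ)ᶜ := by
    ext y
    simp only [Set.mem_ofPred_eq, Set.mem_compl_iff, Set.mem_image, not_exists, not_and]
    constructor
    · intro h x0 hx0 hfx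
      apply hx0
      subst hfx
      have := h (f.asFiber x0)
      exact (fibre_stalk_iff Pr f (f.base x0) (f.asFiber x0) x0 (f.fiberι_asFiber x0)).mp this
    · intro h z
      have h1 : f.base (f.fiberι y z) = y := by
        have := f.range_fiberι y
        have hz : f.fiberι y z ∈ Set.range (f.fiberι y) := ⟨z, rfl⟩
        rw [this] at hz
        exact hz
      have h2 : FibAt Pr f (f.fiberι y z) := by
        by_contra hc
        exact h (f.fiberι y z) (fun hh => hc hh) h1
      exact (fibre_stalk_iff Pr f y z (f.fiberι y z) rfl).mpr h2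
  rw [hEq]
  exact isOpen_compl_iff.mpr (hcl _ (isClosed_compl_iff.mpr hopen))

/-- S2555 -/
theorem s2555 {X Y : Scheme.{u}} (f : X ⟶ Y) [IsProper f]
    [Flat f] [LocallyOfFinitePresentation f] (k : ℕ) :
    IsOpen {y : Y | ∀ x : ↥(f.fiber y), LocCoh.HasSk k ((f.fiber y).presheaf.stalk x) ((f.fiber y).presheaf.stalk x)} := by
  have h1 := isOpen_fibAt_of_flat (skProp.{u} k) (ringOpen_skProp k) f
  have h2 := isOpen_base_of_isClosedMap (skProp.{u} k) f (Scheme.Hom.isClosedMap f) h1
  have hEq : {y : Y | ∀ x : ↥(f.fiber y), LocCoh.HasSk k ((f.fiber y).presheaf.stalk x) ((f.fiber y).presheaf.stalk x)} =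
      {y : Y | ∀ x : ↥(f.fiber y), (skProp.{u} k).P ((f.fiber y).presheaf.stalk x)} := by
    ext y
    refine forall_congr' fun x => ?_
    show _ ↔ SkProp k ((f.fiber y).presheaf.stalk x)
    unfold SkProp
    constructor
    · exact fun h => ⟨noeth_fibre_stalk f y x, h⟩
    · exact fun h => h.2
  rw [hEq]
  exact h2

end Groth.Agent.Helper5.FibProp
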