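import Mathlib
import Groth.Prelude
import Groth.Agent.Helper5.FibModI
import Groth.Agent.Helper5.FibPropF
import Groth.Agent.Helper2.DepthCM4

/-!
# FibModJ: openness of the fibrewise codepth and Cohen–Macaulay loci of a flat module
(S4960, S2552, S4967, S4968)
-/

set_option autoImplicit false
set_option linter.style.haveILetI false
set_option linter.unusedSectionVars false
set_option linter.unusedVariables false
universe u

namespace Groth.Agent.Helper5.FibMod

open CategoryTheory CategoryTheory.Limits AlgebraicGeometry TopologicalSpace TensorProduct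
open IsLocalRing
open Groth.Agent.Helper5.FibPd

/-- the property "Noetherian ring and finite module" -/
noncomputable def nf : LocModIso.{u} where
  P R _ _ N _ _ := IsNoetherianRing R ∧ Module.Finite R N
  iso R R' _ _ _ _ N N' _ _ _ _ e eN h hP := by
    obtain ⟨hN, hF⟩ := hP
    haveI := hN
    haveI := hF
    obtain ⟨h1, h2, h3, h4⟩ := pair_iso R R' N N' e eN h
    exact ⟨h1, h2⟩

/-- the fibre local rings of an algebra of finite type are Noetherian -/
theorem noeth_fibLocRing_ft (A B : Type u) [CommRing A] [CommRing B] [Algebra A B]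
    [Algebra.FiniteType A B] (q : Ideal B) [q.IsPrime] :
    IsNoetherianRing (EGA4.FibLocRing A B q) := by
  obtain ⟨p, Q, hq⟩ := exists_fibre_prime' A B ⟨q, inferInstance⟩
  haveI := p.2
  haveI := Q.2
  obtain ⟨e⟩ := fibLoc_equiv A B p.asIdeal Q.asIdeal q hq
  haveI : IsNoetherianRing (p.asIdeal.Fiber B) :=
    Algebra.FiniteType.isNoetherianRing p.asIdeal.ResidueField _
  haveI : IsNoetherianRing (Localization.AtPrime Q.asIdeal) :=
    IsLocalization.isNoetherianRing Q.asIdeal.primeCompl _ inferInstance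
  exact isNoetherianRing_of_ringEquiv _ e

section Geom

variable {X Y : Scheme.{u}} (f : X ⟶ Y) (F : X.Modules)

set_option maxHeartbeats 1600000 in
/-- the pair at a point of a fibre and the pair at its image in `X` -/
theorem fibre_pair_stalk_iff (Pi : LocModIso.{u}) [F.IsQuasicoherent] (s : Y) (z : ↥(f.fiber s)) :
    Pi.P ((f.fiber s).presheaf.stalk z)
        (((Scheme.Modules.pullback (f.fiberι s)).obj F).presheaf.stalk z) ↔
      FibModAt Pi f F (f.fiberι s z) := by
  set x : X := f.fiberι s z with hx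
  obtain ⟨_, ⟨V, hV, rfl⟩, hxV, -⟩ :=
    Y.isBasis_affineOpens.exists_subset_of_mem_open (Set.mem_univ (f.base x)) isOpen_univ
  let Vo : Y.Opens := V
  obtain ⟨_, ⟨U, hU, rfl⟩, hxU, hUV⟩ :=
    X.isBasis_affineOpens.exists_subset_of_mem_open (show x ∈ (f ⁻¹ᵁ Vo : Set X) from hxV)
      (f ⁻¹ᵁ Vo).isOpen
  let Uo : X.Opens := U
  have e : Uo ≤ f ⁻¹ᵁ Vo := hUV
  have hUo : IsAffineOpen Uo := hU
  have hVo : IsAffineOpen Vo := hV
  have h1 := fibre_pair_iff Pi f F s z hUo hVo e hxU
  have h2 := fibModAt_iff Pi f F hUo hVo e x hxU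
  exact h1.trans h2.symm

set_option maxHeartbeats 1600000 in
/-- the pair at a point of a fibre: Noetherian local ring and finite module -/
theorem nf_fibre_pair [LocallyOfFiniteType f] (hF : CohB1.IsFP F) (s : Y) (z : ↥(f.fiber s)) :
    IsNoetherianRing ((f.fiber s).presheaf.stalk z) ∧
      Module.Finite ((f.fiber s).presheaf.stalk z)
        (((Scheme.Modules.pullback (f.fiberι s)).obj F).presheaf.stalk z) := by
  haveI : SheafOfModules.IsFinitePresentation (R := X.ringCatSheaf) F := hF
  haveI : F.IsQuasicoherent := inferInstance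
  set x : X := f.fiberι s z with hx
  obtain ⟨_, ⟨V, hV, rfl⟩, hxV, -⟩ :=
    Y.isBasis_affineOpens.exists_subset_of_mem_open (Set.mem_univ (f.base x)) isOpen_univ
  let Vo : Y.Opens := V
  obtain ⟨_, ⟨U, hU, rfl⟩, hxU, hUV⟩ :=
    X.isBasis_affineOpens.exists_subset_of_mem_open (show x ∈ (f ⁻¹ᵁ Vo : Set X) from hxV)
      (f ⁻¹ᵁ Vo).isOpen
  let Uo : X.Opens := U
  have e : Uo ≤ f ⁻¹ᵁ Vo := hUV
  have hUo : IsAffineOpen Uo := hU
  have hVo : IsAffineOpen Vo := hV
  letI algAB : Algebra Γ(Y, Vo) Γ(X, Uo) := (f.appLE Vo Uo e).hom.toAlgebra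
  haveI : Algebra.FiniteType Γ(Y, Vo) Γ(X, Uo) :=
    RingHom.finiteType_algebraMap.1 <|
      HasRingHomProperty.appLE (P := @LocallyOfFiniteType) f inferInstance ⟨Vo, hVo⟩
        ⟨Uo, hUo⟩ e
  haveI : Module.FinitePresentation Γ(X, Uo) Γ(F, Uo) :=
    Groth.Agent.Helper4.FPGlue.fp_sections F hF hUo
  haveI : Module.Finite Γ(X, Uo) Γ(F, Uo) := inferInstance
  have h1 := fibre_pair_iff nf f F s z hUo hVo e hxU
  exact h1.mpr ⟨noeth_fibLocRing_ft _ _ _, inferInstance⟩

/-- for a closed morphism, openness on the source gives openness of the locus of the base over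
which every point of the fibre has the property -/
theorem isOpen_base_of_isClosedMap_mod (Pi : LocModIso.{u}) [F.IsQuasicoherent]
    (hcl : IsClosedMap f.base) (hopen : IsOpen {x : X | FibModAt Pi f F x}) :
    IsOpen {y : Y | ∀ x : ↥(f.fiber y), Pi.P ((f.fiber y).presheaf.stalk x)
      (((Scheme.Modules.pullback (f.fiberι y)).obj F).presheaf.stalk x)} := by
  have hEq : {y : Y | ∀ x : ↥(f.fiber y), Pi.P ((f.fiber y).presheaf.stalk x)
      (((Scheme.Modules.pullback (f.fiberι y)).obj F).presheaf.stalk x)} =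
      (f.base '' {x : X | FibModAt Pi f F x}ᶜ)ᶜ := by
    ext y
    simp only [Set.mem_ofPred_eq, Set.mem_compl_iff, Set.mem_image, not_exists, not_and]
    constructor
    · intro h x0 hx0 hfx
      apply hx0
      subst hfx
      have := h (f.asFiber x0)
      rw [fibre_pair_stalk_iff] at this
      have hz : f.fiberι (f.base x0) (f.asFiber x0) = x0 := f.fiberι_asFiber x0
      rw [hz] at this
      exact this
    · intro h z
      have h1 : f.base (f.fiberι y z) = y := by
        have := f.range_fiberι y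
        have hz : f.fiberι y z ∈ Set.range (f.fiberι y) := ⟨z, rfl⟩
        rw [this] at hz
        exact hz
      have h2 : FibModAt Pi f F (f.fiberι y z) := by
        by_contra hc
        exact h (f.fiberι y z) (fun hh => hc hh) h1
      exact (fibre_pair_stalk_iff f F Pi y z).mpr h2
  rw [hEq]
  exact isOpen_compl_iff.mpr (hcl _ (isClosed_compl_iff.mpr hopen))

end Geom

section Final

variable {X Y : Scheme.{u}} (f : X ⟶ Y) (F : X.Modules)

/-- codepth zero means zero or Cohen–Macaulay -/
theorem cm_iff_codepth_zero (R : Type u) [CommRing R] [IsLocalRing R] [IsNoetherianRing R]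
    (N : Type u) [AddCommGroup N] [Module R N] [Module.Finite R N] :
    (Subsingleton N ∨ LocCoh.IsCohenMacaulayModule R N) ↔
      Module.supportDim R N ≤ ((LocCoh.depth R N : ℕ∞) : WithBot ℕ∞) + ((0 : ℕ) : WithBot ℕ∞) := by
  unfold LocCoh.IsCohenMacaulayModule
  rw [Nat.cast_zero, add_zero]
  constructor
  · rintro (h | h)
    · rw [supportDim_eq_bot_of_subsingleton']
      exact bot_le
    · exact h.le
  · intro h
    rcases subsingleton_or_nontrivial N with hs | hnt
    · exact Or.inl hs
    · right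
      exact le_antisymm h (Groth.Agent.Helper2.DepthCM4.depth_le_supportDim (A := R) N)

theorem fibModAt_codLEM_iff [LocallyOfFiniteType f] (hF : CohB1.IsFP F) (k : ℕ) (x : X) :
    FibModAt (codLEM.{u} k).toLocModIso f F x ↔
      Module.supportDim ((f.fiber (f.base x)).presheaf.stalk (f.asFiber x))
        (((Scheme.Modules.pullback (f.fiberι (f.base x))).obj F).presheaf.stalk (f.asFiber x)) ≤
      ((LocCoh.depth ((f.fiber (f.base x)).presheaf.stalk (f.asFiber x))
        (((Scheme.Modules.pullback (f.fiberι (f.base x))).obj F).presheaf.stalk (f.asFiber x)) : ℕ∞) :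
          WithBot ℕ∞) + k := by
  obtain ⟨h1, h2⟩ := nf_fibre_pair f F hF (f.base x) (f.asFiber x)
  show CodLEM k _ _ ↔ _
  unfold CodLEM
  constructor
  · exact fun h => h.2.2
  · exact fun h => ⟨h1, h2, h⟩

/-- S4960 -/
theorem s4960 [LocallyOfFinitePresentation f] (hF : CohB1.IsFP F)
    (hflat : FlatMod.IsFlatOver f F) (k : ℕ) :
    IsOpen {x : X | Module.supportDim ((f.fiber (f.base x)).presheaf.stalk (f.asFiber x)) (((Scheme.Modules.pullback (f.fiberι (f.base x))).obj F).presheaf.stalk (f.asFiber x)) ≤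
      ((LocCoh.depth ((f.fiber (f.base x)).presheaf.stalk (f.asFiber x)) (((Scheme.Modules.pullback (f.fiberι (f.base x))).obj F).presheaf.stalk (f.asFiber x)) : ℕ∞) : WithBot ℕ∞) + k} := by
  have h := isOpen_fibModAt (codLEM.{u} k) (ringOpen_codLEM k) f F hF hflat
  have hEq : {x : X | Module.supportDim ((f.fiber (f.base x)).presheaf.stalk (f.asFiber x)) (((Scheme.Modules.pullback (f.fiberι (f.base x))).obj F).presheaf.stalk (f.asFiber x)) ≤
      ((LocCoh.depth ((f.fiber (f.base x)).presheaf.stalk (f.asFiber x)) (((Scheme.Modules.pullback (f.fiberι (f.base x))).obj F).presheaf.stalk (f.asFiber x)) : ℕ∞) : WithBot ℕ∞) + k} =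
      {x : X | FibModAt (codLEM.{u} k).toLocModIso f F x} := by
    ext x
    exact (fibModAt_codLEM_iff f F hF k x).symm
  rw [hEq]
  exact h

/-- S2552 -/
theorem s2552 [LocallyOfFinitePresentation f] (hF : CohB1.IsFP F)
    (hflat : FlatMod.IsFlatOver f F) :
    IsOpen {x : X |
      Subsingleton (((Scheme.Modules.pullback (f.fiberι (f.base x))).obj F).presheaf.stalk (f.asFiber x)) ∨
      LocCoh.IsCohenMacaulayModule ((f.fiber (f.base x)).presheaf.stalk (f.asFiber x))
        (((Scheme.Modules.pullback (f.fiberι (f.base x))).obj F).presheaf.stalk (f.asFiber x))} := by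
  have h := s4960 f F hF hflat 0
  have hEq : {x : X |
      Subsingleton (((Scheme.Modules.pullback (f.fiberι (f.base x))).obj F).presheaf.stalk (f.asFiber x)) ∨
      LocCoh.IsCohenMacaulayModule ((f.fiber (f.base x)).presheaf.stalk (f.asFiber x))
        (((Scheme.Modules.pullback (f.fiberι (f.base x))).obj F).presheaf.stalk (f.asFiber x))} =
      {x : X | Module.supportDim ((f.fiber (f.base x)).presheaf.stalk (f.asFiber x)) (((Scheme.Modules.pullback (f.fiberι (f.base x))).obj F).presheaf.stalk (f.asFiber x)) ≤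
      ((LocCoh.depth ((f.fiber (f.base x)).presheaf.stalk (f.asFiber x)) (((Scheme.Modules.pullback (f.fiberι (f.base x))).obj F).presheaf.stalk (f.asFiber x)) : ℕ∞) : WithBot ℕ∞) + ((0 : ℕ) : WithBot ℕ∞)} := by
    ext x
    obtain ⟨h1, h2⟩ := nf_fibre_pair f F hF (f.base x) (f.asFiber x)
    exact cm_iff_codepth_zero _ _
  rw [hEq]
  exact h

/-- S4967 -/
theorem s4967 [IsProper f] [LocallyOfFinitePresentation f] (hF : CohB1.IsFP F)
    (hflat : FlatMod.IsFlatOver f F) (k : ℕ) :
    IsOpen {y : Y | ∀ x : ↥(f.fiber y), Module.supportDim ((f.fiber y).presheaf.stalk x) (((Scheme.Modules.pullback (f.fiberι y)).obj F).presheaf.stalk x) ≤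
      ((LocCoh.depth ((f.fiber y).presheaf.stalk x) (((Scheme.Modules.pullback (f.fiberι y)).obj F).presheaf.stalk x) : ℕ∞) : WithBot ℕ∞) + k} := by
  haveI : SheafOfModules.IsFinitePresentation (R := X.ringCatSheaf) F := hF
  haveI : F.IsQuasicoherent := inferInstance
  have h1 := isOpen_fibModAt (codLEM.{u} k) (ringOpen_codLEM k) f F hF hflat
  have h2 := isOpen_base_of_isClosedMap_mod f F (codLEM.{u} k).toLocModIso
    (Scheme.Hom.isClosedMap f) h1
  have hEq : {y : Y | ∀ x : ↥(f.fiber y), Module.supportDim ((f.fiber y).presheaf.stalk x) (((Scheme.Modules.pullback (f.fiberι y)).obj F).presheaf.stalk x) ≤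
      ((LocCoh.depth ((f.fiber y).presheaf.stalk x) (((Scheme.Modules.pullback (f.fiberι y)).obj F).presheaf.stalk x) : ℕ∞) : WithBot ℕ∞) + k} =
      {y : Y | ∀ x : ↥(f.fiber y), (codLEM.{u} k).P ((f.fiber y).presheaf.stalk x)
        (((Scheme.Modules.pullback (f.fiberι y)).obj F).presheaf.stalk x)} := by
    ext y
    refine forall_congr' fun x => ?_
    obtain ⟨h1, h2⟩ := nf_fibre_pair f F hF y x
    show _ ↔ CodLEM k _ _
    unfold CodLEM
    constructor
    · exact fun h => ⟨h1, h2, h⟩
    · exact fun h => h.2.2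
  rw [hEq]
  exact h2

/-- S4968 -/
theorem s4968 [IsProper f] [LocallyOfFinitePresentation f] (hF : CohB1.IsFP F)
    (hflat : FlatMod.IsFlatOver f F) :
    IsOpen {y : Y | ∀ x : ↥(f.fiber y), Subsingleton (((Scheme.Modules.pullback (f.fiberι y)).obj F).presheaf.stalk x) ∨
      LocCoh.IsCohenMacaulayModule ((f.fiber y).presheaf.stalk x) (((Scheme.Modules.pullback (f.fiberι y)).obj F).presheaf.stalk x)} := by
  have h := s4967 f F hF hflat 0
  have hEq : {y : Y | ∀ x : ↥(f.fiber y), Subsingleton (((Scheme.Modules.pullback (f.fiberι y)).obj F).presheaf.stalk x) ∨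
      LocCoh.IsCohenMacaulayModule ((f.fiber y).presheaf.stalk x) (((Scheme.Modules.pullback (f.fiberι y)).obj F).presheaf.stalk x)} =
      {y : Y | ∀ x : ↥(f.fiber y), Module.supportDim ((f.fiber y).presheaf.stalk x) (((Scheme.Modules.pullback (f.fiberι y)).obj F).presheaf.stalk x) ≤
      ((LocCoh.depth ((f.fiber y).presheaf.stalk x) (((Scheme.Modules.pullback (f.fiberι y)).obj F).presheaf.stalk x) : ℕ∞) : WithBot ℕ∞) + ((0 : ℕ) : WithBot ℕ∞)} := by
    ext y
    refine forall_congr' fun x => ?_
    obtain ⟨h1, h2⟩ := nf_fibre_pair f F hF y x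
    exact cm_iff_codepth_zero _ _
  rw [hEq]
  exact h

end Final

end Groth.Agent.Helper5.FibMod
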