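import Groth.Agent.Helper5.PtLoc4
import Groth.Agent.Helper5.BCMin11
import Groth.Agent.Helper5.SmRelDim1
import Groth.Agent.Helper5.EtLoc1
import Groth.Agent.Helper5.UnramLqf
import Groth.Agent.Helper4.SDClasses
import Mathlib

set_option autoImplicit false
set_option linter.style.haveILetI false
set_option linter.unusedSectionVars false
set_option linter.unusedVariables false
universe u
open CategoryTheory CategoryTheory.Limits AlgebraicGeometry Opposite

namespace Groth.Agent.Helper5.RelDimSp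

open AlgSp Groth.Agent.Helper4 Groth.Agent.Helper5.PtLoc

theorem lqf_of_etale {A B : Scheme.{u}} (e : A ⟶ B) [Etale e] : LocallyQuasiFinite e :=
  Groth.Agent.Helper5.UnramLqf.locallyQuasiFinite_of_unramified e

/-- a pointwise property of morphisms of schemes depending only on the local fibre dimension -/
def QD (R : WithBot ℕ∞ → Prop) : ∀ (A B : Scheme.{u}), (A ⟶ B) → ↥A → Prop :=
  fun _ _ s x => R (FlatMor.fibreDimAt s x)

theorem etLocalOn_QD (R : WithBot ℕ∞ → Prop) : EtLocalOn @LocallyOfFiniteType (QD.{u} R) where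
  precomp := by
    intro A' A B e _ s hs
    haveI := hs
    infer_instance
  precomp_iff := by
    intro A' A B e _ s hs x'
    haveI := hs
    haveI := lqf_of_etale e
    show R _ ↔ R _
    rw [Groth.Agent.Helper5.SmRelDim.fibreDimAt_precomp e s x']
  postcomp_iff := by
    intro A B D s e _ hse x
    haveI := lqf_of_etale e
    show R _ ↔ R _
    rw [Groth.Agent.Helper5.EtLoc.fibreDimAt_comp_lqf s e x]

/-- the local fibre dimension is invariant under base change (any pullback square) -/
theorem fibreDimAt_of_isPullback {A B A' B' : Scheme.{u}} (s : A ⟶ B) [LocallyOfFiniteType s]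
    (g : B' ⟶ B) (g' : A' ⟶ A) (s' : A' ⟶ B') (sq : IsPullback g' s' s g) (x' : A') :
    FlatMor.fibreDimAt s' x' = FlatMor.fibreDimAt s (g' x') := by
  have e1 : s' = sq.isoPullback.hom ≫ pullback.snd s g := (sq.isoPullback_hom_snd).symm
  have e2 : g' = sq.isoPullback.hom ≫ pullback.fst s g := (sq.isoPullback_hom_fst).symm
  haveI := lqf_of_etale sq.isoPullback.hom
  have h1 : FlatMor.fibreDimAt s' x' =
      FlatMor.fibreDimAt (sq.isoPullback.hom ≫ pullback.snd s g) x' := by rw [← e1]
  rw [h1, Groth.Agent.Helper5.SmRelDim.fibreDimAt_precomp sq.isoPullback.hom (pullback.snd s g) x',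
    Groth.Agent.Helper5.BCMin.fibreDimAt_baseChange s g (sq.isoPullback.hom x')]
  congr 1
  rw [← Scheme.Hom.comp_apply, ← e2]

variable {S : Scheme.{u}}

theorem locP_lft_of_isPullback {X Y Y' X' : AlgSp.Space S} (f : X ⟶ Y) (g : Y' ⟶ Y)
    (g' : X' ⟶ X) (f' : X' ⟶ Y') (sq : IsPullback g'.hom f'.hom f.hom g.hom)
    (hf : AlgSp.LocP @LocallyOfFiniteType f.hom) : AlgSp.LocP @LocallyOfFiniteType f'.hom := by
  have hG := Groth.Agent.Helper4.SDClasses.good_lft.{u}
  exact Groth.Agent.Helper4.AlgSpLocPBC.locP_of_isPullback @LocallyOfFiniteType hG.etale_le hG.sd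
    X.property Y.property f.hom g.hom g'.hom f'.hom sq hf

/-- base change of the locus of a condition on the relative dimension -/
theorem qd_locus_baseChange (R : WithBot ℕ∞ → Prop) {X Y Y' X' : AlgSp.Space S} (f : X ⟶ Y)
    (g : Y' ⟶ Y) (g' : X' ⟶ X) (f' : X' ⟶ Y') (sq : IsPullback g'.hom f'.hom f.hom g.hom)
    (hf : AlgSp.LocP @LocallyOfFiniteType f.hom) :
    {x' : Points X'.obj | HasAtMor (QD R) f'.hom x'} =
      Points.map g'.hom ⁻¹' {x : Points X.obj | HasAtMor (QD R) f.hom x} := by
  refine locus_baseChange_on (etLocalOn_QD R) ?_ f hf g g' f'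
    (locP_lft_of_isPullback f g g' f' sq hf) sq
  intro A B A' B' s g g' s' sq hs x'
  haveI := hs
  show R _ ↔ R _
  rw [fibreDimAt_of_isPullback s g g' s' sq x']

theorem s10311 {X Y Y' X' : AlgSp.Space S} (f : X ⟶ Y) (g : Y' ⟶ Y)
    (g' : X' ⟶ X) (f' : X' ⟶ Y') (sq : IsPullback g'.hom f'.hom f.hom g.hom)
    (hf : AlgSp.LocP @LocallyOfFiniteType f.hom) (x' : AlgSp.Points X'.obj) (d : WithBot ℕ∞)
    (hd : AlgSp.HasAtMor (fun _ _ h u => FlatMor.fibreDimAt h u = d) f.hom (AlgSp.Points.map g'.hom x')) :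
    AlgSp.HasAtMor (fun _ _ h u => FlatMor.fibreDimAt h u = d) f'.hom x' := by
  have := qd_locus_baseChange (fun r => r = d) f g g' f' sq hf
  exact (Set.ext_iff.1 this x').2 hd

end Groth.Agent.Helper5.RelDimSp
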