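import Mathlib
import Groth.Prelude
import Groth.Agent.Helper5.FibModI
import Groth.Agent.Helper5.RelDimSp1

/-!
# FibModK: the dimension of the closure of a point in its fibre (ring level), base change
-/

set_option autoImplicit false
set_option linter.unusedSectionVars false
set_option linter.unusedVariables false
set_option linter.style.haveILetI false
universe u
open CategoryTheory TensorProduct IsLocalRing AlgebraicGeometry

namespace Groth.Agent.Helper5.FibMod

open Groth.Agent.Helper1 Groth.Agent.Helper2 Groth.Agent.Helper5.FibPd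

section CB

variable (A B : Type u) [CommRing A] [CommRing B] [Algebra A B]

/-- the point of the fibre ring over a prime -/
noncomputable def fibQ (q : PrimeSpectrum B) :
    PrimeSpectrum ((PrimeSpectrum.comap (algebraMap A B) q).asIdeal.Fiber B) :=
  PrimeSpectrum.preimageEquivFiber A B (PrimeSpectrum.comap (algebraMap A B) q) ⟨q, rfl⟩

theorem fibPt_fibQ (q : PrimeSpectrum B) :
    fibPt A B (PrimeSpectrum.comap (algebraMap A B) q) (fibQ A B q) = q := by
  have h := (PrimeSpectrum.preimageEquivFiber A B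
    (PrimeSpectrum.comap (algebraMap A B) q)).symm_apply_apply ⟨q, rfl⟩
  exact congrArg Subtype.val h

/-- the dimension of the closure of a point in its fibre, ring version -/
noncomputable def cB (q : PrimeSpectrum B) : ℕ∞ := Order.coheight (fibQ A B q)

theorem coheight_eq_of_fibPt_eq (p p₁ : PrimeSpectrum A) (Qb : PrimeSpectrum (p.asIdeal.Fiber B))
    (Q₁ : PrimeSpectrum (p₁.asIdeal.Fiber B)) (h : fibPt A B p₁ Q₁ = fibPt A B p Qb) :
    Order.coheight Q₁ = Order.coheight Qb ∧ Order.height Q₁ = Order.height Qb := by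
  obtain ⟨hp, hQ⟩ := fibPt_eq_iff A B p p₁ Qb Q₁ h
  subst hp
  subst hQ
  exact ⟨rfl, rfl⟩

theorem cB_fibPt (p : PrimeSpectrum A) (Qb : PrimeSpectrum (p.asIdeal.Fiber B)) :
    cB A B (fibPt A B p Qb) = Order.coheight Qb :=
  (coheight_eq_of_fibPt_eq A B p _ Qb _ (fibPt_fibQ A B (fibPt A B p Qb))).1

variable [Algebra.FiniteType A B]

/-- the local dimension of the fibre at a point -/
theorem fibreDimAt_eq_dim_add (q : PrimeSpectrum B) :
    FlatMor.fibreDimAt (Spec.map (CommRingCat.ofHom (algebraMap A B))) q =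
      ringKrullDim (EGA4.FibLocRing A B q.asIdeal) + ((cB A B q : ℕ∞) : WithBot ℕ∞) := by
  haveI := q.2
  set p := PrimeSpectrum.comap (algebraMap A B) q with hp
  set Qb := fibQ A B q with hQb
  haveI := p.2
  haveI := Qb.2
  have hq : Qb.asIdeal.comap (Algebra.TensorProduct.includeRight : B →ₐ[A] p.asIdeal.Fiber B) =
      q.asIdeal := congrArg PrimeSpectrum.asIdeal (fibPt_fibQ A B q)
  obtain ⟨e1⟩ := fibLoc_equiv A B p.asIdeal Qb.asIdeal q.asIdeal hq
  have hdimB : ringKrullDim (EGA4.FibLocRing A B q.asIdeal) = (Qb.asIdeal.height : WithBot ℕ∞) := by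
    rw [← ringKrullDim_eq_of_ringEquiv e1]
    exact IsLocalization.AtPrime.ringKrullDim_eq_height Qb.asIdeal (Localization.AtPrime Qb.asIdeal)
  rw [fibreDimAt_eq A B p Qb q hq,
    Groth.Agent.Helper5.FtDim.localDim_eq p.asIdeal.ResidueField (p.asIdeal.Fiber B) Qb, hdimB,
    ← PrimeSpectrum.height_eq_orderHeight]
  push_cast
  rfl

end CB

section BC

variable (A B A' B' : Type u) [CommRing A] [CommRing B] [CommRing A'] [CommRing B']
  [Algebra A B] [Algebra A A'] [Algebra B B'] [Algebra A' B'] [Algebra A B']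
  [IsScalarTower A B B'] [IsScalarTower A A' B'] [Algebra.IsPushout A B A' B']
  [Algebra.FiniteType A B]

/-- `dim + cB` is invariant under base change -/
theorem dim_add_cB_bc (q' : PrimeSpectrum B') :
    ringKrullDim (EGA4.FibLocRing A' B' q'.asIdeal) + ((cB A' B' q' : ℕ∞) : WithBot ℕ∞) =
      ringKrullDim (EGA4.FibLocRing A B (PrimeSpectrum.comap (algebraMap B B') q').asIdeal) +
        ((cB A B (PrimeSpectrum.comap (algebraMap B B') q') : ℕ∞) : WithBot ℕ∞) := by
  haveI hsymm : Algebra.IsPushout A A' B B' := Algebra.IsPushout.symm inferInstance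
  haveI : Algebra.FiniteType A' B' :=
    Algebra.FiniteType.equiv inferInstance (Algebra.IsPushout.equiv A A' B B')
  rw [← fibreDimAt_eq_dim_add, ← fibreDimAt_eq_dim_add]
  have hpo : IsPushout (CommRingCat.ofHom (algebraMap A B)) (CommRingCat.ofHom (algebraMap A A'))
      (CommRingCat.ofHom (algebraMap B B')) (CommRingCat.ofHom (algebraMap A' B')) :=
    CommRingCat.isPushout_iff_isPushout.mpr inferInstance
  have sq := isPullback_SpecMap_of_isPushout _ _ _ _ hpo
  haveI : LocallyOfFiniteType (Spec.map (CommRingCat.ofHom (algebraMap A B))) := by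
    rw [HasRingHomProperty.Spec_iff (P := @LocallyOfFiniteType)]
    exact RingHom.finiteType_algebraMap.2 inferInstance
  exact Groth.Agent.Helper5.RelDimSp.fibreDimAt_of_isPullback _ _ _ _ sq q'

end BC

end Groth.Agent.Helper5.FibMod
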