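import Mathlib
import Groth.Prelude
import Groth.Agent.Helper5.FibModF
import Groth.Agent.Helper5.FibModC

/-!
# FibModL: more properties of pairs invariant under base field extension
-/

set_option autoImplicit false
set_option linter.style.haveILetI false
set_option linter.unusedSectionVars false
set_option linter.unusedVariables false
universe u

namespace Groth.Agent.Helper5.FibMod

open TensorProduct IsLocalRing

section Field

variable (k k' S : Type u) [Field k] [Field k'] [Algebra k k'] [CommRing S] [Algebra k S]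
  [Algebra.FiniteType k S] (N : Type u) [AddCommGroup N] [Module S N] [Module.Finite S N]
  (q' : Ideal (S ⊗[k] k')) [q'.IsPrime]

set_option maxHeartbeats 1600000 in
/-- the numerical data of a base field extension, including the dimensions of the local rings -/
theorem field_data_mod2 :
    IsNoetherianRing (Localization.AtPrime q') ∧
    IsNoetherianRing (Localization.AtPrime (q'.comap (algebraMap S (S ⊗[k] k')))) ∧
    Module.Finite (Localization.AtPrime q')
      (LocalizedModule q'.primeCompl ((S ⊗[k] k') ⊗[S] N)) ∧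
    Module.Finite (Localization.AtPrime (q'.comap (algebraMap S (S ⊗[k] k'))))
      (LocalizedModule (q'.comap (algebraMap S (S ⊗[k] k'))).primeCompl N) ∧
    (∃ b h : ℕ,
      ringKrullDim (Localization.AtPrime (q'.comap (algebraMap S (S ⊗[k] k')))) =
        (b : WithBot ℕ∞) ∧
      ringKrullDim (Localization.AtPrime q') = ((b + h : ℕ) : WithBot ℕ∞) ∧
      ((Subsingleton (LocalizedModule (q'.comap (algebraMap S (S ⊗[k] k'))).primeCompl N) ∧
          Subsingleton (LocalizedModule q'.primeCompl ((S ⊗[k] k') ⊗[S] N))) ∨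
        ∃ a d : ℕ,
          Module.supportDim (Localization.AtPrime (q'.comap (algebraMap S (S ⊗[k] k'))))
            (LocalizedModule (q'.comap (algebraMap S (S ⊗[k] k'))).primeCompl N) =
              (a : WithBot ℕ∞) ∧
          LocCoh.depth (Localization.AtPrime (q'.comap (algebraMap S (S ⊗[k] k'))))
            (LocalizedModule (q'.comap (algebraMap S (S ⊗[k] k'))).primeCompl N) = (d : ℕ∞) ∧
          Module.supportDim (Localization.AtPrime q')
            (LocalizedModule q'.primeCompl ((S ⊗[k] k') ⊗[S] N)) = ((a + h : ℕ) : WithBot ℕ∞) ∧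
          LocCoh.depth (Localization.AtPrime q')
            (LocalizedModule q'.primeCompl ((S ⊗[k] k') ⊗[S] N)) = ((d + h : ℕ) : ℕ∞))) := by
  haveI : IsNoetherianRing S := Algebra.FiniteType.isNoetherianRing k S
  haveI : IsNoetherianRing (S ⊗[k] k') := Groth.Agent.Helper5.FibProp.noeth_tensor k k' S
  set q := q'.comap (algebraMap S (S ⊗[k] k')) with hq
  haveI n1 : IsNoetherianRing (Localization.AtPrime q') :=
    IsLocalization.isNoetherianRing q'.primeCompl _ inferInstance
  haveI n2 : IsNoetherianRing (Localization.AtPrime q) :=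
    IsLocalization.isNoetherianRing q.primeCompl _ inferInstance
  haveI f1 : Module.Finite (Localization.AtPrime q')
      (LocalizedModule q'.primeCompl ((S ⊗[k] k') ⊗[S] N)) :=
    Module.Finite.of_isLocalizedModule q'.primeCompl
      (LocalizedModule.mkLinearMap q'.primeCompl ((S ⊗[k] k') ⊗[S] N))
  haveI f2 : Module.Finite (Localization.AtPrime q) (LocalizedModule q.primeCompl N) :=
    Module.Finite.of_isLocalizedModule q.primeCompl (LocalizedModule.mkLinearMap q.primeCompl N)
  refine ⟨n1, n2, f1, f2, ?_⟩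
  -- the fibre
  set Fib := EGA4.FibLocRing S (S ⊗[k] k') q' with hFib
  haveI : IsNoetherianRing Fib := Ideal.Quotient.isNoetherianRing _
  obtain ⟨h, hh⟩ := ENat.ne_top_iff_exists.mp
    (Ideal.height_ne_top (I := maximalIdeal Fib) (IsLocalRing.maximalIdeal.isMaximal Fib).ne_top)
  obtain ⟨b, hb⟩ := ENat.ne_top_iff_exists.mp (Ideal.height_ne_top_of_isPrime (I := q))
  have hht : q'.height = q.height + (maximalIdeal Fib).height :=
    Groth.Agent.Helper2.FlatLoc.height_eq S (S ⊗[k] k') q'
  rw [← hh, ← hb] at hht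
  refine ⟨b, h, ?_, ?_, ?_⟩
  · rw [IsLocalization.AtPrime.ringKrullDim_eq_height q (Localization.AtPrime q), ← hb]
    rfl
  · rw [IsLocalization.AtPrime.ringKrullDim_eq_height q' (Localization.AtPrime q'), hht]
    push_cast
    rfl
  rcases subsingleton_or_nontrivial (LocalizedModule q.primeCompl N) with hs | hnt
  · left
    exact ⟨hs, Groth.Agent.Helper2.ZT.subsingleton_loc S (S ⊗[k] k') N (S ⊗[k] k') q' (Or.inl hs)⟩
  · right
    obtain ⟨a, d, ha, hd, -⟩ := exists_dim_depth_mod (Localization.AtPrime q)
      (LocalizedModule q.primeCompl N)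
    let eF : EGA4.FibLocMod S (S ⊗[k] k') q' (S ⊗[k] k') ≃ₗ[Fib] Fib :=
      (fibTensorEquiv S (S ⊗[k] k') q' (S ⊗[k] k')).symm.trans
        (TensorProduct.AlgebraTensorModule.rid (S ⊗[k] k') Fib Fib)
    have hcm := Groth.Agent.Helper2.Codepth.fibLoc_cm k S k' (Or.inl inferInstance) q'
    have hdF : LocCoh.depth Fib (EGA4.FibLocMod S (S ⊗[k] k') q' (S ⊗[k] k')) = (h : ℕ∞) := by
      rw [show LocCoh.depth Fib (EGA4.FibLocMod S (S ⊗[k] k') q' (S ⊗[k] k')) =
        LocCoh.depth Fib Fib from
        Groth.Agent.Helper2.DepthCM.idealDepth_congr (maximalIdeal Fib) eF, hcm, hh]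
    have hsF : Module.supportDim Fib (EGA4.FibLocMod S (S ⊗[k] k') q' (S ⊗[k] k')) =
        (h : WithBot ℕ∞) := by
      rw [Module.supportDim_eq_of_equiv eF, Module.supportDim_self_eq_ringKrullDim,
        ← IsLocalRing.maximalIdeal_height_eq_ringKrullDim, ← hh]
      rfl
    haveI : Nontrivial (LocalizedModule q'.primeCompl (S ⊗[k] k')) :=
      (Groth.Agent.Helper1.SerreFlatU.selfEquiv q').toEquiv.nontrivial
    have h1 := Groth.Agent.Helper2.ZT.depth_loc S (S ⊗[k] k') N (S ⊗[k] k') q'
    have h2 := Groth.Agent.Helper2.ZT.supportDim_loc S (S ⊗[k] k') N (S ⊗[k] k') q'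
    refine ⟨a, d, ha, hd, ?_, ?_⟩
    · rw [h2, ha, hsF]
      push_cast
      rfl
    · rw [h1, hd, hdF]
      push_cast
      rfl

end Field

/-- the module is zero -/
noncomputable def subsP : LocModProp.{u} where
  P R _ _ N _ _ := Subsingleton N
  iso R R' _ _ _ _ N N' _ _ _ _ e eN h hP := eN.symm.toEquiv.subsingleton
  field k k' S _ _ _ _ _ _ N _ _ _ q' _ := by
    obtain ⟨n1, n2, f1, f2, b, h, -, -, hdata⟩ := field_data_mod2 k k' S N q'
    rcases hdata with ⟨hs1, hs2⟩ | ⟨a, d, ha, hd, ha', hd'⟩
    · exact ⟨fun _ => hs1, fun _ => hs2⟩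
    · constructor
      · intro hs
        exfalso
        rw [Module.supportDim_eq_bot_of_subsingleton] at ha'
        exact WithBot.bot_ne_natCast _ ha'
      · intro hs
        exfalso
        rw [Module.supportDim_eq_bot_of_subsingleton] at ha
        exact WithBot.bot_ne_natCast _ ha

/-- the relation `depth N + r = dim R + d` -/
def DD (d r : ℕ) (R : Type u) [CommRing R] [IsLocalRing R] (N : Type u) [AddCommGroup N]
    [Module R N] : Prop :=
  IsNoetherianRing R ∧ Module.Finite R N ∧
    ((LocCoh.depth R N + r : ℕ∞) : WithBot ℕ∞) = ringKrullDim R + d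

/-- the relation `depth N + r = dim R + d`, as an invariant property of pairs -/
noncomputable def ddProp (d r : ℕ) : LocModProp.{u} where
  P R _ _ N _ _ := DD d r R N
  iso R R' _ _ _ _ N N' _ _ _ _ e eN h hP := by
    obtain ⟨hN, hF, hle⟩ := hP
    haveI := hN
    haveI := hF
    obtain ⟨h1, h2, h3, h4⟩ := pair_iso R R' N N' e eN h
    refine ⟨h1, h2, ?_⟩
    rw [h4, ← ringKrullDim_eq_of_ringEquiv e]
    exact hle
  field k k' S _ _ _ _ _ _ N _ _ _ q' _ := by
    obtain ⟨n1, n2, f1, f2, b, h, hb, hb', hdata⟩ := field_data_mod2 k k' S N q'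
    unfold DD
    rw [hb, hb']
    rcases hdata with ⟨hs1, hs2⟩ | ⟨a, d₀, ha, hd, ha', hd'⟩
    · rw [Groth.Agent.Helper2.DepthLoc.depth_eq_top_of_subsingleton,
        Groth.Agent.Helper2.DepthLoc.depth_eq_top_of_subsingleton]
      constructor
      · rintro ⟨-, -, hle⟩
        exfalso
        rw [top_add] at hle
        have : ((⊤ : ℕ∞) : WithBot ℕ∞) = (((b + h + d : ℕ) : ℕ∞) : WithBot ℕ∞) := by
          rw [hle]; push_cast; rfl
        exact absurd (WithBot.coe_injective this) (ENat.top_ne_natCast _)
      · rintro ⟨-, -, hle⟩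
        exfalso
        rw [top_add] at hle
        have : ((⊤ : ℕ∞) : WithBot ℕ∞) = (((b + d : ℕ) : ℕ∞) : WithBot ℕ∞) := by
          rw [hle]; push_cast; rfl
        exact absurd (WithBot.coe_injective this) (ENat.top_ne_natCast _)
    · rw [hd, hd']
      constructor
      · rintro ⟨-, -, hle⟩
        refine ⟨n2, f2, ?_⟩
        have h1 : d₀ + h + r = b + h + d := by exact_mod_cast hle
        have h2 : d₀ + r = b + d := by omega
        exact_mod_cast h2
      · rintro ⟨-, -, hle⟩
        refine ⟨n1, f1, ?_⟩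
        have h1 : d₀ + r = b + d := by exact_mod_cast hle
        have h2 : d₀ + h + r = b + h + d := by omega
        exact_mod_cast h2

end Groth.Agent.Helper5.FibMod
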