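import Mathlib
import Groth.Prelude
import Groth.Agent.Helper5.FibModJ
import Groth.Agent.Helper5.FibModK
import Groth.Agent.Helper5.FibModL

/-!
# FibModM: the rectified depth of a fibre module — base change invariance and openness (ring level)
-/

set_option autoImplicit false
set_option linter.unusedSectionVars false
set_option linter.unusedVariables false
set_option linter.style.haveILetI false
universe u
open CategoryTheory TensorProduct IsLocalRing AlgebraicGeometry

namespace Groth.Agent.Helper5.FibMod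

open Groth.Agent.Helper1 Groth.Agent.Helper2 Groth.Agent.Helper5.FibPd

/-- the rectified depth at a prime, ring version -/
noncomputable def rectB (A B : Type u) [CommRing A] [CommRing B] [Algebra A B]
    (M : Type u) [AddCommGroup M] [Module B M] (q : PrimeSpectrum B) : WithBot ℕ∞ :=
  ((LocCoh.depth (EGA4.FibLocRing A B q.asIdeal) ((EGA4.FibLocRing A B q.asIdeal) ⊗[B] M) : ℕ∞) :
    WithBot ℕ∞) + ((cB A B q : ℕ∞) : WithBot ℕ∞)

section BC

variable (A B A' B' : Type u) [CommRing A] [CommRing B] [CommRing A'] [CommRing B']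
  [Algebra A B] [Algebra A A'] [Algebra B B'] [Algebra A' B'] [Algebra A B']
  [IsScalarTower A B B'] [IsScalarTower A A' B'] [Algebra.IsPushout A B A' B']
  [Algebra.FiniteType A B]
  (M : Type u) [AddCommGroup M] [Module B M] [Module.Finite B M]

set_option maxHeartbeats 1600000 in
/-- **the rectified depth is invariant under base change** -/
theorem rect_bc (q' : PrimeSpectrum B') :
    rectB A' B' (B' ⊗[B] M) q' = rectB A B M (PrimeSpectrum.comap (algebraMap B B') q') := by
  haveI := q'.2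
  haveI hsymm : Algebra.IsPushout A A' B B' := Algebra.IsPushout.symm inferInstance
  haveI : Algebra.FiniteType A' B' :=
    Algebra.FiniteType.equiv inferInstance (Algebra.IsPushout.equiv A A' B B')
  set q := PrimeSpectrum.comap (algebraMap B B') q' with hq
  haveI := q.2
  haveI nX : IsNoetherianRing (EGA4.FibLocRing A B q.asIdeal) := noeth_fibLocRing_ft A B q.asIdeal
  haveI nX' : IsNoetherianRing (EGA4.FibLocRing A' B' q'.asIdeal) :=
    noeth_fibLocRing_ft A' B' q'.asIdeal
  have hsub := bc subsP A B A' B' M q'.asIdeal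
  have hc := dim_add_cB_bc A B A' B' q'
  rw [← hq] at hc
  unfold rectB
  by_cases hs : Subsingleton ((EGA4.FibLocRing A B q.asIdeal) ⊗[B] M)
  · haveI := hs
    haveI : Subsingleton ((EGA4.FibLocRing A' B' q'.asIdeal) ⊗[B'] (B' ⊗[B] M)) := hsub.mpr hs
    rw [Groth.Agent.Helper2.DepthLoc.depth_eq_top_of_subsingleton,
      Groth.Agent.Helper2.DepthLoc.depth_eq_top_of_subsingleton]
    rw [← WithBot.coe_add, ← WithBot.coe_add, top_add, top_add]
  · rw [not_subsingleton_iff_nontrivial] at hs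
    haveI := hs
    haveI hs' : Nontrivial ((EGA4.FibLocRing A' B' q'.asIdeal) ⊗[B'] (B' ⊗[B] M)) := by
      rw [← not_subsingleton_iff_nontrivial]
      intro h
      exact (not_subsingleton_iff_nontrivial.mpr hs) (hsub.mp h)
    obtain ⟨a, -, ha, -, -⟩ := Groth.Agent.Helper5.FibProp.exists_dim_depth
      (EGA4.FibLocRing A B q.asIdeal)
    obtain ⟨a', -, ha', -, -⟩ := Groth.Agent.Helper5.FibProp.exists_dim_depth
      (EGA4.FibLocRing A' B' q'.asIdeal)
    obtain ⟨-, δ, -, hδ, -⟩ := exists_dim_depth_mod (EGA4.FibLocRing A B q.asIdeal)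
      ((EGA4.FibLocRing A B q.asIdeal) ⊗[B] M)
    obtain ⟨-, δ', -, hδ', -⟩ := exists_dim_depth_mod (EGA4.FibLocRing A' B' q'.asIdeal)
      ((EGA4.FibLocRing A' B' q'.asIdeal) ⊗[B'] (B' ⊗[B] M))
    have hdd := bc (ddProp δ a) A B A' B' M q'.asIdeal
    have h0 : DD δ a (EGA4.FibLocRing A B q.asIdeal) ((EGA4.FibLocRing A B q.asIdeal) ⊗[B] M) := by
      refine ⟨nX, inferInstance, ?_⟩
      rw [hδ, ha]
      push_cast
      exact add_comm _ _
    obtain ⟨-, -, h1⟩ := hdd.mpr h0
    rw [hδ', ha'] at h1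
    have h2 : δ' + a = a' + δ := by exact_mod_cast h1
    rw [ha, ha'] at hc
    rw [hδ, hδ']
    -- cancel
    have h3 : ((δ' : ℕ∞) : WithBot ℕ∞) + ((cB A' B' q' : ℕ∞) : WithBot ℕ∞) + (a : ℕ) =
        ((δ : ℕ∞) : WithBot ℕ∞) + ((cB A B q : ℕ∞) : WithBot ℕ∞) + (a : ℕ) := by
      calc ((δ' : ℕ∞) : WithBot ℕ∞) + ((cB A' B' q' : ℕ∞) : WithBot ℕ∞) + (a : ℕ)
          = (((δ' + a : ℕ) : ℕ∞) : WithBot ℕ∞) + ((cB A' B' q' : ℕ∞) : WithBot ℕ∞) := by
            push_cast
            abel
        _ = (((a' + δ : ℕ) : ℕ∞) : WithBot ℕ∞) + ((cB A' B' q' : ℕ∞) : WithBot ℕ∞) := by rw [h2]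
        _ = ((a' : ℕ) : WithBot ℕ∞) + ((cB A' B' q' : ℕ∞) : WithBot ℕ∞) + ((δ : ℕ∞) : WithBot ℕ∞) := by
            push_cast
            abel
        _ = ((a : ℕ) : WithBot ℕ∞) + ((cB A B q : ℕ∞) : WithBot ℕ∞) + ((δ : ℕ∞) : WithBot ℕ∞) := by
            rw [hc]
        _ = ((δ : ℕ∞) : WithBot ℕ∞) + ((cB A B q : ℕ∞) : WithBot ℕ∞) + (a : ℕ) := by
            abel
    exact ENat.WithBot.add_natCast_cancel.mp h3

end BC

end Groth.Agent.Helper5.FibMod
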