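import Mathlib
import Groth.Agent.Helper5.LocDim1

set_option autoImplicit false
set_option linter.style.haveILetI false
set_option linter.unusedSectionVars false
universe u
open CategoryTheory AlgebraicGeometry TopologicalSpace Topology

namespace Groth.Agent.Helper5.DimStrat

open Groth.Agent.Helper5.LocDim

/-- in a Noetherian quasi-sober space, every point of the closure of the image of a closed set is
a specialization of the image of a point of that set -/
theorem exists_specializes_of_mem_closure_image {C X : Type*} [TopologicalSpace C]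
    [TopologicalSpace X] [NoetherianSpace C] [QuasiSober C] (π : C → X) (hπ : Continuous π)
    (T : Set C) (hT : IsClosed T) (z : X) (hz : z ∈ closure (π '' T)) : ∃ t ∈ T, π t ⤳ z := by
  obtain ⟨S, hSf, hSc, hSi, hSU⟩ := NoetherianSpace.exists_finite_set_isClosed_irreducible hT
  have h1 : π '' T = ⋃ W ∈ S, π '' W := by
    rw [hSU, Set.sUnion_eq_biUnion, Set.image_iUnion₂]
  rw [h1, hSf.closure_biUnion] at hz
  obtain ⟨W, hW, hzW⟩ := Set.mem_iUnion₂.1 hz
  obtain ⟨w, hw⟩ := QuasiSober.sober (hSi W hW) (hSc W hW)
  have hwW : w ∈ W := hw.mem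
  refine ⟨w, ?_, ?_⟩
  · rw [hSU]; exact Set.mem_sUnion.2 ⟨W, hW, hwW⟩
  · rw [specializes_iff_mem_closure]
    have h2 : π '' W ⊆ closure ({π w} : Set X) := by
      rw [← hw.def, ← Set.image_singleton]
      exact image_closure_subset_closure_image hπ
    exact closure_minimal h2 isClosed_closure hzW

/-- the dimension of a closed subset of a scheme is bounded iff the dimensions of the closures of
its points are -/
theorem dim_closed_le_iff {X : Scheme.{u}} (Z : Set X) (hZ : IsClosed Z) (b : WithBot ℕ∞) :
    topologicalKrullDim ↥Z ≤ b ↔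
      ∀ z ∈ Z, topologicalKrullDim ↥(closure ({z} : Set X)) ≤ b := by
  constructor
  · intro h z hz
    exact (dim_subset_le (hZ.closure_subset_iff.2 (Set.singleton_subset_iff.2 hz))).trans h
  · intro h
    refine dim_le_of_chains Z (genStable_of_isClosed Z hZ) b ?_
    intro l hl
    have hlast := h _ (hl (Fin.last _))
    rw [topologicalKrullDim_eq_krullDim _ (genStable_of_isClosed _ isClosed_closure)] at hlast
    refine le_trans ?_ hlast
    have hmem : ∀ i, l i ∈ closure ({l (Fin.last _)} : Set X) := by
      intro i
      have hle : l i ≤ l (Fin.last _) := l.monotone (Fin.le_last i)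
      have : l (Fin.last _) ⤳ l i := Scheme.le_iff_specializes.1 hle
      exact specializes_iff_mem_closure.1 this
    let l' : LTSeries ↥(closure ({l (Fin.last _)} : Set X)) :=
      { length := l.length
        toFun := fun i => ⟨l i, hmem i⟩
        step := fun i => l.step i }
    exact Order.LTSeries.length_le_krullDim l'

theorem dim_le_iff {X : Scheme.{u}} (b : WithBot ℕ∞) :
    topologicalKrullDim ↥X ≤ b ↔
      ∀ z : X, topologicalKrullDim ↥(closure ({z} : Set X)) ≤ b := by
  have h1 := dim_closed_le_iff (Set.univ : Set X) isClosed_univ b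
  have h2 : topologicalKrullDim ↥(Set.univ : Set X) = topologicalKrullDim ↥X :=
    (Homeomorph.Set.univ X).isHomeomorph.topologicalKrullDim_eq
  rw [h2] at h1
  rw [h1]
  exact ⟨fun h z => h z trivial, fun h z _ => h z⟩

end Groth.Agent.Helper5.DimStrat
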