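import Mathlib
import Groth.Agent.Helper5.ValTr6
import Groth.Agent.Helper5.OpenAt3
import Groth.Agent.Helper5.BCMin13

set_option autoImplicit false
set_option linter.style.haveILetI false
set_option linter.unusedSectionVars false
universe u
open CategoryTheory CategoryTheory.Limits AlgebraicGeometry TopologicalSpace Topology

namespace Groth.Agent.Helper5.FibBd

open Groth.Agent.Helper5.ValTr Groth.Agent.Helper5.OpenAt Groth.Agent.Helper5.SubDim

/-- generizations lift along a morphism flat at the point -/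
theorem exists_generization_of_flat {X Y : Scheme.{u}} (f : X ⟶ Y) (x : X)
    (hfl : (f.stalkMap x).hom.Flat) (y' : Y) (hy' : y' ⤳ f x) :
    ∃ x' : X, x' ⤳ x ∧ f x' = y' := by
  have hy'r : y' ∈ Set.range (Y.fromSpecStalk (f x)) := by
    rw [Scheme.range_fromSpecStalk]; exact hy'
  obtain ⟨q, hq⟩ := hy'r
  letI : Algebra (Y.presheaf.stalk (f x)) (X.presheaf.stalk x) := (f.stalkMap x).hom.toAlgebra
  haveI : IsLocalHom (algebraMap (Y.presheaf.stalk (f x)) (X.presheaf.stalk x)) :=
    inferInstanceAs (IsLocalHom (f.stalkMap x).hom)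
  haveI : Module.Flat (Y.presheaf.stalk (f x)) (X.presheaf.stalk x) := hfl
  haveI : Module.FaithfullyFlat (Y.presheaf.stalk (f x)) (X.presheaf.stalk x) :=
    Module.FaithfullyFlat.of_flat_of_isLocalHom
  obtain ⟨p, hp⟩ := PrimeSpectrum.comap_surjective_of_faithfullyFlat
    (A := Y.presheaf.stalk (f x)) (B := X.presheaf.stalk x) q
  refine ⟨X.fromSpecStalk x p, ?_, ?_⟩
  · have : X.fromSpecStalk x p ∈ Set.range (X.fromSpecStalk x) := ⟨p, rfl⟩
    rw [Scheme.range_fromSpecStalk] at this
    exact this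
  · rw [← Scheme.Hom.comp_apply, ← Scheme.SpecMap_stalkMap_fromSpecStalk, Scheme.Hom.comp_apply]
    rw [← hq]
    congr 1

set_option maxHeartbeats 1000000 in
/-- over a valuation ring, the local fibre dimension of a flat morphism at any point is bounded
by the local fibre dimension at some point of the generic fibre -/
theorem exists_generic_fibreDimAt_ge (R : Type u) [CommRing R] [IsDomain R] [ValuationRing R]
    {X : Scheme.{u}} (φ : X ⟶ Spec (CommRingCat.of R)) [LocallyOfFiniteType φ] [Flat φ] (x : X) :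
    ∃ x' : X, φ x' = (⟨⊥, Ideal.isPrime_bot⟩ : PrimeSpectrum R) ∧
      FlatMor.fibreDimAt φ x ≤ FlatMor.fibreDimAt φ x' := by
  obtain ⟨z, hfz, hzx, hmax, hfd, tz, htz1, htz2⟩ := exists_max_generization_fibreDimAt_eq φ x
  have hgen : (⟨⊥, Ideal.isPrime_bot⟩ : PrimeSpectrum R) ⤳ φ z := by
    rw [← PrimeSpectrum.le_iff_specializes]
    exact bot_le
  obtain ⟨x', hx'z, hx'⟩ := exists_generization_of_flat φ z (Flat.stalkMap φ z) _ hgen
  refine ⟨x', hx', ?_⟩
  obtain ⟨k', n', -, hk', hn', hfd'⟩ := fibreDimAt_eq φ x'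
  let S : Scheme.{u} := Spec (CommRingCat.of R)
  let eR : Γ(S, ⊤) ≃+* R := (Scheme.ΓSpecIso (CommRingCat.of R)).commRingCatIsoToRingEquiv
  have h3 := trdeg_le_of_specializes φ x' z hx'z (⊤ : S.Opens) (isAffineOpen_top S) trivial
    (fun a b => ldvd_of_valuationRing eR _ a b)
  rw [htz1, hn'] at h3
  have h3' : tz ≤ n' := by exact_mod_cast h3
  rw [← hfd, htz2, hfd']
  have : tz ≤ k' + n' := by omega
  exact_mod_cast this

end Groth.Agent.Helper5.FibBd
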