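import Mathlib
import Groth.Agent.Helper5.FibBd1

set_option autoImplicit false
set_option linter.style.haveILetI false
set_option linter.unusedSectionVars false
universe u
open CategoryTheory CategoryTheory.Limits AlgebraicGeometry TopologicalSpace Topology

namespace Groth.Agent.Helper5.FibBd

open IsLocalRing

set_option maxHeartbeats 1000000 in
/-- a specialization in a scheme is realised by a morphism from the spectrum of a valuation ring -/
theorem exists_valuationRing_of_specializes (S : Scheme.{u}) (η s : S) (h : η ⤳ s) :
    ∃ (A : Type u) (_ : CommRing A) (_ : IsDomain A) (_ : ValuationRing A)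
      (v : Spec (CommRingCat.of A) ⟶ S),
      v (closedPoint A) = s ∧ v (⟨⊥, Ideal.isPrime_bot⟩ : PrimeSpectrum A) = η := by
  let ρ : S.presheaf.stalk s ⟶ S.residueField η := S.presheaf.stalkSpecializes h ≫ S.residue η
  obtain ⟨A, hA, hA_local⟩ := exists_factor_valuationRing ρ.hom
  let σ : S.presheaf.stalk s ⟶ CommRingCat.of A :=
    CommRingCat.ofHom (ρ.hom.codRestrict _ hA)
  let v : Spec (CommRingCat.of A) ⟶ S := Spec.map σ ≫ S.fromSpecStalk s
  refine ⟨A, inferInstance, inferInstance, inferInstance, v, ?_, ?_⟩
  · show (Spec.map σ ≫ S.fromSpecStalk s) (closedPoint A) = s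
    rw [Scheme.Hom.comp_apply]
    have : Spec.map σ (closedPoint A) = closedPoint (S.presheaf.stalk s) :=
      comap_closedPoint (S := A) (ρ.hom.codRestrict A.toSubring hA)
    rw [this, Scheme.fromSpecStalk_closedPoint]
  · have w : S.fromSpecResidueField η =
        Spec.map (CommRingCat.ofHom (algebraMap A (S.residueField η))) ≫ v := by
      show S.fromSpecResidueField η =
        Spec.map (CommRingCat.ofHom (algebraMap A (S.residueField η))) ≫
          Spec.map σ ≫ S.fromSpecStalk s
      rw [Scheme.fromSpecResidueField, ← Scheme.SpecMap_stalkSpecializes_fromSpecStalk h]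
      simp_rw [← Spec.map_comp_assoc]
      rfl
    have h1 : (Spec.map (CommRingCat.ofHom (algebraMap A (S.residueField η))))
        (closedPoint (S.residueField η)) = (⟨⊥, Ideal.isPrime_bot⟩ : PrimeSpectrum A) := by
      apply PrimeSpectrum.ext
      show Ideal.comap (algebraMap A (S.residueField η)) (maximalIdeal (S.residueField η)) = ⊥
      rw [IsLocalRing.maximalIdeal_eq_bot]
      exact (RingHom.injective_iff_ker_eq_bot _).mp (FaithfulSMul.algebraMap_injective A _)
    rw [← h1, ← Scheme.Hom.comp_apply, ← w]
    exact Scheme.fromSpecResidueField_apply η _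

end Groth.Agent.Helper5.FibBd
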