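import Mathlib
import Groth.Agent.Helper5.FibBd2
import Groth.Agent.Helper5.CMAff6
import Groth.Agent.Helper5.BCMin11
import Groth.Agent.Helper2.HS5

set_option autoImplicit false
set_option linter.style.haveILetI false
set_option linter.unusedSectionVars false
universe u
open CategoryTheory CategoryTheory.Limits AlgebraicGeometry TopologicalSpace Topology

namespace Groth.Agent.Helper5.FibBd

open IsLocalRing Groth.Agent.Helper5.OpenAt Groth.Agent.Helper5.CMAff Groth.Agent.Helper5.MaxPt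

set_option maxHeartbeats 1000000 in
/-- the retrocompact case -/
theorem fibreDimAt_le_of_retrocompact {X S : Scheme.{u}} (f : X ⟶ S) [Flat f]
    [LocallyOfFiniteType f] (U : S.Opens) (hU : Dense (U : Set S)) (e : ℕ)
    (hle : ∀ x : X, f x ∈ U → FlatMor.fibreDimAt f x ≤ e)
    (h : IsRetrocompact (U : Set S)) (x : X) : FlatMor.fibreDimAt f x ≤ e := by
  obtain ⟨η, hηU, hηs⟩ := Groth.Agent.Helper2.HS5.exists_specializes_of_mem_closure_of_isRetrocompact
    U h (f x) (hU (f x))
  obtain ⟨A, _, _, _, v, hv1, hv2⟩ := exists_valuationRing_of_specializes S η (f x) hηs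
  let fA : pullback f v ⟶ Spec (CommRingCat.of A) := pullback.snd f v
  obtain ⟨x₁, hx₁1, hx₁2⟩ := Scheme.Pullback.exists_preimage_pullback (f := f) (g := v) x
    (closedPoint A) hv1.symm
  obtain ⟨x', hx'1, hx'2⟩ := exists_generic_fibreDimAt_ge A fA x₁
  have e1 := Groth.Agent.Helper5.BCMin.fibreDimAt_baseChange f v x₁
  have e2 := Groth.Agent.Helper5.BCMin.fibreDimAt_baseChange f v x'
  rw [hx₁1] at e1
  have hmem : f (pullback.fst f v x') ∈ U := by
    have hcomm : f (pullback.fst f v x') = v (pullback.snd f v x') := by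
      rw [← Scheme.Hom.comp_apply, ← Scheme.Hom.comp_apply, pullback.condition]
    rw [hcomm]
    have : pullback.snd f v x' = (⟨⊥, Ideal.isPrime_bot⟩ : PrimeSpectrum A) := hx'1
    rw [this, hv2]
    exact hηU
  calc FlatMor.fibreDimAt f x = FlatMor.fibreDimAt fA x₁ := e1.symm
    _ ≤ FlatMor.fibreDimAt fA x' := hx'2
    _ = FlatMor.fibreDimAt f (pullback.fst f v x') := e2
    _ ≤ e := hle _ hmem

set_option maxHeartbeats 1000000 in
/-- the finitely presented case -/
theorem fibreDimAt_le_of_lfp {X S : Scheme.{u}} (f : X ⟶ S) [Flat f]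
    [LocallyOfFinitePresentation f] (U : S.Opens) (hU : Dense (U : Set S)) (e : ℕ)
    (hle : ∀ x : X, f x ∈ U → FlatMor.fibreDimAt f x ≤ e) (x : X) :
    FlatMor.fibreDimAt f x ≤ e := by
  obtain ⟨z, hfz, hzx, hmax, hfd, tz, htz1, htz2⟩ := exists_max_generization_fibreDimAt_eq f x
  rw [← hfd]
  haveI hft : LocallyOfFiniteType (f.fiberToSpecResidueField (f z)) :=
    inferInstanceAs (LocallyOfFiniteType (Limits.pullback.snd f (S.fromSpecResidueField (f z))))
  haveI hFN : IsLocallyNoetherian (f.fiber (f z)) :=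
    LocallyOfFiniteType.isLocallyNoetherian (f.fiberToSpecResidueField (f z))
  have h0 : Order.coheight (f.asFiber z) = 0 :=
    coheight_asFiber_eq_zero f z (fun w hw hsp => hmax w (hw.trans hfz) hsp)
  have hb0 : ringKrullDim ((f.fiber (f z)).presheaf.stalk (f.asFiber z)) = 0 := by
    rw [ringKrullDim_stalk_eq_coheight, h0]; rfl
  have hCM : MoreMor.IsCMAt f z := ⟨Flat.stalkMap f z, cm_of_dim_zero _ hb0⟩
  obtain ⟨W, g, hzW, hover, hgfl, hglqf⟩ := exists_flat_lqf_of_isCMAt f z tz htz2 hCM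
  haveI : UniversallyOpen (W.ι ≫ f) := inferInstance
  have hopen : IsOpen (Set.range (W.ι ≫ f)) := (W.ι ≫ f).isOpenMap.isOpen_range
  have hne : (Set.range (W.ι ≫ f)).Nonempty := ⟨_, ⟨⟨z, hzW⟩, rfl⟩⟩
  obtain ⟨_, ⟨w, rfl⟩, hwU⟩ := hU.inter_open_nonempty _ hopen hne
  have h1 := fibreDimAt_of_flat_lqf f tz W g hover (W.ι w) w.2
  rw [htz2, ← h1]
  exact hle _ hwU

/-- S1240 -/
theorem s1240 {X S : Scheme.{u}} (f : X ⟶ S) [Flat f] [LocallyOfFiniteType f]
    (U : S.Opens) (hU : Dense (U : Set S)) (e : ℕ)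
    (hle : ∀ x : X, f.base x ∈ U → FlatMor.fibreDimAt f x ≤ e)
    (h : LocallyOfFinitePresentation f ∨ IsRetrocompact (U : Set S)) (x : X) :
    FlatMor.fibreDimAt f x ≤ e := by
  rcases h with h | h
  · exact fibreDimAt_le_of_lfp f U hU e hle x
  · exact fibreDimAt_le_of_retrocompact f U hU e hle h x

end Groth.Agent.Helper5.FibBd
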