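import Mathlib
import Groth.Agent.Helper5.FibBd3
import Groth.Agent.Helper5.CMBC1

set_option autoImplicit false
set_option linter.style.haveILetI false
set_option linter.unusedSectionVars false
universe u
open CategoryTheory CategoryTheory.Limits AlgebraicGeometry TopologicalSpace Topology

namespace Groth.Agent.Helper5.FibBd

open IsLocalRing Groth.Agent.Helper5.OpenAt Groth.Agent.Helper5.MaxPt
  Groth.Agent.Helper5.ValTr Groth.Agent.Helper5.SubDim

/-- flatness at a point passes to generizations -/
theorem flat_stalkMap_of_generization {X Y : Scheme.{u}} (f : X ⟶ Y) (x : X)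
    (h : (f.stalkMap x).hom.Flat) (x' : X) (hx' : x' ⤳ x) : (f.stalkMap x').hom.Flat := by
  have hr : x' ∈ Set.range (X.fromSpecStalk x) := by
    rw [Scheme.range_fromSpecStalk]; exact hx'
  obtain ⟨p, rfl⟩ := hr
  haveI : Flat (X.fromSpecStalk x ≫ f) := Groth.Agent.Helper5.CMBC.flat_fromSpecStalk_comp f x h
  haveI : Flat (X.fromSpecStalk x) := Groth.Agent.Helper3.GenSmDense.flat_fromSpecStalk X x
  exact Groth.Agent.Helper2.FibSmAt.flat_of_comp_flat (X.fromSpecStalk x) f p
    (Flat.stalkMap _ p) (Flat.stalkMap _ p)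

set_option maxHeartbeats 1000000 in
/-- local version of `exists_generic_fibreDimAt_ge` -/
theorem exists_generic_fibreDimAt_ge' (R : Type u) [CommRing R] [IsDomain R] [ValuationRing R]
    {X : Scheme.{u}} (φ : X ⟶ Spec (CommRingCat.of R)) [LocallyOfFiniteType φ] (x : X)
    (hfl : (φ.stalkMap x).hom.Flat) :
    ∃ x' : X, x' ⤳ x ∧ φ x' = (⟨⊥, Ideal.isPrime_bot⟩ : PrimeSpectrum R) ∧
      FlatMor.fibreDimAt φ x ≤ FlatMor.fibreDimAt φ x' := by
  obtain ⟨z, hfz, hzx, hmax, hfd, tz, htz1, htz2⟩ := exists_max_generization_fibreDimAt_eq φ x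
  have hgen : (⟨⊥, Ideal.isPrime_bot⟩ : PrimeSpectrum R) ⤳ φ z := by
    rw [← PrimeSpectrum.le_iff_specializes]
    exact bot_le
  obtain ⟨x', hx'z, hx'⟩ := exists_generization_of_flat φ z
    (flat_stalkMap_of_generization φ x hfl z hzx) _ hgen
  refine ⟨x', hx'z.trans hzx, hx', ?_⟩
  obtain ⟨k', n', -, hk', hn', hfd'⟩ := fibreDimAt_eq φ x'
  let S : Scheme.{u} := Spec (CommRingCat.of R)
  let eR : Γ(S, ⊤) ≃+* R := (Scheme.ΓSpecIso (CommRingCat.of R)).commRingCatIsoToRingEquiv
  have h3 := trdeg_le_of_specializes φ x' z hx'z (⊤ : S.Opens) (isAffineOpen_top S) trivial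
    (fun a b => ldvd_of_valuationRing eR _ a b)
  rw [htz1, hn'] at h3
  have h3' : tz ≤ n' := by exact_mod_cast h3
  rw [← hfd, htz2, hfd']
  have : tz ≤ k' + n' := by omega
  exact_mod_cast this

set_option maxHeartbeats 1000000 in
/-- for a morphism locally of finite type and flat at `x`, every generization `s'` of `f x`
lifts to a generization `x'` of `x` with at least the same local fibre dimension -/
theorem exists_generization_fibreDimAt_ge {X S : Scheme.{u}} (f : X ⟶ S)
    [LocallyOfFiniteType f] (x : X) (hfl : (f.stalkMap x).hom.Flat) (s' : S) (hs' : s' ⤳ f x) :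
    ∃ x' : X, x' ⤳ x ∧ f x' = s' ∧ FlatMor.fibreDimAt f x ≤ FlatMor.fibreDimAt f x' := by
  obtain ⟨A, _, _, _, v, hv1, hv2⟩ := exists_valuationRing_of_specializes S s' (f x) hs'
  let fA : pullback f v ⟶ Spec (CommRingCat.of A) := pullback.snd f v
  obtain ⟨x₁, hx₁1, hx₁2⟩ := Scheme.Pullback.exists_preimage_pullback (f := f) (g := v) x
    (closedPoint A) hv1.symm
  have hsq : IsPullback (pullback.fst f v) fA f v := IsPullback.of_hasPullback f v
  have hfl1 : (fA.stalkMap x₁).hom.Flat :=
    Groth.Agent.Helper5.CMBC.flat_stalkMap_baseChange f fA (pullback.fst f v) v hsq x₁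
      (by rw [hx₁1]; exact hfl)
  obtain ⟨x', hx'0, hx'1, hx'2⟩ := exists_generic_fibreDimAt_ge' A fA x₁ hfl1
  have e1 := Groth.Agent.Helper5.BCMin.fibreDimAt_baseChange f v x₁
  have e2 := Groth.Agent.Helper5.BCMin.fibreDimAt_baseChange f v x'
  rw [hx₁1] at e1
  refine ⟨pullback.fst f v x', ?_, ?_, ?_⟩
  · have := hx'0.map (pullback.fst f v).continuous
    rwa [hx₁1] at this
  · have hcomm : f (pullback.fst f v x') = v (pullback.snd f v x') := by
      rw [← Scheme.Hom.comp_apply, ← Scheme.Hom.comp_apply, pullback.condition]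
    rw [hcomm]
    have : pullback.snd f v x' = (⟨⊥, Ideal.isPrime_bot⟩ : PrimeSpectrum A) := hx'1
    rw [this, hv2]
  · calc FlatMor.fibreDimAt f x = FlatMor.fibreDimAt fA x₁ := e1.symm
      _ ≤ FlatMor.fibreDimAt fA x' := hx'2
      _ = FlatMor.fibreDimAt f (pullback.fst f v x') := e2

/-- for an irreducible source, flatness at `x` makes the local fibre dimension at `x` equal to
the local fibre dimension at the generic point -/
theorem fibreDimAt_eq_generic_of_flat {X S : Scheme.{u}} (f : X ⟶ S) [LocallyOfFiniteType f]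
    [IrreducibleSpace X] (x : X) (hfl : (f.stalkMap x).hom.Flat) :
    FlatMor.fibreDimAt f x = FlatMor.fibreDimAt f (genericPoint X) := by
  have hξx : genericPoint X ⤳ x := genericPoint_specializes x
  apply le_antisymm
  · obtain ⟨x', hx'x, hfx', hle⟩ := exists_generization_fibreDimAt_ge f x hfl
      (f (genericPoint X)) (hξx.map f.continuous)
    refine hle.trans ?_
    -- `x'` lies in the (irreducible) fibre through the generic point
    have hirr := Groth.Agent.Helper5.VarDim.irreducibleSpace_fiber_of_generic f (genericPoint X)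
      (genericPoint_closure X)
    have hft : LocallyOfFiniteType (f.fiberToSpecResidueField (f (genericPoint X))) :=
      inferInstanceAs (LocallyOfFiniteType
        (Limits.pullback.snd f (S.fromSpecResidueField (f (genericPoint X)))))
    have hx'r : x' ∈ Set.range (f.fiberι (f (genericPoint X))) := by
      rw [Scheme.Hom.range_fiberι]; exact hfx'
    obtain ⟨ζ, hζ⟩ := hx'r
    have h1 := Groth.Agent.Helper5.VarDim.localDim_fiber_eq_fibreDimAt f (f (genericPoint X)) ζ x'
      hζ hfx'
    have h2 := Groth.Agent.Helper5.VarDim.localDim_eq_dim_of_irreducible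
      (S.residueField (f (genericPoint X))) (f.fiberToSpecResidueField (f (genericPoint X))) ζ
    have h3 := Groth.Agent.Helper5.VarDim.fibreDimAt_generic f (genericPoint X)
      (genericPoint_closure X)
    rw [← h1, h2, h3]
  · exact fibreDimAt_le_of_specializes f _ _ hξx

end Groth.Agent.Helper5.FibBd
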