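import Mathlib
import Groth.Agent.Helper5.FibBd4
import Groth.Agent.Helper5.CMFib1

set_option autoImplicit false
set_option linter.style.haveILetI false
set_option linter.unusedSectionVars false
universe u
open CategoryTheory CategoryTheory.Limits AlgebraicGeometry TopologicalSpace Topology

namespace Groth.Agent.Helper5.FibBd

open IsLocalRing Groth.Agent.Helper5.OpenAt Groth.Agent.Helper5.MaxPt
  Groth.Agent.Helper5.ValTr Groth.Agent.Helper5.SubDim

/-- scheme form of S1403: for `f` locally of finite type with irreducible source and flat at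
`x`, `dim O_{X_s,x} + trdeg κ(x)/κ(s)` is the transcendence degree of the residue field
extension at the generic point -/
theorem dim_fibre_add_trdeg_eq {X S : Scheme.{u}} (f : X ⟶ S) [LocallyOfFiniteType f]
    [IrreducibleSpace X] (x : X) (hfl : (f.stalkMap x).hom.Flat) :
    ∃ k n : ℕ, ringKrullDim (X.presheaf.stalk x ⧸ Ideal.map (f.stalkMap x).hom
        (IsLocalRing.maximalIdeal (S.presheaf.stalk (f x)))) = k ∧
      @Algebra.trdeg (S.residueField (f x)) (X.residueField x) _ _
        (f.residueFieldMap x).hom.toAlgebra = n ∧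
      @Algebra.trdeg (S.residueField (f (genericPoint X))) (X.residueField (genericPoint X)) _ _
        (f.residueFieldMap (genericPoint X)).hom.toAlgebra = ((k + n : ℕ) : Cardinal.{u}) := by
  obtain ⟨k, n, hk1, hk2, hn, hfd⟩ := fibreDimAt_eq f x
  obtain ⟨e⟩ := Groth.Agent.Helper5.CMFib.fibre_stalk_equiv' f x
  have h0 : Order.coheight (f.asFiber (genericPoint X)) = 0 :=
    coheight_asFiber_eq_zero f (genericPoint X)
      (fun w _ hw => ((genericPoint_specializes w).antisymm hw).symm.eq)
  obtain ⟨t, ht1, ht2⟩ := fibreDimAt_of_maximal f (genericPoint X) h0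
  have heq := fibreDimAt_eq_generic_of_flat f x hfl
  rw [hfd, ht2] at heq
  have ht : t = k + n := by exact_mod_cast heq.symm
  refine ⟨k, n, ?_, hn, ?_⟩
  · rw [ringKrullDim_eq_of_ringEquiv e]; exact hk1
  · rw [ht1, ht]

end Groth.Agent.Helper5.FibBd
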