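import Mathlib
import Groth.Agent.Helper5.DimStrat1
import Groth.Agent.Helper5.FibBd5

set_option autoImplicit false
set_option linter.style.haveILetI false
set_option linter.unusedSectionVars false
universe u
open CategoryTheory AlgebraicGeometry TopologicalSpace Topology

namespace Groth.Agent.Helper5.DimStrat

open Groth.Agent.Helper5.LocDim Groth.Agent.Helper5.VarDim Groth.Agent.Helper5.MaxPt
  Groth.Agent.Helper5.SubDim

variable {C X : Scheme.{u}} (π : C ⟶ X) [LocallyOfFiniteType π]

/-- (a') the local fibre dimension is at most the dimension of the fibre -/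
theorem fibreDimAt_le_dim_fiber (t : C) :
    FlatMor.fibreDimAt π t ≤ topologicalKrullDim ↥(π.fiber (π t)) := by
  unfold FlatMor.fibreDimAt FlatMor.localDim
  refine (iInf_le _ ⟨(⊤ : Opens ↥(π.fiber (π t))), trivial⟩).trans ?_
  exact topologicalKrullDim_subspace_le _ _

/-- (a) the residue transcendence degree is at most the dimension of the fibre -/
theorem trdeg_le_dim_fiber (c : C) :
    ∃ m : ℕ, @Algebra.trdeg (X.residueField (π c)) (C.residueField c) _ _
        (π.residueFieldMap c).hom.toAlgebra = m ∧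
      (m : WithBot ℕ∞) ≤ topologicalKrullDim ↥(π.fiber (π c)) := by
  obtain ⟨n, hn1, hn2⟩ := dim_closure_fibre_point π (π c) (π.asFiber c) c (π.fiberι_asFiber c) rfl
  refine ⟨n, hn2, ?_⟩
  rw [← hn1]
  exact topologicalKrullDim_subspace_le _ _

/-- (b) a fibre of dimension at least `j` has a point of residue transcendence degree at least
`j` -/
theorem exists_trdeg_ge_of_le_dim_fiber (x : X) (j : ℕ)
    (hj : (j : WithBot ℕ∞) ≤ topologicalKrullDim ↥(π.fiber x)) :
    ∃ (c : C) (m : ℕ), π c = x ∧ @Algebra.trdeg (X.residueField (π c)) (C.residueField c) _ _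
        (π.residueFieldMap c).hom.toAlgebra = m ∧ j ≤ m := by
  have key : ∀ ζ : ↥(π.fiber x), ∃ n : ℕ,
      topologicalKrullDim ↥(closure ({ζ} : Set ↥(π.fiber x))) = n ∧
      @Algebra.trdeg (X.residueField (π (π.fiberι x ζ))) (C.residueField (π.fiberι x ζ)) _ _
        (π.residueFieldMap (π.fiberι x ζ)).hom.toAlgebra = n :=
    fun ζ => dim_closure_fibre_point π x ζ (π.fiberι x ζ) rfl (apply_fiberι π x ζ)
  rcases Nat.eq_zero_or_pos j with rfl | hpos
  · have hne : Nonempty ↥(π.fiber x) := by
      by_contra hemp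
      rw [not_nonempty_iff] at hemp
      have : topologicalKrullDim ↥(π.fiber x) = ⊥ := by
        have : IsEmpty (IrreducibleCloseds ↥(π.fiber x)) := by
          refine ⟨fun Z => ?_⟩
          obtain ⟨z, -⟩ := Z.isIrreducible.nonempty
          exact hemp.false z
        exact Order.krullDim_eq_bot
      rw [this] at hj
      exact absurd hj (by simp)
    obtain ⟨ζ⟩ := hne
    obtain ⟨n, -, hn2⟩ := key ζ
    exact ⟨π.fiberι x ζ, n, apply_fiberι π x ζ, hn2, Nat.zero_le _⟩
  · by_contra hcon
    push_neg at hcon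
    have hle : topologicalKrullDim ↥(π.fiber x) ≤ ((j - 1 : ℕ) : WithBot ℕ∞) := by
      rw [dim_le_iff]
      intro ζ
      obtain ⟨n, hn1, hn2⟩ := key ζ
      have := hcon (π.fiberι x ζ) n (apply_fiberι π x ζ) hn2
      rw [hn1]
      have : n ≤ j - 1 := by omega
      exact_mod_cast this
    have h2 := hj.trans hle
    have : j ≤ j - 1 := by exact_mod_cast h2
    omega

/-- (c) Chevalley: the locus of local fibre dimension at least `j` is closed -/
theorem isClosed_setOf_le_fibreDimAt (j : ℕ) :
    IsClosed {c : C | (j : WithBot ℕ∞) ≤ FlatMor.fibreDimAt π c} := by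
  rcases Nat.eq_zero_or_pos j with rfl | hpos
  · have : {c : C | ((0 : ℕ) : WithBot ℕ∞) ≤ FlatMor.fibreDimAt π c} = Set.univ := by
      ext c
      simp only [Set.mem_setOf_eq, Set.mem_univ, iff_true]
      obtain ⟨k, n, -, -, -, hfd⟩ := fibreDimAt_eq π c
      rw [hfd]
      exact_mod_cast Nat.zero_le _
    rw [this]; exact isClosed_univ
  · have hopen := Groth.Agent.Helper5.FibDim.isOpen_fibreDimAt_le π ((j - 1 : ℕ) : WithBot ℕ∞)
    have : {c : C | (j : WithBot ℕ∞) ≤ FlatMor.fibreDimAt π c} =
        {c : C | FlatMor.fibreDimAt π c ≤ ((j - 1 : ℕ) : WithBot ℕ∞)}ᶜ := by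
      ext c
      simp only [Set.mem_setOf_eq, Set.mem_compl_iff]
      obtain ⟨k, n, -, -, -, hfd⟩ := fibreDimAt_eq π c
      rw [hfd]
      constructor
      · intro h1 h2
        have h1' : j ≤ k + n := by exact_mod_cast h1
        have h2' : k + n ≤ j - 1 := by exact_mod_cast h2
        omega
      · intro h
        by_contra h1
        apply h
        have h1' : ¬ j ≤ k + n := fun hh => h1 (by exact_mod_cast hh)
        have : k + n ≤ j - 1 := by omega
        exact_mod_cast this
    rw [this]
    exact hopen.isClosed_compl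

end Groth.Agent.Helper5.DimStrat
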