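import Mathlib
import Groth.Agent.Helper5.DimStrat2

set_option autoImplicit false
set_option linter.style.haveILetI false
set_option linter.unusedSectionVars false
set_option linter.deprecated false
universe u
open CategoryTheory AlgebraicGeometry TopologicalSpace Topology

namespace Groth.Agent.Helper5.DimStrat

open Groth.Agent.Helper5.LocDim Groth.Agent.Helper5.VarDim Groth.Agent.Helper5.MaxPt
  Groth.Agent.Helper5.SubDim

set_option maxHeartbeats 1000000 in
/-- S14480 -/
theorem s14480 (k : Type u) [Field k] (C X : Scheme.{u})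
    (q : X ⟶ Spec (CommRingCat.of k)) (π : C ⟶ X)
    [LocallyOfFiniteType q] [CompactSpace X] [LocallyOfFiniteType π] [CompactSpace C] (n : ℕ) :
    topologicalKrullDim C ≤ n ↔
      ∀ j : ℕ, topologicalKrullDim (closure {x : X | (j : WithBot ℕ∞) ≤
        topologicalKrullDim (π.fiber x)}) + (j : WithBot ℕ∞) ≤ n := by
  haveI hXN : IsLocallyNoetherian X := LocallyOfFiniteType.isLocallyNoetherian q
  haveI hCN : IsLocallyNoetherian C := LocallyOfFiniteType.isLocallyNoetherian π
  haveI : IsNoetherian C := { }
  haveI hCq : LocallyOfFiniteType (π ≫ q) := inferInstance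
  -- numerical data at points
  have hX : ∀ x : X, ∃ m : ℕ, topologicalKrullDim ↥(closure ({x} : Set X)) = m ∧
      @Algebra.trdeg k (X.residueField x) _ _ (resHom k q x).toAlgebra = m :=
    fun x => dim_closure_point k q x
  have hC : ∀ c : C, ∃ m : ℕ, topologicalKrullDim ↥(closure ({c} : Set C)) = m ∧
      @Algebra.trdeg k (C.residueField c) _ _ (resHom k (π ≫ q) c).toAlgebra = m :=
    fun c => dim_closure_point k (π ≫ q) c
  have htower : ∀ (c : C) (a b m : ℕ),
      topologicalKrullDim ↥(closure ({c} : Set C)) = a →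
      topologicalKrullDim ↥(closure ({π c} : Set X)) = b →
      @Algebra.trdeg (X.residueField (π c)) (C.residueField c) _ _
        (π.residueFieldMap c).hom.toAlgebra = m → a = b + m := by
    intro c a b m ha hb hm
    obtain ⟨a', ha1, ha2⟩ := hC c
    obtain ⟨b', hb1, hb2⟩ := hX (π c)
    have h1 := trdeg_tower k π q c
    rw [ha2, hb2, hm] at h1
    have h2 : a' = b' + m := by exact_mod_cast h1
    have h3 : a = a' := by
      have := ha.symm.trans ha1
      exact_mod_cast this
    have h4 : b = b' := by
      have := hb.symm.trans hb1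
      exact_mod_cast this
    omega
  constructor
  · intro hdim j
    set B : Set X := {x : X | (j : WithBot ℕ∞) ≤ topologicalKrullDim (π.fiber x)} with hB
    set Cj : Set C := {c : C | (j : WithBot ℕ∞) ≤ FlatMor.fibreDimAt π c} with hCj
    have hCjcl : IsClosed Cj := isClosed_setOf_le_fibreDimAt π j
    have hBsub : B ⊆ π '' Cj := by
      intro x hx
      obtain ⟨c, m, hc, hm, hjm⟩ := exists_trdeg_ge_of_le_dim_fiber π x j hx
      refine ⟨c, ?_, hc⟩
      obtain ⟨k', n', -, -, hn', hfd⟩ := fibreDimAt_eq π c
      show (j : WithBot ℕ∞) ≤ FlatMor.fibreDimAt π c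
      rw [hfd]
      have : n' = m := by
        have := hn'.symm.trans hm
        exact_mod_cast this
      have : j ≤ k' + n' := by omega
      exact_mod_cast this
    have hpt : ∀ z ∈ closure B, ∃ m : ℕ,
        topologicalKrullDim ↥(closure ({z} : Set X)) = m ∧ m + j ≤ n := by
      intro z hz
      have hz' : z ∈ closure (π '' Cj) := closure_mono hBsub hz
      obtain ⟨t, ht, htz⟩ := exists_specializes_of_mem_closure_image π π.continuous Cj hCjcl z hz'
      have htB : (j : WithBot ℕ∞) ≤ topologicalKrullDim (π.fiber (π t)) :=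
        le_trans ht (fibreDimAt_le_dim_fiber π t)
      obtain ⟨c, m, hc, hm, hjm⟩ := exists_trdeg_ge_of_le_dim_fiber π (π t) j htB
      obtain ⟨a, ha1, -⟩ := hC c
      obtain ⟨b, hb1, -⟩ := hX (π c)
      obtain ⟨mz, hmz1, -⟩ := hX z
      have hab := htower c a b m ha1 hb1 hm
      have han : a ≤ n := by
        have h1 : topologicalKrullDim ↥(closure ({c} : Set C)) ≤ topologicalKrullDim C :=
          topologicalKrullDim_subspace_le _ _
        rw [ha1] at h1
        have := h1.trans hdim
        exact_mod_cast this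
      have hzb : mz ≤ b := by
        have hsub : closure ({z} : Set X) ⊆ closure ({π c} : Set X) := by
          rw [hc]
          exact (specializes_iff_closure_subset.1 htz)
        have h1 := dim_subset_le hsub
        rw [hmz1, hb1] at h1
        exact_mod_cast h1
      exact ⟨mz, hmz1, by omega⟩
    rcases (closure B).eq_empty_or_nonempty with hemp | ⟨z₀, hz₀⟩
    · rw [hemp, dim_empty_eq_bot]
      simp
    · obtain ⟨m₀, -, hm₀⟩ := hpt z₀ hz₀
      have hle : topologicalKrullDim ↥(closure B) ≤ ((n - j : ℕ) : WithBot ℕ∞) := by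
        rw [dim_closed_le_iff _ isClosed_closure]
        intro z hz
        obtain ⟨m, hm1, hm2⟩ := hpt z hz
        rw [hm1]
        have : m ≤ n - j := by omega
        exact_mod_cast this
      calc topologicalKrullDim ↥(closure B) + (j : WithBot ℕ∞)
          ≤ ((n - j : ℕ) : WithBot ℕ∞) + (j : WithBot ℕ∞) := add_le_add_left hle _
        _ = (n : WithBot ℕ∞) := by
          have : n - j + j = n := by omega
          exact_mod_cast this
  · intro h
    rw [dim_le_iff]
    intro c
    obtain ⟨m, hm, hmle⟩ := trdeg_le_dim_fiber π c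
    obtain ⟨a, ha1, -⟩ := hC c
    obtain ⟨b, hb1, -⟩ := hX (π c)
    have hab := htower c a b m ha1 hb1 hm
    have hj := h m
    have hmem : π c ∈ {x : X | (m : WithBot ℕ∞) ≤ topologicalKrullDim (π.fiber x)} := hmle
    have hsub : closure ({π c} : Set X) ⊆
        closure {x : X | (m : WithBot ℕ∞) ≤ topologicalKrullDim (π.fiber x)} :=
      closure_mono (Set.singleton_subset_iff.2 hmem)
    have h1 := dim_subset_le hsub
    rw [hb1] at h1
    rw [ha1, hab]
    calc ((b + m : ℕ) : WithBot ℕ∞) = (b : WithBot ℕ∞) + (m : WithBot ℕ∞) := by push_cast; rfl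
      _ ≤ topologicalKrullDim ↥(closure {x : X | (m : WithBot ℕ∞) ≤
            topologicalKrullDim (π.fiber x)}) + (m : WithBot ℕ∞) := add_le_add_left h1 _
      _ ≤ n := hj

end Groth.Agent.Helper5.DimStrat
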