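import Mathlib
import Groth.Agent.Helper5.DimStrat3

set_option autoImplicit false
set_option linter.style.haveILetI false
set_option linter.unusedSectionVars false
set_option linter.deprecated false
universe u
open CategoryTheory AlgebraicGeometry TopologicalSpace Topology

namespace Groth.Agent.Helper5.DimStrat

open Groth.Agent.Helper5.LocDim Groth.Agent.Helper5.VarDim Groth.Agent.Helper5.MaxPt
  Groth.Agent.Helper5.SubDim

set_option maxHeartbeats 1000000 in
/-- S14480 with an additive constant -/
theorem s14480_add (k : Type u) [Field k] (C X : Scheme.{u})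
    (q : X ⟶ Spec (CommRingCat.of k)) (π : C ⟶ X)
    [LocallyOfFiniteType q] [CompactSpace X] [LocallyOfFiniteType π] [CompactSpace C] (c₀ n : ℕ) :
    topologicalKrullDim C + (c₀ : WithBot ℕ∞) ≤ n ↔
      ∀ j : ℕ, topologicalKrullDim (closure {x : X | (j : WithBot ℕ∞) ≤
        topologicalKrullDim (π.fiber x)}) + (c₀ : WithBot ℕ∞) + (j : WithBot ℕ∞) ≤ n := by
  haveI hXN : IsLocallyNoetherian X := LocallyOfFiniteType.isLocallyNoetherian q
  haveI hCN : IsLocallyNoetherian C := LocallyOfFiniteType.isLocallyNoetherian π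
  haveI : IsNoetherian C := { }
  haveI hCq : LocallyOfFiniteType (π ≫ q) := inferInstance
  -- numerical data at points
  have hX : ∀ x : X, ∃ m : ℕ, topologicalKrullDim ↥(closure ({x} : Set X)) = m ∧
      @Algebra.trdeg k (X.residueField x) _ _ (resHom k q x).toAlgebra = m :=
    fun x => dim_closure_point k q x
  have hC : ∀ c : C, ∃ m : ℕ, topologicalKrullDim ↥(closure ({c} : Set C)) = m ∧
      @Algebra.trdeg k (C.residueField c) _ _ (resHom k (π ≫ q) c).toAlgebra = m :=
    fun c => dim_closure_point k (π ≫ q) c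
  have htower : ∀ (c : C) (a b m : ℕ),
      topologicalKrullDim ↥(closure ({c} : Set C)) = a →
      topologicalKrullDim ↥(closure ({π c} : Set X)) = b →
      @Algebra.trdeg (X.residueField (π c)) (C.residueField c) _ _
        (π.residueFieldMap c).hom.toAlgebra = m → a = b + m := by
    intro c a b m ha hb hm
    obtain ⟨a', ha1, ha2⟩ := hC c
    obtain ⟨b', hb1, hb2⟩ := hX (π c)
    have h1 := trdeg_tower k π q c
    rw [ha2, hb2, hm] at h1
    have h2 : a' = b' + m := by exact_mod_cast h1
    have h3 : a = a' := by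
      have := ha.symm.trans ha1
      exact_mod_cast this
    have h4 : b = b' := by
      have := hb.symm.trans hb1
      exact_mod_cast this
    omega
  constructor
  · intro hdim j
    set B : Set X := {x : X | (j : WithBot ℕ∞) ≤ topologicalKrullDim (π.fiber x)} with hB
    set Cj : Set C := {c : C | (j : WithBot ℕ∞) ≤ FlatMor.fibreDimAt π c} with hCj
    have hCjcl : IsClosed Cj := isClosed_setOf_le_fibreDimAt π j
    have hBsub : B ⊆ π '' Cj := by
      intro x hx
      obtain ⟨c, m, hc, hm, hjm⟩ := exists_trdeg_ge_of_le_dim_fiber π x j hx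
      refine ⟨c, ?_, hc⟩
      obtain ⟨k', n', -, -, hn', hfd⟩ := fibreDimAt_eq π c
      show (j : WithBot ℕ∞) ≤ FlatMor.fibreDimAt π c
      rw [hfd]
      have : n' = m := by
        have := hn'.symm.trans hm
        exact_mod_cast this
      have : j ≤ k' + n' := by omega
      exact_mod_cast this
    have hpt : ∀ z ∈ closure B, ∃ m : ℕ,
        topologicalKrullDim ↥(closure ({z} : Set X)) = m ∧ m + c₀ + j ≤ n := by
      intro z hz
      have hz' : z ∈ closure (π '' Cj) := closure_mono hBsub hz
      obtain ⟨t, ht, htz⟩ := exists_specializes_of_mem_closure_image π π.continuous Cj hCjcl z hz'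
      have htB : (j : WithBot ℕ∞) ≤ topologicalKrullDim (π.fiber (π t)) :=
        le_trans ht (fibreDimAt_le_dim_fiber π t)
      obtain ⟨c, m, hc, hm, hjm⟩ := exists_trdeg_ge_of_le_dim_fiber π (π t) j htB
      obtain ⟨a, ha1, -⟩ := hC c
      obtain ⟨b, hb1, -⟩ := hX (π c)
      obtain ⟨mz, hmz1, -⟩ := hX z
      have hab := htower c a b m ha1 hb1 hm
      have han : a + c₀ ≤ n := by
        have h1 : topologicalKrullDim ↥(closure ({c} : Set C)) ≤ topologicalKrullDim C :=
          topologicalKrullDim_subspace_le _ _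
        rw [ha1] at h1
        have := (add_le_add_left h1 (c₀ : WithBot ℕ∞)).trans hdim
        exact_mod_cast this
      have hzb : mz ≤ b := by
        have hsub : closure ({z} : Set X) ⊆ closure ({π c} : Set X) := by
          rw [hc]
          exact (specializes_iff_closure_subset.1 htz)
        have h1 := dim_subset_le hsub
        rw [hmz1, hb1] at h1
        exact_mod_cast h1
      exact ⟨mz, hmz1, by omega⟩
    rcases (closure B).eq_empty_or_nonempty with hemp | ⟨z₀, hz₀⟩
    · rw [hemp, dim_empty_eq_bot]
      simp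
    · obtain ⟨m₀, -, hm₀⟩ := hpt z₀ hz₀
      have hle : topologicalKrullDim ↥(closure B) ≤ ((n - j - c₀ : ℕ) : WithBot ℕ∞) := by
        rw [dim_closed_le_iff _ isClosed_closure]
        intro z hz
        obtain ⟨m, hm1, hm2⟩ := hpt z hz
        rw [hm1]
        have : m ≤ n - j - c₀ := by omega
        exact_mod_cast this
      calc topologicalKrullDim ↥(closure B) + (c₀ : WithBot ℕ∞) + (j : WithBot ℕ∞)
          ≤ ((n - j - c₀ : ℕ) : WithBot ℕ∞) + (c₀ : WithBot ℕ∞) + (j : WithBot ℕ∞) :=
            add_le_add_left (add_le_add_left hle _) _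
        _ = (n : WithBot ℕ∞) := by
          have : n - j - c₀ + c₀ + j = n := by omega
          exact_mod_cast this
  · intro h
    have hkey : ∀ c : C, ∃ a : ℕ, topologicalKrullDim ↥(closure ({c} : Set C)) = a ∧ a + c₀ ≤ n := by
      intro c
      obtain ⟨m, hm, hmle⟩ := trdeg_le_dim_fiber π c
      obtain ⟨a, ha1, -⟩ := hC c
      obtain ⟨b, hb1, -⟩ := hX (π c)
      have hab := htower c a b m ha1 hb1 hm
      have hj := h m
      have hmem : π c ∈ {x : X | (m : WithBot ℕ∞) ≤ topologicalKrullDim (π.fiber x)} := hmle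
      have hsub : closure ({π c} : Set X) ⊆
          closure {x : X | (m : WithBot ℕ∞) ≤ topologicalKrullDim (π.fiber x)} :=
        closure_mono (Set.singleton_subset_iff.2 hmem)
      have h1 := dim_subset_le hsub
      rw [hb1] at h1
      refine ⟨a, ha1, ?_⟩
      have h2 : (b : WithBot ℕ∞) + (c₀ : WithBot ℕ∞) + (m : WithBot ℕ∞) ≤ n :=
        (add_le_add_left (add_le_add_left h1 _) _).trans hj
      have h3 : b + c₀ + m ≤ n := by exact_mod_cast h2
      omega
    rcases isEmpty_or_nonempty C with hemp | ⟨⟨c₁⟩⟩
    · have : topologicalKrullDim C = ⊥ := by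
        have : IsEmpty (IrreducibleCloseds C) := by
          refine ⟨fun Z => ?_⟩
          obtain ⟨z, -⟩ := Z.isIrreducible.nonempty
          exact hemp.false z
        exact Order.krullDim_eq_bot
      rw [this]; simp
    · obtain ⟨a₁, -, ha₁⟩ := hkey c₁
      have hle : topologicalKrullDim C ≤ ((n - c₀ : ℕ) : WithBot ℕ∞) := by
        rw [dim_le_iff]
        intro c
        obtain ⟨a, ha1, ha2⟩ := hkey c
        rw [ha1]
        have : a ≤ n - c₀ := by omega
        exact_mod_cast this
      calc topologicalKrullDim C + (c₀ : WithBot ℕ∞)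
          ≤ ((n - c₀ : ℕ) : WithBot ℕ∞) + (c₀ : WithBot ℕ∞) := add_le_add_left hle _
        _ = (n : WithBot ℕ∞) := by
          have : n - c₀ + c₀ = n := by omega
          exact_mod_cast this

end Groth.Agent.Helper5.DimStrat
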