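import Mathlib
import Groth.Agent.Helper5.DimStrat4

set_option autoImplicit false
set_option linter.style.haveILetI false
set_option linter.unusedSectionVars false
set_option linter.deprecated false
universe u
open CategoryTheory CategoryTheory.Limits AlgebraicGeometry TopologicalSpace Topology

namespace Groth.Agent.Helper5.DimStrat

open Groth.Agent.Helper5.LocDim Groth.Agent.Helper5.VarDim Groth.Agent.Helper5.MaxPt
  Groth.Agent.Helper5.SubDim

/-- if all irreducible components have dimension `n`, the dimension is at most `n` -/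
theorem dim_le_of_components {C : Scheme.{u}} (n : ℕ)
    (hC : ∀ P ∈ irreducibleComponents (C : Type u), topologicalKrullDim P = n) :
    topologicalKrullDim C ≤ n := by
  rw [dim_le_iff]
  intro c
  have hsub : closure ({c} : Set C) ⊆ irreducibleComponent c :=
    isClosed_irreducibleComponent.closure_subset_iff.2
      (Set.singleton_subset_iff.2 mem_irreducibleComponent)
  have := dim_subset_le hsub
  rwa [hC _ (irreducibleComponent_mem_irreducibleComponents c)] at this

/-- fibres of a base change along an immersion -/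
theorem dim_fiber_pullback_snd {C X W : Scheme.{u}} (π : C ⟶ X) (ι : W ⟶ X) [IsImmersion ι]
    (w : W) :
    topologicalKrullDim ↥((pullback.snd π ι).fiber w) = topologicalKrullDim ↥(π.fiber (ι w)) := by
  rw [← dim_preimage_singleton_eq, ← dim_preimage_singleton_eq]
  have hemb : IsEmbedding (pullback.fst π ι) := (pullback.fst π ι).isEmbedding
  have himg : (pullback.fst π ι) '' ((pullback.snd π ι) ⁻¹' {w}) = π ⁻¹' {ι w} := by
    ext c
    constructor
    · rintro ⟨c', hc', rfl⟩
      show π (pullback.fst π ι c') = ι w
      have hc'' : pullback.snd π ι c' = w := hc'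
      rw [← hc'', ← Scheme.Hom.comp_apply, ← Scheme.Hom.comp_apply, pullback.condition]
    · intro hc
      obtain ⟨c', h1, h2⟩ := Scheme.Pullback.exists_preimage_pullback (f := π) (g := ι) c w hc
      exact ⟨c', h2, h1⟩
  have e := hemb.homeomorphImage ((pullback.snd π ι) ⁻¹' {w})
  rw [e.isHomeomorph.topologicalKrullDim_eq, himg]

set_option maxHeartbeats 1000000 in
/-- S14482 (only the immersion property of `ι` is used) -/
theorem s14482 (k : Type u) [Field k] (C X W : Scheme.{u})
    (q : X ⟶ Spec (CommRingCat.of k)) (π : C ⟶ X) (ι : W ⟶ X)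
    [LocallyOfFiniteType q] [CompactSpace X] [LocallyOfFiniteType π] [CompactSpace C]
    (n c : ℕ) [IsImmersion ι]
    (hC : ∀ P ∈ irreducibleComponents (C : Type u), topologicalKrullDim P = n)
    (hB : ∀ j : ℕ, IsClosed {x : X | (j : WithBot ℕ∞) ≤ topologicalKrullDim (π.fiber x)}) :
    (∀ j : ℕ, topologicalKrullDim {x : X | (j : WithBot ℕ∞) ≤ topologicalKrullDim (π.fiber x)} +
        (j : WithBot ℕ∞) ≤ n) ∧
      (topologicalKrullDim (π ⁻¹' Set.range ι : Set C) + (c : WithBot ℕ∞) ≤ n ↔
        ∀ j : ℕ, topologicalKrullDim (ι ⁻¹' {x : X | (j : WithBot ℕ∞) ≤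
          topologicalKrullDim (π.fiber x)} : Set W) + (c : WithBot ℕ∞) + (j : WithBot ℕ∞) ≤ n) := by
  haveI hXN : IsLocallyNoetherian X := LocallyOfFiniteType.isLocallyNoetherian q
  haveI hCN : IsLocallyNoetherian C := LocallyOfFiniteType.isLocallyNoetherian π
  haveI : IsNoetherian C := { }
  haveI : IsNoetherian X := { }
  refine ⟨?_, ?_⟩
  · intro j
    have h1 := (s14480 k C X q π n).1 (dim_le_of_components n hC) j
    rwa [(hB j).closure_eq] at h1
  · let π' : pullback π ι ⟶ W := pullback.snd π ι
    let ι' : pullback π ι ⟶ C := pullback.fst π ι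
    haveI : NoetherianSpace W := ι.isEmbedding.isInducing.noetherianSpace
    haveI : NoetherianSpace ↥(pullback π ι) := ι'.isEmbedding.isInducing.noetherianSpace
    haveI : CompactSpace W := NoetherianSpace.compactSpace W
    haveI : CompactSpace ↥(pullback π ι) := NoetherianSpace.compactSpace _
    haveI : LocallyOfFiniteType (ι ≫ q) := inferInstance
    haveI : LocallyOfFiniteType π' := inferInstanceAs (LocallyOfFiniteType (pullback.snd π ι))
    have key := s14480_add k (pullback π ι) W (ι ≫ q) π' c n
    have hdim : topologicalKrullDim ↥(pullback π ι) =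
        topologicalKrullDim (π ⁻¹' Set.range ι : Set C) := by
      have hr : Set.range ι' = π ⁻¹' Set.range ι := Scheme.Pullback.range_fst π ι
      rw [← hr]
      exact (ι'.isEmbedding.toHomeomorph.isHomeomorph.topologicalKrullDim_eq)
    have hset : ∀ j : ℕ, {w : W | (j : WithBot ℕ∞) ≤ topologicalKrullDim (π'.fiber w)} =
        ι ⁻¹' {x : X | (j : WithBot ℕ∞) ≤ topologicalKrullDim (π.fiber x)} := by
      intro j
      ext w
      show (j : WithBot ℕ∞) ≤ topologicalKrullDim (π'.fiber w) ↔
        (j : WithBot ℕ∞) ≤ topologicalKrullDim (π.fiber (ι w))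
      rw [dim_fiber_pullback_snd π ι w]
    rw [← hdim, key]
    refine forall_congr' fun j => ?_
    rw [hset j, ((hB j).preimage ι.continuous).closure_eq]

end Groth.Agent.Helper5.DimStrat
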