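import Mathlib
import Groth.Agent.Helper5.DimStrat5
import Groth.Agent.Helper5.CycDim3

set_option autoImplicit false
set_option linter.style.haveILetI false
set_option linter.unusedSectionVars false
set_option linter.deprecated false
universe u
open CategoryTheory CategoryTheory.Limits AlgebraicGeometry TopologicalSpace Topology

namespace Groth.Agent.Helper5.DimStrat

open Groth.Agent.Helper5.LocDim Groth.Agent.Helper5.VarDim Groth.Agent.Helper5.MaxPt
  Groth.Agent.Helper5.SubDim Groth.Agent.Helper5.CycDim

variable (k : Type u) [Field k] {C : Scheme.{u}} (g : C ⟶ Spec (CommRingCat.of k))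
  [LocallyOfFiniteType g]

/-- the dimension of the closure of a point, as a natural number -/
noncomputable def δ (c : C) : ℕ := (dim_closure_point k g c).choose

theorem δ_spec (c : C) : topologicalKrullDim ↥(closure ({c} : Set C)) = (δ k g c : WithBot ℕ∞) ∧
    @Algebra.trdeg k (C.residueField c) _ _ (resHom k g c).toAlgebra = (δ k g c : Cardinal.{u}) :=
  (dim_closure_point k g c).choose_spec

theorem isDimFun_δ : Cyc.IsDimFun C (fun c => (δ k g c : ℤ)) := by
  intro x y hsp hne
  refine ⟨?_, ?_⟩
  · have h := trdeg_lt_of_specializes k g x y hne hsp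
    rw [(δ_spec k g x).2, (δ_spec k g y).2] at h
    have : δ k g y < δ k g x := by exact_mod_cast h
    show ((δ k g y : ℕ) : ℤ) < ((δ k g x : ℕ) : ℤ)
    exact_mod_cast this
  · intro himm
    obtain ⟨n, hn1, hn2⟩ := trdeg_of_immediate k g x y hne hsp himm
    rw [(δ_spec k g y).2] at hn1
    rw [(δ_spec k g x).2] at hn2
    have h1 : δ k g y = n := by exact_mod_cast hn1
    have h2 : δ k g x = n + 1 := by exact_mod_cast hn2
    show ((δ k g x : ℕ) : ℤ) = ((δ k g y : ℕ) : ℤ) + 1
    rw [h1, h2]; push_cast; ring

set_option maxHeartbeats 1000000 in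
/-- the closure of a point meets every open neighbourhood in a set of the same dimension -/
theorem dim_closure_inter_open (O : C.Opens) (t : C) (ht : t ∈ O) :
    topologicalKrullDim ↥(closure ({t} : Set C) ∩ (O : Set C)) = (δ k g t : WithBot ℕ∞) := by
  let t' : ↥(O : Scheme.{u}) := ⟨t, ht⟩
  obtain ⟨m, hm1, hm2⟩ := dim_closure_point k (O.ι ≫ g) t'
  have htr := trdeg_resHom_of_isOpenImmersion k O.ι g t'
  have hmδ : m = δ k g t := by
    have h1 : @Algebra.trdeg k (C.residueField (O.ι t')) _ _ (resHom k g (O.ι t')).toAlgebra =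
        (δ k g t : Cardinal.{u}) := (δ_spec k g t).2
    rw [htr, hm2] at h1
    exact_mod_cast h1
  rw [← hmδ, ← hm1]
  have hemb : IsEmbedding (O.ι : ↥(O : Scheme.{u}) → C) := O.ι.isOpenEmbedding.isEmbedding
  have himg : (O.ι : ↥(O : Scheme.{u}) → C) '' closure ({t'} : Set ↥(O : Scheme.{u})) =
      closure ({t} : Set C) ∩ (O : Set C) := by
    rw [hemb.closure_eq_preimage_closure_image, Set.image_singleton,
      Set.image_preimage_eq_inter_range]
    congr 1
    exact O.range_ι
  have e := hemb.homeomorphImage (closure ({t'} : Set ↥(O : Scheme.{u})))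
  rw [← himg]
  exact (e.isHomeomorph.topologicalKrullDim_eq).symm

/-- the same for locally closed sets -/
theorem dim_closure_inter_locallyClosed (O F : Set C) (hO : IsOpen O) (hF : IsClosed F) (t : C)
    (ht : t ∈ O ∩ F) :
    topologicalKrullDim ↥(closure ({t} : Set C) ∩ (O ∩ F)) = (δ k g t : WithBot ℕ∞) := by
  have h1 : closure ({t} : Set C) ∩ (O ∩ F) = closure ({t} : Set C) ∩ O := by
    ext s
    constructor
    · rintro ⟨h1, h2, -⟩; exact ⟨h1, h2⟩
    · rintro ⟨h1, h2⟩
      exact ⟨h1, h2, hF.closure_subset_iff.2 (Set.singleton_subset_iff.2 ht.2) h1⟩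
  rw [h1]
  exact dim_closure_inter_open k g ⟨O, hO⟩ t ht.1

/-- dimension of a locally closed subset in terms of `δ` -/
theorem dim_locallyClosed_le_iff (O F : Set C) (hO : IsOpen O) (hF : IsClosed F)
    (b : WithBot ℕ∞) :
    topologicalKrullDim ↥(O ∩ F) ≤ b ↔ ∀ t ∈ O ∩ F, (δ k g t : WithBot ℕ∞) ≤ b := by
  constructor
  · intro h t ht
    rw [← dim_closure_inter_locallyClosed k g O F hO hF t ht]
    exact (dim_subset_le Set.inter_subset_right).trans h
  · intro h
    refine dim_le_of_chains _ (genStable_of_isOpen_inter_isClosed O F hO hF) b ?_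
    intro l hl
    have h1 := length_le_delta _ (isDimFun_δ k g) l
    have h2 := h _ (hl (Fin.last _))
    refine le_trans ?_ h2
    have h3 : l.length ≤ δ k g l.last := by
      have : (0 : ℤ) ≤ (δ k g l.head : ℤ) := Int.natCast_nonneg _
      have h4 : (l.length : ℤ) ≤ (δ k g l.last : ℤ) := by
        have := h1
        simp only at this
        omega
      exact_mod_cast h4
    exact_mod_cast h3

end Groth.Agent.Helper5.DimStrat
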