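import Mathlib
import Groth.Prelude
import Groth.Agent.Helper5.FibModK
import Groth.Agent.Helper5.DimStrat6
import Groth.Agent.Helper5.BCMin4

/-!
# FibModN: the dimension of the closure of a point in its fibre, in terms of rings of sections
-/

set_option autoImplicit false
set_option linter.unusedSectionVars false
set_option linter.unusedVariables false
set_option linter.style.haveILetI false
universe u
open CategoryTheory CategoryTheory.Limits AlgebraicGeometry TopologicalSpace Topology TensorProduct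

namespace Groth.Agent.Helper5.FibMod

open Groth.Agent.Helper5.FibPd

/-- the image of the closure of a set under an embedding -/
theorem image_closure_of_isEmbedding {S X : Type*} [TopologicalSpace S] [TopologicalSpace X]
    (φ : S → X) (hφ : IsEmbedding φ) (s : Set S) :
    φ '' closure s = closure (φ '' s) ∩ Set.range φ := by
  rw [hφ.closure_eq_preimage_closure_image, Set.image_preimage_eq_inter_range]

section Ring

variable (A B : Type u) [CommRing A] [CommRing B] [Algebra A B]

/-- the map from the spectrum of a fibre ring to the spectrum of the total ring is an embedding -/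
theorem isEmbedding_comap_includeRight (p : PrimeSpectrum A) :
    IsEmbedding (fibPt A B p) := by
  have h1 : fibPt A B p = Subtype.val ∘ (PrimeSpectrum.preimageHomeomorphFiber A B p).symm := by
    funext Q
    rfl
  rw [h1]
  exact IsEmbedding.subtypeVal.comp (PrimeSpectrum.preimageHomeomorphFiber A B p).symm.isEmbedding

theorem range_fibPt (p : PrimeSpectrum A) :
    Set.range (fibPt A B p) = PrimeSpectrum.comap (algebraMap A B) ⁻¹' {p} := by
  ext q
  constructor
  · rintro ⟨Q, rfl⟩
    exact fibPt_base A B p Q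
  · intro hq
    refine ⟨PrimeSpectrum.preimageEquivFiber A B p ⟨q, hq⟩, ?_⟩
    have h := (PrimeSpectrum.preimageEquivFiber A B p).symm_apply_apply ⟨q, hq⟩
    exact congrArg Subtype.val h

/-- the dimension of the closure of `q` inside its fibre -/
theorem dim_closure_inter_fibre (q : PrimeSpectrum B) :
    topologicalKrullDim ↥(closure ({q} : Set (PrimeSpectrum B)) ∩
      PrimeSpectrum.comap (algebraMap A B) ⁻¹' {PrimeSpectrum.comap (algebraMap A B) q}) =
      ((cB A B q : ℕ∞) : WithBot ℕ∞) := by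
  set p := PrimeSpectrum.comap (algebraMap A B) q with hp
  have hemb := isEmbedding_comap_includeRight A B p
  have h1 := image_closure_of_isEmbedding (fibPt A B p) hemb {fibQ A B q}
  rw [Set.image_singleton, fibPt_fibQ, range_fibPt] at h1
  rw [← h1, Groth.Agent.Helper5.FibDim.dim_image_eq _ hemb,
    Groth.Agent.Helper5.BCMin.dim_closure_singleton_primeSpectrum,
    Groth.Agent.Helper5.FtDim.ringKrullDim_quotient_eq_coheight]
  rfl

end Ring

section Geom

variable {X Y : Scheme.{u}} (f : X ⟶ Y) [LocallyOfFiniteType f]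

set_option maxHeartbeats 1600000 in
/-- **the dimension of the closure of a point in its fibre**, in terms of affine opens -/
theorem cdim_eq {U : X.Opens} (hU : IsAffineOpen U) {V : Y.Opens} (hV : IsAffineOpen V)
    (e : U ≤ f ⁻¹ᵁ V) (x : X) (hxU : x ∈ U) :
    letI : Algebra Γ(Y, V) Γ(X, U) := (f.appLE V U e).hom.toAlgebra
    topologicalKrullDim ↥(closure ({f.asFiber x} : Set ↥(f.fiber (f.base x)))) =
      ((cB Γ(Y, V) Γ(X, U) (hU.primeIdealOf ⟨x, hxU⟩) : ℕ∞) : WithBot ℕ∞) := by
  letI algAB : Algebra Γ(Y, V) Γ(X, U) := (f.appLE V U e).hom.toAlgebra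
  set y : Y := f.base x with hy
  set z := f.asFiber x with hz
  set q : PrimeSpectrum Γ(X, U) := hU.primeIdealOf ⟨x, hxU⟩ with hq
  have hzx : f.fiberι y z = x := f.fiberι_asFiber x
  -- step 1: localize on the fibre
  let g : f.fiber y ⟶ Spec (CommRingCat.of (Y.residueField y)) := f.fiberToSpecResidueField y
  haveI hg : LocallyOfFiniteType g :=
    inferInstanceAs (LocallyOfFiniteType (Limits.pullback.snd f (Y.fromSpecResidueField y)))
  let O : (f.fiber y).Opens := (f.fiberι y) ⁻¹ᵁ U
  have hzO : z ∈ O := by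
    show f.fiberι y z ∈ U
    rw [hzx]
    exact hxU
  have h1 := (Groth.Agent.Helper5.DimStrat.δ_spec (Y.residueField y) g z).1
  have h2 := Groth.Agent.Helper5.DimStrat.dim_closure_inter_open (Y.residueField y) g O z hzO
  rw [h1, ← h2]
  -- step 2: the image in `X`
  have hφ : IsEmbedding (f.fiberι y) := (f.fiberι y).isEmbedding
  have himg : (f.fiberι y) '' (closure ({z} : Set ↥(f.fiber y)) ∩ (O : Set ↥(f.fiber y))) =
      closure ({x} : Set X) ∩ (f ⁻¹' {y}) ∩ (U : Set X) := by
    have h3 : (O : Set ↥(f.fiber y)) = (f.fiberι y) ⁻¹' (U : Set X) := rfl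
    rw [h3, Set.image_inter_preimage, image_closure_of_isEmbedding _ hφ, Set.image_singleton, hzx,
      f.range_fiberι y]
  rw [← Groth.Agent.Helper5.FibDim.dim_image_eq _ hφ, himg]
  -- step 3: the image of the spectrum
  have hψ : IsEmbedding (hU.fromSpec : ↥(Spec Γ(X, U)) → X) :=
    hU.fromSpec.isOpenEmbedding.isEmbedding
  have hxq : hU.fromSpec q = x := hU.fromSpec_primeIdealOf ⟨x, hxU⟩
  have hcomm := hV.SpecMap_appLE_fromSpec f hU e
  have hfq : ∀ q' : PrimeSpectrum Γ(X, U), f (hU.fromSpec q') =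
      hV.fromSpec (PrimeSpectrum.comap (algebraMap Γ(Y, V) Γ(X, U)) q') := by
    intro q'
    have := congrArg (fun ψ : Spec Γ(X, U) ⟶ Y => ψ q') hcomm
    simp only [Scheme.Hom.comp_apply] at this
    exact this.symm
  have hVinj : Function.Injective (hV.fromSpec : ↥(Spec Γ(Y, V)) → Y) :=
    hV.fromSpec.isOpenEmbedding.injective
  let qs : ↥(Spec Γ(X, U)) := q
  have hxq' : hU.fromSpec qs = x := hxq
  have hsing : (hU.fromSpec : ↥(Spec Γ(X, U)) → X) '' ({qs} : Set ↥(Spec Γ(X, U))) = {x} := by
    rw [Set.image_singleton, hxq']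
  have himg2 : (hU.fromSpec : ↥(Spec Γ(X, U)) → X) ''
      (closure ({qs} : Set ↥(Spec Γ(X, U))) ∩
        (fun q' : ↥(Spec Γ(X, U)) => PrimeSpectrum.comap (algebraMap Γ(Y, V) Γ(X, U)) q') ⁻¹'
          {PrimeSpectrum.comap (algebraMap Γ(Y, V) Γ(X, U)) q}) =
      closure ({x} : Set X) ∩ (f ⁻¹' {y}) ∩ (U : Set X) := by
    ext x'
    constructor
    · rintro ⟨q', ⟨hq'1, hq'2⟩, rfl⟩
      refine ⟨⟨?_, ?_⟩, ?_⟩
      · have h4 : hU.fromSpec q' ∈ (hU.fromSpec : ↥(Spec Γ(X, U)) → X) ''
            closure ({qs} : Set ↥(Spec Γ(X, U))) := ⟨q', hq'1, rfl⟩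
        rw [image_closure_of_isEmbedding _ hψ, hsing] at h4
        exact h4.1
      · show f (hU.fromSpec q') = y
        have hq'3 : PrimeSpectrum.comap (algebraMap Γ(Y, V) Γ(X, U)) q' =
            PrimeSpectrum.comap (algebraMap Γ(Y, V) Γ(X, U)) q := hq'2
        rw [hfq q', hq'3, ← hfq q, hxq]
      · rw [← hU.range_fromSpec]
        exact ⟨q', rfl⟩
    · rintro ⟨⟨hx'1, hx'2⟩, hx'U⟩
      have hx'r : x' ∈ Set.range (hU.fromSpec : ↥(Spec Γ(X, U)) → X) := by
        rw [hU.range_fromSpec]
        exact hx'U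
      obtain ⟨q', rfl⟩ := hx'r
      refine ⟨q', ⟨?_, ?_⟩, rfl⟩
      · have h4 : hU.fromSpec q' ∈ closure ((hU.fromSpec : ↥(Spec Γ(X, U)) → X) ''
            ({qs} : Set ↥(Spec Γ(X, U)))) ∩ Set.range (hU.fromSpec : ↥(Spec Γ(X, U)) → X) := by
          rw [hsing]
          exact ⟨hx'1, q', rfl⟩
        rw [← image_closure_of_isEmbedding _ hψ] at h4
        obtain ⟨q'', hq'', hqq⟩ := h4
        rw [← hψ.injective hqq]
        exact hq''
      · show PrimeSpectrum.comap (algebraMap Γ(Y, V) Γ(X, U)) q' =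
          PrimeSpectrum.comap (algebraMap Γ(Y, V) Γ(X, U)) q
        apply hVinj
        rw [← hfq q', ← hfq q, hxq]
        exact hx'2
  rw [← himg2, Groth.Agent.Helper5.FibDim.dim_image_eq _ hψ]
  exact dim_closure_inter_fibre Γ(Y, V) Γ(X, U) q

end Geom

end Groth.Agent.Helper5.FibMod
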