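import Mathlib
import Groth.Prelude
import Groth.Agent.Helper5.FibModM
import Groth.Agent.Helper5.FibModN

/-!
# FibModO: openness of the loci defined by the rectified depth of the fibres of a flat module
(S5921, S5920)
-/

set_option autoImplicit false
set_option linter.unusedSectionVars false
set_option linter.unusedVariables false
set_option linter.style.haveILetI false
universe u
open CategoryTheory CategoryTheory.Limits AlgebraicGeometry TopologicalSpace TensorProduct
open IsLocalRing

namespace Groth.Agent.Helper5.FibMod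

open Groth.Agent.Helper1 Groth.Agent.Helper2 Groth.Agent.Helper5.FibPd

section Noeth

variable (A B : Type u) [CommRing A] [CommRing B] [IsNoetherianRing A] [Algebra A B]
  [Algebra.FiniteType A B] (M : Type u) [AddCommGroup M] [Module B M] [Module A M]
  [IsScalarTower A B M] [Module.Finite B M] [Module.Flat A M]

set_option maxHeartbeats 3200000 in
/-- openness of the loci of the rectified depth, Noetherian base -/
theorem ringOpen_rect (n : ℕ) :
    IsOpen {q : PrimeSpectrum B | (n : WithBot ℕ∞) ≤ rectB A B M q} := by
  obtain ⟨N, φ, hφ⟩ := (Algebra.FiniteType.iff_quotient_mvPolynomial'' (R := A) (S := B)).mp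
    inferInstance
  letI : Algebra (MvPolynomial (Fin N) A) B := φ.toRingHom.toAlgebra
  haveI : IsScalarTower A (MvPolynomial (Fin N) A) B :=
    IsScalarTower.of_algebraMap_eq (fun a => (φ.commutes a).symm)
  have hs : Function.Surjective (algebraMap (MvPolynomial (Fin N) A) B) := hφ
  letI : Module (MvPolynomial (Fin N) A) M := Module.compHom M (algebraMap (MvPolynomial (Fin N) A) B)
  haveI : IsScalarTower (MvPolynomial (Fin N) A) B M :=
    IsScalarTower.of_algebraMap_smul fun r m => rfl
  haveI hNB : IsNoetherianRing B := Algebra.FiniteType.isNoetherianRing A B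
  haveI : Module.Finite (MvPolynomial (Fin N) A) B :=
    Module.Finite.of_surjective (Algebra.linearMap _ _) hs
  haveI : Module.Finite (MvPolynomial (Fin N) A) M := Module.Finite.trans B M
  have hEq : {q : PrimeSpectrum B | (n : WithBot ℕ∞) ≤ rectB A B M q} =
      (Module.support B M)ᶜ ∪
        {q | n ≤ N ∧ PrimeSpectrum.comap (algebraMap (MvPolynomial (Fin N) A) B) q ∈
          RegBound.pdLocus (ModuleCat.of (MvPolynomial (Fin N) A) M) (N - n)} := by
    ext q
    haveI := q.2
    simp only [Set.mem_ofPred_eq, Set.mem_union, Set.mem_compl_iff]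
    unfold rectB
    have hdep : LocCoh.depth (EGA4.FibLocRing A B q.asIdeal)
        ((EGA4.FibLocRing A B q.asIdeal) ⊗[B] M) =
        LocCoh.depth (EGA4.FibLocRing A B q.asIdeal) (EGA4.FibLocMod A B q.asIdeal M) :=
      Groth.Agent.Helper2.DepthCM.idealDepth_congr _ (fibTensorEquiv A B q.asIdeal M)
    rw [hdep]
    by_cases hsupp : q ∈ Module.support B M
    · obtain ⟨p, Qb, hq⟩ := exists_fibre_prime' A B q
      obtain rfl : fibPt A B p Qb = q := PrimeSpectrum.ext hq
      obtain ⟨e, δ, c, hpd, hdepth, hc, hN⟩ := core_mod A B N M hs p Qb hsupp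
      rw [hdepth, cB_fibPt, hc]
      have h1 : ((n : ℕ) : WithBot ℕ∞) ≤ (((δ : ℕ) : ℕ∞) : WithBot ℕ∞) + (((c : ℕ) : ℕ∞) : WithBot ℕ∞) ↔
          n ≤ δ + c := by
        constructor
        · intro hle; exact_mod_cast hle
        · intro hle; exact_mod_cast hle
      rw [h1, hpd]
      constructor
      · intro hle
        right
        exact ⟨by omega, by omega⟩
      · rintro (hns | ⟨h2, h3⟩)
        · exact absurd hsupp hns
        · omega
    · have hsub : Subsingleton (LocalizedModule q.asIdeal.primeCompl M) := by
        by_contra hns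
        rw [not_subsingleton_iff_nontrivial] at hns
        exact hsupp (Module.mem_support_iff.mpr hns)
      haveI := subsingleton_fibLocMod A B q.asIdeal M
      rw [Groth.Agent.Helper2.DepthLoc.depth_eq_top_of_subsingleton]
      constructor
      · intro _
        exact Or.inl hsupp
      · intro _
        rw [← WithBot.coe_add, top_add]
        exact le_top
  rw [hEq]
  refine IsOpen.union ?_ ?_
  · exact (Module.isClosed_support (R := B) (M := M)).isOpen_compl
  · by_cases hn : n ≤ N
    · have : {q : PrimeSpectrum B | n ≤ N ∧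
          PrimeSpectrum.comap (algebraMap (MvPolynomial (Fin N) A) B) q ∈
            RegBound.pdLocus (ModuleCat.of (MvPolynomial (Fin N) A) M) (N - n)} =
          PrimeSpectrum.comap (algebraMap (MvPolynomial (Fin N) A) B) ⁻¹'
            RegBound.pdLocus (ModuleCat.of (MvPolynomial (Fin N) A) M) (N - n) := by
        ext q
        simp [hn]
      rw [this]
      exact (RegBound.isOpen_pdLocus (N - n) (ModuleCat.of (MvPolynomial (Fin N) A) M)).preimage
        (PrimeSpectrum.continuous_comap _)
    · have : {q : PrimeSpectrum B | n ≤ N ∧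
          PrimeSpectrum.comap (algebraMap (MvPolynomial (Fin N) A) B) q ∈
            RegBound.pdLocus (ModuleCat.of (MvPolynomial (Fin N) A) M) (N - n)} = ∅ := by
        ext q
        simp [hn]
      rw [this]
      exact isOpen_empty

end Noeth

section Gen

/-- the rectified depth only depends on the isomorphism class of the module -/
theorem rectB_congr (A B : Type u) [CommRing A] [CommRing B] [Algebra A B]
    (M M' : Type u) [AddCommGroup M] [Module B M] [AddCommGroup M'] [Module B M']
    (e : M ≃ₗ[B] M') (q : PrimeSpectrum B) : rectB A B M q = rectB A B M' q := by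
  unfold rectB
  have hdep : LocCoh.depth (EGA4.FibLocRing A B q.asIdeal)
      ((EGA4.FibLocRing A B q.asIdeal) ⊗[B] M) =
      LocCoh.depth (EGA4.FibLocRing A B q.asIdeal) ((EGA4.FibLocRing A B q.asIdeal) ⊗[B] M') :=
    Groth.Agent.Helper2.DepthCM.idealDepth_congr _
      (TensorProduct.AlgebraTensorModule.congr
        (LinearEquiv.refl (EGA4.FibLocRing A B q.asIdeal) (EGA4.FibLocRing A B q.asIdeal)) e)
  rw [hdep]

set_option maxHeartbeats 1600000 in
/-- openness of the loci of the rectified depth, over an arbitrary base -/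
theorem isOpen_rect_ring (A B : Type u) [CommRing A] [CommRing B] [Algebra A B]
    [Algebra.FinitePresentation A B] (M : Type u) [AddCommGroup M] [Module B M] [Module A M]
    [IsScalarTower A B M] [Module.FinitePresentation B M] [Module.Flat A M] (n : ℕ) :
    IsOpen {q : PrimeSpectrum B | (n : WithBot ℕ∞) ≤ rectB A B M q} := by
  obtain ⟨C₀, D₀, _, _, _, α, β, M₀, _, _, _, _, hpo, hft, hφft, hfin, ⟨eN⟩, hflat⟩ :=
    Groth.Agent.Lead.FD21.exists_noeth_model_module (A := A) (B := B) M
  haveI := hφft
  haveI := hfin
  haveI : Module.Flat C₀ M₀ := hflat inferInstance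
  haveI : IsNoetherianRing C₀ := Algebra.FiniteType.isNoetherianRing ℤ C₀
  letI algCA : Algebra C₀ A := α.toAlgebra
  letI algDB : Algebra D₀ B := β.toAlgebra
  letI algCB : Algebra C₀ B := ((algebraMap A B).comp α).toAlgebra
  haveI : IsScalarTower C₀ A B := IsScalarTower.of_algebraMap_eq (fun _ => rfl)
  haveI : IsScalarTower C₀ D₀ B := by
    refine IsScalarTower.of_algebraMap_eq (fun c => ?_)
    have := congrArg (fun φ => φ.hom c) hpo.w
    exact this.symm
  haveI : Algebra.IsPushout C₀ D₀ A B := CommRingCat.isPushout_iff_isPushout.mp hpo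
  have h0 := ringOpen_rect C₀ D₀ M₀ n
  have hEq : {q : PrimeSpectrum B | (n : WithBot ℕ∞) ≤ rectB A B M q} =
      PrimeSpectrum.comap (algebraMap D₀ B) ⁻¹'
        {q : PrimeSpectrum D₀ | (n : WithBot ℕ∞) ≤ rectB C₀ D₀ M₀ q} := by
    ext q
    simp only [Set.mem_ofPred_eq, Set.mem_preimage]
    rw [rectB_congr A B M (B ⊗[D₀] M₀) eN q, rect_bc C₀ D₀ A B M₀ q]
  rw [hEq]
  exact h0.preimage (PrimeSpectrum.continuous_comap _)

end Gen

end Groth.Agent.Helper5.FibMod
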