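import Mathlib
import Groth.Prelude
import Groth.Agent.Helper5.FibModO

/-!
# FibModP: lower semicontinuity of the rectified depth of the fibres of a flat module
(S5921, S5920)
-/

set_option autoImplicit false
set_option linter.unusedSectionVars false
set_option linter.unusedVariables false
set_option linter.style.haveILetI false
universe u
open CategoryTheory CategoryTheory.Limits AlgebraicGeometry TopologicalSpace TensorProduct
open IsLocalRing

namespace Groth.Agent.Helper5.FibMod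

open Groth.Agent.Helper1 Groth.Agent.Helper2 Groth.Agent.Helper5.FibPd

/-- the property "depth equal to `d`" -/
noncomputable def depthIs (d : ℕ∞) : LocModIso.{u} where
  P R _ _ N _ _ := IsNoetherianRing R ∧ Module.Finite R N ∧ LocCoh.depth R N = d
  iso R R' _ _ _ _ N N' _ _ _ _ e eN h hP := by
    obtain ⟨hN, hF, hle⟩ := hP
    haveI := hN
    haveI := hF
    obtain ⟨h1, h2, h3, h4⟩ := pair_iso R R' N N' e eN h
    exact ⟨h1, h2, by rw [h4]; exact hle⟩

section Geom

variable {X Y : Scheme.{u}} (f : X ⟶ Y) (F : X.Modules)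

/-- transport of a quantity attached to a point of a fibre -/
theorem fibre_transport {α : Sort*} (Φ : ∀ s : Y, ↥(f.fiber s) → α) (s : Y) (z : ↥(f.fiber s)) :
    Φ (f.base (f.fiberι s z)) (f.asFiber (f.fiberι s z)) = Φ s z := by
  have key : ∀ (s' : Y) (hs : s' = s) (z' : ↥(f.fiber s')),
      f.fiberι s' z' = f.fiberι s z → Φ s' z' = Φ s z := by
    intro s' hs z' hz
    subst hs
    have : z' = z := (f.fiberι s').isEmbedding.injective hz
    rw [this]
  have h1 : f.base (f.fiberι s z) = s := by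
    have hz : f.fiberι s z ∈ Set.range (f.fiberι s) := ⟨z, rfl⟩
    rw [f.range_fiberι s] at hz
    exact hz
  exact key _ h1 _ (f.fiberι_asFiber (f.fiberι s z))

/-- the rectified depth of the restriction of `F` to a fibre, at a point of the fibre -/
noncomputable def rectFib (s : Y) (z : ↥(f.fiber s)) : WithBot ℕ∞ :=
  ((LocCoh.depth ((f.fiber s).presheaf.stalk z)
    (((Scheme.Modules.pullback (f.fiberι s)).obj F).presheaf.stalk z) : ℕ∞) : WithBot ℕ∞) +
    topologicalKrullDim ↥(closure ({z} : Set ↥(f.fiber s)))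

/-- the rectified depth of the restriction of `F` to the fibre through `x`, at `x` -/
noncomputable def rectAt (x : X) : WithBot ℕ∞ := rectFib f F (f.base x) (f.asFiber x)

theorem rectFib_eq (s : Y) (z : ↥(f.fiber s)) : rectFib f F s z = rectAt f F (f.fiberι s z) :=
  (fibre_transport f (rectFib f F) s z).symm

set_option maxHeartbeats 1600000 in
/-- the affine-local description of the rectified depth -/
theorem rectAt_eq [LocallyOfFiniteType f] (hF : CohB1.IsFP F)
    {U : X.Opens} (hU : IsAffineOpen U) {V : Y.Opens} (hV : IsAffineOpen V) (e : U ≤ f ⁻¹ᵁ V)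
    (x : X) (hxU : x ∈ U) :
    letI : Algebra Γ(Y, V) Γ(X, U) := (f.appLE V U e).hom.toAlgebra
    rectAt f F x = rectB Γ(Y, V) Γ(X, U) Γ(F, U) (hU.primeIdealOf ⟨x, hxU⟩) := by
  letI : Algebra Γ(Y, V) Γ(X, U) := (f.appLE V U e).hom.toAlgebra
  haveI : SheafOfModules.IsFinitePresentation (R := X.ringCatSheaf) F := hF
  haveI : F.IsQuasicoherent := inferInstance
  obtain ⟨h1, h2⟩ := nf_fibre_pair f F hF (f.base x) (f.asFiber x)
  have h3 := (fibModAt_iff (depthIs (LocCoh.depth ((f.fiber (f.base x)).presheaf.stalk (f.asFiber x))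
    (((Scheme.Modules.pullback (f.fiberι (f.base x))).obj F).presheaf.stalk (f.asFiber x))))
    f F hU hV e x hxU).mp ⟨h1, h2, rfl⟩
  have h4 := cdim_eq f hU hV e x hxU
  unfold rectAt rectFib rectB
  rw [h4, h3.2.2]

set_option maxHeartbeats 1600000 in
/-- **lower semicontinuity of the rectified depth** -/
theorem isOpen_rectAt [LocallyOfFinitePresentation f] (hF : CohB1.IsFP F)
    (hflat : FlatMod.IsFlatOver f F) (n : ℕ) :
    IsOpen {x : X | (n : WithBot ℕ∞) ≤ rectAt f F x} := by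
  haveI : SheafOfModules.IsFinitePresentation (R := X.ringCatSheaf) F := hF
  haveI : F.IsQuasicoherent := inferInstance
  rw [isOpen_iff_forall_mem_open]
  intro x hx
  obtain ⟨_, ⟨V, hV, rfl⟩, hxV, -⟩ :=
    Y.isBasis_affineOpens.exists_subset_of_mem_open (Set.mem_univ (f.base x)) isOpen_univ
  let Vo : Y.Opens := V
  obtain ⟨_, ⟨U, hU, rfl⟩, hxU, hUV⟩ :=
    X.isBasis_affineOpens.exists_subset_of_mem_open (show x ∈ (f ⁻¹ᵁ Vo : Set X) from hxV)
      (f ⁻¹ᵁ Vo).isOpen
  let Uo : X.Opens := U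
  have e : Uo ≤ f ⁻¹ᵁ Vo := hUV
  have hUo : IsAffineOpen Uo := hU
  have hVo : IsAffineOpen Vo := hV
  letI algAB : Algebra Γ(Y, Vo) Γ(X, Uo) := (f.appLE Vo Uo e).hom.toAlgebra
  haveI : Algebra.FinitePresentation Γ(Y, Vo) Γ(X, Uo) :=
    RingHom.finitePresentation_algebraMap.1 <|
      HasRingHomProperty.appLE (P := @LocallyOfFinitePresentation) f inferInstance ⟨Vo, hVo⟩
        ⟨Uo, hUo⟩ e
  haveI : Module.FinitePresentation Γ(X, Uo) Γ(F, Uo) :=
    Groth.Agent.Helper4.FPGlue.fp_sections F hF hUo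
  letI modAF : Module Γ(Y, Vo) Γ(F, Uo) := Module.compHom _ (f.appLE Vo Uo e).hom
  haveI : IsScalarTower Γ(Y, Vo) Γ(X, Uo) Γ(F, Uo) :=
    IsScalarTower.of_algebraMap_smul fun r m => rfl
  haveI : Module.Flat Γ(Y, Vo) Γ(F, Uo) :=
    (Groth.Agent.Helper5.AffFlat.flat_sections_iff f F hVo hUo e).mp (fun x _ => hflat x)
  have hT := isOpen_rect_ring Γ(Y, Vo) Γ(X, Uo) Γ(F, Uo) n
  set T : Set (PrimeSpectrum Γ(X, Uo)) :=
    {q | (n : WithBot ℕ∞) ≤ rectB Γ(Y, Vo) Γ(X, Uo) Γ(F, Uo) q} with hTdef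
  have hcont : Continuous (fun y : Uo => hUo.primeIdealOf y) := by
    have : (fun y : Uo => hUo.primeIdealOf y) = hUo.isoSpec.hom := rfl
    rw [this]
    exact hUo.isoSpec.hom.continuous
  refine ⟨Subtype.val '' ((fun y : Uo => hUo.primeIdealOf y) ⁻¹' T), ?_, ?_, ?_⟩
  · rintro _ ⟨y, hy, rfl⟩
    show (n : WithBot ℕ∞) ≤ rectAt f F y.1
    rw [rectAt_eq f F hF hUo hVo e y.1 y.2]
    exact hy
  · exact Uo.isOpen.isOpenMap_subtype_val _ (hT.preimage hcont)
  · refine ⟨⟨x, hxU⟩, ?_, rfl⟩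
    show (n : WithBot ℕ∞) ≤ rectB Γ(Y, Vo) Γ(X, Uo) Γ(F, Uo) (hUo.primeIdealOf ⟨x, hxU⟩)
    rw [← rectAt_eq f F hF hUo hVo e x hxU]
    exact hx

/-- S5921 -/
theorem s5921 [LocallyOfFinitePresentation f] (hF : CohB1.IsFP F)
    (hflat : FlatMod.IsFlatOver f F) (n : ℕ) :
    IsOpen {x : X | (n : WithBot ℕ∞) ≤
      ((LocCoh.depth ((f.fiber (f.base x)).presheaf.stalk (f.asFiber x)) (((Scheme.Modules.pullback (f.fiberι (f.base x))).obj F).presheaf.stalk (f.asFiber x)) : ℕ∞) : WithBot ℕ∞) +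
        topologicalKrullDim ↥(closure ({f.asFiber x} : Set ↥(f.fiber (f.base x))))} :=
  isOpen_rectAt f F hF hflat n

/-- S5920 -/
theorem s5920 [IsProper f] [LocallyOfFinitePresentation f] (hF : CohB1.IsFP F)
    (hflat : FlatMod.IsFlatOver f F) (n : ℕ) :
    IsOpen {y : Y | ∀ x : ↥(f.fiber y), (n : WithBot ℕ∞) ≤
      ((LocCoh.depth ((f.fiber y).presheaf.stalk x) (((Scheme.Modules.pullback (f.fiberι y)).obj F).presheaf.stalk x) : ℕ∞) : WithBot ℕ∞) +
        topologicalKrullDim ↥(closure ({x} : Set ↥(f.fiber y)))} := by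
  have hopen := isOpen_rectAt f F hF hflat n
  have hEq : {y : Y | ∀ x : ↥(f.fiber y), (n : WithBot ℕ∞) ≤
      ((LocCoh.depth ((f.fiber y).presheaf.stalk x) (((Scheme.Modules.pullback (f.fiberι y)).obj F).presheaf.stalk x) : ℕ∞) : WithBot ℕ∞) +
        topologicalKrullDim ↥(closure ({x} : Set ↥(f.fiber y)))} =
      (f.base '' {x : X | (n : WithBot ℕ∞) ≤ rectAt f F x}ᶜ)ᶜ := by
    ext y
    simp only [Set.mem_ofPred_eq, Set.mem_compl_iff, Set.mem_image, not_exists, not_and]
    constructor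
    · intro h x0 hx0 hfx
      apply hx0
      subst hfx
      exact h (f.asFiber x0)
    · intro h z
      have h1 : f.base (f.fiberι y z) = y := by
        have hz : f.fiberι y z ∈ Set.range (f.fiberι y) := ⟨z, rfl⟩
        rw [f.range_fiberι y] at hz
        exact hz
      have h2 : (n : WithBot ℕ∞) ≤ rectAt f F (f.fiberι y z) := by
        by_contra hc
        exact h (f.fiberι y z) (fun hh => hc hh) h1
      rw [← rectFib_eq] at h2
      exact h2
  rw [hEq]
  exact isOpen_compl_iff.mpr ((Scheme.Hom.isClosedMap f) _ (isClosed_compl_iff.mpr hopen))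

end Geom

end Groth.Agent.Helper5.FibMod
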