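import Mathlib
import Groth.Prelude
import Groth.Agent.Helper5.FibModO

/-!
# FibModQ: associated points of the fibres of a flat module (ring level)
-/

set_option autoImplicit false
set_option linter.unusedSectionVars false
set_option linter.unusedVariables false
set_option linter.style.haveILetI false
universe u
open CategoryTheory TensorProduct IsLocalRing AlgebraicGeometry

namespace Groth.Agent.Helper5.FibMod

open Groth.Agent.Helper1 Groth.Agent.Helper2 Groth.Agent.Helper5.FibPd

section Chev

variable (A B : Type u) [CommRing A] [CommRing B] [Algebra A B]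

/-- membership in the Chevalley sets, in terms of primes of `B` -/
theorem mem_chevSet_iff' (I : Ideal B) (m : ℕ) (q : PrimeSpectrum B) :
    q ∈ chevSet A B I m ↔ ∃ q' : PrimeSpectrum B, q' ≤ q ∧
      PrimeSpectrum.comap (algebraMap A B) q' = PrimeSpectrum.comap (algebraMap A B) q ∧
      I ≤ q'.asIdeal ∧ (m : ℕ∞) ≤ cB A B q' := by
  constructor
  · rintro ⟨p, Q, Q', rfl, hle, hI, hm⟩
    refine ⟨fibPt A B p Q', ?_, ?_, hI, ?_⟩
    · exact Ideal.comap_mono hle
    · rw [fibPt_base, fibPt_base]
    · rw [cB_fibPt]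
      exact hm
  · rintro ⟨q', hle, hc, hI, hm⟩
    set p := PrimeSpectrum.comap (algebraMap A B) q with hp
    let e := PrimeSpectrum.preimageOrderIsoFiber A B p
    have hQ : fibPt A B p (e ⟨q, rfl⟩) = q :=
      congrArg Subtype.val (e.symm_apply_apply ⟨q, rfl⟩)
    have hQ' : fibPt A B p (e ⟨q', hc⟩) = q' :=
      congrArg Subtype.val (e.symm_apply_apply ⟨q', hc⟩)
    refine ⟨p, e ⟨q, rfl⟩, e ⟨q', hc⟩, hQ, ?_, ?_, ?_⟩
    · exact e.monotone hle
    · rw [hQ']
      exact hI
    · rw [← cB_fibPt A B p (e ⟨q', hc⟩), hQ']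
      exact hm

/-- strict generizations inside a fibre have bigger closures -/
theorem cB_add_one_le (q'' q' : PrimeSpectrum B) (hlt : q'' < q')
    (hc : PrimeSpectrum.comap (algebraMap A B) q'' = PrimeSpectrum.comap (algebraMap A B) q') :
    cB A B q' + 1 ≤ cB A B q'' := by
  set p := PrimeSpectrum.comap (algebraMap A B) q' with hp
  let e := PrimeSpectrum.preimageOrderIsoFiber A B p
  have hQ' : fibPt A B p (e ⟨q', rfl⟩) = q' :=
    congrArg Subtype.val (e.symm_apply_apply ⟨q', rfl⟩)
  have hQ'' : fibPt A B p (e ⟨q'', hc⟩) = q'' :=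
    congrArg Subtype.val (e.symm_apply_apply ⟨q'', hc⟩)
  rw [← hQ', ← hQ'', cB_fibPt, cB_fibPt]
  apply Order.coheight_add_one_le
  exact e.strictMono hlt

/-- the closures of the points of the fibres have bounded dimension -/
theorem cB_le (N : ℕ) [Algebra (MvPolynomial (Fin N) A) B] [IsScalarTower A (MvPolynomial (Fin N) A) B]
    (hs : Function.Surjective (algebraMap (MvPolynomial (Fin N) A) B)) (q : PrimeSpectrum B) :
    cB A B q ≤ N := by
  haveI := (PrimeSpectrum.comap (algebraMap A B) q).2
  have h := height_add_coheight A B N hs (PrimeSpectrum.comap (algebraMap A B) q).asIdeal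
    (fibQ A B q)
  have h' : (Ideal.comap (fibMap A B N (PrimeSpectrum.comap (algebraMap A B) q).asIdeal)
      (fibQ A B q).asIdeal).height + Order.coheight (fibQ A B q) = (N : ℕ∞) := by
    exact_mod_cast h
  unfold cB
  rw [← h']
  exact le_add_self

end Chev

section Ass

variable (A B : Type u) [CommRing A] [CommRing B] [Algebra A B]
  (M : Type u) [AddCommGroup M] [Module B M]

/-- the depth of the fibre module at a prime -/
noncomputable def depthB (q : PrimeSpectrum B) : ℕ∞ :=
  LocCoh.depth (EGA4.FibLocRing A B q.asIdeal) ((EGA4.FibLocRing A B q.asIdeal) ⊗[B] M)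

theorem rectB_eq (q : PrimeSpectrum B) :
    rectB A B M q = ((depthB A B M q : ℕ∞) : WithBot ℕ∞) + ((cB A B q : ℕ∞) : WithBot ℕ∞) := rfl

/-- associated points of the fibres whose closure has dimension `m`, in terms of the rectified
depth -/
theorem ass_iff_rect (q : PrimeSpectrum B) (m : ℕ) :
    (rectB A B M q ≤ (m : WithBot ℕ∞) ∧ (m : ℕ∞) ≤ cB A B q) ↔
      (depthB A B M q = 0 ∧ cB A B q = m) := by
  rw [rectB_eq]
  constructor
  · rintro ⟨h1, h2⟩
    have h1' : depthB A B M q + cB A B q ≤ (m : ℕ∞) := by exact_mod_cast h1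
    have h3 : cB A B q ≤ (m : ℕ∞) := le_add_self.trans h1'
    have h4 : cB A B q = m := le_antisymm h3 h2
    rw [h4] at h1'
    refine ⟨?_, h4⟩
    by_contra hne
    have hpos : 1 ≤ depthB A B M q := Order.one_le_iff_pos.mpr (pos_iff_ne_zero.mpr hne)
    have : (1 : ℕ∞) + m ≤ m := (add_le_add_left hpos _).trans h1'
    have h5 : ((1 + m : ℕ) : ℕ∞) ≤ (m : ℕ∞) := by exact_mod_cast this
    have h6 : 1 + m ≤ m := by exact_mod_cast h5
    omega
  · rintro ⟨h1, h2⟩
    rw [h1, h2]
    refine ⟨?_, le_rfl⟩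
    simp

end Ass

end Groth.Agent.Helper5.FibMod
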