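import Mathlib
import Groth.Prelude
import Groth.Agent.Helper5.FibModQ

/-!
# FibModR: openness of conditions on the associated points of the fibres (ring level)
-/

set_option autoImplicit false
set_option linter.unusedSectionVars false
set_option linter.unusedVariables false
set_option linter.style.haveILetI false
universe u
open CategoryTheory TensorProduct IsLocalRing AlgebraicGeometry

namespace Groth.Agent.Helper5.FibMod

open Groth.Agent.Helper1 Groth.Agent.Helper2 Groth.Agent.Helper5.FibPd

variable (A B : Type u) [CommRing A] [CommRing B] [Algebra A B]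
  [Algebra.FinitePresentation A B] (M : Type u) [AddCommGroup M] [Module B M] [Module A M]
  [IsScalarTower A B M] [Module.FinitePresentation B M] [Module.Flat A M]

/-- the closed set where the rectified depth is at most `m` -/
def wSet (m : ℕ) : Set (PrimeSpectrum B) := {q | rectB A B M q ≤ (m : WithBot ℕ∞)}

theorem isClosed_wSet (m : ℕ) : IsClosed (wSet A B M m) := by
  have h := isOpen_rect_ring A B M (m + 1)
  have hEq : wSet A B M m = {q : PrimeSpectrum B | ((m + 1 : ℕ) : WithBot ℕ∞) ≤ rectB A B M q}ᶜ := by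
    ext q
    simp only [wSet, Set.mem_ofPred_eq, Set.mem_compl_iff, not_le]
    rw [← ENat.WithBot.lt_add_one_iff]
    push_cast
    rfl
  rw [hEq]
  exact isClosed_compl_iff.mpr h

/-- the set of primes having a generization in the fibre which is an associated point of the fibre
module, with closure of dimension `m` -/
def assSet (m : ℕ) : Set (PrimeSpectrum B) :=
  chevSet A B (PrimeSpectrum.vanishingIdeal (wSet A B M m)) m

theorem isClosed_assSet (m : ℕ) : IsClosed (assSet A B M m) := by
  haveI : Algebra.FiniteType A B := inferInstance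
  exact isClosed_chevSet A B _ _

theorem mem_assSet_iff (m : ℕ) (q : PrimeSpectrum B) :
    q ∈ assSet A B M m ↔ ∃ q' : PrimeSpectrum B, q' ≤ q ∧
      PrimeSpectrum.comap (algebraMap A B) q' = PrimeSpectrum.comap (algebraMap A B) q ∧
      depthB A B M q' = 0 ∧ cB A B q' = m := by
  unfold assSet
  rw [mem_chevSet_iff']
  refine exists_congr fun q' => and_congr_right fun hle => and_congr_right fun hc => ?_
  rw [← ass_iff_rect]
  refine and_congr_left fun hm => ?_
  have h1 : (PrimeSpectrum.vanishingIdeal (wSet A B M m) ≤ q'.asIdeal) ↔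
      q' ∈ PrimeSpectrum.zeroLocus ((PrimeSpectrum.vanishingIdeal (wSet A B M m) : Ideal B) :
        Set B) := by
    rw [PrimeSpectrum.mem_zeroLocus]
    exact Iff.rfl
  rw [h1, PrimeSpectrum.zeroLocus_vanishingIdeal_eq_closure, (isClosed_wSet A B M m).closure_eq]
  rfl

/-- the same with two nested associated points -/
def assSet₂ (m m' : ℕ) : Set (PrimeSpectrum B) :=
  chevSet A B (PrimeSpectrum.vanishingIdeal (wSet A B M m ∩ assSet A B M m')) m

theorem isClosed_assSet₂ (m m' : ℕ) : IsClosed (assSet₂ A B M m m') := by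
  haveI : Algebra.FiniteType A B := inferInstance
  exact isClosed_chevSet A B _ _

theorem mem_assSet₂_iff (m m' : ℕ) (q : PrimeSpectrum B) :
    q ∈ assSet₂ A B M m m' ↔ ∃ q' : PrimeSpectrum B, q' ≤ q ∧
      PrimeSpectrum.comap (algebraMap A B) q' = PrimeSpectrum.comap (algebraMap A B) q ∧
      depthB A B M q' = 0 ∧ cB A B q' = m ∧ q' ∈ assSet A B M m' := by
  unfold assSet₂
  rw [mem_chevSet_iff']
  refine exists_congr fun q' => and_congr_right fun hle => and_congr_right fun hc => ?_
  have h1 : (PrimeSpectrum.vanishingIdeal (wSet A B M m ∩ assSet A B M m') ≤ q'.asIdeal) ↔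
      q' ∈ PrimeSpectrum.zeroLocus ((PrimeSpectrum.vanishingIdeal
        (wSet A B M m ∩ assSet A B M m') : Ideal B) : Set B) := by
    rw [PrimeSpectrum.mem_zeroLocus]
    exact Iff.rfl
  rw [h1, PrimeSpectrum.zeroLocus_vanishingIdeal_eq_closure,
    ((isClosed_wSet A B M m).inter (isClosed_assSet A B M m')).closure_eq]
  have h2 := ass_iff_rect A B M q' m
  constructor
  · rintro ⟨⟨hw, ha⟩, hm⟩
    obtain ⟨h3, h4⟩ := h2.mp ⟨hw, hm⟩
    exact ⟨h3, h4, ha⟩
  · rintro ⟨h3, h4, ha⟩
    obtain ⟨hw, hm⟩ := h2.mpr ⟨h3, h4⟩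
    exact ⟨⟨hw, ha⟩, hm⟩

set_option maxHeartbeats 1600000 in
/-- ring version of S4982 -/
theorem isOpen_assDims (Φ : Finset ℕ) :
    IsOpen {q : PrimeSpectrum B | ∀ q' : PrimeSpectrum B, q' ≤ q →
      PrimeSpectrum.comap (algebraMap A B) q' = PrimeSpectrum.comap (algebraMap A B) q →
      depthB A B M q' = 0 → ∃ n ∈ Φ, cB A B q' = (n : ℕ∞)} := by
  haveI : Algebra.FiniteType A B := inferInstance
  obtain ⟨N, φ, hφ⟩ := (Algebra.FiniteType.iff_quotient_mvPolynomial'' (R := A) (S := B)).mp
    inferInstance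
  letI : Algebra (MvPolynomial (Fin N) A) B := φ.toRingHom.toAlgebra
  haveI : IsScalarTower A (MvPolynomial (Fin N) A) B :=
    IsScalarTower.of_algebraMap_eq (fun a => (φ.commutes a).symm)
  have hs : Function.Surjective (algebraMap (MvPolynomial (Fin N) A) B) := hφ
  have hEq : {q : PrimeSpectrum B | ∀ q' : PrimeSpectrum B, q' ≤ q →
      PrimeSpectrum.comap (algebraMap A B) q' = PrimeSpectrum.comap (algebraMap A B) q →
      depthB A B M q' = 0 → ∃ n ∈ Φ, cB A B q' = (n : ℕ∞)} =
      (⋃ m ∈ (Finset.range (N + 1)).filter (fun m => m ∉ Φ), assSet A B M m)ᶜ := by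
    ext q
    simp only [Set.mem_ofPred_eq, Set.mem_compl_iff, Set.mem_iUnion, Finset.mem_filter,
      Finset.mem_range, exists_prop, not_exists, not_and]
    constructor
    · intro h m hm hmem
      rw [mem_assSet_iff] at hmem
      obtain ⟨q', hle, hc, hd, hcb⟩ := hmem
      obtain ⟨n, hn, hcn⟩ := h q' hle hc hd
      rw [hcb] at hcn
      have : m = n := by exact_mod_cast hcn
      exact hm.2 (this ▸ hn)
    · intro h q' hle hc hd
      have hb := cB_le A B N hs q'
      obtain ⟨m, hm⟩ := ENat.ne_top_iff_exists.mp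
        (ne_top_of_le_ne_top (ENat.natCast_ne_top N) hb)
      rw [← hm] at hb
      have hmN : m ≤ N := by exact_mod_cast hb
      by_cases hmem : m ∈ Φ
      · exact ⟨m, hmem, hm.symm⟩
      · exfalso
        refine h m ⟨by omega, hmem⟩ ?_
        rw [mem_assSet_iff]
        exact ⟨q', hle, hc, hd, hm.symm⟩
  rw [hEq]
  exact (isClosed_biUnion_finset fun m _ => isClosed_assSet A B M m).isOpen_compl

set_option maxHeartbeats 1600000 in
/-- ring version of S4983 -/
theorem isOpen_noEmb :
    IsOpen {q : PrimeSpectrum B | ∀ q' : PrimeSpectrum B, q' ≤ q →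
      PrimeSpectrum.comap (algebraMap A B) q' = PrimeSpectrum.comap (algebraMap A B) q →
      depthB A B M q' = 0 → ∀ q'' : PrimeSpectrum B, q'' ≤ q' →
      PrimeSpectrum.comap (algebraMap A B) q'' = PrimeSpectrum.comap (algebraMap A B) q' →
      depthB A B M q'' = 0 → q'' = q'} := by
  haveI : Algebra.FiniteType A B := inferInstance
  obtain ⟨N, φ, hφ⟩ := (Algebra.FiniteType.iff_quotient_mvPolynomial'' (R := A) (S := B)).mp
    inferInstance
  letI : Algebra (MvPolynomial (Fin N) A) B := φ.toRingHom.toAlgebra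
  haveI : IsScalarTower A (MvPolynomial (Fin N) A) B :=
    IsScalarTower.of_algebraMap_eq (fun a => (φ.commutes a).symm)
  have hs : Function.Surjective (algebraMap (MvPolynomial (Fin N) A) B) := hφ
  have hEq : {q : PrimeSpectrum B | ∀ q' : PrimeSpectrum B, q' ≤ q →
      PrimeSpectrum.comap (algebraMap A B) q' = PrimeSpectrum.comap (algebraMap A B) q →
      depthB A B M q' = 0 → ∀ q'' : PrimeSpectrum B, q'' ≤ q' →
      PrimeSpectrum.comap (algebraMap A B) q'' = PrimeSpectrum.comap (algebraMap A B) q' →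
      depthB A B M q'' = 0 → q'' = q'} =
      (⋃ m ∈ Finset.range (N + 1), ⋃ m' ∈ (Finset.range (N + 1)).filter (fun m' => m < m'),
        assSet₂ A B M m m')ᶜ := by
    ext q
    simp only [Set.mem_ofPred_eq, Set.mem_compl_iff, Set.mem_iUnion, Finset.mem_filter,
      Finset.mem_range, exists_prop, not_exists, not_and]
    constructor
    · intro h m hm m' hm' hmem
      rw [mem_assSet₂_iff] at hmem
      obtain ⟨q', hle, hc, hd, hcb, hmem'⟩ := hmem
      rw [mem_assSet_iff] at hmem'
      obtain ⟨q'', hle', hc', hd', hcb'⟩ := hmem'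
      have := h q' hle hc hd q'' hle' hc' hd'
      rw [this, hcb] at hcb'
      have : m = m' := by exact_mod_cast hcb'
      omega
    · intro h q' hle hc hd q'' hle' hc' hd'
      by_contra hne
      have hlt : q'' < q' := lt_of_le_of_ne hle' hne
      have h1 := cB_add_one_le A B q'' q' hlt hc'
      have hb := cB_le A B N hs q'
      have hb' := cB_le A B N hs q''
      obtain ⟨m, hm⟩ := ENat.ne_top_iff_exists.mp
        (ne_top_of_le_ne_top (ENat.natCast_ne_top N) hb)
      obtain ⟨m', hm'⟩ := ENat.ne_top_iff_exists.mp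
        (ne_top_of_le_ne_top (ENat.natCast_ne_top N) hb')
      rw [← hm] at hb h1
      rw [← hm'] at hb' h1
      have hmN : m ≤ N := by exact_mod_cast hb
      have hmN' : m' ≤ N := by exact_mod_cast hb'
      have hmm : m + 1 ≤ m' := by exact_mod_cast h1
      refine h m (by omega) m' ⟨by omega, by omega⟩ ?_
      rw [mem_assSet₂_iff]
      refine ⟨q', hle, hc, hd, hm.symm, ?_⟩
      rw [mem_assSet_iff]
      exact ⟨q'', hle', hc', hd', hm'.symm⟩
  rw [hEq]
  refine (isClosed_biUnion_finset fun m _ => ?_).isOpen_compl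
  exact isClosed_biUnion_finset fun m' _ => isClosed_assSet₂ A B M m m'

end Groth.Agent.Helper5.FibMod
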