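import Mathlib
import Groth.Prelude
import Groth.Agent.Helper5.FibModP
import Groth.Agent.Helper5.FibModR

/-!
# FibModS: openness of conditions on the associated points of the fibres of a flat module
(S4982, S4983, S4964)
-/

set_option autoImplicit false
set_option linter.unusedSectionVars false
set_option linter.unusedVariables false
set_option linter.style.haveILetI false
universe u
open CategoryTheory CategoryTheory.Limits AlgebraicGeometry TopologicalSpace Topology TensorProduct
open IsLocalRing

namespace Groth.Agent.Helper5.FibMod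

open Groth.Agent.Helper1 Groth.Agent.Helper2 Groth.Agent.Helper5.FibPd

/-- the maximal ideal is associated iff the depth is zero -/
theorem isAss_iff_depth_zero (R : Type u) [CommRing R] [IsLocalRing R] [IsNoetherianRing R]
    (N : Type u) [AddCommGroup N] [Module R N] [Module.Finite R N] :
    IsAssociatedPrime (maximalIdeal R) N ↔ LocCoh.depth R N = 0 := by
  constructor
  · intro h
    haveI : Nontrivial N := by
      by_contra hc
      rw [not_nontrivial_iff_subsingleton] at hc
      exact not_isAssociatedPrime_of_subsingleton h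
    rw [Groth.Agent.Helper2.Depth.depth_eq_zero_iff]
    intro b hb
    exact Groth.Agent.Helper2.Depth.not_regular_of_mem_ass _ _ _ h b hb
  · intro h0
    haveI : Nontrivial N := by
      by_contra hc
      rw [not_nontrivial_iff_subsingleton] at hc
      rw [Groth.Agent.Helper2.DepthLoc.depth_eq_top_of_subsingleton] at h0
      exact ENat.top_ne_zero h0
    exact Groth.Agent.Helper2.Ass.maximalIdeal_mem_ass_of_forall_not_regular _ _
      ((Groth.Agent.Helper2.Depth.depth_eq_zero_iff _ _).mp h0)

section Geom

variable {X Y : Scheme.{u}} (f : X ⟶ Y) (F : X.Modules)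

/-- the depth of the restriction of `F` to a fibre, at a point of the fibre -/
noncomputable def depthFib (s : Y) (z : ↥(f.fiber s)) : ℕ∞ :=
  LocCoh.depth ((f.fiber s).presheaf.stalk z)
    (((Scheme.Modules.pullback (f.fiberι s)).obj F).presheaf.stalk z)

/-- the depth of the restriction of `F` to the fibre through `x`, at `x` -/
noncomputable def depthAt (x : X) : ℕ∞ := depthFib f F (f.base x) (f.asFiber x)

theorem depthFib_eq (s : Y) (z : ↥(f.fiber s)) : depthFib f F s z = depthAt f F (f.fiberι s z) :=
  (fibre_transport f (depthFib f F) s z).symm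

/-- the dimension of the closure of a point of a fibre -/
noncomputable def cdimFib (s : Y) (z : ↥(f.fiber s)) : WithBot ℕ∞ :=
  topologicalKrullDim ↥(closure ({z} : Set ↥(f.fiber s)))

/-- the dimension of the closure of `x` in the fibre through `x` -/
noncomputable def cdimAt (x : X) : WithBot ℕ∞ := cdimFib f (f.base x) (f.asFiber x)

theorem cdimFib_eq (s : Y) (z : ↥(f.fiber s)) : cdimFib f s z = cdimAt f (f.fiberι s z) :=
  (fibre_transport f (cdimFib f) s z).symm

theorem apply_fiberι' (s : Y) (z : ↥(f.fiber s)) : f.base (f.fiberι s z) = s := by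
  have hz : f.fiberι s z ∈ Set.range (f.fiberι s) := ⟨z, rfl⟩
  rw [f.range_fiberι s] at hz
  exact hz

theorem exists_fibre_point (s : Y) (x' : X) (h : f.base x' = s) :
    ∃ z : ↥(f.fiber s), f.fiberι s z = x' := by
  have : x' ∈ Set.range (f.fiberι s) := by
    rw [f.range_fiberι s]
    exact h
  exact this

theorem specializes_fibre_iff (s : Y) (z z' : ↥(f.fiber s)) :
    z ∈ closure ({z'} : Set ↥(f.fiber s)) ↔ f.fiberι s z' ⤳ f.fiberι s z := by
  rw [← specializes_iff_mem_closure]
  exact ((f.fiberι s).isEmbedding.isInducing.specializes_iff).symm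

/-- associated points of the restriction to a fibre, via the depth -/
theorem mem_ass_iff [LocallyOfFiniteType f] (hF : CohB1.IsFP F) (s : Y) (z : ↥(f.fiber s)) :
    z ∈ AssSch.Ass ((Scheme.Modules.pullback (f.fiberι s)).obj F) ↔ depthFib f F s z = 0 := by
  obtain ⟨h1, h2⟩ := nf_fibre_pair f F hF s z
  haveI := h1
  haveI := h2
  exact isAss_iff_depth_zero _ _

/-- reformulation of the condition of S4982 in terms of points of `X` -/
theorem s4982_iff [LocallyOfFiniteType f] (hF : CohB1.IsFP F) (Φ : Finset ℕ) (x : X) :
    (∀ z ∈ AssSch.Ass ((Scheme.Modules.pullback (f.fiberι (f.base x))).obj F),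
      f.asFiber x ∈ closure {z} →
      ∃ n ∈ Φ, topologicalKrullDim ↥(closure ({z} : Set ↥(f.fiber (f.base x)))) =
        (n : WithBot ℕ∞)) ↔
    ∀ x' : X, x' ⤳ x → f.base x' = f.base x → depthAt f F x' = 0 →
      ∃ n ∈ Φ, cdimAt f x' = (n : WithBot ℕ∞) := by
  constructor
  · intro h x' hsp hf hd
    obtain ⟨z, hz⟩ := exists_fibre_point f (f.base x) x' hf
    have hzass : z ∈ AssSch.Ass ((Scheme.Modules.pullback (f.fiberι (f.base x))).obj F) := by
      rw [mem_ass_iff f F hF, depthFib_eq, hz]
      exact hd
    have hcl : f.asFiber x ∈ closure {z} := by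
      rw [specializes_fibre_iff, hz, f.fiberι_asFiber]
      exact hsp
    obtain ⟨n, hn, hdim⟩ := h z hzass hcl
    refine ⟨n, hn, ?_⟩
    rw [← hz, ← cdimFib_eq]
    exact hdim
  · intro h z hzass hcl
    rw [mem_ass_iff f F hF, depthFib_eq] at hzass
    rw [specializes_fibre_iff, f.fiberι_asFiber] at hcl
    obtain ⟨n, hn, hdim⟩ := h (f.fiberι (f.base x) z) hcl (apply_fiberι' f _ z) hzass
    refine ⟨n, hn, ?_⟩
    rw [← cdimFib_eq] at hdim
    exact hdim

/-- reformulation of the condition of S4983 in terms of points of `X` -/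
theorem s4983_iff [LocallyOfFiniteType f] (hF : CohB1.IsFP F) (x : X) :
    (∀ z ∈ AssSch.Ass ((Scheme.Modules.pullback (f.fiberι (f.base x))).obj F),
      f.asFiber x ∈ closure {z} →
      ∀ z' ∈ AssSch.Ass ((Scheme.Modules.pullback (f.fiberι (f.base x))).obj F),
        z ∈ closure {z'} → z' = z) ↔
    ∀ x' : X, x' ⤳ x → f.base x' = f.base x → depthAt f F x' = 0 →
      ∀ x'' : X, x'' ⤳ x' → f.base x'' = f.base x' → depthAt f F x'' = 0 → x'' = x' := by
  constructor
  · intro h x' hsp hf hd x'' hsp' hf' hd'
    obtain ⟨z, hz⟩ := exists_fibre_point f (f.base x) x' hf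
    obtain ⟨z', hz'⟩ := exists_fibre_point f (f.base x) x'' (hf'.trans hf)
    have hzass : z ∈ AssSch.Ass ((Scheme.Modules.pullback (f.fiberι (f.base x))).obj F) := by
      rw [mem_ass_iff f F hF, depthFib_eq, hz]
      exact hd
    have hzass' : z' ∈ AssSch.Ass ((Scheme.Modules.pullback (f.fiberι (f.base x))).obj F) := by
      rw [mem_ass_iff f F hF, depthFib_eq, hz']
      exact hd'
    have hcl : f.asFiber x ∈ closure {z} := by
      rw [specializes_fibre_iff, hz, f.fiberι_asFiber]
      exact hsp
    have hcl' : z ∈ closure {z'} := by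
      rw [specializes_fibre_iff, hz, hz']
      exact hsp'
    have := h z hzass hcl z' hzass' hcl'
    rw [← hz, ← hz', this]
  · intro h z hzass hcl z' hzass' hcl'
    rw [mem_ass_iff f F hF, depthFib_eq] at hzass hzass'
    rw [specializes_fibre_iff, f.fiberι_asFiber] at hcl
    rw [specializes_fibre_iff] at hcl'
    have := h (f.fiberι (f.base x) z) hcl (apply_fiberι' f _ z) hzass
      (f.fiberι (f.base x) z') hcl' ((apply_fiberι' f _ z').trans (apply_fiberι' f _ z).symm) hzass'
    exact (f.fiberι (f.base x)).isEmbedding.injective this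

end Geom

end Groth.Agent.Helper5.FibMod
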