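import Mathlib
import Groth.Prelude
import Groth.Agent.Helper5.FibModS

/-!
# FibModT: S4982, S4983, S4964 — the affine charts and the final statements
-/

set_option autoImplicit false
set_option linter.unusedSectionVars false
set_option linter.unusedVariables false
set_option linter.style.haveILetI false
universe u
open CategoryTheory CategoryTheory.Limits AlgebraicGeometry TopologicalSpace Topology TensorProduct
open IsLocalRing

namespace Groth.Agent.Helper5.FibMod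

open Groth.Agent.Helper1 Groth.Agent.Helper2 Groth.Agent.Helper5.FibPd

section Chart

variable {X Y : Scheme.{u}} (f : X ⟶ Y) (F : X.Modules)
  {U : X.Opens} (hU : IsAffineOpen U) {V : Y.Opens} (hV : IsAffineOpen V) (e : U ≤ f ⁻¹ᵁ V)

include hV in
theorem map_fromSpec (q' : PrimeSpectrum Γ(X, U)) :
    letI : Algebra Γ(Y, V) Γ(X, U) := (f.appLE V U e).hom.toAlgebra
    f.base (hU.fromSpec q') =
      hV.fromSpec (PrimeSpectrum.comap (algebraMap Γ(Y, V) Γ(X, U)) q') := by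
  letI : Algebra Γ(Y, V) Γ(X, U) := (f.appLE V U e).hom.toAlgebra
  have hcomm := hV.SpecMap_appLE_fromSpec f hU e
  have := congrArg (fun ψ : Spec Γ(X, U) ⟶ Y => ψ q') hcomm
  simp only [Scheme.Hom.comp_apply] at this
  exact this.symm

theorem chart_point (q' : PrimeSpectrum Γ(X, U)) :
    ∃ (x' : X) (hx' : x' ∈ U), hU.primeIdealOf ⟨x', hx'⟩ = q' := by
  have hmem : hU.fromSpec q' ∈ U := by
    have : hU.fromSpec q' ∈ Set.range (hU.fromSpec : ↥(Spec Γ(X, U)) → X) := ⟨q', rfl⟩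
    rw [hU.range_fromSpec] at this
    exact this
  refine ⟨hU.fromSpec q', hmem, ?_⟩
  apply hU.fromSpec.isOpenEmbedding.injective
  exact hU.fromSpec_primeIdealOf ⟨hU.fromSpec q', hmem⟩

theorem specializes_chart_iff (x' x : X) (hx' : x' ∈ U) (hx : x ∈ U) :
    x' ⤳ x ↔ hU.primeIdealOf ⟨x', hx'⟩ ≤ hU.primeIdealOf ⟨x, hx⟩ := by
  rw [PrimeSpectrum.le_iff_specializes]
  have h1 := hU.fromSpec_primeIdealOf ⟨x', hx'⟩
  have h2 := hU.fromSpec_primeIdealOf ⟨x, hx⟩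
  have h3 := (hU.fromSpec.isOpenEmbedding.isEmbedding.isInducing.specializes_iff
    (x := hU.primeIdealOf ⟨x', hx'⟩) (y := hU.primeIdealOf ⟨x, hx⟩))
  rw [h1, h2] at h3
  exact h3

include hV in
theorem same_fibre_chart_iff (x' x : X) (hx' : x' ∈ U) (hx : x ∈ U) :
    letI : Algebra Γ(Y, V) Γ(X, U) := (f.appLE V U e).hom.toAlgebra
    f.base x' = f.base x ↔
      PrimeSpectrum.comap (algebraMap Γ(Y, V) Γ(X, U)) (hU.primeIdealOf ⟨x', hx'⟩) =
        PrimeSpectrum.comap (algebraMap Γ(Y, V) Γ(X, U)) (hU.primeIdealOf ⟨x, hx⟩) := by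
  letI : Algebra Γ(Y, V) Γ(X, U) := (f.appLE V U e).hom.toAlgebra
  have h1 := hU.fromSpec_primeIdealOf ⟨x', hx'⟩
  have h2 := hU.fromSpec_primeIdealOf ⟨x, hx⟩
  have h3 := map_fromSpec f hU hV e (hU.primeIdealOf ⟨x', hx'⟩)
  have h4 := map_fromSpec f hU hV e (hU.primeIdealOf ⟨x, hx⟩)
  rw [h1] at h3
  rw [h2] at h4
  rw [h3, h4]
  exact hV.fromSpec.isOpenEmbedding.injective.eq_iff

include hV in
set_option maxHeartbeats 1600000 in
theorem depthAt_eq [LocallyOfFiniteType f] (hF : CohB1.IsFP F) (x : X) (hxU : x ∈ U) :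
    letI : Algebra Γ(Y, V) Γ(X, U) := (f.appLE V U e).hom.toAlgebra
    depthAt f F x = depthB Γ(Y, V) Γ(X, U) Γ(F, U) (hU.primeIdealOf ⟨x, hxU⟩) := by
  letI : Algebra Γ(Y, V) Γ(X, U) := (f.appLE V U e).hom.toAlgebra
  haveI : SheafOfModules.IsFinitePresentation (R := X.ringCatSheaf) F := hF
  haveI : F.IsQuasicoherent := inferInstance
  obtain ⟨h1, h2⟩ := nf_fibre_pair f F hF (f.base x) (f.asFiber x)
  have h3 := (fibModAt_iff (depthIs (depthAt f F x)) f F hU hV e x hxU).mp ⟨h1, h2, rfl⟩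
  exact h3.2.2.symm

include hV in
theorem cdimAt_eq [LocallyOfFiniteType f] (x : X) (hxU : x ∈ U) :
    letI : Algebra Γ(Y, V) Γ(X, U) := (f.appLE V U e).hom.toAlgebra
    cdimAt f x = ((cB Γ(Y, V) Γ(X, U) (hU.primeIdealOf ⟨x, hxU⟩) : ℕ∞) : WithBot ℕ∞) :=
  cdim_eq f hU hV e x hxU

include hV in
set_option maxHeartbeats 1600000 in
/-- the chart description of the condition of S4982 -/
theorem chart_4982 [LocallyOfFiniteType f] (hF : CohB1.IsFP F) (Φ : Finset ℕ) (x : X)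
    (hxU : x ∈ U) :
    letI : Algebra Γ(Y, V) Γ(X, U) := (f.appLE V U e).hom.toAlgebra
    (∀ x' : X, x' ⤳ x → f.base x' = f.base x → depthAt f F x' = 0 →
      ∃ n ∈ Φ, cdimAt f x' = (n : WithBot ℕ∞)) ↔
    ∀ q' : PrimeSpectrum Γ(X, U), q' ≤ hU.primeIdealOf ⟨x, hxU⟩ →
      PrimeSpectrum.comap (algebraMap Γ(Y, V) Γ(X, U)) q' =
        PrimeSpectrum.comap (algebraMap Γ(Y, V) Γ(X, U)) (hU.primeIdealOf ⟨x, hxU⟩) →
      depthB Γ(Y, V) Γ(X, U) Γ(F, U) q' = 0 →
      ∃ n ∈ Φ, cB Γ(Y, V) Γ(X, U) q' = (n : ℕ∞) := by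
  letI : Algebra Γ(Y, V) Γ(X, U) := (f.appLE V U e).hom.toAlgebra
  constructor
  · intro h q' hle hc hd
    obtain ⟨x', hx', rfl⟩ := chart_point hU q'
    have hsp := (specializes_chart_iff hU x' x hx' hxU).mpr hle
    have hf := (same_fibre_chart_iff f hU hV e x' x hx' hxU).mpr hc
    rw [← depthAt_eq f F hU hV e hF x' hx'] at hd
    obtain ⟨n, hn, hdim⟩ := h x' hsp hf hd
    rw [cdimAt_eq f hU hV e x' hx'] at hdim
    refine ⟨n, hn, ?_⟩
    exact_mod_cast hdim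
  · intro h x' hsp hf hd
    have hx' : x' ∈ U := hsp.mem_open U.2 hxU
    have hle := (specializes_chart_iff hU x' x hx' hxU).mp hsp
    have hc := (same_fibre_chart_iff f hU hV e x' x hx' hxU).mp hf
    rw [depthAt_eq f F hU hV e hF x' hx'] at hd
    obtain ⟨n, hn, hdim⟩ := h _ hle hc hd
    refine ⟨n, hn, ?_⟩
    rw [cdimAt_eq f hU hV e x' hx', hdim]
    rfl

include hV in
set_option maxHeartbeats 1600000 in
/-- the chart description of the condition of S4983 -/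
theorem chart_4983 [LocallyOfFiniteType f] (hF : CohB1.IsFP F) (x : X) (hxU : x ∈ U) :
    letI : Algebra Γ(Y, V) Γ(X, U) := (f.appLE V U e).hom.toAlgebra
    (∀ x' : X, x' ⤳ x → f.base x' = f.base x → depthAt f F x' = 0 →
      ∀ x'' : X, x'' ⤳ x' → f.base x'' = f.base x' → depthAt f F x'' = 0 → x'' = x') ↔
    ∀ q' : PrimeSpectrum Γ(X, U), q' ≤ hU.primeIdealOf ⟨x, hxU⟩ →
      PrimeSpectrum.comap (algebraMap Γ(Y, V) Γ(X, U)) q' =
        PrimeSpectrum.comap (algebraMap Γ(Y, V) Γ(X, U)) (hU.primeIdealOf ⟨x, hxU⟩) →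
      depthB Γ(Y, V) Γ(X, U) Γ(F, U) q' = 0 →
      ∀ q'' : PrimeSpectrum Γ(X, U), q'' ≤ q' →
      PrimeSpectrum.comap (algebraMap Γ(Y, V) Γ(X, U)) q'' =
        PrimeSpectrum.comap (algebraMap Γ(Y, V) Γ(X, U)) q' →
      depthB Γ(Y, V) Γ(X, U) Γ(F, U) q'' = 0 → q'' = q' := by
  letI : Algebra Γ(Y, V) Γ(X, U) := (f.appLE V U e).hom.toAlgebra
  constructor
  · intro h q' hle hc hd q'' hle' hc' hd'
    obtain ⟨x', hx', rfl⟩ := chart_point hU q'
    obtain ⟨x'', hx'', rfl⟩ := chart_point hU q''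
    have hsp := (specializes_chart_iff hU x' x hx' hxU).mpr hle
    have hf := (same_fibre_chart_iff f hU hV e x' x hx' hxU).mpr hc
    have hsp' := (specializes_chart_iff hU x'' x' hx'' hx').mpr hle'
    have hf' := (same_fibre_chart_iff f hU hV e x'' x' hx'' hx').mpr hc'
    rw [← depthAt_eq f F hU hV e hF x' hx'] at hd
    rw [← depthAt_eq f F hU hV e hF x'' hx''] at hd'
    have := h x' hsp hf hd x'' hsp' hf' hd'
    subst this
    rfl
  · intro h x' hsp hf hd x'' hsp' hf' hd'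
    have hx' : x' ∈ U := hsp.mem_open U.2 hxU
    have hx'' : x'' ∈ U := hsp'.mem_open U.2 hx'
    have hle := (specializes_chart_iff hU x' x hx' hxU).mp hsp
    have hc := (same_fibre_chart_iff f hU hV e x' x hx' hxU).mp hf
    have hle' := (specializes_chart_iff hU x'' x' hx'' hx').mp hsp'
    have hc' := (same_fibre_chart_iff f hU hV e x'' x' hx'' hx').mp hf'
    rw [depthAt_eq f F hU hV e hF x' hx'] at hd
    rw [depthAt_eq f F hU hV e hF x'' hx''] at hd'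
    have := h _ hle hc hd _ hle' hc' hd'
    have h2 := congrArg (fun q => hU.fromSpec q) this
    simp only [hU.fromSpec_primeIdealOf] at h2
    exact h2

end Chart

section Final

variable {X Y : Scheme.{u}} (f : X ⟶ Y) (F : X.Modules)

/-- the set of S4982, in terms of points of `X` -/
def set4982 (Φ : Finset ℕ) : Set X :=
  {x | ∀ x' : X, x' ⤳ x → f.base x' = f.base x → depthAt f F x' = 0 →
      ∃ n ∈ Φ, cdimAt f x' = (n : WithBot ℕ∞)}

/-- the set of S4983, in terms of points of `X` -/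
def set4983 : Set X :=
  {x | ∀ x' : X, x' ⤳ x → f.base x' = f.base x → depthAt f F x' = 0 →
      ∀ x'' : X, x'' ⤳ x' → f.base x'' = f.base x' → depthAt f F x'' = 0 → x'' = x'}

set_option maxHeartbeats 1600000 in
theorem isOpen_set4982 [LocallyOfFinitePresentation f] (hF : CohB1.IsFP F)
    (hflat : FlatMod.IsFlatOver f F) (Φ : Finset ℕ) : IsOpen (set4982 f F Φ) := by
  haveI : SheafOfModules.IsFinitePresentation (R := X.ringCatSheaf) F := hF
  haveI : F.IsQuasicoherent := inferInstance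
  rw [isOpen_iff_forall_mem_open]
  intro x hx
  obtain ⟨_, ⟨V, hV, rfl⟩, hxV, -⟩ :=
    Y.isBasis_affineOpens.exists_subset_of_mem_open (Set.mem_univ (f.base x)) isOpen_univ
  let Vo : Y.Opens := V
  obtain ⟨_, ⟨U, hU, rfl⟩, hxU, hUV⟩ :=
    X.isBasis_affineOpens.exists_subset_of_mem_open (show x ∈ (f ⁻¹ᵁ Vo : Set X) from hxV)
      (f ⁻¹ᵁ Vo).isOpen
  let Uo : X.Opens := U
  have e : Uo ≤ f ⁻¹ᵁ Vo := hUV
  have hUo : IsAffineOpen Uo := hU
  have hVo : IsAffineOpen Vo := hV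
  letI algAB : Algebra Γ(Y, Vo) Γ(X, Uo) := (f.appLE Vo Uo e).hom.toAlgebra
  haveI : Algebra.FinitePresentation Γ(Y, Vo) Γ(X, Uo) :=
    RingHom.finitePresentation_algebraMap.1 <|
      HasRingHomProperty.appLE (P := @LocallyOfFinitePresentation) f inferInstance ⟨Vo, hVo⟩
        ⟨Uo, hUo⟩ e
  haveI : Module.FinitePresentation Γ(X, Uo) Γ(F, Uo) :=
    Groth.Agent.Helper4.FPGlue.fp_sections F hF hUo
  letI modAF : Module Γ(Y, Vo) Γ(F, Uo) := Module.compHom _ (f.appLE Vo Uo e).hom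
  haveI : IsScalarTower Γ(Y, Vo) Γ(X, Uo) Γ(F, Uo) :=
    IsScalarTower.of_algebraMap_smul fun r m => rfl
  haveI : Module.Flat Γ(Y, Vo) Γ(F, Uo) :=
    (Groth.Agent.Helper5.AffFlat.flat_sections_iff f F hVo hUo e).mp (fun x _ => hflat x)
  have hT := isOpen_assDims Γ(Y, Vo) Γ(X, Uo) Γ(F, Uo) Φ
  set T : Set (PrimeSpectrum Γ(X, Uo)) := {q | ∀ q' : PrimeSpectrum Γ(X, Uo), q' ≤ q →
      PrimeSpectrum.comap (algebraMap Γ(Y, Vo) Γ(X, Uo)) q' =
        PrimeSpectrum.comap (algebraMap Γ(Y, Vo) Γ(X, Uo)) q →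
      depthB Γ(Y, Vo) Γ(X, Uo) Γ(F, Uo) q' = 0 →
      ∃ n ∈ Φ, cB Γ(Y, Vo) Γ(X, Uo) q' = (n : ℕ∞)} with hTdef
  have hcont : Continuous (fun y : Uo => hUo.primeIdealOf y) := by
    have : (fun y : Uo => hUo.primeIdealOf y) = hUo.isoSpec.hom := rfl
    rw [this]
    exact hUo.isoSpec.hom.continuous
  refine ⟨Subtype.val '' ((fun y : Uo => hUo.primeIdealOf y) ⁻¹' T), ?_, ?_, ?_⟩
  · rintro _ ⟨y, hy, rfl⟩
    exact (chart_4982 f F hUo hVo e hF Φ y.1 y.2).mpr hy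
  · exact Uo.isOpen.isOpenMap_subtype_val _ (hT.preimage hcont)
  · exact ⟨⟨x, hxU⟩, (chart_4982 f F hUo hVo e hF Φ x hxU).mp hx, rfl⟩

set_option maxHeartbeats 1600000 in
theorem isOpen_set4983 [LocallyOfFinitePresentation f] (hF : CohB1.IsFP F)
    (hflat : FlatMod.IsFlatOver f F) : IsOpen (set4983 f F) := by
  haveI : SheafOfModules.IsFinitePresentation (R := X.ringCatSheaf) F := hF
  haveI : F.IsQuasicoherent := inferInstance
  rw [isOpen_iff_forall_mem_open]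
  intro x hx
  obtain ⟨_, ⟨V, hV, rfl⟩, hxV, -⟩ :=
    Y.isBasis_affineOpens.exists_subset_of_mem_open (Set.mem_univ (f.base x)) isOpen_univ
  let Vo : Y.Opens := V
  obtain ⟨_, ⟨U, hU, rfl⟩, hxU, hUV⟩ :=
    X.isBasis_affineOpens.exists_subset_of_mem_open (show x ∈ (f ⁻¹ᵁ Vo : Set X) from hxV)
      (f ⁻¹ᵁ Vo).isOpen
  let Uo : X.Opens := U
  have e : Uo ≤ f ⁻¹ᵁ Vo := hUV
  have hUo : IsAffineOpen Uo := hU
  have hVo : IsAffineOpen Vo := hV
  letI algAB : Algebra Γ(Y, Vo) Γ(X, Uo) := (f.appLE Vo Uo e).hom.toAlgebra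
  haveI : Algebra.FinitePresentation Γ(Y, Vo) Γ(X, Uo) :=
    RingHom.finitePresentation_algebraMap.1 <|
      HasRingHomProperty.appLE (P := @LocallyOfFinitePresentation) f inferInstance ⟨Vo, hVo⟩
        ⟨Uo, hUo⟩ e
  haveI : Module.FinitePresentation Γ(X, Uo) Γ(F, Uo) :=
    Groth.Agent.Helper4.FPGlue.fp_sections F hF hUo
  letI modAF : Module Γ(Y, Vo) Γ(F, Uo) := Module.compHom _ (f.appLE Vo Uo e).hom
  haveI : IsScalarTower Γ(Y, Vo) Γ(X, Uo) Γ(F, Uo) :=
    IsScalarTower.of_algebraMap_smul fun r m => rfl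
  haveI : Module.Flat Γ(Y, Vo) Γ(F, Uo) :=
    (Groth.Agent.Helper5.AffFlat.flat_sections_iff f F hVo hUo e).mp (fun x _ => hflat x)
  have hT := isOpen_noEmb Γ(Y, Vo) Γ(X, Uo) Γ(F, Uo)
  set T : Set (PrimeSpectrum Γ(X, Uo)) := {q | ∀ q' : PrimeSpectrum Γ(X, Uo), q' ≤ q →
      PrimeSpectrum.comap (algebraMap Γ(Y, Vo) Γ(X, Uo)) q' =
        PrimeSpectrum.comap (algebraMap Γ(Y, Vo) Γ(X, Uo)) q →
      depthB Γ(Y, Vo) Γ(X, Uo) Γ(F, Uo) q' = 0 →
      ∀ q'' : PrimeSpectrum Γ(X, Uo), q'' ≤ q' →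
      PrimeSpectrum.comap (algebraMap Γ(Y, Vo) Γ(X, Uo)) q'' =
        PrimeSpectrum.comap (algebraMap Γ(Y, Vo) Γ(X, Uo)) q' →
      depthB Γ(Y, Vo) Γ(X, Uo) Γ(F, Uo) q'' = 0 → q'' = q'} with hTdef
  have hcont : Continuous (fun y : Uo => hUo.primeIdealOf y) := by
    have : (fun y : Uo => hUo.primeIdealOf y) = hUo.isoSpec.hom := rfl
    rw [this]
    exact hUo.isoSpec.hom.continuous
  refine ⟨Subtype.val '' ((fun y : Uo => hUo.primeIdealOf y) ⁻¹' T), ?_, ?_, ?_⟩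
  · rintro _ ⟨y, hy, rfl⟩
    exact (chart_4983 f F hUo hVo e hF y.1 y.2).mpr hy
  · exact Uo.isOpen.isOpenMap_subtype_val _ (hT.preimage hcont)
  · exact ⟨⟨x, hxU⟩, (chart_4983 f F hUo hVo e hF x hxU).mp hx, rfl⟩

/-- S4982 -/
theorem s4982 [LocallyOfFinitePresentation f] (hF : CohB1.IsFP F)
    (hflat : FlatMod.IsFlatOver f F) (Φ : Finset ℕ) :
    IsOpen {x : X | ∀ z ∈ AssSch.Ass ((Scheme.Modules.pullback (f.fiberι (f.base x))).obj F), f.asFiber x ∈ closure {z} →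
      ∃ n ∈ Φ, topologicalKrullDim ↥(closure ({z} : Set ↥(f.fiber (f.base x)))) = (n : WithBot ℕ∞)} := by
  have hEq : {x : X | ∀ z ∈ AssSch.Ass ((Scheme.Modules.pullback (f.fiberι (f.base x))).obj F), f.asFiber x ∈ closure {z} →
      ∃ n ∈ Φ, topologicalKrullDim ↥(closure ({z} : Set ↥(f.fiber (f.base x)))) = (n : WithBot ℕ∞)} =
      set4982 f F Φ := by
    ext x
    exact s4982_iff f F hF Φ x
  rw [hEq]
  exact isOpen_set4982 f F hF hflat Φ

/-- S4983 -/
theorem s4983 [LocallyOfFinitePresentation f] (hF : CohB1.IsFP F)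
    (hflat : FlatMod.IsFlatOver f F) :
    IsOpen {x : X | ∀ z ∈ AssSch.Ass ((Scheme.Modules.pullback (f.fiberι (f.base x))).obj F), f.asFiber x ∈ closure {z} →
      ∀ z' ∈ AssSch.Ass ((Scheme.Modules.pullback (f.fiberι (f.base x))).obj F), z ∈ closure {z'} → z' = z} := by
  have hEq : {x : X | ∀ z ∈ AssSch.Ass ((Scheme.Modules.pullback (f.fiberι (f.base x))).obj F), f.asFiber x ∈ closure {z} →
      ∀ z' ∈ AssSch.Ass ((Scheme.Modules.pullback (f.fiberι (f.base x))).obj F), z ∈ closure {z'} → z' = z} =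
      set4983 f F := by
    ext x
    exact s4983_iff f F hF x
  rw [hEq]
  exact isOpen_set4983 f F hF hflat

/-- S4964 -/
theorem s4964 [IsProper f] [LocallyOfFinitePresentation f] (hF : CohB1.IsFP F)
    (hflat : FlatMod.IsFlatOver f F) (Φ : Finset ℕ) :
    IsOpen {y : Y | ∀ z ∈ AssSch.Ass ((Scheme.Modules.pullback (f.fiberι y)).obj F), ∃ n ∈ Φ,
      topologicalKrullDim ↥(closure ({z} : Set ↥(f.fiber y))) = (n : WithBot ℕ∞)} := by
  have hopen := isOpen_set4982 f F hF hflat Φ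
  have hEq : {y : Y | ∀ z ∈ AssSch.Ass ((Scheme.Modules.pullback (f.fiberι y)).obj F), ∃ n ∈ Φ,
      topologicalKrullDim ↥(closure ({z} : Set ↥(f.fiber y))) = (n : WithBot ℕ∞)} =
      (f.base '' (set4982 f F Φ)ᶜ)ᶜ := by
    ext y
    simp only [Set.mem_ofPred_eq, Set.mem_compl_iff, Set.mem_image, not_exists, not_and]
    constructor
    · intro h x0 hx0 hfx
      apply hx0
      subst hfx
      intro x' hsp hf hd
      obtain ⟨z, hz⟩ := exists_fibre_point f (f.base x0) x' hf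
      have hzass : z ∈ AssSch.Ass ((Scheme.Modules.pullback (f.fiberι (f.base x0))).obj F) := by
        rw [mem_ass_iff f F hF, depthFib_eq, hz]
        exact hd
      obtain ⟨n, hn, hdim⟩ := h z hzass
      refine ⟨n, hn, ?_⟩
      rw [← hz, ← cdimFib_eq]
      exact hdim
    · intro h z hzass
      rw [mem_ass_iff f F hF, depthFib_eq] at hzass
      have h1 : f.base (f.fiberι y z) = y := apply_fiberι' f y z
      have h2 : f.fiberι y z ∈ set4982 f F Φ := by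
        by_contra hc
        exact h (f.fiberι y z) hc h1
      obtain ⟨n, hn, hdim⟩ := h2 (f.fiberι y z) specializes_rfl rfl hzass
      refine ⟨n, hn, ?_⟩
      rw [← cdimFib_eq] at hdim
      exact hdim
  rw [hEq]
  exact isOpen_compl_iff.mpr ((Scheme.Hom.isClosedMap f) _ (isClosed_compl_iff.mpr hopen))

end Final

end Groth.Agent.Helper5.FibMod
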