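import Mathlib
import Groth.Prelude
import Groth.Agent.Helper5.FibModR

/-!
# FibModU: supports of the fibres of a flat module (ring level): minimal points, dimensions
-/

set_option autoImplicit false
set_option linter.unusedSectionVars false
set_option linter.unusedVariables false
set_option linter.style.haveILetI false
universe u
open CategoryTheory TensorProduct IsLocalRing AlgebraicGeometry

namespace Groth.Agent.Helper5.FibMod

open Groth.Agent.Helper1 Groth.Agent.Helper2 Groth.Agent.Helper5.FibPd

attribute [local instance] Algebra.TensorProduct.rightAlgebra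

section Supp

variable (A B : Type u) [CommRing A] [CommRing B] [Algebra A B]
  (M : Type u) [AddCommGroup M] [Module B M] [Module.Finite B M]

/-- Nakayama: the fibre module at `q` is nonzero iff `q` is in the support -/
theorem nontrivial_fibTensor_iff (q : PrimeSpectrum B) :
    Nontrivial ((EGA4.FibLocRing A B q.asIdeal) ⊗[B] M) ↔ q ∈ Module.support B M := by
  haveI := q.2
  rw [(fibTensorEquiv A B q.asIdeal M).toEquiv.nontrivial_congr, Module.mem_support_iff]
  constructor
  · intro h
    by_contra hns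
    rw [not_nontrivial_iff_subsingleton] at hns
    haveI := hns
    exact (not_subsingleton_iff_nontrivial.mpr h) (subsingleton_fibLocMod A B q.asIdeal M)
  · intro hnt
    haveI := hnt
    haveI : Module.Finite (Localization.AtPrime q.asIdeal)
        (LocalizedModule q.asIdeal.primeCompl M) :=
      Module.Finite.of_isLocalizedModule q.asIdeal.primeCompl
        (LocalizedModule.mkLinearMap q.asIdeal.primeCompl M)
    rw [Submodule.Quotient.nontrivial_iff]
    intro h
    have hle : (q.asIdeal.comap (algebraMap A B)).map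
        (algebraMap A (Localization.AtPrime q.asIdeal)) ≤
        maximalIdeal (Localization.AtPrime q.asIdeal) := by
      rw [Ideal.map_le_iff_le_comap]
      intro a ha
      rw [Ideal.mem_comap, IsScalarTower.algebraMap_apply A B (Localization.AtPrime q.asIdeal),
        ← Localization.AtPrime.map_eq_maximalIdeal]
      exact Ideal.mem_map_of_mem _ ha
    apply Groth.Agent.Helper2.Depth.smul_top_ne_top (Localization.AtPrime q.asIdeal)
      (LocalizedModule q.asIdeal.primeCompl M)
    exact eq_top_iff.2 (h.symm.le.trans (Submodule.smul_mono_left hle))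

variable [Algebra.FiniteType A B]

set_option maxHeartbeats 1600000 in
/-- the support dimension of the pair at a point of a fibre (no Noetherian hypothesis) -/
theorem supportDim_fibTensor (p : PrimeSpectrum A) (Qb : PrimeSpectrum (p.asIdeal.Fiber B))
    (hmem : Qb ∈ Module.support (p.asIdeal.Fiber B) ((p.asIdeal.Fiber B) ⊗[B] M)) :
    IsNoetherianRing (EGA4.FibLocRing A B (fibPt A B p Qb).asIdeal) ∧
    Module.Finite (EGA4.FibLocRing A B (fibPt A B p Qb).asIdeal)
      ((EGA4.FibLocRing A B (fibPt A B p Qb).asIdeal) ⊗[B] M) ∧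
    Module.supportDim (EGA4.FibLocRing A B (fibPt A B p Qb).asIdeal)
        ((EGA4.FibLocRing A B (fibPt A B p Qb).asIdeal) ⊗[B] M) =
      ((Order.height (⟨Qb, hmem⟩ :
        Module.support (p.asIdeal.Fiber B) ((p.asIdeal.Fiber B) ⊗[B] M)) : ℕ∞) : WithBot ℕ∞) := by
  haveI := p.2
  haveI := Qb.2
  haveI hNF : IsNoetherianRing (p.asIdeal.Fiber B) :=
    Algebra.FiniteType.isNoetherianRing p.asIdeal.ResidueField _
  have h1 := Groth.Agent.Helper5.RSD.supportDim_localized_eq_height
    (A := p.asIdeal.Fiber B) ((p.asIdeal.Fiber B) ⊗[B] M) Qb.asIdeal hmem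
  have h2 := (fibre_form_iff (sdEq _) A B M p Qb).mpr ⟨
    IsLocalization.isNoetherianRing Qb.asIdeal.primeCompl _ inferInstance,
    Module.Finite.of_isLocalizedModule Qb.asIdeal.primeCompl
      (LocalizedModule.mkLinearMap Qb.asIdeal.primeCompl ((p.asIdeal.Fiber B) ⊗[B] M)), h1⟩
  have h3 := (fibLocMod_iff (sdEq _) A B (fibPt A B p Qb).asIdeal M).mpr h2
  exact h3

/-- every point of the support of a fibre has a generization in the fibre which is minimal in
the support of the fibre; at such a point the depth of the fibre module is zero -/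
theorem exists_minimal_in_fibre (q : PrimeSpectrum B) (hq : q ∈ Module.support B M) :
    ∃ q₀ : PrimeSpectrum B, q₀ ≤ q ∧
      PrimeSpectrum.comap (algebraMap A B) q₀ = PrimeSpectrum.comap (algebraMap A B) q ∧
      q₀ ∈ Module.support B M ∧ depthB A B M q₀ = 0 ∧
      ∀ q' : PrimeSpectrum B, q' ≤ q₀ →
        PrimeSpectrum.comap (algebraMap A B) q' = PrimeSpectrum.comap (algebraMap A B) q₀ →
        q' ∈ Module.support B M → q' = q₀ := by
  obtain ⟨p, Qb, hQ⟩ := exists_fibre_prime' A B q
  obtain rfl : fibPt A B p Qb = q := PrimeSpectrum.ext hQ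
  haveI := p.2
  haveI hNF : IsNoetherianRing (p.asIdeal.Fiber B) :=
    Algebra.FiniteType.isNoetherianRing p.asIdeal.ResidueField _
  have hmem := (mem_fibre_support_iff' A B M p Qb).mpr hq
  have hann : Module.annihilator (p.asIdeal.Fiber B) ((p.asIdeal.Fiber B) ⊗[B] M) ≤ Qb.asIdeal :=
    (Module.mem_support_iff_of_finite).mp hmem
  obtain ⟨P, hPmin, hPQ⟩ := Ideal.exists_minimalPrimes_le hann
  haveI hPprime : P.IsPrime := hPmin.1.1
  let Q₀ : PrimeSpectrum (p.asIdeal.Fiber B) := ⟨P, hPprime⟩
  have hmem₀ : Q₀ ∈ Module.support (p.asIdeal.Fiber B) ((p.asIdeal.Fiber B) ⊗[B] M) :=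
    (Module.mem_support_iff_of_finite).mpr hPmin.1.2
  have hminQ : ∀ Q' : PrimeSpectrum (p.asIdeal.Fiber B), Q' ≤ Q₀ →
      Q' ∈ Module.support (p.asIdeal.Fiber B) ((p.asIdeal.Fiber B) ⊗[B] M) → Q' = Q₀ := by
    intro Q' hle hQ'
    have h1 : Module.annihilator (p.asIdeal.Fiber B) ((p.asIdeal.Fiber B) ⊗[B] M) ≤ Q'.asIdeal :=
      (Module.mem_support_iff_of_finite).mp hQ'
    have h2 : P ≤ Q'.asIdeal := hPmin.2 ⟨Q'.2, h1⟩ hle
    exact PrimeSpectrum.ext (le_antisymm hle h2)
  refine ⟨fibPt A B p Q₀, Ideal.comap_mono hPQ, ?_, (mem_fibre_support_iff' A B M p Q₀).mp hmem₀,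
    ?_, ?_⟩
  · rw [fibPt_base, fibPt_base]
  · -- depth zero
    obtain ⟨hN, hF, hsd⟩ := supportDim_fibTensor A B M p Q₀ hmem₀
    haveI := hN
    haveI := hF
    haveI : Nontrivial ((EGA4.FibLocRing A B (fibPt A B p Q₀).asIdeal) ⊗[B] M) :=
      (nontrivial_fibTensor_iff A B M (fibPt A B p Q₀)).mpr
        ((mem_fibre_support_iff' A B M p Q₀).mp hmem₀)
    have hh : Order.height (⟨Q₀, hmem₀⟩ :
        Module.support (p.asIdeal.Fiber B) ((p.asIdeal.Fiber B) ⊗[B] M)) = 0 := by
      rw [Order.height_eq_zero]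
      intro b hb
      have := hminQ b.1 hb b.2
      exact le_of_eq (Subtype.ext this).symm
    rw [hh] at hsd
    have h1 := Groth.Agent.Helper2.DepthCM4.depth_le_supportDim
      (A := EGA4.FibLocRing A B (fibPt A B p Q₀).asIdeal)
      ((EGA4.FibLocRing A B (fibPt A B p Q₀).asIdeal) ⊗[B] M)
    rw [hsd] at h1
    have h2 : depthB A B M (fibPt A B p Q₀) ≤ 0 := by
      unfold depthB
      exact_mod_cast h1
    exact le_antisymm h2 bot_le
  · intro q' hle hc hq'
    rw [fibPt_base] at hc
    let e := PrimeSpectrum.preimageOrderIsoFiber A B p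
    have hQ' : fibPt A B p (e ⟨q', hc⟩) = q' :=
      congrArg Subtype.val (e.symm_apply_apply ⟨q', hc⟩)
    have hQ₀ : e ⟨fibPt A B p Q₀, fibPt_base A B p Q₀⟩ = Q₀ := by
      apply fibPt_injective A B p
      exact congrArg Subtype.val (e.symm_apply_apply ⟨fibPt A B p Q₀, fibPt_base A B p Q₀⟩)
    have hle' : e ⟨q', hc⟩ ≤ Q₀ := by
      rw [← hQ₀]
      exact e.monotone hle
    have hmem' : e ⟨q', hc⟩ ∈ Module.support (p.asIdeal.Fiber B) ((p.asIdeal.Fiber B) ⊗[B] M) := by
      rw [mem_fibre_support_iff', hQ']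
      exact hq'
    have := hminQ _ hle' hmem'
    rw [← hQ', this]

end Supp

end Groth.Agent.Helper5.FibMod
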