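import Mathlib
import Groth.Prelude
import Groth.Agent.Helper5.FibModU
import Groth.Agent.Helper6.FlatGD
import Groth.Agent.Helper3.SuppBC
import Groth.Agent.Lead.FD21

/-!
# FibModV: the image of the support of a flat finitely presented module is open (ring level);
openness of two conditions on the dimensions of the supports of the fibres
-/

set_option autoImplicit false
set_option linter.unusedSectionVars false
set_option linter.unusedVariables false
set_option linter.style.haveILetI false
universe u
open CategoryTheory TensorProduct IsLocalRing AlgebraicGeometry Topology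

namespace Groth.Agent.Helper5.FibMod

open Groth.Agent.Helper1 Groth.Agent.Helper2 Groth.Agent.Helper5.FibPd

/-- Noetherian case of the openness of the image of the support -/
theorem isOpen_image_support_noeth (A B : Type u) [CommRing A] [CommRing B] [IsNoetherianRing A]
    [Algebra A B] [Algebra.FiniteType A B] (M : Type u) [AddCommGroup M] [Module B M] [Module A M]
    [IsScalarTower A B M] [Module.Finite B M] [Module.Flat A M] :
    IsOpen (PrimeSpectrum.comap (algebraMap A B) '' Module.support B M) := by
  haveI : IsNoetherianRing B := Algebra.FiniteType.isNoetherianRing A B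
  haveI : Algebra.FinitePresentation A B := Algebra.FinitePresentation.of_finiteType.mp inferInstance
  apply PrimeSpectrum.isOpen_of_stableUnderGeneralization_of_isConstructible
  · rintro _ p' hsp ⟨Q, hQ, rfl⟩
    have hle : p'.asIdeal ≤ Q.asIdeal.comap (algebraMap A B) :=
      (PrimeSpectrum.le_iff_specializes _ _).mpr hsp
    obtain ⟨P, hPQ, hP, hPc⟩ := Groth.Agent.Helper6.FlatGD.going_down_support M Q hQ p'.asIdeal hle
    exact ⟨P, hP, PrimeSpectrum.ext hPc⟩
  · apply PrimeSpectrum.isConstructible_comap_image
      (RingHom.finitePresentation_algebraMap.mpr inferInstance)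
    have hcl : IsClosed (Module.support B M) := Module.isClosed_support
    have : IsConstructible (Module.support B M)ᶜ :=
      IsRetrocompact.isConstructible hcl.isOpen_compl
        (fun U _ _ => TopologicalSpace.NoetherianSpace.isCompact _)
    exact this.of_compl

set_option maxHeartbeats 1600000 in
/-- **the image of the support of a finitely presented module, flat over the base, is open** -/
theorem isOpen_image_support (A B : Type u) [CommRing A] [CommRing B] [Algebra A B]
    [Algebra.FinitePresentation A B] (M : Type u) [AddCommGroup M] [Module B M] [Module A M]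
    [IsScalarTower A B M] [Module.FinitePresentation B M] [Module.Flat A M] :
    IsOpen (PrimeSpectrum.comap (algebraMap A B) '' Module.support B M) := by
  obtain ⟨C₀, D₀, _, _, _, α, β, M₀, _, _, _, _, hpo, hft, hφft, hfin, ⟨eN⟩, hflat⟩ :=
    Groth.Agent.Lead.FD21.exists_noeth_model_module (A := A) (B := B) M
  haveI := hφft
  haveI := hfin
  haveI : Module.Flat C₀ M₀ := hflat inferInstance
  haveI : IsNoetherianRing C₀ := Algebra.FiniteType.isNoetherianRing ℤ C₀
  letI algDB : Algebra D₀ B := β.toAlgebra
  have h0 := isOpen_image_support_noeth C₀ D₀ M₀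
  have hsupp : Module.support B M = PrimeSpectrum.comap β ⁻¹' Module.support D₀ M₀ := by
    ext q
    rw [eN.support_eq]
    exact Groth.Agent.Helper3.SuppBC.mem_support_baseChange_iff q
  have hpb := isPullback_SpecMap_of_isPushout _ _ _ _ hpo
  have himg := Scheme.image_preimage_eq_of_isPullback hpb (Module.support D₀ M₀)
  have hEq : PrimeSpectrum.comap (algebraMap A B) '' Module.support B M =
      PrimeSpectrum.comap α ⁻¹' (PrimeSpectrum.comap (algebraMap C₀ D₀) '' Module.support D₀ M₀) := by
    rw [hsupp]
    exact himg
  rw [hEq]
  exact h0.preimage (PrimeSpectrum.continuous_comap _)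

section Dims

variable (A B : Type u) [CommRing A] [CommRing B] [Algebra A B]

/-- the dimensions of the closures of the points of the fibres are bounded -/
theorem exists_cB_le [Algebra.FiniteType A B] : ∃ N : ℕ, ∀ q : PrimeSpectrum B, cB A B q ≤ N := by
  obtain ⟨N, φ, hφ⟩ := (Algebra.FiniteType.iff_quotient_mvPolynomial'' (R := A) (S := B)).mp
    inferInstance
  letI : Algebra (MvPolynomial (Fin N) A) B := φ.toRingHom.toAlgebra
  haveI : IsScalarTower A (MvPolynomial (Fin N) A) B :=
    IsScalarTower.of_algebraMap_eq (fun a => (φ.commutes a).symm)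
  have hs : Function.Surjective (algebraMap (MvPolynomial (Fin N) A) B) := hφ
  exact ⟨N, fun q => cB_le A B N hs q⟩

/-- Chevalley: the set where the support of the fibre has local dimension at most `n` is open -/
theorem isOpen_dimLE [Algebra.FiniteType A B] (M : Type u) [AddCommGroup M] [Module B M]
    [Module.Finite B M] (n : ℕ) :
    IsOpen {q : PrimeSpectrum B | ∀ q' : PrimeSpectrum B, q' ≤ q →
      PrimeSpectrum.comap (algebraMap A B) q' = PrimeSpectrum.comap (algebraMap A B) q →
      q' ∈ Module.support B M → cB A B q' ≤ n} := by
  have hEq : {q : PrimeSpectrum B | ∀ q' : PrimeSpectrum B, q' ≤ q →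
      PrimeSpectrum.comap (algebraMap A B) q' = PrimeSpectrum.comap (algebraMap A B) q →
      q' ∈ Module.support B M → cB A B q' ≤ n} =
      (chevSet A B (Module.annihilator B M) (n + 1))ᶜ := by
    ext q
    simp only [Set.mem_ofPred_eq, Set.mem_compl_iff]
    rw [mem_chevSet_iff']
    constructor
    · rintro h ⟨q', hle, hc, hI, hm⟩
      have h1 := h q' hle hc (Module.mem_support_iff_of_finite.mpr hI)
      have h2 : ((n + 1 : ℕ) : ℕ∞) ≤ (n : ℕ∞) := hm.trans h1
      have h3 : n + 1 ≤ n := by exact_mod_cast h2
      omega
    · intro h q' hle hc hs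
      by_contra hcon
      rw [not_le] at hcon
      apply h
      refine ⟨q', hle, hc, Module.mem_support_iff_of_finite.mp hs, ?_⟩
      have := (ENat.add_one_le_iff (ENat.natCast_ne_top n)).mpr hcon
      exact_mod_cast this
  rw [hEq]
  exact (isClosed_chevSet A B _ _).isOpen_compl

variable [Algebra.FinitePresentation A B] (M : Type u) [AddCommGroup M] [Module B M] [Module A M]
  [IsScalarTower A B M] [Module.FinitePresentation B M] [Module.Flat A M]

set_option maxHeartbeats 1600000 in
/-- the set where all the associated points of the fibre, through the point, have closure of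
dimension at least `n` is open -/
theorem isOpen_assGE (n : ℕ) :
    IsOpen {q : PrimeSpectrum B | ∀ q' : PrimeSpectrum B, q' ≤ q →
      PrimeSpectrum.comap (algebraMap A B) q' = PrimeSpectrum.comap (algebraMap A B) q →
      depthB A B M q' = 0 → (n : ℕ∞) ≤ cB A B q'} := by
  haveI : Algebra.FiniteType A B := inferInstance
  obtain ⟨N, hN⟩ := exists_cB_le A B
  have h := isOpen_assDims A B M (Finset.Icc n N)
  have hEq : {q : PrimeSpectrum B | ∀ q' : PrimeSpectrum B, q' ≤ q →
      PrimeSpectrum.comap (algebraMap A B) q' = PrimeSpectrum.comap (algebraMap A B) q →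
      depthB A B M q' = 0 → (n : ℕ∞) ≤ cB A B q'} =
      {q : PrimeSpectrum B | ∀ q' : PrimeSpectrum B, q' ≤ q →
      PrimeSpectrum.comap (algebraMap A B) q' = PrimeSpectrum.comap (algebraMap A B) q →
      depthB A B M q' = 0 → ∃ m ∈ Finset.Icc n N, cB A B q' = (m : ℕ∞)} := by
    ext q
    simp only [Set.mem_ofPred_eq]
    refine forall_congr' fun q' => forall_congr' fun hle => forall_congr' fun hc =>
      forall_congr' fun hd => ?_
    constructor
    · intro hn
      have hb := hN q'
      obtain ⟨m, hm⟩ := ENat.ne_top_iff_exists.mp
        (ne_top_of_le_ne_top (ENat.natCast_ne_top N) hb)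
      rw [← hm] at hb hn
      have h1 : m ≤ N := by exact_mod_cast hb
      have h2 : n ≤ m := by exact_mod_cast hn
      exact ⟨m, Finset.mem_Icc.mpr ⟨h2, h1⟩, hm.symm⟩
    · rintro ⟨m, hm, hcb⟩
      rw [hcb]
      exact_mod_cast (Finset.mem_Icc.mp hm).1
  rw [hEq]
  exact h

end Dims

end Groth.Agent.Helper5.FibMod
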