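import Mathlib
import Groth.Prelude
import Groth.Agent.Helper5.FibModT
import Groth.Agent.Helper5.FibModV

/-!
# FibModW: the support of the fibres of a flat finitely presented module: charts
-/

set_option autoImplicit false
set_option linter.unusedSectionVars false
set_option linter.unusedVariables false
set_option linter.style.haveILetI false
universe u
open CategoryTheory CategoryTheory.Limits AlgebraicGeometry TopologicalSpace Topology TensorProduct
open IsLocalRing

namespace Groth.Agent.Helper5.FibMod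

open Groth.Agent.Helper1 Groth.Agent.Helper2 Groth.Agent.Helper5.FibPd

/-- the pair property: the module is nonzero -/
def ntIso : LocModIso.{u} where
  P R _ _ N _ _ := Nontrivial N
  iso R R' _ _ _ _ N N' _ _ _ _ e eN h hP := by
    haveI := hP
    exact eN.symm.toEquiv.nontrivial

section Geom

variable {X Y : Scheme.{u}} (f : X ⟶ Y) (F : X.Modules)

/-- `x` is in the support of the restriction of `F` to the fibre through `x` -/
def suppAt (x : X) : Prop := FibModAt ntIso f F x

theorem suppFib_iff [F.IsQuasicoherent] (s : Y) (z : ↥(f.fiber s)) :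
    Nontrivial (((Scheme.Modules.pullback (f.fiberι s)).obj F).presheaf.stalk z) ↔
      suppAt f F (f.fiberι s z) :=
  fibre_pair_stalk_iff f F ntIso s z

theorem suppAt_of_depth_zero (x : X) (h : depthAt f F x = 0) : suppAt f F x := by
  show Nontrivial _
  by_contra hc
  rw [not_nontrivial_iff_subsingleton] at hc
  haveI := hc
  unfold depthAt depthFib at h
  rw [Groth.Agent.Helper2.DepthLoc.depth_eq_top_of_subsingleton] at h
  exact ENat.top_ne_zero h

/-- the points where the support of the fibre has local dimension at most `n` -/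
def dimLE (n : ℕ) : Set X :=
  {x | ∀ x' : X, x' ⤳ x → f.base x' = f.base x → suppAt f F x' → cdimAt f x' ≤ (n : WithBot ℕ∞)}

/-- the points where all associated points of the fibre through the point have closure of
dimension at least `n` -/
def assGE (n : ℕ) : Set X :=
  {x | ∀ x' : X, x' ⤳ x → f.base x' = f.base x → depthAt f F x' = 0 →
    (n : WithBot ℕ∞) ≤ cdimAt f x'}

/-- `x` is a maximal point of the support of the fibre through `x` -/
def IsGen (x : X) : Prop :=
  suppAt f F x ∧ ∀ x' : X, x' ⤳ x → f.base x' = f.base x → suppAt f F x' → x' = x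

end Geom

section Chart

variable {X Y : Scheme.{u}} (f : X ⟶ Y) (F : X.Modules)
  {U : X.Opens} (hU : IsAffineOpen U) {V : Y.Opens} (hV : IsAffineOpen V) (e : U ≤ f ⁻¹ᵁ V)

include hV e in
set_option maxHeartbeats 1600000 in
theorem suppAt_chart (hF : CohB1.IsFP F) (x : X) (hxU : x ∈ U) :
    suppAt f F x ↔ hU.primeIdealOf ⟨x, hxU⟩ ∈ Module.support Γ(X, U) Γ(F, U) := by
  letI : Algebra Γ(Y, V) Γ(X, U) := (f.appLE V U e).hom.toAlgebra
  haveI : SheafOfModules.IsFinitePresentation (R := X.ringCatSheaf) F := hF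
  haveI : F.IsQuasicoherent := inferInstance
  haveI : Module.FinitePresentation Γ(X, U) Γ(F, U) :=
    Groth.Agent.Helper4.FPGlue.fp_sections F hF hU
  exact (fibModAt_iff ntIso f F hU hV e x hxU).trans
    (nontrivial_fibTensor_iff Γ(Y, V) Γ(X, U) Γ(F, U) (hU.primeIdealOf ⟨x, hxU⟩))

include hV in
set_option maxHeartbeats 1600000 in
theorem chart_dimLE [LocallyOfFiniteType f] (hF : CohB1.IsFP F) (n : ℕ) (x : X) (hxU : x ∈ U) :
    letI : Algebra Γ(Y, V) Γ(X, U) := (f.appLE V U e).hom.toAlgebra
    x ∈ dimLE f F n ↔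
    ∀ q' : PrimeSpectrum Γ(X, U), q' ≤ hU.primeIdealOf ⟨x, hxU⟩ →
      PrimeSpectrum.comap (algebraMap Γ(Y, V) Γ(X, U)) q' =
        PrimeSpectrum.comap (algebraMap Γ(Y, V) Γ(X, U)) (hU.primeIdealOf ⟨x, hxU⟩) →
      q' ∈ Module.support Γ(X, U) Γ(F, U) → cB Γ(Y, V) Γ(X, U) q' ≤ n := by
  letI : Algebra Γ(Y, V) Γ(X, U) := (f.appLE V U e).hom.toAlgebra
  constructor
  · intro h q' hle hc hs
    obtain ⟨x', hx', rfl⟩ := chart_point hU q'
    have hsp := (specializes_chart_iff hU x' x hx' hxU).mpr hle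
    have hf := (same_fibre_chart_iff f hU hV e x' x hx' hxU).mpr hc
    rw [← suppAt_chart f F hU hV e hF x' hx'] at hs
    have h1 := h x' hsp hf hs
    rw [cdimAt_eq f hU hV e x' hx'] at h1
    exact_mod_cast h1
  · intro h x' hsp hf hs
    have hx' : x' ∈ U := hsp.mem_open U.2 hxU
    have hle := (specializes_chart_iff hU x' x hx' hxU).mp hsp
    have hc := (same_fibre_chart_iff f hU hV e x' x hx' hxU).mp hf
    rw [suppAt_chart f F hU hV e hF x' hx'] at hs
    have h1 := h _ hle hc hs
    rw [cdimAt_eq f hU hV e x' hx']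
    exact_mod_cast h1

include hV in
set_option maxHeartbeats 1600000 in
theorem chart_assGE [LocallyOfFiniteType f] (hF : CohB1.IsFP F) (n : ℕ) (x : X) (hxU : x ∈ U) :
    letI : Algebra Γ(Y, V) Γ(X, U) := (f.appLE V U e).hom.toAlgebra
    x ∈ assGE f F n ↔
    ∀ q' : PrimeSpectrum Γ(X, U), q' ≤ hU.primeIdealOf ⟨x, hxU⟩ →
      PrimeSpectrum.comap (algebraMap Γ(Y, V) Γ(X, U)) q' =
        PrimeSpectrum.comap (algebraMap Γ(Y, V) Γ(X, U)) (hU.primeIdealOf ⟨x, hxU⟩) →
      depthB Γ(Y, V) Γ(X, U) Γ(F, U) q' = 0 → (n : ℕ∞) ≤ cB Γ(Y, V) Γ(X, U) q' := by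
  letI : Algebra Γ(Y, V) Γ(X, U) := (f.appLE V U e).hom.toAlgebra
  constructor
  · intro h q' hle hc hd
    obtain ⟨x', hx', rfl⟩ := chart_point hU q'
    have hsp := (specializes_chart_iff hU x' x hx' hxU).mpr hle
    have hf := (same_fibre_chart_iff f hU hV e x' x hx' hxU).mpr hc
    rw [← depthAt_eq f F hU hV e hF x' hx'] at hd
    have h1 := h x' hsp hf hd
    rw [cdimAt_eq f hU hV e x' hx'] at h1
    exact_mod_cast h1
  · intro h x' hsp hf hd
    have hx' : x' ∈ U := hsp.mem_open U.2 hxU
    have hle := (specializes_chart_iff hU x' x hx' hxU).mp hsp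
    have hc := (same_fibre_chart_iff f hU hV e x' x hx' hxU).mp hf
    rw [depthAt_eq f F hU hV e hF x' hx'] at hd
    have h1 := h _ hle hc hd
    rw [cdimAt_eq f hU hV e x' hx']
    exact_mod_cast h1

end Chart

end Groth.Agent.Helper5.FibMod
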