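import Mathlib
import Groth.Prelude
import Groth.Agent.Helper5.FibModW

/-!
# FibModX: the support of the fibres of a flat finitely presented module: global statements on `X`
-/

set_option autoImplicit false
set_option linter.unusedSectionVars false
set_option linter.unusedVariables false
set_option linter.style.haveILetI false
universe u
open CategoryTheory CategoryTheory.Limits AlgebraicGeometry TopologicalSpace Topology TensorProduct
open IsLocalRing

namespace Groth.Agent.Helper5.FibMod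

open Groth.Agent.Helper1 Groth.Agent.Helper2 Groth.Agent.Helper5.FibPd

section Final

variable {X Y : Scheme.{u}} (f : X ⟶ Y) (F : X.Modules)

/-- an affine chart around a point, inside a given open set -/
theorem exists_chart (x : X) (W : Set X) (hW : IsOpen W) (hxW : x ∈ W) :
    ∃ (V : Y.Opens) (hV : IsAffineOpen V) (U : X.Opens) (hU : IsAffineOpen U)
      (e : U ≤ f ⁻¹ᵁ V), x ∈ U ∧ (U : Set X) ⊆ W := by
  obtain ⟨_, ⟨V, hV, rfl⟩, hxV, -⟩ :=
    Y.isBasis_affineOpens.exists_subset_of_mem_open (Set.mem_univ (f.base x)) isOpen_univ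
  let Vo : Y.Opens := V
  obtain ⟨_, ⟨U, hU, rfl⟩, hxU, hUV⟩ :=
    X.isBasis_affineOpens.exists_subset_of_mem_open
      (show x ∈ (f ⁻¹ᵁ Vo : Set X) ∩ W from ⟨hxV, hxW⟩) ((f ⁻¹ᵁ Vo).isOpen.inter hW)
  exact ⟨V, hV, U, hU, fun y hy => (hUV hy).1, hxU, fun y hy => (hUV hy).2⟩

theorem continuous_primeIdealOf {U : X.Opens} (hU : IsAffineOpen U) :
    Continuous (fun y : U => hU.primeIdealOf y) := by
  have : (fun y : U => hU.primeIdealOf y) = hU.isoSpec.hom := rfl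
  rw [this]
  exact hU.isoSpec.hom.continuous

set_option maxHeartbeats 1600000 in
theorem isOpen_dimLE_geom [LocallyOfFinitePresentation f] (hF : CohB1.IsFP F) (n : ℕ) :
    IsOpen (dimLE f F n) := by
  rw [isOpen_iff_forall_mem_open]
  intro x hx
  obtain ⟨Vo, hVo, Uo, hUo, e, hxU, -⟩ := exists_chart f x Set.univ isOpen_univ (Set.mem_univ x)
  letI algAB : Algebra Γ(Y, Vo) Γ(X, Uo) := (f.appLE Vo Uo e).hom.toAlgebra
  haveI : Algebra.FinitePresentation Γ(Y, Vo) Γ(X, Uo) :=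
    RingHom.finitePresentation_algebraMap.1 <|
      HasRingHomProperty.appLE (P := @LocallyOfFinitePresentation) f inferInstance ⟨Vo, hVo⟩
        ⟨Uo, hUo⟩ e
  haveI : Module.FinitePresentation Γ(X, Uo) Γ(F, Uo) :=
    Groth.Agent.Helper4.FPGlue.fp_sections F hF hUo
  have hT := isOpen_dimLE Γ(Y, Vo) Γ(X, Uo) Γ(F, Uo) n
  set T : Set (PrimeSpectrum Γ(X, Uo)) := {q | ∀ q' : PrimeSpectrum Γ(X, Uo), q' ≤ q →
      PrimeSpectrum.comap (algebraMap Γ(Y, Vo) Γ(X, Uo)) q' =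
        PrimeSpectrum.comap (algebraMap Γ(Y, Vo) Γ(X, Uo)) q →
      q' ∈ Module.support Γ(X, Uo) Γ(F, Uo) → cB Γ(Y, Vo) Γ(X, Uo) q' ≤ n} with hTdef
  refine ⟨Subtype.val '' ((fun y : Uo => hUo.primeIdealOf y) ⁻¹' T), ?_, ?_, ?_⟩
  · rintro _ ⟨y, hy, rfl⟩
    exact (chart_dimLE f F hUo hVo e hF n y.1 y.2).mpr hy
  · exact Uo.isOpen.isOpenMap_subtype_val _ (hT.preimage (continuous_primeIdealOf hUo))
  · exact ⟨⟨x, hxU⟩, (chart_dimLE f F hUo hVo e hF n x hxU).mp hx, rfl⟩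

set_option maxHeartbeats 1600000 in
theorem isOpen_assGE_geom [LocallyOfFinitePresentation f] (hF : CohB1.IsFP F)
    (hflat : FlatMod.IsFlatOver f F) (n : ℕ) : IsOpen (assGE f F n) := by
  rw [isOpen_iff_forall_mem_open]
  intro x hx
  obtain ⟨Vo, hVo, Uo, hUo, e, hxU, -⟩ := exists_chart f x Set.univ isOpen_univ (Set.mem_univ x)
  letI algAB : Algebra Γ(Y, Vo) Γ(X, Uo) := (f.appLE Vo Uo e).hom.toAlgebra
  haveI : Algebra.FinitePresentation Γ(Y, Vo) Γ(X, Uo) :=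
    RingHom.finitePresentation_algebraMap.1 <|
      HasRingHomProperty.appLE (P := @LocallyOfFinitePresentation) f inferInstance ⟨Vo, hVo⟩
        ⟨Uo, hUo⟩ e
  haveI : Module.FinitePresentation Γ(X, Uo) Γ(F, Uo) :=
    Groth.Agent.Helper4.FPGlue.fp_sections F hF hUo
  letI modAF : Module Γ(Y, Vo) Γ(F, Uo) := Module.compHom _ (f.appLE Vo Uo e).hom
  haveI : IsScalarTower Γ(Y, Vo) Γ(X, Uo) Γ(F, Uo) :=
    IsScalarTower.of_algebraMap_smul fun r m => rfl
  haveI : Module.Flat Γ(Y, Vo) Γ(F, Uo) :=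
    (Groth.Agent.Helper5.AffFlat.flat_sections_iff f F hVo hUo e).mp (fun x _ => hflat x)
  have hT := isOpen_assGE Γ(Y, Vo) Γ(X, Uo) Γ(F, Uo) n
  set T : Set (PrimeSpectrum Γ(X, Uo)) := {q | ∀ q' : PrimeSpectrum Γ(X, Uo), q' ≤ q →
      PrimeSpectrum.comap (algebraMap Γ(Y, Vo) Γ(X, Uo)) q' =
        PrimeSpectrum.comap (algebraMap Γ(Y, Vo) Γ(X, Uo)) q →
      depthB Γ(Y, Vo) Γ(X, Uo) Γ(F, Uo) q' = 0 → (n : ℕ∞) ≤ cB Γ(Y, Vo) Γ(X, Uo) q'} with hTdef
  refine ⟨Subtype.val '' ((fun y : Uo => hUo.primeIdealOf y) ⁻¹' T), ?_, ?_, ?_⟩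
  · rintro _ ⟨y, hy, rfl⟩
    exact (chart_assGE f F hUo hVo e hF n y.1 y.2).mpr hy
  · exact Uo.isOpen.isOpenMap_subtype_val _ (hT.preimage (continuous_primeIdealOf hUo))
  · exact ⟨⟨x, hxU⟩, (chart_assGE f F hUo hVo e hF n x hxU).mp hx, rfl⟩

set_option maxHeartbeats 1600000 in
/-- the support of the fibres is closed in `X` -/
theorem isClosed_suppAt [LocallyOfFinitePresentation f] (hF : CohB1.IsFP F) :
    IsClosed {x : X | suppAt f F x} := by
  rw [← isOpen_compl_iff, isOpen_iff_forall_mem_open]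
  intro x hx
  obtain ⟨Vo, hVo, Uo, hUo, e, hxU, -⟩ := exists_chart f x Set.univ isOpen_univ (Set.mem_univ x)
  haveI : Module.FinitePresentation Γ(X, Uo) Γ(F, Uo) :=
    Groth.Agent.Helper4.FPGlue.fp_sections F hF hUo
  have hT : IsOpen (Module.support Γ(X, Uo) Γ(F, Uo))ᶜ := Module.isClosed_support.isOpen_compl
  refine ⟨Subtype.val '' ((fun y : Uo => hUo.primeIdealOf y) ⁻¹'
    (Module.support Γ(X, Uo) Γ(F, Uo))ᶜ), ?_, ?_, ?_⟩
  · rintro _ ⟨y, hy, rfl⟩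
    intro hc
    exact hy ((suppAt_chart f F hUo hVo e hF y.1 y.2).mp hc)
  · exact Uo.isOpen.isOpenMap_subtype_val _ (hT.preimage (continuous_primeIdealOf hUo))
  · refine ⟨⟨x, hxU⟩, ?_, rfl⟩
    intro hc
    exact hx ((suppAt_chart f F hUo hVo e hF x hxU).mpr hc)

set_option maxHeartbeats 1600000 in
/-- every point lies in some `dimLE n` -/
theorem exists_mem_dimLE [LocallyOfFinitePresentation f] (hF : CohB1.IsFP F) (x : X) :
    ∃ n : ℕ, x ∈ dimLE f F n := by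
  obtain ⟨Vo, hVo, Uo, hUo, e, hxU, -⟩ := exists_chart f x Set.univ isOpen_univ (Set.mem_univ x)
  letI algAB : Algebra Γ(Y, Vo) Γ(X, Uo) := (f.appLE Vo Uo e).hom.toAlgebra
  haveI : Algebra.FinitePresentation Γ(Y, Vo) Γ(X, Uo) :=
    RingHom.finitePresentation_algebraMap.1 <|
      HasRingHomProperty.appLE (P := @LocallyOfFinitePresentation) f inferInstance ⟨Vo, hVo⟩
        ⟨Uo, hUo⟩ e
  haveI : Algebra.FiniteType Γ(Y, Vo) Γ(X, Uo) := inferInstance
  obtain ⟨N, hN⟩ := exists_cB_le Γ(Y, Vo) Γ(X, Uo)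
  refine ⟨N, ?_⟩
  rw [chart_dimLE f F hUo hVo e hF N x hxU]
  intro q' _ _ _
  exact hN q'

set_option maxHeartbeats 1600000 in
/-- every point of the support of a fibre has a generization which is a maximal point of the
support of the fibre; at such a point the depth is zero -/
theorem exists_isGen [LocallyOfFinitePresentation f] (hF : CohB1.IsFP F) (x : X)
    (hx : suppAt f F x) :
    ∃ x₀ : X, x₀ ⤳ x ∧ f.base x₀ = f.base x ∧ IsGen f F x₀ ∧ depthAt f F x₀ = 0 := by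
  obtain ⟨Vo, hVo, Uo, hUo, e, hxU, -⟩ := exists_chart f x Set.univ isOpen_univ (Set.mem_univ x)
  letI algAB : Algebra Γ(Y, Vo) Γ(X, Uo) := (f.appLE Vo Uo e).hom.toAlgebra
  haveI : Algebra.FinitePresentation Γ(Y, Vo) Γ(X, Uo) :=
    RingHom.finitePresentation_algebraMap.1 <|
      HasRingHomProperty.appLE (P := @LocallyOfFinitePresentation) f inferInstance ⟨Vo, hVo⟩
        ⟨Uo, hUo⟩ e
  haveI : Algebra.FiniteType Γ(Y, Vo) Γ(X, Uo) := inferInstance
  haveI : Module.FinitePresentation Γ(X, Uo) Γ(F, Uo) :=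
    Groth.Agent.Helper4.FPGlue.fp_sections F hF hUo
  have hq := (suppAt_chart f F hUo hVo e hF x hxU).mp hx
  obtain ⟨q₀, hle, hc, hs, hd, hmin⟩ :=
    exists_minimal_in_fibre Γ(Y, Vo) Γ(X, Uo) Γ(F, Uo) (hUo.primeIdealOf ⟨x, hxU⟩) hq
  obtain ⟨x₀, hx₀, rfl⟩ := chart_point hUo q₀
  have hsp := (specializes_chart_iff hUo x₀ x hx₀ hxU).mpr hle
  have hf := (same_fibre_chart_iff f hUo hVo e x₀ x hx₀ hxU).mpr hc
  refine ⟨x₀, hsp, hf, ⟨(suppAt_chart f F hUo hVo e hF x₀ hx₀).mpr hs, ?_⟩, ?_⟩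
  · intro x' hsp' hf' hs'
    have hx' : x' ∈ Uo := hsp'.mem_open Uo.2 hx₀
    have hle' := (specializes_chart_iff hUo x' x₀ hx' hx₀).mp hsp'
    have hc' := (same_fibre_chart_iff f hUo hVo e x' x₀ hx' hx₀).mp hf'
    have := hmin _ hle' hc' ((suppAt_chart f F hUo hVo e hF x' hx').mp hs')
    have h2 := congrArg (fun q => hUo.fromSpec q) this
    simp only [hUo.fromSpec_primeIdealOf] at h2
    exact h2
  · rw [depthAt_eq f F hUo hVo e hF x₀ hx₀]
    exact hd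

set_option maxHeartbeats 1600000 in
/-- the image of the intersection of the support with an open set is open -/
theorem isOpen_image_suppAt [LocallyOfFinitePresentation f] (hF : CohB1.IsFP F)
    (hflat : FlatMod.IsFlatOver f F) (W : Set X) (hW : IsOpen W) :
    IsOpen (f.base '' (W ∩ {x : X | suppAt f F x})) := by
  rw [isOpen_iff_forall_mem_open]
  rintro _ ⟨x, ⟨hxW, hxs⟩, rfl⟩
  obtain ⟨Vo, hVo, Uo, hUo, e, hxU, hUW⟩ := exists_chart f x W hW hxW
  letI algAB : Algebra Γ(Y, Vo) Γ(X, Uo) := (f.appLE Vo Uo e).hom.toAlgebra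
  haveI : Algebra.FinitePresentation Γ(Y, Vo) Γ(X, Uo) :=
    RingHom.finitePresentation_algebraMap.1 <|
      HasRingHomProperty.appLE (P := @LocallyOfFinitePresentation) f inferInstance ⟨Vo, hVo⟩
        ⟨Uo, hUo⟩ e
  haveI : Module.FinitePresentation Γ(X, Uo) Γ(F, Uo) :=
    Groth.Agent.Helper4.FPGlue.fp_sections F hF hUo
  letI modAF : Module Γ(Y, Vo) Γ(F, Uo) := Module.compHom _ (f.appLE Vo Uo e).hom
  haveI : IsScalarTower Γ(Y, Vo) Γ(X, Uo) Γ(F, Uo) :=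
    IsScalarTower.of_algebraMap_smul fun r m => rfl
  haveI : Module.Flat Γ(Y, Vo) Γ(F, Uo) :=
    (Groth.Agent.Helper5.AffFlat.flat_sections_iff f F hVo hUo e).mp (fun x _ => hflat x)
  have hT := isOpen_image_support Γ(Y, Vo) Γ(X, Uo) Γ(F, Uo)
  refine ⟨hVo.fromSpec '' (PrimeSpectrum.comap (algebraMap Γ(Y, Vo) Γ(X, Uo)) ''
    Module.support Γ(X, Uo) Γ(F, Uo)), ?_, ?_, ?_⟩
  · rintro _ ⟨_, ⟨q, hq, rfl⟩, rfl⟩
    obtain ⟨x', hx', rfl⟩ := chart_point hUo q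
    refine ⟨x', ⟨hUW hx', (suppAt_chart f F hUo hVo e hF x' hx').mpr hq⟩, ?_⟩
    have h1 := map_fromSpec f hUo hVo e (hUo.primeIdealOf ⟨x', hx'⟩)
    rw [hUo.fromSpec_primeIdealOf ⟨x', hx'⟩] at h1
    exact h1
  · exact hVo.fromSpec.isOpenEmbedding.isOpenMap _ hT
  · refine ⟨_, ⟨hUo.primeIdealOf ⟨x, hxU⟩, (suppAt_chart f F hUo hVo e hF x hxU).mp hxs, rfl⟩, ?_⟩
    have h1 := map_fromSpec f hUo hVo e (hUo.primeIdealOf ⟨x, hxU⟩)
    rw [hUo.fromSpec_primeIdealOf ⟨x, hxU⟩] at h1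
    exact h1.symm

end Final

end Groth.Agent.Helper5.FibMod
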