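import Mathlib
import Groth.Prelude
import Groth.Agent.Helper5.FibModX
import Groth.Agent.Helper5.LocDim3

/-!
# FibModY: irreducible components of a closed subset of a scheme and its maximal points;
the dimensions of the components of the supports of the fibres (S4965)
-/

set_option autoImplicit false
set_option linter.unusedSectionVars false
set_option linter.unusedVariables false
set_option linter.style.haveILetI false
universe u
open CategoryTheory CategoryTheory.Limits AlgebraicGeometry TopologicalSpace Topology TensorProduct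
open IsLocalRing

namespace Groth.Agent.Helper5.FibMod

open Groth.Agent.Helper1 Groth.Agent.Helper2 Groth.Agent.Helper5.FibPd

section Top

variable {Z : Scheme.{u}} (T : Set Z) (hT : IsClosed T)

include hT in
/-- each irreducible component of a closed subset has a generic point, which is a maximal point of
the subset -/
theorem component_generic (C : Set ↥T) (hC : C ∈ irreducibleComponents ↥T) :
    ∃ ζ : Z, ζ ∈ T ∧ (∀ z' ∈ T, z' ⤳ ζ → z' = ζ) ∧ closure ({ζ} : Set Z) = Subtype.val '' C ∧
      topologicalKrullDim ↥C = topologicalKrullDim ↥(closure ({ζ} : Set Z)) := by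
  obtain ⟨ζ, hζ⟩ := Groth.Agent.Helper5.LocDim.exists_generic_of_component T hT C hC
  have hζC : ζ ∈ Subtype.val '' C := by
    rw [← hζ]
    exact subset_closure rfl
  have hζT : ζ ∈ T := by
    obtain ⟨c, -, rfl⟩ := hζC
    exact c.2
  refine ⟨ζ, hζT, ?_, hζ, ?_⟩
  · intro z' hz' hsp
    set C' : Set ↥T := Subtype.val ⁻¹' closure ({z'} : Set Z) with hC'
    have hC'eq : C' = closure ({⟨z', hz'⟩} : Set ↥T) := by
      rw [Topology.IsInducing.subtypeVal.closure_eq_preimage_closure_image, Set.image_singleton]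
    have hirr : IsIrreducible C' := by
      rw [hC'eq]
      exact isIrreducible_singleton.closure
    have hsub : C ≤ C' := by
      intro c hc
      have : c.1 ∈ closure ({ζ} : Set Z) := by
        rw [hζ]
        exact ⟨c, hc, rfl⟩
      exact (specializes_iff_closure_subset.mp hsp) this
    have hle : C' ≤ C := hC.2 hirr hsub
    have hz'C : (⟨z', hz'⟩ : ↥T) ∈ C := hle (show z' ∈ closure ({z'} : Set Z) from subset_closure rfl)
    have h2 : z' ∈ closure ({ζ} : Set Z) := by
      rw [hζ]
      exact ⟨⟨z', hz'⟩, hz'C, rfl⟩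
    exact ((specializes_iff_mem_closure.mpr h2).antisymm hsp).symm.eq
  · rw [hζ, Groth.Agent.Helper5.LocDim.dim_image_val T C]

include hT in
/-- each maximal point of a closed subset is the generic point of an irreducible component -/
theorem generic_component (ζ : Z) (hζ : ζ ∈ T) (hmin : ∀ z' ∈ T, z' ⤳ ζ → z' = ζ) :
    ∃ C ∈ irreducibleComponents ↥T,
      topologicalKrullDim ↥C = topologicalKrullDim ↥(closure ({ζ} : Set Z)) := by
  obtain ⟨C, hC, hsub⟩ := exists_mem_irreducibleComponents_subset_of_isIrreducible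
    ({⟨ζ, hζ⟩} : Set ↥T) isIrreducible_singleton
  obtain ⟨ζ', hζ'T, -, hcl, hdim⟩ := component_generic T hT C hC
  have h1 : ζ ∈ closure ({ζ'} : Set Z) := by
    rw [hcl]
    exact ⟨⟨ζ, hζ⟩, hsub rfl, rfl⟩
  have h2 : ζ' = ζ := hmin ζ' hζ'T (specializes_iff_mem_closure.mpr h1)
  rw [h2] at hdim
  exact ⟨C, hC, hdim⟩

include hT in
/-- the dimension of a closed subset of a scheme, in terms of the closures of its points -/
theorem dim_le_iff_forall (d : WithBot ℕ∞) :
    topologicalKrullDim ↥T ≤ d ↔
      ∀ z ∈ T, topologicalKrullDim ↥(closure ({z} : Set Z)) ≤ d := by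
  constructor
  · intro h z hz
    refine le_trans (Groth.Agent.Helper5.LocDim.dim_subset_le ?_) h
    exact closure_minimal (Set.singleton_subset_iff.mpr hz) hT
  · intro h
    refine Groth.Agent.Helper5.LocDim.dim_le_of_chains T
      (Groth.Agent.Helper5.LocDim.genStable_of_isClosed T hT) d ?_
    intro l hl
    have hmem : ∀ i, l i ∈ closure ({l (Fin.last _)} : Set Z) := by
      intro i
      have h1 : l i ≤ l (Fin.last _) := l.monotone (Fin.le_last i)
      exact specializes_iff_mem_closure.mp (Scheme.le_iff_specializes.mp h1)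
    exact le_trans (Groth.Agent.Helper5.EquiDim.length_le_dim_of_forall_mem _ l hmem)
      (h _ (hl _))

end Top

section Fib

variable {X Y : Scheme.{u}} (f : X ⟶ Y) (F : X.Modules)

/-- the support of the restriction of `F` to the fibre at `s` -/
def suppFib (s : Y) : Set ↥(f.fiber s) :=
  {z | Nontrivial (((Scheme.Modules.pullback (f.fiberι s)).obj F).presheaf.stalk z)}

theorem mem_suppFib_iff [F.IsQuasicoherent] (s : Y) (z : ↥(f.fiber s)) :
    z ∈ suppFib f F s ↔ suppAt f F (f.fiberι s z) := suppFib_iff f F s z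

theorem isClosed_suppFib [LocallyOfFinitePresentation f] (hF : CohB1.IsFP F) (s : Y) :
    IsClosed (suppFib f F s) := by
  haveI : SheafOfModules.IsFinitePresentation (R := X.ringCatSheaf) F := hF
  haveI : F.IsQuasicoherent := inferInstance
  have : suppFib f F s = (f.fiberι s) ⁻¹' {x | suppAt f F x} := by
    ext z
    exact mem_suppFib_iff f F s z
  rw [this]
  exact (isClosed_suppAt f F hF).preimage (f.fiberι s).continuous

/-- dictionary for the maximal points of the support of a fibre -/
theorem isGen_iff [F.IsQuasicoherent] (s : Y) (z : ↥(f.fiber s)) :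
    (z ∈ suppFib f F s ∧ ∀ z' ∈ suppFib f F s, z' ⤳ z → z' = z) ↔ IsGen f F (f.fiberι s z) := by
  constructor
  · rintro ⟨h1, h2⟩
    refine ⟨(mem_suppFib_iff f F s z).mp h1, ?_⟩
    intro x' hsp hf hs
    obtain ⟨z', rfl⟩ := exists_fibre_point f s x' (hf.trans (apply_fiberι' f s z))
    have hz' : z' ∈ suppFib f F s := (mem_suppFib_iff f F s z').mpr hs
    have hsp' : z' ⤳ z := (f.fiberι s).isEmbedding.isInducing.specializes_iff.mp hsp
    rw [h2 z' hz' hsp']
  · rintro ⟨h1, h2⟩
    refine ⟨(mem_suppFib_iff f F s z).mpr h1, ?_⟩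
    intro z' hz' hsp
    have hsp' : f.fiberι s z' ⤳ f.fiberι s z :=
      (f.fiberι s).isEmbedding.isInducing.specializes_iff.mpr hsp
    have := h2 (f.fiberι s z') hsp' ((apply_fiberι' f s z').trans (apply_fiberι' f s z).symm)
      ((mem_suppFib_iff f F s z').mp hz')
    exact (f.fiberι s).isEmbedding.injective this

/-- the points of `Y` whose fibre has a maximal point of the support with closure of
dimension `n` -/
def genImg (n : ℕ) : Set Y :=
  {y | ∃ x : X, f.base x = y ∧ IsGen f F x ∧ cdimAt f x = (n : WithBot ℕ∞)}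

theorem isOpen_genImg [LocallyOfFinitePresentation f] (hF : CohB1.IsFP F)
    (hflat : FlatMod.IsFlatOver f F) (n : ℕ) : IsOpen (genImg f F n) := by
  rw [isOpen_iff_forall_mem_open]
  rintro _ ⟨x, rfl, hgen, hcd⟩
  have hW : IsOpen (dimLE f F n ∩ assGE f F n) :=
    (isOpen_dimLE_geom f F hF n).inter (isOpen_assGE_geom f F hF hflat n)
  have hxW : x ∈ dimLE f F n ∩ assGE f F n := by
    constructor
    · intro x' hsp hf hs
      rw [hgen.2 x' hsp hf hs, hcd]
    · intro x' hsp hf hd
      rw [hgen.2 x' hsp hf (suppAt_of_depth_zero f F x' hd), hcd]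
  refine ⟨f.base '' ((dimLE f F n ∩ assGE f F n) ∩ {x : X | suppAt f F x}), ?_,
    isOpen_image_suppAt f F hF hflat _ hW, ⟨x, ⟨hxW, hgen.1⟩, rfl⟩⟩
  rintro _ ⟨x', ⟨⟨hd, ha⟩, hs⟩, rfl⟩
  obtain ⟨x₀, hsp, hf, hgen₀, hdep⟩ := exists_isGen f F hF x' hs
  exact ⟨x₀, hf, hgen₀, le_antisymm (hd x₀ hsp hf hgen₀.1) (ha x₀ hsp hf hdep)⟩

theorem exists_component_iff [LocallyOfFinitePresentation f] (hF : CohB1.IsFP F) (y : Y) (n : ℕ) :
    (∃ C ∈ irreducibleComponents ↥(suppFib f F y),
      topologicalKrullDim ↥C = (n : WithBot ℕ∞)) ↔ y ∈ genImg f F n := by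
  haveI : SheafOfModules.IsFinitePresentation (R := X.ringCatSheaf) F := hF
  haveI : F.IsQuasicoherent := inferInstance
  constructor
  · rintro ⟨C, hC, hdim⟩
    obtain ⟨ζ, hζ, hmin, -, hd⟩ :=
      component_generic (suppFib f F y) (isClosed_suppFib f F hF y) C hC
    refine ⟨f.fiberι y ζ, apply_fiberι' f y ζ, (isGen_iff f F y ζ).mp ⟨hζ, hmin⟩, ?_⟩
    rw [← cdimFib_eq, ← hdim, hd]
    rfl
  · rintro ⟨x, rfl, hgen, hcd⟩
    have hx : f.fiberι (f.base x) (f.asFiber x) = x := f.fiberι_asFiber x
    rw [← hx] at hgen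
    obtain ⟨h1, h2⟩ := (isGen_iff f F (f.base x) (f.asFiber x)).mpr hgen
    obtain ⟨C, hC, hdim⟩ := generic_component (suppFib f F (f.base x))
      (isClosed_suppFib f F hF (f.base x)) (f.asFiber x) h1 h2
    refine ⟨C, hC, ?_⟩
    rw [hdim, ← hcd]
    rfl

/-- S4965 -/
theorem s4965 [LocallyOfFinitePresentation f] (hF : CohB1.IsFP F)
    (hflat : FlatMod.IsFlatOver f F) (Φ : Finset ℕ) :
    IsOpen {y : Y | ∀ n ∈ Φ, ∃ Z ∈ irreducibleComponents ↥{z : ↥(f.fiber y) | Nontrivial (((Scheme.Modules.pullback (f.fiberι y)).obj F).presheaf.stalk z)},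
      topologicalKrullDim ↥Z = (n : WithBot ℕ∞)} := by
  have hEq : {y : Y | ∀ n ∈ Φ, ∃ Z ∈ irreducibleComponents ↥{z : ↥(f.fiber y) | Nontrivial (((Scheme.Modules.pullback (f.fiberι y)).obj F).presheaf.stalk z)},
      topologicalKrullDim ↥Z = (n : WithBot ℕ∞)} = ⋂ n ∈ Φ, genImg f F n := by
    ext y
    simp only [Set.mem_ofPred_eq, Set.mem_iInter]
    exact forall_congr' fun n => forall_congr' fun hn => exists_component_iff f F hF y n
  rw [hEq]
  exact isOpen_biInter_finset fun n _ => isOpen_genImg f F hF hflat n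

end Fib

end Groth.Agent.Helper5.FibMod
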