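import Mathlib
import Groth.Prelude
import Groth.Agent.Helper5.FibModY

/-!
# FibModZ: the dimension of the supports of the fibres is locally constant (S4969); openness of
"no embedded component and component dimensions exactly `Φ`" (S4966)
-/

set_option autoImplicit false
set_option linter.unusedSectionVars false
set_option linter.unusedVariables false
set_option linter.style.haveILetI false
universe u
open CategoryTheory CategoryTheory.Limits AlgebraicGeometry TopologicalSpace Topology TensorProduct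
open IsLocalRing

namespace Groth.Agent.Helper5.FibMod

open Groth.Agent.Helper1 Groth.Agent.Helper2 Groth.Agent.Helper5.FibPd

section Top

theorem dim_nonneg_of_nonempty (T : Type*) [TopologicalSpace T] [Nonempty T] :
    0 ≤ topologicalKrullDim T := by
  haveI : Nonempty (TopologicalSpace.IrreducibleCloseds T) :=
    ⟨⟨closure {Classical.arbitrary T}, isIrreducible_singleton.closure, isClosed_closure⟩⟩
  exact Order.krullDim_nonneg

theorem dim_eq_bot_of_isEmpty (T : Type*) [TopologicalSpace T] [IsEmpty T] :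
    topologicalKrullDim T = ⊥ := by
  unfold topologicalKrullDim
  rw [Order.krullDim_eq_bot_iff]
  exact ⟨fun Z => Z.isIrreducible'.1.elim (fun x _ => IsEmpty.false x)⟩

variable {Z : Scheme.{u}} (T : Set Z) (hT : IsClosed T)

include hT in
/-- the dimension of a closed subset, when finite, is attained by the closure of a point -/
theorem exists_dim_closure_eq (d : ℕ) (hd : topologicalKrullDim ↥T = (d : WithBot ℕ∞)) :
    ∃ z ∈ T, topologicalKrullDim ↥(closure ({z} : Set Z)) = (d : WithBot ℕ∞) := by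
  by_contra hcon
  push Not at hcon
  have hle : ∀ z ∈ T, topologicalKrullDim ↥(closure ({z} : Set Z)) ≤ (d : WithBot ℕ∞) :=
    (dim_le_iff_forall T hT _).mp hd.le
  cases d with
  | zero =>
    haveI hne : Nonempty ↥T := by
      by_contra hne
      rw [not_nonempty_iff] at hne
      rw [dim_eq_bot_of_isEmpty] at hd
      exact WithBot.bot_ne_coe hd
    obtain ⟨z, hz⟩ := hne
    haveI : Nonempty ↥(closure ({z} : Set Z)) := ⟨⟨z, subset_closure rfl⟩⟩
    have h0 := dim_nonneg_of_nonempty ↥(closure ({z} : Set Z))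
    exact hcon z hz (le_antisymm (hle z hz) (by exact_mod_cast h0))
  | succ k =>
    have h1 : ∀ z ∈ T, topologicalKrullDim ↥(closure ({z} : Set Z)) ≤ (k : WithBot ℕ∞) := by
      intro z hz
      have hlt := lt_of_le_of_ne (hle z hz) (hcon z hz)
      have : (((k + 1 : ℕ) : ℕ∞) : WithBot ℕ∞) = ((k : ℕ∞) : WithBot ℕ∞) + 1 := by
        push_cast
        rfl
      have hlt' : topologicalKrullDim ↥(closure ({z} : Set Z)) < ((k : ℕ∞) : WithBot ℕ∞) + 1 := by
        rw [← this]
        exact_mod_cast hlt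
      exact_mod_cast (ENat.WithBot.lt_add_one_iff).mp hlt'
    have h2 := (dim_le_iff_forall T hT _).mpr h1
    rw [hd] at h2
    have : (k + 1 : ℕ) ≤ k := by exact_mod_cast h2
    omega

end Top

section Fib

variable {X Y : Scheme.{u}} (f : X ⟶ Y) (F : X.Modules)

theorem suppAt_iff_asFiber (x : X) : suppAt f F x ↔ f.asFiber x ∈ suppFib f F (f.base x) :=
  Iff.rfl

/-- the dimension of the closure of a point of a fibre, in terms of `cdimAt` -/
theorem dim_closure_eq (s : Y) (z : ↥(f.fiber s)) :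
    topologicalKrullDim ↥(closure ({z} : Set ↥(f.fiber s))) = cdimAt f (f.fiberι s z) :=
  cdimFib_eq f s z

/-- a maximal point of the support of a fibre is an associated point -/
theorem depthAt_of_isGen [LocallyOfFinitePresentation f] (hF : CohB1.IsFP F) (x : X)
    (h : IsGen f F x) : depthAt f F x = 0 := by
  obtain ⟨x₀, hsp, hf, hgen₀, hdep⟩ := exists_isGen f F hF x h.1
  rw [← h.2 x₀ hsp hf hgen₀.1]
  exact hdep

/-- the absence of embedded components, in terms of points of `X` -/
theorem noEmb_iff [LocallyOfFiniteType f] (hF : CohB1.IsFP F) (y : Y) :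
    AssSch.NoEmbedded ((Scheme.Modules.pullback (f.fiberι y)).obj F) ↔
      ∀ x : X, f.base x = y → x ∈ set4983 f F := by
  constructor
  · rintro h x rfl x' hsp hf hd x'' hsp' hf' hd'
    obtain ⟨z', rfl⟩ := exists_fibre_point f (f.base x) x' hf
    obtain ⟨z'', rfl⟩ := exists_fibre_point f (f.base x) x'' (hf'.trans hf)
    have hz' : z' ∈ AssSch.Ass ((Scheme.Modules.pullback (f.fiberι (f.base x))).obj F) := by
      rw [mem_ass_iff f F hF, depthFib_eq]
      exact hd
    have hz'' : z'' ∈ AssSch.Ass ((Scheme.Modules.pullback (f.fiberι (f.base x))).obj F) := by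
      rw [mem_ass_iff f F hF, depthFib_eq]
      exact hd'
    have hsp'' : z'' ⤳ z' := (f.fiberι (f.base x)).isEmbedding.isInducing.specializes_iff.mp hsp'
    rw [h z' hz' z'' hz'' hsp'']
  · intro h z₁ hz₁ z₂ hz₂ hsp
    rw [mem_ass_iff f F hF, depthFib_eq] at hz₁ hz₂
    have hsp' : f.fiberι y z₂ ⤳ f.fiberι y z₁ :=
      (f.fiberι y).isEmbedding.isInducing.specializes_iff.mpr hsp
    have := h (f.fiberι y z₁) (apply_fiberι' f y z₁) (f.fiberι y z₁) specializes_rfl rfl hz₁
      (f.fiberι y z₂) hsp' ((apply_fiberι' f y z₂).trans (apply_fiberι' f y z₁).symm) hz₂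
    exact ((f.fiberι y).isEmbedding.injective this).symm

theorem isOpen_noEmb_geom [IsProper f] [LocallyOfFinitePresentation f] (hF : CohB1.IsFP F)
    (hflat : FlatMod.IsFlatOver f F) :
    IsOpen {y : Y | AssSch.NoEmbedded ((Scheme.Modules.pullback (f.fiberι y)).obj F)} := by
  have hopen := isOpen_set4983 f F hF hflat
  have hEq : {y : Y | AssSch.NoEmbedded ((Scheme.Modules.pullback (f.fiberι y)).obj F)} =
      (f.base '' (set4983 f F)ᶜ)ᶜ := by
    ext y
    simp only [Set.mem_ofPred_eq, Set.mem_compl_iff, Set.mem_image, not_exists, not_and]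
    rw [noEmb_iff f F hF]
    constructor
    · intro h x hx hfx
      exact hx (h x hfx)
    · intro h x hfx
      by_contra hc
      exact h x hc hfx
  rw [hEq]
  exact isOpen_compl_iff.mpr ((Scheme.Hom.isClosedMap f) _ (isClosed_compl_iff.mpr hopen))

set_option maxHeartbeats 1600000 in
/-- S4966 -/
theorem s4966 [IsProper f] [LocallyOfFinitePresentation f] (hF : CohB1.IsFP F)
    (hflat : FlatMod.IsFlatOver f F) (Φ : Finset ℕ) :
    IsOpen {y : Y | AssSch.NoEmbedded ((Scheme.Modules.pullback (f.fiberι y)).obj F) ∧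
      (fun Z : Set ↥{z : ↥(f.fiber y) | Nontrivial (((Scheme.Modules.pullback (f.fiberι y)).obj F).presheaf.stalk z)} => topologicalKrullDim ↥Z) '' irreducibleComponents ↥{z : ↥(f.fiber y) | Nontrivial (((Scheme.Modules.pullback (f.fiberι y)).obj F).presheaf.stalk z)} =
        (fun n : ℕ => (n : WithBot ℕ∞)) '' (Φ : Set ℕ)} := by
  haveI : SheafOfModules.IsFinitePresentation (R := X.ringCatSheaf) F := hF
  haveI : F.IsQuasicoherent := inferInstance
  have h1 := isOpen_noEmb_geom f F hF hflat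
  have h2 := s4964 f F hF hflat Φ
  have h3 := s4965 f F hF hflat Φ
  have hEq : {y : Y | AssSch.NoEmbedded ((Scheme.Modules.pullback (f.fiberι y)).obj F) ∧
      (fun Z : Set ↥{z : ↥(f.fiber y) | Nontrivial (((Scheme.Modules.pullback (f.fiberι y)).obj F).presheaf.stalk z)} => topologicalKrullDim ↥Z) '' irreducibleComponents ↥{z : ↥(f.fiber y) | Nontrivial (((Scheme.Modules.pullback (f.fiberι y)).obj F).presheaf.stalk z)} =
        (fun n : ℕ => (n : WithBot ℕ∞)) '' (Φ : Set ℕ)} =
      ({y : Y | AssSch.NoEmbedded ((Scheme.Modules.pullback (f.fiberι y)).obj F)} ∩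
      {y : Y | ∀ z ∈ AssSch.Ass ((Scheme.Modules.pullback (f.fiberι y)).obj F), ∃ n ∈ Φ,
        topologicalKrullDim ↥(closure ({z} : Set ↥(f.fiber y))) = (n : WithBot ℕ∞)}) ∩
      {y : Y | ∀ n ∈ Φ, ∃ Z ∈ irreducibleComponents ↥{z : ↥(f.fiber y) | Nontrivial (((Scheme.Modules.pullback (f.fiberι y)).obj F).presheaf.stalk z)},
        topologicalKrullDim ↥Z = (n : WithBot ℕ∞)} := by
    ext y
    simp only [Set.mem_ofPred_eq, Set.mem_inter_iff]
    constructor
    · rintro ⟨hne, himg⟩
      refine ⟨⟨hne, ?_⟩, ?_⟩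
      · intro z hz
        have hz0 := hz
        rw [mem_ass_iff f F hF, depthFib_eq] at hz0
        have hs := suppAt_of_depth_zero f F _ hz0
        obtain ⟨x₀, hsp, hf, hgen₀, hdep⟩ := exists_isGen f F hF _ hs
        obtain ⟨z₀, rfl⟩ := exists_fibre_point f y x₀ (hf.trans (apply_fiberι' f y z))
        have hz₀ : z₀ ∈ AssSch.Ass ((Scheme.Modules.pullback (f.fiberι y)).obj F) := by
          rw [mem_ass_iff f F hF, depthFib_eq]
          exact hdep
        have hsp' : z₀ ⤳ z := (f.fiberι y).isEmbedding.isInducing.specializes_iff.mp hsp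
        have hzz : z = z₀ := hne z hz z₀ hz₀ hsp'
        rw [← hzz] at hgen₀
        obtain ⟨hzT, hmin⟩ := (isGen_iff f F y z).mpr hgen₀
        obtain ⟨C, hC, hdim⟩ := generic_component (suppFib f F y) (isClosed_suppFib f F hF y)
          z hzT hmin
        have hmem : topologicalKrullDim ↥C ∈ (fun n : ℕ => (n : WithBot ℕ∞)) '' (Φ : Set ℕ) := by
          rw [← himg]
          exact ⟨C, hC, rfl⟩
        obtain ⟨n, hn, hnC⟩ := hmem
        exact ⟨n, hn, hdim.symm.trans hnC.symm⟩
      · intro n hn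
        have hmem : (n : WithBot ℕ∞) ∈ (fun n : ℕ => (n : WithBot ℕ∞)) '' (Φ : Set ℕ) :=
          ⟨n, hn, rfl⟩
        rw [← himg] at hmem
        obtain ⟨C, hC, hdim⟩ := hmem
        exact ⟨C, hC, hdim⟩
    · rintro ⟨⟨hne, h64⟩, h65⟩
      refine ⟨hne, ?_⟩
      ext d
      constructor
      · rintro ⟨C, hC, rfl⟩
        obtain ⟨ζ, hζ, hmin, -, hd⟩ :=
          component_generic (suppFib f F y) (isClosed_suppFib f F hF y) C hC
        have hgen := (isGen_iff f F y ζ).mp ⟨hζ, hmin⟩
        have hdep := depthAt_of_isGen f F hF _ hgen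
        have hζass : ζ ∈ AssSch.Ass ((Scheme.Modules.pullback (f.fiberι y)).obj F) := by
          rw [mem_ass_iff f F hF, depthFib_eq]
          exact hdep
        obtain ⟨n, hn, hdim⟩ := h64 ζ hζass
        exact ⟨n, hn, (hd.trans hdim).symm⟩
      · rintro ⟨n, hn, rfl⟩
        obtain ⟨C, hC, hdim⟩ := h65 n hn
        exact ⟨C, hC, hdim⟩
  rw [hEq]
  exact (h1.inter h2).inter h3

theorem dimLE_mono {n m : ℕ} (h : n ≤ m) : dimLE f F n ⊆ dimLE f F m := by
  intro x hx x' hsp hf hs
  refine le_trans (hx x' hsp hf hs) ?_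
  exact_mod_cast h

/-- a fibre of a quasi-compact morphism lies in some `dimLE n` -/
theorem exists_fibre_subset_dimLE [QuasiCompact f] [LocallyOfFinitePresentation f]
    (hF : CohB1.IsFP F) (y : Y) : ∃ n : ℕ, ∀ x : X, f.base x = y → x ∈ dimLE f F n := by
  have hcov : (Set.univ : Set ↥(f.fiber y)) ⊆ ⋃ n : ℕ, (f.fiberι y) ⁻¹' dimLE f F n := by
    intro z _
    obtain ⟨n, hn⟩ := exists_mem_dimLE f F hF (f.fiberι y z)
    exact Set.mem_iUnion.mpr ⟨n, hn⟩
  obtain ⟨n, hn⟩ := isCompact_univ.elim_directed_cover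
    (fun n : ℕ => (f.fiberι y) ⁻¹' dimLE f F n)
    (fun n => (isOpen_dimLE_geom f F hF n).preimage (f.fiberι y).continuous) hcov
    (directed_of_isDirected_le (fun n m h => Set.preimage_mono (dimLE_mono f F h)))
  refine ⟨n, ?_⟩
  rintro x rfl
  have := hn (Set.mem_univ (f.asFiber x))
  simp only [Set.mem_preimage] at this
  rw [f.fiberι_asFiber x] at this
  exact this

set_option maxHeartbeats 1600000 in
/-- S4969 -/
theorem s4969 [IsProper f] [LocallyOfFinitePresentation f] (hF : CohB1.IsFP F)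
    (hflat : FlatMod.IsFlatOver f F) :
    IsLocallyConstant (fun y : Y => topologicalKrullDim ↥{z : ↥(f.fiber y) | Nontrivial (((Scheme.Modules.pullback (f.fiberι y)).obj F).presheaf.stalk z)}) := by
  haveI : SheafOfModules.IsFinitePresentation (R := X.ringCatSheaf) F := hF
  haveI : F.IsQuasicoherent := inferInstance
  rw [IsLocallyConstant.iff_exists_open]
  intro y₀
  show ∃ U : Set Y, IsOpen U ∧ y₀ ∈ U ∧ ∀ y ∈ U,
    topologicalKrullDim ↥(suppFib f F y) = topologicalKrullDim ↥(suppFib f F y₀)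
  have hSig := isClosed_suppAt f F hF
  by_cases hemp : (suppFib f F y₀).Nonempty
  · -- nonempty support
    obtain ⟨z₁, hz₁⟩ := hemp
    have hcl₀ := isClosed_suppFib f F hF y₀
    obtain ⟨N, hN⟩ := exists_fibre_subset_dimLE f F hF y₀
    -- the dimension is a natural number
    have hleN : topologicalKrullDim ↥(suppFib f F y₀) ≤ (N : WithBot ℕ∞) := by
      rw [dim_le_iff_forall _ hcl₀]
      intro z hz
      rw [dim_closure_eq]
      exact hN _ (apply_fiberι' f y₀ z) _ specializes_rfl rfl ((mem_suppFib_iff f F y₀ z).mp hz)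
    haveI : Nonempty ↥(suppFib f F y₀) := ⟨⟨z₁, hz₁⟩⟩
    have h0 := dim_nonneg_of_nonempty ↥(suppFib f F y₀)
    obtain ⟨d, hd⟩ : ∃ d : ℕ, topologicalKrullDim ↥(suppFib f F y₀) = (d : WithBot ℕ∞) := by
      have hne : topologicalKrullDim ↥(suppFib f F y₀) ≠ ⊥ := by
        intro hb
        rw [hb] at h0
        exact absurd h0 (by simp)
      obtain ⟨e, he⟩ := WithBot.ne_bot_iff_exists.mp hne
      rw [← he] at hleN
      have hleN' : e ≤ (N : ℕ∞) := by exact_mod_cast hleN
      obtain ⟨d, hd⟩ := ENat.ne_top_iff_exists.mp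
        (ne_top_of_le_ne_top (ENat.natCast_ne_top N) hleN')
      exact ⟨d, by rw [← he, ← hd]; rfl⟩
    -- the dimension is attained at a maximal point
    obtain ⟨z, hz, hzd⟩ := exists_dim_closure_eq _ hcl₀ d hd
    obtain ⟨x₀, hsp, hf, hgen₀, hdep⟩ :=
      exists_isGen f F hF _ ((mem_suppFib_iff f F y₀ z).mp hz)
    obtain ⟨z₀, rfl⟩ := exists_fibre_point f y₀ x₀ (hf.trans (apply_fiberι' f y₀ z))
    have hsp' : z₀ ⤳ z := (f.fiberι y₀).isEmbedding.isInducing.specializes_iff.mp hsp
    have hz₀ : z₀ ∈ suppFib f F y₀ := (mem_suppFib_iff f F y₀ z₀).mpr hgen₀.1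
    have hz₀d : cdimAt f (f.fiberι y₀ z₀) = (d : WithBot ℕ∞) := by
      rw [← dim_closure_eq]
      apply le_antisymm
      · rw [← hd]
        exact (dim_le_iff_forall _ hcl₀ _).mp le_rfl z₀ hz₀
      · rw [← hzd]
        exact Groth.Agent.Helper5.LocDim.dim_subset_le (specializes_iff_closure_subset.mp hsp')
    have hy₀gen : y₀ ∈ genImg f F d := ⟨f.fiberι y₀ z₀, apply_fiberι' f y₀ z₀, hgen₀, hz₀d⟩
    have hy₀D : y₀ ∈ (f.base '' (dimLE f F d)ᶜ)ᶜ := by
      rintro ⟨x, hx, rfl⟩
      apply hx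
      intro x' hsp'' hf' hs'
      obtain ⟨z', rfl⟩ := exists_fibre_point f (f.base x) x' hf'
      rw [← dim_closure_eq, ← hd]
      exact (dim_le_iff_forall _ hcl₀ _).mp le_rfl z' ((mem_suppFib_iff f F _ z').mpr hs')
    refine ⟨genImg f F d ∩ (f.base '' (dimLE f F d)ᶜ)ᶜ, (isOpen_genImg f F hF hflat d).inter
      (isOpen_compl_iff.mpr ((Scheme.Hom.isClosedMap f) _
        (isClosed_compl_iff.mpr (isOpen_dimLE_geom f F hF d)))), ⟨hy₀gen, hy₀D⟩, ?_⟩
    rintro y ⟨⟨x, rfl, hgen, hcd⟩, hyD⟩
    rw [hd]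
    have hcl := isClosed_suppFib f F hF (f.base x)
    apply le_antisymm
    · rw [dim_le_iff_forall _ hcl]
      intro z hz
      rw [dim_closure_eq]
      have hmem : f.fiberι (f.base x) z ∈ dimLE f F d := by
        by_contra hc
        exact hyD ⟨_, hc, apply_fiberι' f _ z⟩
      exact hmem _ specializes_rfl rfl ((mem_suppFib_iff f F _ z).mp hz)
    · have h1 := (dim_le_iff_forall _ hcl _).mp le_rfl (f.asFiber x)
        ((suppAt_iff_asFiber f F x).mp hgen.1)
      rw [dim_closure_eq, f.fiberι_asFiber x, hcd] at h1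
      exact h1
  · -- empty support
    rw [Set.not_nonempty_iff_eq_empty] at hemp
    refine ⟨(f.base '' {x : X | suppAt f F x})ᶜ,
      isOpen_compl_iff.mpr ((Scheme.Hom.isClosedMap f) _ hSig), ?_, ?_⟩
    · rintro ⟨x, hx, rfl⟩
      have : f.asFiber x ∈ suppFib f F (f.base x) := (suppAt_iff_asFiber f F x).mp hx
      rw [hemp] at this
      exact this
    · intro y hy
      have hy' : suppFib f F y = ∅ := by
        rw [Set.eq_empty_iff_forall_notMem]
        intro z hz
        exact hy ⟨f.fiberι y z, (mem_suppFib_iff f F y z).mp hz, apply_fiberι' f y z⟩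
      haveI : IsEmpty ↥(suppFib f F y) := by rw [hy']; infer_instance
      haveI : IsEmpty ↥(suppFib f F y₀) := by rw [hemp]; infer_instance
      rw [dim_eq_bot_of_isEmpty, dim_eq_bot_of_isEmpty]

end Fib

end Groth.Agent.Helper5.FibMod
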