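import Mathlib
import Groth.Prelude
import Groth.Agent.Helper5.FibModZ
import Groth.Agent.Helper5.GenFlat3
import Groth.Agent.Helper2.FibLF3

/-!
# FibMod2A: openness statements for modules flat over the base on an open subset; the absence of
embedded components near the generic point (S5872)
-/

set_option autoImplicit false
set_option linter.unusedSectionVars false
set_option linter.unusedVariables false
set_option linter.style.haveILetI false
universe u
open CategoryTheory CategoryTheory.Limits AlgebraicGeometry TopologicalSpace Topology TensorProduct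
open IsLocalRing

namespace Groth.Agent.Helper5.FibMod

open Groth.Agent.Helper1 Groth.Agent.Helper2 Groth.Agent.Helper5.FibPd

section Final

variable {X Y : Scheme.{u}} (f : X ⟶ Y) (F : X.Modules)

set_option maxHeartbeats 1600000 in
theorem isOpen_set4983_on [LocallyOfFinitePresentation f] (hF : CohB1.IsFP F)
    (W : Set X) (hW : IsOpen W) (hflat : ∀ x ∈ W, FlatMod.IsFlatOverAt f F x) :
    IsOpen (W ∩ set4983 f F) := by
  haveI : SheafOfModules.IsFinitePresentation (R := X.ringCatSheaf) F := hF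
  haveI : F.IsQuasicoherent := inferInstance
  rw [isOpen_iff_forall_mem_open]
  rintro x ⟨hxW, hx⟩
  obtain ⟨Vo, hVo, Uo, hUo, e, hxU, hUW⟩ := exists_chart f x W hW hxW
  letI algAB : Algebra Γ(Y, Vo) Γ(X, Uo) := (f.appLE Vo Uo e).hom.toAlgebra
  haveI : Algebra.FinitePresentation Γ(Y, Vo) Γ(X, Uo) :=
    RingHom.finitePresentation_algebraMap.1 <|
      HasRingHomProperty.appLE (P := @LocallyOfFinitePresentation) f inferInstance ⟨Vo, hVo⟩
        ⟨Uo, hUo⟩ e
  haveI : Module.FinitePresentation Γ(X, Uo) Γ(F, Uo) :=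
    Groth.Agent.Helper4.FPGlue.fp_sections F hF hUo
  letI modAF : Module Γ(Y, Vo) Γ(F, Uo) := Module.compHom _ (f.appLE Vo Uo e).hom
  haveI : IsScalarTower Γ(Y, Vo) Γ(X, Uo) Γ(F, Uo) :=
    IsScalarTower.of_algebraMap_smul fun r m => rfl
  haveI : Module.Flat Γ(Y, Vo) Γ(F, Uo) :=
    (Groth.Agent.Helper5.AffFlat.flat_sections_iff f F hVo hUo e).mp (fun x hx => hflat x (hUW hx))
  have hT := isOpen_noEmb Γ(Y, Vo) Γ(X, Uo) Γ(F, Uo)
  set T : Set (PrimeSpectrum Γ(X, Uo)) := {q | ∀ q' : PrimeSpectrum Γ(X, Uo), q' ≤ q →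
      PrimeSpectrum.comap (algebraMap Γ(Y, Vo) Γ(X, Uo)) q' =
        PrimeSpectrum.comap (algebraMap Γ(Y, Vo) Γ(X, Uo)) q →
      depthB Γ(Y, Vo) Γ(X, Uo) Γ(F, Uo) q' = 0 →
      ∀ q'' : PrimeSpectrum Γ(X, Uo), q'' ≤ q' →
      PrimeSpectrum.comap (algebraMap Γ(Y, Vo) Γ(X, Uo)) q'' =
        PrimeSpectrum.comap (algebraMap Γ(Y, Vo) Γ(X, Uo)) q' →
      depthB Γ(Y, Vo) Γ(X, Uo) Γ(F, Uo) q'' = 0 → q'' = q'} with hTdef
  refine ⟨Subtype.val '' ((fun y : Uo => hUo.primeIdealOf y) ⁻¹' T), ?_, ?_, ?_⟩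
  · rintro _ ⟨y, hy, rfl⟩
    exact ⟨hUW y.2, (chart_4983 f F hUo hVo e hF y.1 y.2).mpr hy⟩
  · exact Uo.isOpen.isOpenMap_subtype_val _ (hT.preimage (continuous_primeIdealOf hUo))
  · exact ⟨⟨x, hxU⟩, (chart_4983 f F hUo hVo e hF x hxU).mp hx, rfl⟩

set_option maxHeartbeats 1600000 in
theorem isOpen_set4982_on [LocallyOfFinitePresentation f] (hF : CohB1.IsFP F)
    (W : Set X) (hW : IsOpen W) (hflat : ∀ x ∈ W, FlatMod.IsFlatOverAt f F x) (Φ : Finset ℕ) :
    IsOpen (W ∩ set4982 f F Φ) := by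
  haveI : SheafOfModules.IsFinitePresentation (R := X.ringCatSheaf) F := hF
  haveI : F.IsQuasicoherent := inferInstance
  rw [isOpen_iff_forall_mem_open]
  rintro x ⟨hxW, hx⟩
  obtain ⟨Vo, hVo, Uo, hUo, e, hxU, hUW⟩ := exists_chart f x W hW hxW
  letI algAB : Algebra Γ(Y, Vo) Γ(X, Uo) := (f.appLE Vo Uo e).hom.toAlgebra
  haveI : Algebra.FinitePresentation Γ(Y, Vo) Γ(X, Uo) :=
    RingHom.finitePresentation_algebraMap.1 <|
      HasRingHomProperty.appLE (P := @LocallyOfFinitePresentation) f inferInstance ⟨Vo, hVo⟩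
        ⟨Uo, hUo⟩ e
  haveI : Module.FinitePresentation Γ(X, Uo) Γ(F, Uo) :=
    Groth.Agent.Helper4.FPGlue.fp_sections F hF hUo
  letI modAF : Module Γ(Y, Vo) Γ(F, Uo) := Module.compHom _ (f.appLE Vo Uo e).hom
  haveI : IsScalarTower Γ(Y, Vo) Γ(X, Uo) Γ(F, Uo) :=
    IsScalarTower.of_algebraMap_smul fun r m => rfl
  haveI : Module.Flat Γ(Y, Vo) Γ(F, Uo) :=
    (Groth.Agent.Helper5.AffFlat.flat_sections_iff f F hVo hUo e).mp (fun x hx => hflat x (hUW hx))
  have hT := isOpen_assDims Γ(Y, Vo) Γ(X, Uo) Γ(F, Uo) Φ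
  set T : Set (PrimeSpectrum Γ(X, Uo)) := {q | ∀ q' : PrimeSpectrum Γ(X, Uo), q' ≤ q →
      PrimeSpectrum.comap (algebraMap Γ(Y, Vo) Γ(X, Uo)) q' =
        PrimeSpectrum.comap (algebraMap Γ(Y, Vo) Γ(X, Uo)) q →
      depthB Γ(Y, Vo) Γ(X, Uo) Γ(F, Uo) q' = 0 →
      ∃ n ∈ Φ, cB Γ(Y, Vo) Γ(X, Uo) q' = (n : ℕ∞)} with hTdef
  refine ⟨Subtype.val '' ((fun y : Uo => hUo.primeIdealOf y) ⁻¹' T), ?_, ?_, ?_⟩
  · rintro _ ⟨y, hy, rfl⟩
    exact ⟨hUW y.2, (chart_4982 f F hUo hVo e hF Φ y.1 y.2).mpr hy⟩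
  · exact Uo.isOpen.isOpenMap_subtype_val _ (hT.preimage (continuous_primeIdealOf hUo))
  · exact ⟨⟨x, hxU⟩, (chart_4982 f F hUo hVo e hF Φ x hxU).mp hx, rfl⟩

/-- the generic point belongs to every nonempty open subset -/
theorem genericPoint_mem_of_nonempty {S : Scheme.{u}} [IsIntegral S] (U : Set S) (hU : IsOpen U)
    (hne : U.Nonempty) : genericPoint S ∈ U := by
  obtain ⟨t, ht⟩ := hne
  have h1 : genericPoint S ⤳ t := by
    rw [specializes_iff_mem_closure, genericPoint_closure]; trivial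
  exact h1.mem_open hU ht

set_option maxHeartbeats 1600000 in
/-- S5872 -/
theorem s5872 {X S : Scheme.{u}} [IsIntegral S] [IsNoetherian S]
    (f : X ⟶ S) [LocallyOfFiniteType f] [QuasiCompact f]
    (F : X.Modules) [Coh.IsQCoh F] (hF : CohB1.IsFP F)
    (hη : AssSch.NoEmbedded ((Scheme.Modules.pullback (f.fiberι (genericPoint S))).obj F)) :
    ∃ U : S.Opens, genericPoint S ∈ U ∧
      ∀ s ∈ U, AssSch.NoEmbedded ((Scheme.Modules.pullback (f.fiberι s)).obj F) := by
  haveI : SheafOfModules.IsFinitePresentation (R := X.ringCatSheaf) F := hF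
  haveI hufp : LocallyOfFinitePresentation f :=
    LocallyOfFinitePresentation.iff_locallyOfFiniteType.mpr inferInstance
  obtain ⟨U₀, hU₀, hflat⟩ := Groth.Agent.Helper5.GenFlat.main f F inferInstance inferInstance
  set W : Set X := (f ⁻¹ᵁ U₀ : Set X) ∩ set4983 f F with hWdef
  have hW : IsOpen W := isOpen_set4983_on f F hF _ (f ⁻¹ᵁ U₀).isOpen (fun x hx => hflat x hx)
  set L : Set S := {s | AssSch.NoEmbedded ((Scheme.Modules.pullback (f.fiberι s)).obj F)} with hL
  have hcrit : ∀ s ∈ U₀, s ∈ L ↔ ∀ x : X, f x = s → x ∈ W := by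
    intro s hs
    show AssSch.NoEmbedded _ ↔ _
    rw [noEmb_iff f F hF]
    constructor
    · intro h x hx
      exact ⟨by show f x ∈ U₀; rw [hx]; exact hs, h x hx⟩
    · intro h x hx
      exact (h x hx).2
  have hdec := Groth.Agent.Helper2.FibLF.decided_of_open_criterion f U₀ hU₀ W hW L hcrit
  have hint : (interior L).Nonempty := by
    rcases hdec with h | h
    · exact h
    · exfalso
      have := genericPoint_mem_of_nonempty (interior Lᶜ) isOpen_interior h
      exact (interior_subset this) hη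
  refine ⟨⟨interior L, isOpen_interior⟩, genericPoint_mem_of_nonempty _ isOpen_interior hint, ?_⟩
  intro s hs
  exact interior_subset hs

end Final

end Groth.Agent.Helper5.FibMod
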