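import Mathlib
import Groth.Prelude
import Groth.Agent.Helper5.FibMod2A
import Groth.Agent.Helper2.ConsMod3
import Groth.Agent.Helper2.RelAssD3
import Groth.Agent.Helper2.RedBC1
import Groth.Agent.Helper5.BCMin6
import Groth.Agent.Helper5.ConsPr5
import Groth.Agent.Helper4.CohFP

/-!
# FibNE1: the relation "no embedded associated points" is a constructible relation (S5871)
-/

set_option autoImplicit false
set_option linter.unusedSectionVars false
set_option linter.unusedVariables false
set_option linter.style.haveILetI false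
universe u
open CategoryTheory CategoryTheory.Limits AlgebraicGeometry TopologicalSpace Topology TensorProduct
open IsLocalRing

namespace Groth.Agent.Helper5.FibNE

/-- the local ring of a one-point integral scheme is a field -/
theorem maximalIdeal_stalk_eq_bot (T : Scheme.{u}) [IsIntegral T] [Subsingleton T] (t : T) :
    maximalIdeal (T.presheaf.stalk t) = ⊥ := by
  obtain rfl : t = genericPoint T := Subsingleton.elim _ _
  exact (IsLocalRing.isField_iff_maximalIdeal_eq).mp (Field.toIsField T.functionField)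

/-- over a one-point integral base the relative assassin is the assassin -/
theorem relAss_eq_ass {Y T : Scheme.{u}} (g : Y ⟶ T) [IsIntegral T] [Subsingleton T]
    (F : Y.Modules) : MoreMor.relAss g F = AssSch.Ass F := by
  ext x
  have h0 : (Ideal.map (g.stalkMap x).hom (maximalIdeal (T.presheaf.stalk (g x))) •
      (⊤ : Submodule (Y.presheaf.stalk x) (F.presheaf.stalk x))) = ⊥ := by
    rw [maximalIdeal_stalk_eq_bot, Ideal.map_bot, Submodule.bot_smul]
  show IsAssociatedPrime _ _ ↔ IsAssociatedPrime _ _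
  exact (Submodule.quotEquivOfEqBot _ h0).isAssociatedPrime_iff

/-- associated points of a base change to a field extension -/
theorem mem_ass_pullback_iff {Y Y' T T' : Scheme.{u}} (g : Y ⟶ T) (g' : Y' ⟶ T') (e : Y' ⟶ Y)
    (h : T' ⟶ T) [IsIntegral T] [Subsingleton T] [IsIntegral T'] [Subsingleton T']
    [LocallyOfFiniteType g] (sq : IsPullback e g' g h) (F : Y.Modules) (hF : Coh.IsQCoh F)
    (x' : Y') :
    x' ∈ AssSch.Ass ((Scheme.Modules.pullback e).obj F) ↔
      e x' ∈ AssSch.Ass F ∧ ∀ x'' : Y', e x'' = e x' → x'' ⤳ x' → x'' = x' := by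
  rw [← relAss_eq_ass g', ← relAss_eq_ass g,
    Groth.Agent.Helper2.RelAssD.mem_relAss_baseChange_iff sq F hF x']
  constructor
  · rintro ⟨h1, h2⟩
    exact ⟨h1, fun x'' h3 h4 => h2 x'' (Subsingleton.elim _ _) h3 h4⟩
  · rintro ⟨h1, h2⟩
    exact ⟨h1, fun x'' _ h3 h4 => h2 x'' h3 h4⟩

theorem fieldStable_noEmbedded :
    ConsProp.IsFieldStableMod (fun _ _ _ M => AssSch.NoEmbedded M) := by
  intro Y Y' T T' g g' e h _ _ _ _ _ _ sq F F' hF iso
  show AssSch.NoEmbedded F ↔ AssSch.NoEmbedded F'
  unfold AssSch.NoEmbedded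
  rw [Groth.Agent.Helper2.RedBC.ass_eq_of_iso iso]
  have hA := mem_ass_pullback_iff g g' e h sq F hF.1
  constructor
  · intro hne x' hx' y' hy' hsp
    obtain ⟨hx, hmaxx⟩ := (hA x').1 hx'
    obtain ⟨hy, hmaxy⟩ := (hA y').1 hy'
    have h1 : e x' = e y' := hne (e x') hx (e y') hy (hsp.map e.continuous)
    exact (hmaxx y' h1.symm hsp).symm
  · intro hne' x hx y hy hsp
    have : Nonempty T' := inferInstance
    let t' : T' := Nonempty.some inferInstance
    obtain ⟨x', hx'x, -, hmax⟩ := Groth.Agent.Helper2.RelAssD.exists_maximal_over sq x t'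
      (Subsingleton.elim _ _)
    have hfl : Flat h := inferInstance
    have hefl : Flat e := MorphismProperty.of_isPullback sq.flip hfl
    have hgen : GeneralizingMap e := Flat.generalizingMap e
    have hsp' : y ⤳ e x' := by rw [hx'x]; exact hsp
    obtain ⟨y'', hy''sp, hy''e⟩ := hgen hsp'
    have hr : y'' ∈ Set.range (e.fiberι y) := by
      rw [Scheme.Hom.range_fiberι]; exact hy''e
    obtain ⟨w'', hw''⟩ := hr
    obtain ⟨w, hw, hwmax⟩ := Groth.Agent.Helper5.BCMin.exists_max_generization w''
    have hey' : e (e.fiberι y w) = y := by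
      have : e.fiberι y w ∈ Set.range (e.fiberι y) := ⟨w, rfl⟩
      rw [Scheme.Hom.range_fiberι] at this
      exact this
    have hy'sp : e.fiberι y w ⤳ x' := by
      refine (hw.map (e.fiberι y).continuous).trans ?_
      rw [hw'']; exact hy''sp
    have hx'A : x' ∈ AssSch.Ass ((Scheme.Modules.pullback e).obj F) := by
      refine (hA x').2 ⟨by rw [hx'x]; exact hx, fun z hz hzsp => ?_⟩
      exact hmax z (Subsingleton.elim _ _) (hz.trans hx'x) hzsp
    have hy'A : e.fiberι y w ∈ AssSch.Ass ((Scheme.Modules.pullback e).obj F) := by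
      refine (hA _).2 ⟨by rw [hey']; exact hy, fun z hz hzsp => ?_⟩
      have hzr : z ∈ Set.range (e.fiberι y) := by
        rw [Scheme.Hom.range_fiberι]; exact hz.trans hey'
      obtain ⟨v, rfl⟩ := hzr
      have hvw : v ⤳ w := by
        rw [← (e.fiberι y).isEmbedding.isInducing.specializes_iff]
        exact hzsp
      rw [hwmax v hvw]
    have h2 : x' = e.fiberι y w := hne' x' hx'A _ hy'A hy'sp
    rw [← hx'x, h2, hey']

/-- the relation "`M` has no embedded associated points" -/
def PNE : ∀ ⦃Y T : Scheme.{u}⦄, (Y ⟶ T) → Y.Modules → Prop := fun _ _ _ M => AssSch.NoEmbedded M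

open Groth.Agent.Helper5.FibMod Groth.Agent.Helper4 in
theorem isConsMod_noEmbedded : ConsProp.IsConsMod (PNE.{u}) := by
  refine ⟨fieldStable_noEmbedded, ?_⟩
  intro X S f _ _ _ _ F hF
  have hXN1 : IsLocallyNoetherian X := LocallyOfFiniteType.isLocallyNoetherian f
  haveI hufp : LocallyOfFinitePresentation f :=
    LocallyOfFinitePresentation.iff_locallyOfFiniteType.mpr inferInstance
  haveI : F.IsQuasicoherent := hF.1
  have hfp : CohB1.IsFP F := CohFP.isFP_of_isCoh F hF.1 hF.2
  haveI : SheafOfModules.IsFinitePresentation (R := X.ringCatSheaf) F := hfp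
  obtain ⟨U₀, hU₀, hflat⟩ := Groth.Agent.Helper5.GenFlat.main f F hF.1 hF.2
  set W : Set X := (f ⁻¹ᵁ U₀ : Set X) ∩ set4983 f F with hWdef
  have hW : IsOpen W := isOpen_set4983_on f F hfp _ (f ⁻¹ᵁ U₀).isOpen (fun x hx => hflat x hx)
  refine Groth.Agent.Helper2.FibLF.decided_of_open_criterion f U₀ hU₀ W hW _ (fun s hs => ?_)
  show AssSch.NoEmbedded _ ↔ _
  rw [noEmb_iff f F hfp]
  constructor
  · intro h x hx
    exact ⟨by show f x ∈ U₀; rw [hx]; exact hs, h x hx⟩
  · intro h x hx
    exact (h x hx).2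

theorem s5871 {X S : Scheme.{u}} (f : X ⟶ S)
    [LocallyOfFinitePresentation f] [QuasiCompact f] [QuasiSeparated f]
    (F : X.Modules) [Coh.IsQCoh F] (hF : CohB1.IsFP F) :
    Topology.IsLocallyConstructible
      {s : S | AssSch.NoEmbedded ((Scheme.Modules.pullback (f.fiberι s)).obj F)} :=
  Groth.Agent.Helper2.ConsMod.s5878 f F hF isConsMod_noEmbedded

end Groth.Agent.Helper5.FibNE
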