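import Mathlib
import Groth.Prelude
import Groth.Agent.Helper5.GenDim2
import Groth.Agent.Helper5.FibNE1

/-!
# FibDm1: the residue transcendence degree at a point of a base change which is maximal over its
image; field stability of the set of dimensions of the associated prime cycles
-/

set_option autoImplicit false
set_option linter.unusedSectionVars false
set_option linter.unusedVariables false
set_option linter.style.haveILetI false
universe u
open CategoryTheory CategoryTheory.Limits AlgebraicGeometry TopologicalSpace Topology TensorProduct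
open IsLocalRing

namespace Groth.Agent.Helper5.FibDm

open Groth.Agent.Helper5.VarDim Groth.Agent.Helper5.BCMin Groth.Agent.Helper5.SubDim
open Groth.Agent.Helper5.GenDim

set_option maxHeartbeats 1600000 in
/-- the residue transcendence degree is preserved at a point of a base change which is maximal among
the points over its two images -/
theorem resTrdeg_eq_of_max {X S X' S' : Scheme.{u}} (f : X ⟶ S) [LocallyOfFiniteType f]
    (g : S' ⟶ S) (g' : X' ⟶ X) (f' : X' ⟶ S') (hsq : IsPullback g' f' f g) (x' : X')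
    (hmax : ∀ x'' : X', f' x'' = f' x' → g' x'' = g' x' → x'' ⤳ x' → x'' = x') :
    Dual3.resTrdeg f' x' = Dual3.resTrdeg f (g' x') := by
  have hlft' : LocallyOfFiniteType f' := MorphismProperty.of_isPullback hsq ‹_›
  let s' := f' x'
  obtain ⟨ρ, hflat, hsurj, -, hρ, hloc⟩ := exists_fibre_map f g g' f' hsq s'
  let ζ' : ↥(f'.fiber s') := f'.asFiber x'
  have hζ' : f'.fiberι s' ζ' = x' := f'.fiberι_asFiber x'
  let ζ₂ : ↥(ρ.fiber (ρ ζ')) := ρ.asFiber ζ'
  have hζ₂ : ρ.fiberι (ρ ζ') ζ₂ = ζ' := ρ.fiberι_asFiber ζ'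
  have hρpt : ∀ t : ↥(f'.fiber s'), f.fiberι (g s') (ρ t) = g' (f'.fiberι s' t) := by
    intro t
    exact congrArg (fun ψ : f'.fiber s' ⟶ X => ψ t) hρ
  have hmax₂ : ∀ w : ↥(ρ.fiber (ρ ζ')), w ⤳ ζ₂ → w = ζ₂ := by
    intro w hw
    apply (ρ.fiberι (ρ ζ')).isEmbedding.injective
    rw [hζ₂]
    apply (f'.fiberι s').isEmbedding.injective
    rw [hζ']
    apply hmax
    · exact apply_fiberι f' s' _
    · rw [← hρpt, apply_fiberι ρ (ρ ζ') w, hρpt, hζ']
    · have h1 := hw.map (ρ.fiberι (ρ ζ')).continuous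
      rw [hζ₂] at h1
      have h2 := h1.map (f'.fiberι s').continuous
      rw [hζ'] at h2
      exact h2
  have hN' : IsLocallyNoetherian (f'.fiber s') := isLocallyNoetherian_fiber f' s'
  have hN : IsLocallyNoetherian (f.fiber (g s')) := isLocallyNoetherian_fiber f (g s')
  have hst := Groth.Agent.Helper5.FlatRelDim.stalk_dim_eq_of_flat' ρ (ρ ζ') ζ₂
  have h0 : ringKrullDim ((ρ.fiber (ρ ζ')).presheaf.stalk ζ₂) = 0 := by
    rw [ringKrullDim_stalk_eq_coheight]
    have : Order.coheight ζ₂ = 0 := by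
      rw [Order.coheight_eq_zero]
      intro w hw
      have := hmax₂ w (Scheme.le_iff_specializes.1 hw)
      exact this ▸ le_refl _
    rw [this]; rfl
  rw [h0, add_zero, hζ₂] at hst
  obtain ⟨k', n', hk', hn', hl'⟩ := fp_formula f' s' ζ'
  obtain ⟨k, n, hk, hn, hl⟩ := fp_formula f (g s') (ρ ζ')
  rw [hρpt, hζ'] at hn
  rw [hζ'] at hn'
  have hkk : k' = k := by
    have := hk'.symm.trans (hst.trans hk)
    exact_mod_cast this
  have hsum : k' + n' = k + n := by
    have h1 := hloc ζ'
    have := (hl'.symm.trans h1).trans hl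
    exact_mod_cast this
  rw [hn', hn]
  exact_mod_cast (by omega : n' = n)

/-- over a one-point base, the dimension of the closure of a point is the residue transcendence
degree -/
theorem dim_closure_onePoint {Y T : Scheme.{u}} (g : Y ⟶ T) [Subsingleton T]
    [LocallyOfFiniteType g] (y : Y) :
    ∃ n : ℕ, Dual3.resTrdeg g y = (n : Cardinal.{u}) ∧
      topologicalKrullDim ↥(closure ({y} : Set Y)) = (n : WithBot ℕ∞) := by
  obtain ⟨n, hn1, hn2⟩ := dim_fibre_closure_point g y
  refine ⟨n, hn1, ?_⟩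
  have hEq : (g ⁻¹' {g y} ∩ closure ({y} : Set Y)) = closure ({y} : Set Y) := by
    ext z
    constructor
    · rintro ⟨-, h⟩; exact h
    · intro h; exact ⟨Subsingleton.elim _ _, h⟩
  rw [hEq] at hn2
  exact hn2

/-- the set of dimensions of the associated prime cycles of a module -/
def assDims {Y : Scheme.{u}} (M : Y.Modules) : Set (WithBot ℕ∞) :=
  (fun z : Y => topologicalKrullDim ↥(closure ({z} : Set Y))) '' AssSch.Ass M

theorem dim_closure_eq_of_max {Y Y' T T' : Scheme.{u}} (g : Y ⟶ T) (g' : Y' ⟶ T') (e : Y' ⟶ Y)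
    (h : T' ⟶ T) [Subsingleton T] [Subsingleton T']
    [LocallyOfFiniteType g] (sq : IsPullback e g' g h) (x' : Y')
    (hmax : ∀ x'' : Y', e x'' = e x' → x'' ⤳ x' → x'' = x') :
    topologicalKrullDim ↥(closure ({x'} : Set Y')) =
      topologicalKrullDim ↥(closure ({e x'} : Set Y)) := by
  have hlft' : LocallyOfFiniteType g' := MorphismProperty.of_isPullback sq ‹_›
  obtain ⟨n', hn'1, hn'2⟩ := dim_closure_onePoint g' x'
  obtain ⟨n, hn1, hn2⟩ := dim_closure_onePoint g (e x')
  have := resTrdeg_eq_of_max g h e g' sq x' (fun x'' _ h2 h3 => hmax x'' h2 h3)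
  rw [hn'1, hn1] at this
  have hnn : n' = n := by exact_mod_cast this
  rw [hn'2, hn2, hnn]

theorem assDims_pullback {Y Y' T T' : Scheme.{u}} (g : Y ⟶ T) (g' : Y' ⟶ T') (e : Y' ⟶ Y)
    (h : T' ⟶ T) [IsIntegral T] [Subsingleton T] [IsIntegral T'] [Subsingleton T']
    [LocallyOfFiniteType g] (sq : IsPullback e g' g h) (F : Y.Modules) (hF : Coh.IsQCoh F) :
    assDims ((Scheme.Modules.pullback e).obj F) = assDims F := by
  have hA := Groth.Agent.Helper5.FibNE.mem_ass_pullback_iff g g' e h sq F hF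
  ext d
  constructor
  · rintro ⟨x', hx', rfl⟩
    obtain ⟨hx, hmax⟩ := (hA x').1 hx'
    exact ⟨e x', hx, (dim_closure_eq_of_max g g' e h sq x' hmax).symm⟩
  · rintro ⟨x, hx, rfl⟩
    have : Nonempty T' := inferInstance
    let t' : T' := Nonempty.some inferInstance
    obtain ⟨x', hx'x, -, hmax⟩ := Groth.Agent.Helper2.RelAssD.exists_maximal_over sq x t'
      (Subsingleton.elim _ _)
    have hmax' : ∀ x'' : Y', e x'' = e x' → x'' ⤳ x' → x'' = x' := fun z hz hzsp =>
      hmax z (Subsingleton.elim _ _) (hz.trans hx'x) hzsp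
    refine ⟨x', (hA x').2 ⟨by rw [hx'x]; exact hx, hmax'⟩, ?_⟩
    show topologicalKrullDim _ = topologicalKrullDim _
    rw [dim_closure_eq_of_max g g' e h sq x' hmax', hx'x]

/-- the relation "the set of dimensions of the associated prime cycles is `D`" -/
def PAD (D : Set (WithBot ℕ∞)) : ∀ ⦃Y T : Scheme.{u}⦄, (Y ⟶ T) → Y.Modules → Prop :=
  fun _ _ _ M => assDims M = D

theorem fieldStable_assDims (D : Set (WithBot ℕ∞)) : ConsProp.IsFieldStableMod (PAD.{u} D) := by
  intro Y Y' T T' g g' e h _ _ _ _ _ _ sq F F' hF iso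
  show assDims F = D ↔ assDims F' = D
  have h1 : assDims F' = assDims ((Scheme.Modules.pullback e).obj F) := by
    unfold assDims
    rw [Groth.Agent.Helper2.RedBC.ass_eq_of_iso iso]
  rw [h1, assDims_pullback g g' e h sq F hF.1]

end Groth.Agent.Helper5.FibDm
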