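import Mathlib
import Groth.Prelude
import Groth.Agent.Helper5.FibDm1
import Groth.Agent.Helper5.FibMod2A
import Groth.Agent.Helper5.KLem11

/-!
# FibDm2: the set of dimensions of the associated prime cycles of the fibres is a constructible
relation (S5874)
-/

set_option autoImplicit false
set_option linter.unusedSectionVars false
set_option linter.unusedVariables false
set_option linter.style.haveILetI false
universe u
open CategoryTheory CategoryTheory.Limits AlgebraicGeometry TopologicalSpace Topology TensorProduct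
open IsLocalRing

namespace Groth.Agent.Helper5.FibDm

open Groth.Agent.Helper1 Groth.Agent.Helper2 Groth.Agent.Helper5.FibPd Groth.Agent.Helper5.FibMod

section Chart

variable {X Y : Scheme.{u}} (f : X ⟶ Y) (F : X.Modules)

/-- the set of points having a generization in their fibre which is an associated point of the
restriction of `F` to the fibre, with closure (in the fibre) of dimension `m` -/
def setB (m : ℕ) : Set X :=
  {x | ∃ x' : X, x' ⤳ x ∧ f.base x' = f.base x ∧ depthAt f F x' = 0 ∧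
    cdimAt f x' = (m : WithBot ℕ∞)}

variable {U : X.Opens} (hU : IsAffineOpen U) {V : Y.Opens} (hV : IsAffineOpen V)
  (e : U ≤ f ⁻¹ᵁ V)

include hV in
set_option maxHeartbeats 1600000 in
theorem chart_B [LocallyOfFiniteType f] (hF : CohB1.IsFP F) (m : ℕ) (x : X) (hxU : x ∈ U) :
    letI : Algebra Γ(Y, V) Γ(X, U) := (f.appLE V U e).hom.toAlgebra
    x ∈ setB f F m ↔
    ∃ q' : PrimeSpectrum Γ(X, U), q' ≤ hU.primeIdealOf ⟨x, hxU⟩ ∧
      PrimeSpectrum.comap (algebraMap Γ(Y, V) Γ(X, U)) q' =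
        PrimeSpectrum.comap (algebraMap Γ(Y, V) Γ(X, U)) (hU.primeIdealOf ⟨x, hxU⟩) ∧
      depthB Γ(Y, V) Γ(X, U) Γ(F, U) q' = 0 ∧ cB Γ(Y, V) Γ(X, U) q' = (m : ℕ∞) := by
  letI : Algebra Γ(Y, V) Γ(X, U) := (f.appLE V U e).hom.toAlgebra
  constructor
  · rintro ⟨x', hsp, hf, hd, hc⟩
    have hx' : x' ∈ U := hsp.mem_open U.2 hxU
    have hle := (specializes_chart_iff hU x' x hx' hxU).mp hsp
    have hcc := (same_fibre_chart_iff f hU hV e x' x hx' hxU).mp hf
    rw [depthAt_eq f F hU hV e hF x' hx'] at hd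
    rw [cdimAt_eq f hU hV e x' hx'] at hc
    refine ⟨_, hle, hcc, hd, ?_⟩
    exact_mod_cast hc
  · rintro ⟨q', hle, hcc, hd, hc⟩
    obtain ⟨x', hx', rfl⟩ := chart_point hU q'
    have hsp := (specializes_chart_iff hU x' x hx' hxU).mpr hle
    have hf := (same_fibre_chart_iff f hU hV e x' x hx' hxU).mpr hcc
    rw [← depthAt_eq f F hU hV e hF x' hx'] at hd
    refine ⟨x', hsp, hf, hd, ?_⟩
    rw [cdimAt_eq f hU hV e x' hx', hc]
    rfl

end Chart

section Open

variable {X Y : Scheme.{u}} (f : X ⟶ Y) (F : X.Modules)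

set_option maxHeartbeats 1600000 in
theorem isOpen_setB_compl_on [LocallyOfFinitePresentation f] (hF : CohB1.IsFP F)
    (W : Set X) (hW : IsOpen W) (hflat : ∀ x ∈ W, FlatMod.IsFlatOverAt f F x) (m : ℕ) :
    IsOpen (W ∩ (setB f F m)ᶜ) := by
  haveI : SheafOfModules.IsFinitePresentation (R := X.ringCatSheaf) F := hF
  haveI : F.IsQuasicoherent := inferInstance
  rw [isOpen_iff_forall_mem_open]
  rintro x ⟨hxW, hx⟩
  obtain ⟨Vo, hVo, Uo, hUo, e, hxU, hUW⟩ := exists_chart f x W hW hxW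
  letI algAB : Algebra Γ(Y, Vo) Γ(X, Uo) := (f.appLE Vo Uo e).hom.toAlgebra
  haveI : Algebra.FinitePresentation Γ(Y, Vo) Γ(X, Uo) :=
    RingHom.finitePresentation_algebraMap.1 <|
      HasRingHomProperty.appLE (P := @LocallyOfFinitePresentation) f inferInstance ⟨Vo, hVo⟩
        ⟨Uo, hUo⟩ e
  haveI : Module.FinitePresentation Γ(X, Uo) Γ(F, Uo) :=
    Groth.Agent.Helper4.FPGlue.fp_sections F hF hUo
  letI modAF : Module Γ(Y, Vo) Γ(F, Uo) := Module.compHom _ (f.appLE Vo Uo e).hom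
  haveI : IsScalarTower Γ(Y, Vo) Γ(X, Uo) Γ(F, Uo) :=
    IsScalarTower.of_algebraMap_smul fun r m => rfl
  haveI : Module.Flat Γ(Y, Vo) Γ(F, Uo) :=
    (Groth.Agent.Helper5.AffFlat.flat_sections_iff f F hVo hUo e).mp (fun x hx => hflat x (hUW hx))
  have hT := (isClosed_assSet Γ(Y, Vo) Γ(X, Uo) Γ(F, Uo) m).isOpen_compl
  have hmem : ∀ (y : X) (hy : y ∈ Uo), y ∈ setB f F m ↔
      hUo.primeIdealOf ⟨y, hy⟩ ∈ assSet Γ(Y, Vo) Γ(X, Uo) Γ(F, Uo) m := by
    intro y hy
    rw [chart_B f F hUo hVo e hF m y hy, mem_assSet_iff]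
  refine ⟨Subtype.val '' ((fun y : Uo => hUo.primeIdealOf y) ⁻¹'
    (assSet Γ(Y, Vo) Γ(X, Uo) Γ(F, Uo) m)ᶜ), ?_, ?_, ?_⟩
  · rintro _ ⟨y, hy, rfl⟩
    exact ⟨hUW y.2, fun hyB => hy ((hmem y.1 y.2).mp hyB)⟩
  · exact Uo.isOpen.isOpenMap_subtype_val _ (hT.preimage (continuous_primeIdealOf hUo))
  · exact ⟨⟨x, hxU⟩, fun hq => hx ((hmem x hxU).mpr hq), rfl⟩

end Open

section Decided

/-- over an integral Noetherian base, a set which coincides over a nonempty open subset with a
locally constructible set is generically decided -/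
theorem decided_of_lc {S : Scheme.{u}} [IsIntegral S] (U₀ : S.Opens)
    (hU₀ : (U₀ : Set S).Nonempty) (C : Set S) (hC : IsLocallyConstructible C) (L : Set S)
    (hL : ∀ s ∈ U₀, s ∈ L ↔ s ∈ C) :
    (interior L).Nonempty ∨ (interior Lᶜ).Nonempty := by
  let η := genericPoint S
  have hηmax : ∀ η' : S, η' ⤳ η → η' = η := by
    intro η' hη'
    have h1 : η ⤳ η' := by
      rw [specializes_iff_mem_closure, genericPoint_closure]; trivial
    exact (hη'.antisymm h1).eq
  have hηU : η ∈ U₀ := by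
    obtain ⟨t, ht⟩ := hU₀
    have h1 : η ⤳ t := by
      rw [specializes_iff_mem_closure, genericPoint_closure]; trivial
    exact h1.mem_open U₀.isOpen ht
  have hU₀n : (U₀ : Set S) ∈ nhds η := U₀.isOpen.mem_nhds hηU
  by_cases hη : η ∈ C
  · left
    refine ⟨η, mem_interior_iff_mem_nhds.mpr ?_⟩
    have h1 : C ∈ nhds η := by
      refine Groth.Agent.Helper5.KLem.mem_nhds_of_isLocallyConstructible _ hC η ?_
      intro t ht
      rw [hηmax t ht]
      exact hη
    refine Filter.mem_of_superset (Filter.inter_mem h1 hU₀n) ?_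
    rintro s ⟨hsC, hsU⟩
    exact (hL _ hsU).mpr hsC
  · right
    refine ⟨η, mem_interior_iff_mem_nhds.mpr ?_⟩
    have h1 : Cᶜ ∈ nhds η := by
      refine Groth.Agent.Helper5.KLem.mem_nhds_of_isLocallyConstructible _
        (Groth.Agent.Helper5.KLem.isLocallyConstructible_compl hC) η ?_
      intro t ht
      rw [hηmax t ht]
      exact hη
    refine Filter.mem_of_superset (Filter.inter_mem h1 hU₀n) ?_
    rintro s ⟨hsC, hsU⟩ hsL
    exact hsC ((hL _ hsU).mp hsL)

end Decided

section Cons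

variable {X Y : Scheme.{u}} (f : X ⟶ Y) (F : X.Modules)

/-- the dimensions of the associated prime cycles of a fibre, in terms of points of `X` -/
theorem mem_assDims_fibre_iff [LocallyOfFiniteType f] (hF : CohB1.IsFP F) (s : Y)
    (d : WithBot ℕ∞) :
    d ∈ assDims ((Scheme.Modules.pullback (f.fiberι s)).obj F) ↔
      ∃ x : X, f.base x = s ∧ depthAt f F x = 0 ∧ cdimAt f x = d := by
  constructor
  · rintro ⟨z, hz, rfl⟩
    rw [mem_ass_iff f F hF, depthFib_eq] at hz
    exact ⟨f.fiberι s z, apply_fiberι' f s z, hz, (cdimFib_eq f s z).symm⟩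
  · rintro ⟨x, hx, hd, rfl⟩
    obtain ⟨z, rfl⟩ := exists_fibre_point f s x hx
    refine ⟨z, ?_, cdimFib_eq f s z⟩
    rw [mem_ass_iff f F hF, depthFib_eq]
    exact hd

end Cons

end Groth.Agent.Helper5.FibDm
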