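import Mathlib
import Groth.Prelude
import Groth.Agent.Helper5.FibDm2
import Groth.Agent.Helper2.ConsMod3
import Groth.Agent.Helper4.CohFP

/-!
# FibDm3: S5874
-/

set_option autoImplicit false
set_option linter.unusedSectionVars false
set_option linter.unusedVariables false
set_option linter.style.haveILetI false
universe u
open CategoryTheory CategoryTheory.Limits AlgebraicGeometry TopologicalSpace Topology TensorProduct
open IsLocalRing

namespace Groth.Agent.Helper5.FibDm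

open Groth.Agent.Helper1 Groth.Agent.Helper2 Groth.Agent.Helper5.FibPd Groth.Agent.Helper5.FibMod
open Groth.Agent.Helper4

/-- the set of values of a finite set of natural numbers -/
def natSet (Φ : Finset ℕ) : Set (WithBot ℕ∞) := (fun n : ℕ => (n : WithBot ℕ∞)) '' (Φ : Set ℕ)

set_option maxHeartbeats 1600000 in
theorem isConsMod_assDims (Φ : Finset ℕ) : ConsProp.IsConsMod (PAD.{u} (natSet Φ)) := by
  refine ⟨fieldStable_assDims _, ?_⟩
  intro X S f _ _ _ _ F hF
  have hXN1 : IsLocallyNoetherian X := LocallyOfFiniteType.isLocallyNoetherian f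
  haveI hufp : LocallyOfFinitePresentation f :=
    LocallyOfFinitePresentation.iff_locallyOfFiniteType.mpr inferInstance
  haveI : F.IsQuasicoherent := hF.1
  have hfp : CohB1.IsFP F := CohFP.isFP_of_isCoh F hF.1 hF.2
  haveI : SheafOfModules.IsFinitePresentation (R := X.ringCatSheaf) F := hfp
  obtain ⟨U₀, hU₀, hflat⟩ := Groth.Agent.Helper5.GenFlat.main f F hF.1 hF.2
  set W₀ : Set X := (f ⁻¹ᵁ U₀ : Set X) with hW₀def
  have hW₀ : IsOpen W₀ := (f ⁻¹ᵁ U₀).isOpen
  set W1 : Set X := W₀ ∩ set4982 f F Φ with hW1def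
  have hW1 : IsOpen W1 := isOpen_set4982_on f F hfp _ hW₀ (fun x hx => hflat x hx) Φ
  have hW2 : ∀ m : ℕ, IsOpen (W₀ ∩ (setB f F m)ᶜ) := fun m =>
    isOpen_setB_compl_on f F hfp _ hW₀ (fun x hx => hflat x hx) m
  -- the constructible set
  have hc1 : IsLocallyConstructible (f.base '' W1ᶜ) :=
    f.isLocallyConstructible_image
      (Groth.Agent.Helper5.KLem.isLocallyConstructible_of_isClosed _ hW1.isClosed_compl)
  have hc2 : ∀ m : ℕ, IsLocallyConstructible (f.base '' (W₀ ∩ (W₀ ∩ (setB f F m)ᶜ)ᶜ)) := by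
    intro m
    refine f.isLocallyConstructible_image (IsLocallyConstructible.inter ?_ ?_)
    · have := Groth.Agent.Helper5.KLem.isLocallyConstructible_of_isClosed _ hW₀.isClosed_compl
      have h2 := Groth.Agent.Helper5.KLem.isLocallyConstructible_compl this
      rwa [compl_compl] at h2
    · exact Groth.Agent.Helper5.KLem.isLocallyConstructible_of_isClosed _ (hW2 m).isClosed_compl
  set C : Set S := (f.base '' W1ᶜ)ᶜ ∩
    Φ.inf (fun m => f.base '' (W₀ ∩ (W₀ ∩ (setB f F m)ᶜ)ᶜ)) with hCdef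
  have hC : IsLocallyConstructible C :=
    (Groth.Agent.Helper5.KLem.isLocallyConstructible_compl hc1).inter
      (IsLocallyConstructible.finsetInf fun m _ => hc2 m)
  refine decided_of_lc U₀ hU₀ C hC _ (fun s hs => ?_)
  show assDims ((Scheme.Modules.pullback (f.fiberι s)).obj F) = natSet Φ ↔ s ∈ C
  have hsub : assDims ((Scheme.Modules.pullback (f.fiberι s)).obj F) ⊆ natSet Φ ↔
      s ∈ (f.base '' W1ᶜ)ᶜ := by
    constructor
    · rintro h ⟨x, hxW, rfl⟩
      apply hxW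
      refine ⟨hs, fun x' hsp hf hd => ?_⟩
      have : cdimAt f x' ∈ assDims ((Scheme.Modules.pullback (f.fiberι (f.base x))).obj F) :=
        (mem_assDims_fibre_iff f F hfp _ _).mpr ⟨x', hf, hd, rfl⟩
      obtain ⟨n, hn, hcn⟩ := h this
      exact ⟨n, hn, hcn.symm⟩
    · intro h d hd
      obtain ⟨x, hx, hdep, rfl⟩ := (mem_assDims_fibre_iff f F hfp _ _).mp hd
      have hxW : x ∈ W1 := by
        by_contra hcon
        exact h ⟨x, hcon, hx⟩
      obtain ⟨n, hn, hcn⟩ := hxW.2 x specializes_rfl rfl hdep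
      exact ⟨n, hn, hcn.symm⟩
  have hsup : natSet Φ ⊆ assDims ((Scheme.Modules.pullback (f.fiberι s)).obj F) ↔
      s ∈ Φ.inf (fun m => f.base '' (W₀ ∩ (W₀ ∩ (setB f F m)ᶜ)ᶜ)) := by
    rw [Finset.inf_set_eq_iInter, Set.mem_iInter₂]
    constructor
    · intro h m hm
      have hmem : ((m : ℕ) : WithBot ℕ∞) ∈ natSet Φ := ⟨m, hm, rfl⟩
      obtain ⟨x, hx, hdep, hc⟩ := (mem_assDims_fibre_iff f F hfp _ _).mp (h hmem)
      have hxW₀ : x ∈ W₀ := by show f.base x ∈ U₀; rw [hx]; exact hs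
      refine ⟨x, ⟨hxW₀, fun hcon => hcon.2 ⟨x, specializes_rfl, rfl, hdep, hc⟩⟩, hx⟩
    · rintro h _ ⟨m, hm, rfl⟩
      obtain ⟨x, ⟨hxW₀, hxB⟩, hx⟩ := h m hm
      have hxB' : x ∈ setB f F m := by
        by_contra hcon
        exact hxB ⟨hxW₀, hcon⟩
      obtain ⟨x', hsp, hf, hdep, hc⟩ := hxB'
      exact (mem_assDims_fibre_iff f F hfp _ _).mpr ⟨x', hf.trans hx, hdep, hc⟩
  rw [hCdef, Set.mem_inter_iff, ← hsub, ← hsup]
  exact ⟨fun h => ⟨h.le, h.ge⟩, fun h => le_antisymm h.1 h.2⟩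

theorem s5874 {X S : Scheme.{u}} (f : X ⟶ S)
    [LocallyOfFinitePresentation f] [QuasiCompact f] [QuasiSeparated f]
    (F : X.Modules) [Coh.IsQCoh F] (hF : CohB1.IsFP F) (Φ : Finset ℕ) :
    Topology.IsLocallyConstructible {s : S |
      (fun z : ↥(f.fiber s) => topologicalKrullDim ↥(closure ({z} : Set ↥(f.fiber s)))) ''
          AssSch.Ass ((Scheme.Modules.pullback (f.fiberι s)).obj F) =
        (fun n : ℕ => (n : WithBot ℕ∞)) '' (Φ : Set ℕ)} :=
  Groth.Agent.Helper2.ConsMod.s5878 f F hF (isConsMod_assDims Φ)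

end Groth.Agent.Helper5.FibDm
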