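import Mathlib
import Groth.Prelude
import Groth.Agent.Helper5.FibDm3
import Groth.Agent.Lead.FlatBC2
import Groth.Agent.Lead.StalkSupp
import Groth.Agent.Helper1.Dev1
import Groth.Agent.S0020

/-!
# FibDm4: reduction of the generic decision of a relation with a module to the flat case; the set of
dimensions of the irreducible components of the supports of the fibres (S5875)
-/

set_option autoImplicit false
set_option linter.unusedSectionVars false
set_option linter.unusedVariables false
set_option linter.style.haveILetI false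
universe u
open CategoryTheory CategoryTheory.Limits AlgebraicGeometry TopologicalSpace Topology TensorProduct
open IsLocalRing

namespace Groth.Agent.Helper5.FibDm

open Groth.Agent.Helper1 Groth.Agent.Helper2 Groth.Agent.Helper5.FibPd Groth.Agent.Helper5.FibMod
open Groth.Agent.Helper4

section Reduction

theorem isNoetherian_opens {S : Scheme.{u}} [IsNoetherian S] (U : S.Opens) :
    IsNoetherian (U : Scheme.{u}) := by
  haveI : IsLocallyNoetherian (U : Scheme.{u}) := isLocallyNoetherian_of_isOpenImmersion U.ι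
  haveI : CompactSpace ↥(U : Scheme.{u}) :=
    isCompact_iff_compactSpace.mp (NoetherianSpace.isCompact (U : Set S))
  exact {}

set_option maxHeartbeats 1600000 in
/-- to check that a field-stable relation with a module is constructible, it is enough to decide
it generically for modules which are flat over the base -/
theorem isConsMod_of_flat {P : ∀ ⦃Y T : Scheme.{u}⦄, (Y ⟶ T) → Y.Modules → Prop}
    (hP : ConsProp.IsFieldStableMod P)
    (h : ∀ ⦃X S : Scheme.{u}⦄ (u : X ⟶ S) [IsIntegral S] [IsNoetherian S]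
      [LocallyOfFiniteType u] [QuasiCompact u] (F : X.Modules), Coh.IsCoh F →
      FlatMod.IsFlatOver u F →
      (interior (ConsProp.locusMod P u F)).Nonempty ∨
        (interior (ConsProp.locusMod P u F)ᶜ).Nonempty) :
    ConsProp.IsConsMod P := by
  refine ⟨hP, ?_⟩
  intro X S u _ _ _ _ F hF
  obtain ⟨U₀, hU₀, hflat⟩ := Groth.Agent.Helper5.GenFlat.main u F hF.1 hF.2
  haveI : Nonempty ↥(U₀ : Scheme.{u}) := hU₀.to_subtype
  haveI : IsIntegral (U₀ : Scheme.{u}) := inferInstance
  haveI : IsNoetherian (U₀ : Scheme.{u}) := isNoetherian_opens U₀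
  have hF' : Coh.IsCoh ((Scheme.Modules.pullback (u ⁻¹ᵁ U₀).ι).obj F) :=
    Groth.Agent.Lead.FlatUnivJ.isCoh_pullback _ F hF
  have sq : IsPullback (u ⁻¹ᵁ U₀).ι (u ∣_ U₀) u U₀.ι := (isPullback_morphismRestrict u U₀).flip
  have hfl' : FlatMod.IsFlatOver (u ∣_ U₀) ((Scheme.Modules.pullback (u ⁻¹ᵁ U₀).ι).obj F) := by
    intro x'
    refine Groth.Agent.Lead.FlatBC.main_baseChange u (u ∣_ U₀) _ _ sq F hF.1 x' (hflat _ ?_)
    exact x'.2
  have hloc := Groth.Agent.Helper2.ConsMod.locusMod_of_isPullback hP sq F hF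
  have hopen : IsOpenMap (U₀.ι : ↥(U₀ : Scheme.{u}) → S) := U₀.ι.isOpenEmbedding.isOpenMap
  have hcont : Continuous (U₀.ι : ↥(U₀ : Scheme.{u}) → S) := U₀.ι.continuous
  rcases h (u ∣_ U₀) _ hF' hfl' with h1 | h1
  · left
    rw [hloc, ← hopen.preimage_interior_eq_interior_preimage hcont] at h1
    obtain ⟨t, ht⟩ := h1
    exact ⟨_, ht⟩
  · right
    rw [hloc, ← Set.preimage_compl, ← hopen.preimage_interior_eq_interior_preimage hcont] at h1
    obtain ⟨t, ht⟩ := h1
    exact ⟨_, ht⟩

end Reduction

section CompDims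

/-- the set of dimensions of the irreducible components of a subspace -/
def compDimsOf {Z : Type*} [TopologicalSpace Z] (A : Set Z) : Set (WithBot ℕ∞) :=
  (fun C : Set ↥A => topologicalKrullDim ↥C) '' irreducibleComponents ↥A

theorem mem_compDimsOf_iff {Z : Scheme.{u}} (A : Set Z) (hA : IsClosed A) (d : WithBot ℕ∞) :
    d ∈ compDimsOf A ↔ ∃ z ∈ A, (∀ w ∈ A, w ⤳ z → w = z) ∧
      topologicalKrullDim ↥(closure ({z} : Set Z)) = d := by
  constructor
  · rintro ⟨C, hC, rfl⟩
    obtain ⟨ζ, hζ, hmin, -, hd⟩ := component_generic A hA C hC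
    exact ⟨ζ, hζ, hmin, hd.symm⟩
  · rintro ⟨z, hz, hmin, rfl⟩
    obtain ⟨C, hC, hdim⟩ := generic_component A hA z hz hmin
    exact ⟨C, hC, hdim⟩

set_option maxHeartbeats 1600000 in
theorem compDimsOf_support_pullback {Y Y' T T' : Scheme.{u}} (g : Y ⟶ T) (g' : Y' ⟶ T')
    (e : Y' ⟶ Y) (h : T' ⟶ T) [IsIntegral T] [Subsingleton T] [IsIntegral T'] [Subsingleton T']
    [LocallyOfFiniteType g] (sq : IsPullback e g' g h) (F : Y.Modules) (hF : Coh.IsCoh F) :
    compDimsOf (CohB1.support ((Scheme.Modules.pullback e).obj F)) =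
      compDimsOf (CohB1.support F) := by
  haveI : Coh.IsQCoh F := hF.1
  have hcl : IsClosed (CohB1.support F) := Groth.Agent.S0020.result _ _ hF.2
  have hsupp : CohB1.support ((Scheme.Modules.pullback e).obj F) = e.base ⁻¹' CohB1.support F :=
    Groth.Agent.Lead.StalkPull.main_support e F hF.2
  have hcl' : IsClosed (CohB1.support ((Scheme.Modules.pullback e).obj F)) := by
    rw [hsupp]; exact hcl.preimage e.continuous
  have hfl : Flat h := inferInstance
  have hefl : Flat e := MorphismProperty.of_isPullback sq.flip hfl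
  have hgen : GeneralizingMap e := Flat.generalizingMap e
  ext d
  rw [mem_compDimsOf_iff _ hcl', mem_compDimsOf_iff _ hcl, hsupp]
  constructor
  · rintro ⟨z', hz', hmin, rfl⟩
    have hmax' : ∀ x'' : Y', e x'' = e z' → x'' ⤳ z' → x'' = z' := by
      intro x'' hx'' hsp
      refine hmin x'' ?_ hsp
      show e x'' ∈ CohB1.support F
      rw [hx'']; exact hz'
    refine ⟨e z', hz', ?_, (dim_closure_eq_of_max g g' e h sq z' hmax').symm⟩
    intro w hw hsp
    obtain ⟨w', hw'sp, hw'e⟩ := hgen hsp
    have : w' = z' := hmin w' (by show e w' ∈ CohB1.support F; rw [hw'e]; exact hw) hw'sp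
    rw [← hw'e, this]
  · rintro ⟨z, hz, hmin, rfl⟩
    have : Nonempty T' := inferInstance
    let t' : T' := Nonempty.some inferInstance
    obtain ⟨z', hz'z, -, hmax⟩ := Groth.Agent.Helper2.RelAssD.exists_maximal_over sq z t'
      (Subsingleton.elim _ _)
    have hmax' : ∀ x'' : Y', e x'' = e z' → x'' ⤳ z' → x'' = z' := fun x'' hx'' hsp =>
      hmax x'' (Subsingleton.elim _ _) (hx''.trans hz'z) hsp
    refine ⟨z', by show e z' ∈ CohB1.support F; rw [hz'z]; exact hz, ?_, ?_⟩
    · intro w' hw' hsp
      have h1 : e w' = z := hmin (e w') hw' (by rw [← hz'z]; exact hsp.map e.continuous)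
      exact hmax' w' (h1.trans hz'z.symm) hsp
    · rw [dim_closure_eq_of_max g g' e h sq z' hmax', hz'z]

/-- the relation "the set of dimensions of the irreducible components of the support is `D`" -/
def PCD (D : Set (WithBot ℕ∞)) : ∀ ⦃Y T : Scheme.{u}⦄, (Y ⟶ T) → Y.Modules → Prop :=
  fun _ _ _ M => compDimsOf (CohB1.support M) = D

theorem fieldStable_compDims (D : Set (WithBot ℕ∞)) : ConsProp.IsFieldStableMod (PCD.{u} D) := by
  intro Y Y' T T' g g' e h _ _ _ _ _ _ sq F F' hF iso
  show compDimsOf (CohB1.support F) = D ↔ compDimsOf (CohB1.support F') = D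
  rw [Groth.Agent.Helper1.Dev.support_eq_of_iso iso, compDimsOf_support_pullback g g' e h sq F hF]

end CompDims

end Groth.Agent.Helper5.FibDm
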