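import Mathlib
import Groth.Agent.Helper5.FibTop4
import Groth.Agent.Helper5.FibDm4
import Groth.Agent.Helper5.EqAt1

/-!
# CompDmA: maximal points and dimensions of irreducible components of subspaces (topology),
and the fibrewise-relation framework for relations which are only invariant under base change
-/

set_option autoImplicit false
set_option linter.unusedSectionVars false
set_option linter.unusedVariables false
set_option linter.style.haveILetI false
universe u

namespace Groth.Agent.Helper5.CompDm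

open CategoryTheory CategoryTheory.Limits AlgebraicGeometry TopologicalSpace Topology
open Groth.Agent.Helper5.FibTop Groth.Agent.Helper5.FibDm

section Top

variable {T : Type*} [TopologicalSpace T]

/-- maximal points (for generization) of a subset -/
def IsMaxIn (W : Set T) (x : T) : Prop := x ∈ W ∧ ∀ y ∈ W, y ⤳ x → y = x

theorem quasiSober_of_isLocallyClosed [QuasiSober T] (A : Set T) (hA : IsLocallyClosed A) :
    QuasiSober ↥A := by
  let g : ↥A → ↥(closure A) := Set.inclusion subset_closure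
  have hg : IsOpenEmbedding g := by
    refine ⟨IsEmbedding.inclusion subset_closure, ?_⟩
    have : Set.range g = (Subtype.val ⁻¹' A : Set ↥(closure A)) := by
      ext x
      constructor
      · rintro ⟨a, rfl⟩; exact a.2
      · intro hx; exact ⟨⟨x.1, hx⟩, rfl⟩
    rw [this]
    exact hA.isOpen_preimage_val_closure
  haveI : QuasiSober ↥(closure A) := isClosed_closure.isClosedEmbedding_subtypeVal.quasiSober
  exact hg.quasiSober

theorem image_mem_irreducibleComponents {P Q : Type*} [TopologicalSpace P] [TopologicalSpace Q]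
    (e : P ≃ₜ Q) {C : Set P} (hC : C ∈ irreducibleComponents P) :
    e '' C ∈ irreducibleComponents Q := by
  refine ⟨hC.1.image e e.continuous.continuousOn, fun D hD hle => ?_⟩
  have h1 : C ⊆ e.symm '' D := by
    intro c hc
    exact ⟨e c, hle ⟨c, hc, rfl⟩, e.symm_apply_apply c⟩
  have h2 := hC.2 (hD.image e.symm e.symm.continuous.continuousOn) h1
  intro d hd
  exact ⟨e.symm d, h2 ⟨d, hd, rfl⟩, e.apply_symm_apply d⟩

theorem dim_image_homeomorph {P Q : Type*} [TopologicalSpace P] [TopologicalSpace Q]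
    (e : P ≃ₜ Q) (C : Set P) : topologicalKrullDim ↥(e '' C) = topologicalKrullDim ↥C :=
  (IsHomeomorph.topologicalKrullDim_eq _ (e.isEmbedding.homeomorphImage C).isHomeomorph).symm

theorem compDims_eq_of_homeomorph {P Q : Type*} [TopologicalSpace P] [TopologicalSpace Q]
    (e : P ≃ₜ Q) :
    (fun C : Set P => topologicalKrullDim ↥C) '' irreducibleComponents P =
      (fun C : Set Q => topologicalKrullDim ↥C) '' irreducibleComponents Q := by
  ext d
  constructor
  · rintro ⟨C, hC, rfl⟩
    exact ⟨e '' C, image_mem_irreducibleComponents e hC, dim_image_homeomorph e C⟩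
  · rintro ⟨C, hC, rfl⟩
    exact ⟨e.symm '' C, image_mem_irreducibleComponents e.symm hC, dim_image_homeomorph e.symm C⟩

theorem compDimsOf_eq_of_homeomorph {T' : Type*} [TopologicalSpace T'] {A : Set T} {B : Set T'}
    (e : ↥A ≃ₜ ↥B) : compDimsOf A = compDimsOf B :=
  compDims_eq_of_homeomorph e

theorem image_closure_singleton (A : Set T) (ζ : ↥A) :
    Subtype.val '' closure ({ζ} : Set ↥A) = A ∩ closure ({ζ.1} : Set T) := by
  rw [IsEmbedding.subtypeVal.closure_eq_preimage_closure_image, Set.image_singleton,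
    Subtype.image_preimage_coe]

theorem dim_closure_singleton_subtype (A : Set T) (ζ : ↥A) :
    topologicalKrullDim ↥(closure ({ζ} : Set ↥A)) =
      topologicalKrullDim ↥(A ∩ closure ({ζ.1} : Set T)) := by
  rw [← image_closure_singleton A ζ]
  exact IsHomeomorph.topologicalKrullDim_eq _
    (IsEmbedding.subtypeVal.homeomorphImage (closure ({ζ} : Set ↥A))).isHomeomorph

/-- the dimensions of the irreducible components of a quasi-sober subspace are the dimensions of the
closures of its maximal points -/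
theorem compDimsOf_eq_image_max [T0Space T] (A : Set T) [QuasiSober ↥A] :
    compDimsOf A = (fun ζ : T => topologicalKrullDim ↥(A ∩ closure ({ζ} : Set T))) ''
      {ζ | IsMaxIn A ζ} := by
  ext d
  constructor
  · rintro ⟨C, hC, rfl⟩
    obtain ⟨ζ, hζ⟩ := QuasiSober.sober hC.1 (isClosed_of_mem_irreducibleComponents C hC)
    have hdef : closure ({ζ} : Set ↥A) = C := hζ.def
    refine ⟨ζ.1, ⟨ζ.2, fun y hy hsp => ?_⟩, ?_⟩
    · have h1 : (⟨y, hy⟩ : ↥A) ⤳ ζ := (subtype_specializes_iff _ _).mpr hsp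
      have h2 := Groth.Agent.Helper5.EqAt.max_of_closure_mem_irreducibleComponents ζ
        (by rw [hdef]; exact hC) ⟨y, hy⟩ h1
      exact congrArg Subtype.val h2
    · show topologicalKrullDim ↥(A ∩ closure ({ζ.1} : Set T)) = topologicalKrullDim ↥C
      rw [← dim_closure_singleton_subtype A ζ, hdef]
  · rintro ⟨ζ, ⟨hζA, hmax⟩, rfl⟩
    refine ⟨closure ({(⟨ζ, hζA⟩ : ↥A)} : Set ↥A), ?_, dim_closure_singleton_subtype A ⟨ζ, hζA⟩⟩
    apply Groth.Agent.Helper5.EqAt.closure_singleton_mem_irreducibleComponents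
    intro w hw
    apply Subtype.ext
    exact hmax w.1 w.2 ((subtype_specializes_iff _ _).mp hw)

end Top

section Framework

open Groth.Agent.Helper5.ConsPr Groth.Agent.Helper5.ConsLc Groth.Agent.Lead

/-- invariance of the locus of a relation under base change (for morphisms locally of finite
type) -/
def InvBC (Φ : Rel.{u}) : Prop :=
  ∀ ⦃X' X S' S : Scheme.{u}⦄ ⦃q : X' ⟶ X⦄ ⦃f' : X' ⟶ S'⦄ ⦃f : X ⟶ S⦄ ⦃h : S' ⟶ S⦄,
    LocallyOfFiniteType f → IsPullback q f' f h → ∀ Z Z' : Set X,
      locus Φ f' (q.base ⁻¹' Z) (q.base ⁻¹' Z') = h.base ⁻¹' locus Φ f Z Z'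

variable {Φ : Rel.{u}} {X S : Scheme.{u}} (f : X ⟶ S)

theorem decided_on_closed (hΦ : InvBC Φ) (hD : Decided Φ) [IsNoetherian S]
    [LocallyOfFiniteType f] [QuasiCompact f] (Z Z' : Set X) (hZ : IsConstructible Z)
    (hZ' : IsConstructible Z') (C : Set S) (hC : IsClosed C) (hirr : IsIrreducible C) :
    ∃ O : Set S, IsOpen O ∧ (C ∩ O).Nonempty ∧
      (C ∩ O ⊆ locus Φ f Z Z' ∨ C ∩ O ⊆ (locus Φ f Z Z')ᶜ) := by
  obtain ⟨T, i, hi, hT, hrange⟩ := exists_integral_subscheme C hC hirr
  have hT1 : IsLocallyNoetherian T := LocallyOfFiniteType.isLocallyNoetherian i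
  have hT2 : CompactSpace T := QuasiCompact.compactSpace_of_compactSpace i
  have hTN : IsNoetherian T := {}
  have sq : IsPullback (pullback.fst f i) (pullback.snd f i) f i := IsPullback.of_hasPullback f i
  have hloc := hΦ inferInstance sq Z Z'
  rcases hD (pullback.snd f i) _ _ ((pullback.fst f i).isConstructible_preimage hZ)
    ((pullback.fst f i).isConstructible_preimage hZ') with h | h
  · rw [hloc] at h
    obtain ⟨O, hO, hne, hsub⟩ := exists_open_of_interior_preimage i C hrange _ h
    exact ⟨O, hO, hne, Or.inl hsub⟩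
  · rw [hloc] at h
    obtain ⟨O, hO, hne, hsub⟩ := exists_open_of_interior_preimage i C hrange
      (locus Φ f Z Z')ᶜ h
    exact ⟨O, hO, hne, Or.inr hsub⟩

theorem isConstructible_locus_of_noeth (hΦ : InvBC Φ) (hD : Decided Φ) [IsNoetherian S]
    [LocallyOfFiniteType f] [QuasiCompact f] (Z Z' : Set X) (hZ : IsConstructible Z)
    (hZ' : IsConstructible Z') : IsConstructible (locus Φ f Z Z') :=
  isConstructible_of_noeth _ (decided_on_closed f hΦ hD Z Z' hZ hZ')

variable (u : X ⟶ S)

set_option backward.isDefEq.respectTransparency false in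
theorem isConstructible_locus_affine (hΦ : InvBC Φ) (hD : Decided Φ) [IsAffine S]
    [LocallyOfFinitePresentation u] [QuasiCompact u] [QuasiSeparated u] (Z Z' : Set X)
    (hZ : IsConstructible Z) (hZ' : IsConstructible Z') : IsConstructible (locus Φ u Z Z') := by
  have hfg : (⊥ : Subalgebra ℤ Γ(S, ⊤)).FG := Subalgebra.fg_bot
  haveI := SubalgSys.isCofiltered hfg
  have hc : IsLimit (SubalgSys.cone Γ(S, ⊤) ⊥) := SubalgSys.coneIsLimit hfg
  haveI : ∀ (i j : (SubalgSys.Idx Γ(S, ⊤) ⊥)ᵒᵖ) (f : i ⟶ j),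
      IsAffineHom ((SubalgSys.D Γ(S, ⊤) ⊥).map f) := fun _ _ f => inferInstance
  haveI : ∀ i, CompactSpace ((SubalgSys.D Γ(S, ⊤) ⊥).obj i) := fun i => inferInstance
  haveI : ∀ i, QuasiSeparatedSpace ((SubalgSys.D Γ(S, ⊤) ⊥).obj i) := fun i => inferInstance
  let s : S ≅ (SubalgSys.cone Γ(S, ⊤) ⊥).pt := S.isoSpec
  obtain ⟨k, -, Xk, uk, q, h1, h2, h3, H⟩ :=
    exists_stage_model (SubalgSys.D Γ(S, ⊤) ⊥) (SubalgSys.cone Γ(S, ⊤) ⊥) hc
      (u ≫ s.hom) (Opposite.op (SubalgSys.base _ ⊥ hfg))
  obtain ⟨j, b, Xj, uj, qj, pj, Zj, Z'j, sqL, sqR, hZj, hZ'j, e1, e2⟩ :=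
    exists_descent_constructible₂ (SubalgSys.D Γ(S, ⊤) ⊥) (SubalgSys.cone Γ(S, ⊤) ⊥) hc
      (u ≫ s.hom) uk q H Z Z' hZ hZ'
  haveI : LocallyOfFiniteType uj :=
    MorphismProperty.of_isPullback sqR (inferInstance : LocallyOfFiniteType uk)
  haveI : QuasiCompact uj := MorphismProperty.of_isPullback sqR h2
  haveI := isNoetherian_stage j
  have hcons := isConstructible_locus_of_noeth uj hΦ hD Zj Z'j hZj hZ'j
  have hloc := hΦ inferInstance sqL Zj Z'j
  rw [e1, e2] at hloc
  have sq0 : IsPullback (𝟙 X) u (u ≫ s.hom) s.hom := IsPullback.of_horiz_isIso ⟨by simp⟩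
  have hloc0 := hΦ inferInstance sq0 Z Z'
  have hid : ∀ W : Set X, (𝟙 X : X ⟶ X).base ⁻¹' W = W := fun W => rfl
  rw [hid, hid, hloc] at hloc0
  rw [hloc0]
  exact s.hom.isConstructible_preimage
    (((SubalgSys.cone Γ(S, ⊤) ⊥).π.app j).isConstructible_preimage hcons)

/-- the locus of a fibrewise relation on locally constructible subsets that is invariant under
base change and generically decided is locally constructible -/
theorem isLocallyConstructible_locus (hΦ : InvBC Φ) (hD : Decided Φ)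
    [LocallyOfFinitePresentation u] [QuasiCompact u] [QuasiSeparated u] (Z Z' : Set X)
    (hZ : IsLocallyConstructible Z) (hZ' : IsLocallyConstructible Z') :
    IsLocallyConstructible (locus Φ u Z Z') := by
  apply IsLocallyConstructible.of_isOpenCover (U := fun U : S.affineOpens => U.1)
    (iSup_affineOpens_eq_top S)
  intro U
  haveI : IsAffine (U.1 : Scheme.{u}) := U.2
  have sq : IsPullback (u ⁻¹ᵁ U.1).ι (u ∣_ U.1) u U.1.ι := (isPullback_morphismRestrict u U.1).flip
  haveI : LocallyOfFinitePresentation (u ∣_ U.1) := MorphismProperty.of_isPullback sq inferInstance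
  haveI : QuasiCompact (u ∣_ U.1) := MorphismProperty.of_isPullback sq inferInstance
  haveI : QuasiSeparated (u ∣_ U.1) := MorphismProperty.of_isPullback sq inferInstance
  haveI : CompactSpace ↥(u ⁻¹ᵁ U.1 : Scheme.{u}) :=
    QuasiCompact.compactSpace_of_compactSpace (u ∣_ U.1)
  haveI : QuasiSeparatedSpace ↥(u ⁻¹ᵁ U.1 : Scheme.{u}) :=
    quasiSeparatedSpace_of_quasiSeparated (u ∣_ U.1)
  have hZU : IsConstructible ((u ⁻¹ᵁ U.1).ι.base ⁻¹' Z) :=
    (hZ.preimage_of_isOpenEmbedding (u ⁻¹ᵁ U.1).ι.isOpenEmbedding).isConstructible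
  have hZ'U : IsConstructible ((u ⁻¹ᵁ U.1).ι.base ⁻¹' Z') :=
    (hZ'.preimage_of_isOpenEmbedding (u ⁻¹ᵁ U.1).ι.isOpenEmbedding).isConstructible
  have h := isConstructible_locus_affine (u ∣_ U.1) hΦ hD _ _ hZU hZ'U
  rw [hΦ inferInstance sq Z Z'] at h
  exact h.isLocallyConstructible

end Framework

end Groth.Agent.Helper5.CompDm
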