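import Mathlib
import Groth.Agent.Helper5.CompDmA
import Groth.Agent.Helper5.GenDim2

/-!
# CompDmB: the dimensions of the irreducible components of a locally closed part of a fibre
-/

set_option autoImplicit false
set_option linter.unusedSectionVars false
set_option linter.unusedVariables false
set_option linter.style.haveILetI false
universe u

namespace Groth.Agent.Helper5.CompDm

open CategoryTheory CategoryTheory.Limits AlgebraicGeometry TopologicalSpace Topology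
open Groth.Agent.Helper5.FibTop Groth.Agent.Helper5.FibDm

section Top

variable {T : Type*} [TopologicalSpace T]

/-- the trace of `A` on the subspace `F`, as a subspace of `F` and as a subspace of `T` -/
noncomputable def traceHomeo (F A : Set T) : ↥(Subtype.val ⁻¹' A : Set ↥F) ≃ₜ ↥(A ∩ F) :=
  (IsEmbedding.subtypeVal.homeomorphImage (Subtype.val ⁻¹' A : Set ↥F)).trans
    (Homeomorph.setCongr (by rw [Subtype.image_preimage_coe, Set.inter_comm]))

end Top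

variable {X S : Scheme.{u}} (f : X ⟶ S)

theorem quasiSober_fibreSet (s : S) : QuasiSober ↥(f.base ⁻¹' {s}) :=
  (f.fiberHomeo s).symm.isOpenEmbedding.quasiSober

theorem quasiSober_trace (Z : Set X) (s : S)
    (hlc : IsLocallyClosed (Subtype.val ⁻¹' Z : Set ↥(f.base ⁻¹' {s}))) :
    QuasiSober ↥(Z ∩ f.base ⁻¹' {s}) := by
  haveI := quasiSober_fibreSet f s
  haveI := quasiSober_of_isLocallyClosed _ hlc
  exact (traceHomeo (f.base ⁻¹' {s}) Z).symm.isOpenEmbedding.quasiSober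

/-- the structure of a subset of `X` whose trace on the fibre is locally closed -/
theorem exists_open_closed_of_trace (Z : Set X) (s : S)
    (hlc : IsLocallyClosed (Subtype.val ⁻¹' Z : Set ↥(f.base ⁻¹' {s}))) :
    ∃ U K : Set X, IsOpen U ∧ IsClosed K ∧ Z ∩ f.base ⁻¹' {s} = U ∩ K ∩ f.base ⁻¹' {s} := by
  obtain ⟨O', K', hO', hK', heq⟩ := hlc
  obtain ⟨U, hU, rfl⟩ := isOpen_induced_iff.mp hO'
  obtain ⟨K, hK, rfl⟩ := isClosed_induced_iff.mp hK'
  refine ⟨U, K, hU, hK, ?_⟩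
  ext x
  constructor
  · rintro ⟨hxZ, hxF⟩
    have : (⟨x, hxF⟩ : ↥(f.base ⁻¹' {s})) ∈ (Subtype.val ⁻¹' Z : Set ↥(f.base ⁻¹' {s})) := hxZ
    rw [heq] at this
    exact ⟨this, hxF⟩
  · rintro ⟨hx, hxF⟩
    have : (⟨x, hxF⟩ : ↥(f.base ⁻¹' {s})) ∈ (Subtype.val ⁻¹' Z : Set ↥(f.base ⁻¹' {s})) := by
      rw [heq]; exact hx
    exact ⟨this, hxF⟩

set_option maxHeartbeats 800000 in
/-- the dimension of the closure of a point in a locally closed part of its fibre is the residue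
transcendence degree -/
theorem dim_trace_closure [LocallyOfFiniteType f] (Z : Set X) (s : S)
    (hlc : IsLocallyClosed (Subtype.val ⁻¹' Z : Set ↥(f.base ⁻¹' {s}))) (ζ : X)
    (hζ : ζ ∈ Z ∩ f.base ⁻¹' {s}) :
    ∃ n : ℕ, Dual3.resTrdeg f ζ = (n : Cardinal.{u}) ∧
      topologicalKrullDim ↥((Z ∩ f.base ⁻¹' {s}) ∩ closure ({ζ} : Set X)) = (n : WithBot ℕ∞) := by
  obtain ⟨U, K, hU, hK, heq⟩ := exists_open_closed_of_trace f Z s hlc
  have hζ' : ζ ∈ U ∩ K ∩ f.base ⁻¹' {s} := heq ▸ hζ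
  have hfζ : f.base ζ = s := hζ.2
  have hclK : closure ({ζ} : Set X) ⊆ K := hK.closure_subset_iff.mpr (by simpa using hζ'.1.2)
  have hset : (Z ∩ f.base ⁻¹' {s}) ∩ closure ({ζ} : Set X) =
      (f.base ⁻¹' {s} ∩ closure ({ζ} : Set X)) ∩ U := by
    rw [heq]
    ext x
    constructor
    · rintro ⟨⟨⟨hxU, -⟩, hxF⟩, hxc⟩; exact ⟨⟨hxF, hxc⟩, hxU⟩
    · rintro ⟨⟨hxF, hxc⟩, hxU⟩; exact ⟨⟨⟨hxU, hclK hxc⟩, hxF⟩, hxc⟩
  let Uo : X.Opens := ⟨U, hU⟩
  let ζU : ↥(Uo : Scheme.{u}) := ⟨ζ, hζ'.1.1⟩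
  have hjζ : Uo.ι.base ζU = ζ := rfl
  obtain ⟨n, hn1, hn2⟩ := Groth.Agent.Helper5.GenDim.dim_fibre_closure_point (Uo.ι ≫ f) ζU
  refine ⟨n, ?_, ?_⟩
  · rw [← hn1]
    exact (Groth.Agent.Helper5.EqAt.trdeg_preimmersion_comp Uo.ι f ζU).symm
  · rw [hset, ← hn2]
    have hemb : IsEmbedding Uo.ι.base := Uo.ι.isEmbedding
    have himg : Uo.ι.base '' ((Uo.ι ≫ f).base ⁻¹' {(Uo.ι ≫ f).base ζU} ∩
        closure ({ζU} : Set ↥(Uo : Scheme.{u}))) =
        (f.base ⁻¹' {s} ∩ closure ({ζ} : Set X)) ∩ U := by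
      rw [hemb.closure_eq_preimage_closure_image, Set.image_singleton, hjζ]
      have h1 : (Uo.ι ≫ f).base ⁻¹' {(Uo.ι ≫ f).base ζU} = Uo.ι.base ⁻¹' (f.base ⁻¹' {s}) := by
        ext x
        simp only [Set.mem_preimage, Set.mem_singleton_iff, Scheme.Hom.comp_apply, hjζ, hfζ]
      rw [h1, ← Set.preimage_inter, Set.image_preimage_eq_inter_range]
      congr 1
      exact Uo.range_ι
    rw [← himg]
    exact (IsHomeomorph.topologicalKrullDim_eq _ (hemb.homeomorphImage _).isHomeomorph).symm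

/-- the set of dimensions of the irreducible components of a locally closed part of a fibre -/
theorem compDimsOf_trace_eq [LocallyOfFiniteType f] (Z : Set X) (s : S)
    (hlc : IsLocallyClosed (Subtype.val ⁻¹' Z : Set ↥(f.base ⁻¹' {s}))) :
    compDimsOf (Z ∩ f.base ⁻¹' {s}) = {d | ∃ ζ, IsMaxIn (Z ∩ f.base ⁻¹' {s}) ζ ∧
      ∃ n : ℕ, Dual3.resTrdeg f ζ = (n : Cardinal.{u}) ∧ d = (n : WithBot ℕ∞)} := by
  haveI := quasiSober_trace f Z s hlc
  rw [compDimsOf_eq_image_max]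
  ext d
  constructor
  · rintro ⟨ζ, hζ, rfl⟩
    obtain ⟨n, h1, h2⟩ := dim_trace_closure f Z s hlc ζ hζ.1
    exact ⟨ζ, hζ, n, h1, h2⟩
  · rintro ⟨ζ, hζ, n, h1, rfl⟩
    obtain ⟨n', h1', h2'⟩ := dim_trace_closure f Z s hlc ζ hζ.1
    have hnn : n' = n := by
      have := h1'.symm.trans h1
      exact_mod_cast this
    exact ⟨ζ, hζ, by show topologicalKrullDim _ = _; rw [h2', hnn]⟩

end Groth.Agent.Helper5.CompDm
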