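import Mathlib
import Groth.Agent.Helper5.CompDmB
import Groth.Agent.Helper5.FibTop7
import Groth.Agent.Helper5.FibDm1

/-!
# CompDmC: invariance under base change of the set of dimensions of the irreducible components of
a locally closed part of a fibre
-/

set_option autoImplicit false
set_option linter.unusedSectionVars false
set_option linter.unusedVariables false
set_option linter.style.haveILetI false
universe u

namespace Groth.Agent.Helper5.CompDm

open CategoryTheory CategoryTheory.Limits AlgebraicGeometry TopologicalSpace Topology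
open Groth.Agent.Helper5.FibTop Groth.Agent.Helper5.FibDm Groth.Agent.Helper5.VarDim

/-- the relation: `A` is locally closed and the set of dimensions of its irreducible components is
`D` -/
def ΨCD (D : Set (WithBot ℕ∞)) : Rel.{u} := fun _ _ A _ => IsLocallyClosed A ∧ compDimsOf A = D

variable {X' X S' S : Scheme.{u}} {q : X' ⟶ X} {f' : X' ⟶ S'} {f : X ⟶ S} {h : S' ⟶ S}

theorem mem_locus_ΨCD_iff (D : Set (WithBot ℕ∞)) (f : X ⟶ S) (Z Z' : Set X) (s : S) :
    s ∈ locus (ΨCD D) f Z Z' ↔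
      IsLocallyClosed (Subtype.val ⁻¹' Z : Set ↥(f.base ⁻¹' {s})) ∧
        compDimsOf (Z ∩ f.base ⁻¹' {s}) = D := by
  show (IsLocallyClosed _ ∧ compDimsOf _ = D) ↔ _
  rw [compDimsOf_eq_of_homeomorph (traceHomeo (f.base ⁻¹' {s}) Z)]

theorem base_comm (sq : IsPullback q f' f h) (x' : X') : f.base (q.base x') = h.base (f'.base x') := by
  rw [← Scheme.Hom.comp_apply, ← Scheme.Hom.comp_apply, sq.w]

/-- generizations within the fibres lift along a base change -/
theorem exists_lift_generization [LocallyOfFiniteType f] (sq : IsPullback q f' f h) (ζ' : X')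
    (y : X) (hy : f.base y = h.base (f'.base ζ')) (hsp : y ⤳ q.base ζ') :
    ∃ y' : X', y' ⤳ ζ' ∧ q.base y' = y ∧ f'.base y' = f'.base ζ' := by
  obtain ⟨ρ, hflat, -, -, hρ, -⟩ := Groth.Agent.Helper5.GenDim.exists_fibre_map f h q f' sq (f'.base ζ')
  let z' : ↥(f'.fiber (f'.base ζ')) := f'.asFiber ζ'
  have hz' : (f'.fiberι (f'.base ζ')).base z' = ζ' := f'.fiberι_asFiber ζ'
  have hyr : y ∈ Set.range (f.fiberι (h.base (f'.base ζ'))).base := by
    rw [Scheme.Hom.range_fiberι]; exact hy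
  obtain ⟨w, hw⟩ := hyr
  have hρpt : ∀ t : ↥(f'.fiber (f'.base ζ')),
      (f.fiberι (h.base (f'.base ζ'))).base (ρ.base t) = q.base ((f'.fiberι (f'.base ζ')).base t) := by
    intro t
    exact congrArg (fun ψ : f'.fiber (f'.base ζ') ⟶ X => ψ.base t) hρ
  have hsp' : w ⤳ ρ.base z' := by
    rw [← (f.fiberι (h.base (f'.base ζ'))).isEmbedding.toIsInducing.specializes_iff, hw, hρpt, hz']
    exact hsp
  obtain ⟨w', hw'sp, hw'ρ⟩ := (Flat.generalizingMap ρ) hsp'
  refine ⟨(f'.fiberι (f'.base ζ')).base w', ?_, ?_, ?_⟩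
  · have := hw'sp.map (f'.fiberι (f'.base ζ')).continuous
    rwa [hz'] at this
  · rw [← hρpt, hw'ρ, hw]
  · exact apply_fiberι f' (f'.base ζ') w'

set_option maxHeartbeats 800000 in
/-- the maximal points of the traces on the fibres, with their residue transcendence degrees,
correspond under base change -/
theorem compDims_bc [LocallyOfFiniteType f] (sq : IsPullback q f' f h) (Z : Set X) (s' : S') :
    {d : WithBot ℕ∞ | ∃ ζ', IsMaxIn (q.base ⁻¹' Z ∩ f'.base ⁻¹' {s'}) ζ' ∧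
      ∃ n : ℕ, Dual3.resTrdeg f' ζ' = (n : Cardinal.{u}) ∧ d = (n : WithBot ℕ∞)} =
    {d : WithBot ℕ∞ | ∃ ζ, IsMaxIn (Z ∩ f.base ⁻¹' {h.base s'}) ζ ∧
      ∃ n : ℕ, Dual3.resTrdeg f ζ = (n : Cardinal.{u}) ∧ d = (n : WithBot ℕ∞)} := by
  ext d
  constructor
  · rintro ⟨ζ', ⟨⟨hζ'Z, hζ's⟩, hmax⟩, n, hn, rfl⟩
    have hζ's' : f'.base ζ' = s' := hζ's
    have hmax' : ∀ x'' : X', f'.base x'' = f'.base ζ' → q.base x'' = q.base ζ' → x'' ⤳ ζ' →
        x'' = ζ' := by
      intro x'' h1 h2 h3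
      refine hmax x'' ⟨?_, h1.trans hζ's'⟩ h3
      show q.base x'' ∈ Z
      rw [h2]; exact hζ'Z
    refine ⟨q.base ζ', ⟨⟨hζ'Z, ?_⟩, ?_⟩, n, ?_, rfl⟩
    · show f.base (q.base ζ') = h.base s'
      rw [base_comm sq, hζ's']
    · rintro y ⟨hyZ, hys⟩ hsp
      have hys' : f.base y = h.base (f'.base ζ') := by rw [hζ's']; exact hys
      obtain ⟨y', hy'sp, hy'q, hy'f⟩ := exists_lift_generization sq ζ' y hys' hsp
      have : y' = ζ' := hmax y' ⟨by show q.base y' ∈ Z; rw [hy'q]; exact hyZ,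
        hy'f.trans hζ's'⟩ hy'sp
      rw [← hy'q, this]
    · rw [← hn]
      exact (resTrdeg_eq_of_max f h q f' sq ζ' hmax').symm
  · rintro ⟨ζ, ⟨⟨hζZ, hζs⟩, hmax⟩, n, hn, rfl⟩
    obtain ⟨ζ', hζ'q, hζ'f, hmax'⟩ :=
      Groth.Agent.Helper2.RelAssD.exists_maximal_over sq ζ s' hζs
    have hmax'' : ∀ x'' : X', f'.base x'' = f'.base ζ' → q.base x'' = q.base ζ' → x'' ⤳ ζ' →
        x'' = ζ' := fun x'' h1 h2 h3 => hmax' x'' (h1.trans hζ'f) (h2.trans hζ'q) h3
    refine ⟨ζ', ⟨⟨?_, hζ'f⟩, ?_⟩, n, ?_, rfl⟩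
    · show q.base ζ' ∈ Z
      rw [hζ'q]; exact hζZ
    · rintro y' ⟨hy'Z, hy's⟩ hsp
      have hy's' : f'.base y' = s' := hy's
      have h1 : q.base y' ⤳ ζ := by
        have := hsp.map q.continuous
        rwa [hζ'q] at this
      have h2 : q.base y' = ζ := by
        refine hmax (q.base y') ⟨hy'Z, ?_⟩ h1
        show f.base (q.base y') = h.base s'
        rw [base_comm sq, hy's']
      exact hmax' y' hy's' h2 hsp
    · rw [← hn, ← hζ'q]
      exact resTrdeg_eq_of_max f h q f' sq ζ' hmax''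

/-- the relation `ΨCD` is invariant under base change -/
theorem invBC_ΨCD (D : Set (WithBot ℕ∞)) : InvBC (ΨCD.{u} D) := by
  intro X' X S' S q f' f h hf sq Z Z'
  haveI := hf
  haveI hf' : LocallyOfFiniteType f' := MorphismProperty.of_isPullback sq hf
  ext s'
  have hlcIff : IsLocallyClosed (Subtype.val ⁻¹' (q.base ⁻¹' Z) : Set ↥(f'.base ⁻¹' {s'})) ↔
      IsLocallyClosed (Subtype.val ⁻¹' Z : Set ↥(f.base ⁻¹' {h.base s'})) :=
    invOpenSurj_lc (fibreMap sq.w s') (continuous_fibreMap sq.w s') (isOpenMap_fibreMap sq s')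
      (surjective_fibreMap sq s') (Subtype.val ⁻¹' Z) (Subtype.val ⁻¹' Z')
  rw [Set.mem_preimage, mem_locus_ΨCD_iff, mem_locus_ΨCD_iff]
  constructor
  · rintro ⟨h1, h2⟩
    have h1' := hlcIff.mp h1
    refine ⟨h1', ?_⟩
    rw [compDimsOf_trace_eq f Z (h.base s') h1', ← compDims_bc sq Z s',
      ← compDimsOf_trace_eq f' (q.base ⁻¹' Z) s' h1]
    exact h2
  · rintro ⟨h1, h2⟩
    have h1' := hlcIff.mpr h1
    refine ⟨h1', ?_⟩
    rw [compDimsOf_trace_eq f' (q.base ⁻¹' Z) s' h1', compDims_bc sq Z s',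
      ← compDimsOf_trace_eq f Z (h.base s') h1]
    exact h2

end Groth.Agent.Helper5.CompDm
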