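import Mathlib
import Groth.Prelude
import Groth.Agent.Helper5.FibDm4

/-!
# FibDm5: S5875
-/

set_option autoImplicit false
set_option linter.unusedSectionVars false
set_option linter.unusedVariables false
set_option linter.style.haveILetI false
universe u
open CategoryTheory CategoryTheory.Limits AlgebraicGeometry TopologicalSpace Topology TensorProduct
open IsLocalRing

namespace Groth.Agent.Helper5.FibDm

open Groth.Agent.Helper1 Groth.Agent.Helper2 Groth.Agent.Helper5.FibPd Groth.Agent.Helper5.FibMod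
open Groth.Agent.Helper4

theorem isLocallyConstructible_of_isOpen {S : Scheme.{u}} [IsLocallyNoetherian S] (s : Set S)
    (hs : IsOpen s) : IsLocallyConstructible s := by
  have := Groth.Agent.Helper5.KLem.isLocallyConstructible_of_isClosed _ hs.isClosed_compl
  have h2 := Groth.Agent.Helper5.KLem.isLocallyConstructible_compl this
  rwa [compl_compl] at h2

set_option maxHeartbeats 1600000 in
theorem isConsMod_compDims (Φ : Finset ℕ) : ConsProp.IsConsMod (PCD.{u} (natSet Φ)) := by
  refine isConsMod_of_flat (fieldStable_compDims _) ?_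
  intro X S f _ _ _ _ F hF hflat
  have hXN1 : IsLocallyNoetherian X := LocallyOfFiniteType.isLocallyNoetherian f
  haveI hufp : LocallyOfFinitePresentation f :=
    LocallyOfFinitePresentation.iff_locallyOfFiniteType.mpr inferInstance
  haveI : F.IsQuasicoherent := hF.1
  have hfp : CohB1.IsFP F := CohFP.isFP_of_isCoh F hF.1 hF.2
  haveI : SheafOfModules.IsFinitePresentation (R := X.ringCatSheaf) F := hfp
  have hopen : ∀ n, IsOpen (genImg f F n) := fun n => isOpen_genImg f F hfp hflat n
  have hsuppEq : ∀ s : S, CohB1.support ((Scheme.Modules.pullback (f.fiberι s)).obj F) =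
      suppFib f F s := fun s => Set.ext fun z => not_subsingleton_iff_nontrivial
  have hmem : ∀ (s : S) (n : ℕ), ((n : ℕ) : WithBot ℕ∞) ∈
      compDimsOf (CohB1.support ((Scheme.Modules.pullback (f.fiberι s)).obj F)) ↔
        s ∈ genImg f F n := by
    intro s n
    rw [hsuppEq, ← exists_component_iff f F hfp s n]
    constructor
    · rintro ⟨C, hC, hd⟩; exact ⟨C, hC, hd⟩
    · rintro ⟨C, hC, hd⟩; exact ⟨C, hC, hd⟩
  have hnat : ∀ (s : S) (d : WithBot ℕ∞),
      d ∈ compDimsOf (CohB1.support ((Scheme.Modules.pullback (f.fiberι s)).obj F)) →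
        ∃ n : ℕ, d = (n : WithBot ℕ∞) := by
    intro s d hd
    rw [hsuppEq] at hd
    obtain ⟨C, hC, rfl⟩ := hd
    obtain ⟨ζ, -, -, -, hdim⟩ :=
      component_generic (suppFib f F s) (isClosed_suppFib f F hfp s) C hC
    obtain ⟨n, hn, -⟩ := Groth.Agent.Helper5.MaxPt.dim_closure_fibre_point f s ζ _ rfl
      (apply_fiberι' f s ζ)
    exact ⟨n, hdim.trans hn⟩
  set C : Set S := Φ.inf (fun n => genImg f F n) ∩ (⋃ n ∈ {n : ℕ | n ∉ Φ}, genImg f F n)ᶜ
    with hCdef
  have hC : IsLocallyConstructible C := by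
    refine IsLocallyConstructible.inter
      (IsLocallyConstructible.finsetInf fun n _ => isLocallyConstructible_of_isOpen _ (hopen n)) ?_
    refine Groth.Agent.Helper5.KLem.isLocallyConstructible_compl
      (isLocallyConstructible_of_isOpen _ ?_)
    exact isOpen_biUnion fun n _ => hopen n
  refine decided_of_lc ⊤ ⟨genericPoint S, trivial⟩ C hC _ (fun s _ => ?_)
  show compDimsOf (CohB1.support ((Scheme.Modules.pullback (f.fiberι s)).obj F)) = natSet Φ ↔
    s ∈ C
  rw [hCdef, Set.mem_inter_iff, Finset.inf_set_eq_iInter, Set.mem_iInter₂, Set.mem_compl_iff,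
    Set.mem_iUnion₂]
  constructor
  · intro h
    refine ⟨fun n hn => ?_, ?_⟩
    · rw [← hmem, h]; exact ⟨n, hn, rfl⟩
    · rintro ⟨n, hn, hs⟩
      rw [← hmem, h] at hs
      obtain ⟨m, hm, hmn⟩ := hs
      have hmn' : ((m : ℕ) : WithBot ℕ∞) = ((n : ℕ) : WithBot ℕ∞) := hmn
      have : m = n := by exact_mod_cast hmn'
      exact hn (this ▸ hm)
  · rintro ⟨h1, h2⟩
    ext d
    constructor
    · intro hd
      obtain ⟨n, rfl⟩ := hnat s d hd
      by_contra hcon
      apply h2
      refine ⟨n, fun hn => hcon ⟨n, hn, rfl⟩, (hmem s n).mp hd⟩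
    · rintro ⟨n, hn, rfl⟩
      exact (hmem s n).mpr (h1 n hn)

theorem s5875 {X S : Scheme.{u}} (f : X ⟶ S)
    [LocallyOfFinitePresentation f] [QuasiCompact f] [QuasiSeparated f]
    (F : X.Modules) [Coh.IsQCoh F] (hF : CohB1.IsFP F) (Φ : Finset ℕ) :
    Topology.IsLocallyConstructible {s : S |
      (fun Z : Set ↥(CohB1.support ((Scheme.Modules.pullback (f.fiberι s)).obj F)) =>
          topologicalKrullDim ↥Z) ''
          irreducibleComponents ↥(CohB1.support ((Scheme.Modules.pullback (f.fiberι s)).obj F)) =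
        (fun n : ℕ => (n : WithBot ℕ∞)) '' (Φ : Set ℕ)} :=
  Groth.Agent.Helper2.ConsMod.s5878 f F hF (isConsMod_compDims Φ)

end Groth.Agent.Helper5.FibDm
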