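import Mathlib
import Groth.Agent.Helper5.CompDmC
import Groth.Agent.Helper5.FibDm5
import Groth.Agent.Helper4.NApx77

/-!
# CompDmD: the set of dimensions of the irreducible components of the locally closed traces of a
locally constructible subset on the fibres is a locally constructible function of the base point
(EGA IV 9.5.5-type statement, S4798)
-/

set_option autoImplicit false
set_option linter.unusedSectionVars false
set_option linter.unusedVariables false
set_option linter.style.haveILetI false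
universe u

namespace Groth.Agent.Helper5.CompDm

open CategoryTheory CategoryTheory.Limits AlgebraicGeometry TopologicalSpace Topology
open Groth.Agent.Helper5.FibTop Groth.Agent.Helper5.FibDm

section Top

variable {T : Type*} [TopologicalSpace T]

/-- in a Noetherian quasi-sober subspace every point of the closure is a specialization of a point
of the subspace -/
theorem exists_specializes_of_mem_closure (W : Set T) [NoetherianSpace ↥W] [QuasiSober ↥W] (ζ : T)
    (hζ : ζ ∈ closure W) : ∃ w ∈ W, w ⤳ ζ := by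
  have hfin := NoetherianSpace.finite_irreducibleComponents (α := ↥W)
  let K : Set T := ⋃ C ∈ irreducibleComponents ↥W, closure (Subtype.val '' C)
  have hK : IsClosed K := hfin.isClosed_biUnion (fun _ _ => isClosed_closure)
  have hWK : W ⊆ K := by
    intro w hw
    have : (⟨w, hw⟩ : ↥W) ∈ ⋃₀ irreducibleComponents ↥W := by
      rw [sUnion_irreducibleComponents]; trivial
    obtain ⟨C, hC, hwC⟩ := this
    exact Set.mem_biUnion hC (subset_closure ⟨_, hwC, rfl⟩)
  have hζK : ζ ∈ K := hK.closure_subset_iff.mpr hWK hζ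
  obtain ⟨C, hC, hζC⟩ := Set.mem_iUnion₂.mp hζK
  obtain ⟨w, hw⟩ := QuasiSober.sober hC.1 (isClosed_of_mem_irreducibleComponents C hC)
  refine ⟨w.1, w.2, ?_⟩
  rw [specializes_iff_mem_closure]
  have hsub : Subtype.val '' C ⊆ closure ({w.1} : Set T) := by
    rintro _ ⟨c, hc, rfl⟩
    have h1 : w ⤳ c := hw.specializes hc
    have h2 : w.1 ⤳ c.1 := (subtype_specializes_iff _ _).mp h1
    exact specializes_iff_mem_closure.mp h2
  exact (isClosed_closure.closure_subset_iff.mpr hsub) hζC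

end Top

variable {X S : Scheme.{u}} (f : X ⟶ S)

theorem noetherianSpace_fibreSet [LocallyOfFiniteType f] [QuasiCompact f] (s : S) :
    NoetherianSpace ↥(f.base ⁻¹' {s}) := by
  haveI := Groth.Agent.Helper5.GenDim.isLocallyNoetherian_fiber f s
  haveI : IsNoetherian (f.fiber s) := {}
  haveI : NoetherianSpace ↥(f.fiber s) := inferInstance
  exact (f.fiberHomeo s).symm.isInducing.noetherianSpace

theorem noetherianSpace_trace [LocallyOfFiniteType f] [QuasiCompact f] (Z : Set X) (s : S) :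
    NoetherianSpace ↥(Z ∩ f.base ⁻¹' {s}) := by
  haveI := noetherianSpace_fibreSet f s
  haveI : NoetherianSpace ↥(Subtype.val ⁻¹' Z : Set ↥(f.base ⁻¹' {s})) := inferInstance
  exact (traceHomeo (f.base ⁻¹' {s}) Z).symm.isInducing.noetherianSpace

/-- the set of dimensions of the irreducible components of a locally closed part of a fibre of a
morphism of finite type is a finite set of natural numbers -/
theorem exists_finset_compDimsOf [LocallyOfFiniteType f] [QuasiCompact f] (Z : Set X) (s : S)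
    (hlc : IsLocallyClosed (Subtype.val ⁻¹' Z : Set ↥(f.base ⁻¹' {s}))) :
    ∃ Φ₀ : Finset ℕ, compDimsOf (Z ∩ f.base ⁻¹' {s}) = natSet Φ₀ := by
  haveI := noetherianSpace_trace f Z s
  have hfin : (compDimsOf (Z ∩ f.base ⁻¹' {s})).Finite :=
    (NoetherianSpace.finite_irreducibleComponents (α := ↥(Z ∩ f.base ⁻¹' {s}))).image _
  have hinj : Function.Injective (fun n : ℕ => ((n : ℕ) : WithBot ℕ∞)) := by
    intro a b hab
    have hab' : ((a : ℕ) : WithBot ℕ∞) = ((b : ℕ) : WithBot ℕ∞) := hab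
    exact_mod_cast hab'
  have hpre := hfin.preimage (hinj.injOn (s := (fun n : ℕ => ((n : ℕ) : WithBot ℕ∞)) ⁻¹'
    compDimsOf (Z ∩ f.base ⁻¹' {s})))
  refine ⟨hpre.toFinset, ?_⟩
  ext d
  constructor
  · intro hd
    have hd' := hd
    rw [compDimsOf_trace_eq f Z s hlc] at hd'
    obtain ⟨ζ, -, n, -, rfl⟩ := hd'
    exact ⟨n, by simpa using hd, rfl⟩
  · rintro ⟨n, hn, rfl⟩
    simpa using hn

section Decided

variable [IsIntegral S] [IsNoetherian S] [LocallyOfFiniteType f] [QuasiCompact f]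

/-- when closure commutes with passage to the fibre, a locally closed trace and the trace of the
closure have the same maximal points -/
theorem isMaxIn_closure_iff (Z : Set X) (s : S)
    (hlc : IsLocallyClosed (Subtype.val ⁻¹' Z : Set ↥(f.base ⁻¹' {s})))
    (hcl : closure Z ∩ f.base ⁻¹' {s} ⊆ closure (Z ∩ f.base ⁻¹' {s})) (ζ : X) :
    IsMaxIn (Z ∩ f.base ⁻¹' {s}) ζ ↔ IsMaxIn (closure Z ∩ f.base ⁻¹' {s}) ζ := by
  obtain ⟨U, K, hU, hK, heq⟩ := exists_open_closed_of_trace f Z s hlc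
  have hsub : Z ∩ f.base ⁻¹' {s} ⊆ closure Z ∩ f.base ⁻¹' {s} :=
    Set.inter_subset_inter_left _ subset_closure
  have hWK : closure (Z ∩ f.base ⁻¹' {s}) ⊆ K := by
    apply hK.closure_subset_iff.mpr
    rw [heq]
    exact fun x hx => hx.1.2
  constructor
  · rintro ⟨hζ, hmax⟩
    refine ⟨hsub hζ, fun y hy hsp => hmax y ?_ hsp⟩
    rw [heq]
    have hζ' : ζ ∈ U ∩ K ∩ f.base ⁻¹' {s} := heq ▸ hζ
    exact ⟨⟨hsp.mem_open hU hζ'.1.1, hWK (hcl hy)⟩, hy.2⟩
  · rintro ⟨hζ, hmax⟩
    haveI := noetherianSpace_trace f Z s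
    haveI := quasiSober_trace f Z s hlc
    obtain ⟨w, hw, hwsp⟩ := exists_specializes_of_mem_closure (Z ∩ f.base ⁻¹' {s}) ζ (hcl hζ)
    have hwζ : w = ζ := hmax w (hsub hw) hwsp
    exact ⟨hwζ ▸ hw, fun y hy hsp => hmax y (hsub hy) hsp⟩

theorem compDimsOf_closure_eq (Z : Set X) (s : S)
    (hlc : IsLocallyClosed (Subtype.val ⁻¹' Z : Set ↥(f.base ⁻¹' {s})))
    (hcl : closure Z ∩ f.base ⁻¹' {s} ⊆ closure (Z ∩ f.base ⁻¹' {s})) :
    compDimsOf (Z ∩ f.base ⁻¹' {s}) = compDimsOf (closure Z ∩ f.base ⁻¹' {s}) := by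
  have hlc' : IsLocallyClosed (Subtype.val ⁻¹' closure Z : Set ↥(f.base ⁻¹' {s})) :=
    (isClosed_closure.preimage continuous_subtype_val).isLocallyClosed
  rw [compDimsOf_trace_eq f Z s hlc, compDimsOf_trace_eq f (closure Z) s hlc']
  ext d
  constructor
  · rintro ⟨ζ, hζ, h⟩
    exact ⟨ζ, (isMaxIn_closure_iff f Z s hlc hcl ζ).mp hζ, h⟩
  · rintro ⟨ζ, hζ, h⟩
    exact ⟨ζ, (isMaxIn_closure_iff f Z s hlc hcl ζ).mpr hζ, h⟩

/-- the trace of a closed subset on the fibre, as a subspace of `X` and of the fibre scheme -/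
theorem compDimsOf_fibre_preimage (K : Set X) (s : S) :
    compDimsOf ((f.fiberι s).base ⁻¹' K) = compDimsOf (K ∩ f.base ⁻¹' {s}) := by
  refine compDimsOf_eq_of_homeomorph
    (((f.fiberι s).isEmbedding.homeomorphImage ((f.fiberι s).base ⁻¹' K)).trans
      (Homeomorph.setCongr ?_))
  rw [Set.image_preimage_eq_inter_range, Scheme.Hom.range_fiberι]

set_option maxHeartbeats 800000 in
theorem decided_ΨCD (Φ₀ : Finset ℕ) : Decided (ΨCD.{u} (natSet Φ₀)) := by
  intro X S f _ _ _ _ Z Z' hZ hZ'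
  rcases decided_lc f Z Z' hZ hZ' with hlc | hlc
  · -- generically locally closed
    obtain ⟨hXN, hfp⟩ := noeth_instances f
    obtain ⟨U₁, hU₁, hU₁ne, h₁⟩ := exists_open_closure_fibre f Z hZ
    obtain ⟨G, hG, hGsupp⟩ := Groth.Agent.Helper4.NApx77.exists_coh_support_eq
      (⟨closure Z, isClosed_closure⟩ : Closeds X)
    have hGsupp' : CohB1.support G = closure Z := hGsupp
    haveI : Coh.IsQCoh G := hG.1
    have hdec := (isConsMod_compDims Φ₀).2 f G hG
    obtain ⟨t, ht⟩ := nonempty_preirreducible_inter isOpen_interior hU₁ hlc hU₁ne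
    refine decided_of_eqOn (locus (ΨCD (natSet Φ₀)) f Z Z')
      (ConsProp.locusMod (PCD (natSet Φ₀)) f G) (interior (locus ΦLC f Z Z') ∩ U₁)
      (isOpen_interior.inter hU₁) ⟨t, ht⟩ ?_ hdec
    rintro s ⟨hs1, hs2⟩
    have hs1' : s ∈ locus ΦLC f Z Z' := interior_subset hs1
    have hslc : IsLocallyClosed (Subtype.val ⁻¹' Z : Set ↥(f.base ⁻¹' {s})) := hs1'
    rw [mem_locus_ΨCD_iff]
    show _ ↔ compDimsOf (CohB1.support ((Scheme.Modules.pullback (f.fiberι s)).obj G)) = natSet Φ₀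
    rw [Groth.Agent.Lead.StalkPull.main_support (f.fiberι s) G hG.2, hGsupp',
      compDimsOf_fibre_preimage f (closure Z) s, ← compDimsOf_closure_eq f Z s hslc (h₁ s hs2)]
    exact ⟨fun h => h.2, fun h => ⟨hslc, h⟩⟩
  · right
    obtain ⟨t, ht⟩ := hlc
    refine ⟨t, interior_mono ?_ ht⟩
    intro s hs hs'
    exact hs hs'.1

end Decided

/-- S4798 -/
theorem s4798 {X S : Scheme.{u}} (f : X ⟶ S)
    [LocallyOfFinitePresentation f] [QuasiCompact f] [QuasiSeparated f]
    (Z : Set X) (hZ : IsLocallyConstructible Z)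
    (hZs : ∀ s : S, IsLocallyClosed (Subtype.val ⁻¹' Z : Set ↥(f.base ⁻¹' {s})))
    (Φ : Set (WithBot ℕ∞)) :
    IsLocallyConstructible {s : S | compDimsOf (Z ∩ f.base ⁻¹' {s}) = Φ} := by
  by_cases hΦ : ∃ Φ₀ : Finset ℕ, Φ = natSet Φ₀
  · obtain ⟨Φ₀, rfl⟩ := hΦ
    have := isLocallyConstructible_locus f (invBC_ΨCD (natSet Φ₀)) (decided_ΨCD Φ₀) Z Z hZ hZ
    convert this using 1
    ext s
    rw [mem_locus_ΨCD_iff]
    exact ⟨fun h => ⟨hZs s, h⟩, fun h => h.2⟩
  · convert IsLocallyConstructible.empty (X := S) using 1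
    ext s
    simp only [Set.mem_ofPred_eq, Set.mem_empty_iff_false, iff_false]
    intro h
    obtain ⟨Φ₀, hΦ₀⟩ := exists_finset_compDimsOf f Z s (hZs s)
    exact hΦ ⟨Φ₀, h ▸ hΦ₀⟩

end Groth.Agent.Helper5.CompDm
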