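import Mathlib
import Groth.Prelude
import Groth.Agent.Helper5.EqAt4
import Groth.Agent.Helper5.FibBound
import Groth.Agent.Helper5.FibDim7

/-!
# EqDimA: equidimensionality of a fibre at a point, in terms of the maximal points of the fibre
generizing the point (towards S3451)
-/

set_option autoImplicit false
set_option linter.unusedSectionVars false
set_option linter.unusedVariables false
set_option linter.style.haveILetI false
universe u
open AlgebraicGeometry CategoryTheory TopologicalSpace Topology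

namespace Groth.Agent.Helper5.EqDim

open Groth.Agent.Helper5.LocDE Groth.Agent.Helper5.VarDim Groth.Agent.Helper5.MaxPt
  Groth.Agent.Helper5.SubDim Groth.Agent.Helper5.EqAt

variable {X S : Scheme.{u}} (f : X ⟶ S)

/-- `ζ` is a maximal point of the fibre through `x` generizing `x` -/
def IsMG (ζ x : X) : Prop :=
  ζ ⤳ x ∧ f.base ζ = f.base x ∧ ∀ ζ' : X, f.base ζ' = f.base ζ → ζ' ⤳ ζ → ζ' = ζ

theorem exists_isMG [LocallyOfFiniteType f] (x : X) : ∃ ζ : X, IsMG f ζ x := by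
  obtain ⟨z, hz1, hz2, hz3⟩ := exists_max_fibre_point f x
  exact ⟨z, hz2, hz1, fun ζ' h1 h2 => hz3 ζ' (h1.trans hz1) h2⟩

theorem IsMG.trans {ζ y x : X} (h : IsMG f ζ y) (hyx : y ⤳ x) (hf : f.base y = f.base x) :
    IsMG f ζ x :=
  ⟨h.1.trans hyx, h.2.1.trans hf, h.2.2⟩

theorem IsMG.eq_of_isMG {ζ' ζ x : X} (h : IsMG f ζ x) (h' : IsMG f ζ' ζ) : ζ' = ζ :=
  h.2.2 ζ' h'.2.1 h'.1

/-- upper semicontinuity along generizations -/
theorem fibreDimAt_le_of_specializes [LocallyOfFiniteType f] {y x : X} (h : y ⤳ x) :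
    FlatMor.fibreDimAt f y ≤ FlatMor.fibreDimAt f x := by
  have ho := Groth.Agent.Helper5.FibDim.isOpen_fibreDimAt_le f (FlatMor.fibreDimAt f x)
  have hx : x ∈ {y : X | FlatMor.fibreDimAt f y ≤ FlatMor.fibreDimAt f x} :=
    le_refl (FlatMor.fibreDimAt f x)
  exact h.mem_open ho hx

set_option maxHeartbeats 1600000 in
/-- the dimension of the closure of a maximal point of a fibre is the local dimension of the
fibre there -/
theorem dim_closure_eq_fibreDimAt [LocallyOfFiniteType f] (s : S) (ζ₀ : ↥(f.fiber s))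
    (hmaxζ : ∀ ζ' : ↥(f.fiber s), ζ' ⤳ ζ₀ → ζ' = ζ₀) :
    topologicalKrullDim ↥(closure ({ζ₀} : Set ↥(f.fiber s))) =
      FlatMor.fibreDimAt f (f.fiberι s ζ₀) := by
  let t₀ : X := f.fiberι s ζ₀
  have ht₀ : f t₀ = s := apply_fiberι f s ζ₀
  have hemb : Topology.IsEmbedding (f.fiberι s) := (f.fiberι s).isEmbedding
  have hmax : ∀ w : X, f w = f t₀ → w ⤳ t₀ → w = t₀ := by
    intro w hw hsp
    have hr : w ∈ Set.range (f.fiberι s) := by
      rw [Scheme.Hom.range_fiberι]; exact hw.trans ht₀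
    obtain ⟨ζ', rfl⟩ := hr
    have h1 : ζ' ⤳ ζ₀ := by
      rw [← hemb.toIsInducing.specializes_iff]; exact hsp
    rw [hmaxζ ζ' h1]
  obtain ⟨n₀, hn₀a, hn₀b⟩ := fibreDimAt_of_maximal f t₀ (coheight_asFiber_eq_zero f t₀ hmax)
  obtain ⟨n₁, hn₁a, hn₁b⟩ := dim_closure_fibre_point f s ζ₀ t₀ rfl ht₀
  have : n₁ = n₀ := by
    have := hn₁b.symm.trans hn₀a
    exact_mod_cast this
  rw [hn₁a, hn₀b, this]

set_option maxHeartbeats 1600000 in
/-- **dictionary**: equidimensionality of the fibre at `x` in terms of the maximal points -/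
theorem equidim_iff [LocallyOfFiniteType f] (x : X) :
    (∃ e : ℕ, ∀ Z ∈ irreducibleComponents (↥(f.fiber (f.base x)) : Type u), f.asFiber x ∈ Z →
        topologicalKrullDim (↥Z : Type u) = e) ↔
      ∃ e : ℕ, ∀ ζ : X, IsMG f ζ x → FlatMor.fibreDimAt f ζ = (e : WithBot ℕ∞) := by
  have hemb : Topology.IsEmbedding (f.fiberι (f.base x)) := (f.fiberι (f.base x)).isEmbedding
  constructor
  · rintro ⟨e, he⟩
    refine ⟨e, fun ζ hζ => ?_⟩
    have hr : ζ ∈ Set.range (f.fiberι (f.base x)) := by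
      rw [Scheme.Hom.range_fiberι]; exact hζ.2.1
    obtain ⟨ζ₀, rfl⟩ := hr
    have hmaxζ : ∀ ζ' : ↥(f.fiber (f.base x)), ζ' ⤳ ζ₀ → ζ' = ζ₀ := by
      intro ζ' hsp
      have h1 : f.fiberι (f.base x) ζ' ⤳ f.fiberι (f.base x) ζ₀ :=
        hsp.map (f.fiberι (f.base x)).continuous
      have h2 : f.base (f.fiberι (f.base x) ζ') = f.base (f.fiberι (f.base x) ζ₀) := by
        rw [apply_fiberι f (f.base x) ζ', apply_fiberι f (f.base x) ζ₀]
      exact hemb.injective (hζ.2.2 _ h2 h1)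
    have hcomp : closure ({ζ₀} : Set ↥(f.fiber (f.base x))) ∈
        irreducibleComponents (↥(f.fiber (f.base x)) : Type u) :=
      closure_singleton_mem_irreducibleComponents ζ₀ hmaxζ
    have hmem : f.asFiber x ∈ closure ({ζ₀} : Set ↥(f.fiber (f.base x))) := by
      rw [← specializes_iff_mem_closure, ← hemb.toIsInducing.specializes_iff, f.fiberι_asFiber]
      exact hζ.1
    rw [← dim_closure_eq_fibreDimAt f (f.base x) ζ₀ hmaxζ]
    exact he _ hcomp hmem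
  · rintro ⟨e, he⟩
    refine ⟨e, fun Z hZ hxZ => ?_⟩
    have hZcl : IsClosed Z := isClosed_of_mem_irreducibleComponents Z hZ
    obtain ⟨ζ₀, hζ₀⟩ := QuasiSober.sober hZ.1 hZcl
    have hζ₀def : closure ({ζ₀} : Set ↥(f.fiber (f.base x))) = Z := hζ₀.def
    have hmaxζ : ∀ ζ' : ↥(f.fiber (f.base x)), ζ' ⤳ ζ₀ → ζ' = ζ₀ := fun ζ' hζ' =>
      max_of_closure_mem_irreducibleComponents ζ₀ (by rw [hζ₀def]; exact hZ) ζ' hζ'
    have hMG : IsMG f (f.fiberι (f.base x) ζ₀) x := by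
      refine ⟨?_, apply_fiberι f (f.base x) ζ₀, ?_⟩
      · have h1 : ζ₀ ⤳ f.asFiber x := by
          rw [specializes_iff_mem_closure, hζ₀def]; exact hxZ
        have h2 := h1.map (f.fiberι (f.base x)).continuous
        rwa [f.fiberι_asFiber] at h2
      · intro w hw hsp
        have hr : w ∈ Set.range (f.fiberι (f.base x)) := by
          rw [Scheme.Hom.range_fiberι]; exact hw.trans (apply_fiberι f (f.base x) ζ₀)
        obtain ⟨ζ', rfl⟩ := hr
        have h1 : ζ' ⤳ ζ₀ := by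
          rw [← hemb.toIsInducing.specializes_iff]; exact hsp
        rw [hmaxζ ζ' h1]
    rw [← hζ₀def, dim_closure_eq_fibreDimAt f (f.base x) ζ₀ hmaxζ]
    exact he _ hMG

/-- the points with a maximal generization in the fibre of local dimension at most `m` -/
def setA (m : ℕ) : Set X :=
  {x | ∃ ζ : X, IsMG f ζ x ∧ FlatMor.fibreDimAt f ζ ≤ (m : WithBot ℕ∞)}

/-- the points with a maximal generization in the fibre of local dimension at least `m + 1` -/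
def setB (m : ℕ) : Set X :=
  {x | ∃ ζ : X, IsMG f ζ x ∧ ((m + 1 : ℕ) : WithBot ℕ∞) ≤ FlatMor.fibreDimAt f ζ}

/-- the points having a generization in their fibre lying in `T` -/
def fgen (T : Set X) : Set X := {x | ∃ y ∈ T, y ⤳ x ∧ f.base y = f.base x}

theorem setA_eq [LocallyOfFiniteType f] (m : ℕ) :
    setA f m = fgen f {y | FlatMor.fibreDimAt f y ≤ (m : WithBot ℕ∞)} := by
  ext x
  constructor
  · rintro ⟨ζ, hζ, hd⟩
    exact ⟨ζ, hd, hζ.1, hζ.2.1⟩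
  · rintro ⟨y, hy, hyx, hf⟩
    obtain ⟨ζ, hζ⟩ := exists_isMG f y
    exact ⟨ζ, hζ.trans f hyx hf, (fibreDimAt_le_of_specializes f hζ.1).trans hy⟩

theorem setB_eq [LocallyOfFiniteType f] (m : ℕ) :
    setB f m = fgen f ({y | ((m + 1 : ℕ) : WithBot ℕ∞) ≤ FlatMor.fibreDimAt f y} ∩ (setA f m)ᶜ) := by
  ext x
  constructor
  · rintro ⟨ζ, hζ, hd⟩
    refine ⟨ζ, ⟨hd, ?_⟩, hζ.1, hζ.2.1⟩
    rintro ⟨ζ', hζ', hd'⟩
    have : ζ' = ζ := hζ.eq_of_isMG f hζ'
    rw [this] at hd'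
    have h2 := hd.trans hd'
    have : m + 1 ≤ m := by exact_mod_cast h2
    omega
  · rintro ⟨y, ⟨hy1, hy2⟩, hyx, hf⟩
    obtain ⟨ζ, hζ⟩ := exists_isMG f y
    refine ⟨ζ, hζ.trans f hyx hf, ?_⟩
    obtain ⟨k, hk⟩ := fibreDimAt_nat f ζ
    rw [hk]
    by_contra hlt
    apply hy2
    refine ⟨ζ, hζ, ?_⟩
    rw [hk]
    have h3 : ¬ (m + 1 ≤ k) := fun h => hlt (by exact_mod_cast h)
    have : k ≤ m := by omega
    exact_mod_cast this

/-- the pointwise form of the set of S3451 -/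
def eqSet : Set X :=
  {x | ∃ e : ℕ, ∀ ζ : X, IsMG f ζ x → FlatMor.fibreDimAt f ζ = (e : WithBot ℕ∞)}

theorem notMem_eqSet_iff [LocallyOfFiniteType f] (x : X) :
    x ∉ eqSet f ↔ ∃ m : ℕ, x ∈ setA f m ∧ x ∈ setB f m := by
  constructor
  · intro hx
    obtain ⟨ζ₀, hζ₀⟩ := exists_isMG f x
    obtain ⟨e₀, he₀⟩ := fibreDimAt_nat f ζ₀
    have h1 : ¬ ∀ ζ : X, IsMG f ζ x → FlatMor.fibreDimAt f ζ = (e₀ : WithBot ℕ∞) :=
      fun h => hx ⟨e₀, h⟩
    push Not at h1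
    obtain ⟨ζ₁, hζ₁, hne⟩ := h1
    obtain ⟨e₁, he₁⟩ := fibreDimAt_nat f ζ₁
    have hne' : e₁ ≠ e₀ := by
      intro h
      apply hne
      rw [he₁, h]
    rcases Nat.lt_or_gt_of_ne hne' with hlt | hgt
    · refine ⟨e₁, ⟨ζ₁, hζ₁, by rw [he₁]⟩, ⟨ζ₀, hζ₀, ?_⟩⟩
      rw [he₀]
      have : e₁ + 1 ≤ e₀ := hlt
      exact_mod_cast this
    · refine ⟨e₀, ⟨ζ₀, hζ₀, by rw [he₀]⟩, ⟨ζ₁, hζ₁, ?_⟩⟩
      rw [he₁]
      have : e₀ + 1 ≤ e₁ := hgt
      exact_mod_cast this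
  · rintro ⟨m, ⟨ζ₁, hζ₁, hd₁⟩, ⟨ζ₂, hζ₂, hd₂⟩⟩ ⟨e, he⟩
    rw [he ζ₁ hζ₁] at hd₁
    rw [he ζ₂ hζ₂] at hd₂
    have h1 : e ≤ m := by exact_mod_cast hd₁
    have h2 : m + 1 ≤ e := by exact_mod_cast hd₂
    omega

theorem lt_of_mem_setB [LocallyOfFiniteType f] (x : X) (N m : ℕ)
    (hN : FlatMor.fibreDimAt f x ≤ (N : WithBot ℕ∞)) (hx : x ∈ setB f m) : m < N := by
  obtain ⟨ζ, hζ, hd⟩ := hx
  have h1 := (hd.trans (fibreDimAt_le_of_specializes f hζ.1)).trans hN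
  have : m + 1 ≤ N := by exact_mod_cast h1
  omega

/-- on the open set where the local fibre dimension is at most `N` -/
theorem mem_eqSet_iff_of_le [LocallyOfFiniteType f] (x : X) (N : ℕ)
    (hN : FlatMor.fibreDimAt f x ≤ (N : WithBot ℕ∞)) :
    x ∈ eqSet f ↔ ∀ m ∈ Finset.range N, x ∈ (setA f m ∩ setB f m)ᶜ := by
  constructor
  · intro hx m _ hm
    exact (notMem_eqSet_iff f x).mpr ⟨m, hm.1, hm.2⟩ hx
  · intro h
    by_contra hx
    obtain ⟨m, hA, hB⟩ := (notMem_eqSet_iff f x).mp hx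
    exact h m (Finset.mem_range.mpr (lt_of_mem_setB f x N m hN hB)) ⟨hA, hB⟩

end Groth.Agent.Helper5.EqDim
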