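import Mathlib
import Groth.Prelude
import Groth.Agent.Helper5.FlatOrbit2

set_option autoImplicit false
set_option linter.unusedSectionVars false
set_option linter.style.haveILetI false
set_option linter.unusedVariables false
universe u

open AlgebraicGeometry CategoryTheory CategoryTheory.Limits
open MonoidalCategory CartesianMonoidalCategory MonObj

namespace Groth.Agent.Helper5.OrbFl

open Groth.Agent.Helper5.FlatOrbit Groth.Agent.Helper5.GrpDense

variable {S : Scheme.{u}} {G X Y : Over S} [GrpObj G] (a : AlgGrp.Action G X)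
  (b : AlgGrp.Action G Y) (f : X ⟶ Y) (hf : (G ◁ f) ≫ b.act = a.act ≫ f)

include hf in
/-- equivariance on `T`-points -/
theorem sm_comp {T : Over S} (g : T ⟶ G) (x : T ⟶ X) :
    sm a g x ≫ f = sm b g (x ≫ f) := by
  have h1 : lift g x ≫ (G ◁ f) = lift g (x ≫ f) := by ext <;> simp
  rw [sm, sm, Category.assoc, ← hf, reassoc_of% h1]

include hf in
/-- the flat locus of an equivariant morphism is stable under the action -/
theorem flat_stalkMap_act [Flat G.hom] (p : (G ⊗ X).left)
    (hx : (f.left.stalkMap ((snd G X).left p)).hom.Flat) :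
    (f.left.stalkMap (a.act.left p)).hom.Flat := by
  set x := (snd G X).left p with hxdef
  let T : Scheme.{u} := Spec (X.left.presheaf.stalk x)
  let j : T ⟶ X.left := X.left.fromSpecStalk x
  let To : Over S := Over.mk (j ≫ X.hom)
  let jo : To ⟶ X := Over.homMk j rfl
  haveI hj : Flat jo.left := Groth.Agent.Helper5.StalkRed.flat_fromSpecStalk X.left x
  have hjf : Flat (jo ≫ f).left := by
    have e : (jo ≫ f).left =
        Spec.map (f.left.stalkMap x) ≫ Y.left.fromSpecStalk (f.left x) := by
      rw [Scheme.SpecMap_stalkMap_fromSpecStalk]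
      rfl
    rw [e]
    haveI := Groth.Agent.Helper5.StalkRed.flat_fromSpecStalk Y.left (f.left x)
    haveI : Flat (Spec.map (f.left.stalkMap x)) := Flat.SpecMap_iff.mpr hx
    infer_instance
  haveI ha : Flat a.act.left := flat_act a
  haveI hb : Flat b.act.left := flat_act b
  let ν : G ⊗ To ⟶ X := (G ◁ jo) ≫ a.act
  haveI hwl : Flat (G ◁ jo).left :=
    MorphismProperty.of_isPullback (P := @Flat) (isPullback_whiskerLeft G jo).flip hj
  haveI hν : Flat ν.left := by
    show Flat ((G ◁ jo) ≫ a.act).left
    rw [Over.comp_left]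
    infer_instance
  haveI hνf : Flat (ν.left ≫ f.left) := by
    have e : ν ≫ f = (G ◁ (jo ≫ f)) ≫ b.act := by
      simp only [ν, Category.assoc, ← hf, MonoidalCategory.whiskerLeft_comp]
    rw [← Over.comp_left, e, Over.comp_left]
    haveI : Flat (G ◁ (jo ≫ f)).left :=
      MorphismProperty.of_isPullback (P := @Flat) (isPullback_whiskerLeft G (jo ≫ f)).flip hjf
    infer_instance
  have hpr : p ∈ Set.range (G ◁ jo).left := by
    rw [range_whiskerLeft G jo]
    show (snd G X).left p ∈ Set.range jo.left
    exact ⟨IsLocalRing.closedPoint _, Scheme.fromSpecStalk_closedPoint⟩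
  obtain ⟨z', hz'⟩ := hpr
  have hνz : ν.left z' = a.act.left p := by
    show ((G ◁ jo) ≫ a.act).left z' = a.act.left p
    rw [Over.comp_left, Scheme.Hom.comp_apply, hz']
  have key := flat_stalkMap_of_comp ν.left f.left z'
  rw [hνz] at key
  exact key

end Groth.Agent.Helper5.OrbFl
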