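import Mathlib
import Groth.Prelude
import Groth.Agent.Helper5.OrbFl1
import Groth.Agent.Helper3.GalOrb

set_option autoImplicit false
set_option linter.unusedSectionVars false
set_option linter.style.haveILetI false
set_option linter.unusedVariables false
universe u

open AlgebraicGeometry CategoryTheory CategoryTheory.Limits
open MonoidalCategory CartesianMonoidalCategory MonObj

namespace Groth.Agent.Helper5.OrbFl

open Groth.Agent.Helper3.GalOrb

variable (k K : Type u) [Field k] [Field K] [Algebra k K] [IsAlgClosed K]

/-- a closed point of a scheme locally of finite type over `k` is the image of a `K`-point, for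
any algebraically closed extension `K` of `k` -/
theorem exists_point_of_isClosed' {X : Scheme.{u}} (f : X ⟶ Spec (CommRingCat.of k))
    [LocallyOfFiniteType f] (x : X) (hx : IsClosed ({x} : Set X)) :
    ∃ p : Spec (CommRingCat.of K) ⟶ X,
      p ≫ f = Spec.map (CommRingCat.ofHom (algebraMap k K)) ∧
        p (IsLocalRing.closedPoint K) = x := by
  haveI : IsClosedImmersion (X.fromSpecResidueField x) :=
    isClosed_singleton_iff_isClosedImmersion.mp hx
  haveI : LocallyOfFiniteType (X.fromSpecResidueField x ≫ f) := inferInstance
  haveI : IsFinite (X.fromSpecResidueField x ≫ f) :=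
    isFinite_iff_locallyOfFiniteType_of_jacobsonSpace.mpr inferInstance
  have hfin : (ψ k f x).hom.Finite := by
    rw [← IsFinite.SpecMap_iff, map_ψ]; infer_instance
  letI : Algebra k (X.residueField x) := (ψ k f x).hom.toAlgebra
  haveI : Module.Finite k (X.residueField x) := hfin
  haveI : Algebra.IsAlgebraic k (X.residueField x) := Algebra.IsAlgebraic.of_finite k _
  let φ : X.residueField x →ₐ[k] K := IsAlgClosed.lift
  refine ⟨Spec.map (CommRingCat.ofHom φ.toRingHom) ≫ X.fromSpecResidueField x, ?_, ?_⟩
  · rw [comp_f_iff]
    ext a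
    exact φ.commutes a
  · exact Scheme.fromSpecResidueField_apply x
      ((Spec.map (CommRingCat.ofHom φ.toRingHom)) (IsLocalRing.closedPoint K))

/-- the `K`-point object of `Over (Spec k)` -/
noncomputable abbrev TK : Over (Spec (CommRingCat.of k)) :=
  Over.mk (Spec.map (CommRingCat.ofHom (algebraMap k K)))

theorem exists_Kpoint_of_isClosed (Z : Over (Spec (CommRingCat.of k))) [LocallyOfFiniteType Z.hom]
    (z : Z.left) (hz : IsClosed ({z} : Set Z.left)) :
    ∃ zb : TK k K ⟶ Z, ∀ pt : (TK k K).left, zb.left pt = z := by
  obtain ⟨p, hp1, hp2⟩ := exists_point_of_isClosed' k K Z.hom z hz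
  refine ⟨Over.homMk p hp1, fun pt => ?_⟩
  have hpt : pt = IsLocalRing.closedPoint K := Subsingleton.elim (α := PrimeSpectrum K) _ _
  rw [hpt]
  exact hp2

end Groth.Agent.Helper5.OrbFl
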