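import Mathlib
import Groth.Prelude
import Groth.Agent.Helper5.GraphSurj1

set_option autoImplicit false
set_option linter.unusedSectionVars false
set_option linter.style.haveILetI false
set_option linter.unusedVariables false
universe u

open AlgebraicGeometry CategoryTheory CategoryTheory.Limits
open MonoidalCategory CartesianMonoidalCategory MonObj

namespace Groth.Agent.Helper5.GraphSurj

open Groth.Agent.Helper5.OrbFl

variable (k K : Type u) [Field k] [Field K] [Algebra k K] [IsAlgClosed K]

instance lft_tensor (G X : Over (Spec (CommRingCat.of k))) [LocallyOfFiniteType G.hom]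
    [LocallyOfFiniteType X.hom] : LocallyOfFiniteType (G ⊗ X).hom := by
  have : (G ⊗ X).hom = pullback.fst G.hom X.hom ≫ G.hom := rfl
  rw [this]
  infer_instance

instance qc_tensor (G X : Over (Spec (CommRingCat.of k))) [QuasiCompact G.hom]
    [QuasiCompact X.hom] : QuasiCompact (G ⊗ X).hom := by
  have : (G ⊗ X).hom = pullback.fst G.hom X.hom ≫ G.hom := rfl
  rw [this]
  infer_instance

/-- **Homogeneity is transitivity on geometric points.** -/
theorem s14645 (G X : Over (Spec (CommRingCat.of k))) [GrpObj G] [LocallyOfFiniteType G.hom]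
    [QuasiCompact G.hom] [LocallyOfFiniteType X.hom] [QuasiCompact X.hom]
    (a : AlgGrp.Action G X) :
    Surjective (lift (snd G X) a.act).left ↔
      ∀ x y : TK k K ⟶ X, ∃ g : TK k K ⟶ G, lift g x ≫ a.act = y := by
  set Γ : G ⊗ X ⟶ X ⊗ X := lift (snd G X) a.act with hΓ
  have hΓ1 : Γ ≫ fst X X = snd G X := by simp [Γ]
  have hΓ2 : Γ ≫ snd X X = a.act := by simp [Γ]
  haveI : LocallyOfFiniteType (Γ.left ≫ (X ⊗ X).hom) := by
    rw [Over.w]; infer_instance
  haveI : LocallyOfFiniteType Γ.left := locallyOfFiniteType_of_comp Γ.left (X ⊗ X).hom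
  constructor
  · intro hs x y
    haveI := hs
    obtain ⟨w, hw⟩ := exists_Kpoint_lift k K (G ⊗ X) (X ⊗ X) Γ (lift x y)
    refine ⟨w ≫ fst G X, ?_⟩
    have h1 : w ≫ snd G X = x := by
      rw [← hΓ1, ← Category.assoc, hw, lift_fst]
    have h2 : w ≫ a.act = y := by
      rw [← hΓ2, ← Category.assoc, hw, lift_snd]
    have h3 : lift (w ≫ fst G X) x = w := by
      rw [← h1]
      ext <;> simp
    rw [h3, h2]
  · intro htr
    haveI : IsLocallyNoetherian (X ⊗ X).left := LocallyOfFiniteType.isLocallyNoetherian (X ⊗ X).hom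
    haveI : LocallyOfFinitePresentation Γ.left := inferInstance
    haveI : JacobsonSpace (X ⊗ X).left := LocallyOfFiniteType.jacobsonSpace (X ⊗ X).hom
    haveI : QuasiSeparated (X ⊗ X).hom := inferInstance
    haveI : QuasiCompact (Γ.left ≫ (X ⊗ X).hom) := by rw [Over.w]; infer_instance
    haveI : QuasiCompact Γ.left := QuasiCompact.of_comp Γ.left (X ⊗ X).hom
    haveI : CompactSpace (X ⊗ X).left :=
      QuasiCompact.compactSpace_of_compactSpace (X ⊗ X).hom
    haveI : QuasiSeparatedSpace (X ⊗ X).left := inferInstance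
    rw [surjective_iff]
    by_contra hns
    have hne : ((Set.range Γ.left)ᶜ).Nonempty := by
      rw [Set.nonempty_compl]
      intro h
      exact hns (Set.range_eq_univ.1 h)
    have hcons : Topology.IsConstructible (Set.range Γ.left) := by
      rw [← Set.image_univ]
      exact Γ.left.isConstructible_image Topology.IsConstructible.univ
    obtain ⟨p, hp, hpc⟩ :=
      Groth.Agent.S7549.exists_closedPoint_of_isConstructible hcons.compl hne
    obtain ⟨pb, hpb⟩ := exists_Kpoint_of_isClosed k K (X ⊗ X) p hpc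
    obtain ⟨g, hg⟩ := htr (pb ≫ fst X X) (pb ≫ snd X X)
    have hpt : Nonempty (TK k K).left :=
      ⟨(show Spec (CommRingCat.of K) from IsLocalRing.closedPoint K)⟩
    obtain ⟨pt⟩ := hpt
    apply hp
    refine ⟨(lift g (pb ≫ fst X X)).left pt, ?_⟩
    have h4 : lift g (pb ≫ fst X X) ≫ Γ = pb := by
      ext
      · rw [Category.assoc, hΓ1, lift_snd]
      · rw [Category.assoc, hΓ2, hg]
    rw [← Scheme.Hom.comp_apply, ← Over.comp_left, h4, hpb pt]

end Groth.Agent.Helper5.GraphSurj
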