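import Mathlib
import Groth.Prelude
import Groth.Agent.Helper5.FlatOrbit3
import Groth.Agent.Helper5.GrpClosed4
import Groth.Agent.Helper5.NeronEt3
import Groth.Agent.Helper5.BirBC

set_option autoImplicit false
set_option linter.unusedSectionVars false
set_option linter.style.haveILetI false
universe u

open AlgebraicGeometry CategoryTheory CategoryTheory.Limits TopologicalSpace
open MonoidalCategory CartesianMonoidalCategory MonObj GrpObj

namespace Groth.Agent.Helper5.DomHom

open Groth.Agent.Helper5.GrpDense

/-- the local ring of a reduced scheme at a maximal point is a field -/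
theorem isField_stalk_of_mem_genericPoints (X : Scheme.{u}) [IsReduced X] (ξ : X)
    (hξ : ξ ∈ genericPoints X) : IsField (X.presheaf.stalk ξ) := by
  rw [IsLocalRing.isField_iff_maximalIdeal_eq, eq_bot_iff]
  intro a ha
  have hnil : IsNilpotent a := by
    rw [nilpotent_iff_mem_prime]
    intro J hJ
    let q : Spec (X.presheaf.stalk ξ) := ⟨J, hJ⟩
    have hz : X.fromSpecStalk ξ q ⤳ ξ := by
      have : X.fromSpecStalk ξ q ∈ Set.range (X.fromSpecStalk ξ) := ⟨q, rfl⟩
      rw [Scheme.range_fromSpecStalk] at this
      exact this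
    have hz2 : X.fromSpecStalk ξ q = ξ :=
      (Groth.Agent.Helper5.BirBC.mem_genericPoints_iff ξ).mp hξ _ hz
    have hq : q = IsLocalRing.closedPoint (X.presheaf.stalk ξ) := by
      apply (X.fromSpecStalk ξ).isEmbedding.injective
      rw [hz2, Scheme.fromSpecStalk_closedPoint]
    have : J = IsLocalRing.maximalIdeal (X.presheaf.stalk ξ) := by
      have := congrArg PrimeSpectrum.asIdeal hq
      exact this
    rw [this]
    exact ha
  have := hnil.eq_zero
  simpa using this

variable (k : Type u) [Field k] (G H : Over (Spec (CommRingCat.of k))) [GrpObj G] [GrpObj H]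
  (f : G ⟶ H) [IsMonHom f] [QuasiCompact f.left]

theorem flat_of_dominant_of_isReduced (hf : DenseRange f.left.base) [IsReduced H.left] :
    Flat f.left := by
  haveI : IsDominant f.left := ⟨hf⟩
  let pt : (𝟙_ (Over (Spec (CommRingCat.of k)))).left := IsLocalRing.closedPoint k
  obtain ⟨ξ, hξ, -⟩ := Groth.Agent.Helper5.NeronEt.exists_generic_specializes (η[H].left pt)
  obtain ⟨x, hx⟩ := Groth.Agent.Helper5.NeronEt.mem_range_of_mem_genericPoints f.left ξ hξ
  haveI : Flat G.hom := inferInstance
  refine Groth.Agent.Helper5.FlatOrbit.s5336 k G H f ⟨x, ?_⟩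
  have hfield : IsField (H.left.presheaf.stalk (f.left x)) := by
    rw [hx]; exact isField_stalk_of_mem_genericPoints H.left ξ hξ
  exact RingHom.Flat.of_isField hfield _

end Groth.Agent.Helper5.DomHom
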