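import Mathlib
import Groth.Prelude
import Groth.Agent.Helper5.FibFlat4

set_option autoImplicit false
set_option linter.unusedSectionVars false
set_option linter.style.haveILetI false
universe u

open AlgebraicGeometry CategoryTheory CategoryTheory.Limits

namespace Groth.Agent.Helper5.FibFlat

/-- fibrewise monomorphisms are universally injective -/
theorem surjective_diagonal_of_fibres {X Y S : Scheme.{u}} (f : X ⟶ Y) (g : Y ⟶ S)
    (hf : ∀ s : S, Mono (pullback.snd f (g.fiberι s))) : Surjective (pullback.diagonal f) := by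
  have h := (tfae_universallyInjective f).out 1 3
  rw [← h]
  intro K _ g₁ g₂ hg
  simp only at hg
  let φ : Spec (.of K) ⟶ S := g₁ ≫ f ≫ g
  let s : S := φ (IsLocalRing.closedPoint K)
  have hφ : Spec.map (S.descResidueField (Scheme.stalkClosedPointTo φ)) ≫
      S.fromSpecResidueField s = φ :=
    Scheme.descResidueField_stalkClosedPointTo_fromSpecResidueField K S φ
  let c : Spec (.of K) ⟶ Spec (S.residueField s) :=
    Spec.map (S.descResidueField (Scheme.stalkClosedPointTo φ))
  let t : Spec (.of K) ⟶ g.fiber s := pullback.lift (g₁ ≫ f) c (by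
    rw [Category.assoc]; exact hφ.symm)
  have ht : t ≫ g.fiberι s = g₁ ≫ f := pullback.lift_fst _ _ _
  let g₁' : Spec (.of K) ⟶ pullback f (g.fiberι s) := pullback.lift g₁ t ht.symm
  let g₂' : Spec (.of K) ⟶ pullback f (g.fiberι s) := pullback.lift g₂ t (by rw [ht, hg])
  haveI := hf s
  have heq : g₁' = g₂' := by
    rw [← cancel_mono (pullback.snd f (g.fiberι s))]
    simp only [g₁', g₂', pullback.lift_snd]
  have h1 : g₁' ≫ pullback.fst f (g.fiberι s) = g₁ := pullback.lift_fst _ _ _
  have h2 : g₂' ≫ pullback.fst f (g.fiberι s) = g₂ := pullback.lift_fst _ _ _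
  rw [← h1, ← h2, heq]

theorem isOpenImmersion_of_fibres {X Y S : Scheme.{u}} (f : X ⟶ Y) (g : Y ⟶ S)
    [LocallyOfFinitePresentation g] [LocallyOfFinitePresentation (f ≫ g)] [Flat (f ≫ g)]
    (hf : ∀ s : S, IsOpenImmersion (pullback.snd f (g.fiberι s))) : IsOpenImmersion f := by
  haveI : Etale f := (s2763 g (f ≫ g) f rfl).2 (fun s => by haveI := hf s; infer_instance)
  haveI : LocallyOfFinitePresentation f := inferInstance
  haveI : IsOpenImmersion (pullback.diagonal f) := inferInstance
  haveI : Surjective (pullback.diagonal f) :=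
    surjective_diagonal_of_fibres f g (fun s => by haveI := hf s; infer_instance)
  haveI : Epi (pullback.diagonal f).base :=
    (TopCat.epi_iff_surjective _).2 (pullback.diagonal f).surjective
  haveI : IsIso (pullback.diagonal f) := IsOpenImmersion.isIso _
  haveI : Mono f := (pullback.isIso_diagonal_iff f).1 inferInstance
  exact IsOpenImmersion.of_flat_of_mono f

theorem surjective_of_fibres {X Y S : Scheme.{u}} (f : X ⟶ Y) (g : Y ⟶ S)
    (hf : ∀ s : S, Surjective (pullback.snd f (g.fiberι s))) : Surjective f := by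
  refine ⟨fun y => ?_⟩
  have h1 : y ∈ Set.range (g.fiberι (g y)) := by
    rw [Scheme.Hom.range_fiberι]; rfl
  obtain ⟨y', hy'⟩ := h1
  obtain ⟨p, hp⟩ := (hf (g y)).surj y'
  refine ⟨pullback.fst f (g.fiberι (g y)) p, ?_⟩
  rw [← Scheme.Hom.comp_apply, pullback.condition, Scheme.Hom.comp_apply, hp, hy']

theorem s2759 {X Y S : Scheme.{u}} (g : Y ⟶ S) (h : X ⟶ S)
    [LocallyOfFinitePresentation g] [LocallyOfFinitePresentation h] [Flat h]
    (f : X ⟶ Y) (w : f ≫ g = h) :
    (IsOpenImmersion f ↔ ∀ s : S, IsOpenImmersion (pullback.snd f (g.fiberι s))) ∧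
    (IsIso f ↔ ∀ s : S, IsIso (pullback.snd f (g.fiberι s))) := by
  subst w
  refine ⟨⟨fun _ s => inferInstance, isOpenImmersion_of_fibres f g⟩,
    ⟨fun _ s => inferInstance, fun hf => ?_⟩⟩
  haveI : IsOpenImmersion f :=
    isOpenImmersion_of_fibres f g (fun s => by haveI := hf s; infer_instance)
  haveI : Surjective f := surjective_of_fibres f g (fun s => by haveI := hf s; infer_instance)
  haveI : Epi f.base := (TopCat.epi_iff_surjective _).2 f.surjective
  exact IsOpenImmersion.isIso f

end Groth.Agent.Helper5.FibFlat
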