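import Mathlib
import Groth.Prelude
import Groth.Agent.Helper5.FibFlat5
import Groth.Agent.Helper5.DomHom1
import Groth.Agent.Helper2.HS9

set_option autoImplicit false
set_option linter.unusedSectionVars false
set_option linter.style.haveILetI false
universe u

open AlgebraicGeometry CategoryTheory CategoryTheory.Limits TopologicalSpace
open MonoidalCategory CartesianMonoidalCategory MonObj GrpObj

namespace Groth.Agent.Helper5.FibGrp

/-- a surjective homomorphism of group schemes over a field with reduced target is flat -/
theorem flat_of_surjective_of_isReduced (k : Type u) [Field k]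
    (G H : Over (Spec (CommRingCat.of k))) [GrpObj G] [GrpObj H]
    (f : G ⟶ H) [IsMonHom f] [Surjective f.left] [IsReduced H.left] : Flat f.left := by
  let pt : (𝟙_ (Over (Spec (CommRingCat.of k)))).left := IsLocalRing.closedPoint k
  obtain ⟨ξ, hξ, -⟩ := Groth.Agent.Helper5.NeronEt.exists_generic_specializes (η[H].left pt)
  obtain ⟨x, hx⟩ := f.left.surjective ξ
  haveI : Flat G.hom := inferInstance
  refine Groth.Agent.Helper5.FlatOrbit.s5336 k G H f ⟨x, ?_⟩
  have hfield : IsField (H.left.presheaf.stalk (f.left x)) := by
    rw [hx]; exact Groth.Agent.Helper5.DomHom.isField_stalk_of_mem_genericPoints H.left ξ hξ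
  exact RingHom.Flat.of_isField hfield _

variable {S : Scheme.{u}} (G H : Over S) (f : G ⟶ H)

/-- the base change of `f` to the fibre over `s`, as a morphism of schemes to the fibre -/
noncomputable def fb (s : S) : pullback G.hom (S.fromSpecResidueField s) ⟶ H.hom.fiber s :=
  ((Over.pullback (S.fromSpecResidueField s)).map f).left

theorem fb_fst (s : S) : fb G H f s ≫ H.hom.fiberι s =
    pullback.fst G.hom (S.fromSpecResidueField s) ≫ f.left := pullback.lift_fst _ _ _

theorem fb_snd (s : S) : fb G H f s ≫ pullback.snd H.hom (S.fromSpecResidueField s) =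
    pullback.snd G.hom (S.fromSpecResidueField s) := pullback.lift_snd _ _ _

/-- the base change of `f` to the fibre over `s` is the fibre map -/
theorem isPullback_bc (s : S) :
    IsPullback (pullback.fst G.hom (S.fromSpecResidueField s)) (fb G H f s) f.left
      (H.hom.fiberι s) := by
  refine IsPullback.of_bot (v₂₁ := pullback.snd H.hom (S.fromSpecResidueField s)) (v₂₂ := H.hom)
    (h₃₁ := S.fromSpecResidueField s) ?_ (fb_fst G H f s).symm
    (IsPullback.of_hasPullback H.hom (S.fromSpecResidueField s))
  rw [fb_snd, Over.w f]
  exact IsPullback.of_hasPullback G.hom (S.fromSpecResidueField s)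

/-- transfer of a property of the base-changed morphism to the fibre map -/
theorem fibreMap_of_bc (P : MorphismProperty Scheme.{u}) [P.RespectsIso] (s : S)
    (h : P (fb G H f s)) : P (pullback.snd f.left (H.hom.fiberι s)) := by
  have sq := isPullback_bc G H f s
  have : pullback.snd f.left (H.hom.fiberι s) = sq.isoPullback.inv ≫ fb G H f s := by
    rw [Iso.eq_inv_comp, IsPullback.isoPullback_hom_snd]
  rw [this]
  exact (P.cancel_left_of_respectsIso _ _).2 h

end Groth.Agent.Helper5.FibGrp
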