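import Mathlib
import Groth.Prelude
import Groth.Agent.Helper5.FibGrp1

set_option autoImplicit false
set_option linter.unusedSectionVars false
set_option linter.style.haveILetI false
universe u

open AlgebraicGeometry CategoryTheory CategoryTheory.Limits TopologicalSpace
open MonoidalCategory CartesianMonoidalCategory MonObj GrpObj

namespace Groth.Agent.Helper5.FibGrp

variable {S : Scheme.{u}} (G H : Over S) [GrpObj G] [GrpObj H] (f : G ⟶ H) [IsMonHom f]

/-- fibre maps of a surjective homomorphism onto a group scheme with reduced fibres are flat -/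
theorem flat_fibreMap [Surjective f.left] (s : S) [IsReduced (H.hom.fiber s)] :
    Flat (pullback.snd f.left (H.hom.fiberι s)) := by
  refine fibreMap_of_bc G H f @Flat s ?_
  let j := S.fromSpecResidueField s
  let G' : Over (Spec (CommRingCat.of ↑(S.residueField s))) := Red.bc j G
  let H' : Over (Spec (CommRingCat.of ↑(S.residueField s))) := Red.bc j H
  let f' : G' ⟶ H' := (Over.pullback j).map f
  haveI : IsMonHom f' := inferInstance
  haveI : Surjective f'.left := Groth.Agent.Helper2.HS9.surjective_pullback_map j f inferInstance
  haveI : IsReduced H'.left := ‹IsReduced (H.hom.fiber s)›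
  exact flat_of_surjective_of_isReduced (S.residueField s) G' H' f'

theorem s7800 [LocallyOfFinitePresentation G.hom] [Flat G.hom]
    [LocallyOfFinitePresentation H.hom] [GeometricallyReduced H.hom]
    [Surjective f.left] : Flat f.left ∧ Flat H.hom := by
  haveI : LocallyOfFinitePresentation (f.left ≫ H.hom) := by rw [Over.w f]; infer_instance
  haveI : Flat (f.left ≫ H.hom) := by rw [Over.w f]; infer_instance
  have hfib : ∀ s, Flat (pullback.snd f.left (H.hom.fiberι s)) := fun s => flat_fibreMap G H f s
  refine ⟨Groth.Agent.Helper5.FibFlat.flat_of_fibres f.left H.hom hfib, ?_⟩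
  rw [Flat.iff_flat_stalkMap]
  intro y
  obtain ⟨x, rfl⟩ := f.left.surjective y
  exact (Groth.Agent.Helper5.FibFlat.flat_of_fibreMap_flat f.left H.hom hfib x).1

end Groth.Agent.Helper5.FibGrp
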