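import Mathlib
import Groth.Prelude
import Groth.Agent.Helper5.FibGrp2
import Groth.Agent.Helper5.RedDesc

set_option autoImplicit false
set_option linter.unusedSectionVars false
set_option linter.style.haveILetI false
universe u

open AlgebraicGeometry CategoryTheory CategoryTheory.Limits TopologicalSpace
open MonoidalCategory CartesianMonoidalCategory MonObj GrpObj

namespace Groth.Agent.Helper5.FibGrp

variable {S : Scheme.{u}} (G H : Over S) [GrpObj G] [GrpObj H] (f : G ⟶ H) [IsMonHom f]

theorem flat_of_surjective_of_reduced_fibres [LocallyOfFinitePresentation G.hom] [Flat G.hom]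
    [LocallyOfFinitePresentation H.hom] (hred : ∀ s, IsReduced (H.hom.fiber s))
    [Surjective f.left] : Flat f.left := by
  haveI : LocallyOfFinitePresentation (f.left ≫ H.hom) := by rw [Over.w f]; infer_instance
  haveI : Flat (f.left ≫ H.hom) := by rw [Over.w f]; infer_instance
  have hfib : ∀ s, Flat (pullback.snd f.left (H.hom.fiberι s)) := fun s => by
    haveI := hred s
    exact flat_fibreMap G H f s
  exact Groth.Agent.Helper5.FibFlat.flat_of_fibres f.left H.hom hfib

/-- the range of a homomorphism contains the unit section -/
theorem unit_mem_range (s : S) : η[H].left s ∈ Set.range f.left := by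
  refine ⟨η[G].left s, ?_⟩
  rw [← Scheme.Hom.comp_apply, ← Over.comp_left, IsMonHom.one_hom]

theorem surjective_of_isClopen_range [GeometricallyConnected H.hom]
    (hcl : IsClopen (Set.range f.left)) : Surjective f.left := by
  refine ⟨fun y => ?_⟩
  let s : S := H.hom y
  have hconn := H.hom.isConnected_preimage_singleton s
  have hsub : H.hom ⁻¹' {s} ⊆ Set.range f.left := by
    refine hconn.isPreconnected.subset_isClopen hcl ⟨η[H].left s, ?_, unit_mem_range G H f s⟩
    show H.hom (η[H].left s) = s
    rw [← Scheme.Hom.comp_apply, Over.w η[H]]
    rfl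
  exact hsub rfl

theorem s19659 (A B : Over S) [GrpObj A] [IsProper A.hom] [Smooth A.hom]
    [GeometricallyConnected A.hom]
    [GrpObj B] [IsProper B.hom] [Smooth B.hom] [GeometricallyConnected B.hom]
    (f : A ⟶ B) [IsMonHom f] :
    Flat f.left ↔ Surjective f.left := by
  haveI hprop : IsProper f.left := by
    have : IsProper (f.left ≫ B.hom) := by rw [Over.w f]; infer_instance
    exact IsProper.of_comp f.left B.hom
  constructor
  · intro hfl
    haveI : LocallyOfFinitePresentation f.left := by
      have : LocallyOfFinitePresentation (f.left ≫ B.hom) := by rw [Over.w f]; infer_instance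
      exact Groth.Agent.Helper2.LfpComp.locallyOfFinitePresentation_of_comp f.left B.hom this
        inferInstance
    have hopen : IsOpen (Set.range f.left) := f.left.isOpenMap.isOpen_range
    have hclosed : IsClosed (Set.range f.left) := f.left.isClosedMap.isClosed_range
    exact surjective_of_isClopen_range A B f ⟨hclosed, hopen⟩
  · intro hsurj
    refine flat_of_surjective_of_reduced_fibres A B f (fun s => ?_)
    haveI : Smooth (B.hom.fiberToSpecResidueField s) :=
      inferInstanceAs (Smooth (pullback.snd B.hom (S.fromSpecResidueField s)))
    exact Groth.Agent.Helper5.RedDesc.isReduced_of_smooth (B.hom.fiberToSpecResidueField s)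

end Groth.Agent.Helper5.FibGrp
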