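import Groth.Agent.Helper5.DimFormula8
import Groth.Agent.Helper5.VarDim15
import Groth.Agent.Helper5.EtDim

set_option autoImplicit false
universe u
open AlgebraicGeometry CategoryTheory TopologicalSpace

namespace Groth.Agent.Helper5.DimFormula

/-- For a closed continuous map, chains of specialisations below `f x` lift to chains below `x`:
`dim closure{f x} ≤ dim closure{x}`. -/
theorem height_apply_le_of_isClosedMap {X Y : Scheme.{u}} (f : X ⟶ Y) (hcl : IsClosedMap f) :
    ∀ x : X, Order.height (f x) ≤ Order.height x := by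
  have key : ∀ n : ℕ, ∀ x : X, (n : ℕ∞) ≤ Order.height (f x) → (n : ℕ∞) ≤ Order.height x := by
    intro n
    induction n with
    | zero => intro x _; simp
    | succ n ih =>
      intro x hx
      have h1 : ¬ Order.height (f x) ≤ (n : ℕ∞) := by
        intro h
        have := hx.trans h
        have h2 : ((n + 1 : ℕ) : ℕ∞) ≤ (n : ℕ∞) := this
        rw [Nat.cast_le] at h2
        omega
      rw [Order.height_le_coe_iff] at h1
      push Not at h1
      obtain ⟨y', hy'lt, hy'⟩ := h1
      -- lift `y'` to a specialisation of `x`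
      have hy'sp : f x ⤳ y' := Scheme.le_iff_specializes.1 hy'lt.le
      have himg : y' ∈ f '' closure ({x} : Set X) := by
        have hc : IsClosed (f '' closure ({x} : Set X)) := hcl _ isClosed_closure
        have hsub : closure ({f x} : Set Y) ⊆ f '' closure ({x} : Set X) := by
          apply hc.closure_subset_iff.2
          rintro _ rfl
          exact ⟨x, subset_closure rfl, rfl⟩
        exact hsub (specializes_iff_mem_closure.1 hy'sp)
      obtain ⟨x', hx'cl, rfl⟩ := himg
      have hx'sp : x ⤳ x' := specializes_iff_mem_closure.2 hx'cl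
      have hx'lt : x' < x := by
        refine lt_of_le_not_ge (Scheme.le_iff_specializes.2 hx'sp) ?_
        intro hge
        have h3 : x' ⤳ x := Scheme.le_iff_specializes.1 hge
        have h4 : f x' ⤳ f x := h3.map f.continuous
        exact hy'lt.not_ge (Scheme.le_iff_specializes.2 h4)
      have h5 := ih x' hy'
      have h6 := Order.height_add_one_le hx'lt
      calc ((n + 1 : ℕ) : ℕ∞) = (n : ℕ∞) + 1 := by push_cast; rfl
        _ ≤ Order.height x' + 1 := by gcongr
        _ ≤ Order.height x := h6
  intro x
  exact ENat.forall_natCast_le_iff_le.1 (fun n hn => key n x hn)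

theorem topologicalKrullDim_eq_krullDim (X : Scheme.{u}) :
    topologicalKrullDim ↥X = Order.krullDim ↥X := by
  rw [topologicalKrullDim, Order.krullDim_eq_of_orderIso (irreducibleSetEquivPoints (α := ↥X))]

/-- For a closed dominant morphism locally of finite type between integral schemes,
`dim Y + trdeg ≤ dim X`. -/
theorem dim_ge_of_isClosedMap {X Y : Scheme.{u}} [IsIntegral X] [IsIntegral Y] (f : X ⟶ Y)
    [IsDominant f] [LocallyOfFiniteType f] (n : ℕ)
    (hn : @Algebra.trdeg (Y.residueField (f (genericPoint ↥X))) (X.residueField (genericPoint ↥X))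
      _ _ (f.residueFieldMap (genericPoint ↥X)).hom.toAlgebra = n)
    (hcl : IsClosedMap f) :
    topologicalKrullDim ↥Y + n ≤ topologicalKrullDim ↥X := by
  let ξ := genericPoint ↥X
  have hξ : closure ({ξ} : Set X) = Set.univ := genericPoint_closure X
  let η := f ξ
  have hη : closure ({η} : Set Y) = Set.univ := by
    have hdense : DenseRange f := f.denseRange
    have h1 : Set.range f ⊆ closure ({η} : Set Y) := by
      rintro _ ⟨x, rfl⟩
      have hx : ξ ⤳ x := by
        rw [specializes_iff_mem_closure, hξ]; trivial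
      exact specializes_iff_mem_closure.1 (hx.map f.continuous)
    have h2 := closure_minimal h1 isClosed_closure
    rw [hdense.closure_range] at h2
    exact Set.eq_univ_of_univ_subset h2
  have hft : LocallyOfFiniteType (f.fiberToSpecResidueField η) :=
    inferInstanceAs (LocallyOfFiniteType (Limits.pullback.snd f (Y.fromSpecResidueField η)))
  let ζ : ↥(f.fiber η) := f.asFiber ξ
  have hζ := Groth.Agent.Helper5.VarDim.closure_asFiber_eq_univ f ξ hξ
  obtain ⟨m, hm1, hm2⟩ := Groth.Agent.Helper5.VarDim.dim_eq_trdeg_generic (Y.residueField η)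
    (f.fiberToSpecResidueField η) ζ hζ
  rw [Groth.Agent.Helper5.VarDim.trdeg_fiber f ξ, hn] at hm2
  have hmn : n = m := by exact_mod_cast hm2
  subst hmn
  -- a point of the generic fibre of maximal coheight
  rw [Groth.Agent.Helper5.EtDim.topologicalKrullDim_eq_iSup_coheight] at hm1
  have hne : Nonempty ↥(f.fiber η) := ⟨ζ⟩
  have hsup : (⨆ z : ↥(f.fiber η), Order.coheight z) = (n : ℕ∞) := by
    have h1 : ((⨆ z : ↥(f.fiber η), Order.coheight z : ℕ∞) : WithBot ℕ∞) = (n : WithBot ℕ∞) := by
      rw [WithBot.coe_iSup (OrderTop.bddAbove _)]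
      exact hm1
    exact_mod_cast h1
  obtain ⟨z, hz⟩ := ENat.exists_eq_iSup_of_lt_top (f := fun z : ↥(f.fiber η) => Order.coheight z)
    (by rw [hsup]; exact ENat.natCast_lt_top n)
  rw [hsup] at hz
  let x0 : X := f.fiberι η z
  have hfx0 : f x0 = η := Groth.Agent.Helper5.VarDim.apply_fiberι f η z
  have hmono : StrictMono (f.fiberι η) := by
    intro a b hab
    have hle : ∀ a b : ↥(f.fiber η), a ≤ b ↔ f.fiberι η a ≤ f.fiberι η b := by
      intro a b
      rw [Scheme.le_iff_specializes, Scheme.le_iff_specializes,
        (f.fiberι η).isEmbedding.isInducing.specializes_iff]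
    rw [lt_iff_le_not_ge] at hab ⊢
    rw [← hle, ← hle]
    exact hab
  have h7 : (n : ℕ∞) ≤ Order.coheight x0 := by
    rw [← hz]
    exact Order.coheight_le_coheight_apply_of_strictMono _ hmono z
  have h8 : Order.height η ≤ Order.height x0 := by
    rw [← hfx0]
    exact height_apply_le_of_isClosedMap f hcl x0
  have h9 : topologicalKrullDim ↥Y ≤ ((Order.height η : ℕ∞) : WithBot ℕ∞) := by
    rw [topologicalKrullDim_eq_krullDim, Order.krullDim_eq_iSup_height]
    refine iSup_le fun y => ?_
    have : y ≤ η := by
      rw [Scheme.le_iff_specializes, specializes_iff_mem_closure, hη]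
      trivial
    exact_mod_cast Order.height_mono this
  have h10 : ((Order.height x0 + Order.coheight x0 : ℕ∞) : WithBot ℕ∞) ≤ topologicalKrullDim ↥X := by
    rw [topologicalKrullDim_eq_krullDim]
    have : Nonempty ↥X := ⟨x0⟩
    rw [Order.krullDim_eq_iSup_height_add_coheight_of_nonempty]
    exact_mod_cast le_iSup (fun a : ↥X => Order.height a + Order.coheight a) x0
  refine le_trans ?_ h10
  calc topologicalKrullDim ↥Y + (n : WithBot ℕ∞)
      ≤ ((Order.height η : ℕ∞) : WithBot ℕ∞) + (n : WithBot ℕ∞) := by gcongr
    _ = ((Order.height η + (n : ℕ∞) : ℕ∞) : WithBot ℕ∞) := by push_cast; rfl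
    _ ≤ ((Order.height x0 + Order.coheight x0 : ℕ∞) : WithBot ℕ∞) := by
        exact_mod_cast add_le_add h8 h7

end Groth.Agent.Helper5.DimFormula
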