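import Mathlib
import Groth.Prelude
import Groth.Agent.Helper5.DomHom1

set_option autoImplicit false
set_option linter.unusedSectionVars false
set_option linter.style.haveILetI false
universe u

open AlgebraicGeometry CategoryTheory CategoryTheory.Limits TopologicalSpace
open MonoidalCategory CartesianMonoidalCategory MonObj GrpObj

namespace Groth.Agent.Helper5.DomHom

open Groth.Agent.Helper5.GrpDense

variable (k : Type u) [Field k] (G H : Over (Spec (CommRingCat.of k))) [GrpObj G] [GrpObj H]
  (f : G ⟶ H) [IsMonHom f] [QuasiCompact f.left]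

theorem surjective_of_dominant (hf : DenseRange f.left.base) : Surjective f.left := by
  constructor
  intro h
  let T : Over (Spec (CommRingCat.of k)) := Over.mk (H.left.fromSpecResidueField h ≫ H.hom)
  let h' : T ⟶ H := Over.homMk (H.left.fromSpecResidueField h) rfl
  let fT : G ⊗ T ⟶ H ⊗ T := f ▷ T
  let θ : G ⊗ T ⟶ H ⊗ T := fT ≫ invTransl' H T h'
  haveI hqc : QuasiCompact fT.left :=
    MorphismProperty.of_isPullback (P := @QuasiCompact) (isPullback_whiskerRight f T).flip
      inferInstance
  have hdom : Dense (Set.range fT.left) := by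
    rw [range_whiskerRight f T]
    exact Dense.preimage hf (isOpenMap_fst_of_artinian k H T)
  haveI : IsDominant fT.left := ⟨hdom⟩
  haveI hiso : IsIso (invTransl' H T h') :=
    ⟨invTransl H T h', invTransl'_comp H T h', invTransl_comp H T h'⟩
  haveI hiso' : IsIso (invTransl' H T h').left :=
    (Over.forget _).map_isIso (invTransl' H T h')
  have hθl : θ.left = fT.left ≫ (invTransl' H T h').left := rfl
  haveI : QuasiCompact θ.left := by rw [hθl]; infer_instance
  haveI : IsDominant θ.left := by rw [hθl]; infer_instance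
  -- a maximal point of `H ⊗ T`
  let t₀ : T.left := IsLocalRing.closedPoint _
  let c₀ : (H ⊗ T).left := (lift h' (𝟙 T)).left t₀
  obtain ⟨ξ, hξ, -⟩ := Groth.Agent.Helper5.NeronEt.exists_generic_specializes c₀
  obtain ⟨a, ha⟩ := Groth.Agent.Helper5.NeronEt.mem_range_of_mem_genericPoints fT.left ξ hξ
  obtain ⟨b, hb⟩ := Groth.Agent.Helper5.NeronEt.mem_range_of_mem_genericPoints θ.left ξ hξ
  obtain ⟨p, -, -⟩ := Scheme.Pullback.exists_preimage_pullback (f := fT.left) (g := θ.left) a b
    (ha.trans hb.symm)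
  let P : Over (Spec (CommRingCat.of k)) := Over.mk (pullback.fst fT.left θ.left ≫ (G ⊗ T).hom)
  let p1 : P ⟶ G ⊗ T := Over.homMk (pullback.fst fT.left θ.left) rfl
  have hw2 : pullback.snd fT.left θ.left ≫ (G ⊗ T).hom =
      pullback.fst fT.left θ.left ≫ (G ⊗ T).hom := by
    have e1 := Over.w θ
    have e2 := Over.w fT
    calc pullback.snd fT.left θ.left ≫ (G ⊗ T).hom
        = (pullback.snd fT.left θ.left ≫ θ.left) ≫ (H ⊗ T).hom := by
          rw [Category.assoc, e1]
      _ = (pullback.fst fT.left θ.left ≫ fT.left) ≫ (H ⊗ T).hom := by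
          rw [pullback.condition]
      _ = pullback.fst fT.left θ.left ≫ (G ⊗ T).hom := by
          rw [Category.assoc, e2]
  let p2 : P ⟶ G ⊗ T := Over.homMk (pullback.snd fT.left θ.left) hw2
  have hcond : p1 ≫ fT = p2 ≫ θ := Over.OverMorphism.ext pullback.condition
  let g1 : P ⟶ G := p1 ≫ fst G T
  let g2 : P ⟶ G := p2 ≫ fst G T
  let τ : P ⟶ T := p2 ≫ snd G T
  have e1 : g1 ≫ f = (τ ≫ h') * (g2 ≫ f)⁻¹ := by
    have h1 := congrArg (fun m => m ≫ fst H T) hcond
    simp only [Category.assoc, fT, θ, whiskerRight_fst, invTransl'_fst] at h1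
    rw [MonObj.comp_mul, GrpObj.comp_inv, MonObj.comp_mul, GrpObj.comp_inv] at h1
    simpa [g1, g2, τ, Category.assoc] using h1
  have e2 : τ ≫ h' = (g1 * g2) ≫ f := by
    rw [MonObj.mul_comp, e1, inv_mul_cancel_right]
  refine ⟨(g1 * g2).left p, ?_⟩
  have e3 : (τ ≫ h').left p = h := by
    show h'.left (τ.left p) = h
    exact Scheme.fromSpecResidueField_apply _ _
  rw [← e3, e2]
  rfl

theorem s5355 (hf : DenseRange f.left.base) :
    Surjective f.left ∧ (IsReduced H.left → Flat f.left) :=
  ⟨surjective_of_dominant k G H f hf, fun _ => flat_of_dominant_of_isReduced k G H f hf⟩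

end Groth.Agent.Helper5.DomHom
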