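import Groth.Agent.Helper5.NoeStalk2
import Groth.Agent.Helper5.FibDim7
import Groth.Agent.Helper5.FibBound
import Groth.Agent.Helper5.KLem7

set_option autoImplicit false
universe u

namespace Groth.Agent.Helper5.QfAt

open CategoryTheory CategoryTheory.Limits AlgebraicGeometry TopologicalSpace Topology
open Groth.Agent.Helper5.KLem Groth.Agent.Helper5.FibDim

/-- at a quasi-finite point the local fibre dimension vanishes -/
theorem fibreDimAt_eq_zero_of_quasiFiniteAt {X Y : Scheme.{u}} (f : X ⟶ Y) [LocallyOfFiniteType f]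
    (x : X) (h : f.QuasiFiniteAt x) : FlatMor.fibreDimAt f x = 0 := by
  have hopen : IsOpen ({f.asFiber x} : Set ↥(f.fiber (f x))) :=
    Scheme.Hom.quasiFiniteAt_iff_isOpen_singleton_asFiber.mp h
  obtain ⟨m, hm⟩ := Groth.Agent.Helper5.SubDim.fibreDimAt_nat f x
  have hle : FlatMor.fibreDimAt f x ≤ 0 := by
    unfold FlatMor.fibreDimAt FlatMor.localDim
    refine (iInf_le _ ⟨⟨{f.asFiber x}, hopen⟩, rfl⟩).trans ?_
    show topologicalKrullDim ↥({f.asFiber x} : Set ↥(f.fiber (f x))) ≤ 0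
    exact topologicalKrullDim_zero_of_discreteTopology _
  rw [hm] at hle ⊢
  have : m = 0 := by
    have : (m : WithBot ℕ∞) ≤ ((0 : ℕ) : WithBot ℕ∞) := hle
    have : m ≤ 0 := by exact_mod_cast this
    omega
  rw [this]
  rfl

/-- a point with vanishing local fibre dimension is a quasi-finite point -/
theorem quasiFiniteAt_of_fibreDimAt_le_zero {X Y : Scheme.{u}} (f : X ⟶ Y) [LocallyOfFiniteType f]
    (x : X) (h : FlatMor.fibreDimAt f x ≤ 0) : f.QuasiFiniteAt x := by
  obtain ⟨W, hWopen, hxW, hW⟩ := exists_open_fibreDimAt_eq f x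
  let U : X.Opens := ⟨W, hWopen⟩
  let f' : (U : Scheme.{u}) ⟶ Y := U.ι ≫ f
  let x' : ↥(U : Scheme.{u}) := ⟨x, hxW⟩
  have hx' : U.ι x' = x := rfl
  rw [← hx', ← Scheme.Hom.quasiFiniteAt_comp_iff_of_isOpenImmersion]
  show f'.QuasiFiniteAt x'
  rw [Scheme.Hom.quasiFiniteAt_iff_isOpen_singleton_asFiber]
  have hιemb : Topology.IsEmbedding (U.ι : ↥(U : Scheme.{u}) → ↥X) :=
    U.ι.isOpenEmbedding.isEmbedding
  have hrange : Set.range (U.ι : ↥(U : Scheme.{u}) → ↥X) = W := U.range_ι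
  have hpre : (f' ⁻¹' {f' x'} : Set ↥(U : Scheme.{u})) = U.ι ⁻¹' (f ⁻¹' {f x}) := by
    ext z
    simp only [Set.mem_preimage, Set.mem_singleton_iff, f', Scheme.Hom.comp_apply]
    rfl
  have hdim : topologicalKrullDim ↥(f'.fiber (f' x')) ≤ 0 := by
    rw [dim_fiber_eq_preimage, hpre, ← dim_range_inter_eq _ hιemb, hrange, hW]
    exact h
  have hlft : LocallyOfFiniteType (f'.fiberToSpecResidueField (f' x')) :=
    inferInstanceAs (LocallyOfFiniteType (pullback.snd f' (Y.fromSpecResidueField (f' x'))))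
  have hN : IsLocallyNoetherian (f'.fiber (f' x')) :=
    LocallyOfFiniteType.isLocallyNoetherian (f'.fiberToSpecResidueField (f' x'))
  have hA : IsLocallyArtinian (f'.fiber (f' x')) :=
    IsLocallyArtinian.of_topologicalKrullDim_le_zero hdim
  exact isOpen_discrete _

theorem s1608 {X Y : Scheme.{u}} (f : X ⟶ Y) [LocallyOfFiniteType f]
    (y : Y) [IsNoetherianRing (Y.presheaf.stalk y)] (hy : ringKrullDim (Y.presheaf.stalk y) ≤ 1)
    (hgen : ∀ Z ∈ irreducibleComponents (X : Type u), ∀ η : X, IsGenericPoint η Z → f.QuasiFiniteAt η)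
    (x : X) (hx : f.base x = y) : f.QuasiFiniteAt x := by
  subst hx
  apply quasiFiniteAt_of_fibreDimAt_le_zero
  have h1 := Groth.Agent.Helper5.NoeStalk.s1554 f x hy 0 (fun Z hZ _ η hη => by
    rw [fibreDimAt_eq_zero_of_quasiFiniteAt f η (hgen Z hZ η hη)]
    rfl)
  rw [h1]
  rfl

end Groth.Agent.Helper5.QfAt
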