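import Mathlib
import Groth.Prelude
import Groth.Agent.Helper5.GrpDim1
import Groth.Agent.Helper5.DomHom2
import Groth.Agent.Helper5.QfAt1
import Groth.Agent.Helper5.FibBound
import Groth.Agent.Helper5.DimFormula9
import Groth.Agent.Helper5.RedDesc
import Groth.Agent.Helper2.HS6

set_option autoImplicit false
set_option linter.unusedSectionVars false
set_option linter.style.haveILetI false
universe u

open AlgebraicGeometry CategoryTheory CategoryTheory.Limits
open MonoidalCategory CartesianMonoidalCategory MonObj

namespace Groth.Agent.Helper5.GrpDim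

variable (k : Type u) [Field k] (G H : Over (Spec (CommRingCat.of k))) [GrpObj G] [GrpObj H]
  [LocallyOfFiniteType G.hom] [LocallyOfFiniteType H.hom]

/-- a flat morphism between group schemes locally of finite type over a field of the same
dimension is locally quasi-finite -/
theorem locallyQuasiFinite_of_flat (f : G ⟶ H) [Flat f.left]
    (hdim : topologicalKrullDim G.left = topologicalKrullDim H.left) :
    LocallyQuasiFinite f.left := by
  haveI hlft : LocallyOfFiniteType f.left := by
    have : LocallyOfFiniteType (f.left ≫ H.hom) := by rw [Over.w f]; infer_instance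
    exact locallyOfFiniteType_of_comp f.left H.hom
  rw [← Scheme.Hom.quasiFiniteLocus_eq_top_iff]
  ext x
  simp only [Scheme.Hom.mem_quasiFiniteLocus, TopologicalSpace.Opens.coe_top, Set.mem_univ,
    iff_true, SetLike.mem_coe]
  apply Groth.Agent.Helper5.QfAt.quasiFiniteAt_of_fibreDimAt_le_zero
  have h1 := Groth.Agent.Helper5.VarDim.flat_formula k G.hom H.hom f.left (Over.w f) x
    (Flat.stalkMap f.left x)
  rw [localDim_eq_dim k G x, localDim_eq_dim k H (f.left x), ← hdim] at h1
  obtain ⟨n, hn⟩ := exists_nat_localDim k G.hom x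
  rw [localDim_eq_dim k G x] at hn
  obtain ⟨m, hm⟩ := Groth.Agent.Helper5.SubDim.fibreDimAt_nat f.left x
  rw [hn, hm] at h1
  rw [hm]
  have : n = n + m := by exact_mod_cast h1
  have : m = 0 := by omega
  rw [this]
  rfl


/-- a locally quasi-finite morphism is injective on specialization chains in a fibre -/
theorem eq_of_specializes_of_lqf {X Y : Scheme.{u}} (f : X ⟶ Y) [LocallyQuasiFinite f]
    {x x' : X} (h : x' ⤳ x) (hf : f x' = f x) : x' = x := by
  have hd := f.isDiscrete_preimage_singleton (f x)
  rw [isDiscrete_iff_discreteTopology, discreteTopology_iff_isOpen_singleton] at hd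
  have h1 := hd ⟨x, rfl⟩
  obtain ⟨U, hU, hUe⟩ := isOpen_induced_iff.mp h1
  have hxU : x ∈ U := by
    have : (⟨x, rfl⟩ : ↥(f ⁻¹' {f x})) ∈ Subtype.val ⁻¹' U := by rw [hUe]; rfl
    exact this
  have hx'U : x' ∈ U := h.mem_open hU hxU
  have : (⟨x', hf⟩ : ↥(f ⁻¹' {f x})) ∈ Subtype.val ⁻¹' U := hx'U
  rw [hUe] at this
  exact congrArg Subtype.val this

theorem strictMono_of_lqf {X Y : Scheme.{u}} (f : X ⟶ Y) [LocallyQuasiFinite f] :
    StrictMono (fun x : ↥X => f x) := by
  intro a b hab
  obtain ⟨h1, h2⟩ := hab
  have h1' : b ⤳ a := Scheme.le_iff_specializes.1 h1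
  have h3 : f b ⤳ f a := h1'.map f.continuous
  refine lt_iff_le_not_ge.2 ⟨Scheme.le_iff_specializes.2 h3, ?_⟩
  intro h4
  have heq : f b = f a := (h3.antisymm (Scheme.le_iff_specializes.1 h4)).eq
  have := eq_of_specializes_of_lqf f h1' heq
  exact h2 (this ▸ le_rfl)

/-- a locally quasi-finite morphism with closed image between schemes of the same finite
dimension, the target being irreducible, is surjective -/
theorem surjective_of_lqf {X Y : Scheme.{u}} (f : X ⟶ Y) [LocallyQuasiFinite f]
    [IrreducibleSpace Y] (hcl : IsClosed (Set.range f)) (n : ℕ)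
    (hX : topologicalKrullDim X = n) (hY : topologicalKrullDim Y = n) :
    Function.Surjective f := by
  by_contra hns
  have hη : genericPoint Y ∉ Set.range f := by
    intro hmem
    apply hns
    intro y
    have : genericPoint Y ⤳ y := genericPoint_specializes y
    exact this.mem_closed hcl hmem
  have key : Order.krullDim ↥X + 1 ≤ Order.krullDim ↥Y := by
    refine Groth.Agent.Helper5.SurjDim.krullDim_succ_le_of_forall fun l => ?_
    let l1 : LTSeries ↥Y := l.map (fun x : ↥X => f x) (strictMono_of_lqf f)
    have hlast : l1.last < genericPoint Y := by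
      refine lt_iff_le_not_ge.2 ⟨Scheme.le_iff_specializes.2 (genericPoint_specializes _), ?_⟩
      intro h4
      have heq : l1.last = genericPoint Y :=
        ((Scheme.le_iff_specializes.1 h4).antisymm (genericPoint_specializes _)).eq
      apply hη
      refine ⟨l.last, ?_⟩
      rw [← heq]
      rfl
    exact ⟨l1.snoc (genericPoint Y) hlast, by simp [l1]⟩
  rw [← Groth.Agent.Helper5.DimFormula.topologicalKrullDim_eq_krullDim,
    ← Groth.Agent.Helper5.DimFormula.topologicalKrullDim_eq_krullDim, hX, hY] at key
  have : (n : ℕ∞) + 1 ≤ n := by exact_mod_cast key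
  have h2 : ((n + 1 : ℕ) : ℕ∞) ≤ (n : ℕ∞) := by exact_mod_cast this
  have : n + 1 ≤ n := by exact_mod_cast h2
  omega


instance : Subsingleton ↥(Spec (CommRingCat.of k)) :=
  inferInstanceAs (Subsingleton (PrimeSpectrum k))

/-- the dimension of a group scheme locally of finite type over a field is a natural number -/
theorem exists_nat_dim : ∃ n : ℕ, topologicalKrullDim G.left = (n : WithBot ℕ∞) := by
  let pt : (𝟙_ (Over (Spec (CommRingCat.of k)))).left := IsLocalRing.closedPoint k
  obtain ⟨n, hn⟩ := exists_nat_localDim k G.hom (η[G].left pt)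
  exact ⟨n, by rw [← hn, localDim_eq_dim]⟩

theorem s19572 (X Y : Over (Spec (CommRingCat.of k)))
    [GrpObj X] [IsProper X.hom] [GeometricallyIntegral X.hom]
    [GrpObj Y] [IsProper Y.hom] [GeometricallyIntegral Y.hom]
    (f : X ⟶ Y) [IsMonHom f] [Surjective f.left]
    (hdim : topologicalKrullDim X.left = topologicalKrullDim Y.left) :
    IsFinite f.left ∧ Flat f.left := by
  haveI : IsIntegral Y.left := GeometricallyIntegral.isIntegral_of_subsingleton Y.hom
  haveI hprop : IsProper f.left := by
    have : IsProper (f.left ≫ Y.hom) := by rw [Over.w f]; infer_instance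
    exact IsProper.of_comp f.left Y.hom
  haveI : Flat f.left :=
    Groth.Agent.Helper5.DomHom.flat_of_dominant_of_isReduced k X Y f f.left.surjective.denseRange
  haveI := locallyQuasiFinite_of_flat k X Y f hdim
  exact ⟨IsFinite.of_isProper_of_locallyQuasiFinite f.left, inferInstance⟩

theorem s17255 (A B : Over (Spec (CommRingCat.of k)))
    [GrpObj A] [Smooth A.hom] [IsProper A.hom] [GeometricallyConnected A.hom]
    [GrpObj B] [Smooth B.hom] [IsProper B.hom] [GeometricallyConnected B.hom]
    (f : A ⟶ B) [IsMonHom f] (hdim : topologicalKrullDim A.left = topologicalKrullDim B.left) :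
    Flat f.left ↔ IsFinite f.left := by
  haveI hprop : IsProper f.left := by
    have : IsProper (f.left ≫ B.hom) := by rw [Over.w f]; infer_instance
    exact IsProper.of_comp f.left B.hom
  constructor
  · intro hfl
    haveI := locallyQuasiFinite_of_flat k A B f hdim
    exact IsFinite.of_isProper_of_locallyQuasiFinite f.left
  · intro hfin
    let pt : (𝟙_ (Over (Spec (CommRingCat.of k)))).left := IsLocalRing.closedPoint k
    haveI : ConnectedSpace B.left := GeometricallyConnected.connectedSpace_of_subsingleton B.hom
    haveI : IrreducibleSpace B.left :=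
      Groth.Agent.Helper2.HS6.irreducibleSpace_of_connectedSpace B pt
    obtain ⟨n, hn⟩ := exists_nat_dim k A
    have hsurj := surjective_of_lqf f.left f.left.isClosedMap.isClosed_range n hn (hdim ▸ hn)
    haveI : IsReduced B.left := Groth.Agent.Helper5.RedDesc.isReduced_of_smooth B.hom
    exact Groth.Agent.Helper5.DomHom.flat_of_dominant_of_isReduced k A B f hsurj.denseRange

end Groth.Agent.Helper5.GrpDim
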