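import Mathlib
import Groth.Prelude
import Groth.Agent.Helper5.FibGrp3
import Groth.Agent.Helper5.GrpDim2

set_option autoImplicit false
set_option linter.unusedSectionVars false
set_option linter.style.haveILetI false
universe u

open AlgebraicGeometry CategoryTheory CategoryTheory.Limits TopologicalSpace
open MonoidalCategory CartesianMonoidalCategory MonObj GrpObj

namespace Groth.Agent.Helper5.FibGrp

variable {S : Scheme.{u}} (G H : Over S) [GrpObj G] [GrpObj H] (f : G ⟶ H) [IsMonHom f]

/-- base-changing a property of `f` to the fibre map -/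
theorem fb_of (P : MorphismProperty Scheme.{u}) [P.IsStableUnderBaseChange] (s : S)
    (h : P f.left) : P (fb G H f s) :=
  MorphismProperty.of_isPullback (isPullback_bc G H f s) h

/-- a flat homomorphism with locally quasi-finite fibres: fibre dimensions agree -/
theorem dim_fiber_eq_of_flat_of_lqf [LocallyOfFiniteType G.hom] [LocallyOfFiniteType H.hom]
    [Flat f.left] [LocallyQuasiFinite f.left] (s : S) :
    topologicalKrullDim ↥(G.hom.fiber s) = topologicalKrullDim ↥(H.hom.fiber s) := by
  let j := S.fromSpecResidueField s
  let G' : Over (Spec (CommRingCat.of ↑(S.residueField s))) := Red.bc j G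
  let H' : Over (Spec (CommRingCat.of ↑(S.residueField s))) := Red.bc j H
  let f' : G' ⟶ H' := (Over.pullback j).map f
  haveI : LocallyOfFiniteType G'.hom :=
    inferInstanceAs (LocallyOfFiniteType (pullback.snd G.hom j))
  haveI : LocallyOfFiniteType H'.hom :=
    inferInstanceAs (LocallyOfFiniteType (pullback.snd H.hom j))
  haveI hfl : Flat f'.left := fb_of G H f @Flat s inferInstance
  haveI hqf : LocallyQuasiFinite f'.left := fb_of G H f @LocallyQuasiFinite s inferInstance
  haveI hlft : LocallyOfFiniteType f'.left := by
    have : LocallyOfFiniteType (f'.left ≫ H'.hom) := by rw [Over.w f']; infer_instance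
    exact locallyOfFiniteType_of_comp f'.left H'.hom
  let pt : (𝟙_ (Over (Spec (CommRingCat.of ↑(S.residueField s))))).left :=
    IsLocalRing.closedPoint (S.residueField s)
  let x : G'.left := η[G'].left pt
  have h1 := Groth.Agent.Helper5.VarDim.flat_formula (S.residueField s) G'.hom H'.hom f'.left
    (Over.w f') x (Flat.stalkMap f'.left x)
  have hq : f'.left.QuasiFiniteAt x := by
    have := Scheme.Hom.quasiFiniteLocus_eq_top (f := f'.left)
    have hx : x ∈ f'.left.quasiFiniteLocus := by rw [this]; trivial
    exact hx
  rw [Groth.Agent.Helper5.QfAt.fibreDimAt_eq_zero_of_quasiFiniteAt f'.left x hq, add_zero,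
    Groth.Agent.Helper5.GrpDim.localDim_eq_dim, Groth.Agent.Helper5.GrpDim.localDim_eq_dim] at h1
  exact h1

theorem s7801 (X Y : Over S) [GrpObj X] [IsProper X.hom] [Flat X.hom]
    [LocallyOfFinitePresentation X.hom] [GeometricallyReduced X.hom]
    [GeometricallyConnected X.hom]
    [GrpObj Y] [IsProper Y.hom] [Flat Y.hom] [LocallyOfFinitePresentation Y.hom]
    [GeometricallyReduced Y.hom] [GeometricallyConnected Y.hom]
    (f : X ⟶ Y) [IsMonHom f] [IsFinite f.left] [Surjective f.left] :
    Flat f.left ∧ ∀ s : S, topologicalKrullDim ↥(X.hom.fiber s) =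
      topologicalKrullDim ↥(Y.hom.fiber s) := by
  haveI hfl : Flat f.left :=
    flat_of_surjective_of_reduced_fibres X Y f (fun s => inferInstance)
  exact ⟨hfl, fun s => dim_fiber_eq_of_flat_of_lqf X Y f s⟩

end Groth.Agent.Helper5.FibGrp
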