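import Mathlib
import Groth.Prelude
import Groth.Agent.Helper5.FibGrp4

set_option autoImplicit false
set_option linter.unusedSectionVars false
set_option linter.style.haveILetI false
universe u

open AlgebraicGeometry CategoryTheory CategoryTheory.Limits TopologicalSpace
open MonoidalCategory CartesianMonoidalCategory MonObj GrpObj

namespace Groth.Agent.Helper5.FibGrp

variable {S : Scheme.{u}}

theorem s18385 (A B : Over S)
    [GrpObj A] [Smooth A.hom] [IsProper A.hom] [GeometricallyConnected A.hom]
    [GrpObj B] [Smooth B.hom] [IsProper B.hom] [GeometricallyConnected B.hom]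
    (f : A ⟶ B) [IsMonHom f]
    (hdim : ∀ s : S, topologicalKrullDim ↥(A.hom.fiber s) =
      topologicalKrullDim ↥(B.hom.fiber s)) :
    LocallyQuasiFinite f.left ↔ Surjective f.left := by
  haveI hprop : IsProper f.left := by
    have : IsProper (f.left ≫ B.hom) := by rw [Over.w f]; infer_instance
    exact IsProper.of_comp f.left B.hom
  constructor
  · intro hqf
    haveI : IsFinite f.left := IsFinite.of_isProper_of_locallyQuasiFinite f.left
    apply Groth.Agent.Helper5.FibFlat.surjective_of_fibres f.left B.hom
    intro s
    refine fibreMap_of_bc A B f @Surjective s ?_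
    let j := S.fromSpecResidueField s
    let A' : Over (Spec (CommRingCat.of ↑(S.residueField s))) := Red.bc j A
    let B' : Over (Spec (CommRingCat.of ↑(S.residueField s))) := Red.bc j B
    let f' : A' ⟶ B' := (Over.pullback j).map f
    haveI : LocallyOfFiniteType A'.hom :=
      inferInstanceAs (LocallyOfFiniteType (pullback.snd A.hom j))
    haveI : LocallyOfFiniteType B'.hom :=
      inferInstanceAs (LocallyOfFiniteType (pullback.snd B.hom j))
    haveI : Smooth B'.hom := inferInstanceAs (Smooth (pullback.snd B.hom j))
    haveI hfin : IsFinite f'.left := fb_of A B f @IsFinite s inferInstance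
    let pt : (𝟙_ (Over (Spec (CommRingCat.of ↑(S.residueField s))))).left :=
      IsLocalRing.closedPoint (S.residueField s)
    haveI : ConnectedSpace B'.left := inferInstanceAs (ConnectedSpace ↥(B.hom.fiber s))
    haveI : IrreducibleSpace B'.left :=
      Groth.Agent.Helper2.HS6.irreducibleSpace_of_connectedSpace B' pt
    obtain ⟨n, hn⟩ := Groth.Agent.Helper5.GrpDim.exists_nat_dim (S.residueField s) A'
    have hn' : topologicalKrullDim B'.left = n := (hdim s).symm.trans hn
    exact ⟨Groth.Agent.Helper5.GrpDim.surjective_of_lqf f'.left
      f'.left.isClosedMap.isClosed_range n hn hn'⟩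
  · intro hsurj
    haveI hfl : Flat f.left := (s19659 A B f).2 hsurj
    apply LocallyQuasiFinite.of_fiberToSpecResidueField
    intro y
    refine Groth.Agent.Helper5.FibFlat.of_fibreMap @LocallyQuasiFinite f.left B.hom y ?_
    refine fibreMap_of_bc A B f @LocallyQuasiFinite (B.hom y) ?_
    let s := B.hom y
    let j := S.fromSpecResidueField s
    let A' : Over (Spec (CommRingCat.of ↑(S.residueField s))) := Red.bc j A
    let B' : Over (Spec (CommRingCat.of ↑(S.residueField s))) := Red.bc j B
    let f' : A' ⟶ B' := (Over.pullback j).map f
    haveI : LocallyOfFiniteType A'.hom :=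
      inferInstanceAs (LocallyOfFiniteType (pullback.snd A.hom j))
    haveI : LocallyOfFiniteType B'.hom :=
      inferInstanceAs (LocallyOfFiniteType (pullback.snd B.hom j))
    haveI : Flat f'.left := fb_of A B f @Flat s inferInstance
    exact Groth.Agent.Helper5.GrpDim.locallyQuasiFinite_of_flat (S.residueField s) A' B' f'
      (hdim s)

end Groth.Agent.Helper5.FibGrp
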