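import Mathlib
import Groth.Prelude

set_option autoImplicit false
set_option linter.unusedSectionVars false
set_option linter.style.haveILetI false
universe u

open AlgebraicGeometry CategoryTheory CategoryTheory.Limits
open MonoidalCategory CartesianMonoidalCategory MonObj GrpObj

namespace Groth.Agent.Helper5.KerShear

variable {S : Scheme.{u}} {G H N : Over S} [GrpObj G] [GrpObj H]
  (φ : G ⟶ H) [IsMonHom φ] (i : N ⟶ G) (hN : AlgGrp.IsKernel i φ)

include hN in
theorem comp_i_φ {T : Over S} (n : T ⟶ N) : (n ≫ i) ≫ φ = 1 := by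
  rw [Category.assoc, hN.w, Hom.one_def, ← Category.assoc]
  congr 1
  exact toUnit_unique _ _

include hN in
theorem mono_i : Mono i := by
  haveI : Mono η[H] := by
    refine ⟨fun a b _ => ?_⟩
    exact toUnit_unique _ _
  exact hN.mono_fst_of_mono

theorem lift_act {T : Over S} (x : T ⟶ G) (n : T ⟶ N) :
    lift x n ≫ (G ◁ i) ≫ μ[G] = x * (n ≫ i) := by
  have : lift x n ≫ (G ◁ i) = lift x (n ≫ i) := by ext <;> simp
  rw [reassoc_of% this, Hom.mul_def]

include hN in
/-- `G ×_H G ≅ G × N` -/
theorem isPullback_shear :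
    IsPullback (fst G N) ((G ◁ i) ≫ μ[G]) φ φ := by
  haveI := mono_i φ i hN
  have w : fst G N ≫ φ = ((G ◁ i) ≫ μ[G]) ≫ φ := by
    have h1 : (G ◁ i) ≫ μ[G] = fst G N * (snd G N ≫ i) := by
      rw [← lift_act i (fst G N) (snd G N)]
      simp
    rw [h1, MonObj.mul_comp, comp_i_φ φ i hN, _root_.mul_one]
  refine IsPullback.of_isLimit (c := PullbackCone.mk _ _ w) ?_
  have hker : ∀ s : PullbackCone φ φ, ((s.fst)⁻¹ * s.snd) ≫ φ = toUnit s.pt ≫ η[H] := by
    intro s
    rw [MonObj.mul_comp, ← Hom.one_def, Hom.inv_def, Category.assoc, GrpObj.inv_hom φ,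
      ← Category.assoc, ← Hom.inv_def, s.condition, inv_mul_cancel]
  refine PullbackCone.IsLimit.mk w
    (fun s => lift s.fst (hN.lift ((s.fst)⁻¹ * s.snd) (toUnit _) (hker s))) ?_ ?_ ?_
  · intro s
    simp
  · intro s
    rw [lift_act, hN.lift_fst, mul_inv_cancel_left]
  · intro s m h1 h2
    apply CartesianMonoidalCategory.hom_ext
    · rw [lift_fst]; exact h1
    · rw [lift_snd, ← cancel_mono i, IsPullback.lift_fst]
      have h3 : m = lift (m ≫ fst G N) (m ≫ snd G N) := by
        apply CartesianMonoidalCategory.hom_ext <;> simp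
      rw [h3, lift_act, h1] at h2
      rw [← h2, inv_mul_cancel_left]

end Groth.Agent.Helper5.KerShear
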