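import Mathlib
import Groth.Prelude
import Groth.Agent.Helper5.KerShear
import Groth.Agent.Helper5.ProdDom

set_option autoImplicit false
set_option linter.unusedSectionVars false
set_option linter.style.haveILetI false
universe u

open AlgebraicGeometry CategoryTheory CategoryTheory.Limits
open MonoidalCategory CartesianMonoidalCategory MonObj GrpObj

namespace Groth.Agent.Helper5.IsogInj

open Groth.Agent.Helper5.GrpDense

variable {S : Scheme.{u}} {X Y N : Over S} [GrpObj X] [GrpObj Y]
  (f : X ⟶ Y) [IsMonHom f] (i : N ⟶ X) (hN : AlgGrp.IsKernel i f)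

/-- the unit point of the kernel -/
noncomputable def e : 𝟙_ (Over S) ⟶ N :=
  hN.lift η[X] (𝟙 _) (by rw [IsMonHom.one_hom, Category.id_comp])

theorem e_i : e f i hN ≫ i = η[X] := hN.lift_fst _ _ _

include hN in
theorem sq : IsPullback (fst X N).left ((X ◁ i) ≫ μ[X]).left f.left f.left :=
  (KerShear.isPullback_shear f i hN).map (Over.forget _)

/-- the diagonal corresponds to `X × {e}` under the shear isomorphism -/
theorem diag_eq :
    (fst X (𝟙_ (Over S))).left ≫ pullback.diagonal f.left =
      (X ◁ e f i hN).left ≫ (sq f i hN).isoPullback.hom := by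
  apply pullback.hom_ext
  · rw [Category.assoc, pullback.diagonal_fst, Category.comp_id, Category.assoc,
      IsPullback.isoPullback_hom_fst, ← Over.comp_left, whiskerLeft_fst]
  · rw [Category.assoc, pullback.diagonal_snd, Category.comp_id, Category.assoc,
      IsPullback.isoPullback_hom_snd, ← Over.comp_left, ← Category.assoc, ← whiskerLeft_comp,
      e_i, MonObj.mul_one]
    rfl

instance : IsIso (fst X (𝟙_ (Over S))).left := by
  have : fst X (𝟙_ (Over S)) = (ρ_ X).hom := by
    rw [CartesianMonoidalCategory.rightUnitor_hom]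
  rw [this]
  exact (Over.forget _).map_isIso (ρ_ X).hom

include hN in
theorem surjective_diagonal_iff :
    Surjective (pullback.diagonal f.left) ↔ Surjective (X ◁ e f i hN).left := by
  have h := diag_eq f i hN
  constructor
  · intro hs
    refine ⟨fun w => ?_⟩
    obtain ⟨x, hx⟩ := hs.surj ((sq f i hN).isoPullback.hom w)
    obtain ⟨w', rfl⟩ := (fst X (𝟙_ (Over S))).left.surjective x
    refine ⟨w', ?_⟩
    rw [← Scheme.Hom.comp_apply, h, Scheme.Hom.comp_apply] at hx
    exact (sq f i hN).isoPullback.hom.homeomorph.injective hx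
  · intro hs
    refine ⟨fun z => ?_⟩
    obtain ⟨w', hw'⟩ := hs.surj ((sq f i hN).isoPullback.inv z)
    refine ⟨(fst X (𝟙_ (Over S))).left w', ?_⟩
    rw [← Scheme.Hom.comp_apply, h, Scheme.Hom.comp_apply, hw', ← Scheme.Hom.comp_apply,
      Iso.inv_hom_id]
    rfl

theorem surjective_whiskerLeft_iff [Surjective X.hom] (e' : 𝟙_ (Over S) ⟶ N) :
    Surjective (X ◁ e').left ↔ Set.range e'.left = Set.univ := by
  have h := range_whiskerLeft X e'
  constructor
  · intro hs
    have h1 : Set.range (X ◁ e').left = Set.univ := Set.range_eq_univ.mpr hs.surj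
    rw [h] at h1
    haveI : Surjective (snd X N).left :=
      MorphismProperty.pullback_snd (P := @Surjective) X.hom N.hom inferInstance
    rw [Set.eq_univ_iff_forall]
    intro n
    obtain ⟨w, rfl⟩ := (snd X N).left.surjective n
    have : w ∈ (snd X N).left ⁻¹' Set.range e'.left := by rw [h1]; trivial
    exact this
  · intro hr
    rw [hr, Set.preimage_univ] at h
    exact ⟨Set.range_eq_univ.mp h⟩

end Groth.Agent.Helper5.IsogInj

namespace Groth.Agent.Helper5.IsogInj

theorem s16676 (k : Type u) [Field k]
    (X Y : Over (Spec (CommRingCat.of k)))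
    [GrpObj X] [GrpObj Y]
    (f : X ⟶ Y) [IsMonHom f] [IsFinite f.left]
    (N : Over (Spec (CommRingCat.of k))) (i : N ⟶ X) (hN : AlgGrp.IsKernel i f) :
    UniversallyInjective f.left ↔ ConnectedSpace ↥N.left := by
  haveI : Surjective X.hom := by
    refine ⟨fun y => ?_⟩
    refine ⟨η[X].left y, ?_⟩
    have h1 : η[X].left ≫ X.hom = 𝟙 _ := Over.w η[X]
    rw [← Scheme.Hom.comp_apply, h1]
    rfl
  rw [UniversallyInjective.iff_diagonal, surjective_diagonal_iff f i hN,
    surjective_whiskerLeft_iff]
  -- the unit object is a point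
  have hpt : ∀ a b : (𝟙_ (Over (Spec (CommRingCat.of k)))).left, a = b := by
    intro a b
    exact Subsingleton.elim (α := PrimeSpectrum k) a b
  obtain ⟨pt⟩ : Nonempty (𝟙_ (Over (Spec (CommRingCat.of k)))).left :=
    (inferInstance : Nonempty (PrimeSpectrum k))
  constructor
  · intro hr
    haveI : Nonempty N.left := ⟨(e f i hN).left pt⟩
    haveI : Subsingleton N.left := by
      refine ⟨fun a b => ?_⟩
      have ha : a ∈ Set.range (e f i hN).left := by rw [hr]; trivial
      have hb : b ∈ Set.range (e f i hN).left := by rw [hr]; trivial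
      obtain ⟨a', rfl⟩ := ha
      obtain ⟨b', rfl⟩ := hb
      rw [hpt a' b']
    infer_instance
  · intro hc
    -- `N` is finite over `k`, hence discrete
    have hsq : IsPullback i.left (toUnit N).left f.left η[Y].left :=
      hN.map (Over.forget _)
    haveI : IsFinite (toUnit N).left :=
      MorphismProperty.of_isPullback (P := @IsFinite) hsq inferInstance
    have hd : _root_.IsDiscrete ((toUnit N).left ⁻¹' {pt}) :=
      (toUnit N).left.isDiscrete_preimage_singleton pt
    have huniv : (toUnit N).left ⁻¹' {pt} = Set.univ := by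
      rw [Set.eq_univ_iff_forall]
      intro n
      exact hpt _ _
    rw [huniv, isDiscrete_univ_iff] at hd
    haveI := hd
    have hss : (Set.univ : Set N.left).Subsingleton := isPreconnected_univ.subsingleton
    rw [Set.eq_univ_iff_forall]
    intro n
    exact ⟨pt, hss trivial trivial⟩

end Groth.Agent.Helper5.IsogInj
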