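import Mathlib
import Groth.Prelude
import Groth.Agent.Helper5.FibGrp5
import Groth.Agent.Helper5.IsogInj
import Groth.Agent.Helper5.BCMin13

set_option autoImplicit false
set_option linter.unusedSectionVars false
set_option linter.style.haveILetI false
universe u

open AlgebraicGeometry CategoryTheory CategoryTheory.Limits TopologicalSpace
open MonoidalCategory CartesianMonoidalCategory MonObj GrpObj

namespace Groth.Agent.Helper5.FibGrp

variable {S : Scheme.{u}} (G H : Over S) [GrpObj G] [GrpObj H] (u : G ⟶ H) [IsMonHom u]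
  (K : Over S) (i : K ⟶ G) (hK : AlgGrp.IsKernel i u)

theorem toUnit_left (K : Over S) : (toUnit K).left = K.hom := by
  have := Over.w (toUnit K)
  rw [← this]
  exact (Category.comp_id _).symm

include hK in
/-- the kernel is the base change of `u` along the unit section -/
theorem kernel_of (P : MorphismProperty Scheme.{u}) [P.IsStableUnderBaseChange]
    (h : P u.left) : P K.hom := by
  have sq : IsPullback i.left (toUnit K).left u.left η[H].left := hK.map (Over.forget _)
  rw [← toUnit_left K]
  exact MorphismProperty.of_isPullback sq h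

include hK in
/-- the shear square on the level of schemes, flipped -/
theorem shear_sq :
    IsPullback ((G ◁ i) ≫ μ[G]).left (fst G K).left u.left u.left :=
  (Groth.Agent.Helper5.IsogInj.sq u i hK).flip

include hK in
/-- the point `(x, e)` of `G × K` -/
theorem exists_act_eq (x : G.left) : ∃ z : (G ⊗ K).left, ((G ◁ i) ≫ μ[G]).left z = x := by
  let σ : G ⟶ G ⊗ K := lift (𝟙 G) (toUnit G ≫ Groth.Agent.Helper5.IsogInj.e u i hK)
  refine ⟨σ.left x, ?_⟩
  rw [← Scheme.Hom.comp_apply, ← Over.comp_left]
  have : σ ≫ (G ◁ i) ≫ μ[G] = 𝟙 G := by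
    have h1 : σ ≫ (G ◁ i) = lift (𝟙 G) (toUnit G ≫ η[G]) := by
      apply CartesianMonoidalCategory.hom_ext
      · simp [σ]
      · simp [σ, Groth.Agent.Helper5.IsogInj.e_i]
    rw [reassoc_of% h1]
    simp
  rw [this]
  rfl

include hK in
theorem lqf_of_kernel [LocallyOfFiniteType u.left] (h : LocallyQuasiFinite K.hom) :
    LocallyQuasiFinite u.left := by
  haveI : LocallyOfFiniteType K.hom := kernel_of G H u K i hK @LocallyOfFiniteType inferInstance
  haveI : LocallyQuasiFinite (fst G K).left := by
    rw [Over.fst_left]; infer_instance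
  haveI : LocallyOfFiniteType (fst G K).left := by
    rw [Over.fst_left]; infer_instance
  rw [← Scheme.Hom.quasiFiniteLocus_eq_top_iff]
  ext x
  simp only [Scheme.Hom.mem_quasiFiniteLocus, TopologicalSpace.Opens.coe_top, Set.mem_univ,
    iff_true, SetLike.mem_coe]
  apply Groth.Agent.Helper5.QfAt.quasiFiniteAt_of_fibreDimAt_le_zero
  obtain ⟨z, hz⟩ := exists_act_eq G H u K i hK x
  have h1 := Groth.Agent.Helper5.BCMin.fibreDimAt_of_isPullback u.left u.left
    ((G ◁ i) ≫ μ[G]).left (fst G K).left (shear_sq G H u K i hK) z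
  rw [hz] at h1
  rw [← h1]
  have hq : (fst G K).left.QuasiFiniteAt z := by
    have := Scheme.Hom.quasiFiniteLocus_eq_top (f := (fst G K).left)
    have hx : z ∈ (fst G K).left.quasiFiniteLocus := by rw [this]; trivial
    exact hx
  exact (Groth.Agent.Helper5.QfAt.fibreDimAt_eq_zero_of_quasiFiniteAt _ z hq).le

include hK in
theorem s5319 [LocallyOfFiniteType u.left] :
    (LocallyQuasiFinite u.left ↔ ∀ s : S, LocallyQuasiFinite
      ((Over.pullback (S.fromSpecResidueField s)).map u).left) ∧
    (LocallyQuasiFinite u.left ↔ LocallyQuasiFinite K.hom) ∧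
    (LocallyQuasiFinite u.left ↔ ∀ s : S, DiscreteTopology ↥(K.hom.base ⁻¹' {s})) := by
  haveI : LocallyOfFiniteType K.hom := kernel_of G H u K i hK @LocallyOfFiniteType inferInstance
  have h2 : LocallyQuasiFinite u.left ↔ LocallyQuasiFinite K.hom :=
    ⟨fun h => kernel_of G H u K i hK @LocallyQuasiFinite h, lqf_of_kernel G H u K i hK⟩
  refine ⟨⟨fun h s => fb_of G H u @LocallyQuasiFinite s h, fun h => ?_⟩, h2, ?_⟩
  · apply LocallyQuasiFinite.of_fiberToSpecResidueField
    intro y
    refine Groth.Agent.Helper5.FibFlat.of_fibreMap @LocallyQuasiFinite u.left H.hom y ?_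
    exact fibreMap_of_bc G H u @LocallyQuasiFinite (H.hom y) (h _)
  · rw [h2, locallyQuasiFinite_iff_isDiscrete_preimage_singleton]
    exact forall_congr' fun s => isDiscrete_iff_discreteTopology

/-- sections of formally unramified morphisms locally of finite type are open immersions -/
theorem isOpenImmersion_of_section {X Y : Scheme.{u}} (p : X ⟶ Y) (s : Y ⟶ X) (hs : s ≫ p = 𝟙 Y)
    [FormallyUnramified p] [LocallyOfFiniteType p] : IsOpenImmersion s := by
  have hle : (@FormallyUnramified ⊓ @LocallyOfFiniteType : MorphismProperty Scheme.{u}) ≤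
      (@IsOpenImmersion : MorphismProperty Scheme.{u}).diagonal := by
    intro A B f ⟨h1, h2⟩
    haveI : FormallyUnramified f := h1
    haveI : LocallyOfFiniteType f := h2
    exact (inferInstance : IsOpenImmersion (pullback.diagonal f))
  have := (MorphismProperty.hasOfPostcompProperty_iff_le_diagonal (P := @IsOpenImmersion)).2 hle
  exact this.of_postcomp s p ⟨‹_›, ‹_›⟩ (by rw [hs]; infer_instance)

include hK in
theorem unit_eq [GrpObj K] [IsMonHom i] : Groth.Agent.Helper5.IsogInj.e u i hK = η[K] := by
  haveI := Groth.Agent.Helper5.KerShear.mono_i u i hK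
  rw [← cancel_mono i, Groth.Agent.Helper5.IsogInj.e_i, IsMonHom.one_hom]

include hK in
theorem unramified_of_unit [GrpObj K] [IsMonHom i] (h : IsOpenImmersion η[K].left) :
    FormallyUnramified u.left := by
  have hd := Groth.Agent.Helper5.IsogInj.diag_eq u i hK
  rw [unit_eq G H u K i hK] at hd
  have sq := (Groth.Agent.Helper5.GrpDense.isPullback_whiskerLeft G η[K]).flip
  haveI : IsOpenImmersion (G ◁ η[K]).left := MorphismProperty.of_isPullback sq h
  have hd2 : pullback.diagonal u.left = inv (fst G (𝟙_ (Over S))).left ≫ (G ◁ η[K]).left ≫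
      (Groth.Agent.Helper5.IsogInj.sq u i hK).isoPullback.hom := by
    rw [← hd, IsIso.inv_hom_id_assoc]
  haveI : IsOpenImmersion (pullback.diagonal u.left) := by
    rw [hd2]; infer_instance
  infer_instance

include hK in
theorem s5320 [GrpObj K] [IsMonHom i] [LocallyOfFinitePresentation u.left] :
    (FormallyUnramified u.left ↔ ∀ s : S, FormallyUnramified
      ((Over.pullback (S.fromSpecResidueField s)).map u).left) ∧
    (FormallyUnramified u.left ↔ FormallyUnramified K.hom) ∧
    (FormallyUnramified u.left ↔ IsOpenImmersion η[K].left) := by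
  haveI : LocallyOfFiniteType K.hom := kernel_of G H u K i hK @LocallyOfFiniteType inferInstance
  have hsec : η[K].left ≫ K.hom = 𝟙 S := Over.w η[K]
  have h3 : FormallyUnramified K.hom → IsOpenImmersion η[K].left := fun h =>
    isOpenImmersion_of_section K.hom η[K].left hsec
  have h1 : FormallyUnramified u.left → FormallyUnramified K.hom :=
    kernel_of G H u K i hK @FormallyUnramified
  refine ⟨⟨fun h s => fb_of G H u @FormallyUnramified s h, fun h => ?_⟩,
    ⟨h1, fun h => unramified_of_unit G H u K i hK (h3 h)⟩,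
    ⟨fun h => h3 (h1 h), unramified_of_unit G H u K i hK⟩⟩
  apply Groth.Agent.Helper5.UnrFib.formallyUnramified_of_fiberToSpecResidueField
  intro y
  refine Groth.Agent.Helper5.FibFlat.of_fibreMap @FormallyUnramified u.left H.hom y ?_
  exact fibreMap_of_bc G H u @FormallyUnramified (H.hom y) (h _)

end Groth.Agent.Helper5.FibGrp
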