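import Mathlib
import Groth.Prelude
import Groth.Agent.Helper5.FibGrp6

set_option autoImplicit false
set_option linter.unusedSectionVars false
set_option linter.style.haveILetI false
universe u

open AlgebraicGeometry CategoryTheory CategoryTheory.Limits TopologicalSpace
open MonoidalCategory CartesianMonoidalCategory MonObj GrpObj

namespace Groth.Agent.Helper5.FibGrp

variable {S : Scheme.{u}} (G H : Over S) [GrpObj G] [GrpObj H] (u : G ⟶ H) [IsMonHom u]
  (K : Over S) (i : K ⟶ G) (hK : AlgGrp.IsKernel i u)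

/-- the kernel exists -/
theorem exists_kernel : ∃ (K : Over S) (i : K ⟶ G), AlgGrp.IsKernel i u := by
  refine ⟨pullback u η[H], pullback.fst u η[H], ?_⟩
  have := IsPullback.of_hasPullback u η[H]
  have h2 : pullback.snd u η[H] = toUnit _ := toUnit_unique _ _
  rw [h2] at this
  exact this

/-- the fibre dimension of the kernel at the unit point over `s` -/
noncomputable def kdim (s : S) : WithBot ℕ∞ :=
  FlatMor.fibreDimAt K.hom ((Groth.Agent.Helper5.IsogInj.e u i hK).left s)

include hK in
theorem fibreDimAt_eq_kdim [LocallyOfFiniteType u.left] (x : G.left) :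
    FlatMor.fibreDimAt u.left x = kdim G H u K i hK (G.hom x) := by
  haveI : LocallyOfFiniteType K.hom := kernel_of G H u K i hK @LocallyOfFiniteType inferInstance
  let σ : G ⟶ G ⊗ K := lift (𝟙 G) (toUnit G ≫ Groth.Agent.Helper5.IsogInj.e u i hK)
  have hσ : ((G ◁ i) ≫ μ[G]).left (σ.left x) = x := by
    rw [← Scheme.Hom.comp_apply, ← Over.comp_left]
    have : σ ≫ (G ◁ i) ≫ μ[G] = 𝟙 G := by
      have h1 : σ ≫ (G ◁ i) = lift (𝟙 G) (toUnit G ≫ η[G]) := by
        apply CartesianMonoidalCategory.hom_ext
        · simp [σ]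
        · simp [σ, Groth.Agent.Helper5.IsogInj.e_i]
      rw [reassoc_of% h1]
      simp
    rw [this]
    rfl
  have h1 := Groth.Agent.Helper5.BCMin.fibreDimAt_of_isPullback u.left u.left
    ((G ◁ i) ≫ μ[G]).left (fst G K).left (shear_sq G H u K i hK) (σ.left x)
  rw [hσ] at h1
  rw [← h1]
  have sq2 : IsPullback (snd G K).left (fst G K).left K.hom G.hom := by
    rw [Over.fst_left, Over.snd_left]
    exact (IsPullback.of_hasPullback G.hom K.hom).flip
  have h2 := Groth.Agent.Helper5.BCMin.fibreDimAt_of_isPullback K.hom G.hom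
    (snd G K).left (fst G K).left sq2 (σ.left x)
  rw [h2]
  unfold kdim
  congr 1
  rw [← Scheme.Hom.comp_apply, ← Over.comp_left]
  have : σ ≫ snd G K = toUnit G ≫ Groth.Agent.Helper5.IsogInj.e u i hK := by simp [σ]
  rw [this, Over.comp_left, Scheme.Hom.comp_apply, toUnit_left]

include hK in
theorem quasiFiniteAt_iff [LocallyOfFiniteType u.left] (x : G.left) :
    u.left.QuasiFiniteAt x ↔ kdim G H u K i hK (G.hom x) ≤ 0 := by
  rw [← fibreDimAt_eq_kdim G H u K i hK x]
  exact ⟨fun h => (Groth.Agent.Helper5.QfAt.fibreDimAt_eq_zero_of_quasiFiniteAt _ x h).le,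
    Groth.Agent.Helper5.QfAt.quasiFiniteAt_of_fibreDimAt_le_zero _ x⟩

include hK in
theorem lqf_fb_iff [LocallyOfFiniteType u.left] (s : S) :
    LocallyQuasiFinite (fb G H u s) ↔ kdim G H u K i hK s ≤ 0 := by
  haveI : LocallyOfFiniteType (fb G H u s) := fb_of G H u @LocallyOfFiniteType s inferInstance
  have key : ∀ x' : ↥(pullback G.hom (S.fromSpecResidueField s)),
      FlatMor.fibreDimAt (fb G H u s) x' = kdim G H u K i hK s := by
    intro x'
    rw [Groth.Agent.Helper5.BCMin.fibreDimAt_of_isPullback u.left (H.hom.fiberι s)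
      (pullback.fst G.hom (S.fromSpecResidueField s)) (fb G H u s) (isPullback_bc G H u s) x',
      fibreDimAt_eq_kdim G H u K i hK]
    congr 1
    rw [← Scheme.Hom.comp_apply, pullback.condition, Scheme.Hom.comp_apply]
    exact Scheme.fromSpecResidueField_apply _ _
  rw [← Scheme.Hom.quasiFiniteLocus_eq_top_iff]
  constructor
  · intro h
    obtain ⟨x', -, -⟩ := Scheme.Pullback.exists_preimage_pullback (f := G.hom)
      (g := S.fromSpecResidueField s) (η[G].left s) (IsLocalRing.closedPoint _) (by
        rw [← Scheme.Hom.comp_apply, Over.w η[G]]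
        exact (Scheme.fromSpecResidueField_apply _ _).symm)
    rw [← key x']
    have hx : x' ∈ (fb G H u s).quasiFiniteLocus := by rw [h]; trivial
    exact (Groth.Agent.Helper5.QfAt.fibreDimAt_eq_zero_of_quasiFiniteAt _ x' hx).le
  · intro h
    ext x'
    simp only [Scheme.Hom.mem_quasiFiniteLocus, TopologicalSpace.Opens.coe_top, Set.mem_univ,
      iff_true, SetLike.mem_coe]
    apply Groth.Agent.Helper5.QfAt.quasiFiniteAt_of_fibreDimAt_le_zero
    rw [key x']
    exact h

theorem s5315 [LocallyOfFiniteType u.left] :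
    IsOpen {s : S | LocallyQuasiFinite ((Over.pullback (S.fromSpecResidueField s)).map u).left} ∧
    {x : G.left | ∃ W : G.left.Opens, x ∈ W ∧ LocallyQuasiFinite (W.ι ≫ u.left)} =
      G.hom.base ⁻¹' {s : S | LocallyQuasiFinite
        ((Over.pullback (S.fromSpecResidueField s)).map u).left} := by
  obtain ⟨K, i, hK⟩ := exists_kernel G H u
  have hU : ∀ s : S, LocallyQuasiFinite ((Over.pullback (S.fromSpecResidueField s)).map u).left ↔
      kdim G H u K i hK s ≤ 0 := fun s => lqf_fb_iff G H u K i hK s
  have hQF : {x : G.left | ∃ W : G.left.Opens, x ∈ W ∧ LocallyQuasiFinite (W.ι ≫ u.left)} =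
      (u.left.quasiFiniteLocus : Set G.left) := by
    ext x
    constructor
    · rintro ⟨W, hxW, hW⟩
      have := (W.ι ≫ u.left).quasiFiniteAt ⟨x, hxW⟩
      rwa [Scheme.Hom.quasiFiniteAt_comp_iff_of_isOpenImmersion] at this
    · intro hx
      exact ⟨u.left.quasiFiniteLocus, hx, inferInstance⟩
  have hb : (u.left.quasiFiniteLocus : Set G.left) = G.hom.base ⁻¹' {s : S | LocallyQuasiFinite
        ((Over.pullback (S.fromSpecResidueField s)).map u).left} := by
    ext x
    simp only [SetLike.mem_coe, Scheme.Hom.mem_quasiFiniteLocus, Set.mem_preimage,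
      Set.mem_setOf_eq]
    rw [hU]
    exact quasiFiniteAt_iff G H u K i hK x
  refine ⟨?_, hQF.trans hb⟩
  have : {s : S | LocallyQuasiFinite ((Over.pullback (S.fromSpecResidueField s)).map u).left} =
      η[G].left.base ⁻¹' (u.left.quasiFiniteLocus : Set G.left) := by
    ext s
    rw [hb]
    simp only [Set.mem_preimage, Set.mem_setOf_eq]
    have : G.hom.base (η[G].left.base s) = s := by
      have h1 : η[G].left ≫ G.hom = 𝟙 S := Over.w η[G]
      change (η[G].left ≫ G.hom) s = s
      rw [h1]
      rfl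
    rw [this]
  rw [this]
  exact u.left.quasiFiniteLocus.isOpen.preimage η[G].left.continuous

end Groth.Agent.Helper5.FibGrp
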