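import Mathlib
import Groth.Prelude
import Groth.Agent.Helper5.FlatOrbit3
import Groth.Agent.Helper5.StalkRed

set_option autoImplicit false
set_option linter.unusedSectionVars false
set_option linter.style.haveILetI false
universe u

open AlgebraicGeometry CategoryTheory CategoryTheory.Limits TopologicalSpace

namespace Groth.Agent.Helper5.FlatAt

theorem flatAt_iff {X Y : Scheme.{u}} (f : X ⟶ Y) (x : X) :
    (f.stalkMap x).hom.Flat ↔ Flat (X.fromSpecStalk x ≫ f) := by
  constructor
  · intro h
    rw [← Scheme.SpecMap_stalkMap_fromSpecStalk]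
    haveI := Groth.Agent.Helper5.StalkRed.flat_fromSpecStalk Y (f x)
    haveI : Flat (Spec.map (f.stalkMap x)) := Flat.SpecMap_iff.mpr h
    infer_instance
  · intro h
    haveI := Groth.Agent.Helper5.StalkRed.flat_fromSpecStalk X x
    have key := Groth.Agent.Helper5.FlatOrbit.flat_stalkMap_of_comp (X.fromSpecStalk x) f
      (IsLocalRing.closedPoint _)
    rwa [Scheme.fromSpecStalk_closedPoint] at key

theorem flat_of_comp_mono {A B C : Scheme.{u}} (b : A ⟶ B) (m : B ⟶ C) [Mono m]
    [Flat (b ≫ m)] : Flat b := by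
  have hle : (MorphismProperty.monomorphisms Scheme.{u}) ≤
      MorphismProperty.diagonal (@Flat : MorphismProperty Scheme.{u}) := by
    intro A B f hf
    haveI : Mono f := hf
    show Flat (pullback.diagonal f)
    infer_instance
  have := (MorphismProperty.hasOfPostcompProperty_iff_le_diagonal (P := @Flat)).2 hle
  exact this.of_postcomp b m ‹Mono m› ‹_›

/-- flatness at a point is stable under base change -/
theorem flatAt_of_isPullback {X S X' S' : Scheme.{u}} (f : X ⟶ S) (g : S' ⟶ S) (g' : X' ⟶ X)
    (f' : X' ⟶ S') (hsq : IsPullback g' f' f g) (x' : X')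
    (h : (f.stalkMap (g' x')).hom.Flat) : (f'.stalkMap x').hom.Flat := by
  rw [flatAt_iff] at h ⊢
  let j := X.fromSpecStalk (g' x')
  let j' := X'.fromSpecStalk x'
  let a : Spec (X'.presheaf.stalk x') ⟶ Spec (X.presheaf.stalk (g' x')) :=
    Spec.map (g'.stalkMap x')
  have ha : a ≫ j = j' ≫ g' := Scheme.SpecMap_stalkMap_fromSpecStalk ..
  let b : Spec (X'.presheaf.stalk x') ⟶ pullback j g' := pullback.lift a j' ha
  have hb : b ≫ pullback.snd j g' = j' := pullback.lift_snd _ _ _
  have sq2 : IsPullback (pullback.fst j g') (pullback.snd j g' ≫ f') (j ≫ f) g :=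
    (IsPullback.of_hasPullback j g').paste_vert hsq
  haveI : Flat (pullback.snd j g' ≫ f') := MorphismProperty.of_isPullback sq2 h
  haveI : Flat (b ≫ pullback.snd j g') := by
    rw [hb]; exact Groth.Agent.Helper5.StalkRed.flat_fromSpecStalk X' x'
  haveI : Flat b := flat_of_comp_mono b (pullback.snd j g')
  show Flat (j' ≫ f')
  rw [← hb, Category.assoc]
  infer_instance

end Groth.Agent.Helper5.FlatAt
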