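import Mathlib
import Groth.Prelude
import Groth.Agent.Helper5.FibGrp7
import Groth.Agent.Helper5.FlatAt
import Groth.Agent.Helper2.FlatLocusSch
import Groth.Agent.Helper2.LfpComp

set_option autoImplicit false
set_option linter.unusedSectionVars false
set_option linter.style.haveILetI false
universe u

open AlgebraicGeometry CategoryTheory CategoryTheory.Limits TopologicalSpace
open MonoidalCategory CartesianMonoidalCategory MonObj GrpObj

namespace Groth.Agent.Helper5.FibGrp

variable {S : Scheme.{u}} (G H : Over S) [GrpObj G] [GrpObj H] (u : G ⟶ H) [IsMonHom u]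

theorem hom_apply (x : G.left) : H.hom (u.left x) = G.hom x := by
  rw [← Scheme.Hom.comp_apply, Over.w u]

/-- a point of the fibre `G_s` over `x` -/
theorem exists_fibre_point (x : G.left) :
    ∃ x' : ↥(pullback G.hom (S.fromSpecResidueField (G.hom x))),
      pullback.fst G.hom (S.fromSpecResidueField (G.hom x)) x' = x := by
  obtain ⟨x', h1, -⟩ := Scheme.Pullback.exists_preimage_pullback (f := G.hom)
    (g := S.fromSpecResidueField (G.hom x)) x (IsLocalRing.closedPoint _)
    (Scheme.fromSpecResidueField_apply _ _).symm
  exact ⟨x', h1⟩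

/-- homogeneity of flatness for homomorphisms of group schemes over a field, applied to the
fibre over `s` -/
theorem flat_fb_of_flatAt [Flat G.hom] (s : S)
    (x' : ↥(pullback G.hom (S.fromSpecResidueField s)))
    (h : ((fb G H u s).stalkMap x').hom.Flat) : Flat (fb G H u s) := by
  let j := S.fromSpecResidueField s
  let G' : Over (Spec (CommRingCat.of ↑(S.residueField s))) := Red.bc j G
  let H' : Over (Spec (CommRingCat.of ↑(S.residueField s))) := Red.bc j H
  let f' : G' ⟶ H' := (Over.pullback j).map u
  haveI : IsMonHom f' := inferInstance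
  haveI : Flat G'.hom := inferInstanceAs (Flat (pullback.snd G.hom j))
  exact Groth.Agent.Helper5.FlatOrbit.s5336 (S.residueField s) G' H' f' ⟨x', h⟩

theorem flatAt_iff_flat_fb [Flat G.hom] [LocallyOfFinitePresentation G.hom]
    [LocallyOfFiniteType H.hom] (x : G.left) :
    (u.left.stalkMap x).hom.Flat ↔ Flat (fb G H u (G.hom x)) := by
  constructor
  · intro h
    obtain ⟨x', hx'⟩ := exists_fibre_point G x
    rw [← hx'] at h
    have := Groth.Agent.Helper5.FlatAt.flatAt_of_isPullback u.left (H.hom.fiberι (G.hom x))
      (pullback.fst G.hom (S.fromSpecResidueField (G.hom x))) (fb G H u (G.hom x))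
      (isPullback_bc G H u (G.hom x)) x' h
    exact flat_fb_of_flatAt G H u (G.hom x) x' this
  · intro h
    haveI : LocallyOfFinitePresentation (u.left ≫ H.hom) := by rw [Over.w u]; infer_instance
    haveI : Flat (u.left ≫ H.hom) := by rw [Over.w u]; infer_instance
    rw [← hom_apply G H u x] at h
    haveI : Flat (pullback.snd u.left (H.hom.fiberι (H.hom (u.left x)))) :=
      fibreMap_of_bc G H u @Flat _ h
    obtain ⟨p, hp⟩ := Groth.Agent.Helper5.FibFlat.exists_lift_point u.left H.hom x
    have := (Groth.Agent.Helper5.FibFlat.flat_of_fibre_flat u.left H.hom (H.hom (u.left x)) p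
      (Flat.stalkMap _ p)).2
    rwa [hp] at this

theorem unit_apply (s : S) : G.hom (η[G].left s) = s := by
  have h1 : η[G].left ≫ G.hom = 𝟙 S := Over.w η[G]
  change (η[G].left ≫ G.hom) s = s
  rw [h1]
  rfl

theorem s5312 [Flat G.hom] [LocallyOfFinitePresentation G.hom] [LocallyOfFiniteType H.hom] :
    IsOpen {s : S | Flat ((Over.pullback (S.fromSpecResidueField s)).map u).left} ∧
    {x : G.left | (u.left.stalkMap x).hom.Flat} = G.hom.base ⁻¹' {s : S | Flat
      ((Over.pullback (S.fromSpecResidueField s)).map u).left} := by
  have hb : {x : G.left | (u.left.stalkMap x).hom.Flat} = G.hom.base ⁻¹' {s : S | Flat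
      ((Over.pullback (S.fromSpecResidueField s)).map u).left} := by
    ext x
    exact flatAt_iff_flat_fb G H u x
  refine ⟨?_, hb⟩
  haveI : LocallyOfFinitePresentation u.left :=
    Groth.Agent.Helper2.LfpComp.locallyOfFinitePresentation_of_comp u.left H.hom
      (by rw [Over.w u]; infer_instance) inferInstance
  have hopen := Groth.Agent.Helper2.FlatLocusSch.isOpen_flat_locus u.left
  have : {s : S | Flat ((Over.pullback (S.fromSpecResidueField s)).map u).left} =
      η[G].left.base ⁻¹' {x : G.left | (u.left.stalkMap x).hom.Flat} := by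
    ext s
    rw [hb]
    simp only [Set.mem_preimage, Set.mem_setOf_eq]
    have := unit_apply G s
    rw [this]
  rw [this]
  exact hopen.preimage η[G].left.continuous

end Groth.Agent.Helper5.FibGrp
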