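import Mathlib
import Groth.Prelude
import Groth.Agent.Helper5.FibGrp8
import Groth.Agent.Helper3.UnramBC

set_option autoImplicit false
set_option linter.unusedSectionVars false
set_option linter.style.haveILetI false
universe u

open AlgebraicGeometry CategoryTheory CategoryTheory.Limits TopologicalSpace
open MonoidalCategory CartesianMonoidalCategory MonObj GrpObj

namespace Groth.Agent.Helper5.FibGrp

section generic

variable {S : Scheme.{u}} (G H : Over S) [GrpObj G] [GrpObj H] (u : G ⟶ H) [IsMonHom u]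
  (K : Over S) (i : K ⟶ G) (hK : AlgGrp.IsKernel i u)
  (Q : ∀ {X Y : Scheme.{u}} (_ : X ⟶ Y), X → Prop)
  (hQ : ∀ {X S X' S' : Scheme.{u}} (f : X ⟶ S) [LocallyOfFiniteType f] (g : S' ⟶ S) (g' : X' ⟶ X)
    (f' : X' ⟶ S'), IsPullback g' f' f g → ∀ x' : X', (Q f' x' ↔ Q f (g' x')))

include hK hQ in
theorem Q_iff_kernel [LocallyOfFiniteType u.left] (x : G.left) :
    Q u.left x ↔ Q K.hom ((Groth.Agent.Helper5.IsogInj.e u i hK).left (G.hom x)) := by
  haveI : LocallyOfFiniteType K.hom := kernel_of G H u K i hK @LocallyOfFiniteType inferInstance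
  let σ : G ⟶ G ⊗ K := lift (𝟙 G) (toUnit G ≫ Groth.Agent.Helper5.IsogInj.e u i hK)
  have hσ : ((G ◁ i) ≫ μ[G]).left (σ.left x) = x := by
    rw [← Scheme.Hom.comp_apply, ← Over.comp_left]
    have : σ ≫ (G ◁ i) ≫ μ[G] = 𝟙 G := by
      have h1 : σ ≫ (G ◁ i) = lift (𝟙 G) (toUnit G ≫ η[G]) := by
        apply CartesianMonoidalCategory.hom_ext
        · simp [σ]
        · simp [σ, Groth.Agent.Helper5.IsogInj.e_i]
      rw [reassoc_of% h1]
      simp
    rw [this]
    rfl
  have h1 := hQ u.left u.left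
    ((G ◁ i) ≫ μ[G]).left (fst G K).left (shear_sq G H u K i hK) (σ.left x)
  rw [hσ] at h1
  rw [← h1]
  have sq2 : IsPullback (snd G K).left (fst G K).left K.hom G.hom := by
    rw [Over.fst_left, Over.snd_left]
    exact (IsPullback.of_hasPullback G.hom K.hom).flip
  have h2 := hQ K.hom G.hom (snd G K).left (fst G K).left sq2 (σ.left x)
  rw [h2]
  have : (snd G K).left (σ.left x) =
      (Groth.Agent.Helper5.IsogInj.e u i hK).left (G.hom x) := by
    rw [← Scheme.Hom.comp_apply, ← Over.comp_left]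
    have : σ ≫ snd G K = toUnit G ≫ Groth.Agent.Helper5.IsogInj.e u i hK := by simp [σ]
    rw [this, Over.comp_left, Scheme.Hom.comp_apply, toUnit_left]
  rw [this]

include hK hQ in
theorem Q_fb_iff_kernel [LocallyOfFiniteType u.left] (s : S)
    (x' : ↥(pullback G.hom (S.fromSpecResidueField s))) :
    Q (fb G H u s) x' ↔ Q K.hom ((Groth.Agent.Helper5.IsogInj.e u i hK).left s) := by
  rw [hQ u.left (H.hom.fiberι s)
      (pullback.fst G.hom (S.fromSpecResidueField s)) (fb G H u s) (isPullback_bc G H u s) x',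
    Q_iff_kernel G H u K i hK Q hQ]
  have : G.hom (pullback.fst G.hom (S.fromSpecResidueField s) x') = s := by
    rw [← Scheme.Hom.comp_apply, pullback.condition, Scheme.Hom.comp_apply]
    exact Scheme.fromSpecResidueField_apply _ _
  rw [this]

include hQ in
theorem Q_iff_forall_fb [LocallyOfFiniteType u.left] (x : G.left) :
    Q u.left x ↔ ∀ x' : ↥(pullback G.hom (S.fromSpecResidueField (G.hom x))),
      Q (fb G H u (G.hom x)) x' := by
  obtain ⟨K, i, hK⟩ := exists_kernel G H u
  rw [Q_iff_kernel G H u K i hK Q hQ]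
  constructor
  · intro h x'
    rw [Q_fb_iff_kernel G H u K i hK Q hQ]
    exact h
  · intro h
    obtain ⟨x', -⟩ := exists_fibre_point G x
    rw [← Q_fb_iff_kernel G H u K i hK Q hQ (G.hom x) x']
    exact h x'

end generic

section unr

set_option backward.isDefEq.respectTransparency false in
theorem stalk_iff_of_iso_comp
    {Q' : ∀ {R S : Type u} [CommRing R] [CommRing S], (R →+* S) → Prop}
    (hQ' : RingHom.RespectsIso Q') {X' P S' : Scheme.{u}} (e : X' ⟶ P) [IsIso e] (p : P ⟶ S')
    (x' : X') : Q' ((e ≫ p).stalkMap x').hom ↔ Q' (p.stalkMap (e x')).hom := by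
  rw [Scheme.Hom.stalkMap_comp, CommRingCat.hom_comp, hQ'.cancel_right_isIso]

/-- unramifiedness at a point -/
def UnrAt {X Y : Scheme.{u}} (f : X ⟶ Y) (x : X) : Prop :=
  (f.stalkMap x).hom.FormallyUnramified

theorem bcInv_unrAt {X S X' S' : Scheme.{u}} (f : X ⟶ S) [LocallyOfFiniteType f] (g : S' ⟶ S)
    (g' : X' ⟶ X) (f' : X' ⟶ S') (hsq : IsPullback g' f' f g) (x' : X') :
    UnrAt f' x' ↔ UnrAt f (g' x') := by
  have h := Groth.Agent.Helper3.UnramBC.stalkMap_snd_formallyUnramified_iff f g
    (hsq.isoPullback.hom x')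
  have e1 : hsq.isoPullback.hom ≫ pullback.snd f g = f' := hsq.isoPullback_hom_snd
  have e2 : hsq.isoPullback.hom ≫ pullback.fst f g = g' := hsq.isoPullback_hom_fst
  have hp : pullback.fst f g (hsq.isoPullback.hom x') = g' x' := by
    rw [← Scheme.Hom.comp_apply, e2]
  rw [hp] at h
  have h3 := stalk_iff_of_iso_comp RingHom.FormallyUnramified.respectsIso
    hsq.isoPullback.hom (pullback.snd f g) x'
  rw [e1] at h3
  exact h3.trans h

theorem formallyUnramified_iff_forall_unrAt {X Y : Scheme.{u}} (f : X ⟶ Y)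
    [LocallyOfFiniteType f] : FormallyUnramified f ↔ ∀ x, UnrAt f x := by
  constructor
  · intro h x
    exact FormallyUnramified.stalkMap f x
  · intro h
    choose W hxW hW using fun x =>
      (Groth.Agent.Helper3.StalkNbhd.formallyUnramified_nbhd_iff f x).2 (h x)
    rw [IsZariskiLocalAtSource.iff_of_iSup_eq_top (P := @FormallyUnramified) W]
    · exact hW
    · rw [eq_top_iff]
      intro x _
      exact Opens.mem_iSup.2 ⟨x, hxW x⟩

end unr

variable {S : Scheme.{u}} (G H : Over S) [GrpObj G] [GrpObj H] (u : G ⟶ H) [IsMonHom u]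

theorem unrAt_iff_fb [LocallyOfFiniteType u.left] (x : G.left) :
    UnrAt u.left x ↔ FormallyUnramified (fb G H u (G.hom x)) := by
  haveI : LocallyOfFiniteType (fb G H u (G.hom x)) :=
    fb_of G H u @LocallyOfFiniteType _ inferInstance
  rw [formallyUnramified_iff_forall_unrAt]
  exact Q_iff_forall_fb G H u (@UnrAt) (@bcInv_unrAt) x

theorem s5316 [LocallyOfFinitePresentation u.left] :
    IsOpen {s : S | FormallyUnramified ((Over.pullback (S.fromSpecResidueField s)).map u).left} ∧
    {x : G.left | ∃ W : G.left.Opens, x ∈ W ∧ FormallyUnramified (W.ι ≫ u.left)} =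
      G.hom.base ⁻¹' {s : S | FormallyUnramified
        ((Over.pullback (S.fromSpecResidueField s)).map u).left} := by
  have hb : {x : G.left | ∃ W : G.left.Opens, x ∈ W ∧ FormallyUnramified (W.ι ≫ u.left)} =
      G.hom.base ⁻¹' {s : S | FormallyUnramified
        ((Over.pullback (S.fromSpecResidueField s)).map u).left} := by
    ext x
    rw [Set.mem_ofPred_eq, Groth.Agent.Helper3.StalkNbhd.formallyUnramified_nbhd_iff]
    exact unrAt_iff_fb G H u x
  refine ⟨?_, hb⟩
  have hopen : IsOpen {x : G.left | ∃ W : G.left.Opens, x ∈ W ∧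
      FormallyUnramified (W.ι ≫ u.left)} := by
    rw [isOpen_iff_forall_mem_open]
    rintro x ⟨W, hxW, hW⟩
    exact ⟨W, fun y hy => ⟨W, hy, hW⟩, W.isOpen, hxW⟩
  have : {s : S | FormallyUnramified ((Over.pullback (S.fromSpecResidueField s)).map u).left} =
      η[G].left.base ⁻¹' {x : G.left | ∃ W : G.left.Opens, x ∈ W ∧
        FormallyUnramified (W.ι ≫ u.left)} := by
    ext s
    rw [hb]
    simp only [Set.mem_preimage, Set.mem_ofPred_eq]
    have := unit_apply G s
    rw [this]
  rw [this]
  exact hopen.preimage η[G].left.continuous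

end Groth.Agent.Helper5.FibGrp
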