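import Mathlib
import Groth.Prelude
import Groth.Agent.Helper5.FibGrp9

set_option autoImplicit false
set_option linter.unusedSectionVars false
set_option linter.style.haveILetI false
universe u

open AlgebraicGeometry CategoryTheory CategoryTheory.Limits TopologicalSpace
open MonoidalCategory CartesianMonoidalCategory MonObj GrpObj

namespace Groth.Agent.Helper5.FibGrp

variable {S : Scheme.{u}} (G H : Over S) [GrpObj G] [GrpObj H] (u : G ⟶ H) [IsMonHom u]

theorem lfp_hom [LocallyOfFinitePresentation G.hom] [LocallyOfFiniteType H.hom] :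
    LocallyOfFinitePresentation u.left :=
  Groth.Agent.Helper2.LfpComp.locallyOfFinitePresentation_of_comp u.left H.hom
    (by rw [Over.w u]; infer_instance) inferInstance

/-- an open set defined by neighbourhoods is open -/
theorem isOpen_nbhd_locus {X : Scheme.{u}} (P : X.Opens → Prop) :
    IsOpen {x : X | ∃ W : X.Opens, x ∈ W ∧ P W} := by
  rw [isOpen_iff_forall_mem_open]
  rintro x ⟨W, hxW, hW⟩
  exact ⟨W, fun y hy => ⟨W, hy, hW⟩, W.isOpen, hxW⟩

/-- the open set of the base is the preimage under the unit section -/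
theorem isOpen_of_preimage (A : Set G.left) (B : Set S) (hA : IsOpen A)
    (hb : A = G.hom.base ⁻¹' B) : IsOpen B := by
  have : B = η[G].left.base ⁻¹' A := by
    ext s
    rw [hb]
    simp only [Set.mem_preimage]
    have := unit_apply G s
    rw [this]
  rw [this]
  exact hA.preimage η[G].left.continuous

theorem etaleAt_iff_fb [Flat G.hom] [LocallyOfFinitePresentation G.hom]
    [LocallyOfFiniteType H.hom] (x : G.left) :
    (∃ W : G.left.Opens, x ∈ W ∧ Etale (W.ι ≫ u.left)) ↔ Etale (fb G H u (G.hom x)) := by
  haveI := lfp_hom G H u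
  haveI : LocallyOfFinitePresentation (fb G H u (G.hom x)) :=
    fb_of G H u @LocallyOfFinitePresentation _ inferInstance
  rw [Groth.Agent.Helper3.StalkNbhd.etale_nbhd_iff, Etale.iff_flat_and_formallyUnramified,
    flatAt_iff_flat_fb G H u x]
  have := unrAt_iff_fb G H u x
  unfold UnrAt at this
  rw [this]
  constructor
  · rintro ⟨h1, h2⟩
    exact ⟨h1, h2, inferInstance⟩
  · rintro ⟨h1, h2, -⟩
    exact ⟨h1, h2⟩

theorem s5314 [Flat G.hom] [LocallyOfFinitePresentation G.hom] [LocallyOfFiniteType H.hom] :
    IsOpen {s : S | Etale ((Over.pullback (S.fromSpecResidueField s)).map u).left} ∧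
    {x : G.left | ∃ W : G.left.Opens, x ∈ W ∧ Etale (W.ι ≫ u.left)} =
      G.hom.base ⁻¹' {s : S | Etale ((Over.pullback (S.fromSpecResidueField s)).map u).left} := by
  have hb : {x : G.left | ∃ W : G.left.Opens, x ∈ W ∧ Etale (W.ι ≫ u.left)} =
      G.hom.base ⁻¹' {s : S | Etale
        ((Over.pullback (S.fromSpecResidueField s)).map u).left} := by
    ext x
    exact etaleAt_iff_fb G H u x
  exact ⟨isOpen_of_preimage G _ _ (isOpen_nbhd_locus _) hb, hb⟩

end Groth.Agent.Helper5.FibGrp
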