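import Mathlib
import Groth.Prelude
import Groth.Agent.Helper5.FibGrp10

set_option autoImplicit false
set_option linter.unusedSectionVars false
set_option linter.style.haveILetI false
universe u

open AlgebraicGeometry CategoryTheory CategoryTheory.Limits TopologicalSpace
open MonoidalCategory CartesianMonoidalCategory MonObj GrpObj

namespace Groth.Agent.Helper5.FibGrp

/-- étale + universally injective ⇒ open immersion -/
theorem isOpenImmersion_of_etale_of_universallyInjective {X Y : Scheme.{u}} (f : X ⟶ Y)
    [Etale f] [UniversallyInjective f] : IsOpenImmersion f := by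
  haveI : LocallyOfFinitePresentation f := inferInstance
  haveI : IsOpenImmersion (pullback.diagonal f) := inferInstance
  haveI : Surjective (pullback.diagonal f) := (UniversallyInjective.iff_diagonal f).1 inferInstance
  haveI : Epi (pullback.diagonal f).base :=
    (TopCat.epi_iff_surjective _).2 (pullback.diagonal f).surjective
  haveI : IsIso (pullback.diagonal f) := IsOpenImmersion.isIso _
  haveI : Mono f := (pullback.isIso_diagonal_iff f).1 inferInstance
  exact IsOpenImmersion.of_flat_of_mono f

theorem etale_iff_forall {X Y : Scheme.{u}} (f : X ⟶ Y) [LocallyOfFinitePresentation f] :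
    Etale f ↔ ∀ x, (f.stalkMap x).hom.Flat ∧ (f.stalkMap x).hom.FormallyUnramified := by
  constructor
  · intro h x
    exact ⟨Flat.stalkMap f x, FormallyUnramified.stalkMap f x⟩
  · intro h
    haveI : Flat f := (Flat.iff_flat_stalkMap f).2 fun x => (h x).1
    haveI : FormallyUnramified f :=
      (formallyUnramified_iff_forall_unrAt f).2 fun x => (h x).2
    exact Etale.of_formallyUnramified_of_flat f

variable {S : Scheme.{u}} (G H : Over S) [GrpObj G] [GrpObj H] (u : G ⟶ H) [IsMonHom u]

theorem s5317 [UniversallyInjective u.left]
    [Flat G.hom] [LocallyOfFinitePresentation G.hom] [LocallyOfFiniteType H.hom] :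
    IsOpen {s : S | IsOpenImmersion ((Over.pullback (S.fromSpecResidueField s)).map u).left} ∧
    ∀ W : S.Opens, (W : Set S) ⊆ {s : S | IsOpenImmersion
      ((Over.pullback (S.fromSpecResidueField s)).map u).left} →
      IsOpenImmersion ((G.hom ⁻¹ᵁ W).ι ≫ u.left) := by
  haveI := lfp_hom G H u
  have heq : {s : S | IsOpenImmersion ((Over.pullback (S.fromSpecResidueField s)).map u).left} =
      {s : S | Etale ((Over.pullback (S.fromSpecResidueField s)).map u).left} := by
    ext s
    constructor
    · intro (h : IsOpenImmersion (fb G H u s))
      show Etale (fb G H u s)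
      infer_instance
    · intro (h : Etale (fb G H u s))
      show IsOpenImmersion (fb G H u s)
      haveI : UniversallyInjective (fb G H u s) :=
        fb_of G H u @UniversallyInjective s inferInstance
      exact isOpenImmersion_of_etale_of_universallyInjective _
  refine ⟨?_, ?_⟩
  · rw [heq]
    exact (s5314 G H u).1
  · intro W hW
    rw [heq] at hW
    haveI : Etale ((G.hom ⁻¹ᵁ W).ι ≫ u.left) := by
      rw [etale_iff_forall]
      rintro ⟨x, hx⟩
      rw [Groth.Agent.Helper3.StalkNbhd.stalkMap_ι_comp_iff RingHom.Flat.respectsIso,
        Groth.Agent.Helper3.StalkNbhd.stalkMap_ι_comp_iff RingHom.FormallyUnramified.respectsIso]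
      have h1 : Etale (fb G H u (G.hom x)) := hW hx
      exact ⟨(flatAt_iff_flat_fb G H u x).2 inferInstance,
        (unrAt_iff_fb G H u x).2 inferInstance⟩
    haveI : UniversallyInjective ((G.hom ⁻¹ᵁ W).ι ≫ u.left) :=
      MorphismProperty.comp_mem _ _ _ (inferInstance : UniversallyInjective (G.hom ⁻¹ᵁ W).ι)
        ‹UniversallyInjective u.left›
    exact isOpenImmersion_of_etale_of_universallyInjective _

end Groth.Agent.Helper5.FibGrp
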