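import Mathlib
import Groth.Prelude
import Groth.Agent.Helper5.FibGrp11

set_option autoImplicit false
set_option linter.unusedSectionVars false
set_option linter.style.haveILetI false
universe u

open AlgebraicGeometry CategoryTheory CategoryTheory.Limits TopologicalSpace
open MonoidalCategory CartesianMonoidalCategory MonObj GrpObj

namespace Groth.Agent.Helper5.Homog

/-- the locus where a morphism property holds on a neighbourhood -/
def ploc (P : MorphismProperty Scheme.{u}) {X Y : Scheme.{u}} (φ : X ⟶ Y) : Set X :=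
  {x | ∃ W : X.Opens, x ∈ W ∧ P (W.ι ≫ φ)}

theorem isOpen_ploc (P : MorphismProperty Scheme.{u}) {X Y : Scheme.{u}} (φ : X ⟶ Y) :
    IsOpen (ploc P φ) := Groth.Agent.Helper5.FibGrp.isOpen_nbhd_locus _

/-- invariance of the locus under automorphisms commuting with `φ` -/
theorem ploc_of_iso (P : MorphismProperty Scheme.{u}) [P.RespectsIso] {X Y : Scheme.{u}}
    (φ : X ⟶ Y) (a : X ⟶ X) (b : Y ⟶ Y) [IsIso a] [IsIso b] (comm : a ≫ φ = φ ≫ b) (y : X)
    (hy : a y ∈ ploc P φ) : y ∈ ploc P φ := by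
  obtain ⟨W, hyW, hW⟩ := hy
  refine ⟨a ⁻¹ᵁ W, hyW, ?_⟩
  have h1 : ((a ⁻¹ᵁ W).ι ≫ φ) ≫ b = (a ∣_ W) ≫ (W.ι ≫ φ) := by
    rw [Category.assoc, ← comm, ← Category.assoc, ← morphismRestrict_ι, Category.assoc]
  have h2 : P (((a ⁻¹ᵁ W).ι ≫ φ) ≫ b) := by
    rw [h1]
    exact (P.cancel_left_of_respectsIso _ _).2 hW
  exact (P.cancel_right_of_respectsIso _ _).1 h2

theorem of_ploc_eq_univ (P : MorphismProperty Scheme.{u}) [IsZariskiLocalAtSource P]
    {X Y : Scheme.{u}} (φ : X ⟶ Y) (h : ploc P φ = Set.univ) : P φ := by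
  choose W hxW hW using fun x : X => (show x ∈ ploc P φ by rw [h]; trivial)
  rw [IsZariskiLocalAtSource.iff_of_iSup_eq_top (P := P) W]
  · exact hW
  · rw [eq_top_iff]
    intro x _
    exact Opens.mem_iSup.2 ⟨x, hxW x⟩

section translate

variable {C : Type*} [Category C] [CartesianMonoidalCategory C] {G H : C} [GrpObj G] [GrpObj H]
  (u : G ⟶ H) [IsMonHom u]

theorem mulRight_hom_comp (a : 𝟙_ C ⟶ G) :
    (GrpObj.mulRight a).hom ≫ u = u ≫ (GrpObj.mulRight (a ≫ u)).hom := by
  simp only [GrpObj.mulRight_hom, Category.assoc, IsMonHom.mul_hom]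
  rw [lift_map_assoc, comp_lift_assoc]
  simp

theorem mulRight_inv_comp (a : 𝟙_ C ⟶ G) :
    (GrpObj.mulRight a).inv ≫ u = u ≫ (GrpObj.mulRight (a ≫ u)).inv := by
  rw [Iso.inv_comp_eq, ← Category.assoc, mulRight_hom_comp, Category.assoc, Iso.hom_inv_id,
    Category.comp_id]

end translate

/-- homogeneity over an algebraically closed field -/
theorem homog_algClosed {K : Type u} [Field K] [IsAlgClosed K]
    (G H : Over (Spec (CommRingCat.of K))) [GrpObj G] [GrpObj H] (u : G ⟶ H) [IsMonHom u]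
    [LocallyOfFiniteType G.hom]
    (P : MorphismProperty Scheme.{u}) [IsZariskiLocalAtSource P]
    (h : (ploc P u.left).Nonempty) : P u.left := by
  have := LocallyOfFiniteType.jacobsonSpace G.hom
  apply of_ploc_eq_univ
  by_contra hne
  rw [← ne_eq, ← Set.nonempty_compl] at hne
  have hVo := isOpen_ploc P u.left
  obtain ⟨x, hx, hxc⟩ := nonempty_inter_closedPoints hne hVo.isClosed_compl.isLocallyClosed
  obtain ⟨y, hy, hyc⟩ := nonempty_inter_closedPoints h hVo.isLocallyClosed
  let x' : 𝟙_ _ ⟶ G := Over.homMk _ ((pointEquivClosedPoint G.hom).symm ⟨x, hxc⟩).2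
  let y' : 𝟙_ _ ⟶ G := Over.homMk _ ((pointEquivClosedPoint G.hom).symm ⟨y, hyc⟩).2
  let αG := (GrpObj.mulRight x').symm ≪≫ (GrpObj.mulRight y')
  let αH := (GrpObj.mulRight (x' ≫ u)).symm ≪≫ (GrpObj.mulRight (y' ≫ u))
  have hα : x' ≫ αG.hom = y' := by
    dsimp only [Iso.trans_hom, Iso.symm_hom, αG]
    rw [← Category.assoc, ← Iso.eq_comp_inv]
    simp [comp_lift_assoc]
  have hα' : αG.hom.left x = y := by
    simpa [x', y', pointEquivClosedPoint] using congr(($hα).left (IsLocalRing.closedPoint K))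
  have comm : αG.hom ≫ u = u ≫ αH.hom := by
    dsimp only [Iso.trans_hom, Iso.symm_hom, αG, αH]
    rw [Category.assoc, mulRight_hom_comp, ← Category.assoc, mulRight_inv_comp, Category.assoc]
  have comm' : αG.hom.left ≫ u.left = u.left ≫ αH.hom.left := by
    rw [← Over.comp_left, comm, Over.comp_left]
  haveI : IsIso αG.hom.left := inferInstanceAs (IsIso ((Over.forget _).map αG.hom))
  haveI : IsIso αH.hom.left := inferInstanceAs (IsIso ((Over.forget _).map αH.hom))
  apply hx
  refine ploc_of_iso P u.left αG.hom.left αH.hom.left comm' x ?_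
  rw [hα']
  exact hy

end Groth.Agent.Helper5.Homog
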