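import Mathlib
import Groth.Prelude
import Groth.Agent.Helper5.Homog1

set_option autoImplicit false
set_option linter.unusedSectionVars false
set_option linter.style.haveILetI false
universe u

open AlgebraicGeometry CategoryTheory CategoryTheory.Limits TopologicalSpace
open MonoidalCategory CartesianMonoidalCategory MonObj GrpObj

namespace Groth.Agent.Helper5.Homog

section bcm

variable {S S' : Scheme.{u}} (G H : Over S) (f : G ⟶ H) (g : S' ⟶ S)

/-- the base change of `f` along `g`, on the level of schemes -/
noncomputable def bcm : pullback G.hom g ⟶ pullback H.hom g :=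
  ((Over.pullback g).map f).left

theorem bcm_fst : bcm G H f g ≫ pullback.fst H.hom g = pullback.fst G.hom g ≫ f.left :=
  pullback.lift_fst _ _ _

theorem bcm_snd : bcm G H f g ≫ pullback.snd H.hom g = pullback.snd G.hom g :=
  pullback.lift_snd _ _ _

theorem isPullback_bcm :
    IsPullback (pullback.fst G.hom g) (bcm G H f g) f.left (pullback.fst H.hom g) := by
  refine IsPullback.of_bot (v₂₁ := pullback.snd H.hom g) (v₂₂ := H.hom)
    (h₃₁ := g) ?_ (bcm_fst G H f g).symm (IsPullback.of_hasPullback H.hom g)
  rw [bcm_snd, Over.w f]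
  exact IsPullback.of_hasPullback G.hom g

end bcm

/-- the neighbourhood locus is stable under base change -/
theorem ploc_of_isPullback (P : MorphismProperty Scheme.{u}) [P.IsStableUnderBaseChange]
    {X Y X' Y' : Scheme.{u}} {f : X ⟶ Y} {g : Y' ⟶ Y}
    {fst : X' ⟶ X} {snd : X' ⟶ Y'} (h : IsPullback fst snd f g) (x' : X')
    (hs : fst x' ∈ ploc P f) : x' ∈ ploc P snd := by
  obtain ⟨U, hxU, hU⟩ := hs
  refine ⟨fst ⁻¹ᵁ U, hxU, ?_⟩
  have sq : IsPullback (fst ∣_ U) ((fst ⁻¹ᵁ U).ι ≫ snd) (U.ι ≫ f) g :=
    (isPullback_morphismRestrict fst U).paste_vert h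
  exact MorphismProperty.of_isPullback sq hU

/-- homogeneity of a local property, fpqc-local on the target, for homomorphisms of group schemes
locally of finite type over a field -/
theorem homog {k : Type u} [Field k] (G H : Over (Spec (CommRingCat.of k))) [GrpObj G] [GrpObj H]
    (u : G ⟶ H) [IsMonHom u] [LocallyOfFiniteType G.hom]
    (P : MorphismProperty Scheme.{u}) [P.IsStableUnderBaseChange] [IsZariskiLocalAtSource P]
    [P.DescendsAlong (@Surjective ⊓ @Flat ⊓ @QuasiCompact)]
    (h : (ploc P u.left).Nonempty) : P u.left := by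
  let Ω : Type u := AlgebraicClosure k
  let g : Spec (CommRingCat.of Ω) ⟶ Spec (CommRingCat.of k) :=
    Spec.map (CommRingCat.ofHom <| algebraMap k Ω)
  let G' : Over (Spec (CommRingCat.of Ω)) := Red.bc g G
  let H' : Over (Spec (CommRingCat.of Ω)) := Red.bc g H
  let u' : G' ⟶ H' := (Over.pullback g).map u
  haveI : IsMonHom u' := inferInstance
  haveI : LocallyOfFiniteType G'.hom :=
    inferInstanceAs (LocallyOfFiniteType (pullback.snd G.hom g))
  have sq := isPullback_bcm G H u g
  have hQ : (@Surjective ⊓ @Flat ⊓ @QuasiCompact : MorphismProperty Scheme.{u})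
      (pullback.fst H.hom g) := ⟨⟨inferInstance, inferInstance⟩, inferInstance⟩
  refine MorphismProperty.of_isPullback_of_descendsAlong (P := P)
    (Q := (@Surjective ⊓ @Flat ⊓ @QuasiCompact : MorphismProperty Scheme.{u})) sq.flip hQ ?_
  show P u'.left
  apply homog_algClosed G' H' u' P
  obtain ⟨x, hx⟩ := h
  obtain ⟨x', hx'⟩ := (pullback.fst G.hom g).surjective x
  refine ⟨x', ploc_of_isPullback P sq x' ?_⟩
  rw [hx']
  exact hx

end Groth.Agent.Helper5.Homog
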