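import Mathlib
import Groth.Prelude
import Groth.Agent.Helper3.GeomRedProd
import Groth.Agent.Helper2.CotTSmooth

set_option autoImplicit false
set_option linter.unusedSectionVars false
set_option linter.style.haveILetI false
universe u

open AlgebraicGeometry CategoryTheory CategoryTheory.Limits TopologicalSpace TensorProduct

namespace Groth.Agent.Helper5.RedGrp

variable {K : Type u} [Field K] [IsAlgClosed K]

/-- affine case: the product of two reduced affine schemes over an algebraically closed field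
is reduced -/
theorem isReduced_pullback_affine (A B : CommRingCat.{u})
    (a₁ : Spec A ⟶ Spec (CommRingCat.of K)) (a₂ : Spec B ⟶ Spec (CommRingCat.of K))
    [_root_.IsReduced A] [_root_.IsReduced B] : IsReduced (pullback a₁ a₂) := by
  obtain ⟨φ₁, rfl⟩ := Spec.map_surjective a₁
  obtain ⟨φ₂, rfl⟩ := Spec.map_surjective a₂
  letI := φ₁.hom.toAlgebra
  letI := φ₂.hom.toAlgebra
  have h1 : φ₁ = CommRingCat.ofHom (algebraMap K A) := rfl
  have h2 : φ₂ = CommRingCat.ofHom (algebraMap K B) := rfl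
  rw [h1, h2]
  haveI : Algebra.IsGeometricallyReduced K B :=
    Groth.Agent.Helper2.CotTSmooth.isGeometricallyReduced_of_isAlgClosed K B
  haveI : _root_.IsReduced (A ⊗[K] B) := Groth.Agent.Helper3.GeomRedProd.isReduced_tensor A B
  haveI : IsReduced (Spec (CommRingCat.of (A ⊗[K] B))) := inferInstance
  exact isReduced_of_isOpenImmersion (pullbackSpecIso K A B).hom

/-- the product of two reduced schemes over an algebraically closed field is reduced -/
theorem isReduced_pullback {Z₁ Z₂ : Scheme.{u}}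
    (g₁ : Z₁ ⟶ Spec (CommRingCat.of K)) (g₂ : Z₂ ⟶ Spec (CommRingCat.of K))
    [IsReduced Z₁] [IsReduced Z₂] : IsReduced (pullback g₁ g₂) := by
  let 𝒱₁ := Z₁.affineOpenCover
  let 𝒱₂ := Z₂.affineOpenCover
  let 𝒲 := Scheme.Pullback.openCoverOfLeftRight 𝒱₁.openCover 𝒱₂.openCover g₁ g₂
  refine (IsReduced.iff_of_openCover _ 𝒲).mpr (fun (ij : 𝒱₁.I₀ × 𝒱₂.I₀) => ?_)
  show IsReduced (pullback (𝒱₁.f ij.1 ≫ g₁) (𝒱₂.f ij.2 ≫ g₂))
  haveI : IsOpenImmersion (𝒱₁.f ij.1) := 𝒱₁.map_prop ij.1
  haveI : IsOpenImmersion (𝒱₂.f ij.2) := 𝒱₂.map_prop ij.2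
  haveI : IsReduced (Spec (𝒱₁.X ij.1)) := isReduced_of_isOpenImmersion (𝒱₁.f ij.1)
  haveI : IsReduced (Spec (𝒱₂.X ij.2)) := isReduced_of_isOpenImmersion (𝒱₂.f ij.2)
  haveI : _root_.IsReduced (𝒱₁.X ij.1) := (affine_isReduced_iff _).1 inferInstance
  haveI : _root_.IsReduced (𝒱₂.X ij.2) := (affine_isReduced_iff _).1 inferInstance
  exact isReduced_pullback_affine _ _ _ _

end Groth.Agent.Helper5.RedGrp
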