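import Mathlib
import Groth.Prelude
import Groth.Agent.Helper5.RedGrp1
import Groth.Agent.Helper5.CutSec7
import Groth.Agent.Helper3.SepPts
import Groth.Agent.Helper9.TopQuot5

set_option autoImplicit false
set_option linter.unusedSectionVars false
set_option linter.style.haveILetI false
universe u

open AlgebraicGeometry CategoryTheory CategoryTheory.Limits TopologicalSpace
open MonoidalCategory CartesianMonoidalCategory MonObj GrpObj

namespace Groth.Agent.Helper5.RedGrp

variable {S : Scheme.{u}} (H : Over S) [GrpObj H]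

/-- a closed subset stable under the group operations -/
structure IsStable (C : Set H.left) : Prop where
  closed : IsClosed C
  one_mem : ∀ pt : (𝟙_ (Over S)).left, η[H].left pt ∈ C
  mul_mem : ∀ w : (H ⊗ H).left, (fst H H).left w ∈ C → (snd H H).left w ∈ C → μ[H].left w ∈ C
  inv_mem : ∀ h ∈ C, ι[H].left h ∈ C

variable {H} {C : Set H.left} (hC : IsStable H C)

/-- the reduced closed subscheme on `C` -/
noncomputable def redSubι : (Scheme.IdealSheafData.vanishingIdeal ⟨C, hC.closed⟩).subscheme ⟶
    H.left :=
  (Scheme.IdealSheafData.vanishingIdeal ⟨C, hC.closed⟩).subschemeι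

instance : IsClosedImmersion (redSubι hC) := by
  unfold redSubι; infer_instance

theorem range_redSubι : Set.range (redSubι hC) = C := by
  unfold redSubι
  rw [Scheme.IdealSheafData.range_subschemeι, Scheme.IdealSheafData.coe_support_vanishingIdeal]
  rfl

/-- the reduced closed subscheme as a scheme over the base field -/
noncomputable def Zo : Over S := Over.mk (redSubι hC ≫ H.hom)

noncomputable def io : Zo hC ⟶ H := Over.homMk (redSubι hC) rfl

instance : IsClosedImmersion (io hC).left := inferInstanceAs (IsClosedImmersion (redSubι hC))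

instance : IsReduced (Zo hC).left :=
  Groth.Agent.Helper5.CutSec.isReduced_vanishingIdeal_subscheme ⟨C, hC.closed⟩

theorem range_io : Set.range (io hC).left = C := range_redSubι hC

instance : Mono (io hC) := Over.mono_of_mono_left _

theorem io_mem (z : (Zo hC).left) : (io hC).left z ∈ C := (range_io hC).le ⟨z, rfl⟩

/-- a morphism from a reduced scheme with image in `C` factors through `Zo` -/
theorem exists_lift (T : Over S) [IsReduced T.left] (φ : T ⟶ H)
    (h : ∀ t : T.left, φ.left t ∈ C) : ∃ ψ : T ⟶ Zo hC, ψ ≫ io hC = φ := by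
  have hr : Set.range φ.left.base ⊆ Set.range (io hC).left.base := by
    rintro _ ⟨t, rfl⟩
    rw [range_io]
    exact h t
  obtain ⟨ψ, hψ⟩ := Groth.Agent.Helper3.SepPts.lift_of_reduced (io hC).left φ.left hr
  refine ⟨Over.homMk ψ ?_, ?_⟩
  · rw [← Over.w (io hC), ← Category.assoc, hψ, Over.w φ]
  · ext
    exact hψ

end Groth.Agent.Helper5.RedGrp

namespace Groth.Agent.Helper5.RedGrp

variable {K : Type u} [Field K] [IsAlgClosed K] {H : Over (Spec (CommRingCat.of K))} [GrpObj H]
  {C : Set H.left} (hC : IsStable H C)

instance : IsReduced (Zo hC ⊗ Zo hC).left := by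
  rw [Over.tensorObj_left]
  exact isReduced_pullback _ _

instance : IsReduced (𝟙_ (Over (Spec (CommRingCat.of K)))).left :=
  inferInstanceAs (IsReduced (Spec (CommRingCat.of K)))

theorem exists_one : ∃ e : 𝟙_ (Over (Spec (CommRingCat.of K))) ⟶ Zo hC, e ≫ io hC = η[H] :=
  exists_lift hC _ η[H] hC.one_mem

theorem exists_mul : ∃ m : Zo hC ⊗ Zo hC ⟶ Zo hC,
    m ≫ io hC = (fst (Zo hC) (Zo hC) ≫ io hC) * (snd (Zo hC) (Zo hC) ≫ io hC) := by
  apply exists_lift hC
  intro w
  rw [Hom.mul_def, Over.comp_left, Scheme.Hom.comp_apply]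
  apply hC.mul_mem
  · rw [← Scheme.Hom.comp_apply, ← Over.comp_left, lift_fst, Over.comp_left,
      Scheme.Hom.comp_apply]
    exact io_mem hC _
  · rw [← Scheme.Hom.comp_apply, ← Over.comp_left, lift_snd, Over.comp_left,
      Scheme.Hom.comp_apply]
    exact io_mem hC _

theorem exists_inv : ∃ j : Zo hC ⟶ Zo hC, j ≫ io hC = (io hC)⁻¹ := by
  apply exists_lift hC
  intro w
  rw [Hom.inv_def, Over.comp_left, Scheme.Hom.comp_apply]
  apply hC.inv_mem
  exact io_mem hC _

/-- the group structure on the reduced closed subscheme -/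
@[instance_reducible]
noncomputable def grp : GrpObj (Zo hC) :=
  Groth.Agent.Helper9.TopQuot.subGrp (io hC) (exists_one hC).choose (exists_one hC).choose_spec
    (exists_mul hC).choose (exists_mul hC).choose_spec (exists_inv hC).choose
    (exists_inv hC).choose_spec

theorem isMonHom_io : @IsMonHom _ _ _ (Zo hC) H (grp hC).toMonObj _ (io hC) :=
  Groth.Agent.Helper9.TopQuot.subGrp_isMonHom (io hC) (exists_one hC).choose
    (exists_one hC).choose_spec (exists_mul hC).choose (exists_mul hC).choose_spec
    (exists_inv hC).choose (exists_inv hC).choose_spec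

end Groth.Agent.Helper5.RedGrp
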