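import Mathlib
import Groth.Prelude
import Groth.Agent.Helper5.RedGrp2
import Groth.Agent.Helper5.ProdDom

set_option autoImplicit false
set_option linter.unusedSectionVars false
set_option linter.style.haveILetI false
universe u

open AlgebraicGeometry CategoryTheory CategoryTheory.Limits TopologicalSpace
open MonoidalCategory CartesianMonoidalCategory MonObj GrpObj

namespace Groth.Agent.Helper5.RedGrp

open Groth.Agent.Helper5.GrpDense

variable (A : Type u) [CommRing A] [IsArtinianRing A] [IsLocalRing A]

/-- closure in the second factor -/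
theorem mem_closure_right {X X' Y : Over (Spec (CommRingCat.of A))} (f : X' ⟶ X)
    (s : Set Y.left) (w : (X ⊗ Y).left)
    (h1 : (fst X Y).left w ∈ Set.range f.left) (h2 : (snd X Y).left w ∈ closure s) :
    w ∈ closure {w' : (X ⊗ Y).left | (fst X Y).left w' ∈ Set.range f.left ∧
      (snd X Y).left w' ∈ s} := by
  have hr := range_whiskerRight f Y
  obtain ⟨p, rfl⟩ : w ∈ Set.range (f ▷ Y).left := by rw [hr]; exact h1
  have hq : IsOpenMap (snd X' Y).left := isOpenMap_snd_of_artinian A X' Y
  have hsnd : ∀ p' : (X' ⊗ Y).left, (snd X Y).left ((f ▷ Y).left p') = (snd X' Y).left p' := by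
    intro p'
    rw [← Scheme.Hom.comp_apply, ← Over.comp_left, whiskerRight_snd]
  have hp : p ∈ closure ((snd X' Y).left ⁻¹' s) := by
    rw [← hq.preimage_closure_eq_closure_preimage (snd X' Y).left.continuous]
    show (snd X' Y).left p ∈ closure s
    rw [← hsnd]
    exact h2
  have h3 := image_closure_subset_closure_image (f ▷ Y).left.continuous
    (Set.mem_image_of_mem _ hp)
  refine closure_mono ?_ h3
  rintro _ ⟨p', hp', rfl⟩
  refine ⟨?_, ?_⟩
  · have : (f ▷ Y).left p' ∈ Set.range (f ▷ Y).left := ⟨p', rfl⟩
    rw [hr] at this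
    exact this
  · rw [hsnd]
    exact hp'

/-- closure in the first factor -/
theorem mem_closure_left {X Y Y' : Over (Spec (CommRingCat.of A))} (f : Y' ⟶ Y)
    (s : Set X.left) (w : (X ⊗ Y).left)
    (h1 : (snd X Y).left w ∈ Set.range f.left) (h2 : (fst X Y).left w ∈ closure s) :
    w ∈ closure {w' : (X ⊗ Y).left | (fst X Y).left w' ∈ s ∧
      (snd X Y).left w' ∈ Set.range f.left} := by
  have hr := range_whiskerLeft X f
  obtain ⟨p, rfl⟩ : w ∈ Set.range (X ◁ f).left := by rw [hr]; exact h1
  have hq : IsOpenMap (fst X Y').left := isOpenMap_fst_of_artinian A X Y'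
  have hfst : ∀ p' : (X ⊗ Y').left, (fst X Y).left ((X ◁ f).left p') = (fst X Y').left p' := by
    intro p'
    rw [← Scheme.Hom.comp_apply, ← Over.comp_left, whiskerLeft_fst]
  have hp : p ∈ closure ((fst X Y').left ⁻¹' s) := by
    rw [← hq.preimage_closure_eq_closure_preimage (fst X Y').left.continuous]
    show (fst X Y').left p ∈ closure s
    rw [← hfst]
    exact h2
  have h3 := image_closure_subset_closure_image (X ◁ f).left.continuous
    (Set.mem_image_of_mem _ hp)
  refine closure_mono ?_ h3
  rintro _ ⟨p', hp', rfl⟩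
  refine ⟨?_, ?_⟩
  · rw [hfst]
    exact hp'
  · have : (X ◁ f).left p' ∈ Set.range (X ◁ f).left := ⟨p', rfl⟩
    rw [hr] at this
    exact this

variable (G H : Over (Spec (CommRingCat.of A))) [GrpObj G] [GrpObj H] (u : G ⟶ H) [IsMonHom u]

/-- the closure of the image of a homomorphism is stable under the group operations -/
theorem isStable_closure_range : IsStable H (closure (Set.range u.left)) where
  closed := isClosed_closure
  one_mem pt := by
    apply subset_closure
    refine ⟨η[G].left pt, ?_⟩
    rw [← Scheme.Hom.comp_apply, ← Over.comp_left, IsMonHom.one_hom]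
  inv_mem h hh := by
    have h1 := image_closure_subset_closure_image ι[H].left.continuous
      (Set.mem_image_of_mem _ hh)
    refine closure_mono ?_ h1
    rintro _ ⟨_, ⟨g, rfl⟩, rfl⟩
    refine ⟨ι[G].left g, ?_⟩
    rw [← Scheme.Hom.comp_apply, ← Scheme.Hom.comp_apply, ← Over.comp_left, ← Over.comp_left,
      GrpObj.inv_hom]
  mul_mem w hw1 hw2 := by
    -- the reduced closed subscheme on the closure
    let C : Set H.left := closure (Set.range u.left)
    let I := Scheme.IdealSheafData.vanishingIdeal (X := H.left) ⟨C, isClosed_closure⟩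
    let Zc : Over (Spec (CommRingCat.of A)) := Over.mk (I.subschemeι ≫ H.hom)
    let ic : Zc ⟶ H := Over.homMk I.subschemeι rfl
    have hic : Set.range ic.left = C := by
      show Set.range I.subschemeι = C
      rw [Scheme.IdealSheafData.range_subschemeι,
        Scheme.IdealSheafData.coe_support_vanishingIdeal]
      rfl
    -- step 2
    have s2 := mem_closure_left A ic (Set.range u.left) w (by rw [hic]; exact hw2) hw1
    -- step 1
    have s1 : {w' : (H ⊗ H).left | (fst H H).left w' ∈ Set.range u.left ∧
        (snd H H).left w' ∈ Set.range ic.left} ⊆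
        closure {w' : (H ⊗ H).left | (fst H H).left w' ∈ Set.range u.left ∧
          (snd H H).left w' ∈ Set.range u.left} := by
      rintro w' ⟨h1, h2⟩
      rw [hic] at h2
      exact mem_closure_right A u (Set.range u.left) w' h1 h2
    have s3 : w ∈ closure {w' : (H ⊗ H).left | (fst H H).left w' ∈ Set.range u.left ∧
          (snd H H).left w' ∈ Set.range u.left} :=
      closure_minimal s1 isClosed_closure s2
    have h1 := image_closure_subset_closure_image μ[H].left.continuous
      (Set.mem_image_of_mem _ s3)
    refine closure_mono ?_ h1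
    rintro _ ⟨w', ⟨hw'1, hw'2⟩, rfl⟩
    -- w' is in the range of u ⊗ u
    have hr1 : w' ∈ Set.range (u ▷ H).left := by
      rw [range_whiskerRight u H]; exact hw'1
    obtain ⟨p, rfl⟩ := hr1
    have hp2 : (snd G H).left p ∈ Set.range u.left := by
      have : (snd H H).left ((u ▷ H).left p) = (snd G H).left p := by
        rw [← Scheme.Hom.comp_apply, ← Over.comp_left, whiskerRight_snd]
      rw [← this]; exact hw'2
    have hr2 : p ∈ Set.range (G ◁ u).left := by
      rw [range_whiskerLeft G u]; exact hp2
    obtain ⟨v, rfl⟩ := hr2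
    refine ⟨μ[G].left v, ?_⟩
    rw [← Scheme.Hom.comp_apply, ← Scheme.Hom.comp_apply, ← Scheme.Hom.comp_apply,
      ← Over.comp_left, ← Over.comp_left, ← Over.comp_left]
    congr 2
    rw [IsMonHom.mul_hom, tensorHom_def', Category.assoc]

end Groth.Agent.Helper5.RedGrp
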