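import Mathlib
import Groth.Prelude
import Groth.Agent.Helper5.RedGrp3
import Groth.Agent.Helper5.DomHom2

set_option autoImplicit false
set_option linter.unusedSectionVars false
set_option linter.style.haveILetI false
universe u

open AlgebraicGeometry CategoryTheory CategoryTheory.Limits TopologicalSpace
open MonoidalCategory CartesianMonoidalCategory MonObj GrpObj

namespace Groth.Agent.Helper5.RedGrp

section General

variable {C : Type*} [Category C] [CartesianMonoidalCategory C] {X Y Z : C}
  [MonObj X] [MonObj Y] [MonObj Z]

/-- if `f' ≫ i` and `i` are homs with `i` mono, then `f'` is a hom -/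
theorem isMonHom_of_comp_mono (f' : X ⟶ Y) (i : Y ⟶ Z) [Mono i] [IsMonHom i]
    (h : IsMonHom (f' ≫ i)) : IsMonHom f' where
  one_hom := by
    rw [← cancel_mono i, Category.assoc, h.one_hom, IsMonHom.one_hom]
  mul_hom := by
    rw [← cancel_mono i, Category.assoc, h.mul_hom, Category.assoc, IsMonHom.mul_hom,
      ← tensorHom_comp_tensorHom, Category.assoc]

end General

section

variable {S : Scheme.{u}} (G : Over S) [GrpObj G]

theorem isStable_univ : IsStable G Set.univ where
  closed := isClosed_univ
  one_mem _ := Set.mem_univ _
  mul_mem _ _ _ := Set.mem_univ _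
  inv_mem _ _ := Set.mem_univ _

end

variable {K : Type u} [Field K] [IsAlgClosed K] (G H : Over (Spec (CommRingCat.of K)))
  [GrpObj G] [GrpObj H] (u : G ⟶ H) [IsMonHom u]

/-- `G_red` -/
noncomputable def Gr : Over (Spec (CommRingCat.of K)) := Zo (isStable_univ G)

noncomputable instance : GrpObj (Gr G) := grp (isStable_univ G)

noncomputable def jG : Gr G ⟶ G := io (isStable_univ G)

instance : IsMonHom (jG G) := isMonHom_io (isStable_univ G)

instance : IsClosedImmersion (jG G).left :=
  inferInstanceAs (IsClosedImmersion (io (isStable_univ G)).left)

instance : Mono (jG G) := inferInstanceAs (Mono (io (isStable_univ G)))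

instance : IsReduced (Gr G).left := inferInstanceAs (IsReduced (Zo (isStable_univ G)).left)

theorem range_jG : Set.range (jG G).left = Set.univ := range_io _

instance : Surjective (jG G).left := ⟨fun x => (range_jG G).ge (Set.mem_univ x)⟩

/-- the reduced closure of the image of `u` -/
noncomputable def Zu : Over (Spec (CommRingCat.of K)) := Zo (isStable_closure_range K G H u)

noncomputable instance : GrpObj (Zu G H u) := grp (isStable_closure_range K G H u)

noncomputable def iZ : Zu G H u ⟶ H := io (isStable_closure_range K G H u)

instance : IsMonHom (iZ G H u) := isMonHom_io (isStable_closure_range K G H u)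

instance : IsClosedImmersion (iZ G H u).left :=
  inferInstanceAs (IsClosedImmersion (io (isStable_closure_range K G H u)).left)

instance : Mono (iZ G H u) := inferInstanceAs (Mono (io (isStable_closure_range K G H u)))

instance : IsReduced (Zu G H u).left :=
  inferInstanceAs (IsReduced (Zo (isStable_closure_range K G H u)).left)

theorem range_iZ : Set.range (iZ G H u).left = closure (Set.range u.left) := range_io _

theorem exists_u' : ∃ u' : Gr G ⟶ Zu G H u, u' ≫ iZ G H u = jG G ≫ u := by
  apply exists_lift
  intro t
  apply subset_closure
  rw [Over.comp_left, Scheme.Hom.comp_apply]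
  exact ⟨_, rfl⟩

noncomputable def u' : Gr G ⟶ Zu G H u := (exists_u' G H u).choose

theorem u'_iZ : u' G H u ≫ iZ G H u = jG G ≫ u := (exists_u' G H u).choose_spec

instance : IsMonHom (u' G H u) := by
  apply isMonHom_of_comp_mono _ (iZ G H u)
  rw [u'_iZ]
  infer_instance

instance [QuasiCompact u.left] : QuasiCompact (u' G H u).left := by
  haveI : QuasiCompact ((u' G H u).left ≫ (iZ G H u).left) := by
    rw [← Over.comp_left, u'_iZ, Over.comp_left]
    infer_instance
  exact QuasiCompact.of_comp _ (iZ G H u).left

theorem range_u'_iZ : (iZ G H u).left '' Set.range (u' G H u).left = Set.range u.left := by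
  rw [← Set.range_comp]
  have : (iZ G H u).left ∘ (u' G H u).left = u.left ∘ (jG G).left := by
    funext t
    show (iZ G H u).left ((u' G H u).left t) = u.left ((jG G).left t)
    rw [← Scheme.Hom.comp_apply, ← Scheme.Hom.comp_apply, ← Over.comp_left, ← Over.comp_left,
      u'_iZ]
  rw [this, Set.range_comp, range_jG, Set.image_univ]

theorem denseRange_u' : DenseRange (u' G H u).left.base := by
  have hemb := (iZ G H u).left.isClosedEmbedding.isEmbedding
  show Dense (Set.range (u' G H u).left)
  rw [dense_iff_closure_eq, hemb.closure_eq_preimage_closure_image, range_u'_iZ, ← range_iZ]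
  ext z
  simp

theorem surjective_u' [QuasiCompact u.left] : Surjective (u' G H u).left :=
  Groth.Agent.Helper5.DomHom.surjective_of_dominant K _ _ (u' G H u) (denseRange_u' G H u)

theorem flat_u' [QuasiCompact u.left] : Flat (u' G H u).left :=
  Groth.Agent.Helper5.DomHom.flat_of_dominant_of_isReduced K _ _ (u' G H u) (denseRange_u' G H u)

/-- over an algebraically closed field, the image of a quasi-compact homomorphism is closed -/
theorem isClosed_range [QuasiCompact u.left] : IsClosed (Set.range u.left) := by
  have h1 : Set.range (u' G H u).left = Set.univ := by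
    exact Set.range_eq_univ.mpr (surjective_u' G H u).1
  have h2 := range_u'_iZ G H u
  rw [h1, Set.image_univ, range_iZ] at h2
  rw [← h2]
  exact isClosed_closure

end Groth.Agent.Helper5.RedGrp
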