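import Mathlib
import Groth.Prelude
import Groth.Agent.Helper5.RedGrp4
import Groth.Agent.Helper5.FibGrp7

set_option autoImplicit false
set_option linter.unusedSectionVars false
set_option linter.style.haveILetI false
universe u

open AlgebraicGeometry CategoryTheory CategoryTheory.Limits TopologicalSpace
open MonoidalCategory CartesianMonoidalCategory MonObj GrpObj

namespace Groth.Agent.Helper5.RedGrp

variable {K : Type u} [Field K] [IsAlgClosed K] (G H : Over (Spec (CommRingCat.of K)))
  [GrpObj G] [GrpObj H] (u : G ⟶ H) [IsMonHom u] [QuasiCompact u.left]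
  (N : Over (Spec (CommRingCat.of K))) (i : N ⟶ G) (hN : AlgGrp.IsKernel i u)

include hN in
/-- over an algebraically closed field: if the kernel is proper, `u` is universally closed -/
theorem universallyClosed_of_kernel (h : IsProper N.hom) : UniversallyClosed u.left := by
  obtain ⟨N', i', hN'⟩ := Groth.Agent.Helper5.FibGrp.exists_kernel (Gr G) (Zu G H u) (u' G H u)
  -- `N'` is the kernel of `jG ≫ u`
  have t : IsPullback η[Zu G H u] (𝟙 _) (iZ G H u) η[H] :=
    IsPullback.of_vert_isIso_mono ⟨by rw [IsMonHom.one_hom, Category.id_comp]⟩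
  have hN'' : AlgGrp.IsKernel i' (u' G H u) := hN'
  unfold AlgGrp.IsKernel at hN'' hN
  have s := hN''.paste_vert t
  rw [u'_iZ] at s
  have w : (i' ≫ jG G) ≫ u = toUnit N' ≫ η[H] := by
    rw [Category.assoc, s.w, Category.assoc, Category.id_comp]
  let c : N' ⟶ N := hN.lift (i' ≫ jG G) (toUnit N') w
  have hc1 : c ≫ i = i' ≫ jG G := hN.lift_fst _ _ _
  have hc2 : c ≫ toUnit N = toUnit N' ≫ 𝟙 _ := toUnit_unique _ _
  have s' := s.flip
  rw [← hc2] at s'
  have sq : IsPullback c i' i (jG G) := IsPullback.of_right s' hc1 hN.flip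
  have sqS : IsPullback i'.left c.left (jG G).left i.left := (sq.map (Over.forget _)).flip
  haveI : IsClosedImmersion c.left :=
    MorphismProperty.of_isPullback (P := @IsClosedImmersion) sqS inferInstance
  haveI : IsProper N'.hom := by
    rw [← Over.w c]
    infer_instance
  haveI : UniversallyClosed (fst (Gr G) N').left := by
    rw [Over.fst_left]; infer_instance
  have sh := (Groth.Agent.Helper5.FibGrp.shear_sq (Gr G) (Zu G H u) (u' G H u) N' i' hN').flip
  haveI : UniversallyClosed (u' G H u).left :=
    MorphismProperty.of_isPullback_of_descendsAlong (P := @UniversallyClosed)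
      (Q := @Surjective ⊓ @Flat ⊓ @QuasiCompact) sh
      ⟨⟨surjective_u' G H u, flat_u' G H u⟩, inferInstance⟩ inferInstance
  haveI : UniversallyClosed ((jG G).left ≫ u.left) := by
    rw [← Over.comp_left, ← u'_iZ, Over.comp_left]
    infer_instance
  exact UniversallyClosed.of_comp_surjective (jG G).left u.left

end Groth.Agent.Helper5.RedGrp
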