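import Mathlib
import Groth.Prelude
import Groth.Agent.Helper5.RedGrp5
import Groth.Agent.Helper5.Homog2
import Groth.Agent.S5331

set_option autoImplicit false
set_option linter.unusedSectionVars false
set_option linter.style.haveILetI false
universe u

open AlgebraicGeometry CategoryTheory CategoryTheory.Limits TopologicalSpace
open MonoidalCategory CartesianMonoidalCategory MonObj GrpObj

namespace Groth.Agent.Helper5.RedGrp

section bc
variable {S S' : Scheme.{u}} (g : S' ⟶ S) (H : Over S) [GrpObj H]

theorem unit_bc_fst : η[Red.bc g H].left ≫ pullback.fst H.hom g = g ≫ η[H].left := by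
  have h1 : η[Red.bc g H] = Functor.LaxMonoidal.ε (Over.pullback g) ≫ (Over.pullback g).map η[H] :=
    rfl
  rw [h1, Over.comp_left, Category.assoc]
  have h2 : ((Over.pullback g).map η[H]).left ≫ pullback.fst H.hom g =
      pullback.fst (𝟙_ (Over S)).hom g ≫ η[H].left :=
    Groth.Agent.Helper5.Homog.bcm_fst _ _ η[H] g
  rw [h2, ← Category.assoc]
  congr 1
  have h3 : (Functor.LaxMonoidal.ε (Over.pullback g)).left ≫ pullback.snd (𝟙_ (Over S)).hom g =
      𝟙 S' := Over.w (Functor.LaxMonoidal.ε (Over.pullback g))
  have h4 : pullback.fst (𝟙_ (Over S)).hom g = pullback.snd (𝟙_ (Over S)).hom g ≫ g := by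
    have := pullback.condition (f := (𝟙_ (Over S)).hom) (g := g)
    rw [← this]
    exact (Category.comp_id _).symm
  rw [h4, ← Category.assoc, h3]
  exact Category.id_comp g

variable (G : Over S) [GrpObj G] (u : G ⟶ H) [IsMonHom u]
  (N : Over S) (i : N ⟶ G) (hN : AlgGrp.IsKernel i u)
  (N' : Over S') (i' : N' ⟶ Red.bc g G) (hN' : AlgGrp.IsKernel i' ((Over.pullback g).map u))

include hN hN' in
/-- the kernel of the base change is the base change of the kernel -/
theorem exists_isPullback_kernel_bc :
    ∃ c : N'.left ⟶ N.left, IsPullback c N'.hom N.hom g := by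
  have sqK' : IsPullback i'.left (toUnit N').left ((Over.pullback g).map u).left
      η[Red.bc g H].left := hN'.map (Over.forget _)
  have sqB := Groth.Agent.Helper5.Homog.isPullback_bcm G H u g
  have sqK : IsPullback i.left (toUnit N).left u.left η[H].left := hN.map (Over.forget _)
  have s := sqK'.paste_horiz sqB
  rw [unit_bc_fst] at s
  let c : N'.left ⟶ N.left := sqK.lift (i'.left ≫ pullback.fst G.hom g) ((toUnit N').left ≫ g) s.w
  have hc1 : c ≫ i.left = i'.left ≫ pullback.fst G.hom g := sqK.lift_fst _ _ _
  have hc2 : c ≫ (toUnit N).left = (toUnit N').left ≫ g := sqK.lift_snd _ _ _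
  rw [← hc1] at s
  have := IsPullback.of_right s hc2 sqK
  rw [Groth.Agent.Helper5.FibGrp.toUnit_left, Groth.Agent.Helper5.FibGrp.toUnit_left] at this
  exact ⟨c, this⟩

include hN hN' in
theorem kernel_bc_of (P : MorphismProperty Scheme.{u}) [P.IsStableUnderBaseChange]
    (h : P N.hom) : P N'.hom := by
  obtain ⟨c, hc⟩ := exists_isPullback_kernel_bc g H G u N i hN N' i' hN'
  exact MorphismProperty.of_isPullback hc h

end bc

section art

variable (A : Type u) [CommRing A] [IsArtinianRing A] [IsLocalRing A]

/-- an algebraically closed field over `A` -/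
abbrev Om : Type u := AlgebraicClosure (IsLocalRing.ResidueField A)

noncomputable def gOm : Spec (CommRingCat.of (Om A)) ⟶ Spec (CommRingCat.of A) :=
  Spec.map (CommRingCat.ofHom (algebraMap A (Om A)))

instance : Surjective (gOm A) := by
  constructor
  intro y
  haveI : Subsingleton (Spec (.of A)) := by
    show Subsingleton (PrimeSpectrum A)
    infer_instance
  haveI : Nonempty (Spec (.of (Om A))) := by
    show Nonempty (PrimeSpectrum (Om A))
    infer_instance
  obtain ⟨x⟩ := (inferInstance : Nonempty (Spec (.of (Om A))))
  exact ⟨x, Subsingleton.elim _ _⟩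

instance : IsIntegralHom (gOm A) := by
  unfold gOm
  rw [IsIntegralHom.SpecMap_iff]
  show (algebraMap A (Om A)).IsIntegral
  rw [IsScalarTower.algebraMap_eq A (IsLocalRing.ResidueField A) (Om A)]
  refine RingHom.IsIntegral.trans _ _ ?_ ?_
  · exact RingHom.isIntegral_of_surjective _ Ideal.Quotient.mk_surjective
  · exact algebraMap_isIntegral_iff.2 inferInstance

variable (G H : Over (Spec (CommRingCat.of A))) [GrpObj G] [GrpObj H] (u : G ⟶ H) [IsMonHom u]
  [QuasiCompact u.left]
  (N : Over (Spec (CommRingCat.of A))) (i : N ⟶ G) (hN : AlgGrp.IsKernel i u)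

include hN in
theorem universallyClosed_of_kernel_artinian (h : IsProper N.hom) : UniversallyClosed u.left := by
  let g := gOm A
  let G' : Over (Spec (CommRingCat.of (Om A))) := Red.bc g G
  let H' : Over (Spec (CommRingCat.of (Om A))) := Red.bc g H
  let u' : G' ⟶ H' := (Over.pullback g).map u
  haveI : IsMonHom u' := inferInstance
  have sq := Groth.Agent.Helper5.Homog.isPullback_bcm G H u g
  haveI : QuasiCompact u'.left := MorphismProperty.of_isPullback (P := @QuasiCompact) sq inferInstance
  obtain ⟨N', i', hN'⟩ := Groth.Agent.Helper5.FibGrp.exists_kernel G' H' u'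
  have hp : IsProper N'.hom := kernel_bc_of g H G u N i hN N' i' hN' @IsProper h
  haveI : UniversallyClosed u'.left := universallyClosed_of_kernel G' H' u' N' i' hN' hp
  haveI : UniversallyClosed (pullback.fst G.hom g ≫ u.left) := by
    rw [← Groth.Agent.Helper5.Homog.bcm_fst G H u g]
    show UniversallyClosed (u'.left ≫ pullback.fst H.hom g)
    infer_instance
  exact UniversallyClosed.of_comp_surjective (pullback.fst G.hom g) u.left

include hN in
/-- over an artinian local ring, a quasi-compact homomorphism between group schemes locally of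
finite type with proper kernel is proper -/
theorem isProper_of_kernel [LocallyOfFiniteType G.hom] (h : IsProper N.hom) :
    IsProper u.left := by
  haveI : DiscreteTopology (Spec (CommRingCat.of A)) := by
    show DiscreteTopology (PrimeSpectrum A)
    infer_instance
  haveI : IsSeparated G.hom := Groth.Agent.S5331.result _ G
  haveI : IsSeparated u.left := by
    haveI : IsSeparated (u.left ≫ H.hom) := by rw [Over.w u]; infer_instance
    exact IsSeparated.of_comp u.left H.hom
  haveI : LocallyOfFiniteType u.left := by
    haveI : LocallyOfFiniteType (u.left ≫ H.hom) := by rw [Over.w u]; infer_instance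
    exact locallyOfFiniteType_of_comp u.left H.hom
  haveI := universallyClosed_of_kernel_artinian A G H u N i hN h
  exact { }

end art

end Groth.Agent.Helper5.RedGrp
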