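import Mathlib
import Groth.Prelude
import Groth.Agent.Helper5.RedGrp6
import Groth.Agent.Helper5.ArtUO
import Groth.Agent.Helper2.ArtSch

set_option autoImplicit false
set_option linter.unusedSectionVars false
set_option linter.style.haveILetI false
universe u

open AlgebraicGeometry CategoryTheory CategoryTheory.Limits TopologicalSpace
open MonoidalCategory CartesianMonoidalCategory MonObj GrpObj

namespace Groth.Agent.Helper5.RedGrp

section general

/-- a surjective closed immersion is universally open -/
theorem universallyOpen_of_isClosedImmersion_of_surjective {X Y : Scheme.{u}} (f : X ⟶ Y)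
    [IsClosedImmersion f] [Surjective f] : UniversallyOpen f := by
  rw [UniversallyOpen.eq]
  refine MorphismProperty.universally_mk' _ _ fun {T} g _ => ?_
  haveI : Surjective (pullback.fst g f) :=
    MorphismProperty.pullback_fst (P := @Surjective) _ _ ‹_›
  exact (Groth.Agent.Helper5.GrpDense.isHomeomorph_of_isClosedImmersion_of_surjective
    (pullback.fst g f)).isOpenMap

/-- if `f ≫ g` is universally open and `f` is surjective, then `g` is universally open -/
theorem universallyOpen_of_comp_surjective {X Y Z : Scheme.{u}} (f : X ⟶ Y) (g : Y ⟶ Z)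
    [UniversallyOpen (f ≫ g)] [Surjective f] : UniversallyOpen g := by
  constructor
  intro X' Y' i₁ i₂ f' H
  have h1 := UniversallyOpen.universally_isOpenMap _ _ _
    ((IsPullback.of_hasPullback i₁ f).paste_horiz H)
  have hs : Function.Surjective (pullback.fst i₁ f) :=
    (MorphismProperty.pullback_fst (P := @Surjective) _ _ ‹_›).1
  intro U hU
  have : f' '' U = (pullback.fst i₁ f ≫ f') '' ((pullback.fst i₁ f) ⁻¹' U) := by
    rw [Scheme.Hom.comp_base, TopCat.coe_comp, Set.image_comp, Set.image_preimage_eq _ hs]
  rw [this]
  exact h1 _ (hU.preimage (pullback.fst i₁ f).continuous)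

end general

variable {K : Type u} [Field K] [IsAlgClosed K] (G H : Over (Spec (CommRingCat.of K)))
  [GrpObj G] [GrpObj H] (u : G ⟶ H) [IsMonHom u]

theorem exists_ur : ∃ ur : Gr G ⟶ Gr H, ur ≫ jG H = jG G ≫ u :=
  exists_lift (isStable_univ H) (Gr G) (jG G ≫ u) (fun _ => Set.mem_univ _)

noncomputable def ur : Gr G ⟶ Gr H := (exists_ur G H u).choose

theorem ur_jG : ur G H u ≫ jG H = jG G ≫ u := (exists_ur G H u).choose_spec

instance : IsMonHom (ur G H u) := by
  apply isMonHom_of_comp_mono _ (jG H)
  rw [ur_jG]
  infer_instance

theorem jG_ur_apply (x : (Gr G).left) :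
    (jG H).left ((ur G H u).left x) = u.left ((jG G).left x) := by
  rw [← Scheme.Hom.comp_apply, ← Scheme.Hom.comp_apply, ← Over.comp_left, ← Over.comp_left, ur_jG]

theorem range_ur : Set.range (ur G H u).left = (jG H).left ⁻¹' Set.range u.left := by
  ext z
  constructor
  · rintro ⟨x, rfl⟩
    exact ⟨(jG G).left x, (jG_ur_apply G H u x).symm⟩
  · rintro ⟨g, hg⟩
    obtain ⟨x, rfl⟩ := (jG G).left.surjective g
    refine ⟨x, ?_⟩
    apply (jG H).left.isClosedEmbedding.injective
    rw [← hg]
    exact jG_ur_apply G H u x

theorem flat_ur (hopen : IsOpen (Set.range u.left)) : Flat (ur G H u).left := by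
  have hopen' : IsOpen (Set.range (ur G H u).left) := by
    rw [range_ur]
    exact hopen.preimage (jG H).left.continuous
  let pt : (𝟙_ (Over (Spec (CommRingCat.of K)))).left := IsLocalRing.closedPoint K
  let x₀ : (Gr G).left := η[Gr G].left pt
  obtain ⟨ξ, hξ, hsp⟩ := Groth.Agent.Helper5.NeronEt.exists_generic_specializes
    ((ur G H u).left x₀)
  obtain ⟨x, hx⟩ : ξ ∈ Set.range (ur G H u).left := hsp.mem_open hopen' ⟨x₀, rfl⟩
  haveI : Flat (Gr G).hom := inferInstance
  refine Groth.Agent.Helper5.FlatOrbit.s5336 K (Gr G) (Gr H) (ur G H u) ⟨x, ?_⟩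
  have hfield : IsField ((Gr H).left.presheaf.stalk ((ur G H u).left x)) := by
    rw [hx]
    exact Groth.Agent.Helper5.DomHom.isField_stalk_of_mem_genericPoints (Gr H).left ξ hξ
  exact RingHom.Flat.of_isField hfield _

/-- over an algebraically closed field, a homomorphism with open image between group schemes
locally of finite type is universally open -/
theorem universallyOpen_of_isOpen_range [LocallyOfFiniteType G.hom] [LocallyOfFiniteType H.hom]
    (hopen : IsOpen (Set.range u.left)) : UniversallyOpen u.left := by
  haveI := flat_ur G H u hopen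
  haveI : LocallyOfFiniteType (Gr G).hom := by
    rw [← Over.w (jG G)]; infer_instance
  haveI : LocallyOfFiniteType (Gr H).hom := by
    rw [← Over.w (jG H)]; infer_instance
  haveI : LocallyOfFiniteType (ur G H u).left := by
    haveI : LocallyOfFiniteType ((ur G H u).left ≫ (Gr H).hom) := by
      rw [Over.w (ur G H u)]; infer_instance
    exact locallyOfFiniteType_of_comp (ur G H u).left (Gr H).hom
  haveI : IsLocallyNoetherian (Gr H).left := LocallyOfFiniteType.isLocallyNoetherian (Gr H).hom
  haveI : LocallyOfFinitePresentation (ur G H u).left :=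
    Groth.Agent.Helper2.ArtSch.lfp_of_lft_noeth _
  haveI : UniversallyOpen (jG H).left := universallyOpen_of_isClosedImmersion_of_surjective _
  haveI : UniversallyOpen ((jG G).left ≫ u.left) := by
    rw [← Over.comp_left, ← ur_jG, Over.comp_left]
    infer_instance
  exact universallyOpen_of_comp_surjective (jG G).left u.left

end Groth.Agent.Helper5.RedGrp
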