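import Mathlib
import Groth.Prelude
import Groth.Agent.Helper5.RedGrp10

set_option autoImplicit false
set_option linter.unusedSectionVars false
set_option linter.style.haveILetI false
universe u

open AlgebraicGeometry CategoryTheory CategoryTheory.Limits TopologicalSpace
open MonoidalCategory CartesianMonoidalCategory MonObj GrpObj

namespace Groth.Agent.Helper5.RedGrp

section general

/-- universal openness descends along universally closed surjective morphisms -/
theorem universallyOpen_descends {X Y Y' : Scheme.{u}} (c : Y' ⟶ Y) (g : X ⟶ Y)
    [UniversallyClosed c] [Surjective c] (hfst : UniversallyOpen (pullback.fst c g)) :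
    UniversallyOpen g := by
  refine ⟨MorphismProperty.universally_mk' _ _ fun {T} f _ s hs ↦ ?_⟩
  let p := pullback.fst (pullback.fst c f) (pullback.fst c g)
  let r : pullback (pullback.fst c f) (pullback.fst c g) ⟶ pullback f g :=
    pullback.map _ _ _ _ (pullback.snd _ _) (pullback.snd _ _) c (pullback.condition ..)
      (pullback.condition ..)
  have hopen : IsOpen ((pullback.snd c f).base ⁻¹' ((pullback.fst f g).base '' s)) := by
    rw [← Scheme.image_preimage_eq_of_isPullback (isPullback_map_snd_snd ..)]
    exact p.isOpenMap _ (hs.preimage r.continuous)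
  haveI : Surjective (pullback.snd c f) :=
    MorphismProperty.pullback_snd (P := @Surjective) _ _ ‹_›
  have hq : Topology.IsQuotientMap (pullback.snd c f).base :=
    IsClosedMap.isQuotientMap (pullback.snd c f).isClosedMap (pullback.snd c f).continuous
      (pullback.snd c f).surjective
  rwa [hq.isOpen_preimage] at hopen

theorem universallyOpen_of_isPullback {X Y X' Y' : Scheme.{u}} {u : X ⟶ Y} {p : Y' ⟶ Y}
    {q : X' ⟶ X} {u' : X' ⟶ Y'} (sq : IsPullback q u' u p) [UniversallyClosed p] [Surjective p]
    (h : UniversallyOpen u') : UniversallyOpen u := by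
  apply universallyOpen_descends p u
  have e : sq.flip.isoPullback.hom ≫ pullback.fst p u = u' := sq.flip.isoPullback_hom_fst
  rw [← e] at h
  exact (MorphismProperty.cancel_left_of_respectsIso @UniversallyOpen _ _).1 h

end general

theorem s3038 (A : Type u) [CommRing A] [IsArtinianRing A] [IsLocalRing A]
    (G H : Over (Spec (CommRingCat.of A))) [GrpObj G] [GrpObj H] [LocallyOfFiniteType G.hom]
    [LocallyOfFiniteType H.hom] (u : G ⟶ H) [IsMonHom u] (hu : IsOpenMap u.left.base) :
    UniversallyOpen u.left := by
  let g := gOm A
  let G' : Over (Spec (CommRingCat.of (Om A))) := Red.bc g G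
  let H' : Over (Spec (CommRingCat.of (Om A))) := Red.bc g H
  let u' : G' ⟶ H' := (Over.pullback g).map u
  haveI : IsMonHom u' := inferInstance
  have sq := Groth.Agent.Helper5.Homog.isPullback_bcm G H u g
  haveI : LocallyOfFiniteType G'.hom :=
    inferInstanceAs (LocallyOfFiniteType (pullback.snd G.hom g))
  haveI : LocallyOfFiniteType H'.hom :=
    inferInstanceAs (LocallyOfFiniteType (pullback.snd H.hom g))
  have hopen : IsOpen (Set.range u'.left) := by
    have h1 := Scheme.image_preimage_eq_of_isPullback sq Set.univ
    rw [Set.preimage_univ, Set.image_univ, Set.image_univ] at h1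
    show IsOpen (Set.range (Groth.Agent.Helper5.Homog.bcm G H u g).base)
    rw [h1]
    exact hu.isOpen_range.preimage (pullback.fst H.hom g).continuous
  have h2 : UniversallyOpen u'.left := universallyOpen_of_isOpen_range G' H' u' hopen
  exact universallyOpen_of_isPullback sq h2

end Groth.Agent.Helper5.RedGrp
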