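import Mathlib
import Groth.Prelude
import Groth.Agent.Helper5.RedGrp11

set_option autoImplicit false
set_option linter.unusedSectionVars false
set_option linter.style.haveILetI false
universe u

open AlgebraicGeometry CategoryTheory CategoryTheory.Limits TopologicalSpace
open MonoidalCategory CartesianMonoidalCategory MonObj GrpObj

namespace Groth.Agent.Helper5.RedGrp

/-- over an artinian local ring, the image of a quasi-compact homomorphism is closed -/
theorem isClosed_range_artinian (A : Type u) [CommRing A] [IsArtinianRing A] [IsLocalRing A]
    (G H : Over (Spec (CommRingCat.of A))) [GrpObj G] [GrpObj H]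
    (u : G ⟶ H) [IsMonHom u] [QuasiCompact u.left] : IsClosed (Set.range u.left) := by
  let g := gOm A
  let G' : Over (Spec (CommRingCat.of (Om A))) := Red.bc g G
  let H' : Over (Spec (CommRingCat.of (Om A))) := Red.bc g H
  let u' : G' ⟶ H' := (Over.pullback g).map u
  haveI : IsMonHom u' := inferInstance
  have sq := Groth.Agent.Helper5.Homog.isPullback_bcm G H u g
  haveI : QuasiCompact u'.left := MorphismProperty.of_isPullback (P := @QuasiCompact) sq inferInstance
  have hcl : IsClosed (Set.range u'.left) := isClosed_range G' H' u'
  have h1 := Scheme.image_preimage_eq_of_isPullback sq Set.univ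
  rw [Set.preimage_univ, Set.image_univ, Set.image_univ] at h1
  have hcl' : IsClosed ((pullback.fst H.hom g).base ⁻¹' Set.range u.left.base) := by
    rw [← h1]
    exact hcl
  have hq : Topology.IsQuotientMap (pullback.fst H.hom g).base :=
    IsClosedMap.isQuotientMap (pullback.fst H.hom g).isClosedMap (pullback.fst H.hom g).continuous
      (pullback.fst H.hom g).surjective
  exact hq.isClosed_preimage.1 hcl'

end Groth.Agent.Helper5.RedGrp
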