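import Mathlib
import Groth.Prelude
import Groth.Agent.Helper5.RedGrp12
import Groth.Agent.Helper5.GrpDim1
import Groth.Agent.Helper5.EtLoc1
import Groth.Agent.Helper5.VarDim11
import Groth.Agent.Helper5.FibBound

set_option autoImplicit false
set_option linter.unusedSectionVars false
set_option linter.style.haveILetI false
universe u

open AlgebraicGeometry CategoryTheory CategoryTheory.Limits TopologicalSpace
open MonoidalCategory CartesianMonoidalCategory MonObj GrpObj

namespace Groth.Agent.Helper5.RedGrp

variable (k : Type u) [Field k] (G H : Over (Spec (CommRingCat.of k))) [GrpObj G] [GrpObj H]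
  [LocallyOfFiniteType G.hom] [LocallyOfFiniteType H.hom] (u : G ⟶ H) [IsMonHom u]
  (N : Over (Spec (CommRingCat.of k))) (i : N ⟶ G) (hN : AlgGrp.IsKernel i u)

include hN in
/-- the fibre dimension of `u` at any point is the dimension of the kernel -/
theorem fibreDimAt_eq_dim_kernel (x : G.left) :
    FlatMor.fibreDimAt u.left x = topologicalKrullDim N.left := by
  haveI hsub : Subsingleton ↥(Spec (CommRingCat.of k)) :=
    inferInstanceAs (Subsingleton (PrimeSpectrum k))
  haveI : LocallyOfFiniteType u.left := by
    haveI : LocallyOfFiniteType (u.left ≫ H.hom) := by rw [Over.w u]; infer_instance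
    exact locallyOfFiniteType_of_comp u.left H.hom
  haveI : LocallyOfFiniteType N.hom :=
    Groth.Agent.Helper5.FibGrp.kernel_of G H u N i hN @LocallyOfFiniteType inferInstance
  let s : ↥(Spec (CommRingCat.of k)) := G.hom x
  let kd := Groth.Agent.Helper5.FibGrp.kdim G H u N i hN s
  have h1 : ∀ y : G.left, FlatMor.fibreDimAt u.left y = kd := by
    intro y
    rw [Groth.Agent.Helper5.FibGrp.fibreDimAt_eq_kdim G H u N i hN y]
    congr 1
    exact Subsingleton.elim _ _
  have h2 : ∀ n : N.left, FlatMor.localDim N.left n = kd := by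
    intro n
    let σ : N ⟶ G ⊗ N := lift (toUnit N ≫ η[G]) (𝟙 N)
    let z := σ.left n
    have hz : (snd G N).left z = n := by
      show (snd G N).left (σ.left n) = n
      rw [← Scheme.Hom.comp_apply, ← Over.comp_left]
      have : σ ≫ snd G N = 𝟙 N := lift_snd _ _
      rw [this]
      rfl
    rw [← Groth.Agent.Helper5.OverField.fibreDimAt_of_subsingleton N.hom n]
    have sq2 : IsPullback (snd G N).left (fst G N).left N.hom G.hom := by
      rw [Over.fst_left, Over.snd_left]
      exact (IsPullback.of_hasPullback G.hom N.hom).flip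
    have e1 := Groth.Agent.Helper5.BCMin.fibreDimAt_of_isPullback N.hom G.hom
      (snd G N).left (fst G N).left sq2 z
    have e2 := Groth.Agent.Helper5.BCMin.fibreDimAt_of_isPullback u.left u.left
      ((G ◁ i) ≫ μ[G]).left (fst G N).left
      (Groth.Agent.Helper5.FibGrp.shear_sq G H u N i hN) z
    rw [hz] at e1
    rw [← e1, e2, h1]
  haveI : Nonempty N.left :=
    ⟨(Groth.Agent.Helper5.IsogInj.e u i hN).left (IsLocalRing.closedPoint k)⟩
  rw [h1 x, Groth.Agent.Helper2.TopDim.dim_eq_iSup_localDim]
  simp only [h2]
  exact (ciSup_const).symm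

end Groth.Agent.Helper5.RedGrp
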