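import Mathlib
import Groth.Prelude
import Groth.Agent.Helper5.RedGrp13

set_option autoImplicit false
set_option linter.unusedSectionVars false
set_option linter.style.haveILetI false
universe u

open AlgebraicGeometry CategoryTheory CategoryTheory.Limits TopologicalSpace
open MonoidalCategory CartesianMonoidalCategory MonObj GrpObj

namespace Groth.Agent.Helper5.RedGrp

variable (k : Type u) [Field k] (G H : Over (Spec (CommRingCat.of k))) [GrpObj G] [GrpObj H]
  (u : G ⟶ H) [IsMonHom u]

/-- `G_red` (no group structure) -/
noncomputable def Gc : Over (Spec (CommRingCat.of k)) := Zo (isStable_univ G)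

noncomputable def jc : Gc k G ⟶ G := io (isStable_univ G)

instance : IsClosedImmersion (jc k G).left :=
  inferInstanceAs (IsClosedImmersion (io (isStable_univ G)).left)

instance : IsReduced (Gc k G).left := inferInstanceAs (IsReduced (Zo (isStable_univ G)).left)

theorem range_jc : Set.range (jc k G).left = Set.univ := range_io _

instance : Surjective (jc k G).left := ⟨fun x => (range_jc k G).ge (Set.mem_univ x)⟩

/-- the reduced closure of the image of `u` (no group structure) -/
noncomputable def Zc : Over (Spec (CommRingCat.of k)) := Zo (isStable_closure_range k G H u)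

noncomputable def ic : Zc k G H u ⟶ H := io (isStable_closure_range k G H u)

instance : IsClosedImmersion (ic k G H u).left :=
  inferInstanceAs (IsClosedImmersion (io (isStable_closure_range k G H u)).left)

instance : IsReduced (Zc k G H u).left :=
  inferInstanceAs (IsReduced (Zo (isStable_closure_range k G H u)).left)

theorem range_ic : Set.range (ic k G H u).left = closure (Set.range u.left) := range_io _

theorem exists_uc : ∃ uc : Gc k G ⟶ Zc k G H u, uc ≫ ic k G H u = jc k G ≫ u := by
  apply exists_lift
  intro t
  apply subset_closure
  rw [Over.comp_left, Scheme.Hom.comp_apply]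
  exact ⟨_, rfl⟩

noncomputable def uc : Gc k G ⟶ Zc k G H u := (exists_uc k G H u).choose

theorem uc_ic : uc k G H u ≫ ic k G H u = jc k G ≫ u := (exists_uc k G H u).choose_spec

theorem ic_uc_apply (x : (Gc k G).left) :
    (ic k G H u).left ((uc k G H u).left x) = u.left ((jc k G).left x) := by
  rw [← Scheme.Hom.comp_apply, ← Scheme.Hom.comp_apply, ← Over.comp_left, ← Over.comp_left, uc_ic]

instance [QuasiCompact u.left] : QuasiCompact (uc k G H u).left := by
  haveI : QuasiCompact ((uc k G H u).left ≫ (ic k G H u).left) := by
    rw [← Over.comp_left, uc_ic, Over.comp_left]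
    infer_instance
  exact QuasiCompact.of_comp _ (ic k G H u).left

theorem range_uc_ic : (ic k G H u).left '' Set.range (uc k G H u).left = Set.range u.left := by
  rw [← Set.range_comp]
  have : (ic k G H u).left ∘ (uc k G H u).left = u.left ∘ (jc k G).left := by
    funext t
    exact ic_uc_apply k G H u t
  rw [this, Set.range_comp, range_jc, Set.image_univ]

theorem denseRange_uc : DenseRange (uc k G H u).left.base := by
  have hemb := (ic k G H u).left.isClosedEmbedding.isEmbedding
  show Dense (Set.range (uc k G H u).left)
  rw [dense_iff_closure_eq, hemb.closure_eq_preimage_closure_image, range_uc_ic, ← range_ic]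
  ext z
  simp

end Groth.Agent.Helper5.RedGrp
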