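import Mathlib
import Groth.Prelude
import Groth.Agent.Helper5.RedGrp14

set_option autoImplicit false
set_option linter.unusedSectionVars false
set_option linter.style.haveILetI false
universe u

open AlgebraicGeometry CategoryTheory CategoryTheory.Limits TopologicalSpace
open MonoidalCategory CartesianMonoidalCategory MonObj GrpObj

namespace Groth.Agent.Helper5.RedGrp

section homeo

/-- the homeomorphism underlying a surjective closed immersion -/
noncomputable def homeoOfSurjClosedImm {X Y : Scheme.{u}} (f : X ⟶ Y) [IsClosedImmersion f]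
    [Surjective f] : X ≃ₜ Y :=
  (Groth.Agent.Helper5.GrpDense.isHomeomorph_of_isClosedImmersion_of_surjective f).homeomorph

theorem homeoOfSurjClosedImm_apply {X Y : Scheme.{u}} (f : X ⟶ Y) [IsClosedImmersion f]
    [Surjective f] (x : X) : homeoOfSurjClosedImm f x = f x := rfl

end homeo

variable (k : Type u) [Field k] (G H : Over (Spec (CommRingCat.of k))) [GrpObj G] [GrpObj H]
  [LocallyOfFiniteType G.hom] [LocallyOfFiniteType H.hom] (u : G ⟶ H) [IsMonHom u]
  [QuasiCompact u.left]
  (N : Over (Spec (CommRingCat.of k))) (i : N ⟶ G) (hN : AlgGrp.IsKernel i u)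

instance : LocallyOfFiniteType (Gc k G).hom := by
  rw [← Over.w (jc k G)]; infer_instance

instance : LocallyOfFiniteType (Zc k G H u).hom := by
  rw [← Over.w (ic k G H u)]; infer_instance

include hN in
theorem dim_eq_generic (ξ : (Zc k G H u).left) (hξ : ξ ∈ genericPoints (Zc k G H u).left) :
    topologicalKrullDim G.left =
      FlatMor.localDim (Zc k G H u).left ξ + topologicalKrullDim N.left := by
  haveI : IsDominant (uc k G H u).left := ⟨denseRange_uc k G H u⟩
  obtain ⟨x, hx⟩ := Groth.Agent.Helper5.NeronEt.mem_range_of_mem_genericPoints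
    (uc k G H u).left ξ hξ
  have hfield : IsField ((Zc k G H u).left.presheaf.stalk ((uc k G H u).left x)) := by
    rw [hx]
    exact Groth.Agent.Helper5.DomHom.isField_stalk_of_mem_genericPoints _ ξ hξ
  have hflat : ((uc k G H u).left.stalkMap x).hom.Flat := RingHom.Flat.of_isField hfield _
  have h := Groth.Agent.Helper5.VarDim.flat_formula k (Gc k G).hom (Zc k G H u).hom
    (uc k G H u).left (Over.w (uc k G H u)) x hflat
  have h1 : FlatMor.localDim (Gc k G).left x = topologicalKrullDim G.left := by
    rw [Groth.Agent.Helper5.SubDim.localDim_homeomorph (homeoOfSurjClosedImm (jc k G).left) x]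
    exact Groth.Agent.Helper5.GrpDim.localDim_eq_dim k G _
  have h2 : FlatMor.fibreDimAt (uc k G H u).left x =
      FlatMor.fibreDimAt u.left ((jc k G).left x) := by
    rw [Groth.Agent.Helper5.EtLoc.fibreDimAt_eq_localDim_preimage,
      Groth.Agent.Helper5.EtLoc.fibreDimAt_eq_localDim_preimage]
    let e : ↥((uc k G H u).left ⁻¹' {(uc k G H u).left x}) ≃ₜ
        ↥(u.left ⁻¹' {u.left ((jc k G).left x)}) :=
      (homeoOfSurjClosedImm (jc k G).left).subtype (fun y => by
        show (uc k G H u).left y = (uc k G H u).left x ↔
          u.left ((jc k G).left y) = u.left ((jc k G).left x)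
        rw [← ic_uc_apply, ← ic_uc_apply]
        exact ((ic k G H u).left.isClosedEmbedding.injective.eq_iff).symm)
    exact Groth.Agent.Helper5.SubDim.localDim_homeomorph e ⟨x, rfl⟩
  rw [h1, hx, h2, fibreDimAt_eq_dim_kernel k G H u N i hN] at h
  exact h

include hN in
/-- the dimension formula with the reduced closure of the image -/
theorem dim_eq_closure :
    topologicalKrullDim G.left =
      topologicalKrullDim (Zc k G H u).left + topologicalKrullDim N.left := by
  let pt : (𝟙_ (Over (Spec (CommRingCat.of k)))).left := IsLocalRing.closedPoint k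
  let x₀ : (Gc k G).left := ((homeoOfSurjClosedImm (jc k G).left).symm (η[G].left pt))
  let z₀ : (Zc k G H u).left := (uc k G H u).left x₀
  obtain ⟨ξ₀, hξ₀, -⟩ := Groth.Agent.Helper5.NeronEt.exists_generic_specializes z₀
  have h0 := dim_eq_generic k G H u N i hN ξ₀ hξ₀
  rw [h0]
  congr 1
  -- all generic points have the same local dimension
  haveI : LocallyOfFiniteType u.left := by
    haveI : LocallyOfFiniteType (u.left ≫ H.hom) := by rw [Over.w u]; infer_instance
    exact locallyOfFiniteType_of_comp u.left H.hom
  obtain ⟨n, hn⟩ := Groth.Agent.Helper5.SubDim.fibreDimAt_nat u.left ((jc k G).left x₀)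
  rw [fibreDimAt_eq_dim_kernel k G H u N i hN] at hn
  obtain ⟨a₀, ha₀⟩ := Groth.Agent.Helper5.GrpDim.exists_nat_localDim k (Zc k G H u).hom ξ₀
  have hcomp : ∀ W ∈ irreducibleComponents (Zc k G H u).left,
      topologicalKrullDim ↥W = FlatMor.localDim (Zc k G H u).left ξ₀ := by
    intro W hW
    obtain ⟨ζ, hζ1, hζ2⟩ := Groth.Agent.Helper5.VarDim.exists_generic_component k
      (Zc k G H u).hom W hW
    have hζ : ζ ∈ genericPoints (Zc k G H u).left := by
      show closure {ζ} ∈ irreducibleComponents _
      rw [hζ1]; exact hW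
    have h1 := dim_eq_generic k G H u N i hN ζ hζ
    rw [h0] at h1
    obtain ⟨a, ha⟩ := Groth.Agent.Helper5.GrpDim.exists_nat_localDim k (Zc k G H u).hom ζ
    rw [← hζ2, ha, ha₀]
    rw [ha, ha₀, hn] at h1
    have : a₀ + n = a + n := by exact_mod_cast h1
    have : a = a₀ := by omega
    rw [this]
  have hall : ∀ z : (Zc k G H u).left,
      FlatMor.localDim (Zc k G H u).left z = FlatMor.localDim (Zc k G H u).left ξ₀ :=
    fun z => Groth.Agent.Helper5.VarDim.localDim_eq_of_components k (Zc k G H u).hom _ hcomp z
  haveI : Nonempty (Zc k G H u).left := ⟨z₀⟩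
  rw [Groth.Agent.Helper2.TopDim.dim_eq_iSup_localDim]
  simp only [hall]
  exact ciSup_const.symm

include hN in
/-- the dimension formula for a quasi-compact homomorphism of group schemes locally of finite
type over a field -/
theorem dim_formula_field :
    topologicalKrullDim G.left =
      topologicalKrullDim ↥(Set.range u.left) + topologicalKrullDim N.left := by
  rw [dim_eq_closure k G H u N i hN]
  congr 1
  have hcl : IsClosed (Set.range u.left) := isClosed_range_artinian k G H u
  have hr : Set.range (ic k G H u).left = Set.range u.left := by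
    rw [range_ic, hcl.closure_eq]
  let e : (Zc k G H u).left ≃ₜ ↥(Set.range u.left) :=
    ((ic k G H u).left.isClosedEmbedding.isEmbedding.toHomeomorph).trans (Homeomorph.setCongr hr)
  exact IsHomeomorph.topologicalKrullDim_eq e e.isHomeomorph

end Groth.Agent.Helper5.RedGrp
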