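import Mathlib
import Groth.Prelude
import Groth.Agent.Helper5.RedGrp6

set_option autoImplicit false
set_option linter.unusedSectionVars false
set_option linter.style.haveILetI false
universe u

open AlgebraicGeometry CategoryTheory CategoryTheory.Limits TopologicalSpace
open MonoidalCategory CartesianMonoidalCategory MonObj GrpObj

namespace Groth.Agent.Helper5.RedGrp

section
variable {S : Scheme.{u}} (G H : Over S) [GrpObj G] [GrpObj H] (u : G ⟶ H) [IsMonHom u]
  (N : Over S) (i : N ⟶ G) (hN : AlgGrp.IsKernel i u)

include hN in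
/-- the abstract kernel versus the concrete pullback -/
theorem kernel_hom_eq : ∃ e : N.left ≅ pullback u.left η[H].left,
    e.hom ≫ pullback.snd u.left η[H].left = N.hom ∧ e.hom ≫ pullback.fst u.left η[H].left = i.left := by
  have sqK : IsPullback i.left (toUnit N).left u.left η[H].left := hN.map (Over.forget _)
  refine ⟨sqK.isoPullback, ?_, sqK.isoPullback_hom_fst⟩
  rw [sqK.isoPullback_hom_snd, Groth.Agent.Helper5.FibGrp.toUnit_left]

include hN in
theorem kernel_iff (P : MorphismProperty Scheme.{u}) [P.RespectsIso] :
    P N.hom ↔ P (pullback.snd u.left η[H].left) := by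
  obtain ⟨e, he, -⟩ := kernel_hom_eq G H u N i hN
  rw [← he, P.cancel_left_of_respectsIso]

end

theorem s3035 (A : Type u) [CommRing A] [IsArtinianRing A] [IsLocalRing A]
    (G H : Over (Spec (CommRingCat.of A))) [GrpObj G] [GrpObj H] [LocallyOfFiniteType G.hom]
    (u : G ⟶ H) [IsMonHom u] [QuasiCompact u.left] :
    IsProper u.left ↔ IsProper (pullback.snd u.left
      (η[H] : 𝟙_ (Over (Spec (CommRingCat.of A))) ⟶ H).left) := by
  constructor
  · intro h
    infer_instance
  · intro h
    obtain ⟨N, i, hN⟩ := Groth.Agent.Helper5.FibGrp.exists_kernel G H u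
    exact isProper_of_kernel A G H u N i hN ((kernel_iff G H u N i hN @IsProper).2 h)

end Groth.Agent.Helper5.RedGrp
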