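import Mathlib
import Groth.Prelude
import Groth.Agent.Helper5.RedGrp15
import Groth.Agent.Helper5.RedGrp7

set_option autoImplicit false
set_option linter.unusedSectionVars false
set_option linter.style.haveILetI false
universe u

open AlgebraicGeometry CategoryTheory CategoryTheory.Limits TopologicalSpace
open MonoidalCategory CartesianMonoidalCategory MonObj GrpObj

namespace Groth.Agent.Helper5.RedGrp

theorem dim_eq_of_homeo {X Y : Type*} [TopologicalSpace X] [TopologicalSpace Y] (e : X ≃ₜ Y) :
    topologicalKrullDim X = topologicalKrullDim Y :=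
  IsHomeomorph.topologicalKrullDim_eq e e.isHomeomorph

theorem s3016 (A : Type u) [CommRing A] [IsArtinianRing A] [IsLocalRing A]
    (G H : Over (Spec (CommRingCat.of A))) [GrpObj G] [GrpObj H] [LocallyOfFiniteType G.hom]
    [LocallyOfFiniteType H.hom] (u : G ⟶ H) [IsMonHom u] [QuasiCompact u.left] :
    IsClosed (Set.range u.left.base) ∧
    topologicalKrullDim G.left =
      topologicalKrullDim (Set.range u.left.base) +
        topologicalKrullDim ↥(pullback u.left
          (η[H] : 𝟙_ (Over (Spec (CommRingCat.of A))) ⟶ H).left) := by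
  refine ⟨isClosed_range_artinian A G H u, ?_⟩
  let k := IsLocalRing.ResidueField A
  let j : Spec (CommRingCat.of k) ⟶ Spec (CommRingCat.of A) :=
    Spec.map (CommRingCat.ofHom (IsLocalRing.residue A))
  haveI : IsClosedImmersion j :=
    IsClosedImmersion.spec_of_surjective _ Ideal.Quotient.mk_surjective
  haveI : Surjective j := by
    constructor
    intro y
    haveI : Subsingleton (Spec (.of A)) := by
      show Subsingleton (PrimeSpectrum A)
      infer_instance
    haveI : Nonempty (Spec (.of k)) := by
      show Nonempty (PrimeSpectrum k)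
      infer_instance
    obtain ⟨x⟩ := (inferInstance : Nonempty (Spec (.of k)))
    exact ⟨x, Subsingleton.elim _ _⟩
  let Gk : Over (Spec (CommRingCat.of k)) := Red.bc j G
  let Hk : Over (Spec (CommRingCat.of k)) := Red.bc j H
  let uk : Gk ⟶ Hk := (Over.pullback j).map u
  haveI : IsMonHom uk := inferInstance
  have sq := Groth.Agent.Helper5.Homog.isPullback_bcm G H u j
  haveI : QuasiCompact uk.left := MorphismProperty.of_isPullback (P := @QuasiCompact) sq inferInstance
  haveI : LocallyOfFiniteType Gk.hom :=
    inferInstanceAs (LocallyOfFiniteType (pullback.snd G.hom j))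
  haveI : LocallyOfFiniteType Hk.hom :=
    inferInstanceAs (LocallyOfFiniteType (pullback.snd H.hom j))
  obtain ⟨N, i, hN⟩ := Groth.Agent.Helper5.FibGrp.exists_kernel G H u
  obtain ⟨N', i', hN'⟩ := Groth.Agent.Helper5.FibGrp.exists_kernel Gk Hk uk
  have hk := dim_formula_field k Gk Hk uk N' i' hN'
  -- transfer
  haveI : Surjective (pullback.fst G.hom j) :=
    MorphismProperty.pullback_fst (P := @Surjective) _ _ ‹_›
  haveI : Surjective (pullback.fst H.hom j) :=
    MorphismProperty.pullback_fst (P := @Surjective) _ _ ‹_›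
  let eG : Gk.left ≃ₜ G.left := homeoOfSurjClosedImm (pullback.fst G.hom j)
  let eH : Hk.left ≃ₜ H.left := homeoOfSurjClosedImm (pullback.fst H.hom j)
  have hrange : Set.range uk.left.base = (pullback.fst H.hom j).base ⁻¹' Set.range u.left.base := by
    have h1 := Scheme.image_preimage_eq_of_isPullback sq Set.univ
    rw [Set.preimage_univ, Set.image_univ, Set.image_univ] at h1
    exact h1
  let eR : ↥(Set.range uk.left) ≃ₜ ↥(Set.range u.left.base) :=
    eH.subtype (fun y => by
      show y ∈ Set.range uk.left.base ↔ (pullback.fst H.hom j) y ∈ Set.range u.left.base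
      rw [hrange]
      rfl)
  obtain ⟨c, hc⟩ := exists_isPullback_kernel_bc j H G u N i hN N' i' hN'
  haveI : IsClosedImmersion c :=
    MorphismProperty.of_isPullback (P := @IsClosedImmersion) hc.flip inferInstance
  haveI : Surjective c :=
    MorphismProperty.of_isPullback (P := @Surjective) hc.flip inferInstance
  let eN : N'.left ≃ₜ N.left := homeoOfSurjClosedImm c
  obtain ⟨e, -, -⟩ := kernel_hom_eq G H u N i hN
  let eP : N.left ≃ₜ ↥(pullback u.left (η[H] : 𝟙_ (Over (Spec (CommRingCat.of A))) ⟶ H).left) :=
    Scheme.homeoOfIso e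
  rw [← dim_eq_of_homeo eG, ← dim_eq_of_homeo eR, ← dim_eq_of_homeo eP, ← dim_eq_of_homeo eN]
  exact hk

end Groth.Agent.Helper5.RedGrp
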