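import Mathlib
import Groth.Prelude
import Groth.Agent.Helper5.GraphSurj2
import Groth.Agent.Helper5.RedGrp16
import Groth.Agent.Helper5.ProdDim
import Groth.Agent.Helper5.RedDesc
import Groth.Agent.Helper3.SepPts
import Groth.Agent.Helper4.SN144
import Groth.Agent.Helper2.HS6

set_option autoImplicit false
set_option linter.unusedSectionVars false
set_option linter.style.haveILetI false
set_option linter.unusedVariables false
universe u

open AlgebraicGeometry CategoryTheory CategoryTheory.Limits
open MonoidalCategory CartesianMonoidalCategory MonObj

namespace Groth.Agent.Helper5.GraphDom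

variable {k : Type u} [Field k] (C : Over (Spec (CommRingCat.of k)))

/-- the diagonal of a `k`-scheme -/
noncomputable abbrev diag : C ⟶ C ⊗ C := lift (𝟙 C) (𝟙 C)

theorem diag_left : (diag C).left = pullback.diagonal C.hom := by
  apply pullback.hom_ext
  · have h : (diag C).left ≫ pullback.fst C.hom C.hom = ((diag C) ≫ fst C C).left := rfl
    rw [h, lift_fst]
    simp
  · have h : (diag C).left ≫ pullback.snd C.hom C.hom = ((diag C) ≫ snd C C).left := rfl
    rw [h, lift_snd]
    simp

instance [IsSeparated C.hom] : IsClosedImmersion (diag C).left := by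
  rw [diag_left]; infer_instance

theorem dim_tensor [LocallyOfFiniteType C.hom] (h : topologicalKrullDim C.left = 1) :
    topologicalKrullDim (C ⊗ C).left = 2 := by
  have h1 := Groth.Agent.Helper5.OverField.dim_pullback k C.hom C.hom
  have h2 : topologicalKrullDim (C ⊗ C).left = topologicalKrullDim ↥(pullback C.hom C.hom) := rfl
  rw [h2, h1, h]
  norm_num

end Groth.Agent.Helper5.GraphDom
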