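import Mathlib
import Groth.Prelude
import Groth.Agent.Helper5.GraphDom1

set_option autoImplicit false
set_option linter.unusedSectionVars false
set_option linter.style.haveILetI false
set_option linter.unusedVariables false
universe u

open AlgebraicGeometry CategoryTheory CategoryTheory.Limits
open MonoidalCategory CartesianMonoidalCategory MonObj

namespace Groth.Agent.Helper5.GraphDom

open Groth.Agent.Helper5.FlatOrbit Groth.Agent.Helper5.RedGrp Groth.Agent.Helper3.SepPts

variable {k : Type u} [Field k] {G C : Over (Spec (CommRingCat.of k))} [GrpObj G]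
  (a : AlgGrp.Action G C)

/-- the graph morphism `(g, x) ↦ (x, g x)` -/
noncomputable abbrev graph : G ⊗ C ⟶ C ⊗ C := lift (snd G C) a.act

/-- the diagonal lies in the image of the graph -/
theorem unit_graph : lift (toUnit C ≫ η[G]) (𝟙 C) ≫ graph a = diag C := by
  have h1 : lift (toUnit C ≫ η[G]) (𝟙 C) ≫ a.act = 𝟙 C := by
    have := one_sm a (𝟙 C)
    rwa [sm, Hom.one_def] at this
  ext
  · simp [graph]
  · rw [Category.assoc, lift_snd, h1, lift_snd]

/-- a chain of four points gives dimension at least three -/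
theorem three_le_dim (P : Scheme.{u}) (d z₁ z₂ z₃ : P) (h1 : d < z₁) (h2 : z₁ < z₂)
    (h3 : z₂ < z₃) : (3 : WithBot ℕ∞) ≤ topologicalKrullDim P := by
  rw [Groth.Agent.Helper5.EtDim.topologicalKrullDim_eq_iSup_coheight]
  have e1 := Order.coheight_add_one_le h3
  have e2 := Order.coheight_add_one_le h2
  have e3 := Order.coheight_add_one_le h1
  have e4 : (3 : ℕ∞) ≤ Order.coheight d := by
    calc (3 : ℕ∞) = 0 + 1 + 1 + 1 := by norm_num
      _ ≤ Order.coheight z₃ + 1 + 1 + 1 := by gcongr; exact zero_le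
      _ ≤ Order.coheight z₂ + 1 + 1 := by gcongr
      _ ≤ Order.coheight z₁ + 1 := by gcongr
      _ ≤ Order.coheight d := e3
  refine le_trans ?_ (le_iSup (fun x : P => ((Order.coheight x : ℕ∞) : WithBot ℕ∞)) d)
  have e5 : ((3 : ℕ∞) : WithBot ℕ∞) ≤ ((Order.coheight d : ℕ∞) : WithBot ℕ∞) :=
    WithBot.coe_le_coe.2 e4
  exact e5

end Groth.Agent.Helper5.GraphDom
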