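import Mathlib
import Groth.Prelude
import Groth.Agent.Helper5.GraphDom2

set_option autoImplicit false
set_option linter.unusedSectionVars false
set_option linter.style.haveILetI false
set_option linter.unusedVariables false
universe u

open AlgebraicGeometry CategoryTheory CategoryTheory.Limits
open MonoidalCategory CartesianMonoidalCategory MonObj

namespace Groth.Agent.Helper5.GraphDom

open Groth.Agent.Helper5.FlatOrbit Groth.Agent.Helper5.RedGrp Groth.Agent.Helper3.SepPts

variable {k : Type u} [Field k] {G C : Over (Spec (CommRingCat.of k))} [GrpObj G]
  (a : AlgGrp.Action G C)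

theorem lt_of_specializes_of_ne {P : Scheme.{u}} {x y : P} (h : y ⤳ x) (hne : x ≠ y) : x < y := by
  rw [lt_iff_le_not_ge]
  refine ⟨Scheme.le_iff_specializes.2 h, fun h' => hne ?_⟩
  exact ((Scheme.le_iff_specializes.1 h').antisymm h).eq

/-- **A connected group acting on a curve: almost homogeneous iff the action is nontrivial.** -/
theorem s14634 [Smooth G.hom] [ConnectedSpace G.left] [IsSeparated C.hom]
    [LocallyOfFiniteType C.hom] [GeometricallyIntegral C.hom]
    (hdim : topologicalKrullDim C.left = 1) :
    IsDominant (lift (snd G C) a.act).left ↔ a.act ≠ snd G C := by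
  have h2 := dim_tensor C hdim
  haveI : Subsingleton ↥(Spec (CommRingCat.of k)) :=
    inferInstanceAs (Subsingleton (PrimeSpectrum k))
  haveI : IsIntegral C.left := GeometricallyIntegral.isIntegral_of_subsingleton C.hom
  constructor
  · intro hdom heq
    have hΓ : graph a = snd G C ≫ diag C := by
      ext <;> simp [graph, heq]
    have hsub : Set.range (graph a).left ⊆ Set.range (diag C).left := by
      rintro _ ⟨p, rfl⟩
      rw [hΓ]
      exact ⟨(snd G C).left p, rfl⟩
    have hcl : IsClosed (Set.range (diag C).left) :=
      (diag C).left.isClosedEmbedding.isClosed_range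
    have huniv : Set.range (diag C).left = Set.univ := by
      apply Set.eq_univ_of_univ_subset
      rw [← hdom.denseRange.closure_range]
      exact hcl.closure_subset_iff.2 hsub
    haveI : Surjective (diag C).left := ⟨Set.range_eq_univ.1 huniv⟩
    have h3 := dim_eq_of_homeo (homeoOfSurjClosedImm (diag C).left)
    rw [hdim, h2] at h3
    norm_num at h3
  · intro hne
    by_contra hnd
    apply hne
    haveI : Flat C.hom := Groth.Agent.Helper4.SN.flat_of_field k C.hom
    haveI : LocallyOfFinitePresentation C.hom := inferInstance
    haveI : UniversallyOpen C.hom := inferInstance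
    have hpt : Nonempty (𝟙_ (Over (Spec (CommRingCat.of k)))).left :=
      ⟨(show Spec (CommRingCat.of k) from IsLocalRing.closedPoint k)⟩
    obtain ⟨pt⟩ := hpt
    haveI : IrreducibleSpace G.left :=
      Groth.Agent.Helper2.HS6.irreducibleSpace_of_connectedSpace G pt
    haveI : IrreducibleSpace (G ⊗ C).left :=
      inferInstanceAs (IrreducibleSpace ↥(pullback G.hom C.hom))
    haveI : IrreducibleSpace (C ⊗ C).left :=
      inferInstanceAs (IrreducibleSpace ↥(pullback C.hom C.hom))
    haveI : IsReduced (G ⊗ C).left := by
      haveI : Smooth (snd G C).left := by
        change Smooth (pullback.snd G.hom C.hom)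
        infer_instance
      exact Groth.Agent.Helper5.RedDesc.isReduced_of_smooth (snd G C).left
    -- the relevant points
    let ζP : (C ⊗ C).left := genericPoint (C ⊗ C).left
    let ζZ : (C ⊗ C).left := (graph a).left (genericPoint (G ⊗ C).left)
    let ζD : (C ⊗ C).left := (diag C).left (genericPoint C.left)
    have hZgen : IsGenericPoint ζZ (closure (Set.range (graph a).left)) := by
      have := (genericPoint_spec (G ⊗ C).left).image (graph a).left.continuous
      rwa [Set.image_univ] at this
    have hDgen : IsGenericPoint ζD (Set.range (diag C).left) := by
      have := (genericPoint_spec C.left).image (diag C).left.continuous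
      rwa [Set.image_univ, (diag C).left.isClosedEmbedding.isClosed_range.closure_eq] at this
    have hDZ : Set.range (diag C).left ⊆ closure (Set.range (graph a).left) := by
      rintro _ ⟨c, rfl⟩
      apply subset_closure
      refine ⟨(lift (toUnit C ≫ η[G]) (𝟙 C)).left c, ?_⟩
      rw [← Scheme.Hom.comp_apply, ← Over.comp_left, unit_graph]
    have hZne : closure (Set.range (graph a).left) ≠ Set.univ := fun h =>
      hnd ⟨dense_iff_closure_eq.2 h⟩
    -- the diagonal is the closure of the image
    have hDeq : Set.range (diag C).left = closure (Set.range (graph a).left) := by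
      by_contra hDne
      -- a point of `C` different from the generic point
      obtain ⟨c, hc⟩ : ∃ c : C.left, c ≠ genericPoint C.left := by
        by_contra hall
        simp only [ne_eq, not_exists, not_not] at hall
        have hsub : Subsingleton C.left := ⟨fun x y => (hall x).trans (hall y).symm⟩
        have h0 : topologicalKrullDim C.left ≤ 0 := by
          rw [Groth.Agent.Helper5.EtDim.topologicalKrullDim_eq_iSup_coheight]
          refine iSup_le fun x => ?_
          have : Order.coheight x = 0 := by
            rw [Order.coheight_eq_zero]
            intro y _
            rw [Subsingleton.elim y x]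
          rw [this]
          rfl
        rw [hdim] at h0
        norm_num at h0
      have c1 : (diag C).left c < ζD := by
        refine lt_of_specializes_of_ne ?_ ?_
        · exact ((genericPoint_spec C.left).specializes (Set.mem_univ c)).map
            (diag C).left.continuous
        · intro h
          exact hc ((diag C).left.isClosedEmbedding.injective h)
      have c2 : ζD < ζZ := by
        refine lt_of_specializes_of_ne ?_ ?_
        · exact hZgen.specializes (hDZ ⟨_, rfl⟩)
        · intro h
          apply hDne
          rw [← hDgen.def, ← hZgen.def, h]
      have c3 : ζZ < ζP := by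
        refine lt_of_specializes_of_ne ?_ ?_
        · exact (genericPoint_spec (C ⊗ C).left).specializes (Set.mem_univ _)
        · intro h
          apply hZne
          rw [← hZgen.def, h]
          exact (genericPoint_spec (C ⊗ C).left).def
      have h3 := three_le_dim (C ⊗ C).left _ _ _ _ c1 c2 c3
      rw [h2] at h3
      norm_num at h3
    -- conclusion
    have hr : Set.range (graph a).left.base ⊆ Set.range (diag C).left.base := by
      intro z hz
      have : z ∈ closure (Set.range (graph a).left) := subset_closure hz
      rw [← hDeq] at this
      exact this
    obtain ⟨l, hl⟩ := lift_of_reduced (diag C).left (graph a).left hr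
    have d1 : (diag C).left ≫ (fst C C).left = 𝟙 _ := by
      rw [← Over.comp_left, lift_fst]; rfl
    have d2 : (diag C).left ≫ (snd C C).left = 𝟙 _ := by
      rw [← Over.comp_left, lift_snd]; rfl
    have e1 : (snd G C).left = l := by
      have : (graph a ≫ fst C C).left = (snd G C).left := by rw [lift_fst]
      rw [← this, Over.comp_left, ← hl, Category.assoc, d1, Category.comp_id]
    have e2 : a.act.left = l := by
      have : (graph a ≫ snd C C).left = a.act.left := by rw [lift_snd]
      rw [← this, Over.comp_left, ← hl, Category.assoc, d2, Category.comp_id]
    ext1
    rw [e1, e2]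

end Groth.Agent.Helper5.GraphDom
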