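import Groth.Agent.Helper5.SmRelDim1
import Groth.Agent.Helper5.FlatRelDim
import Groth.Agent.Helper5.AtMorFt
import Groth.Agent.Helper5.AlgSpOpen
import Groth.Agent.Helper5.EtDim
import Mathlib

set_option autoImplicit false
set_option linter.style.haveILetI false
set_option linter.unusedSectionVars false
set_option linter.unusedVariables false
universe u
open CategoryTheory CategoryTheory.Limits AlgebraicGeometry Opposite MvPolynomial

namespace Groth.Agent.Helper5.SmLocDim

open AlgSp Groth.Agent.Helper5.SmRelDim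

/-- pointwise form of `s2768` -/
theorem fibreDimAt_of_isStandardSmooth (n : ℕ) {X Y : Scheme.{u}} (f : X ⟶ Y) [Smooth f]
    {U : Y.Opens} (hU : IsAffineOpen U) {V : X.Opens} (hV : IsAffineOpen V) (e : V ≤ f ⁻¹ᵁ U)
    (hφ : RingHom.IsStandardSmoothOfRelativeDimension n (f.appLE U V e).hom) (x : X)
    (hxV : x ∈ V) : FlatMor.fibreDimAt f x = (n : WithBot ℕ∞) := by
  obtain ⟨g, hgC, hg⟩ := hφ.exists_etale_mvPolynomial
  obtain ⟨q, rfl⟩ : ∃ q, hV.fromSpec q = x := by
    have : x ∈ Set.range hV.fromSpec := by rw [hV.range_fromSpec]; exact hxV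
    exact this
  rw [← fibreDimAt_precomp hV.fromSpec f q, ← IsAffineOpen.SpecMap_appLE_fromSpec f hU hV e,
    Groth.Agent.Helper5.EtLoc.fibreDimAt_comp_lqf]
  have h1 : Spec.map (f.appLE U V e) =
      Spec.map (CommRingCat.ofHom g) ≫ Spec.map (CommRingCat.ofHom C) := by
    rw [← Spec.map_comp]
    congr 1
    apply CommRingCat.hom_ext
    exact hgC.symm
  rw [h1]
  haveI : Etale (Spec.map (CommRingCat.ofHom g)) :=
    (HasRingHomProperty.Spec_iff (P := @Etale)).2 hg
  haveI : LocallyQuasiFinite (Spec.map (CommRingCat.ofHom g)) :=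
    Groth.Agent.Helper4.SchLQF.locallyQuasiFinite_of_etale _
  haveI : LocallyOfFiniteType (Spec.map (CommRingCat.ofHom
      (C : Γ(Y, U) →+* MvPolynomial (Fin n) Γ(Y, U)))) := by
    rw [HasRingHomProperty.Spec_iff (P := @LocallyOfFiniteType)]
    show (algebraMap Γ(Y, U) (MvPolynomial (Fin n) Γ(Y, U))).FiniteType
    exact RingHom.finiteType_algebraMap.2 inferInstance
  rw [fibreDimAt_precomp]
  exact fibreDimAt_SpecMap_C Γ(Y, U) n _

/-- a smooth morphism has locally constant fibre dimension -/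
theorem exists_open_fibreDimAt_eq {X Y : Scheme.{u}} (f : X ⟶ Y) [Smooth f] (x : X) :
    ∃ (n : ℕ) (V : X.Opens), x ∈ V ∧ ∀ x' ∈ V, FlatMor.fibreDimAt f x' = (n : WithBot ℕ∞) := by
  obtain ⟨U, hU, V, hV, hxV, e, hφ⟩ := Smooth.exists_isStandardSmooth f x
  letI := (f.appLE U V e).hom.toAlgebra
  have hφ' : Algebra.IsStandardSmooth Γ(Y, U) Γ(X, V) := hφ
  obtain ⟨ι, σ, hσ, hι, ⟨P⟩⟩ := hφ'.out
  have hn : RingHom.IsStandardSmoothOfRelativeDimension P.dimension (f.appLE U V e).hom :=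
    P.isStandardSmoothOfRelativeDimension rfl
  exact ⟨P.dimension, V, hxV, fun x' hx' =>
    fibreDimAt_of_isStandardSmooth _ f hU hV e hn x' hx'⟩

/-- local dimension formula for smooth morphisms to locally Noetherian schemes -/
theorem localDim_eq_add_of_smooth {U V : Scheme.{u}} [IsLocallyNoetherian V] (h : U ⟶ V)
    [Smooth h] (u : U) :
    FlatMor.localDim U u = FlatMor.localDim V (h u) + FlatMor.fibreDimAt h u := by
  obtain ⟨n, W, huW, hW⟩ := exists_open_fibreDimAt_eq h u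
  have hd : ∀ w : ↥W, FlatMor.fibreDimAt (W.ι ≫ h) w = (n : WithBot ℕ∞) := by
    intro w
    haveI : LocallyQuasiFinite W.ι := Groth.Agent.Helper4.SchLQF.locallyQuasiFinite_of_etale _
    rw [fibreDimAt_precomp W.ι h w]
    exact hW _ w.2
  have key := Groth.Agent.Helper5.FlatRelDim.localDim_eq_add (W.ι ≫ h) n hd ⟨u, huW⟩
  rw [Groth.Agent.Helper5.EtDim.localDim_eq_of_etale W.ι ⟨u, huW⟩] at key
  rw [hW u huW]
  exact key

end Groth.Agent.Helper5.SmLocDim

namespace Groth.Agent.Helper5.SmLocDim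

open AlgSp

variable {S : Scheme.{u}}

set_option backward.isDefEq.respectTransparency.types false in
theorem s10315 {X Y : AlgSp.Space S} (f : X ⟶ Y)
    (hX : AlgSp.IsLocNoethSp X.obj) (hY : AlgSp.IsLocNoethSp Y.obj) (hf : AlgSp.LocP @Smooth f.hom)
    (x : AlgSp.Points X.obj) (d dX dY : WithBot ℕ∞)
    (hd : AlgSp.HasAtMor (fun _ _ h u => FlatMor.fibreDimAt h u = d) f.hom x)
    (hx : AlgSp.HasAt (fun U u => FlatMor.localDim ↥U u = dX) X.obj x)
    (hy : AlgSp.HasAt (fun U u => FlatMor.localDim ↥U u = dY) Y.obj (AlgSp.Points.map f.hom x)) :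
    dX = dY + d := by
  obtain ⟨V₀, b₀, hb₀e, hb₀s, hV₀⟩ := hY
  obtain ⟨v₀, hv₀⟩ := Groth.Agent.Helper5.AlgSpOpen.ofPt_surjective_of_repWith b₀ hb₀s
    (AlgSp.Points.map f.hom x)
  obtain ⟨U, a₀, h, u, ha₀, hcomm, hu, hhu⟩ :=
    Groth.Agent.Helper5.AtMor.exists_chart_over X.property f.hom x b₀ hb₀e v₀ hv₀
  subst hu
  haveI : Smooth h.left := hf a₀ b₀ h ha₀ hb₀e hcomm
  have hlft : AlgSp.LocP @LocallyOfFiniteType f.hom := by
    intro U' V' a' b' h' ha' hb' hc'
    haveI : Smooth h'.left := hf a' b' h' ha' hb' hc'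
    infer_instance
  have hd' : FlatMor.fibreDimAt h.left u = d :=
    (Groth.Agent.Helper5.AtMor.hasAtMor_iff_chart_ft _
      (Groth.Agent.Helper5.AtMor.elstft_fibreDimAt (· = d)) f.hom hlft a₀ b₀ h
      ha₀ hb₀e hcomm u).1 hd
  haveI : IsLocallyNoetherian V₀.left := hV₀
  have key := localDim_eq_add_of_smooth h.left u
  have e1 : FlatMor.localDim ↥U.left u = dX :=
    (Groth.Agent.Helper5.HasAtChart.hasAt_iff_chart
      (fun U u => FlatMor.localDim ↥U u = dX)
      (fun g _ x => by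
        show FlatMor.localDim _ _ = dX ↔ FlatMor.localDim _ _ = dX
        rw [Groth.Agent.Helper5.EtDim.localDim_eq_of_etale g x]) a₀ ha₀ u).1 hx
  have e2 : FlatMor.localDim ↥V₀.left (h.left u) = dY := by
    rw [hhu]
    rw [← hv₀] at hy
    exact (Groth.Agent.Helper5.HasAtChart.hasAt_iff_chart
      (fun U u => FlatMor.localDim ↥U u = dY)
      (fun g _ x => by
        show FlatMor.localDim _ _ = dY ↔ FlatMor.localDim _ _ = dY
        rw [Groth.Agent.Helper5.EtDim.localDim_eq_of_etale g x]) b₀ hb₀e v₀).1 hy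
  rw [e1, e2, hd'] at key
  exact key

end Groth.Agent.Helper5.SmLocDim
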