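import Groth.Agent.Helper5.VarDim7

set_option autoImplicit false
universe u
open AlgebraicGeometry CategoryTheory TopologicalSpace

namespace Groth.Agent.Helper5.VarDim

theorem closure_asFiber_eq_univ {X Y : Scheme.{u}} (f : X ⟶ Y) (ξ : X)
    (hξ : closure ({ξ} : Set X) = Set.univ) :
    closure ({f.asFiber ξ} : Set ↥(f.fiber (f ξ))) = Set.univ := by
  rw [(f.fiberι (f ξ)).isEmbedding.isInducing.closure_eq_preimage_closure_image,
    Set.image_singleton, f.fiberι_asFiber, hξ]
  rfl

/-- The dimension of the generic fibre of a morphism of schemes locally of finite type over a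
field with irreducible source is `dim X - dim (closure of the image)`. -/
theorem generic_fibre_dim (k : Type u) [Field k] {X Y : Scheme.{u}}
    (gX : X ⟶ Spec (CommRingCat.of k)) (gY : Y ⟶ Spec (CommRingCat.of k))
    [LocallyOfFiniteType gX] [LocallyOfFiniteType gY] [IrreducibleSpace X]
    (f : X ⟶ Y) (hf : f ≫ gY = gX) (a b : ℕ) (ha : topologicalKrullDim X = a)
    (hb : topologicalKrullDim ↥(closure (Set.range f)) = b) :
    FlatMor.fibreDimAt f (genericPoint X) = ((a - b : ℕ) : WithBot ℕ∞) := by
  have hflft : LocallyOfFiniteType f := by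
    have : LocallyOfFiniteType (f ≫ gY) := hf ▸ inferInstance
    exact locallyOfFiniteType_of_comp f gY
  let ξ := genericPoint X
  have hξ : closure ({ξ} : Set X) = Set.univ := genericPoint_closure X
  obtain ⟨nX, h1, h2⟩ := dim_eq_trdeg_generic k gX ξ hξ
  have hcl : closure (Set.range f) = closure ({f ξ} : Set Y) := by
    have := ((genericPoint_spec X).image f.continuous).def
    rw [Set.image_univ] at this
    exact this.symm
  obtain ⟨nY, h3, h4⟩ := dim_closure_point k gY (f ξ)
  rw [← hcl, hb] at h3
  rw [ha] at h1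
  have haX : a = nX := by exact_mod_cast h1
  have hbY : b = nY := by exact_mod_cast h3
  have htower := trdeg_tower k f gY ξ
  rw [hf, h2, h4] at htower
  have hft : LocallyOfFiniteType (f.fiberToSpecResidueField (f ξ)) :=
    inferInstanceAs (LocallyOfFiniteType (Limits.pullback.snd f (Y.fromSpecResidueField (f ξ))))
  obtain ⟨nF, h5, h6⟩ := dim_eq_trdeg_generic (Y.residueField (f ξ))
    (f.fiberToSpecResidueField (f ξ)) (f.asFiber ξ) (closure_asFiber_eq_univ f ξ hξ)
  rw [trdeg_fiber f ξ] at h6
  rw [h6] at htower
  have hnat : nX = nY + nF := by exact_mod_cast htower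
  rw [fibreDimAt_generic f ξ hξ, h5]
  have : a - b = nF := by omega
  rw [this]

end Groth.Agent.Helper5.VarDim
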