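import Mathlib
import Groth.Prelude
import Groth.Agent.Helper5.SmLocDim1
import Groth.Agent.Helper5.VarDim8

set_option autoImplicit false
set_option linter.style.haveILetI false
set_option linter.unusedSectionVars false
set_option linter.unusedVariables false

open CategoryTheory CategoryTheory.Limits AlgebraicGeometry Opposite TopologicalSpace

universe u

namespace Groth.Agent.Helper5.GenSm

/-- a smooth morphism all of whose local fibre dimensions are `n` is smooth of relative
dimension `n` -/
theorem smoothOfRelDim_of_fibreDimAt {X Y : Scheme.{u}} (g : X ⟶ Y) [Smooth g] (n : ℕ)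
    (h : ∀ x : X, FlatMor.fibreDimAt g x = (n : WithBot ℕ∞)) :
    SmoothOfRelativeDimension n g := by
  constructor
  intro x
  obtain ⟨U, hU, V, hV, hxV, e, hφ⟩ := Smooth.exists_isStandardSmooth g x
  letI := (g.appLE U V e).hom.toAlgebra
  have hφ' : Algebra.IsStandardSmooth Γ(Y, U) Γ(X, V) := hφ
  obtain ⟨ι, σ, hσ, hι, ⟨P⟩⟩ := hφ'.out
  have hn : RingHom.IsStandardSmoothOfRelativeDimension P.dimension (g.appLE U V e).hom :=
    P.isStandardSmoothOfRelativeDimension rfl
  have h1 := Groth.Agent.Helper5.SmLocDim.fibreDimAt_of_isStandardSmooth _ g hU hV e hn x hxV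
  rw [h x] at h1
  have h4 : P.dimension = n := by exact_mod_cast h1.symm
  rw [h4] at hn
  exact ⟨U, hU, V, hV, hxV, e, hn⟩

/-- the local fibre dimension at a generic point of the source is the transcendence degree of the
residue field extension -/
theorem fibreDimAt_generic_eq_trdeg {X Y : Scheme.{u}} (f : X ⟶ Y) [LocallyOfFiniteType f] (ξ : X)
    (hξ : closure ({ξ} : Set X) = Set.univ) :
    ∃ nF : ℕ, FlatMor.fibreDimAt f ξ = (nF : WithBot ℕ∞) ∧
      @Algebra.trdeg (Y.residueField (f ξ)) (X.residueField ξ) _ _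
        (f.residueFieldMap ξ).hom.toAlgebra = nF := by
  have hft : LocallyOfFiniteType (f.fiberToSpecResidueField (f ξ)) :=
    inferInstanceAs (LocallyOfFiniteType (Limits.pullback.snd f (Y.fromSpecResidueField (f ξ))))
  obtain ⟨nF, h5, h6⟩ := Groth.Agent.Helper5.VarDim.dim_eq_trdeg_generic (Y.residueField (f ξ))
    (f.fiberToSpecResidueField (f ξ)) (f.asFiber ξ)
    (Groth.Agent.Helper5.VarDim.closure_asFiber_eq_univ f ξ hξ)
  rw [Groth.Agent.Helper5.VarDim.trdeg_fiber f ξ] at h6
  refine ⟨nF, ?_, h6⟩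
  rw [Groth.Agent.Helper5.VarDim.fibreDimAt_generic f ξ hξ, h5]

end Groth.Agent.Helper5.GenSm
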