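import Mathlib
import Groth.Prelude
import Groth.Agent.Helper5.GenSm1

set_option autoImplicit false
set_option linter.style.haveILetI false
set_option linter.unusedSectionVars false
set_option linter.unusedVariables false

open CategoryTheory CategoryTheory.Limits AlgebraicGeometry Opposite TopologicalSpace

universe u

namespace Groth.Agent.Helper5.GenSm

/-- the residue map of a local ring which is a field is bijective -/
theorem residue_bijective_of_isField {A : Type u} [CommRing A] [IsLocalRing A] (hA : IsField A) :
    Function.Bijective (IsLocalRing.residue A) := by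
  refine ⟨?_, IsLocalRing.residue_surjective⟩
  rw [injective_iff_map_eq_zero]
  intro a ha
  rw [IsLocalRing.residue_eq_zero_iff] at ha
  by_contra h0
  obtain ⟨b, hb⟩ := hA.mul_inv_cancel h0
  exact (IsLocalRing.mem_maximalIdeal a).1 ha (IsUnit.of_mul_eq_one _ hb)

/-- transcendence degree over a bijective base change -/
theorem trdeg_eq_of_bijective_base {K K' L : Type u} [Field K] [Field K'] [Field L]
    [Algebra K K'] [Algebra K' L] [Algebra K L] [IsScalarTower K K' L]
    (hb : Function.Bijective (algebraMap K K')) :
    Algebra.trdeg K L = Algebra.trdeg K' L := by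
  haveI : Algebra.IsIntegral K K' := Algebra.isIntegral_of_surjective hb.2
  haveI : Algebra.IsAlgebraic K K' := inferInstance
  have h := trdeg_add_eq K K' (A := L)
  rw [_root_.trdeg_eq_zero, zero_add] at h
  exact h.symm

theorem trdeg_stalk_eq_trdeg_residue {A B : Type u} [CommRing A] [CommRing B] [IsLocalRing A]
    [IsLocalRing B] (hA : IsField A) (hB : IsField B) (φ : A →+* B) [IsLocalHom φ] :
    @Algebra.trdeg A B _ _ φ.toAlgebra =
      @Algebra.trdeg (IsLocalRing.ResidueField A) (IsLocalRing.ResidueField B) _ _
        (IsLocalRing.ResidueField.map φ).toAlgebra := by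
  letI := hA.toField
  letI := hB.toField
  letI a1 : Algebra A B := φ.toAlgebra
  letI a2 : Algebra (IsLocalRing.ResidueField A) (IsLocalRing.ResidueField B) :=
    (IsLocalRing.ResidueField.map φ).toAlgebra
  letI a3 : Algebra A (IsLocalRing.ResidueField B) :=
    ((IsLocalRing.residue B).comp φ).toAlgebra
  haveI : IsScalarTower A (IsLocalRing.ResidueField A) (IsLocalRing.ResidueField B) := by
    refine .of_algebraMap_eq' ?_
    rfl
  have e : B ≃ₐ[A] IsLocalRing.ResidueField B :=
    AlgEquiv.ofBijective ⟨IsLocalRing.residue B, fun _ => rfl⟩ (residue_bijective_of_isField hB)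
  rw [e.trdeg_eq]
  exact trdeg_eq_of_bijective_base (residue_bijective_of_isField hA)

end Groth.Agent.Helper5.GenSm
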