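import Mathlib
import Groth.Prelude
import Groth.Agent.Helper5.GenSm2

set_option autoImplicit false
set_option linter.style.haveILetI false
set_option linter.unusedSectionVars false
set_option linter.unusedVariables false

open CategoryTheory CategoryTheory.Limits AlgebraicGeometry Opposite TopologicalSpace

universe u

namespace Groth.Agent.Helper5.GenSm

open Groth.Agent.Helper5.SmRelDim

/-- the restriction of a morphism to an open inside its smooth locus is smooth -/
theorem smooth_ι_comp_of_le_smoothLocus {X Y : Scheme.{u}} (π : X ⟶ Y)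
    [LocallyOfFinitePresentation π] (U : X.Opens) (hU : U ≤ π.smoothLocus) :
    Smooth (U.ι ≫ π) := by
  rw [← Scheme.Hom.smoothLocus_eq_top_iff, ← Scheme.Hom.preimage_smoothLocus_eq, ← top_le_iff]
  intro u _
  exact hU u.2

/-- field extensions in characteristic zero: a point with field stalks lies in the smooth locus -/
theorem mem_smoothLocus_of_isField_charZero {X Y : Scheme.{u}} (π : X ⟶ Y)
    [LocallyOfFiniteType π] [LocallyOfFinitePresentation π] (ξ : X)
    (hFY : IsField (Y.presheaf.stalk (π ξ))) (hFX : IsField (X.presheaf.stalk ξ))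
    [CharZero (Y.presheaf.stalk (π ξ))] : ξ ∈ π.smoothLocus := by
  rw [Scheme.Hom.mem_smoothLocus]
  letI := hFY.toField
  letI := hFX.toField
  letI := (π.stalkMap ξ).hom.toAlgebra
  haveI : Algebra.EssFiniteType (Y.presheaf.stalk (π ξ)) (X.presheaf.stalk ξ) :=
    LocallyOfFiniteType.stalkMap π ξ
  haveI : CharZero (Y.presheaf.stalk (π ξ)) := ‹_›
  haveI : PerfectField (Y.presheaf.stalk (π ξ)) := PerfectField.ofCharZero
  exact Algebra.FormallySmooth.of_perfectField

theorem charZero_stalk_of_eq {Y : Scheme.{u}} [IsIntegral Y] [CharZero Y.functionField] :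
    ∀ (y : Y) (_ : y = genericPoint Y), CharZero (Y.presheaf.stalk y) := by
  rintro _ rfl
  infer_instance

theorem isField_stalk_of_eq {Y : Scheme.{u}} [IsIntegral Y] :
    ∀ (y : Y) (_ : y = genericPoint Y), IsField (Y.presheaf.stalk y) := by
  rintro _ rfl
  exact Field.toIsField Y.functionField

/-- **Generic smoothness on the source in characteristic zero.** -/
theorem s14417 (X Y : Scheme.{u}) [IsIntegral X] [IsIntegral Y] [IsLocallyNoetherian Y]
    (π : X ⟶ Y) [LocallyOfFiniteType π]
    (hdom : π.base (genericPoint X) = genericPoint Y) [CharZero Y.functionField]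
    (n : ℕ) (hn : @Algebra.trdeg (Y.presheaf.stalk (π.base (genericPoint X))) X.functionField _ _
      (π.stalkMap (genericPoint X)).hom.toAlgebra = n) :
    ∃ U : X.Opens, (U : Set X).Nonempty ∧ SmoothOfRelativeDimension n (U.ι ≫ π) := by
  have hξ : closure ({genericPoint X} : Set X) = Set.univ := genericPoint_closure X
  haveI : LocallyOfFinitePresentation π := inferInstance
  have hFY : IsField (Y.presheaf.stalk (π (genericPoint X))) := isField_stalk_of_eq _ hdom
  have hFX : IsField (X.presheaf.stalk (genericPoint X)) := Field.toIsField X.functionField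
  haveI : CharZero (Y.presheaf.stalk (π (genericPoint X))) := charZero_stalk_of_eq _ hdom
  have hsm : genericPoint X ∈ π.smoothLocus :=
    mem_smoothLocus_of_isField_charZero π (genericPoint X) hFY hFX
  haveI : Smooth (π.smoothLocus.ι ≫ π) := smooth_ι_comp_of_le_smoothLocus π _ le_rfl
  obtain ⟨m, V', hξV', hV'⟩ := Groth.Agent.Helper5.SmLocDim.exists_open_fibreDimAt_eq
    (π.smoothLocus.ι ≫ π) ⟨genericPoint X, hsm⟩
  haveI : LocallyQuasiFinite π.smoothLocus.ι :=
    Groth.Agent.Helper4.SchLQF.locallyQuasiFinite_of_etale _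
  have hmemU : ∀ x ∈ π.smoothLocus.ι ''ᵁ V', FlatMor.fibreDimAt π x = (m : WithBot ℕ∞) := by
    rintro x ⟨v, hv, rfl⟩
    exact (fibreDimAt_precomp π.smoothLocus.ι π v).symm.trans (hV' v hv)
  have hUle : π.smoothLocus.ι ''ᵁ V' ≤ π.smoothLocus := by
    rintro x ⟨v, hv, rfl⟩
    exact v.2
  haveI : Smooth ((π.smoothLocus.ι ''ᵁ V').ι ≫ π) := smooth_ι_comp_of_le_smoothLocus π _ hUle
  have hξU : genericPoint X ∈ π.smoothLocus.ι ''ᵁ V' := ⟨⟨genericPoint X, hsm⟩, hξV', rfl⟩
  obtain ⟨nF, h1, h2⟩ := fibreDimAt_generic_eq_trdeg π (genericPoint X) hξ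
  have h3 := trdeg_stalk_eq_trdeg_residue hFY hFX (π.stalkMap (genericPoint X)).hom
  have h4 : (n : Cardinal) = nF := by
    rw [← hn, ← h2]
    exact h3
  have hnF : n = nF := by exact_mod_cast h4
  have hmn : m = n := by
    have h5 := hmemU _ hξU
    rw [h1] at h5
    have : nF = m := by exact_mod_cast h5
    omega
  haveI : LocallyQuasiFinite (π.smoothLocus.ι ''ᵁ V').ι :=
    Groth.Agent.Helper4.SchLQF.locallyQuasiFinite_of_etale _
  refine ⟨π.smoothLocus.ι ''ᵁ V', ⟨genericPoint X, hξU⟩,
    smoothOfRelDim_of_fibreDimAt ((π.smoothLocus.ι ''ᵁ V').ι ≫ π) n (fun u => ?_)⟩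
  have hu : (π.smoothLocus.ι ''ᵁ V').ι u ∈ π.smoothLocus.ι ''ᵁ V' := u.2
  rw [fibreDimAt_precomp (π.smoothLocus.ι ''ᵁ V').ι π u, hmemU _ hu, hmn]

end Groth.Agent.Helper5.GenSm
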