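import Mathlib
import Groth.Prelude
import Groth.Agent.Helper5.FlatOrbit1

set_option autoImplicit false
set_option linter.unusedSectionVars false
set_option linter.style.haveILetI false
set_option linter.unusedVariables false
universe u

open AlgebraicGeometry CategoryTheory CategoryTheory.Limits
open MonoidalCategory CartesianMonoidalCategory MonObj

namespace Groth.Agent.Helper5.OrbSm

open Groth.Agent.Helper5.FlatOrbit

variable {S : Scheme.{u}} {G X : Over S} [GrpObj G] (a : AlgGrp.Action G X)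

/-- translation by a section `σ` of `G` -/
noncomputable def tr (σ : 𝟙_ (Over S) ⟶ G) : X ⟶ X := sm a (toUnit X ≫ σ) (𝟙 X)

theorem comp_tr {T : Over S} (σ : 𝟙_ (Over S) ⟶ G) (f : T ⟶ X) :
    f ≫ tr a σ = sm a (toUnit T ≫ σ) f := by
  rw [tr, comp_sm, Category.comp_id, ← Category.assoc]
  congr 2
  exact toUnit_unique _ _

theorem tr_tr (σ σ' : 𝟙_ (Over S) ⟶ G) : tr a σ ≫ tr a σ' = tr a (σ' * σ) := by
  rw [comp_tr, tr, tr, ← mul_sm]
  congr 1
  rw [Hom.mul_def, Hom.mul_def, ← Category.assoc, comp_lift]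

theorem tr_one : tr a (1 : 𝟙_ (Over S) ⟶ G) = 𝟙 X := by
  rw [tr]
  have : toUnit X ≫ (1 : 𝟙_ (Over S) ⟶ G) = 1 := by
    rw [Hom.one_def, Hom.one_def, ← Category.assoc]
    congr 1
  rw [this, one_sm]

/-- translations are isomorphisms -/
noncomputable def trIso (σ : 𝟙_ (Over S) ⟶ G) : X ≅ X where
  hom := tr a σ
  inv := tr a σ⁻¹
  hom_inv_id := by rw [tr_tr, inv_mul_cancel, tr_one]
  inv_hom_id := by rw [tr_tr, mul_inv_cancel, tr_one]

theorem sm_regular {T : Over S} (g h : T ⟶ G) : sm (regular G) g h = g * h := by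
  rw [sm, Hom.mul_def]
  rfl

/-- the orbit map is equivariant for translations -/
theorem tr_orbitMap (o : 𝟙_ (Over S) ⟶ X) (σ : 𝟙_ (Over S) ⟶ G) :
    tr (regular G) σ ≫ a.orbitMap o = a.orbitMap o ≫ tr a σ := by
  rw [comp_tr, comp_orbitMap, tr, sm_regular, mul_sm]
  congr 1

/-- translation of a section -/
theorem section_tr (σ y : 𝟙_ (Over S) ⟶ G) : y ≫ tr (regular G) σ = σ * y := by
  rw [comp_tr, sm_regular]
  congr 1

/-- sections through the orbit map -/
theorem section_orbitMap (o : 𝟙_ (Over S) ⟶ X) (σ : 𝟙_ (Over S) ⟶ G) :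
    σ ≫ a.orbitMap o = lift σ o ≫ a.act := by
  rw [comp_orbitMap, sm]
  have : toUnit (𝟙_ (Over S)) = 𝟙 _ := toUnit_unique _ _
  rw [this, Category.id_comp]

end Groth.Agent.Helper5.OrbSm
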