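import Mathlib
import Groth.Prelude
import Groth.Agent.Helper5.OrbSm1
import Groth.Agent.Helper5.GenSm3

set_option autoImplicit false
set_option linter.unusedSectionVars false
set_option linter.style.haveILetI false
set_option linter.unusedVariables false
universe u

open AlgebraicGeometry CategoryTheory CategoryTheory.Limits
open MonoidalCategory CartesianMonoidalCategory MonObj

namespace Groth.Agent.Helper5.OrbSm

theorem smoothLocus_congr {G X : Scheme.{u}} :
    ∀ (α β : G ⟶ X) (_ : α = β) [LocallyOfFinitePresentation α] [LocallyOfFinitePresentation β],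
      α.smoothLocus = β.smoothLocus := by
  rintro α _ rfl _ _
  rfl

theorem smoothLocus_comp_iso {G X : Scheme.{u}} (ψ : G ⟶ X) [LocallyOfFinitePresentation ψ]
    (t : X ⟶ X) [IsIso t] : (ψ ≫ t).smoothLocus = ψ.smoothLocus := by
  ext y
  show y ∈ (ψ ≫ t).smoothLocus ↔ y ∈ ψ.smoothLocus
  rw [Scheme.Hom.mem_smoothLocus, Scheme.Hom.mem_smoothLocus]
  refine Iff.trans ?_
    (RingHom.FormallySmooth.respectsIso.cancel_left_isIso (t.stalkMap (ψ y)) (ψ.stalkMap y))
  rw [← CommRingCat.hom_comp, ← Scheme.Hom.stalkMap_comp]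
  rfl

/-- the smooth locus is stable under a pair of compatible automorphisms -/
theorem mem_smoothLocus_of_comm {G X : Scheme.{u}} (ψ : G ⟶ X) [LocallyOfFinitePresentation ψ]
    (ℓ : G ⟶ G) [IsIso ℓ] (t : X ⟶ X) [IsIso t] (h : ℓ ≫ ψ = ψ ≫ t) (y : G)
    (hy : y ∈ ψ.smoothLocus) : ℓ y ∈ ψ.smoothLocus := by
  have h1 : ℓ ⁻¹ᵁ ψ.smoothLocus = (ℓ ≫ ψ).smoothLocus := Scheme.Hom.preimage_smoothLocus_eq ℓ ψ
  show y ∈ ℓ ⁻¹ᵁ ψ.smoothLocus
  rw [h1, smoothLocus_congr _ _ h, smoothLocus_comp_iso]
  exact hy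

section points

variable {k : Type u} [Field k] [IsAlgClosed k] (G : Over (Spec (CommRingCat.of k)))
  [LocallyOfFiniteType G.hom]

/-- over an algebraically closed field every closed point is a rational point -/
theorem exists_section_of_isClosed (g : G.left) (hg : IsClosed ({g} : Set G.left)) :
    ∃ σ : 𝟙_ (Over (Spec (CommRingCat.of k))) ⟶ G,
      ∀ pt : (𝟙_ (Over (Spec (CommRingCat.of k)))).left, σ.left pt = g := by
  let p := (pointEquivClosedPoint G.hom).symm ⟨g, hg⟩
  have hp : p.1 (IsLocalRing.closedPoint k) = g :=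
    congrArg Subtype.val ((pointEquivClosedPoint G.hom).apply_symm_apply ⟨g, hg⟩)
  refine ⟨Over.homMk p.1 p.2, fun pt => ?_⟩
  have hpt : pt = IsLocalRing.closedPoint k := Subsingleton.elim (α := PrimeSpectrum k) _ _
  rw [hpt]
  exact hp

/-- the image of a section is a closed point -/
theorem isClosed_section (σ : 𝟙_ (Over (Spec (CommRingCat.of k))) ⟶ G)
    (pt : (𝟙_ (Over (Spec (CommRingCat.of k)))).left) : IsClosed ({σ.left pt} : Set G.left) := by
  have hw : σ.left ≫ G.hom = 𝟙 _ := Over.w σ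
  have hpt : pt = IsLocalRing.closedPoint k := Subsingleton.elim (α := PrimeSpectrum k) _ _
  rw [hpt]
  exact ((pointEquivClosedPoint G.hom) ⟨σ.left, hw⟩).2

end points

end Groth.Agent.Helper5.OrbSm
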