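import Mathlib
import Groth.Prelude
import Groth.Agent.Helper5.FlatOrbit2
import Groth.Agent.Helper5.OrbSm2
import Groth.Agent.Helper2.SmoothBC

set_option autoImplicit false
set_option linter.unusedSectionVars false
set_option linter.style.haveILetI false
set_option linter.unusedVariables false
universe u

open AlgebraicGeometry CategoryTheory CategoryTheory.Limits
open MonoidalCategory CartesianMonoidalCategory MonObj

namespace Groth.Agent.Helper5.OrbRed

open Groth.Agent.Helper5.FlatOrbit Groth.Agent.Helper5.OrbSm

variable {S : Scheme.{u}} {G X : Over S} [GrpObj G] (a : AlgGrp.Action G X)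

theorem shear_fst : shear a ≫ fst G X = fst G X := by simp [shear]

/-- the smooth locus of the first projection is the preimage of the smooth locus of `X` -/
theorem smoothLocus_fst [LocallyOfFinitePresentation X.hom]
    [LocallyOfFinitePresentation (fst G X).left] (hfl : Flat X.hom ∨ Flat G.hom) :
    (fst G X).left.smoothLocus = (snd G X).left ⁻¹ᵁ X.hom.smoothLocus := by
  have hpb : IsPullback (pullback.fst G.hom X.hom) (pullback.snd G.hom X.hom) G.hom X.hom :=
    IsPullback.of_hasPullback _ _
  exact Groth.Agent.Helper2.SmoothBC.smoothLocus_baseChange X.hom G.hom (fst G X).left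
    (snd G X).left hpb.flip hfl

/-- **the smooth locus is stable under the action** -/
theorem act_mem_smoothLocus_iff [LocallyOfFinitePresentation X.hom]
    (hfl : Flat X.hom ∨ Flat G.hom) (p : (G ⊗ X).left) :
    a.act.left p ∈ X.hom.smoothLocus ↔ (snd G X).left p ∈ X.hom.smoothLocus := by
  haveI : LocallyOfFinitePresentation (fst G X).left := by
    change LocallyOfFinitePresentation (pullback.fst G.hom X.hom)
    infer_instance
  have h1 := smoothLocus_fst (G := G) (X := X) hfl
  haveI : IsIso (shear a).left := (Over.forget S).map_isIso (shear a)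
  have h2 : (shear a).left ≫ (fst G X).left = (fst G X).left := by
    rw [← Over.comp_left, shear_fst]
  have h3 : (shear a).left ⁻¹ᵁ (fst G X).left.smoothLocus = (fst G X).left.smoothLocus := by
    rw [Scheme.Hom.preimage_smoothLocus_eq]
    exact smoothLocus_congr _ _ h2
  have h4 : a.act.left p = (snd G X).left ((shear a).left p) := by
    rw [← Scheme.Hom.comp_apply, ← Over.comp_left, shear_snd]
  rw [h4]
  have e1 : (snd G X).left ((shear a).left p) ∈ X.hom.smoothLocus ↔
      (shear a).left p ∈ (fst G X).left.smoothLocus := by
    rw [h1]; rfl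
  have e2 : (snd G X).left p ∈ X.hom.smoothLocus ↔ p ∈ (fst G X).left.smoothLocus := by
    rw [h1]; rfl
  rw [e1, e2]
  conv_rhs => rw [← h3]
  rfl

end Groth.Agent.Helper5.OrbRed
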