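import Mathlib
import Groth.Prelude
import Groth.Agent.Helper5.OrbRed1
import Groth.Agent.Helper5.ProdDom
import Groth.Agent.Helper5.RedDesc
import Groth.Agent.Helper3.SepMax
import Groth.Agent.Helper3.GeomRedSm
import Groth.Agent.Helper2.SmoothRegSch

set_option autoImplicit false
set_option linter.unusedSectionVars false
set_option linter.style.haveILetI false
set_option linter.unusedVariables false
universe u

open AlgebraicGeometry CategoryTheory CategoryTheory.Limits
open MonoidalCategory CartesianMonoidalCategory MonObj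

namespace Groth.Agent.Helper5.OrbRed

open Groth.Agent.Helper5.FlatOrbit Groth.Agent.Helper5.OrbSm Groth.Agent.Helper5.GrpDense
open Groth.Agent.Helper3.SepPts

/-- a morphism from a reduced scheme whose range lies in the range of an immersion factors through
it -/
theorem exists_lift_immersion {T X Y : Scheme.{u}} [IsReduced T] (f : T ⟶ X) (j : Y ⟶ X)
    [IsImmersion j] (h : Set.range f.base ⊆ Set.range j.base) : ∃ g : T ⟶ Y, g ≫ j = f := by
  have hfU : Set.range f.base ⊆ Set.range j.coborderRange.ι.base := by
    rw [Scheme.Opens.range_ι]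
    exact h.trans subset_coborder
  let f' : T ⟶ j.coborderRange := IsOpenImmersion.lift j.coborderRange.ι f hfU
  have hf' : f' ≫ j.coborderRange.ι = f := IsOpenImmersion.lift_fac _ _ _
  have hrange : Set.range f'.base ⊆ Set.range j.liftCoborder.base := by
    rintro _ ⟨t, rfl⟩
    obtain ⟨y, hy⟩ := h ⟨t, rfl⟩
    refine ⟨y, ?_⟩
    apply j.coborderRange.ι.isOpenEmbedding.injective
    rw [← Scheme.Hom.comp_apply, ← Scheme.Hom.comp_apply, j.liftCoborder_ι, hf']
    exact hy
  obtain ⟨g, hg⟩ := lift_of_reduced j.liftCoborder f' hrange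
  refine ⟨g, ?_⟩
  rw [← j.liftCoborder_ι, ← Category.assoc, hg, hf']

section sep

variable (k : Type u) [Field k]

/-- separable points map to separable points -/
theorem map_mem_sepSet {X Y : Scheme.{u}} (f : X ⟶ Spec (CommRingCat.of k))
    (g : Y ⟶ Spec (CommRingCat.of k)) (φ : X ⟶ Y) (hφ : φ ≫ g = f) (p : X)
    (hp : p ∈ sepSet k f) : φ.base p ∈ sepSet k g := by
  obtain ⟨K, hK, hA, hG, x, hx, hxp⟩ := hp
  refine ⟨K, hK, hA, hG, x ≫ φ, ?_, ?_⟩
  · rw [Category.assoc, hφ, hx]
  · show (x ≫ φ).base (IsLocalRing.closedPoint K) = φ.base p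
    rw [← hxp]
    exact Scheme.Hom.comp_apply x φ _

/-- a reduced scheme dominated by a geometrically reduced one is geometrically reduced -/
theorem geometricallyReduced_of_denseRange {X Y : Scheme.{u}} (f : X ⟶ Spec (CommRingCat.of k))
    (g : Y ⟶ Spec (CommRingCat.of k)) [GeometricallyReduced f] [IsReduced Y] (φ : X ⟶ Y)
    (hφ : φ ≫ g = f) (hs : DenseRange φ.base) : GeometricallyReduced g := by
  have h1 : Dense (genericPoints X) := dense_iff_closure_eq.2 genericPoints.closure
  have h2 : Dense (φ.base '' genericPoints X) := hs.dense_image φ.continuous h1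
  have h3 : φ.base '' genericPoints X ⊆ sepSet k g := by
    rintro _ ⟨p, hp, rfl⟩
    exact map_mem_sepSet k f g φ hφ p (genericPoints_subset_sepSet k f hp)
  have hd : Dense ((𝟙 Y : Y ⟶ Y).base ⁻¹' sepSet k g) := h2.mono h3
  have key := Groth.Agent.Helper3.SepMax.geometricallyReduced_of_dense k g (𝟙 Y) hd
  rwa [Category.id_comp] at key

end sep

end Groth.Agent.Helper5.OrbRed
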