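import Mathlib
import Groth.Prelude
import Groth.Agent.Helper5.OrbRed2

set_option autoImplicit false
set_option linter.unusedSectionVars false
set_option linter.style.haveILetI false
set_option linter.unusedVariables false
universe u

open AlgebraicGeometry CategoryTheory CategoryTheory.Limits
open MonoidalCategory CartesianMonoidalCategory MonObj

namespace Groth.Agent.Helper5.OrbRed

open Groth.Agent.Helper5.FlatOrbit Groth.Agent.Helper5.OrbSm Groth.Agent.Helper5.GrpDense

variable {S : Scheme.{u}} {G X Y : Over S} [GrpObj G] (a : AlgGrp.Action G X)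

/-- restriction of an action to a stable subobject -/
noncomputable def restrictAction (io : Y ⟶ X) [Mono io] (α : G ⊗ Y ⟶ Y)
    (hα : α ≫ io = (G ◁ io) ≫ a.act) : AlgGrp.Action G Y where
  act := α
  one_act := by
    rw [← cancel_mono io, Category.assoc, hα, ← whisker_exchange_assoc, a.one_act]
    simp
  mul_act := by
    rw [← cancel_mono io]
    simp only [Category.assoc]
    rw [hα, ← whisker_exchange_assoc, a.mul_act, ← MonoidalCategory.whiskerLeft_comp_assoc, hα]
    simp

theorem restrictAction_act (io : Y ⟶ X) [Mono io] (α : G ⊗ Y ⟶ Y)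
    (hα : α ≫ io = (G ◁ io) ≫ a.act) : (restrictAction a io α hα).act = α := rfl

end Groth.Agent.Helper5.OrbRed

namespace Groth.Agent.Helper5.OrbRed

open Groth.Agent.Helper5.FlatOrbit Groth.Agent.Helper5.OrbSm Groth.Agent.Helper5.GrpDense

/-- **The reduced orbit of a smooth group scheme is smooth.** -/
theorem s19523 (k : Type u) [Field k]
    (G X : Over (Spec (CommRingCat.of k))) [GrpObj G] [Smooth G.hom]
    [LocallyOfFiniteType X.hom] (a : AlgGrp.Action G X)
    (x : 𝟙_ (Over (Spec (CommRingCat.of k))) ⟶ X)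
    (O : Scheme.{u}) (i : O ⟶ X.left) [IsImmersion i] [IsReduced O]
    (hO : Set.range i.base = Set.range (a.orbitMap x).left.base) : Smooth (i ≫ X.hom) := by
  let Oo : Over (Spec (CommRingCat.of k)) := Over.mk (i ≫ X.hom)
  let io : Oo ⟶ X := Over.homMk i rfl
  haveI : Mono i := inferInstance
  haveI : Mono io := Over.mono_of_mono_left _
  haveI : IsReduced Oo.left := ‹IsReduced O›
  haveI : IsReduced G.left := Groth.Agent.Helper5.RedDesc.isReduced_of_smooth G.hom
  -- the orbit map factors through `O`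
  obtain ⟨ψl, hψl⟩ := exists_lift_immersion (a.orbitMap x).left i (by rw [hO])
  let ψ : G ⟶ Oo := Over.homMk ψl (by
    show ψl ≫ i ≫ X.hom = G.hom
    rw [← Category.assoc, hψl, Over.w])
  have hψ : ψ ≫ io = a.orbitMap x := by
    ext1
    exact hψl
  have hψs : Function.Surjective ψl.base := by
    intro y
    have hy : i.base y ∈ Set.range (a.orbitMap x).left.base := hO ▸ ⟨y, rfl⟩
    obtain ⟨g, hg⟩ := hy
    refine ⟨g, ?_⟩
    apply i.isEmbedding.injective
    rw [← hg, ← hψl]
    rfl
  -- finiteness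
  haveI : LocallyOfFiniteType Oo.hom := by
    show LocallyOfFiniteType (i ≫ X.hom)
    infer_instance
  haveI : LocallyOfFinitePresentation Oo.hom := inferInstance
  -- geometric reducedness and a smooth point
  haveI : GeometricallyReduced G.hom :=
    Groth.Agent.Helper2.SmoothRegSch.geometricallyReduced_of_smooth k _ _
  haveI : GeometricallyReduced Oo.hom :=
    geometricallyReduced_of_denseRange k G.hom Oo.hom ψl (Over.w ψ) hψs.denseRange
  have hdense := Groth.Agent.Helper3.GeomRedSm.dense_smoothLocus k Oo.hom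
  have hpt : Nonempty (𝟙_ (Over (Spec (CommRingCat.of k)))).left :=
    ⟨(show Spec (CommRingCat.of k) from IsLocalRing.closedPoint k)⟩
  obtain ⟨pt⟩ := hpt
  haveI : Nonempty Oo.left := ⟨ψl.base (η[G].left pt)⟩
  obtain ⟨u, hu⟩ := hdense.nonempty
  -- the restricted action
  haveI : IsReduced (G ⊗ Oo).left := by
    haveI : Smooth (snd G Oo).left := by
      change Smooth (pullback.snd G.hom Oo.hom)
      infer_instance
    exact Groth.Agent.Helper5.RedDesc.isReduced_of_smooth (snd G Oo).left
  have hrange : Set.range ((G ◁ io) ≫ a.act).left.base ⊆ Set.range i.base := by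
    rintro _ ⟨p, rfl⟩
    have h1 : (snd G X).left ((G ◁ io).left p) ∈ Set.range (a.orbitMap x).left := by
      rw [← Scheme.Hom.comp_apply, ← Over.comp_left, whiskerLeft_snd, Over.comp_left,
        Scheme.Hom.comp_apply]
      have : i.base ((snd G Oo).left p) ∈ Set.range i.base := ⟨_, rfl⟩
      rw [hO] at this
      exact this
    have h2 : (G ◁ io).left p ∈ Set.range (G ◁ a.orbitMap x).left := by
      rw [range_whiskerLeft]
      exact h1
    obtain ⟨w, hw⟩ := h2
    rw [hO]
    refine ⟨(μ[G]).left w, ?_⟩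
    show (μ[G] ≫ a.orbitMap x).left w = ((G ◁ io) ≫ a.act).left p
    rw [← whiskerLeft_orbitMap_act, Over.comp_left, Scheme.Hom.comp_apply, hw, Over.comp_left,
      Scheme.Hom.comp_apply]
  obtain ⟨αl, hαl⟩ := exists_lift_immersion ((G ◁ io) ≫ a.act).left i hrange
  let α : G ⊗ Oo ⟶ Oo := Over.homMk αl (by
    show αl ≫ i ≫ X.hom = (G ⊗ Oo).hom
    rw [← Category.assoc, hαl, Over.w])
  have hα : α ≫ io = (G ◁ io) ≫ a.act := by
    ext1
    exact hαl
  let aO : AlgGrp.Action G Oo := restrictAction a io α hα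
  haveI : Flat G.hom := inferInstance
  -- conclusion
  show Smooth Oo.hom
  rw [← Scheme.Hom.smoothLocus_eq_top_iff, ← top_le_iff]
  rintro y -
  have hy : i.base y ∈ Set.range (a.orbitMap x).left.base := hO ▸ ⟨y, rfl⟩
  have hu' : i.base u ∈ Set.range (a.orbitMap x).left.base := hO ▸ ⟨u, rfl⟩
  obtain ⟨g₁, hg₁⟩ := hy
  obtain ⟨g₂, hg₂⟩ := hu'
  obtain ⟨z, hz1, hz2⟩ := exists_shear_point g₂ g₁
    (Subsingleton.elim (α := PrimeSpectrum k) _ _)
  let p : (G ⊗ Oo).left := (G ◁ ψ).left z
  have hp1 : (snd G Oo).left p = u := by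
    apply i.isEmbedding.injective
    show i.base ((snd G Oo).left ((G ◁ ψ).left z)) = i.base u
    rw [← hg₂, ← hz1]
    show ((G ◁ ψ) ≫ snd G Oo ≫ io).left z = ((snd G G) ≫ a.orbitMap x).left z
    rw [whiskerLeft_snd_assoc, hψ]
  have hp2 : aO.act.left p = y := by
    apply i.isEmbedding.injective
    show i.base (α.left ((G ◁ ψ).left z)) = i.base y
    rw [← hg₁, ← hz2]
    show ((G ◁ ψ) ≫ α ≫ io).left z = (μ[G] ≫ a.orbitMap x).left z
    rw [hα, ← MonoidalCategory.whiskerLeft_comp_assoc, hψ, whiskerLeft_orbitMap_act]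
  have key := (act_mem_smoothLocus_iff aO (Or.inr inferInstance) p).2 (by rw [hp1]; exact hu)
  rw [hp2] at key
  exact key

end Groth.Agent.Helper5.OrbRed
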