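import Mathlib
import Groth.Prelude
import Groth.Agent.Helper5.OrbRed3
import Groth.Agent.Helper5.GraphDom3

set_option autoImplicit false
set_option linter.unusedSectionVars false
set_option linter.style.haveILetI false
set_option linter.unusedVariables false
universe u

open AlgebraicGeometry CategoryTheory CategoryTheory.Limits
open MonoidalCategory CartesianMonoidalCategory MonObj

namespace Groth.Agent.Helper5.OpenOrb

open Groth.Agent.Helper5.FlatOrbit Groth.Agent.Helper5.GrpDense Groth.Agent.Helper5.GraphDom

variable {S : Scheme.{u}} {G X : Over S} [GrpObj G] (a : AlgGrp.Action G X)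

/-- the diagonal action on `X ⊗ X` -/
noncomputable def diagAction : AlgGrp.Action G (X ⊗ X) where
  act := lift ((G ◁ fst X X) ≫ a.act) ((G ◁ snd X X) ≫ a.act)
  one_act := by
    ext
    · rw [Category.assoc, lift_fst, ← whisker_exchange_assoc, a.one_act]
      simp
    · rw [Category.assoc, lift_snd, ← whisker_exchange_assoc, a.one_act]
      simp
  mul_act := by
    ext
    · simp only [Category.assoc, lift_fst]
      rw [← whisker_exchange_assoc, a.mul_act, ← MonoidalCategory.whiskerLeft_comp_assoc, lift_fst]
      simp
    · simp only [Category.assoc, lift_snd]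
      rw [← whisker_exchange_assoc, a.mul_act, ← MonoidalCategory.whiskerLeft_comp_assoc, lift_snd]
      simp

theorem diagAction_act_fst : (diagAction a).act ≫ fst X X = (G ◁ fst X X) ≫ a.act := by
  simp [diagAction]

theorem diagAction_act_snd : (diagAction a).act ≫ snd X X = (G ◁ snd X X) ≫ a.act := by
  simp [diagAction]

/-- the diagonal action on `T`-points -/
theorem sm_diagAction {T : Over S} (g : T ⟶ G) (x y : T ⟶ X) :
    sm (diagAction a) g (lift x y) = lift (sm a g x) (sm a g y) := by
  have h1 : lift g (lift x y) ≫ (G ◁ fst X X) = lift g x := by ext <;> simp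
  have h2 : lift g (lift x y) ≫ (G ◁ snd X X) = lift g y := by ext <;> simp
  have e1 : sm (diagAction a) g (lift x y) ≫ fst X X = sm a g x := by
    show (lift g (lift x y) ≫ (diagAction a).act) ≫ fst X X = lift g x ≫ a.act
    rw [Category.assoc, diagAction_act_fst, ← Category.assoc, h1]
  have e2 : sm (diagAction a) g (lift x y) ≫ snd X X = sm a g y := by
    show (lift g (lift x y) ≫ (diagAction a).act) ≫ snd X X = lift g y ≫ a.act
    rw [Category.assoc, diagAction_act_snd, ← Category.assoc, h2]
  ext
  · rw [e1, lift_fst]
  · rw [e2, lift_snd]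

/-- the graph morphism `(g, x) ↦ (x, g x)` over a general base -/
noncomputable abbrev graphS : G ⊗ X ⟶ X ⊗ X := lift (snd G X) a.act

theorem lift_graphS {T : Over S} (h : T ⟶ G) (x : T ⟶ X) :
    lift h x ≫ graphS a = lift x (sm a h x) := by
  ext
  · simp [graphS]
  · simp [graphS, sm]

/-- conjugation compatibility of the graph with the diagonal action, on `T`-points -/
theorem graphS_diagAction {T : Over S} (g h : T ⟶ G) (x : T ⟶ X) :
    lift g (lift h x ≫ graphS a) ≫ (diagAction a).act =
      lift (g * h * g⁻¹) (sm a g x) ≫ graphS a := by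
  rw [lift_graphS, lift_graphS]
  have h1 : lift g (lift x (sm a h x)) ≫ (diagAction a).act =
      sm (diagAction a) g (lift x (sm a h x)) := rfl
  rw [h1, sm_diagAction, ← mul_sm, ← mul_sm, inv_mul_cancel_right]

end Groth.Agent.Helper5.OpenOrb
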