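import Mathlib
import Groth.Prelude
import Groth.Agent.Helper5.OpenOrb1

set_option autoImplicit false
set_option linter.unusedSectionVars false
set_option linter.style.haveILetI false
set_option linter.unusedVariables false
universe u

open AlgebraicGeometry CategoryTheory CategoryTheory.Limits
open MonoidalCategory CartesianMonoidalCategory MonObj

namespace Groth.Agent.Helper5.OpenOrb

open Groth.Agent.Helper5.FlatOrbit Groth.Agent.Helper5.GrpDense

variable {S : Scheme.{u}}

theorem isPullback_whiskerRight {H G : Over S} (u : H ⟶ G) (Y : Over S) :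
    IsPullback (u ▷ Y).left (fst H Y).left (fst G Y).left u.left := by
  have hr : IsPullback (snd G Y).left (fst G Y).left Y.hom G.hom :=
    (IsPullback.of_hasPullback G.hom Y.hom).flip
  have hb : IsPullback (snd H Y).left (fst H Y).left Y.hom H.hom :=
    (IsPullback.of_hasPullback H.hom Y.hom).flip
  have e1 : (u ▷ Y).left ≫ (snd G Y).left = (snd H Y).left := by
    rw [← Over.comp_left, whiskerRight_snd]
  have e2 : u.left ≫ G.hom = H.hom := Over.w u
  have e3 : (u ▷ Y).left ≫ (fst G Y).left = (fst H Y).left ≫ u.left := by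
    rw [← Over.comp_left, ← Over.comp_left, whiskerRight_fst]
  refine IsPullback.of_right ?_ e3 hr
  rw [e1, e2]
  exact hb

/-- points of a whiskered product, left version -/
theorem exists_point_whiskerLeft {H G : Over S} (Y : Over S) (u : H ⟶ G) (q : (Y ⊗ G).left)
    (h : H.left) (hq : (snd Y G).left q = u.left h) :
    ∃ w : (Y ⊗ H).left, (Y ◁ u).left w = q ∧ (snd Y H).left w = h := by
  have hp := isPullback_whiskerLeft Y u
  obtain ⟨w, hw1, hw2⟩ := Scheme.Pullback.exists_preimage_pullback
    (f := (snd Y G).left) (g := u.left) q h hq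
  refine ⟨hp.isoPullback.inv w, ?_, ?_⟩
  · rw [← Scheme.Hom.comp_apply, IsPullback.isoPullback_inv_fst]
    exact hw1
  · rw [← Scheme.Hom.comp_apply, IsPullback.isoPullback_inv_snd]
    exact hw2

/-- points of a whiskered product, right version -/
theorem exists_point_whiskerRight {H G : Over S} (u : H ⟶ G) (Y : Over S) (q : (G ⊗ Y).left)
    (h : H.left) (hq : (fst G Y).left q = u.left h) :
    ∃ w : (H ⊗ Y).left, (u ▷ Y).left w = q ∧ (fst H Y).left w = h := by
  have hp := isPullback_whiskerRight u Y
  obtain ⟨w, hw1, hw2⟩ := Scheme.Pullback.exists_preimage_pullback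
    (f := (fst G Y).left) (g := u.left) q h hq
  refine ⟨hp.isoPullback.inv w, ?_, ?_⟩
  · rw [← Scheme.Hom.comp_apply, IsPullback.isoPullback_inv_fst]
    exact hw1
  · rw [← Scheme.Hom.comp_apply, IsPullback.isoPullback_inv_snd]
    exact hw2

end Groth.Agent.Helper5.OpenOrb
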