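import Mathlib
import Groth.Prelude
import Groth.Agent.Helper5.OpenOrb2

set_option autoImplicit false
set_option linter.unusedSectionVars false
set_option linter.style.haveILetI false
set_option linter.unusedVariables false
universe u

open AlgebraicGeometry CategoryTheory CategoryTheory.Limits
open MonoidalCategory CartesianMonoidalCategory MonObj

namespace Groth.Agent.Helper5.OpenOrb

open Groth.Agent.Helper5.FlatOrbit Groth.Agent.Helper5.GrpDense

variable {S : Scheme.{u}} {G X : Over S} [GrpObj G] (a : AlgGrp.Action G X)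

/-- the image of the graph is stable under the diagonal action -/
theorem diagAction_mem_range (r : (G ⊗ (X ⊗ X)).left)
    (hr : (snd G (X ⊗ X)).left r ∈ Set.range (graphS a).left) :
    (diagAction a).act.left r ∈ Set.range (graphS a).left := by
  have h1 : r ∈ Set.range (G ◁ graphS a).left := by
    rw [range_whiskerLeft]
    exact hr
  obtain ⟨s, rfl⟩ := h1
  have h2 : (G ◁ graphS a) = lift (fst G (G ⊗ X))
      (lift (snd G (G ⊗ X) ≫ fst G X) (snd G (G ⊗ X) ≫ snd G X) ≫ graphS a) := by
    have : lift (snd G (G ⊗ X) ≫ fst G X) (snd G (G ⊗ X) ≫ snd G X) = snd G (G ⊗ X) := by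
      ext <;> simp
    rw [this]
    ext <;> simp
  have h3 := graphS_diagAction a (fst G (G ⊗ X)) (snd G (G ⊗ X) ≫ fst G X)
    (snd G (G ⊗ X) ≫ snd G X)
  rw [← h2] at h3
  rw [← Scheme.Hom.comp_apply, ← Over.comp_left, h3, Over.comp_left, Scheme.Hom.comp_apply]
  exact ⟨_, rfl⟩

/-- the converse direction -/
theorem snd_mem_range_of_diagAction (r : (G ⊗ (X ⊗ X)).left)
    (hr : (diagAction a).act.left r ∈ Set.range (graphS a).left) :
    (snd G (X ⊗ X)).left r ∈ Set.range (graphS a).left := by
  set d := diagAction a with hd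
  let ρ : G ⊗ (X ⊗ X) ⟶ G ⊗ (X ⊗ X) := lift ((fst G (X ⊗ X))⁻¹) (snd G (X ⊗ X))
  have h1 : shear d ≫ ρ ≫ d.act = snd G (X ⊗ X) := by
    have e1 : ρ ≫ d.act = shearInv d ≫ snd G (X ⊗ X) := by
      simp [ρ, shearInv, sm]
    rw [e1, ← Category.assoc, shear_shearInv, Category.id_comp]
  have h2 : (snd G (X ⊗ X)).left (ρ.left ((shear d).left r)) ∈ Set.range (graphS a).left := by
    have : shear d ≫ ρ ≫ snd G (X ⊗ X) = d.act := by
      simp [ρ, shear]
    rw [← Scheme.Hom.comp_apply, ← Scheme.Hom.comp_apply, ← Over.comp_left, ← Over.comp_left,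
      this]
    exact hr
  have h3 := diagAction_mem_range a _ h2
  rw [← Scheme.Hom.comp_apply, ← Scheme.Hom.comp_apply, ← Over.comp_left, ← Over.comp_left] at h3
  have h4 : shear d ≫ ρ ≫ (diagAction a).act = snd G (X ⊗ X) := h1
  rw [h4] at h3
  exact h3

/-- the interior of the image of the graph is stable under the diagonal action -/
theorem diagAction_mem_interior_iff [UniversallyOpen G.hom] (r : (G ⊗ (X ⊗ X)).left) :
    (diagAction a).act.left r ∈ interior (Set.range (graphS a).left) ↔
      (snd G (X ⊗ X)).left r ∈ interior (Set.range (graphS a).left) := by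
  set d := diagAction a with hd
  set W : Set (X ⊗ X).left := Set.range (graphS a).left with hW
  haveI : IsIso (shear d).left := (Over.forget S).map_isIso (shear d)
  let σ : (G ⊗ (X ⊗ X)).left ≃ₜ (G ⊗ (X ⊗ X)).left := Scheme.homeoOfIso (asIso (shear d).left)
  have hσ : ∀ r, σ r = (shear d).left r := fun r => rfl
  let A : Set (G ⊗ (X ⊗ X)).left := (snd G (X ⊗ X)).left ⁻¹' W
  have hact : ∀ r, (snd G (X ⊗ X)).left (σ r) = d.act.left r := by
    intro r
    rw [hσ, ← Scheme.Hom.comp_apply, ← Over.comp_left, shear_snd]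
  have hA : σ ⁻¹' A = A := by
    ext r
    show (snd G (X ⊗ X)).left (σ r) ∈ W ↔ (snd G (X ⊗ X)).left r ∈ W
    rw [hact]
    exact ⟨snd_mem_range_of_diagAction a r, diagAction_mem_range a r⟩
  have hopen : IsOpenMap (snd G (X ⊗ X)).left := by
    haveI : UniversallyOpen (snd G (X ⊗ X)).left := by
      change UniversallyOpen (pullback.snd G.hom (X ⊗ X).hom)
      infer_instance
    exact (snd G (X ⊗ X)).left.isOpenMap
  have hint : interior A = (snd G (X ⊗ X)).left ⁻¹' interior W :=
    (hopen.preimage_interior_eq_interior_preimage (snd G (X ⊗ X)).left.continuous W).symm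
  have hσint : σ ⁻¹' interior A = interior A := by
    rw [σ.preimage_interior, hA]
  have e1 : d.act.left r ∈ interior W ↔ σ r ∈ interior A := by
    rw [hint, Set.mem_preimage, hact]
  have e2 : (snd G (X ⊗ X)).left r ∈ interior W ↔ r ∈ interior A := by
    rw [hint]; rfl
  rw [e1, e2]
  conv_rhs => rw [← hσint]
  rfl

end Groth.Agent.Helper5.OpenOrb
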