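import Mathlib
import Groth.Prelude
import Groth.Agent.Helper5.OpenOrb3
import Groth.Agent.Helper5.GraphSurj2

set_option autoImplicit false
set_option linter.unusedSectionVars false
set_option linter.style.haveILetI false
set_option linter.unusedVariables false
universe u

open AlgebraicGeometry CategoryTheory CategoryTheory.Limits
open MonoidalCategory CartesianMonoidalCategory MonObj

namespace Groth.Agent.Helper5.OpenOrb

open Groth.Agent.Helper5.FlatOrbit Groth.Agent.Helper5.GrpDense Groth.Agent.Helper5.OrbFl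

section Kpoints

variable (k K : Type u) [Field k] [Field K] [Algebra k K] [IsAlgClosed K]

/-- the closed point of `Spec K` as a point of `TK` -/
noncomputable def ptK : (TK k K).left := (show Spec (CommRingCat.of K) from IsLocalRing.closedPoint K)

theorem eq_ptK (p : (TK k K).left) : p = ptK k K :=
  Subsingleton.elim (α := PrimeSpectrum K) _ _

/-- a `K`-point whose image lies in the range of a morphism locally of finite type lifts -/
theorem exists_Kpoint_lift_of_mem (W Z : Over (Spec (CommRingCat.of k))) (Γ : W ⟶ Z)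
    [LocallyOfFiniteType Γ.left] (z : TK k K ⟶ Z)
    (hz : z.left (ptK k K) ∈ Set.range Γ.left) :
    ∃ w : TK k K ⟶ W, w ≫ Γ = z := by
  let F : Scheme.{u} := pullback Γ.left z.left
  let pF : F ⟶ Spec (CommRingCat.of K) := pullback.snd Γ.left z.left
  haveI : LocallyOfFiniteType pF := by
    show LocallyOfFiniteType (pullback.snd Γ.left z.left)
    infer_instance
  haveI : JacobsonSpace F := LocallyOfFiniteType.jacobsonSpace pF
  obtain ⟨w₀, hw₀⟩ := hz
  obtain ⟨q, hq1, hq2⟩ := Scheme.Pullback.exists_preimage_pullback (f := Γ.left) (g := z.left)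
    w₀ (ptK k K) hw₀
  obtain ⟨c, -, hc⟩ := nonempty_inter_closedPoints (Z := (Set.univ : Set F)) ⟨q, trivial⟩
    isClosed_univ.isLocallyClosed
  obtain ⟨s, hs1, hs2⟩ := exists_point_of_isClosed' K K pF c hc
  have hid : Spec.map (CommRingCat.ofHom (algebraMap K K)) = 𝟙 _ := by
    rw [Algebra.algebraMap_self]
    exact Spec.map_id _
  rw [hid] at hs1
  let w : Spec (CommRingCat.of K) ⟶ W.left := s ≫ pullback.fst Γ.left z.left
  have hw : w ≫ Γ.left = z.left := by
    show (s ≫ pullback.fst Γ.left z.left) ≫ Γ.left = z.left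
    rw [Category.assoc, pullback.condition, ← Category.assoc]
    show (s ≫ pF) ≫ z.left = z.left
    rw [hs1, Category.id_comp]
  refine ⟨Over.homMk w ?_, ?_⟩
  · show w ≫ W.hom = (TK k K).hom
    rw [← Over.w Γ, ← Category.assoc, hw, Over.w z]
  · ext1
    exact hw

/-- a closed point of `Spec K ×ₖ X` gives a `K`-point of `X` -/
theorem exists_section_of_isClosed (X : Over (Spec (CommRingCat.of k))) [LocallyOfFiniteType X.hom]
    (c : (TK k K ⊗ X).left) (hc : IsClosed ({c} : Set (TK k K ⊗ X).left)) :
    ∃ t : TK k K ⟶ TK k K ⊗ X, t ≫ fst (TK k K) X = 𝟙 _ ∧ t.left (ptK k K) = c := by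
  haveI : LocallyOfFiniteType (fst (TK k K) X).left := by
    change LocallyOfFiniteType (pullback.fst (TK k K).hom X.hom)
    infer_instance
  obtain ⟨s, hs1, hs2⟩ := exists_point_of_isClosed' K K (fst (TK k K) X).left c hc
  have hid : Spec.map (CommRingCat.ofHom (algebraMap K K)) = 𝟙 _ := by
    rw [Algebra.algebraMap_self]
    exact Spec.map_id _
  rw [hid] at hs1
  have hw : s ≫ (TK k K ⊗ X).hom = (TK k K).hom := by
    have : (TK k K ⊗ X).hom = (fst (TK k K) X).left ≫ (TK k K).hom := (Over.w (fst (TK k K) X)).symm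
    rw [this, ← Category.assoc, hs1, Category.id_comp]
  refine ⟨Over.homMk s hw, ?_, hs2⟩
  ext1
  exact hs1

end Kpoints

end Groth.Agent.Helper5.OpenOrb
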