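import Mathlib
import Groth.Prelude
import Groth.Agent.Helper5.OpenOrb4

set_option autoImplicit false
set_option linter.unusedSectionVars false
set_option linter.style.haveILetI false
set_option linter.unusedVariables false
universe u

open AlgebraicGeometry CategoryTheory CategoryTheory.Limits
open MonoidalCategory CartesianMonoidalCategory MonObj

namespace Groth.Agent.Helper5.OpenOrb

open Groth.Agent.Helper5.FlatOrbit Groth.Agent.Helper5.GrpDense Groth.Agent.Helper5.OrbFl
open Groth.Agent.Helper5.GraphSurj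

variable {k : Type u} [Field k] {G X : Over (Spec (CommRingCat.of k))} [GrpObj G]
  (a : AlgGrp.Action G X)

/-- the interior of the image of the graph -/
def V : Set (X ⊗ X).left := interior (Set.range (graphS a).left)

theorem isOpenMap_fst [UniversallyOpen X.hom] : IsOpenMap (fst X X).left := by
  haveI : UniversallyOpen (fst X X).left := by
    change UniversallyOpen (pullback.fst X.hom X.hom)
    infer_instance
  exact (fst X X).left.isOpenMap

/-- the open orbit -/
noncomputable def openOrbit [UniversallyOpen X.hom] : X.left.Opens :=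
  ⟨(fst X X).left '' V a, isOpenMap_fst _ isOpen_interior⟩

theorem mem_openOrbit [UniversallyOpen X.hom] (x : X.left) :
    x ∈ openOrbit a ↔ ∃ v ∈ V a, (fst X X).left v = x := Iff.rfl

/-- the open orbit is stable under the action -/
theorem act_mem_openOrbit [UniversallyOpen G.hom] [UniversallyOpen X.hom] (q : (G ⊗ X).left)
    (hq : (snd G X).left q ∈ openOrbit a) : a.act.left q ∈ openOrbit a := by
  obtain ⟨v, hv, hvx⟩ := hq
  obtain ⟨r, hr1, hr2⟩ := exists_point_whiskerLeft G (fst X X) q v hvx.symm
  have h1 : (diagAction a).act.left r ∈ V a := by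
    rw [V, diagAction_mem_interior_iff, hr2]
    exact hv
  refine ⟨_, h1, ?_⟩
  rw [← Scheme.Hom.comp_apply, ← Over.comp_left, diagAction_act_fst, Over.comp_left,
    Scheme.Hom.comp_apply, hr1]

section trans

variable (K : Type u) [Field K] [Algebra k K] [IsAlgClosed K]

/-- `G(K)` acts transitively on the `K`-points of the open orbit -/
theorem exists_sm_eq_of_mem_openOrbit [LocallyOfFiniteType G.hom] [LocallyOfFiniteType X.hom]
    [UniversallyOpen X.hom] [GeometricallyIrreducible X.hom] (x y : TK k K ⟶ X)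
    (hx : x.left (ptK k K) ∈ openOrbit a) (hy : y.left (ptK k K) ∈ openOrbit a) :
    ∃ g : TK k K ⟶ G, sm a g x = y := by
  haveI : LocallyOfFiniteType ((graphS a).left ≫ (X ⊗ X).hom) := by
    rw [Over.w]; infer_instance
  haveI : LocallyOfFiniteType (graphS a).left :=
    locallyOfFiniteType_of_comp (graphS a).left (X ⊗ X).hom
  haveI : IrreducibleSpace (TK k K).left :=
    inferInstanceAs (IrreducibleSpace ↥(Spec (CommRingCat.of K)))
  haveI : JacobsonSpace (TK k K).left :=
    inferInstanceAs (JacobsonSpace ↥(Spec (CommRingCat.of K)))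
  haveI : IrreducibleSpace (TK k K ⊗ X).left :=
    inferInstanceAs (IrreducibleSpace ↥(pullback (TK k K).hom X.hom))
  haveI : LocallyOfFiniteType (fst (TK k K) X).left := by
    change LocallyOfFiniteType (pullback.fst (TK k K).hom X.hom)
    infer_instance
  haveI : JacobsonSpace (TK k K ⊗ X).left :=
    LocallyOfFiniteType.jacobsonSpace (fst (TK k K) X).left
  -- the two open sets
  let Fx : Set (TK k K ⊗ X).left := (x ▷ X).left ⁻¹' V a
  let Fy : Set (TK k K ⊗ X).left := (y ▷ X).left ⁻¹' V a
  have hFxo : IsOpen Fx := isOpen_interior.preimage (x ▷ X).left.continuous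
  have hFyo : IsOpen Fy := isOpen_interior.preimage (y ▷ X).left.continuous
  have hFxn : Fx.Nonempty := by
    obtain ⟨v, hv, hvx⟩ := hx
    obtain ⟨w, hw1, -⟩ := exists_point_whiskerRight x X v (ptK k K) hvx
    exact ⟨w, by show (x ▷ X).left w ∈ V a; rw [hw1]; exact hv⟩
  have hFyn : Fy.Nonempty := by
    obtain ⟨v, hv, hvy⟩ := hy
    obtain ⟨w, hw1, -⟩ := exists_point_whiskerRight y X v (ptK k K) hvy
    exact ⟨w, by show (y ▷ X).left w ∈ V a; rw [hw1]; exact hv⟩
  have hne : (Fx ∩ Fy).Nonempty := nonempty_preirreducible_inter hFxo hFyo hFxn hFyn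
  obtain ⟨c, ⟨hcx, hcy⟩, hc⟩ := nonempty_inter_closedPoints hne (hFxo.inter hFyo).isLocallyClosed
  obtain ⟨t, ht1, ht2⟩ := exists_section_of_isClosed k K X c hc
  let z : TK k K ⟶ X := t ≫ snd (TK k K) X
  have hxz : t ≫ (x ▷ X) = lift x z := by
    ext
    · rw [Category.assoc, whiskerRight_fst, ← Category.assoc, ht1, Category.id_comp, lift_fst]
    · rw [Category.assoc, whiskerRight_snd, lift_snd]
  have hyz : t ≫ (y ▷ X) = lift y z := by
    ext
    · rw [Category.assoc, whiskerRight_fst, ← Category.assoc, ht1, Category.id_comp, lift_fst]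
    · rw [Category.assoc, whiskerRight_snd, lift_snd]
  have hmem : ∀ (x' : TK k K ⟶ X), t ≫ (x' ▷ X) = lift x' z → (x' ▷ X).left c ∈ V a →
      ∃ g : TK k K ⟶ G, sm a g x' = z := by
    intro x' hx'z hc'
    have h1 : (lift x' z).left (ptK k K) ∈ Set.range (graphS a).left := by
      rw [← hx'z, Over.comp_left, Scheme.Hom.comp_apply, ht2]
      exact interior_subset hc'
    obtain ⟨w, hw⟩ := exists_Kpoint_lift_of_mem k K (G ⊗ X) (X ⊗ X) (graphS a) (lift x' z) h1
    have e1 : w ≫ snd G X = x' := by
      have := congrArg (· ≫ fst X X) hw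
      simpa [graphS] using this
    have e2 : w ≫ a.act = z := by
      have := congrArg (· ≫ snd X X) hw
      simpa [graphS] using this
    refine ⟨w ≫ fst G X, ?_⟩
    have e3 : lift (w ≫ fst G X) x' = w := by
      rw [← e1]
      ext <;> simp
    rw [sm, e3, e2]
  obtain ⟨g₁, hg₁⟩ := hmem x hxz hcx
  obtain ⟨g₂, hg₂⟩ := hmem y hyz hcy
  refine ⟨g₂⁻¹ * g₁, ?_⟩
  rw [mul_sm, hg₁, ← hg₂, ← mul_sm, inv_mul_cancel, one_sm]

end trans

end Groth.Agent.Helper5.OpenOrb
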