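import Mathlib
import Groth.Prelude
import Groth.Agent.Helper5.OpenOrb5

set_option autoImplicit false
set_option linter.unusedSectionVars false
set_option linter.style.haveILetI false
set_option linter.unusedVariables false
universe u

open AlgebraicGeometry CategoryTheory CategoryTheory.Limits
open MonoidalCategory CartesianMonoidalCategory MonObj

namespace Groth.Agent.Helper5.OpenOrb

open Groth.Agent.Helper5.FlatOrbit Groth.Agent.Helper5.GrpDense Groth.Agent.Helper5.OrbFl
open Groth.Agent.Helper5.GraphSurj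

variable {k : Type u} [Field k] {G X : Over (Spec (CommRingCat.of k))} [GrpObj G]
  (a : AlgGrp.Action G X)

/-- an open subscheme as an object over the base -/
noncomputable abbrev Uo (U : X.left.Opens) : Over (Spec (CommRingCat.of k)) :=
  Over.mk (U.ι ≫ X.hom)

/-- the inclusion of an open subscheme -/
noncomputable abbrev jU (U : X.left.Opens) : Uo U ⟶ X := Over.homMk U.ι rfl

/-- `U` is a nonempty stable homogeneous open subscheme -/
def Good (U : X.left.Opens) : Prop :=
  (U : Set ↥X.left).Nonempty ∧ ∃ b : AlgGrp.Action G (Uo U),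
    (G ◁ jU U) ≫ a.act = b.act ≫ jU U ∧ Surjective (lift (snd G (Uo U)) b.act).left

theorem good_le [IrreducibleSpace X.left] (U U' : X.left.Opens) (hU : Good a U)
    (hU' : Good a U') : U ≤ U' := by
  obtain ⟨hne, b, hb, hs⟩ := hU
  obtain ⟨hne', b', hb', hs'⟩ := hU'
  obtain ⟨x, hxU, hxU'⟩ := nonempty_preirreducible_inter U.2 U'.2 hne hne'
  intro u hu
  obtain ⟨w, hw1, hw2⟩ := Scheme.Pullback.exists_preimage_pullback (f := (Uo U).hom)
    (g := (Uo U).hom) (⟨x, hxU⟩ : U.toScheme) (⟨u, hu⟩ : U.toScheme)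
    (Subsingleton.elim (α := PrimeSpectrum k) _ _)
  obtain ⟨p, hp⟩ := (surjective_iff _).1 hs w
  have h1 : (snd G (Uo U)).left p = (⟨x, hxU⟩ : U.toScheme) := by
    rw [← hw1, ← hp]
    show (snd G (Uo U)).left p = (lift (snd G (Uo U)) b.act ≫ fst (Uo U) (Uo U)).left p
    rw [lift_fst]
  have h2 : b.act.left p = (⟨u, hu⟩ : U.toScheme) := by
    rw [← hw2, ← hp]
    show b.act.left p = (lift (snd G (Uo U)) b.act ≫ snd (Uo U) (Uo U)).left p
    rw [lift_snd]
  let q : (G ⊗ X).left := (G ◁ jU U).left p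
  have hq1 : (snd G X).left q = x := by
    show ((G ◁ jU U) ≫ snd G X).left p = x
    rw [whiskerLeft_snd, Over.comp_left, Scheme.Hom.comp_apply, h1]
    rfl
  have hq2 : a.act.left q = u := by
    show ((G ◁ jU U) ≫ a.act).left p = u
    rw [hb, Over.comp_left, Scheme.Hom.comp_apply, h2]
    rfl
  have hq3 : q ∈ Set.range (G ◁ jU U').left := by
    rw [range_whiskerLeft]
    show (snd G X).left q ∈ Set.range (jU U').left
    rw [hq1]
    exact ⟨(⟨x, hxU'⟩ : U'.toScheme), rfl⟩
  obtain ⟨p', hp'⟩ := hq3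
  rw [← hq2, ← hp']
  show ((G ◁ jU U') ≫ a.act).left p' ∈ U'
  rw [hb', Over.comp_left, Scheme.Hom.comp_apply]
  exact (b'.act.left p').2

theorem good_unique [IrreducibleSpace X.left] (U U' : X.left.Opens) (hU : Good a U)
    (hU' : Good a U') : U = U' :=
  le_antisymm (good_le a U U' hU hU') (good_le a U' U hU' hU)

theorem dominant_of_good [IrreducibleSpace (X ⊗ X).left] (U : X.left.Opens) (hU : Good a U) :
    IsDominant (graphS a).left := by
  obtain ⟨⟨x, hx⟩, b, hb, hs⟩ := hU
  let O : Set (X ⊗ X).left := (fst X X).left ⁻¹' U ∩ (snd X X).left ⁻¹' U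
  have hO : IsOpen O :=
    (U.2.preimage (fst X X).left.continuous).inter (U.2.preimage (snd X X).left.continuous)
  have hOne : O.Nonempty := by
    obtain ⟨w, hw1, hw2⟩ := Scheme.Pullback.exists_preimage_pullback (f := X.hom) (g := X.hom)
      x x rfl
    refine ⟨w, ?_, ?_⟩
    · show (fst X X).left w ∈ U
      have : (fst X X).left w = x := hw1
      rw [this]; exact hx
    · show (snd X X).left w ∈ U
      have : (snd X X).left w = x := hw2
      rw [this]; exact hx
  have key : (G ◁ jU U) ≫ graphS a = graphS b ≫ (jU U ▷ Uo U) ≫ (X ◁ jU U) := by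
    ext
    · simp [graphS]
    · simp [graphS, hb]
  have hOsub : O ⊆ Set.range (graphS a).left := by
    rintro w ⟨hw1, hw2⟩
    obtain ⟨w₁, hw₁a, hw₁b⟩ := exists_point_whiskerLeft X (jU U) w
      (⟨_, hw2⟩ : U.toScheme) rfl
    have hf : (fst X (Uo U)).left w₁ = (jU U).left (⟨_, hw1⟩ : U.toScheme) := by
      have : (fst X (Uo U)).left w₁ = ((X ◁ jU U) ≫ fst X X).left w₁ := by
        rw [whiskerLeft_fst]
      rw [this, Over.comp_left, Scheme.Hom.comp_apply, hw₁a]
      rfl
    obtain ⟨w₂, hw₂a, -⟩ := exists_point_whiskerRight (jU U) (Uo U) w₁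
      (⟨_, hw1⟩ : U.toScheme) hf
    obtain ⟨p, hp⟩ := (surjective_iff _).1 hs w₂
    refine ⟨(G ◁ jU U).left p, ?_⟩
    rw [← Scheme.Hom.comp_apply, ← Over.comp_left, key]
    simp only [Over.comp_left, Scheme.Hom.comp_apply]
    have hp' : (graphS b).left p = w₂ := hp
    rw [hp', hw₂a, hw₁a]
  exact ⟨(hO.dense hOne).mono hOsub⟩

end Groth.Agent.Helper5.OpenOrb
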