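import Mathlib
import Groth.Prelude
import Groth.Agent.Helper5.OpenOrb6
import Groth.Agent.Helper3.TopConstr

set_option autoImplicit false
set_option linter.unusedSectionVars false
set_option linter.style.haveILetI false
set_option linter.unusedVariables false
universe u

open AlgebraicGeometry CategoryTheory CategoryTheory.Limits
open MonoidalCategory CartesianMonoidalCategory MonObj

namespace Groth.Agent.Helper5.OpenOrb

open Groth.Agent.Helper5.FlatOrbit Groth.Agent.Helper5.GrpDense Groth.Agent.Helper5.OrbFl
open Groth.Agent.Helper5.GraphSurj Groth.Agent.Helper5.OrbRed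

variable {k : Type u} [Field k] {G X : Over (Spec (CommRingCat.of k))} [GrpObj G]
  (a : AlgGrp.Action G X)

/-- the interior of the image of a dominant graph is nonempty -/
theorem V_nonempty [LocallyOfFiniteType G.hom] [QuasiCompact G.hom] [LocallyOfFiniteType X.hom]
    [QuasiCompact X.hom] (hdom : IsDominant (graphS a).left) (hne : Nonempty (X ⊗ X).left) :
    (V a).Nonempty := by
  haveI : LocallyOfFiniteType ((graphS a).left ≫ (X ⊗ X).hom) := by
    rw [Over.w]; infer_instance
  haveI : LocallyOfFiniteType (graphS a).left :=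
    locallyOfFiniteType_of_comp (graphS a).left (X ⊗ X).hom
  haveI : IsLocallyNoetherian (X ⊗ X).left :=
    LocallyOfFiniteType.isLocallyNoetherian (X ⊗ X).hom
  haveI : LocallyOfFinitePresentation (graphS a).left := inferInstance
  haveI : QuasiSeparated (X ⊗ X).hom := inferInstance
  haveI : QuasiCompact ((graphS a).left ≫ (X ⊗ X).hom) := by rw [Over.w]; infer_instance
  haveI : QuasiCompact (graphS a).left := QuasiCompact.of_comp (graphS a).left (X ⊗ X).hom
  haveI : CompactSpace (X ⊗ X).left :=
    QuasiCompact.compactSpace_of_compactSpace (X ⊗ X).hom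
  haveI : QuasiSeparatedSpace (X ⊗ X).left := inferInstance
  haveI : IsNoetherian (X ⊗ X).left := { }
  have hcons : Topology.IsConstructible (Set.range (graphS a).left) := by
    rw [← Set.image_univ]
    exact (graphS a).left.isConstructible_image Topology.IsConstructible.univ
  have hd : closure (Set.range (graphS a).left) = Set.univ := hdom.denseRange.closure_range
  haveI := hne
  have hne' : (Set.range (graphS a).left).Nonempty := by
    by_contra h
    rw [Set.not_nonempty_iff_eq_empty] at h
    rw [h, closure_empty] at hd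
    exact (Set.empty_ne_univ hd) |>.elim
  obtain ⟨W', hW'o, ⟨w, hw, hwW'⟩, hW'sub⟩ :=
    Groth.Agent.Helper3.TopConstr.exists_open_of_noetherian hcons hne'
  rw [hd, Set.univ_inter] at hW'sub
  exact ⟨w, interior_maximal hW'sub hW'o hwW'⟩

/-- **the open orbit is a stable homogeneous open subscheme** -/
theorem good_openOrbit (K : Type u) [Field K] [Algebra k K] [IsAlgClosed K]
    [LocallyOfFiniteType G.hom] [QuasiCompact G.hom] [UniversallyOpen G.hom]
    [LocallyOfFiniteType X.hom] [QuasiCompact X.hom] [UniversallyOpen X.hom]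
    [GeometricallyIrreducible X.hom]
    (hdom : IsDominant (graphS a).left) (hne : Nonempty (X ⊗ X).left) :
    Good a (openOrbit a) := by
  set U := openOrbit a with hU
  have hUne : (U : Set X.left).Nonempty := by
    obtain ⟨v, hv⟩ := V_nonempty a hdom hne
    exact ⟨(fst X X).left v, v, hv, rfl⟩
  -- the restricted action
  have hrange : Set.range ((G ◁ jU U) ≫ a.act).left.base ⊆ Set.range U.ι.base := by
    rintro _ ⟨p, rfl⟩
    rw [Scheme.Opens.range_ι]
    show a.act.left ((G ◁ jU U).left p) ∈ U
    apply act_mem_openOrbit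
    show ((G ◁ jU U) ≫ snd G X).left p ∈ U
    rw [whiskerLeft_snd, Over.comp_left, Scheme.Hom.comp_apply]
    exact ((snd G (Uo U)).left p).2
  let αl := IsOpenImmersion.lift U.ι ((G ◁ jU U) ≫ a.act).left hrange
  have hαl : αl ≫ U.ι = ((G ◁ jU U) ≫ a.act).left := IsOpenImmersion.lift_fac _ _ _
  let α : G ⊗ Uo U ⟶ Uo U := Over.homMk αl (by
    show αl ≫ U.ι ≫ X.hom = (G ⊗ Uo U).hom
    rw [← Category.assoc, hαl, Over.w])
  have hα : α ≫ jU U = (G ◁ jU U) ≫ a.act := by
    ext1
    exact hαl
  haveI : Mono (jU U).left := inferInstanceAs (Mono U.ι)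
  haveI : Mono (jU U) := Over.mono_of_mono_left _
  let b := restrictAction a (jU U) α hα
  refine ⟨hUne, b, hα.symm, ?_⟩
  -- finiteness of `U`
  haveI : IsLocallyNoetherian X.left := LocallyOfFiniteType.isLocallyNoetherian X.hom
  haveI : CompactSpace X.left := QuasiCompact.compactSpace_of_compactSpace X.hom
  haveI : IsNoetherian X.left := { }
  haveI : CompactSpace U.toScheme :=
    isCompact_iff_compactSpace.mp (TopologicalSpace.NoetherianSpace.isCompact (U : Set X.left))
  haveI : QuasiCompact (Uo U).hom := by
    show QuasiCompact (U.ι ≫ X.hom)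
    infer_instance
  haveI : LocallyOfFiniteType (Uo U).hom := by
    show LocallyOfFiniteType (U.ι ≫ X.hom)
    infer_instance
  -- transitivity on geometric points
  rw [s14645 k K G (Uo U) b]
  intro x y
  have hx : (x ≫ jU U).left (ptK k K) ∈ openOrbit a := by
    rw [Over.comp_left, Scheme.Hom.comp_apply]
    exact (x.left (ptK k K)).2
  have hy : (y ≫ jU U).left (ptK k K) ∈ openOrbit a := by
    rw [Over.comp_left, Scheme.Hom.comp_apply]
    exact (y.left (ptK k K)).2
  obtain ⟨g, hg⟩ := exists_sm_eq_of_mem_openOrbit a K (x ≫ jU U) (y ≫ jU U) hx hy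
  refine ⟨g, ?_⟩
  rw [← cancel_mono (jU U), Category.assoc]
  show lift g x ≫ α ≫ jU U = _
  rw [hα]
  have h1 : lift g x ≫ (G ◁ jU U) = lift g (x ≫ jU U) := by ext <;> simp
  rw [reassoc_of% h1]
  exact hg

end Groth.Agent.Helper5.OpenOrb
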