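import Mathlib
import Groth.Prelude
import Groth.Agent.Helper5.OpenOrb7

set_option autoImplicit false
set_option linter.unusedSectionVars false
set_option linter.style.haveILetI false
set_option linter.unusedVariables false
universe u

open AlgebraicGeometry CategoryTheory CategoryTheory.Limits
open MonoidalCategory CartesianMonoidalCategory MonObj

namespace Groth.Agent.Helper5.OpenOrb

/-- **Almost homogeneous varieties have a unique open orbit.** -/
theorem s14638 (k : Type u) [Field k] (G X : Over (Spec (CommRingCat.of k))) [GrpObj G]
    [Smooth G.hom] [QuasiCompact G.hom] [LocallyOfFiniteType X.hom] [QuasiCompact X.hom]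
    [GeometricallyIntegral X.hom] (a : AlgGrp.Action G X) :
    (IsDominant (graphS a).left ↔ ∃ U : X.left.Opens, Good a U) ∧
      ∀ U U' : X.left.Opens, Good a U → Good a U' → U = U' := by
  haveI : Subsingleton ↥(Spec (CommRingCat.of k)) :=
    inferInstanceAs (Subsingleton (PrimeSpectrum k))
  haveI : Flat X.hom := Groth.Agent.Helper4.SN.flat_of_field k X.hom
  haveI : LocallyOfFinitePresentation X.hom := inferInstance
  haveI : UniversallyOpen X.hom := inferInstance
  haveI : LocallyOfFiniteType G.hom := inferInstance
  haveI : UniversallyOpen G.hom := inferInstance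
  haveI : IsIntegral X.left := GeometricallyIntegral.isIntegral_of_subsingleton X.hom
  haveI : IrreducibleSpace (X ⊗ X).left :=
    inferInstanceAs (IrreducibleSpace ↥(pullback X.hom X.hom))
  refine ⟨⟨fun hdom => ?_, ?_⟩, fun U U' hU hU' => good_unique a U U' hU hU'⟩
  · exact ⟨openOrbit a, good_openOrbit a (AlgebraicClosure k) hdom inferInstance⟩
  · rintro ⟨U, hU⟩
    exact dominant_of_good a U hU

end Groth.Agent.Helper5.OpenOrb
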