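import Mathlib
import Groth.Prelude
import Groth.Agent.Helper5.OpenOrb8

set_option autoImplicit false
set_option linter.unusedSectionVars false
set_option linter.style.haveILetI false
set_option linter.unusedVariables false
universe u

open AlgebraicGeometry CategoryTheory CategoryTheory.Limits
open MonoidalCategory CartesianMonoidalCategory MonObj

namespace Groth.Agent.Helper5.GoodQ

open Groth.Agent.Helper5.FlatOrbit Groth.Agent.Helper5.GrpDense

variable {S : Scheme.{u}} {G X : Over S} [GrpObj G] (a : AlgGrp.Action G X)

/-- the orbit of a section is an invariant subset -/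
theorem isInvariantSet_range_orbitMap (x : 𝟙_ (Over S) ⟶ X) :
    NRQuot.IsInvariantSet a (Set.range (a.orbitMap x).left.base) := by
  intro p hp
  have h2 : p ∈ Set.range (G ◁ a.orbitMap x).left := by
    rw [range_whiskerLeft]
    exact hp
  obtain ⟨w, rfl⟩ := h2
  refine ⟨(μ[G]).left w, ?_⟩
  show (μ[G] ≫ a.orbitMap x).left w = ((G ◁ a.orbitMap x) ≫ a.act).left w
  rw [whiskerLeft_orbitMap_act]

/-- the closure of an invariant subset is invariant -/
theorem isInvariantSet_closure [UniversallyOpen G.hom] (W : Set X.left)
    (hW : NRQuot.IsInvariantSet a W) : NRQuot.IsInvariantSet a (closure W) := by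
  intro p hp
  have hopen : IsOpenMap (snd G X).left := by
    haveI : UniversallyOpen (snd G X).left := by
      change UniversallyOpen (pullback.snd G.hom X.hom)
      infer_instance
    exact (snd G X).left.isOpenMap
  have h1 : p ∈ closure ((snd G X).left ⁻¹' W) := by
    rw [← hopen.preimage_closure_eq_closure_preimage (snd G X).left.continuous]
    exact hp
  exact map_mem_closure a.act.left.continuous h1 (fun q hq => hW q hq)

/-- the orbit map followed by an invariant morphism is constant -/
theorem orbitMap_comp_of_isInvariant {Y : Over S} (φ : X ⟶ Y) (h : GIT.IsInvariant a φ)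
    (x : 𝟙_ (Over S) ⟶ X) : a.orbitMap x ≫ φ = toUnit G ≫ x ≫ φ := by
  rw [AlgGrp.Action.orbitMap, Category.assoc, h, ← Category.assoc, lift_snd, Category.assoc]

end Groth.Agent.Helper5.GoodQ
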