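import Mathlib
import Groth.Prelude
import Groth.Agent.Helper5.FlatOrbit1

set_option autoImplicit false
set_option linter.unusedSectionVars false
set_option linter.style.haveILetI false
set_option linter.unusedVariables false
universe u

open AlgebraicGeometry CategoryTheory CategoryTheory.Limits
open MonoidalCategory CartesianMonoidalCategory MonObj

namespace Groth.Agent.Helper5.OrbQ

open Groth.Agent.Helper5.FlatOrbit

variable {S : Scheme.{u}} {G X Go : Over S} [GrpObj G] (a : AlgGrp.Action G X)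

theorem whiskerLeft_mul_eq (i : Go ⟶ G) :
    (G ◁ i) ≫ μ[G] = fst G Go * (snd G Go ≫ i) := by
  rw [Hom.mul_def]
  congr 1

theorem comp_whiskerLeft_mul {T : Over S} (i : Go ⟶ G) (m : T ⟶ G ⊗ Go) :
    m ≫ (G ◁ i) ≫ μ[G] = (m ≫ fst G Go) * (m ≫ snd G Go ≫ i) := by
  rw [whiskerLeft_mul_eq, MonObj.comp_mul]

/-- `G × G_o ≅ G ×_X G` for the stabilizer `G_o` of a rational point -/
theorem isPullback_stab (o : 𝟙_ (Over S) ⟶ X) (i : Go ⟶ G)
    (hGo : IsPullback i (toUnit Go) (a.orbitMap o) o) :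
    IsPullback (fst G Go) ((G ◁ i) ≫ μ[G]) (a.orbitMap o) (a.orbitMap o) := by
  have hw : fst G Go ≫ a.orbitMap o = ((G ◁ i) ≫ μ[G]) ≫ a.orbitMap o := by
    rw [whiskerLeft_mul_eq, comp_orbitMap, comp_orbitMap, mul_sm, ← comp_orbitMap (a := a) o
      (snd G Go ≫ i), Category.assoc, hGo.w]
    congr 1
    rw [← Category.assoc]
    congr 1
    exact toUnit_unique _ _
  have hd : ∀ s : PullbackCone (a.orbitMap o) (a.orbitMap o),
      (s.fst⁻¹ * s.snd) ≫ a.orbitMap o = toUnit s.pt ≫ o := by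
    intro s
    rw [comp_orbitMap, mul_sm, ← comp_orbitMap, ← s.condition, comp_orbitMap, ← mul_sm,
      inv_mul_cancel, one_sm]
  refine IsPullback.of_isLimit' ⟨hw⟩ (PullbackCone.IsLimit.mk hw
    (fun s => lift s.fst (hGo.lift (s.fst⁻¹ * s.snd) (toUnit s.pt) (hd s))) ?_ ?_ ?_)
  · intro s
    simp
  · intro s
    rw [comp_whiskerLeft_mul, lift_fst, ← Category.assoc, lift_snd, hGo.lift_fst,
      mul_inv_cancel_left]
  · intro s m hm1 hm2
    refine CartesianMonoidalCategory.hom_ext _ _ ?_ ?_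
    · rw [lift_fst]; exact hm1
    · rw [lift_snd]
      apply hGo.hom_ext
      · rw [hGo.lift_fst]
        rw [comp_whiskerLeft_mul, hm1] at hm2
        rw [Category.assoc, ← hm2, inv_mul_cancel_left]
      · exact toUnit_unique _ _

end Groth.Agent.Helper5.OrbQ
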