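import Mathlib
import Groth.Prelude
import Groth.Agent.Helper5.OrbP2
import Groth.Agent.Helper5.RedGrp4
import Groth.Agent.Helper2.HS6

set_option autoImplicit false
set_option linter.unusedSectionVars false
set_option linter.style.haveILetI false
set_option linter.unusedVariables false
universe u

open AlgebraicGeometry CategoryTheory CategoryTheory.Limits
open MonoidalCategory CartesianMonoidalCategory MonObj

namespace Groth.Agent.Helper5.OrbP

open Groth.Agent.Helper5.FlatOrbit Groth.Agent.Helper5.GrpDense Groth.Agent.Helper5.OrbFl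
open Groth.Agent.Helper5.OrbRed Groth.Agent.Helper5.GraphSurj Groth.Agent.Helper5.OrbQ
open Groth.Agent.Helper5.RedGrp

/-- a closed subset of a scheme carries a reduced closed subscheme structure -/
theorem exists_reduced_closedImmersion (X : Scheme.{u}) (O : Set X) (hO : IsClosed O) :
    ∃ (Y : Scheme.{u}) (f : Y ⟶ X), IsClosedImmersion f ∧ IsReduced Y ∧ Set.range f.base = O := by
  let C : TopologicalSpace.Closeds X := ⟨O, hO⟩
  refine ⟨(Scheme.IdealSheafData.vanishingIdeal C).subscheme,
    (Scheme.IdealSheafData.vanishingIdeal C).subschemeι, inferInstance,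
    Groth.Agent.Helper5.CutSec.isReduced_vanishingIdeal_subscheme C, ?_⟩
  rw [Scheme.IdealSheafData.range_subschemeι, Scheme.IdealSheafData.coe_support_vanishingIdeal]
  rfl

/-- **closed orbit + proper stabilizer ⟹ proper orbit map** -/
theorem isProper_orbitMap (k : Type u) [Field k] [IsAlgClosed k]
    (G X H : Over (Spec (CommRingCat.of k))) [GrpObj G] [LocallyOfFiniteType G.hom]
    [QuasiCompact G.hom] [LocallyOfFiniteType X.hom] (a : AlgGrp.Action G X)
    (x : 𝟙_ (Over (Spec (CommRingCat.of k))) ⟶ X)
    (hcl : IsClosed (Set.range (a.orbitMap x).left.base))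
    (i : H ⟶ G) (hH : IsPullback i (toUnit H) (a.orbitMap x) x) [IsProper H.hom] :
    IsProper (a.orbitMap x).left := by
  set orb := a.orbitMap x with horbdef
  -- the reduced group
  haveI : LocallyOfFiniteType (Gr G).hom := by
    rw [← Over.w (jG G)]; infer_instance
  haveI : QuasiCompact (Gr G).hom := by
    rw [← Over.w (jG G)]; infer_instance
  let a' : AlgGrp.Action (Gr G) X := comapAction a (jG G)
  have horb' : a'.orbitMap x = jG G ≫ orb := orbitMap_comapAction a (jG G) x
  have hrange : Set.range (a'.orbitMap x).left.base = Set.range orb.left.base := by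
    rw [horb', Over.comp_left, Scheme.Hom.comp_base, TopCat.coe_comp, Set.range_comp,
      Set.range_eq_univ.2 (jG G).left.surjective, Set.image_univ]
  -- the reduced orbit
  obtain ⟨Yl, fl, hci, hred, hO⟩ := exists_reduced_closedImmersion X.left _ hcl
  let Y : Over (Spec (CommRingCat.of k)) := Over.mk (fl ≫ X.hom)
  let f : Y ⟶ X := Over.homMk fl rfl
  haveI : IsClosedImmersion f.left := hci
  haveI : IsReduced Y.left := hred
  haveI : Mono f.left := inferInstance
  haveI : Mono f := Over.mono_of_mono_left _
  haveI : IsReduced (Gr G ⊗ Y).left :=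
    isReduced_pullback (K := k) (Gr G).hom Y.hom
  obtain ⟨ψ, hψ, hfl, hsurj⟩ := orbit_core k (Gr G) X Y a' x f (hO.trans hrange.symm)
  -- the stabilizer in the reduced group
  let H' : Over (Spec (CommRingCat.of k)) := pullback (a'.orbitMap x) x
  let i' : H' ⟶ Gr G := pullback.fst (a'.orbitMap x) x
  have hH' : IsPullback i' (toUnit H') (a'.orbitMap x) x := by
    have h := IsPullback.of_hasPullback (a'.orbitMap x) x
    have e : pullback.snd (a'.orbitMap x) x = toUnit H' := toUnit_unique _ _
    rw [e] at h
    exact h
  have hH'' : IsPullback i' (toUnit H') (jG G ≫ orb) x := horb' ▸ hH'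
  have hsq := IsPullback.of_bot' hH'' hH
  set c : H' ⟶ H := hH.lift (i' ≫ jG G) (toUnit H') (by rw [Category.assoc, hH''.w]) with hc
  haveI : IsClosedImmersion c.left := by
    have hsqS : IsPullback i'.left c.left (jG G).left i.left :=
      hsq.map (Over.forget _)
    exact MorphismProperty.of_isPullback (P := @IsClosedImmersion) hsqS
      (inferInstance : IsClosedImmersion (jG G).left)
  haveI : IsProper H'.hom := by
    rw [← Over.w c]; infer_instance
  -- the kernel pair of `ψ`
  have hpb : IsPullback (fst (Gr G) H') ((Gr G ◁ i') ≫ μ[Gr G]) ψ ψ := by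
    apply isPullback_of_comp_mono _ _ ψ ψ f
    rw [hψ]
    exact isPullback_stab a' x i' hH'
  have hpbS : IsPullback (fst (Gr G) H').left ((Gr G ◁ i') ≫ μ[Gr G]).left ψ.left ψ.left :=
    hpb.map (Over.forget _)
  haveI : IsProper (fst (Gr G) H').left := by
    change IsProper (pullback.fst (Gr G).hom H'.hom)
    infer_instance
  -- descent
  haveI : LocallyOfFiniteType Y.hom := by
    rw [← Over.w f]; infer_instance
  haveI : IsLocallyNoetherian Y.left := LocallyOfFiniteType.isLocallyNoetherian Y.hom
  haveI : QuasiSeparated Y.hom := inferInstance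
  haveI : QuasiCompact (ψ.left ≫ Y.hom) := by rw [Over.w]; infer_instance
  haveI : QuasiCompact ψ.left := QuasiCompact.of_comp ψ.left Y.hom
  haveI huc : UniversallyClosed ψ.left :=
    MorphismProperty.of_isPullback_of_descendsAlong (P := @UniversallyClosed)
      (Q := @Surjective ⊓ @Flat ⊓ @QuasiCompact) hpbS ⟨⟨hsurj, hfl⟩, inferInstance⟩
      (inferInstance : UniversallyClosed (fst (Gr G) H').left)
  -- conclusion
  haveI : UniversallyClosed ((jG G).left ≫ orb.left) := by
    rw [← Over.comp_left, ← horb', ← hψ, Over.comp_left]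
    infer_instance
  haveI : UniversallyClosed orb.left := UniversallyClosed.of_comp_surjective (jG G).left orb.left
  haveI : IsSeparated G.hom := Groth.Agent.Helper2.HS6.isSeparated_grp G
  haveI : IsSeparated (orb.left ≫ X.hom) := by rw [Over.w]; infer_instance
  haveI : IsSeparated orb.left := IsSeparated.of_comp orb.left X.hom
  haveI : LocallyOfFiniteType (orb.left ≫ X.hom) := by rw [Over.w]; infer_instance
  haveI : LocallyOfFiniteType orb.left := locallyOfFiniteType_of_comp orb.left X.hom
  exact { }

end Groth.Agent.Helper5.OrbP
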