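import Mathlib
import Groth.Prelude

set_option autoImplicit false
set_option linter.unusedSectionVars false
set_option linter.style.haveILetI false
universe u

open AlgebraicGeometry CategoryTheory Limits TopologicalSpace

namespace Groth.Agent.Helper5.LocInt

/-- a reduced Noetherian ring whose localization at `p` is a domain becomes a domain after inverting
one element outside `p` -/
theorem exists_away_isDomain (A : Type u) [CommRing A] [IsNoetherianRing A] [IsReduced A]
    (p : Ideal A) [p.IsPrime] (L : Type u) [CommRing L] [Algebra A L] [IsLocalization.AtPrime L p]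
    [IsDomain L] : ∃ a : A, a ∉ p ∧ IsDomain (Localization.Away a) := by
  have hK : ∀ x : A, algebraMap A L x = 0 ↔ ∃ t : A, t ∉ p ∧ t * x = 0 := by
    intro x
    rw [IsLocalization.map_eq_zero_iff p.primeCompl]
    constructor
    · rintro ⟨⟨t, ht⟩, h⟩
      exact ⟨t, ht, h⟩
    · rintro ⟨t, ht, h⟩
      exact ⟨⟨t, ht⟩, h⟩
  have hfin : (minimalPrimes A).Finite := minimalPrimes.finite_of_isNoetherianRing A
  let Q : Set (Ideal A) := {q ∈ minimalPrimes A | ¬ q ≤ p}
  have hQfin : Q.Finite := hfin.subset (fun q hq => hq.1)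
  let F : Finset (Ideal A) := hQfin.toFinset
  have hJ : ¬ F.inf id ≤ p := by
    intro hle
    obtain ⟨q, hqF, hqp⟩ := (Ideal.IsPrime.inf_le' (inferInstance : p.IsPrime)).1 hle
    rw [Set.Finite.mem_toFinset] at hqF
    exact hqF.2 hqp
  obtain ⟨a, haJ, hap⟩ := SetLike.not_le_iff_exists.1 hJ
  have hakill : ∀ x : A, algebraMap A L x = 0 → a * x = 0 := by
    intro x hx
    obtain ⟨t, htp, htx⟩ := (hK x).1 hx
    have hmem : a * x ∈ sInf (minimalPrimes A) := by
      rw [Ideal.mem_sInf]
      intro q hq
      by_cases hqp : q ≤ p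
      · have hqprime : q.IsPrime := hq.1.1
        have h1 : t * x ∈ q := by rw [htx]; exact q.zero_mem
        rcases hqprime.mem_or_mem h1 with h2 | h2
        · exact absurd (hqp h2) htp
        · exact q.mul_mem_left _ h2
      · have hqF : q ∈ F := by
          rw [Set.Finite.mem_toFinset]
          exact ⟨hq, hqp⟩
        have h3 : F.inf id ≤ q := Finset.inf_le (f := id) hqF
        exact q.mul_mem_right _ (h3 haJ)
    have h4 : sInf (minimalPrimes A) = ⊥ := by
      show sInf (⊥ : Ideal A).minimalPrimes = ⊥
      rw [Ideal.sInf_minimalPrimes]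
      exact nilradical_eq_zero A
    rw [h4] at hmem
    exact hmem
  refine ⟨a, hap, ?_⟩
  have hu : IsUnit (algebraMap A L a) := IsLocalization.map_units L (⟨a, hap⟩ : p.primeCompl)
  let φ : Localization.Away a →+* L := IsLocalization.Away.lift a hu
  have hφ : ∀ x : A, φ (algebraMap A (Localization.Away a) x) = algebraMap A L x := fun x =>
    IsLocalization.Away.lift_eq a hu x
  have hinj : Function.Injective φ := by
    rw [injective_iff_map_eq_zero]
    intro u hu0
    obtain ⟨x, ⟨_, n, rfl⟩, rfl⟩ := IsLocalization.exists_mk'_eq (Submonoid.powers a) u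
    have h1 : φ (algebraMap A (Localization.Away a) x) = 0 := by
      have h2 := IsLocalization.mk'_spec (Localization.Away a) x
        (⟨a ^ n, n, rfl⟩ : Submonoid.powers a)
      rw [← h2, map_mul, hu0, zero_mul]
    rw [hφ] at h1
    have h3 := hakill x h1
    rw [IsLocalization.mk'_eq_zero_iff]
    exact ⟨⟨a, 1, pow_one a⟩, h3⟩
  exact Function.Injective.isDomain φ hinj

end Groth.Agent.Helper5.LocInt
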