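import Mathlib
import Groth.Agent.Helper5.LocInt1
import Groth.Prelude

set_option autoImplicit false
set_option linter.unusedSectionVars false
set_option linter.style.haveILetI false
universe u

open AlgebraicGeometry CategoryTheory Limits TopologicalSpace

namespace Groth.Agent.Helper5.LocInt

/-- in a locally Noetherian scheme whose local rings are domains every point has an integral open
neighbourhood -/
theorem exists_isIntegral_nhd (S : Scheme.{u}) [IsLocallyNoetherian S]
    (hdom : ∀ x : S, IsDomain (S.presheaf.stalk x)) (s : S) :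
    ∃ V : S.Opens, s ∈ V ∧ IsIntegral (V : Scheme.{u}) := by
  haveI : ∀ x : S, _root_.IsReduced (S.presheaf.stalk x) := fun x =>
    haveI := hdom x
    inferInstance
  haveI : IsReduced S := isReduced_of_isReduced_stalk S
  obtain ⟨W, hW, hsW, -⟩ := exists_isAffineOpen_mem_and_subset (X := S) (x := s) (U := ⊤) trivial
  haveI : IsNoetherianRing Γ(S, W) := IsLocallyNoetherian.component_noetherian ⟨W, hW⟩
  letI := S.presheaf.algebra_section_stalk ⟨s, hsW⟩
  haveI := hW.isLocalization_stalk ⟨s, hsW⟩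
  haveI := hdom s
  haveI : (hW.primeIdealOf ⟨s, hsW⟩).asIdeal.IsPrime := (hW.primeIdealOf ⟨s, hsW⟩).isPrime
  obtain ⟨a, hap, hD⟩ := exists_away_isDomain Γ(S, W) (hW.primeIdealOf ⟨s, hsW⟩).asIdeal
    (S.presheaf.stalk s)
  refine ⟨S.basicOpen a, ?_, ?_⟩
  · rw [Scheme.mem_basicOpen _ _ _ hsW]
    exact IsLocalization.map_units (S.presheaf.stalk s)
      (⟨a, hap⟩ : (hW.primeIdealOf ⟨s, hsW⟩).asIdeal.primeCompl)
  · have haff : IsAffineOpen (S.basicOpen a) := hW.basicOpen a
    haveI : IsAffine (S.basicOpen a : Scheme.{u}) := haff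
    haveI : IsLocalization.Away a Γ(S, S.basicOpen a) := hW.isLocalization_basicOpen a
    have e1 : Localization.Away a ≃+* Γ(S, S.basicOpen a) :=
      (IsLocalization.algEquiv (Submonoid.powers a) (Localization.Away a)
        Γ(S, S.basicOpen a)).toRingEquiv
    haveI : IsDomain Γ(S, S.basicOpen a) := e1.symm.toMulEquiv.isDomain
    have e2 : Γ((S.basicOpen a : Scheme.{u}), ⊤) ≃+* Γ(S, S.basicOpen a) :=
      (S.basicOpen a).topIso.commRingCatIsoToRingEquiv
    haveI : IsDomain Γ((S.basicOpen a : Scheme.{u}), ⊤) := e2.toMulEquiv.isDomain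
    haveI : Nonempty (S.basicOpen a : Scheme.{u}) := by
      refine ⟨⟨s, ?_⟩⟩
      rw [Scheme.mem_basicOpen _ _ _ hsW]
      exact IsLocalization.map_units (S.presheaf.stalk s)
        (⟨a, hap⟩ : (hW.primeIdealOf ⟨s, hsW⟩).asIdeal.primeCompl)
    exact isIntegral_of_isAffine_of_isDomain _

end Groth.Agent.Helper5.LocInt
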