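import Mathlib
import Groth.Agent.Helper5.Dvr

set_option autoImplicit false

namespace Groth.Agent.Helper5.Dvr

/-- translating finite generation of a field extension of the fraction field -/
theorem closure_eq_top_of_fg (A : Type*) [CommRing A] [IsDomain A]
    (K : Type*) [Field K] [Algebra A K] [IsFractionRing A K]
    (L : Type*) [Field L] [Algebra K L] [Algebra A L] [IsScalarTower A K L]
    (S : Finset L) (hS : IntermediateField.adjoin K (S : Set L) = ⊤) :
    Subfield.closure (Set.range (algebraMap A L) ∪ (S : Set L)) = ⊤ := by
  rw [eq_top_iff]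
  intro z _
  have hK : ∀ k : K, algebraMap K L k ∈
      Subfield.closure (Set.range (algebraMap A L) ∪ (S : Set L)) := by
    intro k
    obtain ⟨a, b, _, rfl⟩ := IsFractionRing.div_surjective (A := A) k
    rw [map_div₀, ← IsScalarTower.algebraMap_apply A K L, ← IsScalarTower.algebraMap_apply A K L]
    exact div_mem (Subfield.subset_closure (Or.inl ⟨a, rfl⟩))
      (Subfield.subset_closure (Or.inl ⟨b, rfl⟩))
  have hle : IntermediateField.adjoin K (S : Set L) ≤
      Subfield.toIntermediateField (Subfield.closure (Set.range (algebraMap A L) ∪ (S : Set L))) hK := by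
    rw [IntermediateField.adjoin_le_iff]
    intro s hs
    exact Subfield.subset_closure (Or.inr hs)
  have hz : z ∈ IntermediateField.adjoin K (S : Set L) := by rw [hS]; trivial
  exact hle hz

theorem exists_dvr_dominating (A : Type*) [CommRing A] [IsDomain A] [IsNoetherianRing A]
    [IsLocalRing A] (hA : ¬ IsField A) (K : Type*) [Field K] [Algebra A K] [IsFractionRing A K]
    (L : Type*) [Field L] [Algebra K L] [Algebra A L] [IsScalarTower A K L]
    (hfg : (⊤ : IntermediateField K L).FG) :
    ∃ R : ValuationSubring L, IsDiscreteValuationRing R ∧ (∀ a : A, algebraMap A L a ∈ R) ∧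
      ∀ a ∈ IsLocalRing.maximalIdeal A, R.valuation (algebraMap A L a) < 1 := by
  obtain ⟨S, hS⟩ := hfg
  have hinj : Function.Injective (algebraMap A L) := by
    rw [IsScalarTower.algebraMap_eq A K L]
    exact (algebraMap K L).injective.comp (IsFractionRing.injective A K)
  refine exists_dvr A L hinj S (closure_eq_top_of_fg A K L S hS) (IsLocalRing.maximalIdeal A)
    (IsLocalRing.maximalIdeal.isMaximal A).ne_top ?_
  intro h
  exact hA (IsLocalRing.isField_iff_maximalIdeal_eq.2 h)

end Groth.Agent.Helper5.Dvr
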