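import Mathlib

set_option autoImplicit false
universe u

namespace Groth.Agent.Helper5.VcCenter

open CategoryTheory CategoryTheory.Limits AlgebraicGeometry IsLocalRing

/-- valuative uniqueness for separated schemes (general valuation rings) -/
theorem eq_of_isSeparated {Z : Scheme.{u}} [Z.IsSeparated] (R : Type u) [CommRing R] [IsDomain R]
    [ValuationRing R] (K : Type u) [Field K] [Algebra R K] [IsFractionRing R K]
    (g₁ g₂ : Spec (.of R) ⟶ Z)
    (h : Spec.map (CommRingCat.ofHom (algebraMap R K)) ≫ g₁ =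
      Spec.map (CommRingCat.ofHom (algebraMap R K)) ≫ g₂) : g₁ = g₂ := by
  have hu := IsSeparated.valuativeCriterion (terminal.from Z)
  let S : ValuativeCommSq (terminal.from Z) :=
    { R := R, K := K, i₁ := Spec.map (CommRingCat.ofHom (algebraMap R K)) ≫ g₁,
      i₂ := g₁ ≫ terminal.from Z, commSq := ⟨by simp⟩ }
  have := hu S
  let l₁ : S.commSq.LiftStruct := ⟨g₁, rfl, rfl⟩
  let l₂ : S.commSq.LiftStruct := ⟨g₂, h.symm, Subsingleton.elim _ _⟩
  exact congrArg CommSq.LiftStruct.l (Subsingleton.elim l₁ l₂)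

/-- `R` dominates the local ring of `Z` at `z` through the ring map `α`. -/
def Dom {Z : Scheme.{u}} {K : Type u} [Field K] (R : ValuationSubring K) (z : Z)
    (α : Z.presheaf.stalk z →+* K) : Prop :=
  (∀ a, α a ∈ R) ∧ ∀ a ∈ maximalIdeal (Z.presheaf.stalk z), R.valuation (α a) < 1

section Dom

variable {Z : Scheme.{u}} {K : Type u} [Field K] {R : ValuationSubring K}

theorem Dom.isLocalHom {z : Z} {α : Z.presheaf.stalk z →+* K} (h : Dom R z α) :
    IsLocalHom (α.codRestrict R.toSubring h.1) := by
  constructor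
  intro a ha
  by_contra hna
  have h2 := h.2 a ((mem_maximalIdeal a).2 hna)
  have h3 := (ValuationSubring.valuation_eq_one_iff R _).1 ha
  rw [RingHom.codRestrict_apply] at h3
  exact absurd h3 h2.ne

/-- the morphism `Spec R ⟶ Z` associated with a domination -/
noncomputable def Dom.hom {z : Z} {α : Z.presheaf.stalk z →+* K} (h : Dom R z α) :
    Spec (CommRingCat.of R) ⟶ Z :=
  Spec.map (CommRingCat.ofHom (α.codRestrict R.toSubring h.1)) ≫ Z.fromSpecStalk z

theorem Dom.hom_closedPoint {z : Z} {α : Z.presheaf.stalk z →+* K} (h : Dom R z α) :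
    h.hom (closedPoint R) = z := by
  haveI := h.isLocalHom
  rw [Dom.hom, Scheme.Hom.comp_apply]
  have : Spec.map (CommRingCat.ofHom (α.codRestrict R.toSubring h.1)) (closedPoint R) =
      closedPoint (Z.presheaf.stalk z) :=
    comap_closedPoint (S := R) (α.codRestrict R.toSubring h.1)
  rw [this, Z.fromSpecStalk_closedPoint]

theorem Dom.generic_hom {z : Z} {α : Z.presheaf.stalk z →+* K} (h : Dom R z α) :
    Spec.map (CommRingCat.ofHom (algebraMap R K)) ≫ h.hom =
      Spec.map (CommRingCat.ofHom α) ≫ Z.fromSpecStalk z := by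
  rw [Dom.hom, ← Spec.map_comp_assoc]
  rfl

/-- **Uniqueness of the centre** on a separated scheme. -/
theorem Dom.unique [Z.IsSeparated] {z₁ z₂ : Z} {α₁ : Z.presheaf.stalk z₁ →+* K}
    {α₂ : Z.presheaf.stalk z₂ →+* K} (h₁ : Dom R z₁ α₁) (h₂ : Dom R z₂ α₂)
    (heq : Spec.map (CommRingCat.ofHom α₁) ≫ Z.fromSpecStalk z₁ =
      Spec.map (CommRingCat.ofHom α₂) ≫ Z.fromSpecStalk z₂) : z₁ = z₂ := by
  have := eq_of_isSeparated (Z := Z) R K h₁.hom h₂.hom (by
    rw [h₁.generic_hom, h₂.generic_hom, heq])
  rw [← h₁.hom_closedPoint, ← h₂.hom_closedPoint, this]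

end Dom

/-- If a valuation subring of the function field contains the sections over an affine open `U`,
it has a centre in `U`. -/
theorem exists_center_of_affine {X : Scheme.{u}} [IsIntegral X] {U : X.Opens} (hU : IsAffineOpen U)
    [Nonempty U] (V : ValuationSubring X.functionField)
    (hV : ∀ c : Γ(X, U), X.germToFunctionField U c ∈ V) :
    ∃ x ∈ U, Dom V x (algebraMap (X.presheaf.stalk x) X.functionField) := by
  let g : Γ(X, U) →+* V := (X.germToFunctionField U).hom.codRestrict V.toSubring hV
  let y : PrimeSpectrum Γ(X, U) := ⟨(maximalIdeal V).comap g, inferInstance⟩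
  have hyU : hU.fromSpec y ∈ U := by
    have : hU.fromSpec y ∈ Set.range hU.fromSpec := Set.mem_range_self y
    rw [hU.range_fromSpec] at this
    exact this
  refine ⟨hU.fromSpec y, hyU, ?_⟩
  letI : Algebra Γ(X, U) (X.presheaf.stalk (hU.fromSpec y)) :=
    TopCat.Presheaf.algebra_section_stalk X.presheaf ⟨_, hyU⟩
  haveI hloc : IsLocalization.AtPrime (X.presheaf.stalk (hU.fromSpec y)) y.asIdeal :=
    hU.isLocalization_stalk' y hyU
  have halg : ∀ c : Γ(X, U), algebraMap (X.presheaf.stalk (hU.fromSpec y)) X.functionField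
      (algebraMap Γ(X, U) (X.presheaf.stalk (hU.fromSpec y)) c) = X.germToFunctionField U c := by
    intro c
    exact Scheme.algebraMap_germ_eq_germToFunctionField X hyU c
  have hs : ∀ s : y.asIdeal.primeCompl, V.valuation (X.germToFunctionField U s.1) = 1 := by
    intro s
    have h1 : g s.1 ∉ maximalIdeal V := s.2
    have h2 : IsUnit (g s.1) := by
      by_contra hnu; exact h1 ((mem_maximalIdeal _).2 hnu)
    exact (V.valuation_eq_one_iff _).1 h2
  have key : ∀ a : X.presheaf.stalk (hU.fromSpec y), ∃ (c : Γ(X, U)) (s : y.asIdeal.primeCompl),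
      a * algebraMap _ _ s.1 = algebraMap _ _ c ∧
      V.valuation (algebraMap (X.presheaf.stalk (hU.fromSpec y)) X.functionField a) =
        V.valuation (X.germToFunctionField U c) := by
    intro a
    obtain ⟨⟨c, s⟩, hcs⟩ := IsLocalization.surj y.asIdeal.primeCompl a
    refine ⟨c, s, hcs, ?_⟩
    have h1 := congrArg (algebraMap (X.presheaf.stalk (hU.fromSpec y)) X.functionField) hcs
    rw [map_mul, halg, halg] at h1
    have h2 := congrArg V.valuation h1
    rw [map_mul, hs s, mul_one] at h2
    exact h2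
  constructor
  · intro a
    obtain ⟨c, s, -, h2⟩ := key a
    rw [← V.valuation_le_one_iff, h2, V.valuation_le_one_iff]
    exact hV c
  · intro a ha
    obtain ⟨c, s, h1, h2⟩ := key a
    rw [h2]
    have hc : algebraMap Γ(X, U) (X.presheaf.stalk (hU.fromSpec y)) c ∈
        maximalIdeal (X.presheaf.stalk (hU.fromSpec y)) := by
      rw [← h1]
      exact Ideal.mul_mem_right _ _ ha
    have hc' : c ∈ y.asIdeal :=
      (IsLocalization.AtPrime.to_map_mem_maximal_iff (X.presheaf.stalk (hU.fromSpec y)) y.asIdeal c).1 hc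
    have : g c ∈ maximalIdeal V := hc'
    exact (V.valuation_lt_one_iff _).1 this

end Groth.Agent.Helper5.VcCenter
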