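import Mathlib
import Groth.Prelude

set_option autoImplicit false
set_option linter.unusedSectionVars false
set_option linter.style.haveILetI false
universe u

open AlgebraicGeometry CategoryTheory Limits TopologicalSpace

namespace Groth.Agent.Helper5.SchDom

/-- a closed immersion with trivial kernel is an isomorphism -/
theorem isIso_of_isClosedImmersion_of_ker_eq_bot {X Y : Scheme.{u}} (z : X ⟶ Y)
    [IsClosedImmersion z] (h : z.ker = ⊥) : IsIso z := by
  have h1 : z = z.toImage ≫ z.imageι := z.toImage_imageι.symm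
  haveI : IsIso z.imageι := by
    show IsIso z.ker.subschemeι
    rw [Scheme.isIso_subschemeι_iff_eq_bot]
    exact h
  rw [h1]
  infer_instance

/-- Suppose `f g : X ⟶ Y` agree over some separated `Y ⟶ Z`. Then `f = g` if `ι ≫ f = ι ≫ g` for
some scheme-theoretically dominant `ι`. -/
theorem ext_of_isSchemeTheoreticallyDominant_of_isSeparated {W X Y Z : Scheme.{u}} {f g : X ⟶ Y}
    (s : Y ⟶ Z) [IsSeparated s] (h : f ≫ s = g ≫ s)
    (ι : W ⟶ X) [IsSchemeTheoreticallyDominant ι] (hU : ι ≫ f = ι ≫ g) : f = g := by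
  let X' : Over Z := Over.mk (f ≫ s)
  let Y' : Over Z := Over.mk s
  let U' : Over Z := Over.mk (ι ≫ f ≫ s)
  let f' : X' ⟶ Y' := Over.homMk f
  let g' : X' ⟶ Y' := Over.homMk g
  let ι' : U' ⟶ X' := Over.homMk ι
  have : IsSeparated Y'.hom := ‹_›
  have hlift : ι' ≫ f' = ι' ≫ g' := by ext1; exact hU
  have hfac : (equalizer.lift ι' hlift).left ≫ (equalizer.ι f' g').left = ι := by
    rw [← Over.comp_left, equalizer.lift_ι]
    rfl
  have hker : (equalizer.ι f' g').left.ker = ⊥ := by
    have h1 := Scheme.Hom.le_ker_comp (equalizer.lift ι' hlift).left (equalizer.ι f' g').left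
    rw [hfac, ι.ker_eq_bot] at h1
    exact le_bot_iff.1 h1
  have := isIso_of_isClosedImmersion_of_ker_eq_bot (equalizer.ι f' g').left hker
  rw [← cancel_epi (equalizer.ι f' g').left]
  exact congr($(equalizer.condition f' g').left)

/-- the morphism to the scheme-theoretic image is scheme-theoretically dominant -/
theorem isSchemeTheoreticallyDominant_toImage {X Y : Scheme.{u}} (f : X ⟶ Y) [QuasiCompact f] :
    IsSchemeTheoreticallyDominant f.toImage := by
  rw [isSchemeTheoreticallyDominant_iff]
  let U : Y.affineOpens → f.image.affineOpens := fun V =>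
    ⟨f.imageι ⁻¹ᵁ V.1, V.2.preimage f.imageι⟩
  refine Scheme.IdealSheafData.ext_of_iSup_eq_top U ?_ ?_
  · rw [eq_top_iff]
    rintro x -
    obtain ⟨V, hV, hxV, -⟩ := exists_isAffineOpen_mem_and_subset (X := Y) (x := f.imageι x)
      (U := ⊤) trivial
    exact Opens.mem_iSup.2 ⟨⟨V, hV⟩, hxV⟩
  · intro V
    rw [Scheme.Hom.ker_apply]
    simp only [Scheme.IdealSheafData.ideal_bot, Pi.bot_apply]
    exact (RingHom.injective_iff_ker_eq_bot _).1 (f.toImage_app_injective V)

end Groth.Agent.Helper5.SchDom
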