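import Groth.Agent.Helper5.ChevK2
import Groth.Agent.Helper5.PtOpen8
import Mathlib

/-!
# EGA IV 14.4.? : over a geometrically unibranch locally noetherian base, open = universally open
(S2556)
-/

set_option autoImplicit false
set_option linter.style.haveILetI false
universe u
open CategoryTheory CategoryTheory.Limits AlgebraicGeometry TopologicalSpace

namespace Groth.Agent.Helper5.Chev

/-- a map which is open at every point is open -/
theorem isOpenMap_of_forall_isOpenAt {α β : Type*} [TopologicalSpace α] [TopologicalSpace β]
    (f : α → β) (h : ∀ x, EGA43.IsOpenAt f x) : IsOpenMap f := by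
  intro U hU
  rw [isOpen_iff_mem_nhds]
  rintro _ ⟨x, hx, rfl⟩
  exact h x U (hU.mem_nhds hx)

theorem isOpenAt_of_isOpenMap {α β : Type*} [TopologicalSpace α] [TopologicalSpace β]
    (f : α → β) (h : IsOpenMap f) (x : α) : EGA43.IsOpenAt f x :=
  fun U hU => h.image_mem_nhds hU

/-- a morphism universally open at every point is universally open -/
theorem universallyOpen_of_forall_isUnivOpenAt {X Y : Scheme.{u}} (f : X ⟶ Y)
    (h : ∀ x : X, EGA43.IsUnivOpenAt f x) : UniversallyOpen f := by
  rw [UniversallyOpen.eq]
  refine MorphismProperty.universally_mk' _ _ fun {T} g _ => ?_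
  apply isOpenMap_of_forall_isOpenAt
  intro z
  exact Groth.Agent.Helper5.PtOpen.isOpenAt_of_isUnivOpenAt_of_isPullback
    (IsPullback.of_hasPullback g f).flip z (h _)

/-- **S2556** -/
theorem s2556 {X Y : Scheme.{u}} [IsLocallyNoetherian Y]
    (hY : ∀ y : Y, CAlg2.IsGeomUnibranch (Y.presheaf.stalk y)) (f : X ⟶ Y) [LocallyOfFiniteType f] :
    UniversallyOpen f ↔ IsOpenMap f.base := by
  constructor
  · intro h
    exact f.isOpenMap
  · intro h
    apply universallyOpen_of_forall_isUnivOpenAt
    intro x
    have := ((s4938 f (f.base x) (hY _)).out 3 0).mp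
      (fun x' _ => isOpenAt_of_isOpenMap f.base h x')
    exact this x rfl

end Groth.Agent.Helper5.Chev
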