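import Mathlib
import Groth.Prelude
import Groth.Agent.Helper5.GrpdDim1

set_option autoImplicit false
set_option linter.unusedSectionVars false
set_option linter.style.haveILetI false
universe u

open AlgebraicGeometry CategoryTheory CategoryTheory.Limits TopologicalSpace

namespace Groth.Agent.Helper5.GrpdDim

variable {S : Scheme.{u}} (G : Grpd.GroupoidScheme S) (k : Type u) [Field k]
  (eU : G.U ≅ Spec (CommRingCat.of k)) [LocallyOfFiniteType G.s] [LocallyOfFiniteType G.t]

include eU in
theorem s1887 (r : G.R) (hr : IsClosed ({r} : Set G.R)) :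
    (ringKrullDim (G.R.presheaf.stalk r) : WithBot ℕ∞) = topologicalKrullDim G.R := by
  haveI : LocallyOfFiniteType (G.s ≫ eU.hom) := inferInstance
  obtain ⟨n, -, h2, h3⟩ := Groth.Agent.Helper5.VarDim.localDim_formula k (G.s ≫ eU.hom) r
  rw [← (s7518 G k eU).2 r, h2, h3 hr]
  simp

end Groth.Agent.Helper5.GrpdDim
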