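import Mathlib
import Groth.Agent.Helper5.RelDepth4
import Groth.Agent.Helper5.BCMin13

set_option autoImplicit false
set_option linter.style.haveILetI false
set_option linter.unusedSectionVars false
universe u
open CategoryTheory CategoryTheory.Limits AlgebraicGeometry TopologicalSpace Topology TensorProduct
open IsLocalRing

namespace Groth.Agent.Helper5.RelDepth

theorem dim_le_of_flat_local {R S : Type*} [CommRing R] [CommRing S] [IsLocalRing R]
    [IsLocalRing S] [IsNoetherianRing R] [IsNoetherianRing S] [Algebra R S]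
    [IsLocalHom (algebraMap R S)] [Module.Flat R S] : ringKrullDim R ≤ ringKrullDim S := by
  have h := Groth.Agent.Helper5.BCDim.ringKrullDim_quot_add (R := R) (S := S)
  rw [← h]
  haveI : Nontrivial (S ⧸ (IsLocalRing.maximalIdeal R).map (algebraMap R S)) :=
    Ideal.Quotient.nontrivial_iff.2 (fun h =>
      (IsLocalRing.maximalIdeal.isMaximal S).ne_top (top_le_iff.1
        (h ▸ IsLocalRing.map_maximalIdeal_le (algebraMap R S))))
  have h0 : (0 : WithBot ℕ∞) ≤ ringKrullDim (S ⧸ (IsLocalRing.maximalIdeal R).map (algebraMap R S)) :=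
    ringKrullDim_nonneg_of_nontrivial
  calc ringKrullDim R = 0 + ringKrullDim R := (zero_add _).symm
    _ ≤ _ := add_le_add_left h0 _

theorem dim_eq_of_flat_local {R S : Type*} [CommRing R] [CommRing S] [IsLocalRing R]
    [IsLocalRing S] [IsNoetherianRing R] [IsNoetherianRing S] [Algebra R S]
    [IsLocalHom (algebraMap R S)] [Module.Flat R S]
    (h0 : ringKrullDim (S ⧸ (IsLocalRing.maximalIdeal R).map (algebraMap R S)) = 0) :
    ringKrullDim S = ringKrullDim R := by
  have h := Groth.Agent.Helper5.BCDim.ringKrullDim_quot_add (R := R) (S := S)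
  rw [h0, zero_add] at h
  exact h.symm

section Sch

variable {X S : Scheme.{u}} (f : X ⟶ S)

/-- the local rings of a fibre scheme have the dimension of `fiberStalk` -/
theorem dim_stalk_fibre_eq (s : S) (z : ↥(f.fiber s)) (x : X) (hx : f.fiberι s z = x) :
    ringKrullDim ((f.fiber s).presheaf.stalk z) = ringKrullDim ↑(CInt.fiberStalk f x) := by
  obtain ⟨e1⟩ := Groth.Agent.Helper5.CMFib.fibre_stalk_equiv f s z x hx
  obtain ⟨e2⟩ := Groth.Agent.Helper5.CMFib.fibre_stalk_equiv' f x
  rw [← ringKrullDim_eq_of_ringEquiv e1, ← ringKrullDim_eq_of_ringEquiv e2]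

theorem noeth_stalk_fibre [IsLocallyNoetherian X] (s : S) (z : ↥(f.fiber s)) :
    IsNoetherianRing ((f.fiber s).presheaf.stalk z) := by
  obtain ⟨e1⟩ := Groth.Agent.Helper5.CMFib.fibre_stalk_equiv f s z _ rfl
  exact isNoetherianRing_of_ringEquiv _ e1

end Sch

section Flat

variable {P F : Scheme.{u}} (π : P ⟶ F)

theorem dim_stalk_le_of_flat [Flat π] (w : P) [IsNoetherianRing (P.presheaf.stalk w)]
    [IsNoetherianRing (F.presheaf.stalk (π w))] :
    ringKrullDim (F.presheaf.stalk (π w)) ≤ ringKrullDim (P.presheaf.stalk w) := by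
  letI : Algebra (F.presheaf.stalk (π w)) (P.presheaf.stalk w) := (π.stalkMap w).hom.toAlgebra
  haveI : IsLocalHom (algebraMap (F.presheaf.stalk (π w)) (P.presheaf.stalk w)) :=
    inferInstanceAs (IsLocalHom (π.stalkMap w).hom)
  haveI : Module.Flat (F.presheaf.stalk (π w)) (P.presheaf.stalk w) := Flat.stalkMap π w
  exact dim_le_of_flat_local

theorem dim_stalk_eq_of_flat [Flat π] (w : P) [IsNoetherianRing (P.presheaf.stalk w)]
    [IsNoetherianRing (F.presheaf.stalk (π w))]
    (h0 : ringKrullDim (P.presheaf.stalk w ⧸ Ideal.map (π.stalkMap w).hom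
      (IsLocalRing.maximalIdeal (F.presheaf.stalk (π w)))) = 0) :
    ringKrullDim (P.presheaf.stalk w) = ringKrullDim (F.presheaf.stalk (π w)) := by
  letI : Algebra (F.presheaf.stalk (π w)) (P.presheaf.stalk w) := (π.stalkMap w).hom.toAlgebra
  haveI : IsLocalHom (algebraMap (F.presheaf.stalk (π w)) (P.presheaf.stalk w)) :=
    inferInstanceAs (IsLocalHom (π.stalkMap w).hom)
  haveI : Module.Flat (F.presheaf.stalk (π w)) (P.presheaf.stalk w) := Flat.stalkMap π w
  exact dim_eq_of_flat_local h0

/-- a generic point of the fibre through a given point (finite-dimensional stalk version) -/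
theorem exists_generic_in_fibre' (x₀ : P) (hfin0 : ringKrullDim (P.presheaf.stalk x₀) < ⊤) :
    ∃ x : P, π x = π x₀ ∧
      ringKrullDim (P.presheaf.stalk x ⧸ Ideal.map (π.stalkMap x).hom
        (IsLocalRing.maximalIdeal (F.presheaf.stalk (π x)))) = 0 := by
  set G := π.fiber (π x₀) with hG
  set z₀ : ↥G := π.asFiber x₀ with hz₀
  have hfin : Order.coheight z₀ < ⊤ := by
    have h3 := Groth.Agent.Helper5.DimIneq.coheight_le_of_isEmbedding (π.fiberι (π x₀))
      (π.fiberι (π x₀)).isEmbedding z₀
    rw [hz₀, AlgebraicGeometry.Scheme.Hom.fiberι_asFiber] at h3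
    refine lt_of_le_of_lt h3 ?_
    have h2 := AlgebraicGeometry.ringKrullDim_stalk_eq_coheight (X := P) x₀
    have h4 := hfin0
    rw [h2, ← WithBot.coe_top, WithBot.coe_lt_coe] at h4
    exact h4
  obtain ⟨n, hn⟩ := ENat.ne_top_iff_exists.mp hfin.ne
  obtain ⟨p, hp1, hp2⟩ := Order.exists_series_of_coheight_eq_coe z₀ hn.symm
  have hlen : (p.length : ℕ∞) = Order.coheight p.head := by rw [hp1, hp2, hn]
  have hlast := Order.coheight_eq_index_of_length_eq_head_coheight hlen (Fin.last _)
  simp only [Fin.rev_last, Fin.val_zero, Nat.cast_zero] at hlast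
  set z : ↥G := p (Fin.last _) with hz
  refine ⟨π.fiberι (π x₀) z, ?_, ?_⟩
  · have : π.fiberι (π x₀) z ∈ π ⁻¹' {π x₀} := by
      rw [← π.range_fiberι (π x₀)]; exact ⟨z, rfl⟩
    exact this
  · obtain ⟨e⟩ := Groth.Agent.Helper5.CMFib.fibre_stalk_equiv π (π x₀) z _ rfl
    rw [ringKrullDim_eq_of_ringEquiv e, AlgebraicGeometry.ringKrullDim_stalk_eq_coheight]
    exact_mod_cast hlast

end Flat

end Groth.Agent.Helper5.RelDepth
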