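import Mathlib
import Groth.Agent.Helper4.GeomRed2

set_option autoImplicit false
universe u
open TensorProduct

namespace Groth.Agent.Helper5.HopfNil

instance instIsPrimeMinimalPrimes (B : Type u) [CommRing B] (𝔭 : minimalPrimes B) : 𝔭.1.IsPrime :=
  𝔭.2.1.1

/-- residue field at a minimal prime -/
abbrev KK (B : Type u) [CommRing B] (𝔭 : minimalPrimes B) : Type u := FractionRing (B ⧸ 𝔭.1)

theorem isReduced_tensor_of_noeth {k : Type u} [Field k] [PerfectField k]
    (C B : Type u) [CommRing C] [CommRing B] [Algebra k C] [Algebra k B] [IsReduced C]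
    [IsReduced B] [IsNoetherianRing B] : IsReduced (C ⊗[k] B) := by
  classical
  have hfin : (minimalPrimes B).Finite := minimalPrimes.finite_of_isNoetherianRing B
  haveI : Fintype (minimalPrimes B) := hfin.fintype
  let φ : B →ₐ[k] ∀ 𝔭 : minimalPrimes B, KK B 𝔭 :=
    AlgHom.pi fun 𝔭 => (IsScalarTower.toAlgHom k (B ⧸ 𝔭.1) (KK B 𝔭)).comp
      (Ideal.Quotient.mkₐ k 𝔭.1)
  have hφ : Function.Injective φ := by
    rw [injective_iff_map_eq_zero]
    intro x hx
    have hmem : x ∈ sInf (minimalPrimes B) := by
      rw [Ideal.mem_sInf]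
      intro 𝔭 h𝔭
      have h1 := congrFun hx ⟨𝔭, h𝔭⟩
      have h2 : algebraMap (B ⧸ 𝔭) (FractionRing (B ⧸ 𝔭)) (Ideal.Quotient.mk 𝔭 x) = 0 := h1
      haveI : 𝔭.IsPrime := h𝔭.1.1
      rw [map_eq_zero_iff _ (IsFractionRing.injective (B ⧸ 𝔭) (FractionRing (B ⧸ 𝔭))),
        Ideal.Quotient.eq_zero_iff_mem] at h2
      exact h2
    have : sInf (minimalPrimes B) = ⊥ := by
      unfold minimalPrimes
      rw [Ideal.sInf_minimalPrimes, Ideal.radical_bot_of_isReduced]  
    rw [this] at hmem
    exact hmem
  let g : C ⊗[k] B →ₐ[k] ∀ 𝔭 : minimalPrimes B, C ⊗[k] KK B 𝔭 :=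
    (Algebra.TensorProduct.piRight k k C (KK B)).toAlgHom.comp
      (Algebra.TensorProduct.map (AlgHom.id k C) φ)
  have hg : Function.Injective g := by
    refine (Algebra.TensorProduct.piRight k k C (KK B)).injective.comp ?_
    exact Module.Flat.lTensor_preserves_injective_linearMap (M := C) φ.toLinearMap hφ
  haveI : ∀ 𝔭 : minimalPrimes B, IsReduced (C ⊗[k] KK B 𝔭) := fun 𝔭 =>
    Helper4.GeomRed.isReduced_tensor_of_perfectField (KK B 𝔭) C
  exact isReduced_of_injective g.toRingHom hg

/-- over a perfect field, the tensor product of two reduced algebras is reduced -/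
theorem isReduced_tensor_of_perfectField {k : Type u} [Field k] [PerfectField k]
    (C D : Type u) [CommRing C] [CommRing D] [Algebra k C] [Algebra k D] [IsReduced C]
    [IsReduced D] : IsReduced (C ⊗[k] D) := by
  apply IsReduced.tensorProduct_of_flat_of_forall_fg
  intro B hB
  have hft : Algebra.FiniteType k B := (Subalgebra.fg_iff_finiteType B).mp hB
  have hnoeth : IsNoetherianRing B := Algebra.FiniteType.isNoetherianRing k B
  have hred : IsReduced B := isReduced_of_injective B.val Subtype.val_injective
  exact isReduced_tensor_of_noeth C B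

theorem s11926 (k : Type u) [Field k] [PerfectField k] (A : Type u) [CommRing A]
    [HopfAlgebra k A] : (nilradical A).IsHopfIdeal k := by
  haveI hredq : IsReduced (A ⧸ nilradical A) :=
    (Ideal.isRadical_iff_quotient_reduced (nilradical A)).1 (Ideal.radical_isRadical _)
  haveI : IsReduced ((A ⧸ nilradical A) ⊗[k] (A ⧸ nilradical A)) :=
    isReduced_tensor_of_perfectField _ _
  haveI : ((nilradical A).restrictScalars k).IsCoideal := by
    refine Submodule.IsCoideal.mk ?_ ?_
    · intro x hx
      have hx' : IsNilpotent x := hx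
      have : IsNilpotent (Bialgebra.counitAlgHom k A x) := hx'.map _
      exact this.eq_zero
    · intro x hx
      have hx' : IsNilpotent x := hx
      have hmk : (Submodule.restrictScalars k (nilradical A)).mkQ =
          (Ideal.Quotient.mkₐ k (nilradical A)).toLinearMap := rfl
      rw [hmk]
      change Algebra.TensorProduct.map (Ideal.Quotient.mkₐ k (nilradical A))
          (Ideal.Quotient.mkₐ k (nilradical A)) (Bialgebra.comulAlgHom k A x) = 0
      have : IsNilpotent (Algebra.TensorProduct.map (Ideal.Quotient.mkₐ k (nilradical A))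
          (Ideal.Quotient.mkₐ k (nilradical A)) (Bialgebra.comulAlgHom k A x)) :=
        (hx'.map _).map _
      exact this.eq_zero
  refine Ideal.IsHopfIdeal.mk ?_
  intro x hx
  have hx' : IsNilpotent x := hx
  change IsNilpotent (HopfAlgebra.antipodeAlgHom k A x)
  exact hx'.map _

end Groth.Agent.Helper5.HopfNil
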