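import Mathlib
import Groth.Agent.Helper5.VcCenter
import Groth.Agent.Helper5.DvrSpec

set_option autoImplicit false
set_option linter.style.haveILetI false
universe u

namespace Groth.Agent.Helper5.VcApprox

open CategoryTheory CategoryTheory.Limits AlgebraicGeometry IsLocalRing
open Groth.Agent.Helper5.VcCenter

theorem closure_eq_top_of_essFiniteType {R L : Type*} [CommRing R] [Field L] (ψ : R →+* L)
    (hfin : ψ.EssFiniteType) :
    ∃ σ : Finset L, Subfield.closure (Set.range ψ ∪ (σ : Set L)) = ⊤ := by
  letI : Algebra R L := ψ.toAlgebra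
  have hess : Algebra.EssFiniteType R L := hfin
  obtain ⟨σ, hσ⟩ := (Algebra.essFiniteType_iff R L).1 hess
  refine ⟨σ, ?_⟩
  rw [_root_.eq_top_iff]
  intro z _
  set K' := Subfield.closure (Set.range ψ ∪ (σ : Set L)) with hK'
  have hadj : ∀ y ∈ Algebra.adjoin R (σ : Set L), y ∈ K' := by
    intro y hy
    induction hy using Algebra.adjoin_induction with
    | mem x hx => exact Subfield.subset_closure (Or.inr hx)
    | algebraMap r => exact Subfield.subset_closure (Or.inl ⟨r, rfl⟩)
    | add x y _ _ hx hy => exact K'.add_mem hx hy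
    | mul x y _ _ hx hy => exact K'.mul_mem hx hy
  obtain ⟨t, ht, htu, hzt⟩ := hσ z
  have : z = z * t * t⁻¹ := by
    rw [mul_assoc, mul_inv_cancel₀ htu.ne_zero, mul_one]
  rw [this]
  exact K'.mul_mem (hadj _ hzt) (K'.inv_mem (hadj _ ht))

section

variable {X Y : Scheme.{u}} [IsIntegral X]

/-- the canonical map `O_{Y,y} → K(X)` -/
noncomputable def rho (f : X ⟶ Y) (y : Y) (hy : f.base (genericPoint X) ⤳ y) :
    Y.presheaf.stalk y →+* X.functionField :=
  (Y.presheaf.stalkSpecializes hy ≫ f.stalkMap (genericPoint X)).hom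

theorem specMap_rho (f : X ⟶ Y) (y : Y) (hy : f.base (genericPoint X) ⤳ y) :
    Spec.map (CommRingCat.ofHom (rho f y hy)) ≫ Y.fromSpecStalk y =
      X.fromSpecStalk (genericPoint X) ≫ f := by
  have : CommRingCat.ofHom (rho f y hy) =
      Y.presheaf.stalkSpecializes hy ≫ f.stalkMap (genericPoint X) := rfl
  rw [this, Spec.map_comp, Category.assoc, Scheme.SpecMap_stalkSpecializes_fromSpecStalk hy,
    Scheme.SpecMap_stalkMap_fromSpecStalk]

theorem specMap_algebraMap (x : X) :
    Spec.map (CommRingCat.ofHom (algebraMap (X.presheaf.stalk x) X.functionField)) ≫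
      X.fromSpecStalk x = X.fromSpecStalk (genericPoint X) := by
  have : CommRingCat.ofHom (algebraMap (X.presheaf.stalk x) X.functionField) =
      X.presheaf.stalkSpecializes ((genericPoint_spec X).specializes trivial) := rfl
  rw [this, Scheme.SpecMap_stalkSpecializes_fromSpecStalk]

/-- the hypothesis of the criterion, for discrete valuation rings -/
def HypDVR (f : X ⟶ Y) : Prop :=
  ∀ (R : ValuationSubring X.functionField), IsDiscreteValuationRing R →
    ∀ (y : Y) (hy : f.base (genericPoint X) ⤳ y), Dom R y (rho f y hy) →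
      ∃ x : X, Dom R x (algebraMap (X.presheaf.stalk x) X.functionField)

/-- the hypothesis of the criterion, for all valuation rings -/
def HypVal (f : X ⟶ Y) : Prop :=
  ∀ (R : ValuationSubring X.functionField)
    (y : Y) (hy : f.base (genericPoint X) ⤳ y), Dom R y (rho f y hy) →
      ∃ x : X, Dom R x (algebraMap (X.presheaf.stalk x) X.functionField)

/-- the centre on `X` maps to the centre on `Y` -/
theorem map_center [Y.IsSeparated] (f : X ⟶ Y) (R : ValuationSubring X.functionField)
    (y : Y) (hy : f.base (genericPoint X) ⤳ y) (hd : Dom R y (rho f y hy)) (x : X)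
    (hx : Dom R x (algebraMap (X.presheaf.stalk x) X.functionField)) : f.base x = y := by
  have h1 : Dom R (f.base x)
      ((algebraMap (X.presheaf.stalk x) X.functionField).comp (f.stalkMap x).hom) := by
    refine ⟨fun a => hx.1 _, fun a ha => hx.2 _ ?_⟩
    have hloc : IsLocalHom (f.stalkMap x).hom := inferInstance
    by_contra hna
    have hu : IsUnit ((f.stalkMap x).hom a) := by
      by_contra h; exact hna ((mem_maximalIdeal _).2 h)
    exact (mem_maximalIdeal _).1 ha (hloc.map_nonunit a hu)
  refine h1.unique hd ?_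
  rw [specMap_rho]
  have : CommRingCat.ofHom
      ((algebraMap (X.presheaf.stalk x) X.functionField).comp (f.stalkMap x).hom) =
      f.stalkMap x ≫ CommRingCat.ofHom (algebraMap (X.presheaf.stalk x) X.functionField) := rfl
  rw [this, Spec.map_comp, Category.assoc, Scheme.SpecMap_stalkMap_fromSpecStalk,
    ← Category.assoc]
  exact congrArg (· ≫ f) (specMap_algebraMap x)

/-- **Approximation**: if every discrete valuation ring of the function field dominating a local
ring of `Y` has a centre on `X`, so has every valuation ring. -/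
theorem hypVal_of_hypDVR [Y.IsSeparated] [IsLocallyNoetherian Y] (f : X ⟶ Y)
    [LocallyOfFiniteType f] [QuasiCompact f] (H : HypDVR f) : HypVal f := by
  classical
  intro V y hy hd
  by_contra hno
  push_neg at hno
  obtain ⟨V0, hV0, hyV0, -⟩ :=
    exists_isAffineOpen_mem_and_subset (X := Y) (x := y) (U := ⊤) trivial
  have hcpt : IsCompact ((f ⁻¹ᵁ V0 : X.Opens) : Set X) := f.isCompact_preimage hV0.isCompact
  obtain ⟨s, hs, hsW⟩ := isCompact_iff_finite_and_eq_biUnion_affineOpens.mp hcpt
  have key : ∀ U : X.affineOpens, ∃ g : X.functionField, V.valuation g < 1 ∧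
      ∀ x ∈ (U : X.Opens), ∃ a : X.presheaf.stalk x,
        g * algebraMap (X.presheaf.stalk x) X.functionField a = 1 := by
    intro U
    by_cases hne : Nonempty (U : X.Opens)
    · have : ∃ c : Γ(X, U), X.germToFunctionField U c ∉ V := by
        by_contra hall
        push_neg at hall
        obtain ⟨x, -, hx⟩ := exists_center_of_affine U.2 V hall
        exact hno x hx
      obtain ⟨c, hc⟩ := this
      refine ⟨(X.germToFunctionField U c)⁻¹, ?_, ?_⟩
      · rw [← ValuationSubring.mem_nonunits_iff, ValuationSubring.mem_nonunits_iff_or, inv_inv]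
        exact Or.inr hc
      · intro x hx
        refine ⟨X.presheaf.germ U x hx c, ?_⟩
        rw [Scheme.algebraMap_germ_eq_germToFunctionField]
        apply inv_mul_cancel₀
        intro h0; rw [h0] at hc; exact hc (zero_mem _)
    · refine ⟨0, by simp, ?_⟩
      intro x hx
      exact (hne ⟨⟨x, hx⟩⟩).elim
  choose g hg1 hg2 using key
  let S0 : Finset X.functionField := hs.toFinset.image g
  letI : Algebra (Y.presheaf.stalk y) X.functionField := (rho f y hy).toAlgebra
  let B := Algebra.adjoin (Y.presheaf.stalk y) (S0 : Set X.functionField)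
  have hgB : ∀ U ∈ s, g U ∈ B := fun U hU =>
    Algebra.subset_adjoin (Finset.mem_coe.2 (Finset.mem_image.2 ⟨U, hs.mem_toFinset.2 hU, rfl⟩))
  have hBfg : B.FG := ⟨S0, rfl⟩
  haveI : Algebra.FiniteType (Y.presheaf.stalk y) B := (Subalgebra.fg_iff_finiteType _).1 hBfg
  haveI : IsNoetherianRing B := Algebra.FiniteType.isNoetherianRing (Y.presheaf.stalk y) B
  have hBV : ∀ b ∈ B, b ∈ V := by
    intro b hb
    induction hb using Algebra.adjoin_induction with
    | mem x hx =>
      obtain ⟨U, -, rfl⟩ := Finset.mem_image.1 (Finset.mem_coe.1 hx)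
      exact (V.valuation_le_one_iff _).1 (hg1 U).le
    | algebraMap r => exact hd.1 r
    | add x y _ _ hx hy => exact add_mem hx hy
    | mul x y _ _ hx hy => exact mul_mem hx hy
  let ι : B →+* V :=
    (B.val : B →+* X.functionField).codRestrict V.toSubring (fun b => hBV b b.2)
  let P : Ideal B := (maximalIdeal V).comap ι
  have hPmem : ∀ b : B, b ∈ P ↔ V.valuation (b : X.functionField) < 1 := by
    intro b
    exact V.valuation_lt_one_iff (ι b)
  have hPtop : P ≠ ⊤ := Ideal.comap_ne_top _ (maximalIdeal.isMaximal V).ne_top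
  have hξ : genericPoint X ∈ f ⁻¹ᵁ V0 := hy.mem_open V0.isOpen hyV0
  rw [hsW] at hξ
  obtain ⟨U0, hU0s, hξU0⟩ : ∃ U ∈ s, genericPoint X ∈ (U : X.Opens) := by
    simpa [TopologicalSpace.Opens.mem_iSup] using hξ
  have hPbot : P ≠ ⊥ := by
    intro h
    have : (⟨g U0, hgB U0 hU0s⟩ : B) ∈ P := (hPmem _).2 (hg1 U0)
    rw [h, Ideal.mem_bot] at this
    obtain ⟨a, ha⟩ := hg2 U0 _ hξU0
    have h0 : g U0 = 0 := congrArg Subtype.val this
    rw [h0, zero_mul] at ha
    exact zero_ne_one ha
  have hinj : Function.Injective (algebraMap B X.functionField) := Subtype.val_injective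
  obtain ⟨σ, hσ⟩ := closure_eq_top_of_essFiniteType (rho f y hy) (by
    show (Y.presheaf.stalkSpecializes hy ≫ f.stalkMap (genericPoint X)).hom.EssFiniteType
    rw [CommRingCat.hom_comp]
    exact RingHom.EssFiniteType.comp (DvrSpec.essFiniteType_stalkSpecializes hy)
      (LocallyOfFiniteType.stalkMap f _))
  have hS : Subfield.closure
      (Set.range (algebraMap B X.functionField) ∪ (σ : Set X.functionField)) = ⊤ := by
    rw [_root_.eq_top_iff, ← hσ]
    apply Subfield.closure_mono
    apply Set.union_subset_union_left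
    rintro _ ⟨a, rfl⟩
    exact ⟨algebraMap (Y.presheaf.stalk y) B a, rfl⟩
  obtain ⟨O, hO, hBO, hPO⟩ := Dvr.exists_dvr B X.functionField hinj σ hS P hPtop hPbot
  have hdO : Dom O y (rho f y hy) := by
    refine ⟨fun a => hBO (algebraMap (Y.presheaf.stalk y) B a), fun a ha => ?_⟩
    exact hPO (algebraMap (Y.presheaf.stalk y) B a) ((hPmem _).2 (hd.2 a ha))
  obtain ⟨x, hx⟩ := H O hO y hy hdO
  have hfx : f.base x = y := map_center f O y hy hdO x hx
  have hxW : x ∈ f ⁻¹ᵁ V0 := by
    show f.base x ∈ V0
    rw [hfx]; exact hyV0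
  rw [hsW] at hxW
  obtain ⟨U, hUs, hxU⟩ : ∃ U ∈ s, x ∈ (U : X.Opens) := by
    simpa [TopologicalSpace.Opens.mem_iSup] using hxW
  obtain ⟨a, ha⟩ := hg2 U x hxU
  have h1 : O.valuation (g U) < 1 := hPO ⟨g U, hgB U hUs⟩ ((hPmem _).2 (hg1 U))
  have h2 : O.valuation (algebraMap (X.presheaf.stalk x) X.functionField a) ≤ 1 :=
    (O.valuation_le_one_iff _).2 (hx.1 a)
  have h3 := congrArg O.valuation ha
  rw [map_mul, map_one] at h3
  have h4 : O.valuation (g U) * O.valuation (algebraMap (X.presheaf.stalk x) X.functionField a)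
      < 1 := by
    calc _ ≤ O.valuation (g U) * 1 := by gcongr
      _ < 1 := by rw [mul_one]; exact h1
  rw [h3] at h4
  exact lt_irrefl _ h4

end

end Groth.Agent.Helper5.VcApprox
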