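import Mathlib

set_option autoImplicit false
set_option linter.unusedSectionVars false

namespace Groth.Agent.Helper5.VcComp

open IsLocalRing

section comp

variable {K : Type*} [Field K]

/-- the composite of a valuation subring `R₁` of `K` with a valuation subring `R₂` of its
residue field -/
def comp (R₁ : ValuationSubring K) (R₂ : ValuationSubring (ResidueField R₁)) :
    ValuationSubring K where
  toSubring := (R₂.toSubring.comap (residue R₁)).map R₁.subtype
  mem_or_inv_mem' := by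
    intro x
    by_cases hx : x ∈ R₁
    · by_cases hr : residue R₁ ⟨x, hx⟩ ∈ R₂
      · left
        exact ⟨⟨x, hx⟩, hr, rfl⟩
      · right
        have hr0 : residue R₁ ⟨x, hx⟩ ≠ 0 := by
          intro h0; rw [h0] at hr; exact hr (zero_mem _)
        have hu : IsUnit (⟨x, hx⟩ : R₁) := by
          by_contra hnu
          exact hr0 ((residue_eq_zero_iff _).2 ((mem_maximalIdeal _).2 hnu))
        obtain ⟨u, hu'⟩ := hu
        have h1 : ((u⁻¹ : R₁ˣ) : R₁) * ⟨x, hx⟩ = 1 := by rw [← hu']; simp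
        have h2 : (((u⁻¹ : R₁ˣ) : R₁) : K) = x⁻¹ := by
          have := congrArg (Subtype.val) h1
          simp only [MulMemClass.coe_mul, OneMemClass.coe_one] at this
          exact eq_inv_of_mul_eq_one_left this
        refine ⟨((u⁻¹ : R₁ˣ) : R₁), ?_, h2⟩
        have h3 : residue R₁ ((u⁻¹ : R₁ˣ) : R₁) * residue R₁ ⟨x, hx⟩ = 1 := by
          rw [← map_mul, h1, map_one]
        have h4 : residue R₁ ((u⁻¹ : R₁ˣ) : R₁) = (residue R₁ ⟨x, hx⟩)⁻¹ :=
          eq_inv_of_mul_eq_one_left h3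
        show residue R₁ ((u⁻¹ : R₁ˣ) : R₁) ∈ R₂
        rw [h4]
        exact (R₂.mem_or_inv_mem _).resolve_left hr
    · right
      have hx' : x⁻¹ ∈ R₁ := (R₁.mem_or_inv_mem x).resolve_left hx
      refine ⟨⟨x⁻¹, hx'⟩, ?_, rfl⟩
      show residue R₁ ⟨x⁻¹, hx'⟩ ∈ R₂
      have : (⟨x⁻¹, hx'⟩ : R₁) ∈ maximalIdeal R₁ := by
        have h1 : x⁻¹ ∈ R₁.nonunits := by
          rw [ValuationSubring.mem_nonunits_iff_or, inv_inv]
          exact Or.inr hx
        obtain ⟨_, h2⟩ := ValuationSubring.mem_nonunits_iff_exists_mem_maximalIdeal.1 h1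
        exact h2
      rw [(residue_eq_zero_iff _).2 this]
      exact zero_mem _

theorem mem_comp_iff (R₁ : ValuationSubring K) (R₂ : ValuationSubring (ResidueField R₁)) (a : K) :
    a ∈ comp R₁ R₂ ↔ ∃ h : a ∈ R₁, residue R₁ ⟨a, h⟩ ∈ R₂ := by
  constructor
  · rintro ⟨⟨a', ha'⟩, h1, rfl⟩
    exact ⟨ha', h1⟩
  · rintro ⟨h, h1⟩
    exact ⟨⟨a, h⟩, h1, rfl⟩

theorem comp_le (R₁ : ValuationSubring K) (R₂ : ValuationSubring (ResidueField R₁)) :
    comp R₁ R₂ ≤ R₁ := by
  intro a ha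
  exact ((mem_comp_iff R₁ R₂ a).1 ha).1

theorem valuation_comp_lt_one (R₁ : ValuationSubring K) (R₂ : ValuationSubring (ResidueField R₁))
    (a : K) (h : a ∈ R₁) (hlt : R₂.valuation (residue R₁ ⟨a, h⟩) < 1) :
    (comp R₁ R₂).valuation a < 1 := by
  rw [← ValuationSubring.mem_nonunits_iff, ValuationSubring.mem_nonunits_iff_or]
  by_cases ha0 : a = 0
  · exact Or.inl ha0
  right
  intro hinv
  obtain ⟨h', h1⟩ := (mem_comp_iff R₁ R₂ _).1 hinv
  have h2 : residue R₁ ⟨a, h⟩ * residue R₁ ⟨a⁻¹, h'⟩ = 1 := by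
    rw [← map_mul]
    have : (⟨a, h⟩ : R₁) * ⟨a⁻¹, h'⟩ = 1 := by
      apply Subtype.ext
      simp [mul_inv_cancel₀ ha0]
    rw [this, map_one]
  have h3 := congrArg R₂.valuation h2
  rw [map_mul, map_one] at h3
  have h4 : R₂.valuation (residue R₁ ⟨a⁻¹, h'⟩) ≤ 1 := (R₂.valuation_le_one_iff _).2 h1
  have h5 : R₂.valuation (residue R₁ ⟨a, h⟩) * R₂.valuation (residue R₁ ⟨a⁻¹, h'⟩) < 1 := by
    calc _ ≤ R₂.valuation (residue R₁ ⟨a, h⟩) * 1 := by gcongr
      _ < 1 := by rw [mul_one]; exact hlt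
  rw [h3] at h5
  exact lt_irrefl _ h5

end comp

section composite

variable {K L B : Type*} [Field K] [Field L] [CommRing B] [IsLocalRing B]

/-- **Composite valuation ring**: for a local ring `B` with a ring map `j` to a field `K` and a
local map `φ` to a field `L`, and a valuation subring `T` of `L`, there is a valuation subring `V`
of `K`, contained in a valuation subring `R₁` dominating `B`, which dominates `φ⁻¹ T`. -/
theorem exists_composite (j : B →+* K) (φ : B →+* L) [IsLocalHom φ] (T : ValuationSubring L) :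
    ∃ (V R₁ : ValuationSubring K), V ≤ R₁ ∧
      (∀ b, j b ∈ R₁) ∧ (∀ b ∈ maximalIdeal B, R₁.valuation (j b) < 1) ∧
      (∀ b, φ b ∈ T → j b ∈ V) ∧ (∀ b, T.valuation (φ b) < 1 → V.valuation (j b) < 1) := by
  obtain ⟨R₁, h₁, hloc₁⟩ := IsLocalRing.exists_factor_valuationRing j
  let j₁ : B →+* R₁ := j.codRestrict R₁.toSubring h₁
  let B' : Subring B := T.toSubring.comap φ
  let θ : B' →+* T := (φ.comp B'.subtype).codRestrict T.toSubring (fun b => b.2)
  have hθ : IsLocalHom θ := by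
    constructor
    intro b hb
    obtain ⟨t, ht⟩ := hb.exists_right_inv
    have h1 : φ b.1 * (t : L) = 1 := by
      have := congrArg Subtype.val ht
      simpa [θ] using this
    have h2 : IsUnit (φ b.1) := IsUnit.of_mul_eq_one _ h1
    have h3 : IsUnit b.1 := IsUnit.of_map φ _ h2
    obtain ⟨c, hc⟩ := h3.exists_right_inv
    have h4 : φ c = t := by
      have h5 : φ b.1 * φ c = 1 := by rw [← map_mul, hc, map_one]
      have h6 := h2.mul_left_cancel (h5.trans h1.symm)
      exact h6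
    have hcB : c ∈ B' := by
      show φ c ∈ T.toSubring
      rw [h4]; exact t.2
    exact IsUnit.of_mul_eq_one (⟨c, hcB⟩ : B') (Subtype.ext hc)
  haveI : IsLocalRing B' := RingHom.domain_isLocalRing θ
  let f : B' →+* ResidueField R₁ := (residue R₁).comp (j₁.comp B'.subtype)
  obtain ⟨R₂, h₂, hloc₂⟩ := IsLocalRing.exists_factor_valuationRing f
  refine ⟨comp R₁ R₂, R₁, comp_le R₁ R₂, h₁, ?_, ?_, ?_⟩
  · intro b hb
    have h1 : ¬ IsUnit (j₁ b) := fun hu => hb (hloc₁.map_nonunit b hu)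
    have h2 : (⟨j b, h₁ b⟩ : R₁) ∈ maximalIdeal R₁ := (mem_maximalIdeal _).2 h1
    exact (R₁.valuation_lt_one_iff _).1 h2
  · intro b hb
    rw [mem_comp_iff]
    exact ⟨h₁ b, h₂ ⟨b, hb⟩⟩
  · intro b hb
    have hbT : φ b ∈ T := (T.valuation_le_one_iff _).1 hb.le
    apply valuation_comp_lt_one R₁ R₂ (j b) (h₁ b)
    have h1 : θ ⟨b, hbT⟩ ∈ maximalIdeal T := (T.valuation_lt_one_iff _).2 hb
    have h2 : ¬ IsUnit (⟨b, hbT⟩ : B') := fun hu => (mem_maximalIdeal _).1 h1 (hu.map θ)
    have h3 : ¬ IsUnit (f.codRestrict R₂.toSubring h₂ ⟨b, hbT⟩) :=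
      fun hu => h2 (hloc₂.map_nonunit _ hu)
    have h4 : (⟨f ⟨b, hbT⟩, h₂ _⟩ : R₂) ∈ maximalIdeal R₂ := (mem_maximalIdeal _).2 h3
    exact (R₂.valuation_lt_one_iff _).1 h4

/-- converse direction for the composite: membership in `V` is detected in `T` -/
theorem mem_of_mem_composite (j : B →+* K) (φ : B →+* L) [IsLocalHom φ] (T : ValuationSubring L)
    (V : ValuationSubring K)
    (hii : ∀ b, T.valuation (φ b) < 1 → V.valuation (j b) < 1) (b : B) (hb : j b ∈ V) :
    φ b ∈ T := by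
  by_contra hnT
  have h1 : (φ b)⁻¹ ∈ T := (T.mem_or_inv_mem _).resolve_left hnT
  have h0 : φ b ≠ 0 := by
    intro h; rw [h] at hnT; exact hnT (zero_mem _)
  have h2 : IsUnit b := IsUnit.of_map φ _ (isUnit_iff_ne_zero.2 h0)
  obtain ⟨c, hc⟩ := h2.exists_right_inv
  have h3 : φ c = (φ b)⁻¹ := by
    have : φ b * φ c = 1 := by rw [← map_mul, hc, map_one]
    exact eq_inv_of_mul_eq_one_right this
  have h4 : T.valuation (φ c) < 1 := by
    rw [← ValuationSubring.mem_nonunits_iff, ValuationSubring.mem_nonunits_iff_or, h3, inv_inv]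
    exact Or.inr hnT
  have h5 := hii c h4
  have h6 : V.valuation (j b) ≤ 1 := (V.valuation_le_one_iff _).2 hb
  have h7 : V.valuation (j b) * V.valuation (j c) < 1 := by
    calc _ ≤ 1 * V.valuation (j c) := by gcongr
      _ < 1 := by rw [one_mul]; exact h5
  rw [← map_mul, ← map_mul, hc, map_one, map_one] at h7
  exact lt_irrefl _ h7

theorem lt_one_of_lt_one_composite (j : B →+* K) (φ : B →+* L) [IsLocalHom φ]
    (T : ValuationSubring L) (V : ValuationSubring K)
    (hi : ∀ b, φ b ∈ T → j b ∈ V)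
    (hii : ∀ b, T.valuation (φ b) < 1 → V.valuation (j b) < 1) (b : B)
    (hb : V.valuation (j b) < 1) : T.valuation (φ b) < 1 := by
  have hbT : φ b ∈ T := mem_of_mem_composite j φ T V hii b ((V.valuation_le_one_iff _).1 hb.le)
  rw [← ValuationSubring.mem_nonunits_iff, ValuationSubring.mem_nonunits_iff_or]
  by_cases h0 : φ b = 0
  · exact Or.inl h0
  right
  intro hinv
  have h2 : IsUnit b := IsUnit.of_map φ _ (isUnit_iff_ne_zero.2 h0)
  obtain ⟨c, hc⟩ := h2.exists_right_inv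
  have h3 : φ c = (φ b)⁻¹ := by
    have : φ b * φ c = 1 := by rw [← map_mul, hc, map_one]
    exact eq_inv_of_mul_eq_one_right this
  have h4 : j c ∈ V := hi c (by rw [h3]; exact hinv)
  have h6 : V.valuation (j c) ≤ 1 := (V.valuation_le_one_iff _).2 h4
  have h7 : V.valuation (j b) * V.valuation (j c) < 1 := by
    calc _ ≤ V.valuation (j b) * 1 := by gcongr
      _ < 1 := by rw [mul_one]; exact hb
  rw [← map_mul, ← map_mul, hc, map_one, map_one] at h7
  exact lt_irrefl _ h7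

end composite

end Groth.Agent.Helper5.VcComp
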