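import Mathlib
import Groth.Agent.Helper5.VcComp
import Groth.Agent.Helper5.VcApprox
import Groth.Agent.Helper5.DvrProper

set_option autoImplicit false
set_option linter.style.haveILetI false
universe u

namespace Groth.Agent.Helper5.VcMain

open CategoryTheory CategoryTheory.Limits AlgebraicGeometry IsLocalRing
open Groth.Agent.Helper5.VcCenter Groth.Agent.Helper5.VcApprox

/-- the valuation subring of the fraction field attached to a valuation ring -/
noncomputable def ofValuationRing (A : Type*) [CommRing A] [IsDomain A] [ValuationRing A]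
    (L : Type*) [Field L] [Algebra A L] [IsFractionRing A L] : ValuationSubring L :=
  ⟨(algebraMap A L).range, ValuationRing.isInteger_or_isInteger A⟩

theorem mem_ofValuationRing (A : Type*) [CommRing A] [IsDomain A] [ValuationRing A]
    (L : Type*) [Field L] [Algebra A L] [IsFractionRing A L] (z : L) :
    z ∈ ofValuationRing A L ↔ ∃ a : A, algebraMap A L a = z := Iff.rfl

theorem valuation_ofValuationRing_lt_one (A : Type*) [CommRing A] [IsDomain A] [ValuationRing A]
    (L : Type*) [Field L] [Algebra A L] [IsFractionRing A L] (a : A) (ha : ¬ IsUnit a) :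
    (ofValuationRing A L).valuation (algebraMap A L a) < 1 := by
  rw [← ValuationSubring.mem_nonunits_iff, ValuationSubring.mem_nonunits_iff_or]
  by_cases h0 : algebraMap A L a = 0
  · exact Or.inl h0
  right
  rintro ⟨s, hs⟩
  apply ha
  have h1 : algebraMap A L (a * s) = 1 := by
    rw [map_mul, hs, mul_inv_cancel₀ h0]
  have h2 : a * s = 1 := IsFractionRing.injective A L (by rw [h1, map_one])
  exact IsUnit.of_mul_eq_one _ h2

/-- the ring-level content of a commutative square `Spec L ⟶ X`, `Spec A ⟶ Y` -/
theorem square_ring {X Y : Scheme.{u}} (f : X ⟶ Y) (A : Type u) [CommRing A] [IsDomain A]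
    [IsLocalRing A] (L : Type u) [Field L] [Algebra A L]
    (x : Spec (CommRingCat.of L) ⟶ X) (y : Spec (CommRingCat.of A) ⟶ Y)
    (hxy : x ≫ f = Spec.map (CommRingCat.ofHom (algebraMap A L)) ≫ y)
    (hsp : f.base (x (closedPoint L)) ⤳ y (closedPoint A)) :
    Y.presheaf.stalkSpecializes hsp ≫ f.stalkMap (x (closedPoint L)) ≫
        Scheme.stalkClosedPointTo x =
      Scheme.stalkClosedPointTo y ≫ CommRingCat.ofHom (algebraMap A L) := by
  rw [← Spec.map_inj, ← cancel_mono (Y.fromSpecStalk (y (closedPoint A)))]
  simp only [Spec.map_comp, Category.assoc]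
  rw [Scheme.SpecMap_stalkSpecializes_fromSpecStalk hsp, Scheme.SpecMap_stalkMap_fromSpecStalk,
    Scheme.Spec_stalkClosedPointTo_fromSpecStalk_assoc, Scheme.Spec_stalkClosedPointTo_fromSpecStalk,
    hxy]

/-- **The lifting criterion from centres of valuation rings of the function field.** -/
theorem dvrExistence_of_hypVal {X Y : Scheme.{u}} [IsIntegral X] [X.IsSeparated] [Y.IsSeparated]
    (f : X ⟶ Y) (H : HypVal f) : DvrProper.DvrExistence f := by
  intro A _ _ _ x y hxy
  let L := FractionRing A
  let T : ValuationSubring L := ofValuationRing A L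
  -- the two points
  have hsp : f.base (x (closedPoint L)) ⤳ y (closedPoint A) := by
    have h3 := (specializes_closedPoint (R := A)
      ((Spec.map (CommRingCat.ofHom (algebraMap A L))).base (closedPoint L))).map y.continuous
    have e : f.base (x (closedPoint L)) =
        y.base ((Spec.map (CommRingCat.ofHom (algebraMap A L))).base (closedPoint L)) := by
      rw [← Scheme.Hom.comp_apply, ← Scheme.Hom.comp_apply, hxy]
    rw [e]
    exact h3
  have hsq := square_ring f A L x y hxy hsp
  set x1 : X := x (closedPoint L) with hx1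
  set y' : Y := y (closedPoint A) with hy'
  let φ0 : X.presheaf.stalk x1 →+* L := (Scheme.stalkClosedPointTo x).hom
  haveI hφ0 : IsLocalHom φ0 := Scheme.isLocalHom_stalkClosedPointTo' x
  let ψy : Y.presheaf.stalk y' →+* A := (Scheme.stalkClosedPointTo y).hom
  haveI hψy : IsLocalHom ψy := Scheme.isLocalHom_stalkClosedPointTo' y
  have hsq' : ∀ a : Y.presheaf.stalk y',
      φ0 ((f.stalkMap x1).hom ((Y.presheaf.stalkSpecializes hsp).hom a)) =
        algebraMap A L (ψy a) := by
    intro a
    exact congrArg (fun g => g.hom a) hsq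
  let j : X.presheaf.stalk x1 →+* X.functionField :=
    algebraMap (X.presheaf.stalk x1) X.functionField
  obtain ⟨V, R₁, hVR, hR1a, hR1b, hVi, hVii⟩ := VcComp.exists_composite j φ0 T
  have hξx1 : genericPoint X ⤳ x1 := (genericPoint_spec X).specializes trivial
  have hyξ : f.base (genericPoint X) ⤳ y' := (hξx1.map f.continuous).trans hsp
  -- compatibility of `rho` with `j`
  have hrho : ∀ a : Y.presheaf.stalk y',
      rho f y' hyξ a = j ((f.stalkMap x1).hom ((Y.presheaf.stalkSpecializes hsp).hom a)) := by
    intro a
    have h1 : Y.presheaf.stalkSpecializes hyξ ≫ f.stalkMap (genericPoint X) =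
        Y.presheaf.stalkSpecializes hsp ≫ f.stalkMap x1 ≫ X.presheaf.stalkSpecializes hξx1 := by
      rw [← Scheme.Hom.stalkSpecializes_stalkMap f _ _ hξx1, ← Category.assoc,
        TopCat.Presheaf.stalkSpecializes_comp]
    exact congrArg (fun g => g.hom a) h1
  have hdomV : Dom V y' (rho f y' hyξ) := by
    constructor
    · intro a
      rw [hrho]
      apply hVi
      rw [hsq']
      exact ⟨ψy a, rfl⟩
    · intro a ha
      rw [hrho]
      apply hVii
      rw [hsq']
      apply valuation_ofValuationRing_lt_one
      intro hu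
      exact (mem_maximalIdeal _).1 ha (hψy.map_nonunit a hu)
  obtain ⟨x', hx'⟩ := H V y' hyξ hdomV
  -- `x1` specialises to the centre
  have hdomR1 : Dom R₁ x1 (algebraMap (X.presheaf.stalk x1) X.functionField) := ⟨hR1a, hR1b⟩
  have hspx : x1 ⤳ x' := by
    rw [specializes_iff_forall_open]
    intro W hW hx'W
    obtain ⟨U, hU, hx'U, hUW⟩ :=
      exists_isAffineOpen_mem_and_subset (X := X) (x := x') (U := ⟨W, hW⟩) hx'W
    haveI : Nonempty U := ⟨⟨x', hx'U⟩⟩
    have hUR : ∀ c : Γ(X, U), X.germToFunctionField U c ∈ R₁ := by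
      intro c
      apply hVR
      rw [← Scheme.algebraMap_germ_eq_germToFunctionField X hx'U c]
      exact hx'.1 _
    obtain ⟨x'', hx''U, hx''⟩ := exists_center_of_affine hU R₁ hUR
    have : x'' = x1 := hx''.unique hdomR1 (by rw [specMap_algebraMap, specMap_algebraMap])
    rw [← this]
    exact hUW hx''U
  -- the lift
  let χ : X.presheaf.stalk x' →+* L := φ0.comp (X.presheaf.stalkSpecializes hspx).hom
  have hχ : ∀ b, χ b ∈ (algebraMap A L).range := by
    intro b
    have h1 : j ((X.presheaf.stalkSpecializes hspx).hom b) ∈ V := by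
      have h2 : j ((X.presheaf.stalkSpecializes hspx).hom b) =
          algebraMap (X.presheaf.stalk x') X.functionField b := by
        have h3 : X.presheaf.stalkSpecializes hspx ≫ X.presheaf.stalkSpecializes hξx1 =
            X.presheaf.stalkSpecializes (hξx1.trans hspx) :=
          TopCat.Presheaf.stalkSpecializes_comp _ _ _
        exact congrArg (fun g => g.hom b) h3
      rw [h2]
      exact hx'.1 b
    exact VcComp.mem_of_mem_composite j φ0 T V hVii _ h1
  let e : A ≃+* (algebraMap A L).range :=
    RingEquiv.ofBijective (algebraMap A L).rangeRestrict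
      ⟨fun a b hab => IsFractionRing.injective A L (congrArg Subtype.val hab),
        (algebraMap A L).rangeRestrict_surjective⟩
  let ψ : X.presheaf.stalk x' →+* A :=
    (e.symm : (algebraMap A L).range →+* A).comp (χ.codRestrict (algebraMap A L).range hχ)
  have hψ : ∀ b, algebraMap A L (ψ b) = χ b := by
    intro b
    have h1 : e (ψ b) = χ.codRestrict (algebraMap A L).range hχ b := e.apply_symm_apply _
    exact congrArg Subtype.val h1
  let l : Spec (CommRingCat.of A) ⟶ X := Spec.map (CommRingCat.ofHom ψ) ≫ X.fromSpecStalk x'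
  have hl2 : Spec.map (CommRingCat.ofHom (algebraMap A L)) ≫ l = x := by
    have h1 : CommRingCat.ofHom ψ ≫ CommRingCat.ofHom (algebraMap A L) =
        X.presheaf.stalkSpecializes hspx ≫ Scheme.stalkClosedPointTo x := by
      ext b
      exact hψ b
    show Spec.map (CommRingCat.ofHom (algebraMap A L)) ≫ Spec.map (CommRingCat.ofHom ψ) ≫
      X.fromSpecStalk x' = x
    rw [← Spec.map_comp_assoc, h1, Spec.map_comp, Category.assoc,
      Scheme.SpecMap_stalkSpecializes_fromSpecStalk hspx,
      Scheme.Spec_stalkClosedPointTo_fromSpecStalk]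
  refine ⟨l, ?_, hl2⟩
  apply eq_of_isSeparated (Z := Y) A L
  rw [← Category.assoc, hl2, hxy]

end Groth.Agent.Helper5.VcMain
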