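import Mathlib
import Groth.Agent.Helper5.VcMain

set_option autoImplicit false
set_option linter.style.haveILetI false
universe u

namespace Groth.Agent.Helper5.VcMain2

open CategoryTheory CategoryTheory.Limits AlgebraicGeometry IsLocalRing
open Groth.Agent.Helper5.VcCenter Groth.Agent.Helper5.VcApprox Groth.Agent.Helper5.VcMain

/-- **The lifting criterion from centres of valuation rings of the function field.** -/
theorem exists_lift_of_hypVal {X Y : Scheme.{u}} [IsIntegral X] [X.IsSeparated] [Y.IsSeparated]
    (f : X ⟶ Y) (H : HypVal f) (A : Type u) [CommRing A] [IsDomain A] [ValuationRing A]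
    (L : Type u) [Field L] [Algebra A L] [IsFractionRing A L]
    (x : Spec (CommRingCat.of L) ⟶ X) (y : Spec (CommRingCat.of A) ⟶ Y)
    (hxy : x ≫ f = Spec.map (CommRingCat.ofHom (algebraMap A L)) ≫ y) :
    ∃ l : Spec (CommRingCat.of A) ⟶ X, l ≫ f = y ∧
      Spec.map (CommRingCat.ofHom (algebraMap A L)) ≫ l = x := by
  let T : ValuationSubring L := ofValuationRing A L
  -- the two points
  have hsp : f.base (x (closedPoint L)) ⤳ y (closedPoint A) := by
    have h3 := (specializes_closedPoint (R := A)
      ((Spec.map (CommRingCat.ofHom (algebraMap A L))).base (closedPoint L))).map y.continuous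
    have e : f.base (x (closedPoint L)) =
        y.base ((Spec.map (CommRingCat.ofHom (algebraMap A L))).base (closedPoint L)) := by
      rw [← Scheme.Hom.comp_apply, ← Scheme.Hom.comp_apply, hxy]
    rw [e]
    exact h3
  have hsq := square_ring f A L x y hxy hsp
  set x1 : X := x (closedPoint L) with hx1
  set y' : Y := y (closedPoint A) with hy'
  let φ0 : X.presheaf.stalk x1 →+* L := (Scheme.stalkClosedPointTo x).hom
  haveI hφ0 : IsLocalHom φ0 := Scheme.isLocalHom_stalkClosedPointTo' x
  let ψy : Y.presheaf.stalk y' →+* A := (Scheme.stalkClosedPointTo y).hom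
  haveI hψy : IsLocalHom ψy := Scheme.isLocalHom_stalkClosedPointTo' y
  have hsq' : ∀ a : Y.presheaf.stalk y',
      φ0 ((f.stalkMap x1).hom ((Y.presheaf.stalkSpecializes hsp).hom a)) =
        algebraMap A L (ψy a) := by
    intro a
    exact congrArg (fun g => g.hom a) hsq
  let j : X.presheaf.stalk x1 →+* X.functionField :=
    algebraMap (X.presheaf.stalk x1) X.functionField
  obtain ⟨V, R₁, hVR, hR1a, hR1b, hVi, hVii⟩ := VcComp.exists_composite j φ0 T
  have hξx1 : genericPoint X ⤳ x1 := (genericPoint_spec X).specializes trivial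
  have hyξ : f.base (genericPoint X) ⤳ y' := (hξx1.map f.continuous).trans hsp
  -- compatibility of `rho` with `j`
  have hrho : ∀ a : Y.presheaf.stalk y',
      rho f y' hyξ a = j ((f.stalkMap x1).hom ((Y.presheaf.stalkSpecializes hsp).hom a)) := by
    intro a
    have h1 : Y.presheaf.stalkSpecializes hyξ ≫ f.stalkMap (genericPoint X) =
        Y.presheaf.stalkSpecializes hsp ≫ f.stalkMap x1 ≫ X.presheaf.stalkSpecializes hξx1 := by
      rw [← Scheme.Hom.stalkSpecializes_stalkMap f _ _ hξx1, ← Category.assoc,
        TopCat.Presheaf.stalkSpecializes_comp]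
    exact congrArg (fun g => g.hom a) h1
  have hdomV : Dom V y' (rho f y' hyξ) := by
    constructor
    · intro a
      rw [hrho]
      apply hVi
      rw [hsq']
      exact ⟨ψy a, rfl⟩
    · intro a ha
      rw [hrho]
      apply hVii
      rw [hsq']
      apply valuation_ofValuationRing_lt_one
      intro hu
      exact (mem_maximalIdeal _).1 ha (hψy.map_nonunit a hu)
  obtain ⟨x', hx'⟩ := H V y' hyξ hdomV
  -- `x1` specialises to the centre
  have hdomR1 : Dom R₁ x1 (algebraMap (X.presheaf.stalk x1) X.functionField) := ⟨hR1a, hR1b⟩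
  have hspx : x1 ⤳ x' := by
    rw [specializes_iff_forall_open]
    intro W hW hx'W
    obtain ⟨U, hU, hx'U, hUW⟩ :=
      exists_isAffineOpen_mem_and_subset (X := X) (x := x') (U := ⟨W, hW⟩) hx'W
    haveI : Nonempty U := ⟨⟨x', hx'U⟩⟩
    have hUR : ∀ c : Γ(X, U), X.germToFunctionField U c ∈ R₁ := by
      intro c
      apply hVR
      rw [← Scheme.algebraMap_germ_eq_germToFunctionField X hx'U c]
      exact hx'.1 _
    obtain ⟨x'', hx''U, hx''⟩ := exists_center_of_affine hU R₁ hUR
    have : x'' = x1 := hx''.unique hdomR1 (by rw [specMap_algebraMap, specMap_algebraMap])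
    rw [← this]
    exact hUW hx''U
  -- the lift
  let χ : X.presheaf.stalk x' →+* L := φ0.comp (X.presheaf.stalkSpecializes hspx).hom
  have hχ : ∀ b, χ b ∈ (algebraMap A L).range := by
    intro b
    have h1 : j ((X.presheaf.stalkSpecializes hspx).hom b) ∈ V := by
      have h2 : j ((X.presheaf.stalkSpecializes hspx).hom b) =
          algebraMap (X.presheaf.stalk x') X.functionField b := by
        have h3 : X.presheaf.stalkSpecializes hspx ≫ X.presheaf.stalkSpecializes hξx1 =
            X.presheaf.stalkSpecializes (hξx1.trans hspx) :=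
          TopCat.Presheaf.stalkSpecializes_comp _ _ _
        exact congrArg (fun g => g.hom b) h3
      rw [h2]
      exact hx'.1 b
    exact VcComp.mem_of_mem_composite j φ0 T V hVii _ h1
  let e : A ≃+* (algebraMap A L).range :=
    RingEquiv.ofBijective (algebraMap A L).rangeRestrict
      ⟨fun a b hab => IsFractionRing.injective A L (congrArg Subtype.val hab),
        (algebraMap A L).rangeRestrict_surjective⟩
  let ψ : X.presheaf.stalk x' →+* A :=
    (e.symm : (algebraMap A L).range →+* A).comp (χ.codRestrict (algebraMap A L).range hχ)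
  have hψ : ∀ b, algebraMap A L (ψ b) = χ b := by
    intro b
    have h1 : e (ψ b) = χ.codRestrict (algebraMap A L).range hχ b := e.apply_symm_apply _
    exact congrArg Subtype.val h1
  let l : Spec (CommRingCat.of A) ⟶ X := Spec.map (CommRingCat.ofHom ψ) ≫ X.fromSpecStalk x'
  have hl2 : Spec.map (CommRingCat.ofHom (algebraMap A L)) ≫ l = x := by
    have h1 : CommRingCat.ofHom ψ ≫ CommRingCat.ofHom (algebraMap A L) =
        X.presheaf.stalkSpecializes hspx ≫ Scheme.stalkClosedPointTo x := by
      ext b
      exact hψ b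
    show Spec.map (CommRingCat.ofHom (algebraMap A L)) ≫ Spec.map (CommRingCat.ofHom ψ) ≫
      X.fromSpecStalk x' = x
    rw [← Spec.map_comp_assoc, h1, Spec.map_comp, Category.assoc,
      Scheme.SpecMap_stalkSpecializes_fromSpecStalk hspx,
      Scheme.Spec_stalkClosedPointTo_fromSpecStalk]
  refine ⟨l, ?_, hl2⟩
  apply eq_of_isSeparated (Z := Y) A L
  rw [← Category.assoc, hl2, hxy]


/-- the existence part of the valuative criterion from centres of valuation rings -/
theorem existence_of_hypVal {X Y : Scheme.{u}} [IsIntegral X] [X.IsSeparated] [Y.IsSeparated]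
    (f : X ⟶ Y) (H : HypVal f) : ValuativeCriterion.Existence f := by
  intro S
  obtain ⟨l, hl1, hl2⟩ := exists_lift_of_hypVal f H S.R S.K S.i₁ S.i₂ S.commSq.w
  exact ⟨⟨⟨l, hl2, hl1⟩⟩⟩

end Groth.Agent.Helper5.VcMain2
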