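import Mathlib
import Groth.Agent.Helper5.VcMain2
import Groth.Prelude.Def_CurvBase

set_option autoImplicit false
set_option linter.style.haveILetI false
universe u

namespace Groth.Agent.Helper5.CurveVal

open CategoryTheory CategoryTheory.Limits AlgebraicGeometry IsLocalRing
open Groth.Agent.Helper5.VcCenter Groth.Agent.Helper5.VcApprox Groth.Agent.Helper5.VcMain

/-- On an integral Jacobson scheme whose closed points have one-dimensional local rings, every
point other than the generic point is closed. -/
theorem isClosed_of_ne_genericPoint {X : Scheme.{u}} [IsIntegral X] [JacobsonSpace X]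
    (hX : ∀ x : X, IsClosed ({x} : Set X) → ringKrullDim (X.presheaf.stalk x) = 1) (x : X)
    (hx : x ≠ genericPoint X) : IsClosed ({x} : Set X) := by
  obtain ⟨x', hx'Z, hx'cl⟩ := nonempty_inter_closedPoints
    (Z := closure ({x} : Set X)) ⟨x, subset_closure rfl⟩ isClosed_closure.isLocallyClosed
  have hsp : x ⤳ x' := specializes_iff_mem_closure.2 hx'Z
  suffices h : x = x' by rw [h]; exact hx'cl
  obtain ⟨U, hU, hx'U, -⟩ :=
    exists_isAffineOpen_mem_and_subset (X := X) (x := x') (U := ⊤) trivial
  have hxU : x ∈ U := hsp.mem_open U.isOpen hx'U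
  haveI : Nonempty U := ⟨⟨x, hxU⟩⟩
  have hξU : genericPoint X ∈ U :=
    ((genericPoint_spec X).specializes trivial : genericPoint X ⤳ x).mem_open U.isOpen hxU
  set P' := hU.primeIdealOf ⟨x', hx'U⟩ with hP'
  set P := hU.primeIdealOf ⟨x, hxU⟩ with hP
  have hemb : Topology.IsInducing hU.fromSpec.base := hU.fromSpec.isOpenEmbedding.isInducing
  have hle : P ≤ P' := by
    rw [PrimeSpectrum.le_iff_specializes]
    have h1 : hU.fromSpec.base P ⤳ hU.fromSpec.base P' := by
      rw [hP, hP', hU.fromSpec_primeIdealOf, hU.fromSpec_primeIdealOf]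
      exact hsp
    exact hemb.specializes_iff.1 h1
  -- the height of `P'` is one
  have hht : P'.asIdeal.height = 1 := by
    letI : Algebra Γ(X, U) (X.presheaf.stalk x') :=
      TopCat.Presheaf.algebra_section_stalk X.presheaf ⟨x', hx'U⟩
    haveI : IsLocalization.AtPrime (X.presheaf.stalk x') P'.asIdeal :=
      hU.isLocalization_stalk ⟨x', hx'U⟩
    have h1 := IsLocalization.AtPrime.ringKrullDim_eq_height P'.asIdeal (X.presheaf.stalk x')
    rw [hX x' hx'cl] at h1
    have : ((1 : ℕ∞) : WithBot ℕ∞) = (P'.asIdeal.height : WithBot ℕ∞) := by exact_mod_cast h1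
    exact (WithBot.coe_injective this).symm
  by_contra hne
  have hlt : P.asIdeal < P'.asIdeal := by
    refine lt_of_le_of_ne hle ?_
    intro h
    apply hne
    have h2 : P = P' := PrimeSpectrum.ext h
    have h3 := congrArg (fun q => hU.fromSpec.base q) h2
    simp only [hP, hP', hU.fromSpec_primeIdealOf] at h3
    exact h3
  haveI : P'.asIdeal.FiniteHeight := by
    rw [Ideal.finiteHeight_iff]
    right
    rw [hht]; exact ENat.one_ne_top
  have h4 := Ideal.height_strict_mono_of_isPrime_of_isPrime hlt
  rw [hht, ENat.lt_one_iff_eq_zero, Ideal.height_eq_zero_iff_eq_bot] at h4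
  apply hx
  have h5 : hU.primeIdealOf ⟨genericPoint X, hξU⟩ = P := by
    rw [hU.primeIdealOf_genericPoint, genericPoint_eq_bot_of_affine]
    exact (PrimeSpectrum.ext h4).symm
  have h6 := congrArg (fun q => hU.fromSpec.base q) h5
  simp only [hP, hU.fromSpec_primeIdealOf] at h6
  exact h6.symm

/-- a Noetherian integrally closed local domain of dimension one is a discrete valuation ring -/
theorem isDVR_of_dim_one (R : Type*) [CommRing R] [IsDomain R] [IsLocalRing R] [IsNoetherianRing R]
    [IsIntegrallyClosed R] (h : ringKrullDim R = 1) : IsDiscreteValuationRing R := by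
  have h1 := ringKrullDim_eq_one_iff_of_isLocalRing_isDomain.1 h
  have hnf : ¬ IsField R := h1.1
  have hdim : Ring.KrullDimLE 1 R := Ring.krullDimLE_iff.mpr (by rw [h]; rfl)
  have h3 : IsIntegrallyClosed R ∧ ∃! P : Ideal R, P ≠ ⊥ ∧ P.IsPrime := by
    refine ⟨inferInstance, maximalIdeal R, ⟨?_, inferInstance⟩, ?_⟩
    · exact isField_iff_maximalIdeal_eq.not.mp hnf
    · rintro P ⟨hP0, hPp⟩
      exact IsLocalRing.eq_maximalIdeal
        (Ring.krullDimLE_one_iff_of_noZeroDivisors.mp hdim P hP0 hPp)
  exact ((IsDiscreteValuationRing.TFAE R hnf).out 3 0).1 h3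

/-- the ring-level content of a lift `Spec A ⟶ X` of `Spec L ⟶ X` -/
theorem triangle_ring {X : Scheme.{u}} (A : Type u) [CommRing A] [IsDomain A]
    [IsLocalRing A] (L : Type u) [Field L] [Algebra A L]
    (x : Spec (CommRingCat.of L) ⟶ X) (l : Spec (CommRingCat.of A) ⟶ X)
    (hxl : x = Spec.map (CommRingCat.ofHom (algebraMap A L)) ≫ l)
    (hsp : x (closedPoint L) ⤳ l (closedPoint A)) :
    X.presheaf.stalkSpecializes hsp ≫ Scheme.stalkClosedPointTo x =
      Scheme.stalkClosedPointTo l ≫ CommRingCat.ofHom (algebraMap A L) := by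
  rw [← Spec.map_inj, ← cancel_mono (X.fromSpecStalk (l (closedPoint A)))]
  simp only [Spec.map_comp, Category.assoc]
  rw [Scheme.SpecMap_stalkSpecializes_fromSpecStalk hsp,
    Scheme.Spec_stalkClosedPointTo_fromSpecStalk, Scheme.Spec_stalkClosedPointTo_fromSpecStalk,
    hxl]

/-- **Centres on a proper integral scheme over a field.** -/
theorem exists_center_of_proper (k : Type u) [Field k] (X : Scheme.{u})
    [X.Over (Spec (CommRingCat.of k))] [IsProper (X ↘ (Spec (CommRingCat.of k)))] [IsIntegral X]
    (R : ValuationSubring X.functionField)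
    (hk : ∀ c : k, Curv2.stalkMap k X (genericPoint X) c ∈ R) :
    ∃ x : X, Dom R x (algebraMap (X.presheaf.stalk x) X.functionField) := by
  let f := X ↘ (Spec (CommRingCat.of k))
  let ι : k →+* R := (Curv2.stalkMap k X (genericPoint X)).codRestrict R.toSubring hk
  have hsq : X.fromSpecStalk (genericPoint X) ≫ f =
      Spec.map (CommRingCat.ofHom (algebraMap R X.functionField)) ≫
        Spec.map (CommRingCat.ofHom ι) := by
    have h1 : f = X.toSpecΓ ≫ Spec.map f.appTop ≫
        Spec.map (Scheme.ΓSpecIso (CommRingCat.of k)).inv := by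
      rw [← Scheme.toSpecΓ_naturality_assoc, toSpecΓ_SpecMap_ΓSpecIso_inv, Category.comp_id]
    rw [h1, Scheme.fromSpecStalk_toSpecΓ_assoc, ← Spec.map_comp, ← Spec.map_comp, ← Spec.map_comp]
    rfl
  have hv : ValuativeCriterion f := by
    have : IsProper f := inferInstance
    rw [IsProper.eq_valuativeCriterion] at this
    exact this.1.1.1
  let S : ValuativeCommSq f :=
    { R := R, K := X.functionField, i₁ := X.fromSpecStalk (genericPoint X),
      i₂ := Spec.map (CommRingCat.ofHom ι), commSq := ⟨hsq⟩ }
  obtain ⟨⟨l, hl1, hl2⟩⟩ := (hv.existence S).exists_lift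
  have hl1' : X.fromSpecStalk (genericPoint X) =
      Spec.map (CommRingCat.ofHom (algebraMap R X.functionField)) ≫ l := hl1.symm
  have hsp : (X.fromSpecStalk (genericPoint X)) (closedPoint X.functionField) ⤳
      l (closedPoint R) := by
    rw [Scheme.fromSpecStalk_closedPoint]
    exact (genericPoint_spec X).specializes trivial
  have hsq2 := triangle_ring R X.functionField (X.fromSpecStalk (genericPoint X)) l hl1' hsp
  rw [Scheme.stalkClosedPointTo_fromSpecStalk, TopCat.Presheaf.stalkCongr_hom,
    TopCat.Presheaf.stalkSpecializes_comp] at hsq2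
  have hψ : ∀ a : X.presheaf.stalk (l (closedPoint R)),
      algebraMap (X.presheaf.stalk (l (closedPoint R))) X.functionField a =
        ((Scheme.stalkClosedPointTo l).hom a : X.functionField) := by
    intro a
    exact congrArg (fun g => g.hom a) hsq2
  haveI hloc : IsLocalHom (Scheme.stalkClosedPointTo l).hom :=
    Scheme.isLocalHom_stalkClosedPointTo' l
  refine ⟨l (closedPoint R), fun a => ?_, fun a ha => ?_⟩
  · rw [hψ]; exact ((Scheme.stalkClosedPointTo l).hom a).2
  · rw [hψ]
    apply (R.valuation_lt_one_iff _).1
    rw [mem_maximalIdeal]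
    intro hu
    exact (mem_maximalIdeal _).1 ha (hloc.map_nonunit a hu)

/-- a valuation subring dominating a local ring of `X` which is a valuation ring equals it -/
theorem eq_range_of_dom {X : Scheme.{u}} [IsIntegral X] (R : ValuationSubring X.functionField)
    (x : X) [ValuationRing (X.presheaf.stalk x)]
    (hx : Dom R x (algebraMap (X.presheaf.stalk x) X.functionField)) :
    (R : Set X.functionField) =
      Set.range (algebraMap (X.presheaf.stalk x) X.functionField) := by
  apply Set.Subset.antisymm
  · intro z hz
    by_contra hnr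
    rcases ValuationRing.isInteger_or_isInteger (X.presheaf.stalk x) z with ⟨a, ha⟩ | ⟨a, ha⟩
    · exact hnr ⟨a, ha⟩
    · have hz0 : z ≠ 0 := by
        rintro rfl
        exact hnr ⟨0, map_zero _⟩
      have hnu : ¬ IsUnit a := by
        intro hu
        obtain ⟨b, hb⟩ := hu.exists_right_inv
        apply hnr
        refine ⟨b, ?_⟩
        have h1 : algebraMap (X.presheaf.stalk x) X.functionField a *
            algebraMap (X.presheaf.stalk x) X.functionField b = 1 := by
          rw [← map_mul, hb, map_one]
        rw [ha] at h1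
        have h2 := eq_inv_of_mul_eq_one_right h1
        rw [inv_inv] at h2
        exact h2
      have h3 := hx.2 a ((mem_maximalIdeal _).2 hnu)
      rw [ha] at h3
      have h4 : R.valuation z ≤ 1 := (R.valuation_le_one_iff _).2 hz
      have h5 : R.valuation z * R.valuation z⁻¹ < 1 := by
        calc _ ≤ 1 * R.valuation z⁻¹ := by gcongr
          _ < 1 := by rw [one_mul]; exact h3
      rw [← map_mul, mul_inv_cancel₀ hz0, map_one] at h5
      exact lt_irrefl _ h5
  · rintro _ ⟨a, rfl⟩
    exact hx.1 a

/-- conversely, a valuation subring which equals a local ring dominates it -/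
theorem dom_of_eq_range {X : Scheme.{u}} [IsIntegral X] (R : ValuationSubring X.functionField)
    (x : X) (h : (R : Set X.functionField) =
      Set.range (algebraMap (X.presheaf.stalk x) X.functionField)) :
    Dom R x (algebraMap (X.presheaf.stalk x) X.functionField) := by
  have hinj : Function.Injective (algebraMap (X.presheaf.stalk x) X.functionField) :=
    IsFractionRing.injective _ _
  refine ⟨fun a => ?_, fun a ha => ?_⟩
  · have : algebraMap (X.presheaf.stalk x) X.functionField a ∈ (R : Set X.functionField) := by
      rw [h]; exact ⟨a, rfl⟩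
    exact this
  · rw [← ValuationSubring.mem_nonunits_iff, ValuationSubring.mem_nonunits_iff_or]
    by_cases h0 : algebraMap (X.presheaf.stalk x) X.functionField a = 0
    · exact Or.inl h0
    right
    intro hinv
    have h1 : (algebraMap (X.presheaf.stalk x) X.functionField a)⁻¹ ∈
        (R : Set X.functionField) := hinv
    rw [h] at h1
    obtain ⟨b, hb⟩ := h1
    have h2 : algebraMap (X.presheaf.stalk x) X.functionField (a * b) = 1 := by
      rw [map_mul, hb, mul_inv_cancel₀ h0]
    have h3 : a * b = 1 := hinj (by rw [h2, map_one])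
    exact (mem_maximalIdeal _).1 ha (IsUnit.of_mul_eq_one _ h3)

/-- S4451 -/
theorem s4451 (k : Type u) [Field k] (X : Scheme.{u})
    [X.Over (Spec (CommRingCat.of k))] [IsProper (X ↘ (Spec (CommRingCat.of k)))] [IsIntegral X]
    (hX : ∀ x : X, IsClosed ({x} : Set X) → ringKrullDim (X.presheaf.stalk x) = 1)
    (hnorm : ∀ x : X, IsDomain (X.presheaf.stalk x) ∧ IsIntegrallyClosed (X.presheaf.stalk x)) :
    (∀ x : X, x ≠ genericPoint X → ∃ R : ValuationSubring X.functionField, R ≠ ⊤ ∧
        (R : Set X.functionField) =
          Set.range (algebraMap (X.presheaf.stalk x) X.functionField)) ∧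
      ∀ R : ValuationSubring X.functionField, R ≠ ⊤ →
        (∀ c : k, Curv2.stalkMap k X (genericPoint X) c ∈ R) →
        ∃! x : X, (R : Set X.functionField) =
          Set.range (algebraMap (X.presheaf.stalk x) X.functionField) := by
  haveI : IsLocallyNoetherian X :=
    LocallyOfFiniteType.isLocallyNoetherian (X ↘ (Spec (CommRingCat.of k)))
  haveI : JacobsonSpace X := LocallyOfFiniteType.jacobsonSpace (X ↘ (Spec (CommRingCat.of k)))
  haveI : X.IsSeparated := by
    constructor
    have : terminal.from X = (X ↘ (Spec (CommRingCat.of k))) ≫ terminal.from _ :=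
      (terminal.comp_from _).symm
    rw [this]; infer_instance
  have hdvr : ∀ x : X, x ≠ genericPoint X → IsDiscreteValuationRing (X.presheaf.stalk x) := by
    intro x hx
    haveI := (hnorm x).2
    exact isDVR_of_dim_one _ (hX x (isClosed_of_ne_genericPoint hX x hx))
  constructor
  · intro x hx
    haveI := hdvr x hx
    refine ⟨ofValuationRing (X.presheaf.stalk x) X.functionField, ?_, rfl⟩
    intro htop
    have hsurj : Function.Surjective (algebraMap (X.presheaf.stalk x) X.functionField) := by
      intro z
      have : z ∈ ofValuationRing (X.presheaf.stalk x) X.functionField := by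
        rw [htop]; exact ValuationSubring.mem_top _
      exact this
    have hbij : Function.Bijective (algebraMap (X.presheaf.stalk x) X.functionField) :=
      ⟨IsFractionRing.injective _ _, hsurj⟩
    have hfield : IsField (X.presheaf.stalk x) :=
      (RingEquiv.ofBijective _ hbij).toMulEquiv.isField (Field.toIsField X.functionField)
    exact IsDiscreteValuationRing.not_isField _ hfield
  · intro R hR hk
    obtain ⟨x, hx⟩ := exists_center_of_proper k X R hk
    have hxξ : x ≠ genericPoint X := by
      intro h
      subst h
      apply hR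
      rw [eq_top_iff]
      intro z _
      have h1 := hx.1 z
      have h1' : (X.presheaf.stalkSpecializes
          ((genericPoint_spec X).specializes trivial : genericPoint X ⤳ genericPoint X)).hom z ∈ R :=
        h1
      have h2 : (X.presheaf.stalkSpecializes
          ((genericPoint_spec X).specializes trivial : genericPoint X ⤳ genericPoint X)).hom z
          = z := by
        have := TopCat.Presheaf.stalkSpecializes_refl X.presheaf (genericPoint X)
        exact congrArg (fun g => g.hom z) this
      rw [h2] at h1'
      exact h1'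
    haveI := hdvr x hxξ
    refine ⟨x, eq_range_of_dom R x hx, ?_⟩
    intro x' hx'
    have hd' := dom_of_eq_range R x' hx'
    exact hd'.unique hx (by rw [specMap_algebraMap, specMap_algebraMap])

end Groth.Agent.Helper5.CurveVal
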