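import Mathlib

set_option autoImplicit false
universe u v

namespace Groth.Agent.Helper5.InvConn
open Pointwise TopologicalSpace

/-- In a Noetherian space connected components are open. -/
theorem isOpen_connectedComponent_of_noetherian {X : Type*} [TopologicalSpace X]
    [NoetherianSpace X] (x : X) : IsOpen (connectedComponent x) := by
  rw [← isClosed_compl_iff]
  have h : (connectedComponent x)ᶜ =
      ⋃ Z ∈ {Z ∈ irreducibleComponents X | Disjoint Z (connectedComponent x)}, Z := by
    ext z
    simp only [Set.mem_compl_iff, Set.mem_ofPred_eq, Set.mem_iUnion, exists_prop]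
    constructor
    · intro hz
      refine ⟨irreducibleComponent z, ⟨irreducibleComponent_mem_irreducibleComponents z, ?_⟩,
        mem_irreducibleComponent⟩
      rw [Set.disjoint_iff]
      rintro w ⟨hw1, hw2⟩
      apply hz
      have hsub : irreducibleComponent z ⊆ connectedComponent w :=
        (isIrreducible_irreducibleComponent.isPreirreducible.isPreconnected).subset_connectedComponent
          hw1
      rw [connectedComponent_eq hw2]
      exact hsub mem_irreducibleComponent
    · rintro ⟨Z, ⟨_, hdisj⟩, hzZ⟩ hz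
      exact Set.disjoint_iff.mp hdisj ⟨hzZ, hz⟩
  rw [h]
  exact (NoetherianSpace.finite_irreducibleComponents.subset (fun Z hZ => hZ.1)).isClosed_biUnion
    fun Z hZ => isClosed_of_mem_irreducibleComponents Z hZ.1

theorem main
    (A : Type u) (R : Type v) [CommRing A] [CommRing R] [Algebra A R] [IsNoetherianRing R]
    (G : Type u) [Group G] [Finite G] [MulSemiringAction G R] [SMulCommClass G A R]
    [Algebra.IsInvariant A R G] [FaithfulSMul A R]
    [ConnectedSpace (PrimeSpectrum A)] (x y : PrimeSpectrum R) :
    ∃ g : G, PrimeSpectrum.comap (MulSemiringAction.toRingHom G R g) '' connectedComponent x =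
      connectedComponent y := by
  have hint : Algebra.IsIntegral A R := Algebra.IsInvariant.isIntegral A R G
  obtain ⟨φ, hφ⟩ : ∃ φ : G → PrimeSpectrum R → PrimeSpectrum R,
      φ = fun g => PrimeSpectrum.comap (MulSemiringAction.toRingHom G R g) := ⟨_, rfl⟩
  obtain ⟨π, hπ⟩ : ∃ π : PrimeSpectrum R → PrimeSpectrum A,
      π = PrimeSpectrum.comap (algebraMap A R) := ⟨_, rfl⟩
  have hφcont : ∀ g, Continuous (φ g) := fun g => by
    rw [hφ]; exact PrimeSpectrum.continuous_comap _
  have hφmul : ∀ g h z, φ g (φ h z) = φ (h * g) z := by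
    intro g h z
    rw [hφ]
    simp only
    rw [← PrimeSpectrum.comap_comp_apply]
    congr 1
    ext r
    simp [mul_smul]
  have hφone : ∀ z, φ 1 z = z := by
    intro z
    rw [hφ]
    apply PrimeSpectrum.ext
    ext r
    simp
  have hπφ : ∀ g z, π (φ g z) = π z := by
    intro g z
    rw [hφ, hπ]
    simp only
    rw [← PrimeSpectrum.comap_comp_apply]
    congr 1
    ext a
    simp [smul_algebraMap]
  have hπclosed : IsClosedMap π := by
    rw [hπ]
    exact PrimeSpectrum.isClosedMap_comap_of_isIntegral _ (algebraMap_isIntegral_iff.mpr hint)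
  have hπsurj : Function.Surjective π := by
    rw [hπ]; exact Algebra.IsIntegral.comap_surjective A R
  have hfib : ∀ z w, π z = π w → ∃ g, w = φ g z := by
    intro z w hzw
    have hunder : z.asIdeal.under A = w.asIdeal.under A := by
      have := congrArg PrimeSpectrum.asIdeal hzw
      rw [hπ] at this
      exact this
    obtain ⟨g, hg⟩ := Algebra.IsInvariant.exists_smul_of_under_eq A R G z.asIdeal w.asIdeal hunder
    refine ⟨g⁻¹, PrimeSpectrum.ext ?_⟩
    rw [hφ]
    simp only [PrimeSpectrum.comap_asIdeal]
    rw [hg]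
    ext r
    rw [Ideal.mem_comap, Ideal.mem_pointwise_smul_iff_inv_smul_mem]
    rfl
  -- the saturated clopen set
  obtain ⟨U, hU⟩ : ∃ U : Set (PrimeSpectrum R), U = ⋃ g : G, φ g '' connectedComponent x :=
    ⟨_, rfl⟩
  have hφimg : ∀ g, φ g '' connectedComponent x = connectedComponent (φ g x) := by
    intro g
    apply Set.Subset.antisymm
    · exact (isPreconnected_connectedComponent.image _ (hφcont g).continuousOn).subset_connectedComponent
        ⟨x, mem_connectedComponent, rfl⟩
    · intro w hw
      refine ⟨φ g⁻¹ w, ?_, ?_⟩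
      · have h1 : φ g⁻¹ '' connectedComponent (φ g x) ⊆ connectedComponent (φ g⁻¹ (φ g x)) :=
          (isPreconnected_connectedComponent.image _
            (hφcont g⁻¹).continuousOn).subset_connectedComponent
            ⟨φ g x, mem_connectedComponent, rfl⟩
        rw [hφmul, mul_inv_cancel, hφone] at h1
        exact h1 ⟨w, hw, rfl⟩
      · rw [hφmul, inv_mul_cancel, hφone]
  have hUclosed : IsClosed U := by
    rw [hU]
    have : Finite G := inferInstance
    apply isClosed_iUnion_of_finite
    intro g
    rw [hφimg]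
    exact isClosed_connectedComponent
  have hUopen : IsOpen U := by
    rw [hU]
    apply isOpen_iUnion
    intro g
    rw [hφimg]
    exact isOpen_connectedComponent_of_noetherian _
  have hUstable : ∀ g z, z ∈ U → φ g z ∈ U := by
    intro g z hz
    rw [hU, Set.mem_iUnion] at hz ⊢
    obtain ⟨h, c, hc, rfl⟩ := hz
    exact ⟨h * g, c, hc, (hφmul g h c).symm⟩
  have hclopen : IsClopen (π '' U) := by
    refine ⟨hπclosed U hUclosed, ?_⟩
    rw [← isClosed_compl_iff]
    have : (π '' U)ᶜ = π '' Uᶜ := by
      ext a
      constructor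
      · intro ha
        obtain ⟨z, rfl⟩ := hπsurj a
        exact ⟨z, fun hz => ha ⟨z, hz, rfl⟩, rfl⟩
      · rintro ⟨z, hz, rfl⟩ ⟨w, hw, hwz⟩
        obtain ⟨g, rfl⟩ := hfib w z hwz
        exact hz (hUstable g w hw)
    rw [this]
    exact hπclosed _ hUopen.isClosed_compl
  have hxU : x ∈ U := by
    rw [hU, Set.mem_iUnion]
    exact ⟨1, x, mem_connectedComponent, hφone x⟩
  have huniv : π '' U = Set.univ := hclopen.eq_univ ⟨π x, x, hxU, rfl⟩
  have hyU : y ∈ U := by
    have : π y ∈ π '' U := by rw [huniv]; trivial
    obtain ⟨z, hz, hzy⟩ := this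
    obtain ⟨g, rfl⟩ := hfib z y hzy
    exact hUstable g z hz
  rw [hU, Set.mem_iUnion] at hyU
  obtain ⟨g, hg⟩ := hyU
  refine ⟨g, ?_⟩
  have h2 : φ g '' connectedComponent x = connectedComponent y := by
    rw [hφimg] at hg ⊢
    exact connectedComponent_eq hg
  rw [hφ] at h2
  exact h2

end Groth.Agent.Helper5.InvConn
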