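import Mathlib
import Groth.Agent.Helper5.GenLift1

set_option autoImplicit false
universe u

namespace Groth.Agent.Helper5.GenLift

open CategoryTheory CategoryTheory.Limits AlgebraicGeometry TopologicalSpace

/-- lifting a generization through a test scheme all of whose fibre-product components dominate -/
lemma exists_generization {X Y : Scheme.{u}} (f : X ⟶ Y) {S T : Scheme.{u}} (π : S ⟶ Y)
    (φ : T ⟶ S) (x : ↥(pullback f π)) (t₀ t₁ : T) (ht₁ : closure {t₁} = Set.univ)
    (h0 : φ t₀ = pullback.snd f π x)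
    (hdom : ∀ Z ∈ irreducibleComponents ↥(pullback f (φ ≫ π)),
      Dense ((pullback.snd f (φ ≫ π)) '' Z)) :
    ∃ x₁ : ↥(pullback f π), x₁ ⤳ x ∧ pullback.snd f π x₁ = φ t₁ := by
  let ρ : pullback f (φ ≫ π) ⟶ pullback f π :=
    pullback.lift (pullback.fst _ _) (pullback.snd _ _ ≫ φ)
      (by rw [pullback.condition, Category.assoc])
  have hρ2 : ρ ≫ pullback.snd f π = pullback.snd f (φ ≫ π) ≫ φ := pullback.lift_snd _ _ _
  have sq : IsPullback ρ (pullback.snd f (φ ≫ π)) (pullback.snd f π) φ := by
    refine IsPullback.of_right ?_ hρ2 (IsPullback.of_hasPullback f π)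
    rw [pullback.lift_fst]
    exact IsPullback.of_hasPullback f (φ ≫ π)
  obtain ⟨x', hx'1, hx'2⟩ := Scheme.exists_preimage_of_isPullback sq x t₀ h0.symm
  obtain ⟨ζ, hζ⟩ := QuasiSober.sober (isIrreducible_irreducibleComponent (x := x'))
    isClosed_irreducibleComponent
  have hζx' : ζ ⤳ x' := by
    rw [specializes_iff_mem_closure, hζ.def]
    exact mem_irreducibleComponent
  have hd := hdom _ (irreducibleComponent_mem_irreducibleComponents x')
  have h1 : closure {pullback.snd f (φ ≫ π) ζ} = Set.univ := by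
    rw [Set.eq_univ_iff_forall]
    intro t
    have : t ∈ closure (pullback.snd f (φ ≫ π) '' irreducibleComponent x') := hd t
    rw [← hζ.def] at this
    have h2 := image_closure_subset_closure_image (s := {ζ})
      (pullback.snd f (φ ≫ π)).continuous
    rw [Set.image_singleton] at h2
    exact closure_minimal h2 isClosed_closure this
  have h3 : pullback.snd f (φ ≫ π) ζ = t₁ :=
    IsGenericPoint.eq (S := Set.univ) h1 ht₁
  refine ⟨ρ ζ, ?_, ?_⟩
  · rw [← hx'1]
    exact hζx'.map ρ.continuous
  · rw [← Scheme.Hom.comp_apply, hρ2, Scheme.Hom.comp_apply, h3]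

end Groth.Agent.Helper5.GenLift
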