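import Mathlib
import Groth.Agent.Helper5.Dvr

set_option autoImplicit false
set_option linter.style.haveILetI false
set_option linter.unnecessarySimpa false

namespace Groth.Agent.Helper5.VF

open TensorProduct IsLocalRing

universe u

/-- core: relations among lifts of a residue basis die in any local flat base change -/
theorem algebraMap_eq_zero_of_sum_eq_zero {A : Type u} [CommRing A] [IsLocalRing A]
    {M : Type u} [AddCommGroup M] [Module A M] [Module.Finite A M]
    {ι : Type u} [Fintype ι] (b : Module.Basis ι (ResidueField A) (ResidueField A ⊗[A] M))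
    (v : ι → M) (hv : ∀ i, (1 : ResidueField A) ⊗ₜ[A] v i = b i)
    (B : Type u) [CommRing B] [IsLocalRing B] [Algebra A B] [IsLocalHom (algebraMap A B)]
    [Module.Flat B (B ⊗[A] M)]
    (g : ι → A) (hg : ∑ i, g i • v i = 0) : ∀ i, algebraMap A B (g i) = 0 := by
  classical
  -- the family `w i = 1 ⊗ v i` in `B ⊗ M`
  let w : ι → B ⊗[A] M := fun i => (1 : B) ⊗ₜ[A] v i
  -- linear independence of the images in the residue fibre
  let e₁ : ResidueField B ⊗[ResidueField A] (ResidueField A ⊗[A] M) ≃ₗ[ResidueField B]
      ResidueField B ⊗[A] M :=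
    AlgebraTensorModule.cancelBaseChange A (ResidueField A) (ResidueField B) (ResidueField B) M
  let e₂ : ResidueField B ⊗[B] (B ⊗[A] M) ≃ₗ[ResidueField B] ResidueField B ⊗[A] M :=
    AlgebraTensorModule.cancelBaseChange A B (ResidueField B) (ResidueField B) M
  have hli0 : LinearIndependent (ResidueField B) (b.baseChange (ResidueField B)) :=
    (b.baseChange (ResidueField B)).linearIndependent
  have hli1 : LinearIndependent (ResidueField B)
      ((e₁.trans e₂.symm) ∘ (b.baseChange (ResidueField B))) :=
    hli0.map' (e₁.trans e₂.symm).toLinearMap (LinearEquiv.ker _)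
  have hfun : ((e₁.trans e₂.symm) ∘ (b.baseChange (ResidueField B))) =
      (TensorProduct.mk B (ResidueField B) (B ⊗[A] M) 1 ∘ w) := by
    funext i
    simp only [Function.comp_apply, Module.Basis.baseChange_apply, LinearEquiv.trans_apply, ← hv i]
    simp [e₁, e₂, w]
  rw [hfun] at hli1
  have hli : LinearIndependent B w := Module.IsLocalRing.linearIndependent_of_flat w hli1
  have hsum : ∑ i, algebraMap A B (g i) • w i = 0 := by
    have : ∑ i, algebraMap A B (g i) • w i = (1 : B) ⊗ₜ[A] (∑ i, g i • v i) := by
      rw [tmul_sum]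
      refine Finset.sum_congr rfl fun i _ => ?_
      simp only [w]
      rw [algebraMap_smul, tmul_smul]
    rw [this, hg, tmul_zero]
  exact Fintype.linearIndependent_iff.1 hli _ hsum

/-- for a non-maximal prime `p` of a Noetherian local ring, a DVR receiving a local map from `A`
with kernel `p`. -/
theorem exists_dvr_of_prime {A : Type u} [CommRing A] [IsNoetherianRing A] [IsLocalRing A]
    (p : Ideal A) [hp : p.IsPrime] (hpm : p ≠ maximalIdeal A) :
    ∃ (B : Type u) (_ : CommRing B) (_ : IsDomain B) (_ : IsDiscreteValuationRing B)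
      (_ : Algebra A B), IsLocalHom (algebraMap A B) ∧ RingHom.ker (algebraMap A B) = p := by
  classical
  have hinj : Function.Injective (algebraMap (A ⧸ p) (FractionRing (A ⧸ p))) :=
    IsFractionRing.injective _ _
  have hcl : Subfield.closure (Set.range (algebraMap (A ⧸ p) (FractionRing (A ⧸ p))) ∪
      ((∅ : Finset (FractionRing (A ⧸ p))) : Set (FractionRing (A ⧸ p)))) = ⊤ := by
    rw [eq_top_iff]
    intro z _
    obtain ⟨a, c, _, rfl⟩ := IsFractionRing.div_surjective (A := A ⧸ p) z
    exact div_mem (Subfield.subset_closure (Or.inl ⟨a, rfl⟩))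
      (Subfield.subset_closure (Or.inl ⟨c, rfl⟩))
  have hple : p ≤ maximalIdeal A := IsLocalRing.le_maximalIdeal hp.ne_top
  have hPtop : (maximalIdeal A).map (Ideal.Quotient.mk p) ≠ ⊤ := by
    intro h
    have h1 : (1 : A ⧸ p) ∈ (maximalIdeal A).map (Ideal.Quotient.mk p) := by rw [h]; trivial
    obtain ⟨a, ha, ha1⟩ := (Ideal.mem_map_iff_of_surjective _ Ideal.Quotient.mk_surjective).1 h1
    have h2 : a - 1 ∈ p := by
      rw [← Ideal.Quotient.eq_zero_iff_mem, map_sub, ha1, map_one, sub_self]
    have h3 : (1 : A) ∈ maximalIdeal A := by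
      have := (maximalIdeal A).sub_mem ha (hple h2)
      simpa using this
    exact (maximalIdeal.isMaximal A).ne_top ((Ideal.eq_top_iff_one _).2 h3)
  have hPbot : (maximalIdeal A).map (Ideal.Quotient.mk p) ≠ ⊥ := by
    intro h
    apply hpm
    refine le_antisymm hple ?_
    intro a ha
    have h1 : Ideal.Quotient.mk p a ∈ (maximalIdeal A).map (Ideal.Quotient.mk p) :=
      Ideal.mem_map_of_mem _ ha
    rw [h, Ideal.mem_bot] at h1
    exact Ideal.Quotient.eq_zero_iff_mem.1 h1
  obtain ⟨O, hO, hcont, hlt⟩ := Groth.Agent.Helper5.Dvr.exists_dvr (A ⧸ p) (FractionRing (A ⧸ p))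
    hinj ∅ hcl _ hPtop hPbot
  let φ : A →+* O := ((algebraMap (A ⧸ p) (FractionRing (A ⧸ p))).comp
    (Ideal.Quotient.mk p)).codRestrict O.toSubring (fun a => hcont _)
  refine ⟨O, inferInstance, inferInstance, hO, φ.toAlgebra, ?_, ?_⟩
  · letI : Algebra A O := φ.toAlgebra
    refine ((IsLocalRing.local_hom_TFAE (algebraMap A O)).out 3 0).1 ?_
    intro a ha
    rw [Ideal.mem_comap, ValuationSubring.valuation_lt_one_iff]
    exact hlt _ (Ideal.mem_map_of_mem _ ha)
  · letI : Algebra A O := φ.toAlgebra
    ext a
    rw [RingHom.mem_ker]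
    constructor
    · intro h
      have h1 : algebraMap (A ⧸ p) (FractionRing (A ⧸ p)) (Ideal.Quotient.mk p a) = 0 :=
        congrArg Subtype.val h
      rw [map_eq_zero_iff _ hinj] at h1
      exact Ideal.Quotient.eq_zero_iff_mem.1 h1
    · intro h
      apply Subtype.ext
      change algebraMap (A ⧸ p) (FractionRing (A ⧸ p)) (Ideal.Quotient.mk p a) = 0
      rw [Ideal.Quotient.eq_zero_iff_mem.2 h, map_zero]

theorem flat_of_dvr_local {A : Type u} [CommRing A] [IsNoetherianRing A] [IsReduced A]
    [IsLocalRing A] (M : Type u) [AddCommGroup M] [Module A M] [Module.Finite A M]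
    (h : ∀ (B : Type u) [CommRing B] [IsDomain B] [IsDiscreteValuationRing B] [Algebra A B],
      Module.Flat B (B ⊗[A] M)) : Module.Flat A M := by
  classical
  by_cases hf : IsField A
  · letI := hf.toField
    infer_instance
  let b : Module.Basis (Module.Free.ChooseBasisIndex (ResidueField A) (ResidueField A ⊗[A] M))
      (ResidueField A) (ResidueField A ⊗[A] M) :=
    Module.Free.chooseBasis (ResidueField A) (ResidueField A ⊗[A] M)
  have hsurj : Function.Surjective (TensorProduct.mk A (ResidueField A) M 1) :=
    TensorProduct.mk_surjective A M (ResidueField A) IsLocalRing.residue_surjective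
  choose v hv using fun i => hsurj (b i)
  have hsp : Submodule.span A (Set.range v) = ⊤ :=
    IsLocalRing.span_eq_top_of_tmul_eq_basis v b hv
  have hli : LinearIndependent A v := by
    rw [Fintype.linearIndependent_iff]
    intro g hg i
    have hmem : ∀ p ∈ (⊥ : Ideal A).minimalPrimes, g i ∈ p := by
      intro p hp
      haveI : p.IsPrime := hp.1.1
      have hpm : p ≠ maximalIdeal A := by
        intro hpm
        apply hf
        rw [IsLocalRing.isField_iff_maximalIdeal_eq]
        have hle : maximalIdeal A ≤ nilradical A := by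
          rw [nilradical_eq_sInf]
          refine le_sInf fun q hq => ?_
          have hq' : q.IsPrime := hq
          have hqm : q ≤ p := hpm ▸ IsLocalRing.le_maximalIdeal hq'.ne_top
          exact hpm ▸ hp.2 ⟨hq', bot_le⟩ hqm
        rw [nilradical_eq_zero] at hle
        exact le_bot_iff.1 hle
      obtain ⟨B, _, _, _, _, hloc, hker⟩ := exists_dvr_of_prime p hpm
      haveI := hloc
      haveI := h B
      have := algebraMap_eq_zero_of_sum_eq_zero b v hv B g hg i
      rw [← hker]
      exact this
    have h1 : g i ∈ sInf (⊥ : Ideal A).minimalPrimes := Ideal.mem_sInf.2 (fun {p} hp => hmem p hp)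
    rw [Ideal.sInf_minimalPrimes] at h1
    have h2 : (⊥ : Ideal A).radical = ⊥ := by
      have := nilradical_eq_zero A
      rwa [nilradical] at this
    rw [h2] at h1
    exact h1
  haveI : Module.Free A M := Module.Free.of_basis (Module.Basis.mk hli hsp.ge)
  infer_instance

theorem flat_of_dvr {A : Type u} [CommRing A] [IsNoetherianRing A] [IsReduced A]
    (M : Type u) [AddCommGroup M] [Module A M] [Module.Finite A M]
    (h : ∀ (B : Type u) [CommRing B] [IsDomain B] [IsDiscreteValuationRing B] [Algebra A B],
      Module.Flat B (TensorProduct A B M)) : Module.Flat A M := by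
  apply Module.flat_of_localized_maximal
  intro P hP
  haveI : IsNoetherianRing (Localization.AtPrime P) :=
    IsLocalization.isNoetherianRing P.primeCompl _ inferInstance
  haveI : Module.Flat (Localization.AtPrime P) (LocalizedModule P.primeCompl M) := by
    apply flat_of_dvr_local
    intro B _ _ _ _
    letI : Algebra A B :=
      ((algebraMap (Localization.AtPrime P) B).comp (algebraMap A (Localization.AtPrime P))).toAlgebra
    haveI : IsScalarTower A (Localization.AtPrime P) B :=
      IsScalarTower.of_algebraMap_eq (fun _ => rfl)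
    have hB := h B
    have hbc : IsBaseChange (Localization.AtPrime P) (LocalizedModule.mkLinearMap P.primeCompl M) :=
      IsLocalizedModule.isBaseChange P.primeCompl _ _
    let e₀ : Localization.AtPrime P ⊗[A] M ≃ₗ[Localization.AtPrime P]
        LocalizedModule P.primeCompl M := hbc.equiv
    let e : B ⊗[Localization.AtPrime P] (LocalizedModule P.primeCompl M) ≃ₗ[B] B ⊗[A] M :=
      (AlgebraTensorModule.congr (LinearEquiv.refl B B) e₀.symm).trans
        (AlgebraTensorModule.cancelBaseChange A (Localization.AtPrime P) B B M)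
    exact Module.Flat.of_linearEquiv e
  exact Module.Flat.trans A (Localization.AtPrime P) _

end Groth.Agent.Helper5.VF
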