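import Mathlib
import Groth.Agent.Helper5.GenLift2
import Groth.Agent.Helper5.AnOpen4
import Groth.Agent.Helper5.VF

set_option autoImplicit false
universe u

namespace Groth.Agent.Helper5.GenLift

open CategoryTheory CategoryTheory.Limits AlgebraicGeometry TopologicalSpace

theorem universallyOpen_of_generalizing {X Y : Scheme.{u}} (f : X ⟶ Y)
    [LocallyOfFinitePresentation f]
    (h : ∀ n : ℕ, GeneralizingMap (pullback.snd f (𝔸(ULift.{u} (Fin n); Y) ↘ Y))) :
    UniversallyOpen f :=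
  AnOpen.universallyOpen_of_hyp f fun n _ => isOpenMap_of_generalizingMap _ (h n)

/-- S2558 -/
theorem s2558 {X Y : Scheme.{u}} (f : X ⟶ Y) [LocallyOfFinitePresentation f]
    (h : ∀ (Y' : Scheme.{u}) (g : Y' ⟶ Y) [IrreducibleSpace Y'] [LocallyOfFiniteType g] [QuasiCompact g],
      ∀ Z ∈ irreducibleComponents (↥(pullback f g) : Type u), Dense ((pullback.snd f g).base '' Z)) :
    UniversallyOpen f := by
  refine universallyOpen_of_generalizing f fun n x y₁ hy₁ => ?_
  let S := 𝔸(ULift.{u} (Fin n); Y)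
  let I := Scheme.IdealSheafData.vanishingIdeal (X := S) ⟨closure {y₁}, isClosed_closure⟩
  let T := I.subscheme
  let φ : T ⟶ S := I.subschemeι
  have hr : Set.range φ = closure {y₁} := by
    rw [I.range_subschemeι, Scheme.IdealSheafData.coe_support_vanishingIdeal]
    rfl
  obtain ⟨t₁, ht₁⟩ : y₁ ∈ Set.range φ := hr ▸ subset_closure rfl
  obtain ⟨t₀, ht₀⟩ : pullback.snd f (S ↘ Y) x ∈ Set.range φ := hr ▸ hy₁.mem_closure
  have hgen : closure {t₁} = Set.univ := by
    have h1 := φ.isClosedEmbedding.closure_image_eq {t₁}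
    rw [Set.image_singleton, ht₁, ← hr, ← Set.image_univ] at h1
    exact (φ.isClosedEmbedding.injective.image_injective h1).symm
  have : IrreducibleSpace T := by
    rw [irreducibleSpace_def, Set.top_eq_univ, ← hgen]
    exact isIrreducible_singleton.closure
  obtain ⟨x₁, hx₁, hx₁'⟩ := exists_generization f (S ↘ Y) φ x t₀ t₁ hgen ht₀ (h T (φ ≫ (S ↘ Y)))
  exact ⟨x₁, hx₁, hx₁'.trans ht₁⟩

/-- a discrete valuation ring through a non-trivial specialization in a locally Noetherian
scheme -/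
lemma exists_dvr_spec (S : Scheme.{u}) [IsLocallyNoetherian S] (y₁ y₀ : S) (h : y₁ ⤳ y₀)
    (hne : y₁ ≠ y₀) :
    ∃ (A : Type u) (_ : CommRing A) (_ : IsDomain A) (_ : IsDiscreteValuationRing A)
      (φ : Spec (CommRingCat.of A) ⟶ S), φ (IsLocalRing.closedPoint A) = y₀ ∧
        φ (⟨⊥, Ideal.isPrime_bot⟩ : PrimeSpectrum A) = y₁ := by
  obtain ⟨p, hp⟩ : y₁ ∈ Set.range (S.fromSpecStalk y₀) := by
    rw [Scheme.range_fromSpecStalk]; exact h
  have hpm : p.asIdeal ≠ IsLocalRing.maximalIdeal (S.presheaf.stalk y₀) := by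
    intro hpm
    apply hne
    rw [← hp]
    have : p = IsLocalRing.closedPoint (S.presheaf.stalk y₀) := PrimeSpectrum.ext hpm
    rw [this, Scheme.fromSpecStalk_closedPoint]
  obtain ⟨B, _, _, _, _, hloc, hker⟩ := VF.exists_dvr_of_prime p.asIdeal hpm
  refine ⟨B, inferInstance, inferInstance, inferInstance,
    Spec.map (CommRingCat.ofHom (algebraMap (S.presheaf.stalk y₀) B)) ≫ S.fromSpecStalk y₀, ?_, ?_⟩
  · rw [Scheme.Hom.comp_apply]
    have : Spec.map (CommRingCat.ofHom (algebraMap (S.presheaf.stalk y₀) B))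
        (IsLocalRing.closedPoint B) = IsLocalRing.closedPoint (S.presheaf.stalk y₀) :=
      IsLocalRing.comap_closedPoint (algebraMap (S.presheaf.stalk y₀) B)
    rw [this, Scheme.fromSpecStalk_closedPoint]
  · rw [Scheme.Hom.comp_apply]
    have : Spec.map (CommRingCat.ofHom (algebraMap (S.presheaf.stalk y₀) B))
        (⟨⊥, Ideal.isPrime_bot⟩ : PrimeSpectrum B) = p := by
      apply PrimeSpectrum.ext
      rw [← hker]
      rfl
    rw [this, hp]

lemma closure_bot_eq_univ (A : Type u) [CommRing A] [IsDomain A] :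
    closure {(⟨⊥, Ideal.isPrime_bot⟩ : PrimeSpectrum A)} = Set.univ := by
  rw [PrimeSpectrum.closure_singleton]
  simp

/-- if a morphism is an open map and the target is irreducible with generic point `η`, every
irreducible component of the source dominates -/
lemma dense_image_of_isOpenMap {P T : Scheme.{u}} (q : P ⟶ T) (hq : IsOpenMap q) (η : T)
    (hη : closure {η} = Set.univ) (Z : Set P) (hZ : Z ∈ irreducibleComponents P) :
    Dense (q '' Z) := by
  have hgen := generalizingMap_of_isOpenMap q hq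
  obtain ⟨ζ, hζ⟩ := QuasiSober.sober hZ.1 (isClosed_of_mem_irreducibleComponents Z hZ)
  have h1 : η ⤳ q ζ := by
    rw [specializes_iff_mem_closure, hη]; trivial
  obtain ⟨ζ', hζ', hqζ'⟩ := hgen h1
  have h2 : Z ⊆ closure {ζ'} := by
    rw [← hζ.def]
    exact closure_minimal (Set.singleton_subset_iff.mpr hζ'.mem_closure) isClosed_closure
  have h3 : closure {ζ'} ⊆ Z := hZ.2 isIrreducible_singleton.closure h2
  have h4 : η ∈ q '' Z := ⟨ζ', h3 (subset_closure rfl), hqζ'⟩
  intro t
  have : closure {η} ⊆ closure (q '' Z) := closure_mono (Set.singleton_subset_iff.mpr h4)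
  exact this (hη ▸ Set.mem_univ t)

/-- S4931 -/
theorem s4931 {X Y : Scheme.{u}} [IsLocallyNoetherian Y] (f : X ⟶ Y) [LocallyOfFiniteType f] :
    UniversallyOpen f ↔
      ∀ (A : Type u) [CommRing A] [IsDomain A] [IsDiscreteValuationRing A]
        (g : Spec (CommRingCat.of A) ⟶ Y),
        ∀ Z ∈ irreducibleComponents (↥(pullback f g) : Type u),
          Dense ((pullback.snd f g).base '' Z) := by
  constructor
  · intro hf A _ _ _ g Z hZ
    exact dense_image_of_isOpenMap (pullback.snd f g) (pullback.snd f g).isOpenMap _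
      (closure_bot_eq_univ A) Z hZ
  · intro h
    have : LocallyOfFinitePresentation f :=
      LocallyOfFinitePresentation.iff_locallyOfFiniteType.mpr inferInstance
    refine universallyOpen_of_generalizing f fun n x y₁ hy₁ => ?_
    by_cases heq : y₁ = pullback.snd f (𝔸(ULift.{u} (Fin n); Y) ↘ Y) x
    · exact ⟨x, specializes_rfl, heq.symm⟩
    have : IsLocallyNoetherian 𝔸(ULift.{u} (Fin n); Y) :=
      LocallyOfFiniteType.isLocallyNoetherian (𝔸(ULift.{u} (Fin n); Y) ↘ Y)
    obtain ⟨A, _, _, _, φ, hφ0, hφ1⟩ := exists_dvr_spec 𝔸(ULift.{u} (Fin n); Y) y₁ _ hy₁ heq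
    obtain ⟨x₁, hx₁, hx₁'⟩ := exists_generization f (𝔸(ULift.{u} (Fin n); Y) ↘ Y) φ x
      (IsLocalRing.closedPoint A) ⟨⊥, Ideal.isPrime_bot⟩ (closure_bot_eq_univ A) hφ0
      (h A (φ ≫ (𝔸(ULift.{u} (Fin n); Y) ↘ Y)))
    exact ⟨x₁, hx₁, hx₁'.trans hφ1⟩

end Groth.Agent.Helper5.GenLift
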