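import Mathlib
import Groth.Agent.Helper5.SmNorm6
import Groth.Prelude

set_option autoImplicit false
set_option linter.unusedSectionVars false
set_option linter.style.haveILetI false
universe u

open AlgebraicGeometry CategoryTheory TopologicalSpace

namespace Groth.Agent.Helper5.ConnInt

/-- topological lemma: finitely many "generic points" with unique generization ⇒ irreducible -/
theorem irreducibleSpace_of_unique_generic {Y : Type*} [TopologicalSpace Y] [ConnectedSpace Y]
    (S : Set Y) (hS : S.Finite) (g : Y → Y) (hgS : ∀ y, g y ∈ S) (hg : ∀ y, g y ⤳ y)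
    (huniq : ∀ y, ∀ s ∈ S, s ⤳ y → s = g y) : IrreducibleSpace Y := by
  obtain ⟨y₀⟩ := (inferInstance : Nonempty Y)
  have hcl : IsClopen (closure {g y₀}) := by
    refine ⟨isClosed_closure, ?_⟩
    have hcompl : (closure {g y₀})ᶜ = ⋃ s ∈ S \ {g y₀}, closure {s} := by
      ext y
      simp only [Set.mem_compl_iff, Set.mem_iUnion, exists_prop, Set.mem_diff,
        Set.mem_singleton_iff, ← specializes_iff_mem_closure]
      constructor
      · intro hy
        refine ⟨g y, ⟨hgS y, ?_⟩, hg y⟩
        intro h
        exact hy (h ▸ hg y)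
      · rintro ⟨s, ⟨hs, hne⟩, hsy⟩ hy
        exact hne ((huniq y s hs hsy).trans (huniq y _ (hgS y₀) hy).symm)
    rw [← isClosed_compl_iff, hcompl]
    exact (hS.subset Set.diff_subset).isClosed_biUnion fun _ _ => isClosed_closure
  have huniv : closure {g y₀} = Set.univ :=
    hcl.eq_univ ⟨g y₀, subset_closure rfl⟩
  rw [irreducibleSpace_def]
  have : (⊤ : Set Y) = closure {g y₀} := huniv.symm
  rw [this]
  exact isIrreducible_singleton.closure

/-- on an integral scheme the zero ideal of a stalk maps to the generic point -/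
theorem fromSpecStalk_bot {X : Scheme.{u}} [IsIntegral X] (x : X) :
    X.fromSpecStalk x ⟨⊥, Ideal.isPrime_bot⟩ = genericPoint X := by
  have hη : genericPoint X ⤳ x := (genericPoint_spec X).specializes trivial
  have : genericPoint X ∈ Set.range (X.fromSpecStalk x) := by
    rw [Scheme.range_fromSpecStalk]; exact hη
  obtain ⟨P, hP⟩ := this
  have h1 : (⟨⊥, Ideal.isPrime_bot⟩ : PrimeSpectrum (X.presheaf.stalk x)) ⤳ P := by
    rw [← PrimeSpectrum.le_iff_specializes]
    exact bot_le (a := P.asIdeal)
  have h2 := h1.map (X.fromSpecStalk x).continuous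
  rw [hP] at h2
  exact (h2.antisymm ((genericPoint_spec X).specializes trivial)).eq

end Groth.Agent.Helper5.ConnInt

namespace Groth.Agent.Helper5.ConnInt

theorem stalkMap_injective_of_flat {X Y : Scheme.{u}} (π : Y ⟶ X) [Flat π] (y : Y) :
    Function.Injective (π.stalkMap y).hom := by
  algebraize [(π.stalkMap y).hom]
  haveI : Module.FaithfullyFlat (X.presheaf.stalk (π y)) (Y.presheaf.stalk y) :=
    @Module.FaithfullyFlat.of_flat_of_isLocalHom _ _ _ _ _ _ _
      (Flat.stalkMap π y) (π.toLRSHom.prop y)
  exact FaithfulSMul.algebraMap_injective (X.presheaf.stalk (π y)) (Y.presheaf.stalk y)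

/-- a connected scheme, flat and quasi-finite over an integral scheme, with domain stalks,
is integral -/
theorem isIntegral_of_connected {X Y : Scheme.{u}} (π : Y ⟶ X) [Flat π] [LocallyQuasiFinite π]
    [QuasiCompact π] [IsIntegral X] [ConnectedSpace Y]
    (hY : ∀ y : Y, IsDomain (Y.presheaf.stalk y)) : IsIntegral Y := by
  haveI : IsReduced Y := by
    haveI : ∀ y : Y, _root_.IsReduced (Y.presheaf.stalk y) := fun y => by
      haveI := hY y; infer_instance
    exact isReduced_of_isReduced_stalk Y
  let bot : ∀ y : Y, PrimeSpectrum (Y.presheaf.stalk y) := fun y =>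
    ⟨⊥, by haveI := hY y; exact Ideal.isPrime_bot⟩
  let g : Y → Y := fun y => Y.fromSpecStalk y (bot y)
  have hg : ∀ y, g y ⤳ y := fun y => by
    have : g y ∈ Set.range (Y.fromSpecStalk y) := ⟨_, rfl⟩
    rw [Scheme.range_fromSpecStalk] at this
    exact this
  have hgS : ∀ y, g y ∈ π ⁻¹' {genericPoint X} := fun y => by
    have h1 := Scheme.SpecMap_stalkMap_fromSpecStalk (f := π) (x := y)
    have h2 : π (g y) = X.fromSpecStalk (π y) (Spec.map (π.stalkMap y) (bot y)) := by
      rw [← Scheme.Hom.comp_apply, ← Scheme.Hom.comp_apply, h1]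
    have h3 : Spec.map (π.stalkMap y) (bot y) = ⟨⊥, Ideal.isPrime_bot⟩ := by
      apply PrimeSpectrum.ext
      show Ideal.comap (π.stalkMap y).hom ⊥ = ⊥
      rw [← RingHom.ker_eq_comap_bot]
      exact (RingHom.injective_iff_ker_eq_bot _).1 (stalkMap_injective_of_flat π y)
    rw [Set.mem_preimage, Set.mem_singleton_iff, h2, h3]
    exact fromSpecStalk_bot (π y)
  have huniq : ∀ y, ∀ s ∈ π ⁻¹' {genericPoint X}, s ⤳ y → s = g y := by
    intro y s hs hsy
    have : s ∈ Set.range (Y.fromSpecStalk y) := by
      rw [Scheme.range_fromSpecStalk]; exact hsy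
    obtain ⟨P, rfl⟩ := this
    have h1 : bot y ⤳ P := by
      rw [← PrimeSpectrum.le_iff_specializes]
      exact bot_le (a := P.asIdeal)
    have h2 : g y ⤳ Y.fromSpecStalk y P := h1.map (Y.fromSpecStalk y).continuous
    have hdisc := π.isDiscrete_preimage_singleton (genericPoint X)
    rw [isDiscrete_iff_discreteTopology] at hdisc
    have h3 : (⟨g y, hgS y⟩ : π ⁻¹' {genericPoint X}) ⤳ ⟨Y.fromSpecStalk y P, hs⟩ := by
      rw [← Topology.IsInducing.subtypeVal.specializes_iff]
      exact h2
    exact (congrArg Subtype.val h3.eq).symm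
  haveI := irreducibleSpace_of_unique_generic (π ⁻¹' {genericPoint X})
    (π.finite_preimage_singleton _) g hgS hg huniq
  exact isIntegral_of_irreducibleSpace_of_isReduced Y

end Groth.Agent.Helper5.ConnInt

namespace Groth.Agent.Helper5.ConnInt

theorem s0246 {X : Scheme.{u}} [IsIntegral X] (hX : Pi1.IsNormalScheme X) (Y : FEt.Cat X)
    [ConnectedSpace Y.left] : IsIntegral Y.left ∧ Pi1.IsNormalScheme Y.left := by
  let π : Y.left ⟶ X := Y.hom
  haveI : IsFinite π := Y.prop.1
  haveI : Etale π := Y.prop.2
  have hn : Pi1.IsNormalScheme Y.left := fun y =>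
    SmNorm.stalk_normal_of_smooth π y (hX _)
  exact ⟨isIntegral_of_connected π (fun y => (hn y).1), hn⟩

end Groth.Agent.Helper5.ConnInt
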