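import Groth.Agent.Helper2.FFDesc
import Mathlib

universe u
open TensorProduct CategoryTheory AlgebraicGeometry

namespace Groth.Agent.Helper5.FlatCodescent

theorem flat_of_faithfullyFlat_baseChange {R S T : Type u} [CommRing R] [CommRing S] [CommRing T]
    [Algebra R S] [Algebra R T] [Module.FaithfullyFlat R S] [Module.Flat S (S ⊗[R] T)] :
    Module.Flat R T := by
  have h1 : Module.Flat R (S ⊗[R] T) := Module.Flat.trans R S (S ⊗[R] T)
  have h2 : Module.Flat R (T ⊗[R] S) :=
    Module.Flat.of_linearEquiv (TensorProduct.comm R T S)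
  exact Groth.Agent.Helper2.FFDesc.flat_of_flat_comp R T (T ⊗[R] S)

theorem flat_codescendsAlong :
    RingHom.CodescendsAlong (fun f => RingHom.Flat f) (fun f => RingHom.FaithfullyFlat f) := by
  apply RingHom.CodescendsAlong.mk _ RingHom.Flat.respectsIso
  introv h H
  rw [RingHom.faithfullyFlat_algebraMap_iff] at h
  rw [RingHom.flat_algebraMap_iff] at H ⊢
  exact flat_of_faithfullyFlat_baseChange (S := S)

instance : MorphismProperty.DescendsAlong (@Flat : MorphismProperty Scheme.{u})
    (@Surjective ⊓ @Flat ⊓ @QuasiCompact) :=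
  HasRingHomProperty.descendsAlong_flat flat_codescendsAlong

end Groth.Agent.Helper5.FlatCodescent
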