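import Mathlib
import Groth.Agent.Helper5.AssHt

set_option autoImplicit false
universe u

namespace Groth.Agent.Helper5.HtOne

theorem main {R : Type u} [CommRing R] [IsDomain R] [IsNoetherianRing R]
    [IsIntegrallyClosed R] (x : FractionRing R)
    (hx : ∀ (p : Ideal R) [p.IsPrime], p.height = 1 →
      x ∈ Set.range (algebraMap (Localization.AtPrime p) (FractionRing R))) :
    x ∈ Set.range (algebraMap R (FractionRing R)) := by
  let K := FractionRing R
  have hinj := IsFractionRing.injective R K
  obtain ⟨a, b, hb, rfl⟩ := IsFractionRing.div_surjective (A := R) x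
  have hb0 : b ≠ 0 := nonZeroDivisors.ne_zero hb
  have hbK : algebraMap R K b ≠ 0 := by rwa [Ne, map_eq_zero_iff _ hinj]
  by_contra hcon
  have hanot : Ideal.Quotient.mk (Ideal.span {b}) a ≠ 0 := by
    intro h
    rw [Ideal.Quotient.eq_zero_iff_mem, Ideal.mem_span_singleton'] at h
    obtain ⟨z, hz⟩ := h
    apply hcon
    refine ⟨z, ?_⟩
    rw [eq_div_iff hbK, ← map_mul, hz]
  obtain ⟨P, hP, hle⟩ := exists_le_isAssociatedPrime_of_isNoetherianRing R
    (Ideal.Quotient.mk (Ideal.span {b}) a) hanot
  have hPprime : P.IsPrime := hP.isPrime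
  have hht : P.height = 1 := AssHt.main R b hb0 P hP
  obtain ⟨y, hy⟩ := hx P hht
  obtain ⟨⟨r, s⟩, rfl⟩ := IsLocalization.mk'_surjective P.primeCompl y
  have h1 : algebraMap (Localization.AtPrime P) K (IsLocalization.mk' _ r s) *
      algebraMap R K (s : R) = algebraMap R K r := by
    rw [IsScalarTower.algebraMap_apply R (Localization.AtPrime P) K (s : R), ← map_mul,
      IsLocalization.mk'_spec, ← IsScalarTower.algebraMap_apply]
  rw [hy, div_mul_eq_mul_div, div_eq_iff hbK, ← map_mul, ← map_mul] at h1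
  have h2 : a * (s : R) = r * b := hinj h1
  have h3 : (s : R) ∈ (⊥ : Submodule R (R ⧸ Ideal.span {b})).colon
      {Ideal.Quotient.mk (Ideal.span {b}) a} := by
    rw [Submodule.mem_colon_singleton, Submodule.mem_bot]
    have : (s : R) • (Ideal.Quotient.mk (Ideal.span {b})) a =
        Ideal.Quotient.mk (Ideal.span {b}) ((s : R) * a) := by
      rw [Algebra.smul_def, Ideal.Quotient.algebraMap_eq, ← map_mul]
    rw [this, Ideal.Quotient.eq_zero_iff_mem, Ideal.mem_span_singleton']
    exact ⟨r, by rw [← h2, mul_comm]⟩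
  exact s.2 (hle h3)

end Groth.Agent.Helper5.HtOne
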