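import Groth.Agent.Helper5.GenDim1
import Groth.Agent.Helper5.FibCodim
import Groth.Agent.Helper5.KDim1

set_option autoImplicit false
universe u
open CategoryTheory CategoryTheory.Limits AlgebraicGeometry TopologicalSpace

namespace Groth.Agent.Helper5.PairPt

open Groth.Agent.Helper5.VarDim Groth.Agent.Helper5.BCMin Groth.Agent.Helper5.SubDim
open Groth.Agent.Helper5.GenDim

/-- (SD) the residue transcendence degree drops strictly along a proper specialisation inside a
fibre -/
theorem resTrdeg_lt_of_specializes {X Y : Scheme.{u}} (f : X ⟶ Y) [LocallyOfFiniteType f]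
    (x z : X) (hfz : f z = f x) (hzx : z ⤳ x) (hne : z ≠ x) :
    ∃ tx tz : ℕ, Dual3.resTrdeg f x = (tx : Cardinal.{u}) ∧
      Dual3.resTrdeg f z = (tz : Cardinal.{u}) ∧ tx < tz := by
  obtain ⟨a, tx, tz, ha, htx, htz, hsum⟩ :=
    Groth.Agent.Helper5.SubDim.fibre_codim' f x z hfz hzx
  refine ⟨tx, tz, htx, htz, ?_⟩
  have h1 : (1 : WithBot ℕ∞) ≤ Order.krullDim ↥(Groth.Agent.Helper5.SubDim.FibIcc f x z) := by
    rw [Order.one_le_krullDim_iff]
    have hxz : x ≤ z := hzx
    refine ⟨⟨x, rfl, le_refl x, hxz⟩, ⟨z, hfz, hxz, le_refl z⟩, ?_⟩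
    refine lt_of_le_not_ge (show x ≤ z from hxz) ?_
    intro h2
    have h3 : x ⤳ z := h2
    exact hne (hzx.antisymm h3).eq
  rw [ha] at h1
  have : 1 ≤ a := by exact_mod_cast h1
  omega

/-- (F2') a point of a base change which is maximal among the points with the same two
projections has the same residue transcendence degree as its image -/
theorem resTrdeg_eq_of_isPullback_of_maximal {X S X' S' : Scheme.{u}} (f : X ⟶ S)
    [LocallyOfFiniteType f] (g : S' ⟶ S) (g' : X' ⟶ X) (f' : X' ⟶ S')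
    (hsq : IsPullback g' f' f g) (x' : X')
    (hmax : ∀ w : X', g' w = g' x' → f' w = f' x' → w ⤳ x' → w = x') :
    Dual3.resTrdeg f' x' = Dual3.resTrdeg f (g' x') := by
  have hlft' : LocallyOfFiniteType f' := MorphismProperty.of_isPullback hsq ‹_›
  let s' : S' := f' x'
  obtain ⟨ρ, hflat, hsurj, -, hρ, hloc⟩ := exists_fibre_map f g g' f' hsq s'
  let a : ↥(f'.fiber s') := f'.asFiber x'
  have hax' : f'.fiberι s' a = x' := f'.fiberι_asFiber x'
  let ζ₂ : ↥(ρ.fiber (ρ a)) := ρ.asFiber a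
  let ζ' : ↥(f'.fiber s') := ρ.fiberι (ρ a) ζ₂
  have hζ'a : ζ' = a := ρ.fiberι_asFiber a
  have hpt : ∀ w' : ↥(f'.fiber s'), g' (f'.fiberι s' w') = f.fiberι (g s') (ρ w') := fun w' =>
    (congrArg (fun ψ : f'.fiber s' ⟶ X => ψ w') hρ).symm
  have hmax₂ : ∀ w : ↥(ρ.fiber (ρ a)), w ⤳ ζ₂ → w = ζ₂ := by
    intro w hw
    let w' : ↥(f'.fiber s') := ρ.fiberι (ρ a) w
    have hw'1 : w' ⤳ a := by
      have := hw.map (ρ.fiberι (ρ a)).continuous
      rw [show ρ.fiberι (ρ a) ζ₂ = a from hζ'a] at this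
      exact this
    have hw'2 : ρ w' = ρ a := apply_fiberι ρ (ρ a) w
    have h1 : f'.fiberι s' w' ⤳ x' := by
      have := hw'1.map (f'.fiberι s').continuous
      rw [hax'] at this
      exact this
    have h2 : f' (f'.fiberι s' w') = f' x' := apply_fiberι f' s' w'
    have h3 : g' (f'.fiberι s' w') = g' x' := by
      rw [hpt w', hw'2, ← hpt a, hax']
    have h4 : f'.fiberι s' w' = x' := hmax _ h3 h2 h1
    have h5 : w' = a := (f'.fiberι s').isEmbedding.injective (h4.trans hax'.symm)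
    exact (ρ.fiberι (ρ a)).isEmbedding.injective (h5.trans hζ'a.symm)
  have hN' : IsLocallyNoetherian (f'.fiber s') := isLocallyNoetherian_fiber f' s'
  have hN : IsLocallyNoetherian (f.fiber (g s')) := isLocallyNoetherian_fiber f (g s')
  have hst := Groth.Agent.Helper5.FlatRelDim.stalk_dim_eq_of_flat' ρ (ρ a) ζ₂
  have h0 : ringKrullDim ((ρ.fiber (ρ a)).presheaf.stalk ζ₂) = 0 := by
    rw [ringKrullDim_stalk_eq_coheight]
    have : Order.coheight ζ₂ = 0 := by
      rw [Order.coheight_eq_zero]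
      intro w hw
      have := hmax₂ w (Scheme.le_iff_specializes.1 hw)
      exact this ▸ le_refl _
    rw [this]; rfl
  rw [h0, add_zero] at hst
  have hρζ'a : ρ ζ' = ρ a := apply_fiberι ρ (ρ a) ζ₂
  have hxa : f.fiberι (g s') (ρ a) = g' x' := by rw [← hpt a, hax']
  obtain ⟨k', n', hk', hn', hl'⟩ := fp_formula f' s' ζ'
  obtain ⟨k, n, hk, hn, hl⟩ := fp_formula f (g s') (ρ a)
  rw [hxa] at hn
  have hkk : k' = k := by
    have := hk'.symm.trans (hst.trans hk)
    exact_mod_cast this
  have hsum : k' + n' = k + n := by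
    have h1 := hloc ζ'
    rw [hρζ'a] at h1
    have := (hl'.symm.trans h1).trans hl
    exact_mod_cast this
  have hζ'x' : f'.fiberι s' ζ' = x' := by rw [hζ'a]; exact hax'
  rw [hζ'x'] at hn'
  rw [hn', hn]
  exact_mod_cast (by omega : n' = n)

/-- (M2) a point of a base change with the same residue transcendence degree as its image is
maximal among the points with the same two projections -/
theorem maximal_of_resTrdeg_eq {X S X' S' : Scheme.{u}} (f : X ⟶ S)
    [LocallyOfFiniteType f] (g : S' ⟶ S) (g' : X' ⟶ X) (f' : X' ⟶ S')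
    (hsq : IsPullback g' f' f g) (x' : X')
    (heq : Dual3.resTrdeg f' x' = Dual3.resTrdeg f (g' x')) :
    ∀ w : X', g' w = g' x' → f' w = f' x' → w ⤳ x' → w = x' := by
  have hlft' : LocallyOfFiniteType f' := MorphismProperty.of_isPullback hsq ‹_›
  intro w hw1 hw2 hw3
  by_contra hne
  obtain ⟨tx, tz, htx, htz, hlt⟩ := resTrdeg_lt_of_specializes f' x' w hw2 hw3 hne
  have hF1 := resTrdeg_le_of_isPullback f g g' f' hsq w
  rw [hw1, ← heq, htx, htz] at hF1
  have : tz ≤ tx := by exact_mod_cast hF1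
  omega

end Groth.Agent.Helper5.PairPt
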