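import Mathlib
import Groth.Agent.Helper5.RedFib

set_option autoImplicit false
universe u
open CategoryTheory CategoryTheory.Limits AlgebraicGeometry TensorProduct

namespace Groth.Agent.Helper5.RedDvr

open Groth.Agent.Helper5.RedFib

/-- ring lemma: nilpotents of `B` lie in `mB` when `B ⊗ κ(m)` is reduced. -/
theorem mem_map_of_isNilpotent {R B : Type*} [CommRing R] [CommRing B] [Algebra R B]
    (m : Ideal R) [m.IsMaximal] (hred : _root_.IsReduced (B ⊗[R] m.ResidueField))
    (b : B) (hb : IsNilpotent b) : b ∈ m.map (algebraMap R B) := by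
  let e : (R ⧸ m) ≃ₐ[R] m.ResidueField :=
    AlgEquiv.ofBijective (IsScalarTower.toAlgHom R (R ⧸ m) m.ResidueField)
      m.bijective_algebraMap_quotient_residueField
  let E : B ⊗[R] (R ⧸ m) ≃ₐ[R] B ⊗[R] m.ResidueField :=
    Algebra.TensorProduct.congr AlgEquiv.refl e
  have h1 : _root_.IsReduced (B ⊗[R] (R ⧸ m)) :=
    isReduced_of_injective E.toAlgHom E.injective
  have h2 : _root_.IsReduced (B ⧸ m.map (algebraMap R B)) :=
    isReduced_of_injective (Algebra.TensorProduct.quotIdealMapEquivTensorQuot B m).toAlgHom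
      (Algebra.TensorProduct.quotIdealMapEquivTensorQuot B m).injective
  have h3 : IsNilpotent (Ideal.Quotient.mk (m.map (algebraMap R B)) b) := hb.map _
  exact Ideal.Quotient.eq_zero_iff_mem.1 (h2.eq_zero _ h3)

/-- Krull-type lemma: in a Noetherian local ring with a regular element `ϖ` of the maximal ideal,
if all nilpotents are divisible by `ϖ` then the ring is reduced. -/
theorem isReduced_of_forall_nilpotent_dvd {B : Type*} [CommRing B] [IsNoetherianRing B]
    [IsLocalRing B] (ϖ : B) (hϖ : ϖ ∈ IsLocalRing.maximalIdeal B) (hreg : IsSMulRegular B ϖ)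
    (h : ∀ b : B, IsNilpotent b → ϖ ∣ b) : _root_.IsReduced B := by
  have hpow : ∀ k : ℕ, ∀ b : B, IsNilpotent b → b ∈ Ideal.span {ϖ} ^ k := by
    intro k
    induction k with
    | zero => intro b _; simp
    | succ k ih =>
      intro b hb
      obtain ⟨c, rfl⟩ := h b hb
      have hc : IsNilpotent c := by
        obtain ⟨n, hn⟩ := hb
        refine ⟨n, ?_⟩
        rw [mul_pow] at hn
        have hreg' : IsSMulRegular B (ϖ ^ n) := hreg.pow n
        apply hreg'
        simpa using hn
      rw [pow_succ']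
      exact Ideal.mul_mem_mul (Ideal.mem_span_singleton_self ϖ) (ih c hc)
  constructor
  intro b hb
  have hne : Ideal.span {ϖ} ≠ (⊤ : Ideal B) := by
    intro htop
    have : (IsLocalRing.maximalIdeal B) = ⊤ :=
      top_le_iff.1 (htop ▸ (Ideal.span_singleton_le_iff_mem _).2 hϖ)
    exact (IsLocalRing.maximalIdeal.isMaximal B).ne_top this
  have hinf := Ideal.iInf_pow_eq_bot_of_isLocalRing (Ideal.span {ϖ}) hne
  have : b ∈ ⨅ k, Ideal.span {ϖ} ^ k := by
    rw [Ideal.mem_iInf]
    intro k
    exact hpow k b hb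
  rw [hinf] at this
  exact this

end Groth.Agent.Helper5.RedDvr
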