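import Mathlib
import Groth.Agent.Helper5.RedFib
import Groth.Agent.Helper5.RedDvr

set_option autoImplicit false
universe u
open CategoryTheory CategoryTheory.Limits AlgebraicGeometry TensorProduct

namespace Groth.Agent.Helper5.RedDvr

open Groth.Agent.Helper5.RedFib

/-- reducedness of stalks is stable under generization -/
theorem isReduced_stalk_of_specializes {X : Scheme.{u}} {x x₀ : X} (h : x ⤳ x₀)
    [_root_.IsReduced (X.presheaf.stalk x₀)] : _root_.IsReduced (X.presheaf.stalk x) := by
  have hT : IsReduced (Spec (X.presheaf.stalk x₀)) := inferInstance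
  have hx : x ∈ Set.range (X.fromSpecStalk x₀) := by
    rw [Scheme.range_fromSpecStalk]; exact h
  obtain ⟨t, rfl⟩ := hx
  have hb := bijective_stalkMap (X.fromSpecStalk x₀) t
  let e : X.presheaf.stalk (X.fromSpecStalk x₀ t) ≃+*
      (Spec (X.presheaf.stalk x₀)).presheaf.stalk t := RingEquiv.ofBijective _ hb
  exact isReduced_of_injective e.toRingHom e.injective

/-- generalisation of S2 -/
theorem isReduced_pullback_fromSpecStalk_comp' {X Y T : Scheme.{u}} (f : X ⟶ Y) (x : X)
    (j : T ⟶ Y) [IsReduced (pullback f j)] :
    IsReduced (pullback (X.fromSpecStalk x ≫ f) j) := by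
  have : IsReduced (pullback (X.fromSpecStalk x) (pullback.fst f j)) :=
    isReduced_of_flat_preimmersion
      (pullback.snd (X.fromSpecStalk x) (pullback.fst f j))
  exact isReduced_of_isOpenImmersion
    (pullbackRightPullbackFstIso f j (X.fromSpecStalk x)).inv

/-- Lemma F -/
theorem isReduced_tensor_residueField {R : Type u} [CommRing R] {X : Scheme.{u}}
    (f : X ⟶ Spec (CommRingCat.of R)) (x : X) (hred : IsReduced (f.fiber (f x))) :
    letI : Algebra R (X.presheaf.stalk x) :=
      (Spec.preimage (X.fromSpecStalk x ≫ f)).hom.toAlgebra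
    _root_.IsReduced ((X.presheaf.stalk x) ⊗[R] (f x).asIdeal.ResidueField) := by
  let : Algebra R (X.presheaf.stalk x) :=
      (Spec.preimage (X.fromSpecStalk x ≫ f)).hom.toAlgebra
  set s := f x with hs
  have h0 : IsReduced (pullback f ((Spec (CommRingCat.of R)).fromSpecResidueField s)) := hred
  have h1 : IsReduced (pullback (X.fromSpecStalk x ≫ f)
      ((Spec (CommRingCat.of R)).fromSpecResidueField s)) :=
    isReduced_pullback_fromSpecStalk_comp' f x _
  have e1 : Spec.map (CommRingCat.ofHom (algebraMap R (X.presheaf.stalk x))) =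
      X.fromSpecStalk x ≫ f := Spec.map_preimage _
  have e2 : Spec.map (Scheme.Spec.residueFieldIso (CommRingCat.of R) s).inv ≫
      Spec.map (CommRingCat.ofHom (algebraMap R s.asIdeal.ResidueField)) =
      (Spec (CommRingCat.of R)).fromSpecResidueField s :=
    Scheme.Spec.map_residueFieldIso_inv_eq_fromSpecResidueField (CommRingCat.of R) s
  -- the pullback with `Spec κ(m)` in place of the residue field of the scheme
  have h2 : IsReduced (pullback (Spec.map (CommRingCat.ofHom (algebraMap R (X.presheaf.stalk x))))
      (Spec.map (CommRingCat.ofHom (algebraMap R s.asIdeal.ResidueField)))) := by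
    let g : pullback (Spec.map (CommRingCat.ofHom (algebraMap R (X.presheaf.stalk x))))
        (Spec.map (CommRingCat.ofHom (algebraMap R s.asIdeal.ResidueField))) ⟶
        pullback (X.fromSpecStalk x ≫ f)
          ((Spec (CommRingCat.of R)).fromSpecResidueField s) :=
      pullback.map _ _ _ _ (𝟙 _)
        (Spec.map (Scheme.Spec.residueFieldIso (CommRingCat.of R) s).hom) (𝟙 _)
        (by rw [Category.comp_id, Category.id_comp, e1])
        (by rw [Category.comp_id, ← e2, ← Category.assoc, ← Spec.map_comp, Iso.inv_hom_id,
          Spec.map_id, Category.id_comp])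
    have : IsIso g := by
      dsimp only [g]
      infer_instance
    exact isReduced_of_isOpenImmersion g
  have h3 : IsReduced (Spec (.of ((X.presheaf.stalk x) ⊗[R] s.asIdeal.ResidueField))) :=
    isReduced_of_isOpenImmersion (pullbackSpecIso R (X.presheaf.stalk x) s.asIdeal.ResidueField).inv
  exact (affine_isReduced_iff _).1 h3

end Groth.Agent.Helper5.RedDvr
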