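import Mathlib
import Groth.Agent.Helper5.RelDepth5

set_option autoImplicit false
set_option linter.style.haveILetI false
set_option linter.unusedSectionVars false
universe u
open CategoryTheory CategoryTheory.Limits AlgebraicGeometry TopologicalSpace Topology TensorProduct
open IsLocalRing

namespace Groth.Agent.Helper5.RelDepth

theorem flat_SpecMap_field {K L : CommRingCat.{u}} (hK : IsField K) (ρ : K ⟶ L) :
    Flat (Spec.map ρ) := by
  rw [HasRingHomProperty.Spec_iff (P := @Flat)]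
  exact .of_isField hK _

section BC

variable {X S X' S' : Scheme.{u}} (f : X ⟶ S) (g : S' ⟶ S) (p : X' ⟶ X) (f' : X' ⟶ S')
  (hsq : IsPullback p f' f g)

include hsq in
theorem dim_fiberStalk_le_bc [IsLocallyNoetherian X] [IsLocallyNoetherian X'] (y' : X') :
    ringKrullDim ↑(CInt.fiberStalk f (p y')) ≤ ringKrullDim ↑(CInt.fiberStalk f' y') := by
  let s' : S' := f' y'
  let h := f.fiberToSpecResidueField (g s')
  let ρ := g.residueFieldMap s'
  let π := pullback.fst h (Spec.map ρ)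
  obtain ⟨e, he⟩ : ∃ e : f'.fiber s' ≅ pullback h (Spec.map ρ),
      e.hom ≫ π ≫ f.fiberι (g s') = f'.fiberι s' ≫ p :=
    Groth.Agent.Helper5.BCMin.fibre_iso_of_isPullback f g p f' hsq s'
  haveI : Flat (Spec.map ρ) := flat_SpecMap_field (Field.toIsField _) ρ
  haveI : Flat π := inferInstance
  let z' : ↥(f'.fiber s') := f'.asFiber y'
  let w := e.hom z'
  have hζ : f.fiberι (g s') (π w) = p y' := by
    have h2 := congrArg (fun ψ : f'.fiber s' ⟶ X => ψ z') he
    simp only [Scheme.Hom.comp_apply] at h2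
    rw [f'.fiberι_asFiber] at h2
    exact h2
  rw [← dim_stalk_fibre_eq f (g s') (π w) (p y') hζ]
  haveI : IsNoetherianRing ((f.fiber (g s')).presheaf.stalk (π w)) := noeth_stalk_fibre f _ _
  haveI hN' : IsNoetherianRing ((f'.fiber s').presheaf.stalk z') := noeth_stalk_fibre f' _ _
  let eS : (pullback h (Spec.map ρ)).presheaf.stalk w ≃+* (f'.fiber s').presheaf.stalk z' :=
    (asIso (e.hom.stalkMap z')).commRingCatIsoToRingEquiv
  haveI : IsNoetherianRing ((pullback h (Spec.map ρ)).presheaf.stalk w) :=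
    isNoetherianRing_of_ringEquiv _ eS.symm
  have h1 := dim_stalk_le_of_flat π w
  rw [ringKrullDim_eq_of_ringEquiv eS] at h1
  exact h1

include hsq in
theorem exists_dim_fiberStalk_bc_le [IsLocallyNoetherian X] [IsLocallyNoetherian X'] (y'₀ : X') :
    ∃ y' : X', p y' = p y'₀ ∧
      ringKrullDim ↑(CInt.fiberStalk f' y') ≤ ringKrullDim ↑(CInt.fiberStalk f (p y'₀)) := by
  let s' : S' := f' y'₀
  let h := f.fiberToSpecResidueField (g s')
  let ρ := g.residueFieldMap s'
  let π := pullback.fst h (Spec.map ρ)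
  obtain ⟨e, he⟩ : ∃ e : f'.fiber s' ≅ pullback h (Spec.map ρ),
      e.hom ≫ π ≫ f.fiberι (g s') = f'.fiberι s' ≫ p :=
    Groth.Agent.Helper5.BCMin.fibre_iso_of_isPullback f g p f' hsq s'
  haveI : Flat (Spec.map ρ) := flat_SpecMap_field (Field.toIsField _) ρ
  haveI : Flat π := inferInstance
  let z'₀ : ↥(f'.fiber s') := f'.asFiber y'₀
  let w₀ := e.hom z'₀
  have hζ₀ : f.fiberι (g s') (π w₀) = p y'₀ := by
    have h2 := congrArg (fun ψ : f'.fiber s' ⟶ X => ψ z'₀) he
    simp only [Scheme.Hom.comp_apply] at h2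
    rw [f'.fiberι_asFiber] at h2
    exact h2
  haveI hN'₀ : IsNoetherianRing ((f'.fiber s').presheaf.stalk z'₀) := noeth_stalk_fibre f' _ _
  let eS₀ : (pullback h (Spec.map ρ)).presheaf.stalk w₀ ≃+* (f'.fiber s').presheaf.stalk z'₀ :=
    (asIso (e.hom.stalkMap z'₀)).commRingCatIsoToRingEquiv
  haveI : IsNoetherianRing ((pullback h (Spec.map ρ)).presheaf.stalk w₀) :=
    isNoetherianRing_of_ringEquiv _ eS₀.symm
  have hfin0 : ringKrullDim ((pullback h (Spec.map ρ)).presheaf.stalk w₀) < ⊤ :=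
    ringKrullDim_lt_top
  obtain ⟨w, hw1, hw2⟩ := exists_generic_in_fibre' π w₀ hfin0
  let z' : ↥(f'.fiber s') := e.inv w
  have hez : e.hom z' = w := by
    have h3 : (e.inv ≫ e.hom) w = w := by rw [e.inv_hom_id]; rfl
    exact (Scheme.Hom.comp_apply e.inv e.hom w).symm.trans h3
  let y' : X' := f'.fiberι s' z'
  have hpy : p y' = p y'₀ := by
    have h2 := congrArg (fun ψ : f'.fiber s' ⟶ X => ψ z') he
    simp only [Scheme.Hom.comp_apply] at h2
    rw [hez, hw1, hζ₀] at h2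
    exact h2.symm
  refine ⟨y', hpy, ?_⟩
  rw [← dim_stalk_fibre_eq f' s' z' y' rfl, ← dim_stalk_fibre_eq f (g s') (π w₀) (p y'₀) hζ₀]
  haveI : IsNoetherianRing ((f.fiber (g s')).presheaf.stalk (π w)) := noeth_stalk_fibre f _ _
  haveI hN' : IsNoetherianRing ((f'.fiber s').presheaf.stalk z') := noeth_stalk_fibre f' _ _
  let eS : (pullback h (Spec.map ρ)).presheaf.stalk w ≃+* (f'.fiber s').presheaf.stalk z' :=
    (asIso (e.inv.stalkMap w)).commRingCatIsoToRingEquiv.symm
  haveI : IsNoetherianRing ((pullback h (Spec.map ρ)).presheaf.stalk w) :=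
    isNoetherianRing_of_ringEquiv _ eS.symm
  have h1 := dim_stalk_eq_of_flat π w hw2
  rw [ringKrullDim_eq_of_ringEquiv eS] at h1
  rw [h1, hw1]

end BC

theorem s14105 {X S S' : Scheme.{u}} (f : X ⟶ S) (g : S' ⟶ S)
    [IsLocallyNoetherian X]
    [IsLocallyNoetherian (pullback f g)] (Y : Set ↥X) :
    ((⨅ y : Y, ringKrullDim ↑(CInt.fiberStalk f y.1)) ≤
      ⨅ y' : (fun x' => (pullback.fst f g) x') ⁻¹' Y,
        ringKrullDim ↑(CInt.fiberStalk (pullback.snd f g) y'.1)) ∧
    (Y ⊆ Set.range (pullback.fst f g).base →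
      (⨅ y' : (fun x' => (pullback.fst f g) x') ⁻¹' Y,
        ringKrullDim ↑(CInt.fiberStalk (pullback.snd f g) y'.1)) =
        ⨅ y : Y, ringKrullDim ↑(CInt.fiberStalk f y.1)) := by
  have hsq : IsPullback (pullback.fst f g) (pullback.snd f g) f g := IsPullback.of_hasPullback f g
  have h1 : (⨅ y : Y, ringKrullDim ↑(CInt.fiberStalk f y.1)) ≤
      ⨅ y' : (fun x' => (pullback.fst f g) x') ⁻¹' Y,
        ringKrullDim ↑(CInt.fiberStalk (pullback.snd f g) y'.1) := by
    refine le_iInf fun y' => ?_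
    refine iInf_le_of_le ⟨pullback.fst f g y'.1, y'.2⟩ ?_
    exact dim_fiberStalk_le_bc f g _ _ hsq y'.1
  refine ⟨h1, fun hsub => le_antisymm ?_ h1⟩
  refine le_iInf fun y => ?_
  obtain ⟨y'₀, hy'₀⟩ := hsub y.2
  obtain ⟨y', hy'1, hy'2⟩ := exists_dim_fiberStalk_bc_le f g _ _ hsq y'₀
  have hy'₀' : pullback.fst f g y'₀ = y.1 := hy'₀
  refine iInf_le_of_le ⟨y', by show pullback.fst f g y' ∈ Y; rw [hy'1, hy'₀']; exact y.2⟩ ?_
  rw [hy'₀'] at hy'2
  exact hy'2

end Groth.Agent.Helper5.RelDepth
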