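import Mathlib
import Groth.Prelude.Def_Flat
import Groth.Agent.Helper5.UnivHomeo1

set_option autoImplicit false
set_option linter.unusedSectionVars false
set_option linter.style.haveILetI false
universe u

open AlgebraicGeometry CategoryTheory Opposite

namespace Groth.Agent.Helper5.Awn

/-- ring-level universal homeomorphisms -/
structure UH {A C : Type u} [CommRing A] [CommRing C] (ψ : A →+* C) : Prop where
  integral : ψ.IsIntegral
  inj : ∀ (K : Type u) [Field K] (γ₁ γ₂ : C →+* K), γ₁.comp ψ = γ₂.comp ψ → γ₁ = γ₂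
  surj : ∀ p : PrimeSpectrum A, ∃ q : PrimeSpectrum C, PrimeSpectrum.comap ψ q = p

theorem uh_iff {A C : Type u} [CommRing A] [CommRing C] (ψ : A →+* C) :
    FlatMor.IsUnivHomeo (Spec.map (CommRingCat.ofHom ψ)) ↔ UH ψ := by
  have htf : UniversallyInjective (Spec.map (CommRingCat.ofHom ψ)) ↔
      ∀ (K : Type u) [Field K], Function.Injective
        (fun g : Spec (.of K) ⟶ Spec (.of C) ↦ g ≫ Spec.map (CommRingCat.ofHom ψ)) :=
    (tfae_universallyInjective (Spec.map (CommRingCat.ofHom ψ))).out 0 1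
  rw [Groth.Agent.Helper5.UnivHomeo.isUnivHomeo_iff, IsIntegralHom.SpecMap_iff, htf, surjective_iff]
  constructor
  · rintro ⟨h1, h2, h3⟩
    refine ⟨h1, ?_, ?_⟩
    · intro K _ γ₁ γ₂ h
      have := @h2 K _ (Spec.map (CommRingCat.ofHom γ₁)) (Spec.map (CommRingCat.ofHom γ₂)) (by
        show Spec.map (CommRingCat.ofHom γ₁) ≫ Spec.map (CommRingCat.ofHom ψ) =
          Spec.map (CommRingCat.ofHom γ₂) ≫ Spec.map (CommRingCat.ofHom ψ)
        rw [← Spec.map_comp, ← Spec.map_comp, ← CommRingCat.ofHom_comp, ← CommRingCat.ofHom_comp, h])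
      have h' := Spec.map_injective this
      exact congrArg CommRingCat.Hom.hom h'
    · intro p
      obtain ⟨q, hq⟩ := h3 p
      exact ⟨q, hq⟩
  · rintro ⟨h1, h2, h3⟩
    refine ⟨h1, ?_, ?_⟩
    · intro K _ g₁ g₂ h
      obtain ⟨γ₁, rfl⟩ := Spec.map_surjective g₁
      obtain ⟨γ₂, rfl⟩ := Spec.map_surjective g₂
      have h' : Spec.map (CommRingCat.ofHom ψ ≫ γ₁) = Spec.map (CommRingCat.ofHom ψ ≫ γ₂) := by
        rw [Spec.map_comp, Spec.map_comp]; exact h
      have h'' := Spec.map_injective h'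
      have : γ₁.hom = γ₂.hom := h2 K γ₁.hom γ₂.hom (by
        have := congrArg CommRingCat.Hom.hom h''
        simpa using this)
      congr 1
      exact CommRingCat.hom_ext this
    · intro p
      obtain ⟨q, hq⟩ := h3 p
      exact ⟨q, hq⟩

end Groth.Agent.Helper5.Awn
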