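import Mathlib
import Groth.Prelude.Def_CAlg2
import Groth.Agent.Helper5.BrRad

set_option autoImplicit false
set_option linter.unusedSectionVars false
set_option linter.style.haveILetI false
universe u

open AlgebraicGeometry CategoryTheory

namespace Groth.Agent.Helper5.BrRad2

/-- ring-level criterion for universal injectivity of `Spec` of a ring map -/
theorem univInj_iff {A C : Type u} [CommRing A] [CommRing C] (ψ : A →+* C) :
    UniversallyInjective (Spec.map (CommRingCat.ofHom ψ)) ↔
      ∀ (L : Type u) [Field L] (γ₁ γ₂ : C →+* L), γ₁.comp ψ = γ₂.comp ψ → γ₁ = γ₂ := by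
  have htf : UniversallyInjective (Spec.map (CommRingCat.ofHom ψ)) ↔
      ∀ (K : Type u) [Field K], Function.Injective
        (fun g : Spec (.of K) ⟶ Spec (.of C) ↦ g ≫ Spec.map (CommRingCat.ofHom ψ)) :=
    (tfae_universallyInjective (Spec.map (CommRingCat.ofHom ψ))).out 0 1
  rw [htf]
  constructor
  · intro h2 K _ γ₁ γ₂ h
    have := @h2 K _ (Spec.map (CommRingCat.ofHom γ₁)) (Spec.map (CommRingCat.ofHom γ₂)) (by
      show Spec.map (CommRingCat.ofHom γ₁) ≫ Spec.map (CommRingCat.ofHom ψ) =
        Spec.map (CommRingCat.ofHom γ₂) ≫ Spec.map (CommRingCat.ofHom ψ)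
      rw [← Spec.map_comp, ← Spec.map_comp, ← CommRingCat.ofHom_comp, ← CommRingCat.ofHom_comp, h])
    have h' := Spec.map_injective this
    exact congrArg CommRingCat.Hom.hom h'
  · intro h2 K _ g₁ g₂ h
    obtain ⟨γ₁, rfl⟩ := Spec.map_surjective g₁
    obtain ⟨γ₂, rfl⟩ := Spec.map_surjective g₂
    have h' : Spec.map (CommRingCat.ofHom ψ ≫ γ₁) = Spec.map (CommRingCat.ofHom ψ ≫ γ₂) := by
      rw [Spec.map_comp, Spec.map_comp]; exact h
    have h'' := Spec.map_injective h'
    have : γ₁.hom = γ₂.hom := h2 K γ₁.hom γ₂.hom (by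
      have := congrArg CommRingCat.Hom.hom h''
      simpa using this)
    congr 1
    exact CommRingCat.hom_ext this

variable (A : Type u) [CommRing A] [IsDomain A]

theorem crit_iff :
    (∀ (L : Type u) [Field L] (γ₁ γ₂ : integralClosure A (FractionRing A) →+* L),
      γ₁.comp (algebraMap A (integralClosure A (FractionRing A))) =
        γ₂.comp (algebraMap A (integralClosure A (FractionRing A))) → γ₁ = γ₂) ↔
      ∀ (p : Ideal A) [p.IsPrime], CAlg2.IsGeomUnibranch (Localization.AtPrime p) := by
  have hinj : Function.Injective (integralClosure A (FractionRing A)).val := Subtype.val_injective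
  have hint : ∀ b : integralClosure A (FractionRing A),
      IsIntegral A ((integralClosure A (FractionRing A)).val b) := fun b => b.2
  have hsurj : ∀ y : FractionRing A, IsIntegral A y →
      ∃ b : integralClosure A (FractionRing A), (integralClosure A (FractionRing A)).val b = y :=
    fun y hy => ⟨⟨y, hy⟩, rfl⟩
  constructor
  · intro hrad p _
    exact Groth.Agent.Helper5.BrAlg.isGeomUnibranch_of_hom_eq (FractionRing A) p
      (Localization.AtPrime p) (integralClosure A (FractionRing A))
      (integralClosure A (FractionRing A)).val hinj hint hsurj hrad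
  · intro hGU L _ γ₁ γ₂ hγ
    haveI : (RingHom.ker (γ₁.comp (algebraMap A (integralClosure A (FractionRing A))))).IsPrime :=
      RingHom.ker_isPrime _
    exact Groth.Agent.Helper5.BrAlg.hom_eq_of_isGeomUnibranch (FractionRing A)
      (RingHom.ker (γ₁.comp (algebraMap A (integralClosure A (FractionRing A)))))
      (Localization.AtPrime
        (RingHom.ker (γ₁.comp (algebraMap A (integralClosure A (FractionRing A))))))
      (integralClosure A (FractionRing A))
      (integralClosure A (FractionRing A)).val hinj hint hsurj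
      (hGU (RingHom.ker (γ₁.comp (algebraMap A (integralClosure A (FractionRing A))))))
      L γ₁ γ₂ hγ rfl

theorem isHomeomorph_of_crit
    (hrad : ∀ (L : Type u) [Field L] (γ₁ γ₂ : integralClosure A (FractionRing A) →+* L),
      γ₁.comp (algebraMap A (integralClosure A (FractionRing A))) =
        γ₂.comp (algebraMap A (integralClosure A (FractionRing A))) → γ₁ = γ₂) :
    IsHomeomorph (PrimeSpectrum.comap (algebraMap A (integralClosure A (FractionRing A)))) := by
  rw [isHomeomorph_iff_continuous_isClosedMap_bijective]
  refine ⟨PrimeSpectrum.continuous_comap _,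
    PrimeSpectrum.isClosedMap_comap_of_isIntegral _ Algebra.IsIntegral.isIntegral, ?_, ?_⟩
  · intro q₁ q₂ h
    obtain ⟨γ₁, hk1, hc1⟩ := Groth.Agent.Helper5.BrAlg.exists_hom_ker
      (PrimeSpectrum.comap (algebraMap A (integralClosure A (FractionRing A))) q₁).asIdeal
      q₁.asIdeal rfl
    obtain ⟨γ₂, hk2, hc2⟩ := Groth.Agent.Helper5.BrAlg.exists_hom_ker
      (PrimeSpectrum.comap (algebraMap A (integralClosure A (FractionRing A))) q₁).asIdeal
      q₂.asIdeal (congrArg PrimeSpectrum.asIdeal h.symm)
    have := hrad _ γ₁ γ₂ (hc1.trans hc2.symm)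
    apply PrimeSpectrum.ext
    rw [← hk1, ← hk2, this]
  · intro p
    obtain ⟨Q, -, hQ, hQp⟩ := Ideal.exists_ideal_over_prime_of_isIntegral p.asIdeal
      (⊥ : Ideal (integralClosure A (FractionRing A))) (by
        intro a ha
        have h0 : algebraMap A (integralClosure A (FractionRing A)) a = 0 := ha
        have : a = 0 := by
          have hinj : Function.Injective
              (algebraMap A (integralClosure A (FractionRing A))) :=
            FaithfulSMul.algebraMap_injective A _
          exact hinj (h0.trans (map_zero _).symm)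
        rw [this]
        exact Ideal.zero_mem _)
    exact ⟨⟨Q, hQ⟩, PrimeSpectrum.ext hQp⟩

theorem s4567 :
    (UniversallyInjective (Spec.map (CommRingCat.ofHom
        (algebraMap A (integralClosure A (FractionRing A))))) ↔
      ∀ (p : Ideal A) [p.IsPrime], CAlg2.IsGeomUnibranch (Localization.AtPrime p)) ∧
    ((∀ (p : Ideal A) [p.IsPrime], CAlg2.IsGeomUnibranch (Localization.AtPrime p)) →
      IsHomeomorph (PrimeSpectrum.comap (algebraMap A (integralClosure A (FractionRing A))))) := by
  refine ⟨(univInj_iff _).trans (crit_iff A), ?_⟩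
  intro h
  exact isHomeomorph_of_crit A ((crit_iff A).2 h)

end Groth.Agent.Helper5.BrRad2
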