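import Mathlib
import Groth.Agent.Helper5.AwnUH
import Groth.Agent.Helper5.BrRad2
import Groth.Prelude

set_option autoImplicit false
set_option linter.unusedSectionVars false
set_option linter.style.haveILetI false
universe u

open AlgebraicGeometry CategoryTheory

namespace Groth.Agent.Helper5.PINorm

/-- field-valued points are determined on a subring containing `q^n`-th powers -/
theorem hom_eq_of_pow_mem {R C Ω : Type u} [CommRing R] [CommRing C] [Field Ω] (ψ : R →+* C) (q : ℕ)
    (hq : q = 1 ∨ (q.Prime ∧ (q : R) = 0))
    (hpow : ∀ c : C, ∃ (n : ℕ) (r : R), c ^ q ^ n = ψ r) (γ₁ γ₂ : C →+* Ω)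
    (h : γ₁.comp ψ = γ₂.comp ψ) : γ₁ = γ₂ := by
  ext c
  obtain ⟨n, r, hr⟩ := hpow c
  have h1 : γ₁ c ^ q ^ n = γ₂ c ^ q ^ n := by
    rw [← map_pow, ← map_pow, hr]
    exact congrArg (fun φ : R →+* Ω => φ r) h
  rcases hq with rfl | ⟨hp, hq0⟩
  · simpa using h1
  · have hq0' : (q : Ω) = 0 := by
      have : (q : Ω) = (γ₁.comp ψ) (q : R) := (map_natCast _ q).symm
      rw [this, hq0, map_zero]
    haveI : CharP Ω q := (CharP.charP_iff_prime_eq_zero hp).2 hq0'
    haveI : Fact q.Prime := ⟨hp⟩
    exact (frobenius_inj Ω q).iterate n |> fun hi => hi (by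
      simpa [iterate_frobenius] using h1)

/-- purely inseparable extension of the fraction field: field points of the integral closure in
`L` are determined by those of the integral closure in `K` -/
theorem radicial_integralClosure (A K L : Type u) [CommRing A] [IsDomain A] [Field K]
    [Algebra A K] [IsFractionRing A K] [Field L] [Algebra K L] [Algebra A L] [IsScalarTower A K L]
    [IsPurelyInseparable K L]
    (hB : ∀ (Ω : Type u) [Field Ω] (γ₁ γ₂ : integralClosure A K →+* Ω),
      γ₁.comp (algebraMap A (integralClosure A K)) = γ₂.comp (algebraMap A (integralClosure A K)) →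
      γ₁ = γ₂)
    (Ω : Type u) [Field Ω] (γ₁ γ₂ : integralClosure A L →+* Ω)
    (h : γ₁.comp (algebraMap A (integralClosure A L)) =
      γ₂.comp (algebraMap A (integralClosure A L))) : γ₁ = γ₂ := by
  let j : integralClosure A K →ₐ[A] integralClosure A L :=
    (IsScalarTower.toAlgHom A K L).mapIntegralClosure
  have hj : ∀ b : integralClosure A K, ((j b : integralClosure A L) : L) = algebraMap K L b :=
    fun b => rfl
  have h2 : γ₁.comp j.toRingHom = γ₂.comp j.toRingHom := by
    apply hB
    ext a
    have e1 : j.toRingHom (algebraMap A (integralClosure A K) a) =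
        algebraMap A (integralClosure A L) a := j.commutes a
    simp only [RingHom.comp_apply, e1]
    exact congrArg (fun φ : A →+* Ω => φ a) h
  obtain ⟨q, hq⟩ := ExpChar.exists K
  refine hom_eq_of_pow_mem j.toRingHom q ?_ ?_ γ₁ γ₂ h2
  · cases hq with
    | zero => exact Or.inl rfl
    | prime hp =>
      refine Or.inr ⟨hp, ?_⟩
      apply Subtype.ext
      show ((q : integralClosure A K) : K) = 0
      rw [show ((q : integralClosure A K) : K) = (q : K) from map_natCast (integralClosure A K).val q]
      exact CharP.cast_eq_zero K q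
  · intro c
    obtain ⟨n, k, hk⟩ := IsPurelyInseparable.pow_mem K q (c : L)
    have hint : IsIntegral A k := by
      have h1 : IsIntegral A ((c : L) ^ q ^ n) := (c.2 : IsIntegral A (c : L)).pow _
      rw [← hk] at h1
      exact (isIntegral_algHom_iff (IsScalarTower.toAlgHom A K L) (algebraMap K L).injective).1 h1
    refine ⟨n, ⟨k, hint⟩, ?_⟩
    apply Subtype.ext
    show ((c ^ q ^ n : integralClosure A L) : L) = algebraMap K L k
    rw [hk]
    rfl

end Groth.Agent.Helper5.PINorm
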