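import Mathlib
import Groth.Agent.Helper5.PINorm1
import Groth.Prelude

set_option autoImplicit false
set_option linter.unusedSectionVars false
set_option linter.style.haveILetI false
universe u

open AlgebraicGeometry CategoryTheory

namespace Groth.Agent.Helper5.PINorm

/-- geometrically unibranch stalks: field points of the integral closure of an affine coordinate
ring (in the function field) are determined by their restriction -/
theorem radicial_of_geomUnibranch_stalks {Y : Scheme.{u}} [IsIntegral Y]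
    (hY : ∀ y : Y, CAlg2.IsGeomUnibranch (Y.presheaf.stalk y))
    (U : Y.Opens) (hU : IsAffineOpen U) [Nonempty U]
    (Ω : Type u) [Field Ω] (γ₁ γ₂ : integralClosure Γ(Y, U) Y.functionField →+* Ω)
    (h : γ₁.comp (algebraMap Γ(Y, U) (integralClosure Γ(Y, U) Y.functionField)) =
      γ₂.comp (algebraMap Γ(Y, U) (integralClosure Γ(Y, U) Y.functionField))) : γ₁ = γ₂ := by
  haveI : IsDomain Γ(Y, U) := inferInstance
  haveI : IsFractionRing Γ(Y, U) Y.functionField :=
    functionField_isFractionRing_of_isAffineOpen Y U hU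
  set p : Ideal Γ(Y, U) :=
    RingHom.ker (γ₁.comp (algebraMap Γ(Y, U) (integralClosure Γ(Y, U) Y.functionField))) with hp
  haveI hpp : p.IsPrime := RingHom.ker_isPrime _
  have hy : hU.fromSpec ⟨p, hpp⟩ ∈ U := (hU.isoSpec.inv _).2
  letI := TopCat.Presheaf.algebra_section_stalk Y.presheaf ⟨hU.fromSpec ⟨p, hpp⟩, hy⟩
  haveI : IsLocalization.AtPrime (Y.presheaf.stalk (hU.fromSpec ⟨p, hpp⟩)) p :=
    hU.isLocalization_stalk' ⟨p, hpp⟩ hy
  haveI : IsScalarTower Γ(Y, U) (Y.presheaf.stalk (hU.fromSpec ⟨p, hpp⟩)) Y.functionField :=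
    functionField_isScalarTower Y U ⟨hU.fromSpec ⟨p, hpp⟩, hy⟩
  exact Groth.Agent.Helper5.BrAlg.hom_eq_of_isGeomUnibranch Y.functionField p
    (Y.presheaf.stalk (hU.fromSpec ⟨p, hpp⟩)) (integralClosure Γ(Y, U) Y.functionField)
    (integralClosure Γ(Y, U) Y.functionField).val Subtype.val_injective (fun b => b.2)
    (fun y hy => ⟨⟨y, hy⟩, rfl⟩) (hY _) Ω γ₁ γ₂ h rfl

end Groth.Agent.Helper5.PINorm
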