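import Mathlib
import Groth.Agent.Helper5.PINorm2
import Groth.Agent.Helper5.NormFF
import Groth.Agent.Helper5.NormInt
import Groth.Prelude

set_option autoImplicit false
set_option linter.unusedSectionVars false
set_option linter.style.haveILetI false
universe u

open AlgebraicGeometry CategoryTheory

namespace Groth.Agent.Helper5.PINorm

set_option backward.isDefEq.respectTransparency false in
theorem univInj_morphismRestrict_iff {X Y : Scheme.{u}} (f : X ⟶ Y) (V : Y.Opens)
    (hV : IsAffineOpen V) (hV' : IsAffineOpen (f ⁻¹ᵁ V)) :
    UniversallyInjective (f ∣_ V) ↔ UniversallyInjective (Spec.map (f.app V)) := by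
  haveI : IsAffine (V : Scheme) := hV
  haveI : IsAffine ((f ⁻¹ᵁ V : X.Opens) : Scheme) := hV'
  haveI := UniversallyInjective.respectsIso
  rw [MorphismProperty.arrow_mk_iso_iff @UniversallyInjective (arrowIsoSpecΓOfIsAffine (f ∣_ V))]
  rw [morphismRestrict_appTop, Spec.map_comp]
  have h1 : ∀ (W : Y.Opens) (hW : W = V) (e : f ⁻¹ᵁ W = (f ⁻¹ᵁ V).ι ''ᵁ ⊤),
      UniversallyInjective (Spec.map (X.presheaf.map (eqToHom e.symm).op) ≫ Spec.map (f.app W)) ↔
        UniversallyInjective (Spec.map (f.app V)) := by
    rintro W rfl e
    haveI : IsIso (X.presheaf.map (eqToHom e.symm).op) := by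
      haveI : IsIso (eqToHom e.symm).op := inferInstance
      exact Functor.map_isIso _ _
    exact MorphismProperty.cancel_left_of_respectsIso @UniversallyInjective _ _
  exact h1 _ (Scheme.Opens.ι_image_top V) (image_morphismRestrict_preimage f V ⊤).symm

open Groth.Agent.Helper5.NormGen

/-- the normalization in a purely inseparable extension of the function field of an integral
scheme with geometrically unibranch local rings is a universal homeomorphism -/
theorem isUnivHomeo_fromNormalization {Y : Scheme.{u}} [IsIntegral Y]
    (hY : ∀ y : Y, CAlg2.IsGeomUnibranch (Y.presheaf.stalk y))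
    (L : Type u) [Field L] [Algebra Y.functionField L] [IsPurelyInseparable Y.functionField L]
    [QuasiCompact (gen L (algebraMap Y.functionField L))]
    [QuasiSeparated (gen L (algebraMap Y.functionField L))] :
    FlatMor.IsUnivHomeo (gen L (algebraMap Y.functionField L)).fromNormalization := by
  rw [Groth.Agent.Helper5.UnivHomeo.isUnivHomeo_iff]
  refine ⟨inferInstance, ?_,
    ⟨Groth.Agent.Helper5.NormInt.fromNormalization_surjective L (algebraMap Y.functionField L)⟩⟩
  refine (IsZariskiLocalAtTarget.iff_of_iSup_eq_top (P := @UniversallyInjective) _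
    (iSup_affineOpens_eq_top Y)).2 ?_
  rintro ⟨U, hU⟩
  by_cases hne : Nonempty U
  · show UniversallyInjective ((gen L (algebraMap Y.functionField L)).fromNormalization ∣_ U)
    rw [univInj_morphismRestrict_iff _ U hU (hU.preimage _)]
    have hof : (gen L (algebraMap Y.functionField L)).fromNormalization.app U =
        CommRingCat.ofHom ((gen L (algebraMap Y.functionField L)).fromNormalization.app U).hom := rfl
    rw [hof, Groth.Agent.Helper5.BrRad2.univInj_iff]
    intro Ω _ γ₁ γ₂ h
    letI algL : Algebra Γ(Y, U) L :=
      ((algebraMap Y.functionField L).comp (Y.germToFunctionField U).hom).toAlgebra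
    haveI : IsScalarTower Γ(Y, U) Y.functionField L :=
      IsScalarTower.of_algebraMap_eq (fun x => rfl)
    haveI : IsDomain Γ(Y, U) := inferInstance
    haveI : IsFractionRing Γ(Y, U) Y.functionField :=
      functionField_isFractionRing_of_isAffineOpen Y U hU
    obtain ⟨E, hE⟩ := Groth.Agent.Helper5.NormFF.exists_secEquiv L
      (algebraMap Y.functionField L) U hU hne
    have key := radicial_integralClosure Γ(Y, U) Y.functionField L
      (fun Ω' _ δ₁ δ₂ hδ => radicial_of_geomUnibranch_stalks hY U hU Ω' δ₁ δ₂ hδ) Ω
      (γ₁.comp (E.symm : integralClosure Γ(Y, U) L →+* _))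
      (γ₂.comp (E.symm : integralClosure Γ(Y, U) L →+* _)) (by
        ext a
        simp only [RingHom.comp_apply, RingHom.coe_coe]
        rw [← hE a, RingEquiv.symm_apply_apply]
        exact congrArg (fun ψ : Γ(Y, U) →+* Ω => ψ a) h)
    ext b
    have := congrArg (fun ψ : integralClosure Γ(Y, U) L →+* Ω => ψ (E b)) key
    simpa using this
  · haveI : IsEmpty U := not_nonempty_iff.1 hne
    have htf : UniversallyInjective ((gen L (algebraMap Y.functionField L)).fromNormalization ∣_ U) ↔
        ∀ (K : Type u) [Field K], Function.Injective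
          (fun g : Spec (.of K) ⟶ _ ↦ g ≫
            ((gen L (algebraMap Y.functionField L)).fromNormalization ∣_ U)) :=
      (tfae_universallyInjective _).out 0 1
    show UniversallyInjective ((gen L (algebraMap Y.functionField L)).fromNormalization ∣_ U)
    rw [htf]
    intro K _ g₁ g₂ _
    obtain ⟨pt⟩ : Nonempty (Spec (CommRingCat.of K)) := inferInstance
    exact (IsEmpty.false ((((gen L (algebraMap Y.functionField L)).fromNormalization ∣_ U))
      (g₁ pt))).elim

end Groth.Agent.Helper5.PINorm
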