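import Mathlib
import Groth.Prelude
import Groth.Agent.Helper5.NeutI
import Groth.Agent.Helper5.NeutD
import Groth.Agent.Helper5.SecCompH

set_option autoImplicit false
set_option linter.style.haveILetI false
universe u

namespace Groth.Agent.Helper5.Neut

open AlgebraicGeometry CategoryTheory CategoryTheory.Limits MonoidalCategory
  CartesianMonoidalCategory MonObj GrpObj TopologicalSpace Topology
open Groth.Agent.Helper5.SecNb

/-- section components contained in a quasi-compact open are those of the open -/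
theorem sectionComponents_eq_image_of_subset {X S : Scheme.{u}} (f : X ⟶ S) (e : S ⟶ X)
    (he : e ≫ f = 𝟙 S) (Uc : X.Opens) (hsub : MoreMor.sectionComponents f e ⊆ Uc)
    (eU : S ⟶ (Uc : Scheme.{u})) (heU : eU ≫ Uc.ι = e) :
    Uc.ι '' MoreMor.sectionComponents (Uc.ι ≫ f) eU = MoreMor.sectionComponents f e := by
  have heUf : eU ≫ (Uc.ι ≫ f) = 𝟙 S := by rw [← Category.assoc, heU, he]
  have hfe : ∀ v : S, f (e v) = v := fun v => by
    rw [← Scheme.Hom.comp_apply, he]; rfl
  apply Set.Subset.antisymm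
  · exact image_sectionComponents_subset f e (Uc.ι ≫ f) eU heUf Uc.ι (𝟙 S)
      (Category.comp_id _) (by rw [heU, Category.id_comp])
  · intro g hg
    obtain ⟨t, ht⟩ : ∃ t, f g = t := ⟨_, rfl⟩
    have hgC : g ∈ connectedComponentIn (f ⁻¹' {t}) (e t) :=
      (mem_sectionComponents_iff f e ht).1 hg
    set C := connectedComponentIn (f ⁻¹' {t}) (e t) with hC
    have hCsub : C ⊆ Set.range Uc.ι := by
      intro x hx
      rw [Scheme.Opens.range_ι]
      apply hsub
      have hxt : f x = t := by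
        have h0 : x ∈ f ⁻¹' {t} := connectedComponentIn_subset _ _ hx
        exact h0
      exact (mem_sectionComponents_iff f e hxt).2 hx
    have himg : Uc.ι '' (Uc.ι ⁻¹' C) = C := by
      rw [Set.image_preimage_eq_inter_range]
      exact Set.inter_eq_left.2 hCsub
    have hpre : _root_.IsPreconnected (Uc.ι ⁻¹' C) := by
      rw [← Uc.ι.isOpenEmbedding.isInducing.isPreconnected_image, himg]
      exact isPreconnected_connectedComponentIn
    have hie : Uc.ι (eU t) = e t := by
      rw [← Scheme.Hom.comp_apply, heU]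
    have hsub' : Uc.ι ⁻¹' C ⊆ connectedComponentIn ((Uc.ι ≫ f) ⁻¹' {t}) (eU t) := by
      apply hpre.subset_connectedComponentIn
      · show Uc.ι (eU t) ∈ C
        rw [hie]
        exact mem_connectedComponentIn (hfe t)
      · intro h hh
        have h1 : Uc.ι h ∈ f ⁻¹' {t} := connectedComponentIn_subset _ _ hh
        exact h1
    obtain ⟨h, rfl⟩ := hCsub hgC
    refine ⟨h, ?_, rfl⟩
    have hht : (Uc.ι ≫ f) h = t := ht
    exact (mem_sectionComponents_iff (Uc.ι ≫ f) eU hht).2 (hsub' hgC)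

/-- Lemma C: section components inside a quasi-compact open are constructible -/
theorem isConstructible_sectionComponents_of_subset {X S : Scheme.{u}} [CompactSpace S]
    [QuasiSeparatedSpace S] (f : X ⟶ S) [LocallyOfFinitePresentation f] [QuasiSeparated f]
    (e : S ⟶ X) (he : e ≫ f = 𝟙 S) (Uc : X.Opens) (hUc : IsCompact (Uc : Set X))
    (hsub : MoreMor.sectionComponents f e ⊆ Uc) :
    IsConstructible (MoreMor.sectionComponents f e) := by
  have hfe : ∀ v : S, f (e v) = v := fun v => by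
    rw [← Scheme.Hom.comp_apply, he]; rfl
  have hrange : Set.range e ⊆ Set.range Uc.ι := by
    rintro _ ⟨t, rfl⟩
    rw [Scheme.Opens.range_ι]
    apply hsub
    rw [mem_sectionComponents_iff f e (hfe t)]
    exact mem_connectedComponentIn (hfe t)
  let eU : S ⟶ (Uc : Scheme.{u}) := IsOpenImmersion.lift Uc.ι e hrange
  have heU : eU ≫ Uc.ι = e := IsOpenImmersion.lift_fac _ _ _
  have heUf : eU ≫ (Uc.ι ≫ f) = 𝟙 S := by rw [← Category.assoc, heU, he]
  haveI : QuasiSeparatedSpace X := quasiSeparatedSpace_of_quasiSeparated f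
  haveI : CompactSpace ↥(Uc : Scheme.{u}) := isCompact_iff_compactSpace.1 hUc
  haveI : QuasiSeparatedSpace ↥(Uc : Scheme.{u}) := Uc.ι.isOpenEmbedding.quasiSeparatedSpace
  have hl : IsLocallyConstructible (MoreMor.sectionComponents (Uc.ι ≫ f) eU) :=
    Groth.Agent.Helper5.SecComp.s1326 (Uc.ι ≫ f) eU heUf
  have hc := hl.isConstructible
  rw [← sectionComponents_eq_image_of_subset f e he Uc hsub eU heU]
  refine hc.image_of_isOpenEmbedding Uc.ι.isOpenEmbedding ?_
  rw [Scheme.Opens.range_ι]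
  exact hUc.isRetrocompact Uc.2

section grp

variable {S : Scheme.{u}} (G : Over S) [GrpObj G]

/-- locally on the base, `G⁰` is contained in a quasi-compact subset lying over an affine open -/
theorem exists_isCompact_supset' (s : S) :
    ∃ W : S.Opens, IsAffineOpen W ∧ s ∈ W ∧ ∃ K : Set G.left, IsCompact K ∧
      K ⊆ G.hom ⁻¹' (W : Set S) ∧ SGA3x.neutralSet G ∩ G.hom ⁻¹' (W : Set S) ⊆ K := by
  obtain ⟨V, hV, hsV, -⟩ := exists_isAffineOpen_mem_and_subset (x := s) (U := ⊤) trivial
  have hes : e G s ∈ G.hom ⁻¹ᵁ V := by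
    show G.hom (e G s) ∈ V
    rw [hom_e]; exact hsV
  obtain ⟨U, hU, hesU, hUV⟩ :=
    exists_isAffineOpen_mem_and_subset (x := e G s) (U := G.hom ⁻¹ᵁ V) hes
  obtain ⟨f, hfO, hsf⟩ := hV.exists_basicOpen_le (V := e G ⁻¹ᵁ U) ⟨s, hesU⟩ hsV
  let W := S.basicOpen f
  have hW : IsAffineOpen W := hV.basicOpen f
  let f' := G.hom.appLE V U hUV f
  let U' := G.left.basicOpen f'
  have hU' : IsAffineOpen U' := hU.basicOpen f'
  have hU'eq : U' = U ⊓ G.hom ⁻¹ᵁ W := Scheme.basicOpen_appLE G.hom U V hUV f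
  have hU'W : U' ≤ G.hom ⁻¹ᵁ W := by rw [hU'eq]; exact inf_le_right
  let a : U'.toScheme ⟶ W.toScheme := G.hom.resLE W U' hU'W
  haveI : IsAffine U'.toScheme := hU'
  haveI : IsAffine W.toScheme := hW
  let j := pullback.map a a G.hom G.hom U'.ι U'.ι W.ι (by simp [a]) (by simp [a])
  have hr : Set.range j =
      (fst G G).left ⁻¹' (U' : Set G.left) ∩ (snd G G).left ⁻¹' (U' : Set G.left) := by
    have := Scheme.Pullback.range_map a a G.hom G.hom U'.ι U'.ι W.ι (by simp [a]) (by simp [a])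
    rw [Scheme.Opens.range_ι] at this
    exact this
  have hK : IsCompact (Set.range j) := isCompact_range j.continuous
  refine ⟨W, hW, hsf, μ[G].left '' Set.range j, hK.image μ[G].left.continuous, ?_, ?_⟩
  · rintro _ ⟨z, hz, rfl⟩
    rw [hr] at hz
    show G.hom (μ[G].left z) ∈ W
    rw [hom_mul, ← hom_fst]
    exact hU'W hz.1
  · rintro g ⟨hg0, hgW⟩
    have hgW' : G.hom g ∈ W := hgW
    have h1 : e G (G.hom g) ∈ U := hfO hgW'
    obtain ⟨z, hz1, hz2, hz3⟩ := exists_mul G g hg0 U h1
    refine ⟨z, ?_, hz1⟩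
    rw [hr]
    constructor
    · show (fst G G).left z ∈ U'
      rw [hU'eq]
      refine ⟨hz2.1, ?_⟩
      show G.hom ((fst G G).left z) ∈ W
      rw [hom_fst, ← hom_mul, hz1]; exact hgW'
    · show (snd G G).left z ∈ U'
      rw [hU'eq]
      refine ⟨hz3.1, ?_⟩
      show G.hom ((snd G G).left z) ∈ W
      rw [hom_snd, ← hom_mul, hz1]; exact hgW'

/-- (iii) -/
theorem isLocallyConstructible_neutralSet [LocallyOfFinitePresentation G.hom]
    [QuasiSeparated G.hom] : IsLocallyConstructible (SGA3x.neutralSet G) := by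
  intro x
  obtain ⟨W, hW, hxW, K, hK, hKW, hsub⟩ := exists_isCompact_supset' G (G.hom x)
  let U : G.left.Opens := G.hom ⁻¹ᵁ W
  have hxU : x ∈ U := hxW
  have sq : IsPullback U.ι (G.hom ∣_ W) G.hom W.ι := (isPullback_morphismRestrict G.hom W).flip
  let sV : (W : Scheme.{u}) ⟶ (U : Scheme.{u}) :=
    sq.lift (W.ι ≫ e G) (𝟙 _) (by rw [Category.assoc, e_hom, Category.comp_id, Category.id_comp])
  have hsV1 : sV ≫ U.ι = W.ι ≫ e G := sq.lift_fst _ _ _
  have hsV2 : sV ≫ (G.hom ∣_ W) = 𝟙 _ := sq.lift_snd _ _ _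
  have hSC : MoreMor.sectionComponents (G.hom ∣_ W) sV =
      U.ι ⁻¹' MoreMor.sectionComponents G.hom (e G) :=
    Groth.Agent.Helper5.SecComp.s1324 G.hom (e G) (e_hom G) (G.hom ∣_ W) U.ι W.ι sq sV hsV2 hsV1
  haveI : IsAffine (W : Scheme.{u}) := hW
  -- a quasi-compact open of `U` containing the section components
  have hK' : IsCompact (U.ι ⁻¹' K) := by
    rw [U.ι.isOpenEmbedding.isInducing.isCompact_preimage_iff]
    · exact hK
    · rw [Scheme.Opens.range_ι]; exact hKW
  obtain ⟨Uc, hUc, hKUc⟩ := exists_isCompact_open_supset _ hK'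
  have hsubU : MoreMor.sectionComponents (G.hom ∣_ W) sV ⊆ Uc := by
    rw [hSC, ← neutralSet_eq]
    intro y hy
    apply hKUc
    exact hsub ⟨hy, y.2⟩
  have hcons : IsConstructible (MoreMor.sectionComponents (G.hom ∣_ W) sV) :=
    isConstructible_sectionComponents_of_subset (G.hom ∣_ W) sV hsV2 Uc hUc hsubU
  refine ⟨U, U.2.mem_nhds hxU, U.2, ?_⟩
  have : IsConstructible ((U.ι : U.toScheme → G.left) ⁻¹' SGA3x.neutralSet G) := by
    rw [neutralSet_eq, ← hSC]; exact hcons
  exact this

/-- (ii) -/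
theorem isConstructible_neutralSet [LocallyOfFinitePresentation G.hom] [QuasiSeparated G.hom]
    [CompactSpace S] [QuasiSeparatedSpace S] : IsConstructible (SGA3x.neutralSet G) := by
  haveI : QuasiSeparatedSpace G.left := quasiSeparatedSpace_of_quasiSeparated G.hom
  choose W hsW K hK hsub using exists_isCompact_supset G
  obtain ⟨t, ht⟩ := isCompact_univ.elim_finite_subcover (fun s => (W s : Set S))
    (fun s => (W s).2) (fun s _ => Set.mem_iUnion.2 ⟨s, hsW s⟩)
  have hKc : IsCompact (⋃ s ∈ t, K s) := t.finite_toSet.isCompact_biUnion fun s _ => hK s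
  refine (isLocallyConstructible_neutralSet G).isConstructible_of_subset_of_isCompact ?_ hKc
  intro g hg
  obtain ⟨s, hs, hgs⟩ := Set.mem_iUnion₂.1 (ht (Set.mem_univ (G.hom g)))
  exact Set.mem_biUnion hs (hsub s ⟨hg, hgs⟩)

end grp

end Groth.Agent.Helper5.Neut
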