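import Mathlib
import Groth.Prelude
import Groth.Agent.Helper5.NeutD

set_option autoImplicit false
set_option linter.style.haveILetI false
universe u

namespace Groth.Agent.Helper5.Neut

open AlgebraicGeometry CategoryTheory CategoryTheory.Limits MonoidalCategory
  CartesianMonoidalCategory MonObj GrpObj TopologicalSpace Topology
open Groth.Agent.Helper5.SecNb

variable {S : Scheme.{u}} (G : Over S) [GrpObj G]

/-- an open neighbourhood of the unit section inside `G⁰`, smooth over the base -/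
theorem exists_smooth_open_nhd
    (hsm : ∃ U : G.left.Opens, Smooth (U.ι ≫ G.hom) ∧ ∀ t : S, e G t ∈ U) :
    ∃ N : G.left.Opens, Smooth (N.ι ≫ G.hom) ∧ (∀ t : S, e G t ∈ N) ∧
      (N : Set G.left) ⊆ SGA3x.neutralSet G := by
  obtain ⟨U, hUsm, hUe⟩ := hsm
  haveI := hUsm
  have hrange : Set.range (e G) ⊆ Set.range U.ι := by
    rintro _ ⟨t, rfl⟩
    rw [Scheme.Opens.range_ι]
    exact hUe t
  let eU : S ⟶ (U : Scheme.{u}) := IsOpenImmersion.lift U.ι (e G) hrange
  have heU : eU ≫ U.ι = e G := IsOpenImmersion.lift_fac _ _ _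
  have heUh : eU ≫ (U.ι ≫ G.hom) = 𝟙 S := by
    rw [← Category.assoc, heU]; exact e_hom G
  choose O hO heO hOsub using exists_open_nhd_section (U.ι ≫ G.hom) eU heUh
  have hNopen : IsOpen (U.ι '' ⋃ s, O s) :=
    U.ι.isOpenEmbedding.isOpenMap _ (isOpen_iUnion hO)
  let N : G.left.Opens := ⟨U.ι '' ⋃ s, O s, hNopen⟩
  refine ⟨N, ?_, ?_, ?_⟩
  · have hle : N ≤ U := by
      rintro _ ⟨y, -, rfl⟩
      exact y.2
    have : N.ι ≫ G.hom = G.left.homOfLE hle ≫ (U.ι ≫ G.hom) := by
      rw [← Category.assoc, Scheme.homOfLE_ι]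
    rw [this]
    infer_instance
  · intro t
    refine ⟨eU t, Set.mem_iUnion.2 ⟨t, heO t⟩, ?_⟩
    rw [← Scheme.Hom.comp_apply, heU]
  · rintro _ ⟨y, hy, rfl⟩
    obtain ⟨s, hs⟩ := Set.mem_iUnion.1 hy
    rw [neutralSet_eq]
    apply image_sectionComponents_subset G.hom (e G) (U.ι ≫ G.hom) eU heUh U.ι (𝟙 S)
      (Category.comp_id _) (by rw [heU, Category.id_comp])
    exact ⟨y, hOsub s hs, rfl⟩

section core

variable (N : G.left.Opens)

/-- the open neighbourhood as an object over `S` -/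
noncomputable abbrev NO : Over S := Over.mk (N.ι ≫ G.hom)

/-- its inclusion -/
noncomputable abbrev jN : NO G N ⟶ G := Over.homMk N.ι rfl

/-- `(n₁, n₂) ↦ n₁ · n₂` -/
noncomputable abbrev aN : NO G N ⊗ NO G N ⟶ G := (jN G N ⊗ₘ jN G N) ≫ μ[G]

theorem aN_eq : aN G N = (jN G N ▷ NO G N) ≫ mN G (jN G N) := by
  rw [aN, mN, MonoidalCategory.tensorHom_def, Category.assoc]

theorem smooth_aN [Smooth (N.ι ≫ G.hom)] : Smooth (aN G N).left := by
  rw [aN_eq, Over.comp_left]
  haveI : Smooth (NO G N).hom := ‹_›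
  haveI : Smooth (mN G (jN G N)).left := smooth_mN G (jN G N)
  haveI : IsOpenImmersion (jN G N).left := inferInstanceAs (IsOpenImmersion N.ι)
  haveI : IsOpenImmersion (jN G N ▷ NO G N).left :=
    MorphismProperty.of_isPullback (P := @IsOpenImmersion)
      (Groth.Agent.Helper5.GrpDense.isPullback_whiskerRight (jN G N) (NO G N)).flip inferInstance
  infer_instance

omit [GrpObj G] in
theorem range_jN : Set.range (jN G N).left = (N : Set G.left) := by
  show Set.range N.ι = _
  exact Scheme.Opens.range_ι N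

theorem range_aN (hNe : ∀ t : S, e G t ∈ N) (hNsub : (N : Set G.left) ⊆ SGA3x.neutralSet G) :
    Set.range (aN G N).left = SGA3x.neutralSet G := by
  apply Set.Subset.antisymm
  · rintro _ ⟨z, rfl⟩
    rw [Over.comp_left, Scheme.Hom.comp_apply]
    apply mul_mem
    · rw [← Scheme.Hom.comp_apply, ← Over.comp_left, tensorHom_fst, Over.comp_left,
        Scheme.Hom.comp_apply]
      apply hNsub
      rw [← range_jN]
      exact ⟨_, rfl⟩
    · rw [← Scheme.Hom.comp_apply, ← Over.comp_left, tensorHom_snd, Over.comp_left,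
        Scheme.Hom.comp_apply]
      apply hNsub
      rw [← range_jN]
      exact ⟨_, rfl⟩
  · intro g hg
    obtain ⟨w, hw1, hw2, hw3⟩ := exists_mul G g hg N (hNe _)
    -- lift `w` along `G ◁ j`
    obtain ⟨z₁, rfl⟩ : w ∈ Set.range (G ◁ jN G N).left := by
      rw [Groth.Agent.Helper3.GrpImg1.range_whiskerLeft, Set.mem_preimage, range_jN]
      exact hw3.1
    -- lift along `j ▷ N`
    obtain ⟨z, rfl⟩ : z₁ ∈ Set.range (jN G N ▷ NO G N).left := by
      rw [Groth.Agent.Helper5.GrpDense.range_whiskerRight, Set.mem_preimage, range_jN]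
      have : (fst G (NO G N)).left z₁ = (fst G G).left ((G ◁ jN G N).left z₁) := by
        rw [← Scheme.Hom.comp_apply, ← Over.comp_left, whiskerLeft_fst]
      rw [this]
      exact hw2.1
    refine ⟨z, ?_⟩
    rw [← hw1, aN, MonoidalCategory.tensorHom_def, Category.assoc, Over.comp_left, Over.comp_left,
      Scheme.Hom.comp_apply, Scheme.Hom.comp_apply]

end core

end Groth.Agent.Helper5.Neut
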