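import Mathlib
import Groth.Prelude
import Groth.Agent.Helper5.NeutE

set_option autoImplicit false
set_option linter.style.haveILetI false
universe u

namespace Groth.Agent.Helper5.Neut

open AlgebraicGeometry CategoryTheory CategoryTheory.Limits MonoidalCategory
  CartesianMonoidalCategory MonObj GrpObj TopologicalSpace Topology
open Groth.Agent.Helper5.SecNb

variable {S : Scheme.{u}} (G : Over S) [GrpObj G]

section openSub

variable (hopen : IsOpen (SGA3x.neutralSet G))

/-- the open subscheme on `G⁰` -/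
noncomputable abbrev G0o : G.left.Opens := ⟨SGA3x.neutralSet G, hopen⟩

noncomputable abbrev G0 : Over S := Over.mk ((G0o G hopen).ι ≫ G.hom)

noncomputable abbrev i0 : G0 G hopen ⟶ G := Over.homMk (G0o G hopen).ι rfl

instance : IsOpenImmersion (i0 G hopen).left := inferInstanceAs (IsOpenImmersion (G0o G hopen).ι)

instance : Mono (i0 G hopen) := by
  haveI : Mono ((Over.forget S).map (i0 G hopen)) := inferInstanceAs (Mono (G0o G hopen).ι)
  exact (Over.forget S).mono_of_mono_map inferInstance

theorem range_i0 : Set.range (i0 G hopen).left = SGA3x.neutralSet G := by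
  show Set.range (G0o G hopen).ι = _
  exact Scheme.Opens.range_ι _

theorem exists_lift {T : Over S} (φ : T ⟶ G) (hφ : Set.range φ.left ⊆ SGA3x.neutralSet G) :
    ∃ ψ : T ⟶ G0 G hopen, ψ ≫ i0 G hopen = φ := by
  have hr : Set.range φ.left ⊆ Set.range (G0o G hopen).ι := by
    rw [Scheme.Opens.range_ι]; exact hφ
  refine ⟨Over.homMk (IsOpenImmersion.lift (G0o G hopen).ι φ.left hr) ?_, ?_⟩
  · show IsOpenImmersion.lift (G0o G hopen).ι φ.left hr ≫ ((G0o G hopen).ι ≫ G.hom) = T.hom
    rw [← Category.assoc, IsOpenImmersion.lift_fac]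
    exact Over.w φ
  · ext1
    show IsOpenImmersion.lift (G0o G hopen).ι φ.left hr ≫ (G0o G hopen).ι = φ.left
    exact IsOpenImmersion.lift_fac _ _ _

theorem exists_one : ∃ o : 𝟙_ (Over S) ⟶ G0 G hopen, o ≫ i0 G hopen = η[G] := by
  apply exists_lift
  rintro _ ⟨t, rfl⟩
  exact unit_mem G t

theorem exists_inv : ∃ v : G0 G hopen ⟶ G0 G hopen, v ≫ i0 G hopen = i0 G hopen ≫ ι[G] := by
  apply exists_lift
  rintro _ ⟨z, rfl⟩
  rw [Over.comp_left, Scheme.Hom.comp_apply]
  apply inv_mem
  rw [← range_i0 G hopen]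
  exact ⟨z, rfl⟩

theorem exists_mul' : ∃ m : G0 G hopen ⊗ G0 G hopen ⟶ G0 G hopen,
    m ≫ i0 G hopen = (i0 G hopen ⊗ₘ i0 G hopen) ≫ μ[G] := by
  apply exists_lift
  rintro _ ⟨w, rfl⟩
  rw [Over.comp_left, Scheme.Hom.comp_apply]
  apply mul_mem
  · rw [← Scheme.Hom.comp_apply, ← Over.comp_left, tensorHom_fst, Over.comp_left,
      Scheme.Hom.comp_apply, ← range_i0 G hopen]
    exact ⟨_, rfl⟩
  · rw [← Scheme.Hom.comp_apply, ← Over.comp_left, tensorHom_snd, Over.comp_left,
      Scheme.Hom.comp_apply, ← range_i0 G hopen]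
    exact ⟨_, rfl⟩

/-- the group structure on `G⁰` -/
noncomputable def grp0 : GrpObj (G0 G hopen) :=
  Groth.Agent.Helper9.SubGrpObj.grpObjOfMono (i0 G hopen) (exists_one G hopen).choose
    (exists_mul' G hopen).choose (exists_inv G hopen).choose (exists_one G hopen).choose_spec
    (exists_mul' G hopen).choose_spec (exists_inv G hopen).choose_spec

theorem isMonHom_i0 : letI := grp0 G hopen; IsMonHom (i0 G hopen) :=
  Groth.Agent.Helper9.SubGrpObj.isMonHom_of_grpObjOfMono (i0 G hopen) (exists_one G hopen).choose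
    (exists_mul' G hopen).choose (exists_inv G hopen).choose (exists_one G hopen).choose_spec
    (exists_mul' G hopen).choose_spec (exists_inv G hopen).choose_spec

/-- the fibres of `G⁰` are connected -/
theorem isConnected_fiber_G0 (s : S) :
    _root_.IsConnected ((G0 G hopen).hom.base ⁻¹' {s}) := by
  set F' : Set (G0 G hopen).left := (G0 G hopen).hom ⁻¹' {s} with hF'
  have himg : (G0o G hopen).ι '' F' = connectedComponentIn (G.hom ⁻¹' {s}) (e G s) := by
    apply Set.Subset.antisymm
    · rintro _ ⟨y, hy, rfl⟩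
      have hy' : G.hom ((G0o G hopen).ι y) = s := by
        have h0 : (G0 G hopen).hom y = s := hy
        rw [← h0]
        rfl
      rw [← mem_neutralSet_iff G hy']
      exact y.2
    · intro x hx
      have hxs : G.hom x = s := by
        have h0 : x ∈ G.hom ⁻¹' {s} := connectedComponentIn_subset _ _ hx
        exact h0
      have hx0 : x ∈ SGA3x.neutralSet G := (mem_neutralSet_iff G hxs).2 hx
      refine ⟨⟨x, hx0⟩, ?_, rfl⟩
      show (G0 G hopen).hom ⟨x, hx0⟩ = s
      rw [← hxs]
      rfl
  have hconn : _root_.IsConnected ((G0o G hopen).ι '' F') := by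
    rw [himg]
    exact isConnected_connectedComponentIn_iff.2 (hom_e G s)
  refine ⟨?_, ?_⟩
  · obtain ⟨_, y, hy, -⟩ := hconn.nonempty
    exact ⟨y, hy⟩
  · exact ((G0o G hopen).ι.isOpenEmbedding.isInducing.isPreconnected_image).1 hconn.isPreconnected

end openSub

end Groth.Agent.Helper5.Neut
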