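import Mathlib
import Groth.Prelude
import Groth.Agent.Helper5.NeutF

set_option autoImplicit false
set_option linter.style.haveILetI false
universe u

namespace Groth.Agent.Helper5.Neut

open AlgebraicGeometry CategoryTheory CategoryTheory.Limits MonoidalCategory
  CartesianMonoidalCategory MonObj GrpObj TopologicalSpace Topology
open Groth.Agent.Helper5.SecNb

theorem s4098 (S : Scheme.{u}) (G : Over S) [GrpObj G]
    (hsm : ∃ U : G.left.Opens, Smooth (U.ι ≫ G.hom) ∧
      ∀ p : ↥(𝟙_ (Over S)).left, η[G].left.base p ∈ U) :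
    IsOpen (SGA3x.neutralSet G) ∧
    ∃ (G0 : Over S) (_ : GrpObj G0) (i : G0 ⟶ G), IsMonHom i ∧ IsOpenImmersion i.left ∧
      Set.range i.left.base = SGA3x.neutralSet G ∧ Smooth G0.hom ∧ QuasiCompact G0.hom := by
  obtain ⟨N, hNsm, hNe, hNsub⟩ := exists_smooth_open_nhd G (by
    obtain ⟨U, h1, h2⟩ := hsm
    exact ⟨U, h1, fun t => h2 t⟩)
  haveI := hNsm
  have hr := range_aN G N hNe hNsub
  haveI := smooth_aN G N
  have hopen : IsOpen (SGA3x.neutralSet G) := by
    rw [← hr]
    exact (aN G N).left.isOpenMap.isOpen_range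
  refine ⟨hopen, G0 G hopen, grp0 G hopen, i0 G hopen, isMonHom_i0 G hopen, inferInstance,
    range_i0 G hopen, ?_, ?_⟩
  · have hra : Set.range (aN G N).left ⊆ Set.range (G0o G hopen).ι := by
      rw [Scheme.Opens.range_ι, hr]
      exact subset_rfl
    let a' := IsOpenImmersion.lift (G0o G hopen).ι (aN G N).left hra
    have ha' : a' ≫ (G0o G hopen).ι = (aN G N).left := IsOpenImmersion.lift_fac _ _ _
    haveI : Smooth a' :=
      MorphismProperty.of_postcomp (W := @Smooth) (W' := @IsOpenImmersion) a' (G0o G hopen).ι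
        inferInstance (by rw [ha']; infer_instance)
    haveI : Surjective a' := by
      refine ⟨fun y => ?_⟩
      have hy : (G0o G hopen).ι y ∈ Set.range (aN G N).left := by
        rw [hr]; exact y.2
      obtain ⟨z, hz⟩ := hy
      refine ⟨z, ?_⟩
      apply (G0o G hopen).ι.isOpenEmbedding.injective
      rw [← Scheme.Hom.comp_apply, ha']
      exact hz
    haveI : Smooth (a' ≫ (G0 G hopen).hom) := by
      have : a' ≫ (G0 G hopen).hom = (NO G N ⊗ NO G N).hom := by
        show a' ≫ ((G0o G hopen).ι ≫ G.hom) = _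
        rw [← Category.assoc, ha']
        exact Over.w (aN G N)
      rw [this, Over.tensorObj_hom]
      haveI : Smooth (NO G N).hom := hNsm
      infer_instance
    exact Groth.Agent.Helper6.FppfSm2.smooth_of_comp_fppf a' (G0 G hopen).hom
  · letI := grp0 G hopen
    exact Groth.Agent.Helper3.FibQC.main (G0 G hopen) (isConnected_fiber_G0 G hopen)

end Groth.Agent.Helper5.Neut
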