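import Mathlib
import Groth.Prelude.Def_W4stkschemesremainderFib

set_option autoImplicit false
universe u
open CategoryTheory CategoryTheory.Limits AlgebraicGeometry TopologicalSpace Opposite

namespace Groth.Agent.Helper5.BddImm

/-- an immersion into the spectrum of a field is finite of degree ≤ 1 -/
theorem finiteOfDegLE_one_of_isImmersion (K : CommRingCat.{u}) (hK : IsField K) {T : Scheme.{u}}
    (p : T ⟶ Spec K) [IsImmersion p] : BddFib.FiniteOfDegLE K p 1 := by
  haveI : Nontrivial K := hK.nontrivial
  have hbot : ∀ q : PrimeSpectrum K, q.asIdeal = ⊥ := fun q => by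
    rw [eq_bot_iff]; intro x hx; by_contra hne
    obtain ⟨y, hy⟩ := hK.mul_inv_cancel hne
    exact q.2.ne_top ((Ideal.eq_top_iff_one _).mpr (hy ▸ q.asIdeal.mul_mem_right y hx))
  haveI : Subsingleton ↥(Spec K) :=
    ⟨fun a b => PrimeSpectrum.ext ((hbot a).trans (hbot b).symm)⟩
  haveI : IsClosedImmersion p := IsClosedImmersion.of_isPreimmersion p (isClosed_discrete _)
  obtain ⟨h1, h2⟩ := IsClosedImmersion.isAffine_surjective_of_isAffine p
  letI : Algebra K Γ(T, ⊤) := BddFib.secAlgebra K p
  have hsurj : Function.Surjective (Algebra.linearMap K Γ(T, ⊤)) := by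
    show Function.Surjective ((Scheme.ΓSpecIso K).inv ≫ p.appTop).hom
    rw [CommRingCat.hom_comp]
    exact h2.comp (ConcreteCategory.bijective_of_isIso (Scheme.ΓSpecIso K).inv).2
  refine ⟨h1, Module.Finite.of_surjective _ hsurj, ?_⟩
  have := LinearMap.finrank_le_finrank_of_surjective hsurj
  rwa [Module.finrank_self] at this

theorem s7439 {X Y : Scheme.{u}} (f : X ⟶ Y) [IsImmersion f] :
    BddFib.FibreDegLE f 1 := by
  intro y
  haveI : IsImmersion (f.fiberToSpecResidueField y) :=
    inferInstanceAs (IsImmersion (pullback.snd f (Y.fromSpecResidueField y)))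
  exact finiteOfDegLE_one_of_isImmersion _ (Field.toIsField (Y.residueField y)) _

end Groth.Agent.Helper5.BddImm
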