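import Groth.Prelude.Def_AlgSp4
import Groth.Prelude.Def_AlgSpDec
import Groth.Agent.Helper4.AlgSpPtsDesc
import Groth.Agent.Helper4.AlgSpOpenImage
import Groth.Agent.Helper4.AlgSpSrc
import Mathlib

set_option autoImplicit false
universe u
open CategoryTheory CategoryTheory.Limits AlgebraicGeometry Opposite

namespace Groth.Agent.Helper5.Decent1

open AlgSp

variable {S : Scheme.{u}}

/-- Any morphism of schemes out of the spectrum of a field is quasi-compact. -/
theorem quasiCompact_of_field {K : Type u} [Field K] {T : Scheme.{u}}
    (m : Spec (CommRingCat.of K) ⟶ T) : QuasiCompact m := by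
  constructor
  intro U _ _
  have : Finite ↥(Spec (CommRingCat.of K)) := (inferInstance : Finite (PrimeSpectrum K))
  exact (Set.toFinite _).isCompact

/-- Any morphism of schemes out of a scheme with finitely many points is quasi-compact. -/
theorem quasiCompact_of_finite {W T : Scheme.{u}} [Finite ↥W] (m : W ⟶ T) : QuasiCompact m := by
  constructor
  intro U _ _
  exact (Set.toFinite _).isCompact

/-- The sheaf of a scheme is decent. -/
theorem isDecent_yon (T : Over S) : IsDecent ((yon S).obj T) := by
  intro x
  refine ⟨FieldPt.ofPt (𝟙 _) (Points.toScheme T x), Points.ofScheme_toScheme T x, ?_, ?_⟩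
  · rw [FieldPt.toHom_ofPt, Category.comp_id]
    have : Mono (Over.homMk (T.left.fromSpecResidueField (Points.toScheme T x)) rfl :
        Over.mk (T.left.fromSpecResidueField (Points.toScheme T x) ≫ T.hom) ⟶ T) := by
      have : Mono ((Over.forget S).map (Over.homMk (T.left.fromSpecResidueField
          (Points.toScheme T x)) rfl :
          Over.mk (T.left.fromSpecResidueField (Points.toScheme T x) ≫ T.hom) ⟶ T)) := by
        show Mono (T.left.fromSpecResidueField (Points.toScheme T x))
        infer_instance
      exact (Over.forget S).mono_of_mono_map this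
    exact @Groth.Agent.Helper4.AlgSpOpenImage.mono_yon_map _ _ _ _ this
  · rw [FieldPt.toHom_ofPt, Category.comp_id]
    refine (repWith_yon_map_iff _ _).2 ?_
    show QuasiCompact (T.left.fromSpecResidueField (Points.toScheme T x))
    exact quasiCompact_of_field _

/-- The source of a decent morphism with decent target is decent. -/
theorem isDecent_of_isDecentMor {X Y : Sp S} (f : X ⟶ Y) (hf : IsDecentMor f)
    (hY : IsDecent Y) : IsDecent X := by
  intro x
  obtain ⟨q, hq, hqm, hqc⟩ := hY (Points.map f x)
  have sq : IsPullback (pullback.fst f q.toHom) (pullback.snd f q.toHom) f q.toHom :=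
    IsPullback.of_hasPullback _ _
  have hP : IsDecent (pullback f q.toHom) := hf q.toHom _ _ sq
  let s₀ : ↥(Spec (CommRingCat.of q.K)) := IsLocalRing.closedPoint q.K
  have hs : Points.map q.toHom (Points.ofScheme q.pt s₀) = Points.map f x := by
    rw [← Points.ofPt_eq_map_ofScheme, Points.ofPt_toHom, hq]
  obtain ⟨z, hz1, -⟩ := Groth.Agent.Helper4.AlgSpPtsDesc.exists_point_of_isPullback sq x _ hs.symm
  obtain ⟨r, hr, hrm, hrc⟩ := hP z
  refine ⟨r.map (pullback.fst f q.toHom), ?_, ?_, ?_⟩
  · rw [← Points.map_mk, hr, hz1]
  · rw [FieldPt.toHom_map]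
    have : Mono (pullback.fst f q.toHom) := sq.mono_fst_of_mono
    exact @mono_comp _ _ _ _ _ _ hrm _ this
  · rw [FieldPt.toHom_map]
    refine Groth.Agent.Helper4.AlgSpSrc.repWith_comp _ hrc ?_
    exact (repWith_isStableUnderBaseChange (S := S) @QuasiCompact).of_isPullback sq.flip hqc

/-- Decent morphisms are stable under base change. -/
theorem isDecentMor_of_isPullback {P X Y Y' : Sp S} {fst : P ⟶ X} {snd : P ⟶ Y'} {f : X ⟶ Y}
    {g : Y' ⟶ Y} (sq : IsPullback fst snd f g) (hf : IsDecentMor f) : IsDecentMor snd := by
  intro T F' t a b sq'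
  -- sq' : IsPullback a b snd t;  paste with sq
  have := sq'.paste_horiz sq
  exact hf (t ≫ g) (a ≫ fst) b this

/-- A representable morphism is decent. -/
theorem isDecentMor_of_representable {X Y : Sp S} (f : X ⟶ Y) (hf : Representable f) :
    IsDecentMor f := by
  intro T F' g fst snd sq
  have sq' := hf.isPullback g
  exact (isDecent_yon (hf.pullback g)).of_iso (sq'.isoIsPullback _ _ sq)

/-- A representable morphism to a decent sheaf has decent source. -/
theorem isDecent_of_representable {X Y : Sp S} (f : X ⟶ Y) (hf : Representable f)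
    (hY : IsDecent Y) : IsDecent X :=
  isDecent_of_isDecentMor f (isDecentMor_of_representable f hf) hY

/-- A morphism with decent source to an algebraic space is decent. -/
theorem isDecentMor_of_isDecent_source {X Y : Sp S} (hYa : IsAlgSpace Y) (f : X ⟶ Y)
    (hX : IsDecent X) : IsDecentMor f := by
  intro T F' g fst snd sq
  have hg : Representable g := hYa.representable_from_yon g
  have : Representable fst := MorphismProperty.of_isPullback sq.flip hg
  exact isDecent_of_representable fst this hX

/-- Composition of decent morphisms. -/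
theorem isDecentMor_comp {X Y Z : Sp S} (f : X ⟶ Y) (g : Y ⟶ Z) (hf : IsDecentMor f)
    (hg : IsDecentMor g) : IsDecentMor (f ≫ g) := by
  intro T F' t fst snd sq
  have sqQ : IsPullback (pullback.fst g t) (pullback.snd g t) g t := IsPullback.of_hasPullback _ _
  have hQ : IsDecent (pullback g t) := hg t _ _ sqQ
  let l : F' ⟶ pullback g t := sqQ.lift (fst ≫ f) snd (by rw [Category.assoc]; exact sq.w)
  have hl1 : l ≫ pullback.fst g t = fst ≫ f := sqQ.lift_fst _ _ _
  have hl2 : l ≫ pullback.snd g t = snd := sqQ.lift_snd _ _ _
  -- F' is the pullback of f along pullback.fst g t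
  have sqP : IsPullback fst l f (pullback.fst g t) :=
    IsPullback.of_bot (by rw [hl2]; exact sq) hl1.symm sqQ
  exact isDecent_of_isDecentMor l (isDecentMor_of_isPullback sqP hf) hQ

end Groth.Agent.Helper5.Decent1
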