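import Groth.Agent.Helper5.QcPt2
import Groth.Agent.Helper5.Decent3
import Mathlib

set_option autoImplicit false
universe u

namespace Groth.Agent.Helper5.DecJac

open CategoryTheory CategoryTheory.Limits AlgebraicGeometry Opposite AlgSp Topology
open Groth.Agent.Helper4.AlgSpPtsDesc Groth.Agent.Helper4.AlgSpQC2

variable {S : Scheme.{u}}

/-- the finite fibres hypothesis from decency -/
theorem finite_fibres_of_isDecent {X : Sp S} (hd : IsDecent X) (x : Points X) :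
    ∀ (V : Over S) (b : (yon S).obj V ⟶ X), IsAffine V.left → RepWith @Etale b →
      (Points.ofPt b ⁻¹' {x}).Finite := by
  obtain ⟨p, rfl, -, hq⟩ := hd x
  intro V b hV hb
  haveI : CompactSpace ↥V.left := inferInstance
  exact Groth.Agent.Helper5.Decent2.finite_fibre_of_qc_point p hq b hb

/-- a point of a chart of a decent space lying over a closed point is closed -/
theorem isClosed_singleton_of_isClosed_image {X : Sp S} (hd : IsDecent X) {U : Over S}
    (a : (yon S).obj U ⟶ X) (ha : RepWith @Etale a) (u : ↥U.left)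
    (h : IsClosed ({Points.ofPt a u} : Set (Points X))) : IsClosed ({u} : Set ↥U.left) := by
  rw [← closure_eq_iff_isClosed]
  apply Set.Subset.antisymm _ subset_closure
  intro u' hu'
  have hsp : u ⤳ u' := specializes_iff_mem_closure.2 hu'
  have hF : IsClosed (Points.ofPt a ⁻¹' {Points.ofPt a u}) :=
    h.preimage (Points.continuous_ofPt a)
  have hu'F : u' ∈ Points.ofPt a ⁻¹' {Points.ofPt a u} :=
    (hF.closure_subset_iff.2 (Set.singleton_subset_iff.2 rfl)) hu'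
  exact Groth.Agent.Helper5.Decent2.eq_of_specializes_of_finite_fibres _
    (finite_fibres_of_isDecent hd _) a ha u' u hu'F rfl hsp

/-- a locally closed point of a chart of a decent space maps to a locally closed point -/
theorem isLocallyClosed_image_of_isLocallyClosed_singleton {X : Sp S} (hX : IsAlgSpace X)
    (hd : IsDecent X) {U : Over S} (a : (yon S).obj U ⟶ X) (ha : RepWith @Etale a) (u : ↥U.left)
    (h : IsLocallyClosed ({u} : Set ↥U.left)) :
    IsLocallyClosed ({Points.ofPt a u} : Set (Points X)) := by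
  obtain ⟨O₁, C, hO₁, hC, hOC⟩ := h
  obtain ⟨O₂, huO₂, hO₂⟩ := Groth.Agent.Helper5.MonoQuot.exists_open_isolating (Points.ofPt a u)
    (finite_fibres_of_isDecent hd _) a ha u rfl
  have huO₁C : u ∈ O₁ ∩ C := by rw [← hOC]; rfl
  have hopen := Groth.Agent.Helper5.Decent3.isOpenMap_ofPt hX a ha
  refine ⟨Points.ofPt a '' (O₁ ∩ O₂), (Points.ofPt a '' (O₁ ∩ O₂ ∩ Cᶜ))ᶜ,
    hopen _ (hO₁.inter O₂.isOpen), (hopen _ ((hO₁.inter O₂.isOpen).inter hC.isOpen_compl)).isClosed_compl, ?_⟩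
  ext y
  constructor
  · rintro rfl
    refine ⟨⟨u, ⟨huO₁C.1, huO₂⟩, rfl⟩, ?_⟩
    rintro ⟨u', ⟨⟨hu'1, hu'2⟩, hu'C⟩, hu'⟩
    have : u' = u := hO₂ u' hu'2 hu'
    exact hu'C (this ▸ huO₁C.2)
  · rintro ⟨⟨u', ⟨hu'1, hu'2⟩, rfl⟩, hn⟩
    have hu'C : u' ∈ C := by
      by_contra hc
      exact hn ⟨u', ⟨⟨hu'1, hu'2⟩, hc⟩, rfl⟩
    have : u' ∈ ({u} : Set ↥U.left) := by rw [hOC]; exact ⟨hu'1, hu'C⟩
    rw [Set.mem_singleton_iff] at this
    rw [this]
    rfl

/-- a nonempty locally closed subset of a scheme contains a locally closed point -/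
theorem exists_isLocallyClosed_singleton (U : Scheme.{u}) (Z : Set ↥U) (hne : Z.Nonempty)
    (hZ : IsLocallyClosed Z) : ∃ z ∈ Z, IsLocallyClosed ({z} : Set ↥U) := by
  obtain ⟨G, C, hG, hC, rfl⟩ := hZ
  obtain ⟨z₀, hz₀G, hz₀C⟩ := hne
  obtain ⟨_, ⟨(O' : U.Opens), hO', rfl⟩, hz₀O', hO'G⟩ :=
    (U.isBasis_affineOpens).exists_subset_of_mem_open hz₀G hG
  haveI : CompactSpace ↥O' := isCompact_iff_compactSpace.1 hO'.isCompact
  have hS' : IsClosed ((Subtype.val : ↥O' → ↥U) ⁻¹' C) := hC.preimage continuous_subtype_val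
  obtain ⟨z', hz'S, hz'cl⟩ := hS'.exists_closed_singleton ⟨⟨z₀, hz₀O'⟩, hz₀C⟩
  refine ⟨z'.1, ⟨hO'G z'.2, hz'S⟩, ?_⟩
  obtain ⟨K, hK, hKz⟩ := isClosed_induced_iff.1 hz'cl
  refine ⟨O', K, O'.isOpen, hK, ?_⟩
  ext w
  constructor
  · rintro rfl
    refine ⟨z'.2, ?_⟩
    have : z' ∈ (Subtype.val : ↥O' → ↥U) ⁻¹' K := by rw [hKz]; rfl
    exact this
  · rintro ⟨hwO, hwK⟩
    have : (⟨w, hwO⟩ : ↥O') ∈ ({z'} : Set ↥O') := by rw [← hKz]; exact hwK
    rw [Set.mem_singleton_iff] at this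
    rw [← this]
    rfl

end Groth.Agent.Helper5.DecJac
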