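import Mathlib

/-!
# Stratification of the base of an etale separated morphism by the number of geometric points

`Npts f n` is the set of points `b` of the base over which some field valued point has at least
`n` distinct lifts.  For `f` etale and separated these sets are open.
-/

set_option autoImplicit false
universe u
open CategoryTheory CategoryTheory.Limits AlgebraicGeometry

namespace Groth.Agent.Helper5.DegStr

/-- the points of `B` over which `f` has at least `n` distinct `K`-points for some field `K` -/
def Npts {Y B : Scheme.{u}} (f : Y ⟶ B) (n : ℕ) : Set ↥B :=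
  {b | ∃ (K : Type u) (_ : Field K) (β : Spec (CommRingCat.of K) ⟶ B)
      (y : Fin n → (Spec (CommRingCat.of K) ⟶ Y)),
      β (IsLocalRing.closedPoint K : PrimeSpectrum K) = b ∧ (∀ i, y i ≫ f = β) ∧
        Function.Injective y}

variable {Y B : Scheme.{u}} (f : Y ⟶ B)

theorem eq_closedPoint {K : Type u} [Field K] (x : ↥(Spec (CommRingCat.of K))) :
    x = (IsLocalRing.closedPoint K : PrimeSpectrum K) :=
  (inferInstance : Subsingleton (PrimeSpectrum K)).elim _ _

theorem Npts_zero : Npts f 0 = Set.univ := by
  ext b
  simp only [Set.mem_univ, iff_true]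
  refine ⟨B.residueField b, inferInstance, B.fromSpecResidueField b, Fin.elim0, ?_, fun i => i.elim0,
    fun i => i.elim0⟩
  have := B.range_fromSpecResidueField b
  have h : B.fromSpecResidueField b (IsLocalRing.closedPoint _ : PrimeSpectrum _) ∈
      Set.range (B.fromSpecResidueField b) := ⟨_, rfl⟩
  rw [this] at h
  exact h

section
variable [IsSeparated f]

/-- the complement of the diagonal in `Y ×_B Y` -/
noncomputable def offDiag : (pullback f f).Opens :=
  ⟨(Set.range (pullback.diagonal f))ᶜ,
    (pullback.diagonal f).isClosedEmbedding.isClosed_range.isOpen_compl⟩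

/-- the first projection from the complement of the diagonal -/
noncomputable def offDiagFst : (offDiag f).toScheme ⟶ Y := (offDiag f).ι ≫ pullback.fst f f

instance [Etale f] : Etale (offDiagFst f) := by
  unfold offDiagFst; infer_instance

instance : IsSeparated (offDiagFst f) := by
  unfold offDiagFst; infer_instance

variable [Etale f]

/-- two distinct lifts of a field valued point give a point off the diagonal -/
theorem exists_lift_offDiag {K : Type u} [Field K] (a b : Spec (CommRingCat.of K) ⟶ Y)
    (h : a ≫ f = b ≫ f) (hab : a ≠ b) :
    ∃ z : Spec (CommRingCat.of K) ⟶ (offDiag f).toScheme,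
      z ≫ (offDiag f).ι = pullback.lift a b h := by
  have hr : Set.range (pullback.lift a b h) ⊆ Set.range (offDiag f).ι := by
    rintro _ ⟨x, rfl⟩
    rw [Scheme.Opens.range_ι]
    show _ ∈ (Set.range (pullback.diagonal f))ᶜ
    intro hx
    apply hab
    have hr' : Set.range (pullback.lift a b h) ⊆ Set.range (pullback.diagonal f) := by
      rintro _ ⟨x', rfl⟩
      rw [eq_closedPoint x', ← eq_closedPoint x]
      exact hx
    have e := IsOpenImmersion.lift_fac (pullback.diagonal f) (pullback.lift a b h) hr'
    have e1 := congrArg (· ≫ pullback.fst f f) e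
    have e2 := congrArg (· ≫ pullback.snd f f) e
    simp only [Category.assoc, pullback.diagonal_fst, pullback.diagonal_snd, Category.comp_id,
      pullback.lift_fst, pullback.lift_snd] at e1 e2
    exact e1.symm.trans e2
  exact ⟨IsOpenImmersion.lift (offDiag f).ι (pullback.lift a b h) hr,
    IsOpenImmersion.lift_fac _ _ _⟩

/-- a point off the diagonal has distinct components -/
theorem fst_ne_snd_of_offDiag {K : Type u} [Field K]
    (z : Spec (CommRingCat.of K) ⟶ (offDiag f).toScheme) :
    z ≫ (offDiag f).ι ≫ pullback.fst f f ≠ z ≫ (offDiag f).ι ≫ pullback.snd f f := by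
  intro h
  have e : z ≫ (offDiag f).ι = (z ≫ (offDiag f).ι ≫ pullback.fst f f) ≫ pullback.diagonal f := by
    apply pullback.hom_ext
    · simp
    · simp [h]
  have hx : (z ≫ (offDiag f).ι) (IsLocalRing.closedPoint K : PrimeSpectrum K) ∈
      Set.range (pullback.diagonal f) := by
    rw [e]
    exact ⟨_, rfl⟩
  have hx' : (z ≫ (offDiag f).ι) (IsLocalRing.closedPoint K : PrimeSpectrum K) ∈
      Set.range (offDiag f).ι := ⟨z (IsLocalRing.closedPoint K : PrimeSpectrum K), rfl⟩
  rw [Scheme.Opens.range_ι] at hx'
  exact hx' hx

theorem Npts_succ (n : ℕ) : Npts f (n + 1) = f '' Npts (offDiagFst f) n := by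
  ext b
  constructor
  · rintro ⟨K, _, β, y, hb, hy, hinj⟩
    refine ⟨(y 0) (IsLocalRing.closedPoint K : PrimeSpectrum K), ?_, ?_⟩
    · have hne : ∀ i : Fin n, y 0 ≠ y i.succ := fun i h => (Fin.succ_ne_zero i) (hinj h).symm
      have hcomm : ∀ i : Fin n, y 0 ≫ f = y i.succ ≫ f := fun i => (hy 0).trans (hy _).symm
      choose z hz using fun i : Fin n => exists_lift_offDiag f (y 0) (y i.succ) (hcomm i) (hne i)
      refine ⟨K, inferInstance, y 0, z, rfl, ?_, ?_⟩
      · intro i
        show z i ≫ (offDiag f).ι ≫ pullback.fst f f = y 0
        rw [← Category.assoc, hz i, pullback.lift_fst]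
      · intro i j hij
        have h1 : z i ≫ (offDiag f).ι ≫ pullback.snd f f = z j ≫ (offDiag f).ι ≫ pullback.snd f f := by
          rw [hij]
        rw [← Category.assoc, ← Category.assoc, hz i, hz j, pullback.lift_snd, pullback.lift_snd] at h1
        exact Fin.succ_injective _ (hinj h1)
    · rw [← hb, ← hy 0]
      rfl
  · rintro ⟨y₀, ⟨K, _, η, z, hη, hz, hinj⟩, rfl⟩
    have hz' : ∀ i, z i ≫ (offDiag f).ι ≫ pullback.fst f f = η := hz
    refine ⟨K, inferInstance, η ≫ f,
      Fin.cons η (fun i => z i ≫ (offDiag f).ι ≫ pullback.snd f f), ?_, ?_, ?_⟩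
    · rw [← hη]; rfl
    · intro i
      refine Fin.cases ?_ (fun i => ?_) i
      · simp
      · simp only [Fin.cons_succ, Category.assoc]
        rw [← pullback.condition]
        have := hz' i
        simp only [← Category.assoc] at this ⊢
        rw [this]
    · intro i j hij
      induction i using Fin.cases with
      | zero =>
        induction j using Fin.cases with
        | zero => rfl
        | succ j =>
          exfalso
          simp only [Fin.cons_zero, Fin.cons_succ] at hij
          apply fst_ne_snd_of_offDiag f (z j)
          rw [hz' j, hij]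
      | succ i =>
        induction j using Fin.cases with
        | zero =>
          exfalso
          simp only [Fin.cons_zero, Fin.cons_succ] at hij
          apply fst_ne_snd_of_offDiag f (z i)
          rw [hz' i, hij]
        | succ j =>
          simp only [Fin.cons_succ] at hij
          congr 1
          apply hinj
          rw [← cancel_mono (offDiag f).ι]
          apply pullback.hom_ext
          · simp only [Category.assoc]
            rw [hz' i, hz' j]
          · simpa only [Category.assoc] using hij

end

/-- the strata are open -/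
theorem isOpen_Npts (n : ℕ) : ∀ {Y B : Scheme.{u}} (f : Y ⟶ B) [Etale f] [IsSeparated f],
    IsOpen (Npts f n) := by
  induction n with
  | zero =>
    intro Y B f _ _
    rw [Npts_zero]
    exact isOpen_univ
  | succ n ih =>
    intro Y B f _ _
    rw [Npts_succ]
    exact f.isOpenMap _ (ih (offDiagFst f))

end Groth.Agent.Helper5.DegStr
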