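import Mathlib
import Groth.Agent.Helper5.DegStr1
import Groth.Agent.Lead.SchDescent2

/-!
# An etale separated morphism with a constant number of geometric points in the fibres is finite
-/

set_option autoImplicit false
universe u
open CategoryTheory CategoryTheory.Limits AlgebraicGeometry

namespace Groth.Agent.Helper5.DegStr

variable {Y B : Scheme.{u}} (f : Y ⟶ B)

theorem fromSpecResidueField_closedPoint (X : Scheme.{u}) (x : ↥X) :
    X.fromSpecResidueField x (IsLocalRing.closedPoint _ : PrimeSpectrum (X.residueField x)) = x := by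
  have h : X.fromSpecResidueField x (IsLocalRing.closedPoint _ : PrimeSpectrum _) ∈
      Set.range (X.fromSpecResidueField x) := ⟨_, rfl⟩
  rw [X.range_fromSpecResidueField x] at h
  exact h

/-- two field valued points with the same image point become equal over a common extension -/
theorem exists_common_extension {K L : Type u} [Field K] [Field L]
    (β : Spec (CommRingCat.of K) ⟶ B) (γ : Spec (CommRingCat.of L) ⟶ B)
    (h : β (IsLocalRing.closedPoint K : PrimeSpectrum K) =
      γ (IsLocalRing.closedPoint L : PrimeSpectrum L)) :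
    ∃ (M : Type u) (_ : Field M) (a : Spec (CommRingCat.of M) ⟶ Spec (CommRingCat.of K))
      (c : Spec (CommRingCat.of M) ⟶ Spec (CommRingCat.of L)), a ≫ β = c ≫ γ := by
  obtain ⟨z, -, -⟩ := Scheme.Pullback.exists_preimage_pullback (f := β) (g := γ) _ _ h
  exact ⟨(pullback β γ).residueField z, inferInstance,
    (pullback β γ).fromSpecResidueField z ≫ pullback.fst β γ,
    (pullback β γ).fromSpecResidueField z ≫ pullback.snd β γ, by
      rw [Category.assoc, Category.assoc, pullback.condition]⟩

theorem epi_spec_field {K M : Type u} [Field K] [Field M]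
    (a : Spec (CommRingCat.of M) ⟶ Spec (CommRingCat.of K)) : Epi a := by
  haveI : Surjective a := ⟨fun z => ⟨(IsLocalRing.closedPoint M : PrimeSpectrum M),
    (inferInstance : Subsingleton (PrimeSpectrum K)).elim _ _⟩⟩
  haveI : Flat a := inferInstance
  exact Flat.epi_of_flat_of_surjective a

theorem mem_Npts_one (y : ↥Y) : f y ∈ Npts f 1 := by
  refine ⟨Y.residueField y, inferInstance, Y.fromSpecResidueField y ≫ f,
    fun _ => Y.fromSpecResidueField y, ?_, fun _ => rfl, fun i j _ => Subsingleton.elim i j⟩
  show f (Y.fromSpecResidueField y _) = f y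
  rw [fromSpecResidueField_closedPoint]

theorem isEmpty_of_Npts_one (h : Npts f 1 = ∅) : IsEmpty ↥Y :=
  ⟨fun y => by have := mem_Npts_one f y; rw [h] at this; exact this⟩

variable [IsSeparated f] [Etale f]

theorem Npts_offDiagFst_eq_empty (n : ℕ) (h : Npts f (n + 1) = ∅) :
    Npts (offDiagFst f) n = ∅ := by
  rw [Npts_succ] at h
  exact Set.image_eq_empty.1 h

theorem Npts_offDiagFst_eq_univ (n : ℕ) (h1 : Npts f (n + 1) = Set.univ)
    (h2 : Npts f (n + 2) = ∅) : Npts (offDiagFst f) n = Set.univ := by
  rw [Set.eq_univ_iff_forall]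
  intro y₀
  have hb : f y₀ ∈ Npts f (n + 1) := by rw [h1]; trivial
  obtain ⟨K, _, β, y, hβ, hy, hinj⟩ := hb
  let η₀ : Spec (CommRingCat.of (Y.residueField y₀)) ⟶ Y := Y.fromSpecResidueField y₀
  have hη₀ : ∀ p, η₀ p = y₀ := fun p => Y.fromSpecResidueField_apply y₀ p
  obtain ⟨M, _, a, c, hac⟩ := exists_common_extension β (η₀ ≫ f) (by
    rw [hβ]
    show f y₀ = f (η₀ _)
    rw [hη₀])
  haveI := epi_spec_field a
  let η := c ≫ η₀
  have hη : η ≫ f = a ≫ β := by
    show (c ≫ η₀) ≫ f = a ≫ β
    rw [Category.assoc, hac]
  have hηpt : η (IsLocalRing.closedPoint M : PrimeSpectrum M) = y₀ := by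
    show η₀ (c _) = y₀
    rw [hη₀]
  have hy' : ∀ i, (a ≫ y i) ≫ f = a ≫ β := fun i => by rw [Category.assoc, hy i]
  have hinj' : Function.Injective (fun i => a ≫ y i) := fun i j hij =>
    hinj ((cancel_epi a).1 hij)
  by_cases hmem : ∃ i₀, a ≫ y i₀ = η
  · obtain ⟨i₀, hi₀⟩ := hmem
    have hne : ∀ j : Fin n, η ≠ a ≫ y (i₀.succAbove j) := by
      intro j h
      rw [← hi₀] at h
      exact (Fin.succAbove_ne i₀ j) (hinj' h).symm
    have hcomm : ∀ j : Fin n, η ≫ f = (a ≫ y (i₀.succAbove j)) ≫ f := fun j =>
      hη.trans (hy' _).symm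
    choose z hz using fun j : Fin n =>
      exists_lift_offDiag f η (a ≫ y (i₀.succAbove j)) (hcomm j) (hne j)
    refine ⟨M, inferInstance, η, z, hηpt, ?_, ?_⟩
    · intro j
      show z j ≫ (offDiag f).ι ≫ pullback.fst f f = η
      rw [← Category.assoc, hz j, pullback.lift_fst]
    · intro i j hij
      have h1 : z i ≫ (offDiag f).ι ≫ pullback.snd f f =
          z j ≫ (offDiag f).ι ≫ pullback.snd f f := by rw [hij]
      rw [← Category.assoc, ← Category.assoc, hz i, hz j, pullback.lift_snd,
        pullback.lift_snd] at h1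
      exact Fin.succAbove_right_injective (hinj' h1)
  · exfalso
    have hmem' : ∀ i, a ≫ y i ≠ η := fun i h => hmem ⟨i, h⟩
    have : (a ≫ β) (IsLocalRing.closedPoint M : PrimeSpectrum M) ∈ Npts f (n + 2) := by
      refine ⟨M, inferInstance, a ≫ β, Fin.cons η (fun i => a ≫ y i), rfl, ?_, ?_⟩
      · intro i
        refine Fin.cases ?_ (fun i => ?_) i
        · simpa using hη
        · simpa using hy' i
      · intro i j hij
        induction i using Fin.cases with
        | zero =>
          induction j using Fin.cases with
          | zero => rfl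
          | succ j =>
            exfalso
            simp only [Fin.cons_zero, Fin.cons_succ] at hij
            exact hmem' j hij.symm
        | succ i =>
          induction j using Fin.cases with
          | zero =>
            exfalso
            simp only [Fin.cons_zero, Fin.cons_succ] at hij
            exact hmem' i hij
          | succ j =>
            simp only [Fin.cons_succ] at hij
            rw [hinj' hij]
    rw [h2] at this
    exact this

/-- the first projection of `Y ×_B Y` is finite if the off-diagonal part is finite over `Y` -/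
theorem isFinite_fst_of_offDiagFst (h : IsFinite (offDiagFst f)) :
    IsFinite (pullback.fst f f) := by
  have hc : IsCompl (pullback.diagonal f).opensRange (offDiag f).ι.opensRange := by
    rw [Scheme.Opens.opensRange_ι]
    constructor
    · rw [disjoint_iff]
      ext x
      simp only [TopologicalSpace.Opens.coe_inf, Scheme.Hom.coe_opensRange, Set.mem_inter_iff,
        TopologicalSpace.Opens.coe_bot, Set.mem_empty_iff_false, iff_false, not_and]
      intro hx hx'
      exact hx' hx
    · rw [codisjoint_iff]
      ext x
      simp only [TopologicalSpace.Opens.coe_sup, Scheme.Hom.coe_opensRange, Set.mem_union,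
        TopologicalSpace.Opens.coe_top, Set.mem_univ, iff_true]
      by_cases hx : x ∈ Set.range (pullback.diagonal f)
      · exact Or.inl hx
      · exact Or.inr hx
  obtain ⟨hcol⟩ := nonempty_isColimit_binaryCofanMk_of_isCompl (pullback.diagonal f)
    (offDiag f).ι hc
  let e : Y ⨿ (offDiag f).toScheme ≅ pullback f f :=
    (colimit.isColimit _).coconePointUniqueUpToIso hcol
  have he1 : coprod.inl ≫ e.hom = pullback.diagonal f :=
    (colimit.isColimit _).comp_coconePointUniqueUpToIso_hom hcol ⟨WalkingPair.left⟩
  have he2 : coprod.inr ≫ e.hom = (offDiag f).ι :=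
    (colimit.isColimit _).comp_coconePointUniqueUpToIso_hom hcol ⟨WalkingPair.right⟩
  have hfst : pullback.fst f f = e.inv ≫ coprod.desc (𝟙 Y) (offDiagFst f) := by
    rw [Iso.eq_inv_comp]
    apply coprod.hom_ext
    · rw [← Category.assoc, he1, pullback.diagonal_fst, coprod.inl_desc]
    · rw [← Category.assoc, he2, coprod.inr_desc]
      rfl
  rw [hfst]
  haveI := h
  infer_instance

/-- An etale separated morphism all of whose fibres have exactly `n` geometric points is finite. -/
theorem isFinite_of_Npts (n : ℕ) : ∀ {Y B : Scheme.{u}} (f : Y ⟶ B) [Etale f] [IsSeparated f],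
    Npts f n = Set.univ → Npts f (n + 1) = ∅ → IsFinite f := by
  induction n with
  | zero =>
    intro Y B f _ _ _ h
    haveI := isEmpty_of_Npts_one f h
    infer_instance
  | succ n ih =>
    intro Y B f _ _ h1 h2
    have hfin : IsFinite (offDiagFst f) :=
      ih (offDiagFst f) (Npts_offDiagFst_eq_univ f n h1 h2) (Npts_offDiagFst_eq_empty f (n + 1) h2)
    have hfst := isFinite_fst_of_offDiagFst f hfin
    have hsurj : Surjective f := by
      refine ⟨fun b => ?_⟩
      have hb : b ∈ Npts f (n + 1) := by rw [h1]; trivial
      obtain ⟨K, _, β, y, hβ, hy, -⟩ := hb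
      refine ⟨y 0 (IsLocalRing.closedPoint K : PrimeSpectrum K), ?_⟩
      rw [← hβ, ← hy 0]
      rfl
    have hQ : (@Surjective ⊓ @Flat ⊓ @LocallyOfFinitePresentation : MorphismProperty Scheme.{u}) f :=
      ⟨⟨hsurj, inferInstance⟩, inferInstance⟩
    exact MorphismProperty.of_pullback_fst_of_descendsAlong (P := @IsFinite)
      (Q := (@Surjective ⊓ @Flat ⊓ @LocallyOfFinitePresentation : MorphismProperty Scheme.{u}))
      (f := f) (g := f) hQ hfst

end Groth.Agent.Helper5.DegStr
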