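import Mathlib
import Groth.Agent.Helper5.DegStr1
import Groth.Agent.Helper5.UnramLqf

/-!
# Over a point with finite fibre the number of geometric points is bounded
-/

set_option autoImplicit false
universe u
open CategoryTheory CategoryTheory.Limits AlgebraicGeometry

namespace Groth.Agent.Helper5.DegStr

variable {Y B : Scheme.{u}} (f : Y ⟶ B)

theorem exists_factor_residueField {K : Type u} [Field K] (β : Spec (CommRingCat.of K) ⟶ B)
    (b : ↥B) (h : β (IsLocalRing.closedPoint K : PrimeSpectrum K) = b) :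
    ∃ φ : B.residueField b ⟶ CommRingCat.of K, Spec.map φ ≫ B.fromSpecResidueField b = β := by
  subst h
  exact ⟨_, Scheme.descResidueField_stalkClosedPointTo_fromSpecResidueField K B β⟩

theorem quasiCompact_of_finite' {X Z : Scheme.{u}} (g : X ⟶ Z) [Finite ↥X] : QuasiCompact g :=
  ⟨fun _ _ _ => (Set.toFinite _).isCompact⟩

/-- counting the sections of a finite scheme over a field -/
theorem card_sections_le {κ : Type u} [Field κ] {F : Scheme.{u}}
    (p : F ⟶ Spec (CommRingCat.of κ)) [IsFinite p] :
    ∃ n : ℕ, ∀ (K : Type u) [Field K] (φ : CommRingCat.of κ ⟶ CommRingCat.of K) (m : ℕ)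
      (σ : Fin m → (Spec (CommRingCat.of K) ⟶ F)), (∀ i, σ i ≫ p = Spec.map φ) →
        Function.Injective σ → m ≤ n := by
  haveI : IsAffine F := isAffine_of_isAffineHom p
  let A : CommRingCat.{u} := Γ(F, ⊤)
  let ψ : CommRingCat.of κ ⟶ A := (Scheme.ΓSpecIso (CommRingCat.of κ)).inv ≫ p.appTop
  have hψ : ψ.hom.Finite := by
    have h1 : p.appTop.hom.Finite := p.finite_appTop
    have h2 : (Scheme.ΓSpecIso (CommRingCat.of κ)).inv.hom.Finite :=
      RingHom.Finite.of_surjective _
        ((ConcreteCategory.bijective_of_isIso (Scheme.ΓSpecIso (CommRingCat.of κ)).inv).surjective)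
    exact h1.comp h2
  letI : Algebra κ A := ψ.hom.toAlgebra
  haveI : Module.Finite κ A := hψ
  refine ⟨Module.finrank κ A, ?_⟩
  intro K _ φ m σ hσ hinj
  letI : Algebra κ K := φ.hom.toAlgebra
  -- the ring homomorphism of a section
  let τ : (Spec (CommRingCat.of K) ⟶ F) → (A ⟶ CommRingCat.of K) := fun s =>
    s.appTop ≫ (Scheme.ΓSpecIso (CommRingCat.of K)).hom
  have hτinj : Function.Injective τ := by
    intro s s' h
    apply ext_of_isAffine
    exact (cancel_mono (Scheme.ΓSpecIso (CommRingCat.of K)).hom).1 h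
  have hτ : ∀ i, ψ ≫ τ (σ i) = φ := by
    intro i
    have h1 : (σ i ≫ p).appTop = (Spec.map φ).appTop := by rw [hσ i]
    rw [Scheme.Hom.comp_appTop] at h1
    show ((Scheme.ΓSpecIso (CommRingCat.of κ)).inv ≫ p.appTop) ≫ (σ i).appTop ≫ (Scheme.ΓSpecIso (CommRingCat.of K)).hom = φ
    rw [Category.assoc, ← Category.assoc p.appTop, h1, Scheme.ΓSpecIso_naturality, Iso.inv_hom_id_assoc]
  let α : Fin m → (A →ₐ[κ] K) := fun i =>
    { (τ (σ i)).hom with
      commutes' := fun r => by
        have := congrArg (fun g => g.hom r) (hτ i)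
        exact this }
  have hα : Function.Injective α := by
    intro i j hij
    apply hinj
    apply hτinj
    ext x
    exact congrArg (fun g : A →ₐ[κ] K => g x) hij
  have h1 : Nat.card (Fin m) ≤ Nat.card (A →ₐ[κ] K) := Nat.card_le_card_of_injective α hα
  rw [Nat.card_fin] at h1
  exact h1.trans (card_algHom_le_finrank κ A K)

variable [Etale f]

/-- Over a point with finite fibre, the number of geometric points in the fibre is bounded. -/
theorem exists_not_mem_Npts (b : ↥B) (hfin : (f ⁻¹' {b}).Finite) : ∃ n, b ∉ Npts f n := by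
  let p : f.fiber b ⟶ Spec (CommRingCat.of (B.residueField b)) := f.fiberToSpecResidueField b
  haveI : Finite ↥(f.fiber b) := by
    haveI : Finite ↥(f ⁻¹' {b}) := hfin.to_subtype
    exact (f.fiberHomeo b).toEquiv.finite_iff.2 inferInstance
  haveI : QuasiCompact p := quasiCompact_of_finite' p
  haveI : Etale p := by
    show Etale (pullback.snd f (B.fromSpecResidueField b))
    infer_instance
  haveI : LocallyQuasiFinite p := Groth.Agent.Helper5.UnramLqf.locallyQuasiFinite_of_unramified p
  haveI : IsFinite p := IsFinite.of_locallyQuasiFinite p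
  obtain ⟨n, hn⟩ := card_sections_le p
  refine ⟨n + 1, ?_⟩
  rintro ⟨K, _, β, y, hβ, hy, hinj⟩
  obtain ⟨φ, hφ⟩ := exists_factor_residueField β b hβ
  have hcomm : ∀ i, y i ≫ f = Spec.map φ ≫ B.fromSpecResidueField b := fun i => (hy i).trans hφ.symm
  let σ : Fin (n + 1) → (Spec (CommRingCat.of K) ⟶ f.fiber b) := fun i =>
    pullback.lift (y i) (Spec.map φ) (hcomm i)
  have hσ : ∀ i, σ i ≫ p = Spec.map φ := fun i => pullback.lift_snd _ _ _
  have hσinj : Function.Injective σ := by
    intro i j hij
    apply hinj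
    have := congrArg (· ≫ pullback.fst f (B.fromSpecResidueField b)) hij
    dsimp only [σ] at this
    rwa [pullback.lift_fst, pullback.lift_fst] at this
  have := hn K φ (n + 1) σ hσ hσinj
  omega

end Groth.Agent.Helper5.DegStr
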