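import Mathlib
import Groth.Agent.Helper5.DegStr2
import Groth.Agent.Helper5.DegStr3

/-!
# A Baire type property of affine schemes, and an open on which the number of geometric points
of the fibres of an etale separated morphism with finite fibres is constant
-/

set_option autoImplicit false
universe u
open CategoryTheory CategoryTheory.Limits AlgebraicGeometry TopologicalSpace

namespace Groth.Agent.Helper5.DegStr

/-- In a nonempty affine scheme, a countable intersection of dense open subsets is nonempty. -/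
theorem nonempty_iInter_of_dense {B : Scheme.{u}} [IsAffine B] [Nonempty ↥B] (N : ℕ → Set ↥B)
    (ho : ∀ k, IsOpen (N k)) (hd : ∀ k, Dense (N k)) : (⋂ k, N k).Nonempty := by
  classical
  have step : ∀ (h : Γ(B, ⊤)) (k : ℕ), (B.basicOpen h : Set ↥B).Nonempty →
      ∃ h' : Γ(B, ⊤), (B.basicOpen h' : Set ↥B).Nonempty ∧ B.basicOpen h' ≤ B.basicOpen h ∧
        (B.basicOpen h' : Set ↥B) ⊆ N k := by
    intro h k hne
    obtain ⟨x, hx1, hx2⟩ := (hd k).inter_open_nonempty _ (B.basicOpen h).isOpen hne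
    obtain ⟨_, ⟨_, ⟨g, rfl⟩, rfl⟩, hxg, hsub⟩ :=
      (isBasis_basicOpen B).exists_subset_of_mem_open
        (show x ∈ (B.basicOpen h : Set ↥B) ∩ N k from ⟨hx1, hx2⟩)
        ((B.basicOpen h).isOpen.inter (ho k))
    exact ⟨g, ⟨x, hxg⟩, fun y hy => (hsub hy).1, fun y hy => (hsub hy).2⟩
  have h1ne : (B.basicOpen (1 : Γ(B, ⊤)) : Set ↥B).Nonempty := by
    rw [Scheme.basicOpen_of_isUnit _ isUnit_one]
    exact Set.univ_nonempty
  let σ : ℕ → {h : Γ(B, ⊤) // (B.basicOpen h : Set ↥B).Nonempty} := fun k =>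
    Nat.rec ⟨(step 1 0 h1ne).choose, (step 1 0 h1ne).choose_spec.1⟩
      (fun k prev => ⟨(step prev.1 (k + 1) prev.2).choose,
        (step prev.1 (k + 1) prev.2).choose_spec.1⟩) k
  have hσ0 : (B.basicOpen (σ 0).1 : Set ↥B) ⊆ N 0 := (step 1 0 h1ne).choose_spec.2.2
  have hσs : ∀ k, B.basicOpen (σ (k + 1)).1 ≤ B.basicOpen (σ k).1 ∧
      (B.basicOpen (σ (k + 1)).1 : Set ↥B) ⊆ N (k + 1) := fun k =>
    (step (σ k).1 (k + 1) (σ k).2).choose_spec.2
  have hσN : ∀ k, (B.basicOpen (σ k).1 : Set ↥B) ⊆ N k := by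
    intro k
    cases k with
    | zero => exact hσ0
    | succ k => exact (hσs k).2
  have hanti : Antitone (fun k => B.basicOpen (σ k).1) :=
    antitone_nat_of_succ_le (fun k => (hσs k).1)
  let S : Submonoid Γ(B, ⊤) := Submonoid.closure (Set.range (fun k => (σ k).1))
  have hS : ∀ s ∈ S, ∃ k, B.basicOpen (σ k).1 ≤ B.basicOpen s := by
    intro s hs
    induction hs using Submonoid.closure_induction with
    | mem x hx =>
      obtain ⟨k, rfl⟩ := hx
      exact ⟨k, le_rfl⟩
    | one =>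
      refine ⟨0, ?_⟩
      rw [Scheme.basicOpen_of_isUnit _ isUnit_one]
      exact le_top
    | mul x y _ _ hx hy =>
      obtain ⟨i, hi⟩ := hx
      obtain ⟨j, hj⟩ := hy
      refine ⟨max i j, ?_⟩
      rw [Scheme.basicOpen_mul]
      exact le_inf ((hanti (le_max_left i j)).trans hi) ((hanti (le_max_right i j)).trans hj)
  have hdisj : Disjoint ((⊥ : Ideal Γ(B, ⊤)) : Set Γ(B, ⊤)) (S : Set Γ(B, ⊤)) := by
    rw [Set.disjoint_left]
    intro s hs hsS
    have hs0 : s = 0 := hs
    obtain ⟨k, hk⟩ := hS s hsS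
    obtain ⟨x, hx⟩ := (σ k).2
    have := hk hx
    rw [hs0, Scheme.basicOpen_zero] at this
    exact this
  obtain ⟨P, hP, -, hPS⟩ := Ideal.exists_le_prime_disjoint ⊥ S hdisj
  let x : ↥B := (isAffineOpen_top B).fromSpec ⟨P, hP⟩
  refine ⟨x, Set.mem_iInter.2 fun k => hσN k ?_⟩
  have hmem : (⟨P, hP⟩ : PrimeSpectrum Γ(B, ⊤)) ∈
      ((isAffineOpen_top B).fromSpec ⁻¹ᵁ B.basicOpen (σ k).1) := by
    rw [IsAffineOpen.fromSpec_preimage_basicOpen]
    show (σ k).1 ∉ P
    intro hmemP
    exact Set.disjoint_left.1 hPS hmemP (Submonoid.subset_closure ⟨k, rfl⟩)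
  exact hmem

variable {Y B : Scheme.{u}} (f : Y ⟶ B)

/-- For an etale separated morphism with finite fibres over a nonempty affine base there is a
nonempty open of the base over which the number of geometric points of the fibres is constant. -/
theorem exists_open_const [Etale f] [IsSeparated f] [IsAffine B] [Nonempty ↥B]
    (hfin : ∀ b : ↥B, (f ⁻¹' {b}).Finite) :
    ∃ (n : ℕ) (U : Set ↥B), IsOpen U ∧ U.Nonempty ∧ U ⊆ Npts f n ∧ Disjoint U (Npts f (n + 1)) := by
  classical
  have hex : ∃ n, ¬ Dense (Npts f n) := by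
    by_contra hcon
    push_neg at hcon
    obtain ⟨x, hx⟩ := nonempty_iInter_of_dense (fun k => Npts f k) (fun k => isOpen_Npts k f) hcon
    obtain ⟨n, hn⟩ := exists_not_mem_Npts f x (hfin x)
    exact hn (Set.mem_iInter.1 hx n)
  let n := Nat.find hex
  have hn : ¬ Dense (Npts f n) := Nat.find_spec hex
  have hn0 : n ≠ 0 := by
    intro h0
    apply hn
    rw [h0, Npts_zero]
    exact dense_univ
  obtain ⟨m, hm⟩ := Nat.exists_eq_succ_of_ne_zero hn0
  have hmd : Dense (Npts f m) := by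
    by_contra hcon
    have := Nat.find_min' hex hcon
    omega
  have hU : ((closure (Npts f n))ᶜ).Nonempty := by
    rw [Set.nonempty_compl]
    intro h
    exact hn (dense_iff_closure_eq.2 h)
  obtain ⟨x, hx1, hx2⟩ := hmd.inter_open_nonempty _ isClosed_closure.isOpen_compl hU
  refine ⟨m, (closure (Npts f n))ᶜ ∩ Npts f m, isClosed_closure.isOpen_compl.inter (isOpen_Npts m f),
    ⟨x, hx1, hx2⟩, Set.inter_subset_right, ?_⟩
  rw [Set.disjoint_left]
  rintro y ⟨hy1, -⟩ hy2
  apply hy1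
  apply subset_closure
  rw [hm]
  exact hy2

end Groth.Agent.Helper5.DegStr
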