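import Mathlib
import Groth.Agent.Helper2.Grpd12
import Groth.Agent.Helper8.SubGrpdA
import Groth.Agent.Helper8.GrpdGlueF

/-!
# Quotient of an affine scheme by a finite locally free equivalence relation (packaged form)

An equivalence relation `s, t : R ⟶ U` over `S` given by "jointly monic + reflexive + symmetric +
transitive" data is made into a `Grpd.GroupoidScheme` (as a sub-groupoid of the pair groupoid, via
helper8's `SubGrpd`), and helper8's quotient engine `GrpdGlue` is applied.
-/

set_option autoImplicit false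
universe u

namespace Groth.Agent.Helper5.MonoQuot

open CategoryTheory CategoryTheory.Limits AlgebraicGeometry Grpd
open Groth.Agent.Helper2 Groth.Agent.Helper2.Grpd12 Groth.Agent.Helper8.SubGrpd
open Groth.Agent.Helper8

variable {S : Scheme.{u}} {U R : Scheme.{u}}

/-- an equivalence relation on `U` over `S` (in terms of scheme valued points) -/
structure EqvData (pU : U ⟶ S) (s t : R ⟶ U) where
  w : s ≫ pU = t ≫ pU
  jm : ∀ {T : Scheme.{u}} (a b : T ⟶ R), a ≫ s = b ≫ s → a ≫ t = b ≫ t → a = b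
  e : U ⟶ R
  e_s : e ≫ s = 𝟙 U
  e_t : e ≫ t = 𝟙 U
  i : R ⟶ R
  i_s : i ≫ s = t
  i_t : i ≫ t = s
  c : pullback s t ⟶ R
  c_s : c ≫ s = pullback.snd s t ≫ s
  c_t : c ≫ t = pullback.fst s t ≫ t

variable {pU : U ⟶ S} {s t : R ⟶ U} (D : EqvData pU s t)

/-- the inclusion into the pair groupoid -/
noncomputable def EqvData.ι : R ⟶ pullback pU pU := pullback.lift t s D.w.symm

lemma EqvData.ι_s : D.ι ≫ pullback.snd pU pU = s := pullback.lift_snd _ _ _
lemma EqvData.ι_t : D.ι ≫ pullback.fst pU pU = t := pullback.lift_fst _ _ _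

instance EqvData.mono_ι : Mono D.ι := by
  constructor
  intro T a b h
  apply D.jm
  · have := congrArg (· ≫ pullback.snd pU pU) h
    simpa only [Category.assoc, D.ι_s] using this
  · have := congrArg (· ≫ pullback.fst pU pU) h
    simpa only [Category.assoc, D.ι_t] using this

/-- the composition on the sub-groupoid -/
noncomputable def EqvData.cP :
    pullback (D.ι ≫ pullback.snd pU pU) (D.ι ≫ pullback.fst pU pU) ⟶ R :=
  pullback.lift (pullback.fst _ _) (pullback.snd _ _)
    ((congrArg (pullback.fst (D.ι ≫ pullback.snd pU pU) (D.ι ≫ pullback.fst pU pU) ≫ ·)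
      D.ι_s).symm.trans (pullback.condition.trans
        (congrArg (pullback.snd (D.ι ≫ pullback.snd pU pU) (D.ι ≫ pullback.fst pU pU) ≫ ·)
          D.ι_t))) ≫ D.c

lemma EqvData.cP_s : D.cP ≫ s = pullback.snd _ _ ≫ s := by
  unfold EqvData.cP
  rw [Category.assoc, D.c_s, ← Category.assoc, pullback.lift_snd]

lemma EqvData.cP_t : D.cP ≫ t = pullback.fst _ _ ≫ t := by
  unfold EqvData.cP
  rw [Category.assoc, D.c_t, ← Category.assoc, pullback.lift_fst]

/-- the sub-groupoid data -/
noncomputable def EqvData.subData : SubData (pairGrpd pU) where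
  P := R
  ι := D.ι
  eP := D.e
  he := by
    show D.e ≫ D.ι = pullback.lift (𝟙 U) (𝟙 U) rfl
    apply pullback.hom_ext
    · rw [Category.assoc, D.ι_t, D.e_t, pullback.lift_fst]
    · rw [Category.assoc, D.ι_s, D.e_s, pullback.lift_snd]
  iP := D.i
  hi := by
    show D.i ≫ D.ι = D.ι ≫ pullback.lift (pullback.snd pU pU) (pullback.fst pU pU)
      pullback.condition.symm
    apply pullback.hom_ext
    · rw [Category.assoc, Category.assoc, D.ι_t, D.i_t, pullback.lift_fst, D.ι_s]
    · rw [Category.assoc, Category.assoc, D.ι_s, D.i_s, pullback.lift_snd, D.ι_t]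
  cP := D.cP
  hc := by
    show D.cP ≫ D.ι = pullback.map (D.ι ≫ pullback.snd pU pU) (D.ι ≫ pullback.fst pU pU)
      (pullback.snd pU pU) (pullback.fst pU pU) D.ι D.ι (𝟙 U) _ _ ≫ pairC pU
    apply pullback.hom_ext
    · rw [Category.assoc, Category.assoc]
      refine ((congrArg (D.cP ≫ ·) D.ι_t).trans D.cP_t).trans ?_
      rw [pairC_fst, ← Category.assoc, pullback.lift_fst, Category.assoc]
      exact (congrArg (pullback.fst _ _ ≫ ·) D.ι_t).symm
    · rw [Category.assoc, Category.assoc]
      refine ((congrArg (D.cP ≫ ·) D.ι_s).trans D.cP_s).trans ?_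
      rw [pairC_snd, ← Category.assoc, pullback.lift_snd, Category.assoc]
      exact (congrArg (pullback.snd _ _ ≫ ·) D.ι_s).symm

instance EqvData.mono_subData_ι : Mono D.subData.ι := D.mono_ι

lemma pairGrpd_j (pU : U ⟶ S) : (pairGrpd pU).j = 𝟙 (pullback pU pU) := by
  apply pullback.hom_ext
  · exact (pullback.lift_fst _ _ _).trans (Category.id_comp _).symm
  · exact (pullback.lift_snd _ _ _).trans (Category.id_comp _).symm

instance EqvData.mono_subData_ι_j : Mono (D.subData.ι ≫ (pairGrpd pU).j) := by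
  rw [pairGrpd_j]
  exact mono_comp D.ι (𝟙 _)

/-- the groupoid scheme of the equivalence relation -/
noncomputable abbrev EqvData.grpd : Grpd.GroupoidScheme S := gp D.subData

lemma EqvData.grpd_s : D.grpd.s = s := D.ι_s
lemma EqvData.grpd_t : D.grpd.t = t := D.ι_t

instance EqvData.mono_grpd_j : Mono D.grpd.j := mono_gp_j D.subData

/-- Quotient of an affine scheme by a finite locally free equivalence relation. -/
theorem EqvData.exists_quotient (D : EqvData pU s t) [IsAffine U] [IsFinite s] [Flat s]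
    [LocallyOfFinitePresentation s] :
    ∃ (Y : Scheme.{u}) (q : U ⟶ Y) (pY : Y ⟶ S), q ≫ pY = pU ∧ IsAffine Y ∧ IsFinite q ∧ Flat q ∧
      LocallyOfFinitePresentation q ∧ Function.Surjective q ∧ IsPullback t s q q := by
  haveI : GrpdGlue.QuotHyp D.grpd :=
    ⟨by have h := ‹IsFinite s›; rw [← D.ι_s] at h; exact h,
      by have h := ‹Flat s›; rw [← D.ι_s] at h; exact h,
      by have h := ‹LocallyOfFinitePresentation s›; rw [← D.ι_s] at h; exact h,
      fun x => ⟨⊤, isAffineOpen_top U, fun _ _ => trivial⟩⟩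
  haveI : IsAffine D.grpd.U := ‹IsAffine U›
  obtain ⟨pY, hpY⟩ := GrpdGlue.exists_desc D.grpd pU
    (by rw [D.grpd_s, D.grpd_t]; exact D.w)
  refine ⟨GrpdGlue.Y D.grpd, GrpdGlue.q D.grpd, pY, hpY, GrpdGlue.isAffine_Y D.grpd,
    GrpdGlue.isFinite_q D.grpd, GrpdGlue.flat_q D.grpd, GrpdGlue.lfp_q D.grpd,
    GrpdGlue.q_surjective D.grpd, ?_⟩
  haveI := GrpdGlue.isIso_φ D.grpd
  have h := IsPullback.of_iso_pullback (fst := D.grpd.t) (snd := D.grpd.s)
    ⟨(GrpdGlue.s_q D.grpd).symm⟩ (asIso (GrpdGlue.φ D.grpd))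
    (GrpdGlue.φ_fst D.grpd) (GrpdGlue.φ_snd D.grpd)
  rwa [D.grpd_s, D.grpd_t] at h

end Groth.Agent.Helper5.MonoQuot
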