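import Mathlib
import Groth.Agent.Helper5.DegStr1
import Groth.Agent.Helper5.MonoQuot1

/-!
# Restriction of the strata to opens, finite sets in quasi-affine schemes, and quotients of
schemes by finite locally free equivalence relations with orbits in affine opens
-/

set_option autoImplicit false
universe u
open CategoryTheory CategoryTheory.Limits AlgebraicGeometry TopologicalSpace

namespace Groth.Agent.Helper5.DegStr

variable {Y B : Scheme.{u}} (f : Y ⟶ B)

theorem mem_Npts_morphismRestrict (U : B.Opens) (n : ℕ) (b : ↥U.toScheme) :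
    b ∈ Npts (f ∣_ U) n ↔ U.ι b ∈ Npts f n := by
  constructor
  · rintro ⟨K, _, β, y, hb, hy, hinj⟩
    refine ⟨K, inferInstance, β ≫ U.ι, fun i => y i ≫ (f ⁻¹ᵁ U).ι, ?_, ?_, ?_⟩
    · rw [← hb]; rfl
    · intro i
      rw [Category.assoc, ← morphismRestrict_ι, ← Category.assoc, hy i]
    · intro i j hij
      exact hinj ((cancel_mono (f ⁻¹ᵁ U).ι).1 hij)
  · rintro ⟨K, _, β', y', hb, hy, hinj⟩
    have hβr : Set.range β' ⊆ Set.range U.ι := by
      rintro _ ⟨x, rfl⟩
      rw [eq_closedPoint x, hb]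
      exact ⟨b, rfl⟩
    let β := IsOpenImmersion.lift U.ι β' hβr
    have hβ : β ≫ U.ι = β' := IsOpenImmersion.lift_fac _ _ _
    have hyr : ∀ i, Set.range (y' i) ⊆ Set.range (f ⁻¹ᵁ U).ι := by
      intro i
      rintro _ ⟨x, rfl⟩
      rw [Scheme.Opens.range_ι]
      show f (y' i x) ∈ U
      have h1 : f (y' i x) = β' x := by
        rw [← hy i]; rfl
      rw [h1, eq_closedPoint x, hb]
      exact b.2
    let y : Fin n → (Spec (CommRingCat.of K) ⟶ (f ⁻¹ᵁ U).toScheme) := fun i =>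
      IsOpenImmersion.lift (f ⁻¹ᵁ U).ι (y' i) (hyr i)
    have hy' : ∀ i, y i ≫ (f ⁻¹ᵁ U).ι = y' i := fun i => IsOpenImmersion.lift_fac _ _ _
    refine ⟨K, inferInstance, β, y, ?_, ?_, ?_⟩
    · apply U.ι.isOpenEmbedding.injective
      have : U.ι (β (IsLocalRing.closedPoint K : PrimeSpectrum K)) =
          β' (IsLocalRing.closedPoint K : PrimeSpectrum K) := by
        rw [← hβ]; rfl
      rw [this, hb]
    · intro i
      rw [← cancel_mono U.ι, Category.assoc, morphismRestrict_ι, ← Category.assoc, hy' i, hy i, hβ]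
    · intro i j hij
      apply hinj
      rw [← hy' i, ← hy' j, hij]

/-- a finite subset of an open of an affine scheme lies in a basic open inside that open -/
theorem exists_basicOpen_of_finite [IsAffine B] (U : B.Opens) (F : Set ↥B) (hF : F.Finite)
    (hFU : F ⊆ (U : Set ↥B)) :
    ∃ g : Γ(B, ⊤), F ⊆ (B.basicOpen g : Set ↥B) ∧ B.basicOpen g ≤ U := by
  classical
  rcases F.eq_empty_or_nonempty with rfl | ⟨x₀, hx₀⟩
  · refine ⟨0, Set.empty_subset _, ?_⟩
    rw [Scheme.basicOpen_zero]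
    exact bot_le
  let P : ↥B → Ideal Γ(B, ⊤) := fun x => RingHom.ker (B.Γevaluation x).hom
  have hP : ∀ x, (P x).IsPrime := fun x => RingHom.ker_isPrime _
  have hmemP : ∀ (x : ↥B) (g : Γ(B, ⊤)), g ∈ P x ↔ x ∉ B.basicOpen g := fun x g => by
    rw [RingHom.mem_ker]
    exact B.evaluation_eq_zero_iff_notMem_basicOpen (U := ⊤) x (by trivial) g
  let I : Ideal Γ(B, ⊤) := ⨅ x ∈ ((U : Set ↥B)ᶜ), P x
  have hmemI : ∀ g : Γ(B, ⊤), g ∈ I ↔ B.basicOpen g ≤ U := by
    intro g
    simp only [I, Ideal.mem_iInf, hmemP]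
    constructor
    · intro h y hy
      by_contra hyU
      exact h y hyU hy
    · intro h y hyU hy
      exact hyU (h hy)
  by_contra hcon
  push_neg at hcon
  have hsub : ((I : Set Γ(B, ⊤)) ⊆ ⋃ x ∈ (↑hF.toFinset : Set ↥B), (P x : Set Γ(B, ⊤))) := by
    intro g hg
    have hgU : B.basicOpen g ≤ U := (hmemI g).1 hg
    by_contra hgn
    simp only [Set.mem_iUnion, not_exists] at hgn
    apply hcon g _ hgU
    intro x hx
    by_contra hxg
    exact hgn x (by simpa using hx) ((hmemP x g).2 hxg)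
  obtain ⟨x, hx, hIx⟩ := (Ideal.subset_union_prime x₀ x₀ (fun i _ _ _ => hP i)).1 hsub
  have hxF : x ∈ F := by simpa using hx
  obtain ⟨_, ⟨_, ⟨g₀, rfl⟩, rfl⟩, hxg, hsub'⟩ :=
    (isBasis_basicOpen B).exists_subset_of_mem_open (hFU hxF) U.isOpen
  have hg₀ : g₀ ∈ I := (hmemI g₀).2 hsub'
  exact ((hmemP x g₀).1 (hIx hg₀)) hxg

/-- a finite subset of an open subscheme of an affine scheme lies in an affine open -/
theorem exists_affine_open_of_finite [IsAffine B] (U : B.Opens) (F : Set ↥U.toScheme)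
    (hF : F.Finite) : ∃ W : U.toScheme.Opens, IsAffineOpen W ∧ F ⊆ (W : Set ↥U.toScheme) := by
  obtain ⟨g, hg1, hg2⟩ := exists_basicOpen_of_finite U (U.ι '' F) (hF.image _) (by
    rintro _ ⟨x, -, rfl⟩
    exact x.2)
  refine ⟨U.ι ⁻¹ᵁ B.basicOpen g, ?_, ?_⟩
  · apply IsAffineOpen.preimage_of_isOpenImmersion ((isAffineOpen_top B).basicOpen g)
    rw [Scheme.Opens.opensRange_ι]
    exact hg2
  · intro x hx
    exact hg1 ⟨x, hx, rfl⟩

end Groth.Agent.Helper5.DegStr

namespace Groth.Agent.Helper5.MonoQuot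

open Grpd Groth.Agent.Helper2 Groth.Agent.Helper2.Grpd12 Groth.Agent.Helper8.SubGrpd
open Groth.Agent.Helper8

variable {S : Scheme.{u}} {U R : Scheme.{u}} {pU : U ⟶ S} {s t : R ⟶ U}

/-- Quotient of a scheme by a finite locally free equivalence relation all of whose orbits lie
in affine opens. -/
theorem EqvData.exists_quotient' (D : EqvData pU s t) [IsFinite s] [Flat s]
    [LocallyOfFinitePresentation s]
    (haff : ∀ x : ↥U, ∃ W : U.Opens, IsAffineOpen W ∧ t '' (s ⁻¹' {x}) ⊆ (W : Set ↥U)) :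
    ∃ (Y : Scheme.{u}) (q : U ⟶ Y) (pY : Y ⟶ S), q ≫ pY = pU ∧ IsFinite q ∧ Flat q ∧
      LocallyOfFinitePresentation q ∧ Function.Surjective q ∧ IsPullback t s q q := by
  haveI : GrpdGlue.QuotHyp D.grpd :=
    ⟨by have h := ‹IsFinite s›; rw [← D.ι_s] at h; exact h,
      by have h := ‹Flat s›; rw [← D.ι_s] at h; exact h,
      by have h := ‹LocallyOfFinitePresentation s›; rw [← D.ι_s] at h; exact h,
      fun x => by
        obtain ⟨W, hW, hWx⟩ := haff x
        refine ⟨W, hW, ?_⟩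
        have h1 : D.grpd.s = s := D.grpd_s
        have h2 : D.grpd.t = t := D.grpd_t
        rw [h1, h2]
        exact hWx⟩
  obtain ⟨pY, hpY⟩ := GrpdGlue.exists_desc D.grpd pU
    (by rw [D.grpd_s, D.grpd_t]; exact D.w)
  refine ⟨GrpdGlue.Y D.grpd, GrpdGlue.q D.grpd, pY, hpY,
    GrpdGlue.isFinite_q D.grpd, GrpdGlue.flat_q D.grpd, GrpdGlue.lfp_q D.grpd,
    GrpdGlue.q_surjective D.grpd, ?_⟩
  haveI := GrpdGlue.isIso_φ D.grpd
  have h := IsPullback.of_iso_pullback (fst := D.grpd.t) (snd := D.grpd.s)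
    ⟨(GrpdGlue.s_q D.grpd).symm⟩ (asIso (GrpdGlue.φ D.grpd))
    (GrpdGlue.φ_fst D.grpd) (GrpdGlue.φ_snd D.grpd)
  rwa [D.grpd_s, D.grpd_t] at h

end Groth.Agent.Helper5.MonoQuot
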