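import Mathlib

set_option autoImplicit false
universe u
open CategoryTheory CategoryTheory.Limits AlgebraicGeometry Opposite MorphismProperty

namespace Groth.Agent.Helper5.FppfLocT

set_option backward.isDefEq.respectTransparency.types false in
/-- A Zariski-local, base-change-stable property that descends along fppf coverings (single morphisms)
is local at the target for the fppf precoverage. -/
theorem isLocalAtTarget_fppf (P : MorphismProperty Scheme.{u}) [P.IsStableUnderBaseChange]
    [IsZariskiLocalAtTarget P]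
    [P.DescendsAlong (@Surjective ⊓ @Flat ⊓ @LocallyOfFinitePresentation)] :
    P.IsLocalAtTarget Scheme.fppfPrecoverage := by
  have : P.RespectsIso := MorphismProperty.IsStableUnderBaseChange.respectsIso
  change P.IsLocalAtTarget (Scheme.precoverage (@Flat ⊓ @LocallyOfFinitePresentation))
  refine MorphismProperty.IsLocalAtTarget.mk_of_small.{u} (fun 𝒰 hf i => P.pullback_snd _ _ hf) ?_
  intro X Y f 𝒰 h
  let c : (∐ 𝒰.X) ⟶ Y := Sigma.desc 𝒰.f
  have hmem := (Scheme.Cover.sigma 𝒰).mem₀
  rw [Scheme.presieve₀_mem_precoverage_iff] at hmem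
  have hc : (@Flat ⊓ @LocallyOfFinitePresentation : MorphismProperty Scheme.{u}) c :=
    hmem.2 PUnit.unit
  have hs : Surjective c := by
    constructor
    intro y
    obtain ⟨_, x, hx⟩ := hmem.1 y
    exact ⟨x, hx⟩
  have hQ : (@Surjective ⊓ @Flat ⊓ @LocallyOfFinitePresentation : MorphismProperty Scheme.{u}) c :=
    ⟨⟨hs, hc.1⟩, hc.2⟩
  have sq0 : IsPullback (pullback.snd f c) (pullback.fst f c) c f :=
    (IsPullback.of_hasPullback f c).flip
  refine MorphismProperty.of_isPullback_of_descendsAlong sq0 hQ ?_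
  rw [IsZariskiLocalAtTarget.iff_of_openCover (P := P) (sigmaOpenCover 𝒰.X)]
  intro j
  have sq1 : IsPullback (pullback.fst (pullback.snd f c) ((sigmaOpenCover 𝒰.X).f j))
      (pullback.snd (pullback.snd f c) ((sigmaOpenCover 𝒰.X).f j))
      (pullback.snd f c) ((sigmaOpenCover 𝒰.X).f j) := IsPullback.of_hasPullback _ _
  have sq2 : IsPullback (pullback.fst (pullback.snd f c) ((sigmaOpenCover 𝒰.X).f j) ≫
      pullback.fst f c)
      (pullback.snd (pullback.snd f c) ((sigmaOpenCover 𝒰.X).f j)) f
      ((sigmaOpenCover 𝒰.X).f j ≫ c) := sq1.paste_horiz (IsPullback.of_hasPullback f c)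
  have hcj : (sigmaOpenCover 𝒰.X).f j ≫ c = 𝒰.f j := by
    show Sigma.ι 𝒰.X j ≫ Sigma.desc 𝒰.f = 𝒰.f j
    simp
  rw [hcj] at sq2
  have sqj : IsPullback (pullback.fst f (𝒰.f j)) (pullback.snd f (𝒰.f j)) f (𝒰.f j) :=
    IsPullback.of_hasPullback _ _
  let e := sq2.isoIsPullback _ _ sqj
  have he : e.hom ≫ pullback.snd f (𝒰.f j) =
      pullback.snd (pullback.snd f c) ((sigmaOpenCover 𝒰.X).f j) :=
    IsPullback.isoIsPullback_hom_snd _ _ sq2 sqj
  show P (pullback.snd (pullback.snd f c) ((sigmaOpenCover 𝒰.X).f j))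
  rw [← he]
  exact (MorphismProperty.cancel_left_of_respectsIso P e.hom _).2 (h j)

theorem etale_fppf : MorphismProperty.IsLocalAtTarget (@Etale : MorphismProperty Scheme.{u})
    Scheme.fppfPrecoverage := isLocalAtTarget_fppf _

theorem surjective_fppf : MorphismProperty.IsLocalAtTarget (@Surjective : MorphismProperty Scheme.{u})
    Scheme.fppfPrecoverage := isLocalAtTarget_fppf _

theorem smooth_fppf : MorphismProperty.IsLocalAtTarget (@Smooth : MorphismProperty Scheme.{u})
    Scheme.fppfPrecoverage := isLocalAtTarget_fppf _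

theorem lfp_fppf : MorphismProperty.IsLocalAtTarget
    (@LocallyOfFinitePresentation : MorphismProperty Scheme.{u}) Scheme.fppfPrecoverage :=
  isLocalAtTarget_fppf _

theorem lft_fppf : MorphismProperty.IsLocalAtTarget
    (@LocallyOfFiniteType : MorphismProperty Scheme.{u}) Scheme.fppfPrecoverage :=
  isLocalAtTarget_fppf _

theorem oi_fppf : MorphismProperty.IsLocalAtTarget
    (@IsOpenImmersion : MorphismProperty Scheme.{u}) Scheme.fppfPrecoverage :=
  isLocalAtTarget_fppf _

theorem univClosed_fppf : MorphismProperty.IsLocalAtTarget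
    (@UniversallyClosed : MorphismProperty Scheme.{u}) Scheme.fppfPrecoverage :=
  isLocalAtTarget_fppf _

theorem univOpen_fppf : MorphismProperty.IsLocalAtTarget
    (@UniversallyOpen : MorphismProperty Scheme.{u}) Scheme.fppfPrecoverage :=
  isLocalAtTarget_fppf _

theorem univInj_fppf : MorphismProperty.IsLocalAtTarget
    (@UniversallyInjective : MorphismProperty Scheme.{u}) Scheme.fppfPrecoverage :=
  isLocalAtTarget_fppf _

end Groth.Agent.Helper5.FppfLocT
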