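import Groth.Agent.Helper5.ZarGlue6
import Groth.Agent.Helper4.AlgSpPtsDesc
import Groth.Agent.Helper4.AlgSpQC2
import Groth.Prelude.Def_AlgSpMor5
import Groth.Prelude.Def_AlgSpCov
import Mathlib

set_option autoImplicit false
set_option linter.style.haveILetI false
set_option linter.unusedSectionVars false
set_option linter.unusedVariables false
universe u
open CategoryTheory CategoryTheory.Limits AlgebraicGeometry Opposite

namespace Groth.Agent.Helper5.ZarGlue

open AlgSp Functor.relativelyRepresentable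

variable {S : Scheme.{u}}

/-- a point of `Z` whose image lies in the image of `j` lies in the base change of `j` -/
theorem mem_range_of_isPullback {G G' : Sp S} {Z Z' : Over S} {j : G' ⟶ G}
    {g : (yon S).obj Z ⟶ G} {fst : (yon S).obj Z' ⟶ G'} {t : Z' ⟶ Z}
    (sq : IsPullback fst ((yon S).map t) j g) (z : Z.left)
    (hz : Points.ofPt g z ∈ Set.range (Points.map j)) : z ∈ Set.range t.left := by
  obtain ⟨y, hy⟩ := hz
  obtain ⟨p, -, hp⟩ := Groth.Agent.Helper4.AlgSpPtsDesc.exists_point_of_isPullback sq y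
    (Points.schemeHomeo Z z) (by rw [hy, Groth.Agent.Helper4.AlgSpQC2.ofPt_eq_map_schemeHomeo])
  obtain ⟨z', rfl⟩ := (Points.schemeHomeo Z').surjective p
  rw [Points.map_yon_map_apply] at hp
  exact ⟨z', (Points.schemeHomeo Z).injective hp⟩

/-- a property local on the target can be checked on the members of an open cover, in the form
of pullback squares -/
theorem prop_of_local_pullbacks (P : MorphismProperty Scheme.{u}) [IsZariskiLocalAtTarget P]
    {X Y : Scheme.{u}} (f : X ⟶ Y) {ι : Type u} (Y' : ι → Scheme.{u}) (t : ∀ i, Y' i ⟶ Y)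
    (ht : ∀ i, IsOpenImmersion (t i)) (hcov : ∀ y : Y, ∃ i, y ∈ Set.range (t i))
    (X' : ι → Scheme.{u}) (k : ∀ i, X' i ⟶ X) (f' : ∀ i, X' i ⟶ Y' i)
    (sq : ∀ i, IsPullback (k i) (f' i) f (t i)) (h : ∀ i, P (f' i)) : P f := by
  apply IsZariskiLocalAtTarget.of_forall_exists_morphismRestrict
  intro y
  obtain ⟨i, hy⟩ := hcov y
  haveI := ht i
  refine ⟨(t i).opensRange, hy, ?_⟩
  rw [P.arrow_mk_iso_iff (morphismRestrictOpensRange f (t i))]
  have e : (sq i).isoPullback.hom ≫ pullback.snd f (t i) = f' i := (sq i).isoPullback_hom_snd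
  rw [← MorphismProperty.cancel_left_of_respectsIso P (sq i).isoPullback.hom, e]
  exact h i

/-- `RepWith P` is local on the target for Zariski coverings of sheaves -/
theorem repWith_of_zarCover (P : MorphismProperty Scheme.{u}) [IsZariskiLocalAtTarget P]
    {F G : Sp S} (f : F ⟶ G) {ι : Type u} (Gi : ι → Sp S) (j : ∀ i, Gi i ⟶ G)
    (hj : ∀ i, RepWith @IsOpenImmersion (j i))
    (hcov : ∀ x : Points G, ∃ i, x ∈ Set.range (Points.map (j i)))
    (Fi : ι → Sp S) (p : ∀ i, Fi i ⟶ F) (q : ∀ i, Fi i ⟶ Gi i)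
    (sq : ∀ i, IsPullback (p i) (q i) f (j i)) (h : ∀ i, RepWith P (q i)) : RepWith P f := by
  apply repWith_of_affine_test
  intro Z hZ g
  choose Zi t a sqZ using fun i => (hj i).1 g
  have ht : ∀ i, IsOpenImmersion (t i).left := fun i => (hj i).2 _ _ _ (sqZ i)
  choose W w b sqW using fun i => (h i).1 (a i)
  have hw : ∀ i, P (w i).left := fun i => (h i).2 _ _ _ (sqW i)
  have sqB : ∀ i, IsPullback (b i ≫ p i) ((yon S).map (w i)) f ((yon S).map (t i) ≫ g) := by
    intro i
    have := (sqW i).paste_horiz (sq i)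
    rwa [(sqZ i).w] at this
  let φ : ∀ i, (yon S).obj (W i) ⟶ pullback f g := fun i =>
    pullback.lift (b i ≫ p i) ((yon S).map (w i) ≫ (yon S).map (t i))
      (by rw [(sqB i).w, Category.assoc])
  have sqφ : ∀ i, IsPullback (φ i) ((yon S).map (w i)) (pullback.snd f g) ((yon S).map (t i)) := by
    intro i
    refine IsPullback.of_right ?_ (pullback.lift_snd _ _ _) (IsPullback.of_hasPullback f g)
    have : φ i ≫ pullback.fst f g = b i ≫ p i := pullback.lift_fst _ _ _
    rw [this]
    exact sqB i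
  have hcov' : ∀ z : Z.left, ∃ i, z ∈ Set.range (t i).left := fun z => by
    obtain ⟨i, hi⟩ := hcov (Points.ofPt g z)
    exact ⟨i, mem_range_of_isPullback (sqZ i) z hi⟩
  obtain ⟨W₀, e, w₀, k, he, hk, hpb⟩ := exists_glue_rel (pullback.snd f g) Zi t ht hcov' W w φ sqφ
  refine ⟨W₀, w₀, e.hom ≫ pullback.fst f g, ?_, ?_⟩
  · rw [← he]
    exact IsPullback.of_iso (IsPullback.of_hasPullback f g) e.symm (Iso.refl _) (Iso.refl _)
      (Iso.refl _) (by simp) (by simp) (by simp) (by simp)
  · exact prop_of_local_pullbacks P w₀.left (fun i => (Zi i).left) (fun i => (t i).left) ht hcov'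
      (fun i => (W i).left) (fun i => (k i).left) (fun i => (w i).left)
      (fun i => (hpb i).map (Over.forget S)) hw

instance : IsZariskiLocalAtTarget finLocFree.{u} := by
  haveI : (finLocFree.{u}).RespectsIso := MorphismProperty.IsStableUnderBaseChange.respectsIso
  apply IsZariskiLocalAtTarget.mk'
  · intro X Y f U hf
    exact ⟨IsZariskiLocalAtTarget.restrict (P := @IsFinite) hf.1 U,
      IsZariskiLocalAtTarget.restrict (P := @Flat) hf.2.1 U,
      IsZariskiLocalAtTarget.restrict (P := @LocallyOfFinitePresentation) hf.2.2 U⟩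
  · intro X Y f ι U hU hf
    exact ⟨IsZariskiLocalAtTarget.of_iSup_eq_top (P := @IsFinite) U hU (fun i => (hf i).1),
      IsZariskiLocalAtTarget.of_iSup_eq_top (P := @Flat) U hU (fun i => (hf i).2.1),
      IsZariskiLocalAtTarget.of_iSup_eq_top (P := @LocallyOfFinitePresentation) U hU
        (fun i => (hf i).2.2)⟩

theorem s10336 {F G : Sp S} (f : F ⟶ G) {ι : Type u} (Gi : ι → Sp S) (j : ∀ i, Gi i ⟶ G)
    (hj : IsZarCover Gi j)
    (Fi : ι → Sp S) (p : ∀ i, Fi i ⟶ F) (q : ∀ i, Fi i ⟶ Gi i)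
    (sq : ∀ i, IsPullback (p i) (q i) f (j i)) :
    ((∀ i, IsIntegralMor (q i)) → IsIntegralMor f) ∧
    ((∀ i, IsFiniteMor (q i)) → IsFiniteMor f) ∧
    ((∀ i, IsFinLocFreeMor (q i)) → IsFinLocFreeMor f) := by
  refine ⟨fun h => ?_, fun h => ?_, fun h => ?_⟩
  · rw [(s10267 f).1]
    exact repWith_of_zarCover _ f Gi j hj.1 hj.2 Fi p q sq (fun i => (s10267 (q i)).1.1 (h i))
  · rw [(s10267 f).2]
    exact repWith_of_zarCover _ f Gi j hj.1 hj.2 Fi p q sq (fun i => (s10267 (q i)).2.1 (h i))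
  · exact repWith_of_zarCover _ f Gi j hj.1 hj.2 Fi p q sq h

end Groth.Agent.Helper5.ZarGlue
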