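import Groth.Agent.Helper5.AffDesc7
import Groth.Agent.Helper5.ZarGlue7
import Groth.Agent.Helper5.FppfLocT1
import Groth.Agent.S9884
import Mathlib

set_option autoImplicit false
universe u
open CategoryTheory CategoryTheory.Limits AlgebraicGeometry Opposite TensorProduct

namespace Groth.Agent.Helper5.AffDesc

open AlgSp Groth.Agent.Helper5.GeomFibSp

variable {S : Scheme.{u}}

set_option backward.isDefEq.respectTransparency.types false in
/-- **Affine morphisms descend along fppf charts**: if the base change of `f : X ⟶ Y` along a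
representable, flat, locally finitely presented, surjective `p : h_V ⟶ Y` is affine, then `f` is
affine. -/
theorem isAffineMor_of_fppf_chart {X Y : Sp S} (f : X ⟶ Y) (V : Over S)
    (p : (yon S).obj V ⟶ Y) (hpf : RepWith @Flat p) (hpl : RepWith @LocallyOfFinitePresentation p)
    (hps : RepWith @Surjective p) {P : Sp S} (fst : P ⟶ X) (snd : P ⟶ (yon S).obj V)
    (sq : IsPullback fst snd f p) (h : IsAffineMor snd) : IsAffineMor f := by
  intro Z hZ g
  haveI : IsAffine Z.left := hZ
  -- the chart of `Z`
  have hrep := hpf.rep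
  let Z' : Over S := hrep.pullback g
  let c : Z' ⟶ Z := hrep.snd g
  let a : (yon S).obj Z' ⟶ (yon S).obj V := hrep.fst g
  have hZ' : IsPullback a ((yon S).map c) p g := hrep.isPullback g
  haveI : Flat c.left := hpf.property g a c hZ'
  haveI : LocallyOfFinitePresentation c.left := hpl.property g a c hZ'
  haveI : Surjective c.left := hps.property g a c hZ'
  -- the pullback sheaf
  have hF := IsPullback.of_hasPullback f g
  have H : ∀ (V'' : Over S) (j : V'' ⟶ Z'), IsAffine V''.left →
      ∃ (W : Over S) (g'' : W ⟶ V'') (fst'' : (yon S).obj W ⟶ pullback f g), IsAffine W.left ∧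
        IsPullback fst'' ((yon S).map g'') (pullback.snd f g) ((yon S).map (j ≫ c)) := by
    intro V'' j hV''
    obtain ⟨W, i₀, fst₀, sq₀, hW⟩ := h hV'' ((yon S).map j ≫ a)
    have big : IsPullback (fst₀ ≫ fst) ((yon S).map i₀) f (((yon S).map j ≫ a) ≫ p) :=
      sq₀.paste_horiz sq
    have hcomm : ((yon S).map j ≫ a) ≫ p = (yon S).map (j ≫ c) ≫ g := by
      rw [Category.assoc, hZ'.w, Functor.map_comp, Category.assoc]
    rw [hcomm] at big
    refine ⟨W, i₀, hF.lift (fst₀ ≫ fst) ((yon S).map i₀ ≫ (yon S).map (j ≫ c))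
      (by rw [Category.assoc]; exact big.w), hW, ?_⟩
    refine IsPullback.of_right ?_ (hF.lift_snd _ _ _) hF
    rw [hF.lift_fst]
    exact big
  obtain ⟨X₀, g₀, e, hX₀, he⟩ := exists_iso_of_fppf c (pullback.snd f g) H
  refine ⟨X₀, g₀, e.hom ≫ pullback.fst f g, ?_, hX₀⟩
  exact IsPullback.of_iso hF e.symm (Iso.refl _) (Iso.refl _) (Iso.refl _)
    (by simp) (by simp [← he]) (by simp) (by simp)

end Groth.Agent.Helper5.AffDesc
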