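import Groth.Agent.Helper5.SchImg3
import Groth.Agent.Helper5.AffDesc8
import Groth.Agent.Helper4.AlgSpPtsDesc
import Mathlib

/-! The complement of an effective Cartier divisor of an algebraic space: affine and scheme
theoretically dense. -/

set_option autoImplicit false
universe u
open CategoryTheory CategoryTheory.Limits AlgebraicGeometry Opposite MorphismProperty

namespace Groth.Agent.Helper5.EffCart

open AlgSp Groth.Agent.Helper3.SchDense

/-- points of an affine open where a generator of the ideal is invertible are outside the support -/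
theorem mem_support_iff_of_span {V : Scheme.{u}} (I : V.IdealSheafData) (U : V.affineOpens)
    (f : Γ(V, U.1)) (hf : I.ideal U = Ideal.span {f}) (y : V) (hy : y ∈ U.1) :
    y ∈ I.support ↔ y ∉ V.basicOpen f := by
  rw [Scheme.IdealSheafData.mem_support_iff_of_mem hy, hf, Scheme.zeroLocus_span,
    Scheme.zeroLocus_singleton]
  rfl

/-- the complement of an effective Cartier divisor is schematically dense -/
theorem dense_compl_of_isEffCartierIdeal {V : Scheme.{u}} (I : V.IdealSheafData)
    (hI : BlowUp.IsEffCartierIdeal I) (W : V.Opens) (hW : (W : Set V) = (I.support : Set V)ᶜ) :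
    CInt.IsSchematicallyDense W := by
  intro V'
  rw [injective_iff_map_eq_zero]
  intro a ha
  apply eq_zero_of_germ
  intro x hx
  obtain ⟨U, hxU, f, hf, hIU⟩ := hI x
  obtain ⟨g, hgV', hxg⟩ := U.2.exists_basicOpen_le (V := V') ⟨x, hx⟩ hxU
  have hA : IsAffineOpen (V.basicOpen g) := U.2.basicOpen g
  have hAU : V.basicOpen g ≤ U.1 := V.basicOpen_le g
  let aA : Γ(V, V.basicOpen g) := V.presheaf.map (homOfLE hgV').op a
  let fA : Γ(V, V.basicOpen g) := V.presheaf.map (homOfLE hAU).op f
  haveI := U.2.isLocalization_basicOpen g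
  have hfA : fA ∈ nonZeroDivisors Γ(V, V.basicOpen g) := by
    have h1 := IsLocalization.map_nonZeroDivisors_le (Submonoid.powers g) Γ(V, V.basicOpen g)
    exact h1 ⟨f, hf, rfl⟩
  have h0 : V.presheaf.map (homOfLE (V.basicOpen_le fA)).op aA = 0 := by
    have hle : V.basicOpen fA ≤ V' ⊓ W := by
      intro y hy
      have hyA : y ∈ V.basicOpen g := V.basicOpen_le fA hy
      refine ⟨hgV' hyA, ?_⟩
      show y ∈ (W : Set V)
      rw [hW]
      intro hys
      have hyf : y ∈ V.basicOpen f := by
        have := Scheme.basicOpen_res V f (homOfLE hAU).op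
        have hy' : y ∈ V.basicOpen g ⊓ V.basicOpen f := by
          rw [← this]
          exact hy
        exact hy'.2
      exact ((mem_support_iff_of_span I U f hIU y (hAU hyA)).1 hys) hyf
    have : V.presheaf.map (homOfLE (V.basicOpen_le fA)).op aA =
        V.presheaf.map (homOfLE hle).op
          (V.presheaf.map (homOfLE (inf_le_left : V' ⊓ W ≤ V')).op a) := by
      show (V.presheaf.map (homOfLE hgV').op ≫ V.presheaf.map (homOfLE (V.basicOpen_le fA)).op) a =
        (V.presheaf.map (homOfLE (inf_le_left : V' ⊓ W ≤ V')).op ≫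
          V.presheaf.map (homOfLE hle).op) a
      rw [← Functor.map_comp, ← Functor.map_comp]
      rfl
    rw [this, ha, map_zero]
  obtain ⟨n, hn⟩ := exists_pow_mul_eq_zero hA fA aA h0
  have haA : aA = 0 := by
    have h2 : fA ^ n ∈ nonZeroDivisors Γ(V, V.basicOpen g) := pow_mem hfA n
    exact (mul_left_mem_nonZeroDivisors_eq_zero_iff h2).1 hn
  have e2 : V.presheaf.germ (V.basicOpen g) x hxg aA = V.presheaf.germ V' x hx a :=
    TopCat.Presheaf.germ_res_apply _ _ _ _ _
  rw [← e2, haA, map_zero]

/-- the inclusion of the complement of an effective Cartier divisor is affine -/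
theorem isAffineHom_of_range_eq_compl_support {V W' : Scheme.{u}} (I : V.IdealSheafData)
    (hI : BlowUp.IsEffCartierIdeal I) (w : W' ⟶ V) [IsOpenImmersion w]
    (hw : Set.range w = (I.support : Set V)ᶜ) : IsAffineHom w := by
  apply isAffineHom_of_forall_exists_isAffineOpen
  intro x
  obtain ⟨U, hxU, f, hf, hIU⟩ := hI x
  refine ⟨U.1, hxU, U.2, ?_⟩
  have hle : V.basicOpen f ≤ w.opensRange := by
    intro y hy
    show y ∈ Set.range w
    rw [hw]
    intro hys
    exact ((mem_support_iff_of_span I U f hIU y (V.basicOpen_le f hy)).1 hys) hy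
  have e : w ⁻¹ᵁ U.1 = w ⁻¹ᵁ V.basicOpen f := by
    ext y
    constructor
    · intro hy
      by_contra hny
      have h1 : w y ∈ I.support :=
        (mem_support_iff_of_span I U f hIU (w y) hy).2 hny
      have h2 : w y ∈ Set.range w := ⟨y, rfl⟩
      rw [hw] at h2
      exact h2 h1
    · intro hy
      exact V.basicOpen_le f hy
  rw [e]
  exact (U.2.basicOpen f).preimage_of_isOpenImmersion w hle

variable {S : Scheme.{u}}

/-- membership in the range of the pullback of `m` to a chart, in terms of points -/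
theorem mem_range_iff_of_isPullback {F G : Sp S} (m : G ⟶ F) {V E : Over S}
    (φ : (yon S).obj V ⟶ F) (e : E ⟶ V) (fst : (yon S).obj E ⟶ G)
    (sq : IsPullback fst ((yon S).map e) m φ) (v : V.left) :
    v ∈ Set.range e.left ↔
      Points.map φ (Points.schemeHomeo V v) ∈ Set.range (Points.map m) := by
  constructor
  · rintro ⟨x, rfl⟩
    refine ⟨Points.map fst (Points.schemeHomeo E x), ?_⟩
    rw [← Points.map_comp, sq.w, Points.map_comp, Points.map_yon_map_apply]
  · rintro ⟨u, hu⟩
    obtain ⟨p, -, hp2⟩ :=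
      Groth.Agent.Helper4.AlgSpPtsDesc.exists_point_of_isPullback sq u (Points.schemeHomeo V v) hu
    obtain ⟨x, rfl⟩ := (Points.schemeHomeo E).surjective p
    rw [Points.map_yon_map_apply] at hp2
    exact ⟨x, (Points.schemeHomeo V).injective hp2⟩

set_option backward.isDefEq.respectTransparency.types false in
/-- S10793 -/
theorem s10793 {X D U : Sp S} (i : D ⟶ X) (hD : IsEffCartierSub i) (j : U ⟶ X)
    (hj : RepWith @IsOpenImmersion j)
    (hU : Set.range (Points.map j) = (Set.range (Points.map i))ᶜ) :
    IsAffineMor j ∧ IsSchDense j := by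
  obtain ⟨hci, V, φ, I, fstD, hφ, hφs, sqD, hI⟩ := hD
  obtain ⟨W', w, fstU, sqU⟩ := hj.1 φ
  haveI : IsOpenImmersion w.left := hj.2 _ _ _ sqU
  let ιI : Over.mk (I.subschemeι ≫ V.hom) ⟶ V := Over.homMk I.subschemeι rfl
  have hrange : Set.range w.left = (I.support : Set V.left)ᶜ := by
    ext v
    rw [mem_range_iff_of_isPullback j φ w fstU sqU v, hU, Set.mem_compl_iff, Set.mem_compl_iff,
      ← mem_range_iff_of_isPullback i φ ιI fstD sqD v]
    show ¬ v ∈ Set.range I.subschemeι ↔ _
    rw [Scheme.IdealSheafData.range_subschemeι]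
  have haff : IsAffineHom w.left := isAffineHom_of_range_eq_compl_support I hI w.left hrange
  have hd : CInt.IsSchematicallyDense w.left.opensRange :=
    dense_compl_of_isEffCartierIdeal I hI _ hrange
  refine ⟨?_, Groth.Agent.Helper5.SchImg.isSchDense_of_chart j hj φ hφ hφs w fstU sqU hd⟩
  apply Groth.Agent.Helper5.AffDesc.isAffineMor_of_fppf_chart j V φ
    (Groth.Agent.Helper5.AffDesc.repWith_of_le Groth.Agent.Helper5.AffDesc.etale_le_flat hφ)
    (Groth.Agent.Helper5.AffDesc.repWith_of_le Groth.Agent.Helper5.AffDesc.etale_le_lfp hφ) hφs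
    fstU ((yon S).map w) sqU
  intro Z hZ g
  haveI : IsAffine Z.left := hZ
  have hrw : RepWith @IsAffineHom ((yon S).map w) := (repWith_yon_map_iff _ w).2 haff
  obtain ⟨W₁, i₁, fst₁, sq₁⟩ := hrw.1 g
  haveI : IsAffineHom i₁.left := hrw.2 _ _ _ sq₁
  exact ⟨W₁, i₁, fst₁, sq₁, isAffine_of_isAffineHom i₁.left⟩

end Groth.Agent.Helper5.EffCart
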