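import Groth.Agent.Helper5.FppfLift
import Groth.Agent.Helper5.EffCart1
import Mathlib

set_option autoImplicit false
universe u
open CategoryTheory CategoryTheory.Limits AlgebraicGeometry Opposite

namespace Groth.Agent.Helper5.EtGlue

open AlgSp

variable {S : Scheme.{u}}

/-- morphisms of sheaves are determined by their values on scheme valued points -/
theorem hom_ext_points {W T : Sp S} (c c' : W ⟶ T)
    (h : ∀ (Z : Over S) (w : (yon S).obj Z ⟶ W), w ≫ c = w ≫ c') : c = c' := by
  apply Sheaf.hom_ext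
  ext Z x
  have h1 := h Z.unop ((J S).uliftYonedaEquiv.symm x)
  have h2 := congrArg (J S).uliftYonedaEquiv h1
  rw [GrothendieckTopology.uliftYonedaEquiv_comp, GrothendieckTopology.uliftYonedaEquiv_comp,
    Equiv.apply_symm_apply] at h2
  exact h2

/-- a natural family of maps on scheme valued points comes from a morphism of sheaves -/
theorem exists_hom_of_points {W T : Sp S}
    (Φ : ∀ Z : Over S, ((yon S).obj Z ⟶ W) → ((yon S).obj Z ⟶ T))
    (hΦ : ∀ (Z Z' : Over S) (h : Z' ⟶ Z) (w : (yon S).obj Z ⟶ W),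
      Φ Z' ((yon S).map h ≫ w) = (yon S).map h ≫ Φ Z w) :
    ∃ c : W ⟶ T, ∀ (Z : Over S) (w : (yon S).obj Z ⟶ W), w ≫ c = Φ Z w := by
  let c₀ : W.obj ⟶ T.obj :=
    { app := fun Z => ↾(fun x => (J S).uliftYonedaEquiv (Φ Z.unop ((J S).uliftYonedaEquiv.symm x)))
      naturality := by
        intro Z Z' g
        apply ConcreteCategory.hom_ext
        intro x
        show (J S).uliftYonedaEquiv (Φ Z'.unop ((J S).uliftYonedaEquiv.symm (W.obj.map g x))) =
          T.obj.map g ((J S).uliftYonedaEquiv (Φ Z.unop ((J S).uliftYonedaEquiv.symm x)))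
        rw [GrothendieckTopology.uliftYonedaEquiv_naturality', ← hΦ,
          GrothendieckTopology.uliftYonedaEquiv_symm_naturality_left]
        rfl }
  refine ⟨⟨c₀⟩, fun Z w => ?_⟩
  apply (J S).uliftYonedaEquiv.injective
  rw [GrothendieckTopology.uliftYonedaEquiv_comp]
  show (J S).uliftYonedaEquiv (Φ Z ((J S).uliftYonedaEquiv.symm ((J S).uliftYonedaEquiv w))) = _
  rw [Equiv.symm_apply_apply]

/-- gluing morphisms from a scheme to a sheaf along a covering family -/
theorem existsUnique_of_cover (T : Sp S) {Z : Over S} {κ : Type u} (Zk : κ → Over S)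
    (e : ∀ k, Zk k ⟶ Z) (hcov : Sieve.ofArrows Zk e ∈ J S Z)
    (m : ∀ k, (yon S).obj (Zk k) ⟶ T)
    (hm : ∀ (k l : κ) (R : Over S) (r₁ : R ⟶ Zk k) (r₂ : R ⟶ Zk l), r₁ ≫ e k = r₂ ≫ e l →
      (yon S).map r₁ ≫ m k = (yon S).map r₂ ≫ m l) :
    ∃! c : (yon S).obj Z ⟶ T, ∀ k, (yon S).map (e k) ≫ c = m k := by
  have hsh : Presieve.IsSheaf (J S) T.obj := (isSheaf_iff_isSheaf_of_type _ _).1 T.property
  have h1 := hsh _ hcov
  have h2 : (Presieve.ofArrows Zk e).IsSheafFor T.obj :=
    (Presieve.isSheafFor_iff_generate _).2 h1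
  rw [Presieve.isSheafFor_arrows_iff] at h2
  obtain ⟨t, ht, huniq⟩ := h2 (fun k => (J S).uliftYonedaEquiv (m k)) (by
    intro k l R r₁ r₂ hcomm
    rw [GrothendieckTopology.uliftYonedaEquiv_naturality,
      GrothendieckTopology.uliftYonedaEquiv_naturality, hm k l R r₁ r₂ hcomm])
  refine ⟨(J S).uliftYonedaEquiv.symm t, fun k => ?_, fun c' hc' => ?_⟩
  · rw [GrothendieckTopology.uliftYonedaEquiv_symm_naturality_left, ht k, Equiv.symm_apply_apply]
  · have : (J S).uliftYonedaEquiv c' = t := huniq _ (fun k => by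
      rw [GrothendieckTopology.uliftYonedaEquiv_naturality, hc' k])
    rw [← this, Equiv.symm_apply_apply]

/-- Descent of morphisms along a jointly surjective family of representable etale maps from
schemes. -/
theorem existsUnique_desc {W T : Sp S} {κ : Type u} (A : κ → Over S)
    (g : ∀ k, (yon S).obj (A k) ⟶ W) (hg : ∀ k, RepWith @Etale (g k))
    (hsurj : ∀ w : Points W, ∃ k, w ∈ Set.range (Points.map (g k)))
    (t : ∀ k, (yon S).obj (A k) ⟶ T)
    (hcomp : ∀ (k l : κ) (R : Over S) (r₁ : R ⟶ A k) (r₂ : R ⟶ A l),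
      (yon S).map r₁ ≫ g k = (yon S).map r₂ ≫ g l →
        (yon S).map r₁ ≫ t k = (yon S).map r₂ ≫ t l) :
    ∃! c : W ⟶ T, ∀ k, g k ≫ c = t k := by
  let Good : ∀ Z : Over S, ((yon S).obj Z ⟶ W) → ((yon S).obj Z ⟶ T) → Prop := fun Z w m =>
    ∀ (R : Over S) (r : R ⟶ Z) (k : κ) (a : R ⟶ A k),
      (yon S).map a ≫ g k = (yon S).map r ≫ w → (yon S).map r ≫ m = (yon S).map a ≫ t k
  have key : ∀ (Z : Over S) (w : (yon S).obj Z ⟶ W), ∃! m, Good Z w m := by
    intro Z w
    choose Zk ek lk sq using fun k => (hg k).1 w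
    choose l' hl' using fun k => (yon S).map_surjective (lk k)
    have hek : ∀ k, Etale (ek k).left := fun k => (hg k).2 _ _ _ (sq k)
    have hcov : Sieve.ofArrows Zk ek ∈ J S Z := by
      refine Groth.Agent.Helper5.FppfLift.ofArrows_mem_J Zk ek (fun k => ?_) (fun k => ?_)
        (fun z => ?_)
      · have := hek k
        infer_instance
      · have := hek k
        infer_instance
      · obtain ⟨k, hk⟩ := hsurj (Points.map w (Points.schemeHomeo Z z))
        exact ⟨k, (Groth.Agent.Helper5.EffCart.mem_range_iff_of_isPullback (g k) w (ek k) (lk k)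
          (sq k) z).2 hk⟩
    obtain ⟨c, hc, huniq⟩ := existsUnique_of_cover T Zk ek hcov (fun k => lk k ≫ t k) (by
      intro k l R r₁ r₂ hcomm
      have := hcomp k l R (r₁ ≫ l' k) (r₂ ≫ l' l) (by
        rw [Functor.map_comp, Functor.map_comp, hl', hl', Category.assoc, Category.assoc,
          (sq k).w, (sq l).w, ← Category.assoc, ← Category.assoc, ← Functor.map_comp,
          ← Functor.map_comp, hcomm])
      rw [Functor.map_comp, Functor.map_comp, hl', hl', Category.assoc, Category.assoc] at this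
      exact this)
    refine ⟨c, ?_, ?_⟩
    · intro R r k a h
      obtain ⟨ρ', hρ'⟩ := (yon S).map_surjective ((sq k).lift ((yon S).map a) ((yon S).map r) h)
      have h1 : (yon S).map ρ' ≫ lk k = (yon S).map a := by rw [hρ', (sq k).lift_fst]
      have h2 : ρ' ≫ ek k = r := by
        apply (yon S).map_injective
        rw [Functor.map_comp, hρ', (sq k).lift_snd]
      rw [← h2, Functor.map_comp, Category.assoc, hc k, ← Category.assoc, h1]
    · intro m hm
      apply huniq
      intro k
      have := hm (Zk k) (ek k) k (l' k) (by rw [hl']; exact (sq k).w)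
      rw [this, hl']
  choose Φ hΦ1 hΦ2 using key
  have hnat : ∀ (Z Z' : Over S) (h : Z' ⟶ Z) (w : (yon S).obj Z ⟶ W),
      Φ Z' ((yon S).map h ≫ w) = (yon S).map h ≫ Φ Z w := by
    intro Z Z' h w
    symm
    apply hΦ2
    intro R r k a hh
    have := hΦ1 Z w R (r ≫ h) k a (by rw [hh, Functor.map_comp, Category.assoc])
    rw [Functor.map_comp, Category.assoc] at this
    exact this
  obtain ⟨c, hc⟩ := exists_hom_of_points Φ hnat
  refine ⟨c, fun k => ?_, fun c' hc' => ?_⟩
  · rw [hc]
    symm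
    apply hΦ2
    intro R r l a h
    exact hcomp k l R r a h.symm
  · apply hom_ext_points
    intro Z w
    rw [hc]
    apply hΦ2
    intro R r k a h
    rw [← Category.assoc, ← h, Category.assoc, hc' k]

end Groth.Agent.Helper5.EtGlue
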