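import Groth.Agent.Helper5.FppfFpqc
import Mathlib

set_option autoImplicit false
universe u
open CategoryTheory CategoryTheory.Limits AlgebraicGeometry Opposite

namespace Groth.Agent.Helper5.FppfLift

open AlgSp

variable {S : Scheme.{u}}

/-- a jointly surjective family of flat lfp maps over `S` generates a covering sieve for `J S` -/
theorem ofArrows_mem_J {T : Over S} {κ : Type u} (Tk : κ → Over S) (c : ∀ k, Tk k ⟶ T)
    (hcf : ∀ k, Flat (c k).left) (hcp : ∀ k, LocallyOfFinitePresentation (c k).left)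
    (hcs : ∀ z : ↥T.left, ∃ k, z ∈ Set.range (c k).left) :
    Sieve.ofArrows Tk c ∈ J S T := by
  rw [GrothendieckTopology.mem_over_iff, Sieve.overEquiv_ofArrows]
  refine Precoverage.generate_mem_toGrothendieck ?_
  unfold Scheme.fppfPrecoverage
  rw [Scheme.ofArrows_mem_precoverage_iff]
  exact ⟨hcs, fun k => ⟨hcf k, hcp k⟩⟩

theorem exists_fppf_local_lift {X : Sp S} (hX : IsAlgSpace X) {ι : Type u} (Xi : ι → Sp S)
    (hXi : ∀ i, IsAlgSpace (Xi i)) (g : ∀ i, Xi i ⟶ X) (h : IsFppfCover Xi g)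
    (T : Over S) (t : (yon S).obj T ⟶ X) :
    ∃ (κ : Type u) (Tk : κ → Over S) (c : ∀ k, Tk k ⟶ T),
      Sieve.ofArrows Tk c ∈ J S T ∧
      ∀ k, ∃ (i : ι) (l : (yon S).obj (Tk k) ⟶ Xi i), l ≫ g i = (yon S).map (c k) ≫ t := by
  have H : ∀ z : ↥T.left, ∃ (V : Over S) (c : V ⟶ T) (i : ι) (l : (yon S).obj V ⟶ Xi i),
      IsAffine V.left ∧ Flat c.left ∧ LocallyOfFinitePresentation c.left ∧
      z ∈ Set.range c.left ∧ l ≫ g i = (yon S).map c ≫ t := by
    intro z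
    obtain ⟨i, y, hy⟩ := h.2 (Points.map t (Points.schemeHomeo T z))
    obtain ⟨V, c, l, hVa, hcf, hcp, hz, hl⟩ :=
      Groth.Agent.Helper5.FppfFpqc.exists_local_lift hX (hXi i) (g i) (h.1 i).1 (h.1 i).2 T t z y hy
    exact ⟨V, c, i, l, hVa, hcf, hcp, hz, hl⟩
  choose V c i l hVa hcf hcp hz hl using H
  exact ⟨↥T.left, V, c, ofArrows_mem_J V c hcf hcp fun z => ⟨z, hz z⟩,
    fun k => ⟨i k, l k, hl k⟩⟩

end Groth.Agent.Helper5.FppfLift
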