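import Mathlib
import Groth.Agent.Helper5.MonoQuot1

/-!
# Quotient of the spectrum of a field by a finite equivalence relation
-/

set_option autoImplicit false
universe u

namespace Groth.Agent.Helper5.MonoQuot

open CategoryTheory CategoryTheory.Limits AlgebraicGeometry

theorem isPullback_comp_mono {C : Type*} [Category C] {P X Y Z W : C} {fst : P ⟶ X} {snd : P ⟶ Y}
    {f : X ⟶ Z} {g : Y ⟶ Z} (h : IsPullback fst snd f g) (m : Z ⟶ W) [Mono m] :
    IsPullback fst snd (f ≫ m) (g ≫ m) := by
  refine ⟨⟨by rw [← Category.assoc, h.w, Category.assoc]⟩, ⟨PullbackCone.IsLimit.mk _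
    (fun c => h.lift c.fst c.snd ((cancel_mono m).1 (by simpa only [Category.assoc] using c.condition)))
    (fun c => h.lift_fst _ _ _) (fun c => h.lift_snd _ _ _) ?_⟩⟩
  intro c l h1 h2
  apply h.hom_ext
  · rw [h.lift_fst]; exact h1
  · rw [h.lift_snd]; exact h2

variable {S : Scheme.{u}}

theorem exists_field_quotient (K : Type u) [Field K] {pU : Spec (CommRingCat.of K) ⟶ S}
    {R : Scheme.{u}} {s t : R ⟶ Spec (CommRingCat.of K)} (D : EqvData pU s t) [IsFinite s] :
    ∃ (k : Type u) (_ : Field k) (c : Spec (CommRingCat.of K) ⟶ Spec (CommRingCat.of k))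
      (pk : Spec (CommRingCat.of k) ⟶ S), c ≫ pk = pU ∧ IsFinite c ∧ Flat c ∧
        LocallyOfFinitePresentation c ∧ IsPullback t s c c := by
  haveI : Flat s := inferInstance
  haveI : LocallyOfFinitePresentation s :=
    LocallyOfFinitePresentation.iff_locallyOfFiniteType.2 inferInstance
  obtain ⟨Y, q, pY, hq, hYa, hqf, hqfl, hqp, hqs, hpb⟩ := D.exists_quotient
  haveI : Surjective q := ⟨hqs⟩
  have hff : q.appTop.hom.FaithfullyFlat :=
    (Flat.flat_and_surjective_iff_faithfullyFlat_of_isAffine q).1 ⟨hqfl, inferInstance⟩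
  have hinj : Function.Injective q.appTop.hom := hff.injective
  have hfin : q.appTop.hom.Finite := IsFinite.finite_app q (U := ⊤) (isAffineOpen_top Y)
  have hK : IsField Γ(Spec (CommRingCat.of K), ⊤) :=
    MulEquiv.isField (Field.toIsField K)
      (Scheme.ΓSpecIso (CommRingCat.of K)).commRingCatIsoToRingEquiv.toMulEquiv
  have hA : IsField Γ(Y, ⊤) := by
    algebraize [q.appTop.hom]
    have hint : Algebra.IsIntegral Γ(Y, ⊤) Γ(Spec (CommRingCat.of K), ⊤) :=
      Algebra.IsIntegral.of_finite _ _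
    exact isField_of_isIntegral_of_isField hinj hK
  letI := hA.toField
  refine ⟨Γ(Y, ⊤), hA.toField, q ≫ Y.isoSpec.hom, Y.isoSpec.inv ≫ pY, ?_, ?_, ?_, ?_, ?_⟩
  · rw [Category.assoc, Iso.hom_inv_id_assoc, hq]
  · infer_instance
  · infer_instance
  · infer_instance
  · exact isPullback_comp_mono hpb Y.isoSpec.hom

end Groth.Agent.Helper5.MonoQuot
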