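import Mathlib
import Groth.Prelude.Def_AlgSpDec
import Groth.Agent.Helper5.MonoQuot2
import Groth.Agent.Helper5.EtGlue1
import Groth.Agent.Helper5.FppfLift
import Groth.Agent.Helper4.AlgSpInj

/-!
# A field point with finite kernel pair is equivalent to a monomorphic field point
-/

set_option autoImplicit false
universe u

namespace Groth.Agent.Helper5.MonoQuot

open CategoryTheory CategoryTheory.Limits AlgebraicGeometry Opposite AlgSp

variable {S : Scheme.{u}}

section KernelPair

variable {X : Sp S} {U₀ R₀ : Over S} (q : (yon S).obj U₀ ⟶ X) (s t : R₀ ⟶ U₀)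
  (hR : IsPullback ((yon S).map t) ((yon S).map s) q q)

include hR in
theorem kp_jm {T : Scheme.{u}} (a b : T ⟶ R₀.left) (hs : a ≫ s.left = b ≫ s.left)
    (ht : a ≫ t.left = b ≫ t.left) : a = b := by
  have hb : b ≫ R₀.hom = a ≫ R₀.hom := by
    rw [← Over.w s, ← Category.assoc, ← Category.assoc, hs]
  let a' : Over.mk (a ≫ R₀.hom) ⟶ R₀ := Over.homMk a rfl
  let b' : Over.mk (a ≫ R₀.hom) ⟶ R₀ := Over.homMk b hb
  have h1 : a' ≫ t = b' ≫ t := Over.OverMorphism.ext ht
  have h2 : a' ≫ s = b' ≫ s := Over.OverMorphism.ext hs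
  have h3 : (yon S).map a' = (yon S).map b' := by
    apply hR.hom_ext
    · rw [← Functor.map_comp, ← Functor.map_comp, h1]
    · rw [← Functor.map_comp, ← Functor.map_comp, h2]
  exact congrArg (fun f => f.left) ((yon S).map_injective h3)

/-- the unit -/
noncomputable def kpE : U₀ ⟶ R₀ := (yon S).preimage (hR.lift (𝟙 _) (𝟙 _) rfl)

lemma kpE_t : kpE q s t hR ≫ t = 𝟙 _ := by
  apply (yon S).map_injective
  rw [Functor.map_comp, kpE, Functor.map_preimage, hR.lift_fst, CategoryTheory.Functor.map_id]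

lemma kpE_s : kpE q s t hR ≫ s = 𝟙 _ := by
  apply (yon S).map_injective
  rw [Functor.map_comp, kpE, Functor.map_preimage, hR.lift_snd, CategoryTheory.Functor.map_id]

/-- the inverse -/
noncomputable def kpI : R₀ ⟶ R₀ :=
  (yon S).preimage (hR.lift ((yon S).map s) ((yon S).map t) hR.w.symm)

lemma kpI_t : kpI q s t hR ≫ t = s := by
  apply (yon S).map_injective
  rw [Functor.map_comp, kpI, Functor.map_preimage, hR.lift_fst]

lemma kpI_s : kpI q s t hR ≫ s = t := by
  apply (yon S).map_injective
  rw [Functor.map_comp, kpI, Functor.map_preimage, hR.lift_snd]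

/-- the source of the composition, over `S` -/
noncomputable abbrev kpT : Over S := Over.mk (pullback.fst s.left t.left ≫ R₀.hom)

noncomputable def kpα : kpT s t ⟶ R₀ := Over.homMk (pullback.fst s.left t.left) rfl

noncomputable def kpβ : kpT s t ⟶ R₀ := Over.homMk (pullback.snd s.left t.left) (by
  show pullback.snd s.left t.left ≫ R₀.hom = pullback.fst s.left t.left ≫ R₀.hom
  conv_lhs => rw [← Over.w t]
  conv_rhs => rw [← Over.w s]
  rw [← Category.assoc, ← Category.assoc, pullback.condition])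

lemma kpαβ : kpα s t ≫ s = kpβ s t ≫ t := Over.OverMorphism.ext pullback.condition

/-- the composition -/
noncomputable def kpC : kpT s t ⟶ R₀ :=
  (yon S).preimage (hR.lift ((yon S).map (kpα s t ≫ t)) ((yon S).map (kpβ s t ≫ s)) (by
    have h1 : (yon S).map (kpα s t ≫ t) ≫ q = (yon S).map (kpα s t ≫ s) ≫ q := by
      rw [Functor.map_comp, Functor.map_comp, Category.assoc, Category.assoc, hR.w]
    have h2 : (yon S).map (kpβ s t ≫ t) ≫ q = (yon S).map (kpβ s t ≫ s) ≫ q := by
      rw [Functor.map_comp, Functor.map_comp, Category.assoc, Category.assoc, hR.w]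
    rw [h1, kpαβ, h2]))

lemma kpC_t : kpC q s t hR ≫ t = kpα s t ≫ t := by
  apply (yon S).map_injective
  rw [Functor.map_comp, kpC, Functor.map_preimage, hR.lift_fst]

lemma kpC_s : kpC q s t hR ≫ s = kpβ s t ≫ s := by
  apply (yon S).map_injective
  rw [Functor.map_comp, kpC, Functor.map_preimage, hR.lift_snd]

/-- the equivalence relation data of a representable kernel pair -/
noncomputable def eqvDataOfKernelPair : EqvData U₀.hom s.left t.left where
  w := (Over.w s).trans (Over.w t).symm
  jm := fun a b hs ht => kp_jm q s t hR a b hs ht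
  e := (kpE q s t hR).left
  e_s := congrArg (fun f => f.left) (kpE_s q s t hR)
  e_t := congrArg (fun f => f.left) (kpE_t q s t hR)
  i := (kpI q s t hR).left
  i_s := congrArg (fun f => f.left) (kpI_s q s t hR)
  i_t := congrArg (fun f => f.left) (kpI_t q s t hR)
  c := (kpC q s t hR).left
  c_s := congrArg (fun f => f.left) (kpC_s q s t hR)
  c_t := congrArg (fun f => f.left) (kpC_t q s t hR)

end KernelPair

theorem surjective_spec_field {K k : Type u} [Field K] [Field k]
    (c : Spec (CommRingCat.of K) ⟶ Spec (CommRingCat.of k)) : Surjective c := by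
  refine ⟨fun z => ⟨(IsLocalRing.closedPoint K : PrimeSpectrum K), ?_⟩⟩
  exact (inferInstance : Subsingleton (PrimeSpectrum k)).elim _ _

/-- A field point whose kernel pair is representable by a scheme finite over the field factors
through a monomorphic field point, via a finite morphism of spectra of fields. -/
theorem exists_mono_of_finite_kernelPair {X : Sp S} (q : FieldPt X) (R₀ : Over S)
    (s t : R₀ ⟶ q.pt)
    (hR : IsPullback ((yon S).map t) ((yon S).map s) q.toHom q.toHom) [IsFinite s.left] :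
    ∃ (p : FieldPt X) (c : q.pt ⟶ p.pt), Mono p.toHom ∧ (yon S).map c ≫ p.toHom = q.toHom ∧
      IsFinite c.left := by
  let D := eqvDataOfKernelPair q.toHom s t hR
  obtain ⟨k, _, c, pk, hc, hcf, hcfl, hcp, hpb⟩ :=
    exists_field_quotient (S := S) q.K (pU := q.str) (s := s.left) (t := t.left) D
  haveI : Surjective c := surjective_spec_field c
  let Z : Over S := Over.mk pk
  let c' : q.pt ⟶ Z := Over.homMk c hc
  have hts : t ≫ c' = s ≫ c' := Over.OverMorphism.ext hpb.w
  have hcov : Sieve.ofArrows (fun _ : PUnit.{u + 1} => q.pt) (fun _ => c') ∈ J S Z :=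
    Groth.Agent.Helper5.FppfLift.ofArrows_mem_J _ _ (fun _ => hcfl) (fun _ => hcp)
      (fun z => ⟨PUnit.unit, (surjective_spec_field c).surj z⟩)
  obtain ⟨m, hm, -⟩ := Groth.Agent.Helper5.EtGlue.existsUnique_of_cover X
    (fun _ : PUnit.{u + 1} => q.pt) (fun _ => c') hcov (fun _ => q.toHom) (by
      intro _ _ R r₁ r₂ hcomm
      have h1 : r₁.left ≫ c = r₂.left ≫ c := congrArg (fun f => f.left) hcomm
      let ρ : R.left ⟶ R₀.left := hpb.lift r₁.left r₂.left h1
      have hρt : ρ ≫ t.left = r₁.left := hpb.lift_fst _ _ _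
      have hρs : ρ ≫ s.left = r₂.left := hpb.lift_snd _ _ _
      let ρ' : R ⟶ R₀ := Over.homMk ρ (by
        rw [← Over.w t, ← Category.assoc, hρt]; exact Over.w r₁)
      have e1 : r₁ = ρ' ≫ t := Over.OverMorphism.ext hρt.symm
      have e2 : r₂ = ρ' ≫ s := Over.OverMorphism.ext hρs.symm
      rw [e1, e2, Functor.map_comp, Functor.map_comp, Category.assoc, Category.assoc, hR.w])
  have hm' : (yon S).map c' ≫ m = q.toHom := hm PUnit.unit
  have hmono : Mono m := by
    constructor
    intro W a b hab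
    apply Groth.Agent.Helper5.EtGlue.hom_ext_points
    intro T w
    obtain ⟨a₀, ha₀⟩ := (yon S).map_surjective (w ≫ a)
    obtain ⟨b₀, hb₀⟩ := (yon S).map_surjective (w ≫ b)
    have h0 : (yon S).map a₀ ≫ m = (yon S).map b₀ ≫ m := by
      rw [ha₀, hb₀, Category.assoc, Category.assoc, hab]
    rw [← ha₀, ← hb₀]
    congr 1
    let π : pullback (pullback.fst a₀.left c ≫ b₀.left) c ⟶ T.left :=
      pullback.fst _ _ ≫ pullback.fst _ _
    let a₂ : pullback (pullback.fst a₀.left c ≫ b₀.left) c ⟶ Spec (CommRingCat.of q.K) :=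
      pullback.fst _ _ ≫ pullback.snd a₀.left c
    let b₂ : pullback (pullback.fst a₀.left c ≫ b₀.left) c ⟶ Spec (CommRingCat.of q.K) :=
      pullback.snd _ _
    have ha₂ : a₂ ≫ c = π ≫ a₀.left := by
      show (pullback.fst _ _ ≫ pullback.snd a₀.left c) ≫ c = (pullback.fst _ _ ≫ pullback.fst _ _) ≫ a₀.left
      rw [Category.assoc, Category.assoc, pullback.condition]
    have hb₂ : b₂ ≫ c = π ≫ b₀.left := by
      show pullback.snd _ _ ≫ c = (pullback.fst _ _ ≫ pullback.fst _ _) ≫ b₀.left
      rw [Category.assoc, ← pullback.condition]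
    let T₂ : Over S := Over.mk (π ≫ T.hom)
    let π' : T₂ ⟶ T := Over.homMk π rfl
    let a₂' : T₂ ⟶ q.pt := Over.homMk a₂ (by
      show a₂ ≫ q.str = π ≫ T.hom
      rw [← hc, ← Category.assoc, ha₂, Category.assoc]
      exact congrArg (π ≫ ·) (Over.w a₀))
    let b₂' : T₂ ⟶ q.pt := Over.homMk b₂ (by
      show b₂ ≫ q.str = π ≫ T.hom
      rw [← hc, ← Category.assoc, hb₂, Category.assoc]
      exact congrArg (π ≫ ·) (Over.w b₀))
    have ea : a₂' ≫ c' = π' ≫ a₀ := Over.OverMorphism.ext ha₂
    have eb : b₂' ≫ c' = π' ≫ b₀ := Over.OverMorphism.ext hb₂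
    have h1 : (yon S).map a₂' ≫ q.toHom = (yon S).map b₂' ≫ q.toHom := by
      rw [← hm', ← Category.assoc, ← Category.assoc, ← Functor.map_comp, ← Functor.map_comp,
        ea, eb, Functor.map_comp, Functor.map_comp, Category.assoc, Category.assoc, h0]
    obtain ⟨ρ, hρ⟩ := (yon S).map_surjective (hR.lift _ _ h1)
    have hρt : ρ ≫ t = a₂' := by
      apply (yon S).map_injective
      rw [Functor.map_comp, hρ, hR.lift_fst]
    have hρs : ρ ≫ s = b₂' := by
      apply (yon S).map_injective
      rw [Functor.map_comp, hρ, hR.lift_snd]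
    have h2 : π' ≫ a₀ = π' ≫ b₀ := by
      rw [← ea, ← eb, ← hρt, ← hρs, Category.assoc, Category.assoc, hts]
    have h3 : π ≫ a₀.left = π ≫ b₀.left := congrArg (fun f => f.left) h2
    haveI : Flat π := inferInstance
    haveI : Surjective π := inferInstance
    haveI : Epi π := Flat.epi_of_flat_of_surjective π
    exact Over.OverMorphism.ext ((cancel_epi π).1 h3)
  refine ⟨Groth.Agent.Helper4.AlgSpInj.ofHom m, c', ?_, ?_, hcf⟩
  · show Mono (Groth.Agent.Helper4.AlgSpInj.toHom (Groth.Agent.Helper4.AlgSpInj.ofHom m))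
    rw [Groth.Agent.Helper4.AlgSpInj.toHom_ofHom]
    exact hmono
  · show (yon S).map c' ≫ Groth.Agent.Helper4.AlgSpInj.toHom (Groth.Agent.Helper4.AlgSpInj.ofHom m) = _
    rw [Groth.Agent.Helper4.AlgSpInj.toHom_ofHom]
    exact hm'

end Groth.Agent.Helper5.MonoQuot
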