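import Mathlib
import Groth.Agent.Helper5.MonoQuot3

/-!
# Descending a chart along an fppf quotient map with the same kernel pair
-/

set_option autoImplicit false
universe u

namespace Groth.Agent.Helper5.DegStr

open CategoryTheory CategoryTheory.Limits AlgebraicGeometry Opposite AlgSp

variable {S : Scheme.{u}}

/-- If `c : U₀ ⟶ Z` is an fppf covering whose kernel pair is the kernel pair `R₀` of
`q : h_{U₀} ⟶ X`, then `q` descends to a monomorphism `h_Z ⟶ X`. -/
theorem exists_mono_of_quotient {X : Sp S} {U₀ R₀ Z : Over S} (s t : R₀ ⟶ U₀) (c' : U₀ ⟶ Z)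
    [Flat c'.left] [LocallyOfFinitePresentation c'.left] [Surjective c'.left]
    (hpb : IsPullback t.left s.left c'.left c'.left)
    (q : (yon S).obj U₀ ⟶ X) (hR : IsPullback ((yon S).map t) ((yon S).map s) q q) :
    ∃ m : (yon S).obj Z ⟶ X, (yon S).map c' ≫ m = q ∧ Mono m := by
  have hts : t ≫ c' = s ≫ c' := Over.OverMorphism.ext hpb.w
  have hcov : Sieve.ofArrows (fun _ : PUnit.{u + 1} => U₀) (fun _ => c') ∈ J S Z :=
    Groth.Agent.Helper5.FppfLift.ofArrows_mem_J _ _ (fun _ => inferInstance) (fun _ => inferInstance)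
      (fun z => ⟨PUnit.unit, (inferInstance : Surjective c'.left).surj z⟩)
  obtain ⟨m, hm, -⟩ := Groth.Agent.Helper5.EtGlue.existsUnique_of_cover X
    (fun _ : PUnit.{u + 1} => U₀) (fun _ => c') hcov (fun _ => q) (by
      intro _ _ R r₁ r₂ hcomm
      have h1 : r₁.left ≫ c'.left = r₂.left ≫ c'.left := congrArg (fun f => f.left) hcomm
      let ρ : R.left ⟶ R₀.left := hpb.lift r₁.left r₂.left h1
      have hρt : ρ ≫ t.left = r₁.left := hpb.lift_fst _ _ _
      have hρs : ρ ≫ s.left = r₂.left := hpb.lift_snd _ _ _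
      let ρ' : R ⟶ R₀ := Over.homMk ρ (by
        rw [← Over.w t, ← Category.assoc, hρt]; exact Over.w r₁)
      have e1 : r₁ = ρ' ≫ t := Over.OverMorphism.ext hρt.symm
      have e2 : r₂ = ρ' ≫ s := Over.OverMorphism.ext hρs.symm
      rw [e1, e2, Functor.map_comp, Functor.map_comp, Category.assoc, Category.assoc, hR.w])
  have hm' : (yon S).map c' ≫ m = q := hm PUnit.unit
  refine ⟨m, hm', ?_⟩
  constructor
  intro W a b hab
  apply Groth.Agent.Helper5.EtGlue.hom_ext_points
  intro T w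
  obtain ⟨a₀, ha₀⟩ := (yon S).map_surjective (w ≫ a)
  obtain ⟨b₀, hb₀⟩ := (yon S).map_surjective (w ≫ b)
  have h0 : (yon S).map a₀ ≫ m = (yon S).map b₀ ≫ m := by
    rw [ha₀, hb₀, Category.assoc, Category.assoc, hab]
  rw [← ha₀, ← hb₀]
  congr 1
  let c := c'.left
  let π : pullback (pullback.fst a₀.left c ≫ b₀.left) c ⟶ T.left :=
    pullback.fst _ _ ≫ pullback.fst _ _
  let a₂ : pullback (pullback.fst a₀.left c ≫ b₀.left) c ⟶ U₀.left :=
    pullback.fst _ _ ≫ pullback.snd a₀.left c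
  let b₂ : pullback (pullback.fst a₀.left c ≫ b₀.left) c ⟶ U₀.left :=
    pullback.snd _ _
  have ha₂ : a₂ ≫ c = π ≫ a₀.left := by
    show (pullback.fst _ _ ≫ pullback.snd a₀.left c) ≫ c = (pullback.fst _ _ ≫ pullback.fst _ _) ≫ a₀.left
    rw [Category.assoc, Category.assoc, pullback.condition]
  have hb₂ : b₂ ≫ c = π ≫ b₀.left := by
    show pullback.snd _ _ ≫ c = (pullback.fst _ _ ≫ pullback.fst _ _) ≫ b₀.left
    rw [Category.assoc, ← pullback.condition]
  have hcZ : c ≫ Z.hom = U₀.hom := Over.w c'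
  let T₂ : Over S := Over.mk (π ≫ T.hom)
  let π' : T₂ ⟶ T := Over.homMk π rfl
  let a₂' : T₂ ⟶ U₀ := Over.homMk a₂ (by
    show a₂ ≫ U₀.hom = π ≫ T.hom
    rw [← hcZ, ← Category.assoc, ha₂, Category.assoc]
    exact congrArg (π ≫ ·) (Over.w a₀))
  let b₂' : T₂ ⟶ U₀ := Over.homMk b₂ (by
    show b₂ ≫ U₀.hom = π ≫ T.hom
    rw [← hcZ, ← Category.assoc, hb₂, Category.assoc]
    exact congrArg (π ≫ ·) (Over.w b₀))
  have ea : a₂' ≫ c' = π' ≫ a₀ := Over.OverMorphism.ext ha₂
  have eb : b₂' ≫ c' = π' ≫ b₀ := Over.OverMorphism.ext hb₂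
  have h1 : (yon S).map a₂' ≫ q = (yon S).map b₂' ≫ q := by
    rw [← hm', ← Category.assoc, ← Category.assoc, ← Functor.map_comp, ← Functor.map_comp,
      ea, eb, Functor.map_comp, Functor.map_comp, Category.assoc, Category.assoc, h0]
  obtain ⟨ρ, hρ⟩ := (yon S).map_surjective (hR.lift _ _ h1)
  have hρt : ρ ≫ t = a₂' := by
    apply (yon S).map_injective
    rw [Functor.map_comp, hρ, hR.lift_fst]
  have hρs : ρ ≫ s = b₂' := by
    apply (yon S).map_injective
    rw [Functor.map_comp, hρ, hR.lift_snd]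
  have h2 : π' ≫ a₀ = π' ≫ b₀ := by
    rw [← ea, ← eb, ← hρt, ← hρs, Category.assoc, Category.assoc, hts]
  have h3 : π ≫ a₀.left = π ≫ b₀.left := congrArg (fun f => f.left) h2
  haveI : Flat π := inferInstance
  haveI : Surjective π := inferInstance
  haveI : Epi π := Flat.epi_of_flat_of_surjective π
  exact Over.OverMorphism.ext ((cancel_epi π).1 h3)

end Groth.Agent.Helper5.DegStr
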