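import Mathlib
import Groth.Agent.Helper5.DegStr2
import Groth.Agent.Helper5.Decent2

/-!
# The strata of the source map of the kernel pair of a chart are saturated
-/

set_option autoImplicit false
universe u

namespace Groth.Agent.Helper5.DegStr

open CategoryTheory CategoryTheory.Limits AlgebraicGeometry Opposite AlgSp

variable {S : Scheme.{u}}

theorem Npts_saturated {X : Sp S} {V R : Over S} (φ : (yon S).obj V ⟶ X) (s t : R ⟶ V)
    (hR : IsPullback ((yon S).map t) ((yon S).map s) φ φ) (n : ℕ) (r : ↥R.left)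
    (h : s.left r ∈ Npts s.left n) : t.left r ∈ Npts s.left n := by
  obtain ⟨K, _, β, y, hβ, hy, hinj⟩ := h
  let ρ₀ : Spec (CommRingCat.of (R.left.residueField r)) ⟶ R.left := R.left.fromSpecResidueField r
  have hρ₀ : ∀ p, ρ₀ p = r := fun p => R.left.fromSpecResidueField_apply r p
  obtain ⟨M, _, c, d, hcd⟩ := exists_common_extension β (ρ₀ ≫ s.left) (by
    rw [hβ]
    show s.left r = s.left (ρ₀ _)
    rw [hρ₀])
  haveI := epi_spec_field c
  let T : Over S := Over.mk (d ≫ ρ₀ ≫ R.hom)
  let ρ : T ⟶ R := Over.homMk (d ≫ ρ₀) (by simp [T])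
  have hRs : s.left ≫ V.hom = R.hom := Over.w s
  let yT : Fin n → (T ⟶ R) := fun i => Over.homMk (c ≫ y i) (by
    show (c ≫ y i) ≫ R.hom = d ≫ ρ₀ ≫ R.hom
    rw [← hRs, Category.assoc, ← Category.assoc (y i), hy i, ← Category.assoc, hcd]
    simp only [Category.assoc])
  have hyTs : ∀ i, yT i ≫ s = ρ ≫ s := by
    intro i
    apply Over.OverMorphism.ext
    show (c ≫ y i) ≫ s.left = (d ≫ ρ₀) ≫ s.left
    rw [Category.assoc, hy i, hcd, Category.assoc]
  have hφ : ∀ i, (yon S).map (yT i ≫ t) ≫ φ = (yon S).map (ρ ≫ t) ≫ φ := by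
    intro i
    rw [Functor.map_comp, Category.assoc, hR.w, ← Category.assoc, ← Functor.map_comp, hyTs i,
      Functor.map_comp, Category.assoc, ← hR.w, ← Category.assoc, ← Functor.map_comp]
  choose r' hr' using fun i => (yon S).map_surjective (hR.lift _ _ (hφ i))
  have hr't : ∀ i, r' i ≫ t = yT i ≫ t := by
    intro i
    apply (yon S).map_injective
    rw [Functor.map_comp, hr' i, hR.lift_fst]
  have hr's : ∀ i, r' i ≫ s = ρ ≫ t := by
    intro i
    apply (yon S).map_injective
    rw [Functor.map_comp, hr' i, hR.lift_snd]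
  refine ⟨M, inferInstance, (ρ ≫ t).left, fun i => (r' i).left, ?_, ?_, ?_⟩
  · show t.left (ρ₀ (d _)) = t.left r
    rw [hρ₀]
  · intro i
    exact congrArg (fun f => f.left) (hr's i)
  · intro i j hij
    have h1 : r' i = r' j := Over.OverMorphism.ext hij
    have h2 : yT i ≫ t = yT j ≫ t := by rw [← hr't i, ← hr't j, h1]
    have h3 : yT i ≫ s = yT j ≫ s := by rw [hyTs i, hyTs j]
    have h4 : (yon S).map (yT i) = (yon S).map (yT j) := by
      apply hR.hom_ext
      · rw [← Functor.map_comp, ← Functor.map_comp, h2]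
      · rw [← Functor.map_comp, ← Functor.map_comp, h3]
    have h5 : yT i = yT j := (yon S).map_injective h4
    have h6 : c ≫ y i = c ≫ y j := congrArg (fun f => f.left) h5
    exact hinj ((cancel_epi c).1 h6)

/-- the strata are unions of fibres of the map to the points of the space -/
theorem mem_Npts_iff_of_ofPt_eq {X : Sp S} {V R : Over S} (φ : (yon S).obj V ⟶ X) (s t : R ⟶ V)
    (hR : IsPullback ((yon S).map t) ((yon S).map s) φ φ) (n : ℕ) (v v' : ↥V.left)
    (h : Points.ofPt φ v = Points.ofPt φ v') : v ∈ Npts s.left n ↔ v' ∈ Npts s.left n := by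
  constructor
  · intro hv
    obtain ⟨r, hr1, hr2⟩ :=
      Groth.Agent.Helper5.Decent2.exists_scheme_point_of_isPullback hR v' v h.symm
    rw [← hr1]
    apply Npts_saturated φ s t hR n r
    rw [hr2]
    exact hv
  · intro hv'
    obtain ⟨r, hr1, hr2⟩ :=
      Groth.Agent.Helper5.Decent2.exists_scheme_point_of_isPullback hR v v' h
    rw [← hr1]
    apply Npts_saturated φ s t hR n r
    rw [hr2]
    exact hv'

end Groth.Agent.Helper5.DegStr
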