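import Groth.Agent.Helper5.EtPt10
import Groth.Agent.Helper4.AlgSpBasic
import Mathlib

set_option autoImplicit false
universe u
open CategoryTheory CategoryTheory.Limits AlgebraicGeometry Opposite

namespace Groth.Agent.Helper5.EtGlue

open AlgSp Groth.Agent.Helper4

variable {S : Scheme.{u}}

set_option backward.isDefEq.respectTransparency false

/-- a representable étale surjective morphism from a scheme is an epimorphism of sheaves -/
theorem epi_of_etale_surjective {X : Sp S} {A : Over S} (a : (yon S).obj A ⟶ X)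
    (hae : RepWith @Etale a) (has : RepWith @Surjective a) : Epi a := by
  constructor
  intro H h k hhk
  apply AlgSpBasic.hom_ext_yon
  intro T g
  have hr := hae.rep
  have hpb : IsPullback (hr.fst g) ((yon S).map (hr.snd g)) a g := hr.isPullback g
  have he : Etale (hr.snd g).left := hae.property _ _ _ hpb
  have hs : Surjective (hr.snd g).left := has.property _ _ _ hpb
  apply AlgSpBasic.yon_map_cancel (hr.snd g)
  rw [← Category.assoc, ← Category.assoc, ← hpb.w, Category.assoc, Category.assoc, hhk]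

instance : IsRegularEpiCategory (Sp S) :=
  inferInstanceAs (IsRegularEpiCategory (Sheaf (J S) (Type (u + 1))))

theorem effectiveEpi_of_etale_surjective {X : Sp S} {A : Over S} (a : (yon S).obj A ⟶ X)
    (hae : RepWith @Etale a) (has : RepWith @Surjective a) : EffectiveEpi a := by
  have := epi_of_etale_surjective a hae has
  rw [← isRegularEpi_iff_effectiveEpi]
  exact IsRegularEpiCategory.regularEpiOfEpi a

/-- gluing morphisms out of an algebraic space along its small étale site -/
theorem existsUnique_glue (X : Space S) (G : Sp S)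
    (φ : ∀ E : EtOver X.obj, (yon S).obj E.obj.left ⟶ G)
    (hφ : ∀ {E' E : EtOver X.obj} (g : E' ⟶ E), (yon S).map g.hom.left ≫ φ E = φ E') :
    ∃! f : X.obj ⟶ G, ∀ E : EtOver X.obj, E.obj.hom ≫ f = φ E := by
  obtain ⟨A, a, hae, has⟩ := X.property.atlas
  have heff := effectiveEpi_of_etale_surjective a hae has
  let EA : EtOver X.obj := EtOver.mk a hae
  have hr := hae.rep
  -- the kernel pair condition
  have hker : ∀ {Z : Sp S} (g₁ g₂ : Z ⟶ (yon S).obj A), g₁ ≫ a = g₂ ≫ a →
      g₁ ≫ φ EA = g₂ ≫ φ EA := by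
    intro Z g₁ g₂ hg
    apply AlgSpBasic.hom_ext_yon
    intro T t
    have sq : IsPullback (hr.fst a) ((yon S).map (hr.snd a)) a a := hr.isPullback a
    obtain ⟨d, hd⟩ := (yon S).map_surjective (hr.fst a)
    rw [← hd] at sq
    have he : Etale (hr.snd a).left := hae.property _ _ _ sq
    let ER : EtOver X.obj := EtOver.mk ((yon S).map (hr.snd a) ≫ a)
      (AlgSpSrc.repWith_comp _ ((repWith_yon_map_iff _ _).2 he) hae)
    let s' : ER ⟶ EA := EtOver.homMk (hr.snd a) rfl
    let t' : ER ⟶ EA := EtOver.homMk d sq.w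
    let r := sq.lift (t ≫ g₁) (t ≫ g₂) (by rw [Category.assoc, Category.assoc, hg])
    have hr1 : r ≫ (yon S).map d = t ≫ g₁ := sq.lift_fst _ _ _
    have hr2 : r ≫ (yon S).map (hr.snd a) = t ≫ g₂ := sq.lift_snd _ _ _
    have e1 : (yon S).map d ≫ φ EA = φ ER := hφ t'
    have e2 : (yon S).map (hr.snd a) ≫ φ EA = φ ER := hφ s'
    rw [← Category.assoc, ← Category.assoc, ← hr1, ← hr2, Category.assoc, Category.assoc, e1, e2]
  let f : X.obj ⟶ G := EffectiveEpi.desc a (φ EA) hker
  have hf : a ≫ f = φ EA := EffectiveEpi.fac a (φ EA) hker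
  refine ⟨f, ?_, ?_⟩
  · intro E
    have sqE : IsPullback (hr.fst E.obj.hom) ((yon S).map (hr.snd E.obj.hom)) a E.obj.hom :=
      hr.isPullback _
    obtain ⟨d, hd⟩ := (yon S).map_surjective (hr.fst E.obj.hom)
    rw [← hd] at sqE
    have he : Etale (hr.snd E.obj.hom).left := hae.property _ _ _ sqE
    have hs : Surjective (hr.snd E.obj.hom).left := has.property _ _ _ sqE
    let W : EtOver X.obj := EtOver.mk ((yon S).map (hr.snd E.obj.hom) ≫ E.obj.hom)
      (AlgSpSrc.repWith_comp _ ((repWith_yon_map_iff _ _).2 he) E.property)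
    let g₁ : W ⟶ E := EtOver.homMk (hr.snd E.obj.hom) rfl
    let g₂ : W ⟶ EA := EtOver.homMk d sqE.w
    have e1 : (yon S).map (hr.snd E.obj.hom) ≫ φ E = φ W := hφ g₁
    have e2 : (yon S).map d ≫ φ EA = φ W := hφ g₂
    apply AlgSpBasic.yon_map_cancel (hr.snd E.obj.hom)
    rw [e1, ← Category.assoc, ← sqE.w, Category.assoc, hf, e2]
  · intro f' hf'
    exact EffectiveEpi.uniq a (φ EA) hker f' (hf' EA)

end Groth.Agent.Helper5.EtGlue
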