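import Groth.Agent.Helper5.FpqcLocP
import Groth.Agent.Helper5.FlatCodescent
import Groth.Agent.Helper5.AlgSpEt2
import Mathlib

set_option autoImplicit false
universe u
open CategoryTheory CategoryTheory.Limits AlgebraicGeometry Opposite

namespace Groth.Agent.Helper5.FpqcLocPInst

open AlgSp Groth.Agent.Helper5.FpqcCore Groth.Agent.Helper5.FpqcLocP Groth.Agent.Helper4.SDClasses

variable (S : Scheme.{u})

set_option backward.isDefEq.respectTransparency.types false in
theorem lft : IsLocalOnBase (IsFpqcCover (S := S)) (LocP @LocallyOfFiniteType) :=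
  isLocalOnBase_locP _ good_lft

set_option backward.isDefEq.respectTransparency.types false in
theorem lfp : IsLocalOnBase (IsFpqcCover (S := S)) (LocP @LocallyOfFinitePresentation) :=
  isLocalOnBase_locP _ good_lfp

set_option backward.isDefEq.respectTransparency.types false in
theorem flat : IsLocalOnBase (IsFpqcCover (S := S)) (LocP @Flat) :=
  isLocalOnBase_locP _ good_flat

set_option backward.isDefEq.respectTransparency.types false in
theorem smooth : IsLocalOnBase (IsFpqcCover (S := S)) (LocP @Smooth) :=
  isLocalOnBase_locP _ good_smooth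

set_option backward.isDefEq.respectTransparency.types false in
theorem etale : IsLocalOnBase (IsFpqcCover (S := S)) (LocP @Etale) :=
  isLocalOnBase_locP _ good_etale

set_option backward.isDefEq.respectTransparency.types false in
theorem unram : IsLocalOnBase (IsFpqcCover (S := S))
    (LocP (@LocallyOfFiniteType ⊓ @FormallyUnramified)) :=
  isLocalOnBase_locP _ good_unram

theorem isEtaleMor : IsLocalOnBase (IsFpqcCover (S := S)) IsEtaleMor := by
  intro ι Y Yi g hY hYi hcov X f hX Xi p q hXi sq
  have h := etale S Yi g hY hYi hcov f hX Xi p q hXi sq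
  constructor
  · intro hf i
    exact Groth.Agent.Helper5.AlgSpEt.isEtaleMor_of_locP_etale (hXi i) (hYi i) (p i)
      (h.1 (Groth.Agent.Helper5.AlgSpEt.locP_etale_of_isEtaleMor f hf) i)
  · intro hp
    exact Groth.Agent.Helper5.AlgSpEt.isEtaleMor_of_locP_etale hX hY f
      (h.2 fun i => Groth.Agent.Helper5.AlgSpEt.locP_etale_of_isEtaleMor (p i) (hp i))

end Groth.Agent.Helper5.FpqcLocPInst
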