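import Groth.Agent.Helper5.QuotEff4
import Groth.Agent.Helper4.AlgSpOpenImage
import Groth.Agent.Helper5.FppfFpqc
import Groth.Agent.Helper5.FpqcLocPInst
import Groth.Agent.Helper4.AlgSpLocPComp
import Groth.Agent.Helper4.AlgSpLocP

set_option autoImplicit false
universe u
open CategoryTheory CategoryTheory.Limits AlgebraicGeometry Opposite MorphismProperty

namespace Groth.Agent.Helper5.QuotEff

open AlgSp Groth.Agent.Helper4

variable {S : Scheme.{u}}

set_option backward.isDefEq.respectTransparency.types false in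
/-- fppf covering sieves contain, around each point, a flat lfp member. -/
theorem exists_fppf_of_mem_J {T : Over S} (R : Sieve T) (hR : R ∈ J S T) (t : T.left) :
    ∃ (T' : Over S) (g : T' ⟶ T), R g ∧ t ∈ Set.range g.left.base ∧ Flat g.left ∧
      LocallyOfFinitePresentation g.left := by
  rw [J_eq, GrothendieckTopology.mem_over_iff] at hR
  have i0 : MorphismProperty.ContainsIdentities
      (@LocallyOfFinitePresentation : MorphismProperty Scheme.{u}) := ⟨fun X => inferInstance⟩
  have i1 : (Scheme.fppfPrecoverage.{u}).HasIsos := by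
    unfold Scheme.fppfPrecoverage
    infer_instance
  obtain ⟨R', hR', hle⟩ :=
    (Precoverage.mem_toGrothendieck_iff_of_isStableUnderComposition
      (J := Scheme.fppfPrecoverage)).1 hR
  have hjs : R' ∈ Scheme.jointlySurjectivePrecoverage T.left := hR'.1
  have hP : ∀ {Y : Scheme.{u}} (g : Y ⟶ T.left), R' g →
      (@Flat ⊓ @LocallyOfFinitePresentation : MorphismProperty Scheme.{u}) g := fun g hg => hR'.2 hg
  rw [Scheme.jointlySurjectivePrecoverage,
    Presieve.mem_comap_jointlySurjectivePrecoverage_iff] at hjs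
  obtain ⟨Y, g, hg, y, hy⟩ := hjs t
  have h1 : (Sieve.overEquiv T R) g := hle _ _ hg
  rw [Sieve.overEquiv_iff] at h1
  exact ⟨_, _, h1, ⟨y, hy⟩, (hP g hg).1, (hP g hg).2⟩

open Groth.Agent.Helper4.SDClasses Groth.Agent.Helper4.AlgSpPtsDesc

theorem exists_ofPt_eq {F : Sp S} {V : Over S} (p : (yon S).obj V ⟶ F) (hps : RepWith @Surjective p)
    (y : Points F) : ∃ v : V.left, Points.ofPt p v = y := by
  obtain ⟨z, hz⟩ := AlgSpPts.isSurjectiveMor_of_repWith p hps y
  obtain ⟨v, rfl⟩ := (Points.schemeEquiv V).surjective z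
  exact ⟨v, by rw [Points.ofPt_eq_map_ofScheme]; exact hz⟩

theorem locP_yon_map_comp (P : MorphismProperty Scheme.{u}) (hG : Good P) {F : Sp S} {V Y : Over S}
    (p : (yon S).obj V ⟶ F) (hpe : RepWith @Etale p) (g : Y ⟶ V) (hg : P g.left) :
    LocP P ((yon S).map g ≫ p) := by
  have := hG.bc
  have := hG.comp
  have h1 : LocP P ((yon S).map g) :=
    AlgSpLocP.locP_of_repWith P P (fun _ h => h) hG.etale_le _ ((repWith_yon_map_iff _ _).2 hg)
  have h2 : LocP P p :=
    AlgSpLocP.locP_of_repWith P @Etale hG.etale_le hG.etale_le _ hpe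
  exact AlgSpLocPComp.locP_comp P hG (IsAlgSpace.yon_obj V) _ _ h1 h2

/-- the fppf quotient map of an equivalence relation with flat lfp projections, when the quotient is an
algebraic space, is surjective, flat and lfp -/
theorem s10107 (R U : Sp S) (hR : IsAlgSpace R) (hU : IsAlgSpace U) (s t : R ⟶ U)
    (hj : IsEqvRelSp s t)
    (hs : LocP @Flat s ∧ LocP @LocallyOfFinitePresentation s)
    (hF : IsAlgSpace (quotSp s t)) :
    IsSurjectiveMor (quotSpπ s t) ∧ LocP @Flat (quotSpπ s t) ∧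
      LocP @LocallyOfFinitePresentation (quotSpπ s t) := by
  obtain ⟨V, p, hpe, hps⟩ := hF.atlas
  obtain ⟨R', hR', hl⟩ := loc_lift (quotSpπ s t) p
  have key : ∀ x : V.left, ∃ (Y : Over S) (g : Y ⟶ V) (l : (yon S).obj Y ⟶ U),
      x ∈ Set.range g.left.base ∧ Flat g.left ∧ LocallyOfFinitePresentation g.left ∧
      l ≫ quotSpπ s t = (yon S).map g ≫ p := by
    intro x
    obtain ⟨Y, g, hRg, hx, hfl, hlfp⟩ := exists_fppf_of_mem_J R' hR' x
    obtain ⟨l, hl'⟩ := hl g hRg
    exact ⟨Y, g, l, hx, hfl, hlfp, hl'⟩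
  choose Y g l hx hfl hlfp hlπ using key
  -- the cover
  let Yi : V.left → Sp S := fun x => (yon S).obj (Y x)
  let gi : ∀ x, Yi x ⟶ quotSp s t := fun x => (yon S).map (g x) ≫ p
  have hYi : ∀ x, IsAlgSpace (Yi x) := fun x => IsAlgSpace.yon_obj _
  have hsurj : ∀ y : Points (quotSp s t), ∃ (x : V.left) (w : (Y x).left),
      Points.ofPt (gi x) w = y := by
    intro y
    obtain ⟨v, rfl⟩ := exists_ofPt_eq p hps y
    obtain ⟨w, hw⟩ := hx v
    refine ⟨v, w, ?_⟩
    rw [ofPt_yon_map_comp]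
    exact congrArg _ hw
  have hcov : IsFppfCover Yi gi := by
    refine ⟨fun x => ⟨locP_yon_map_comp _ good_flat p hpe (g x) (hfl x),
      locP_yon_map_comp _ good_lfp p hpe (g x) (hlfp x)⟩, ?_⟩
    intro y
    obtain ⟨x, w, hw⟩ := hsurj y
    refine ⟨x, Points.ofScheme _ w, ?_⟩
    rw [← Points.ofPt_eq_map_ofScheme]; exact hw
  have hcov' : IsFpqcCover Yi gi :=
    Groth.Agent.Helper5.FppfFpqc.isFpqcCover_of_isFppfCover hF Yi hYi gi hcov
  -- base changes
  have hsq : ∀ x, IsPullback (pullback.fst (quotSpπ s t) (gi x)) (pullback.snd (quotSpπ s t) (gi x))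
      (quotSpπ s t) (gi x) := fun x => IsPullback.of_hasPullback _ _
  have hXi : ∀ x, IsAlgSpace (pullback (quotSpπ s t) (gi x)) := fun x =>
    Groth.Agent.Helper4.AlgSpPB.isAlgSpace_of_isPullback hF.diag hU (hYi x) _ _ _ _ (hsq x)
  have hbc : ∀ (P : MorphismProperty Scheme.{u}) (hG : Good P), LocP P s →
      ∀ x, LocP P (pullback.snd (quotSpπ s t) (gi x)) := by
    intro P hG hPs x
    have := hG.bc
    have := hG.comp
    have hq := isPullback_quot s t hj
    have aux : ∀ {X' : Sp S} (a : X' ⟶ U) (b : X' ⟶ Yi x),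
        IsPullback a b (quotSpπ s t) (gi x) → LocP P b := by
      intro X' a b sq
      have hbig : IsPullback a b (quotSpπ s t) (l x ≫ quotSpπ s t) := by
        rw [hlπ x]; exact sq
      have hw : a ≫ quotSpπ s t = (b ≫ l x) ≫ quotSpπ s t := by
        rw [Category.assoc]; exact hbig.w
      have hleft : IsPullback (hq.lift _ _ hw) b s (l x) := by
        refine IsPullback.of_right ?_ (hq.lift_snd _ _ hw) hq
        rw [hq.lift_fst]
        exact hbig
      exact Groth.Agent.Helper4.AlgSpLocPBC.locP_of_isPullback P hG.etale_le hG.sd hR hU s (l x) _ _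
        hleft hPs
    exact aux _ _ (hsq x)
  refine ⟨?_, ?_, ?_⟩
  · intro y
    obtain ⟨x, w, hw⟩ := hsurj y
    refine ⟨Points.ofPt (l x) w, ?_⟩
    rw [Points.map_ofPt, hlπ x]
    exact hw
  · exact ((Groth.Agent.Helper5.FpqcLocPInst.flat S) Yi gi hF hYi hcov' (quotSpπ s t) hU _ _ _ hXi
      hsq).2 (hbc _ good_flat hs.1)
  · exact ((Groth.Agent.Helper5.FpqcLocPInst.lfp S) Yi gi hF hYi hcov' (quotSpπ s t) hU _ _ _ hXi
      hsq).2 (hbc _ good_lfp hs.2)

end Groth.Agent.Helper5.QuotEff
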