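import Groth.Agent.Helper5.EtImg1
import Groth.Agent.Helper5.QuotEff5
import Groth.Agent.Helper4.AlgSpOpenImage
import Groth.Agent.Helper4.AlgSpDesc
import Groth.Agent.Helper4.UB1
import Mathlib

set_option autoImplicit false
universe u
open CategoryTheory CategoryTheory.Limits AlgebraicGeometry Opposite

namespace Groth.Agent.Helper5.EtImg

open AlgSp Groth.Agent.Helper4.AlgSpOpenImage

/-- variant of `etale_of_pointwise_fppf` with arbitrary pullback squares -/
theorem etale_of_pointwise_fppf' {V T : Scheme.{u}} (f : V ⟶ T)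
    (h : ∀ t : ↥T, ∃ (T' P' : Scheme.{u}) (g : T' ⟶ T) (a : P' ⟶ V) (b : P' ⟶ T'),
      IsPullback a b f g ∧ t ∈ Set.range g ∧ Flat g ∧ LocallyOfFinitePresentation g ∧ Etale b) :
    Etale f := by
  apply etale_of_pointwise_fppf
  intro t
  obtain ⟨T', P', g, a, b, sq, ht, hfl, hlfp, het⟩ := h t
  refine ⟨T', g, ht, hfl, hlfp, ?_⟩
  have : pullback.snd f g = sq.isoPullback.inv ≫ b := (sq.isoPullback_inv_snd).symm
  rw [this]
  infer_instance

variable {S : Scheme.{u}} {X : Sp S} {W : Over S} (m : (yon S).obj W ⟶ X)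

/-- Local lifting along the corestriction to the image, by flat locally finitely presented
morphisms. -/
theorem local_lift_fppf {U : Over S} (σ : (yon S).obj U ⟶ img m) (u : U.left) :
    ∃ (U' : Over S) (g' : U' ⟶ U) (y : U' ⟶ W),
      u ∈ Set.range g'.left ∧ Flat g'.left ∧ LocallyOfFinitePresentation g'.left ∧
        (yon S).map y ≫ toImg m = (yon S).map g' ≫ σ := by
  let x := (J S).uliftYonedaEquiv σ
  have hx : (Subfunctor.range m.hom).sieveOfSection x.1 ∈ J S U := x.2
  obtain ⟨U', g', hg', hu, hfl, hlfp⟩ := Groth.Agent.Helper5.QuotEff.exists_fppf_of_mem_J _ hx u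
  obtain ⟨w, hw⟩ := hg'
  obtain ⟨y, hy⟩ := (yon S).map_surjective ((J S).uliftYonedaEquiv.symm w)
  refine ⟨U', g', y, hu, hfl, hlfp, ?_⟩
  rw [hy, ← cancel_mono (imgι m), Category.assoc, toImg_ι, Category.assoc]
  apply (J S).uliftYonedaEquiv.injective
  rw [GrothendieckTopology.uliftYonedaEquiv_comp, Equiv.apply_symm_apply, hw,
    ← GrothendieckTopology.uliftYonedaEquiv_naturality]
  rfl

theorem isPullback_of_comp_mono {C : Type*} [Category C] {P A B D E : C} {fst : P ⟶ A}
    {snd : P ⟶ B} {f : A ⟶ D} {g : B ⟶ D} (i : D ⟶ E) [Mono i]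
    (h : IsPullback fst snd (f ≫ i) (g ≫ i)) : IsPullback fst snd f g := by
  have hw : fst ≫ f = snd ≫ g := by
    rw [← cancel_mono i, Category.assoc, Category.assoc]; exact h.w
  refine ⟨⟨hw⟩, ⟨PullbackCone.IsLimit.mk _ (fun c => h.lift c.fst c.snd (by
    rw [← Category.assoc, c.condition, Category.assoc])) ?_ ?_ ?_⟩⟩
  · intro c; exact h.lift_fst _ _ _
  · intro c; exact h.lift_snd _ _ _
  · intro c l h1 h2
    apply h.hom_ext
    · rw [h1, h.lift_fst]
    · rw [h2, h.lift_snd]

variable (hX : Representable (Limits.diag X)) {R : Over S} (p₁ p₂ : R ⟶ W)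
  (sqR : IsPullback ((yon S).map p₁) ((yon S).map p₂) m m) (hp₂ : Etale p₂.left)

include hX in
theorem representable_diag_img : Representable (Limits.diag (img m)) :=
  MorphismProperty.of_isPullback (isPullback_diag_of_mono (imgι m)) hX

include hX sqR hp₂ in
/-- if the kernel pair of `m` is etale over the source, the corestriction of `m` to its image is
representable etale -/
theorem toImg_etale_of_kernelPair : RepWith @Etale (toImg m) := by
  have hdiag := representable_diag_img m hX
  have hrep : Representable (toImg m) := Functor.relativelyRepresentable.of_diag hdiag (toImg m)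
  have sqR' : IsPullback ((yon S).map p₁) ((yon S).map p₂) (toImg m) (toImg m) := by
    apply isPullback_of_comp_mono (imgι m)
    rw [toImg_ι]
    exact sqR
  refine ⟨hrep, ?_⟩
  intro T V ξ fst snd sq
  show Etale snd.left
  apply etale_of_pointwise_fppf'
  intro t
  obtain ⟨T', g', y, ht, hfl, hlfp, hy⟩ := local_lift_fppf m ξ t
  have hE' : IsPullback (pullback.fst snd g') (pullback.snd snd g') snd g' :=
    IsPullback.of_hasPullback _ _
  obtain ⟨m', hm'⟩ := Groth.Agent.Helper4.AlgSpDesc.cube sqR' sq hy hE'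
  obtain ⟨m₀, rfl⟩ := (yon S).map_surjective m'
  have hsch : IsPullback m₀.left (pullback.snd snd g').left p₂.left y.left :=
    Groth.Agent.Helper4.UB1.isPullback_left (Groth.Agent.Helper4.UB1.isPullback_of_yon_map hm')
  have het' : Etale (pullback.snd snd g').left :=
    MorphismProperty.of_isPullback (P := @Etale) hsch hp₂
  exact ⟨T'.left, (pullback snd g').left, g'.left, (pullback.fst snd g').left,
    (pullback.snd snd g').left, Groth.Agent.Helper4.UB1.isPullback_left hE', ht, hfl, hlfp, het'⟩

include hX sqR hp₂ in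
theorem toImg_surjective_of_kernelPair : RepWith @Surjective (toImg m) := by
  refine ⟨(toImg_etale_of_kernelPair m hX p₁ p₂ sqR hp₂).rep, ?_⟩
  intro T V ξ fst snd sq
  show Surjective snd.left
  refine ⟨fun t => ?_⟩
  obtain ⟨U', g', y, hu, hy⟩ := local_lift m ξ t
  obtain ⟨l, hl⟩ := (yon S).map_surjective (sq.lift y ((yon S).map g') hy)
  have hl2 : l ≫ snd = g' := by
    apply (yon S).map_injective
    rw [Functor.map_comp, hl, sq.lift_snd]
  obtain ⟨u', rfl⟩ := hu
  exact ⟨l.left u', by rw [← hl2]; rfl⟩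

include hX sqR hp₂ in
theorem isAlgSpace_img_of_kernelPair : IsAlgSpace (img m) where
  diag := representable_diag_img m hX
  atlas := ⟨W, toImg m, toImg_etale_of_kernelPair m hX p₁ p₂ sqR hp₂,
    toImg_surjective_of_kernelPair m hX p₁ p₂ sqR hp₂⟩

end Groth.Agent.Helper5.EtImg
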