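import Groth.Agent.Helper5.AffDesc8
import Groth.Agent.S0084
import Groth.Agent.S0085
import Groth.Agent.S9867
import Groth.Agent.S9885
import Mathlib

set_option autoImplicit false
universe u
open CategoryTheory CategoryTheory.Limits AlgebraicGeometry Opposite TensorProduct

namespace Groth.Agent.Helper5.AffDesc

open AlgSp Groth.Agent.Helper5.GeomFibSp Groth.Agent.Helper5.ZarGlue

variable {S : Scheme.{u}}

theorem repWith_of_le {P Q : MorphismProperty Scheme.{u}} (hle : P ≤ Q) {F G : Sp S} {f : F ⟶ G}
    (h : RepWith P f) : RepWith Q f :=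
  ⟨h.rep, fun _ _ g fst snd sq => hle _ (h.property g fst snd sq)⟩

theorem etale_le_flat : (@Etale : MorphismProperty Scheme.{u}) ≤ @Flat := fun _ _ _ h =>
  haveI := h; inferInstance

theorem etale_le_lfp : (@Etale : MorphismProperty Scheme.{u}) ≤ @LocallyOfFinitePresentation :=
  fun _ _ _ h => haveI := h; inferInstance

/-- S9943 -/
theorem s9943 {X Y : Sp S} (f : X ⟶ Y) (V : Over S)
    (p : (yon S).obj V ⟶ Y) (hp : RepWith @Etale p) (hps : RepWith @Surjective p)
    {P : Sp S} (fst : P ⟶ X) (snd : P ⟶ (yon S).obj V) (sq : IsPullback fst snd f p)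
    (h : IsAffineMor snd) : IsAffineMor f :=
  isAffineMor_of_fppf_chart f V p (repWith_of_le etale_le_flat hp) (repWith_of_le etale_le_lfp hp)
    hps fst snd sq h

theorem representable_of_isAffineMor {X Y : Sp S} {f : X ⟶ Y} (h : IsAffineMor f) :
    Representable f :=
  representable_of_affine f (fun Z hZ g => by
    obtain ⟨W, i, fst, sq, -⟩ := h hZ g
    exact ⟨W, i, fst, sq⟩)

set_option backward.isDefEq.respectTransparency.types false in
/-- descent of `RepWith P` along an étale chart, for `P` affine-type satisfying fpqc descent -/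
theorem repWith_of_etale_chart (P : MorphismProperty Scheme.{u}) [P.IsStableUnderBaseChange]
    [IsZariskiLocalAtTarget P] [P.DescendsAlong (@Surjective ⊓ @Flat ⊓ @QuasiCompact)]
    (hPaff : P ≤ @IsAffineHom)
    {X Y : Sp S} (f : X ⟶ Y) (V : Over S)
    (p : (yon S).obj V ⟶ Y) (hp : RepWith @Etale p) (hps : RepWith @Surjective p)
    {P₀ : Sp S} (fst : P₀ ⟶ X) (snd : P₀ ⟶ (yon S).obj V) (sq : IsPullback fst snd f p)
    (h : RepWith P snd) : RepWith P f := by
  have haff : IsAffineMor snd := by
    intro Z hZ g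
    obtain ⟨W, i, fst', sq'⟩ := h.1 g
    have hi : P i.left := h.2 g fst' i sq'
    have : IsAffineHom i.left := hPaff _ hi
    have : IsAffine Z.left := hZ
    exact ⟨W, i, fst', sq', isAffine_of_isAffineHom i.left⟩
  have hf : IsAffineMor f := s9943 f V p hp hps fst snd sq haff
  have hrep := representable_of_isAffineMor hf
  have : Sheaf.IsLocallySurjective p :=
    Groth.Agent.S9885.result S _ _ p (repWith_of_le etale_le_flat hp)
      (repWith_of_le etale_le_lfp hp) hps
  have := FppfLocT.isLocalAtTarget_fppf P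
  exact Groth.Agent.S9884.result S X Y _ f hrep p P₀ fst snd sq P h

set_option backward.isDefEq.respectTransparency.types false in
/-- S10268 -/
theorem s10268 {X Y : Sp S} (f : X ⟶ Y) (V : Over S)
    (p : (yon S).obj V ⟶ Y) (hp : RepWith @Etale p) (hps : RepWith @Surjective p)
    {P : Sp S} (fst : P ⟶ X) (snd : P ⟶ (yon S).obj V) (sq : IsPullback fst snd f p) :
    (IsIntegralMor snd → IsIntegralMor f) ∧ (IsFiniteMor snd → IsFiniteMor f) := by
  have := Groth.Agent.S0084.result.{u}
  have := Groth.Agent.S0085.result.{u}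
  constructor
  · intro h
    rw [(s10267 _).1] at h ⊢
    exact repWith_of_etale_chart _ (fun _ _ g (hi : IsIntegralHom g) => (inferInstance : IsAffineHom g))
      f V p hp hps fst snd sq h
  · intro h
    rw [(s10267 _).2] at h ⊢
    exact repWith_of_etale_chart _ (fun _ _ g (hi : IsFinite g) => (inferInstance : IsAffineHom g))
      f V p hp hps fst snd sq h

set_option backward.isDefEq.respectTransparency.types false in
/-- S10293 -/
theorem s10293 {X Y : Sp S} (f : X ⟶ Y) (V : Over S)
    (p : (yon S).obj V ⟶ Y) (hp : RepWith @Etale p) (hps : RepWith @Surjective p)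
    {P : Sp S} (fst : P ⟶ X) (snd : P ⟶ (yon S).obj V) (sq : IsPullback fst snd f p)
    (h : IsFinLocFreeMor snd) : IsFinLocFreeMor f := by
  have : (finLocFree.{u}).DescendsAlong (@Surjective ⊓ @Flat ⊓ @QuasiCompact) :=
    Groth.Agent.S9867.result.{u}.1
  exact repWith_of_etale_chart finLocFree
    (fun _ _ g (hi : Mor2.IsFinLocFree g) => (haveI : IsFinite g := hi.1; inferInstance : IsAffineHom g))
    f V p hp hps fst snd sq h

end Groth.Agent.Helper5.AffDesc
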