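import Groth.Prelude.Def_AlgSpDec
import Groth.Agent.Helper5.PbFibre
import Groth.Agent.Helper5.Decent2
import Groth.Agent.Helper5.UnramLqf
import Mathlib

set_option autoImplicit false
universe u
open CategoryTheory CategoryTheory.Limits AlgebraicGeometry Opposite

namespace Groth.Agent.Helper5.MonoPt

open AlgSp Groth.Agent.Helper5.Decent2

variable {S : Scheme.{u}}

/-- Finite fibres for an arbitrary pullback square of schemes. -/
theorem finite_fibre_of_isPullback {P A B T : Scheme.{u}} {fst : P ⟶ A} {snd : P ⟶ B} {f : A ⟶ T}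
    {g : B ⟶ T} (sq : IsPullback fst snd f g) (a : ↥A) (b : ↥B) (h : f a = g b)
    (hfin : (g.residueFieldMap b).hom.Finite) :
    {z : ↥P | fst z = a ∧ snd z = b}.Finite := by
  have h1 := Groth.Agent.Helper5.PbFibre.finite_fibre_pullback f g a b h hfin
  have hinj : Function.Injective sq.isoPullback.hom :=
    sq.isoPullback.hom.isOpenEmbedding.injective
  refine (h1.preimage (hinj.injOn)).subset ?_
  rintro z ⟨hz1, hz2⟩
  refine ⟨?_, ?_⟩
  · show pullback.fst f g (sq.isoPullback.hom z) = a
    rw [← Scheme.Hom.comp_apply, sq.isoPullback_hom_fst, hz1]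
  · show pullback.snd f g (sq.isoPullback.hom z) = b
    rw [← Scheme.Hom.comp_apply, sq.isoPullback_hom_snd, hz2]

/-- For a point represented by a monomorphism from the spectrum of a field, the relation
`R = U ×_X U` of any étale chart has finite fibres over pairs of points above it. -/
theorem finite_relation_fibre_of_mono_point {X : Sp S} (p : FieldPt X) [Mono p.toHom]
    {U : Over S} (φ : (yon S).obj U ⟶ X) (hφ : RepWith @Etale φ) (u u' : ↥U.left)
    (hu : Points.ofPt φ u = Points.mk p) (hu' : Points.ofPt φ u' = Points.mk p)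
    (R : Over S) (s t : R ⟶ U) (hR : IsPullback ((yon S).map t) ((yon S).map s) φ φ) :
    {r : ↥R.left | s.left r = u ∧ t.left r = u'}.Finite := by
  have sqW := hφ.rep.isPullback p.toHom
  obtain ⟨e, he⟩ := (yon S).map_surjective (hφ.rep.fst p.toHom)
  rw [← he] at sqW
  have hce : Etale (hφ.rep.snd p.toHom).left := hφ.property p.toHom _ _ sqW
  clear he
  generalize hφ.rep.snd p.toHom = c at sqW hce
  generalize hφ.rep.pullback p.toHom = W at e c sqW hce
  have hme : Mono ((yon S).map e) := sqW.mono_fst_of_mono
  have hme' : Mono e := (yon S).mono_of_mono_map hme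
  have hme'' : Mono e.left := inferInstance
  have hinj : Function.Injective e.left := e.left.injective
  let s₀ : ↥p.pt.left := (IsLocalRing.closedPoint p.K : ↥(Spec (CommRingCat.of p.K)))
  obtain ⟨w, hw1, hw2⟩ := exists_scheme_point_of_isPullback sqW u s₀
    (by rw [hu, Points.ofPt_toHom])
  obtain ⟨w', hw'1, hw'2⟩ := exists_scheme_point_of_isPullback sqW u' s₀
    (by rw [hu', Points.ofPt_toHom])
  have sqQ : IsPullback (pullback.fst c c) (pullback.snd c c) c c := IsPullback.of_hasPullback c c
  have sqQy := sqQ.map (yon S)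
  have sqQs := sqQ.map (Over.forget S)
  have big := sqQy.flip.paste_horiz sqW
  have hcomm : (yon S).map (pullback.snd c c ≫ e) ≫ φ = (yon S).map (pullback.fst c c ≫ e) ≫ φ := by
    rw [Functor.map_comp, Functor.map_comp, Category.assoc, Category.assoc, sqW.w,
      ← Category.assoc, ← Category.assoc, sqQy.w]
  obtain ⟨m, hm⟩ := (yon S).map_surjective (hR.lift _ _ hcomm)
  have hm1 : m ≫ t = pullback.snd c c ≫ e := by
    apply (yon S).map_injective
    rw [Functor.map_comp, hm, hR.lift_fst]
  have hm2 : m ≫ s = pullback.fst c c ≫ e := by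
    apply (yon S).map_injective
    rw [Functor.map_comp, hm, hR.lift_snd]
  have left : IsPullback ((yon S).map m) ((yon S).map (pullback.fst c c)) ((yon S).map s)
      ((yon S).map e) := by
    refine IsPullback.of_right ?_ ?_ hR
    · rw [← Functor.map_comp, hm1, Functor.map_comp, sqW.w]
      exact big
    · rw [← Functor.map_comp, hm2, Functor.map_comp]
  have hZ : {z : ↥(pullback c c).left | (pullback.fst c c).left z = w ∧
      (pullback.snd c c).left z = w'}.Finite := by
    have : LocallyQuasiFinite c.left :=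
      Groth.Agent.Helper5.UnramLqf.locallyQuasiFinite_of_unramified c.left
    exact finite_fibre_of_isPullback sqQs w w' (hw2.trans hw'2.symm)
      (Groth.Agent.Helper5.PbFibre.finite_residueFieldMap_of_lqf c.left w')
  refine (hZ.image m.left).subset ?_
  rintro r ⟨hr1, hr2⟩
  have h : Points.ofPt ((yon S).map s) r = Points.ofPt ((yon S).map e) w := by
    rw [← Groth.Agent.Helper4.AlgSpQC2.ofPt_eq_map_schemeHomeo,
      ← Groth.Agent.Helper4.AlgSpQC2.ofPt_eq_map_schemeHomeo, Points.map_yon_map_apply,
      Points.map_yon_map_apply, hr1, hw1]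
  obtain ⟨z, hz1, hz2⟩ := exists_scheme_point_of_isPullback left r w h
  refine ⟨z, ⟨hz2, ?_⟩, hz1⟩
  apply hinj
  rw [hw'1, ← hr2, ← hz1, ← Scheme.Hom.comp_apply, ← Scheme.Hom.comp_apply, ← Over.comp_left,
    ← Over.comp_left, hm1]

end Groth.Agent.Helper5.MonoPt
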