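import Mathlib
import Groth.Agent.Helper5.MonoQuot3
import Groth.Agent.Helper5.UnramLqf

/-!
# Mono field points from finiteness of the relation fibre in an etale chart
-/

set_option autoImplicit false
universe u

namespace Groth.Agent.Helper5.MonoQuot

open CategoryTheory CategoryTheory.Limits AlgebraicGeometry Opposite AlgSp

variable {S : Scheme.{u}}

theorem mk_eq_of_factor {X : Sp S} (p q : FieldPt X) (c : q.pt ⟶ p.pt)
    (h : (yon S).map c ≫ p.toHom = q.toHom) : Points.mk p = Points.mk q := by
  rw [Points.mk_eq_mk_iff]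
  refine (Groth.Agent.Helper4.AlgSpInj.rel_iff p q).2 ⟨q.K, inferInstance, q.str, c, 𝟙 _, ?_⟩
  rw [CategoryTheory.Functor.map_id, Category.id_comp]
  exact h

/-- the fibre product of two maps into a chart, over the space, through the relation -/
theorem isPullback_through_chart {X : Sp S} {U R A B P₁ P₂ : Over S}
    (φ : (yon S).obj U ⟶ X) (s t : R ⟶ U)
    (hR : IsPullback ((yon S).map t) ((yon S).map s) φ φ) (a : A ⟶ U) (b : B ⟶ U)
    {f₁ : P₁ ⟶ A} {g₁ : P₁ ⟶ R} (sq₁ : IsPullback f₁ g₁ a t)
    {f₂ : P₂ ⟶ P₁} {g₂ : P₂ ⟶ B} (sq₂ : IsPullback f₂ g₂ (g₁ ≫ s) b) :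
    IsPullback ((yon S).map (f₂ ≫ f₁)) ((yon S).map g₂) ((yon S).map a ≫ φ)
      ((yon S).map b ≫ φ) := by
  have big₁ := (sq₁.map (yon S)).flip.paste_horiz hR.flip
  rw [← Functor.map_comp] at big₁
  have big₂ := (sq₂.map (yon S)).flip.paste_vert big₁
  rw [Functor.map_comp]
  exact big₂.flip

theorem quasiCompact_of_finite {X Y : Scheme.{u}} (f : X ⟶ Y) [Finite ↥X] : QuasiCompact f :=
  ⟨fun _ _ _ => (Set.toFinite _).isCompact⟩

/-- finiteness of the fibre product over a point of a field -/
theorem isFinite_through_chart {U R P₁ P₂ : Over S} {L : Type u} [Field L]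
    {wA wB : Spec (CommRingCat.of L) ⟶ S}
    (s t : R ⟶ U) [Etale t.left] (a : Over.mk wA ⟶ U) (b : Over.mk wB ⟶ U)
    [LocallyQuasiFinite a.left] [LocallyQuasiFinite b.left]
    {f₁ : P₁ ⟶ Over.mk wA} {g₁ : P₁ ⟶ R} (sq₁ : IsPullback f₁ g₁ a t)
    {f₂ : P₂ ⟶ P₁} {g₂ : P₂ ⟶ Over.mk wB} (sq₂ : IsPullback f₂ g₂ (g₁ ≫ s) b)
    (hF : {r : ↥R.left | t.left r = a.left (IsLocalRing.closedPoint L : PrimeSpectrum L) ∧
      s.left r = b.left (IsLocalRing.closedPoint L : PrimeSpectrum L)}.Finite) :
    IsFinite (f₂ ≫ f₁).left := by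
  have sq₁' := sq₁.map (Over.forget S)
  have sq₂' := sq₂.map (Over.forget S)
  simp only [Over.forget_obj, Over.forget_map] at sq₁' sq₂'
  haveI : LocallyQuasiFinite t.left :=
    Groth.Agent.Helper5.UnramLqf.locallyQuasiFinite_of_unramified t.left
  haveI hf₁ : LocallyQuasiFinite f₁.left :=
    MorphismProperty.of_isPullback (P := @LocallyQuasiFinite) sq₁'.flip inferInstance
  haveI hg₁ : LocallyQuasiFinite g₁.left :=
    MorphismProperty.of_isPullback (P := @LocallyQuasiFinite) sq₁' inferInstance
  haveI hf₂ : LocallyQuasiFinite f₂.left :=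
    MorphismProperty.of_isPullback (P := @LocallyQuasiFinite) sq₂'.flip inferInstance
  haveI : Finite ↥(Over.mk wA).left :=
    (inferInstance : Finite (PrimeSpectrum L))
  haveI : Finite ↥(Over.mk wB).left :=
    (inferInstance : Finite (PrimeSpectrum L))
  haveI : QuasiCompact a.left := quasiCompact_of_finite _
  haveI : QuasiCompact b.left := quasiCompact_of_finite _
  haveI hg₁q : QuasiCompact g₁.left :=
    MorphismProperty.of_isPullback (P := @QuasiCompact) sq₁' inferInstance
  haveI hf₂q : QuasiCompact f₂.left :=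
    MorphismProperty.of_isPullback (P := @QuasiCompact) sq₂'.flip inferInstance
  have hsub : ∀ (x y : PrimeSpectrum L), x = y := fun x y => Subsingleton.elim _ _
  have hfin : Finite ↥P₂.left := by
    have h1 := Scheme.Hom.finite_preimage (f₂.left ≫ g₁.left) hF
    have h2 : (f₂.left ≫ g₁.left) ⁻¹' {r : ↥R.left |
        t.left r = a.left (IsLocalRing.closedPoint L : PrimeSpectrum L) ∧
        s.left r = b.left (IsLocalRing.closedPoint L : PrimeSpectrum L)} = Set.univ := by
      ext z
      simp only [Set.mem_preimage, Set.mem_univ, iff_true]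
      constructor
      · have e1 := congrArg (fun h : P₁.left ⟶ U.left => h (f₂.left z)) sq₁'.w
        simp only [Scheme.Hom.comp_apply] at e1
        rw [Scheme.Hom.comp_apply, ← e1]
        exact congrArg a.left (hsub _ _)
      · have e2 := congrArg (fun h : P₂.left ⟶ U.left => h z) sq₂'.w
        simp only [Over.comp_left, Scheme.Hom.comp_apply] at e2
        rw [Scheme.Hom.comp_apply, e2]
        exact congrArg b.left (hsub _ _)
    rw [h2] at h1
    exact Set.finite_univ_iff.1 h1
  haveI : QuasiCompact (f₂ ≫ f₁).left := quasiCompact_of_finite _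
  haveI : LocallyQuasiFinite (f₂ ≫ f₁).left := by
    rw [Over.comp_left]; infer_instance
  haveI : IsLocallyArtinian (Over.mk wA).left :=
    (inferInstance : IsLocallyArtinian (Spec (CommRingCat.of L)))
  exact IsFinite.of_locallyQuasiFinite _

/-- **Mono points from charts.** A field point which factors (in two ways) through an etale
chart, such that the relation of the chart has finite fibre over the pair of image points, is
dominated finitely by ... a monomorphic field point. -/
theorem exists_mono_of_chart {X : Sp S} {U R : Over S} (φ : (yon S).obj U ⟶ X) (s t : R ⟶ U)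
    [Etale t.left] (hR : IsPullback ((yon S).map t) ((yon S).map s) φ φ) (q : FieldPt X)
    (a b : q.pt ⟶ U) [LocallyQuasiFinite a.left] [LocallyQuasiFinite b.left]
    (ha : (yon S).map a ≫ φ = q.toHom) (hb : (yon S).map b ≫ φ = q.toHom)
    (hF : {r : ↥R.left | t.left r = a.left (IsLocalRing.closedPoint q.K : PrimeSpectrum q.K) ∧
      s.left r = b.left (IsLocalRing.closedPoint q.K : PrimeSpectrum q.K)}.Finite) :
    ∃ (p : FieldPt X) (c : q.pt ⟶ p.pt), Mono p.toHom ∧ (yon S).map c ≫ p.toHom = q.toHom ∧
      IsFinite c.left := by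
  have sq₁ := IsPullback.of_hasPullback a t
  have sq₂ := IsPullback.of_hasPullback (pullback.snd a t ≫ s) b
  have big := isPullback_through_chart φ s t hR a b sq₁ sq₂
  rw [ha, hb] at big
  haveI : IsFinite (pullback.fst (pullback.snd a t ≫ s) b ≫ pullback.fst a t).left :=
    isFinite_through_chart (L := q.K) s t a b sq₁ sq₂ hF
  exact exists_mono_of_finite_kernelPair q _ _ _ big.flip

end Groth.Agent.Helper5.MonoQuot
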