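import Mathlib
import Groth.Agent.Helper5.MonoQuot4
import Groth.Agent.Helper5.Decent2
import Groth.Agent.Helper4.AlgSpPtsDesc

/-!
# S10407: finite relation fibre gives a mono point
-/

set_option autoImplicit false
universe u

namespace Groth.Agent.Helper5.MonoQuot

open CategoryTheory CategoryTheory.Limits AlgebraicGeometry Opposite AlgSp

variable {S : Scheme.{u}}

/-- the relation of a representable etale chart -/
theorem exists_relation {X : Sp S} {U : Over S} (φ : (yon S).obj U ⟶ X)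
    (hφ : RepWith @Etale φ) :
    ∃ (R : Over S) (s t : R ⟶ U), IsPullback ((yon S).map t) ((yon S).map s) φ φ ∧
      Etale s.left ∧ Etale t.left := by
  have sqW := hφ.rep.isPullback φ
  obtain ⟨t, ht⟩ := (yon S).map_surjective (hφ.rep.fst φ)
  rw [← ht] at sqW
  exact ⟨_, hφ.rep.snd φ, t, sqW, hφ.property φ _ _ sqW, hφ.property φ _ _ sqW.flip⟩

theorem s10407 {X : Sp S} {U : Over S} (φ : (yon S).obj U ⟶ X) (hφ : RepWith @Etale φ)
    (u u' : ↥U.left) (he : Points.ofPt φ u = Points.ofPt φ u')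
    (hfin : ∀ (R : Over S) (s t : R ⟶ U), IsPullback ((yon S).map t) ((yon S).map s) φ φ →
      {r : ↥R.left | s.left r = u ∧ t.left r = u'}.Finite) :
    ∃ p : FieldPt X, Points.mk p = Points.ofPt φ u ∧ Mono p.toHom := by
  obtain ⟨R, s, t, hR, hs, ht⟩ := exists_relation φ hφ
  obtain ⟨r₀, hr₀t, hr₀s⟩ :=
    Groth.Agent.Helper5.Decent2.exists_scheme_point_of_isPullback hR u' u he.symm
  let q : FieldPt X := FieldPt.ofPt ((yon S).map t ≫ φ) r₀
  let ι : q.pt ⟶ R := Over.homMk (R.left.fromSpecResidueField r₀) rfl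
  have hq : q.toHom = (yon S).map ι ≫ (yon S).map t ≫ φ := FieldPt.toHom_ofPt _ _
  haveI : LocallyQuasiFinite t.left :=
    Groth.Agent.Helper5.UnramLqf.locallyQuasiFinite_of_unramified t.left
  haveI : LocallyQuasiFinite s.left :=
    Groth.Agent.Helper5.UnramLqf.locallyQuasiFinite_of_unramified s.left
  haveI : LocallyQuasiFinite ι.left :=
    (inferInstance : LocallyQuasiFinite (R.left.fromSpecResidueField r₀))
  haveI : LocallyQuasiFinite (ι ≫ t).left := by rw [Over.comp_left]; infer_instance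
  haveI : LocallyQuasiFinite (ι ≫ s).left := by rw [Over.comp_left]; infer_instance
  have ha : (yon S).map (ι ≫ t) ≫ φ = q.toHom := by
    rw [hq, Functor.map_comp, Category.assoc]
  have hb : (yon S).map (ι ≫ s) ≫ φ = q.toHom := by
    rw [hq, Functor.map_comp, Category.assoc, hR.w]
  have hι : ∀ z : ↥q.pt.left, ι.left z = r₀ := fun z =>
    Scheme.fromSpecResidueField_apply _ _
  have hF : {r : ↥R.left | t.left r = (ι ≫ t).left (IsLocalRing.closedPoint q.K : PrimeSpectrum q.K) ∧
      s.left r = (ι ≫ s).left (IsLocalRing.closedPoint q.K : PrimeSpectrum q.K)}.Finite := by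
    refine (hfin R s t hR).subset ?_
    rintro r ⟨h1, h2⟩
    rw [Over.comp_left, Scheme.Hom.comp_apply, hι] at h1 h2
    exact ⟨h2.trans hr₀s, h1.trans hr₀t⟩
  obtain ⟨p, c, hm, hc, -⟩ := exists_mono_of_chart φ s t hR q (ι ≫ t) (ι ≫ s) ha hb hF
  refine ⟨p, ?_, hm⟩
  rw [mk_eq_of_factor p q c hc]
  show Points.ofPt ((yon S).map t ≫ φ) r₀ = _
  rw [Groth.Agent.Helper4.AlgSpPtsDesc.ofPt_yon_map_comp, hr₀t, he]

end Groth.Agent.Helper5.MonoQuot
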