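import Mathlib
import Groth.Agent.Helper5.MonoQuot5
import Groth.Agent.Helper5.QuotEff5
import Groth.Agent.Helper4.AlgSpSrc

/-!
# S10361: a quasi-compact field point is equivalent to a quasi-compact mono field point
-/

set_option autoImplicit false
universe u

namespace Groth.Agent.Helper5.MonoQuot

open CategoryTheory CategoryTheory.Limits AlgebraicGeometry Opposite AlgSp

variable {S : Scheme.{u}}

theorem quasiCompact_of_comp_surjective {A B C : Scheme.{u}} (f : A ⟶ B) (g : B ⟶ C)
    [Surjective f] [QuasiCompact (f ≫ g)] : QuasiCompact g := by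
  constructor
  intro U hU hUc
  have h1 : IsCompact ((f ≫ g) ⁻¹' U) := QuasiCompact.isCompact_preimage (f := f ≫ g) U hU hUc
  have h2 : g ⁻¹' U = f '' ((f ≫ g) ⁻¹' U) := by
    ext b
    constructor
    · intro hb
      obtain ⟨a, rfl⟩ := f.surjective b
      exact ⟨a, by simpa using hb, rfl⟩
    · rintro ⟨a, ha, rfl⟩
      simpa using ha
  rw [h2]
  exact h1.image f.continuous

/-- cancelling a surjective map of schemes in front of a representable map -/
theorem repWith_qc_cancel_surjective {X : Sp S} {A B : Over S} (f : (yon S).obj B ⟶ X)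
    (hf : Representable f) (a : A ⟶ B) [Surjective a.left]
    (h : RepWith @QuasiCompact ((yon S).map a ≫ f)) : RepWith @QuasiCompact f := by
  refine ⟨hf, ?_⟩
  intro T W g fstT sndT sq
  obtain ⟨fT, rfl⟩ := (yon S).map_surjective fstT
  have sq' := (IsPullback.of_hasPullback a fT).map (yon S)
  have big := sq'.flip.paste_horiz sq.flip
  have h1 : QuasiCompact (pullback.snd a fT ≫ sndT).left := by
    refine h.property g ((yon S).map (pullback.fst a fT)) (pullback.snd a fT ≫ sndT) ?_
    rw [Functor.map_comp]
    exact big.flip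
  haveI : Surjective (pullback.snd a fT).left := by
    have sq'' := (IsPullback.of_hasPullback a fT).map (Over.forget S)
    exact MorphismProperty.of_isPullback (P := @Surjective) sq''
      (show Surjective a.left from inferInstance)
  rw [Over.comp_left] at h1
  exact quasiCompact_of_comp_surjective (pullback.snd a fT).left sndT.left

/-- quasi-compactness of a field point only depends on its class (on algebraic spaces) -/
theorem repWith_qc_of_rel {X : Sp S} (hX : IsAlgSpace X) (p q : FieldPt X)
    (h : Points.mk p = Points.mk q) (hq : RepWith @QuasiCompact q.toHom) :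
    RepWith @QuasiCompact p.toHom := by
  obtain ⟨Ω, _, w, a, b, hab⟩ :=
    (Groth.Agent.Helper4.AlgSpInj.rel_iff p q).1 (Points.mk_eq_mk_iff.1 h)
  have hab' : (yon S).map a ≫ p.toHom = (yon S).map b ≫ q.toHom := hab
  have hb : QuasiCompact b.left := by
    have h2 : QuasiSeparatedSpace ↥q.pt.left :=
      (inferInstance : QuasiSeparatedSpace ↥(Spec (CommRingCat.of q.K)))
    have h1 : CompactSpace ↥(Over.mk w).left :=
      (inferInstance : CompactSpace ↥(Spec (CommRingCat.of Ω)))
    exact quasiCompact_of_compactSpace b.left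
  have h1 : RepWith @QuasiCompact ((yon S).map b ≫ q.toHom) :=
    Groth.Agent.Helper4.AlgSpSrc.repWith_comp _ ((AlgSp.repWith_yon_map_iff _ _).2 hb) hq
  rw [← hab'] at h1
  haveI : Surjective a.left :=
    surjective_spec_field (K := Ω) (k := p.K) a.left
  exact repWith_qc_cancel_surjective p.toHom (hX.representable_from_yon _) a h1

/-- local quasi-finiteness of the fibre product over a field point -/
theorem lqf_through_chart {U R P₁ P₂ A B : Over S} (s t : R ⟶ U) [Etale t.left] (a : A ⟶ U)
    (b : B ⟶ U) [LocallyQuasiFinite b.left]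
    {f₁ : P₁ ⟶ A} {g₁ : P₁ ⟶ R} (sq₁ : IsPullback f₁ g₁ a t)
    {f₂ : P₂ ⟶ P₁} {g₂ : P₂ ⟶ B} (sq₂ : IsPullback f₂ g₂ (g₁ ≫ s) b) :
    LocallyQuasiFinite (f₂ ≫ f₁).left := by
  have sq₁' := sq₁.map (Over.forget S)
  have sq₂' := sq₂.map (Over.forget S)
  simp only [Over.forget_obj, Over.forget_map] at sq₁' sq₂'
  haveI : LocallyQuasiFinite t.left :=
    Groth.Agent.Helper5.UnramLqf.locallyQuasiFinite_of_unramified t.left
  haveI hf₁ : LocallyQuasiFinite f₁.left :=
    MorphismProperty.of_isPullback (P := @LocallyQuasiFinite) sq₁'.flip inferInstance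
  haveI hf₂ : LocallyQuasiFinite f₂.left :=
    MorphismProperty.of_isPullback (P := @LocallyQuasiFinite) sq₂'.flip inferInstance
  rw [Over.comp_left]
  infer_instance

/-- In an etale chart of an algebraic space, a point whose residue field point is
quasi-compact is represented by a quasi-compact monomorphism. -/
theorem exists_qc_mono_of_chart_point {X : Sp S} (hX : IsAlgSpace X) {U : Over S}
    (φ : (yon S).obj U ⟶ X) (hφ : RepWith @Etale φ) (u : ↥U.left)
    (hqc : RepWith @QuasiCompact (FieldPt.ofPt φ u).toHom) :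
    ∃ p : FieldPt X, Points.mk p = Points.ofPt φ u ∧ Mono p.toHom ∧
      RepWith @QuasiCompact p.toHom := by
  obtain ⟨R, s, t, hR, hs, ht⟩ := exists_relation φ hφ
  let q : FieldPt X := FieldPt.ofPt φ u
  let ι : q.pt ⟶ U := Over.homMk (U.left.fromSpecResidueField u) rfl
  have hq : q.toHom = (yon S).map ι ≫ φ := FieldPt.toHom_ofPt _ _
  haveI : LocallyQuasiFinite ι.left :=
    (inferInstance : LocallyQuasiFinite (U.left.fromSpecResidueField u))
  have sq₁ := IsPullback.of_hasPullback ι t
  have sq₂ := IsPullback.of_hasPullback (pullback.snd ι t ≫ s) ι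
  have big := isPullback_through_chart φ s t hR ι ι sq₁ sq₂
  rw [← hq] at big
  haveI hQ : QuasiCompact (pullback.fst (pullback.snd ι t ≫ s) ι ≫ pullback.fst ι t).left :=
    hqc.property q.toHom _ _ big.flip
  haveI hL : LocallyQuasiFinite
      (pullback.fst (pullback.snd ι t ≫ s) ι ≫ pullback.fst ι t).left :=
    lqf_through_chart s t ι ι sq₁ sq₂
  haveI : IsLocallyArtinian q.pt.left :=
    (inferInstance : IsLocallyArtinian (Spec (CommRingCat.of q.K)))
  haveI : IsFinite (pullback.fst (pullback.snd ι t ≫ s) ι ≫ pullback.fst ι t).left :=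
    IsFinite.of_locallyQuasiFinite _
  obtain ⟨p, c, hm, hc, -⟩ := exists_mono_of_finite_kernelPair q _ _ _ big.flip
  refine ⟨p, mk_eq_of_factor p q c hc, hm, ?_⟩
  haveI : Surjective c.left := surjective_spec_field (K := q.K) (k := p.K) c.left
  exact repWith_qc_cancel_surjective p.toHom (hX.representable_from_yon _) c (by rw [hc]; exact hqc)

theorem s10361 (X : Space S) (q : FieldPt X.obj) (hq : RepWith @QuasiCompact q.toHom) :
    ∃ p : FieldPt X.obj, Points.mk p = Points.mk q ∧ Mono p.toHom ∧
      RepWith @QuasiCompact p.toHom := by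
  obtain ⟨U, φ, hφ, hφs⟩ := X.property.atlas
  obtain ⟨u, hu⟩ := Groth.Agent.Helper5.QuotEff.exists_ofPt_eq φ hφs (Points.mk q)
  have h1 : RepWith @QuasiCompact (FieldPt.ofPt φ u).toHom :=
    repWith_qc_of_rel X.property (FieldPt.ofPt φ u) q hu hq
  obtain ⟨p, hp, hm, hpq⟩ := exists_qc_mono_of_chart_point X.property φ hφ u h1
  exact ⟨p, hp.trans hu, hm, hpq⟩

end Groth.Agent.Helper5.MonoQuot
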