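import Mathlib
import Groth.Agent.Helper5.MonoQuot7
import Groth.Agent.Helper5.MonoPt
import Groth.Agent.Helper5.AffDesc9
import Groth.Agent.Helper4.AlgSpQC2
import Groth.Agent.Helper4.AlgSpPtsDesc

/-!
# S10360: finite fibres in affine etale charts iff quasi-compact mono point
-/

set_option autoImplicit false
universe u

namespace Groth.Agent.Helper5.MonoQuot

open CategoryTheory CategoryTheory.Limits AlgebraicGeometry Opposite AlgSp

variable {S : Scheme.{u}}

/-- restriction of an etale chart to an open subscheme -/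
theorem repWith_etale_restrict {X : Sp S} {U : Over S} (φ : (yon S).obj U ⟶ X)
    (hφ : RepWith @Etale φ) (V : U.left.Opens) :
    RepWith @Etale ((yon S).map (Over.homMk V.ι rfl : Over.mk (V.ι ≫ U.hom) ⟶ U) ≫ φ) :=
  Groth.Agent.Helper4.AlgSpSrc.repWith_comp _
    ((AlgSp.repWith_yon_map_iff _ _).2 (inferInstance : Etale V.ι)) hφ

/-- If the fibres over `x` in all affine etale charts are finite, a mono field point in the class
of `x` is quasi-compact. -/
theorem repWith_qc_of_finite_fibres {X : Sp S} (hX : IsAlgSpace X) (p : FieldPt X)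
    [Mono p.toHom]
    (H : ∀ (V : Over S) (ψ : (yon S).obj V ⟶ X), IsAffine V.left → RepWith @Etale ψ →
      (Points.ofPt ψ ⁻¹' {Points.mk p}).Finite) :
    RepWith @QuasiCompact p.toHom := by
  obtain ⟨U, φ, hφ, hφs⟩ := hX.atlas
  have hrep := hX.representable_from_yon p.toHom
  refine Groth.Agent.Helper4.AlgSpQC.repWith_of_isQuasiCompactMor _ hrep ?_
  -- base change to the atlas
  have sq := hrep.isPullback φ
  obtain ⟨e, he⟩ := (yon S).map_surjective (hrep.fst φ)
  rw [← he] at sq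
  clear he
  generalize hrep.snd φ = f' at sq
  generalize hrep.pullback φ = F at e f' sq
  -- sq : IsPullback (yon e) (yon f') p.toHom φ
  have hmono : Mono ((yon S).map f') := sq.mono_snd_of_mono
  have hmono' : Mono f' := (yon S).mono_of_mono_map hmono
  have hmono'' : Mono f'.left := inferInstance
  have hinj : Function.Injective f'.left := f'.left.injective
  have hqc : QuasiCompact f'.left := by
    rw [quasiCompact_iff_forall_isAffineOpen]
    intro V hV
    have hfin := H (Over.mk (V.ι ≫ U.hom))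
      ((yon S).map (Over.homMk V.ι rfl : Over.mk (V.ι ≫ U.hom) ⟶ U) ≫ φ) hV
      (repWith_etale_restrict φ hφ V)
    have hfin' : ((f'.left ⁻¹ᵁ V : F.left.Opens) : Set ↥F.left).Finite := by
      have h1 : (Set.image (fun v : ↥V => (v : ↥U.left))
          (Points.ofPt ((yon S).map (Over.homMk V.ι rfl : Over.mk (V.ι ≫ U.hom) ⟶ U) ≫ φ) ⁻¹'
            {Points.mk p})).Finite := hfin.image _
      refine (h1.preimage (hinj.injOn)).subset ?_
      intro z hz
      refine ⟨⟨f'.left z, hz⟩, ?_, rfl⟩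
      show Points.ofPt ((yon S).map (Over.homMk V.ι rfl : Over.mk (V.ι ≫ U.hom) ⟶ U) ≫ φ)
        ⟨f'.left z, hz⟩ = Points.mk p
      rw [Groth.Agent.Helper4.AlgSpPtsDesc.ofPt_yon_map_comp]
      have h2 : (Over.homMk V.ι rfl : Over.mk (V.ι ≫ U.hom) ⟶ U).left ⟨f'.left z, hz⟩ =
          f'.left z := rfl
      rw [h2, ← Groth.Agent.Helper4.AlgSpPtsDesc.ofPt_yon_map_comp, ← sq.w,
        Groth.Agent.Helper4.AlgSpPtsDesc.ofPt_yon_map_comp, Points.ofPt_toHom]
    exact hfin'.isCompact
  have hf' : IsQuasiCompactMor ((yon S).map f') :=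
    Groth.Agent.Helper4.AlgSpQC.isQuasiCompactMor_of_repWith _
      ((AlgSp.repWith_yon_map_iff _ _).2 hqc)
  have hφo : IsUnivOpenMor φ :=
    Groth.Agent.Helper4.AlgSpPtsDesc.isUnivOpenMor_of_repWith φ
      (Groth.Agent.Helper5.AffDesc.repWith_of_le
        (fun _ _ f (h : Etale f) => (inferInstance : UniversallyOpen f)) hφ)
  exact Groth.Agent.Helper4.AlgSpQC2.isQuasiCompactMor_descend (IsAlgSpace.yon_obj _) hX
    (IsAlgSpace.yon_obj _) p.toHom φ _ _ sq hφo
    (Groth.Agent.Helper4.AlgSpPts.isSurjectiveMor_of_repWith φ hφs) hf'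

theorem s10360 (X : Space S) (x : Points X.obj) :
    (∀ (U : Over S) (φ : (yon S).obj U ⟶ X.obj), IsAffine U.left → RepWith @Etale φ →
        ∀ (R : Over S) (s t : R ⟶ U), IsPullback ((yon S).map t) ((yon S).map s) φ φ →
          (Points.ofPt φ ⁻¹' {x}).Finite ∧
            (Points.ofPt ((yon S).map t ≫ φ) ⁻¹' {x}).Finite) ↔
      ∃ p : FieldPt X.obj, Points.mk p = x ∧ Mono p.toHom ∧
        RepWith @QuasiCompact p.toHom := by
  constructor
  · intro H
    obtain ⟨U₀, φ₀, hφ₀, hφ₀s⟩ := X.property.atlas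
    obtain ⟨u₀, hu₀⟩ := Groth.Agent.Helper5.QuotEff.exists_ofPt_eq φ₀ hφ₀s x
    obtain ⟨_, ⟨(V : U₀.left.Opens), hV, rfl⟩, hu₀V, -⟩ :=
      U₀.left.isBasis_affineOpens.exists_subset_of_mem_open (Set.mem_univ u₀) isOpen_univ
    have hφ := repWith_etale_restrict φ₀ hφ₀ V
    generalize hφdef : (yon S).map (Over.homMk V.ι rfl : Over.mk (V.ι ≫ U₀.hom) ⟶ U₀) ≫ φ₀ = φ
      at hφ
    let u : ↥(Over.mk (V.ι ≫ U₀.hom)).left := ⟨u₀, hu₀V⟩
    have hu : Points.ofPt φ u = x := by
      rw [← hφdef, Groth.Agent.Helper4.AlgSpPtsDesc.ofPt_yon_map_comp]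
      exact hu₀
    obtain ⟨R, s, t, hR, hs, ht⟩ := exists_relation φ hφ
    haveI := ht
    have hfinR := (H _ φ hV hφ R s t hR).2
    let q : FieldPt X.obj := FieldPt.ofPt φ u
    let ι : q.pt ⟶ Over.mk (V.ι ≫ U₀.hom) :=
      Over.homMk ((Over.mk (V.ι ≫ U₀.hom)).left.fromSpecResidueField u) rfl
    have hq : (yon S).map ι ≫ φ = q.toHom := (FieldPt.toHom_ofPt _ _).symm
    haveI : LocallyQuasiFinite ι.left :=
      (inferInstance : LocallyQuasiFinite
        ((Over.mk (V.ι ≫ U₀.hom)).left.fromSpecResidueField u))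
    have hι : ∀ z : ↥q.pt.left, ι.left z = u := fun z =>
      Scheme.fromSpecResidueField_apply _ _
    have hF : {r : ↥R.left | t.left r = ι.left (IsLocalRing.closedPoint q.K : PrimeSpectrum q.K) ∧
        s.left r = ι.left (IsLocalRing.closedPoint q.K : PrimeSpectrum q.K)}.Finite := by
      refine hfinR.subset ?_
      rintro r ⟨h1, -⟩
      show Points.ofPt ((yon S).map t ≫ φ) r = x
      rw [Groth.Agent.Helper4.AlgSpPtsDesc.ofPt_yon_map_comp, h1, hι, hu]
    obtain ⟨p, c, hm, hc, -⟩ := exists_mono_of_chart φ s t hR q ι ι hq hq hF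
    have hpx : Points.mk p = x := (mk_eq_of_factor p q c hc).trans hu
    refine ⟨p, hpx, hm, ?_⟩
    refine repWith_qc_of_finite_fibres X.property p ?_
    intro W ψ hW hψ
    obtain ⟨R', s', t', hR', -, -⟩ := exists_relation ψ hψ
    rw [hpx]
    exact (H W ψ hW hψ R' s' t' hR').1
  · rintro ⟨p, hp, hm, hqc⟩ U φ hU hφ R s t hR
    haveI := hm
    have hA : (Points.ofPt φ ⁻¹' {x}).Finite := by
      rw [← hp]
      exact Groth.Agent.Helper5.Decent2.finite_fibre_of_qc_point p hqc φ hφ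
    refine ⟨hA, ?_⟩
    have hB : (⋃ u ∈ (Points.ofPt φ ⁻¹' {x}), ⋃ u' ∈ (Points.ofPt φ ⁻¹' {x}),
        {r : ↥R.left | s.left r = u ∧ t.left r = u'}).Finite := by
      refine hA.biUnion (fun u hu => hA.biUnion (fun u' hu' => ?_))
      exact Groth.Agent.Helper5.MonoPt.finite_relation_fibre_of_mono_point p φ hφ u u'
        (hp ▸ hu) (hp ▸ hu') R s t hR
    refine hB.subset ?_
    intro r hr
    have hr' : Points.ofPt ((yon S).map t ≫ φ) r = x := hr
    have h1 : Points.ofPt φ (t.left r) = x := by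
      rw [← Groth.Agent.Helper4.AlgSpPtsDesc.ofPt_yon_map_comp]; exact hr'
    have h2 : Points.ofPt φ (s.left r) = x := by
      rw [← Groth.Agent.Helper4.AlgSpPtsDesc.ofPt_yon_map_comp, ← hR.w]; exact hr'
    simp only [Set.mem_iUnion]
    exact ⟨s.left r, h2, t.left r, h1, rfl, rfl⟩

end Groth.Agent.Helper5.MonoQuot
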