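import Mathlib
import Groth.Agent.Helper5.DegStr4
import Groth.Agent.Helper5.DegStr5
import Groth.Agent.Helper5.DegStr6
import Groth.Agent.Helper5.DegStr7
import Groth.Agent.Helper5.MonoQuot9
import Groth.Agent.Helper5.Decent3
import Groth.Agent.Helper5.EtImg2
import Groth.Agent.Helper5.EtGlue
import Groth.Agent.Helper4.AlgSpOpenImage
import Groth.Agent.Helper4.UB1

/-!
# A chart with finite relation fibres has a nonempty open whose image is a scheme
-/

set_option autoImplicit false
universe u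

namespace Groth.Agent.Helper5.DegStr

open CategoryTheory CategoryTheory.Limits AlgebraicGeometry Opposite AlgSp
open Groth.Agent.Helper4.AlgSpOpenImage Groth.Agent.Helper4.AlgSpPtsDesc

variable {S : Scheme.{u}}

theorem exists_scheme_open_image {X : Sp S} (hX : IsAlgSpace X) {V R : Over S} [IsAffine V.left]
    [Nonempty ↥V.left] (φ : (yon S).obj V ⟶ X) (hφ : RepWith @Etale φ) (s t : R ⟶ V)
    (hR : IsPullback ((yon S).map t) ((yon S).map s) φ φ) [Etale s.left]
    (hfin : ∀ v : ↥V.left, (s.left ⁻¹' {v}).Finite) :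
    ∃ (O : V.left.Opens) (Z : Over S), (O : Set ↥V.left).Nonempty ∧
      Nonempty ((yon S).obj Z ≅
        img ((yon S).map (Over.homMk O.ι rfl : Over.mk (O.ι ≫ V.hom) ⟶ V) ≫ φ)) := by
  -- separatedness of the source map
  haveI : IsSeparated s.left := by
    let j : R.left ⟶ pullback V.hom V.hom :=
      pullback.lift t.left s.left (by rw [Over.w t, Over.w s])
    haveI : Mono j := ⟨fun a b hab => by
      apply Groth.Agent.Helper5.MonoQuot.kp_jm φ s t hR a b
      · have := congrArg (· ≫ pullback.snd V.hom V.hom) hab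
        simpa only [Category.assoc, j, pullback.lift_snd] using this
      · have := congrArg (· ≫ pullback.fst V.hom V.hom) hab
        simpa only [Category.assoc, j, pullback.lift_fst] using this⟩
    have h : s.left = j ≫ pullback.snd V.hom V.hom := (pullback.lift_snd _ _ _).symm
    rw [h]
    infer_instance
  obtain ⟨n, U₀, hU₀o, hU₀ne, hU₀n, hU₀d⟩ := exists_open_const s.left hfin
  let π : ↥V.left → Points X := Points.ofPt φ
  have hπo : IsOpenMap π := Groth.Agent.Helper5.Decent3.isOpenMap_ofPt hX φ hφ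
  let VO : V.left.Opens := ⟨π ⁻¹' (π '' U₀), (hπo _ hU₀o).preimage (Points.continuous_ofPt φ)⟩
  have hmemVO : ∀ v : ↥V.left, v ∈ VO ↔ ∃ u ∈ U₀, π u = π v := fun v => Iff.rfl
  have hVOne : (VO : Set ↥V.left).Nonempty := by
    obtain ⟨u, hu⟩ := hU₀ne
    exact ⟨u, (hmemVO u).2 ⟨u, hu, rfl⟩⟩
  have hsat : ∀ v v' : ↥V.left, v ∈ VO → π v = π v' → v' ∈ VO := by
    intro v v' hv hvv'
    obtain ⟨u, hu, huv⟩ := (hmemVO v).1 hv
    exact (hmemVO v').2 ⟨u, hu, huv.trans hvv'⟩
  have hVOn : ∀ v : ↥V.left, v ∈ VO → v ∈ Npts s.left n := by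
    intro v hv
    obtain ⟨u, hu, huv⟩ := (hmemVO v).1 hv
    exact (mem_Npts_iff_of_ofPt_eq φ s t hR n u v huv).1 (hU₀n hu)
  have hVOd : ∀ v : ↥V.left, v ∈ VO → v ∉ Npts s.left (n + 1) := by
    intro v hv hv'
    obtain ⟨u, hu, huv⟩ := (hmemVO v).1 hv
    exact Set.disjoint_left.1 hU₀d hu ((mem_Npts_iff_of_ofPt_eq φ s t hR (n + 1) u v huv).2 hv')
  have hst : ∀ r : ↥R.left, π (s.left r) = π (t.left r) := by
    intro r
    show Points.ofPt φ (s.left r) = Points.ofPt φ (t.left r)
    rw [← ofPt_yon_map_comp s φ r, ← ofPt_yon_map_comp t φ r, hR.w]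
  have hpre : s.left ⁻¹ᵁ VO ≤ t.left ⁻¹ᵁ VO := by
    intro r hr
    exact hsat _ _ hr (hst r)
  -- finiteness over the saturated open
  haveI hfinO : IsFinite (s.left ∣_ VO) := by
    apply isFinite_of_Npts n (s.left ∣_ VO)
    · rw [Set.eq_univ_iff_forall]
      intro b
      exact (mem_Npts_morphismRestrict s.left VO n b).2 (hVOn _ b.2)
    · rw [Set.eq_empty_iff_forall_notMem]
      intro b hb
      exact hVOd _ b.2 ((mem_Npts_morphismRestrict s.left VO (n + 1) b).1 hb)
  -- the restricted chart and its relation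
  let VO' : Over S := Over.mk (VO.ι ≫ V.hom)
  let ιO : VO' ⟶ V := Over.homMk VO.ι rfl
  let RO : Over S := Over.mk ((s.left ⁻¹ᵁ VO).ι ≫ R.hom)
  let ιR : RO ⟶ R := Over.homMk (s.left ⁻¹ᵁ VO).ι rfl
  let sO : RO ⟶ VO' := Over.homMk (s.left ∣_ VO) (by
    show (s.left ∣_ VO) ≫ VO.ι ≫ V.hom = (s.left ⁻¹ᵁ VO).ι ≫ R.hom
    rw [← Category.assoc, morphismRestrict_ι, Category.assoc, Over.w s])
  let tO : RO ⟶ VO' := Over.homMk (t.left.resLE VO (s.left ⁻¹ᵁ VO) hpre) (by
    show (t.left.resLE VO (s.left ⁻¹ᵁ VO) hpre) ≫ VO.ι ≫ V.hom = (s.left ⁻¹ᵁ VO).ι ≫ R.hom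
    rw [← Category.assoc, Scheme.Hom.resLE_comp_ι, Category.assoc, Over.w t])
  have hsO : sO ≫ ιO = ιR ≫ s := Over.OverMorphism.ext (morphismRestrict_ι s.left VO)
  have htO : tO ≫ ιO = ιR ≫ t :=
    Over.OverMorphism.ext (Scheme.Hom.resLE_comp_ι t.left hpre)
  haveI : Mono ιO := by
    haveI : Mono ιO.left := (inferInstance : Mono VO.ι)
    exact Over.mono_of_mono_left ιO
  have sq₁ : IsPullback sO ιR ιO s :=
    Groth.Agent.Helper4.UB1.isPullback_of_left hsO (isPullback_morphismRestrict s.left VO)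
  have sq₂ : IsPullback (𝟙 RO) tO (ιR ≫ t) ιO := by
    have := Groth.Agent.Helper4.AlgSpPB.isPullback_of_mono tO ιO
    rwa [htO] at this
  let φO : (yon S).obj VO' ⟶ X := (yon S).map ιO ≫ φ
  have hRO : IsPullback ((yon S).map tO) ((yon S).map sO) φO φO := by
    have h := Groth.Agent.Helper5.MonoQuot.isPullback_through_chart φ t s hR.flip ιO ιO sq₁ sq₂
    rw [Category.id_comp] at h
    exact h.flip
  have hφO : RepWith @Etale φO := Groth.Agent.Helper5.MonoQuot.repWith_etale_restrict φ hφ VO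
  -- the quotient scheme
  let D := Groth.Agent.Helper5.MonoQuot.eqvDataOfKernelPair φO sO tO hRO
  haveI : IsFinite sO.left := hfinO
  haveI : Etale sO.left := (inferInstance : Etale (s.left ∣_ VO))
  haveI : Flat sO.left := inferInstance
  haveI : LocallyOfFinitePresentation sO.left := inferInstance
  obtain ⟨Y, q, pY, hq, hqf, hqfl, hqp, hqs, hpb⟩ := D.exists_quotient' (by
    intro x
    have hF : (tO.left '' (sO.left ⁻¹' {x})).Finite :=
      (sO.left.finite_preimage_singleton x).image _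
    exact exists_affine_open_of_finite VO _ hF)
  let Z : Over S := Over.mk pY
  let c' : VO' ⟶ Z := Over.homMk q hq
  haveI : Flat c'.left := hqfl
  haveI : LocallyOfFinitePresentation c'.left := hqp
  haveI : Surjective c'.left := ⟨hqs⟩
  have hR' : IsPullback ((yon S).map tO) ((yon S).map sO) (toImg φO) (toImg φO) := by
    apply Groth.Agent.Helper5.EtImg.isPullback_of_comp_mono (imgι φO)
    rw [toImg_ι]
    exact hRO
  obtain ⟨m, hm, hmono⟩ := exists_mono_of_quotient sO tO c' hpb (toImg φO) hR'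
  haveI := hmono
  haveI : Epi (toImg φO) := Groth.Agent.Helper5.EtGlue.epi_of_etale_surjective (toImg φO)
    (toImg_etale φO hφO) (toImg_surjective φO hφO)
  haveI : Epi ((yon S).map c' ≫ m) := by rw [hm]; infer_instance
  haveI : Epi m := epi_of_epi ((yon S).map c') m
  haveI : IsIso m := isIso_of_mono_of_epi m
  exact ⟨VO, Z, hVOne, ⟨asIso m⟩⟩

end Groth.Agent.Helper5.DegStr
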