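import Mathlib
import Groth.Agent.Helper5.MonoQuot9

/-!
# S10410
-/

set_option autoImplicit false
universe u

namespace Groth.Agent.Helper5.MonoQuot

open CategoryTheory CategoryTheory.Limits AlgebraicGeometry Opposite AlgSp

variable {S : Scheme.{u}}

/-- the relation fibre over `x` is finite once the chart fibre is and `x` has a mono point -/
theorem finite_relation_fibre {X : Sp S} (p : FieldPt X) [Mono p.toHom] {U : Over S}
    (φ : (yon S).obj U ⟶ X) (hφ : RepWith @Etale φ)
    (hA : (Points.ofPt φ ⁻¹' {Points.mk p}).Finite) (R : Over S) (s t : R ⟶ U)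
    (hR : IsPullback ((yon S).map t) ((yon S).map s) φ φ) :
    (Points.ofPt ((yon S).map t ≫ φ) ⁻¹' {Points.mk p}).Finite := by
  have hB : (⋃ u ∈ (Points.ofPt φ ⁻¹' {Points.mk p}), ⋃ u' ∈ (Points.ofPt φ ⁻¹' {Points.mk p}),
      {r : ↥R.left | s.left r = u ∧ t.left r = u'}).Finite := by
    refine hA.biUnion (fun u hu => hA.biUnion (fun u' hu' => ?_))
    exact Groth.Agent.Helper5.MonoPt.finite_relation_fibre_of_mono_point p φ hφ u u'
      hu hu' R s t hR
  refine hB.subset ?_
  intro r hr
  have hr' : Points.ofPt ((yon S).map t ≫ φ) r = Points.mk p := hr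
  have h1 : Points.ofPt φ (t.left r) = Points.mk p := by
    rw [← Groth.Agent.Helper4.AlgSpPtsDesc.ofPt_yon_map_comp]; exact hr'
  have h2 : Points.ofPt φ (s.left r) = Points.mk p := by
    rw [← Groth.Agent.Helper4.AlgSpPtsDesc.ofPt_yon_map_comp, ← hR.w]; exact hr'
  simp only [Set.mem_iUnion]
  exact ⟨s.left r, h2, t.left r, h1, rfl, rfl⟩

theorem s10410 (X : Space S) (x : Points X.obj) {U : Over S} (φ : (yon S).obj U ⟶ X.obj)
    (hφ : RepWith @Etale φ) :
    (x ∈ Set.range (Points.ofPt φ) ∧ (Points.ofPt φ ⁻¹' {x}).Finite ∧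
        ∀ (R : Over S) (s t : R ⟶ U), IsPullback ((yon S).map t) ((yon S).map s) φ φ →
          (Points.ofPt ((yon S).map t ≫ φ) ⁻¹' {x}).Finite) ↔
      ∃ p : FieldPt X.obj, Points.mk p = x ∧ Mono p.toHom ∧
        ∀ (T : Over S) (c : T ⟶ p.pt) (snd : (yon S).obj T ⟶ (yon S).obj U),
          IsPullback ((yon S).map c) snd p.toHom φ → Nonempty ↥T.left ∧ IsFinite c.left := by
  constructor
  · rintro ⟨⟨u, hu⟩, hA, hfinR⟩
    obtain ⟨R, s, t, hR, hs, ht⟩ := exists_relation φ hφ
    haveI := ht
    let q : FieldPt X.obj := FieldPt.ofPt φ u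
    let ι : q.pt ⟶ U := Over.homMk (U.left.fromSpecResidueField u) rfl
    have hq : (yon S).map ι ≫ φ = q.toHom := (FieldPt.toHom_ofPt _ _).symm
    haveI : LocallyQuasiFinite ι.left :=
      (inferInstance : LocallyQuasiFinite (U.left.fromSpecResidueField u))
    have hι : ∀ z : ↥q.pt.left, ι.left z = u := fun z =>
      Scheme.fromSpecResidueField_apply _ _
    have hF : {r : ↥R.left | t.left r = ι.left (IsLocalRing.closedPoint q.K : PrimeSpectrum q.K) ∧
        s.left r = ι.left (IsLocalRing.closedPoint q.K : PrimeSpectrum q.K)}.Finite := by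
      refine (hfinR R s t hR).subset ?_
      rintro r ⟨h1, -⟩
      show Points.ofPt ((yon S).map t ≫ φ) r = x
      rw [Groth.Agent.Helper4.AlgSpPtsDesc.ofPt_yon_map_comp, h1, hι, hu]
    obtain ⟨p, c₀, hm, hc₀, -⟩ := exists_mono_of_chart φ s t hR q ι ι hq hq hF
    have hpx : Points.mk p = x := (mk_eq_of_factor p q c₀ hc₀).trans hu
    refine ⟨p, hpx, hm, ?_⟩
    intro T c snd sq
    obtain ⟨e, rfl⟩ := (yon S).map_surjective snd
    let s₀ : ↥p.pt.left := (IsLocalRing.closedPoint p.K : ↥(Spec (CommRingCat.of p.K)))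
    have hne : Nonempty ↥T.left := by
      obtain ⟨z, -, -⟩ := Groth.Agent.Helper5.Decent2.exists_scheme_point_of_isPullback sq s₀ u
        (by rw [Points.ofPt_toHom, hpx, hu])
      exact ⟨z⟩
    refine ⟨hne, ?_⟩
    have het : Etale c.left := hφ.property p.toHom _ _ sq.flip
    haveI : LocallyQuasiFinite c.left :=
      Groth.Agent.Helper5.UnramLqf.locallyQuasiFinite_of_unramified c.left
    have hme : Mono ((yon S).map e) := sq.mono_snd_of_mono
    have hme' : Mono e := (yon S).mono_of_mono_map hme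
    have hme'' : Mono e.left := inferInstance
    have hinj : Function.Injective e.left := e.left.injective
    haveI : Finite ↥T.left := by
      have h1 : (e.left ⁻¹' (Points.ofPt φ ⁻¹' {x})).Finite := hA.preimage hinj.injOn
      have h2 : e.left ⁻¹' (Points.ofPt φ ⁻¹' {x}) = Set.univ := by
        ext z
        simp only [Set.mem_preimage, Set.mem_singleton_iff, Set.mem_univ, iff_true]
        rw [← Groth.Agent.Helper4.AlgSpPtsDesc.ofPt_yon_map_comp, ← sq.w,
          Groth.Agent.Helper4.AlgSpPtsDesc.ofPt_yon_map_comp, Points.ofPt_toHom, hpx]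
      rw [h2] at h1
      exact Set.finite_univ_iff.1 h1
    haveI : QuasiCompact c.left := quasiCompact_of_finite _
    haveI : IsLocallyArtinian p.pt.left :=
      (inferInstance : IsLocallyArtinian (Spec (CommRingCat.of p.K)))
    exact IsFinite.of_locallyQuasiFinite _
  · rintro ⟨p, hpx, hm, hT⟩
    haveI := hm
    have sqW := hφ.rep.isPullback p.toHom
    obtain ⟨e, he⟩ := (yon S).map_surjective (hφ.rep.fst p.toHom)
    rw [← he] at sqW
    clear he
    generalize hφ.rep.snd p.toHom = c at sqW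
    generalize hφ.rep.pullback p.toHom = T at e c sqW
    -- sqW : IsPullback (yon e) (yon c) φ p.toHom
    obtain ⟨⟨t₀⟩, hfin⟩ := hT T c ((yon S).map e) sqW.flip
    let s₀ : ↥p.pt.left := (IsLocalRing.closedPoint p.K : ↥(Spec (CommRingCat.of p.K)))
    have hTfin : (Set.univ : Set ↥T.left).Finite := by
      have h1 := Scheme.Hom.finite_preimage_singleton c.left s₀
      have h2 : c.left ⁻¹' {s₀} = Set.univ := by
        ext w
        simp only [Set.mem_preimage, Set.mem_singleton_iff, Set.mem_univ, iff_true]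
        exact (inferInstance : Subsingleton (PrimeSpectrum p.K)).elim _ _
      rwa [h2] at h1
    have hpt : ∀ z : ↥T.left, Points.ofPt φ (e.left z) = x := by
      intro z
      rw [← Groth.Agent.Helper4.AlgSpPtsDesc.ofPt_yon_map_comp, sqW.w,
        Groth.Agent.Helper4.AlgSpPtsDesc.ofPt_yon_map_comp, Points.ofPt_toHom, hpx]
    have hA : (Points.ofPt φ ⁻¹' {x}).Finite := by
      refine (hTfin.image e.left).subset ?_
      intro u hu
      have hu' : Points.ofPt φ u = x := hu
      obtain ⟨z, hz, -⟩ := Groth.Agent.Helper5.Decent2.exists_scheme_point_of_isPullback sqW u s₀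
        (by rw [Points.ofPt_toHom, hpx, hu'])
      exact ⟨z, Set.mem_univ _, hz⟩
    refine ⟨⟨e.left t₀, hpt t₀⟩, hA, ?_⟩
    intro R s t hR
    rw [← hpx] at hA ⊢
    exact finite_relation_fibre p φ hφ hA R s t hR

end Groth.Agent.Helper5.MonoQuot
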