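import Groth.Agent.Helper5.ZarGlue7
import Groth.Agent.Helper5.AlgSpOpen
import Groth.Agent.Helper5.AlgSpIso
import Groth.Agent.Helper4.AlgSpPB
import Groth.Agent.Helper4.AlgSpSrc
import Mathlib

set_option autoImplicit false
set_option linter.style.haveILetI false
set_option linter.unusedSectionVars false
set_option linter.unusedVariables false
universe u
open CategoryTheory CategoryTheory.Limits AlgebraicGeometry Opposite

namespace Groth.Agent.Helper5.ZarGlue

open AlgSp Functor.relativelyRepresentable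

variable {S : Scheme.{u}}

/-- surjectivity on points implies the sieve form of local surjectivity -/
theorem hsurj_of_points {F : Sp S} {ι : Type u} {X : ι → Over S}
    (f : ∀ i, (yon S).obj (X i) ⟶ F) (hf : ∀ i, RepWith @IsOpenImmersion (f i))
    (hcov : ∀ x : Points F, ∃ i, x ∈ Set.range (Points.map (f i))) :
    ∀ (U : Over S) (s : (yon S).obj U ⟶ F), ∃ R ∈ J S U, ∀ ⦃V : Over S⦄ (γ : V ⟶ U),
      R γ → ∃ (i : ι) (a : V ⟶ X i), (yon S).map γ ≫ s = (yon S).map a ≫ f i := by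
  intro U s
  choose Ui t a sq using fun i => (hf i).1 s
  have ht : ∀ i, IsOpenImmersion (t i).left := fun i => (hf i).2 _ _ _ (sq i)
  have hcov' : ∀ z : U.left, ∃ i, z ∈ Set.range (t i).left := fun z => by
    obtain ⟨i, hi⟩ := hcov (Points.ofPt s z)
    exact ⟨i, mem_range_of_isPullback (sq i) z hi⟩
  refine ⟨Sieve.ofArrows Ui t, ofArrows_mem_of_openCover Ui t ht hcov', ?_⟩
  rintro V γ ⟨Z, b, _, ⟨i⟩, fac⟩
  obtain ⟨a', ha'⟩ := (yon S).map_surjective (a i)
  refine ⟨i, b ≫ a', ?_⟩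
  rw [← fac, Functor.map_comp, Category.assoc, ← (sq i).w, Functor.map_comp, Category.assoc, ha']

/-- a sheaf covered (on points) by representable open subsheaves is representable -/
theorem exists_glue_of_points {F : Sp S} {ι : Type u} {X : ι → Over S}
    (f : ∀ i, (yon S).obj (X i) ⟶ F) (hf : ∀ i, RepWith @IsOpenImmersion (f i))
    (hcov : ∀ x : Points F, ∃ i, x ∈ Set.range (Points.map (f i))) :
    ∃ (W : Over S) (e : (yon S).obj W ≅ F) (k : ∀ i, X i ⟶ W),
      (∀ i, (yon S).map (k i) ≫ e.hom = f i) ∧ (∀ i, IsOpenImmersion (k i).left) ∧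
      ∀ x : W.left, ∃ i, x ∈ Set.range (k i).left :=
  exists_glue f hf (hsurj_of_points f hf hcov)

theorem mono_of_oi {F G : Sp S} (j : F ⟶ G) (hj : RepWith @IsOpenImmersion j) : Mono j :=
  Groth.Agent.Helper4.AlgSpBasic.mono_of_repWith
    (P := @IsOpenImmersion) (fun g hg => by
      have : IsOpenImmersion g := hg
      infer_instance) j hj

theorem isOpen_range_of_oi {F G : Sp S} (hG : IsAlgSpace G) (j : F ⟶ G)
    (hj : RepWith @IsOpenImmersion j) : IsOpen (Set.range (Points.map j)) :=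
  (Groth.Agent.Helper4.AlgSpQC2.isOpenMor_of_repWith_etale hG j
    (Groth.Agent.Helper4.AlgSpSrc.repWith_mono (fun g hg => by
      have : IsOpenImmersion g := hg
      infer_instance) hj)).isOpen_range

theorem s10197 {X : Sp S} (hX : IsAlgSpace X) :
    ∃ (X' : Sp S) (j : X' ⟶ X), IsAlgSpace X' ∧ RepWith @IsOpenImmersion j ∧
      X'.obj.IsRepresentable ∧
      ∀ (X'' : Sp S) (j'' : X'' ⟶ X), RepWith @IsOpenImmersion j'' →
        X''.obj.IsRepresentable → ∃ k : X'' ⟶ X', k ≫ j = j'' := by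
  let W : Set (Points X) := {x | ∃ (X'' : Sp S) (j'' : X'' ⟶ X), RepWith @IsOpenImmersion j'' ∧
    X''.obj.IsRepresentable ∧ x ∈ Set.range (Points.map j'')}
  have hW : IsOpen W := by
    rw [isOpen_iff_forall_mem_open]
    rintro x ⟨X'', j'', h1, h2, h3⟩
    exact ⟨Set.range (Points.map j''), fun y hy => ⟨X'', j'', h1, h2, hy⟩,
      isOpen_range_of_oi hX j'' h1, h3⟩
  obtain ⟨X', j, hX', hj, hrange⟩ := Groth.Agent.Helper5.AlgSpOpen.exists_open_subspace hX W hW
  haveI : Mono j := mono_of_oi j hj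
  refine ⟨X', j, hX', hj, ?_, ?_⟩
  · obtain ⟨U, p, hpe, hps⟩ := hX.atlas
    have hsurjp := Groth.Agent.Helper5.AlgSpOpen.ofPt_surjective_of_repWith p hps
    let ι : Type u := {u : U.left // Points.ofPt p u ∈ W}
    have hch : ∀ i : ι, ∃ (V : Over S) (f₀ : (yon S).obj V ⟶ X), RepWith @IsOpenImmersion f₀ ∧
        Points.ofPt p i.1 ∈ Set.range (Points.map f₀) := by
      rintro ⟨u, X'', j'', h1, h2, h3⟩
      obtain ⟨V, ⟨e⟩⟩ := h2.has_representation
      refine ⟨V, (isoOfRepresentableBy e).hom ≫ j'',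
        ((RepWith (S := S) @IsOpenImmersion).cancel_left_of_respectsIso _ _).2 h1, ?_⟩
      obtain ⟨y, hy⟩ := h3
      refine ⟨Points.map (isoOfRepresentableBy e).inv y, ?_⟩
      rw [← Points.map_comp, Iso.inv_hom_id_assoc]
      exact hy
    choose V f₀ hf₀ hmem using hch
    have hsub : ∀ i, Set.range (Points.map (f₀ i)) ⊆ Set.range (Points.map j) := by
      intro i
      rw [hrange]
      rintro _ ⟨y, rfl⟩
      refine ⟨(yon S).obj (V i), f₀ i, hf₀ i, ?_, ⟨y, rfl⟩⟩
      exact ⟨⟨V i, ⟨representableByOfIso (Iso.refl _)⟩⟩⟩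
    choose f hf using fun i => Groth.Agent.Helper5.AlgSpIso.exists_factor_open j hj (f₀ i) (hsub i)
    have hfoi : ∀ i, RepWith @IsOpenImmersion (f i) := by
      intro i
      have sq := Groth.Agent.Helper4.AlgSpPB.isPullback_of_mono (f i) j
      rw [hf i] at sq
      exact MorphismProperty.of_isPullback sq (hf₀ i)
    have hcov : ∀ x : Points X', ∃ i, x ∈ Set.range (Points.map (f i)) := by
      intro x'
      have hx : Points.map j x' ∈ W := by rw [← hrange]; exact ⟨x', rfl⟩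
      obtain ⟨u, hu⟩ := hsurjp (Points.map j x')
      have hu' : Points.ofPt p u ∈ W := by rw [hu]; exact hx
      obtain ⟨y, hy⟩ := hmem ⟨u, hu'⟩
      have sq := Groth.Agent.Helper4.AlgSpPB.isPullback_of_mono (f ⟨u, hu'⟩) j
      obtain ⟨q, -, hq⟩ := Groth.Agent.Helper4.AlgSpPtsDesc.exists_point_of_isPullback sq y x'
        (by rw [hf, hy, hu])
      exact ⟨⟨u, hu'⟩, q, hq⟩
    obtain ⟨W₀, e, -, -, -, -⟩ := exists_glue_of_points f hfoi hcov
    exact ⟨⟨W₀, ⟨representableByOfIso e⟩⟩⟩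
  · intro X'' j'' h1 h2
    apply Groth.Agent.Helper5.AlgSpIso.exists_factor_open j hj j''
    rw [hrange]
    rintro _ ⟨y, rfl⟩
    exact ⟨X'', j'', h1, h2, ⟨y, rfl⟩⟩

end Groth.Agent.Helper5.ZarGlue
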