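import Mathlib
import Groth.Agent.Helper5.DegStr8
import Groth.Agent.Helper5.DecJac1
import Groth.Agent.Helper5.MonoQuot10
import Groth.Agent.Helper5.ZarGlue8
import Groth.Agent.Helper5.AlgSpOpen

/-!
# A decent algebraic space has a dense open subspace which is a scheme (S10337)
-/

set_option autoImplicit false
universe u

namespace Groth.Agent.Helper5.DegStr

open CategoryTheory CategoryTheory.Limits AlgebraicGeometry Opposite AlgSp
open Groth.Agent.Helper4.AlgSpOpenImage Groth.Agent.Helper4.AlgSpPtsDesc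

variable {S : Scheme.{u}}

/-- every nonempty open subset of the points of a decent space meets an open subspace which is
a scheme -/
theorem exists_open_subscheme_meeting {X : Sp S} (hX : IsAlgSpace X) (hd : IsDecent X)
    (O : Set (Points X)) (hO : IsOpen O) (hne : O.Nonempty) :
    ∃ (X'' : Sp S) (j'' : X'' ⟶ X), RepWith @IsOpenImmersion j'' ∧ X''.obj.IsRepresentable ∧
      ∃ y ∈ Set.range (Points.map j''), y ∈ O := by
  obtain ⟨x, hx⟩ := hne
  obtain ⟨U, p, hpe, hps⟩ := hX.atlas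
  obtain ⟨u, hu⟩ := Groth.Agent.Helper5.AlgSpOpen.ofPt_surjective_of_repWith p hps x
  have hopen : IsOpen (Points.ofPt p ⁻¹' O) := hO.preimage (Points.continuous_ofPt p)
  obtain ⟨_, ⟨(V₀ : U.left.Opens), hV₀, rfl⟩, huV₀, hV₀O⟩ :=
    (U.left.isBasis_affineOpens).exists_subset_of_mem_open
      (show u ∈ Points.ofPt p ⁻¹' O by rw [Set.mem_preimage, hu]; exact hx) hopen
  let V : Over S := Over.mk (V₀.ι ≫ U.hom)
  let φ : (yon S).obj V ⟶ X := (yon S).map (Over.homMk V₀.ι rfl : V ⟶ U) ≫ p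
  have hφ : RepWith @Etale φ := Groth.Agent.Helper5.MonoQuot.repWith_etale_restrict p hpe V₀
  haveI hVaff : IsAffine V.left := hV₀
  haveI : Nonempty ↥V.left := ⟨⟨u, huV₀⟩⟩
  obtain ⟨R, s, t, hR, hs, -⟩ := Groth.Agent.Helper5.MonoQuot.exists_relation φ hφ
  haveI := hs
  have hfin : ∀ v : ↥V.left, (s.left ⁻¹' {v}).Finite := by
    intro v
    obtain ⟨pt, hpt, hm, -⟩ := hd (Points.ofPt φ v)
    haveI := hm
    have hA : (Points.ofPt φ ⁻¹' {Points.mk pt}).Finite := by
      rw [hpt]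
      exact Groth.Agent.Helper5.DecJac.finite_fibres_of_isDecent hd (Points.ofPt φ v) V φ hVaff hφ
    have hB := Groth.Agent.Helper5.MonoQuot.finite_relation_fibre pt φ hφ hA R s t hR
    refine hB.subset ?_
    intro r hr
    show Points.ofPt ((yon S).map t ≫ φ) r = Points.mk pt
    rw [hR.w, ofPt_yon_map_comp s φ r, hpt]
    exact congrArg (Points.ofPt φ) hr
  obtain ⟨O', Z, ⟨o, ho⟩, ⟨e⟩⟩ := exists_scheme_open_image hX φ hφ s t hR hfin
  let φO : (yon S).obj (Over.mk (O'.ι ≫ V.hom)) ⟶ X :=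
    (yon S).map (Over.homMk O'.ι rfl : Over.mk (O'.ι ≫ V.hom) ⟶ V) ≫ φ
  have hφO : RepWith @Etale φO := Groth.Agent.Helper5.MonoQuot.repWith_etale_restrict φ hφ O'
  refine ⟨img φO, imgι φO, imgι_isOpenImmersion φO hφO, ⟨⟨Z, ⟨representableByOfIso e⟩⟩⟩, ?_⟩
  let o' : ↥(Over.mk (O'.ι ≫ V.hom)).left := (⟨o, ho⟩ : ↥O'.toScheme)
  refine ⟨Points.ofPt φO o', ⟨Points.ofPt (toImg φO) o', ?_⟩, ?_⟩
  · rw [Points.map_ofPt, toImg_ι]
  · show Points.ofPt ((yon S).map (Over.homMk O'.ι rfl : Over.mk (O'.ι ≫ V.hom) ⟶ V) ≫ φ) o' ∈ O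
    rw [ofPt_yon_map_comp]
    show Points.ofPt ((yon S).map (Over.homMk V₀.ι rfl : V ⟶ U) ≫ p) _ ∈ O
    rw [ofPt_yon_map_comp]
    exact hV₀O (Subtype.property _)

/-- S10337 -/
theorem s10337 (X : Space S) (hX : IsDecent X.obj) :
    ∃ (X' : Space S) (j : X' ⟶ X), RepWith @IsOpenImmersion j.hom ∧ X'.obj.obj.IsRepresentable ∧
      Dense (Set.range (Points.map j.hom)) := by
  obtain ⟨X', j, hX', hj, hrep, hmax⟩ := Groth.Agent.Helper5.ZarGlue.s10197 X.property
  refine ⟨⟨X', hX'⟩, ObjectProperty.homMk j, hj, hrep, ?_⟩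
  show Dense (Set.range (Points.map j))
  by_contra hnd
  have hne : ((closure (Set.range (Points.map j)))ᶜ).Nonempty := by
    rw [Set.nonempty_compl]
    intro h
    exact hnd (dense_iff_closure_eq.2 h)
  obtain ⟨X'', j'', h1, h2, y, hy1, hy2⟩ := exists_open_subscheme_meeting X.property hX _
    isClosed_closure.isOpen_compl hne
  obtain ⟨k, hk⟩ := hmax X'' j'' h1 h2
  apply hy2
  apply subset_closure
  obtain ⟨z, rfl⟩ := hy1
  refine ⟨Points.map k z, ?_⟩
  rw [← Points.map_comp, hk]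

end Groth.Agent.Helper5.DegStr
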