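import Groth.Prelude.Def_AlgSp4
import Groth.Agent.Helper5.AlgSpOpen
import Groth.Agent.Helper4.AlgSpQC2
import Mathlib

set_option autoImplicit false
universe u
open CategoryTheory CategoryTheory.Limits AlgebraicGeometry Opposite TopologicalSpace

namespace Groth.Agent.Helper5.AlgSpNoeth

open AlgSp Groth.Agent.Helper4.AlgSpQC2

variable {S : Scheme.{u}}

theorem isOpenMap_ofPt {X : Sp S} (hX : IsAlgSpace X) {U : Over S} (p : (yon S).obj U ⟶ X)
    (hpe : RepWith @Etale p) : IsOpenMap (Points.ofPt p) := by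
  have h1 : Points.ofPt p = Points.map p ∘ Points.schemeHomeo U := by
    funext t
    exact (ofPt_eq_map_schemeHomeo p t).symm
  rw [h1]
  exact (isOpenMor_of_repWith_etale hX p hpe).comp (Points.schemeHomeo U).isOpenMap

/-- The image of an affine open of a locally Noetherian chart is a Noetherian open subset. -/
theorem noetherianSpace_image {X : Sp S} {U : Over S} (p : (yon S).obj U ⟶ X)
    [IsLocallyNoetherian U.left] (A : U.left.Opens) (hA : IsAffineOpen A) :
    NoetherianSpace ↥(Points.ofPt p '' (A : Set U.left)) := by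
  have : IsNoetherianRing Γ(U.left, A) := IsLocallyNoetherian.component_noetherian ⟨A, hA⟩
  have h1 : NoetherianSpace ↥A := noetherianSpace_of_isAffineOpen A hA
  let g : ↥A → ↥(Points.ofPt p '' (A : Set U.left)) := fun a => ⟨Points.ofPt p a.1, a.1, a.2, rfl⟩
  have hg : Continuous g :=
    ((Points.continuous_ofPt p).comp continuous_subtype_val).subtype_mk _
  have hs : Function.Surjective g := by
    rintro ⟨_, a, ha, rfl⟩
    exact ⟨⟨a, ha⟩, rfl⟩
  exact noetherianSpace_of_surjective g hg hs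

theorem exists_noetherian_nhd {X : Sp S} (hX : IsAlgSpace X) (hN : IsLocNoethSp X)
    (x : Points X) : ∃ W : Set (Points X), IsOpen W ∧ x ∈ W ∧ NoetherianSpace ↥W := by
  obtain ⟨U, p, hpe, hps, hU⟩ := hN
  have : IsLocallyNoetherian U.left := hU
  obtain ⟨u, rfl⟩ := Groth.Agent.Helper5.AlgSpOpen.ofPt_surjective_of_repWith p hps x
  obtain ⟨A, hA, huA, -⟩ :=
    (U.left.isBasis_affineOpens.exists_subset_of_mem_open (Set.mem_univ u) isOpen_univ)
  obtain ⟨A', hA', rfl⟩ := hA
  exact ⟨Points.ofPt p '' (A' : Set U.left), isOpenMap_ofPt hX p hpe _ A'.2, ⟨u, huA, rfl⟩,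
    noetherianSpace_image p A' hA'⟩

theorem noetherianSpace_points {X : Sp S} (hX : IsAlgSpace X) (hqc : IsQuasiCompactSp X)
    (hN : IsLocNoethSp X) : NoetherianSpace (Points X) := by
  have hc : CompactSpace (Points X) := compactSpace_points_of_isQuasiCompactSp hqc
  choose W hWo hxW hWn using exists_noetherian_nhd hX hN
  obtain ⟨t, ht⟩ := isCompact_univ.elim_finite_subcover W hWo
    (fun x _ => Set.mem_iUnion.2 ⟨x, hxW x⟩)
  have h1 : NoetherianSpace ↥(⋃ i : t, W i.1) := by
    have : ∀ i : t, NoetherianSpace ↥(W i.1) := fun i => hWn i.1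
    exact NoetherianSpace.iUnion (fun i : t => W i.1)
  have h2 : (⋃ i : t, W i.1) = Set.univ := by
    apply Set.eq_univ_of_univ_subset
    intro x hx
    obtain ⟨i, hi⟩ := Set.mem_iUnion.1 (ht hx)
    obtain ⟨hit, hxi⟩ := Set.mem_iUnion.1 hi
    exact Set.mem_iUnion.2 ⟨⟨i, hit⟩, hxi⟩
  rw [h2] at h1
  exact noetherian_univ_iff.1 h1

end Groth.Agent.Helper5.AlgSpNoeth
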