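import Groth.Agent.Helper5.AlgSpOpen
import Groth.Agent.Helper5.AlgSpNoeth
import Groth.Agent.Helper4.AlgSpInj
import Groth.Agent.Helper4.AlgSpBasic

set_option autoImplicit false
universe u
open CategoryTheory CategoryTheory.Limits AlgebraicGeometry Opposite MorphismProperty Topology

namespace Groth.Agent.Helper5.ImmEmb

open AlgSp Groth.Agent.Helper4.AlgSpPtsDesc Groth.Agent.Helper5.AlgSpOpen Groth.Agent.Helper4.AlgSpQC2

variable {S : Scheme.{u}}

theorem s10191 {Z X : Space S} (i : Z ⟶ X) (hi : RepWith @IsImmersion i.hom) :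
    IsEmbedding (Points.map i.hom) ∧ IsLocallyClosed (Set.range (Points.map i.hom)) := by
  obtain ⟨U, p, hpe, hps⟩ := X.property.atlas
  have hr := hi.rep
  have hpb : IsPullback (hr.fst p) ((yon S).map (hr.snd p)) i.hom p := hr.isPullback p
  have himm : IsImmersion (hr.snd p).left := hi.property _ _ _ hpb
  generalize hr.fst p = q at hpb
  generalize hr.snd p = e at hpb himm
  generalize hr.pullback p = V at q e hpb himm
  have i1 := repWith_isStableUnderBaseChange (S := S) @Etale
  have i2 := repWith_isStableUnderBaseChange (S := S) @Surjective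
  have hqe : RepWith @Etale q := MorphismProperty.of_isPullback hpb.flip hpe
  have hqs : RepWith @Surjective q := MorphismProperty.of_isPullback hpb.flip hps
  -- topological facts
  have hπXo : IsOpenMap (Points.ofPt p) :=
    Groth.Agent.Helper5.AlgSpNoeth.isOpenMap_ofPt X.property p hpe
  have hπXc : Continuous (Points.ofPt p) := Points.continuous_ofPt p
  have hπXs : Function.Surjective (Points.ofPt p) := ofPt_surjective_of_repWith p hps
  have hπZc : Continuous (Points.ofPt q) := Points.continuous_ofPt q
  have hπZs : Function.Surjective (Points.ofPt q) := ofPt_surjective_of_repWith q hqs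
  have hcomm : ∀ v : V.left, Points.map i.hom (Points.ofPt q v) = Points.ofPt p (e.left v) := by
    intro v
    rw [Points.map_ofPt, hpb.w, ofPt_yon_map_comp]
  have hcart : ∀ (z : Points Z.obj) (u : U.left), Points.map i.hom z = Points.ofPt p u →
      ∃ v : V.left, Points.ofPt q v = z ∧ e.left v = u := by
    intro z u h
    have h' : Points.map i.hom z = Points.map p (Points.schemeHomeo U u) := by
      rw [h, ofPt_eq_map_schemeHomeo]
    obtain ⟨pt, hp1, hp2⟩ := exists_point_of_isPullback hpb z _ h'
    obtain ⟨v, rfl⟩ := (Points.schemeHomeo V).surjective pt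
    rw [Points.map_yon_map_apply] at hp2
    refine ⟨v, ?_, (Points.schemeHomeo U).injective hp2⟩
    rw [← hp1, ofPt_eq_map_schemeHomeo]
  have hmono : Mono i.hom := Groth.Agent.Helper4.AlgSpBasic.mono_of_repWith
    (P := @IsImmersion) (fun g hg => by
      have : IsImmersion g := hg
      infer_instance) i.hom hi
  have hinj : Function.Injective (Points.map i.hom) :=
    Groth.Agent.Helper4.AlgSpInj.injective_points_of_injective_fieldPts i.hom
      (fun K _ str c₁ c₂ h => (cancel_mono i.hom).1 h)
  refine ⟨⟨⟨?_⟩, hinj⟩, ?_⟩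
  · -- inducing
    apply le_antisymm
    · exact (Points.continuous_map i.hom).le_induced
    · intro O hO
      rw [isOpen_induced_iff]
      have hO' : IsOpen (Points.ofPt q ⁻¹' O) := hO.preimage hπZc
      obtain ⟨G, hG, hGO⟩ := e.left.isEmbedding.isInducing.isOpen_iff.1 hO'
      refine ⟨Points.ofPt p '' G, hπXo G hG, ?_⟩
      ext z
      constructor
      · rintro ⟨g, hg, hgz⟩
        obtain ⟨v, hv1, hv2⟩ := hcart z g hgz.symm
        have : v ∈ Points.ofPt q ⁻¹' O := by
          rw [← hGO]; show e.left v ∈ G; rw [hv2]; exact hg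
        rw [← hv1]; exact this
      · intro hz
        obtain ⟨v, rfl⟩ := hπZs z
        have hv : v ∈ (fun x => e.left x) ⁻¹' G := by rw [hGO]; exact hz
        exact ⟨e.left v, hv, (hcomm v).symm⟩
  · -- locally closed
    rw [isLocallyClosed_iff_isOpen_coborder]
    have hquot : IsQuotientMap (Points.ofPt p) := hπXo.isQuotientMap hπXc hπXs
    rw [← hquot.isOpen_preimage, ← coborder_preimage hπXo hπXc]
    have hpre : Points.ofPt p ⁻¹' Set.range (Points.map i.hom) = Set.range e.left := by
      ext u
      constructor
      · rintro ⟨z, hz⟩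
        obtain ⟨v, -, hv⟩ := hcart z u hz
        exact ⟨v, hv⟩
      · rintro ⟨v, rfl⟩
        exact ⟨Points.ofPt q v, hcomm v⟩
    rw [hpre]
    exact e.left.isLocallyClosed_range.isOpen_coborder

end Groth.Agent.Helper5.ImmEmb
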