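import Groth.Agent.Helper5.EtGlue
import Groth.Agent.Helper4.AlgSpPts
import Mathlib

set_option autoImplicit false
universe u
open CategoryTheory CategoryTheory.Limits AlgebraicGeometry Opposite

namespace Groth.Agent.Helper5.PbEpi

open AlgSp Groth.Agent.Helper4

variable {S : Scheme.{u}}

set_option backward.isDefEq.respectTransparency false

theorem isLocallySurjective_of_epi {F G : Sp S} (q : F ⟶ G) [Epi q] :
    Sheaf.IsLocallySurjective q :=
  (Sheaf.isLocallySurjective_iff_epi' (Type (u + 1)) q).2 inferInstance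

/-- In the topos of fppf sheaves, base change along an epimorphism reflects isomorphisms. -/
theorem isIso_of_isPullback_of_epi {X' Y' X Y : Sp S} {f' : X' ⟶ Y'} {q' : X' ⟶ X} {q : Y' ⟶ Y}
    {f : X ⟶ Y} (sq : IsPullback f' q' q f) [Epi q] [IsIso f'] : IsIso f := by
  have hepi : Epi f := by
    have h1 : Epi (f' ≫ q) := inferInstance
    rw [sq.w] at h1
    exact epi_of_epi q' f
  have hmono : Mono f := by
    apply AlgSpBasic.mono_of_yon
    intro T a b hab
    apply (J S).uliftYonedaEquiv.injective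
    set x₁ := (J S).uliftYonedaEquiv a with hx₁
    set x₂ := (J S).uliftYonedaEquiv b with hx₂
    have hfx : f.hom.app _ x₁ = f.hom.app _ x₂ := by
      have := congrArg (J S).uliftYonedaEquiv hab
      rw [GrothendieckTopology.uliftYonedaEquiv_comp, GrothendieckTopology.uliftYonedaEquiv_comp] at this
      exact this
    have hls := isLocallySurjective_of_epi q
    have hR := Presheaf.imageSieve_mem (J S) q.hom (f.hom.app _ x₁)
    have hsep := (Presieve.IsSheaf.isSeparated
      ((isSheaf_iff_isSheaf_of_type _ _).1 X.property)) _ hR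
    apply hsep.ext
    intro T' t ht
    obtain ⟨y', hy'⟩ := ht
    have h1 : q.hom.app _ y' = f.hom.app _ (X.obj.map t.op x₁) := by
      rw [hy']
      exact (NatTrans.naturality_apply f.hom t.op x₁).symm
    have h2 : q.hom.app _ y' = f.hom.app _ (X.obj.map t.op x₂) := by
      rw [hy', hfx]
      exact (NatTrans.naturality_apply f.hom t.op x₂).symm
    obtain ⟨p₁, hp₁, hp₁'⟩ := AlgSpPts.exists_section_of_isPullback sq T' y' _ h1
    obtain ⟨p₂, hp₂, hp₂'⟩ := AlgSpPts.exists_section_of_isPullback sq T' y' _ h2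
    have hinj : p₁ = p₂ := by
      have e1 := congrArg (fun k => k.hom.app (op T') p₁) (IsIso.hom_inv_id f')
      have e2 := congrArg (fun k => k.hom.app (op T') p₂) (IsIso.hom_inv_id f')
      have e3 : (inv f').hom.app (op T') (f'.hom.app (op T') p₁) = p₁ := e1
      have e4 : (inv f').hom.app (op T') (f'.hom.app (op T') p₂) = p₂ := e2
      rw [← e3, ← e4, hp₁, hp₂]
    rw [← hp₁', ← hp₂', hinj]
  exact isIso_of_mono_of_epi f

/-- epimorphisms of fppf sheaves are stable under base change -/
theorem epi_of_isPullback {P X Y Y' : Sp S} {fst : P ⟶ X} {snd : P ⟶ Y'} {f : X ⟶ Y}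
    {g : Y' ⟶ Y} (sq : IsPullback fst snd f g) [Epi g] : Epi fst := by
  have hls := isLocallySurjective_of_epi g
  have : Sheaf.IsLocallySurjective fst := by
    constructor
    intro T x
    have hR := Presheaf.imageSieve_mem (J S) g.hom (f.hom.app _ x)
    refine (J S).superset_covering ?_ hR
    intro T' t ht
    obtain ⟨y', hy'⟩ := ht
    have h1 : f.hom.app _ (X.obj.map t.op x) = g.hom.app _ y' := by
      rw [hy']
      exact NatTrans.naturality_apply f.hom t.op x
    obtain ⟨p, hp, -⟩ := AlgSpPts.exists_section_of_isPullback sq T' _ y' h1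
    exact ⟨p, hp⟩
  infer_instance

/-- a surjective étale morphism of algebraic spaces is an epimorphism of sheaves -/
theorem epi_of_surjective_etale {B D : Sp S} (hB : IsAlgSpace B) (bd : B ⟶ D)
    (hsurj : IsSurjectiveMor bd) (het : IsEtaleMor bd) : Epi bd := by
  obtain ⟨U, a, hae, has⟩ := hB.atlas
  have h1 : RepWith @Etale (a ≫ bd) := het a hae
  have h2 : IsSurjectiveMor (a ≫ bd) := by
    intro y
    obtain ⟨x, hx⟩ := hsurj y
    obtain ⟨z, hz⟩ := AlgSpPts.isSurjectiveMor_of_repWith a has x
    exact ⟨z, by rw [Points.map_comp, hz, hx]⟩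
  have h3 : RepWith @Surjective (a ≫ bd) :=
    AlgSpPts.repWith_surjective_of_isSurjectiveMor _ h1.rep h2
  have := EtGlue.epi_of_etale_surjective (a ≫ bd) h1 h3
  exact epi_of_epi a bd

theorem s10702 {A B C D E F : Space S} (ac : A ⟶ C) (ab : A ⟶ B)
    (cd : C ⟶ D) (bd : B ⟶ D) (ce : C ⟶ E) (df : D ⟶ F) (ef : E ⟶ F)
    (hl : IsPullback ac.hom ab.hom cd.hom bd.hom) (hcomm : cd ≫ df = ce ≫ ef)
    (hout : IsPullback (ac ≫ ce).hom ab.hom ef.hom (bd ≫ df).hom) (hsurj : IsSurjectiveMor bd.hom)
    (het : IsEtaleMor bd.hom) : IsPullback ce.hom cd.hom ef.hom df.hom := by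
  have hepi : Epi bd.hom := epi_of_surjective_etale B.property bd.hom hsurj het
  have hcomm' : ce.hom ≫ ef.hom = cd.hom ≫ df.hom := (congrArg (fun k => k.hom) hcomm).symm
  -- Q = E ×_F D
  let k : C.obj ⟶ pullback ef.hom df.hom := pullback.lift ce.hom cd.hom hcomm'
  have hQ : IsPullback (pullback.fst ef.hom df.hom) (pullback.snd ef.hom df.hom) ef.hom df.hom :=
    IsPullback.of_hasPullback _ _
  -- Q' = Q ×_D B
  have hQ' : IsPullback (pullback.fst (pullback.snd ef.hom df.hom) bd.hom)
      (pullback.snd (pullback.snd ef.hom df.hom) bd.hom) (pullback.snd ef.hom df.hom) bd.hom :=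
    IsPullback.of_hasPullback _ _
  have hk2 : k ≫ pullback.snd ef.hom df.hom = cd.hom := pullback.lift_snd _ _ _
  have hk1 : k ≫ pullback.fst ef.hom df.hom = ce.hom := pullback.lift_fst _ _ _
  let k' : A.obj ⟶ pullback (pullback.snd ef.hom df.hom) bd.hom :=
    pullback.lift (ac.hom ≫ k) ab.hom (by rw [Category.assoc, hk2]; exact hl.w)
  have hk'1 : k' ≫ pullback.fst (pullback.snd ef.hom df.hom) bd.hom = ac.hom ≫ k :=
    pullback.lift_fst _ _ _
  have hk'2 : k' ≫ pullback.snd (pullback.snd ef.hom df.hom) bd.hom = ab.hom :=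
    pullback.lift_snd _ _ _
  -- the left square
  have hleft : IsPullback k' ac.hom (pullback.fst (pullback.snd ef.hom df.hom) bd.hom) k := by
    refine IsPullback.of_right ?_ hk'1 hQ'.flip
    rw [hk'2, hk2]
    exact hl.flip
  -- k' is an isomorphism
  have hbig : IsPullback (pullback.fst (pullback.snd ef.hom df.hom) bd.hom ≫ pullback.fst ef.hom df.hom)
      (pullback.snd (pullback.snd ef.hom df.hom) bd.hom) ef.hom (bd.hom ≫ df.hom) :=
    hQ'.paste_horiz hQ
  have hk'iso : IsIso k' := by
    have hout' : IsPullback (ac.hom ≫ ce.hom) ab.hom ef.hom (bd.hom ≫ df.hom) := hout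
    have : k' = (hout'.isoIsPullback _ _ hbig).hom := by
      apply hbig.hom_ext
      · rw [IsPullback.isoIsPullback_hom_fst, ← Category.assoc, hk'1, Category.assoc, hk1]
      · rw [IsPullback.isoIsPullback_hom_snd, hk'2]
    rw [this]
    infer_instance
  have hpr : Epi (pullback.fst (pullback.snd ef.hom df.hom) bd.hom) := epi_of_isPullback hQ'
  have hkiso : IsIso k := isIso_of_isPullback_of_epi hleft
  exact IsPullback.of_iso_pullback ⟨hcomm'⟩ (asIso k) hk1 hk2

end Groth.Agent.Helper5.PbEpi
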