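import Groth.Agent.Helper5.QuotEff
import Groth.Agent.Helper5.PbEpi
import Groth.Agent.Helper4.AlgSpBasic

set_option autoImplicit false
universe u
open CategoryTheory CategoryTheory.Limits AlgebraicGeometry Opposite

namespace Groth.Agent.Helper5.QuotEff

open AlgSp Groth.Agent.Helper4

variable {S : Scheme.{u}}

set_option backward.isDefEq.respectTransparency false

/-- Morphisms from a representable sheaf which agree locally are equal. -/
theorem loc_eq {F : Sp S} {T : Over S} (a b : (yon S).obj T ⟶ F) (R' : Sieve T) (hR' : R' ∈ J S T)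
    (h : ∀ ⦃T' : Over S⦄ (f : T' ⟶ T), R' f → (yon S).map f ≫ a = (yon S).map f ≫ b) : a = b := by
  apply (J S).uliftYonedaEquiv.injective
  have hsep := (Presieve.IsSheaf.isSeparated
    ((isSheaf_iff_isSheaf_of_type _ _).1 F.property)) _ hR'
  apply hsep.ext
  intro T' f hf
  have := congrArg (J S).uliftYonedaEquiv (h f hf)
  rw [← GrothendieckTopology.uliftYonedaEquiv_naturality,
    ← GrothendieckTopology.uliftYonedaEquiv_naturality] at this
  exact this

/-- Local lifting along an epimorphism of sheaves. -/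
theorem loc_lift {F G : Sp S} (q : F ⟶ G) [Epi q] {T : Over S} (a : (yon S).obj T ⟶ G) :
    ∃ R' : Sieve T, R' ∈ J S T ∧ ∀ ⦃T' : Over S⦄ (f : T' ⟶ T), R' f →
      ∃ a' : (yon S).obj T' ⟶ F, a' ≫ q = (yon S).map f ≫ a := by
  have hls := PbEpi.isLocallySurjective_of_epi q
  have hR := Presheaf.imageSieve_mem (J S) q.hom ((J S).uliftYonedaEquiv a)
  refine ⟨_, hR, ?_⟩
  intro T' f hf
  obtain ⟨y, hy⟩ := hf
  refine ⟨(J S).uliftYonedaEquiv.symm y, ?_⟩
  apply (J S).uliftYonedaEquiv.injective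
  rw [GrothendieckTopology.uliftYonedaEquiv_comp, Equiv.apply_symm_apply, hy,
    GrothendieckTopology.uliftYonedaEquiv_naturality]

instance epi_quotSpπ {R U : Sp S} (s t : R ⟶ U) : Epi (quotSpπ s t) := by
  unfold quotSpπ; infer_instance

/-- Injectivity of the map of quotient sheaves induced by a restriction. -/
theorem mono_of_restriction {R U R' U' : Sp S} (s t : R ⟶ U) (hpre : IsPreEqvRelSp s t)
    (g : U' ⟶ U) (s' t' : R' ⟶ U')
    (RP : ∀ (T : Over S) (a' b' : (yon S).obj T ⟶ U') (ρ : (yon S).obj T ⟶ R),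
      ρ ≫ t = a' ≫ g → ρ ≫ s = b' ≫ g → ∃ ρ' : (yon S).obj T ⟶ R', ρ' ≫ t' = a' ∧ ρ' ≫ s' = b')
    (ψ : quotSp s' t' ⟶ quotSp s t) (hψ : quotSpπ s' t' ≫ ψ = g ≫ quotSpπ s t) : Mono ψ := by
  apply AlgSpBasic.mono_of_yon
  intro T a b hab
  obtain ⟨R1, hR1, h1⟩ := loc_lift (quotSpπ s' t') a
  obtain ⟨R2, hR2, h2⟩ := loc_lift (quotSpπ s' t') b
  refine loc_eq a b (R1 ⊓ R2) ((J S).intersection_covering hR1 hR2) ?_
  intro T' f hf
  obtain ⟨a', ha'⟩ := h1 f hf.1
  obtain ⟨b', hb'⟩ := h2 f hf.2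
  rw [← ha', ← hb']
  have hπ : (a' ≫ g) ≫ quotSpπ s t = (b' ≫ g) ≫ quotSpπ s t := by
    rw [Category.assoc, Category.assoc, ← hψ, ← Category.assoc, ← Category.assoc, ha', hb',
      Category.assoc, Category.assoc, hab]
  obtain ⟨R3, hR3, h3⟩ := exists_cover_relM s t hpre T' _ _ hπ
  refine loc_eq _ _ R3 hR3 ?_
  intro T'' h hh
  obtain ⟨ρ, hρ1, hρ2⟩ := h3 h hh
  obtain ⟨ρ', hρ'1, hρ'2⟩ := RP T'' ((yon S).map h ≫ a') ((yon S).map h ≫ b') ρ
    (by rw [hρ1, Category.assoc]) (by rw [hρ2, Category.assoc])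
  rw [← Category.assoc, ← Category.assoc, ← hρ'1, ← hρ'2, Category.assoc, Category.assoc,
    quotSp_condition]

theorem isIso_of_mono_of_epi_comp {R U R' U' : Sp S} (s t : R ⟶ U) (s' t' : R' ⟶ U')
    (ψ : quotSp s' t' ⟶ quotSp s t) [Mono ψ] {P : Sp S} (p : P ⟶ quotSp s' t') (q : P ⟶ quotSp s t)
    [Epi q] (h : p ≫ ψ = q) : IsIso ψ := by
  have : Epi (p ≫ ψ) := by rw [h]; infer_instance
  have : Epi ψ := epi_of_epi p ψ
  exact isIso_of_mono_of_epi ψ

theorem s10114 {R U R' U' : Sp S} (s t : R ⟶ U) (hpre : IsPreEqvRelSp s t) (g : U' ⟶ U)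
    (s' t' : R' ⟶ U') (r : R' ⟶ R)
    (hsq : IsPullback (prod.lift t' s') r (prod.map g g) (prod.lift t s))
    (ψ : quotSp s' t' ⟶ quotSp s t) (hψ : quotSpπ s' t' ≫ ψ = g ≫ quotSpπ s t) :
    Mono ψ ∧ (Epi g → IsIso ψ) := by
  have hmono : Mono ψ := by
    refine mono_of_restriction s t hpre g s' t' ?_ ψ hψ
    intro T a' b' ρ h1 h2
    have hc : prod.lift a' b' ≫ prod.map g g = ρ ≫ prod.lift t s := by
      apply Limits.prod.hom_ext
      · simp only [Category.assoc, prod.map_fst, prod.lift_fst, prod.lift_fst_assoc, h1]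
      · simp only [Category.assoc, prod.map_snd, prod.lift_snd, prod.lift_snd_assoc, h2]
    refine ⟨hsq.lift (prod.lift a' b') ρ hc, ?_, ?_⟩
    · have := hsq.lift_fst (prod.lift a' b') ρ hc =≫ prod.fst
      simpa only [Category.assoc, prod.lift_fst] using this
    · have := hsq.lift_fst (prod.lift a' b') ρ hc =≫ prod.snd
      simpa only [Category.assoc, prod.lift_snd] using this
  refine ⟨hmono, fun hg => ?_⟩
  exact isIso_of_mono_of_epi_comp s t s' t' ψ (quotSpπ s' t') (g ≫ quotSpπ s t) hψ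

end Groth.Agent.Helper5.QuotEff
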