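import Groth.Agent.Helper5.AffDesc12
import Groth.Agent.Helper5.QuotEff2
import Groth.Agent.Helper5.RedDesc
import Groth.Agent.Helper4.AlgSpPts
import Groth.Agent.Helper4.AlgSpPtsDesc
import Groth.Agent.S4372
import Groth.Prelude.Def_AlgSpSub
import Mathlib

/-! The reduced induced closed subspace structure on a closed subset of the points of an
algebraic space. -/

set_option autoImplicit false
universe u
open CategoryTheory CategoryTheory.Limits AlgebraicGeometry Opposite MorphismProperty

namespace Groth.Agent.Helper5.RedInd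

open AlgSp Groth.Agent.Helper4.AlgSpOpenImage Groth.Agent.Helper4.AlgSpBasic
  Groth.Agent.Helper5.QuotEff Groth.Agent.Helper4.AlgSpPtsDesc

/-- a morphism from a reduced scheme landing in a closed set factors through the reduced induced
subscheme -/
theorem exists_lift_redInduced {A U : Scheme.{u}} [IsReduced A] (f : A ⟶ U)
    (C : TopologicalSpace.Closeds U) (h : Set.range f ⊆ (C : Set U)) :
    ∃ k : A ⟶ (Scheme.IdealSheafData.vanishingIdeal C).subscheme,
      k ≫ (Scheme.IdealSheafData.vanishingIdeal C).subschemeι = f := by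
  have H : (Scheme.IdealSheafData.vanishingIdeal C).subschemeι.ker ≤ f.ker := by
    rw [Scheme.IdealSheafData.ker_subschemeι, Groth.Agent.S4372.ker_eq_vanishingIdeal]
    apply Scheme.IdealSheafData.vanishingIdeal_antimono
    rw [TopologicalSpace.Closeds.closure_le]
    exact h
  exact ⟨IsClosedImmersion.lift _ f H, IsClosedImmersion.lift_fac _ f H⟩

variable {S : Scheme.{u}}

/-- sieve form of `Helper4.AlgSpOpenImage.local_lift` -/
theorem loc_lift_img {X : Sp S} {W : Over S} (a : (yon S).obj W ⟶ X) {T : Over S}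
    (σ : (yon S).obj T ⟶ img a) :
    ∃ R' : Sieve T, R' ∈ J S T ∧ ∀ ⦃T' : Over S⦄ (f : T' ⟶ T), R' f →
      ∃ z : (yon S).obj T' ⟶ (yon S).obj W, z ≫ toImg a = (yon S).map f ≫ σ := by
  let x := (J S).uliftYonedaEquiv σ
  have hx : (Subfunctor.range a.hom).sieveOfSection x.1 ∈ J S T := x.2
  refine ⟨_, hx, ?_⟩
  intro T' f hf
  obtain ⟨w, hw⟩ := hf
  refine ⟨(J S).uliftYonedaEquiv.symm w, ?_⟩
  rw [← cancel_mono (imgι a), Category.assoc, toImg_ι, Category.assoc]
  apply (J S).uliftYonedaEquiv.injective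
  rw [GrothendieckTopology.uliftYonedaEquiv_comp, Equiv.apply_symm_apply, hw,
    ← GrothendieckTopology.uliftYonedaEquiv_naturality]
  rfl

set_option backward.isDefEq.respectTransparency.types false in
/-- S10192 -/
theorem s10192 (X : Sp S) (hX : IsAlgSpace X) (T : Set (Points X)) (hT : IsClosed T) :
    ∃ (Z : Sp S) (i : Z ⟶ X), IsAlgSpace Z ∧ IsRedInduced T i := by
  obtain ⟨U, p, hp, hps⟩ := hX.atlas
  -- the closed subset of the chart
  let C : TopologicalSpace.Closeds U.left :=
    ⟨Points.ofPt p ⁻¹' T, hT.preimage (Points.continuous_ofPt p)⟩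
  let I := Scheme.IdealSheafData.vanishingIdeal C
  let ZU : Over S := Over.mk (I.subschemeι ≫ U.hom)
  let i₀ : ZU ⟶ U := Over.homMk I.subschemeι rfl
  have hi₀c : IsClosedImmersion i₀.left := inferInstanceAs (IsClosedImmersion I.subschemeι)
  have hZUred : IsReduced ZU.left := Groth.Agent.S4372.isReduced_vanishingIdeal_subscheme C
  have hrange : Set.range i₀.left = (C : Set U.left) := by
    show Set.range I.subschemeι = _
    rw [Scheme.IdealSheafData.range_subschemeι]
    exact Scheme.IdealSheafData.coe_support_vanishingIdeal C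
  have hmono_i₀ : Mono i₀ := by
    have : Mono ((Over.forget S).map i₀) := by
      show Mono I.subschemeι
      infer_instance
    exact (Over.forget S).mono_of_mono_map this
  have hymono : Mono ((yon S).map i₀) := mono_yon_map i₀
  let a : (yon S).obj ZU ⟶ X := (yon S).map i₀ ≫ p
  -- the scheme `R = U ×_X U`
  obtain ⟨R₀, pr₂, pr₁', sqR⟩ := hp.1 p
  obtain ⟨pr₁, rfl⟩ := (yon S).map_surjective pr₁'
  have hpr₁ : Etale pr₁.left := hp.2 _ _ _ sqR.flip
  -- invariance: the key factorisation
  have hinv : ∀ (T'' : Over S) (ρ : T'' ⟶ R₀) (z₀ : T'' ⟶ ZU), ρ ≫ pr₁ = z₀ ≫ i₀ →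
      ∃ z₁ : T'' ⟶ ZU, z₁ ≫ i₀ = ρ ≫ pr₂ := by
    intro T'' ρ z₀ hρ
    -- the closed subscheme `Z_R = pr₁⁻¹ Z_U` of `R₀`
    let ZR : Scheme.{u} := pullback i₀.left pr₁.left
    have hZRet : Etale (pullback.fst i₀.left pr₁.left) := inferInstance
    have : Smooth (pullback.fst i₀.left pr₁.left) := inferInstance
    have hZRred : IsReduced ZR := Groth.Agent.Helper5.RedDesc.isReduced_of_smooth
      (pullback.fst i₀.left pr₁.left)
    have hsub : Set.range (pullback.snd i₀.left pr₁.left ≫ pr₂.left) ⊆ (C : Set U.left) := by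
      rintro _ ⟨w, rfl⟩
      show Points.ofPt p ((pullback.snd i₀.left pr₁.left ≫ pr₂.left) w) ∈ T
      have e1 : Points.ofPt p (pr₂.left (pullback.snd i₀.left pr₁.left w)) =
          Points.ofPt p (pr₁.left (pullback.snd i₀.left pr₁.left w)) := by
        rw [← ofPt_yon_map_comp, ← ofPt_yon_map_comp, sqR.w]
      rw [Scheme.Hom.comp_apply, e1, ← Scheme.Hom.comp_apply, ← pullback.condition,
        Scheme.Hom.comp_apply]
      have : i₀.left (pullback.fst i₀.left pr₁.left w) ∈ (C : Set U.left) := by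
        rw [← hrange]; exact ⟨_, rfl⟩
      exact this
    obtain ⟨k, hk⟩ := exists_lift_redInduced (pullback.snd i₀.left pr₁.left ≫ pr₂.left) C hsub
    let ρ' : T''.left ⟶ ZR := pullback.lift z₀.left ρ.left (by
      rw [← Over.comp_left, ← Over.comp_left, hρ])
    refine ⟨Over.homMk (ρ' ≫ k) ?_, ?_⟩
    · show (ρ' ≫ k) ≫ I.subschemeι ≫ U.hom = T''.hom
      rw [Category.assoc, ← Category.assoc k, hk, Category.assoc, ← Category.assoc ρ',
        pullback.lift_snd]
      rw [CategoryTheory.Over.w pr₂, CategoryTheory.Over.w ρ]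
    · ext
      show (ρ' ≫ k) ≫ I.subschemeι = ρ.left ≫ pr₂.left
      rw [Category.assoc, hk, ← Category.assoc, pullback.lift_snd]
  -- the key pullback square
  have sqK : IsPullback (toImg a) ((yon S).map i₀) (imgι a) p := by
    refine ⟨⟨by rw [toImg_ι]⟩, ⟨?_⟩⟩
    have hlift : ∀ c₀ : PullbackCone (imgι a) p, ∃ l : c₀.pt ⟶ (yon S).obj ZU,
        l ≫ (yon S).map i₀ = c₀.snd := by
      intro c₀
      refine exists_lift_of_mono ((yon S).map i₀) c₀.snd fun T' s => ?_
      obtain ⟨τ, hτ⟩ := (yon S).map_surjective (s ≫ c₀.snd)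
      obtain ⟨R₁, hR₁, hl₁⟩ := loc_lift_img a (s ≫ c₀.fst)
      rw [← hτ]
      apply Groth.Agent.Helper5.SpCoprod.exists_lift_of_local_lift ((yon S).map i₀) _ R₁ hR₁
      intro T'' γ hγ
      obtain ⟨z, hz⟩ := hl₁ γ hγ
      obtain ⟨z₀, rfl⟩ := (yon S).map_surjective z
      have hcone : (yon S).map (z₀ ≫ i₀) ≫ p = (yon S).map (γ ≫ τ) ≫ p := by
        rw [Functor.map_comp, Category.assoc, Functor.map_comp, hτ]
        have : (yon S).map z₀ ≫ toImg a ≫ imgι a = (yon S).map z₀ ≫ (yon S).map i₀ ≫ p := by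
          rw [toImg_ι]
        rw [← this, ← Category.assoc, hz]
        simp only [Category.assoc]
        rw [c₀.condition]
      obtain ⟨ρ, hρ⟩ := (yon S).map_surjective (sqR.lift _ _ hcone)
      have hρ1 : ρ ≫ pr₁ = z₀ ≫ i₀ := by
        apply (yon S).map_injective
        rw [Functor.map_comp, hρ, sqR.lift_fst]
      have hρ2 : ρ ≫ pr₂ = γ ≫ τ := by
        apply (yon S).map_injective
        rw [Functor.map_comp, hρ, sqR.lift_snd]
      obtain ⟨z₁, hz₁⟩ := hinv T'' ρ z₀ hρ1
      exact ⟨(yon S).map z₁, by rw [← Functor.map_comp, hz₁, hρ2, Functor.map_comp]⟩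
    choose l hl using hlift
    refine PullbackCone.IsLimit.mk _ l ?_ hl ?_
    · intro c₀
      rw [← cancel_mono (imgι a), Category.assoc, toImg_ι]
      show l c₀ ≫ (yon S).map i₀ ≫ p = _
      rw [← Category.assoc, hl, c₀.condition]
    · intro c₀ m _ h2
      rw [← cancel_mono ((yon S).map i₀), h2, hl]
  -- conclusions
  have hci : RepWith @IsClosedImmersion (imgι a) :=
    Groth.Agent.Helper5.AffDesc12.closedImmersion_of_etale_chart (imgι a) U p hp hps
      (toImg a) ((yon S).map i₀) sqK ((repWith_yon_map_iff _ i₀).2 hi₀c)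
  have hte : RepWith @Etale (toImg a) :=
    (RepWith (S := S) @Etale).of_isPullback sqK.flip hp
  have hts : RepWith @Surjective (toImg a) :=
    (RepWith (S := S) @Surjective).of_isPullback sqK.flip hps
  have hZalg : IsAlgSpace (img a) :=
    { diag := MorphismProperty.of_isPullback (isPullback_diag_of_mono (imgι a)) hX.diag
      atlas := ⟨ZU, toImg a, hte, hts⟩ }
  refine ⟨img a, imgι a, hZalg, hci, ?_, ⟨ZU, toImg a, hte, hts, hZUred⟩⟩
  -- the image on points
  have hsurj_t := Groth.Agent.Helper4.AlgSpPts.isSurjectiveMor_of_repWith (toImg a) hts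
  have hsurj_p := Groth.Agent.Helper4.AlgSpPts.isSurjectiveMor_of_repWith p hps
  apply Set.eq_of_subset_of_subset
  · rintro _ ⟨y, rfl⟩
    obtain ⟨z, rfl⟩ := hsurj_t y
    obtain ⟨z', rfl⟩ := (Points.schemeEquiv ZU).surjective z
    rw [← Points.map_comp, toImg_ι]
    show Points.map ((yon S).map i₀ ≫ p) (Points.ofScheme ZU z') ∈ T
    rw [← Points.ofPt_eq_map_ofScheme, ofPt_yon_map_comp]
    have : i₀.left z' ∈ (C : Set U.left) := by rw [← hrange]; exact ⟨_, rfl⟩
    exact this
  · intro x hx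
    obtain ⟨y, rfl⟩ := hsurj_p x
    obtain ⟨y', rfl⟩ := (Points.schemeEquiv U).surjective y
    have hy' : y' ∈ (C : Set U.left) := by
      show Points.ofPt p y' ∈ T
      rw [Points.ofPt_eq_map_ofScheme]
      exact hx
    rw [← hrange] at hy'
    obtain ⟨z', rfl⟩ := hy'
    refine ⟨Points.map (toImg a) (Points.ofScheme ZU z'), ?_⟩
    rw [← Points.map_comp, toImg_ι]
    show Points.map ((yon S).map i₀ ≫ p) (Points.ofScheme ZU z') = _
    rw [← Points.ofPt_eq_map_ofScheme, ofPt_yon_map_comp, Points.ofPt_eq_map_ofScheme]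
    rfl

end Groth.Agent.Helper5.RedInd
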