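import Mathlib
import Groth.Agent.Helper5.DegStr9
import Groth.Agent.Helper5.RedInd1
import Groth.Agent.Helper5.ImmEmb
import Groth.Agent.Helper5.Decent1
import Groth.Agent.Helper4.AlgSpInj

/-!
# The space of points of a decent algebraic space is quasi-sober (S10339)
-/

set_option autoImplicit false
universe u

namespace Groth.Agent.Helper5.DegStr

open CategoryTheory CategoryTheory.Limits AlgebraicGeometry Opposite AlgSp
open Groth.Agent.Helper4.AlgSpPtsDesc Groth.Agent.Helper4.AlgSpQC2

variable {S : Scheme.{u}}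

/-- an open immersion from a scheme induces an open embedding on points -/
theorem isOpenEmbedding_ofPt_of_oi {Z : Sp S} (hZ : IsAlgSpace Z) {W : Over S}
    (ψ : (yon S).obj W ⟶ Z) (hψ : RepWith @IsOpenImmersion ψ) :
    Topology.IsOpenEmbedding (Points.ofPt ψ) := by
  have hψe : RepWith @Etale ψ := Groth.Agent.Helper4.AlgSpSrc.repWith_mono (fun g hg => by
    have : IsOpenImmersion g := hg
    infer_instance) hψ
  haveI : Mono ψ := Groth.Agent.Helper5.ZarGlue.mono_of_oi ψ hψ
  have hinj : Function.Injective (Points.map ψ) :=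
    Groth.Agent.Helper4.AlgSpInj.injective_points_of_injective_fieldPts ψ
      (fun K _ str c₁ c₂ h => (cancel_mono ψ).1 h)
  refine Topology.IsOpenEmbedding.of_continuous_injective_isOpenMap (Points.continuous_ofPt ψ) ?_
    (Groth.Agent.Helper5.Decent3.isOpenMap_ofPt hZ ψ hψe)
  intro a b hab
  rw [← ofPt_eq_map_schemeHomeo, ← ofPt_eq_map_schemeHomeo] at hab
  exact (Points.schemeHomeo W).injective (hinj hab)

/-- S10339 -/
theorem s10339 (X : Space S) (hX : IsDecent X.obj) : QuasiSober (Points X.obj) := by
  constructor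
  intro T hTirr hTcl
  obtain ⟨Z, i, hZ, hi1, hi2, -⟩ := Groth.Agent.Helper5.RedInd.s10192 X.obj X.property T hTcl
  let Zsp : Space S := ⟨Z, hZ⟩
  let isp : Zsp ⟶ X := ObjectProperty.homMk i
  have himm : RepWith @IsImmersion isp.hom :=
    Groth.Agent.Helper4.AlgSpSrc.repWith_mono (fun g hg => by
      have : IsClosedImmersion g := hg
      infer_instance) hi1
  have hemb : Topology.IsEmbedding (Points.map i) :=
    (Groth.Agent.Helper5.ImmEmb.s10191 isp himm).1
  have hZdec : IsDecent Z := Groth.Agent.Helper5.Decent1.isDecent_of_representable i hi1.rep hX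
  -- the points of `Z` form an irreducible space
  haveI : IrreducibleSpace ↥T := Subtype.irreducibleSpace hTirr
  haveI : IrreducibleSpace ↥(Set.range (Points.map i)) := by rw [hi2]; infer_instance
  haveI : IrreducibleSpace (Points Z) :=
    (hemb.toHomeomorph.irreducibleSpace_iff).2 inferInstance
  obtain ⟨Z', j, hj, hrep, hdense⟩ := s10337 Zsp hZdec
  obtain ⟨W, ⟨e⟩⟩ := hrep.has_representation
  let ψ : (yon S).obj W ⟶ Z := (isoOfRepresentableBy e).hom ≫ j.hom
  have hψ : RepWith @IsOpenImmersion ψ :=
    ((RepWith (S := S) @IsOpenImmersion).cancel_left_of_respectsIso _ _).2 hj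
  have hk := isOpenEmbedding_ofPt_of_oi hZ ψ hψ
  have hrange : Set.range (Points.ofPt ψ) = Set.range (Points.map j.hom) := by
    ext z
    constructor
    · rintro ⟨w, rfl⟩
      refine ⟨Points.ofPt (isoOfRepresentableBy e).hom w, ?_⟩
      rw [Points.map_ofPt]
    · rintro ⟨y, rfl⟩
      obtain ⟨w, hw⟩ := (Points.schemeHomeo W).surjective (Points.map (isoOfRepresentableBy e).inv y)
      refine ⟨w, ?_⟩
      rw [← ofPt_eq_map_schemeHomeo, hw, Points.map_comp, ← Points.map_comp _ _ y,
        Iso.inv_hom_id, Points.map_id]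
  have hkd : Dense (Set.range (Points.ofPt ψ)) := by rw [hrange]; exact hdense
  haveI : Nonempty ↥W.left := by
    obtain ⟨z, w, -⟩ := hkd.nonempty
    exact ⟨w⟩
  haveI : IrreducibleSpace ↥W.left := hk.irreducibleSpace
  let η : ↥W.left := genericPoint ↥W.left
  have hη : closure ({η} : Set ↥W.left) = Set.univ := by
    have := genericPoint_spec ↥W.left
    exact this.def
  refine ⟨Points.ofPt (ψ ≫ i) η, ?_⟩
  have hcont : Continuous (Points.ofPt (ψ ≫ i)) := Points.continuous_ofPt _
  have hxT : Points.ofPt (ψ ≫ i) η ∈ T := by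
    rw [← hi2]
    exact ⟨Points.ofPt ψ η, Points.map_ofPt ψ i η⟩
  apply subset_antisymm
  · exact closure_minimal (Set.singleton_subset_iff.2 hxT) hTcl
  · intro x hx
    rw [← hi2] at hx
    obtain ⟨z, rfl⟩ := hx
    -- `z` is in the closure of the range of `ofPt ψ`
    have hz : z ∈ closure (Set.range (Points.ofPt ψ)) := hkd z
    have h1 : Points.map i z ∈ closure (Points.map i '' Set.range (Points.ofPt ψ)) :=
      image_closure_subset_closure_image (Points.continuous_map i) ⟨z, hz, rfl⟩
    have h2 : Points.map i '' Set.range (Points.ofPt ψ) ⊆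
        closure ({Points.ofPt (ψ ≫ i) η} : Set (Points X.obj)) := by
      rintro _ ⟨_, ⟨w, rfl⟩, rfl⟩
      rw [Points.map_ofPt]
      have hw : w ∈ closure ({η} : Set ↥W.left) := by rw [hη]; trivial
      have := image_closure_subset_closure_image hcont ⟨w, hw, rfl⟩
      rwa [Set.image_singleton] at this
    exact closure_minimal h2 isClosed_closure h1

end Groth.Agent.Helper5.DegStr
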