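import Mathlib
import Groth.Agent.Helper5.DegStr2
import Groth.Agent.Helper5.DegStr3

/-!
# Fibres with boundedly many geometric points are finite; irreducible components and
dense / open maps
-/

set_option autoImplicit false
universe u
open CategoryTheory CategoryTheory.Limits AlgebraicGeometry

namespace Groth.Agent.Helper5.DegStr

section Npts

variable {Y B : Scheme.{u}} (f : Y ⟶ B)

/-- finitely many points of a fibre are all rational over a common field valued point -/
theorem exists_common_field (b : ↥B) (T : Finset ↥Y) (hT : ∀ t ∈ T, f t = b) :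
    ∃ (K : Type u) (_ : Field K) (β : Spec (CommRingCat.of K) ⟶ B),
      β (IsLocalRing.closedPoint K : PrimeSpectrum K) = b ∧
      ∀ t ∈ T, ∃ y : Spec (CommRingCat.of K) ⟶ Y, y ≫ f = β ∧
        y (IsLocalRing.closedPoint K : PrimeSpectrum K) = t := by
  classical
  induction T using Finset.induction_on with
  | empty =>
    refine ⟨B.residueField b, inferInstance, B.fromSpecResidueField b,
      fromSpecResidueField_closedPoint B b, ?_⟩
    intro t ht
    simp at ht
  | insert z T' hz ih =>
    obtain ⟨K, _, β, hβ, hy⟩ := ih (fun t ht => hT t (Finset.mem_insert_of_mem ht))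
    let γ : Spec (CommRingCat.of (Y.residueField z)) ⟶ B := Y.fromSpecResidueField z ≫ f
    have hγ : γ (IsLocalRing.closedPoint _ : PrimeSpectrum (Y.residueField z)) = b := by
      show f (Y.fromSpecResidueField z _) = b
      rw [fromSpecResidueField_closedPoint]
      exact hT z (Finset.mem_insert_self z T')
    obtain ⟨M, _, a, c, hac⟩ := exists_common_extension β γ (hβ.trans hγ.symm)
    refine ⟨M, inferInstance, a ≫ β, ?_, ?_⟩
    · show β (a _) = b
      rw [eq_closedPoint (a _)]
      exact hβ
    · intro t ht
      rcases Finset.mem_insert.1 ht with rfl | ht'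
      · refine ⟨c ≫ Y.fromSpecResidueField t, ?_, ?_⟩
        · rw [Category.assoc]
          exact hac.symm
        · show Y.fromSpecResidueField t (c _) = t
          exact Y.fromSpecResidueField_apply t _
      · obtain ⟨y, hy1, hy2⟩ := hy t ht'
        refine ⟨a ≫ y, ?_, ?_⟩
        · rw [Category.assoc, hy1]
        · show y (a _) = t
          rw [eq_closedPoint (a _)]
          exact hy2

/-- a point whose fibre contains `n` distinct points has at least `n` geometric points in its
fibre -/
theorem mem_Npts_of_finset (b : ↥B) (T : Finset ↥Y) (hT : ∀ t ∈ T, f t = b) :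
    b ∈ Npts f T.card := by
  classical
  obtain ⟨K, _, β, hβ, hy⟩ := exists_common_field f b T hT
  choose y hy1 hy2 using hy
  let e : Fin T.card ≃ ↥T := T.equivFin.symm
  refine ⟨K, inferInstance, β, fun i => y (e i : ↥Y) (e i).2, hβ, fun i => hy1 _ (e i).2, ?_⟩
  intro i j hij
  have h1 : ((e i : ↥T) : ↥Y) = ((e j : ↥T) : ↥Y) := by
    rw [← hy2 _ (e i).2, ← hy2 _ (e j).2]
    exact congrArg (fun g : Spec (CommRingCat.of K) ⟶ Y =>
      g (IsLocalRing.closedPoint K : PrimeSpectrum K)) hij
  exact e.injective (Subtype.ext h1)

/-- a point with boundedly many geometric points in its fibre has finite fibre -/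
theorem finite_fibre_of_not_mem_Npts (b : ↥B) (n : ℕ) (h : b ∉ Npts f n) :
    (f ⁻¹' {b}).Finite := by
  by_contra hinf
  obtain ⟨T, hTsub, hTcard⟩ := Set.Infinite.exists_subset_card_eq hinf n
  apply h
  rw [← hTcard]
  exact mem_Npts_of_finset f b T (fun t ht => hTsub ht)

end Npts

section Top

variable {A B : Type*} [TopologicalSpace A] [TopologicalSpace B]

/-- the target of a continuous map with dense range from a space with finitely many irreducible
components has finitely many irreducible components -/
theorem finite_irreducibleComponents_of_denseRange (f : A → B) (hf : Continuous f)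
    (hd : Dense (Set.range f)) (hA : (irreducibleComponents A).Finite) :
    (irreducibleComponents B).Finite := by
  classical
  refine (hA.image (fun Z => closure (f '' Z))).subset ?_
  intro W hW
  have hcover : (Set.univ : Set B) ⊆ ⋃ Z ∈ irreducibleComponents A, closure (f '' Z) := by
    rw [← hA.closure_biUnion, ← Set.image_iUnion₂, ← Set.sUnion_eq_biUnion,
      sUnion_irreducibleComponents, Set.image_univ]
    exact fun x _ => hd x
  let t : Finset (Set B) := (hA.image (fun Z => closure (f '' Z))).toFinset
  have ht : ∀ z ∈ t, IsClosed z := by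
    intro z hz
    rw [Set.Finite.mem_toFinset] at hz
    obtain ⟨Z, -, rfl⟩ := hz
    exact isClosed_closure
  have hWsub : W ⊆ ⋃₀ (↑t : Set (Set B)) := by
    intro w _
    have := hcover (Set.mem_univ w)
    simp only [Set.mem_iUnion] at this
    obtain ⟨Z, hZ, hwZ⟩ := this
    refine ⟨closure (f '' Z), ?_, hwZ⟩
    rw [Finset.mem_coe, Set.Finite.mem_toFinset]
    exact ⟨Z, hZ, rfl⟩
  obtain ⟨z, hz, hWz⟩ := (isIrreducible_iff_sUnion_isClosed.1 hW.1) t ht hWsub
  rw [Set.Finite.mem_toFinset] at hz
  obtain ⟨Z, hZ, rfl⟩ := hz
  refine ⟨Z, hZ, ?_⟩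
  have hirr : IsIrreducible (closure (f '' Z)) := (hZ.1.image f hf.continuousOn).closure
  exact subset_antisymm (hW.2 hirr hWz) hWz

/-- the source of an open embedding into a space with finitely many irreducible components has
finitely many irreducible components -/
theorem finite_irreducibleComponents_of_isOpenEmbedding (f : A → B)
    (hf : Topology.IsOpenEmbedding f) (hB : (irreducibleComponents B).Finite) :
    (irreducibleComponents A).Finite := by
  refine (hB.image (fun W => f ⁻¹' W)).subset ?_
  intro Z hZ
  have hirr : IsIrreducible (closure (f '' Z)) := (hZ.1.image f hf.continuous.continuousOn).closure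
  obtain ⟨W, hW, hZW⟩ := exists_mem_irreducibleComponents_subset_of_isIrreducible _ hirr
  refine ⟨W, hW, ?_⟩
  have hsub : Z ⊆ f ⁻¹' W := fun z hz => hZW (subset_closure ⟨z, hz, rfl⟩)
  have hne : (W ∩ Set.range f).Nonempty := by
    obtain ⟨z, hz⟩ := hZ.1.1
    exact ⟨f z, hsub hz, z, rfl⟩
  have hmem := preimage_mem_irreducibleComponents hW hf hne
  exact subset_antisymm (hZ.2 hmem.1 hsub) hsub

end Top

end Groth.Agent.Helper5.DegStr
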