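import Groth.Prelude.Def_AlgSp4
import Groth.Agent.Helper4.AlgSpLocPComp
import Groth.Agent.Helper4.AlgSpLocPBC
import Groth.Agent.Helper4.AlgSpQC
import Groth.Agent.Helper4.AlgSpSrc
import Groth.Agent.Helper4.AlgSpUC
import Groth.Agent.Helper4.AlgSpDiag
import Groth.Agent.Helper4.AlgSpPtsDesc
import Groth.Agent.Helper4.SDClasses
import Mathlib

set_option autoImplicit false
universe u
open CategoryTheory CategoryTheory.Limits AlgebraicGeometry Opposite

namespace Groth.Agent.Helper5.AlgSpProper

open AlgSp Groth.Agent.Helper4.SDClasses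

variable {S : Scheme.{u}}

/-- Separated morphisms are stable under composition. -/
theorem isSeparatedMor_comp {X Y Z : Sp S} (f : X ⟶ Y) (g : Y ⟶ Z)
    (hf : IsSeparatedMor f) (hg : IsSeparatedMor g) : IsSeparatedMor (f ≫ g) := by
  have i1 := repWith_isStableUnderBaseChange (S := S) @IsClosedImmersion
  have i2 := (repWith_isMultiplicative (S := S) @IsClosedImmersion).toIsStableUnderComposition
  have i3 : (RepWith (S := S) @IsClosedImmersion).RespectsIso :=
    MorphismProperty.IsStableUnderBaseChange.respectsIso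
  have h1 : (RepWith (S := S) @IsClosedImmersion).diagonal f := hf
  have h2 : (RepWith (S := S) @IsClosedImmersion).diagonal g := hg
  exact MorphismProperty.comp_mem (RepWith (S := S) @IsClosedImmersion).diagonal f g h1 h2

/-- Base change of separated morphisms. -/
theorem isSeparatedMor_of_isPullback {X Y Q Z : Sp S} {f : X ⟶ Y}
    {g : Z ⟶ Y} {fst : Q ⟶ X} {snd : Q ⟶ Z} (sq : IsPullback fst snd f g)
    (h : IsSeparatedMor f) : IsSeparatedMor snd := by
  have i1 := repWith_isStableUnderBaseChange (S := S) @IsClosedImmersion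
  have h' : (RepWith (S := S) @IsClosedImmersion).diagonal f := h
  exact MorphismProperty.of_isPullback (P := (RepWith (S := S) @IsClosedImmersion).diagonal) sq h'

/-- Proper morphisms are stable under composition. -/
theorem isProperMor_comp {X Y Z : Sp S} (hY : IsAlgSpace Y) (hZ : Representable (Limits.diag Z))
    (f : X ⟶ Y) (g : Y ⟶ Z) (hf : IsProperMor f) (hg : IsProperMor g) : IsProperMor (f ≫ g) := by
  obtain ⟨f1, ⟨f2, f3⟩, f4⟩ := hf
  obtain ⟨g1, ⟨g2, g3⟩, g4⟩ := hg
  exact ⟨isSeparatedMor_comp f g f1 g1,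
    ⟨Groth.Agent.Helper4.AlgSpLocPComp.locP_comp _ good_lft hY f g f2 g2,
      Groth.Agent.Helper4.AlgSpQC.isQuasiCompactMor_comp hY hZ f g f3 g3⟩,
    Groth.Agent.Helper4.AlgSpSrc.isUnivClosedMor_comp hY hZ f g f4 g4⟩

/-- Proper morphisms are stable under base change. -/
theorem isProperMor_of_isPullback {X Y X' Y' : Sp S} (hX : IsAlgSpace X) (hY : IsAlgSpace Y)
    {f : X ⟶ Y} {g : Y' ⟶ Y} {fst : X' ⟶ X} {f' : X' ⟶ Y'} (sq : IsPullback fst f' f g)
    (hf : IsProperMor f) : IsProperMor f' := by
  obtain ⟨h1, ⟨h2, h3⟩, h4⟩ := hf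
  have hG := good_lft.{u}
  have := hG.bc
  have := hG.comp
  refine ⟨isSeparatedMor_of_isPullback sq h1, ⟨?_, ?_⟩, ?_⟩
  · exact Groth.Agent.Helper4.AlgSpLocPBC.locP_of_isPullback @LocallyOfFiniteType
      (fun g hg => hG.etale_le g hg) (fun e h he hs hP => hG.sd e h he hs hP)
      hX hY f g fst f' sq h2
  · exact Groth.Agent.Helper4.AlgSpQC.isQuasiCompactMor_of_isPullback sq h3
  · exact Groth.Agent.Helper4.AlgSpUC.univSp_of_isPullback _ sq h4


/-- A representable closed immersion is separated. -/
theorem isSeparatedMor_of_closedImmersion {X Y : Sp S} (f : X ⟶ Y)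
    (hf : RepWith @IsClosedImmersion f) : IsSeparatedMor f := by
  have hm : Mono f := by
    refine Groth.Agent.Helper4.AlgSpBasic.mono_of_repWith (P := @IsClosedImmersion) ?_ f hf
    intro X Y g hg
    have : IsClosedImmersion g := hg
    infer_instance
  have : IsIso (pullback.diagonal f) := inferInstance
  show RepWith @IsClosedImmersion (pullback.diagonal f)
  have inst : (RepWith (S := S) @IsClosedImmersion).IsMultiplicative :=
    repWith_isMultiplicative (S := S) @IsClosedImmersion
  exact MorphismProperty.of_isIso (RepWith @IsClosedImmersion) (pullback.diagonal f)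

/-- A representable closed immersion is universally closed. -/
theorem isUnivClosedMor_of_closedImmersion {X Y : Sp S} (f : X ⟶ Y)
    (hf : RepWith @IsClosedImmersion f) : IsUnivClosedMor f :=
  Groth.Agent.Helper4.AlgSpPtsDesc.isUnivClosedMor_of_repWith f
    (Groth.Agent.Helper4.AlgSpSrc.repWith_mono (fun g hg => by
      have : IsClosedImmersion g := hg
      infer_instance) hf)

/-- A representable closed immersion is proper. -/
theorem isProperMor_of_closedImmersion {X Y : Sp S} (f : X ⟶ Y)
    (hf : RepWith @IsClosedImmersion f) : IsProperMor f := by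
  have hG := good_lft.{u}
  have := hG.comp
  refine ⟨isSeparatedMor_of_closedImmersion f hf, ⟨?_, ?_⟩, isUnivClosedMor_of_closedImmersion f hf⟩
  · exact Groth.Agent.Helper4.AlgSpLocP.locP_of_repWith @LocallyOfFiniteType @IsClosedImmersion
      (fun g hg => by
        have : IsClosedImmersion g := hg
        infer_instance)
      (fun g hg => hG.etale_le g hg) f hf
  · apply Groth.Agent.Helper4.AlgSpQC.isQuasiCompactMor_of_repWith
    refine MorphismProperty.relative_monotone ?_ _ hf
    intro A B g hg
    have : IsClosedImmersion g.left := hg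
    show QuasiCompact g.left
    infer_instance

/-- The graph of a morphism to a separated target is a closed immersion. -/
theorem graph_closedImmersion {X Y B : Sp S} (f : X ⟶ Y) (q : Y ⟶ B) (hq : IsSeparatedMor q) :
    RepWith @IsClosedImmersion (pullback.lift (𝟙 X) f (by simp) : X ⟶ pullback (f ≫ q) q) := by
  have i1 := repWith_isStableUnderBaseChange (S := S) @IsClosedImmersion
  exact MorphismProperty.of_isPullback (pullback_lift_diagonal_isPullback f q) hq

theorem graph_snd {X Y B : Sp S} (f : X ⟶ Y) (q : Y ⟶ B) :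
    (pullback.lift (𝟙 X) f (by simp) : X ⟶ pullback (f ≫ q) q) ≫ pullback.snd (f ≫ q) q = f :=
  pullback.lift_snd _ _ _

/-- Universally closed source over a separated target. -/
theorem isUnivClosedMor_of_comp_separated {X Y B : Sp S} (hX : IsAlgSpace X) (hY : IsAlgSpace Y)
    (hB : Representable (Limits.diag B)) (f : X ⟶ Y) (q : Y ⟶ B) (hq : IsSeparatedMor q)
    (hp : IsUnivClosedMor (f ≫ q)) : IsUnivClosedMor f := by
  have sq : IsPullback (pullback.fst (f ≫ q) q) (pullback.snd (f ≫ q) q) (f ≫ q) q :=
    IsPullback.of_hasPullback _ _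
  have hPalg : IsAlgSpace (pullback (f ≫ q) q) :=
    Groth.Agent.Helper4.AlgSpPB.isAlgSpace_of_isPullback hB hX hY _ _ _ _ sq
  have h1 := isUnivClosedMor_of_closedImmersion _ (graph_closedImmersion f q hq)
  have h2 : IsUnivClosedMor (pullback.snd (f ≫ q) q) :=
    Groth.Agent.Helper4.AlgSpUC.univSp_of_isPullback _ sq hp
  have := Groth.Agent.Helper4.AlgSpSrc.isUnivClosedMor_comp hPalg hY.diag _ _ h1 h2
  rwa [graph_snd] at this

/-- Proper source over a separated target. -/
theorem isProperMor_of_comp_separated {X Y B : Sp S} (hX : IsAlgSpace X) (hY : IsAlgSpace Y)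
    (hB : IsAlgSpace B) (f : X ⟶ Y) (q : Y ⟶ B) (hq : IsSeparatedMor q)
    (hp : IsProperMor (f ≫ q)) : IsProperMor f := by
  have sq : IsPullback (pullback.fst (f ≫ q) q) (pullback.snd (f ≫ q) q) (f ≫ q) q :=
    IsPullback.of_hasPullback _ _
  have hPalg : IsAlgSpace (pullback (f ≫ q) q) :=
    Groth.Agent.Helper4.AlgSpPB.isAlgSpace_of_isPullback hB.diag hX hY _ _ _ _ sq
  have h1 := isProperMor_of_closedImmersion _ (graph_closedImmersion f q hq)
  have h2 : IsProperMor (pullback.snd (f ≫ q) q) := isProperMor_of_isPullback hX hB sq hp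
  have := isProperMor_comp hPalg hY.diag _ _ h1 h2
  rwa [graph_snd] at this


/-- If the diagonal is universally closed, the morphism is separated. -/
theorem isSeparatedMor_of_diagonal_univClosed {X Y : Sp S} (hX : IsAlgSpace X) (f : X ⟶ Y)
    (h : IsUnivClosedMor (pullback.diagonal f)) : IsSeparatedMor f := by
  obtain ⟨h1, h2, h3, -⟩ := Groth.Agent.Helper4.AlgSpDiag.diagonal_properties hX f
  have huc := Groth.Agent.Helper4.AlgSpPtsDesc.repWith_univClosed_of_isUnivClosedMor _ h1.rep h
  refine ⟨h1.rep, ?_⟩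
  intro T E ξ c e sq
  have e1 : LocallyOfFiniteType e.left := h1.property _ _ _ sq
  have e2 : Mono e.left := h2.property _ _ _ sq
  have e3 : IsSeparated e.left := h3.property _ _ _ sq
  have e4 : UniversallyClosed e.left := huc.property _ _ _ sq
  have e5 : IsProper e.left := {}
  show IsClosedImmersion e.left
  exact (IsClosedImmersion.iff_isProper_and_mono _).2 ⟨e5, e2⟩

theorem isSeparatedMor_iff_diagonal_univClosed {X Y : Sp S} (hX : IsAlgSpace X) (f : X ⟶ Y) :
    IsSeparatedMor f ↔ IsUnivClosedMor (pullback.diagonal f) :=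
  ⟨fun h => isUnivClosedMor_of_closedImmersion _ h, isSeparatedMor_of_diagonal_univClosed hX f⟩

theorem isSeparatedMor_iff_diagonal_proper {X Y : Sp S} (hX : IsAlgSpace X) (f : X ⟶ Y) :
    IsSeparatedMor f ↔ IsProperMor (pullback.diagonal f) :=
  ⟨fun h => isProperMor_of_closedImmersion _ h,
    fun h => isSeparatedMor_of_diagonal_univClosed hX f h.2.2⟩

end Groth.Agent.Helper5.AlgSpProper
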