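import Groth.Prelude.Def_AlgSp4
import Groth.Prelude.Def_AlgSpDec
import Groth.Agent.Helper5.Decent2
import Groth.Agent.Helper5.SrcEt
import Mathlib

set_option autoImplicit false
universe u
open CategoryTheory CategoryTheory.Limits AlgebraicGeometry Opposite

namespace Groth.Agent.Helper5.Codim0B

open AlgSp Groth.Agent.Helper4.AlgSpPtsDesc Groth.Agent.Helper4.AlgSpQC2

variable {S : Scheme.{u}}

/-- A point has no proper generization. -/
def IsMaxPt {T : Type*} [TopologicalSpace T] (t : T) : Prop := ∀ t', t' ⤳ t → t' = t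

/-- The local ring at `u` has dimension zero iff `u` has no proper generization. -/
theorem stalk_dim_zero_iff (U : Scheme.{u}) (u : ↥U) :
    ringKrullDim ↥(U.presheaf.stalk u) = 0 ↔ IsMaxPt u := by
  constructor
  · intro h u' hu'
    have hle : Ring.KrullDimLE 0 ↥(U.presheaf.stalk u) := Ring.krullDimLE_iff.2 (by rw [h]; rfl)
    have hmem : u' ∈ Set.range (U.fromSpecStalk u) := by
      rw [Scheme.range_fromSpecStalk]; exact hu'
    obtain ⟨y, rfl⟩ := hmem
    have hy : y = IsLocalRing.closedPoint ↥(U.presheaf.stalk u) := by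
      have : y.asIdeal.IsMaximal := Ring.krullDimLE_zero_iff.1 hle _ y.isPrime
      exact PrimeSpectrum.ext (IsLocalRing.eq_maximalIdeal this)
    rw [hy]
    exact Scheme.fromSpecStalk_closedPoint
  · intro h
    have hsub : Subsingleton (PrimeSpectrum ↥(U.presheaf.stalk u)) := by
      refine ⟨fun y y' => ?_⟩
      have hinj : Function.Injective (U.fromSpecStalk u) :=
        (U.fromSpecStalk u).isEmbedding.injective
      have h1 : ∀ z : PrimeSpectrum ↥(U.presheaf.stalk u), U.fromSpecStalk u z = u := by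
        intro z
        apply h
        have : U.fromSpecStalk u z ∈ Set.range (U.fromSpecStalk u) := ⟨z, rfl⟩
        rw [Scheme.range_fromSpecStalk] at this
        exact this
      exact hinj ((h1 y).trans (h1 y').symm)
    have hne : Nonempty (PrimeSpectrum ↥(U.presheaf.stalk u)) := inferInstance
    exact Order.krullDim_eq_zero

/-- Flat morphisms preserve maximal points. -/
theorem isMaxPt_map_of_flat {U V : Scheme.{u}} (h : U ⟶ V) [Flat h] (u : ↥U) (hu : IsMaxPt u) :
    IsMaxPt (h u) := by
  intro v' hv'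
  obtain ⟨u', hu'sp, hu'⟩ := (Flat.generalizingMap h) (a := u) (b := v') hv'
  rw [← hu', hu u' hu'sp]

/-- Maximal points lift along étale morphisms to any preimage. -/
theorem isMaxPt_of_etale {U V : Scheme.{u}} (h : U ⟶ V) [Etale h] (u : ↥U) (hu : IsMaxPt (h u)) :
    IsMaxPt u := by
  intro u' hu'
  have h1 : h u' = h u := hu _ (hu'.map h.continuous)
  have hlqf : LocallyQuasiFinite h :=
    Groth.Agent.Helper5.UnramLqf.locallyQuasiFinite_of_unramified h
  exact (Scheme.Hom.isDiscrete_preimage_singleton h (h u)).eq_of_specializes hu' h1 rfl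

/-- Codimension zero at a point is independent of the étale chart. -/
theorem isMaxPt_of_chart {X : Sp S} {U U' : Over S} (a : (yon S).obj U ⟶ X)
    (ha : RepWith @Etale a) (a' : (yon S).obj U' ⟶ X) (ha' : RepWith @Etale a') (u : ↥U.left)
    (u' : ↥U'.left) (he : Points.ofPt a u = Points.ofPt a' u') (hu : IsMaxPt u) : IsMaxPt u' := by
  have sq := ha.rep.isPullback a'
  obtain ⟨p1, hp1⟩ := (yon S).map_surjective (ha.rep.fst a')
  rw [← hp1] at sq
  have het2 : Etale (ha.rep.snd a').left := ha.property a' _ _ sq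
  have het1 : Etale p1.left := ha'.property a _ _ sq.flip
  clear hp1
  generalize ha.rep.snd a' = p2 at sq het2
  generalize ha.rep.pullback a' = R at p1 p2 sq het1 het2
  obtain ⟨r, hr1, hr2⟩ :=
    Groth.Agent.Helper5.Decent2.exists_scheme_point_of_isPullback sq u u' he
  have hr : IsMaxPt r := isMaxPt_of_etale p1.left r (by rw [hr1]; exact hu)
  have := isMaxPt_map_of_flat p2.left r hr
  rwa [hr2] at this

/-- Flat morphisms of algebraic spaces map codimension 0 points to codimension 0 points. -/
theorem codimZero_map_of_flat {X Y : Sp S} (hX : IsAlgSpace X) (hY : IsAlgSpace Y) (f : X ⟶ Y)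
    (hf : LocP @Flat f) (x : Points X)
    (hx : HasAt (fun U u => ringKrullDim ↥(U.presheaf.stalk u) = 0) X x) :
    HasAt (fun U u => ringKrullDim ↥(U.presheaf.stalk u) = 0) Y (Points.map f x) := by
  obtain ⟨U₀, a₀, u₀, ha₀, hu₀, hdim⟩ := hx
  obtain ⟨U, V, a, b, h, u, hae, hbe, hcomm, hu⟩ :=
    Groth.Agent.Helper5.SrcEt.exists_chart_at hX hY f x
  have hfl : Flat h.left := hf a b h hae hbe hcomm
  have h0 : IsMaxPt u₀ := (stalk_dim_zero_iff _ _).1 hdim
  have h1 : IsMaxPt u := isMaxPt_of_chart a₀ ha₀ a hae u₀ u (hu₀.trans hu.symm) h0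
  have h2 : IsMaxPt (h.left u) := isMaxPt_map_of_flat h.left u h1
  refine ⟨V, b, h.left u, hbe, ?_, (stalk_dim_zero_iff _ _).2 h2⟩
  rw [← ofPt_yon_map_comp, ← hcomm, ← Points.map_ofPt, hu]

end Groth.Agent.Helper5.Codim0B
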