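import Mathlib
import Groth.Agent.Helper5.DegStr10
import Groth.Agent.Helper5.Codim0B
import Groth.Agent.Helper5.Decent3
import Groth.Agent.Helper5.Decent2
import Groth.Agent.Helper5.DecJac1

/-!
# Generic points of irreducible components of a decent space are the points of codimension 0
(S10394)
-/

set_option autoImplicit false
universe u

namespace Groth.Agent.Helper5.DegStr

open CategoryTheory CategoryTheory.Limits AlgebraicGeometry Opposite AlgSp
open Groth.Agent.Helper5.Codim0B

variable {S : Scheme.{u}}

/-- a chart point over the generic point of an irreducible component is maximal -/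
theorem isMaxPt_of_isGenericPoint_component (X : Space S) (hX : IsDecent X.obj)
    (x : Points X.obj) (T : Set (Points X.obj)) (hT : T ∈ irreducibleComponents (Points X.obj))
    (hgen : IsGenericPoint x T) {U : Over S} (a : (yon S).obj U ⟶ X.obj) (ha : RepWith @Etale a)
    (u : ↥U.left) (hu : Points.ofPt a u = x) : IsMaxPt u := by
  haveI : T0Space (Points X.obj) := Groth.Agent.Helper5.Decent3.t0Space_of_isDecent X.property hX
  intro u' hu'
  have hsp : Points.ofPt a u' ⤳ x := by
    rw [← hu]
    exact hu'.map (Points.continuous_ofPt a)
  have hirr : IsIrreducible (closure ({Points.ofPt a u'} : Set (Points X.obj))) :=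
    isIrreducible_singleton.closure
  have hle : T ⊆ closure ({Points.ofPt a u'} : Set (Points X.obj)) := by
    rw [← hgen.def]
    exact closure_minimal (Set.singleton_subset_iff.2 (specializes_iff_mem_closure.1 hsp))
      isClosed_closure
  have heq : T = closure ({Points.ofPt a u'} : Set (Points X.obj)) :=
    Maximal.eq_of_subset hT hirr hle
  have hsp' : x ⤳ Points.ofPt a u' := by
    rw [specializes_iff_mem_closure, hgen.def, heq]
    exact subset_closure rfl
  have hxx : Points.ofPt a u' = x := (hsp.antisymm hsp').eq
  exact (Groth.Agent.Helper5.Decent2.eq_of_specializes_of_finite_fibres x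
    (Groth.Agent.Helper5.DecJac.finite_fibres_of_isDecent hX x) a ha u u' hu hxx hu').symm

/-- a point under a maximal chart point is the generic point of an irreducible component -/
theorem isGenericPoint_component_of_isMaxPt (X : Space S) (hX : IsDecent X.obj)
    {U : Over S} (a : (yon S).obj U ⟶ X.obj) (ha : RepWith @Etale a) (u : ↥U.left)
    (hmax : IsMaxPt u) :
    closure ({Points.ofPt a u} : Set (Points X.obj)) ∈ irreducibleComponents (Points X.obj) := by
  haveI : QuasiSober (Points X.obj) := s10339 X hX
  refine ⟨isIrreducible_singleton.closure, ?_⟩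
  intro T' hT' hle
  have hirr : IsIrreducible (closure T') := hT'.closure
  let x' := hirr.genericPoint
  have hx' : closure ({x'} : Set (Points X.obj)) = closure T' :=
    hirr.isGenericPoint_genericPoint_closure.def.trans closure_closure
  have hsp : x' ⤳ Points.ofPt a u := by
    rw [specializes_iff_mem_closure, hx']
    exact subset_closure (hle (subset_closure rfl))
  obtain ⟨p, hp, -, hpq⟩ := hX x'
  obtain ⟨u', hu's, hu'⟩ := Groth.Agent.Helper5.Decent3.exists_generization_in_chart X.property
    (Points.ofPt a u) x' hsp p hp hpq a ha u rfl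
  have : u' = u := hmax u' hu's
  rw [this] at hu'
  intro y hy
  have : y ∈ closure T' := subset_closure hy
  rwa [← hx', ← hu'] at this

/-- S10394 -/
theorem s10394 (X : Space S) (hX : IsDecent X.obj) (x : Points X.obj) :
    (∃ T ∈ irreducibleComponents (Points X.obj), IsGenericPoint x T) ↔
      HasAt (fun U u => ringKrullDim ↥(U.presheaf.stalk u) = 0) X.obj x := by
  constructor
  · rintro ⟨T, hT, hgen⟩
    obtain ⟨U, p, hpe, hps⟩ := X.property.atlas
    obtain ⟨u, hu⟩ := Groth.Agent.Helper5.AlgSpOpen.ofPt_surjective_of_repWith p hps x
    exact ⟨U, p, u, hpe, hu, (stalk_dim_zero_iff _ _).2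
      (isMaxPt_of_isGenericPoint_component X hX x T hT hgen p hpe u hu)⟩
  · rintro ⟨U, a, u, hae, hu, hdim⟩
    have hmax : IsMaxPt u := (stalk_dim_zero_iff _ _).1 hdim
    refine ⟨closure ({x} : Set (Points X.obj)), ?_, rfl⟩
    rw [← hu]
    exact isGenericPoint_component_of_isMaxPt X hX a hae u hmax

end Groth.Agent.Helper5.DegStr
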