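import Mathlib
import Groth.Agent.Helper5.MonoQuot9

/-!
# S10352: an algebraic space etale over a decent space is decent
-/

set_option autoImplicit false
universe u

namespace Groth.Agent.Helper5.MonoQuot

open CategoryTheory CategoryTheory.Limits AlgebraicGeometry Opposite AlgSp

variable {S : Scheme.{u}}

theorem s10352 {X Y : Space S} (f : X ⟶ Y) (hf : IsEtaleMor f.hom) (hY : IsDecent Y.obj) :
    IsDecent X.obj := by
  intro x
  refine (s10360 X x).1 ?_
  intro U φ hU hφ R s t hR
  have hψ : RepWith @Etale (φ ≫ f.hom) := hf φ hφ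
  obtain ⟨R', s', t', hR', -, -⟩ := exists_relation (φ ≫ f.hom) hψ
  obtain ⟨hA, hB⟩ := (s10360 Y (Points.map f.hom x)).2 (hY _) U (φ ≫ f.hom) hU hψ R' s' t' hR'
  refine ⟨hA.subset ?_, ?_⟩
  · intro u hu
    have hu' : Points.ofPt φ u = x := hu
    show Points.ofPt (φ ≫ f.hom) u = Points.map f.hom x
    rw [← hu']
    rfl
  · have hw : (yon S).map t ≫ φ ≫ f.hom = (yon S).map s ≫ φ ≫ f.hom := by
      rw [← Category.assoc, hR.w, Category.assoc]
    obtain ⟨m, hm⟩ := (yon S).map_surjective (hR'.lift _ _ hw)
    have hmt : m ≫ t' = t := by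
      apply (yon S).map_injective
      rw [Functor.map_comp, hm, hR'.lift_fst]
    have hms : m ≫ s' = s := by
      apply (yon S).map_injective
      rw [Functor.map_comp, hm, hR'.lift_snd]
    have hmono : Mono m := by
      constructor
      intro T a b hab
      apply (yon S).map_injective
      apply hR.hom_ext
      · rw [← Functor.map_comp, ← Functor.map_comp, ← hmt, ← Category.assoc, hab, Category.assoc]
      · rw [← Functor.map_comp, ← Functor.map_comp, ← hms, ← Category.assoc, hab, Category.assoc]
    have hmono' : Mono m.left := inferInstance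
    have hinj : Function.Injective m.left := m.left.injective
    refine (hB.preimage hinj.injOn).subset ?_
    intro r hr
    have hr' : Points.ofPt ((yon S).map t ≫ φ) r = x := hr
    show Points.ofPt ((yon S).map t' ≫ φ ≫ f.hom) (m.left r) = Points.map f.hom x
    rw [← Groth.Agent.Helper4.AlgSpPtsDesc.ofPt_yon_map_comp m, ← Category.assoc,
      ← Functor.map_comp, hmt, ← hr']
    rfl

end Groth.Agent.Helper5.MonoQuot
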