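import Mathlib
import Groth.Agent.Helper5.DegStr11
import Groth.Agent.Helper5.MonoQuot11

/-!
# Generic points of irreducible components and etale morphisms of decent spaces (S10395)
-/

set_option autoImplicit false
universe u

namespace Groth.Agent.Helper5.DegStr

open CategoryTheory CategoryTheory.Limits AlgebraicGeometry Opposite AlgSp
open Groth.Agent.Helper5.Codim0B

variable {S : Scheme.{u}}

theorem hasAt_codimZero_iff_of_etale {X Y : Space S} (f : Y ⟶ X) (hf : IsEtaleMor f.hom)
    (y : Points Y.obj) :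
    HasAt (fun U u => ringKrullDim ↥(U.presheaf.stalk u) = 0) Y.obj y ↔
      HasAt (fun U u => ringKrullDim ↥(U.presheaf.stalk u) = 0) X.obj (Points.map f.hom y) := by
  constructor
  · rintro ⟨U, a, u, hae, hu, hdim⟩
    refine ⟨U, a ≫ f.hom, u, hf a hae, ?_, hdim⟩
    rw [← hu]
    rfl
  · rintro ⟨V, b, v, hbe, hv, hdim⟩
    obtain ⟨U, p, hpe, hps⟩ := Y.property.atlas
    obtain ⟨u, hu⟩ := Groth.Agent.Helper5.AlgSpOpen.ofPt_surjective_of_repWith p hps y
    refine ⟨U, p, u, hpe, hu, (stalk_dim_zero_iff _ _).2 ?_⟩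
    have he : Points.ofPt b v = Points.ofPt (p ≫ f.hom) u := by
      rw [hv, ← hu]
      rfl
    exact isMaxPt_of_chart b hbe (p ≫ f.hom) (hf p hpe) v u he ((stalk_dim_zero_iff _ _).1 hdim)

/-- S10395 -/
theorem s10395 {X Y : Space S} (hX : IsDecent X.obj) (f : Y ⟶ X) (hf : IsEtaleMor f.hom)
    (y : Points Y.obj) :
    (∃ T ∈ irreducibleComponents (Points Y.obj), IsGenericPoint y T) ↔
      (∃ T ∈ irreducibleComponents (Points X.obj), IsGenericPoint (Points.map f.hom y) T) := by
  have hY : IsDecent Y.obj := Groth.Agent.Helper5.MonoQuot.s10352 f hf hX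
  rw [s10394 Y hY y, s10394 X hX (Points.map f.hom y)]
  exact hasAt_codimZero_iff_of_etale f hf y

end Groth.Agent.Helper5.DegStr
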