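import Groth.Prelude.Def_AlgSpDec
import Groth.Agent.Helper5.MonoPt
import Mathlib

set_option autoImplicit false
universe u
open CategoryTheory CategoryTheory.Limits AlgebraicGeometry Opposite

namespace Groth.Agent.Helper5.MonoPt

open AlgSp Groth.Agent.Helper5.Decent2

variable {S : Scheme.{u}}

/-- For a point represented by a monomorphism from the spectrum of a field, the fibre product of
two schemes over the space has finite fibres over pairs of points above it, as soon as one of the
two maps is locally quasi-finite. -/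
theorem finite_fibre_of_mono_point {Y : Sp S} (r : FieldPt Y) [Mono r.toHom]
    {A B : Over S} (α : (yon S).obj A ⟶ Y) (β : (yon S).obj B ⟶ Y) (hα : Representable α)
    (hβ : RepWith @LocallyQuasiFinite β) (a : ↥A.left) (b : ↥B.left)
    (ha : Points.ofPt α a = Points.mk r) (hb : Points.ofPt β b = Points.mk r)
    (P : Over S) (pa : P ⟶ A) (pb : P ⟶ B)
    (hP : IsPullback ((yon S).map pa) ((yon S).map pb) α β) :
    {π : ↥P.left | pa.left π = a ∧ pb.left π = b}.Finite := by
  -- A_k = Spec k ×_Y A
  have sqA := hα.isPullback r.toHom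
  obtain ⟨eA, heA⟩ := (yon S).map_surjective (hα.fst r.toHom)
  rw [← heA] at sqA
  clear heA
  generalize hα.snd r.toHom = cA at sqA
  generalize hα.pullback r.toHom = Ak at eA cA sqA
  -- B_k = Spec k ×_Y B
  have sqB := hβ.rep.isPullback r.toHom
  obtain ⟨eB, heB⟩ := (yon S).map_surjective (hβ.rep.fst r.toHom)
  rw [← heB] at sqB
  have hcB : LocallyQuasiFinite (hβ.rep.snd r.toHom).left := hβ.property r.toHom _ _ sqB
  clear heB
  generalize hβ.rep.snd r.toHom = cB at sqB hcB
  generalize hβ.rep.pullback r.toHom = Bk at eB cB sqB hcB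
  have hme : Mono ((yon S).map eB) := sqB.mono_fst_of_mono
  have hme' : Mono eB := (yon S).mono_of_mono_map hme
  have hme'' : Mono eB.left := inferInstance
  have hinj : Function.Injective eB.left := eB.left.injective
  let s₀ : ↥r.pt.left := (IsLocalRing.closedPoint r.K : ↥(Spec (CommRingCat.of r.K)))
  obtain ⟨ak, hak1, hak2⟩ := exists_scheme_point_of_isPullback sqA a s₀
    (by rw [ha, Points.ofPt_toHom])
  obtain ⟨bk, hbk1, hbk2⟩ := exists_scheme_point_of_isPullback sqB b s₀
    (by rw [hb, Points.ofPt_toHom])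
  have sqQ : IsPullback (pullback.fst cA cB) (pullback.snd cA cB) cA cB :=
    IsPullback.of_hasPullback cA cB
  have sqQy := sqQ.map (yon S)
  have sqQs := sqQ.map (Over.forget S)
  have big := sqQy.flip.paste_horiz sqB
  have hcomm : (yon S).map (pullback.fst cA cB ≫ eA) ≫ α =
      (yon S).map (pullback.snd cA cB ≫ eB) ≫ β := by
    rw [Functor.map_comp, Functor.map_comp, Category.assoc, Category.assoc, sqA.w, sqB.w,
      ← Category.assoc, ← Category.assoc, sqQy.w]
  obtain ⟨m, hm⟩ := (yon S).map_surjective (hP.lift _ _ hcomm)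
  have hm1 : m ≫ pa = pullback.fst cA cB ≫ eA := by
    apply (yon S).map_injective
    rw [Functor.map_comp, hm, hP.lift_fst]
  have hm2 : m ≫ pb = pullback.snd cA cB ≫ eB := by
    apply (yon S).map_injective
    rw [Functor.map_comp, hm, hP.lift_snd]
  have left : IsPullback ((yon S).map m) ((yon S).map (pullback.fst cA cB)) ((yon S).map pa)
      ((yon S).map eA) := by
    refine IsPullback.of_right ?_ ?_ hP.flip
    · rw [← Functor.map_comp, hm2, Functor.map_comp, sqA.w]
      exact big
    · rw [← Functor.map_comp, hm1, Functor.map_comp]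
  have hZ : {z : ↥(pullback cA cB).left | (pullback.fst cA cB).left z = ak ∧
      (pullback.snd cA cB).left z = bk}.Finite :=
    finite_fibre_of_isPullback sqQs ak bk (hak2.trans hbk2.symm)
      (Groth.Agent.Helper5.PbFibre.finite_residueFieldMap_of_lqf cB.left bk)
  refine (hZ.image m.left).subset ?_
  rintro π ⟨hπ1, hπ2⟩
  have h : Points.ofPt ((yon S).map pa) π = Points.ofPt ((yon S).map eA) ak := by
    rw [← Groth.Agent.Helper4.AlgSpQC2.ofPt_eq_map_schemeHomeo,
      ← Groth.Agent.Helper4.AlgSpQC2.ofPt_eq_map_schemeHomeo, Points.map_yon_map_apply,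
      Points.map_yon_map_apply, hπ1, hak1]
  obtain ⟨z, hz1, hz2⟩ := exists_scheme_point_of_isPullback left π ak h
  refine ⟨z, ⟨hz2, ?_⟩, hz1⟩
  apply hinj
  rw [hbk1, ← hπ2, ← hz1, ← Scheme.Hom.comp_apply, ← Scheme.Hom.comp_apply, ← Over.comp_left,
    ← Over.comp_left, hm2]

end Groth.Agent.Helper5.MonoPt
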