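import Groth.Prelude.Def_AlgSpDec
import Groth.Agent.Helper5.MonoPt2
import Groth.Agent.Helper5.GeomRed2
import Groth.Agent.Helper4.AlgSpSrc
import Mathlib

set_option autoImplicit false
universe u
open CategoryTheory CategoryTheory.Limits AlgebraicGeometry Opposite

namespace Groth.Agent.Helper5.MonoPt

open AlgSp Groth.Agent.Helper5.Decent2 Groth.Agent.Helper5.GeomRed Groth.Agent.Helper4.AlgSpPtsDesc

variable {S : Scheme.{u}}

theorem repWith_lqf_of_etale {F G : Sp S} (f : F ⟶ G) (hf : RepWith @Etale f) :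
    RepWith @LocallyQuasiFinite f := by
  refine ⟨hf.rep, ?_⟩
  intro T E ξ c e sq
  have : Etale e.left := hf.property ξ c e sq
  exact Groth.Agent.Helper5.UnramLqf.locallyQuasiFinite_of_unramified e.left

/-- Points of a fibre product of algebraic spaces over a pair of points lift to a fibre product of
charts. -/
theorem exists_chart_point_of_isPullback {X Y Z W : Sp S} {f : X ⟶ Y} {g : Z ⟶ Y} {p : W ⟶ X}
    {q : W ⟶ Z} (hW : IsPullback p q f g) {U V P : Over S} (a : (yon S).obj U ⟶ X)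
    (b : (yon S).obj V ⟶ Z) (pa : P ⟶ U) (pb : P ⟶ V)
    (sqP : IsPullback ((yon S).map pa) ((yon S).map pb) (a ≫ f) (b ≫ g))
    (ρ : (yon S).obj P ⟶ W) (hρ1 : ρ ≫ p = (yon S).map pa ≫ a) (hρ2 : ρ ≫ q = (yon S).map pb ≫ b)
    (u : ↥U.left) (v : ↥V.left) (w : Points W) (hu : Points.map p w = Points.ofPt a u)
    (hv : Points.map q w = Points.ofPt b v) :
    ∃ π : ↥P.left, pa.left π = u ∧ pb.left π = v ∧ Points.ofPt ρ π = w := by
  have sq1 : IsPullback (pullback.fst a p) (pullback.snd a p) a p := IsPullback.of_hasPullback a p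
  obtain ⟨π₁, hπ₁1, hπ₁2⟩ := exists_point_of_isPullback sq1 (Points.schemeHomeo U u) w
    (by rw [Groth.Agent.Helper4.AlgSpQC2.ofPt_eq_map_schemeHomeo, hu])
  let ρ₁ : (yon S).obj P ⟶ pullback a p := sq1.lift ((yon S).map pa) ρ hρ1.symm
  have hρ₁1 : ρ₁ ≫ pullback.fst a p = (yon S).map pa := sq1.lift_fst _ _ _
  have hρ₁2 : ρ₁ ≫ pullback.snd a p = ρ := sq1.lift_snd _ _ _
  have bot : IsPullback (pullback.snd a p ≫ q) (pullback.fst a p) g (a ≫ f) :=
    sq1.flip.paste_horiz hW.flip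
  have sq2 : IsPullback ((yon S).map pb) ρ₁ b (pullback.snd a p ≫ q) := by
    refine IsPullback.of_bot ?_ ?_ bot
    · rw [hρ₁1]; exact sqP.flip
    · rw [← Category.assoc, hρ₁2, hρ2]
  obtain ⟨π₂, hπ₂1, hπ₂2⟩ := exists_point_of_isPullback sq2 (Points.schemeHomeo V v) π₁
    (by rw [Groth.Agent.Helper4.AlgSpQC2.ofPt_eq_map_schemeHomeo, Points.map_comp, hπ₁2, hv])
  obtain ⟨π, rfl⟩ := (Points.schemeHomeo P).surjective π₂
  refine ⟨π, ?_, ?_, ?_⟩
  · apply (Points.schemeHomeo U).injective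
    rw [← Points.map_yon_map_apply, ← hρ₁1, Points.map_comp, hπ₂2, hπ₁1]
  · apply (Points.schemeHomeo V).injective
    rw [← Points.map_yon_map_apply, hπ₂1]
  · rw [← Groth.Agent.Helper4.AlgSpQC2.ofPt_eq_map_schemeHomeo, ← hρ₁2, Points.map_comp, hπ₂2,
      hπ₁2]

theorem finite_fibre_pullback_of_mono_point {X Y Z W : Sp S} (hX : IsAlgSpace X)
    (hY : IsAlgSpace Y) {f : X ⟶ Y} {g : Z ⟶ Y} {p : W ⟶ X} {q : W ⟶ Z} (hW : IsPullback p q f g)
    (x : Points X) (z : Points Z) (hxz : Points.map f x = Points.map g z) (r : FieldPt Y)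
    (hr : Points.mk r = Points.map g z) [Mono r.toHom]
    (hg : HasAtMor (fun U _ h u => ∃ W : U.Opens, u ∈ W ∧ LocallyQuasiFinite (W.ι ≫ h) ∧
      LocallyOfFiniteType (W.ι ≫ h)) g z) :
    {w : Points W | Points.map p w = x ∧ Points.map q w = z}.Finite := by
  obtain ⟨V, VY, b, bY, h, v, hb, hbY, hcomm, hv, Wo, hvWo, hlqf, -⟩ := hg
  let V' : Over S := Over.mk (Wo.ι ≫ V.hom)
  let ι' : V' ⟶ V := Over.homMk Wo.ι rfl
  let b' : (yon S).obj V' ⟶ Z := (yon S).map ι' ≫ b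
  let v' : ↥V'.left := ⟨v, hvWo⟩
  have hv' : Points.ofPt b' v' = z := by
    rw [Groth.Agent.Helper4.AlgSpPtsDesc.ofPt_yon_map_comp]; exact hv
  have hβeq : b' ≫ g = (yon S).map (ι' ≫ h) ≫ bY := by
    rw [Category.assoc, hcomm, ← Category.assoc, ← Functor.map_comp]
  have hβ : RepWith @LocallyQuasiFinite (b' ≫ g) := by
    rw [hβeq]
    exact Groth.Agent.Helper4.AlgSpSrc.repWith_comp @LocallyQuasiFinite
      ((repWith_yon_map_iff _ _).2 (show LocallyQuasiFinite (ι' ≫ h).left from hlqf))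
      (repWith_lqf_of_etale bY hbY)
  obtain ⟨U, a, u, ha, hu⟩ := exists_chart_point hX x
  have hα : Representable (a ≫ f) := hY.representable_from_yon _
  have sqP := hα.isPullback (b' ≫ g)
  obtain ⟨pa, hpa⟩ := (yon S).map_surjective (hα.fst (b' ≫ g))
  rw [← hpa] at sqP
  clear hpa
  generalize hα.snd (b' ≫ g) = pb at sqP
  generalize hα.pullback (b' ≫ g) = P at pa pb sqP
  have hau : Points.ofPt (a ≫ f) u = Points.mk r := by rw [ofPt_comp, hu, hxz, hr]
  have hbv : Points.ofPt (b' ≫ g) v' = Points.mk r := by rw [ofPt_comp, hv', hr]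
  have hF := finite_fibre_of_mono_point r (a ≫ f) (b' ≫ g) hα hβ u v' hau hbv P pa pb sqP
  have hw : ((yon S).map pa ≫ a) ≫ f = ((yon S).map pb ≫ b') ≫ g := by
    rw [Category.assoc, Category.assoc]; exact sqP.w
  let ρ : (yon S).obj P ⟶ W := hW.lift _ _ hw
  refine (hF.image (Points.ofPt ρ)).subset ?_
  rintro w ⟨hw1, hw2⟩
  obtain ⟨π, hπ1, hπ2, hπ3⟩ := exists_chart_point_of_isPullback hW a b' pa pb sqP ρ
    (hW.lift_fst _ _ _) (hW.lift_snd _ _ _) u v' w (by rw [hw1, hu]) (by rw [hw2, hv'])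
  exact ⟨π, ⟨hπ1, hπ2⟩, hπ3⟩

end Groth.Agent.Helper5.MonoPt
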