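import Groth.Prelude.Def_AlgSp4
import Groth.Agent.Helper5.AlgSpProper
import Mathlib

set_option autoImplicit false
universe u
open CategoryTheory CategoryTheory.Limits AlgebraicGeometry Opposite

namespace Groth.Agent.Helper5.AlgSpFin

open AlgSp Groth.Agent.Helper4.SDClasses Groth.Agent.Helper5.AlgSpProper

variable {S : Scheme.{u}}

/-- A proper morphism of schemes gives a proper morphism of sheaves. -/
theorem isProperMor_yon_map {W Z : Over S} (i : W ⟶ Z) (hi : IsProper i.left) :
    IsProperMor ((yon S).map i) := by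
  have hG := good_lft.{u}
  have := hG.comp
  refine ⟨(isSeparatedMor_yon_map_iff i).2 inferInstance, ⟨?_, ?_⟩, ?_⟩
  · exact Groth.Agent.Helper4.AlgSpLocP.locP_of_repWith @LocallyOfFiniteType @LocallyOfFiniteType
      (fun g hg => hg) (fun g hg => hG.etale_le g hg) _
      ((repWith_yon_map_iff _ _).2 (inferInstance : LocallyOfFiniteType i.left))
  · exact Groth.Agent.Helper4.AlgSpQC.isQuasiCompactMor_of_repWith _
      ((repWith_yon_map_iff _ _).2 (inferInstance : QuasiCompact i.left))
  · exact Groth.Agent.Helper4.AlgSpPtsDesc.isUnivClosedMor_of_repWith _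
      ((repWith_yon_map_iff _ _).2 (inferInstance : UniversallyClosed i.left))

theorem universallyClosed_of_isUnivClosedMor_yon_map {W Z : Over S} (i : W ⟶ Z)
    (h : IsUnivClosedMor ((yon S).map i)) : UniversallyClosed i.left :=
  (repWith_yon_map_iff _ _).1
    (Groth.Agent.Helper4.AlgSpPtsDesc.repWith_univClosed_of_isUnivClosedMor _
      (representable_yon_map i) h)

/-- A proper morphism of sheaves between representables is a proper morphism of schemes. -/
theorem isProper_of_isProperMor_yon_map {W Z : Over S} (i : W ⟶ Z)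
    (h : IsProperMor ((yon S).map i)) : IsProper i.left := by
  obtain ⟨h1, ⟨h2, -⟩, h4⟩ := h
  have e1 : IsSeparated i.left := (isSeparatedMor_yon_map_iff i).1 h1
  have e2 : LocallyOfFiniteType i.left := locP_yon_map h2
  have e3 : UniversallyClosed i.left := universallyClosed_of_isUnivClosedMor_yon_map i h4
  exact {}

/-- Precomposing with an isomorphism preserves properness. -/
theorem isProperMor_iso_comp {P P' Z : Sp S} (hP' : IsAlgSpace P')
    (hZ : Representable (Limits.diag Z)) (e : P ≅ P') (g : P' ⟶ Z) (hg : IsProperMor g) :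
    IsProperMor (e.hom ≫ g) := by
  have inst : (RepWith (S := S) @IsClosedImmersion).IsMultiplicative :=
    repWith_isMultiplicative (S := S) @IsClosedImmersion
  have h1 : RepWith @IsClosedImmersion e.hom :=
    MorphismProperty.of_isIso (RepWith @IsClosedImmersion) e.hom
  exact isProperMor_comp hP' hZ e.hom g (isProperMor_of_closedImmersion _ h1) hg

/-- Precomposing with an isomorphism preserves universal closedness. -/
theorem isUnivClosedMor_iso_comp {P P' Z : Sp S} (hP' : IsAlgSpace P')
    (hZ : Representable (Limits.diag Z)) (e : P ≅ P') (g : P' ⟶ Z) (hg : IsUnivClosedMor g) :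
    IsUnivClosedMor (e.hom ≫ g) := by
  have inst : (RepWith (S := S) @IsClosedImmersion).IsMultiplicative :=
    repWith_isMultiplicative (S := S) @IsClosedImmersion
  have h1 : RepWith @IsClosedImmersion e.hom :=
    MorphismProperty.of_isIso (RepWith @IsClosedImmersion) e.hom
  exact Groth.Agent.Helper4.AlgSpSrc.isUnivClosedMor_comp hP' hZ e.hom g
    (isUnivClosedMor_of_closedImmersion _ h1) hg

/-- Comparison of an arbitrary pullback with a represented one. -/
theorem exists_iso_of_isPullback {X Y P Z W : Sp S} {f : X ⟶ Y} {g : Z ⟶ Y}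
    {fst : P ⟶ X} {snd : P ⟶ Z} (sq : IsPullback fst snd f g)
    {fst' : W ⟶ X} {snd' : W ⟶ Z} (sq' : IsPullback fst' snd' f g) :
    ∃ e : P ≅ W, e.hom ≫ snd' = snd ∧ e.hom ≫ fst' = fst :=
  ⟨sq.isoIsPullback _ _ sq', sq.isoIsPullback_hom_snd _ _ sq', sq.isoIsPullback_hom_fst _ _ sq'⟩


/-- Integral = affine + universally closed. -/
theorem isIntegralMor_iff {X Y : Sp S} (f : X ⟶ Y) :
    IsIntegralMor f ↔ (IsAffineMor f ∧ IsUnivClosedMor f) := by
  constructor
  · intro h
    refine ⟨fun Z hZ g => ?_, ?_⟩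
    · obtain ⟨W, i, fst, sq, hW, -⟩ := h hZ g
      exact ⟨W, i, fst, sq, hW⟩
    · apply Groth.Agent.Helper4.AlgSpPtsDesc.univClosed_of_affine
      intro Z hZ g P fst snd sq
      obtain ⟨W, i, fst', sq', hW, hi⟩ := h hZ g
      obtain ⟨e, he, -⟩ := exists_iso_of_isPullback sq sq'
      have : IsIntegralHom i.left := hi
      have hc : IsClosedMap (Points.map ((yon S).map i)) :=
        (Groth.Agent.Helper4.AlgSpPtsDesc.isClosedMap_points_yon_map_iff i).2 i.left.isClosedMap
      have e2 : Points.map snd = Points.map ((yon S).map i) ∘ Points.map e.hom := by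
        funext x
        rw [Function.comp_apply, ← Points.map_comp, he]
      rw [e2]
      exact hc.comp (Groth.Agent.Helper4.AlgSpPtsDesc.isClosedMap_points_map_iso e)
  · rintro ⟨ha, huc⟩ Z hZ g
    obtain ⟨W, i, fst, sq, hW⟩ := ha hZ g
    have h1 : IsUnivClosedMor ((yon S).map i) :=
      Groth.Agent.Helper4.AlgSpUC.univSp_of_isPullback _ sq huc
    have h2 : UniversallyClosed i.left := universallyClosed_of_isUnivClosedMor_yon_map i h1
    have : IsAffine W.left := hW
    have : IsAffine Z.left := hZ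
    have h3 : IsAffineHom i.left := inferInstance
    exact ⟨W, i, fst, sq, hW, IsIntegralHom.iff_universallyClosed_and_isAffineHom.2 ⟨h2, h3⟩⟩

/-- Finite ⇒ proper on affine base changes. -/
theorem isProperMor_snd_of_isFiniteMor {X Y : Sp S} (f : X ⟶ Y) (h : IsFiniteMor f)
    (Z : Over S) (hZ : IsAffine Z.left) (g : (yon S).obj Z ⟶ Y) (P : Sp S) (fst : P ⟶ X)
    (snd : P ⟶ (yon S).obj Z) (sq : IsPullback fst snd f g) : IsProperMor snd := by
  obtain ⟨W, i, fst', sq', hW, hi⟩ := h hZ g
  obtain ⟨e, he, -⟩ := exists_iso_of_isPullback sq sq'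
  have : IsFinite i.left := hi
  rw [← he]
  exact isProperMor_iso_comp (IsAlgSpace.yon_obj W) (IsAlgSpace.yon_obj Z).diag e _
    (isProperMor_yon_map i inferInstance)

/-- Affine + proper ⇒ finite. -/
theorem isFiniteMor_of_affine_proper {X Y : Sp S} (hX : IsAlgSpace X) (hY : IsAlgSpace Y)
    (f : X ⟶ Y) (ha : IsAffineMor f) (hp : IsProperMor f) : IsFiniteMor f := by
  intro Z hZ g
  obtain ⟨W, i, fst, sq, hW⟩ := ha hZ g
  have h1 : IsProperMor ((yon S).map i) := isProperMor_of_isPullback hX hY sq hp
  have h2 : IsProper i.left := isProper_of_isProperMor_yon_map i h1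
  have : IsAffine W.left := hW
  have : IsAffine Z.left := hZ
  have h3 : IsAffineHom i.left := inferInstance
  exact ⟨W, i, fst, sq, hW, IsFinite.iff_isProper_and_isAffineHom.2 ⟨h2, h3⟩⟩

theorem isAffineMor_of_isFiniteMor {X Y : Sp S} (f : X ⟶ Y) (h : IsFiniteMor f) :
    IsAffineMor f := by
  intro Z hZ g
  obtain ⟨W, i, fst, sq, hW, -⟩ := h hZ g
  exact ⟨W, i, fst, sq, hW⟩

end Groth.Agent.Helper5.AlgSpFin
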