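import Groth.Prelude.Def_AlgSp4
import Groth.Agent.Helper5.AlgSpFin
import Mathlib

set_option autoImplicit false
universe u
open CategoryTheory CategoryTheory.Limits AlgebraicGeometry Opposite

namespace Groth.Agent.Helper5.AlgSpAff

open AlgSp Groth.Agent.Helper5.AlgSpProper

variable {S : Scheme.{u}}

/-- Affine morphisms are stable under base change. -/
theorem isAffineMor_of_isPullback {X Y X' Y' : Sp S} {f : X ⟶ Y} {g : Y' ⟶ Y}
    {fst : X' ⟶ X} {f' : X' ⟶ Y'} (sq : IsPullback fst f' f g) (hf : IsAffineMor f) :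
    IsAffineMor f' := by
  intro Z hZ k
  obtain ⟨W, i, c, sqW, hW⟩ := hf hZ (k ≫ g)
  refine ⟨W, i, sq.lift c ((yon S).map i ≫ k) (by rw [sqW.w, Category.assoc]), ?_, hW⟩
  refine IsPullback.of_right ?_ (sq.lift_snd _ _ _) sq
  rw [sq.lift_fst]
  exact sqW

/-- Affine morphisms are stable under composition. -/
theorem isAffineMor_comp {A B C : Sp S} (f : A ⟶ B) (g : B ⟶ C) (hf : IsAffineMor f)
    (hg : IsAffineMor g) : IsAffineMor (f ≫ g) := by
  intro Z hZ k
  obtain ⟨W, i, c, sqW, hW⟩ := hg hZ k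
  obtain ⟨W', i', c', sqW', hW'⟩ := hf hW c
  refine ⟨W', i' ≫ i, c', ?_, hW'⟩
  rw [Functor.map_comp]
  exact sqW'.paste_vert sqW

/-- A representable closed immersion is an affine morphism. -/
theorem isAffineMor_of_closedImmersion {X Y : Sp S} (f : X ⟶ Y)
    (hf : RepWith @IsClosedImmersion f) : IsAffineMor f := by
  intro Z hZ k
  have hr := hf.rep
  have hpb : IsPullback (hr.fst k) ((yon S).map (hr.snd k)) f k := hr.isPullback k
  have h1 : IsClosedImmersion (hr.snd k).left := hf.property _ _ _ hpb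
  have : IsAffine Z.left := hZ
  exact ⟨_, hr.snd k, hr.fst k, hpb, isAffine_of_isAffineHom (hr.snd k).left⟩

/-- Cancellation for affine morphisms over a separated target. -/
theorem isAffineMor_of_comp_separated {X Y B : Sp S} (f : X ⟶ Y) (q : Y ⟶ B)
    (hq : IsSeparatedMor q) (hp : IsAffineMor (f ≫ q)) : IsAffineMor f := by
  have sq : IsPullback (pullback.fst (f ≫ q) q) (pullback.snd (f ≫ q) q) (f ≫ q) q :=
    IsPullback.of_hasPullback _ _
  have h1 := isAffineMor_of_closedImmersion _ (graph_closedImmersion f q hq)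
  have h2 : IsAffineMor (pullback.snd (f ≫ q) q) := isAffineMor_of_isPullback sq hp
  have := isAffineMor_comp _ _ h1 h2
  rwa [graph_snd] at this

end Groth.Agent.Helper5.AlgSpAff
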