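import Groth.Prelude.Def_AlgSp4
import Groth.Agent.Helper4.AlgSpLocP2
import Groth.Agent.Helper4.AlgSpDesc2
import Groth.Agent.Helper4.AlgSpDiag
import Groth.Agent.Helper4.SDClasses
import Groth.Agent.Helper5.AlgSpIso
import Mathlib

set_option autoImplicit false
universe u
open CategoryTheory CategoryTheory.Limits AlgebraicGeometry Opposite

namespace Groth.Agent.Helper5.AlgSpUnram

open AlgSp Groth.Agent.Helper4.SDClasses

variable {S : Scheme.{u}}

/-- The basic square: for `a : h_U ⟶ X` and `f : X ⟶ Y` with represented fibre products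
`R₀ = U ×_X U`, `R'₀ = U ×_Y U`, the diagonal of `f` pulls back to `R₀ ⟶ R'₀`. -/
theorem isPullback_diagonal_chart {X Y : Sp S} (f : X ⟶ Y) {U R₀ R'₀ : Over S}
    (a : (yon S).obj U ⟶ X) (p₁ p₂ : R₀ ⟶ U) (q₁ q₂ : R'₀ ⟶ U)
    (sqR : IsPullback ((yon S).map p₁) ((yon S).map p₂) a a)
    (sqR' : IsPullback ((yon S).map q₁) ((yon S).map q₂) (a ≫ f) (a ≫ f))
    (m₀ : R₀ ⟶ R'₀) (hm1 : m₀ ≫ q₁ = p₁) (hm2 : m₀ ≫ q₂ = p₂)
    (cov : (yon S).obj R'₀ ⟶ pullback f f)
    (hc1 : cov ≫ pullback.fst f f = (yon S).map q₁ ≫ a)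
    (hc2 : cov ≫ pullback.snd f f = (yon S).map q₂ ≫ a) :
    IsPullback ((yon S).map p₁ ≫ a) ((yon S).map m₀) (pullback.diagonal f) cov := by
  have w : ((yon S).map p₁ ≫ a) ≫ pullback.diagonal f = (yon S).map m₀ ≫ cov := by
    apply pullback.hom_ext
    · simp only [Category.assoc, pullback.diagonal_fst, Category.comp_id, hc1]
      rw [← Category.assoc, ← Functor.map_comp, hm1]
    · simp only [Category.assoc, pullback.diagonal_snd, Category.comp_id, hc2]
      rw [← Category.assoc, ← Functor.map_comp (yon S) m₀ q₂, hm2, sqR.w]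
  have key : ∀ s : PullbackCone (pullback.diagonal f) cov,
      s.fst = s.snd ≫ (yon S).map q₁ ≫ a ∧ s.fst = s.snd ≫ (yon S).map q₂ ≫ a := by
    intro s
    have h1 := s.condition =≫ pullback.fst f f
    have h2 := s.condition =≫ pullback.snd f f
    simp only [Category.assoc, pullback.diagonal_fst, pullback.diagonal_snd, Category.comp_id,
      hc1, hc2] at h1 h2
    exact ⟨h1, h2⟩
  refine ⟨⟨w⟩, ⟨PullbackCone.IsLimit.mk _
    (fun s => sqR.lift (s.snd ≫ (yon S).map q₁) (s.snd ≫ (yon S).map q₂) ?_) ?_ ?_ ?_⟩⟩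
  · simp only [Category.assoc]
    rw [← (key s).1, ← (key s).2]
  · intro s
    exact (sqR.lift_fst_assoc _ _ _ a).trans ((Category.assoc _ _ _).trans (key s).1.symm)
  · intro s
    apply sqR'.hom_ext
    · refine (Category.assoc _ _ _).trans ?_
      rw [← Functor.map_comp, hm1]
      exact sqR.lift_fst _ _ _
    · refine (Category.assoc _ _ _).trans ?_
      rw [← Functor.map_comp, hm2]
      exact sqR.lift_snd _ _ _
  · intro s k hk1 hk2
    have hk2' : k ≫ (yon S).map m₀ = s.snd := hk2
    have e1 : k ≫ (yon S).map p₁ = s.snd ≫ (yon S).map q₁ := by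
      calc k ≫ (yon S).map p₁ = k ≫ (yon S).map (m₀ ≫ q₁) := by rw [hm1]
        _ = (k ≫ (yon S).map m₀) ≫ (yon S).map q₁ := by rw [Functor.map_comp, Category.assoc]
        _ = s.snd ≫ (yon S).map q₁ := by rw [hk2']
    have e2 : k ≫ (yon S).map p₂ = s.snd ≫ (yon S).map q₂ := by
      calc k ≫ (yon S).map p₂ = k ≫ (yon S).map (m₀ ≫ q₂) := by rw [hm2]
        _ = (k ≫ (yon S).map m₀) ≫ (yon S).map q₂ := by rw [Functor.map_comp, Category.assoc]
        _ = s.snd ≫ (yon S).map q₂ := by rw [hk2']
    apply sqR.hom_ext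
    · exact e1.trans (sqR.lift_fst _ _ _).symm
    · exact e2.trans (sqR.lift_snd _ _ _).symm


set_option backward.isDefEq.respectTransparency.types false in
/-- The diagonal of an unramified morphism of algebraic spaces is an open immersion. -/
theorem repWith_openImmersion_diagonal_of_unram {X Y : Sp S} (hX : IsAlgSpace X)
    (hY : IsAlgSpace Y) (f : X ⟶ Y)
    (hf : LocP (@LocallyOfFiniteType ⊓ @FormallyUnramified) f) :
    RepWith @IsOpenImmersion (pullback.diagonal f) := by
  have hG := good_unram.{u}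
  have iBC := hG.bc
  have iComp := hG.comp
  have iMul : (@LocallyOfFiniteType ⊓ @FormallyUnramified :
      MorphismProperty Scheme.{u}).IsMultiplicative :=
    { id_mem := fun A => hG.etale_le _ inferInstance }
  obtain ⟨U₀, a₀, ha₀e, ha₀s⟩ := hX.atlas
  obtain ⟨V, b, hbe, hbs⟩ := hY.atlas
  obtain ⟨U, e, c, -, -, hae, has, hcomm, -⟩ :=
    Groth.Agent.Helper4.AlgSpLocP2.exists_chart f a₀ ha₀e ha₀s b hbe hbs
  generalize (yon S).map e ≫ a₀ = a at hae has hcomm
  have hc : (@LocallyOfFiniteType ⊓ @FormallyUnramified : MorphismProperty Scheme.{u}) c.left :=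
    hf a b c hae hbe hcomm
  have haf : RepWith (@LocallyOfFiniteType ⊓ @FormallyUnramified) (a ≫ f) := by
    rw [hcomm]
    exact Groth.Agent.Helper4.AlgSpSrc.repWith_comp _ ((repWith_yon_map_iff _ _).2 hc)
      (Groth.Agent.Helper4.AlgSpSrc.repWith_mono (fun g hg => hG.etale_le g hg) hbe)
  have hr := hae.rep
  have hr' := haf.rep
  have sqR : IsPullback ((yon S).map (hr.fst' a)) ((yon S).map (hr.snd a)) a a := hr.isPullback' a
  have sqR' : IsPullback ((yon S).map (hr'.fst' (a ≫ f))) ((yon S).map (hr'.snd (a ≫ f)))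
      (a ≫ f) (a ≫ f) := hr'.isPullback' (a ≫ f)
  have hp₁ : Etale (hr.fst' a).left := hae.property _ _ _ sqR.flip
  have hq₁ : (@LocallyOfFiniteType ⊓ @FormallyUnramified : MorphismProperty Scheme.{u})
      (hr'.fst' (a ≫ f)).left := haf.property _ _ _ sqR'.flip
  generalize hr.fst' a = p₁ at sqR hp₁
  generalize hr.snd a = p₂ at sqR
  generalize hr.pullback a = R₀ at p₁ p₂ sqR
  generalize hr'.fst' (a ≫ f) = q₁ at sqR' hq₁
  generalize hr'.snd (a ≫ f) = q₂ at sqR'
  generalize hr'.pullback (a ≫ f) = R'₀ at q₁ q₂ sqR'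
  -- the comparison map
  have hcm : (yon S).map p₁ ≫ a ≫ f = (yon S).map p₂ ≫ a ≫ f := by
    rw [← Category.assoc, sqR.w, Category.assoc]
  obtain ⟨m₀, hm₀⟩ := (yon S).map_surjective (sqR'.lift _ _ hcm)
  have hm1 : m₀ ≫ q₁ = p₁ := by
    apply (yon S).map_injective
    rw [Functor.map_comp, hm₀, sqR'.lift_fst]
  have hm2 : m₀ ≫ q₂ = p₂ := by
    apply (yon S).map_injective
    rw [Functor.map_comp, hm₀, sqR'.lift_snd]
  -- the cover
  have i1 := repWith_isStableUnderBaseChange (S := S) @Etale
  have i2 := (repWith_isMultiplicative (S := S) @Etale).toIsStableUnderComposition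
  have i3 := repWith_isStableUnderBaseChange (S := S) @Surjective
  have i4 := (repWith_isMultiplicative (S := S) @Surjective).toIsStableUnderComposition
  have hcovE : RepWith @Etale (pullback.map (a ≫ f) (a ≫ f) f f a a (𝟙 Y)
      ((Category.comp_id _).trans rfl) ((Category.comp_id _).trans rfl)) :=
    MorphismProperty.pullbackMap hae hae rfl rfl
  have hcovS : RepWith @Surjective (pullback.map (a ≫ f) (a ≫ f) f f a a (𝟙 Y)
      ((Category.comp_id _).trans rfl) ((Category.comp_id _).trans rfl)) :=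
    MorphismProperty.pullbackMap has has rfl rfl
  let cov : (yon S).obj R'₀ ⟶ pullback f f := sqR'.isoPullback.hom ≫
    pullback.map (a ≫ f) (a ≫ f) f f a a (𝟙 Y)
      ((Category.comp_id _).trans rfl) ((Category.comp_id _).trans rfl)
  have hc1 : cov ≫ pullback.fst f f = (yon S).map q₁ ≫ a := by
    simp only [cov, Category.assoc, pullback.lift_fst, pullback.map]
    rw [← Category.assoc, sqR'.isoPullback_hom_fst]
  have hc2 : cov ≫ pullback.snd f f = (yon S).map q₂ ≫ a := by
    simp only [cov, Category.assoc, pullback.lift_snd, pullback.map]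
    rw [← Category.assoc, sqR'.isoPullback_hom_snd]
  have hcovE' : RepWith @Etale cov :=
    (MorphismProperty.cancel_left_of_respectsIso (RepWith (S := S) @Etale) _ _).2 hcovE
  have hcovS' : RepWith @Surjective cov :=
    (MorphismProperty.cancel_left_of_respectsIso (RepWith (S := S) @Surjective) _ _).2 hcovS
  have Sq := isPullback_diagonal_chart f a p₁ p₂ q₁ q₂ sqR sqR' m₀ hm1 hm2 cov hc1 hc2
  -- `m₀` is an open immersion
  have hmono1 : Mono ((yon S).map m₀) := Sq.mono_snd_of_mono
  have hmono2 : Mono m₀ := (yon S).mono_of_mono_map hmono1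
  have hmono3 : Mono m₀.left := inferInstance
  have hq1 : LocallyOfFiniteType q₁.left := hq₁.1
  have hq2 : FormallyUnramified q₁.left := hq₁.2
  have hcomp : Etale (m₀.left ≫ q₁.left) := by
    rw [← Over.comp_left, hm1]; exact hp₁
  have hmet : Etale m₀.left := Etale.of_comp (f := m₀.left) q₁.left
  have hopen : IsOpenImmersion m₀.left := IsOpenImmersion.of_flat_of_mono _
  refine Groth.Agent.Helper4.AlgSpDesc.repWith_descend @IsOpenImmersion ?_ Sq
    (Groth.Agent.Helper4.AlgSpSrc.repWith_mono (fun g hg => by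
      have : Etale g := hg
      infer_instance) hcovE')
    (Groth.Agent.Helper4.AlgSpSrc.repWith_mono (fun g hg => by
      have : Etale g := hg
      infer_instance) hcovE') hcovS'
    (Groth.Agent.Helper4.AlgSpDesc2.representable_diagonal hX.diag f)
    ((repWith_yon_map_iff _ _).2 hopen)
  intro A X' Y' Z' fst snd f' g' h h1 h2 h3 h4
  exact MorphismProperty.of_isPullback_of_descendsAlong (P := @IsOpenImmersion)
    (Q := (@Surjective ⊓ @Flat ⊓ @LocallyOfFinitePresentation)) h ⟨⟨h1, h2⟩, h3⟩ h4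


set_option backward.isDefEq.respectTransparency.types false in
/-- A morphism locally of finite type whose diagonal is an open immersion is unramified. -/
theorem locP_unram_of_diagonal_openImmersion {X Y : Sp S} (hX : IsAlgSpace X)
    (f : X ⟶ Y) (hl : LocP @LocallyOfFiniteType f)
    (hd : RepWith @IsOpenImmersion (pullback.diagonal f)) :
    LocP (@LocallyOfFiniteType ⊓ @FormallyUnramified) f := by
  have hG := good_unram.{u}
  have iComp := hG.comp
  intro U V a b h ha hb comm
  have hau : LocP (@LocallyOfFiniteType ⊓ @FormallyUnramified) a :=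
    Groth.Agent.Helper4.AlgSpLocP.locP_of_repWith _ @Etale (fun g hg => hG.etale_le g hg)
      (fun g hg => hG.etale_le g hg) a ha
  have h1 : (RepWith (S := S) @IsOpenImmersion).diagonal a :=
    repWith_openImmersion_diagonal_of_unram (IsAlgSpace.yon_obj U) hX a hau
  have i1 := repWith_isStableUnderBaseChange (S := S) @IsOpenImmersion
  have i2 := (repWith_isMultiplicative (S := S) @IsOpenImmersion).toIsStableUnderComposition
  have i3 : (RepWith (S := S) @IsOpenImmersion).RespectsIso :=
    MorphismProperty.IsStableUnderBaseChange.respectsIso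
  have hd' : (RepWith (S := S) @IsOpenImmersion).diagonal f := hd
  have h2 : (RepWith (S := S) @IsOpenImmersion).diagonal (a ≫ f) :=
    MorphismProperty.comp_mem _ a f h1 hd'
  rw [comm] at h2
  have h3 : (RepWith (S := S) @IsOpenImmersion).diagonal ((yon S).map h) :=
    Groth.Agent.Helper4.AlgSpPB.diagonal_of_comp _ _ b h2
  have h4 : IsOpenImmersion (pullback.diagonal h.left) :=
    (repWith_diagonal_yon_map_iff _ h).1 h3
  have h5 : LocallyOfFiniteType h.left := hl a b h ha hb comm
  exact ⟨h5, inferInstance⟩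

end Groth.Agent.Helper5.AlgSpUnram
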