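import Groth.Prelude.Def_AlgSp4
import Groth.Agent.Helper5.AlgSpUnram
import Groth.Agent.Helper5.AlgSpEt2
import Groth.Agent.Helper5.AlgSpOpen
import Groth.Agent.Helper4.AlgSpInj
import Groth.Agent.S9872
import Mathlib

set_option autoImplicit false
universe u
open CategoryTheory CategoryTheory.Limits AlgebraicGeometry Opposite

namespace Groth.Agent.Helper5.AlgSpEtInj

open AlgSp Groth.Agent.Helper4.SDClasses Groth.Agent.Helper4.AlgSpOpenImage

variable {S : Scheme.{u}}

/-- An étale, universally injective morphism is a monomorphism. -/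
theorem mono_of_etale_univInjective {X Y : Sp S} (hX : IsAlgSpace X) (hY : IsAlgSpace Y)
    (f : X ⟶ Y) (het : IsEtaleMor f) (hinj : IsUnivInjectiveMor f) : Mono f := by
  have h1 : LocP (@LocallyOfFiniteType ⊓ @FormallyUnramified) f :=
    Groth.Agent.Helper5.AlgSpEt.locP_of_isEtaleMor _ (fun g hg => good_unram.etale_le g hg) f het
  have h2 := Groth.Agent.Helper5.AlgSpUnram.repWith_openImmersion_diagonal_of_unram hX hY f h1
  have h3 : IsSurjectiveMor (pullback.diagonal f) :=
    (Groth.Agent.Helper4.AlgSpInj.univInjective_cycle hX f).2.1 hinj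
  have h4 : RepWith @Surjective (pullback.diagonal f) :=
    Groth.Agent.Helper4.AlgSpPts.repWith_surjective_of_isSurjectiveMor _ h2.rep h3
  have h5 : IsIso (pullback.diagonal f) :=
    Groth.Agent.Helper5.AlgSpIso.isIso_of_openImmersion_surjective _ h2 h4
  exact (pullback.isIso_diagonal_iff f).1 h5

/-- An étale monomorphism of algebraic spaces is an open immersion. -/
theorem repWith_openImmersion_of_etale_mono {X Y : Sp S} (hX : IsAlgSpace X)
    (f : X ⟶ Y) (het : IsEtaleMor f) [Mono f] : RepWith @IsOpenImmersion f := by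
  obtain ⟨U, a, hae, has⟩ := hX.atlas
  have hg : RepWith @Etale (a ≫ f) := het a hae
  have hι := imgι_isOpenImmersion (a ≫ f) hg
  have hrange : Set.range (Points.map f) ⊆ Set.range (Points.map (imgι (a ≫ f))) := by
    rw [Groth.Agent.Helper5.AlgSpOpen.range_imgι _ hg]
    rintro _ ⟨x, rfl⟩
    obtain ⟨t, rfl⟩ := Groth.Agent.Helper5.AlgSpOpen.ofPt_surjective_of_repWith a has x
    exact ⟨t, (Points.map_ofPt a f t).symm⟩
  obtain ⟨k, hk⟩ := Groth.Agent.Helper5.AlgSpIso.exists_factor_open _ hι f hrange
  have hak : a ≫ k = toImg (a ≫ f) := by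
    rw [← cancel_mono (imgι (a ≫ f)), Category.assoc, hk, toImg_ι]
  have hepi : Epi (toImg (a ≫ f)) :=
    Groth.Agent.S9872.epi_of_atlas S _ _ (toImg_etale _ hg) (toImg_surjective _ hg)
  have hkepi : Epi k := by
    rw [← hak] at hepi
    exact epi_of_epi a k
  have hkmono : Mono k := by
    have : Mono (k ≫ imgι (a ≫ f)) := by rw [hk]; infer_instance
    exact mono_of_mono k (imgι (a ≫ f))
  have hkiso : IsIso k := isIso_of_mono_of_epi k
  rw [← hk]
  have i3 : (RepWith (S := S) @IsOpenImmersion).RespectsIso :=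
    MorphismProperty.IsStableUnderBaseChange.respectsIso
  exact (MorphismProperty.cancel_left_of_respectsIso (RepWith (S := S) @IsOpenImmersion) k _).2 hι

theorem repWith_openImmersion_of_etale_univInjective {X Y : Sp S} (hX : IsAlgSpace X)
    (hY : IsAlgSpace Y) (f : X ⟶ Y) (het : IsEtaleMor f) (hinj : IsUnivInjectiveMor f) :
    RepWith @IsOpenImmersion f := by
  have := mono_of_etale_univInjective hX hY f het hinj
  exact repWith_openImmersion_of_etale_mono hX f het

end Groth.Agent.Helper5.AlgSpEtInj
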