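import Groth.Agent.Helper5.FpqcRef
import Groth.Agent.Helper5.FpqcUniv
import Groth.Agent.Helper5.SrcEt
import Groth.Agent.Helper4.AlgSpPtsDesc
import Groth.Agent.Helper4.AlgSpLocPBC
import Groth.Agent.Helper4.AlgSpPB
import Mathlib

set_option autoImplicit false
universe u
open CategoryTheory CategoryTheory.Limits AlgebraicGeometry Opposite

namespace Groth.Agent.Helper5.SrcFlat

open AlgSp Groth.Agent.Helper4.SDClasses Groth.Agent.Helper5.FpqcRef
open Groth.Agent.Helper4.AlgSpPtsDesc

variable {S : Scheme.{u}}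

/-- Flatness can be checked after precomposing with a jointly surjective family of flat maps. -/
theorem flat_of_family {U V : Scheme.{u}} (k : U ⟶ V)
    (H : ∀ u : U, ∃ (A : Scheme.{u}) (e : A ⟶ U) (a : A), Flat e ∧ e a = u ∧ Flat (e ≫ k)) :
    Flat k := by
  rw [Flat.iff_flat_stalkMap]
  intro u
  obtain ⟨A, e, u', he, rfl, hek⟩ := H u
  have h1 : ((e ≫ k).stalkMap u').hom.Flat := Flat.stalkMap _ u'
  rw [Scheme.Hom.stalkMap_comp] at h1
  have h2 : (e.stalkMap u').hom.Flat := Flat.stalkMap _ u'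
  have h3 : (e.stalkMap u').hom.FaithfullyFlat := by
    algebraize [(e.stalkMap u').hom]
    have : IsLocalHom (algebraMap (U.presheaf.stalk (e u')) (A.presheaf.stalk u')) := by
      show IsLocalHom (e.stalkMap u').hom
      infer_instance
    exact (RingHom.faithfullyFlat_algebraMap_iff).2 Module.FaithfullyFlat.of_flat_of_isLocalHom
  exact Groth.Agent.Helper4.AlgSpLocPBC.ringHom_flat_of_comp _ _ h3 h1

/-- fpqc coverings are jointly surjective on points (tested on a scheme point). -/
theorem exists_point_of_isFpqcCover {ι : Type u} {X : Sp S} (Xi : ι → Sp S) (g : ∀ i, Xi i ⟶ X)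
    (hcov : IsFpqcCover Xi g) {U : Over S} (a : (yon S).obj U ⟶ X) (u : ↥U.left) :
    ∃ (i : ι) (xi : Points (Xi i)), Points.map (g i) xi = Points.ofPt a u := by
  obtain ⟨A, hA, huA, -⟩ :=
    (U.left.isBasis_affineOpens.exists_subset_of_mem_open (Set.mem_univ u) isOpen_univ)
  obtain ⟨W', hW, rfl⟩ := hA
  let T : U.left.affineOpens := ⟨W', hW⟩
  obtain ⟨m, W, c, hWa, hcf, hcs, hl⟩ := hcov.2 (affOver U T) T.2 ((yon S).map (affι U T) ≫ a)
  obtain ⟨t, ht⟩ : ∃ t : ↥(affOver U T).left, (affι U T).left t = u := by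
    have : u ∈ Set.range T.1.ι := by
      rw [Scheme.Opens.range_ι]; exact huA
    exact this
  obtain ⟨j, w, hw⟩ := hcs t
  obtain ⟨i, l, hl⟩ := hl j
  refine ⟨i, Points.ofPt l w, ?_⟩
  rw [← Groth.Agent.Helper4.AlgSpQC2.ofPt_eq_map_schemeHomeo, ← Points.map_comp, hl,
    Groth.Agent.Helper4.AlgSpQC2.ofPt_eq_map_schemeHomeo, ofPt_yon_map_comp, ofPt_yon_map_comp,
    hw, ht]

set_option backward.isDefEq.respectTransparency.types false in
/-- a flat chart of the base change of a flat morphism through a given point -/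
theorem exists_flat_chart {X Y : Sp S} (hX : IsAlgSpace X) (hY : IsAlgSpace Y) (f : Y ⟶ X)
    (hf1 : LocP @Flat f) (Z : Over S) (h : (yon S).obj Z ⟶ X) (z : ↥Z.left) (y : Points Y)
    (hy : Points.map f y = Points.map h (Points.schemeHomeo Z z)) :
    ∃ (V : Over S) (c : V ⟶ Z) (l : (yon S).obj V ⟶ Y) (v : ↥V.left),
      Flat c.left ∧ c.left v = z ∧ l ≫ f = (yon S).map c ≫ h ∧
      (RepWith @Etale h → RepWith @Etale l) := by
  have sq : IsPullback (pullback.fst f h) (pullback.snd f h) f h := IsPullback.of_hasPullback _ _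
  have hF : IsAlgSpace (pullback f h) :=
    Groth.Agent.Helper4.AlgSpPB.isAlgSpace_of_isPullback hX.diag hY (IsAlgSpace.yon_obj Z)
      f h _ _ sq
  obtain ⟨w, hw1, hw2⟩ := exists_point_of_isPullback sq y _ hy
  obtain ⟨A, a, hae, has⟩ := hF.atlas
  obtain ⟨r, hr⟩ := Groth.Agent.Helper4.AlgSpPts.isSurjectiveMor_of_repWith a has w
  obtain ⟨v, rfl⟩ := (Points.schemeHomeo A).surjective r
  obtain ⟨c, hc⟩ := (yon S).map_surjective (a ≫ pullback.snd f h)
  have hide : RepWith @Etale (𝟙 ((yon S).obj Z)) := repWith_id _ _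
  have hcomm : a ≫ pullback.snd f h = (yon S).map c ≫ 𝟙 _ := by
    rw [hc, Category.comp_id]
  have hG1 : Good (@Flat : MorphismProperty Scheme.{u}) := good_flat
  have hs1 : LocP @Flat (pullback.snd f h) := by
    have := hG1.bc
    have := hG1.comp
    exact Groth.Agent.Helper4.AlgSpLocPBC.locP_of_isPullback @Flat hG1.etale_le hG1.sd hY hX
      f h _ _ sq hf1
  refine ⟨A, c, a ≫ pullback.fst f h, v, hs1 _ _ c hae hide hcomm, ?_, ?_, fun hh => ?_⟩
  · apply (Points.schemeHomeo Z).injective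
    rw [← Points.map_yon_map_apply, hc, Points.map_comp, hr, hw2]
  · rw [Category.assoc, sq.w, ← Category.assoc, hc]
  · have i1 := repWith_isStableUnderBaseChange (S := S) @Etale
    have hfst : RepWith @Etale (pullback.fst f h) := MorphismProperty.of_isPullback sq.flip hh
    exact Groth.Agent.Helper4.AlgSpSrc.repWith_comp _ hae hfst

set_option backward.isDefEq.respectTransparency.types false in
theorem isLocalOnSource_fpqc_locP_flat :
    IsLocalOnSource (IsFpqcCover (S := S)) (LocP @Flat) := by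
  intro ι X Xi g hX hXi hcov Y f hY
  constructor
  · intro hf i
    exact Groth.Agent.Helper4.AlgSpLocPComp.locP_comp @Flat good_flat hX (g i) f (hcov.1 i) hf
  · intro hgf U V a b k hae hbe hcomm
    refine flat_of_family k.left fun u => ?_
    obtain ⟨i, xi, hxi⟩ := exists_point_of_isFpqcCover Xi g hcov a u
    rw [← Groth.Agent.Helper4.AlgSpQC2.ofPt_eq_map_schemeHomeo] at hxi
    obtain ⟨A, e, l, v, hef, hev, hl, hle⟩ :=
      exists_flat_chart hX (hXi i) (g i) (hcov.1 i) U a u xi hxi
    refine ⟨A.left, e.left, v, hef, hev, ?_⟩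
    have : l ≫ (g i ≫ f) = (yon S).map (e ≫ k) ≫ b := by
      rw [← Category.assoc, hl, Category.assoc, hcomm, Functor.map_comp, Category.assoc]
    exact hgf i l b (e ≫ k) (hle hae) hbe this

end Groth.Agent.Helper5.SrcFlat
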