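import Groth.Agent.Helper5.FpqcTop
import Groth.Agent.Helper5.SrcFlat
import Mathlib

set_option autoImplicit false
universe u
open CategoryTheory CategoryTheory.Limits AlgebraicGeometry Opposite

namespace Groth.Agent.Helper5.FpqcOpen

open AlgSp Groth.Agent.Helper4.SDClasses
open Groth.Agent.Helper4.AlgSpPtsDesc

variable {S : Scheme.{u}}

/-- openness can be tested on an fpqc covering -/
theorem isOpen_of_fpqc {ι : Type u} {T : Sp S} (Ti : ι → Sp S) (g : ∀ i, Ti i ⟶ T)
    (hcov : IsFpqcCover Ti g) (B : Set (Points T))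
    (h : ∀ i, IsOpen (Points.map (g i) ⁻¹' B)) : IsOpen B := by
  rw [Points.isOpen_iff]
  intro U k
  have e1 : Points.ofPt k ⁻¹' B =
      (Points.schemeHomeo U) ⁻¹' (Points.map k ⁻¹' B) := by
    ext t
    simp only [Set.mem_preimage, Groth.Agent.Helper4.AlgSpQC2.ofPt_eq_map_schemeHomeo]
  rw [e1]
  refine (isOpen_points_yon_of_affine U _ fun V => ?_).preimage (Points.schemeHomeo U).continuous
  obtain ⟨m, W, c, hWa, hcf, hcs, hl⟩ := hcov.2 (affOver U V) V.2 ((yon S).map (affι U V) ≫ k)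
  refine Groth.Agent.Helper5.FpqcTop.isOpen_points_of_forall_preimage c V.2 hWa hcf hcs _ fun j => ?_
  obtain ⟨i, l, hl⟩ := hl j
  have e2 : Points.map ((yon S).map (c j)) ⁻¹'
      (Points.map ((yon S).map (affι U V)) ⁻¹' (Points.map k ⁻¹' B)) =
      Points.map l ⁻¹' (Points.map (g i) ⁻¹' B) := by
    ext w
    simp only [Set.mem_preimage]
    rw [← Points.map_comp, ← Points.map_comp, ← Points.map_comp, hl]
  rw [e2]
  exact (h i).preimage (Points.continuous_map _)

/-- fpqc coverings are jointly surjective on points -/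
theorem exists_point_of_isFpqcCover' {ι : Type u} {T : Sp S} (Ti : ι → Sp S) (g : ∀ i, Ti i ⟶ T)
    (hcov : IsFpqcCover Ti g) (x : Points T) :
    ∃ (i : ι) (xi : Points (Ti i)), Points.map (g i) xi = x := by
  induction x using Points.ind with
  | h x =>
    obtain ⟨s⟩ : Nonempty ↥(Spec (CommRingCat.of x.K)) := inferInstance
    obtain ⟨i, xi, hxi⟩ :=
      Groth.Agent.Helper5.SrcFlat.exists_point_of_isFpqcCover Ti g hcov x.toHom s
    exact ⟨i, xi, by rw [hxi, Points.ofPt_toHom]⟩

theorem existsUnique_open_descend {ι : Type u} {T : Sp S} (Ti : ι → Sp S) (g : ∀ i, Ti i ⟶ T)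
    (hcov : IsFpqcCover Ti g) (Wi : ∀ i, Set (Points (Ti i))) (hW : ∀ i, IsOpen (Wi i))
    (hc : ∀ i j, Points.map (pullback.fst (g i) (g j)) ⁻¹' Wi i =
      Points.map (pullback.snd (g i) (g j)) ⁻¹' Wi j) :
    ∃! W : TopologicalSpace.Opens (Points T),
      ∀ i, Points.map (g i) ⁻¹' (W : Set (Points T)) = Wi i := by
  have key : ∀ i, Points.map (g i) ⁻¹' (⋃ j, Points.map (g j) '' Wi j) = Wi i := by
    intro i
    ext x
    simp only [Set.mem_preimage, Set.mem_iUnion, Set.mem_image]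
    constructor
    · rintro ⟨j, y, hy, hxy⟩
      obtain ⟨p, hp1, hp2⟩ :=
        exists_point_of_isPullback (IsPullback.of_hasPullback (g i) (g j)) x y hxy.symm
      have : p ∈ Points.map (pullback.snd (g i) (g j)) ⁻¹' Wi j := by
        rw [Set.mem_preimage, hp2]; exact hy
      rw [← hc i j, Set.mem_preimage, hp1] at this
      exact this
    · intro hx
      exact ⟨i, x, hx, rfl⟩
  have hopen : IsOpen (⋃ j, Points.map (g j) '' Wi j) := by
    refine isOpen_of_fpqc Ti g hcov _ fun i => ?_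
    rw [key i]
    exact hW i
  refine ⟨⟨_, hopen⟩, key, ?_⟩
  intro W' hW'
  ext x
  simp only [TopologicalSpace.Opens.coe_mk, Set.mem_iUnion, Set.mem_image, SetLike.mem_coe]
  constructor
  · intro hx
    obtain ⟨i, xi, rfl⟩ := exists_point_of_isFpqcCover' Ti g hcov x
    refine ⟨i, xi, ?_, rfl⟩
    rw [← hW' i]
    exact hx
  · rintro ⟨i, xi, hxi, rfl⟩
    rw [← hW' i] at hxi
    exact hxi

end Groth.Agent.Helper5.FpqcOpen
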