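import Groth.Agent.Helper5.FpqcDiag
import Groth.Agent.Helper5.FpqcLocPInst
import Groth.Agent.Helper5.FpqcOpen
import Groth.Agent.Helper5.AlgSpEtInj
import Groth.Agent.Helper5.AlgSpIso
import Groth.Agent.Helper4.AlgSpInj
import Mathlib

set_option autoImplicit false
universe u
open CategoryTheory CategoryTheory.Limits AlgebraicGeometry Opposite

namespace Groth.Agent.Helper5.FpqcIso

open AlgSp

variable {S : Scheme.{u}}

theorem isUnivInjectiveMor_of_mono {X Y : Sp S} (hX : IsAlgSpace X) (f : X ⟶ Y) [Mono f] :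
    IsUnivInjectiveMor f :=
  (Groth.Agent.Helper4.AlgSpInj.univInjective_cycle hX f).1 fun _ _ _ _ _ hab =>
    (cancel_mono f).1 hab

theorem isEtaleMor_of_repWith_openImmersion {X Y : Sp S} (f : X ⟶ Y)
    (hf : RepWith @IsOpenImmersion f) : IsEtaleMor f := by
  intro U φ hφ
  refine Groth.Agent.Helper4.AlgSpSrc.repWith_comp _ hφ
    (Groth.Agent.Helper4.AlgSpSrc.repWith_mono (fun g hg => ?_) hf)
  have : IsOpenImmersion g := hg
  infer_instance

theorem mono_of_repWith_openImmersion {X Y : Sp S} (f : X ⟶ Y)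
    (hf : RepWith @IsOpenImmersion f) : Mono f :=
  Groth.Agent.Helper4.AlgSpBasic.mono_of_repWith (P := @IsOpenImmersion) (fun g hg => by
    have : IsOpenImmersion g := hg
    infer_instance) f hf

theorem isLocalOnBase_repWith_openImmersion :
    IsLocalOnBase (IsFpqcCover (S := S)) (RepWith @IsOpenImmersion) := by
  intro ι Y Yi g hY hYi hcov X f hX Xi p q hXi sq
  constructor
  · intro hf i
    exact (RepWith (S := S) @IsOpenImmersion).of_isPullback (sq i) hf
  · intro hp
    have h1 : IsEtaleMor f :=
      (Groth.Agent.Helper5.FpqcLocPInst.isEtaleMor S Yi g hY hYi hcov f hX Xi p q hXi sq).2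
        fun i => isEtaleMor_of_repWith_openImmersion _ (hp i)
    have h2 : IsUnivInjectiveMor f :=
      (Groth.Agent.Helper5.FpqcUniv.isLocalOnBase_isUnivInjectiveMor Yi g hY hYi hcov f hX Xi p q
        hXi sq).2 fun i => by
          have := mono_of_repWith_openImmersion _ (hp i)
          exact isUnivInjectiveMor_of_mono (hXi i) (p i)
    exact Groth.Agent.Helper5.AlgSpEtInj.repWith_openImmersion_of_etale_univInjective hX hY f h1 h2

theorem repWith_openImmersion_of_isIso {X Y : Sp S} (f : X ⟶ Y) [IsIso f] :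
    RepWith @IsOpenImmersion f := by
  refine ⟨Functor.relativelyRepresentable.of_isIso (yon S) f, ?_⟩
  intro T E ξ c e sq
  have h1 : IsIso ((yon S).map e) := sq.isIso_snd_of_isIso
  have h2 : IsIso e := isIso_of_fully_faithful (yon S) e
  have h3 : IsIso e.left := (Over.forget S).map_isIso e
  show IsOpenImmersion e.left
  infer_instance

theorem isLocalOnBase_isomorphisms :
    IsLocalOnBase (IsFpqcCover (S := S)) (MorphismProperty.isomorphisms (Sp S)) := by
  intro ι Y Yi g hY hYi hcov X f hX Xi p q hXi sq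
  constructor
  · intro hf i
    have : IsIso f := hf
    exact (sq i).isIso_snd_of_isIso
  · intro hp
    have hOI : RepWith @IsOpenImmersion f :=
      (isLocalOnBase_repWith_openImmersion Yi g hY hYi hcov f hX Xi p q hXi sq).2 fun i => by
        have : IsIso (p i) := hp i
        exact repWith_openImmersion_of_isIso (p i)
    have hsurj : Set.range (Points.map (𝟙 Y)) ⊆ Set.range (Points.map f) := by
      rintro _ ⟨y, rfl⟩
      rw [Points.map_id]
      obtain ⟨i, yi, rfl⟩ := Groth.Agent.Helper5.FpqcOpen.exists_point_of_isFpqcCover' Yi g hcov y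
      have : IsIso (p i) := hp i
      refine ⟨Points.map (q i) (Points.map (inv (p i)) yi), ?_⟩
      rw [← Points.map_comp, ← Points.map_comp, (sq i).w, ← Category.assoc, IsIso.inv_hom_id,
        Category.id_comp]
    exact Groth.Agent.Helper5.AlgSpIso.isIso_snd_of_range_subset f hOI (𝟙 Y)
      (IsPullback.of_id_fst) hsurj

theorem isLocalOnBase_monomorphisms :
    IsLocalOnBase (IsFpqcCover (S := S)) (MorphismProperty.monomorphisms (Sp S)) := by
  intro ι Y Yi g hY hYi hcov X f hX Xi p q hXi sq
  have key := Groth.Agent.Helper5.FpqcDiag.isLocalOnBase_diagonal _ (isLocalOnBase_isomorphisms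
    (S := S)) Yi g hY hYi hcov f hX Xi p q hXi sq
  have key' : IsIso (pullback.diagonal f) ↔ ∀ i, IsIso (pullback.diagonal (p i)) := key
  show Mono f ↔ ∀ i, Mono (p i)
  rw [← pullback.isIso_diagonal_iff, key']
  exact forall_congr' fun i => pullback.isIso_diagonal_iff (p i)

end Groth.Agent.Helper5.FpqcIso
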