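import Groth.Agent.Helper5.AlgSpProper
import Groth.Agent.Helper5.FpqcIso
import Mathlib

set_option autoImplicit false
universe u
open CategoryTheory CategoryTheory.Limits AlgebraicGeometry Opposite

namespace Groth.Agent.Helper5.ProperImg

open AlgSp

variable {S : Scheme.{u}}

theorem isClosedMap_of_isUnivClosedMor {X Y : Sp S} (hY : IsAlgSpace Y) (f : X ⟶ Y)
    (hf : IsUnivClosedMor f) : IsClosedMap (Points.map f) :=
  hf hY (𝟙 _) (𝟙 _) f (IsPullback.of_horiz_isIso ⟨by simp⟩)

theorem isClosed_range_of_isUnivClosedMor {X Y : Sp S} (hY : IsAlgSpace Y) (f : X ⟶ Y)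
    (hf : IsUnivClosedMor f) : IsClosed (Set.range (Points.map f)) := by
  rw [← Set.image_univ]
  exact isClosedMap_of_isUnivClosedMor hY f hf _ isClosed_univ

theorem isClosed_range_of_closedImmersion {X Y : Sp S} (hY : IsAlgSpace Y) (f : X ⟶ Y)
    (hf : RepWith @IsClosedImmersion f) : IsClosed (Set.range (Points.map f)) :=
  isClosed_range_of_isUnivClosedMor hY f
    (Groth.Agent.Helper5.AlgSpProper.isUnivClosedMor_of_closedImmersion f hf)

theorem mono_of_closedImmersion {X Y : Sp S} (f : X ⟶ Y)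
    (hf : RepWith @IsClosedImmersion f) : Mono f :=
  Groth.Agent.Helper4.AlgSpBasic.mono_of_repWith (P := @IsClosedImmersion) (fun g hg => by
    have : IsClosedImmersion g := hg
    infer_instance) f hf

theorem points_injective_of_mono {X Y : Sp S} (hX : IsAlgSpace X) (hY : IsAlgSpace Y) (f : X ⟶ Y)
    [Mono f] : Function.Injective (Points.map f) :=
  Groth.Agent.Helper5.FpqcIso.isUnivInjectiveMor_of_mono hX f hY (𝟙 _) (𝟙 _) f
    (IsPullback.of_horiz_isIso ⟨by simp⟩)

theorem points_injective_of_closedImmersion {X Y : Sp S} (hX : IsAlgSpace X) (hY : IsAlgSpace Y)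
    (f : X ⟶ Y) (hf : RepWith @IsClosedImmersion f) : Function.Injective (Points.map f) :=
  have := mono_of_closedImmersion f hf
  points_injective_of_mono hX hY f

/-- If `k ≫ i' = w` with `i'` injective on points and `range w = range i'`, `k` is surjective. -/
theorem isSurjectiveMor_of_range_eq {W Z X : Sp S} (k : W ⟶ Z) (i : Z ⟶ X) (w : W ⟶ X)
    (hk : k ≫ i = w) (hinj : Function.Injective (Points.map i))
    (hr : Set.range (Points.map i) ⊆ Set.range (Points.map w)) : IsSurjectiveMor k := by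
  intro z
  obtain ⟨x, hx⟩ := hr ⟨z, rfl⟩
  refine ⟨x, hinj ?_⟩
  rw [← hx, ← hk]
  exact (Points.map_comp k i x).symm

theorem range_comp {W Z X : Sp S} (k : W ⟶ Z) (i : Z ⟶ X) :
    Set.range (Points.map (k ≫ i)) = Points.map i '' Set.range (Points.map k) := by
  ext x
  constructor
  · rintro ⟨w, rfl⟩
    exact ⟨_, ⟨w, rfl⟩, (Points.map_comp k i w).symm⟩
  · rintro ⟨_, ⟨w, rfl⟩, rfl⟩
    exact ⟨w, Points.map_comp k i w⟩

end Groth.Agent.Helper5.ProperImg
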