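import Groth.Agent.Helper5.SchImg2
import Groth.Agent.Helper2.ShfEpi
import Mathlib

/-! Scheme theoretic density versus scheme theoretic closure for quasi-compact open subspaces. -/

set_option autoImplicit false
universe u
open CategoryTheory CategoryTheory.Limits AlgebraicGeometry Opposite MorphismProperty

namespace Groth.Agent.Helper5.SchImg

open AlgSp Groth.Agent.Helper4.AlgSpOpenImage Groth.Agent.Helper4.AlgSpBasic
  Groth.Agent.Helper5.RedInd Groth.Agent.Helper5.ClosedSub Groth.Agent.Helper5.GeomFibSp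
  Groth.Agent.Helper5.SchDenseSp

variable {S : Scheme.{u}}

theorem mono_of_closedImmersion {F G : Sp S} (i : F ⟶ G) (hi : RepWith @IsClosedImmersion i) :
    Mono i :=
  mono_of_repWith (P := @IsClosedImmersion) (fun g hg => by
    have : IsClosedImmersion g := hg
    infer_instance) i hi

/-- uniqueness of the scheme theoretic image -/
theorem isSchImage_unique {X Y Z Z' : Sp S} (hZ : IsAlgSpace Z) (hZ' : IsAlgSpace Z') (f : X ⟶ Y)
    (i : Z ⟶ Y) (i' : Z' ⟶ Y) (h : IsSchImage f i) (h' : IsSchImage f i') :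
    ∃ e : Z ≅ Z', e.hom ≫ i' = i := by
  have hm : Mono i := mono_of_closedImmersion i h.1
  have hm' : Mono i' := mono_of_closedImmersion i' h'.1
  obtain ⟨k, hk⟩ := h.2.2 i' hZ' h'.1 h'.2.1
  obtain ⟨k', hk'⟩ := h'.2.2 i hZ h.1 h.2.1
  refine ⟨⟨k, k', ?_, ?_⟩, hk⟩
  · rw [← cancel_mono i, Category.assoc, hk', hk, Category.id_comp]
  · rw [← cancel_mono i', Category.assoc, hk, hk', Category.id_comp]

set_option backward.isDefEq.respectTransparency.types false in
/-- Lemma B: a chart on which the open subspace is schematically dense -/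
theorem isSchDense_of_chart {F G : Sp S} (j : G ⟶ F) (hj : RepWith @IsOpenImmersion j)
    {V W' : Over S} (φ : (yon S).obj V ⟶ F) (hφ : RepWith @Etale φ) (hφs : RepWith @Surjective φ)
    (w : W' ⟶ V) [IsOpenImmersion w.left] (fst : (yon S).obj W' ⟶ G)
    (sq : IsPullback fst ((yon S).map w) j φ)
    (hd : CInt.IsSchematicallyDense w.left.opensRange) : IsSchDense j := by
  let O : V.left.Opens := w.left.opensRange
  let OO : Over S := Over.mk (O.ι ≫ V.hom)
  let ιO : OO ⟶ V := Over.homMk O.ι rfl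
  have h1 : w.left.isoOpensRange.inv ≫ w.left = O.ι := Scheme.Hom.isoOpensRange_inv_comp w.left
  have hwhom : w.left ≫ V.hom = W'.hom := CategoryTheory.Over.w w
  let ε : OO ⟶ W' := Over.homMk w.left.isoOpensRange.inv (by
    show w.left.isoOpensRange.inv ≫ W'.hom = O.ι ≫ V.hom
    rw [← hwhom, ← Category.assoc, h1])
  have hε : ε ≫ w = ιO := by
    ext
    exact h1
  haveI : IsIso ε := by
    have : IsIso ((Over.forget S).map ε) := by
      show IsIso w.left.isoOpensRange.inv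
      infer_instance
    exact isIso_of_reflects_iso _ (Over.forget S)
  have sq1 : IsPullback ((yon S).map ε) ((yon S).map ιO) ((yon S).map w) (𝟙 _) :=
    IsPullback.of_horiz_isIso ⟨by rw [Category.comp_id, ← Functor.map_comp, hε]⟩
  have sq2 := sq1.paste_horiz sq
  rw [Category.id_comp] at sq2
  exact ⟨hj, V, φ, O, (yon S).map ε ≫ fst, hφ, hφs, sq2, hd⟩

set_option backward.isDefEq.respectTransparency.types false in
/-- a scheme theoretically dense open subspace has scheme theoretic closure everything -/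
theorem isSchImage_id_of_isSchDense {U X : Sp S} (j : U ⟶ X) (hj : IsSchDense j) :
    IsSchImage j (𝟙 X) := by
  refine ⟨repWith_of_isIso' @IsClosedImmersion (fun _ => inferInstance) (𝟙 X),
    ⟨j, Category.comp_id _⟩, ?_⟩
  intro Z' i' hZ' hi' ⟨f'', hf''⟩
  haveI hm' : Mono i' := mono_of_closedImmersion i' hi'
  obtain ⟨-, V₀, φ₀, W₀, fst₀, hφ₀, hφ₀s, sq₀, hW₀⟩ := hj
  obtain ⟨Z'V, ī', b', sqZ'⟩ := hi'.1 φ₀
  haveI hī'c : IsClosedImmersion ī'.left := hi'.2 _ _ _ sqZ'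
  let w₀ : Over.mk (W₀.ι ≫ V₀.hom) ⟶ V₀ := Over.homMk W₀.ι rfl
  have hcone : (fst₀ ≫ f'') ≫ i' = (yon S).map w₀ ≫ φ₀ := by rw [Category.assoc, hf'', sq₀.w]
  obtain ⟨m, hm⟩ := (yon S).map_surjective (sqZ'.lift _ _ hcone)
  have hm2 : m ≫ ī' = w₀ := by
    apply (yon S).map_injective
    rw [Functor.map_comp, hm, sqZ'.lift_snd]
  have hle1 : ī'.left.ker ≤ ⊥ := by
    have h1 : ī'.left.ker ≤ (m ≫ ī').left.ker := ker_le_of_factor _ _
    rw [hm2] at h1
    have h2 : w₀.left.ker = ⊥ := Groth.Agent.Helper3.SchDenseExt.ker_ι_eq_bot W₀ hW₀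
    rwa [h2] at h1
  obtain ⟨σ, hσ⟩ := exists_over_lift ī' (𝟙 V₀) (hle1.trans bot_le)
  have hs₀ : ((yon S).map σ ≫ b') ≫ i' = φ₀ := by
    rw [Category.assoc, sqZ'.w, ← Category.assoc, ← Functor.map_comp, hσ,
      CategoryTheory.Functor.map_id, Category.id_comp]
  haveI : Epi φ₀ := epi_of_etale_surjective φ₀ hφ₀ hφ₀s
  apply exists_lift_of_mono
  intro T s
  obtain ⟨R₁, hR₁, hl₁⟩ := Groth.Agent.Helper5.QuotEff.loc_lift φ₀ s
  rw [Category.comp_id]
  apply Groth.Agent.Helper5.SpCoprod.exists_lift_of_local_lift i' s R₁ hR₁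
  intro T' γ hγ
  obtain ⟨z, hz⟩ := hl₁ γ hγ
  exact ⟨z ≫ (yon S).map σ ≫ b', by rw [Category.assoc, Category.assoc, ← Category.assoc _ b', hs₀, hz]⟩

set_option backward.isDefEq.respectTransparency.types false in
/-- a quasi-compact open subspace whose scheme theoretic closure is everything is scheme
theoretically dense -/
theorem isSchDense_of_isSchImage_id {U X : Sp S} (hX : IsAlgSpace X) (j : U ⟶ X)
    (hj : RepWith @IsOpenImmersion j) (hq : IsQuasiCompactMor j) (hS : IsSchImage j (𝟙 X)) :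
    IsSchDense j := by
  obtain ⟨V₀, φ₀, hφ₀, hφ₀s⟩ := hX.atlas
  obtain ⟨W₀, w₀, fst₀, sq₀⟩ := hj.1 φ₀
  haveI hw₀ : IsOpenImmersion w₀.left := hj.2 _ _ _ sq₀
  haveI hqc : QuasiCompact w₀.left :=
    (Groth.Agent.Helper4.AlgSpQC.repWith_of_isQuasiCompactMor j hj.1 hq).2 _ _ _ sq₀
  obtain ⟨R₀, pr₂, pr₁', sqR⟩ := hφ₀.1 φ₀
  obtain ⟨pr₁, rfl⟩ := (yon S).map_surjective pr₁'
  have hpr₂e : Etale pr₂.left := hφ₀.2 _ _ _ sqR
  have hpr₁e : Etale pr₁.left := hφ₀.2 _ _ _ sqR.flip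
  let K : V₀.left.IdealSheafData := w₀.left.ker
  have hO : pr₁.left ⁻¹ᵁ w₀.left.opensRange = pr₂.left ⁻¹ᵁ w₀.left.opensRange :=
    le_antisymm (preimage_le_preimage j φ₀ w₀ fst₀ sq₀ φ₀ w₀ fst₀ sq₀ pr₁ pr₂ sqR.w)
      (preimage_le_preimage j φ₀ w₀ fst₀ sq₀ φ₀ w₀ fst₀ sq₀ pr₂ pr₁ sqR.w.symm)
  have key : ∀ (pr : R₀ ⟶ V₀), Flat pr.left →
      K.comap pr.left = (pr.left ⁻¹ᵁ w₀.left.opensRange).ι.ker := by
    intro pr hpr
    let O : R₀.left.Opens := pr.left ⁻¹ᵁ w₀.left.opensRange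
    have hr : Set.range (O.ι ≫ pr.left) ⊆ Set.range w₀.left := by
      rintro _ ⟨x, rfl⟩
      exact x.2
    have sqO₀ : IsPullback (IsOpenImmersion.lift w₀.left (O.ι ≫ pr.left) hr) O.ι w₀.left
        pr.left := by
      apply IsOpenImmersion.isPullback
      · exact (IsOpenImmersion.lift_fac _ _ hr).symm
      · rw [Scheme.Opens.opensRange_ι]
    exact (ker_comap_of_flat w₀.left pr.left _ O.ι sqO₀).symm
  have hKinv : K.comap pr₁.left = K.comap pr₂.left := by
    rw [key pr₁ inferInstance, key pr₂ inferInstance, hO]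
  have hinv := points_invariant φ₀ pr₁ pr₂ sqR K hKinv
  obtain ⟨sqK, hci, hte, hts, hZalg⟩ :=
    closedSubspace_of_invariant hX.diag φ₀ hφ₀ hφ₀s (subι K) inferInstance hinv
  haveI : Epi φ₀ := epi_of_etale_surjective φ₀ hφ₀ hφ₀s
  haveI : Epi fst₀ := Groth.Agent.Helper2.ShfEpi.epi_of_isPullback (J S) sq₀
  obtain ⟨gI, hgI⟩ := exists_over_lift (subι K) w₀ (by rw [subι_ker])
  obtain ⟨f', hf'⟩ := factors_through_img j φ₀ fst₀ w₀ sq₀.w (subι K) gI hgI
  obtain ⟨k, hk⟩ := hS.2.2 (imgι _) hZalg hci ⟨f', hf'⟩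
  haveI hmono : Mono (imgι ((yon S).map (subι K) ≫ φ₀)) := mono_of_closedImmersion _ hci
  haveI : IsSplitEpi (imgι ((yon S).map (subι K) ≫ φ₀)) := IsSplitEpi.mk' ⟨k, hk⟩
  haveI hiso : IsIso (imgι ((yon S).map (subι K) ≫ φ₀)) := isIso_of_mono_of_isSplitEpi _
  haveI hisoY : IsIso ((yon S).map (subι K)) := sqK.isIso_snd_of_isIso
  haveI hisoK : IsIso (subι K) := isIso_of_fully_faithful (yon S) (subι K)
  haveI hisoKl : IsIso (subι K).left := (Over.forget S).map_isIso (subι K)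
  have hK : K = ⊥ := by
    rw [← subι_ker K]
    exact Scheme.Hom.ker_eq_bot_of_isIso _
  have hker : w₀.left.opensRange.ι.ker = ⊥ := by
    rw [← Scheme.Hom.isoOpensRange_inv_comp w₀.left, Scheme.Hom.ker_comp_of_isIso]
    exact hK
  haveI : QuasiCompact w₀.left.opensRange.ι := by
    rw [← Scheme.Hom.isoOpensRange_inv_comp w₀.left]
    infer_instance
  exact isSchDense_of_chart j hj φ₀ hφ₀ hφ₀s w₀ fst₀ sq₀ (dense_of_ker_eq_bot _ hker)

/-- S9969 -/
theorem s9969 {U X : Sp S} (hX : IsAlgSpace X) (j : U ⟶ X)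
    (hj : RepWith @IsOpenImmersion j) (hq : IsQuasiCompactMor j) :
    IsSchDense j ↔ IsSchImage j (𝟙 X) :=
  ⟨isSchImage_id_of_isSchDense j, isSchDense_of_isSchImage_id hX j hj hq⟩

end Groth.Agent.Helper5.SchImg
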