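import Groth.Agent.Helper5.AlgSpIso
import Groth.Agent.Helper5.PbEpi
import Groth.Agent.Helper5.EtGlue
import Groth.Prelude.Def_AlgSpSub

set_option autoImplicit false
universe u
open CategoryTheory CategoryTheory.Limits AlgebraicGeometry Opposite MorphismProperty

namespace Groth.Agent.Helper5.RedFactor

open AlgSp

variable {S : Scheme.{u}}

/-- A surjective closed immersion onto a reduced algebraic space is an isomorphism. -/
theorem isIso_of_closedImmersion_surjective_reduced {P Y : Sp S} (j : P ⟶ Y)
    (hj : RepWith @IsClosedImmersion j) (hs : IsSurjectiveMor j) (hY : IsReducedSp Y) : IsIso j := by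
  obtain ⟨U, p, hpe, hps, hred⟩ := hY
  have hr := hj.rep
  have hpb : IsPullback (hr.fst p) ((yon S).map (hr.snd p)) j p := hr.isPullback p
  have h1 : IsClosedImmersion (hr.snd p).left := hj.property _ _ _ hpb
  have h2 : Surjective (hr.snd p).left :=
    (Groth.Agent.Helper4.AlgSpPts.repWith_surjective_of_isSurjectiveMor j hr hs).property _ _ _ hpb
  have : IsReduced U.left := hred
  have h3 : IsIso (hr.snd p).left := isIso_of_isClosedImmersion_of_surjective _
  have h4 : IsIso (hr.snd p) := by
    have : IsIso ((Over.forget S).map (hr.snd p)) := h3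
    exact isIso_of_reflects_iso _ (Over.forget S)
  have h5 : IsIso ((yon S).map (hr.snd p)) := inferInstance
  have hepi : Epi p := Groth.Agent.Helper5.EtGlue.epi_of_etale_surjective p hpe hps
  exact Groth.Agent.Helper5.PbEpi.isIso_of_isPullback_of_epi hpb.flip

theorem s10193 {X Y Z : Space S}
    (i : Z ⟶ X) (hi : RepWith @IsClosedImmersion i.hom) (hY : IsReducedSp Y.obj) (f : Y ⟶ X) :
    (∃ g : Y ⟶ Z, g ≫ i = f) ↔
      Set.range (Points.map f.hom) ⊆ Set.range (Points.map i.hom) := by
  constructor
  · rintro ⟨g, rfl⟩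
    exact Groth.Agent.Helper5.AlgSpIso.range_subset_of_factor i.hom _ g.hom rfl
  · intro h
    have sq : IsPullback (pullback.fst i.hom f.hom) (pullback.snd i.hom f.hom) i.hom f.hom :=
      IsPullback.of_hasPullback _ _
    have i1 := repWith_isStableUnderBaseChange (S := S) @IsClosedImmersion
    have hsnd : RepWith @IsClosedImmersion (pullback.snd i.hom f.hom) :=
      MorphismProperty.of_isPullback sq hi
    have hsurj : IsSurjectiveMor (pullback.snd i.hom f.hom) := by
      intro y
      obtain ⟨z, hz⟩ := h ⟨y, rfl⟩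
      obtain ⟨p, -, hp⟩ :=
        Groth.Agent.Helper4.AlgSpPtsDesc.exists_point_of_isPullback sq z y hz
      exact ⟨p, hp⟩
    have := isIso_of_closedImmersion_surjective_reduced _ hsnd hsurj hY
    refine ⟨ObjectProperty.homMk (inv (pullback.snd i.hom f.hom) ≫ pullback.fst i.hom f.hom), ?_⟩
    apply ObjectProperty.hom_ext
    show (inv (pullback.snd i.hom f.hom) ≫ pullback.fst i.hom f.hom) ≫ i.hom = f.hom
    rw [Category.assoc, sq.w, IsIso.inv_hom_id_assoc]

end Groth.Agent.Helper5.RedFactor
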