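import Groth.Agent.Helper5.FpqcRef
import Groth.Agent.Helper5.FpqcBC
import Groth.Agent.Helper5.FlatCodescent
import Groth.Agent.Helper4.AlgSpPtsDesc
import Groth.Agent.Helper4.AlgSpLocP2
import Mathlib

set_option autoImplicit false
universe u
open CategoryTheory CategoryTheory.Limits AlgebraicGeometry Opposite

namespace Groth.Agent.Helper5.FpqcChart

open AlgSp Groth.Agent.Helper4.SDClasses Groth.Agent.Helper5.FpqcRef
open Groth.Agent.Helper4.AlgSpPtsDesc

variable {S : Scheme.{u}}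

/-- a finite étale affine refinement of the base change of an atlas to an affine scheme -/
theorem exists_etale_affine_refinement {X : Sp S} {U : Over S} (p : (yon S).obj U ⟶ X)
    (hp : RepWith @Etale p) (hps : RepWith @Surjective p) (Z : Over S) (hZ : IsAffine Z.left)
    (h : (yon S).obj Z ⟶ X) :
    ∃ (n : ℕ) (V : Fin n → Over S) (c : ∀ a, V a ⟶ Z),
      (∀ a, IsAffine (V a).left) ∧ (∀ a, Etale (c a).left) ∧
      (∀ z : ↥Z.left, ∃ a, z ∈ Set.range (c a).left) ∧
      ∀ a, ∃ l : (yon S).obj (V a) ⟶ (yon S).obj U, l ≫ p = (yon S).map (c a) ≫ h := by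
  have hr := hp.rep
  have hpb : IsPullback (hr.fst h) ((yon S).map (hr.snd h)) p h := hr.isPullback _
  have hee : Etale (hr.snd h).left := hp.property _ _ _ hpb
  have hes : Surjective (hr.snd h).left := hps.property _ _ _ hpb
  generalize hr.snd h = e at hpb hee hes
  generalize hr.fst h = r at hpb
  generalize hr.pullback h = P at e r hpb hee hes
  -- open cover of Z by images of affine opens of P
  have hopen : ∀ V : P.left.affineOpens, IsOpen (e.left '' (V.1 : Set P.left)) :=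
    fun V => e.left.isOpenMap _ V.1.isOpen
  have hcov : (Set.univ : Set Z.left) ⊆ ⋃ V : P.left.affineOpens, e.left '' (V.1 : Set P.left) := by
    intro z _
    obtain ⟨y, rfl⟩ := hes.surj z
    obtain ⟨A, hA, hyA, -⟩ :=
      (P.left.isBasis_affineOpens.exists_subset_of_mem_open (Set.mem_univ y) isOpen_univ)
    obtain ⟨W', hW, rfl⟩ := hA
    exact Set.mem_iUnion.2 ⟨⟨W', hW⟩, y, hyA, rfl⟩
  obtain ⟨t, ht⟩ := isCompact_univ.elim_finite_subcover _ hopen hcov
  obtain ⟨n, ⟨eq⟩⟩ := Finite.exists_equiv_fin (↥t)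
  refine ⟨n, fun a => affOver P (eq.symm a).1, fun a => affι P (eq.symm a).1 ≫ e,
    fun a => (eq.symm a).1.2, fun a => ?_, fun z => ?_, fun a => ?_⟩
  · show Etale ((eq.symm a).1.1.ι ≫ e.left)
    infer_instance
  · have hz := ht (Set.mem_univ z)
    simp only [Set.mem_iUnion] at hz
    obtain ⟨V, hVt, y, hyV, rfl⟩ := hz
    refine ⟨eq ⟨V, hVt⟩, ?_⟩
    show _ ∈ Set.range ⇑((eq.symm (eq ⟨V, hVt⟩)).1.1.ι ≫ e.left)
    rw [eq.symm_apply_apply]
    exact ⟨⟨y, hyV⟩, rfl⟩
  · refine ⟨(yon S).map (affι P (eq.symm a).1) ≫ r, ?_⟩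
    rw [Category.assoc, hpb.w, Functor.map_comp, Category.assoc]

set_option backward.isDefEq.respectTransparency.types false in
theorem isFpqcCover_iff_of_chart {X : Sp S} (hX : IsAlgSpace X) {ι : Type u} (Xi : ι → Sp S)
    (hXi : ∀ i, IsAlgSpace (Xi i)) (g : ∀ i, Xi i ⟶ X) {U : Over S} (p : (yon S).obj U ⟶ X)
    (hp : RepWith @Etale p) (hps : RepWith @Surjective p) (Ui : ι → Sp S)
    (q : ∀ i, Ui i ⟶ (yon S).obj U) (p' : ∀ i, Ui i ⟶ Xi i)
    (sq : ∀ i, IsPullback (q i) (p' i) p (g i)) :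
    IsFpqcCover Xi g ↔ IsFpqcCover Ui q := by
  constructor
  · intro h
    exact Groth.Agent.Helper5.FpqcBC.isFpqcCover_of_isPullback hX p Xi hXi g Ui q p' sq h
  · intro h
    refine ⟨fun i => ?_, fun Z hZ k => ?_⟩
    · exact Groth.Agent.Helper4.AlgSpLocP2.locP_of_target_cover @Flat (g i) p hp hps (p' i) (q i)
        (sq i).flip (h.1 i)
    · obtain ⟨n, V, c, hVa, hce, hcs, hl⟩ := exists_etale_affine_refinement p hp hps Z hZ k
      choose l hl using hl
      refine hasRef_trans (κ := Fin n) V c (fun a => ?_) hcs fun a => ?_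
      · have := hce a
        infer_instance
      · obtain ⟨m, W, d, hWa, hdf, hds, hl'⟩ := h.2 (V a) (hVa a) (l a)
        refine ⟨m, W, d, hWa, hdf, hds, fun b => ?_⟩
        obtain ⟨i, l', hl'⟩ := hl' b
        refine ⟨i, l' ≫ p' i, ?_⟩
        rw [Category.assoc, ← (sq i).w, ← Category.assoc, hl', Category.assoc, hl a]

end Groth.Agent.Helper5.FpqcChart
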