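import Groth.Agent.Helper5.FpqcUniv
import Groth.Agent.Helper4.AlgSpQC2
import Mathlib

set_option autoImplicit false
universe u
open CategoryTheory CategoryTheory.Limits AlgebraicGeometry Opposite

namespace Groth.Agent.Helper5.FpqcQC

open AlgSp Groth.Agent.Helper4.AlgSpPtsDesc Groth.Agent.Helper5.FpqcCore Groth.Agent.Helper5.FpqcTop
  Groth.Agent.Helper5.FpqcUniv Groth.Agent.Helper4.AlgSpQC2

variable {S : Scheme.{u}}

set_option backward.isDefEq.respectTransparency.types false in
/-- An algebraic space with compact space of points is quasi-compact. -/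
theorem isQuasiCompactSp_of_compactSpace {F : Sp S} (hF : IsAlgSpace F)
    [CompactSpace (Points F)] : IsQuasiCompactSp F := by
  classical
  obtain ⟨U, q, hqe, hqs⟩ := hF.atlas
  have hqo : IsOpenMap (Points.map q) := isOpenMor_of_repWith_etale hF q hqe
  let O : U.left.affineOpens → Set (Points F) := fun V =>
    Set.range (Points.map ((yon S).map (affι U V) ≫ q))
  have hOo : ∀ V, IsOpen (O V) := by
    intro V
    have h1 : IsOpenMap (Points.map ((yon S).map (affι U V))) := by
      apply isOpenMor_of_repWith_etale (IsAlgSpace.yon_obj U)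
      exact (repWith_yon_map_iff _ _).2 (by show Etale V.1.ι; infer_instance)
    have : O V = Points.map q '' (Set.range (Points.map ((yon S).map (affι U V)))) := by
      ext x
      simp only [O, Set.mem_range, Set.mem_image, Points.map_comp]
      constructor
      · rintro ⟨y, rfl⟩; exact ⟨_, ⟨y, rfl⟩, rfl⟩
      · rintro ⟨_, ⟨y, rfl⟩, rfl⟩; exact ⟨y, rfl⟩
    rw [this]
    exact hqo _ h1.isOpen_range
  have hcov : (Set.univ : Set (Points F)) ⊆ ⋃ V, O V := by
    intro x _
    obtain ⟨V, v, hv⟩ := exists_affine_lift q hqs x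
    exact Set.mem_iUnion.2 ⟨V, v, hv⟩
  obtain ⟨t, ht⟩ := isCompact_univ.elim_finite_subcover O hOo hcov
  let X' : t → Scheme.{u} := fun V => (V.1.1 : Scheme.{u})
  have : ∀ V : t, IsAffine (X' V) := fun V => V.1.2
  let c' : (∐ X') ⟶ U.left := Sigma.desc (fun V => V.1.1.ι)
  let U'' : Over S := Over.mk (c' ≫ U.hom)
  let cc : U'' ⟶ U := Over.homMk c' rfl
  have hcomp : CompactSpace U''.left := by
    show CompactSpace ↥(∐ X')
    infer_instance
  have hsurj : IsSurjectiveMor ((yon S).map cc ≫ q) := by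
    intro x
    have hx := ht (Set.mem_univ x)
    simp only [Set.mem_iUnion] at hx
    obtain ⟨V, hVt, y, hy⟩ := hx
    obtain ⟨v, rfl⟩ := (Points.schemeHomeo (affOver U V)).surjective y
    refine ⟨Points.schemeHomeo U'' ((Sigma.ι X' ⟨V, hVt⟩) v), ?_⟩
    have e : cc.left ((Sigma.ι X' ⟨V, hVt⟩) v) = (affι U V).left v := by
      show (Sigma.ι X' ⟨V, hVt⟩ ≫ c') v = V.1.ι v
      have e0 : Sigma.ι X' ⟨V, hVt⟩ ≫ c' = V.1.ι := by simp [c']
      rw [e0]
    rw [← hy, Points.map_comp, Points.map_comp, Points.map_yon_map_apply, Points.map_yon_map_apply, e]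
  exact isQuasiCompactSp_of_surjective hF _ hsurj (isQuasiCompactSp_yon U'')


theorem isQuasiCompactSp_of_refinement {V : Over S} {m : ℕ} {W : Fin m → Over S} {F : Sp S}
    (c : ∀ j, W j ⟶ V) (φ : F ⟶ (yon S).obj V) (hF : IsAlgSpace F) (Fj : Fin m → Sp S)
    (a : ∀ j, Fj j ⟶ F) (s : ∀ j, Fj j ⟶ (yon S).obj (W j))
    (sq : ∀ j, IsPullback (a j) (s j) φ ((yon S).map (c j)))
    (hcs : ∀ z : ↥V.left, ∃ j, z ∈ Set.range (c j).left)
    (h : ∀ j, IsQuasiCompactSp (Fj j)) : IsQuasiCompactSp F := by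
  have hcomp : CompactSpace (Points F) := by
    refine ⟨?_⟩
    have huniv : (Set.univ : Set (Points F)) = ⋃ j, Set.range (Points.map (a j)) := by
      ext x
      simp only [Set.mem_univ, Set.mem_iUnion, Set.mem_range, true_iff]
      obtain ⟨j, w, hw⟩ := points_jointly_surjective c hcs (Points.map φ x)
      obtain ⟨z, hz1, -⟩ := exists_point_of_isPullback (sq j) x w hw.symm
      exact ⟨j, z, hz1⟩
    rw [huniv]
    refine isCompact_iUnion fun j => ?_
    have := compactSpace_points_of_isQuasiCompactSp (h j)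
    exact isCompact_range (Points.continuous_map _)
  exact isQuasiCompactSp_of_compactSpace hF

theorem isLocalOnBase_isQuasiCompactMor :
    IsLocalOnBase (IsFpqcCover (S := S)) IsQuasiCompactMor := by
  apply isLocalOnBase_fpqc
  · intro X Y X' Y' f g f' g' _ _ _ _ sq hf
    exact Groth.Agent.Helper4.AlgSpQC.isQuasiCompactMor_of_isPullback sq hf
  · intro X Y f hX hY H
    rw [Groth.Agent.Helper4.AlgSpQC.isQuasiCompactMor_iff_affine]
    intro Z hZ g P fst snd sqZ
    obtain ⟨m, W, c, hWa, hcf, hcs, hj⟩ := H Z hZ g P fst snd sqZ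
    choose Fj a sj hFj sqj hQj using hj
    have hP : IsAlgSpace P :=
      Groth.Agent.Helper4.AlgSpPB.isAlgSpace_of_isPullback hY.diag hX (IsAlgSpace.yon_obj Z)
        f g fst snd sqZ
    refine isQuasiCompactSp_of_refinement c snd hP Fj a sj sqj hcs fun j => ?_
    exact (Groth.Agent.Helper4.AlgSpQC.isQuasiCompactMor_iff_affine (sj j)).1 (hQj j) (W j) (hWa j)
      (𝟙 _) (Fj j) (𝟙 _) (sj j) (IsPullback.id_horiz (sj j))

end Groth.Agent.Helper5.FpqcQC
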