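import Groth.Agent.Helper5.DiagSq
import Groth.Agent.Helper5.FpqcBC
import Groth.Agent.Helper5.FpqcUniv
import Groth.Agent.Helper5.FpqcQC
import Groth.Agent.Helper5.AlgSpProper
import Groth.Agent.Helper4.AlgSpDesc2
import Mathlib

set_option autoImplicit false
universe v u
open CategoryTheory CategoryTheory.Limits AlgebraicGeometry Opposite

namespace Groth.Agent.Helper5.FpqcDiag

section cat
variable {C : Type u} [Category.{v} C] [HasPullbacks C]

/-- `X' ×_{Y'} X' = (X ×_Y X) ×_Y Y'` for a cartesian square. -/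
theorem isPullback_map {X Y X' Y' : C} {f : X ⟶ Y} {g : Y' ⟶ Y} {fst : X' ⟶ X}
    {f' : X' ⟶ Y'} (sq : IsPullback fst f' f g) :
    IsPullback (pullback.map f' f' f f fst fst g sq.w.symm sq.w.symm)
      (pullback.fst f' f' ≫ f') (pullback.fst f f ≫ f) g := by
  have hw := sq.w
  refine ⟨⟨?_⟩, ⟨PullbackCone.IsLimit.mk _ (fun s => ?_) (fun s => ?_) (fun s => ?_)
    (fun s m h1 h2 => ?_)⟩⟩
  · simp only [pullback.map, pullback.lift_fst_assoc, Category.assoc, hw]
  · have hc := s.condition
    have hc2 : (s.fst ≫ pullback.snd f f) ≫ f = s.snd ≫ g := by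
      rw [Category.assoc, ← pullback.condition]; simpa using hc
    have hc1 : (s.fst ≫ pullback.fst f f) ≫ f = s.snd ≫ g := by simpa using hc
    exact pullback.lift (sq.lift _ _ hc1) (sq.lift _ _ hc2) (by simp)
  · apply pullback.hom_ext
    · simp only [pullback.map, Category.assoc, pullback.lift_fst, pullback.lift_fst_assoc,
        IsPullback.lift_fst]
    · simp only [pullback.map, Category.assoc, pullback.lift_snd, pullback.lift_snd_assoc,
        IsPullback.lift_fst]
  · simp only [pullback.lift_fst_assoc, IsPullback.lift_snd]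
  · apply pullback.hom_ext
    · apply sq.hom_ext
      · simp only [pullback.lift_fst, IsPullback.lift_fst, Category.assoc]
        rw [← h1]
        simp only [pullback.map, Category.assoc, pullback.lift_fst]
      · simp only [pullback.lift_fst, IsPullback.lift_snd, Category.assoc]
        rw [← h2]
    · apply sq.hom_ext
      · simp only [pullback.lift_snd, IsPullback.lift_fst, Category.assoc]
        rw [← h1]
        simp only [pullback.map, Category.assoc, pullback.lift_snd]
      · simp only [pullback.lift_snd, IsPullback.lift_snd, Category.assoc]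
        have hc : m ≫ pullback.snd f' f' ≫ f' = m ≫ pullback.fst f' f' ≫ f' :=
          congrArg (m ≫ ·) (pullback.condition (f := f') (g := f')).symm
        exact hc.trans h2
end cat

open AlgSp

variable {S : Scheme.{u}}

/-- If `PP` is fpqc local on the base then so is `PP (diagonal)`. -/
theorem isLocalOnBase_diagonal (PP : MorphismProperty (Sp S))
    (h : IsLocalOnBase (IsFpqcCover (S := S)) PP) :
    IsLocalOnBase (IsFpqcCover (S := S)) (fun _ _ f => PP (pullback.diagonal f)) := by
  intro ι Y Yi g hY hYi hcov X f hX Xi p q hXi sq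
  have hPB : IsAlgSpace (pullback f f) :=
    Groth.Agent.Helper4.AlgSpPB.isAlgSpace_of_isPullback hY.diag hX hX f f _ _
      (IsPullback.of_hasPullback f f)
  have hPBi : ∀ i, IsAlgSpace (pullback (p i) (p i)) := fun i =>
    Groth.Agent.Helper4.AlgSpPB.isAlgSpace_of_isPullback (hYi i).diag (hXi i) (hXi i) (p i) (p i) _ _
      (IsPullback.of_hasPullback (p i) (p i))
  have hcov' : IsFpqcCover (fun i => pullback (p i) (p i))
      (fun i => pullback.map (p i) (p i) f f (q i) (q i) (g i) (sq i).w.symm (sq i).w.symm) :=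
    Groth.Agent.Helper5.FpqcBC.isFpqcCover_of_isPullback hY (pullback.fst f f ≫ f) Yi hYi g
      (fun i => pullback (p i) (p i)) _ (fun i => pullback.fst (p i) (p i) ≫ p i)
      (fun i => isPullback_map (sq i)) hcov
  exact h (fun i => pullback (p i) (p i)) _ hPB hPBi hcov' (pullback.diagonal f) hX Xi
    (fun i => pullback.diagonal (p i)) q hXi
    (fun i => Groth.Agent.Helper5.DiagSq.isPullback_diagonal (sq i))

theorem isLocalOnBase_isSeparatedMor :
    IsLocalOnBase (IsFpqcCover (S := S)) IsSeparatedMor := by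
  intro ι Y Yi g hY hYi hcov X f hX Xi p q hXi sq
  rw [Groth.Agent.Helper5.AlgSpProper.isSeparatedMor_iff_diagonal_univClosed hX f]
  have : IsUnivClosedMor (pullback.diagonal f) ↔ ∀ i, IsUnivClosedMor (pullback.diagonal (p i)) :=
    isLocalOnBase_diagonal _ (Groth.Agent.Helper5.FpqcUniv.isLocalOnBase_isUnivClosedMor
      (S := S)) Yi g hY hYi hcov f hX Xi p q hXi sq
  rw [this]
  exact forall_congr' fun i =>
    (Groth.Agent.Helper5.AlgSpProper.isSeparatedMor_iff_diagonal_univClosed (hXi i) (p i)).symm

theorem isQuasiSeparatedMor_iff {X Y : Sp S} (hX : IsAlgSpace X) (f : X ⟶ Y) :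
    IsQuasiSeparatedMor f ↔ IsQuasiCompactMor (pullback.diagonal f) :=
  ⟨fun h => Groth.Agent.Helper4.AlgSpQC.isQuasiCompactMor_of_repWith _ h,
    fun h => Groth.Agent.Helper4.AlgSpQC.repWith_of_isQuasiCompactMor _
      (Groth.Agent.Helper4.AlgSpDesc2.representable_diagonal hX.diag f) h⟩

theorem isLocalOnBase_isQuasiSeparatedMor :
    IsLocalOnBase (IsFpqcCover (S := S)) IsQuasiSeparatedMor := by
  intro ι Y Yi g hY hYi hcov X f hX Xi p q hXi sq
  rw [isQuasiSeparatedMor_iff hX f]
  have : IsQuasiCompactMor (pullback.diagonal f) ↔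
      ∀ i, IsQuasiCompactMor (pullback.diagonal (p i)) :=
    isLocalOnBase_diagonal _ (Groth.Agent.Helper5.FpqcQC.isLocalOnBase_isQuasiCompactMor
      (S := S)) Yi g hY hYi hcov f hX Xi p q hXi sq
  rw [this]
  exact forall_congr' fun i => (isQuasiSeparatedMor_iff (hXi i) (p i)).symm

end Groth.Agent.Helper5.FpqcDiag
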