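import Groth.Agent.Helper5.DiagBC
import Mathlib

set_option autoImplicit false
universe u
open CategoryTheory CategoryTheory.Limits AlgebraicGeometry Opposite

namespace Groth.Agent.Helper5.DiagBC

open AlgSp Groth.Agent.Helper4 Groth.Agent.Helper4.AlgSpQS

variable {S : Scheme.{u}}

/-- images of the two legs of a pushout of commutative rings generate -/
theorem surjective_productMap_of_isPushout {R A B C : CommRingCat.{u}} {f : R ⟶ A} {g : R ⟶ B}
    {inl : A ⟶ C} {inr : B ⟶ C} (h : IsPushout f g inl inr) :
    Function.Surjective (Algebra.TensorProduct.productMap inl.hom.toIntAlgHom inr.hom.toIntAlgHom) := by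
  set F := Algebra.TensorProduct.productMap inl.hom.toIntAlgHom inr.hom.toIntAlgHom with hF
  let C' : CommRingCat.{u} := CommRingCat.of ↥F.range
  let ι : C' ⟶ C := CommRingCat.ofHom F.range.val.toRingHom
  let inl' : A ⟶ C' := CommRingCat.ofHom (RingHom.codRestrict inl.hom F.range (fun x =>
    ⟨x ⊗ₜ 1, by simp [hF]⟩))
  let inr' : B ⟶ C' := CommRingCat.ofHom (RingHom.codRestrict inr.hom F.range (fun x =>
    ⟨1 ⊗ₜ x, by simp [hF]⟩))
  have hι : Function.Injective ι.hom := Subtype.val_injective
  have h1 : inl' ≫ ι = inl := by ext x; rfl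
  have h2 : inr' ≫ ι = inr := by ext x; rfl
  have hw : f ≫ inl' = g ≫ inr' := by
    ext x
    exact congrArg (fun k => k.hom x) h.w
  let d : C ⟶ C' := h.desc inl' inr' hw
  have hd : d ≫ ι = 𝟙 C := by
    apply h.hom_ext
    · rw [← Category.assoc, h.inl_desc, h1, Category.comp_id]
    · rw [← Category.assoc, h.inr_desc, h2, Category.comp_id]
  intro c
  have hc : ι.hom (d.hom c) = c := by
    have := congrArg (fun k => k.hom c) hd
    exact this
  obtain ⟨y, hy⟩ := (d.hom c).2
  exact ⟨y, by rw [← hc]; exact hy⟩

/-- for affine `U`, `V` the scheme `U ×_S V` maps by a monomorphism into an affine scheme -/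
noncomputable abbrev absProd (U V : Over S) : Scheme.{u} :=
  pullback (U.hom ≫ terminal.from S) (V.hom ≫ terminal.from S)

noncomputable def toAbs (U V : Over S) : (prodOver U V).left ⟶ absProd U V :=
  pullback.mapDesc U.hom V.hom (terminal.from S)

instance mono_toAbs (U V : Over S) : Mono (toAbs U V) :=
  (pullback_map_diagonal_isPullback U.hom V.hom (terminal.from S)).mono_snd_of_mono

instance isClosedImmersion_toAbs [S.IsSeparated] (U V : Over S) : IsClosedImmersion (toAbs U V) := by
  unfold toAbs
  infer_instance

theorem toAbs_fst (U V : Over S) : toAbs U V ≫ pullback.fst _ _ = pullback.fst U.hom V.hom := by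
  unfold toAbs
  exact pullback.lift_fst _ _ _

theorem toAbs_snd (U V : Over S) : toAbs U V ≫ pullback.snd _ _ = pullback.snd U.hom V.hom := by
  unfold toAbs
  exact pullback.lift_snd _ _ _

theorem isSeparated_prodOver (U V : Over S) [IsAffine U.left] [IsAffine V.left] :
    (prodOver U V).left.IsSeparated := by
  constructor
  rw [← terminal.comp_from (toAbs U V)]
  infer_instance

theorem quasiCompact_toProd_of_compact {U V P : Over S} [IsAffine U.left] [IsAffine V.left]
    (fst : P ⟶ U) (snd : P ⟶ V) [CompactSpace ↥P.left] : QuasiCompact (toProd fst snd).left := by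
  have := isSeparated_prodOver U V
  exact quasiCompact_of_compactSpace _

theorem toProd_toAbs_fst {U V P : Over S} (fst : P ⟶ U) (snd : P ⟶ V) :
    ((toProd fst snd).left ≫ toAbs U V) ≫ pullback.fst _ _ = fst.left := by
  rw [Category.assoc, toAbs_fst]
  exact pullback.lift_fst _ _ _

theorem toProd_toAbs_snd {U V P : Over S} (fst : P ⟶ U) (snd : P ⟶ V) :
    ((toProd fst snd).left ≫ toAbs U V) ≫ pullback.snd _ _ = snd.left := by
  rw [Category.assoc, toAbs_snd]
  exact pullback.lift_snd _ _ _

theorem productMap_eq_comp {U V P : Over S} (fst : P ⟶ U) (snd : P ⟶ V) :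
    Algebra.TensorProduct.productMap fst.left.appTop.hom.toIntAlgHom snd.left.appTop.hom.toIntAlgHom =
      ((toProd fst snd).left ≫ toAbs U V).appTop.hom.toIntAlgHom.comp
        (Algebra.TensorProduct.productMap
          (pullback.fst (U.hom ≫ terminal.from S) (V.hom ≫ terminal.from S)).appTop.hom.toIntAlgHom
          (pullback.snd (U.hom ≫ terminal.from S) (V.hom ≫ terminal.from S)).appTop.hom.toIntAlgHom) := by
  apply Algebra.TensorProduct.ext'
  intro a b
  have ha := congrArg (fun k => k.appTop.hom a) (toProd_toAbs_fst fst snd)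
  have hb := congrArg (fun k => k.appTop.hom b) (toProd_toAbs_snd fst snd)
  simp only [Scheme.Hom.comp_appTop, CommRingCat.hom_comp, RingHom.comp_apply] at ha hb
  simp only [AlgHom.comp_apply, Algebra.TensorProduct.productMap_apply_tmul, map_mul,
    RingHom.toIntAlgHom_apply, Scheme.Hom.comp_appTop, CommRingCat.hom_comp, RingHom.comp_apply]
  rw [ha, hb]

/-- closed immersion from the affine + surjectivity criterion -/
theorem isClosedImmersion_toProd_of_surjective {U V P : Over S} [IsAffine U.left] [IsAffine V.left]
    (fst : P ⟶ U) (snd : P ⟶ V) [IsAffine P.left]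
    (hs : Function.Surjective (Algebra.TensorProduct.productMap fst.left.appTop.hom.toIntAlgHom
      snd.left.appTop.hom.toIntAlgHom)) : IsClosedImmersion (toProd fst snd).left := by
  rw [productMap_eq_comp] at hs
  have h1 : Function.Surjective ((toProd fst snd).left ≫ toAbs U V).appTop.hom := by
    intro c
    obtain ⟨y, hy⟩ := hs c
    exact ⟨_, hy⟩
  have h2 : IsClosedImmersion ((toProd fst snd).left ≫ toAbs U V) :=
    IsClosedImmersion.of_surjective_of_isAffine _ h1
  exact IsClosedImmersion.of_comp (toProd fst snd).left (toAbs U V)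

/-- the affine + surjectivity statement from a closed immersion, over a separated base -/
theorem affine_surjective_of_isClosedImmersion_toProd [S.IsSeparated] {U V P : Over S}
    [IsAffine U.left] [IsAffine V.left]
    (fst : P ⟶ U) (snd : P ⟶ V) [IsClosedImmersion (toProd fst snd).left] :
    IsAffine P.left ∧ Function.Surjective
      (Algebra.TensorProduct.productMap fst.left.appTop.hom.toIntAlgHom
        snd.left.appTop.hom.toIntAlgHom) := by
  have h2 : IsClosedImmersion ((toProd fst snd).left ≫ toAbs U V) := inferInstance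
  obtain ⟨h3, h4⟩ := IsClosedImmersion.isAffine_surjective_of_isAffine
    ((toProd fst snd).left ≫ toAbs U V)
  refine ⟨h3, ?_⟩
  rw [productMap_eq_comp]
  have h5 := surjective_productMap_of_isPushout (isPushout_appTop_of_isPullback
    (IsPullback.of_hasPullback (U.hom ≫ terminal.from S) (V.hom ≫ terminal.from S)))
  exact h4.comp h5

end Groth.Agent.Helper5.DiagBC
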