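import Groth.Agent.Helper5.Gpd2
import Groth.Agent.Helper4.AlgSpQC
import Groth.Agent.Helper4.AlgSpLocal
import Groth.Agent.Helper4.AlgSpDesc2
import Groth.Agent.Helper4.AlgSpPB

set_option autoImplicit false
universe u
open CategoryTheory CategoryTheory.Limits AlgebraicGeometry Opposite

namespace Groth.Agent.Helper5.Gpd1

open AlgSp

section general
universe v₁ u₁
variable {C : Type u₁} [Category.{v₁} C] [HasPullbacks C]

/-- A section of a morphism is a base change of its diagonal. -/
theorem isPullback_section {G U : C} (π : G ⟶ U) (e : U ⟶ G) (he : e ≫ π = 𝟙 U) :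
    IsPullback e e (pullback.lift (𝟙 G) (π ≫ e) (by rw [Category.id_comp, Category.assoc, he, Category.comp_id]))
      (pullback.diagonal π) := by
  refine ⟨⟨?_⟩, ⟨PullbackCone.IsLimit.mk _ (fun c => c.fst ≫ π) ?_ ?_ ?_⟩⟩
  · apply pullback.hom_ext
    · simp only [Category.assoc, pullback.lift_fst, pullback.diagonal_fst, Category.comp_id]
    · simp only [Category.assoc, pullback.lift_snd, pullback.diagonal_snd, Category.comp_id]
      rw [← Category.assoc, he, Category.id_comp]
  · intro c
    have h1 := c.condition =≫ pullback.fst π π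
    have h2 := c.condition =≫ pullback.snd π π
    simp only [Category.assoc, pullback.lift_fst, pullback.lift_snd, pullback.diagonal_fst,
      pullback.diagonal_snd, Category.comp_id] at h1 h2
    simp only [Category.assoc]
    rw [h2, ← h1]
  · intro c
    have h2 := c.condition =≫ pullback.snd π π
    simp only [Category.assoc, pullback.lift_snd, pullback.diagonal_snd, Category.comp_id] at h2
    simp only [Category.assoc]
    exact h2
  · intro c m h1 _
    have : m = (m ≫ e) ≫ π := by simp only [Category.assoc, he, Category.comp_id]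
    rw [this, h1]

end general

variable {S : Scheme.{u}} {B : Sp S} (G : GroupoidSp B)

theorem stabι_s : G.stabilizerι ≫ G.s = G.stabilizerToU := by
  have h := (pullback.condition (f := G.j) (g := G.diag)) =≫ pullback.snd G.pU G.pU
  simp only [Category.assoc, GroupoidSp.j_snd] at h
  have hd : G.diag ≫ pullback.snd G.pU G.pU = 𝟙 _ := pullback.lift_snd _ _ _
  rw [hd, Category.comp_id] at h
  exact h

theorem stabι_t : G.stabilizerι ≫ G.t = G.stabilizerToU := by
  have h := (pullback.condition (f := G.j) (g := G.diag)) =≫ pullback.fst G.pU G.pU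
  simp only [Category.assoc, GroupoidSp.j_fst] at h
  have hd : G.diag ≫ pullback.fst G.pU G.pU = 𝟙 _ := pullback.lift_fst _ _ _
  rw [hd, Category.comp_id] at h
  exact h

theorem isPullback_stabilizer : IsPullback G.stabilizerι G.stabilizerToU G.j G.diag :=
  IsPullback.of_hasPullback G.j G.diag

theorem eG_toU (eG : G.U ⟶ G.stabilizer) (heG : eG ≫ G.stabilizerι = G.e) :
    eG ≫ G.stabilizerToU = 𝟙 G.U := by
  rw [← stabι_s, ← Category.assoc, heG, G.e_s]

/-- Equality of maps into `U ×_B U`. -/
theorem hom_ext_UU {T : Sp S} {a b : T ⟶ pullback G.pU G.pU}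
    (h1 : a ≫ pullback.fst G.pU G.pU = b ≫ pullback.fst G.pU G.pU)
    (h2 : a ≫ pullback.snd G.pU G.pU = b ≫ pullback.snd G.pU G.pU) : a = b :=
  pullback.hom_ext h1 h2

theorem fst_t_eq_snd_t : pullback.fst G.j G.j ≫ G.t = pullback.snd G.j G.j ≫ G.t := by
  have h := (pullback.condition (f := G.j) (g := G.j)) =≫ pullback.fst G.pU G.pU
  simpa only [Category.assoc, GroupoidSp.j_fst] using h

theorem fst_s_eq_snd_s : pullback.fst G.j G.j ≫ G.s = pullback.snd G.j G.j ≫ G.s := by
  have h := (pullback.condition (f := G.j) (g := G.j)) =≫ pullback.snd G.pU G.pU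
  simpa only [Category.assoc, GroupoidSp.j_snd] using h

/-- `(α, β) ↦ α⁻¹ ∘ β` on `R ×_j R`, as a map to `R`. -/
noncomputable def deltaR : pullback G.j G.j ⟶ G.R :=
  comp G (pullback.fst G.j G.j ≫ G.i) (pullback.snd G.j G.j)
    (by rw [Category.assoc, G.i_s, fst_t_eq_snd_t])

theorem deltaR_t : deltaR G ≫ G.t = pullback.fst G.j G.j ≫ G.s := by
  unfold deltaR
  rw [comp_t, Category.assoc, G.i_t]

theorem deltaR_s : deltaR G ≫ G.s = pullback.fst G.j G.j ≫ G.s := by
  unfold deltaR
  rw [comp_s, fst_s_eq_snd_s]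

/-- `(α, β) ↦ α⁻¹ ∘ β : R ×_j R ⟶ stabilizer`. -/
noncomputable def delta : pullback G.j G.j ⟶ G.stabilizer :=
  pullback.lift (deltaR G) (pullback.fst G.j G.j ≫ G.s) (by
    apply hom_ext_UU G
    · rw [Category.assoc, GroupoidSp.j_fst, deltaR_t, Category.assoc]
      have hd : G.diag ≫ pullback.fst G.pU G.pU = 𝟙 _ := pullback.lift_fst _ _ _
      rw [hd, Category.comp_id]
    · rw [Category.assoc, GroupoidSp.j_snd, deltaR_s, Category.assoc]
      have hd : G.diag ≫ pullback.snd G.pU G.pU = 𝟙 _ := pullback.lift_snd _ _ _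
      rw [hd, Category.comp_id])

theorem delta_ι : delta G ≫ G.stabilizerι = deltaR G := pullback.lift_fst _ _ _

theorem delta_toU : delta G ≫ G.stabilizerToU = pullback.fst G.j G.j ≫ G.s := pullback.lift_snd _ _ _

theorem hom_ext_stab {T : Sp S} {a b : T ⟶ G.stabilizer}
    (h1 : a ≫ G.stabilizerι = b ≫ G.stabilizerι) : a = b := by
  apply pullback.hom_ext h1
  have : ∀ c : T ⟶ G.stabilizer, c ≫ G.stabilizerToU = (c ≫ G.stabilizerι) ≫ G.s := by
    intro c
    rw [Category.assoc, stabι_s]
  show a ≫ G.stabilizerToU = b ≫ G.stabilizerToU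
  rw [this a, this b, h1]

/-- The diagonal of `j` is a base change of the unit section of the stabilizer. -/
theorem isPullback_diagonal_j (eG : G.U ⟶ G.stabilizer) (heG : eG ≫ G.stabilizerι = G.e) :
    IsPullback (pullback.diagonal G.j) G.s (delta G) eG := by
  refine ⟨⟨?_⟩, ⟨PullbackCone.IsLimit.mk _ (fun c => c.fst ≫ pullback.fst G.j G.j) ?_ ?_ ?_⟩⟩
  · apply hom_ext_stab G
    rw [Category.assoc, delta_ι, Category.assoc, heG]
    unfold deltaR
    rw [pre_comp]
    have h1 : pullback.diagonal G.j ≫ pullback.fst G.j G.j ≫ G.i = 𝟙 G.R ≫ G.i := by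
      rw [← Category.assoc, pullback.diagonal_fst]
    have h2 : pullback.diagonal G.j ≫ pullback.snd G.j G.j = 𝟙 G.R := pullback.diagonal_snd _
    rw [comp_congr G h1 h2 _ (by rw [Category.assoc, G.i_s])]
    rw [i_comp G (𝟙 G.R), Category.id_comp]
  · intro c
    -- c.fst : T → R ×_j R, c.snd : T → U, c.fst ≫ delta = c.snd ≫ eG
    have hc := c.condition
    have hc1 := hc =≫ G.stabilizerι
    have hc2 := hc =≫ G.stabilizerToU
    simp only [Category.assoc, delta_ι, delta_toU, heG, eG_toU G eG heG, Category.comp_id] at hc1 hc2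
    -- hc1 : c.fst ≫ deltaR = c.snd ≫ e ; hc2 : c.fst ≫ fst ≫ s = c.snd
    set α := c.fst ≫ pullback.fst G.j G.j with hα
    set β := c.fst ≫ pullback.snd G.j G.j with hβ
    have hαβt : α ≫ G.t = β ≫ G.t := by
      simp only [hα, hβ, Category.assoc, fst_t_eq_snd_t]
    have hd : comp G (α ≫ G.i) β (by rw [Category.assoc, G.i_s, hαβt]) = c.snd ≫ G.e := by
      rw [← hc1]
      unfold deltaR
      rw [pre_comp]
      exact comp_congr G (by simp only [hα, Category.assoc]) rfl _ _
    have hαs : α ≫ G.s = c.snd := by rw [hα, Category.assoc]; exact hc2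
    have hβα : β = α := by
      have h3 := comp_inv_comp' G α β hαβt
      rw [← h3]
      rw [comp_congr G rfl hd _ (by rw [hαs, Category.assoc c.snd, G.e_t, Category.comp_id])]
      exact comp_e G α c.snd hαs
    apply pullback.hom_ext
    · rw [Category.assoc, pullback.diagonal_fst, Category.comp_id]
    · rw [Category.assoc, pullback.diagonal_snd, Category.comp_id]
      exact hβα.symm
  · intro c
    have hc2 := c.condition =≫ G.stabilizerToU
    simp only [Category.assoc, delta_toU, eG_toU G eG heG, Category.comp_id] at hc2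
    rw [Category.assoc]; exact hc2
  · intro c m h1 _
    rw [← h1, Category.assoc, pullback.diagonal_fst, Category.comp_id]

theorem diag_toU_of_diag_j (P : MorphismProperty Scheme.{u})
    (h : RepWith P (pullback.diagonal G.j)) : RepWith P (pullback.diagonal G.stabilizerToU) :=
  (RepWith (S := S) P).of_isPullback
    (Groth.Agent.Helper4.AlgSpLocal.isPullback_diagonal (isPullback_stabilizer G)).flip h

theorem eG_of_diag_toU (P : MorphismProperty Scheme.{u}) (eG : G.U ⟶ G.stabilizer)
    (heG : eG ≫ G.stabilizerι = G.e) (h : RepWith P (pullback.diagonal G.stabilizerToU)) :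
    RepWith P eG :=
  (RepWith (S := S) P).of_isPullback
    (isPullback_section G.stabilizerToU eG (eG_toU G eG heG)).flip h

theorem diag_j_of_eG (P : MorphismProperty Scheme.{u}) (eG : G.U ⟶ G.stabilizer)
    (heG : eG ≫ G.stabilizerι = G.e) (h : RepWith P eG) : RepWith P (pullback.diagonal G.j) :=
  (RepWith (S := S) P).of_isPullback (isPullback_diagonal_j G eG heG).flip h

theorem representable_eG (hU : IsAlgSpace G.U) (hR : IsAlgSpace G.R) (eG : G.U ⟶ G.stabilizer)
    (heG : eG ≫ G.stabilizerι = G.e) : Representable eG := by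
  have hdiag : Representable (Limits.diag G.stabilizer) :=
    Groth.Agent.Helper4.AlgSpPB.representable_diag_of_isPullback hR.diag hU.diag G.j G.diag
      G.stabilizerι G.stabilizerToU (isPullback_stabilizer G)
  have h2 := Groth.Agent.Helper4.AlgSpDesc2.representable_diagonal hdiag G.stabilizerToU
  exact (Representable (S := S)).of_isPullback
    (isPullback_section G.stabilizerToU eG (eG_toU G eG heG)).flip h2

theorem s10122 (hU : IsAlgSpace G.U) (hR : IsAlgSpace G.R)
    (eG : G.U ⟶ G.stabilizer) (heG : eG ≫ G.stabilizerι = G.e) :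
    ((IsSeparatedMor G.j ↔ IsSeparatedMor G.stabilizerToU) ∧
        (IsSeparatedMor G.j ↔ RepWith @IsClosedImmersion eG)) ∧
      ((IsQuasiSeparatedMor G.j ↔ IsQuasiSeparatedMor G.stabilizerToU) ∧
        (IsQuasiSeparatedMor G.j ↔ IsQuasiCompactMor eG)) ∧
      ((IsLocallySeparatedMor G.j → RepWith @IsImmersion eG) ∧
        (IsLocallySeparatedMor G.stabilizerToU → RepWith @IsImmersion eG)) := by
  refine ⟨⟨⟨diag_toU_of_diag_j G _, fun h => diag_j_of_eG G _ eG heG (eG_of_diag_toU G _ eG heG h)⟩,
    ⟨fun h => eG_of_diag_toU G _ eG heG (diag_toU_of_diag_j G _ h), diag_j_of_eG G _ eG heG⟩⟩,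
    ⟨⟨diag_toU_of_diag_j G _, fun h => diag_j_of_eG G _ eG heG (eG_of_diag_toU G _ eG heG h)⟩,
    ⟨fun h => Groth.Agent.Helper4.AlgSpQC.isQuasiCompactMor_of_repWith eG
        (eG_of_diag_toU G _ eG heG (diag_toU_of_diag_j G _ h)),
      fun h => diag_j_of_eG G _ eG heG
        (Groth.Agent.Helper4.AlgSpQC.repWith_of_isQuasiCompactMor eG
          (representable_eG G hU hR eG heG) h)⟩⟩,
    ⟨fun h => eG_of_diag_toU G _ eG heG (diag_toU_of_diag_j G _ h), eG_of_diag_toU G _ eG heG⟩⟩

end Groth.Agent.Helper5.Gpd1
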