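import Groth.Agent.Helper5.GpdSep1
import Groth.Agent.Helper5.Gpd3
import Groth.Agent.Helper5.DiagBC2
import Groth.Agent.Helper4.AlgSpDiag
import Mathlib

/-!
# A groupoid on a field with decent space of arrows is separated (S10128)
-/

set_option autoImplicit false
universe u

namespace Groth.Agent.Helper5.GpdSep

open CategoryTheory CategoryTheory.Limits AlgebraicGeometry Opposite AlgSp Topology
open Groth.Agent.Helper4 Groth.Agent.Helper4.AlgSpQS Groth.Agent.Helper5.DiagBC

variable {S : Scheme.{u}}

theorem isSeparatedMor_comp {X Y Z : Sp S} (f : X ⟶ Y) (g : Y ⟶ Z) (hf : IsSeparatedMor f)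
    (hg : IsSeparatedMor g) : IsSeparatedMor (f ≫ g) :=
  (RepWith (S := S) @IsClosedImmersion).diagonal.comp_mem f g hf hg

theorem isSeparatedMor_of_mono {X Y : Sp S} (f : X ⟶ Y) [Mono f] : IsSeparatedMor f := by
  show RepWith @IsClosedImmersion (pullback.diagonal f)
  haveI : IsIso (pullback.diagonal f) := (pullback.isIso_diagonal_iff f).2 ‹_›
  exact MorphismProperty.of_isIso _ _

theorem isSeparatedSp_iff (X : Sp S) : IsSeparatedSp X ↔ IsSeparatedMor (terminal.from X) :=
  AlgSpDiag.repWith_diag_iff _ X

theorem isSeparatedSp_of_isSeparatedMor {X Y : Sp S} (f : X ⟶ Y) (hf : IsSeparatedMor f)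
    (hY : IsSeparatedSp Y) : IsSeparatedSp X := by
  rw [isSeparatedSp_iff] at hY ⊢
  have e : terminal.from X = f ≫ terminal.from Y := Subsingleton.elim _ _
  rw [e]
  exact isSeparatedMor_comp _ _ hf hY

/-- S10128 -/
theorem s10128 (B : Sp S) (hB : IsAlgSpace B)
    (G : GroupoidSp B) (hR : IsAlgSpace G.R) (k : Type u) [Field k]
    (σ : Spec (CommRingCat.of k) ⟶ S) (eU : G.U ≅ (yon S).obj (Over.mk σ))
    (hd : IsDecent G.R) : IsSeparatedSp G.R := by
  have hU : IsAlgSpace G.U := (IsAlgSpace.yon_obj (Over.mk σ)).of_iso eU.symm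
  have hHdiag : Representable (Limits.diag (pullback G.pU G.pU)) :=
    AlgSpPB.representable_diag_of_isPullback hU.diag hU.diag G.pU G.pU _ _
      (IsPullback.of_hasPullback _ _)
  have hstab : IsAlgSpace G.stabilizer :=
    AlgSpPB.isAlgSpace_of_isPullback hHdiag hR hU G.j G.diag G.stabilizerι G.stabilizerToU
      (Gpd1.isPullback_stabilizer G)
  have hdiagrep : Representable G.diag := by
    have h1 : Representable (eU.inv ≫ G.diag) :=
      Functor.relativelyRepresentable.of_diag hHdiag _
    have h2 : G.diag = eU.hom ≫ eU.inv ≫ G.diag := by simp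
    rw [h2]
    exact (MorphismProperty.cancel_left_of_respectsIso (Representable (S := S)) _ _).2 h1
  have hιrep : Representable G.stabilizerι :=
    MorphismProperty.of_isPullback (Gpd1.isPullback_stabilizer G).flip hdiagrep
  have hstabdec : IsDecent G.stabilizer :=
    Decent1.isDecent_of_representable G.stabilizerι hιrep hd
  -- the unit section of the stabilizer
  have hej : G.e ≫ G.j = 𝟙 G.U ≫ G.diag := by
    apply Gpd1.hom_ext_UU
    · rw [Category.assoc, GroupoidSp.j_fst, G.e_t, Category.id_comp]
      exact (pullback.lift_fst _ _ _).symm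
    · rw [Category.assoc, GroupoidSp.j_snd, G.e_s, Category.id_comp]
      exact (pullback.lift_snd _ _ _).symm
  let eG : G.U ⟶ G.stabilizer := pullback.lift G.e (𝟙 G.U) hej
  have heG : eG ≫ G.stabilizerι = G.e := pullback.lift_fst _ _ _
  have heGU : eG ≫ G.stabilizerToU = 𝟙 G.U := pullback.lift_snd _ _ _
  have hci : RepWith @IsClosedImmersion eG := by
    have h1 : RepWith @IsClosedImmersion (eU.inv ≫ eG) := by
      refine closedImmersion_of_section ⟨G.stabilizer, hstab⟩ hstabdec k σ
        (G.stabilizerToU ≫ eU.hom) (eU.inv ≫ eG) ?_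
      rw [Category.assoc, ← Category.assoc eG, heGU, Category.id_comp, Iso.inv_hom_id]
    have h2 : eG = eU.hom ≫ eU.inv ≫ eG := by simp
    rw [h2]
    exact (MorphismProperty.cancel_left_of_respectsIso (RepWith (S := S) @IsClosedImmersion) _ _).2 h1
  have hj : IsSeparatedMor G.j := Gpd1.diag_j_of_eG G _ eG heG hci
  -- `U ×_B U` maps by a monomorphism to `h_{Spec k ×_S Spec k}`
  let A : Over S := Over.mk σ
  have hN : IsPullback ((yon S).map (prodFst A A)) ((yon S).map (prodSnd A A))
      (terminal.from _) (terminal.from _) :=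
    isPullback_prodOver A A terminalIsTerminal _ _
  let m : pullback G.pU G.pU ⟶ (yon S).obj (prodOver A A) :=
    hN.lift (pullback.fst _ _ ≫ eU.hom) (pullback.snd _ _ ≫ eU.hom) (Subsingleton.elim _ _)
  have hm1 : m ≫ (yon S).map (prodFst A A) = pullback.fst _ _ ≫ eU.hom := hN.lift_fst _ _ _
  have hm2 : m ≫ (yon S).map (prodSnd A A) = pullback.snd _ _ ≫ eU.hom := hN.lift_snd _ _ _
  haveI : Mono m := by
    constructor
    intro Z a b hab
    apply pullback.hom_ext
    · rw [← cancel_mono eU.hom, Category.assoc, Category.assoc, ← hm1, ← Category.assoc,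
        ← Category.assoc, hab]
    · rw [← cancel_mono eU.hom, Category.assoc, Category.assoc, ← hm2, ← Category.assoc,
        ← Category.assoc, hab]
  have hsepP : IsSeparatedSp ((yon S).obj (prodOver A A)) := by
    show RepWith @IsClosedImmersion _
    rw [repWith_diag_yon_iff]
    haveI : IsAffine A.left := inferInstanceAs (IsAffine (Spec (CommRingCat.of k)))
    haveI := isSeparated_prodOver A A
    haveI : IsSeparated (prodOver A A).hom := inferInstance
    exact IsSeparated.diagonal_isClosedImmersion
  exact isSeparatedSp_of_isSeparatedMor G.j hj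
    (isSeparatedSp_of_isSeparatedMor m (isSeparatedMor_of_mono m) hsepP)

end Groth.Agent.Helper5.GpdSep
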