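import Groth.Prelude.Def_AlgSp4
import Groth.Agent.Helper5.AlgSpOpen
import Groth.Agent.Helper4.AlgSpPB
import Groth.Agent.S9872
import Mathlib

set_option autoImplicit false
universe u v₁ u₁
open CategoryTheory CategoryTheory.Limits AlgebraicGeometry Opposite

namespace Groth.Agent.Helper5.AlgSpOpen

open AlgSp Groth.Agent.Helper4.AlgSpOpenImage Groth.Agent.Helper4.AlgSpQC2
  Groth.Agent.Helper4.AlgSpPtsDesc

variable {S : Scheme.{u}}

theorem isPullback_of_comp_mono {C : Type u₁} [Category.{v₁} C] {A X Y Z Z' : C} {fst : A ⟶ X}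
    {snd : A ⟶ Y} {f : X ⟶ Z} {g : Y ⟶ Z} (m : Z ⟶ Z') [Mono m]
    (sq : IsPullback fst snd (f ≫ m) (g ≫ m)) : IsPullback fst snd f g := by
  have w : fst ≫ f = snd ≫ g := by
    rw [← cancel_mono m, Category.assoc, Category.assoc]; exact sq.w
  refine ⟨⟨w⟩, ⟨PullbackCone.IsLimit.mk _ (fun c => sq.lift c.fst c.snd ?_) ?_ ?_ ?_⟩⟩
  · rw [← Category.assoc, c.condition, Category.assoc]
  · intro c; exact sq.lift_fst _ _ _
  · intro c; exact sq.lift_snd _ _ _
  · intro c k h1 h2
    apply sq.hom_ext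
    · rw [sq.lift_fst]; exact h1
    · rw [sq.lift_snd]; exact h2

/-- An étale map to `X` whose image is the open subspace `X'` factors through an étale surjective
map to `X'`. -/
theorem exists_factor_etale_surjective {X X' : Sp S} {U : Over S}
    (a : (yon S).obj U ⟶ X) (ha : RepWith @Etale a)
    (j : X' ⟶ X) (hj : RepWith @IsOpenImmersion j)
    (himage : Set.range (Points.map j) = Set.range (Points.ofPt a)) :
    ∃ a' : (yon S).obj U ⟶ X', a' ≫ j = a ∧ RepWith @Etale a' ∧ RepWith @Surjective a' := by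
  have hmono : Mono j := Groth.Agent.Helper4.AlgSpBasic.mono_of_repWith
    (P := @IsOpenImmersion) (fun g hg => by
      have : IsOpenImmersion g := hg
      infer_instance) j hj
  obtain ⟨a', ha'⟩ := Groth.Agent.Helper5.AlgSpIso.exists_factor_open j hj a (by
    rw [range_map_eq_range_ofPt, himage])
  have sq : IsPullback (𝟙 _) a' (a' ≫ j) j :=
    Groth.Agent.Helper4.AlgSpPB.isPullback_of_mono a' j
  rw [ha'] at sq
  have i1 := repWith_isStableUnderBaseChange (S := S) @Etale
  have hae : RepWith @Etale a' := MorphismProperty.of_isPullback sq ha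
  refine ⟨a', ha', hae, ?_⟩
  apply Groth.Agent.Helper4.AlgSpPts.repWith_surjective_of_isSurjectiveMor a' hae.rep
  intro x'
  have hx : Points.map j x' ∈ Set.range (Points.ofPt a) := by
    rw [← himage]; exact ⟨x', rfl⟩
  rw [← range_map_eq_range_ofPt] at hx
  obtain ⟨y, hy⟩ := hx
  obtain ⟨q, -, hq⟩ := exists_point_of_isPullback sq y x' hy
  exact ⟨q, hq⟩

end Groth.Agent.Helper5.AlgSpOpen
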