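import Mathlib
import Groth.Agent.Helper5.DegStr8
import Groth.Agent.Helper5.AlgSpOpen2

/-!
# Finite locally free covers and the schematic locus, part 1: general lemmas
-/

set_option autoImplicit false
universe u
open CategoryTheory CategoryTheory.Limits AlgebraicGeometry TopologicalSpace Opposite AlgSp Topology

namespace Groth.Agent.Helper5.FlfSch

open Groth.Agent.Helper4 Groth.Agent.Helper4.AlgSpPtsDesc Groth.Agent.Helper4.AlgSpQC2

variable {S : Scheme.{u}}

/-- a representable flat, locally finitely presented, surjective morphism from a scheme is an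
epimorphism of fppf sheaves -/
theorem epi_of_fppf_surjective {X : Sp S} {A : Over S} (a : (yon S).obj A ⟶ X)
    (hfl : RepWith @Flat a) (hfp : RepWith @LocallyOfFinitePresentation a)
    (hs : RepWith @Surjective a) : Epi a := by
  constructor
  intro H h k hhk
  apply AlgSpBasic.hom_ext_yon
  intro T g
  have hr := hfl.rep
  have hpb : IsPullback (hr.fst g) ((yon S).map (hr.snd g)) a g := hr.isPullback g
  haveI : Flat (hr.snd g).left := hfl.property _ _ _ hpb
  haveI : LocallyOfFinitePresentation (hr.snd g).left := hfp.property _ _ _ hpb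
  haveI : Surjective (hr.snd g).left := hs.property _ _ _ hpb
  apply AlgSpBasic.yon_map_cancel (hr.snd g)
  rw [← Category.assoc, ← Category.assoc, ← hpb.w, Category.assoc, Category.assoc, hhk]

/-- a representable finite morphism to an algebraic space is closed on points -/
theorem isClosedMap_points_of_repWith_finite {X Y : Sp S} (hY : IsAlgSpace Y) (f : X ⟶ Y)
    (hf : RepWith @IsFinite f) : IsClosedMap (Points.map f) := by
  intro C hC
  obtain ⟨V, b, hbe, hbs⟩ := hY.atlas
  have hquot : IsQuotientMap (Points.ofPt b) :=
    (Groth.Agent.Helper5.Decent3.isOpenMap_ofPt hY b hbe).isQuotientMap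
      (Points.continuous_ofPt b)
      (Groth.Agent.Helper5.AlgSpOpen.ofPt_surjective_of_repWith b hbs)
  rw [← hquot.isClosed_preimage]
  have sq := hf.rep.isPullback b
  have hfin : IsFinite (hf.rep.snd b).left := hf.property b _ _ sq
  generalize hf.rep.snd b = snd at sq hfin
  generalize hf.rep.fst b = fst at sq
  generalize hf.rep.pullback b = P at fst snd sq hfin
  have heq : Points.ofPt b ⁻¹' (Points.map f '' C) = snd.left '' (Points.ofPt fst ⁻¹' C) := by
    ext v
    constructor
    · rintro ⟨x, hxC, hx⟩
      have h' : Points.map f x = Points.map b (Points.schemeHomeo V v) := by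
        rw [ofPt_eq_map_schemeHomeo]; exact hx
      obtain ⟨z, hz1, hz2⟩ := exists_point_of_isPullback sq x _ h'
      obtain ⟨r, rfl⟩ := (Points.schemeHomeo P).surjective z
      refine ⟨r, ?_, ?_⟩
      · show Points.ofPt fst r ∈ C
        rw [← ofPt_eq_map_schemeHomeo, hz1]; exact hxC
      · rw [Points.map_yon_map_apply] at hz2
        exact (Points.schemeHomeo V).injective hz2
    · rintro ⟨r, hr, rfl⟩
      refine ⟨Points.ofPt fst r, hr, ?_⟩
      rw [Points.map_ofPt, sq.w, ofPt_yon_map_comp]
  rw [heq]
  exact snd.left.isClosedMap _ (hC.preimage (Points.continuous_ofPt fst))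

end Groth.Agent.Helper5.FlfSch
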