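import Mathlib
import Groth.Agent.Helper5.FlfSch1

/-!
# Finite locally free covers and the schematic locus, part 2
-/

set_option autoImplicit false
universe u
open CategoryTheory CategoryTheory.Limits AlgebraicGeometry TopologicalSpace Opposite AlgSp Topology

namespace Groth.Agent.Helper5.FlfSch

open Groth.Agent.Helper4 Groth.Agent.Helper4.AlgSpPtsDesc Groth.Agent.Helper4.AlgSpQC2
open Groth.Agent.Helper5.DegStr

variable {S : Scheme.{u}}

theorem exists_open_subscheme_of_affine_open {X Y : Space S} (f : X ⟶ Y)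
    (hf : IsFinLocFreeMor f.hom) (hs : RepWith @Surjective f.hom) (y : Points Y.obj)
    {U : Over S} [IsAffine U.left] (a : (yon S).obj U ⟶ X.obj) (ha : RepWith @IsOpenImmersion a)
    (hya : Points.map f.hom ⁻¹' {y} ⊆ Set.range (Points.ofPt a)) :
    ∃ (Y' : Space S) (j : Y' ⟶ Y), RepWith @IsOpenImmersion j.hom ∧ Y'.obj.obj.IsRepresentable ∧
      y ∈ Set.range (Points.map j.hom) := by
  have hfin : RepWith @IsFinite f.hom :=
    MorphismProperty.relative_monotone (fun A B g hg => hg.1) _ hf
  have hae : RepWith @Etale a :=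
    MorphismProperty.relative_monotone (fun A B g hg => by
      have : IsOpenImmersion g.left := hg
      show Etale g.left
      infer_instance) _ ha
  have i1 := repWith_isStableUnderBaseChange (S := S) @IsOpenImmersion
  have i2 := repWith_isStableUnderBaseChange (S := S) finLocFree
  have i3 := repWith_isStableUnderBaseChange (S := S) @Surjective
  -- the open set `V`
  have hopen : IsOpen (Set.range (Points.ofPt a)) :=
    (Groth.Agent.Helper5.Decent3.isOpenMap_ofPt X.property a hae).isOpen_range
  set C : Set (Points X.obj) := (Set.range (Points.ofPt a))ᶜ with hCdef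
  have hC : IsClosed C := hopen.isClosed_compl
  have hfC : IsClosed (Points.map f.hom '' C) :=
    isClosedMap_points_of_repWith_finite Y.property f.hom hfin C hC
  set V : Set (Points Y.obj) := (Points.map f.hom '' C)ᶜ with hVdef
  have hV : IsOpen V := hfC.isOpen_compl
  have hyV : y ∈ V := by
    rintro ⟨x, hxC, hx⟩
    exact hxC (hya hx)
  have hpreV : Points.map f.hom ⁻¹' V ⊆ Set.range (Points.ofPt a) := by
    intro x hx
    by_contra h
    exact hx ⟨x, h, rfl⟩
  obtain ⟨YV, jV, hYV, hjV, hrV⟩ :=
    Groth.Agent.Helper5.AlgSpOpen.exists_open_subspace Y.property V hV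
  -- the preimage of `V`
  let π₁ := pullback.fst f.hom jV
  let π₂ := pullback.snd f.hom jV
  have sqV : IsPullback π₁ π₂ f.hom jV := IsPullback.of_hasPullback _ _
  have hπ₁ : RepWith @IsOpenImmersion π₁ := MorphismProperty.of_isPullback sqV.flip hjV
  have hπ₂f : RepWith finLocFree π₂ := MorphismProperty.of_isPullback sqV hf
  have hπ₂s : RepWith @Surjective π₂ := MorphismProperty.of_isPullback sqV hs
  have hrπ₁ : Set.range (Points.map π₁) = Points.map f.hom ⁻¹' V := by
    ext x
    constructor
    · rintro ⟨p, rfl⟩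
      show Points.map f.hom (Points.map π₁ p) ∈ V
      rw [← Points.map_comp, sqV.w, Points.map_comp, ← hrV]
      exact ⟨_, rfl⟩
    · intro hx
      rw [Set.mem_preimage, ← hrV] at hx
      obtain ⟨v, hv⟩ := hx
      obtain ⟨p, hp1, -⟩ := exists_point_of_isPullback sqV x v hv.symm
      exact ⟨p, hp1⟩
  -- the open `O` of `U`
  let O : U.left.Opens := ⟨Points.ofPt (a ≫ f.hom) ⁻¹' V, hV.preimage (Points.continuous_ofPt _)⟩
  let U' : Over S := Over.mk (O.ι ≫ U.hom)
  let ιO : U' ⟶ U := Over.homMk O.ι rfl
  let a' : (yon S).obj U' ⟶ X.obj := (yon S).map ιO ≫ a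
  have ha' : RepWith @IsOpenImmersion a' :=
    Groth.Agent.Helper4.AlgSpSrc.repWith_comp _
      ((repWith_yon_map_iff _ _).2 (show IsOpenImmersion O.ι from inferInstance)) ha
  have hra' : Set.range (Points.ofPt a') = Points.map f.hom ⁻¹' V := by
    ext x
    constructor
    · rintro ⟨o, rfl⟩
      show Points.map f.hom (Points.ofPt a' o) ∈ V
      rw [ofPt_yon_map_comp ιO a o, Points.map_ofPt]
      exact o.2
    · intro hx
      obtain ⟨u, rfl⟩ := hpreV hx
      have huO : u ∈ O := by
        show Points.ofPt (a ≫ f.hom) u ∈ V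
        rw [← Points.map_ofPt]
        exact hx
      exact ⟨⟨u, huO⟩, ofPt_yon_map_comp ιO a _⟩
  obtain ⟨c', hc'⟩ := Groth.Agent.Helper5.AlgSpIso.exists_factor_open π₁ hπ₁ a' (by
    rw [Groth.Agent.Helper5.AlgSpOpen.range_map_eq_range_ofPt, hra', hrπ₁])
  have hmono : Mono π₁ := Groth.Agent.Helper4.AlgSpBasic.mono_of_repWith
    (P := @IsOpenImmersion) (fun g hg => by
      have : IsOpenImmersion g := hg
      infer_instance) π₁ hπ₁
  have sqc : IsPullback (𝟙 _) c' (c' ≫ π₁) π₁ :=
    Groth.Agent.Helper4.AlgSpPB.isPullback_of_mono c' π₁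
  rw [hc'] at sqc
  have hc'oi : RepWith @IsOpenImmersion c' := MorphismProperty.of_isPullback sqc ha'
  have hc'e : RepWith @Etale c' :=
    MorphismProperty.relative_monotone (fun A B g hg => by
      have : IsOpenImmersion g.left := hg
      show Etale g.left
      infer_instance) _ hc'oi
  have hc's : RepWith @Surjective c' := by
    apply Groth.Agent.Helper4.AlgSpPts.repWith_surjective_of_isSurjectiveMor c' hc'e.rep
    intro p
    have hx : Points.map π₁ p ∈ Set.range (Points.ofPt a') := by
      rw [hra', ← hrπ₁]; exact ⟨p, rfl⟩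
    rw [← Groth.Agent.Helper5.AlgSpOpen.range_map_eq_range_ofPt] at hx
    obtain ⟨z, hz⟩ := hx
    obtain ⟨q, -, hq⟩ := exists_point_of_isPullback sqc z p hz
    exact ⟨q, hq⟩
  haveI : IsIso c' := Groth.Agent.Helper5.AlgSpIso.isIso_of_openImmersion_surjective c' hc'oi hc's
  -- the finite locally free chart of `Y_V`
  let f' : (yon S).obj U' ⟶ YV := c' ≫ π₂
  have hf' : RepWith finLocFree f' :=
    (MorphismProperty.cancel_left_of_respectsIso (RepWith (S := S) finLocFree) c' π₂).2 hπ₂f
  have hf's : RepWith @Surjective f' :=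
    (MorphismProperty.cancel_left_of_respectsIso (RepWith (S := S) @Surjective) c' π₂).2 hπ₂s
  have hf'fl : RepWith @Flat f' :=
    MorphismProperty.relative_monotone (fun A B g hg => hg.2.1) _ hf'
  have hf'fp : RepWith @LocallyOfFinitePresentation f' :=
    MorphismProperty.relative_monotone (fun A B g hg => hg.2.2) _ hf'
  -- the relation
  have sqW := hf'.rep.isPullback f'
  obtain ⟨t, ht⟩ := (yon S).map_surjective (hf'.rep.fst f')
  rw [← ht] at sqW
  have hsP : finLocFree (hf'.rep.snd f').left := hf'.property f' _ _ sqW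
  have htP : finLocFree t.left := hf'.property f' _ _ sqW.flip
  clear ht
  generalize hf'.rep.snd f' = s at sqW hsP
  generalize hf'.rep.pullback f' = R at s t sqW hsP htP
  let D := Groth.Agent.Helper5.MonoQuot.eqvDataOfKernelPair f' s t sqW
  haveI : IsFinite s.left := hsP.1
  haveI : Flat s.left := hsP.2.1
  haveI : LocallyOfFinitePresentation s.left := hsP.2.2
  obtain ⟨Yq, q, pY, hq, hqf, hqfl, hqp, hqs, hpb⟩ := D.exists_quotient' (by
    intro x
    have hF : (t.left '' (s.left ⁻¹' {x})).Finite :=
      (s.left.finite_preimage_singleton x).image _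
    exact exists_affine_open_of_finite O _ hF)
  let Z : Over S := Over.mk pY
  let cq : U' ⟶ Z := Over.homMk q hq
  haveI : Flat cq.left := hqfl
  haveI : LocallyOfFinitePresentation cq.left := hqp
  haveI : Surjective cq.left := ⟨hqs⟩
  obtain ⟨m, hm, hmmono⟩ := exists_mono_of_quotient s t cq hpb f' sqW
  haveI := hmmono
  haveI : Epi f' := epi_of_fppf_surjective f' hf'fl hf'fp hf's
  haveI : Epi ((yon S).map cq ≫ m) := by rw [hm]; infer_instance
  haveI : Epi m := epi_of_epi ((yon S).map cq) m
  haveI : IsIso m := isIso_of_mono_of_epi m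
  refine ⟨⟨YV, hYV⟩, ObjectProperty.homMk jV, hjV, ?_, ?_⟩
  · exact ⟨⟨Z, ⟨AlgSp.representableByOfIso (asIso m)⟩⟩⟩
  · show y ∈ Set.range (Points.map jV)
    rw [hrV]
    exact hyV

end Groth.Agent.Helper5.FlfSch
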