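import Mathlib
import Groth.Agent.Helper5.FlfSch2
import Groth.Agent.Helper5.AffDesc9
import Groth.Agent.Helper5.ZarGlue8
import Groth.Agent.Helper4.AlgSpOpenImage

/-!
# Helper5: the image of a finite étale chart with finite relation is a scheme
-/

set_option autoImplicit false
universe u
open CategoryTheory CategoryTheory.Limits AlgebraicGeometry Opposite

namespace Groth.Agent.Helper5.QfSch

open AlgSp Groth.Agent.Helper4.AlgSpOpenImage

variable {S : Scheme.{u}}

/-- an algebraic space all of whose points lie in the schematic locus is a scheme -/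
theorem isRepresentable_of_forall_schematic {X : Sp S} (hX : IsAlgSpace X)
    (h : ∀ x : Points X, ∃ (X'' : Sp S) (j'' : X'' ⟶ X), RepWith @IsOpenImmersion j'' ∧
      X''.obj.IsRepresentable ∧ x ∈ Set.range (Points.map j'')) :
    X.obj.IsRepresentable := by
  obtain ⟨X', j, hX', hj, hrep, hmax⟩ := Groth.Agent.Helper5.ZarGlue.s10197 hX
  have hsurj : IsSurjectiveMor j := by
    intro x
    obtain ⟨X'', j'', h1, h2, y, hy⟩ := h x
    obtain ⟨k, hk⟩ := hmax X'' j'' h1 h2
    exact ⟨Points.map k y, by rw [← Points.map_comp, hk, hy]⟩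
  haveI : IsIso j := Groth.Agent.Helper5.AlgSpIso.isIso_of_openImmersion_surjective j hj
    (Groth.Agent.Helper4.AlgSpPts.repWith_surjective_of_isSurjectiveMor j hj.rep hsurj)
  obtain ⟨W, ⟨r⟩⟩ := hrep.has_representation
  exact ⟨⟨W, ⟨r.ofIso ((sheafToPresheaf _ _).mapIso (asIso j))⟩⟩⟩

/-- an algebraic space with a finite locally free surjective chart from an affine scheme is a
scheme -/
theorem isRepresentable_of_finLocFree_affine_chart {M : Sp S} (hM : IsAlgSpace M) {V : Over S}
    [IsAffine V.left] (π : (yon S).obj V ⟶ M) (hπ : IsFinLocFreeMor π)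
    (hs : RepWith @Surjective π) : M.obj.IsRepresentable := by
  apply isRepresentable_of_forall_schematic hM
  intro y
  let MV : Space S := ⟨(yon S).obj V, IsAlgSpace.yon_obj V⟩
  let MM : Space S := ⟨M, hM⟩
  let πs : MV ⟶ MM := ObjectProperty.homMk π
  have hid : RepWith @IsOpenImmersion (𝟙 ((yon S).obj V)) := repWith_id _ V
  obtain ⟨Y', j, hj, hrep, hy⟩ :=
    Groth.Agent.Helper5.FlfSch.exists_open_subscheme_of_affine_open πs hπ hs y
      (U := V) (𝟙 _) hid (by
        intro x _
        obtain ⟨v, hv⟩ := (Points.schemeHomeo V).surjective x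
        exact ⟨v, hv⟩)
  exact ⟨Y'.obj, j.hom, hj, hrep, hy⟩

/-- for a chart of a space separated over a scheme, finite over that scheme, the projections of
the kernel pair are finite -/
theorem repWith_finite_kernelPair {X' : Sp S} {V T' : Over S} (b : (yon S).obj V ⟶ X')
    (g' : X' ⟶ (yon S).obj T') (hsep : IsSeparatedMor g') (q : V ⟶ T')
    (hq : b ≫ g' = (yon S).map q) (hfin : IsFinite q.left) :
    RepWith @IsFinite (pullback.fst b b) ∧ RepWith @IsFinite (pullback.snd b b) := by
  have sq := pullback_map_diagonal_isPullback b b g'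
  have hκ : RepWith @IsClosedImmersion
      (pullback.map b b (b ≫ g') (b ≫ g') (𝟙 _) (𝟙 _) g' (Category.id_comp _).symm
        (Category.id_comp _).symm) :=
    (repWith_isStableUnderBaseChange (S := S) @IsClosedImmersion).of_isPullback sq hsep
  have hκf : RepWith @IsFinite
      (pullback.map b b (b ≫ g') (b ≫ g') (𝟙 _) (𝟙 _) g' (Category.id_comp _).symm
        (Category.id_comp _).symm) :=
    Groth.Agent.Helper5.AffDesc.repWith_of_le
      (fun _ _ g (hg : IsClosedImmersion g) => (inferInstance : IsFinite g)) hκ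
  have hbg : RepWith @IsFinite (b ≫ g') := by
    rw [hq]; exact (repWith_yon_map_iff _ _).2 hfin
  have hf1 : RepWith @IsFinite (pullback.fst (b ≫ g') (b ≫ g')) :=
    (repWith_isStableUnderBaseChange (S := S) @IsFinite).of_isPullback
      (IsPullback.of_hasPullback (b ≫ g') (b ≫ g')).flip hbg
  have hf2 : RepWith @IsFinite (pullback.snd (b ≫ g') (b ≫ g')) :=
    (repWith_isStableUnderBaseChange (S := S) @IsFinite).of_isPullback
      (IsPullback.of_hasPullback (b ≫ g') (b ≫ g')) hbg
  have e1 : pullback.fst b b = pullback.map b b (b ≫ g') (b ≫ g') (𝟙 _) (𝟙 _) g'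
      (Category.id_comp _).symm (Category.id_comp _).symm ≫ pullback.fst _ _ := by
    rw [pullback.lift_fst, Category.comp_id]
  have e2 : pullback.snd b b = pullback.map b b (b ≫ g') (b ≫ g') (𝟙 _) (𝟙 _) g'
      (Category.id_comp _).symm (Category.id_comp _).symm ≫ pullback.snd _ _ := by
    rw [pullback.lift_snd, Category.comp_id]
  constructor
  · rw [e1]; exact Groth.Agent.Helper4.AlgSpSrc.repWith_comp _ hκf hf1
  · rw [e2]; exact Groth.Agent.Helper4.AlgSpSrc.repWith_comp _ hκf hf2

/-- the corestriction of an étale chart with finite kernel pair to its image is finite locally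
free -/
theorem isFinLocFreeMor_toImg {X' : Sp S} {V : Over S} (b : (yon S).obj V ⟶ X')
    (hb : RepWith @Etale b) (h2 : RepWith @IsFinite (pullback.snd b b)) :
    IsFinLocFreeMor (toImg b) := by
  have kp : IsKernelPair (toImg b ≫ imgι b) (pullback.fst b b) (pullback.snd b b) := by
    rw [toImg_ι]; exact IsPullback.of_hasPullback b b
  have sq : IsPullback (pullback.fst b b) (pullback.snd b b) (toImg b) (toImg b) :=
    kp.cancel_right_of_mono
  have hse : RepWith @Etale (pullback.snd b b) :=
    (repWith_isStableUnderBaseChange (S := S) @Etale).of_isPullback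
      (IsPullback.of_hasPullback b b) hb
  have hsnd : IsFinLocFreeMor (pullback.snd b b) := by
    refine ⟨h2.rep, fun T W ξ c e sqq => ?_⟩
    have hfin : IsFinite e.left := h2.property ξ c e sqq
    have het : Etale e.left := hse.property ξ c e sqq
    exact ⟨hfin, (inferInstance : Flat e.left), (inferInstance : LocallyOfFinitePresentation e.left)⟩
  exact Groth.Agent.Helper5.AffDesc.s10293 (toImg b) V (toImg b) (toImg_etale b hb)
    (toImg_surjective b hb) (pullback.fst b b) (pullback.snd b b) sq hsnd

end Groth.Agent.Helper5.QfSch
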