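import Groth.Agent.Helper4.AlgSpInj
import Mathlib

set_option autoImplicit false
set_option linter.style.haveILetI false
set_option linter.unusedSectionVars false
set_option linter.unusedVariables false
universe u
open CategoryTheory CategoryTheory.Limits AlgebraicGeometry Opposite

namespace Groth.Agent.Helper5.UnivInj

open AlgSp Groth.Agent.Helper4 Groth.Agent.Helper4.AlgSpInj

variable {S : Scheme.{u}}

/-- the point of a sheaf defined by a field-valued point given as a morphism -/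
noncomputable def ptOf {F : Sp S} {K : Type u} [Field K] {str : Spec (CommRingCat.of K) ⟶ S}
    (c : (yon S).obj (Over.mk str) ⟶ F) : Points F := Points.mk (ofHom c)

theorem exists_ptOf {F : Sp S} (x : Points F) :
    ∃ (K : Type u) (_ : Field K) (str : Spec (CommRingCat.of K) ⟶ S)
      (c : (yon S).obj (Over.mk str) ⟶ F), ptOf c = x := by
  induction x using Points.ind with
  | h p =>
    refine ⟨p.K, p.field, p.str, AlgSpInj.toHom p, ?_⟩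
    apply Points.sound
    rw [rel_iff]
    exact ⟨p.K, p.field, p.str, 𝟙 _, 𝟙 _, by rw [toHom_ofHom]; rfl⟩

theorem map_ptOf {F G : Sp S} (f : F ⟶ G) {K : Type u} [Field K]
    {str : Spec (CommRingCat.of K) ⟶ S} (c : (yon S).obj (Over.mk str) ⟶ F) :
    Points.map f (ptOf c) = ptOf (c ≫ f) := by
  unfold ptOf
  rw [Points.map_mk]
  apply Points.sound
  rw [rel_iff]
  refine ⟨K, inferInstance, str, 𝟙 _, 𝟙 _, ?_⟩
  rw [toHom_map, toHom_ofHom, toHom_ofHom]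
  rfl

theorem ptOf_eq_iff {F : Sp S} {K₁ K₂ : Type u} [Field K₁] [Field K₂]
    {str₁ : Spec (CommRingCat.of K₁) ⟶ S} {str₂ : Spec (CommRingCat.of K₂) ⟶ S}
    (c₁ : (yon S).obj (Over.mk str₁) ⟶ F) (c₂ : (yon S).obj (Over.mk str₂) ⟶ F) :
    ptOf c₁ = ptOf c₂ ↔ ∃ (Ω : Type u) (_ : Field Ω) (w : Spec (CommRingCat.of Ω) ⟶ S)
      (a : Over.mk w ⟶ Over.mk str₁) (b : Over.mk w ⟶ Over.mk str₂),
      (yon S).map a ≫ c₁ = (yon S).map b ≫ c₂ := by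
  unfold ptOf
  rw [Points.mk_eq_mk_iff, rel_iff]
  constructor
  · rintro ⟨Ω, _, w, a, b, h⟩
    rw [toHom_ofHom, toHom_ofHom] at h
    exact ⟨Ω, inferInstance, w, a, b, h⟩
  · rintro ⟨Ω, _, w, a, b, h⟩
    refine ⟨Ω, inferInstance, w, a, b, ?_⟩
    rw [toHom_ofHom, toHom_ofHom]
    exact h

theorem ptOf_precomp {F : Sp S} {K Ω : Type u} [Field K] [Field Ω]
    {str : Spec (CommRingCat.of K) ⟶ S} {w : Spec (CommRingCat.of Ω) ⟶ S}
    (a : Over.mk w ⟶ Over.mk str) (c : (yon S).obj (Over.mk str) ⟶ F) :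
    ptOf ((yon S).map a ≫ c) = ptOf c := by
  rw [ptOf_eq_iff]
  exact ⟨Ω, inferInstance, w, 𝟙 _, a, by simp⟩

/-- universal injectivity of a base change, in terms of the image of the diagonal -/
theorem isUnivInjectiveMor_baseChange_iff {X Y Z Z' Y' X' XX : Sp S} (hX : IsAlgSpace X)
    (hX' : IsAlgSpace X')
    (f : X ⟶ Y) (q : Y ⟶ Z) (pr0 pr1 : XX ⟶ X) (hXX : IsPullback pr0 pr1 f f)
    (Δ : X ⟶ XX) (hΔ0 : Δ ≫ pr0 = 𝟙 X) (hΔ1 : Δ ≫ pr1 = 𝟙 X)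
    (g : Z' ⟶ Z) (gY : Y' ⟶ Y) (q' : Y' ⟶ Z') (sqY : IsPullback gY q' q g)
    (gX : X' ⟶ X) (f' : X' ⟶ Y') (sqX : IsPullback gX f' f gY) :
    IsUnivInjectiveMor f' ↔ ∀ ξ : Points XX,
      Points.map (pr1 ≫ f ≫ q) ξ ∈ Set.range (Points.map g) → ξ ∈ Set.range (Points.map Δ) := by
  obtain ⟨cyc1, cyc2, cyc3⟩ := univInjective_cycle hX' f'
  constructor
  · intro hUI ξ hξ
    have hinj := cyc3 (cyc2 hUI)
    obtain ⟨K, _, str, c, rfl⟩ := exists_ptOf ξ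
    obtain ⟨z', hz'⟩ := hξ
    obtain ⟨K', _, str', d, rfl⟩ := exists_ptOf z'
    rw [map_ptOf, map_ptOf, ptOf_eq_iff] at hz'
    obtain ⟨Ω, _, w, a, b, hab⟩ := hz'
    obtain ⟨c', hc'⟩ : ∃ c' : (yon S).obj (Over.mk w) ⟶ XX, c' = (yon S).map b ≫ c := ⟨_, rfl⟩
    obtain ⟨d', hd'⟩ : ∃ d' : (yon S).obj (Over.mk w) ⟶ Z', d' = (yon S).map a ≫ d := ⟨_, rfl⟩
    have hab' : d' ≫ g = c' ≫ pr1 ≫ f ≫ q := by
      rw [hd', hc', Category.assoc, Category.assoc]; exact hab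
    have e12 : (c' ≫ pr0) ≫ f = (c' ≫ pr1) ≫ f := by
      rw [Category.assoc, Category.assoc, hXX.w]
    have hy : ((c' ≫ pr1) ≫ f) ≫ q = d' ≫ g := by
      rw [hab', Category.assoc, Category.assoc]
    obtain ⟨y', hy'⟩ : ∃ y' : (yon S).obj (Over.mk w) ⟶ Y', y' = sqY.lift _ _ hy := ⟨_, rfl⟩
    have hy'1 : y' ≫ gY = (c' ≫ pr1) ≫ f := by rw [hy']; exact sqY.lift_fst _ _ hy
    have h1 : (c' ≫ pr0) ≫ f = y' ≫ gY := by rw [hy'1, e12]
    have h2 : (c' ≫ pr1) ≫ f = y' ≫ gY := hy'1.symm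
    have hx : sqX.lift _ _ h1 = sqX.lift _ _ h2 := by
      apply hinj Ω w
      show sqX.lift _ _ h1 ≫ f' = sqX.lift _ _ h2 ≫ f'
      rw [sqX.lift_snd, sqX.lift_snd]
    have hx12 : c' ≫ pr0 = c' ≫ pr1 := by
      have := congrArg (fun φ => φ ≫ gX) hx
      simpa only [sqX.lift_fst] using this
    have hcΔ : c' = (c' ≫ pr0) ≫ Δ := by
      apply hXX.hom_ext
      · rw [Category.assoc, hΔ0, Category.comp_id]
      · rw [Category.assoc, hΔ1, Category.comp_id, hx12]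
    refine ⟨ptOf (c' ≫ pr0), ?_⟩
    rw [map_ptOf, ← hcΔ, hc', ptOf_precomp]
  · intro H
    apply cyc1
    intro K _ str x₁' x₂' hx'
    have hx'' : x₁' ≫ f' = x₂' ≫ f' := hx'
    have e12 : (x₁' ≫ gX) ≫ f = (x₂' ≫ gX) ≫ f := by
      rw [Category.assoc, Category.assoc, sqX.w, ← Category.assoc, ← Category.assoc, hx'']
    obtain ⟨ξ₀, hξ₀⟩ : ∃ ξ₀ : (yon S).obj (Over.mk str) ⟶ XX, ξ₀ = hXX.lift _ _ e12 := ⟨_, rfl⟩
    have hξ0 : ξ₀ ≫ pr0 = x₁' ≫ gX := by rw [hξ₀]; exact hXX.lift_fst _ _ e12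
    have hξ1 : ξ₀ ≫ pr1 = x₂' ≫ gX := by rw [hξ₀]; exact hXX.lift_snd _ _ e12
    have hmem : Points.map (pr1 ≫ f ≫ q) (ptOf ξ₀) ∈ Set.range (Points.map g) := by
      refine ⟨ptOf (x₂' ≫ f' ≫ q'), ?_⟩
      rw [map_ptOf, map_ptOf]
      congr 1
      rw [← Category.assoc ξ₀, hξ1, Category.assoc, Category.assoc, Category.assoc,
        ← Category.assoc gX, sqX.w, Category.assoc, sqY.w]
    obtain ⟨x, hx⟩ := H _ hmem
    obtain ⟨L, _, strL, e, rfl⟩ := exists_ptOf x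
    rw [map_ptOf, ptOf_eq_iff] at hx
    obtain ⟨Ω, _, w, b, a, hab⟩ := hx
    have k0 := congrArg (fun φ => φ ≫ pr0) hab
    have k1 := congrArg (fun φ => φ ≫ pr1) hab
    simp only [Category.assoc, hΔ0, hΔ1, Category.comp_id, hξ0, hξ1] at k0 k1
    have hx12 : x₁' ≫ gX = x₂' ≫ gX :=
      section_ext_of_field_ext hX.diag a _ _ (k0.symm.trans k1)
    exact sqX.hom_ext hx12 hx''

end Groth.Agent.Helper5.UnivInj
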