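import Mathlib
import Groth.Agent.Helper5.UnivInj1
import Groth.Agent.Helper4.AlgSpPtsDesc

/-!
# Helper5: points of a base change along a morphism with trivial residue field extension
-/

set_option autoImplicit false
universe u
open CategoryTheory CategoryTheory.Limits AlgebraicGeometry Opposite

namespace Groth.Agent.Helper5.QfSch

open AlgSp Groth.Agent.Helper5.UnivInj

variable {S : Scheme.{u}}

theorem ptOf_yon_map {T' : Over S} {K : Type u} [Field K] {str : Spec (CommRingCat.of K) ⟶ S}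
    (k : Over.mk str ⟶ T') :
    ptOf ((yon S).map k) = Points.schemeHomeo T' (k.left (IsLocalRing.closedPoint K)) := by
  have h := Points.ofScheme_apply_eq_mk T' k.left (Over.w k)
  change _ = Points.ofScheme T' _
  rw [h]
  rfl

/-- two points of a base change `X ×_T T'` over the same point of `X` and over the same point `t'`
of `T'` coincide, when field-valued points of `T'` at `t'` are determined by their images in `T` -/
theorem point_unique_of_trivial_residue {T T' : Over S} {X X' : Sp S} (f : X ⟶ (yon S).obj T)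
    (τ : T' ⟶ T) (π' : X' ⟶ X) (g' : X' ⟶ (yon S).obj T')
    (sq : IsPullback π' g' f ((yon S).map τ)) (t' : T'.left)
    (hUq : ∀ (K : Type u) [Field K] (k₁ k₂ : Spec (CommRingCat.of K) ⟶ T'.left),
      k₁ (IsLocalRing.closedPoint K) = t' → k₂ (IsLocalRing.closedPoint K) = t' →
      k₁ ≫ τ.left = k₂ ≫ τ.left → k₁ = k₂)
    (p₁ p₂ : Points X') (h1 : Points.map π' p₁ = Points.map π' p₂)
    (h21 : Points.map g' p₁ = Points.schemeHomeo T' t')
    (h22 : Points.map g' p₂ = Points.schemeHomeo T' t') : p₁ = p₂ := by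
  obtain ⟨K₁, _, str₁, c₁, rfl⟩ := exists_ptOf p₁
  obtain ⟨K₂, _, str₂, c₂, rfl⟩ := exists_ptOf p₂
  rw [map_ptOf, map_ptOf, ptOf_eq_iff] at h1
  obtain ⟨Ω, _, w, a, b, hab⟩ := h1
  obtain ⟨d₁, hd₁⟩ : ∃ d : (yon S).obj (Over.mk w) ⟶ X', d = (yon S).map a ≫ c₁ := ⟨_, rfl⟩
  obtain ⟨d₂, hd₂⟩ : ∃ d : (yon S).obj (Over.mk w) ⟶ X', d = (yon S).map b ≫ c₂ := ⟨_, rfl⟩
  have hd : d₁ ≫ π' = d₂ ≫ π' := by
    rw [hd₁, hd₂, Category.assoc, Category.assoc]; exact hab
  obtain ⟨k₁, hk₁⟩ := (yon S).map_surjective (d₁ ≫ g')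
  obtain ⟨k₂, hk₂⟩ := (yon S).map_surjective (d₂ ≫ g')
  have hkτ : k₁ ≫ τ = k₂ ≫ τ := by
    apply (yon S).map_injective
    rw [Functor.map_comp, Functor.map_comp, hk₁, hk₂]
    calc (d₁ ≫ g') ≫ (yon S).map τ = (d₁ ≫ π') ≫ f := by
          rw [Category.assoc, Category.assoc, sq.w]
      _ = (d₂ ≫ π') ≫ f := by rw [hd]
      _ = (d₂ ≫ g') ≫ (yon S).map τ := by
          rw [Category.assoc, Category.assoc, sq.w]
  have hpt₁ : k₁.left (IsLocalRing.closedPoint Ω) = t' := by
    apply (Points.schemeHomeo T').injective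
    rw [← ptOf_yon_map, hk₁, ← h21, map_ptOf, hd₁, Category.assoc, ptOf_precomp]
  have hpt₂ : k₂.left (IsLocalRing.closedPoint Ω) = t' := by
    apply (Points.schemeHomeo T').injective
    rw [← ptOf_yon_map, hk₂, ← h22, map_ptOf, hd₂, Category.assoc, ptOf_precomp]
  have hk : k₁ = k₂ := by
    apply Over.OverMorphism.ext
    exact hUq Ω k₁.left k₂.left hpt₁ hpt₂ (congrArg (fun k => k.left) hkτ)
  have hdd : d₁ = d₂ := by
    apply sq.hom_ext hd
    rw [← hk₁, ← hk₂, hk]
  rw [← ptOf_precomp a c₁, ← ptOf_precomp b c₂, ← hd₁, ← hd₂, hdd]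

end Groth.Agent.Helper5.QfSch
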