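import Mathlib
import Groth.Agent.Helper5.UnivInj1
import Groth.Agent.Helper4.AlgSpPtsDesc

/-!
# Helper5: finite sets of points in separated locally quasi-finite schemes over an affine base
lie in an affine open
-/

set_option autoImplicit false
set_option linter.style.haveILetI false
universe u
open CategoryTheory CategoryTheory.Limits AlgebraicGeometry Opposite TopologicalSpace

namespace Groth.Agent.Helper5.QfSch

/-- a finite set of points of a quasi-affine scheme lies in an affine basic open -/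
theorem exists_affine_basicOpen_of_finite (Z : Scheme.{u}) [Z.IsQuasiAffine] (F : Set Z)
    (hF : F.Finite) :
    ∃ r : Γ(Z, ⊤), IsAffineOpen (Z.basicOpen r) ∧ F ⊆ Z.basicOpen r := by
  classical
  rcases F.eq_empty_or_nonempty with hFe | ⟨x₀, hx₀⟩
  · refine ⟨0, ?_, by rw [hFe]; exact Set.empty_subset _⟩
    rw [Scheme.basicOpen_zero]
    exact isAffineOpen_bot Z
  let pr : Z → PrimeSpectrum Γ(Z, ⊤) := fun x => Z.toSpecΓ x
  let U : Set (PrimeSpectrum Γ(Z, ⊤)) := Set.range pr
  have hUo : IsOpen U := Z.toSpecΓ.isOpenEmbedding.isOpen_range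
  let I : Ideal Γ(Z, ⊤) := PrimeSpectrum.vanishingIdeal Uᶜ
  have hI : PrimeSpectrum.zeroLocus (I : Set Γ(Z, ⊤)) = Uᶜ := by
    rw [PrimeSpectrum.zeroLocus_vanishingIdeal_eq_closure]
    exact hUo.isClosed_compl.closure_eq
  have hnot : ∀ x ∈ F, ¬ (I ≤ (pr x).asIdeal) := by
    intro x _ hle
    have : pr x ∈ PrimeSpectrum.zeroLocus (I : Set Γ(Z, ⊤)) := hle
    rw [hI] at this
    exact this ⟨x, rfl⟩
  have hav : ¬ ((I : Set Γ(Z, ⊤)) ⊆ ⋃ x ∈ (hF.toFinset : Set Z), ((pr x).asIdeal : Set Γ(Z, ⊤))) := by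
    rw [Ideal.subset_union_prime (f := fun x => (pr x).asIdeal) x₀ x₀
      (fun x _ _ _ => (pr x).isPrime)]
    rintro ⟨x, hx, hle⟩
    exact hnot x (hF.mem_toFinset.1 hx) hle
  rw [Set.not_subset] at hav
  obtain ⟨r, hrI, hr⟩ := hav
  have hrU : (PrimeSpectrum.basicOpen r : Set (PrimeSpectrum Γ(Z, ⊤))) ⊆ U := by
    intro p hp
    by_contra hpU
    have : p ∈ PrimeSpectrum.zeroLocus (I : Set Γ(Z, ⊤)) := by rw [hI]; exact hpU
    exact hp (this hrI)
  refine ⟨r, ?_, ?_⟩
  · rw [← Scheme.toSpecΓ_preimage_basicOpen]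
    rw [← Scheme.Hom.isAffineOpen_iff_of_isOpenImmersion Z.toSpecΓ]
    have e : Z.toSpecΓ ''ᵁ Z.toSpecΓ ⁻¹ᵁ PrimeSpectrum.basicOpen r =
        PrimeSpectrum.basicOpen r := by
      apply SetLike.coe_injective
      exact (Set.image_preimage_eq_of_subset hrU :)
    rw [e]
    exact IsAffineOpen.Spec_basicOpen r
  · intro x hx
    rw [← Scheme.toSpecΓ_preimage_basicOpen]
    change pr x ∈ PrimeSpectrum.basicOpen r
    intro hmem
    apply hr
    simp only [Set.mem_iUnion]
    exact ⟨x, by simpa using hx, hmem⟩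

/-- a finite set of points of a scheme separated and locally quasi-finite over an affine scheme
lies in an affine open -/
theorem exists_affineOpen_of_finite {N B : Scheme.{u}} (n₀ : N ⟶ B) [IsAffine B]
    [IsSeparated n₀] [LocallyQuasiFinite n₀] [LocallyOfFiniteType n₀] (F : Set N)
    (hF : F.Finite) : ∃ O : N.Opens, IsAffineOpen O ∧ F ⊆ O := by
  classical
  have hch : ∀ x : N, ∃ W : N.Opens, IsAffineOpen W ∧ x ∈ W := fun x => by
    obtain ⟨_, ⟨W, hW, rfl⟩, hxW, -⟩ :=
      N.isBasis_affineOpens.exists_subset_of_mem_open (Set.mem_univ x) isOpen_univ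
    exact ⟨W, hW, hxW⟩
  choose W hW hxW using hch
  let N₁ : N.Opens := ⨆ x ∈ hF.toFinset, W x
  have hcpt : IsCompact (N₁ : Set N) := by
    have : (N₁ : Set N) = ⋃ x ∈ hF.toFinset, (W x : Set N) := by
      simp [N₁]
    rw [this]
    exact hF.toFinset.isCompact_biUnion fun x _ => (hW x).isCompact
  have hFN : F ⊆ N₁ := by
    intro x hx
    have : x ∈ ⨆ x ∈ hF.toFinset, W x := by
      simp only [Opens.mem_iSup]
      exact ⟨x, hF.mem_toFinset.2 hx, hxW x⟩
    exact this
  haveI : CompactSpace N₁ := isCompact_iff_compactSpace.mp hcpt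
  let n₁ : N₁.toScheme ⟶ B := N₁.ι ≫ n₀
  haveI : QuasiCompact n₁ := (quasiCompact_iff_compactSpace n₁).2 inferInstance
  haveI : IsAffine n₁.normalization := isAffine_of_isAffineHom n₁.fromNormalization
  haveI : N₁.toScheme.IsQuasiAffine := Scheme.IsQuasiAffine.of_isImmersion n₁.toNormalization
  obtain ⟨r, hr, hFr⟩ := exists_affine_basicOpen_of_finite N₁.toScheme (N₁.ι ⁻¹' F)
    (hF.preimage (N₁.ι.isOpenEmbedding.injective.injOn))
  refine ⟨N₁.ι ''ᵁ (N₁.toScheme.basicOpen r), hr.image_of_isOpenImmersion N₁.ι, ?_⟩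
  intro x hx
  exact ⟨⟨x, hFN hx⟩, hFr (show N₁.ι ⟨x, hFN hx⟩ ∈ F from hx), rfl⟩

open AlgSp Groth.Agent.Helper5.UnivInj in
/-- a representable finite morphism of sheaves has finite fibres on points -/
theorem finite_fibre_of_repWith_finite {S : Scheme.{u}} {X' X : Sp S} (π : X' ⟶ X)
    (hπ : RepWith @IsFinite π) (x : Points X) : (Points.map π ⁻¹' {x}).Finite := by
  obtain ⟨K, _, str, c, rfl⟩ := exists_ptOf x
  have sq := hπ.rep.isPullback c
  haveI hfin : IsFinite (hπ.rep.snd c).left := hπ.property c _ _ sq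
  have hZ : ((hπ.rep.snd c).left ⁻¹' {IsLocalRing.closedPoint K}).Finite :=
    Scheme.Hom.finite_preimage_singleton _ _
  have hZ' : (Set.univ : Set (hπ.rep.pullback c).left).Finite := by
    refine hZ.subset ?_
    intro z _
    exact Subsingleton.elim (α := PrimeSpectrum K) _ _
  refine ((hZ'.image (fun z => Points.map (hπ.rep.fst c)
    (Points.schemeHomeo _ z)))).subset ?_
  intro x' hx'
  obtain ⟨p, hp1, hp2⟩ := Groth.Agent.Helper4.AlgSpPtsDesc.exists_point_of_isPullback sq x'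
    (ptOf (𝟙 _)) (by rw [map_ptOf, Category.id_comp]; exact hx')
  obtain ⟨z, rfl⟩ := (Points.schemeHomeo _).surjective p
  exact ⟨z, trivial, hp1⟩

end Groth.Agent.Helper5.QfSch
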