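import Mathlib

/-! Flat base change of the scheme theoretic image of a quasi-compact morphism. -/

set_option autoImplicit false
universe u
open CategoryTheory CategoryTheory.Limits AlgebraicGeometry Opposite MorphismProperty

namespace Groth.Agent.Helper5.ImgFlat

set_option backward.isDefEq.respectTransparency.types false in
/-- a quasi-compact morphism is scheme theoretically dominant onto its image -/
theorem toImage_ker_eq_bot {X Y : Scheme.{u}} (f : X ⟶ Y) [QuasiCompact f] :
    f.toImage.ker = ⊥ := by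
  refine Scheme.IdealSheafData.ext_of_iSup_eq_top
    (fun U : Y.affineOpens => ⟨f.imageι ⁻¹ᵁ U.1, U.2.preimage f.imageι⟩) ?_ ?_
  · have h1 : ⨆ U : Y.affineOpens, (U.1 : Y.Opens) = ⊤ := by
      rw [eq_top_iff]
      rintro x -
      obtain ⟨_, ⟨V, hV, rfl⟩, hxV, -⟩ :=
        Y.isBasis_affineOpens.exists_subset_of_mem_open (Set.mem_univ x) isOpen_univ
      exact TopologicalSpace.Opens.mem_iSup.2 ⟨⟨V, hV⟩, hxV⟩
    show ⨆ U : Y.affineOpens, f.imageι ⁻¹ᵁ U.1 = ⊤
    rw [← Scheme.Hom.preimage_iSup, h1]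
    rfl
  · intro U
    rw [Scheme.Hom.ker_apply, Scheme.IdealSheafData.ideal_bot]
    exact (RingHom.injective_iff_ker_eq_bot _).1 (f.toImage_app_injective U)

instance {X Y : Scheme.{u}} (f : X ⟶ Y) [QuasiCompact f] :
    IsSchemeTheoreticallyDominant f.toImage := ⟨toImage_ker_eq_bot f⟩

/-- flat base change of the ideal of the image -/
theorem ker_snd_eq_of_flat {ZU U Zb R Z' : Scheme.{u}} (w : ZU ⟶ U) (ī : Zb ⟶ U)
    (j : ZU ⟶ Zb) (hj : j ≫ ī = w) [IsSchemeTheoreticallyDominant j] [QuasiCompact j]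
    (g : R ⟶ U) [Flat g] (q : Z' ⟶ ZU) (w' : Z' ⟶ R) (sq : IsPullback q w' w g) :
    (pullback.snd ī g).ker = w'.ker := by
  let j' : Z' ⟶ pullback ī g := pullback.lift (q ≫ j) w' (by rw [Category.assoc, hj, sq.w])
  have hj'2 : j' ≫ pullback.snd ī g = w' := pullback.lift_snd _ _ _
  have hj'1 : j' ≫ pullback.fst ī g = q ≫ j := pullback.lift_fst _ _ _
  have big : IsPullback (j' ≫ pullback.snd ī g) q g (j ≫ ī) := by
    rw [hj'2, hj]
    exact sq.flip
  have sqL : IsPullback j' q (pullback.fst ī g) j :=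
    IsPullback.of_right big hj'1 (IsPullback.of_hasPullback ī g).flip
  have hd : IsSchemeTheoreticallyDominant j' := IsSchemeTheoreticallyDominant.of_isPullback sqL.flip
  rw [← hj'2, Scheme.Hom.ker_comp, j'.ker_eq_bot, Scheme.IdealSheafData.map_bot]

end Groth.Agent.Helper5.ImgFlat
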