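import Groth.Agent.Helper5.SchDenseSp3
import Groth.Agent.Helper5.ImgFlat1
import Groth.Agent.Helper3.SchDenseExt
import Mathlib

/-! Scheme theoretic images: reusable pieces, and quasi-compact open subspaces. -/

set_option autoImplicit false
universe u
open CategoryTheory CategoryTheory.Limits AlgebraicGeometry Opposite MorphismProperty

namespace Groth.Agent.Helper5.SchImg

open AlgSp Groth.Agent.Helper4.AlgSpOpenImage Groth.Agent.Helper4.AlgSpBasic
  Groth.Agent.Helper5.RedInd Groth.Agent.Helper5.ClosedSub Groth.Agent.Helper5.GeomFibSp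
  Groth.Agent.Helper5.SchDenseSp

/-- flat base change of the kernel of a quasi-compact morphism -/
theorem ker_comap_of_flat {A B A' B' : Scheme.{u}} (w : A ⟶ B) [QuasiCompact w] (g : B' ⟶ B)
    [Flat g] (q : A' ⟶ A) (w' : A' ⟶ B') (sq : IsPullback q w' w g) : w'.ker = w.ker.comap g := by
  have h1 := Groth.Agent.Helper5.ImgFlat.ker_snd_eq_of_flat w w.imageι w.toImage
    w.toImage_imageι g q w' sq
  rw [← h1, ker_of_isPullback (IsPullback.of_hasPullback w.imageι g)]
  congr 1
  exact w.ker.ker_subschemeι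

/-- a quasi-compact open with trivial kernel is schematically dense (in the strong sense) -/
theorem dense_of_ker_eq_bot {X : Scheme.{u}} (W : X.Opens) [QuasiCompact W.ι]
    (h : W.ι.ker = ⊥) : CInt.IsSchematicallyDense W := by
  intro V'
  rw [injective_iff_map_eq_zero]
  intro a ha
  apply Groth.Agent.Helper3.SchDense.eq_zero_of_germ
  intro x hx
  obtain ⟨_, ⟨A, hA, rfl⟩, hxA, hAV : A ≤ V'⟩ :=
    X.isBasis_affineOpens.exists_subset_of_mem_open hx V'.2
  replace hA : IsAffineOpen A := hA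
  let aA : Γ(X, A) := X.presheaf.map (homOfLE hAV).op a
  have h1 : aA ∈ W.ι.ker.ideal ⟨A, hA⟩ := by
    rw [Scheme.Hom.ker_apply, RingHom.mem_ker]
    have hle : W.ι ''ᵁ W.ι ⁻¹ᵁ A ≤ V' ⊓ W := by
      rintro _ ⟨y, hy, rfl⟩
      exact ⟨hAV hy, y.2⟩
    have hle2 : W.ι ''ᵁ W.ι ⁻¹ᵁ A ≤ A := Set.image_preimage_subset _ _
    have : (W.ι.app A) aA =
        X.presheaf.map (homOfLE hle).op
          (X.presheaf.map (homOfLE (inf_le_left : V' ⊓ W ≤ V')).op a) := by
      show (X.presheaf.map (homOfLE hAV).op ≫ X.presheaf.map (homOfLE hle2).op) a =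
        (X.presheaf.map (homOfLE (inf_le_left : V' ⊓ W ≤ V')).op ≫
          X.presheaf.map (homOfLE hle).op) a
      rw [← Functor.map_comp, ← Functor.map_comp]
      rfl
    show (W.ι.app A) aA = 0
    rw [this, ha, map_zero]
    rfl
  rw [h, Scheme.IdealSheafData.ideal_bot] at h1
  have h2 : aA = 0 := h1
  have e2 : X.presheaf.germ A x hxA aA = X.presheaf.germ V' x hx a :=
    TopCat.Presheaf.germ_res_apply _ _ _ _ _
  rw [← e2, h2, map_zero]

variable {S : Scheme.{u}}

theorem repWith_of_isIso' (P : MorphismProperty Scheme.{u}) (hid : ∀ X : Scheme.{u}, P (𝟙 X))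
    [P.IsStableUnderBaseChange] {F G : Sp S} (f : F ⟶ G) [IsIso f] : RepWith P f := by
  apply MorphismProperty.relative.of_exists
  intro a g
  refine ⟨a, g ≫ inv f, 𝟙 a, ?_, hid _⟩
  rw [(yon S).map_id]
  exact IsPullback.of_vert_isIso ⟨by simp⟩

theorem epi_of_etale_surjective {V : Over S} {Y : Sp S} (p : (yon S).obj V ⟶ Y)
    (hp : RepWith @Etale p) (hps : RepWith @Surjective p) : Epi p := by
  have : Sheaf.IsLocallySurjective p :=
    Groth.Agent.S9885.result S _ _ p
      (Groth.Agent.Helper5.AffDesc.repWith_of_le Groth.Agent.Helper5.AffDesc.etale_le_flat hp)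
      (Groth.Agent.Helper5.AffDesc.repWith_of_le Groth.Agent.Helper5.AffDesc.etale_le_lfp hp) hps
  infer_instance

/-- invariance of an ideal sheaf of the atlas in terms of points -/
theorem ker_le_of_invariant {Y : Sp S} {V R₀ : Over S} (p : (yon S).obj V ⟶ Y)
    (pr₁ pr₂ : R₀ ⟶ V) (sqR : IsPullback ((yon S).map pr₁) ((yon S).map pr₂) p p)
    (J : V.left.IdealSheafData) (hJ : J.comap pr₁.left = J.comap pr₂.left)
    (T'' : Over S) (α β : T'' ⟶ V) (hαβ : (yon S).map α ≫ p = (yon S).map β ≫ p)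
    (hα : J ≤ α.left.ker) : J ≤ β.left.ker := by
  obtain ⟨ρ, hρ⟩ := (yon S).map_surjective (sqR.lift _ _ hαβ)
  have hρ1 : ρ ≫ pr₁ = α := by
    apply (yon S).map_injective
    rw [Functor.map_comp, hρ, sqR.lift_fst]
  have hρ2 : ρ ≫ pr₂ = β := by
    apply (yon S).map_injective
    rw [Functor.map_comp, hρ, sqR.lift_snd]
  rw [← hρ1, Over.comp_left, Scheme.Hom.ker_comp, Scheme.IdealSheafData.le_map_iff_comap_le,
    hJ, ← Scheme.IdealSheafData.le_map_iff_comap_le, ← Scheme.Hom.ker_comp, ← Over.comp_left,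
    hρ2] at hα
  exact hα

/-- the closed subscheme of the atlas cut out by an ideal sheaf, over `S` -/
noncomputable def subOver {V : Over S} (I : V.left.IdealSheafData) : Over S :=
  Over.mk (I.subschemeι ≫ V.hom)

noncomputable def subι {V : Over S} (I : V.left.IdealSheafData) : subOver I ⟶ V :=
  Over.homMk I.subschemeι rfl

instance {V : Over S} (I : V.left.IdealSheafData) : IsClosedImmersion (subι I).left :=
  inferInstanceAs (IsClosedImmersion I.subschemeι)

theorem subι_ker {V : Over S} (I : V.left.IdealSheafData) : (subι I).left.ker = I :=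
  I.ker_subschemeι

theorem points_invariant {Y : Sp S} {V R₀ : Over S} (p : (yon S).obj V ⟶ Y)
    (pr₁ pr₂ : R₀ ⟶ V) (sqR : IsPullback ((yon S).map pr₁) ((yon S).map pr₂) p p)
    (I : V.left.IdealSheafData) (hI : I.comap pr₁.left = I.comap pr₂.left) :
    ∀ (T'' : Over S) (α β : T'' ⟶ V), (yon S).map α ≫ p = (yon S).map β ≫ p →
      (∃ z₀ : T'' ⟶ subOver I, z₀ ≫ subι I = α) → ∃ z₁ : T'' ⟶ subOver I, z₁ ≫ subι I = β := by
  rintro T'' α β hαβ ⟨z₀, rfl⟩
  have h1 : I ≤ (z₀ ≫ subι I).left.ker := by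
    have e1 : (z₀ ≫ subι I).left = z₀.left ≫ (subι I).left := rfl
    rw [e1]
    have e2 : I = (subι I).left.ker := (subι_ker I).symm
    exact e2.le.trans (ker_le_of_factor _ _)
  have h2 := ker_le_of_invariant p pr₁ pr₂ sqR I hI T'' _ β hαβ h1
  exact exists_over_lift (subι I) β (by rw [subι_ker]; exact h2)

/-- `f` factors through the image of a closed subscheme of the atlas through which a chart of `f`
factors. -/
theorem factors_through_img {X Y : Sp S} (f : X ⟶ Y) {V W ZV : Over S} (p : (yon S).obj V ⟶ Y)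
    (u : (yon S).obj W ⟶ X) [Epi u] (g : W ⟶ V) (huf : u ≫ f = (yon S).map g ≫ p)
    (ī : ZV ⟶ V) (gI : W ⟶ ZV) (hgI : gI ≫ ī = g) :
    ∃ f' : X ⟶ img ((yon S).map ī ≫ p), f' ≫ imgι ((yon S).map ī ≫ p) = f := by
  generalize ha : (yon S).map ī ≫ p = a
  apply exists_lift_of_mono
  intro T s
  obtain ⟨R₁, hR₁, hl₁⟩ := Groth.Agent.Helper5.QuotEff.loc_lift u s
  apply Groth.Agent.Helper5.SpCoprod.exists_lift_of_local_lift (imgι a) (s ≫ f) R₁ hR₁
  intro T' γ hγ
  obtain ⟨z, hz⟩ := hl₁ γ hγ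
  refine ⟨z ≫ (yon S).map gI ≫ toImg a, ?_⟩
  simp only [Category.assoc, toImg_ι]
  rw [← ha, ← Category.assoc ((yon S).map gI), ← Functor.map_comp, hgI, ← huf, ← Category.assoc,
    hz, Category.assoc]

/-- the image of a closed subscheme of the atlas is contained in any subobject through which it
factors. -/
theorem img_le_of_factor {Y Z' : Sp S} {V ZV : Over S} (p : (yon S).obj V ⟶ Y) (ī : ZV ⟶ V)
    (i' : Z' ⟶ Y) [Mono i'] (e : (yon S).obj ZV ⟶ Z') (he : e ≫ i' = (yon S).map ī ≫ p) :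
    ∃ k : img ((yon S).map ī ≫ p) ⟶ Z', k ≫ i' = imgι ((yon S).map ī ≫ p) := by
  generalize ha : (yon S).map ī ≫ p = a at he
  apply exists_lift_of_mono
  intro T s
  obtain ⟨R₁, hR₁, hl₁⟩ := loc_lift_img a s
  apply Groth.Agent.Helper5.SpCoprod.exists_lift_of_local_lift i' _ R₁ hR₁
  intro T' γ hγ
  obtain ⟨z, hz⟩ := hl₁ γ hγ
  refine ⟨z ≫ e, ?_⟩
  have e1 : z ≫ a = (z ≫ toImg a) ≫ imgι a := by rw [Category.assoc, toImg_ι]
  rw [Category.assoc, he, e1, hz, Category.assoc]

end Groth.Agent.Helper5.SchImg
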