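import Mathlib
import Groth.Agent.Helper5.QfSch4
import Groth.Agent.Helper5.QfSch5
import Groth.Agent.Helper5.QfSch6
import Groth.Agent.Helper5.SchImg2
import Groth.Agent.Helper5.FpqcIso

/-!
# Helper5: space-level lemmas for "separated locally quasi-finite over a scheme is a scheme"
-/

set_option autoImplicit false
set_option linter.style.haveILetI false
universe u
open CategoryTheory CategoryTheory.Limits AlgebraicGeometry Opposite

namespace Groth.Agent.Helper5.QfSch

open AlgSp Groth.Agent.Helper4.AlgSpOpenImage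

variable {S : Scheme.{u}}

/-- the image of an étale chart from an affine scheme, finite over a scheme over which the space
is separated, is an open subspace which is a scheme -/
theorem img_isRepresentable {X' : Sp S} (hX' : IsAlgSpace X') {V T' : Over S} [IsAffine V.left]
    (b : (yon S).obj V ⟶ X') (hb : RepWith @Etale b) (g' : X' ⟶ (yon S).obj T')
    (hsep : IsSeparatedMor g') (q : V ⟶ T') (hq : b ≫ g' = (yon S).map q)
    (hfin : IsFinite q.left) : (img b).obj.IsRepresentable := by
  obtain ⟨-, h2⟩ := repWith_finite_kernelPair b g' hsep q hq hfin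
  have hflf := isFinLocFreeMor_toImg b hb h2
  have hs := toImg_surjective b hb
  have hM := isAlgSpace_img b hX'.diag hb
  exact isRepresentable_of_finLocFree_affine_chart hM (toImg b) hflf hs

theorem ofPt_mem_range_imgι {X' : Sp S} {V : Over S} (b : (yon S).obj V ⟶ X') (v : V.left) :
    Points.ofPt b v ∈ Set.range (Points.map (imgι b)) :=
  ⟨Points.ofPt (toImg b) v, by rw [Points.map_ofPt, toImg_ι]⟩

/-- a base change of a representable sheaf along a representable morphism is representable -/
theorem isRepresentable_of_isPullback {P M N X' : Sp S} {fst : P ⟶ M} {snd : P ⟶ N}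
    {jM : M ⟶ X'} {μ : N ⟶ X'} (sq : IsPullback fst snd jM μ) (hμ : Representable μ)
    (hM : M.obj.IsRepresentable) : P.obj.IsRepresentable := by
  obtain ⟨Ms, ⟨r⟩⟩ := hM.has_representation
  let e : (yon S).obj Ms ≅ M := isoOfRepresentableBy r
  let c : (yon S).obj Ms ⟶ X' := e.hom ≫ jM
  have sq1 : IsPullback (hμ.fst c) ((yon S).map (hμ.snd c)) μ c := hμ.isPullback c
  have sq2 : IsPullback (fst ≫ e.inv) snd c μ := by
    refine IsPullback.of_iso sq (Iso.refl _) e.symm (Iso.refl _) (Iso.refl _) ?_ ?_ ?_ ?_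
    · simp
    · simp
    · simp [c]
    · simp
  let θ : P ≅ (yon S).obj (hμ.pullback c) := sq2.flip.isoIsPullback _ _ sq1
  exact ⟨⟨hμ.pullback c, ⟨representableByOfIso θ.symm⟩⟩⟩

/-- lifting an étale chart to a base change -/
theorem exists_chart_lift {T T' U U' : Over S} {X X' : Sp S} (f : X ⟶ (yon S).obj T)
    (τ : T' ⟶ T) (π' : X' ⟶ X) (g' : X' ⟶ (yon S).obj T')
    (sq : IsPullback π' g' f ((yon S).map τ)) (a : (yon S).obj U ⟶ X) (ha : RepWith @Etale a)
    (φ : U ⟶ T) (hφ : a ≫ f = (yon S).map φ) (p₁ : U' ⟶ U) (p₂ : U' ⟶ T')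
    (sqU : IsPullback p₁ p₂ φ τ) :
    ∃ a' : (yon S).obj U' ⟶ X', a' ≫ π' = (yon S).map p₁ ≫ a ∧ a' ≫ g' = (yon S).map p₂ ∧
      RepWith @Etale a' := by
  have sqY : IsPullback ((yon S).map p₁) ((yon S).map p₂) ((yon S).map φ) ((yon S).map τ) :=
    sqU.map (yon S)
  have hc : ((yon S).map p₁ ≫ a) ≫ f = (yon S).map p₂ ≫ (yon S).map τ := by
    rw [Category.assoc, hφ]; exact sqY.w
  refine ⟨sq.lift ((yon S).map p₁ ≫ a) ((yon S).map p₂) hc, sq.lift_fst _ _ _,
    sq.lift_snd _ _ _, ?_⟩
  have sqπ : IsPullback (sq.lift ((yon S).map p₁ ≫ a) ((yon S).map p₂) hc) ((yon S).map p₁)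
      π' a := by
    refine IsPullback.of_right ?_ (sq.lift_fst _ _ _) sq.flip
    rw [sq.lift_snd, hφ]
    exact sqY.flip
  exact (repWith_isStableUnderBaseChange (S := S) @Etale).of_isPullback sqπ.flip ha

end Groth.Agent.Helper5.QfSch
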