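import Mathlib
import Groth.Agent.Helper5.QfSch8

/-!
# Helper5: points of the finite flat cover over a point with a schematic étale-local
neighbourhood lie in the schematic locus
-/

set_option autoImplicit false
set_option linter.style.haveILetI false
universe u
open CategoryTheory CategoryTheory.Limits AlgebraicGeometry Opposite

namespace Groth.Agent.Helper5.QfSch

open AlgSp Groth.Agent.Helper4.AlgSpOpenImage

variable {S : Scheme.{u}}

theorem exists_open_subscheme_fibre_point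
    {T : Over S} {X : Sp S} (f : X ⟶ (yon S).obj T)
    {T' : Over S} (τ : T' ⟶ T) (t' : T'.left)
    (hUq : ∀ (K : Type u) [Field K] (k₁ k₂ : Spec (CommRingCat.of K) ⟶ T'.left),
      k₁ (IsLocalRing.closedPoint K) = t' → k₂ (IsLocalRing.closedPoint K) = t' →
      k₁ ≫ τ.left = k₂ ≫ τ.left → k₁ = k₂)
    {X' : Sp S} (π' : X' ⟶ X) (g' : X' ⟶ (yon S).obj T')
    (sqX' : IsPullback π' g' f ((yon S).map τ))
    {M : Sp S} (jM : M ⟶ X') (hjM : RepWith @IsOpenImmersion jM) (hM : M.obj.IsRepresentable)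
    (x : Points X) (pM : Points X') (hpM : pM ∈ Set.range (Points.map jM))
    (hpM1 : Points.map π' pM = x) (hpM2 : Points.map g' pM = Points.schemeHomeo T' t')
    {Tb : Over S} (β : Tb ⟶ T) {Xb : Sp S} (πb : Xb ⟶ X) (gb : Xb ⟶ (yon S).obj Tb)
    (sqXb : IsPullback πb gb f ((yon S).map β))
    {Wi : Over S} (w : Wi ⟶ Tb) (hw : IsOpenImmersion w.left) (ψ : Wi ⟶ T')
    (hψ : ψ ≫ τ = w ≫ β)
    (xb : Points Xb) (hxb : Points.map πb xb = x) (w₀ : Wi.left)
    (hw₀1 : Points.map gb xb = Points.schemeHomeo Tb (w.left w₀)) (hw₀2 : ψ.left w₀ = t') :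
    ∃ (X'' : Sp S) (j'' : X'' ⟶ Xb), RepWith @IsOpenImmersion j'' ∧ X''.obj.IsRepresentable ∧
      xb ∈ Set.range (Points.map j'') := by
  -- the open subspace `N` of `Xb` over `Wi`
  let N : Sp S := pullback gb ((yon S).map w)
  obtain ⟨ν, hνdef⟩ : ∃ ν : N ⟶ Xb, ν = pullback.fst gb ((yon S).map w) := ⟨_, rfl⟩
  obtain ⟨ω, hωdef⟩ : ∃ ω : N ⟶ (yon S).obj Wi, ω = pullback.snd gb ((yon S).map w) := ⟨_, rfl⟩
  have sqN : IsPullback ν ω gb ((yon S).map w) := by
    rw [hνdef, hωdef]; exact IsPullback.of_hasPullback _ _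
  have hwOI : RepWith @IsOpenImmersion ((yon S).map w) := (repWith_yon_map_iff _ _).2 hw
  have hν : RepWith @IsOpenImmersion ν :=
    (repWith_isStableUnderBaseChange (S := S) @IsOpenImmersion).of_isPullback sqN.flip hwOI
  -- the point of `N`
  obtain ⟨n, hn1, hn2⟩ := Groth.Agent.Helper4.AlgSpPtsDesc.exists_point_of_isPullback sqN xb
    (Points.schemeHomeo Wi w₀) (by rw [hw₀1, Points.map_yon_map_apply])
  -- the map to `X'`
  have hψ' : (yon S).map ψ ≫ (yon S).map τ = (yon S).map w ≫ (yon S).map β := by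
    rw [← Functor.map_comp, ← Functor.map_comp, hψ]
  have hc : (ν ≫ πb) ≫ f = (ω ≫ (yon S).map ψ) ≫ (yon S).map τ := by
    rw [Category.assoc, sqXb.w, ← Category.assoc, sqN.w, Category.assoc, Category.assoc, hψ']
  obtain ⟨μ, hμdef⟩ : ∃ μ : N ⟶ X', μ = sqX'.lift (ν ≫ πb) (ω ≫ (yon S).map ψ) hc := ⟨_, rfl⟩
  have hμ1 : μ ≫ π' = ν ≫ πb := by rw [hμdef]; exact sqX'.lift_fst _ _ _
  have hμ2 : μ ≫ g' = ω ≫ (yon S).map ψ := by rw [hμdef]; exact sqX'.lift_snd _ _ _
  have sqμ : IsPullback μ ω g' ((yon S).map ψ) := by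
    refine IsPullback.of_right ?_ hμ2 sqX'
    rw [hμ1, hψ']
    exact sqN.paste_horiz sqXb
  have hμrep : Representable μ :=
    (inferInstance : (Representable (S := S)).IsStableUnderBaseChange).of_isPullback sqμ.flip
      (representable_yon_map ψ)
  -- the image of the point is `pM`
  have hpt : Points.map μ n = pM := by
    refine point_unique_of_trivial_residue f τ π' g' sqX' t' hUq _ _ ?_ ?_ hpM2
    · rw [← Points.map_comp, hμ1, Points.map_comp, hn1, hxb, hpM1]
    · rw [← Points.map_comp, hμ2, Points.map_comp, hn2, Points.map_yon_map_apply, hw₀2]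
  -- the pullback of `M`
  let Mi : Sp S := pullback jM μ
  have sqM : IsPullback (pullback.fst jM μ) (pullback.snd jM μ) jM μ :=
    IsPullback.of_hasPullback _ _
  have hMi : Mi.obj.IsRepresentable := isRepresentable_of_isPullback sqM hμrep hM
  have hsnd : RepWith @IsOpenImmersion (pullback.snd jM μ) :=
    (repWith_isStableUnderBaseChange (S := S) @IsOpenImmersion).of_isPullback sqM hjM
  obtain ⟨m₀, hm₀⟩ := hpM
  obtain ⟨m, -, hm2⟩ := Groth.Agent.Helper4.AlgSpPtsDesc.exists_point_of_isPullback sqM m₀ n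
    (by rw [hm₀, hpt])
  refine ⟨Mi, pullback.snd jM μ ≫ ν, Groth.Agent.Helper4.AlgSpSrc.repWith_comp _ hsnd hν, hMi,
    m, ?_⟩
  rw [Points.map_comp, hm2, hn1]

end Groth.Agent.Helper5.QfSch
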