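import Mathlib
import Groth.Agent.Helper5.QfSch9
import Groth.Agent.Helper5.AlgSpProper
import Groth.Agent.Helper5.GpdSep2
import Groth.Agent.Helper5.ProperImg1
import Groth.Agent.Helper4.AlgSpLocP
import Groth.Agent.Helper4.AlgSpQC2
import Groth.Agent.Helper4.AlgSpPB

/-!
# Helper5: a point of a space separated and locally quasi-finite over a scheme has a schematic
neighbourhood, given the étale-local structure data
-/

set_option autoImplicit false
set_option linter.style.haveILetI false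
universe u
open CategoryTheory CategoryTheory.Limits AlgebraicGeometry Opposite

namespace Groth.Agent.Helper5.QfSch

open AlgSp Groth.Agent.Helper4.AlgSpOpenImage Groth.Agent.Helper4.AlgSpQC2
  Groth.Agent.Helper4.AlgSpPtsDesc

variable {S : Scheme.{u}}

set_option maxHeartbeats 1600000 in
theorem exists_open_subscheme_at_over
    {T : Over S} {X : Sp S} (hX : IsAlgSpace X) (f : X ⟶ (yon S).obj T)
    (hqf : LocP (@LocallyQuasiFinite ⊓ @LocallyOfFiniteType) f) (hsep : IsSeparatedMor f)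
    {U : Over S} (a : (yon S).obj U ⟶ X) (ha : RepWith @Etale a) (u : U.left)
    (φ : U ⟶ T) (hφ : a ≫ f = (yon S).map φ)
    {T' : Over S} (τ : T' ⟶ T) (t' : T'.left)
    (hUq : ∀ (K : Type u) [Field K] (k₁ k₂ : Spec (CommRingCat.of K) ⟶ T'.left),
      k₁ (IsLocalRing.closedPoint K) = t' → k₂ (IsLocalRing.closedPoint K) = t' →
      k₁ ≫ τ.left = k₂ ≫ τ.left → k₁ = k₂)
    {U' : Over S} (p₁ : U' ⟶ U) (p₂ : U' ⟶ T') (sqU : IsPullback p₁ p₂ φ τ)
    {V : Over S} [IsAffine V.left] (ι : V ⟶ U') (hι : IsOpenImmersion ι.left)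
    (hfin : IsFinite (ι ≫ p₂).left) (v : V.left) (hv1 : (ι ≫ p₁).left v = u)
    (hv2 : (ι ≫ p₂).left v = t')
    {Tb : Over S} [IsAffine Tb.left] (β : Tb ⟶ T) (hβ : finLocFree β.left)
    (hβs : Surjective β.left)
    {n : ℕ} (W : Fin n → Over S) (w : ∀ i, W i ⟶ Tb) (hw : ∀ i, IsOpenImmersion (w i).left)
    (ψ : ∀ i, W i ⟶ T') (hψ : ∀ i, ψ i ≫ τ = w i ≫ β)
    (hcov : ∀ tb : Tb.left, β.left tb = φ.left u →
      ∃ (i : Fin n) (w₀ : (W i).left), (w i).left w₀ = tb ∧ (ψ i).left w₀ = t') :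
    ∃ (X'' : Sp S) (j'' : X'' ⟶ X), RepWith @IsOpenImmersion j'' ∧ X''.obj.IsRepresentable ∧
      Points.ofPt a u ∈ Set.range (Points.map j'') := by
  -- Step 1: the base change to the étale neighbourhood
  let X' : Sp S := pullback f ((yon S).map τ)
  obtain ⟨π', hπ'⟩ : ∃ π' : X' ⟶ X, π' = pullback.fst _ _ := ⟨_, rfl⟩
  obtain ⟨g', hg'⟩ : ∃ g' : X' ⟶ (yon S).obj T', g' = pullback.snd _ _ := ⟨_, rfl⟩
  have sqX' : IsPullback π' g' f ((yon S).map τ) := by
    rw [hπ', hg']; exact IsPullback.of_hasPullback _ _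
  have hX' : IsAlgSpace X' :=
    Groth.Agent.Helper4.AlgSpPB.isAlgSpace_of_isPullback (IsAlgSpace.yon_obj T).diag hX
      (IsAlgSpace.yon_obj T') f _ π' g' sqX'
  have hsep' : IsSeparatedMor g' :=
    Groth.Agent.Helper5.AlgSpProper.isSeparatedMor_of_isPullback sqX' hsep
  -- Step 2: the chart
  obtain ⟨a', ha'1, ha'2, ha'e⟩ := exists_chart_lift f τ π' g' sqX' a ha φ hφ p₁ p₂ sqU
  obtain ⟨b, hbdef⟩ : ∃ b : (yon S).obj V ⟶ X', b = (yon S).map ι ≫ a' := ⟨_, rfl⟩
  have hιe : RepWith @Etale ((yon S).map ι) :=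
    (repWith_yon_map_iff _ _).2 (by haveI := hι; exact (inferInstance : Etale ι.left))
  have hb : RepWith @Etale b := by
    rw [hbdef]; exact Groth.Agent.Helper4.AlgSpSrc.repWith_comp _ hιe ha'e
  have hq : b ≫ g' = (yon S).map (ι ≫ p₂) := by
    rw [hbdef, Category.assoc, ha'2, Functor.map_comp]
  -- Step 3: the open subscheme `M` of `X'`
  have hMrep := img_isRepresentable hX' b hb g' hsep' (ι ≫ p₂) hq hfin
  have hjM := imgι_isOpenImmersion b hb
  obtain ⟨x, hx⟩ : ∃ x : Points X, x = Points.ofPt a u := ⟨_, rfl⟩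
  obtain ⟨pM, hpMdef⟩ : ∃ pM : Points X', pM = Points.ofPt b v := ⟨_, rfl⟩
  have hpM : pM ∈ Set.range (Points.map (imgι b)) := by
    rw [hpMdef]; exact ofPt_mem_range_imgι b v
  have hpM1 : Points.map π' pM = x := by
    rw [hpMdef, Points.map_ofPt, hbdef, Category.assoc, ha'1, ← Category.assoc,
      ← Functor.map_comp, ofPt_yon_map_comp, hv1, hx]
  have hpM2 : Points.map g' pM = Points.schemeHomeo T' t' := by
    rw [hpMdef, Points.map_ofPt, hq, ← ofPt_eq_map_schemeHomeo, Points.map_yon_map_apply, hv2]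
  -- Step 4: the finite locally free cover
  let Xb : Sp S := pullback f ((yon S).map β)
  obtain ⟨πb, hπb'⟩ : ∃ πb : Xb ⟶ X, πb = pullback.fst _ _ := ⟨_, rfl⟩
  obtain ⟨gb, hgb'⟩ : ∃ gb : Xb ⟶ (yon S).obj Tb, gb = pullback.snd _ _ := ⟨_, rfl⟩
  have sqXb : IsPullback πb gb f ((yon S).map β) := by
    rw [hπb', hgb']; exact IsPullback.of_hasPullback _ _
  have hXb : IsAlgSpace Xb :=
    Groth.Agent.Helper4.AlgSpPB.isAlgSpace_of_isPullback (IsAlgSpace.yon_obj T).diag hX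
      (IsAlgSpace.yon_obj Tb) f _ πb gb sqXb
  have hπb : IsFinLocFreeMor πb :=
    (repWith_isStableUnderBaseChange (S := S) finLocFree).of_isPullback sqXb.flip
      ((repWith_yon_map_iff _ _).2 hβ)
  have hπbs : RepWith @Surjective πb :=
    (repWith_isStableUnderBaseChange (S := S) @Surjective).of_isPullback sqXb.flip
      ((repWith_yon_map_iff _ _).2 hβs)
  -- Step 5: the fibre lies in the schematic locus
  obtain ⟨N₀, j₀, hN₀, hj₀, hrep₀, hmax⟩ := Groth.Agent.Helper5.ZarGlue.s10197 hXb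
  have hfib : ∀ xb, Points.map πb xb = x → xb ∈ Set.range (Points.map j₀) := by
    intro xb hxb
    obtain ⟨tb, htb⟩ := (Points.schemeHomeo Tb).surjective (Points.map gb xb)
    have hβtb : β.left tb = φ.left u := by
      apply (Points.schemeHomeo T).injective
      rw [← Points.map_yon_map_apply, htb, ← Points.map_comp, ← sqXb.w, Points.map_comp, hxb,
        hx, Points.map_ofPt, hφ, ← ofPt_eq_map_schemeHomeo, Points.map_yon_map_apply]
    obtain ⟨i, w₀, hw₀1, hw₀2⟩ := hcov tb hβtb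
    obtain ⟨X'', j'', h1, h2, m, hm⟩ := exists_open_subscheme_fibre_point f τ t' hUq π' g' sqX'
      (imgι b) hjM hMrep x pM hpM hpM1 hpM2 β πb gb sqXb (w i) (hw i) (ψ i) (hψ i) xb hxb w₀
      (by rw [← htb, hw₀1]) hw₀2
    obtain ⟨k, hk⟩ := hmax X'' j'' h1 h2
    exact ⟨Points.map k m, by rw [← Points.map_comp, hk, hm]⟩
  -- Step 6: the scheme `N₀s`
  obtain ⟨N₀s, ⟨r₀⟩⟩ := hrep₀.has_representation
  let e₀ : (yon S).obj N₀s ≅ N₀ := isoOfRepresentableBy r₀
  obtain ⟨c₀, hc₀⟩ : ∃ c₀ : (yon S).obj N₀s ⟶ Xb, c₀ = e₀.hom ≫ j₀ := ⟨_, rfl⟩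
  have hc₀OI : RepWith @IsOpenImmersion c₀ := by
    rw [hc₀]
    exact Groth.Agent.Helper4.AlgSpSrc.repWith_comp _
      (Groth.Agent.Helper5.SchImg.repWith_of_isIso' @IsOpenImmersion
        (fun _ => (inferInstance : IsOpenImmersion (𝟙 _))) e₀.hom) hj₀
  haveI : Mono c₀ := Groth.Agent.Helper5.FpqcIso.mono_of_repWith_openImmersion c₀ hc₀OI
  obtain ⟨n₀, hn₀⟩ := (yon S).map_surjective (c₀ ≫ gb)
  have hG := Groth.Agent.Helper4.SDClasses.good_lqf.{u}
  have hgbP : LocP (@LocallyQuasiFinite ⊓ @LocallyOfFiniteType) gb :=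
    haveI := hG.bc
    haveI := hG.comp
    Groth.Agent.Helper4.AlgSpLocPBC.locP_of_isPullback _ hG.etale_le hG.sd hX
      (IsAlgSpace.yon_obj T) f ((yon S).map β) πb gb sqXb hqf
  have hc₀P : LocP (@LocallyQuasiFinite ⊓ @LocallyOfFiniteType) c₀ :=
    haveI := hG.comp
    Groth.Agent.Helper4.AlgSpLocP.locP_of_repWith _ @IsOpenImmersion
      (fun g hg => hG.etale_le g (by haveI : IsOpenImmersion g := hg; infer_instance))
      hG.etale_le c₀ hc₀OI
  have hn₀P : (@LocallyQuasiFinite ⊓ @LocallyOfFiniteType : MorphismProperty Scheme.{u})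
      n₀.left := by
    apply locP_yon_map
    rw [hn₀]
    exact Groth.Agent.Helper4.AlgSpLocPComp.locP_comp _ hG hXb c₀ gb hc₀P hgbP
  have hgbsep : IsSeparatedMor gb :=
    Groth.Agent.Helper5.AlgSpProper.isSeparatedMor_of_isPullback sqXb hsep
  have hn₀sep : IsSeparated n₀.left := by
    rw [← isSeparatedMor_yon_map_iff, hn₀]
    exact Groth.Agent.Helper5.GpdSep.isSeparatedMor_comp c₀ gb
      (Groth.Agent.Helper5.GpdSep.isSeparatedMor_of_mono c₀) hgbsep
  -- the finite fibre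
  have hfin_fib : (Points.map πb ⁻¹' {x}).Finite :=
    finite_fibre_of_repWith_finite πb
      (Groth.Agent.Helper5.AffDesc.repWith_of_le (fun _ _ g hg => hg.1) hπb) x
  have hinj : Function.Injective (fun y : N₀s.left => Points.ofPt c₀ y) := by
    intro y₁ y₂ h
    simp only at h
    rw [← ofPt_eq_map_schemeHomeo, ← ofPt_eq_map_schemeHomeo] at h
    exact (Points.schemeHomeo N₀s).injective
      (Groth.Agent.Helper5.ProperImg.points_injective_of_mono (IsAlgSpace.yon_obj _) hXb c₀ h)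
  let F' : Set N₀s.left := (fun y => Points.ofPt c₀ y) ⁻¹' (Points.map πb ⁻¹' {x})
  have hF' : F'.Finite := hfin_fib.preimage hinj.injOn
  haveI : IsSeparated n₀.left := hn₀sep
  haveI : LocallyQuasiFinite n₀.left := hn₀P.1
  haveI : LocallyOfFiniteType n₀.left := hn₀P.2
  obtain ⟨O, hO, hFO⟩ := exists_affineOpen_of_finite n₀.left F' hF'
  -- the affine open chart
  let UO : Over S := Over.mk (O.ι ≫ N₀s.hom)
  let oι : UO ⟶ N₀s := Over.homMk O.ι rfl
  haveI : IsAffine UO.left := hO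
  obtain ⟨aO, haOdef⟩ : ∃ aO : (yon S).obj UO ⟶ Xb, aO = (yon S).map oι ≫ c₀ := ⟨_, rfl⟩
  have haO : RepWith @IsOpenImmersion aO := by
    rw [haOdef]
    exact Groth.Agent.Helper4.AlgSpSrc.repWith_comp _
      ((repWith_yon_map_iff _ _).2 (inferInstance : IsOpenImmersion O.ι)) hc₀OI
  have hya : Points.map πb ⁻¹' {x} ⊆ Set.range (Points.ofPt aO) := by
    intro xb hxb
    obtain ⟨m, hm⟩ := hfib xb hxb
    obtain ⟨y, hy⟩ := (Points.schemeHomeo N₀s).surjective (Points.map e₀.inv m)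
    have hxy : Points.ofPt c₀ y = xb := by
      rw [← ofPt_eq_map_schemeHomeo, hy, hc₀, ← Points.map_comp, ← Category.assoc,
        Iso.inv_hom_id, Category.id_comp, hm]
    have hyF : y ∈ F' := by
      show Points.map πb (Points.ofPt c₀ y) = x
      rw [hxy]; exact hxb
    have hyO : y ∈ O := hFO hyF
    refine ⟨(⟨y, hyO⟩ : UO.left), ?_⟩
    rw [haOdef]
    exact (ofPt_yon_map_comp oι c₀ _).trans hxy
  -- conclusion
  let Xbs : Space S := ⟨Xb, hXb⟩
  let Xs : Space S := ⟨X, hX⟩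
  let πs : Xbs ⟶ Xs := ObjectProperty.homMk πb
  obtain ⟨Y', j, hj, hrep, hy⟩ :=
    Groth.Agent.Helper5.FlfSch.exists_open_subscheme_of_affine_open πs hπb hπbs x aO haO hya
  rw [← hx]
  exact ⟨Y'.obj, j.hom, hj, hrep, hy⟩

end Groth.Agent.Helper5.QfSch
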