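import Mathlib

/-!
# Helper5: a finite free algebra over which a monic polynomial splits into linear factors
-/

set_option autoImplicit false
universe u
open Polynomial

namespace Groth.Agent.Helper5.QfSch

theorem adjoinRoot_injective {A : Type u} [CommRing A] (P : A[X]) (hP : P.Monic)
    (hd : 0 < P.natDegree) : Function.Injective (algebraMap A (AdjoinRoot P)) := by
  rw [injective_iff_map_eq_zero]
  intro a ha
  have h1 : AdjoinRoot.mk P (C a) = 0 := ha
  rw [AdjoinRoot.mk_eq_zero] at h1
  by_contra hne
  have hC : (C a : A[X]) ≠ 0 := by
    rwa [Ne, C_eq_zero]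
  exact hP.not_dvd_of_natDegree_lt hC (by rw [natDegree_C]; exact hd) h1

theorem exists_splitting (n : ℕ) : ∀ (A : Type u) [CommRing A] (P : A[X]), P.Monic →
    P.natDegree = n → ∃ (B : Type u) (_ : CommRing B) (_ : Algebra A B), Module.Free A B ∧
      Module.Finite A B ∧ Function.Injective (algebraMap A B) ∧
      ∃ z : Fin n → B, P.map (algebraMap A B) = ∏ i, (X - C (z i)) := by
  induction n with
  | zero =>
    intro A _ P hP hn
    refine ⟨A, inferInstance, inferInstance, inferInstance, inferInstance,
      fun _ _ h => h, Fin.elim0, ?_⟩
    rw [hP.natDegree_eq_zero.mp hn]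
    simp
  | succ n ih =>
    intro A _ P hP hn
    let A₁ := AdjoinRoot P
    let r : A₁ := AdjoinRoot.root P
    have hroot : (P.map (algebraMap A A₁)).IsRoot r := by
      rw [IsRoot.def, eval_map]
      exact AdjoinRoot.eval₂_root P
    let P₁ : A₁[X] := P.map (algebraMap A A₁) /ₘ (X - C r)
    have hfac : (X - C r) * P₁ = P.map (algebraMap A A₁) := mul_divByMonic_eq_iff_isRoot.mpr hroot
    have hPm : (P.map (algebraMap A A₁)).Monic := hP.map _
    have hP₁m : P₁.Monic := by
      have := hPm
      rw [← hfac] at this
      exact (monic_X_sub_C r).of_mul_monic_left this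
    have hP₁d : P₁.natDegree = n := by
      rcases subsingleton_or_nontrivial A₁ with hs | hnt
      · exfalso
        -- impossible: the algebra map is injective and ... handle via degree in trivial ring
        have hinj := adjoinRoot_injective P hP (by omega)
        have hA : Subsingleton A := hinj.subsingleton
        have : P.natDegree = 0 := by
          rw [Subsingleton.elim P 0]; simp
        omega
      · have h1 := congrArg natDegree hfac
        rw [(monic_X_sub_C r).natDegree_mul hP₁m, natDegree_X_sub_C, hP.natDegree_map] at h1
        omega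
    obtain ⟨B, iB, iAB, hfree, hfin, hinj, z, hz⟩ := ih A₁ P₁ hP₁m hP₁d
    letI := iB
    letI := iAB
    letI : Algebra A B := ((algebraMap A₁ B).comp (algebraMap A A₁)).toAlgebra
    haveI : IsScalarTower A A₁ B := IsScalarTower.of_algebraMap_eq (fun _ => rfl)
    have pb := AdjoinRoot.powerBasis' hP
    haveI : Module.Free A A₁ := Module.Free.of_basis pb.basis
    haveI : Module.Finite A A₁ := pb.finite
    haveI := hfree
    haveI := hfin
    refine ⟨B, iB, inferInstance, Module.Free.trans (R := A) (S := A₁) (M := B),
      Module.Finite.trans A₁ B, ?_, Fin.cons (algebraMap A₁ B r) z, ?_⟩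
    · exact hinj.comp (adjoinRoot_injective P hP (by omega))
    · have : P.map (algebraMap A B) = (P.map (algebraMap A A₁)).map (algebraMap A₁ B) := by
        rw [Polynomial.map_map]; rfl
      rw [this, ← hfac, Polynomial.map_mul, hz, Fin.prod_univ_succ]
      simp

end Groth.Agent.Helper5.QfSch
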