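import Mathlib
import Groth.Agent.Helper5.QfSch1

/-!
# Helper5: residue field triviality of an étale neighbourhood, in terms of field-valued points;
points of the splitting cover of a standard étale neighbourhood
-/

set_option autoImplicit false
universe u
open Polynomial

namespace Groth.Agent.Helper5.QfSch

section ResField

variable {A R' : Type u} [CommRing A] [CommRing R'] [Algebra A R']
  (𝔭 : Ideal A) [𝔭.IsPrime] (P : Ideal R') [P.IsPrime] [P.LiesOver 𝔭]
  (hbij : Function.Bijective (Ideal.ResidueField.mapₐ 𝔭 P (Algebra.ofId A R') (P.over_def 𝔭)))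

include hbij in
/-- existence of a field-valued point at `P` over a given field-valued point at `𝔭` -/
theorem exists_point_over {K : Type u} [Field K] (θ : A →+* K) (hθ : RingHom.ker θ = 𝔭) :
    ∃ χ : R' →+* K, χ.comp (algebraMap A R') = θ ∧ RingHom.ker χ = P := by
  have h2 : 𝔭.primeCompl ≤ (IsUnit.submonoid K).comap θ := by
    intro a ha
    change IsUnit (θ a)
    rw [isUnit_iff_ne_zero]
    intro h0
    exact ha (hθ ▸ (RingHom.mem_ker.mpr h0))
  let θ' : 𝔭.ResidueField →+* K := Ideal.ResidueField.lift 𝔭 θ hθ.ge h2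
  let e := RingEquiv.ofBijective
    (Ideal.ResidueField.mapₐ 𝔭 P (Algebra.ofId A R') (P.over_def 𝔭)).toRingHom hbij
  let χ : R' →+* K := (θ'.comp e.symm.toRingHom).comp (algebraMap R' P.ResidueField)
  refine ⟨χ, ?_, ?_⟩
  · ext a
    change θ' (e.symm (algebraMap R' P.ResidueField (algebraMap A R' a))) = θ a
    have h3 : algebraMap R' P.ResidueField (algebraMap A R' a) =
        e (algebraMap A 𝔭.ResidueField a) := by
      change _ = (Ideal.ResidueField.mapₐ 𝔭 P (Algebra.ofId A R') (P.over_def 𝔭))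
        (algebraMap A 𝔭.ResidueField a)
      rw [AlgHom.commutes]
      exact (IsScalarTower.algebraMap_apply A R' P.ResidueField a).symm
    rw [h3, RingEquiv.symm_apply_apply]
    exact Ideal.ResidueField.lift_algebraMap _ _ _ h2 a
  · ext r
    rw [RingHom.mem_ker]
    change θ' (e.symm (algebraMap R' P.ResidueField r)) = 0 ↔ r ∈ P
    rw [map_eq_zero, map_eq_zero (f := e.symm)]
    exact Ideal.algebraMap_residueField_eq_zero

include hbij in
/-- uniqueness of a field-valued point at `P` over a given field-valued point at `𝔭` -/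
theorem point_over_unique {K : Type u} [Field K] (χ₁ χ₂ : R' →+* K)
    (h₁ : RingHom.ker χ₁ = P) (h₂ : RingHom.ker χ₂ = P)
    (h : χ₁.comp (algebraMap A R') = χ₂.comp (algebraMap A R')) : χ₁ = χ₂ := by
  have hu : ∀ (χ : R' →+* K), RingHom.ker χ = P →
      P.primeCompl ≤ (IsUnit.submonoid K).comap χ := by
    intro χ hχ a ha
    change IsUnit (χ a)
    rw [isUnit_iff_ne_zero]
    intro h0
    exact ha (hχ ▸ (RingHom.mem_ker.mpr h0))
  let χ₁' : P.ResidueField →+* K := Ideal.ResidueField.lift P χ₁ h₁.ge (hu χ₁ h₁)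
  let χ₂' : P.ResidueField →+* K := Ideal.ResidueField.lift P χ₂ h₂.ge (hu χ₂ h₂)
  let m : 𝔭.ResidueField →+* P.ResidueField :=
    (Ideal.ResidueField.mapₐ 𝔭 P (Algebra.ofId A R') (P.over_def 𝔭)).toRingHom
  have hm : ∀ a : A, m (algebraMap A 𝔭.ResidueField a) =
      algebraMap R' P.ResidueField (algebraMap A R' a) := by
    intro a
    change (Ideal.ResidueField.mapₐ 𝔭 P (Algebra.ofId A R') (P.over_def 𝔭))
      (algebraMap A 𝔭.ResidueField a) = _
    rw [AlgHom.commutes]
    exact IsScalarTower.algebraMap_apply A R' P.ResidueField a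
  have h3 : χ₁'.comp m = χ₂'.comp m := by
    apply Ideal.ResidueField.ringHom_ext
    ext a
    change χ₁' (m (algebraMap A _ a)) = χ₂' (m (algebraMap A _ a))
    rw [hm, Ideal.ResidueField.lift_algebraMap, Ideal.ResidueField.lift_algebraMap]
    exact congrArg (fun k => k a) h
  have h4 : χ₁' = χ₂' := by
    refine RingHom.ext fun y => ?_
    obtain ⟨w, rfl⟩ := hbij.2 y
    exact congrArg (fun k => k w) h3
  ext r
  have e1 : χ₁ r = χ₁' (algebraMap R' _ r) :=
    (Ideal.ResidueField.lift_algebraMap _ _ _ (hu χ₁ h₁) r).symm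
  have e2 : χ₂ r = χ₂' (algebraMap R' _ r) :=
    (Ideal.ResidueField.lift_algebraMap _ _ _ (hu χ₂ h₂) r).symm
  rw [e1, e2, h4]

end ResField

end Groth.Agent.Helper5.QfSch
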