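import Mathlib
import Groth.Agent.Helper5.QfSch2

/-!
# Helper5: points of the splitting cover of a standard étale neighbourhood
-/

set_option autoImplicit false
universe u
open Polynomial

namespace Groth.Agent.Helper5.QfSch

section Split

variable {A R'' B : Type u} [CommRing A] [CommRing R''] [CommRing B] [Algebra A R''] [Algebra A B]
  (E : StandardEtalePresentation A R'') {n : ℕ} (z : Fin n → B)

/-- the element inverted on the `i`-th chart of the splitting cover -/
noncomputable def hElt (i : Fin n) : B := aeval (z i) E.g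

variable (hz : E.f.map (algebraMap A B) = ∏ i, (X - C (z i)))

include hz in
theorem hasMap_loc (i : Fin n) :
    E.HasMap (algebraMap B (Localization.Away (hElt E z i)) (z i)) := by
  constructor
  · rw [aeval_algebraMap_apply]
    have h1 : aeval (z i) E.f = 0 := by
      rw [aeval_def, ← eval_map, hz, eval_prod]
      exact Finset.prod_eq_zero (Finset.mem_univ i) (by simp)
    rw [h1, map_zero]
  · rw [aeval_algebraMap_apply]
    exact IsLocalization.Away.algebraMap_isUnit (hElt E z i)

/-- the map from the standard étale algebra to the `i`-th chart of the splitting cover -/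
noncomputable def chartMap (i : Fin n) : R'' →ₐ[A] Localization.Away (hElt E z i) :=
  (E.lift _ (hasMap_loc E z hz i)).comp E.equivRing.toAlgHom

theorem chartMap_x (i : Fin n) :
    chartMap E z hz i E.x = algebraMap B (Localization.Away (hElt E z i)) (z i) := by
  change E.lift _ (hasMap_loc E z hz i) (E.equivRing E.x) = _
  rw [StandardEtalePresentation.equivRing_x, StandardEtalePair.lift_X]

set_option maxHeartbeats 800000 in
include hz in
theorem exists_chart_point {R' : Type u} [CommRing R'] [Algebra A R'] [Algebra R' R'']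
    [IsScalarTower A R' R''] (f₀ : R') [IsLocalization.Away f₀ R'']
    (𝔭 : Ideal A) [𝔭.IsPrime] (P : Ideal R') [P.IsPrime] (hf₀ : f₀ ∉ P)
    (hE : ∀ {K : Type u} [Field K] (θ : A →+* K), RingHom.ker θ = 𝔭 →
      ∃ χ : R' →+* K, χ.comp (algebraMap A R') = θ ∧ RingHom.ker χ = P)
    (𝔮 : Ideal B) [𝔮.IsPrime] (h𝔮 : 𝔮.comap (algebraMap A B) = 𝔭) :
    ∃ (i : Fin n) (𝔮' : Ideal (Localization.Away (hElt E z i))), 𝔮'.IsPrime ∧
      𝔮'.comap (algebraMap B (Localization.Away (hElt E z i))) = 𝔮 ∧
      𝔮'.comap ((chartMap E z hz i).toRingHom.comp (algebraMap R' R'')) = P := by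
  obtain ⟨K, _, ρ, hρ⟩ : ∃ (K : Type u) (_ : Field K) (ρ : B →+* K), RingHom.ker ρ = 𝔮 :=
    ⟨𝔮.ResidueField, inferInstance, algebraMap _ _, Ideal.ker_algebraMap_residueField 𝔮⟩
  let θ : A →+* K := ρ.comp (algebraMap A B)
  have hθ : RingHom.ker θ = 𝔭 := by
    rw [← h𝔮, ← hρ]; rfl
  obtain ⟨χ, hχ1, hχ2⟩ := hE θ hθ
  have hχf : IsUnit (χ f₀) := by
    rw [isUnit_iff_ne_zero]
    intro h0
    exact hf₀ (hχ2 ▸ RingHom.mem_ker.mpr h0)
  let χ'' : R'' →+* K := IsLocalization.Away.lift f₀ hχf
  have hχ'' : ∀ r : R', χ'' (algebraMap R' R'' r) = χ r := fun r =>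
    IsLocalization.Away.lift_eq f₀ hχf r
  letI : Algebra A K := θ.toAlgebra
  let ρa : B →ₐ[A] K := ⟨ρ, fun a => rfl⟩
  let χa : R'' →ₐ[A] K := ⟨χ'', fun a => by
    change χ'' (algebraMap A R'' a) = θ a
    rw [IsScalarTower.algebraMap_apply A R' R'', hχ'', ← hχ1]
    rfl⟩
  let z₀ : K := χ'' E.x
  have h1 : aeval z₀ E.f = 0 := by
    have : aeval z₀ E.f = χa (aeval E.x E.f) := (aeval_algHom_apply χa E.x E.f)
    rw [this, E.hasMap.1, map_zero]
  have h2 : aeval z₀ E.f = ∏ i, (z₀ - ρ (z i)) := by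
    have e1 : E.f.map (algebraMap A K) = (E.f.map (algebraMap A B)).map ρ := by
      rw [Polynomial.map_map]; rfl
    rw [aeval_def, ← eval_map, e1, hz, Polynomial.map_prod, eval_prod]
    simp
  rw [h2] at h1
  obtain ⟨i, -, hi⟩ := Finset.prod_eq_zero_iff.mp h1
  have hi' : ρ (z i) = z₀ := (sub_eq_zero.mp hi).symm
  have h3 : IsUnit (ρ (hElt E z i)) := by
    have e1 : ρ (hElt E z i) = aeval (ρ (z i)) E.g := (aeval_algHom_apply ρa (z i) E.g).symm
    have e2 : aeval z₀ E.g = χa (aeval E.x E.g) := aeval_algHom_apply χa E.x E.g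
    rw [e1, hi', e2]
    exact E.hasMap.2.map χa
  let ρi : Localization.Away (hElt E z i) →+* K := IsLocalization.Away.lift (hElt E z i) h3
  have hρi : ∀ b : B, ρi (algebraMap B _ b) = ρ b := fun b =>
    IsLocalization.Away.lift_eq (hElt E z i) h3 b
  let ρia : Localization.Away (hElt E z i) →ₐ[A] K := ⟨ρi, fun a => by
    change ρi (algebraMap A _ a) = θ a
    rw [IsScalarTower.algebraMap_apply A B (Localization.Away (hElt E z i)), hρi]
    rfl⟩
  have hcomp : ∀ r : R'', ρi (chartMap E z hz i r) = χ'' r := by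
    have hF : (ρia.comp (chartMap E z hz i)).comp E.equivRing.symm.toAlgHom =
        χa.comp E.equivRing.symm.toAlgHom := by
      apply StandardEtalePair.hom_ext
      change ρi (chartMap E z hz i (E.equivRing.symm E.X)) = χ'' (E.equivRing.symm E.X)
      rw [StandardEtalePresentation.equivRing_symm_X, chartMap_x, hρi, hi']
    intro r
    have h5 := congrArg (fun k => k (E.equivRing r)) hF
    have h6 : E.equivRing.symm (E.equivRing r) = r := E.equivRing.symm_apply_apply r
    change ρi (chartMap E z hz i (E.equivRing.symm (E.equivRing r))) =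
      χ'' (E.equivRing.symm (E.equivRing r)) at h5
    rw [h6] at h5
    exact h5
  refine ⟨i, RingHom.ker ρi, RingHom.ker_isPrime ρi, ?_, ?_⟩
  · rw [← hρ]
    ext b
    simp only [Ideal.mem_comap, RingHom.mem_ker, hρi]
  · rw [← hχ2]
    ext r
    simp only [Ideal.mem_comap, RingHom.mem_ker, RingHom.comp_apply]
    change ρi (chartMap E z hz i (algebraMap R' R'' r)) = 0 ↔ _
    rw [hcomp, hχ'']

end Split

end Groth.Agent.Helper5.QfSch
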