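import Mathlib
import Groth.Agent.Helper5.QfSch1
import Groth.Agent.Helper5.QfSch2
import Groth.Agent.Helper5.QfSch3

/-!
# Helper5: the étale-local structure of a quasi-finite morphism of affine schemes, together with a
finite free cover of the base dominating the étale neighbourhood (scheme-level data)
-/

set_option autoImplicit false
set_option linter.style.haveILetI false
universe u
open CategoryTheory CategoryTheory.Limits AlgebraicGeometry Opposite TensorProduct

namespace Groth.Agent.Helper5.QfSch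

/-- the point of `Spec R` given by a prime ideal -/
def specPt {R : Type u} [CommRing R] (p : Ideal R) [p.IsPrime] : ↥(Spec (CommRingCat.of R)) :=
  (⟨p, inferInstance⟩ : PrimeSpectrum R)

theorem specMap_specPt {R R' : Type u} [CommRing R] [CommRing R'] (f : R →+* R') (q : Ideal R')
    [q.IsPrime] :
    (Spec.map (CommRingCat.ofHom f)) (specPt q) = specPt (q.comap f) := rfl

theorem specPt_congr {R : Type u} [CommRing R] {p q : Ideal R} [p.IsPrime] [q.IsPrime]
    (h : p = q) : specPt p = specPt q := by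
  subst h; rfl

theorem specPt_injective {R : Type u} [CommRing R] (p q : Ideal R) [p.IsPrime] [q.IsPrime]
    (h : specPt p = specPt q) : p = q := congrArg PrimeSpectrum.asIdeal h

theorem field_point_unique {A R' : Type u} [CommRing A] [CommRing R'] [Algebra A R']
    (𝔭 : Ideal A) [𝔭.IsPrime] (P : Ideal R') [P.IsPrime] [P.LiesOver 𝔭]
    (hbij : Function.Bijective (Ideal.ResidueField.mapₐ 𝔭 P (Algebra.ofId A R') (P.over_def 𝔭)))
    (K : Type u) [Field K] (k₁ k₂ : Spec (CommRingCat.of K) ⟶ Spec (CommRingCat.of R'))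
    (h1 : k₁ (IsLocalRing.closedPoint K) = specPt P)
    (h2 : k₂ (IsLocalRing.closedPoint K) = specPt P)
    (h : k₁ ≫ Spec.map (CommRingCat.ofHom (algebraMap A R')) =
      k₂ ≫ Spec.map (CommRingCat.ofHom (algebraMap A R'))) : k₁ = k₂ := by
  obtain ⟨χ₁, rfl⟩ := Spec.map_surjective k₁
  obtain ⟨χ₂, rfl⟩ := Spec.map_surjective k₂
  have hk : ∀ χ : CommRingCat.of R' ⟶ CommRingCat.of K,
      (Spec.map χ) (IsLocalRing.closedPoint K) = specPt P → RingHom.ker χ.hom = P := by
    intro χ hχ
    have : ((Spec.map χ) (IsLocalRing.closedPoint K) : PrimeSpectrum R').asIdeal = P :=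
      congrArg PrimeSpectrum.asIdeal hχ
    rw [← this]
    change _ = Ideal.comap χ.hom (IsLocalRing.closedPoint K).asIdeal
    change _ = Ideal.comap χ.hom (IsLocalRing.maximalIdeal K)
    rw [IsLocalRing.maximalIdeal_eq_bot]
    rfl
  have h' : χ₁.hom.comp (algebraMap A R') = χ₂.hom.comp (algebraMap A R') := by
    rw [← Spec.map_comp, ← Spec.map_comp] at h
    have := Spec.map_injective h
    exact congrArg CommRingCat.Hom.hom this
  have := point_over_unique 𝔭 P hbij χ₁.hom χ₂.hom (hk χ₁ h1) (hk χ₂ h2) h'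
  congr 1
  exact CommRingCat.hom_ext this

theorem specMap_finLocFree_surjective {A B : Type u} [CommRing A] [CommRing B] [Algebra A B]
    [Module.Free A B] [Module.Finite A B] (hinj : Function.Injective (algebraMap A B)) :
    IsFinite (Spec.map (CommRingCat.ofHom (algebraMap A B))) ∧
    Flat (Spec.map (CommRingCat.ofHom (algebraMap A B))) ∧
    LocallyOfFinitePresentation (Spec.map (CommRingCat.ofHom (algebraMap A B))) ∧
    Surjective (Spec.map (CommRingCat.ofHom (algebraMap A B))) := by
  refine ⟨?_, ?_, ?_, ?_⟩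
  · rw [IsFinite.SpecMap_iff]
    exact RingHom.finite_algebraMap.2 inferInstance
  · rw [Flat.SpecMap_iff]
    exact (RingHom.flat_algebraMap_iff).2 inferInstance
  · rw [LocallyOfFinitePresentation.SpecMap_iff]
    haveI : Module.FinitePresentation A B := Module.finitePresentation_of_projective A B
    haveI : Algebra.FinitePresentation A B := Algebra.FinitePresentation.of_finitePresentation A B
    exact RingHom.finitePresentation_algebraMap.2 inferInstance
  · constructor
    intro p
    haveI : FaithfulSMul A B := (faithfulSMul_iff_algebraMap_injective A B).mpr hinj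
    obtain ⟨q, hq⟩ := Algebra.IsIntegral.comap_surjective A B p
    exact ⟨q, hq⟩

/-- the scheme-level data extracted from the étale-local structure of a quasi-finite morphism
at a point, together with a finite locally free cover of the base by charts mapping to the étale
neighbourhood -/
structure QfData {T U : Scheme.{u}} (φ : U ⟶ T) (u : U) where
  T' : Scheme.{u}
  τ : T' ⟶ T
  t' : T'
  hUq : ∀ (K : Type u) [Field K] (k₁ k₂ : Spec (CommRingCat.of K) ⟶ T'),
      k₁ (IsLocalRing.closedPoint K) = t' → k₂ (IsLocalRing.closedPoint K) = t' →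
      k₁ ≫ τ = k₂ ≫ τ → k₁ = k₂
  U' : Scheme.{u}
  p₁ : U' ⟶ U
  p₂ : U' ⟶ T'
  sq : IsPullback p₁ p₂ φ τ
  V : Scheme.{u}
  hV : IsAffine V
  ι : V ⟶ U'
  hι : IsOpenImmersion ι
  hfin : IsFinite (ι ≫ p₂)
  v : V
  hv1 : (ι ≫ p₁) v = u
  hv2 : (ι ≫ p₂) v = t'
  Tb : Scheme.{u}
  hTb : IsAffine Tb
  β : Tb ⟶ T
  hβ1 : IsFinite β
  hβ2 : Flat β
  hβ3 : LocallyOfFinitePresentation β
  hβ4 : Surjective β
  n : ℕ
  W : Fin n → Scheme.{u}
  w : ∀ i, W i ⟶ Tb
  hw : ∀ i, IsOpenImmersion (w i)
  ψ : ∀ i, W i ⟶ T'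
  hψ : ∀ i, ψ i ≫ τ = w i ≫ β
  hcov : ∀ tb : Tb, β tb = φ u → ∃ (i : Fin n) (w₀ : W i), (w i) w₀ = tb ∧ (ψ i) w₀ = t'

set_option maxHeartbeats 1600000 in
theorem nonempty_qfData (A Su : CommRingCat.{u}) (φ : Spec Su ⟶ Spec A) [LocallyQuasiFinite φ]
    [LocallyOfFiniteType φ] (u : Spec Su) : Nonempty (QfData φ u) := by
  obtain ⟨fA, rfl⟩ := Spec.map_surjective φ
  letI : Algebra A Su := fA.hom.toAlgebra
  have hfA : fA = CommRingCat.ofHom (algebraMap A Su) := rfl
  have hft : Algebra.FiniteType A Su := by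
    have : LocallyOfFiniteType (Spec.map fA) := inferInstance
    rw [HasRingHomProperty.Spec_iff (P := @LocallyOfFiniteType)] at this
    exact this
  have hqf : Algebra.QuasiFinite A Su := by
    have : LocallyQuasiFinite (Spec.map fA) := inferInstance
    rw [HasRingHomProperty.Spec_iff (P := @LocallyQuasiFinite)] at this
    exact this
  let 𝔮 : Ideal Su := (u : PrimeSpectrum Su).asIdeal
  haveI : 𝔮.IsPrime := (u : PrimeSpectrum Su).isPrime
  have hu : u = specPt 𝔮 := rfl
  let 𝔭 : Ideal A := 𝔮.comap (algebraMap A Su)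
  haveI : 𝔭.IsPrime := Ideal.comap_isPrime _ _
  haveI : 𝔮.LiesOver 𝔭 := ⟨rfl⟩
  haveI : Algebra.QuasiFiniteAt A 𝔮 := inferInstance
  obtain ⟨R', _, _, _, P, _, _, e, he, P', _, _, hP'q, heP', hbij, hfin, -⟩ :=
    Algebra.exists_etale_isIdempotentElem_forall_liesOver_eq 𝔭 𝔮
  haveI : Algebra.FinitePresentation A R' := inferInstance
  haveI : Algebra.IsEtaleAt A P := inferInstance
  obtain ⟨f₀, hf₀, hstd⟩ := Algebra.IsEtaleAt.exists_isStandardEtale (R := A) P
  let E : StandardEtalePresentation A (Localization.Away f₀) :=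
    hstd.nonempty_standardEtalePresentation.some
  obtain ⟨B, _, _, hfree, hfinB, hinj, z, hz⟩ :=
    exists_splitting E.f.natDegree A E.f E.monic_f rfl
  -- the point `v`
  let L := Localization.Away e
  have hdisj : Disjoint (Submonoid.powers e : Set (R' ⊗[A] Su)) ↑P' := by
    rwa [Ideal.disjoint_powers_iff_notMem_of_isPrime]
  let Pv : Ideal L := P'.map (algebraMap _ L)
  haveI : Pv.IsPrime := IsLocalization.isPrime_of_isPrime_disjoint (Submonoid.powers e) L P'
    inferInstance hdisj
  have hPv : Pv.comap (algebraMap (R' ⊗[A] Su) L) = P' :=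
    IsLocalization.comap_map_of_isPrime_disjoint (Submonoid.powers e) L inferInstance hdisj
  obtain ⟨hβ1, hβ2, hβ3, hβ4⟩ := specMap_finLocFree_surjective (A := A) (B := B) hinj
  refine ⟨{
    T' := Spec (CommRingCat.of R')
    τ := Spec.map (CommRingCat.ofHom (algebraMap A R'))
    t' := specPt P
    hUq := fun K _ k₁ k₂ h1 h2 h => field_point_unique 𝔭 P hbij K k₁ k₂ h1 h2 h
    U' := Spec (CommRingCat.of (R' ⊗[A] Su))
    p₁ := Spec.map (CommRingCat.ofHom (Algebra.TensorProduct.includeRight (R := A) (A := R')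
      (B := Su)).toRingHom)
    p₂ := Spec.map (CommRingCat.ofHom (Algebra.TensorProduct.includeLeftRingHom (R := A) (A := R')
      (B := Su)))
    sq := ?_
    V := Spec (CommRingCat.of L)
    hV := inferInstance
    ι := Spec.map (CommRingCat.ofHom (algebraMap (R' ⊗[A] Su) L))
    hι := IsOpenImmersion.of_isLocalization e
    hfin := ?_
    v := specPt Pv
    hv1 := ?_
    hv2 := ?_
    Tb := Spec (CommRingCat.of B)
    hTb := inferInstance
    β := Spec.map (CommRingCat.ofHom (algebraMap A B))
    hβ1 := hβ1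
    hβ2 := hβ2
    hβ3 := hβ3
    hβ4 := hβ4
    n := E.f.natDegree
    W := fun i => Spec (CommRingCat.of (Localization.Away (hElt E z i)))
    w := fun i => Spec.map (CommRingCat.ofHom (algebraMap B (Localization.Away (hElt E z i))))
    hw := fun i => IsOpenImmersion.of_isLocalization (hElt E z i)
    ψ := fun i => Spec.map (CommRingCat.ofHom
      ((chartMap E z hz i).toRingHom.comp (algebraMap R' (Localization.Away f₀))))
    hψ := ?_
    hcov := ?_ }⟩
  · -- pullback square
    have h := (CommRingCat.isPushout_tensorProduct A R' Su)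
    exact (isPullback_SpecMap_of_isPushout _ _ _ _ h).flip
  · -- finiteness
    rw [← Spec.map_comp, IsFinite.SpecMap_iff]
    have : (CommRingCat.ofHom (Algebra.TensorProduct.includeLeftRingHom (R := A) (A := R')
        (B := Su)) ≫ CommRingCat.ofHom (algebraMap (R' ⊗[A] Su) L)).hom = algebraMap R' L := by
      rw [IsScalarTower.algebraMap_eq R' (R' ⊗[A] Su) L]
      rfl
    rw [this]
    exact RingHom.finite_algebraMap.2 hfin
  · -- `v ↦ u`
    rw [Scheme.Hom.comp_apply, specMap_specPt, specMap_specPt, hu]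
    apply specPt_congr
    rw [hPv]
    exact hP'q
  · -- `v ↦ t'`
    rw [Scheme.Hom.comp_apply, specMap_specPt, specMap_specPt]
    apply specPt_congr
    rw [hPv]
    exact (P'.over_def P).symm
  · intro i
    rw [← Spec.map_comp, ← Spec.map_comp]
    congr 1
    ext a
    change (chartMap E z hz i) (algebraMap R' (Localization.Away f₀) (algebraMap A R' a)) =
      algebraMap B (Localization.Away (hElt E z i)) (algebraMap A B a)
    rw [← IsScalarTower.algebraMap_apply A R' (Localization.Away f₀), AlgHom.commutes,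
      ← IsScalarTower.algebraMap_apply A B (Localization.Away (hElt E z i))]
  · intro tb htb
    let 𝔮b : Ideal B := (tb : PrimeSpectrum B).asIdeal
    haveI : 𝔮b.IsPrime := (tb : PrimeSpectrum B).isPrime
    have h𝔮b : 𝔮b.comap (algebraMap A B) = 𝔭 := by
      have h1 : (Spec.map (CommRingCat.ofHom (algebraMap A B))) (specPt 𝔮b) =
          (Spec.map fA) (specPt 𝔮) := htb
      rw [hfA, specMap_specPt, specMap_specPt] at h1
      exact specPt_injective _ _ h1
    obtain ⟨i, 𝔮', h𝔮', h1, h2⟩ := exists_chart_point E z hz f₀ 𝔭 P hf₀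
      (fun {K} _ θ hθ => exists_point_over 𝔭 P hbij θ hθ) 𝔮b h𝔮b
    haveI := h𝔮'
    refine ⟨i, specPt 𝔮', ?_, ?_⟩
    · rw [specMap_specPt]
      exact specPt_congr h1
    · rw [specMap_specPt]
      exact specPt_congr h2

end Groth.Agent.Helper5.QfSch
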