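import Mathlib
import Groth.Agent.Helper5.QfSch7
import Groth.Agent.Helper5.QfSch10
import Groth.Agent.Helper4.UB1

/-!
# Helper5: a point of a space separated and locally quasi-finite over an affine scheme has a
schematic neighbourhood
-/

set_option autoImplicit false
set_option linter.style.haveILetI false
universe u
open CategoryTheory CategoryTheory.Limits AlgebraicGeometry Opposite

namespace Groth.Agent.Helper5.QfSch

open AlgSp

variable {S : Scheme.{u}}

theorem exists_open_subscheme_at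
    {T : Over S} {X : Sp S} (hX : IsAlgSpace X) (f : X ⟶ (yon S).obj T)
    (hqf : LocP (@LocallyQuasiFinite ⊓ @LocallyOfFiniteType) f) (hsep : IsSeparatedMor f)
    {U : Over S} (a : (yon S).obj U ⟶ X) (ha : RepWith @Etale a) (u : U.left)
    (φ : U ⟶ T) (hφ : a ≫ f = (yon S).map φ) (D : QfData φ.left u) :
    ∃ (X'' : Sp S) (j'' : X'' ⟶ X), RepWith @IsOpenImmersion j'' ∧ X''.obj.IsRepresentable ∧
      Points.ofPt a u ∈ Set.range (Points.map j'') := by
  let T' : Over S := Over.mk (D.τ ≫ T.hom)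
  let τ : T' ⟶ T := Over.homMk D.τ rfl
  let U' : Over S := Over.mk (D.p₁ ≫ U.hom)
  let p₁ : U' ⟶ U := Over.homMk D.p₁ rfl
  have hw : D.p₂ ≫ T'.hom = U'.hom := by
    change D.p₂ ≫ D.τ ≫ T.hom = D.p₁ ≫ U.hom
    rw [← Category.assoc, ← D.sq.w, Category.assoc, Over.w φ]
  let p₂ : U' ⟶ T' := Over.homMk D.p₂ hw
  have sqU : IsPullback p₁ p₂ φ τ :=
    Groth.Agent.Helper4.UB1.isPullback_of_left (by ext; exact D.sq.w) D.sq
  let V : Over S := Over.mk (D.ι ≫ U'.hom)
  let ι : V ⟶ U' := Over.homMk D.ι rfl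
  let Tb : Over S := Over.mk (D.β ≫ T.hom)
  let β : Tb ⟶ T := Over.homMk D.β rfl
  let W : Fin D.n → Over S := fun i => Over.mk (D.w i ≫ Tb.hom)
  let w : ∀ i, W i ⟶ Tb := fun i => Over.homMk (D.w i) rfl
  let ψ : ∀ i, W i ⟶ T' := fun i => Over.homMk (D.ψ i) (by
    change D.ψ i ≫ D.τ ≫ T.hom = D.w i ≫ D.β ≫ T.hom
    rw [← Category.assoc, D.hψ, Category.assoc])
  haveI : IsAffine V.left := D.hV
  haveI : IsAffine Tb.left := D.hTb
  exact exists_open_subscheme_at_over hX f hqf hsep a ha u φ hφ τ D.t' D.hUq p₁ p₂ sqU ι D.hι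
    D.hfin D.v D.hv1 D.hv2 β ⟨D.hβ1, D.hβ2, D.hβ3⟩ D.hβ4 W w D.hw ψ
    (fun i => by ext; exact D.hψ i) D.hcov

end Groth.Agent.Helper5.QfSch
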