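import Mathlib
import Groth.Agent.Helper5.QfSch11
import Groth.Agent.Helper5.AlgSpOpen

/-!
# Helper5: an algebraic space separated and locally quasi-finite over a scheme is a scheme
-/

set_option autoImplicit false
set_option linter.style.haveILetI false
universe u
open CategoryTheory CategoryTheory.Limits AlgebraicGeometry Opposite

namespace Groth.Agent.Helper5.QfSch

open AlgSp Groth.Agent.Helper4.AlgSpQC2 Groth.Agent.Helper4.AlgSpPtsDesc

variable {S : Scheme.{u}}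

set_option backward.isDefEq.respectTransparency.types false in
set_option maxHeartbeats 1600000 in
theorem isRepresentable_of_separated_lqf {T : Over S} {X : Sp S} (hX : IsAlgSpace X)
    (f : X ⟶ (yon S).obj T)
    (hqf : LocP (@LocallyQuasiFinite ⊓ @LocallyOfFiniteType) f) (hsep : IsSeparatedMor f) :
    X.obj.IsRepresentable := by
  apply isRepresentable_of_forall_schematic hX
  intro x
  -- an affine open neighbourhood of the image point
  obtain ⟨t, ht⟩ := (Points.schemeHomeo T).surjective (Points.map f x)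
  obtain ⟨_, ⟨T₀, hT₀', rfl⟩, htT₀, -⟩ :=
    T.left.isBasis_affineOpens.exists_subset_of_mem_open (Set.mem_univ t) isOpen_univ
  have hT₀ : IsAffineOpen T₀ := hT₀'
  let T₁ : Over S := Over.mk (hT₀.fromSpec ≫ T.hom)
  let ε : T₁ ⟶ T := Over.homMk hT₀.fromSpec rfl
  have hεOI : IsOpenImmersion ε.left := (inferInstance : IsOpenImmersion hT₀.fromSpec)
  obtain ⟨t₁, ht₁⟩ : ∃ t₁ : T₁.left, ε.left t₁ = t := by
    have : t ∈ Set.range hT₀.fromSpec := by rw [hT₀.range_fromSpec]; exact htT₀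
    exact this
  -- the open subspace over it
  let X₁ : Sp S := pullback f ((yon S).map ε)
  obtain ⟨j₁, hj₁⟩ : ∃ j₁ : X₁ ⟶ X, j₁ = pullback.fst _ _ := ⟨_, rfl⟩
  obtain ⟨f₁, hf₁⟩ : ∃ f₁ : X₁ ⟶ (yon S).obj T₁, f₁ = pullback.snd _ _ := ⟨_, rfl⟩
  have sq₁ : IsPullback j₁ f₁ f ((yon S).map ε) := by
    rw [hj₁, hf₁]; exact IsPullback.of_hasPullback _ _
  have hX₁ : IsAlgSpace X₁ :=
    Groth.Agent.Helper4.AlgSpPB.isAlgSpace_of_isPullback (IsAlgSpace.yon_obj T).diag hX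
      (IsAlgSpace.yon_obj T₁) f _ j₁ f₁ sq₁
  have hj₁OI : RepWith @IsOpenImmersion j₁ :=
    (repWith_isStableUnderBaseChange (S := S) @IsOpenImmersion).of_isPullback sq₁.flip
      ((repWith_yon_map_iff _ _).2 hεOI)
  have hG := Groth.Agent.Helper4.SDClasses.good_lqf.{u}
  have hqf₁ : LocP (@LocallyQuasiFinite ⊓ @LocallyOfFiniteType) f₁ :=
    haveI := hG.bc
    haveI := hG.comp
    Groth.Agent.Helper4.AlgSpLocPBC.locP_of_isPullback _ hG.etale_le hG.sd hX
      (IsAlgSpace.yon_obj T) f ((yon S).map ε) j₁ f₁ sq₁ hqf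
  have hsep₁ : IsSeparatedMor f₁ :=
    Groth.Agent.Helper5.AlgSpProper.isSeparatedMor_of_isPullback sq₁ hsep
  obtain ⟨x₁, hx₁, -⟩ := exists_point_of_isPullback sq₁ x (Points.schemeHomeo T₁ t₁) (by
    rw [← ht, Points.map_yon_map_apply, ht₁])
  -- an affine étale chart at the point
  obtain ⟨U₀, a₀, ha₀e, ha₀s⟩ := hX₁.atlas
  obtain ⟨u₀, hu₀⟩ := Groth.Agent.Helper5.AlgSpOpen.ofPt_surjective_of_repWith a₀ ha₀s x₁
  obtain ⟨_, ⟨O, hO', rfl⟩, hu₀O, -⟩ :=
    U₀.left.isBasis_affineOpens.exists_subset_of_mem_open (Set.mem_univ u₀) isOpen_univ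
  have hO : IsAffineOpen O := hO'
  let U : Over S := Over.mk (hO.fromSpec ≫ U₀.hom)
  let r : U ⟶ U₀ := Over.homMk hO.fromSpec rfl
  have hrE : Etale r.left := (inferInstance : Etale hO.fromSpec)
  obtain ⟨u, hu⟩ : ∃ u : U.left, r.left u = u₀ := by
    have : u₀ ∈ Set.range hO.fromSpec := by rw [hO.range_fromSpec]; exact hu₀O
    exact this
  obtain ⟨a, hadef⟩ : ∃ a : (yon S).obj U ⟶ X₁, a = (yon S).map r ≫ a₀ := ⟨_, rfl⟩
  have ha : RepWith @Etale a := by
    rw [hadef]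
    exact Groth.Agent.Helper4.AlgSpSrc.repWith_comp _ ((repWith_yon_map_iff _ _).2 hrE) ha₀e
  have hau : Points.ofPt a u = x₁ := by
    rw [hadef, ofPt_yon_map_comp, hu, hu₀]
  obtain ⟨φ, hφ⟩ := (yon S).map_surjective (a ≫ f₁)
  have hφP : (@LocallyQuasiFinite ⊓ @LocallyOfFiniteType : MorphismProperty Scheme.{u}) φ.left :=
    hqf₁ a (𝟙 _) φ ha (repWith_id (@Etale.{u}) T₁) (by rw [hφ, Category.comp_id])
  haveI : LocallyQuasiFinite φ.left := hφP.1
  haveI : LocallyOfFiniteType φ.left := hφP.2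
  obtain ⟨D⟩ := nonempty_qfData Γ(T.left, T₀) Γ(U₀.left, O) φ.left u
  obtain ⟨X'', j'', h1, h2, m, hm⟩ :=
    exists_open_subscheme_at hX₁ f₁ hqf₁ hsep₁ a ha u φ hφ.symm D
  refine ⟨X'', j'' ≫ j₁, Groth.Agent.Helper4.AlgSpSrc.repWith_comp _ h1 hj₁OI, h2, m, ?_⟩
  rw [Points.map_comp, hm, hau, hx₁]

end Groth.Agent.Helper5.QfSch
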