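import Groth.Agent.Helper5.FEt2
import Mathlib

set_option autoImplicit false
set_option linter.style.haveILetI false
set_option linter.unusedSectionVars false
set_option linter.unusedVariables false
universe u
open CategoryTheory CategoryTheory.Limits AlgebraicGeometry Opposite TopologicalSpace

namespace Groth.Agent.Helper5.FEt

open AlgSp Groth.Agent.Helper4 Groth.Agent.Helper5.InfStd

variable {S : Scheme.{u}}

theorem thick_SpecMap_mk {A : Type u} [CommRing A] (I : Ideal A) (hI : I ^ 2 = ⊥) :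
    thick (Spec.map (CommRingCat.ofHom (Ideal.Quotient.mk I))) := by
  refine ⟨IsClosedImmersion.spec_of_surjective _ Ideal.Quotient.mk_surjective, ⟨?_⟩⟩
  intro p
  have hrange := range_comap_of_surjective _ (Ideal.Quotient.mk I)
    Ideal.Quotient.mk_surjective
  have hp : p ∈ PrimeSpectrum.zeroLocus (RingHom.ker (Ideal.Quotient.mk I) : Set A) := by
    rw [Ideal.mk_ker]
    intro x hx
    have : x ^ 2 ∈ I ^ 2 := Ideal.pow_mem_pow hx 2
    rw [hI] at this
    have h0 : x ^ 2 = 0 := this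
    have : x ^ 2 ∈ p.asIdeal := by rw [h0]; exact Ideal.zero_mem _
    exact p.isPrime.mem_of_pow_mem 2 this
  rw [← hrange] at hp
  obtain ⟨q, hq⟩ := hp
  exact ⟨q, hq⟩

set_option backward.isDefEq.respectTransparency.types false in
theorem sqZero_SpecMap_mk {A : Type u} [CommRing A] (I : Ideal A) (hI : I ^ 2 = ⊥) :
    sqZero (Spec.map (CommRingCat.ofHom (Ideal.Quotient.mk I))) := by
  show (Spec.map (CommRingCat.ofHom (Ideal.Quotient.mk I))).ker *
    (Spec.map (CommRingCat.ofHom (Ideal.Quotient.mk I))).ker = ⊥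
  apply Scheme.IdealSheafData.ext_of_isAffine
  rw [Scheme.IdealSheafData.ideal_mul, Pi.mul_apply, Scheme.Hom.ker_apply,
    Scheme.IdealSheafData.ideal_bot]
  rw [Pi.bot_apply, eq_bot_iff]
  rw [Ideal.mul_le]
  intro x hx y hy
  rw [RingHom.mem_ker] at hx hy
  have nat := Scheme.ΓSpecIso_naturality (CommRingCat.ofHom (Ideal.Quotient.mk I))
  have hx' : (Ideal.Quotient.mk I) ((Scheme.ΓSpecIso (.of A)).hom.hom x) = 0 := by
    have := congrArg (fun f => f.hom x) nat
    simp only [CommRingCat.hom_comp, RingHom.comp_apply, CommRingCat.hom_ofHom] at this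
    rw [← this]
    show (Scheme.ΓSpecIso _).hom.hom
      ((Spec.map (CommRingCat.ofHom (Ideal.Quotient.mk I))).appTop.hom x) = 0
    have hx0 : (Spec.map (CommRingCat.ofHom (Ideal.Quotient.mk I))).appTop.hom x = 0 := hx
    rw [hx0, map_zero]
  have hy' : (Ideal.Quotient.mk I) ((Scheme.ΓSpecIso (.of A)).hom.hom y) = 0 := by
    have := congrArg (fun f => f.hom y) nat
    simp only [CommRingCat.hom_comp, RingHom.comp_apply, CommRingCat.hom_ofHom] at this
    rw [← this]
    show (Scheme.ΓSpecIso _).hom.hom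
      ((Spec.map (CommRingCat.ofHom (Ideal.Quotient.mk I))).appTop.hom y) = 0
    have hy0 : (Spec.map (CommRingCat.ofHom (Ideal.Quotient.mk I))).appTop.hom y = 0 := hy
    rw [hy0, map_zero]
  rw [Ideal.Quotient.eq_zero_iff_mem] at hx' hy'
  have hxy : (Scheme.ΓSpecIso (.of A)).hom.hom x * (Scheme.ΓSpecIso (.of A)).hom.hom y ∈ I ^ 2 := by
    rw [pow_two]
    exact Ideal.mul_mem_mul hx' hy'
  rw [hI] at hxy
  have h0 : (Scheme.ΓSpecIso (.of A)).hom.hom (x * y) = 0 := by
    rw [map_mul]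
    exact hxy
  have hinj : Function.Injective (Scheme.ΓSpecIso (.of A)).hom.hom :=
    (ConcreteCategory.bijective_of_isIso (Scheme.ΓSpecIso (.of A)).hom).1
  show x * y = 0
  apply hinj
  rw [h0, map_zero]

theorem thick_j {F G : Sp S} {f : F ⟶ G} (sq : InfSq f) : thick sq.j.left :=
  thick_SpecMap_mk sq.I sq.sq_zero

theorem sqZero_j {F G : Sp S} {f : F ⟶ G} (sq : InfSq f) : sqZero sq.j.left :=
  sqZero_SpecMap_mk sq.I sq.sq_zero

/-- representable etale morphisms of sheaves are formally etale -/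
theorem isFormallyEtaleMor_of_repWith_etale {F G : Sp S} (a : F ⟶ G) (ha : RepWith @Etale a) :
    IsFormallyEtaleMor a := fun sq =>
  existsUnique_lift_of_repWith_etale a ha sq.j (thick_j sq) sq.top sq.bot sq.comm

section comp

variable {F G H : Sp S} (a : F ⟶ G) (b : G ⟶ H)

/-- the square for `b` induced by a square for `a ≫ b` -/
noncomputable def sqRight (sq : InfSq (a ≫ b)) : InfSq b where
  A := sq.A
  I := sq.I
  sq_zero := sq.sq_zero
  str := sq.str
  top := sq.top ≫ a
  bot := sq.bot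
  comm := by rw [Category.assoc]; exact sq.comm

/-- the square for `a` induced by a square for `a ≫ b` and a lift for `b` -/
noncomputable def sqLeft (sq : InfSq (a ≫ b)) (l : (yon S).obj sq.ptT' ⟶ G)
    (hl : (yon S).map sq.j ≫ l = sq.top ≫ a) : InfSq a where
  A := sq.A
  I := sq.I
  sq_zero := sq.sq_zero
  str := sq.str
  top := sq.top
  bot := l
  comm := hl.symm

theorem smooth_comp (ha : IsFormallyEtaleMor a) (hb : IsFormallySmoothMor b) :
    IsFormallySmoothMor (a ≫ b) := by
  intro sq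
  obtain ⟨l, hl1, hl2⟩ : ∃ l : (yon S).obj sq.ptT' ⟶ G,
      (yon S).map sq.j ≫ l = sq.top ≫ a ∧ l ≫ b = sq.bot := hb (sqRight a b sq)
  obtain ⟨m, ⟨hm1, hm2⟩, -⟩ : ∃! m : (yon S).obj sq.ptT' ⟶ F,
      (yon S).map sq.j ≫ m = sq.top ∧ m ≫ a = l := ha (sqLeft a b sq l hl1)
  exact ⟨m, hm1, by rw [← Category.assoc, hm2]; exact hl2⟩

theorem unramified_comp (ha : IsFormallyEtaleMor a) (hb : IsFormallyUnramifiedMor b) :
    IsFormallyUnramifiedMor (a ≫ b) := by
  intro sq l l' h1 h2 h3 h4
  have e : l ≫ a = l' ≫ a := by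
    refine hb (sqRight a b sq) (l ≫ a) (l' ≫ a) ?_ ?_ ?_ ?_
    · rw [← Category.assoc]; exact congrArg (· ≫ a) h1
    · rw [Category.assoc]; exact h2
    · rw [← Category.assoc]; exact congrArg (· ≫ a) h3
    · rw [Category.assoc]; exact h4
  have hl : (yon S).map sq.j ≫ (l ≫ a) = sq.top ≫ a := by
    rw [← Category.assoc]; exact congrArg (· ≫ a) h1
  exact unramified_of_etale a ha (sqLeft a b sq (l ≫ a) hl) l l' h1 rfl h3 e.symm

theorem etale_comp (ha : IsFormallyEtaleMor a) (hb : IsFormallyEtaleMor b) :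
    IsFormallyEtaleMor (a ≫ b) := by
  intro sq
  obtain ⟨l, hl⟩ := smooth_comp a b ha (fun sq' => (hb sq').exists) sq
  refine ⟨l, hl, fun l' hl' => ?_⟩
  exact unramified_comp a b ha (unramified_of_etale b hb) sq l' l hl'.1 hl'.2 hl.1 hl.2

end comp

end Groth.Agent.Helper5.FEt
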