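import Mathlib
import Groth.Prelude.Def_W4bk4goldsch23FF
set_option autoImplicit false
open FunFld Polynomial
open scoped IntermediateField

namespace Groth.Agent.Helper5.FF

variable {k K : Type*} [Field k] [Field K] [Algebra k K]

/-! ### Basic facts on places -/

theorem val_algebraMap (P : Place k K) {c : k} (hc : c ≠ 0) : P.1 (algebraMap k K c) = 1 := by
  apply le_antisymm (P.2.1 c)
  have h1 := P.2.1 c⁻¹
  have h2 : P.1 (algebraMap k K c) * P.1 (algebraMap k K c⁻¹) = 1 := by
    rw [← map_mul, ← map_mul, mul_inv_cancel₀ hc, map_one, map_one]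
  by_contra hlt
  rw [not_le] at hlt
  have h0 : P.1 (algebraMap k K c) ≠ 0 := by
    intro h; rw [h, zero_mul] at h2; exact zero_ne_one h2
  have : P.1 (algebraMap k K c) * P.1 (algebraMap k K c⁻¹) < 1 := by
    calc P.1 (algebraMap k K c) * P.1 (algebraMap k K c⁻¹)
        ≤ P.1 (algebraMap k K c) * 1 := by gcongr
      _ = P.1 (algebraMap k K c) := mul_one _
      _ < 1 := hlt
  rw [h2] at this
  exact lt_irrefl _ this

theorem val_algebraMap_le (P : Place k K) (c : k) : P.1 (algebraMap k K c) ≤ 1 := P.2.1 c

theorem exists_val_eq (P : Place k K) (n : ℤ) : ∃ t : K, P.1 t = WithZero.exp n := P.2.2 _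

theorem exists_uniformizer (P : Place k K) : ∃ t : K, P.1 t = WithZero.exp (-1 : ℤ) := P.2.2 _

theorem transcendental_of_val_ne_one (hK : IsFunctionField k K) (P : Place k K) {x : K}
    (hx0 : x ≠ 0) (hx : P.1 x ≠ 1) : Transcendental k x := by
  intro halg
  obtain ⟨c, rfl⟩ := hK.2 x halg
  have hc : c ≠ 0 := by rintro rfl; simp at hx0
  exact hx (val_algebraMap P hc)

theorem mem_maximalIdeal_iff (P : Place k K) (a : P.O) :
    a ∈ IsLocalRing.maximalIdeal P.O ↔ P.1 (a : K) < 1 := by
  rw [ValuationSubring.valuation_lt_one_iff]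
  exact (Valuation.isEquiv_valuation_valuationSubring P.1).symm.lt_one_iff_lt_one

theorem mem_O_iff (P : Place k K) (a : K) : a ∈ P.O ↔ P.1 a ≤ 1 := Iff.rfl

theorem residue_eq_zero_iff (P : Place k K) (a : P.O) :
    IsLocalRing.residue P.O a = 0 ↔ P.1 (a : K) < 1 := by
  rw [IsLocalRing.residue_eq_zero_iff, mem_maximalIdeal_iff]

/-- any transcendental element generates a subfield of finite index -/
theorem finiteDimensional_adjoin (hK : IsFunctionField k K) {x : K} (hx : Transcendental k x) :
    FiniteDimensional k⟮x⟯ K := by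
  obtain ⟨x₀, hx₀, hfin⟩ := hK.1
  -- K is essentially of finite type over k
  have h1 : Algebra.EssFiniteType k k⟮x₀⟯ := by
    rw [IntermediateField.essFiniteType_iff]
    exact IntermediateField.fg_adjoin_of_finite (Set.finite_singleton x₀)
  have h2 : Algebra.EssFiniteType k⟮x₀⟯ K := inferInstance
  have h3 : Algebra.EssFiniteType k K := Algebra.EssFiniteType.comp k k⟮x₀⟯ K
  have h4 : Algebra.EssFiniteType k⟮x⟯ K := Algebra.EssFiniteType.of_comp k k⟮x⟯ K
  -- K is algebraic over k(x)
  have halg0 : Algebra.IsAlgebraic k⟮x₀⟯ K := Algebra.IsAlgebraic.of_finite _ _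
  have hset : (k⟮x₀⟯ : IntermediateField k K) = IntermediateField.adjoin k (Set.range fun _ : Unit => x₀) := by
    congr 1; ext; simp
  have htr0 : Algebra.IsAlgebraic (Algebra.adjoin k ({x₀} : Set K)) K := by
    open scoped IntermediateField.algebraAdjoinAdjoin in
    exact Algebra.IsAlgebraic.trans (Algebra.adjoin k ({x₀} : Set K)) k⟮x₀⟯ K
  have hle : Algebra.trdeg k K ≤ 1 := by
    have := Algebra.IsAlgebraic.trdeg_le_cardinalMk k ({x₀} : Set K)
    simpa using this
  have hind : AlgebraicIndependent k (fun _ : Unit => x) := algebraicIndependent_unique_type_iff.mpr hx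
  have hbasis : IsTranscendenceBasis k (fun _ : Unit => x) :=
    hind.isTranscendenceBasis_of_lift_trdeg_le_of_finite (by simpa using hle)
  have halg : Algebra.IsAlgebraic (IntermediateField.adjoin k (Set.range fun _ : Unit => x)) K :=
    hbasis.isAlgebraic_field
  have hset' : (k⟮x⟯ : IntermediateField k K) = IntermediateField.adjoin k (Set.range fun _ : Unit => x) := by
    congr 1; ext; simp
  have halg' : Algebra.IsAlgebraic k⟮x⟯ K := by rw [hset']; exact halg
  exact Algebra.finite_of_essFiniteType_of_isAlgebraic

/-- Key independence lemma: a family `z` such that no `k[x]`-combination with some coefficient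
having nonzero constant term vanishes, is linearly independent over `k(x)`. -/
theorem linearIndependent_of_coeff_zero {ι : Type*} [Fintype ι] {x : K} (hx0 : x ≠ 0) (z : ι → K)
    (H : ∀ p : ι → k[X], (∃ i, (p i).coeff 0 ≠ 0) → ∑ i, aeval x (p i) * z i ≠ 0) :
    LinearIndependent k⟮x⟯ z := by
  classical
  have key : ∀ n : ℕ, ∀ p : ι → k[X], (∀ i, (p i).natDegree ≤ n) →
      ∑ i, aeval x (p i) * z i = 0 → ∀ i, p i = 0 := by
    intro n
    induction n with
    | zero =>
      intro p hp hsum i
      have hc : ∀ i, (p i).coeff 0 = 0 := by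
        by_contra hne
        push Not at hne
        exact H p hne hsum
      rw [Polynomial.eq_C_of_natDegree_le_zero (hp i), hc i, map_zero]
    | succ n ih =>
      intro p hp hsum i
      have hc : ∀ i, (p i).coeff 0 = 0 := by
        by_contra hne
        push Not at hne
        exact H p hne hsum
      have hdiv : ∀ i, p i = X * (p i).divX := by
        intro i
        conv_lhs => rw [← Polynomial.divX_mul_X_add (p i), hc i, map_zero, add_zero, mul_comm]
      have hsum' : ∑ i, aeval x ((p i).divX) * z i = 0 := by
        have : x * ∑ i, aeval x ((p i).divX) * z i = 0 := by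
          rw [Finset.mul_sum, ← hsum]
          apply Finset.sum_congr rfl
          intro i _
          conv_rhs => rw [hdiv i]
          rw [map_mul, aeval_X, mul_assoc]
        exact (mul_eq_zero.mp this).resolve_left hx0
      have hdeg : ∀ i, ((p i).divX).natDegree ≤ n := by
        intro i
        rw [Polynomial.natDegree_divX_eq_natDegree_tsub_one]
        have := hp i
        omega
      have := ih (fun i => (p i).divX) hdeg hsum' i
      rw [hdiv i, this, mul_zero]
  have hli : LinearIndependent (Algebra.adjoin k ({x} : Set K)) z := by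
    rw [Fintype.linearIndependent_iff]
    intro g hg i
    have hmem : ∀ i, ∃ q : k[X], aeval x q = (g i : K) := by
      intro i
      have h2 : (g i : K) ∈ (Algebra.adjoin k ({x} : Set K)) := (g i).2
      have h3 : (g i : K) ∈ (aeval (R := k) x).range := by
        rw [← Algebra.adjoin_singleton_eq_range_aeval]; exact h2
      exact h3
    choose p hp using hmem
    have hsum : ∑ i, aeval x (p i) * z i = 0 := by
      rw [← hg]
      apply Finset.sum_congr rfl
      intro i _
      rw [hp i]; rfl
    have := key (Finset.univ.sup fun i => (p i).natDegree) p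
      (fun i => Finset.le_sup (f := fun i => (p i).natDegree) (Finset.mem_univ i)) hsum i
    apply Subtype.ext
    rw [← hp i, this, map_zero]; rfl
  open scoped IntermediateField.algebraAdjoinAdjoin in
  exact (LinearIndependent.iff_fractionRing (Algebra.adjoin k ({x} : Set K)) k⟮x⟯).mp hli

theorem card_le_finrank_of_coeff_zero (hK : IsFunctionField k K) {ι : Type*} [Fintype ι] {x : K}
    (hx : Transcendental k x) (z : ι → K)
    (H : ∀ p : ι → k[X], (∃ i, (p i).coeff 0 ≠ 0) → ∑ i, aeval x (p i) * z i ≠ 0) :
    Fintype.card ι ≤ Module.finrank k⟮x⟯ K := by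
  have := finiteDimensional_adjoin hK hx
  have hx0 : x ≠ 0 := by rintro rfl; exact hx isAlgebraic_zero
  exact (linearIndependent_of_coeff_zero hx0 z H).fintype_card_le_finrank

/-- for `v x < 1`, polynomial expressions in `x` are integral at `P` and congruent to their
constant term -/
theorem val_aeval_le (P : Place k K) {x : K} (hx : P.1 x ≤ 1) (p : k[X]) : P.1 (aeval x p) ≤ 1 := by
  induction p using Polynomial.induction_on' with
  | add p q hp hq => rw [map_add]; exact (P.1.map_add _ _).trans (max_le hp hq)
  | monomial n a =>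
    rw [aeval_monomial, map_mul, map_pow]
    calc P.1 (algebraMap k K a) * P.1 x ^ n ≤ 1 * 1 := by
          gcongr
          · exact P.2.1 a
          · exact pow_le_one' hx n
      _ = 1 := one_mul 1

theorem val_aeval_sub_coeff_lt (P : Place k K) {x : K} (hx : P.1 x < 1) (p : k[X]) :
    P.1 (aeval x p - algebraMap k K (p.coeff 0)) < 1 := by
  have : aeval x p - algebraMap k K (p.coeff 0) = x * aeval x p.divX := by
    conv_lhs => rw [← Polynomial.divX_mul_X_add p]
    simp only [map_add, map_mul, aeval_X, aeval_C, coeff_add, coeff_C_zero, mul_coeff_zero,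
      coeff_X_zero, mul_zero, zero_add]
    ring
  rw [this, map_mul]
  calc P.1 x * P.1 (aeval x p.divX) ≤ P.1 x * 1 := by
        gcongr; exact val_aeval_le P hx.le _
    _ = P.1 x := mul_one _
    _ < 1 := hx

theorem exp_neg_one_lt_one : (WithZero.exp (-1 : ℤ) : WithZero (Multiplicative ℤ)) < 1 := by
  rw [← WithZero.exp_zero, WithZero.exp_lt_exp]; norm_num

theorem ne_zero_of_val_eq_exp (P : Place k K) {t : K} {n : ℤ} (ht : P.1 t = WithZero.exp n) : t ≠ 0 := by
  rintro rfl
  rw [map_zero] at ht
  exact WithZero.exp_ne_zero ht.symm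

/-- The residue class of an element of `K` of valuation `≤ 1`. -/
noncomputable def res (P : Place k K) (a : K) (ha : P.1 a ≤ 1) : IsLocalRing.ResidueField P.O :=
  IsLocalRing.residue P.O ⟨a, ha⟩

theorem algebraMap_residueField (P : Place k K) (c : k) :
    algebraMap k (IsLocalRing.ResidueField P.O) c =
      IsLocalRing.residue P.O ⟨algebraMap k K c, P.2.1 c⟩ := rfl

theorem residue_aeval (P : Place k K) {x : K} (hx : P.1 x < 1) (p : k[X]) :
    IsLocalRing.residue P.O ⟨aeval x p, val_aeval_le P hx.le p⟩ =
      algebraMap k (IsLocalRing.ResidueField P.O) (p.coeff 0) := by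
  rw [algebraMap_residueField, ← sub_eq_zero, ← map_sub, residue_eq_zero_iff]
  exact val_aeval_sub_coeff_lt P hx p

/-- the degree of a place is bounded by `[K : k(x)]` for any `x` with `v x < 1`, `x ≠ 0` -/
theorem rank_residueField_le (hK : IsFunctionField k K) (P : Place k K) {x : K} (hx0 : x ≠ 0)
    (hx : P.1 x < 1) :
    Module.rank k (IsLocalRing.ResidueField P.O) ≤ (Module.finrank k⟮x⟯ K : ℕ) := by
  classical
  have htr := transcendental_of_val_ne_one hK P hx0 hx.ne
  apply rank_le
  intro s hs
  have hsurj := IsLocalRing.residue_surjective (R := P.O)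
  choose z hz using fun i : s => hsurj i.1
  have := card_le_finrank_of_coeff_zero hK htr (fun i : s => ((z i : P.O) : K)) ?_
  · simpa using this
  intro p ⟨j, hj⟩ hsum
  have h1 : ∑ i : s, (⟨aeval x (p i), val_aeval_le P hx.le (p i)⟩ : P.O) * z i = 0 := by
    apply Subtype.ext
    have h0 : ((0 : P.O) : K) = 0 := rfl
    rw [h0, ← hsum, AddSubmonoidClass.coe_finsetSum]
    rfl
  have h2 := congrArg (IsLocalRing.residue P.O) h1
  rw [map_sum, map_zero] at h2
  have h3 : ∑ i : s, (p i).coeff 0 • (i : IsLocalRing.ResidueField P.O) = 0 := by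
    rw [← h2]
    apply Finset.sum_congr rfl
    intro i _
    rw [map_mul, residue_aeval P hx, hz i, Algebra.smul_def]
  exact hj (Fintype.linearIndependent_iff.mp hs _ h3 j)

theorem finiteDimensional_residueField (hK : IsFunctionField k K) (P : Place k K) :
    FiniteDimensional k (IsLocalRing.ResidueField P.O) := by
  obtain ⟨t, ht⟩ := exists_uniformizer P
  have ht1 : P.1 t < 1 := by rw [ht]; exact exp_neg_one_lt_one
  have ht0 : t ≠ 0 := ne_zero_of_val_eq_exp P ht
  have := rank_residueField_le hK P ht0 ht1
  exact Module.rank_lt_aleph0_iff.mp (this.trans_lt Cardinal.natCast_lt_aleph0)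

theorem deg_le_finrank (hK : IsFunctionField k K) (P : Place k K) {x : K} (hx0 : x ≠ 0)
    (hx : P.1 x < 1) : P.deg ≤ Module.finrank k⟮x⟯ K := by
  have := rank_residueField_le hK P hx0 hx
  have hfin := finiteDimensional_residueField hK P
  rw [← Module.finrank_eq_rank] at this
  exact_mod_cast this

end Groth.Agent.Helper5.FF
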