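import Mathlib
import Groth.Agent.Helper5.FFApprox
set_option autoImplicit false
open FunFld Polynomial
open scoped IntermediateField

namespace Groth.Agent.Helper5.FF

variable {k K : Type*} [Field k] [Field K] [Algebra k K]

theorem val_aeval_eq_one (P : Place k K) {x : K} (hx : P.1 x < 1) {p : k[X]} (hp : p.coeff 0 ≠ 0) :
    P.1 (aeval x p) = 1 := by
  have h1 := val_aeval_sub_coeff_lt P hx p
  have h2 : P.1 (algebraMap k K (p.coeff 0)) = 1 := val_algebraMap P hp
  have : aeval x p = algebraMap k K (p.coeff 0) + (aeval x p - algebraMap k K (p.coeff 0)) := by ring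
  rw [this, Valuation.map_add_eq_of_lt_left _ (by rw [h2]; exact h1), h2]

theorem card_zeros_le (hK : IsFunctionField k K) {x : K} (hx : Transcendental k x)
    (T : Finset (Place k K)) (hT : ∀ Q ∈ T, Q.1 x < 1) :
    T.card ≤ Module.finrank k⟮x⟯ K := by
  classical
  have hw : ∀ Q : T, ∃ w : K, Q.1.1 (w - 1) < 1 ∧ ∀ Q' ∈ T.erase Q.1, Q'.1 w < 1 := fun Q => by
    simpa using exists_approx_one Q.1 (T.erase Q.1) (Finset.notMem_erase _ _) 0
  choose w hw1 hw2 using hw
  have := card_le_finrank_of_coeff_zero hK hx (fun Q : T => w Q) ?_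
  · simpa using this
  intro p ⟨j, hj⟩ hsum
  have hwj : j.1.1 (w j) = 1 := by
    have : w j = 1 + (w j - 1) := by ring
    rw [this]; exact Valuation.map_one_add_of_lt _ (hw1 j)
  have hj1 : j.1.1 (aeval x (p j) * w j) = 1 := by
    rw [map_mul, hwj, mul_one]
    exact val_aeval_eq_one j.1 (hT _ j.2) hj
  have hothers : j.1.1 (∑ i ∈ Finset.univ.erase j, aeval x (p i) * w i) < 1 := by
    apply Valuation.map_sum_lt _ one_ne_zero
    intro i hi
    have hij : i ≠ j := (Finset.mem_erase.mp hi).1
    have hmem : j.1 ∈ T.erase i.1 := by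
      rw [Finset.mem_erase]
      exact ⟨fun h => hij (Subtype.ext h.symm), j.2⟩
    rw [map_mul]
    calc j.1.1 (aeval x (p i)) * j.1.1 (w i) ≤ 1 * j.1.1 (w i) := by
          gcongr; exact val_aeval_le j.1 (hT _ j.2).le _
      _ = j.1.1 (w i) := one_mul _
      _ < 1 := hw2 i j.1 hmem
  have htot : j.1.1 (∑ i, aeval x (p i) * w i) = 1 := by
    rw [← Finset.add_sum_erase _ _ (Finset.mem_univ j),
      Valuation.map_add_eq_of_lt_left _ (by rw [hj1]; exact hothers), hj1]
  rw [hsum, map_zero] at htot
  exact zero_ne_one htot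

theorem finite_zeros (hK : IsFunctionField k K) {x : K} (hx : Transcendental k x) :
    {P : Place k K | P.1 x < 1}.Finite := by
  by_contra hinf
  obtain ⟨T, hT1, hT2⟩ := (Set.not_finite.mp hinf).exists_subset_card_eq (Module.finrank k⟮x⟯ K + 1)
  have := card_zeros_le hK hx T (fun Q hQ => hT1 hQ)
  omega

theorem ord_ne_zero_iff (P : Place k K) (x : K) : P.ord x ≠ 0 ↔ x ≠ 0 ∧ P.1 x ≠ 1 := by
  unfold Place.ord
  constructor
  · intro h
    refine ⟨?_, ?_⟩
    · rintro rfl; simp at h
    · intro h1; rw [h1] at h; simp at h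
  · rintro ⟨h0, h1⟩ h
    apply h1
    have h2 : WithZero.log (P.1 x) = 0 := by omega
    rw [← WithZero.exp_log (P.1.ne_zero_iff.mpr h0), h2, WithZero.exp_zero]

theorem finite_support_ord (hK : IsFunctionField k K) (x : K) :
    (Function.support fun P : Place k K => P.ord x).Finite := by
  by_cases htr : Transcendental k x
  · have htr' : Transcendental k x⁻¹ := fun h => htr (IsAlgebraic.inv_iff.mp h)
    apply ((finite_zeros hK htr).union (finite_zeros hK htr')).subset
    intro P hP
    rw [Function.mem_support, ord_ne_zero_iff] at hP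
    obtain ⟨h0, h1⟩ := hP
    rcases lt_or_gt_of_ne h1 with h | h
    · exact Or.inl h
    · right
      show P.1 x⁻¹ < 1
      rw [map_inv₀]
      exact (inv_lt_one₀ (val_pos P h0)).mpr h
  · convert Set.finite_empty
    ext P
    simp only [Function.mem_support, Set.mem_empty_iff_false, iff_false, not_not]
    by_contra h
    rw [← ne_eq, ord_ne_zero_iff] at h
    exact htr (transcendental_of_val_ne_one hK P h.1 h.2)

end Groth.Agent.Helper5.FF
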