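import Mathlib
import Groth.Agent.Helper5.FFOrd
set_option autoImplicit false
open FunFld Polynomial
open scoped IntermediateField

namespace Groth.Agent.Helper5.FF

variable {k K : Type*} [Field k] [Field K] [Algebra k K]

theorem div_apply (hK : IsFunctionField k K) (x : K) (P : Place k K) :
    FunFld.div k x P = P.ord x := by
  unfold FunFld.div
  rw [dif_pos (finite_support_ord hK x)]
  rfl

theorem mem_L_iff (D : Divisor k K) (x : K) :
    x ∈ L D ↔ ∀ P : Place k K, P.1 x ≤ WithZero.exp (D P) := Iff.rfl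

theorem mem_L_iff_ord (D : Divisor k K) {x : K} (hx : x ≠ 0) :
    x ∈ L D ↔ ∀ P : Place k K, -(D P) ≤ P.ord x := by
  rw [mem_L_iff]
  exact forall_congr' fun P => val_le_exp_iff P hx (D P)

/-- an element without poles is constant -/
theorem mem_range_of_forall_val_le_one (hK : IsFunctionField k K) {x : K}
    (h : ∀ P : Place k K, P.1 x ≤ 1) : x ∈ Set.range (algebraMap k K) := by
  by_contra hx
  have htr := transcendental_of_not_mem_range hK hx
  obtain ⟨Q, hQ⟩ := exists_place_one_lt_val hK htr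
  exact absurd (h Q) (not_le.mpr hQ)

theorem L_zero (hK : IsFunctionField k K) : L (0 : Divisor k K) = 1 := by
  ext x
  rw [mem_L_iff, Submodule.mem_one]
  constructor
  · intro h
    exact mem_range_of_forall_val_le_one hK (fun P => by simpa using h P)
  · rintro ⟨c, rfl⟩ P
    simpa using P.2.1 c

theorem exists_eq_smul_of_ord_eq (hK : IsFunctionField k K) (x y : K) (hx : x ≠ 0) (hy : y ≠ 0)
    (h : ∀ P : Place k K, P.ord x = P.ord y) : ∃ c : k, x = c • y := by
  have hz : ∀ P : Place k K, P.1 (x / y) ≤ 1 := by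
    intro P
    have h0 : x / y ≠ 0 := div_ne_zero hx hy
    rw [← ord_nonneg_iff P h0, div_eq_mul_inv, ord_mul P hx (inv_ne_zero hy), ord_inv, h P]
    omega
  obtain ⟨c, hc⟩ := mem_range_of_forall_val_le_one hK hz
  refine ⟨c, ?_⟩
  rw [Algebra.smul_def, hc, div_mul_cancel₀ x hy]

theorem mul_mem_L_iff (hK : IsFunctionField k K) (D : Divisor k K) (x y : K) (hx : x ≠ 0) :
    x * y ∈ L D ↔ y ∈ L (D + FunFld.div k x) := by
  by_cases hy : y = 0
  · subst hy; simp
  rw [mem_L_iff_ord D (mul_ne_zero hx hy), mem_L_iff_ord _ hy]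
  apply forall_congr'
  intro P
  rw [ord_mul P hx hy, Finsupp.add_apply, div_apply hK]
  constructor <;> intro h <;> omega

theorem L_ne_bot_iff (hK : IsFunctionField k K) (D : Divisor k K) :
    L D ≠ ⊥ ↔ ∃ x : K, x ≠ 0 ∧ 0 ≤ D + FunFld.div k x := by
  rw [Submodule.ne_bot_iff]
  apply exists_congr
  intro x
  constructor
  · rintro ⟨hx, hx0⟩
    refine ⟨hx0, fun P => ?_⟩
    have := (mem_L_iff_ord D hx0).mp hx P
    rw [Finsupp.add_apply, div_apply hK, Finsupp.zero_apply]
    omega
  · rintro ⟨hx0, h⟩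
    refine ⟨(mem_L_iff_ord D hx0).mpr fun P => ?_, hx0⟩
    have := h P
    rw [Finsupp.add_apply, div_apply hK, Finsupp.zero_apply] at this
    omega

end Groth.Agent.Helper5.FF
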