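import Mathlib
import Groth.Agent.Helper5.FFZeros
set_option autoImplicit false
open FunFld Polynomial
open scoped IntermediateField

namespace Groth.Agent.Helper5.FF

variable {k K : Type*} [Field k] [Field K] [Algebra k K]

theorem ell_zero (hK : IsFunctionField k K) : ell (0 : Divisor k K) = 1 := by
  unfold ell
  rw [L_zero hK, Submodule.one_eq_span]
  exact finrank_span_singleton one_ne_zero

theorem deg_nonneg {E : Divisor k K} (hE : 0 ≤ E) : 0 ≤ E.deg := by
  unfold Divisor.deg
  apply Finsupp.sum_nonneg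
  intro P _
  exact mul_nonneg (hE P) (Nat.cast_nonneg _)

theorem deg_nsmul (l : ℕ) (D : Divisor k K) : (l • D).deg = l * D.deg := by
  rw [← degHom_apply, ← degHom_apply, map_nsmul]; simp

theorem ell_le_deg_add_one (hK : IsFunctionField k K) {D : Divisor k K} (hD : 0 ≤ D) :
    (ell D : ℤ) ≤ D.deg + 1 := by
  have := ell_sub_ell_le hK 0 D hD
  rw [ell_zero hK, deg_zero] at this
  push_cast at this
  omega

theorem linearIndependent_pow {x : K} (hx : Transcendental k x) (l : ℕ) :
    LinearIndependent k fun i : Fin (l + 1) => (IntermediateField.AdjoinSimple.gen k x) ^ (i : ℕ) := by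
  have h1 : LinearIndependent k fun i : ℕ => (monomial i (1 : k) : k[X]) := by
    have := (Polynomial.basisMonomials k).linearIndependent
    rwa [Polynomial.coe_basisMonomials] at this
  have hinj : Function.Injective (aeval (R := k) x) := transcendental_iff_injective.mp hx
  have h2 : LinearIndependent k fun i : ℕ => x ^ i := by
    have := h1.map' (aeval (R := k) x).toLinearMap (LinearMap.ker_eq_bot.mpr hinj)
    have heq : ((aeval (R := k) x).toLinearMap ∘ fun i : ℕ => (monomial i (1 : k) : k[X])) =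
        fun i : ℕ => x ^ i := by
      funext i
      simp [aeval_monomial]
    rwa [heq] at this
  have h3 : LinearIndependent k fun i : Fin (l + 1) => x ^ (i : ℕ) :=
    h2.comp _ Fin.val_injective
  apply LinearIndependent.of_comp (k⟮x⟯.val.toLinearMap)
  have heq : (k⟮x⟯.val.toLinearMap ∘ fun i : Fin (l + 1) =>
      (IntermediateField.AdjoinSimple.gen k x) ^ (i : ℕ)) = fun i : Fin (l + 1) => x ^ (i : ℕ) := by
    funext i
    simp
  rw [heq]
  exact h3

/-- the key counting bound -/
theorem exists_ell_bound (hK : IsFunctionField k K) {x : K} (hx : Transcendental k x) :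
    ∃ C : Divisor k K, 0 ≤ C ∧ ∀ l : ℕ,
      (l + 1) * Module.finrank k⟮x⟯ K ≤ ell (l • ((-(FunFld.div k x)) ⊔ 0) + C) := by
  classical
  have hx0 : x ≠ 0 := by rintro rfl; exact hx isAlgebraic_zero
  have hfd := finiteDimensional_adjoin hK hx
  obtain ⟨B, hB_def⟩ : ∃ B : Divisor k K, B = (-(FunFld.div k x)) ⊔ 0 := ⟨_, rfl⟩
  let u : Module.Basis (Fin (Module.finrank k⟮x⟯ K)) k⟮x⟯ K := Module.finBasis k⟮x⟯ K
  obtain ⟨C, hC_def⟩ : ∃ C : Divisor k K, C = ∑ j, ((-(FunFld.div k (u j))) ⊔ 0) := ⟨_, rfl⟩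
  have hC0 : 0 ≤ C := by
    rw [hC_def]; exact Finset.sum_nonneg fun j _ => le_sup_right
  have hCu : ∀ j, -(FunFld.div k (u j)) ≤ C := by
    intro j
    rw [hC_def]
    have h1 : -(FunFld.div k (u j)) ≤ (-(FunFld.div k (u j))) ⊔ 0 := le_sup_left
    exact h1.trans (Finset.single_le_sum (f := fun j => (-(FunFld.div k (u j))) ⊔ 0)
      (fun j _ => le_sup_right) (Finset.mem_univ j))
  have hB0 : 0 ≤ B := by rw [hB_def]; exact le_sup_right
  have hBx : -(FunFld.div k x) ≤ B := by rw [hB_def]; exact le_sup_left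
  have hu0 : ∀ j, u j ≠ 0 := fun j => u.ne_zero j
  refine ⟨C, hC0, fun l => ?_⟩
  rw [← hB_def]
  have hmem : ∀ ji : Fin (l + 1) × Fin (Module.finrank k⟮x⟯ K),
      x ^ (ji.1 : ℕ) * u ji.2 ∈ L (l • B + C) := by
    rintro ⟨i, j⟩
    rw [mem_L_iff_ord _ (mul_ne_zero (pow_ne_zero _ hx0) (hu0 j))]
    intro P
    rw [ord_mul P (pow_ne_zero _ hx0) (hu0 j), ord_pow, Finsupp.add_apply, Finsupp.smul_apply]
    have h1 := hBx P
    have h2 := hCu j P
    have h3 := hB0 P
    rw [Finsupp.neg_apply, div_apply hK] at h1 h2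
    rw [Finsupp.zero_apply] at h3
    have hi : (i : ℕ) ≤ l := Nat.lt_succ_iff.mp i.2
    simp only [nsmul_eq_mul]
    have h4 : -((l : ℤ) * B P) ≤ (i : ℕ) * P.ord x := by
      have : ((i : ℕ) : ℤ) * (-(B P)) ≤ (i : ℕ) * P.ord x :=
        mul_le_mul_of_nonneg_left (by omega) (Nat.cast_nonneg _)
      have h5 : ((i : ℕ) : ℤ) * B P ≤ (l : ℤ) * B P :=
        mul_le_mul_of_nonneg_right (by exact_mod_cast hi) h3
      linarith
    linarith
  have hli : LinearIndependent k fun ji : Fin (l + 1) × Fin (Module.finrank k⟮x⟯ K) =>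
      (⟨x ^ (ji.1 : ℕ) * u ji.2, hmem ji⟩ : L (l • B + C)) := by
    apply LinearIndependent.of_comp (L (l • B + C)).subtype
    have := linearIndependent_smul (linearIndependent_pow hx l) u.linearIndependent
    have heq : ((L (l • B + C)).subtype ∘ fun ji : Fin (l + 1) × Fin (Module.finrank k⟮x⟯ K) =>
        (⟨x ^ (ji.1 : ℕ) * u ji.2, hmem ji⟩ : L (l • B + C))) =
        fun p : Fin (l + 1) × Fin (Module.finrank k⟮x⟯ K) =>
          IntermediateField.AdjoinSimple.gen k x ^ (p.1 : ℕ) • u p.2 := by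
      funext ji
      simp [IntermediateField.smul_def]
    rw [heq]
    exact this
  have hfdL := finiteDimensional_L hK (l • B + C)
  have hcard := hli.fintype_card_le_finrank
  rw [Fintype.card_prod, Fintype.card_fin, Fintype.card_fin] at hcard
  exact hcard

/-- lower bound for the degree of the pole divisor -/
theorem finrank_le_deg_poles (hK : IsFunctionField k K) {x : K} (hx : Transcendental k x) :
    (Module.finrank k⟮x⟯ K : ℤ) ≤ ((-(FunFld.div k x)) ⊔ 0).deg := by
  obtain ⟨C, hC0, hC⟩ := exists_ell_bound hK hx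
  obtain ⟨n, hn⟩ : ∃ n, n = Module.finrank k⟮x⟯ K := ⟨_, rfl⟩
  obtain ⟨B, hB_def⟩ : ∃ B : Divisor k K, B = (-(FunFld.div k x)) ⊔ 0 := ⟨_, rfl⟩
  have hB0 : 0 ≤ B := by rw [hB_def]; exact le_sup_right
  rw [← hB_def, ← hn] at hC ⊢
  have hbound : ∀ l : ℕ, ((n : ℤ) * (l + 1)) ≤ 1 + l * B.deg + C.deg := by
    intro l
    have hD0 : 0 ≤ l • B + C := add_nonneg (nsmul_nonneg hB0 l) hC0
    have h6 := ell_le_deg_add_one hK hD0
    rw [deg_add, deg_nsmul] at h6
    have h8 : (((l + 1) * n : ℕ) : ℤ) ≤ (ell (l • B + C) : ℤ) := by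
      exact_mod_cast hC l
    push_cast at h8
    linarith
  by_contra hlt
  rw [not_le] at hlt
  have hC1 := deg_nonneg hC0
  have := hbound (2 + C.deg).toNat
  have hl : ((2 + C.deg).toNat : ℤ) = 2 + C.deg := Int.toNat_of_nonneg (by omega)
  rw [hl] at this
  have hn0 : (0 : ℤ) ≤ n := Nat.cast_nonneg n
  have hB1 : B.deg ≤ n - 1 := by omega
  have h9 : (2 + C.deg) * B.deg ≤ (2 + C.deg) * (n - 1) :=
    mul_le_mul_of_nonneg_left hB1 (by omega)
  nlinarith

theorem div_inv (hK : IsFunctionField k K) (x : K) : FunFld.div k x⁻¹ = -(FunFld.div k x) := by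
  ext P
  rw [Finsupp.neg_apply, div_apply hK, div_apply hK, ord_inv]

theorem finrank_congr {F G : IntermediateField k K} (h : F = G) :
    Module.finrank F K = Module.finrank G K := by
  subst h; rfl

theorem adjoin_inv_eq (x : K) : k⟮x⁻¹⟯ = k⟮x⟯ := by
  apply le_antisymm
  · rw [IntermediateField.adjoin_simple_le_iff]
    exact inv_mem (IntermediateField.mem_adjoin_simple_self k x)
  · rw [IntermediateField.adjoin_simple_le_iff]
    have := inv_mem (IntermediateField.mem_adjoin_simple_self k x⁻¹)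
    rwa [inv_inv] at this

/-- the sum over the zeros in the statement equals the degree of the positive part -/
theorem deg_posPart_eq (D : Divisor k K) :
    (D ⊔ 0).deg = ∑ P ∈ D.support with 0 < D P, D P * (P.deg : ℤ) := by
  classical
  unfold Divisor.deg Finsupp.sum
  have hsupp : (D ⊔ 0).support = D.support.filter fun P => 0 < D P := by
    ext P
    simp only [Finsupp.mem_support_iff, Finsupp.sup_apply, Finsupp.zero_apply, Finset.mem_filter]
    constructor
    · intro h
      have : 0 < D P := by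
        by_contra hle
        exact h (sup_eq_right.mpr (not_lt.mp hle))
      exact ⟨this.ne', this⟩
    · rintro ⟨-, h⟩
      rw [sup_eq_left.mpr h.le]; exact h.ne'
  rw [hsupp]
  apply Finset.sum_congr rfl
  intro P hP
  rw [Finsupp.sup_apply, Finsupp.zero_apply, sup_eq_left.mpr (Finset.mem_filter.mp hP).2.le]

/-- `deg (x)_0 = [K : k(x)]` -/
theorem deg_zeros_eq (hK : IsFunctionField k K) {x : K} (hx : Transcendental k x) :
    ((FunFld.div k x) ⊔ 0).deg = Module.finrank k⟮x⟯ K := by
  classical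
  have hx0 : x ≠ 0 := by rintro rfl; exact hx isAlgebraic_zero
  apply le_antisymm
  · rw [deg_posPart_eq]
    have := sum_ord_mul_deg_le hK hx ((FunFld.div k x).support.filter fun P => 0 < FunFld.div k x P) ?_
    · refine le_trans (le_of_eq ?_) this
      apply Finset.sum_congr rfl
      intro P _
      rw [div_apply hK]
    · intro Q hQ
      have := (Finset.mem_filter.mp hQ).2
      rw [div_apply hK] at this
      exact (ord_pos_iff Q hx0).mp this
  · have htr' : Transcendental k x⁻¹ := fun h => hx (IsAlgebraic.inv_iff.mp h)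
    have := finrank_le_deg_poles hK htr'
    rw [div_inv hK, neg_neg, finrank_congr (adjoin_inv_eq x)] at this
    exact this

theorem deg_poles_eq (hK : IsFunctionField k K) {x : K} (hx : Transcendental k x) :
    ((-(FunFld.div k x)) ⊔ 0).deg = Module.finrank k⟮x⟯ K := by
  have htr' : Transcendental k x⁻¹ := fun h => hx (IsAlgebraic.inv_iff.mp h)
  have := deg_zeros_eq hK htr'
  rw [div_inv hK, finrank_congr (adjoin_inv_eq x)] at this
  exact this

theorem div_eq_zero_of_isAlgebraic (hK : IsFunctionField k K) {x : K} (hx : IsAlgebraic k x) :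
    FunFld.div k x = 0 := by
  ext P
  rw [div_apply hK, Finsupp.zero_apply]
  obtain ⟨c, rfl⟩ := hK.2 x hx
  exact ord_algebraMap P c

theorem deg_div (hK : IsFunctionField k K) (x : K) : (FunFld.div k x).deg = 0 := by
  by_cases hx : Transcendental k x
  · have h1 := deg_zeros_eq hK hx
    have h2 := deg_poles_eq hK hx
    have h3 : FunFld.div k x = ((FunFld.div k x) ⊔ 0) - ((-(FunFld.div k x)) ⊔ 0) := by
      ext P
      simp only [Finsupp.sub_apply, Finsupp.sup_apply, Finsupp.neg_apply, Finsupp.zero_apply]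
      rcases le_total (FunFld.div k x P) 0 with h | h
      · rw [sup_eq_right.mpr h, sup_eq_left.mpr (by omega)]; omega
      · rw [sup_eq_left.mpr h, sup_eq_right.mpr (by omega)]; omega
    rw [h3, deg_sub, h1, h2, sub_self]
  · rw [div_eq_zero_of_isAlgebraic hK (not_not.mp hx), deg_zero]

theorem sum_zeros_mul_deg_eq_finrank (hK : IsFunctionField k K) (x : K) (hx : Transcendental k x) :
    (∑ P ∈ (FunFld.div k x).support with 0 < FunFld.div k x P,
        FunFld.div k x P * (P.deg : ℤ)) = Module.finrank k⟮x⟯ K := by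
  rw [← deg_posPart_eq, deg_zeros_eq hK hx]

theorem L_eq_bot_of_deg_neg (hK : IsFunctionField k K) (D : Divisor k K) (h : D.deg < 0) :
    L D = ⊥ := by
  by_contra hne
  obtain ⟨x, hx0, hx⟩ := (L_ne_bot_iff hK D).mp hne
  have := deg_nonneg hx
  rw [deg_add, deg_div hK] at this
  omega

end Groth.Agent.Helper5.FF
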