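import Mathlib
import Groth.Agent.Helper5.FFDeg
set_option autoImplicit false
open FunFld Polynomial
open scoped IntermediateField

namespace Groth.Agent.Helper5.FF

variable {k K : Type*} [Field k] [Field K] [Algebra k K]

/-- `δ(D) = deg D + 1 - ℓ(D)` -/
noncomputable def delta (D : Divisor k K) : ℤ := D.deg + 1 - ell D

/-- multiplication by `z` identifies `L(D + (z))` with `L(D)` -/
noncomputable def mulEquiv (hK : IsFunctionField k K) (D : Divisor k K) {z : K} (hz : z ≠ 0) :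
    L (D + FunFld.div k z) ≃ₗ[k] L D :=
  LinearEquiv.ofLinearMap
    { toFun := fun y => ⟨z * y.1, (mul_mem_L_iff hK D z y.1 hz).mpr y.2⟩
      map_add' := fun x y => Subtype.ext (mul_add z x.1 y.1)
      map_smul' := fun c y => Subtype.ext (mul_smul_comm c z y.1) }
    { toFun := fun y => ⟨z⁻¹ * y.1, (mul_mem_L_iff hK D z _ hz).mp
        (by rw [mul_inv_cancel_left₀ hz]; exact y.2)⟩
      map_add' := fun x y => Subtype.ext (mul_add z⁻¹ x.1 y.1)
      map_smul' := fun c y => Subtype.ext (mul_smul_comm c z⁻¹ y.1) }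
    (by ext y; exact mul_inv_cancel_left₀ hz y.1)
    (by ext y; exact inv_mul_cancel_left₀ hz y.1)

theorem ell_add_div (hK : IsFunctionField k K) (D : Divisor k K) {z : K} (hz : z ≠ 0) :
    ell (D + FunFld.div k z) = ell D :=
  (mulEquiv hK D hz).finrank_eq

theorem delta_add_div (hK : IsFunctionField k K) (D : Divisor k K) {z : K} (hz : z ≠ 0) :
    delta (D + FunFld.div k z) = delta D := by
  unfold delta
  rw [ell_add_div hK D hz, deg_add, deg_div hK, add_zero]

theorem delta_mono (hK : IsFunctionField k K) {D₁ D₂ : Divisor k K} (h : D₁ ≤ D₂) :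
    delta D₁ ≤ delta D₂ := by
  unfold delta
  have := ell_sub_ell_le hK D₁ D₂ h
  omega

theorem delta_zero (hK : IsFunctionField k K) : delta (0 : Divisor k K) = 0 := by
  unfold delta
  rw [deg_zero, ell_zero hK]; simp

theorem L_ne_bot_of_ell_pos {D : Divisor k K} (h : 0 < ell D) : L D ≠ ⊥ := by
  intro hbot
  unfold ell at h
  rw [hbot, finrank_bot] at h
  exact lt_irrefl _ h

/-- Riemann's theorem: `δ` is bounded above. -/
theorem exists_delta_bound (hK : IsFunctionField k K) : ∃ γ : ℤ, ∀ D : Divisor k K, delta D ≤ γ := by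
  obtain ⟨x, hx, -⟩ := hK.1
  have hfd := finiteDimensional_adjoin hK hx
  obtain ⟨C, hC0, hC⟩ := exists_ell_bound hK hx
  have hdegB := deg_poles_eq hK hx
  obtain ⟨n, hn⟩ : ∃ n, n = Module.finrank k⟮x⟯ K := ⟨_, rfl⟩
  obtain ⟨B, hB_def⟩ : ∃ B : Divisor k K, B = (-(FunFld.div k x)) ⊔ 0 := ⟨_, rfl⟩
  have hn1 : 1 ≤ n := by rw [hn]; exact Module.finrank_pos
  rw [← hB_def, ← hn] at hC hdegB
  have hB0 : 0 ≤ B := by rw [hB_def]; exact le_sup_right
  -- lower bound for ℓ(lB)
  have hellB : ∀ l : ℕ, ((l : ℤ) + 1) * n - C.deg ≤ ell (l • B) := by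
    intro l
    have h1 := ell_sub_ell_le hK (l • B) (l • B + C) (le_add_of_nonneg_right hC0)
    rw [deg_add] at h1
    have h2 : (((l + 1) * n : ℕ) : ℤ) ≤ (ell (l • B + C) : ℤ) := by exact_mod_cast hC l
    push_cast at h2
    linarith
  refine ⟨1 - n + C.deg, fun A => ?_⟩
  -- find l and z with A + (z) ≤ lB
  obtain ⟨Ap, hAp_def⟩ : ∃ Ap : Divisor k K, Ap = A ⊔ 0 := ⟨_, rfl⟩
  have hAp0 : 0 ≤ Ap := by rw [hAp_def]; exact le_sup_right
  have hApA : A ≤ Ap := by rw [hAp_def]; exact le_sup_left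
  have hApdeg := deg_nonneg hAp0
  have hCdeg := deg_nonneg hC0
  obtain ⟨l, hl⟩ : ∃ l : ℕ, (l : ℤ) = C.deg + Ap.deg :=
    ⟨(C.deg + Ap.deg).toNat, Int.toNat_of_nonneg (by omega)⟩
  have h3 := ell_sub_ell_le hK (l • B - Ap) (l • B) (sub_le_self _ hAp0)
  rw [deg_sub] at h3
  have h4 := hellB l
  have hn1' : (1 : ℤ) ≤ n := by exact_mod_cast hn1
  have h5 : ((l : ℤ) + 1) * 1 ≤ ((l : ℤ) + 1) * n :=
    mul_le_mul_of_nonneg_left hn1' (by omega)
  have hpos : 0 < ell (l • B - Ap) := by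
    have : (0 : ℤ) < ell (l • B - Ap) := by linarith
    exact_mod_cast this
  obtain ⟨w, hw0, hw⟩ := (L_ne_bot_iff hK _).mp (L_ne_bot_of_ell_pos hpos)
  have hle : A + FunFld.div k w⁻¹ ≤ l • B := by
    rw [div_inv hK]
    intro P
    have h6 := hw P
    have h7 := hApA P
    simp only [Finsupp.add_apply, Finsupp.sub_apply, Finsupp.neg_apply, Finsupp.zero_apply] at h6 ⊢
    omega
  have h8 := delta_mono hK hle
  rw [delta_add_div hK A (inv_ne_zero hw0)] at h8
  refine h8.trans ?_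
  unfold delta
  rw [deg_nsmul, hdegB]
  linarith

theorem bddAbove_delta (hK : IsFunctionField k K) :
    BddAbove (Set.range fun D : Divisor k K => (D.deg + 1 - (ell D : ℤ)).toNat) := by
  obtain ⟨γ, hγ⟩ := exists_delta_bound hK
  refine ⟨γ.toNat, ?_⟩
  rintro _ ⟨D, rfl⟩
  exact Int.toNat_le_toNat (hγ D)

theorem delta_le_genus (hK : IsFunctionField k K) (D : Divisor k K) :
    delta D ≤ genus k K := by
  have h1 : (delta D).toNat ≤ genus k K := le_csSup (bddAbove_delta hK) ⟨D, rfl⟩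
  have h2 := Int.self_le_toNat (delta D)
  have h3 : ((delta D).toNat : ℤ) ≤ genus k K := by exact_mod_cast h1
  omega

theorem exists_delta_eq_genus (hK : IsFunctionField k K) :
    ∃ D₀ : Divisor k K, delta D₀ = genus k K := by
  have hne : (Set.range fun D : Divisor k K => (D.deg + 1 - (ell D : ℤ)).toNat).Nonempty :=
    ⟨_, ⟨0, rfl⟩⟩
  obtain ⟨D₀, hD₀⟩ := Nat.sSup_mem hne (bddAbove_delta hK)
  have hD₀' : (delta D₀).toNat = genus k K := hD₀
  by_cases hg : genus k K = 0
  · exact ⟨0, by rw [delta_zero hK, hg]; rfl⟩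
  · refine ⟨D₀, ?_⟩
    have hpos : 0 < (delta D₀).toNat := by omega
    have := Int.toNat_of_nonneg (Int.lt_toNat.mp hpos).le
    omega

theorem riemann_inequality (hK : IsFunctionField k K) :
    (∀ D : Divisor k K, D.deg + 1 - (ell D : ℤ) ≤ genus k K) ∧
    ∃ N : ℤ, ∀ D : Divisor k K, N ≤ D.deg → D.deg + 1 - (ell D : ℤ) = genus k K := by
  refine ⟨fun D => delta_le_genus hK D, ?_⟩
  obtain ⟨D₀, hD₀⟩ := exists_delta_eq_genus hK
  refine ⟨D₀.deg + genus k K, fun D hD => ?_⟩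
  apply le_antisymm (delta_le_genus hK D)
  have h1 := delta_le_genus hK (D - D₀)
  unfold delta at h1
  rw [deg_sub] at h1
  have hpos : 0 < ell (D - D₀) := by
    have : (0 : ℤ) < ell (D - D₀) := by omega
    exact_mod_cast this
  obtain ⟨w, hw0, hw⟩ := (L_ne_bot_iff hK _).mp (L_ne_bot_of_ell_pos hpos)
  have hle : D₀ ≤ D + FunFld.div k w := by
    intro P
    have h6 := hw P
    simp only [Finsupp.add_apply, Finsupp.sub_apply, Finsupp.zero_apply] at h6 ⊢
    omega
  have h8 := delta_mono hK hle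
  rw [delta_add_div hK D hw0, hD₀] at h8
  exact h8

end Groth.Agent.Helper5.FF
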