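import Mathlib
set_option autoImplicit false

namespace Groth.Agent.Helper5.RelQuot

variable {k M : Type*} [Field k] [AddCommGroup M] [Module k M]

/-- general exact sequence lemma -/
theorem finrank_of_exact {A B C : Type*} [AddCommGroup A] [Module k A] [AddCommGroup B] [Module k B]
    [AddCommGroup C] [Module k C] (f : A →ₗ[k] B) (g : B →ₗ[k] C)
    (hf : Function.Injective f) (hg : Function.Surjective g) (hex : Function.Exact f g)
    [FiniteDimensional k A] [FiniteDimensional k C] :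
    FiniteDimensional k B ∧ Module.finrank k B = Module.finrank k A + Module.finrank k C := by
  have hB : FiniteDimensional k B := Module.Finite.of_exact hex hg
  refine ⟨hB, ?_⟩
  have h1 := LinearMap.finrank_range_add_finrank_ker g
  have h2 : Module.finrank k (LinearMap.range g) = Module.finrank k C := by
    rw [LinearMap.range_eq_top.mpr hg, finrank_top]
  have h3 : LinearMap.ker g = LinearMap.range f := (LinearMap.exact_iff.mp hex)
  have h4 : Module.finrank k (LinearMap.range f) = Module.finrank k A :=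
    LinearMap.finrank_range_of_inj hf
  rw [h3, h4, h2] at h1
  omega

/-- the relative quotient `W / U` -/
abbrev Q (U W : Submodule k M) := ↥W ⧸ Submodule.comap W.subtype U

/-- `W/U` is finite-dimensional of dimension `n` -/
def IsRel (U W : Submodule k M) (n : ℕ) : Prop :=
  FiniteDimensional k (Q U W) ∧ Module.finrank k (Q U W) = n

/-- the natural map between relative quotients -/
def relMap {U W U' W' : Submodule k M} (hW : W ≤ W') (hU : U ≤ U') : Q U W →ₗ[k] Q U' W' :=
  Submodule.mapQ _ _ (Submodule.inclusion hW) (fun w hw => hU hw)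

theorem relMap_mk {U W U' W' : Submodule k M} (hW : W ≤ W') (hU : U ≤ U') (w : W) :
    relMap hW hU (Submodule.Quotient.mk w) = Submodule.Quotient.mk (Submodule.inclusion hW w) := rfl

theorem mk_eq_zero_iff {U W : Submodule k M} (w : W) :
    (Submodule.Quotient.mk w : Q U W) = 0 ↔ (w : M) ∈ U := by
  rw [Submodule.Quotient.mk_eq_zero]; rfl

theorem relMap_injective {U W U' W' : Submodule k M} (hW : W ≤ W') (hU : U ≤ U')
    (h : ∀ w ∈ W, w ∈ U' → w ∈ U) : Function.Injective (relMap hW hU) := by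
  rw [injective_iff_map_eq_zero]
  intro x hx
  obtain ⟨w, rfl⟩ := Submodule.Quotient.mk_surjective _ x
  rw [relMap_mk, mk_eq_zero_iff] at hx
  rw [mk_eq_zero_iff]
  exact h w.1 w.2 hx

theorem relMap_surjective {U W U' W' : Submodule k M} (hW : W ≤ W') (hU : U ≤ U')
    (h : ∀ w' ∈ W', ∃ w ∈ W, w' - w ∈ U') : Function.Surjective (relMap hW hU) := by
  intro x
  obtain ⟨w', rfl⟩ := Submodule.Quotient.mk_surjective _ x
  obtain ⟨w, hw, hsub⟩ := h w'.1 w'.2
  refine ⟨Submodule.Quotient.mk ⟨w, hw⟩, ?_⟩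
  rw [relMap_mk, Submodule.Quotient.eq]
  show ((Submodule.inclusion hW ⟨w, hw⟩ - w' : W') : M) ∈ U'
  have : ((Submodule.inclusion hW ⟨w, hw⟩ - w' : W') : M) = -(w'.1 - w) := by
    simp
  rw [this]
  exact U'.neg_mem hsub

theorem relMap_exact {U₁ W₁ U₂ W₂ U₃ W₃ : Submodule k M} (hW₁ : W₁ ≤ W₂) (hU₁ : U₁ ≤ U₂)
    (hW₂ : W₂ ≤ W₃) (hU₂ : U₂ ≤ U₃) (hzero : W₁ ≤ U₃)
    (h : ∀ w ∈ W₂, w ∈ U₃ → ∃ w₁ ∈ W₁, w - w₁ ∈ U₂) :
    Function.Exact (relMap hW₁ hU₁) (relMap hW₂ hU₂) := by
  intro y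
  obtain ⟨w, rfl⟩ := Submodule.Quotient.mk_surjective _ y
  rw [relMap_mk, mk_eq_zero_iff]
  constructor
  · intro hw
    obtain ⟨w₁, hw₁, hsub⟩ := h w.1 w.2 hw
    refine ⟨Submodule.Quotient.mk ⟨w₁, hw₁⟩, ?_⟩
    rw [relMap_mk, Submodule.Quotient.eq]
    show ((Submodule.inclusion hW₁ ⟨w₁, hw₁⟩ - w : W₂) : M) ∈ U₂
    have : ((Submodule.inclusion hW₁ ⟨w₁, hw₁⟩ - w : W₂) : M) = -(w.1 - w₁) := by simp
    rw [this]
    exact U₂.neg_mem hsub
  · rintro ⟨x, hx⟩
    obtain ⟨w₁, rfl⟩ := Submodule.Quotient.mk_surjective _ x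
    rw [relMap_mk, Submodule.Quotient.eq] at hx
    have hx' : ((Submodule.inclusion hW₁ w₁ - w : W₂) : M) ∈ U₂ := hx
    have h1 : (w₁ : M) ∈ U₃ := hzero w₁.2
    have h2 : (w : M) = w₁.1 - ((Submodule.inclusion hW₁ w₁ - w : W₂) : M) := by simp
    show (w : M) ∈ U₃
    rw [h2]
    exact U₃.sub_mem h1 (hU₂ hx')

theorem isRel_self (U : Submodule k M) : IsRel U U 0 := by
  have h : Submodule.comap U.subtype U = ⊤ := by
    ext x; simp
  have hsub : Subsingleton (Q U U) := by
    show Subsingleton (↥U ⧸ Submodule.comap U.subtype U)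
    rw [h]
    infer_instance
  exact ⟨inferInstance, Module.finrank_zero_of_subsingleton⟩

theorem isRel_trans {U V W : Submodule k M} (hUV : U ≤ V) (hVW : V ≤ W) {m n : ℕ}
    (h1 : IsRel U V m) (h2 : IsRel V W n) : IsRel U W (m + n) := by
  obtain ⟨hf1, hr1⟩ := h1
  obtain ⟨hf2, hr2⟩ := h2
  have := finrank_of_exact (relMap hVW (le_refl U)) (relMap (le_refl W) hUV)
    (relMap_injective _ _ fun _ _ hw => hw)
    (relMap_surjective _ _ fun w' hw' => ⟨w', hw', by simp⟩)
    (relMap_exact _ _ _ _ (le_refl V) fun w _ hw => ⟨w, hw, by simp⟩)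
  exact ⟨this.1, by rw [this.2, hr1, hr2]⟩

theorem isRel_modular {U W : Submodule k M} (hUW : U ≤ W) (N : Submodule k M) {n : ℕ}
    (h : IsRel U W n) : ∃ a b, a + b = n ∧ IsRel (U ⊓ N) (W ⊓ N) a ∧ IsRel (U ⊔ N) (W ⊔ N) b := by
  obtain ⟨hf, hr⟩ := h
  have hW₁ : W ⊓ N ≤ W := inf_le_left
  have hU₁ : U ⊓ N ≤ U := inf_le_left
  have hW₂ : W ≤ W ⊔ N := le_sup_left
  have hU₂ : U ≤ U ⊔ N := le_sup_left
  have hinj : Function.Injective (relMap hW₁ hU₁) :=
    relMap_injective _ _ fun w hw hwU => ⟨hwU, hw.2⟩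
  have hsurj : Function.Surjective (relMap hW₂ hU₂) := by
    apply relMap_surjective
    intro w' hw'
    obtain ⟨w, hw, n', hn', rfl⟩ := Submodule.mem_sup.mp hw'
    exact ⟨w, hw, by simpa using Submodule.mem_sup_right hn'⟩
  have hex : Function.Exact (relMap hW₁ hU₁) (relMap hW₂ hU₂) := by
    apply relMap_exact
    · exact inf_le_right.trans le_sup_right
    · intro w hw hwUN
      obtain ⟨u, hu, n', hn', rfl⟩ := Submodule.mem_sup.mp hwUN
      have hn'W : n' ∈ W := by
        have : n' = (u + n') - u := by abel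
        rw [this]
        exact W.sub_mem hw (hUW hu)
      exact ⟨n', ⟨hn'W, hn'⟩, by simpa using hu⟩
  have hA : FiniteDimensional k (Q (U ⊓ N) (W ⊓ N)) := Module.Finite.of_injective _ hinj
  have hC : FiniteDimensional k (Q (U ⊔ N) (W ⊔ N)) := Module.Finite.of_surjective _ hsurj
  have := finrank_of_exact _ _ hinj hsurj hex
  exact ⟨_, _, by rw [← hr, this.2], ⟨hA, rfl⟩, ⟨hC, rfl⟩⟩

theorem isRel_of_surjective {U W : Submodule k M} {N : Type*} [AddCommGroup N] [Module k N]
    [FiniteDimensional k N] (f : W →ₗ[k] N) (hf : Function.Surjective f)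
    (hker : LinearMap.ker f = Submodule.comap W.subtype U) : IsRel U W (Module.finrank k N) := by
  have e : Q U W ≃ₗ[k] N :=
    (Submodule.quotEquivOfEq _ _ hker.symm).trans (f.quotKerEquivOfSurjective hf)
  exact ⟨Module.Finite.equiv e.symm, e.finrank_eq⟩

theorem isRel_of_finiteDimensional {U W : Submodule k M} (hUW : U ≤ W) [FiniteDimensional k W] :
    IsRel U W (Module.finrank k W - Module.finrank k U) := by
  refine ⟨inferInstance, ?_⟩
  have h1 := Submodule.finrank_quotient_add_finrank (Submodule.comap W.subtype U)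
  have h2 : Module.finrank k (Submodule.comap W.subtype U) = Module.finrank k U :=
    (Submodule.comapSubtypeEquivOfLe hUW).finrank_eq
  show Module.finrank k (↥W ⧸ Submodule.comap W.subtype U) = _
  omega

theorem eq_of_isRel_zero {U W : Submodule k M} (hUW : U ≤ W) (h : IsRel U W 0) : U = W := by
  apply le_antisymm hUW
  intro w hw
  obtain ⟨hf, hr⟩ := h
  have hsub : Subsingleton (Q U W) := Module.finrank_zero_iff.mp hr
  have : (Submodule.Quotient.mk ⟨w, hw⟩ : Q U W) = 0 := Subsingleton.elim _ _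
  exact (mk_eq_zero_iff _).mp this

theorem isRel_unique {U W : Submodule k M} {m n : ℕ} (h1 : IsRel U W m) (h2 : IsRel U W n) : m = n :=
  h1.2.symm.trans h2.2

end Groth.Agent.Helper5.RelQuot
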