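import Mathlib
import Groth.Agent.Helper5.FFRiemann
import Groth.Agent.Helper5.RelQuot
set_option autoImplicit false
open FunFld Polynomial
open scoped IntermediateField
open Groth.Agent.Helper5.RelQuot

namespace Groth.Agent.Helper5.FF

variable {k K : Type*} [Field k] [Field K] [Algebra k K]

theorem mem_AD_iff (D : Divisor k K) (a : Place k K → K) :
    a ∈ AD D ↔ ∀ P : Place k K, P.1 (a P) ≤ WithZero.exp (D P) := Iff.rfl

theorem AD_mono {A B : Divisor k K} (h : A ≤ B) : AD A ≤ AD B :=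
  fun a ha P => (ha P).trans (WithZero.exp_le_exp.mpr (h P))

theorem unif_mul_mem (P : Place k K) {t : K} (ht : P.1 t = WithZero.exp (-1 : ℤ)) (n : ℤ) (y : K)
    (hy : P.1 y ≤ WithZero.exp n) : t ^ n * y ∈ P.O := by
  show P.1 (t ^ n * y) ≤ 1
  rw [map_mul, map_zpow₀, ht, ← WithZero.exp_zsmul]
  calc WithZero.exp (n • (-1 : ℤ)) * P.1 y
      ≤ WithZero.exp (n • (-1 : ℤ)) * WithZero.exp n := by gcongr
    _ = 1 := by rw [← WithZero.exp_add, ← WithZero.exp_zero]; congr 1; simp

theorem unif_mul_lt_iff (P : Place k K) {t : K} (ht : P.1 t = WithZero.exp (-1 : ℤ)) (n : ℤ) (y : K) :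
    P.1 (t ^ n * y) < 1 ↔ P.1 y ≤ WithZero.exp (n - 1) := by
  rw [map_mul, map_zpow₀, ht, ← WithZero.exp_zsmul]
  rw [← WithZero.lt_mul_exp_iff_le WithZero.exp_ne_zero, ← WithZero.exp_add]
  have h1 : (WithZero.exp (n • (-1 : ℤ)) : WithZero (Multiplicative ℤ)) = (WithZero.exp n)⁻¹ := by
    rw [← WithZero.exp_neg]; congr 1; simp
  rw [h1, inv_mul_lt_iff₀ WithZero.exp_pos, mul_one, sub_add_cancel]

section Step
variable (A : Divisor k K) (P : Place k K) (t : K) (ht : P.1 t = WithZero.exp (-1 : ℤ))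

include ht in
theorem adStep_mem (a : Place k K → K) (ha : a ∈ AD (A + Finsupp.single P 1)) :
    t ^ (A P + 1) * a P ∈ P.O := by
  apply unif_mul_mem P ht
  have h1 := ha P
  rwa [Finsupp.add_apply, Finsupp.single_eq_same] at h1

/-- the evaluation map `A(D+P) → F_P` -/
noncomputable def adStepMap : AD (A + Finsupp.single P 1) →ₗ[k] IsLocalRing.ResidueField P.O where
  toFun a := IsLocalRing.residue P.O ⟨t ^ (A P + 1) * a.1 P, adStep_mem A P t ht a.1 a.2⟩
  map_add' x y := by
    rw [← map_add]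
    congr 1
    apply Subtype.ext
    show t ^ (A P + 1) * (x.1 P + y.1 P) = t ^ (A P + 1) * x.1 P + t ^ (A P + 1) * y.1 P
    ring
  map_smul' c x := by
    have h : (⟨t ^ (A P + 1) * (c • x).1 P, adStep_mem A P t ht _ (c • x).2⟩ : P.O) =
        algebraMap k P.O c * ⟨t ^ (A P + 1) * x.1 P, adStep_mem A P t ht x.1 x.2⟩ := by
      apply Subtype.ext
      show t ^ (A P + 1) * (c • x.1 P) = algebraMap k K c * (t ^ (A P + 1) * x.1 P)
      rw [Algebra.smul_def]
      ring
    show IsLocalRing.residue P.O _ = c • IsLocalRing.residue P.O _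
    rw [h, map_mul, Algebra.smul_def]
    rfl

theorem adStepMap_surjective : Function.Surjective (adStepMap A P t ht) := by
  classical
  intro ξ
  obtain ⟨s, rfl⟩ := IsLocalRing.residue_surjective ξ
  have ht0 : t ≠ 0 := ne_zero_of_val_eq_exp P ht
  let a : Place k K → K := fun Q => if Q = P then t ^ (-(A P + 1)) * (s : K) else 0
  have ha : a ∈ AD (A + Finsupp.single P 1) := by
    intro Q
    by_cases hQ : Q = P
    · subst hQ
      simp only [a, if_true, Finsupp.add_apply, Finsupp.single_eq_same]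
      rw [map_mul, map_zpow₀, ht, ← WithZero.exp_zsmul]
      calc WithZero.exp (-(A Q + 1) • (-1 : ℤ)) * Q.1 (s : K)
          ≤ WithZero.exp (-(A Q + 1) • (-1 : ℤ)) * 1 := by gcongr; exact s.2
        _ = WithZero.exp (A Q + 1) := by rw [mul_one]; congr 1; simp
    · simp [a, hQ]
  refine ⟨⟨a, ha⟩, ?_⟩
  show IsLocalRing.residue P.O _ = _
  congr 1
  apply Subtype.ext
  show t ^ (A P + 1) * a P = s
  simp only [a, if_true]
  rw [← mul_assoc, ← zpow_add₀ ht0]
  simp

theorem ker_adStepMap :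
    LinearMap.ker (adStepMap A P t ht) =
      Submodule.comap (AD (A + Finsupp.single P 1)).subtype (AD A) := by
  ext a
  rw [LinearMap.mem_ker, Submodule.mem_comap]
  show IsLocalRing.residue P.O ⟨t ^ (A P + 1) * a.1 P, _⟩ = 0 ↔ a.1 ∈ AD A
  rw [residue_eq_zero_iff]
  show P.1 (t ^ (A P + 1) * a.1 P) < 1 ↔ _
  rw [unif_mul_lt_iff P ht, add_sub_cancel_right, mem_AD_iff]
  constructor
  · intro h Q
    by_cases hQ : Q = P
    · subst hQ; exact h
    · have := a.2 Q
      rwa [Finsupp.add_apply, Finsupp.single_eq_of_ne hQ, add_zero] at this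
  · intro h
    exact h P

end Step

theorem isRel_AD_step (hK : IsFunctionField k K) (A : Divisor k K) (P : Place k K) :
    IsRel (AD A) (AD (A + Finsupp.single P 1)) P.deg := by
  obtain ⟨t, ht⟩ := exists_uniformizer P
  have hFP := finiteDimensional_residueField hK P
  exact isRel_of_surjective (adStepMap A P t ht) (adStepMap_surjective A P t ht)
    (ker_adStepMap A P t ht)

theorem isRel_AD_add (hK : IsFunctionField k K) (F : Place k K →₀ ℕ) :
    ∀ A : Divisor k K, ∃ n : ℕ, (n : ℤ) = (toZ F).deg ∧ IsRel (AD A) (AD (A + toZ F)) n := by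
  induction F using Finsupp.induction_linear with
  | zero =>
    intro A
    refine ⟨0, ?_, ?_⟩
    · rw [map_zero, deg_zero]; rfl
    · rw [map_zero, add_zero]; exact isRel_self _
  | add f g hf hg =>
    intro A
    obtain ⟨m, hm, h1⟩ := hf A
    obtain ⟨n, hn, h2⟩ := hg (A + toZ f)
    refine ⟨m + n, ?_, ?_⟩
    · rw [map_add, deg_add]; push_cast; omega
    · rw [map_add, ← add_assoc]
      refine isRel_trans (AD_mono ?_) (AD_mono ?_) h1 h2
      · exact le_add_of_nonneg_right (fun P => by rw [toZ_apply]; exact Nat.cast_nonneg _)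
      · exact le_add_of_nonneg_right (fun P => by rw [toZ_apply]; exact Nat.cast_nonneg _)
  | single P m =>
    induction m with
    | zero =>
      intro A
      refine ⟨0, ?_, ?_⟩
      · rw [Finsupp.single_zero, map_zero, deg_zero]; rfl
      · rw [Finsupp.single_zero, map_zero, add_zero]; exact isRel_self _
    | succ m ih =>
      intro A
      obtain ⟨n, hn, h1⟩ := ih A
      have h2 := isRel_AD_step hK (A + toZ (Finsupp.single P m)) P
      have heq : toZ (Finsupp.single P (m + 1)) = toZ (Finsupp.single P m) + Finsupp.single P 1 := by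
        rw [toZ_single, toZ_single, ← Finsupp.single_add]; simp
      refine ⟨n + P.deg, ?_, ?_⟩
      · rw [heq, deg_add, deg_single]; push_cast; omega
      · rw [heq, ← add_assoc]
        refine isRel_trans (AD_mono ?_) (AD_mono ?_) h1 h2
        · exact le_add_of_nonneg_right (fun P => by rw [toZ_apply]; exact Nat.cast_nonneg _)
        · exact le_add_of_nonneg_right (fun Q => by
            rw [Finsupp.zero_apply]
            by_cases h : Q = P
            · subst h; simp
            · rw [Finsupp.single_eq_of_ne h])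

theorem isRel_AD (hK : IsFunctionField k K) {D₁ D₂ : Divisor k K} (h : D₁ ≤ D₂) :
    ∃ n : ℕ, (n : ℤ) = D₂.deg - D₁.deg ∧ IsRel (AD D₁) (AD D₂) n := by
  obtain ⟨F, hF⟩ := exists_toZ_eq (E := D₂ - D₁) (sub_nonneg.mpr h)
  obtain ⟨n, hn, h1⟩ := isRel_AD_add hK F D₁
  rw [hF, add_sub_cancel] at h1
  rw [hF, deg_sub] at hn
  exact ⟨n, hn, h1⟩

theorem finrank_AD_quotient_AD (hK : IsFunctionField k K) (D₁ D₂ : Divisor k K) (h : D₁ ≤ D₂) :
    AD D₁ ≤ AD D₂ ∧
    FiniteDimensional k (↥(AD D₂) ⧸ Submodule.comap (AD D₂).subtype (AD D₁)) ∧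
    (Module.finrank k (↥(AD D₂) ⧸ Submodule.comap (AD D₂).subtype (AD D₁)) : ℤ) =
      D₂.deg - D₁.deg := by
  obtain ⟨n, hn, h1, h2⟩ := isRel_AD hK h
  refine ⟨AD_mono h, h1, ?_⟩
  rw [← hn]
  exact_mod_cast h2

end Groth.Agent.Helper5.FF
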