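import Mathlib
import Groth.Agent.Helper5.FFAdele
set_option autoImplicit false
open FunFld Polynomial
open scoped IntermediateField
open Groth.Agent.Helper5.RelQuot

namespace Groth.Agent.Helper5.FF

variable {k K : Type*} [Field k] [Field K] [Algebra k K]

theorem diag_apply (x : K) (P : Place k K) : diag k K x P = x := rfl

theorem nonempty_place (hK : IsFunctionField k K) : Nonempty (Place k K) := by
  obtain ⟨x, hx, -⟩ := hK.1
  obtain ⟨P, -⟩ := exists_place_val_lt_one hK hx
  exact ⟨P⟩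

theorem diag_injective (hK : IsFunctionField k K) : Function.Injective (diag k K) := by
  obtain ⟨P⟩ := nonempty_place hK
  intro x y h
  exact congrFun h P

theorem AD_inf_range_diag (D : Divisor k K) :
    AD D ⊓ LinearMap.range (diag k K) = (L D).map (diag k K) := by
  ext a
  constructor
  · rintro ⟨ha, x, rfl⟩
    exact ⟨x, fun P => ha P, rfl⟩
  · rintro ⟨x, hx, rfl⟩
    exact ⟨fun P => hx P, x, rfl⟩

theorem ell_mono (hK : IsFunctionField k K) {D₁ D₂ : Divisor k K} (h : D₁ ≤ D₂) : ell D₁ ≤ ell D₂ := by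
  have := finiteDimensional_L hK D₂
  exact Submodule.finrank_mono (L_mono h)

theorem isRel_L (hK : IsFunctionField k K) {D₁ D₂ : Divisor k K} (h : D₁ ≤ D₂) :
    IsRel (AD D₁ ⊓ LinearMap.range (diag k K)) (AD D₂ ⊓ LinearMap.range (diag k K))
      (ell D₂ - ell D₁) := by
  rw [AD_inf_range_diag, AD_inf_range_diag]
  have h1 := finiteDimensional_L hK D₂
  have h2 := finiteDimensional_L hK D₁
  have hinj := diag_injective hK
  have e1 : Module.finrank k ((L D₁).map (diag k K)) = ell D₁ :=
    (Submodule.equivMapOfInjective (diag k K) hinj (L D₁)).finrank_eq.symm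
  have e2 : Module.finrank k ((L D₂).map (diag k K)) = ell D₂ :=
    (Submodule.equivMapOfInjective (diag k K) hinj (L D₂)).finrank_eq.symm
  have := isRel_of_finiteDimensional (k := k) (Submodule.map_mono (f := diag k K) (L_mono h))
  rwa [e1, e2] at this

theorem isRel_ADK (hK : IsFunctionField k K) {D₁ D₂ : Divisor k K} (h : D₁ ≤ D₂) :
    ∃ n : ℕ, (n : ℤ) = delta D₂ - delta D₁ ∧
      IsRel (AD D₁ ⊔ LinearMap.range (diag k K)) (AD D₂ ⊔ LinearMap.range (diag k K)) n := by
  obtain ⟨n, hn, h1⟩ := isRel_AD hK h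
  obtain ⟨a, b, hab, ha, hb⟩ := isRel_modular (AD_mono h) (LinearMap.range (diag k K)) h1
  have ha' := isRel_unique ha (isRel_L hK h)
  refine ⟨b, ?_, hb⟩
  have hmono := ell_mono hK h
  unfold delta
  omega

theorem finrank_AD_sup_K_quotient (hK : IsFunctionField k K) (D₁ D₂ : Divisor k K) (h : D₁ ≤ D₂) :
    FiniteDimensional k (↥(AD D₂ ⊔ LinearMap.range (diag k K)) ⧸
        Submodule.comap (AD D₂ ⊔ LinearMap.range (diag k K)).subtype
          (AD D₁ ⊔ LinearMap.range (diag k K))) ∧
    (Module.finrank k (↥(AD D₂ ⊔ LinearMap.range (diag k K)) ⧸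
        Submodule.comap (AD D₂ ⊔ LinearMap.range (diag k K)).subtype
          (AD D₁ ⊔ LinearMap.range (diag k K))) : ℤ) =
      (D₂.deg + 1 - ell D₂) - (D₁.deg + 1 - ell D₁) := by
  obtain ⟨n, hn, h1, h2⟩ := isRel_ADK hK h
  refine ⟨h1, ?_⟩
  unfold delta at hn
  rw [← hn]
  exact_mod_cast h2

end Groth.Agent.Helper5.FF
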