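import Mathlib
import Groth.Agent.Helper5.FFAdele2
set_option autoImplicit false
open FunFld Polynomial
open scoped IntermediateField
open Groth.Agent.Helper5.RelQuot

namespace Groth.Agent.Helper5.FF

variable {k K : Type*} [Field k] [Field K] [Algebra k K]

theorem mem_adele_iff (a : Place k K → K) :
    a ∈ adele k K ↔ {P : Place k K | ¬ P.1 (a P) ≤ 1}.Finite := by
  show (∀ᶠ P : Place k K in Filter.cofinite, P.1 (a P) ≤ 1) ↔ _
  rw [Filter.eventually_cofinite]

theorem AD_le_adele (D : Divisor k K) : AD D ≤ adele k K := by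
  intro a ha
  rw [mem_adele_iff]
  apply D.support.finite_toSet.subset
  intro P hP
  simp only [Set.mem_ofPred_eq] at hP
  simp only [Finset.mem_coe, Finsupp.mem_support_iff]
  intro h0
  apply hP
  have := ha P
  rwa [h0, WithZero.exp_zero] at this

theorem range_diag_le_adele (hK : IsFunctionField k K) : LinearMap.range (diag k K) ≤ adele k K := by
  rintro _ ⟨x, rfl⟩
  rw [mem_adele_iff]
  apply (finite_support_ord hK x).subset
  intro P hP
  simp only [Set.mem_ofPred_eq, diag_apply, not_le] at hP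
  rw [Function.mem_support, ord_ne_zero_iff]
  refine ⟨?_, hP.ne'⟩
  rintro rfl
  simp at hP

theorem exists_mem_AD {a : Place k K → K} (ha : a ∈ adele k K) : ∃ E : Divisor k K, a ∈ AD E := by
  rw [mem_adele_iff] at ha
  have hfin : (Function.support fun P : Place k K => max 0 (-(P.ord (a P)))).Finite := by
    apply ha.subset
    intro P hP
    rw [Function.mem_support] at hP
    simp only [Set.mem_ofPred_eq, not_le]
    have hneg : P.ord (a P) < 0 := by
      by_contra h
      apply hP
      rw [max_eq_left]; omega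
    have h0 : a P ≠ 0 := by
      intro h; rw [h, ord_zero] at hneg; exact lt_irrefl _ hneg
    exact (ord_neg_iff P h0).mp hneg
  refine ⟨Finsupp.ofSupportFinite _ hfin, fun P => ?_⟩
  by_cases h0 : a P = 0
  · rw [h0, map_zero]; exact zero_le
  · rw [val_le_exp_iff P h0]
    show -(max 0 (-(P.ord (a P)))) ≤ _
    have := le_max_right 0 (-(P.ord (a P)))
    omega

theorem adele_eq (hK : IsFunctionField k K) {D₂ : Divisor k K} (hD₂ : delta D₂ = genus k K) :
    adele k K = AD D₂ ⊔ LinearMap.range (diag k K) := by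
  apply le_antisymm
  · intro a ha
    obtain ⟨E, hE⟩ := exists_mem_AD ha
    have hle : D₂ ≤ D₂ ⊔ E := le_sup_left
    obtain ⟨n, hn, h1⟩ := isRel_ADK hK hle
    have h2 := delta_mono hK hle
    have h3 := delta_le_genus hK (D₂ ⊔ E)
    have hn0 : n = 0 := by omega
    rw [hn0] at h1
    have heq := eq_of_isRel_zero (sup_le_sup_right (AD_mono hle) _) h1
    rw [heq]
    exact Submodule.mem_sup_left (AD_mono le_sup_right hE)
  · exact sup_le (AD_le_adele D₂) (range_diag_le_adele hK)

theorem isRel_adele (hK : IsFunctionField k K) (D : Divisor k K) :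
    ∃ n : ℕ, (n : ℤ) = genus k K - delta D ∧
      IsRel (AD D ⊔ LinearMap.range (diag k K)) (adele k K) n := by
  obtain ⟨D₀, hD₀⟩ := exists_delta_eq_genus hK
  have hle : D ≤ D ⊔ D₀ := le_sup_left
  have hD₂ : delta (D ⊔ D₀) = genus k K := by
    have h1 := delta_mono hK (le_sup_right : D₀ ≤ D ⊔ D₀)
    have h2 := delta_le_genus hK (D ⊔ D₀)
    omega
  obtain ⟨n, hn, h1⟩ := isRel_ADK hK hle
  rw [← adele_eq hK hD₂] at h1
  exact ⟨n, by rw [hn, hD₂], h1⟩

theorem finrank_adele_quotient_ADK (hK : IsFunctionField k K) (D : Divisor k K) :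
    FiniteDimensional k (↥(adele k K) ⧸ ADK D) ∧
    (Module.finrank k (↥(adele k K) ⧸ ADK D) : ℤ) =
      (genus k K : ℤ) - (D.deg + 1 - ell D) := by
  obtain ⟨n, hn, h1, h2⟩ := isRel_adele hK D
  refine ⟨h1, ?_⟩
  unfold delta at hn
  rw [← hn]
  exact_mod_cast h2

theorem finrank_WD (hK : IsFunctionField k K) (D : Divisor k K) :
    FiniteDimensional k (WD D) ∧
    (Module.finrank k (WD D) : ℤ) = (genus k K : ℤ) - (D.deg + 1 - ell D) := by
  obtain ⟨h1, h2⟩ := finrank_adele_quotient_ADK hK D
  have e : Module.Dual k (↥(adele k K) ⧸ ADK D) ≃ₗ[k] WD D :=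
    Submodule.dualQuotEquivDualAnnihilator (ADK D)
  refine ⟨Module.Finite.equiv e, ?_⟩
  rw [← e.finrank_eq, Subspace.dual_finrank_eq, h2]

end Groth.Agent.Helper5.FF
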