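import Mathlib
import Groth.Agent.Helper5.FFAdele3
import Groth.Agent.Helper5.FFADSup
set_option autoImplicit false
open FunFld Polynomial
open scoped IntermediateField
open Groth.Agent.Helper5.RelQuot

namespace Groth.Agent.Helper5.FF

variable {k K : Type*} [Field k] [Field K] [Algebra k K]

theorem mem_WD_iff (D : Divisor k K) (ω : Module.Dual k (adele k K)) :
    ω ∈ WD D ↔ ∀ a : adele k K, (a : Place k K → K) ∈ AD D ⊔ LinearMap.range (diag k K) → ω a = 0 := by
  unfold WD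
  rw [Submodule.mem_dualAnnihilator]
  rfl

theorem WD_anti {D E : Divisor k K} (h : D ≤ E) : WD E ≤ WD D := by
  intro ω hω
  rw [mem_WD_iff] at hω ⊢
  intro a ha
  exact hω a (sup_le_sup_right (AD_mono h) _ ha)

theorem mem_WD_sup {A B : Divisor k K} {ω : Module.Dual k (adele k K)} (hA : ω ∈ WD A)
    (hB : ω ∈ WD B) : ω ∈ WD (A ⊔ B) := by
  rw [mem_WD_iff] at hA hB ⊢
  intro a ha
  rw [Groth.Agent.Helper5.FFADSup.main k K A B] at ha
  obtain ⟨b, hb, c, hc, hbc⟩ := Submodule.mem_sup.mp ha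
  obtain ⟨b₁, hb₁, b₂, hb₂, hb12⟩ := Submodule.mem_sup.mp hb
  -- a = b₁ + (b₂ + c)
  have h1 : b₁ ∈ adele k K := AD_le_adele A hb₁
  have h2 : b₂ + c ∈ adele k K := by
    have : b₂ + c = (a : Place k K → K) - b₁ := by rw [← hbc, ← hb12]; abel
    rw [this]
    exact (adele k K).sub_mem a.2 h1
  have hsplit : a = (⟨b₁, h1⟩ : adele k K) + ⟨b₂ + c, h2⟩ := by
    apply Subtype.ext
    show (a : Place k K → K) = b₁ + (b₂ + c)
    rw [← hbc, ← hb12]; abel
  rw [hsplit, map_add, hA _ (Submodule.mem_sup_left hb₁),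
    hB _ (Submodule.add_mem_sup hb₂ hc), add_zero]

theorem smul_mem_adele (hK : IsFunctionField k K) (x : K) (a : Place k K → K) (ha : a ∈ adele k K) :
    x • a ∈ adele k K := by
  rw [mem_adele_iff] at ha ⊢
  apply (ha.union (finite_support_ord hK x)).subset
  intro P hP
  simp only [Set.mem_ofPred_eq, Pi.smul_apply, smul_eq_mul, map_mul, not_le] at hP
  by_contra hcon
  simp only [Set.mem_union, Set.mem_ofPred_eq, not_le, Function.mem_support, not_or, not_lt,
    not_not] at hcon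
  obtain ⟨h1, h2⟩ := hcon
  by_cases hx : x = 0
  · rw [hx, map_zero, zero_mul] at hP
    exact absurd hP (not_lt.mpr zero_le)
  · have hx1 : P.1 x = 1 := by
      rw [val_eq_exp_neg_ord P hx, h2, neg_zero, WithZero.exp_zero]
    rw [hx1, one_mul] at hP
    exact absurd h1 (not_le.mpr hP)

theorem mulW_apply (x : K) (hx : ∀ a ∈ adele k K, x • a ∈ adele k K)
    (ω : Module.Dual k (adele k K)) (a : adele k K) :
    mulW x hx ω a = ω ⟨x • (a : Place k K → K), hx _ a.2⟩ := rfl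

theorem mulW_mulW (x y : K) (hx : ∀ a ∈ adele k K, x • a ∈ adele k K)
    (hy : ∀ a ∈ adele k K, y • a ∈ adele k K) (hxy : ∀ a ∈ adele k K, (x * y) • a ∈ adele k K)
    (ω : Module.Dual k (adele k K)) :
    mulW x hx (mulW y hy ω) = mulW (x * y) hxy ω := by
  ext a
  rw [mulW_apply, mulW_apply, mulW_apply]
  congr 1
  apply Subtype.ext
  show y • x • (a : Place k K → K) = (x * y) • (a : Place k K → K)
  rw [smul_smul, mul_comm]

theorem mulW_one (h1 : ∀ a ∈ adele k K, (1 : K) • a ∈ adele k K) (ω : Module.Dual k (adele k K)) :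
    mulW 1 h1 ω = ω := by
  ext a
  rw [mulW_apply]
  congr 1
  apply Subtype.ext
  exact one_smul K _

theorem mulW_zero (h0 : ∀ a ∈ adele k K, (0 : K) • a ∈ adele k K) (ω : Module.Dual k (adele k K)) :
    mulW 0 h0 ω = 0 := by
  ext a
  rw [mulW_apply]
  have : (⟨(0 : K) • (a : Place k K → K), h0 _ a.2⟩ : adele k K) = 0 := by
    apply Subtype.ext
    exact zero_smul K _
  rw [this, map_zero]
  rfl

theorem mulW_sub (x y : K) (hx : ∀ a ∈ adele k K, x • a ∈ adele k K)
    (hy : ∀ a ∈ adele k K, y • a ∈ adele k K) (hxy : ∀ a ∈ adele k K, (x - y) • a ∈ adele k K)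
    (ω : Module.Dual k (adele k K)) :
    mulW (x - y) hxy ω = mulW x hx ω - mulW y hy ω := by
  ext a
  rw [LinearMap.sub_apply, mulW_apply, mulW_apply, mulW_apply, ← map_sub]
  congr 1
  apply Subtype.ext
  show (x - y) • (a : Place k K → K) = x • (a : Place k K → K) - y • (a : Place k K → K)
  exact sub_smul x y _

theorem mulW_zero_right (x : K) (hx : ∀ a ∈ adele k K, x • a ∈ adele k K) :
    mulW x hx (0 : Module.Dual k (adele k K)) = 0 := by
  ext a
  rw [mulW_apply]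
  rfl

theorem smul_mem_AD_iff (hK : IsFunctionField k K) {x : K} (hx : x ≠ 0) (E : Divisor k K)
    (a : Place k K → K) : x • a ∈ AD E ↔ a ∈ AD (E + FunFld.div k x) := by
  rw [mem_AD_iff, mem_AD_iff]
  apply forall_congr'
  intro P
  rw [Pi.smul_apply, smul_eq_mul, map_mul, Finsupp.add_apply, div_apply hK]
  by_cases ha : a P = 0
  · simp [ha]
  · rw [val_eq_exp_neg_ord P hx, val_eq_exp_neg_ord P ha, ← WithZero.exp_add,
      WithZero.exp_le_exp, WithZero.exp_le_exp]
    constructor <;> intro h <;> omega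

theorem smul_mem_ADK_iff (hK : IsFunctionField k K) {x : K} (hx : x ≠ 0) (E : Divisor k K)
    (a : Place k K → K) :
    x • a ∈ AD E ⊔ LinearMap.range (diag k K) ↔
      a ∈ AD (E + FunFld.div k x) ⊔ LinearMap.range (diag k K) := by
  constructor
  · intro h
    obtain ⟨b, hb, c, ⟨y, rfl⟩, hbc⟩ := Submodule.mem_sup.mp h
    have hb' : x⁻¹ • b ∈ AD (E + FunFld.div k x) := by
      rw [← smul_mem_AD_iff hK hx, smul_smul, mul_inv_cancel₀ hx, one_smul]; exact hb
    have : a = x⁻¹ • b + diag k K (x⁻¹ * y) := by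
      have h1 : a = x⁻¹ • (x • a) := by rw [smul_smul, inv_mul_cancel₀ hx, one_smul]
      rw [h1, ← hbc, smul_add]
      congr 1
    rw [this]
    exact Submodule.add_mem_sup hb' ⟨_, rfl⟩
  · intro h
    obtain ⟨b, hb, c, ⟨y, rfl⟩, hbc⟩ := Submodule.mem_sup.mp h
    rw [← hbc, smul_add]
    refine Submodule.add_mem_sup ((smul_mem_AD_iff hK hx E b).mpr hb) ⟨x * y, ?_⟩
    rfl

theorem mulW_mem_WD_iff (hK : IsFunctionField k K) {x : K} (hx0 : x ≠ 0)
    (hx : ∀ a ∈ adele k K, x • a ∈ adele k K) (ω : Module.Dual k (adele k K)) (E : Divisor k K) :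
    mulW x hx ω ∈ WD E ↔ ω ∈ WD (E - FunFld.div k x) := by
  rw [mem_WD_iff, mem_WD_iff]
  constructor
  · intro h b hb
    have ha' : x⁻¹ • (b : Place k K → K) ∈ adele k K := smul_mem_adele hK _ _ b.2
    have hmem : x⁻¹ • (b : Place k K → K) ∈ AD E ⊔ LinearMap.range (diag k K) := by
      rw [smul_mem_ADK_iff hK (inv_ne_zero hx0), div_inv hK, ← sub_eq_add_neg]
      exact hb
    have h1 := h ⟨x⁻¹ • (b : Place k K → K), ha'⟩ hmem
    rw [mulW_apply] at h1
    have : (⟨x • x⁻¹ • (b : Place k K → K), hx _ ha'⟩ : adele k K) = b := by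
      apply Subtype.ext
      show x • x⁻¹ • (b : Place k K → K) = b
      rw [smul_smul, mul_inv_cancel₀ hx0, one_smul]
    rw [this] at h1
    exact h1
  · intro h a ha
    rw [mulW_apply]
    apply h
    show x • (a : Place k K → K) ∈ _
    rw [smul_mem_ADK_iff hK hx0, sub_add_cancel]
    exact ha

theorem isDivOf_mulW (hK : IsFunctionField k K) (x : K) (h0 : x ≠ 0)
    (hx : ∀ a ∈ adele k K, x • a ∈ adele k K)
    (ω : Module.Dual k (adele k K)) (C : Divisor k K) (hω : IsDivOf ω C) :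
    IsDivOf (mulW x hx ω) (C + FunFld.div k x) := by
  intro E
  rw [mulW_mem_WD_iff hK h0, hω, sub_le_iff_le_add]

theorem deg_pos_place (hK : IsFunctionField k K) (P : Place k K) : 0 < P.deg := by
  have := finiteDimensional_residueField hK P
  exact Module.finrank_pos

theorem deg_pos_of_pos (hK : IsFunctionField k K) {E : Divisor k K} (hE : 0 ≤ E) (hne : E ≠ 0) :
    0 < E.deg := by
  obtain ⟨P, hP⟩ := Finsupp.support_nonempty_iff.mpr hne
  have hEP : 1 ≤ E P := by
    have h1 := hE P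
    have h2 := Finsupp.mem_support_iff.mp hP
    rw [Finsupp.zero_apply] at h1
    omega
  show 0 < ∑ Q ∈ E.support, E Q * (Q.deg : ℤ)
  have h3 := Finset.single_le_sum (f := fun Q => E Q * (Q.deg : ℤ))
    (fun Q _ => mul_nonneg (hE Q) (Nat.cast_nonneg _)) hP
  have h4 : (1 : ℤ) ≤ P.deg := by exact_mod_cast deg_pos_place hK P
  have h5 : 1 * 1 ≤ E P * (P.deg : ℤ) := mul_le_mul hEP h4 (by norm_num) (by omega)
  omega

theorem exists_WD_eq_bot (hK : IsFunctionField k K) :
    ∃ N : ℤ, ∀ D : Divisor k K, N ≤ D.deg → WD D = ⊥ := by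
  obtain ⟨-, N, hN⟩ := riemann_inequality hK
  refine ⟨N, fun D hD => ?_⟩
  obtain ⟨h1, h2⟩ := finrank_WD hK D
  rw [hN D hD, sub_self] at h2
  exact Submodule.finrank_eq_zero.mp (by exact_mod_cast h2)

theorem exists_isDivOf (hK : IsFunctionField k K) (ω : Module.Dual k (adele k K)) (hω : IsWeil ω)
    (h0 : ω ≠ 0) : ∃ C : Divisor k K, IsDivOf ω C := by
  obtain ⟨N, hN⟩ := exists_WD_eq_bot hK
  obtain ⟨D, hD⟩ := hω
  have hbdd : ∃ b : ℤ, ∀ z : ℤ, (∃ A : Divisor k K, ω ∈ WD A ∧ A.deg = z) → z ≤ b := by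
    refine ⟨N, ?_⟩
    rintro z ⟨A, hA, rfl⟩
    by_contra hlt
    rw [not_le] at hlt
    have := hN A hlt.le
    rw [this, Submodule.mem_bot] at hA
    exact h0 hA
  obtain ⟨m, ⟨W, hW, hWm⟩, hmax⟩ := Int.exists_greatest_of_bdd hbdd ⟨D.deg, D, hD, rfl⟩
  refine ⟨W, fun E => ⟨fun hE => ?_, fun hE => WD_anti hE hW⟩⟩
  have h1 : ω ∈ WD (W ⊔ E) := mem_WD_sup hW hE
  have h2 := hmax _ ⟨W ⊔ E, h1, rfl⟩
  have hF0 : 0 ≤ (W ⊔ E) - W := sub_nonneg.mpr le_sup_left
  by_contra hle
  have hne : (W ⊔ E) - W ≠ 0 := by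
    intro h
    apply hle
    have : W ⊔ E = W := sub_eq_zero.mp h
    rw [← this]
    exact le_sup_right
  have := deg_pos_of_pos hK hF0 hne
  rw [deg_sub] at this
  omega

end Groth.Agent.Helper5.FF
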