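import Mathlib
import Groth.Agent.Helper5.FFWeil
import Groth.Agent.S10986
set_option autoImplicit false
open FunFld Polynomial
open scoped IntermediateField
open Groth.Agent.Helper5.RelQuot

namespace Groth.Agent.Helper5.FF

variable {k K : Type*} [Field k] [Field K] [Algebra k K]

/-- two injective maps into a small space have intersecting images -/
theorem exists_common_image {k V M₁ M₂ : Type*} [Field k] [AddCommGroup V] [Module k V]
    [AddCommGroup M₁] [Module k M₁] [AddCommGroup M₂] [Module k M₂]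
    [FiniteDimensional k V] [FiniteDimensional k M₁] [FiniteDimensional k M₂]
    (f₁ : M₁ →ₗ[k] V) (f₂ : M₂ →ₗ[k] V) (h₁ : Function.Injective f₁) (h₂ : Function.Injective f₂)
    (hdim : Module.finrank k V < Module.finrank k M₁ + Module.finrank k M₂) :
    ∃ m₁ m₂, f₁ m₁ = f₂ m₂ ∧ f₁ m₁ ≠ 0 := by
  have hr1 : Module.finrank k (LinearMap.range f₁) = Module.finrank k M₁ :=
    LinearMap.finrank_range_of_inj h₁
  have hr2 : Module.finrank k (LinearMap.range f₂) = Module.finrank k M₂ :=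
    LinearMap.finrank_range_of_inj h₂
  have hsum := Submodule.finrank_sup_add_finrank_inf_eq (LinearMap.range f₁) (LinearMap.range f₂)
  have hle : Module.finrank k ↥(LinearMap.range f₁ ⊔ LinearMap.range f₂) ≤ Module.finrank k V :=
    Submodule.finrank_le _
  have hpos : 0 < Module.finrank k ↥(LinearMap.range f₁ ⊓ LinearMap.range f₂) := by omega
  have hne : LinearMap.range f₁ ⊓ LinearMap.range f₂ ≠ ⊥ := by
    intro hbot
    rw [hbot, finrank_bot] at hpos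
    exact lt_irrefl _ hpos
  obtain ⟨η, ⟨⟨x₁, hx₁⟩, ⟨x₂, hx₂⟩⟩, hη0⟩ := Submodule.exists_mem_ne_zero_of_ne_bot hne
  exact ⟨x₁, x₂, hx₁.trans hx₂.symm, hx₁ ▸ hη0⟩

theorem mulW_add (x y : K) (hx : ∀ a ∈ adele k K, x • a ∈ adele k K)
    (hy : ∀ a ∈ adele k K, y • a ∈ adele k K) (hxy : ∀ a ∈ adele k K, (x + y) • a ∈ adele k K)
    (ω : Module.Dual k (adele k K)) :
    mulW (x + y) hxy ω = mulW x hx ω + mulW y hy ω := by
  ext a
  rw [LinearMap.add_apply, mulW_apply, mulW_apply, mulW_apply, ← map_add]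
  congr 1
  apply Subtype.ext
  show (x + y) • (a : Place k K → K) = x • (a : Place k K → K) + y • (a : Place k K → K)
  exact add_smul x y _

theorem mulW_smul (c : k) (x : K) (hx : ∀ a ∈ adele k K, x • a ∈ adele k K)
    (hcx : ∀ a ∈ adele k K, (c • x) • a ∈ adele k K)
    (ω : Module.Dual k (adele k K)) :
    mulW (c • x) hcx ω = c • mulW x hx ω := by
  ext a
  rw [LinearMap.smul_apply, mulW_apply, mulW_apply, ← map_smul]
  congr 1
  apply Subtype.ext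
  show (c • x) • (a : Place k K → K) = c • (x • (a : Place k K → K))
  rw [smul_assoc]

theorem mulW_eq_zero_iff (h : ∀ (x : K), ∀ a ∈ adele k K, x • a ∈ adele k K)
    {ω : Module.Dual k (adele k K)} (hω : ω ≠ 0) (x : K) : mulW x (h x) ω = 0 ↔ x = 0 := by
  constructor
  · intro h0
    by_contra hx
    apply hω
    have := mulW_mulW x⁻¹ x (h _) (h _) (h _) ω
    rw [h0, mulW_zero_right, inv_mul_cancel₀ hx, mulW_one] at this
    exact this.symm
  · rintro rfl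
    exact mulW_zero _ _

/-- the map `x ↦ xω` from `L(A + B)` to `W(-B)` for `ω ∈ W(A)` -/
noncomputable def mulWMap (h : ∀ (x : K), ∀ a ∈ adele k K, x • a ∈ adele k K)
    (A B : Divisor k K) (ω : Module.Dual k (adele k K)) (hω : ω ∈ WD A) :
    L (A + B) →ₗ[k] WD (-B) where
  toFun x := ⟨mulW x.1 (h x.1) ω, by
    have := Groth.Agent.S10986.result k K A (A + B) x.1 x.2 (h x.1) ω hω
    rwa [sub_add_cancel_left] at this⟩
  map_add' x y := Subtype.ext (mulW_add x.1 y.1 (h x.1) (h y.1) (h (x.1 + y.1)) ω)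
  map_smul' c x := Subtype.ext (mulW_smul c x.1 (h x.1) (h (c • x.1)) ω)

theorem mulWMap_injective (h : ∀ (x : K), ∀ a ∈ adele k K, x • a ∈ adele k K)
    (A B : Divisor k K) (ω : Module.Dual k (adele k K)) (hω : ω ∈ WD A) (h0 : ω ≠ 0) :
    Function.Injective (mulWMap h A B ω hω) := by
  rw [injective_iff_map_eq_zero]
  intro x hx
  have : mulW x.1 (h x.1) ω = 0 := congrArg Subtype.val hx
  exact Subtype.ext ((mulW_eq_zero_iff h h0 x.1).mp this)

theorem exists_mulW_eq (hK : IsFunctionField k K)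
    (h : ∀ (x : K), ∀ a ∈ adele k K, x • a ∈ adele k K)
    (ω₁ ω₂ : Module.Dual k (adele k K)) (h₁ : IsWeil ω₁) (h0 : ω₁ ≠ 0)
    (h₂ : IsWeil ω₂) : ∃ x : K, mulW x (h x) ω₁ = ω₂ := by
  by_cases h20 : ω₂ = 0
  · exact ⟨0, by rw [h20]; exact mulW_zero _ _⟩
  obtain ⟨A₁, hA₁⟩ := h₁
  obtain ⟨A₂, hA₂⟩ := h₂
  obtain ⟨P₀⟩ := nonempty_place hK
  have hP₀ : (1 : ℤ) ≤ P₀.deg := by exact_mod_cast deg_pos_place hK P₀
  obtain ⟨g, hg⟩ : ∃ g : ℤ, g = genus k K := ⟨_, rfl⟩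
  obtain ⟨m, hm⟩ : ∃ m : ℕ, (m : ℤ) = max 1 (3 * g - 2 - A₁.deg - A₂.deg) :=
    ⟨(max 1 (3 * g - 2 - A₁.deg - A₂.deg)).toNat, Int.toNat_of_nonneg (by omega)⟩
  obtain ⟨B, hB_def⟩ : ∃ B : Divisor k K, B = Finsupp.single P₀ (m : ℤ) := ⟨_, rfl⟩
  have hBdeg : (m : ℤ) ≤ B.deg := by
    rw [hB_def, deg_single]
    have : (m : ℤ) * 1 ≤ (m : ℤ) * P₀.deg := mul_le_mul_of_nonneg_left hP₀ (by omega)
    omega
  have hBpos : 0 < B.deg := by omega
  -- dimensions
  have hd1 := delta_le_genus hK (A₁ + B)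
  have hd2 := delta_le_genus hK (A₂ + B)
  unfold delta at hd1 hd2
  rw [deg_add] at hd1 hd2
  obtain ⟨hWfin, hWdim⟩ := finrank_WD hK (-B)
  have hLB : ell (-B) = 0 := by
    unfold ell
    rw [L_eq_bot_of_deg_neg hK (-B) (by rw [deg_neg]; omega), finrank_bot]
  rw [hLB, deg_neg] at hWdim
  have hinj1 := mulWMap_injective h A₁ B ω₁ hA₁ h0
  have hinj2 := mulWMap_injective h A₂ B ω₂ hA₂ h20
  have hfd1 := finiteDimensional_L hK (A₁ + B)
  have hfd2 := finiteDimensional_L hK (A₂ + B)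
  have hdim : Module.finrank k ↥(WD (-B)) < Module.finrank k ↥(L (A₁ + B)) +
      Module.finrank k ↥(L (A₂ + B)) := by
    have e1 : Module.finrank k ↥(L (A₁ + B)) = ell (A₁ + B) := rfl
    have e2 : Module.finrank k ↥(L (A₂ + B)) = ell (A₂ + B) := rfl
    rw [e1, e2]
    zify
    push_cast at hWdim
    omega
  obtain ⟨x₁, x₂, hx12, hx10⟩ := exists_common_image (k := k) (V := ↥(WD (-B)))
    (mulWMap h A₁ B ω₁ hA₁) (mulWMap h A₂ B ω₂ hA₂) hinj1 hinj2 hdim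
  obtain ⟨η, hη⟩ : ∃ η : ↥(WD (-B)), η = mulWMap h A₁ B ω₁ hA₁ x₁ := ⟨_, rfl⟩
  have hx₁ : mulWMap h A₁ B ω₁ hA₁ x₁ = η := hη.symm
  have hx₂ : mulWMap h A₂ B ω₂ hA₂ x₂ = η := by rw [hη, hx12]
  have hη0 : η ≠ 0 := by rw [hη]; exact hx10
  have e1 : mulW x₁.1 (h x₁.1) ω₁ = η.1 := congrArg Subtype.val hx₁
  have e2 : mulW x₂.1 (h x₂.1) ω₂ = η.1 := congrArg Subtype.val hx₂
  have hη0' : η.1 ≠ 0 := fun hz => hη0 (Subtype.ext hz)
  have hx20 : x₂.1 ≠ 0 := by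
    intro hz
    rw [hz, mulW_zero] at e2
    exact hη0' e2.symm
  refine ⟨x₂.1⁻¹ * x₁.1, ?_⟩
  rw [← mulW_mulW x₂.1⁻¹ x₁.1 (h _) (h _) (h _), e1, ← e2, mulW_mulW _ _ (h _) (h _) (h _),
    inv_mul_cancel₀ hx20, mulW_one]

end Groth.Agent.Helper5.FF
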