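import Mathlib
import Groth.Agent.Helper5.FFWeil2
set_option autoImplicit false
open FunFld Polynomial
open scoped IntermediateField
open Groth.Agent.Helper5.RelQuot

namespace Groth.Agent.Helper5.FF

variable {k K : Type*} [Field k] [Field K] [Algebra k K]

theorem isDivOf_unique {ω : Module.Dual k (adele k K)} {C₁ C₂ : Divisor k K}
    (h₁ : IsDivOf ω C₁) (h₂ : IsDivOf ω C₂) : C₁ = C₂ :=
  le_antisymm ((h₂ C₁).mp ((h₁ C₁).mpr le_rfl)) ((h₁ C₂).mp ((h₂ C₂).mpr le_rfl))

theorem isWeil_of_isDivOf {ω : Module.Dual k (adele k K)} {C : Divisor k K} (h : IsDivOf ω C) :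
    IsWeil ω := ⟨C, (h C).mpr le_rfl⟩

theorem ne_zero_of_isDivOf (hK : IsFunctionField k K) {ω : Module.Dual k (adele k K)}
    {C : Divisor k K} (h : IsDivOf ω C) : ω ≠ 0 := by
  rintro rfl
  obtain ⟨P⟩ := nonempty_place hK
  have h1 : (0 : Module.Dual k (adele k K)) ∈ WD (C + Finsupp.single P 1) := Submodule.zero_mem _
  have h2 := (h _).mp h1 P
  rw [Finsupp.add_apply, Finsupp.single_eq_same] at h2
  omega

theorem isCanonical_sub (hK : IsFunctionField k K) (C₁ C₂ : Divisor k K)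
    (h₁ : IsCanonical k K C₁) (h₂ : IsCanonical k K C₂) :
    ∃ x : K, x ≠ 0 ∧ C₂ = C₁ + FunFld.div k x := by
  obtain ⟨ω₁, hω₁0, hω₁⟩ := h₁
  obtain ⟨ω₂, hω₂0, hω₂⟩ := h₂
  obtain ⟨x, hx⟩ := exists_mulW_eq hK (smul_mem_adele hK) ω₁ ω₂ (isWeil_of_isDivOf hω₁) hω₁0
    (isWeil_of_isDivOf hω₂)
  have hx0 : x ≠ 0 := by
    rintro rfl
    rw [mulW_zero] at hx
    exact hω₂0 hx.symm
  refine ⟨x, hx0, ?_⟩
  have := isDivOf_mulW hK x hx0 (smul_mem_adele hK x) ω₁ C₁ hω₁
  rw [hx] at this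
  exact isDivOf_unique hω₂ this

theorem mulW_L_onto_WD (hK : IsFunctionField k K)
    (h : ∀ (x : K), ∀ a ∈ adele k K, x • a ∈ adele k K)
    (ω : Module.Dual k (adele k K)) (C : Divisor k K) (hω : IsDivOf ω C)
    (D : Divisor k K) (ω' : Module.Dual k (adele k K)) (hω' : ω' ∈ WD D) :
    ∃! x : K, x ∈ L (C - D) ∧ mulW x (h x) ω = ω' := by
  have hω0 := ne_zero_of_isDivOf hK hω
  have hex : ∃ x : K, x ∈ L (C - D) ∧ mulW x (h x) ω = ω' := by
    by_cases h0 : ω' = 0
    · exact ⟨0, Submodule.zero_mem _, by rw [h0]; exact mulW_zero _ _⟩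
    · obtain ⟨x, hx⟩ := exists_mulW_eq hK h ω ω' (isWeil_of_isDivOf hω) hω0 ⟨D, hω'⟩
      have hx0 : x ≠ 0 := by
        rintro rfl
        rw [mulW_zero] at hx
        exact h0 hx.symm
      refine ⟨x, ?_, hx⟩
      have hdiv := isDivOf_mulW hK x hx0 (h x) ω C hω
      rw [hx] at hdiv
      have hle := (hdiv D).mp hω'
      rw [mem_L_iff_ord _ hx0]
      intro P
      have := hle P
      rw [Finsupp.add_apply, div_apply hK] at this
      rw [Finsupp.sub_apply]
      omega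
  obtain ⟨x, hx1, hx2⟩ := hex
  refine ⟨x, ⟨hx1, hx2⟩, ?_⟩
  rintro y ⟨-, hy2⟩
  have : mulW (y - x) (h _) ω = 0 := by
    rw [mulW_sub y x (h y) (h x), hy2, hx2, sub_self]
  exact sub_eq_zero.mp ((mulW_eq_zero_iff h hω0 _).mp this)

/-- the isomorphism `L(C - D) ≃ W(D)` -/
noncomputable def rrMap (h : ∀ (x : K), ∀ a ∈ adele k K, x • a ∈ adele k K)
    (C D : Divisor k K) (ω : Module.Dual k (adele k K)) (hω : ω ∈ WD C) :
    L (C - D) →ₗ[k] WD D where
  toFun x := ⟨mulW x.1 (h x.1) ω, by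
    have := Groth.Agent.S10986.result k K C (C - D) x.1 x.2 (h x.1) ω hω
    rwa [sub_sub_cancel] at this⟩
  map_add' x y := Subtype.ext (mulW_add x.1 y.1 (h x.1) (h y.1) (h (x.1 + y.1)) ω)
  map_smul' c x := Subtype.ext (mulW_smul c x.1 (h x.1) (h (c • x.1)) ω)

theorem finrank_WD_eq_ell (hK : IsFunctionField k K) {C : Divisor k K} {ω : Module.Dual k (adele k K)}
    (hω : IsDivOf ω C) (D : Divisor k K) : Module.finrank k (WD D) = ell (C - D) := by
  have hω0 := ne_zero_of_isDivOf hK hω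
  have hωC : ω ∈ WD C := (hω C).mpr le_rfl
  have hinj : Function.Injective (rrMap (smul_mem_adele hK) C D ω hωC) := by
    rw [injective_iff_map_eq_zero]
    intro x hx
    have : mulW x.1 (smul_mem_adele hK x.1) ω = 0 := congrArg Subtype.val hx
    exact Subtype.ext ((mulW_eq_zero_iff (smul_mem_adele hK) hω0 x.1).mp this)
  have hsurj : Function.Surjective (rrMap (smul_mem_adele hK) C D ω hωC) := by
    intro ω'
    obtain ⟨x, ⟨hx1, hx2⟩, -⟩ := mulW_L_onto_WD hK (smul_mem_adele hK) ω C hω D ω'.1 ω'.2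
    exact ⟨⟨x, hx1⟩, Subtype.ext hx2⟩
  exact (LinearEquiv.ofBijective _ ⟨hinj, hsurj⟩).finrank_eq.symm

theorem riemann_roch (hK : IsFunctionField k K) (C : Divisor k K) (hC : IsCanonical k K C)
    (D : Divisor k K) :
    (ell D : ℤ) = D.deg + 1 - genus k K + ell (C - D) := by
  obtain ⟨ω, -, hω⟩ := hC
  have h1 := (finrank_WD hK D).2
  rw [finrank_WD_eq_ell hK hω D] at h1
  omega

theorem exists_weil_ne_zero (hK : IsFunctionField k K) (D : Divisor k K)
    (hD : delta D < genus k K) : ∃ ω : Module.Dual k (adele k K), ω ≠ 0 ∧ ω ∈ WD D := by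
  obtain ⟨h1, h2⟩ := finrank_WD hK D
  have hpos : 0 < Module.finrank k (WD D) := by
    unfold delta at hD
    have : (0 : ℤ) < Module.finrank k (WD D) := by omega
    exact_mod_cast this
  have hne : WD D ≠ ⊥ := by
    intro hbot
    rw [hbot, finrank_bot] at hpos
    exact lt_irrefl _ hpos
  obtain ⟨ω, hω, hω0⟩ := Submodule.exists_mem_ne_zero_of_ne_bot hne
  exact ⟨ω, hω0, hω⟩

theorem exists_isCanonical (hK : IsFunctionField k K) : ∃ C : Divisor k K, IsCanonical k K C := by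
  obtain ⟨P₀⟩ := nonempty_place hK
  have hP₀ : (1 : ℤ) ≤ P₀.deg := by exact_mod_cast deg_pos_place hK P₀
  have hdeg : Divisor.deg (Finsupp.single P₀ (-2 : ℤ) : Divisor k K) ≤ -2 := by
    rw [deg_single]; nlinarith
  have hell : ell (Finsupp.single P₀ (-2 : ℤ) : Divisor k K) = 0 := by
    unfold ell
    rw [L_eq_bot_of_deg_neg hK _ (by omega), finrank_bot]
  have hd : delta (Finsupp.single P₀ (-2 : ℤ) : Divisor k K) < genus k K := by
    unfold delta
    rw [hell]
    have : (0 : ℤ) ≤ genus k K := Nat.cast_nonneg _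
    push_cast
    omega
  obtain ⟨ω, hω0, hω⟩ := exists_weil_ne_zero hK _ hd
  obtain ⟨C, hC⟩ := exists_isDivOf hK ω ⟨_, hω⟩ hω0
  exact ⟨C, ω, hω0, hC⟩

theorem ell_canonical (hK : IsFunctionField k K) {C : Divisor k K} (hC : IsCanonical k K C) :
    ell C = genus k K ∧ C.deg = 2 * genus k K - 2 := by
  have h1 := riemann_roch hK C hC 0
  have h2 := riemann_roch hK C hC C
  rw [sub_zero, deg_zero, ell_zero hK] at h1
  rw [sub_self, ell_zero hK] at h2
  push_cast at h1 h2
  constructor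
  · have : (ell C : ℤ) = genus k K := by omega
    exact_mod_cast this
  · omega

theorem ell_eq_of_deg_ge (hK : IsFunctionField k K) (D : Divisor k K)
    (h : 2 * (genus k K : ℤ) - 1 ≤ D.deg) :
    (ell D : ℤ) = D.deg + 1 - genus k K := by
  obtain ⟨C, hC⟩ := exists_isCanonical hK
  have h1 := riemann_roch hK C hC D
  have h2 := (ell_canonical hK hC).2
  have h3 : ell (C - D) = 0 := by
    unfold ell
    rw [L_eq_bot_of_deg_neg hK _ (by rw [deg_sub]; omega), finrank_bot]
  rw [h3] at h1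
  push_cast at h1
  omega

theorem isCanonical_iff (hK : IsFunctionField k K) (C : Divisor k K) :
    IsCanonical k K C ↔ (ell C = genus k K ∧ C.deg = 2 * genus k K - 2) := by
  refine ⟨fun h => ell_canonical hK h, fun ⟨h1, h2⟩ => ?_⟩
  obtain ⟨W, hW⟩ := exists_isCanonical hK
  have h3 := riemann_roch hK W hW C
  have h4 := (ell_canonical hK hW).2
  rw [h1, h2] at h3
  have hell : 0 < ell (W - C) := by
    have : (0 : ℤ) < ell (W - C) := by omega
    exact_mod_cast this
  obtain ⟨x, hx0, hx⟩ := (L_ne_bot_iff hK _).mp (L_ne_bot_of_ell_pos hell)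
  have hdeg0 : (W - C + FunFld.div k x).deg = 0 := by
    rw [deg_add, deg_sub, deg_div hK]; omega
  have hzero : W - C + FunFld.div k x = 0 := by
    by_contra hne
    have := deg_pos_of_pos hK hx hne
    omega
  have hCeq : C = W + FunFld.div k x := by
    have : W - C + FunFld.div k x + C = 0 + C := by rw [hzero]
    rw [zero_add] at this
    rw [← this]; abel
  obtain ⟨ω, hω0, hω⟩ := hW
  refine ⟨mulW x (smul_mem_adele hK x) ω, ?_, ?_⟩
  · intro h0
    exact hx0 ((mulW_eq_zero_iff (smul_mem_adele hK) hω0 x).mp h0)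
  · rw [hCeq]
    exact isDivOf_mulW hK x hx0 _ ω W hω

theorem exists_weil_of_effective (hK : IsFunctionField k K) (D : Divisor k K) (hD : 0 ≤ D)
    (hdeg : D.deg < genus k K) : ∃ ω : Module.Dual k (adele k K), ω ≠ 0 ∧ ω ∈ WD D := by
  apply exists_weil_ne_zero hK
  unfold delta
  have h1 : 1 ≤ ell D := by
    have := ell_mono hK hD
    rwa [ell_zero hK] at this
  have : (1 : ℤ) ≤ ell D := by exact_mod_cast h1
  omega

end Groth.Agent.Helper5.FF
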