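import Mathlib
import Groth.Agent.Helper5.FFBasic
set_option autoImplicit false
open FunFld Polynomial TensorProduct
open scoped IntermediateField

namespace Groth.Agent.Helper5.FF

universe u v

theorem irreducible_map_of_algClosedIn {k K : Type*} [Field k] [Field K] [Algebra k K]
    (hK2 : ∀ y : K, IsAlgebraic k y → y ∈ Set.range (algebraMap k K)) {f : k[X]} (hf : f.Monic)
    (hirr : Irreducible f) : Irreducible (f.map (algebraMap k K)) := by
  have hinj : Function.Injective (Polynomial.map (algebraMap k K)) :=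
    Polynomial.map_injective _ (algebraMap k K).injective
  rw [(hf.map _).irreducible_iff_natDegree]
  rw [hf.irreducible_iff_natDegree] at hirr
  refine ⟨fun h => hirr.1 (hinj (by rw [h, Polynomial.map_one])), ?_⟩
  intro a b ha hb hab
  have hlift : ∀ c : K[X], c.Monic → c ∣ f.map (algebraMap k K) →
      ∃ c₀ : k[X], c₀.map (algebraMap k K) = c ∧ c₀.natDegree = c.natDegree ∧ c₀.Monic := by
    intro c hc hdvd
    have h1 := integralClosure.mem_lifts_of_monic_of_dvd_map K hf hc hdvd
    have h2 : c ∈ lifts (algebraMap k K) := by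
      rw [lifts_iff_coeff_lifts] at h1 ⊢
      intro n
      obtain ⟨z, hz⟩ := h1 n
      have hz' : IsIntegral k (c.coeff n) := by rw [← hz]; exact z.2
      exact hK2 _ hz'.isAlgebraic
    exact lifts_and_natDegree_eq_and_monic h2 hc
  obtain ⟨a₀, ha₀, hda, hma⟩ := hlift a ha ⟨b, hab.symm⟩
  obtain ⟨b₀, hb₀, hdb, hmb⟩ := hlift b hb ⟨a, by rw [← hab, mul_comm]⟩
  have hab₀ : a₀ * b₀ = f := by
    apply hinj
    rw [Polynomial.map_mul, ha₀, hb₀, hab]
  rcases hirr.2 a₀ b₀ hma hmb hab₀ with h | h
  · left; omega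
  · right; omega

end Groth.Agent.Helper5.FF
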