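import Mathlib
import Groth.Agent.Helper5.FFGeom
set_option autoImplicit false
open FunFld Polynomial TensorProduct
open scoped IntermediateField

namespace Groth.Agent.Helper5.FF

universe u v

/-- if `k` is algebraically closed in `K` and `k'/k` is finite separable then `k' ⊗ K` is a domain -/
theorem isDomain_tensor_of_separable {k K k' : Type*} [Field k] [Field K] [Algebra k K]
    [Field k'] [Algebra k k'] [FiniteDimensional k k'] [Algebra.IsSeparable k k']
    (hK2 : ∀ y : K, IsAlgebraic k y → y ∈ Set.range (algebraMap k K)) :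
    IsDomain (k' ⊗[k] K) := by
  let pb := Field.powerBasisOfFiniteOfSeparable k k'
  set f := minpoly k pb.gen with hfdef
  have hint : IsIntegral k pb.gen := Algebra.IsIntegral.isIntegral _
  have hfm : f.Monic := minpoly.monic hint
  have hfirr : Irreducible f := minpoly.irreducible hint
  let e1 : AdjoinRoot f ≃ₐ[k] k' := AdjoinRoot.equiv' f pb (by simp [f]) (minpoly.aeval _ _)
  let q : (K ⊗[k] k)[X] := f.map (Algebra.TensorProduct.includeRight (R := k) (A := K) (B := k)).toRingHom
  let e2 : K ⊗[k] AdjoinRoot f ≃ₐ[K] AdjoinRoot q := AdjoinRoot.tensorAlgEquiv f q rfl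
  let r : K ⊗[k] k ≃ₐ[K] K := Algebra.TensorProduct.rid k K K
  have hirr' := irreducible_map_of_algClosedIn hK2 hfm hfirr
  have : Fact (Irreducible (f.map (algebraMap k K))) := ⟨hirr'⟩
  have h1 : q.map (r.toRingEquiv : K ⊗[k] k →+* K) = f.map (algebraMap k K) := by
    simp only [q, Polynomial.map_map]
    congr 1
    ext c
    simp [r, Algebra.algebraMap_eq_smul_one]
  let e5 : AdjoinRoot q ≃+* AdjoinRoot (f.map (algebraMap k K)) :=
    AdjoinRoot.mapRingEquiv r.toRingEquiv q _ (by rw [h1])
  let e3 : k' ⊗[k] K ≃ₐ[k] K ⊗[k] k' := Algebra.TensorProduct.comm k k' K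
  let e4 : K ⊗[k] k' ≃ₐ[K] K ⊗[k] AdjoinRoot f :=
    Algebra.TensorProduct.congr AlgEquiv.refl e1.symm
  exact MulEquiv.isDomain (AdjoinRoot (f.map (algebraMap k K)))
    (((e3.toRingEquiv.trans e4.toRingEquiv).trans e2.toRingEquiv).trans e5).toMulEquiv

theorem isGeometric_of_perfectField (k : Type u) (K : Type v) [Field k] [Field K] [Algebra k K]
    [PerfectField k] (hK : IsFunctionField k K) : IsGeometric k K := by
  intro k' _ _ hfd
  have : Algebra.IsSeparable k k' := Algebra.IsAlgebraic.isSeparable_of_perfectField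
  have := isDomain_tensor_of_separable (k := k) (K := K) (k' := k') hK.2
  exact Algebra.TensorProduct.isField_of_isAlgebraic k k' K (Or.inl inferInstance)

end Groth.Agent.Helper5.FF
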