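import Mathlib
import Groth.Agent.Helper5.FFGeom2
set_option autoImplicit false
open FunFld Polynomial TensorProduct
open scoped IntermediateField

namespace Groth.Agent.Helper5.FF

universe u v

theorem isField_tensor_of_injective {k : Type*} [Field k] {k' K₀ K : Type*} [Field k'] [Algebra k k']
    [Algebra.IsAlgebraic k k']
    [Field K₀] [Field K] [Algebra k K₀] [Algebra k K] (φ : K₀ →ₐ[k] K)
    (h : IsField (k' ⊗[k] K)) : IsField (k' ⊗[k] K₀) := by
  have hdom : IsDomain (k' ⊗[k] K) := h.isDomain
  have hinj : Function.Injective (Algebra.TensorProduct.map (AlgHom.id k k') φ) := by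
    have := Module.Flat.lTensor_preserves_injective_linearMap (R := k) (M := k') φ.toLinearMap
      φ.injective
    exact this
  have : IsDomain (k' ⊗[k] K₀) :=
    Function.Injective.isDomain (Algebra.TensorProduct.map (AlgHom.id k k') φ).toRingHom hinj
  exact Algebra.TensorProduct.isField_of_isAlgebraic k k' K₀ (Or.inl inferInstance)

theorem isFunctionField_intermediateField {k : Type*} {K : Type*} [Field k] [Field K] [Algebra k K]
    (hK : IsFunctionField k K) (K₀ : IntermediateField k K)
    (h₀ : ∃ x ∈ K₀, Transcendental k x) : IsFunctionField k K₀ := by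
  obtain ⟨x, hxK₀, hx⟩ := h₀
  refine ⟨⟨⟨x, hxK₀⟩, ?_, ?_⟩, ?_⟩
  · intro h
    apply hx
    have := h.algebraMap (A := K)
    exact this
  · set F : IntermediateField k K₀ := k⟮(⟨x, hxK₀⟩ : K₀)⟯ with hF
    have hfd := finiteDimensional_adjoin hK hx
    have hmap : F.map K₀.val = k⟮x⟯ := by
      rw [hF, IntermediateField.adjoin_map, Set.image_singleton]
      rfl
    let e₁ : k⟮x⟯ ≃+* F :=
      ((IntermediateField.equivMap F K₀.val).trans (IntermediateField.equivOfEq hmap)).symm.toRingEquiv
    have : Module.Finite F K := by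
      refine Module.Finite.of_equiv_equiv e₁ (RingEquiv.refl K) ?_
      ext z
      obtain ⟨w, rfl⟩ := e₁.symm.surjective z
      simp only [RingHom.comp_apply, RingEquiv.coe_toRingHom, RingEquiv.apply_symm_apply,
        RingEquiv.refl_apply]
      rfl
    exact Module.Finite.of_injective (IsScalarTower.toAlgHom F K₀ K).toLinearMap
      (IsScalarTower.toAlgHom F K₀ K).injective
  · intro y hy
    have hy' : IsAlgebraic k (y : K) := hy.algebraMap (A := K)
    obtain ⟨c, hc⟩ := hK.2 _ hy'
    exact ⟨c, Subtype.ext hc⟩

theorem isGeometric_intermediateField {k : Type u} {K : Type v} [Field k] [Field K] [Algebra k K]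
    (hg : IsGeometric k K) (K₀ : IntermediateField k K) : IsGeometric k K₀ := by
  intro k' _ _ hfd
  exact isField_tensor_of_injective K₀.val (hg k' hfd)

end Groth.Agent.Helper5.FF
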