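import Mathlib
import Groth.Agent.Helper5.FFGeom3
set_option autoImplicit false
open FunFld Polynomial TensorProduct
open scoped IntermediateField

namespace Groth.Agent.Helper5.FF

universe u v

section
variable {k k' : Type u} {K K' : Type v} [Field k] [Field k'] [Field K] [Field K']
    [Algebra k k'] [Algebra k K] [Algebra K K'] [Algebra k' K'] [Algebra k K']
    [IsScalarTower k k' K'] [IsScalarTower k K K']

/-- the `k'`-algebra version of the product map -/
noncomputable def prodLeft : k' ⊗[k] K →ₐ[k'] K' :=
  Algebra.TensorProduct.productLeftAlgHom (Algebra.ofId k' K') (IsScalarTower.toAlgHom k K K')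

theorem prodLeft_bijective
    (h : Function.Bijective (Algebra.TensorProduct.productMap
      (IsScalarTower.toAlgHom k k' K') (IsScalarTower.toAlgHom k K K'))) :
    Function.Bijective (prodLeft (k := k) (k' := k') (K := K) (K' := K')) := by
  have : ⇑(prodLeft (k := k) (k' := k') (K := K) (K' := K')) =
      ⇑(Algebra.TensorProduct.productMap
      (IsScalarTower.toAlgHom k k' K') (IsScalarTower.toAlgHom k K K')) := by
    ext z
    induction z using TensorProduct.induction_on with
    | zero => simp
    | tmul a b => simp [prodLeft, Algebra.ofId_apply]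
    | add x y hx hy => simp only [map_add, hx, hy]
  rw [this]; exact h

theorem isGeometric_baseChange [FiniteDimensional k k']
    (h : Function.Bijective (Algebra.TensorProduct.productMap
      (IsScalarTower.toAlgHom k k' K') (IsScalarTower.toAlgHom k K K')))
    (hg : IsGeometric k K) : IsGeometric k' K' := by
  intro k'' _ _ hfd
  letI : Algebra k k'' := ((algebraMap k' k'').comp (algebraMap k k')).toAlgebra
  haveI : IsScalarTower k k' k'' := IsScalarTower.of_algebraMap_eq fun _ => rfl
  haveI : FiniteDimensional k k'' := FiniteDimensional.trans k k' k''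
  have h1 : IsField (k'' ⊗[k] K) := hg k'' inferInstance
  let Φ : k' ⊗[k] K ≃ₐ[k'] K' := AlgEquiv.ofBijective prodLeft (prodLeft_bijective h)
  let e1 : k'' ⊗[k'] K' ≃ₐ[k''] k'' ⊗[k'] (k' ⊗[k] K) :=
    Algebra.TensorProduct.congr AlgEquiv.refl Φ.symm
  let e2 : k'' ⊗[k'] (k' ⊗[k] K) ≃ₐ[k''] k'' ⊗[k] K :=
    Algebra.TensorProduct.cancelBaseChange k k' k'' k'' K
  exact MulEquiv.isField h1 (e1.trans e2).toMulEquiv

end

end Groth.Agent.Helper5.FF
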