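import Mathlib
import Groth.Agent.Helper5.FFGeom4
set_option autoImplicit false
set_option linter.style.haveILetI false
open FunFld Polynomial TensorProduct
open scoped IntermediateField

namespace Groth.Agent.Helper5.FF

universe u v

section
variable {k k' : Type u} {K K' : Type v} [Field k] [Field k'] [Field K] [Field K']
    [Algebra k k'] [Algebra k K] [Algebra K K'] [Algebra k' K'] [Algebra k K']
    [IsScalarTower k k' K'] [IsScalarTower k K K']

theorem finite_of_baseChange [FiniteDimensional k k']
    (h : Function.Bijective (Algebra.TensorProduct.productMap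
      (IsScalarTower.toAlgHom k k' K') (IsScalarTower.toAlgHom k K K'))) :
    Module.Finite K K' := by
  let ψ : K ⊗[k] k' →ₐ[K] K' :=
    Algebra.TensorProduct.productLeftAlgHom (Algebra.ofId K K') (IsScalarTower.toAlgHom k k' K')
  have hψ : Function.Bijective ψ := by
    have : ⇑ψ = ⇑(Algebra.TensorProduct.productMap
      (IsScalarTower.toAlgHom k k' K') (IsScalarTower.toAlgHom k K K')) ∘
        ⇑(Algebra.TensorProduct.comm k K k') := by
      ext z
      induction z using TensorProduct.induction_on with
      | zero => simp
      | tmul a b => simp [ψ, Algebra.ofId_apply, mul_comm]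
      | add x y hx hy => simp only [map_add, hx, hy, Function.comp_apply]
    rw [this]
    exact h.comp (Algebra.TensorProduct.comm k K k').bijective
  exact Module.Finite.equiv (AlgEquiv.ofBijective ψ hψ).toLinearEquiv

theorem transcendental_baseChange [Algebra.IsAlgebraic k k'] {x : K} (hx : Transcendental k x) :
    Transcendental k' (algebraMap K K' x) := by
  intro halg
  have h1 : IsAlgebraic k (algebraMap K K' x) := halg.restrictScalars k
  exact hx ((isAlgebraic_algebraMap_iff (algebraMap K K').injective).mp h1)

theorem finite_adjoin_baseChange [FiniteDimensional k k']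
    (h : Function.Bijective (Algebra.TensorProduct.productMap
      (IsScalarTower.toAlgHom k k' K') (IsScalarTower.toAlgHom k K K')))
    {x : K} (hfd : FiniteDimensional k⟮x⟯ K) :
    FiniteDimensional k'⟮algebraMap K K' x⟯ K' := by
  have hKK' := finite_of_baseChange h
  have h2 : Module.Finite k⟮x⟯ K' := Module.Finite.trans K K'
  set A : IntermediateField k' K' := k'⟮algebraMap K K' x⟯ with hA
  have hmem : ∀ z : k⟮x⟯, algebraMap K K' (z : K) ∈ A := by
    intro z
    have h3 : algebraMap K K' (z : K) ∈ (k⟮x⟯).map (IsScalarTower.toAlgHom k K K') :=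
      ⟨z, z.2, rfl⟩
    rw [IntermediateField.adjoin_map, Set.image_singleton] at h3
    have h4 : k⟮(IsScalarTower.toAlgHom k K K') x⟯ ≤ A.restrictScalars k := by
      rw [IntermediateField.adjoin_le_iff]
      rintro _ rfl
      exact IntermediateField.mem_adjoin_simple_self k' _
    exact h4 h3
  let ρ : k⟮x⟯ →+* A := ((algebraMap K K').comp (algebraMap k⟮x⟯ K)).codRestrict A hmem
  letI : Algebra k⟮x⟯ A := ρ.toAlgebra
  haveI : IsScalarTower k⟮x⟯ A K' := IsScalarTower.of_algebraMap_eq fun _ => rfl
  exact Module.Finite.of_restrictScalars_finite k⟮x⟯ A K'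

end

end Groth.Agent.Helper5.FF
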