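import Mathlib
import Groth.Agent.Helper5.FFGeom5
set_option autoImplicit false
set_option linter.style.haveILetI false
open FunFld Polynomial TensorProduct
open scoped IntermediateField

namespace Groth.Agent.Helper5.FF

universe u v

/-- if `k'' ⊗ K'` is a field for every finite `k''/k'` then `k'` is algebraically closed in `K'` -/
theorem algClosedIn_of_isGeometric {k' : Type u} {K' : Type v} [Field k'] [Field K'] [Algebra k' K']
    (hg : IsGeometric k' K') (y : K') (hy : IsAlgebraic k' y) :
    y ∈ Set.range (algebraMap k' K') := by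
  have hint : IsIntegral k' y := hy.isIntegral
  set f := minpoly k' y with hf
  have hf0 : f ≠ 0 := minpoly.ne_zero hint
  haveI : Fact (Irreducible f) := ⟨minpoly.irreducible hint⟩
  have hfd : FiniteDimensional k' (AdjoinRoot f) := (AdjoinRoot.powerBasis hf0).finite
  have h1 : IsField (AdjoinRoot f ⊗[k'] K') := hg (AdjoinRoot f) hfd
  let ι : AdjoinRoot f →ₐ[k'] K' :=
    AdjoinRoot.liftAlgHom f (Algebra.ofId k' K') y (by
      rw [hf]; exact minpoly.aeval k' y)
  let μ : K' ⊗[k'] AdjoinRoot f →ₐ[K'] K' :=
    Algebra.TensorProduct.productLeftAlgHom (AlgHom.id K' K') ι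
  have h2 : IsField (K' ⊗[k'] AdjoinRoot f) :=
    MulEquiv.isField h1 (Algebra.TensorProduct.comm k' K' (AdjoinRoot f)).toMulEquiv
  have hinj : Function.Injective μ := by
    letI := h2.toField
    exact (μ : K' ⊗[k'] AdjoinRoot f →+* K').injective
  have h3 : Module.finrank K' (K' ⊗[k'] AdjoinRoot f) ≤ Module.finrank K' K' :=
    LinearMap.finrank_le_finrank_of_injective (f := μ.toLinearMap) hinj
  rw [Module.finrank_baseChange, Module.finrank_self] at h3
  have h4 : Module.finrank k' (AdjoinRoot f) = f.natDegree := by
    rw [(AdjoinRoot.powerBasis hf0).finrank, AdjoinRoot.powerBasis_dim]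
  have h5 : 0 < f.natDegree := minpoly.natDegree_pos hint
  have h6 : f.natDegree = 1 := by omega
  exact minpoly.natDegree_eq_one_iff.mp h6

section
variable {k k' : Type u} {K K' : Type v} [Field k] [Field k'] [Field K] [Field K']
    [Algebra k k'] [Algebra k K] [Algebra K K'] [Algebra k' K'] [Algebra k K']
    [IsScalarTower k k' K'] [IsScalarTower k K K']

theorem isFunctionField_baseChange [FiniteDimensional k k']
    (h : Function.Bijective (Algebra.TensorProduct.productMap
      (IsScalarTower.toAlgHom k k' K') (IsScalarTower.toAlgHom k K K')))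
    (hK : IsFunctionField k K) (hg : IsGeometric k K) :
    IsFunctionField k' K' ∧ IsGeometric k' K' := by
  have hg' := isGeometric_baseChange h hg
  refine ⟨⟨?_, algClosedIn_of_isGeometric hg'⟩, hg'⟩
  obtain ⟨x, hx, hfd⟩ := hK.1
  exact ⟨algebraMap K K' x, transcendental_baseChange hx, finite_adjoin_baseChange h hfd⟩

end

end Groth.Agent.Helper5.FF
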