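import Mathlib
import Groth.Agent.Helper5.FFRR
set_option autoImplicit false
open FunFld Polynomial
open scoped IntermediateField

namespace Groth.Agent.Helper5.FF

variable {k K : Type*} [Field k] [Field K] [Algebra k K]

theorem linearIndependent_pow' {x : K} (hx : Transcendental k x) (l : ℕ) :
    LinearIndependent k fun i : Fin (l + 1) => x ^ (i : ℕ) := by
  have h1 : LinearIndependent k fun i : ℕ => (monomial i (1 : k) : k[X]) := by
    have := (Polynomial.basisMonomials k).linearIndependent
    rwa [Polynomial.coe_basisMonomials] at this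
  have hinj : Function.Injective (aeval (R := k) x) := transcendental_iff_injective.mp hx
  have h2 : LinearIndependent k fun i : ℕ => x ^ i := by
    have := h1.map' (aeval (R := k) x).toLinearMap (LinearMap.ker_eq_bot.mpr hinj)
    have heq : ((aeval (R := k) x).toLinearMap ∘ fun i : ℕ => (monomial i (1 : k) : k[X])) =
        fun i : ℕ => x ^ i := by
      funext i
      simp [aeval_monomial]
    rwa [heq] at this
  exact h2.comp _ Fin.val_injective

theorem genus_eq_zero_of_finrank_one (hK : IsFunctionField k K) {x : K} (hx : Transcendental k x)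
    (h1 : Module.finrank k⟮x⟯ K = 1) : genus k K = 0 := by
  have hx0 : x ≠ 0 := by rintro rfl; exact hx isAlgebraic_zero
  obtain ⟨B, hB_def⟩ : ∃ B : Divisor k K, B = (-(FunFld.div k x)) ⊔ 0 := ⟨_, rfl⟩
  have hBdeg : B.deg = 1 := by rw [hB_def, deg_poles_eq hK hx, h1]; rfl
  have hB0 : 0 ≤ B := by rw [hB_def]; exact le_sup_right
  have hBx : -(FunFld.div k x) ≤ B := by rw [hB_def]; exact le_sup_left
  obtain ⟨l, hl⟩ : ∃ l : ℕ, (l : ℤ) = 2 * (genus k K : ℤ) := ⟨2 * genus k K, by push_cast; ring⟩
  have hmem : ∀ i : Fin (l + 1), x ^ (i : ℕ) ∈ L (l • B) := by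
    intro i
    rw [mem_L_iff_ord _ (pow_ne_zero _ hx0)]
    intro P
    rw [ord_pow, Finsupp.smul_apply]
    have h1 := hBx P
    have h3 := hB0 P
    rw [Finsupp.neg_apply, div_apply hK] at h1
    rw [Finsupp.zero_apply] at h3
    have hi : (i : ℕ) ≤ l := Nat.lt_succ_iff.mp i.2
    simp only [nsmul_eq_mul]
    have : ((i : ℕ) : ℤ) * (-(B P)) ≤ (i : ℕ) * P.ord x :=
      mul_le_mul_of_nonneg_left (by omega) (Nat.cast_nonneg _)
    have h5 : ((i : ℕ) : ℤ) * B P ≤ (l : ℤ) * B P :=
      mul_le_mul_of_nonneg_right (by exact_mod_cast hi) h3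
    linarith
  have hli : LinearIndependent k fun i : Fin (l + 1) => (⟨x ^ (i : ℕ), hmem i⟩ : L (l • B)) := by
    apply LinearIndependent.of_comp (L (l • B)).subtype
    exact linearIndependent_pow' hx l
  have hfdL := finiteDimensional_L hK (l • B)
  have hcard := hli.fintype_card_le_finrank
  rw [Fintype.card_fin] at hcard
  have hell := ell_eq_of_deg_ge hK (l • B) (by rw [deg_nsmul, hBdeg]; omega)
  rw [deg_nsmul, hBdeg] at hell
  have : ((l + 1 : ℕ) : ℤ) ≤ ell (l • B) := by exact_mod_cast hcard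
  push_cast at this
  have hg : (genus k K : ℤ) ≤ 0 := by omega
  exact_mod_cast le_antisymm hg (Nat.cast_nonneg _)

theorem exists_simple_pole (hK : IsFunctionField k K) {x : K} (hx : Transcendental k x)
    (h1 : Module.finrank k⟮x⟯ K = 1) :
    ∃ P : Place k K, P.deg = 1 ∧ P.ord x = -1 ∧ ∀ Q : Place k K, Q ≠ P → 0 ≤ Q.ord x := by
  classical
  obtain ⟨B, hB_def⟩ : ∃ B : Divisor k K, B = (-(FunFld.div k x)) ⊔ 0 := ⟨_, rfl⟩
  have hBdeg : B.deg = 1 := by rw [hB_def, deg_poles_eq hK hx, h1]; rfl
  have hB0 : 0 ≤ B := by rw [hB_def]; exact le_sup_right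
  have hBP : ∀ Q, B Q = max (-(Q.ord x)) 0 := by
    intro Q
    rw [hB_def, Finsupp.sup_apply, Finsupp.neg_apply, div_apply hK, Finsupp.zero_apply]
  have hsum : ∑ Q ∈ B.support, B Q * (Q.deg : ℤ) = 1 := hBdeg
  have hterm : ∀ Q ∈ B.support, 1 ≤ B Q * (Q.deg : ℤ) := by
    intro Q hQ
    have h2 := hB0 Q
    have h3 := Finsupp.mem_support_iff.mp hQ
    rw [Finsupp.zero_apply] at h2
    have h4 : (1 : ℤ) ≤ Q.deg := by exact_mod_cast deg_pos_place hK Q
    have : 1 * 1 ≤ B Q * (Q.deg : ℤ) := mul_le_mul (by omega) h4 (by norm_num) (by omega)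
    omega
  have hne : B.support.Nonempty := by
    by_contra hemp
    rw [Finset.not_nonempty_iff_eq_empty] at hemp
    rw [hemp, Finset.sum_empty] at hsum
    exact zero_ne_one hsum
  obtain ⟨P, hP⟩ := hne
  rw [← Finset.add_sum_erase _ _ hP] at hsum
  have hrest : ∀ Q ∈ B.support.erase P, 1 ≤ B Q * (Q.deg : ℤ) := fun Q hQ =>
    hterm Q (Finset.mem_of_mem_erase hQ)
  have hPterm := hterm P hP
  have hrest0 : 0 ≤ ∑ Q ∈ B.support.erase P, B Q * (Q.deg : ℤ) :=
    Finset.sum_nonneg fun Q hQ => by have := hrest Q hQ; omega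
  have hPeq : B P * (P.deg : ℤ) = 1 := by omega
  have hresteq : ∑ Q ∈ B.support.erase P, B Q * (Q.deg : ℤ) = 0 := by omega
  have hempty : B.support.erase P = ∅ := by
    by_contra hne
    obtain ⟨Q, hQ⟩ := Finset.nonempty_iff_ne_empty.mpr hne
    have := Finset.single_le_sum (f := fun Q => B Q * (Q.deg : ℤ))
      (fun Q hQ => by have := hrest Q hQ; omega) hQ
    have h5 := hrest Q hQ
    omega
  have hBP1 : B P = 1 ∧ (P.deg : ℤ) = 1 := by
    have h2 := hB0 P
    rw [Finsupp.zero_apply] at h2
    have h4 : (0 : ℤ) ≤ P.deg := Nat.cast_nonneg _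
    constructor
    · exact Int.eq_one_of_mul_eq_one_right h2 hPeq
    · exact Int.eq_one_of_mul_eq_one_left h4 hPeq
  refine ⟨P, by exact_mod_cast hBP1.2, ?_, ?_⟩
  · have := hBP P
    rw [hBP1.1] at this
    rcases max_cases (-(P.ord x)) 0 with ⟨h, _⟩ | ⟨h, _⟩ <;> omega
  · intro Q hQ
    have hQs : Q ∉ B.support := by
      intro hmem
      have : Q ∈ B.support.erase P := Finset.mem_erase.mpr ⟨hQ, hmem⟩
      rw [hempty] at this
      exact absurd this (Finset.notMem_empty Q)
    have hBQ : B Q = 0 := Finsupp.notMem_support_iff.mp hQs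
    have := hBP Q
    rw [hBQ] at this
    have := le_max_left (-(Q.ord x)) 0
    omega

theorem transcendental_of_adjoin_eq_top (hK : IsFunctionField k K) {x : K} (h : k⟮x⟯ = ⊤) :
    Transcendental k x := by
  intro halg
  obtain ⟨x₀, hx₀, -⟩ := hK.1
  have : Algebra.IsAlgebraic k k⟮x⟯ := IntermediateField.isAlgebraic_adjoin_simple halg.isIntegral
  have hmem : x₀ ∈ k⟮x⟯ := by rw [h]; exact IntermediateField.mem_top
  have h1 : IsAlgebraic k (⟨x₀, hmem⟩ : k⟮x⟯) := Algebra.IsAlgebraic.isAlgebraic _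
  exact hx₀ (IsAlgebraic.algebraMap (A := K) h1)

theorem adjoin_eq_top_of_simple_pole (hK : IsFunctionField k K) {x : K} {P : Place k K}
    (hP : P.deg = 1) (hord : P.ord x = -1) (hQ : ∀ Q : Place k K, Q ≠ P → 0 ≤ Q.ord x) :
    k⟮x⟯ = ⊤ := by
  classical
  have hx0 : x ≠ 0 := by rintro rfl; rw [ord_zero] at hord; omega
  have hx : Transcendental k x := by
    apply transcendental_of_val_ne_one hK P hx0
    intro h1
    rw [ord_eq_of_val_eq P (n := 0) (by rw [h1, WithZero.exp_zero])] at hord
    omega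
  have hB : (-(FunFld.div k x)) ⊔ 0 = Finsupp.single P 1 := by
    ext Q
    rw [Finsupp.sup_apply, Finsupp.neg_apply, div_apply hK, Finsupp.zero_apply]
    by_cases h : Q = P
    · subst h; rw [hord, Finsupp.single_eq_same]; rfl
    · rw [Finsupp.single_eq_of_ne h]
      have := hQ Q h
      exact max_eq_right (by omega)
  have hdeg := deg_poles_eq hK hx
  rw [hB, deg_single, hP] at hdeg
  apply IntermediateField.finrank_eq_one_iff_eq_top.mp
  have : (1 : ℤ) = Module.finrank k⟮x⟯ K := by simpa using hdeg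
  exact_mod_cast this.symm

theorem exists_simple_pole_iff (hK : IsFunctionField k K) :
    (∃ (x : K) (P : Place k K), P.deg = 1 ∧ P.ord x = -1 ∧
        ∀ Q : Place k K, Q ≠ P → 0 ≤ Q.ord x) ↔
      ∃ x : K, k⟮x⟯ = ⊤ := by
  constructor
  · rintro ⟨x, P, hP, hord, hQ⟩
    exact ⟨x, adjoin_eq_top_of_simple_pole hK hP hord hQ⟩
  · rintro ⟨x, hx⟩
    have htr := transcendental_of_adjoin_eq_top hK hx
    have h1 : Module.finrank k⟮x⟯ K = 1 := IntermediateField.finrank_eq_one_iff_eq_top.mpr hx
    obtain ⟨P, h⟩ := exists_simple_pole hK htr h1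
    exact ⟨x, P, h⟩

theorem genus_zero_iff (hK : IsFunctionField k K) :
    (genus k K = 0 ∧ ∃ P : Place k K, P.deg = 1) ↔ ∃ x : K, k⟮x⟯ = ⊤ := by
  constructor
  · rintro ⟨hg, P, hP⟩
    have hell := ell_eq_of_deg_ge hK (Finsupp.single P 1) (by rw [hg, deg_single, hP]; norm_num)
    rw [deg_single, hP, hg] at hell
    have hell2 : ell (Finsupp.single P (1 : ℤ) : Divisor k K) = 2 := by
      have : (ell (Finsupp.single P (1 : ℤ) : Divisor k K) : ℤ) = 2 := by rw [hell]; norm_num
      exact_mod_cast this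
    -- an element of L(P) not in k
    have hex : ∃ x ∈ L (Finsupp.single P (1 : ℤ) : Divisor k K), x ∉ Set.range (algebraMap k K) := by
      by_contra hcon
      push Not at hcon
      have hle : L (Finsupp.single P (1 : ℤ) : Divisor k K) ≤ L (0 : Divisor k K) := by
        intro x hx
        rw [L_zero hK, Submodule.mem_one]
        exact hcon x hx
      have hfd := finiteDimensional_L hK (0 : Divisor k K)
      have := Submodule.finrank_mono hle
      have h0 := ell_zero hK
      unfold ell at hell2 h0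
      omega
    obtain ⟨x, hxL, hxk⟩ := hex
    have htr := transcendental_of_not_mem_range hK hxk
    have hx0 : x ≠ 0 := by rintro rfl; exact htr isAlgebraic_zero
    have hord := (mem_L_iff_ord _ hx0).mp hxL
    obtain ⟨Q, hQ⟩ := exists_place_one_lt_val hK htr
    have hQneg := (ord_neg_iff Q hx0).mpr hQ
    have hQP : Q = P := by
      by_contra hne
      have := hord Q
      rw [Finsupp.single_eq_of_ne hne] at this
      omega
    subst hQP
    refine ⟨x, adjoin_eq_top_of_simple_pole hK hP ?_ ?_⟩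
    · have := hord Q
      rw [Finsupp.single_eq_same] at this
      omega
    · intro Q' hQ'
      have := hord Q'
      rw [Finsupp.single_eq_of_ne hQ'] at this
      omega
  · rintro ⟨x, hx⟩
    have htr := transcendental_of_adjoin_eq_top hK hx
    have h1 : Module.finrank k⟮x⟯ K = 1 := IntermediateField.finrank_eq_one_iff_eq_top.mpr hx
    obtain ⟨P, hP, -⟩ := exists_simple_pole hK htr h1
    exact ⟨genus_eq_zero_of_finrank_one hK htr h1, P, hP⟩

theorem eq_of_single_sub_single_eq_div (hK : IsFunctionField k K) (hg : 0 < genus k K)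
    (P P' : Place k K) (hP : P.deg = 1) (hP' : P'.deg = 1)
    (x : K) (hx : x ≠ 0) (h : Finsupp.single P 1 - Finsupp.single P' 1 = FunFld.div k x) : P = P' := by
  by_contra hne
  have hordP' : P'.ord x = -1 := by
    have := congrArg (fun D : Divisor k K => D P') h
    simp only [Finsupp.sub_apply, Finsupp.single_eq_same] at this
    rw [Finsupp.single_eq_of_ne (Ne.symm hne), div_apply hK] at this
    omega
  have hQ : ∀ Q : Place k K, Q ≠ P' → 0 ≤ Q.ord x := by
    intro Q hQ
    have := congrArg (fun D : Divisor k K => D Q) h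
    simp only [Finsupp.sub_apply] at this
    rw [Finsupp.single_eq_of_ne hQ, div_apply hK] at this
    by_cases hQP : Q = P
    · subst hQP; rw [Finsupp.single_eq_same] at this; omega
    · rw [Finsupp.single_eq_of_ne hQP] at this; omega
  have htop := adjoin_eq_top_of_simple_pole hK hP' hordP' hQ
  have htr := transcendental_of_adjoin_eq_top hK htop
  have h1 : Module.finrank k⟮x⟯ K = 1 := IntermediateField.finrank_eq_one_iff_eq_top.mpr htop
  have := genus_eq_zero_of_finrank_one hK htr h1
  omega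

end Groth.Agent.Helper5.FF
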