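import Mathlib
import Groth.Agent.Helper5.FFRational
set_option autoImplicit false
open FunFld Polynomial
open scoped IntermediateField

namespace Groth.Agent.Helper5.FF

variable {k K : Type*} [Field k] [Field K] [Algebra k K]

/-- `m` is a gap at `P` -/
def IsGap (P : Place k K) (m : ℕ) : Prop :=
  L (Finsupp.single P (m : ℤ) : Divisor k K) = L (Finsupp.single P ((m : ℤ) - 1))

theorem single_mono (P : Place k K) {a b : ℤ} (h : a ≤ b) :
    (Finsupp.single P a : Divisor k K) ≤ Finsupp.single P b := by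
  intro Q
  by_cases hQ : Q = P
  · subst hQ; simpa using h
  · rw [Finsupp.single_eq_of_ne hQ, Finsupp.single_eq_of_ne hQ]

theorem not_isGap_iff (P : Place k K) (m : ℕ) :
    ¬ IsGap P m ↔ ∃ x : K, x ≠ 0 ∧ x ∈ L (Finsupp.single P (m : ℤ) : Divisor k K) ∧ P.ord x = -(m : ℤ) := by
  have hle : L (Finsupp.single P ((m : ℤ) - 1) : Divisor k K) ≤ L (Finsupp.single P (m : ℤ)) :=
    L_mono (single_mono P (by omega))
  constructor
  · intro h
    have hlt : L (Finsupp.single P ((m : ℤ) - 1) : Divisor k K) < L (Finsupp.single P (m : ℤ)) :=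
      lt_of_le_of_ne hle (fun heq => h heq.symm)
    obtain ⟨x, hx1, hx2⟩ := SetLike.exists_of_lt hlt
    have hx0 : x ≠ 0 := by rintro rfl; exact hx2 (Submodule.zero_mem _)
    refine ⟨x, hx0, hx1, ?_⟩
    rw [mem_L_iff_ord _ hx0] at hx1 hx2
    push Not at hx2
    obtain ⟨Q, hQ⟩ := hx2
    have hQP : Q = P := by
      by_contra hne
      have := hx1 Q
      rw [Finsupp.single_eq_of_ne hne] at hQ this
      omega
    subst hQP
    have := hx1 Q
    rw [Finsupp.single_eq_same] at hQ this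
    omega
  · rintro ⟨x, hx0, hx1, hx2⟩ heq
    unfold IsGap at heq
    rw [heq, mem_L_iff_ord _ hx0] at hx1
    have := hx1 P
    rw [Finsupp.single_eq_same] at this
    omega

theorem not_isGap_add (P : Place k K) {a b : ℕ} (ha : ¬ IsGap P a) (hb : ¬ IsGap P b) :
    ¬ IsGap P (a + b) := by
  rw [not_isGap_iff] at ha hb ⊢
  obtain ⟨x, hx0, hx1, hx2⟩ := ha
  obtain ⟨y, hy0, hy1, hy2⟩ := hb
  refine ⟨x * y, mul_ne_zero hx0 hy0, ?_, ?_⟩
  · rw [mem_L_iff_ord _ (mul_ne_zero hx0 hy0)]
    rw [mem_L_iff_ord _ hx0] at hx1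
    rw [mem_L_iff_ord _ hy0] at hy1
    intro Q
    have h1 := hx1 Q
    have h2 := hy1 Q
    rw [ord_mul Q hx0 hy0]
    by_cases hQ : Q = P
    · subst hQ
      rw [Finsupp.single_eq_same] at h1 h2 ⊢
      push_cast
      omega
    · rw [Finsupp.single_eq_of_ne hQ] at h1 h2 ⊢
      omega
  · rw [ord_mul P hx0 hy0, hx2, hy2]; push_cast; ring

theorem gap_count (P : Place k K) [DecidablePred (IsGap P)] {n : ℕ} (hn : 1 ≤ n) (hgap : IsGap P n) :
    n - 1 ≤ 2 * ((Finset.Ico 1 n).filter (IsGap P)).card := by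
  have hsum := Finset.card_filter_add_card_filter_not (s := Finset.Ico 1 n) (IsGap P)
  rw [Nat.card_Ico] at hsum
  have hinj : ((Finset.Ico 1 n).filter fun m => ¬ IsGap P m).card ≤
      ((Finset.Ico 1 n).filter (IsGap P)).card := by
    apply Finset.card_le_card_of_injOn (fun m => n - m)
    · intro m hm
      rw [Finset.mem_coe, Finset.mem_filter, Finset.mem_Ico] at hm
      obtain ⟨⟨hm1, hm2⟩, hm3⟩ := hm
      rw [Finset.mem_coe, Finset.mem_filter, Finset.mem_Ico]
      beta_reduce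
      refine ⟨⟨by omega, by omega⟩, ?_⟩
      by_contra hng
      have := not_isGap_add P hm3 hng
      rw [show m + (n - m) = n by omega] at this
      exact this hgap
    · intro a ha b hb hab
      rw [Finset.mem_coe, Finset.mem_filter, Finset.mem_Ico] at ha hb
      simp only at hab
      omega
  omega

theorem sub_one_le_two_mul_ncard_gaps (P : Place k K) (n : ℕ) (hn : 1 ≤ n)
    (hgap : L (Finsupp.single P (n : ℤ) : Divisor k K) = L (Finsupp.single P ((n : ℤ) - 1))) :
    n - 1 ≤ 2 * Set.ncard {m : ℕ | 1 ≤ m ∧ m < n ∧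
      L (Finsupp.single P (m : ℤ) : Divisor k K) = L (Finsupp.single P ((m : ℤ) - 1))} := by
  classical
  have hset : {m : ℕ | 1 ≤ m ∧ m < n ∧
      L (Finsupp.single P (m : ℤ) : Divisor k K) = L (Finsupp.single P ((m : ℤ) - 1))} =
      ↑((Finset.Ico 1 n).filter (IsGap P)) := by
    ext m
    simp only [Set.mem_ofPred_eq, Finset.coe_filter, Finset.mem_Ico, IsGap, and_assoc]
  rw [hset, Set.ncard_coe_finset]
  exact gap_count P hn hgap

end Groth.Agent.Helper5.FF
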