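import Mathlib
import Groth.Agent.Helper5.FFGaps
set_option autoImplicit false
open FunFld Polynomial
open scoped IntermediateField

namespace Groth.Agent.Helper5.FF

variable {k K : Type*} [Field k] [Field K] [Algebra k K]

theorem deg_eq_one_of_isAlgClosed [IsAlgClosed k] (hK : IsFunctionField k K) (P : Place k K) :
    P.deg = 1 := by
  have hfd := finiteDimensional_residueField hK P
  have hint : Algebra.IsIntegral k (IsLocalRing.ResidueField P.O) :=
    @Algebra.IsIntegral.of_finite k (IsLocalRing.ResidueField P.O) _ _ _ hfd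
  have hbij : Function.Bijective (algebraMap k (IsLocalRing.ResidueField P.O)) :=
    IsAlgClosed.algebraMap_bijective_of_isIntegral
  have e : k ≃ₗ[k] IsLocalRing.ResidueField P.O :=
    LinearEquiv.ofBijective (Algebra.linearMap k _) hbij
  unfold Place.deg
  rw [← e.finrank_eq, Module.finrank_self]

/-- number of gaps in `[1, N]` -/
noncomputable def gapCount (P : Place k K) [DecidablePred (IsGap P)] (N : ℕ) : ℕ :=
  ((Finset.Ico 1 (N + 1)).filter (IsGap P)).card

theorem ell_single_step (hK : IsFunctionField k K) (P : Place k K) (hdeg : P.deg = 1)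
    [DecidablePred (IsGap P)] (m : ℕ) :
    ell (Finsupp.single P (m : ℤ) : Divisor k K) =
      ell (Finsupp.single P ((m : ℤ) - 1) : Divisor k K) + if IsGap P m then 0 else 1 := by
  have hle : L (Finsupp.single P ((m : ℤ) - 1) : Divisor k K) ≤ L (Finsupp.single P (m : ℤ)) :=
    L_mono (single_mono P (by omega))
  split_ifs with hg
  · unfold ell; rw [hg]; rfl
  · have hlt : L (Finsupp.single P ((m : ℤ) - 1) : Divisor k K) < L (Finsupp.single P (m : ℤ)) :=
      lt_of_le_of_ne hle (fun heq => hg heq.symm)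
    have hfd := finiteDimensional_L hK (Finsupp.single P (m : ℤ))
    have h1 := Submodule.finrank_lt_finrank_of_lt hlt
    have h2 := ell_sub_ell_le hK _ _ (single_mono (k := k) (K := K) P (show (m : ℤ) - 1 ≤ m by omega))
    rw [deg_single, deg_single, hdeg] at h2
    unfold ell at h2 ⊢
    zify at h1 ⊢
    push_cast at h2
    omega

theorem ell_add_gapCount (hK : IsFunctionField k K) (P : Place k K) (hdeg : P.deg = 1)
    [DecidablePred (IsGap P)] (N : ℕ) :
    ell (Finsupp.single P (N : ℤ) : Divisor k K) + gapCount P N = N + 1 := by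
  induction N with
  | zero =>
    have : (Finsupp.single P ((0 : ℕ) : ℤ) : Divisor k K) = 0 := by simp
    rw [this, ell_zero hK]
    simp [gapCount]
  | succ N ih =>
    have hstep := ell_single_step hK P hdeg (N + 1)
    have hcast : ((N + 1 : ℕ) : ℤ) - 1 = (N : ℤ) := by push_cast; ring
    rw [hcast] at hstep
    have hIco : Finset.Ico 1 (N + 1 + 1) = insert (N + 1) (Finset.Ico 1 (N + 1)) :=
      Nat.Ico_succ_right_eq_insert_Ico (by omega)
    unfold gapCount at ih ⊢
    rw [hIco, Finset.filter_insert]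
    split_ifs at hstep ⊢ with hg
    · rw [Finset.card_insert_of_notMem (by simp)]
      omega
    · omega

theorem gapCount_mono (P : Place k K) [DecidablePred (IsGap P)] {N N' : ℕ} (h : N ≤ N') :
    gapCount P N ≤ gapCount P N' := by
  unfold gapCount
  apply Finset.card_le_card
  apply Finset.filter_subset_filter
  intro m hm
  rw [Finset.mem_Ico] at hm ⊢
  omega

theorem gapCount_eq_of_no_gaps (P : Place k K) [DecidablePred (IsGap P)] {N N' : ℕ} (h : N ≤ N')
    (hno : ∀ m, N < m → m ≤ N' → ¬ IsGap P m) : gapCount P N = gapCount P N' := by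
  unfold gapCount
  congr 1
  ext m
  simp only [Finset.mem_filter, Finset.mem_Ico]
  constructor
  · rintro ⟨⟨h1, h2⟩, h3⟩
    exact ⟨⟨h1, by omega⟩, h3⟩
  · rintro ⟨⟨h1, h2⟩, h3⟩
    refine ⟨⟨h1, ?_⟩, h3⟩
    by_contra hlt
    exact hno m (by omega) (by omega) h3

/-- if there is a gap above `n` then at least half of `[1,n]` consists of gaps -/
theorem le_two_mul_gapCount_of_gap_above (P : Place k K) [DecidablePred (IsGap P)] (n : ℕ)
    (hex : ∃ γ, n < γ ∧ IsGap P γ) : n ≤ 2 * gapCount P n := by
  classical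
  obtain ⟨γ, hγ_def⟩ : ∃ γ, γ = Nat.find hex := ⟨_, rfl⟩
  obtain ⟨hγ1, hγ2⟩ : n < γ ∧ IsGap P γ := hγ_def ▸ Nat.find_spec hex
  have hmin : ∀ m, n < m → m < γ → ¬ IsGap P m := by
    intro m h1 h2 h3
    exact Nat.find_min hex (hγ_def ▸ h2) ⟨h1, h3⟩
  have h1 := gap_count P (by omega : 1 ≤ γ) hγ2
  have h2 : gapCount P n = gapCount P (γ - 1) :=
    gapCount_eq_of_no_gaps P (by omega) (fun m hm1 hm2 => hmin m hm1 (by omega))
  have h3 : gapCount P (γ - 1) = ((Finset.Ico 1 γ).filter (IsGap P)).card := by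
    unfold gapCount
    rw [show γ - 1 + 1 = γ by omega]
  omega

theorem gapCount_total (hK : IsFunctionField k K) (P : Place k K) (hdeg : P.deg = 1)
    [DecidablePred (IsGap P)] (hg : 1 ≤ genus k K) :
    gapCount P (2 * genus k K - 1) = genus k K := by
  have h1 := ell_add_gapCount hK P hdeg (2 * genus k K - 1)
  have hcast : ((2 * genus k K - 1 : ℕ) : ℤ) = 2 * (genus k K : ℤ) - 1 := by
    rw [Nat.cast_sub (by omega)]; push_cast; ring
  have h2 := ell_eq_of_deg_ge hK (Finsupp.single P ((2 * genus k K - 1 : ℕ) : ℤ))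
    (by rw [deg_single, hdeg, hcast]; norm_num)
  rw [deg_single, hdeg, hcast] at h2
  zify at h1
  rw [hcast] at h1
  have : (gapCount P (2 * genus k K - 1) : ℤ) = genus k K := by
    have h3 : ((2 * genus k K - 1 : ℕ) : ℤ) = 2 * (genus k K : ℤ) - 1 := hcast
    omega
  exact_mod_cast this

theorem clifford_multiple (hK : IsFunctionField k K) (P : Place k K) (hdeg : P.deg = 1) (n : ℕ)
    (hn : (n : ℤ) ≤ 2 * (genus k K : ℤ) - 2) :
    2 * ell (Finsupp.single P (n : ℤ) : Divisor k K) ≤ n + 2 := by
  classical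
  have hg : 1 ≤ genus k K := by
    have : (0 : ℤ) ≤ n := Nat.cast_nonneg n
    have : (1 : ℤ) ≤ genus k K := by omega
    exact_mod_cast this
  have hcount := ell_add_gapCount hK P hdeg n
  have hkey : n ≤ 2 * gapCount P n := by
    by_cases hex : ∃ γ, n < γ ∧ IsGap P γ
    · exact le_two_mul_gapCount_of_gap_above P n hex
    · push Not at hex
      have hn' : n ≤ 2 * genus k K - 1 := by zify [show 1 ≤ 2 * genus k K by omega]; omega
      have h1 := gapCount_eq_of_no_gaps P hn' (fun m hm1 _ => hex m hm1)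
      rw [gapCount_total hK P hdeg hg] at h1
      have : (n : ℤ) ≤ 2 * genus k K := by omega
      have : n ≤ 2 * genus k K := by exact_mod_cast this
      omega
  omega

theorem le_gapCount (hK : IsFunctionField k K) (P : Place k K) (hdeg : P.deg = 1)
    [DecidablePred (IsGap P)] (l : ℕ) (hl : 1 ≤ l) (hlg : l ≤ genus k K) :
    l ≤ gapCount P (2 * l - 1) := by
  by_contra hlt
  rw [not_le] at hlt
  have htot := gapCount_total hK P hdeg (by omega)
  have hle : 2 * l - 1 ≤ 2 * genus k K - 1 := by omega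
  have hex : ∃ γ, 2 * l - 1 < γ ∧ IsGap P γ := by
    by_contra hno
    push Not at hno
    have := gapCount_eq_of_no_gaps P hle (fun m hm1 _ => hno m hm1)
    omega
  have := le_two_mul_gapCount_of_gap_above P (2 * l - 1) hex
  omega

theorem le_ncard_gaps (hK : IsFunctionField k K) (P : Place k K) (hdeg : P.deg = 1) (l : ℕ)
    (hl : 1 ≤ l) (hlg : l ≤ genus k K) :
    l ≤ Set.ncard {m : ℕ | 1 ≤ m ∧ m ≤ 2 * l - 1 ∧
      L (Finsupp.single P (m : ℤ) : Divisor k K) = L (Finsupp.single P ((m : ℤ) - 1))} := by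
  classical
  have hset : {m : ℕ | 1 ≤ m ∧ m ≤ 2 * l - 1 ∧
      L (Finsupp.single P (m : ℤ) : Divisor k K) = L (Finsupp.single P ((m : ℤ) - 1))} =
      ↑((Finset.Ico 1 (2 * l - 1 + 1)).filter (IsGap P)) := by
    ext m
    simp only [Set.mem_ofPred_eq, Finset.coe_filter, Finset.mem_Ico, IsGap, and_assoc,
      Nat.lt_succ_iff]
  rw [hset, Set.ncard_coe_finset]
  exact le_gapCount hK P hdeg l hl hlg

end Groth.Agent.Helper5.FF

namespace Groth.Agent.Helper5.FF

variable {k K : Type*} [Field k] [Field K] [Algebra k K]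

theorem adjoin_eq_top_of_mem_L_single (hK : IsFunctionField k K) {P : Place k K} (hP : P.deg = 1)
    {x : K} (hxL : x ∈ L (Finsupp.single P (1 : ℤ) : Divisor k K))
    (hxk : x ∉ Set.range (algebraMap k K)) : k⟮x⟯ = ⊤ := by
  have htr := transcendental_of_not_mem_range hK hxk
  have hx0 : x ≠ 0 := by rintro rfl; exact htr isAlgebraic_zero
  have hord := (mem_L_iff_ord _ hx0).mp hxL
  obtain ⟨Q, hQ⟩ := exists_place_one_lt_val hK htr
  have hQneg := (ord_neg_iff Q hx0).mpr hQ
  have hQP : Q = P := by
    by_contra hne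
    have := hord Q
    rw [Finsupp.single_eq_of_ne hne] at this
    omega
  subst hQP
  refine adjoin_eq_top_of_simple_pole hK hP ?_ ?_
  · have := hord Q
    rw [Finsupp.single_eq_same] at this
    omega
  · intro Q' hQ'
    have := hord Q'
    rw [Finsupp.single_eq_of_ne hQ'] at this
    omega

theorem ell_single_one_of_genus_pos (hK : IsFunctionField k K) (hg : 0 < genus k K) (P : Place k K)
    (hP : P.deg = 1) : ell (Finsupp.single P (1 : ℤ) : Divisor k K) = 1 := by
  have h0 : (0 : Divisor k K) ≤ Finsupp.single P (1 : ℤ) := by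
    have := single_mono (k := k) (K := K) P (show (0 : ℤ) ≤ 1 by norm_num)
    rwa [Finsupp.single_zero] at this
  have h1 := ell_mono hK h0
  rw [ell_zero hK] at h1
  by_contra hne
  have h2 : 1 < ell (Finsupp.single P (1 : ℤ) : Divisor k K) := by omega
  have hex : ∃ x ∈ L (Finsupp.single P (1 : ℤ) : Divisor k K), x ∉ Set.range (algebraMap k K) := by
    by_contra hcon
    push Not at hcon
    have hle : L (Finsupp.single P (1 : ℤ) : Divisor k K) ≤ L (0 : Divisor k K) := by
      intro x hx
      rw [L_zero hK, Submodule.mem_one]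
      exact hcon x hx
    have hfd := finiteDimensional_L hK (0 : Divisor k K)
    have := Submodule.finrank_mono hle
    have h0 := ell_zero hK
    unfold ell at h2 h0
    omega
  obtain ⟨x, hxL, hxk⟩ := hex
  have htop := adjoin_eq_top_of_mem_L_single hK hP hxL hxk
  have htr := transcendental_of_adjoin_eq_top hK htop
  have := genus_eq_zero_of_finrank_one hK htr (IntermediateField.finrank_eq_one_iff_eq_top.mpr htop)
  omega

theorem ell_sub_single_lt_ell (hK : IsFunctionField k K) (hg : 0 < genus k K)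
    (D : Divisor k K) (hD : 2 * (genus k K : ℤ) ≤ D.deg ∨ IsCanonical k K D) (P : Place k K)
    (hP : P.deg = 1) :
    ell (D - Finsupp.single P 1) < ell D := by
  have hdeg : (D - Finsupp.single P 1).deg = D.deg - 1 := by
    rw [deg_sub, deg_single, hP]; norm_num
  rcases hD with hD | hD
  · have h1 := ell_eq_of_deg_ge hK D (by omega)
    have h2 := ell_eq_of_deg_ge hK (D - Finsupp.single P 1) (by rw [hdeg]; omega)
    rw [hdeg] at h2
    have : (ell (D - Finsupp.single P 1) : ℤ) < ell D := by omega
    exact_mod_cast this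
  · obtain ⟨h1, h2⟩ := ell_canonical hK hD
    have h3 := riemann_roch hK D hD (D - Finsupp.single P 1)
    rw [sub_sub_cancel, hdeg, ell_single_one_of_genus_pos hK hg P hP, h2] at h3
    have : (ell (D - Finsupp.single P 1) : ℤ) < ell D := by rw [h1]; push_cast at h3 ⊢; omega
    exact_mod_cast this

end Groth.Agent.Helper5.FF
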