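import Mathlib
import Groth.Agent.Helper5.FFGaps2
set_option autoImplicit false
open FunFld Polynomial
open scoped IntermediateField

namespace Groth.Agent.Helper5.FF

variable {k K : Type*} [Field k] [Field K] [Algebra k K]

theorem exists_const_of_deg_one (P : Place k K) (hP : P.deg = 1) {t : K} (ht : P.1 t ≤ 1) :
    ∃ c : k, P.1 (t - algebraMap k K c) < 1 := by
  have h1 : Module.finrank k (IsLocalRing.ResidueField P.O) = 1 := hP
  rw [finrank_eq_one_iff_of_nonzero' (1 : IsLocalRing.ResidueField P.O) one_ne_zero] at h1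
  obtain ⟨c, hc⟩ := h1 (IsLocalRing.residue P.O ⟨t, ht⟩)
  refine ⟨c, ?_⟩
  have h2 : IsLocalRing.residue P.O (⟨t, ht⟩ - algebraMap k P.O c) = 0 := by
    rw [map_sub, ← hc, sub_eq_zero]
    exact (Algebra.algebraMap_eq_smul_one (A := IsLocalRing.ResidueField P.O) c).symm
  rw [residue_eq_zero_iff] at h2
  exact h2

theorem mem_L_single_iff (P : Place k K) (n : ℤ) {x : K} (hx : x ≠ 0) :
    x ∈ L (Finsupp.single P n : Divisor k K) ↔ -n ≤ P.ord x ∧ ∀ Q : Place k K, Q ≠ P → 0 ≤ Q.ord x := by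
  rw [mem_L_iff_ord _ hx]
  constructor
  · intro h
    refine ⟨by simpa using h P, fun Q hQ => ?_⟩
    have := h Q
    rwa [Finsupp.single_eq_of_ne hQ, neg_zero] at this
  · rintro ⟨h1, h2⟩ Q
    by_cases hQ : Q = P
    · subst hQ; simpa using h1
    · rw [Finsupp.single_eq_of_ne hQ, neg_zero]; exact h2 Q hQ

theorem exists_sub_smul_mem (P : Place k K) (hP : P.deg = 1) (n : ℤ) {u w : K}
    (hu0 : u ≠ 0) (hu : P.ord u = -n) (huL : u ∈ L (Finsupp.single P n : Divisor k K))
    (hw : w ∈ L (Finsupp.single P n : Divisor k K)) :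
    ∃ c : k, w - c • u ∈ L (Finsupp.single P (n - 1) : Divisor k K) := by
  have hvu : P.1 u = WithZero.exp n := by rw [val_eq_exp_neg_ord P hu0, hu, neg_neg]
  have hvw : P.1 w ≤ WithZero.exp n := by
    have := (mem_L_iff _ _).mp hw P
    rwa [Finsupp.single_eq_same] at this
  have hvu0 : P.1 u ≠ 0 := P.1.ne_zero_iff.mpr hu0
  have ht : P.1 (w / u) ≤ 1 := by
    rw [map_div₀, hvu]
    exact div_le_one_of_le₀ hvw zero_le
  obtain ⟨c, hc⟩ := exists_const_of_deg_one P hP ht
  refine ⟨c, ?_⟩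
  have hmem : w - c • u ∈ L (Finsupp.single P n : Divisor k K) :=
    Submodule.sub_mem _ hw (Submodule.smul_mem _ c huL)
  by_cases h0 : w - c • u = 0
  · rw [h0]; exact Submodule.zero_mem _
  rw [mem_L_single_iff P _ h0]
  have h1 := (mem_L_single_iff P _ h0).mp hmem
  refine ⟨?_, h1.2⟩
  have heq : w - c • u = u * (w / u - algebraMap k K c) := by
    rw [Algebra.smul_def]; field_simp
  have h2 : w / u - algebraMap k K c ≠ 0 := by
    intro h; rw [h, mul_zero] at heq; exact h0 heq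
  have h3 := (ord_pos_iff P h2).mpr hc
  rw [heq, ord_mul P hu0 h2, hu]
  omega

end Groth.Agent.Helper5.FF
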