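import Mathlib
import Groth.Agent.Helper5.FFWeier
set_option autoImplicit false
open FunFld Polynomial
open scoped IntermediateField

namespace Groth.Agent.Helper5.FF

variable {k K : Type*} [Field k] [Field K] [Algebra k K]

/-- pullback of a place along an automorphism -/
def comapPlace (σ : K ≃ₐ[k] K) (P : Place k K) : Place k K :=
  ⟨P.1.comap (σ : K →+* K), fun c => by
      show P.1 (σ (algebraMap k K c)) ≤ 1
      rw [σ.commutes]; exact P.2.1 c,
    fun γ => by
      obtain ⟨y, hy⟩ := P.2.2 γ
      exact ⟨σ.symm y, by show P.1 (σ (σ.symm y)) = γ; rw [σ.apply_symm_apply, hy]⟩⟩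

theorem comapPlace_val (σ : K ≃ₐ[k] K) (P : Place k K) (x : K) :
    (comapPlace σ P).1 x = P.1 (σ x) := rfl

theorem comapPlace_ord (σ : K ≃ₐ[k] K) (P : Place k K) (x : K) :
    (comapPlace σ P).ord x = P.ord (σ x) := rfl

theorem place_ext {P Q : Place k K} (h : ∀ x, P.1 x = Q.1 x) : P = Q :=
  Subtype.ext (Valuation.ext h)

theorem comapPlace_symm_comapPlace (σ : K ≃ₐ[k] K) (P : Place k K) :
    comapPlace σ (comapPlace σ.symm P) = P :=
  place_ext fun x => by
    rw [comapPlace_val, comapPlace_val, σ.symm_apply_apply]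

theorem comapPlace_comapPlace_symm (σ : K ≃ₐ[k] K) (P : Place k K) :
    comapPlace σ.symm (comapPlace σ P) = P :=
  place_ext fun x => by
    rw [comapPlace_val, comapPlace_val, σ.apply_symm_apply]

theorem comapPlace_eq_of_fixed (σ : K ≃ₐ[k] K) (P : Place k K)
    (h : ∀ x : K, P.1 x < 1 → P.1 (σ x) < 1) : comapPlace σ P = P := by
  apply eq_of_O_le
  intro y hy
  rw [comapPlace_val] at hy
  by_contra hlt
  rw [not_le] at hlt
  have hy0 : y ≠ 0 := by rintro rfl; simp at hlt
  have h1 : P.1 y⁻¹ < 1 := by
    rw [map_inv₀]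
    exact (inv_lt_one₀ (val_pos P hy0)).mpr hlt
  have h2 := h _ h1
  rw [map_inv₀, map_inv₀] at h2
  have h3 := (inv_lt_one₀ (val_pos P ((map_ne_zero σ).mpr hy0))).mp h2
  exact absurd hy (not_le.mpr h3)

end Groth.Agent.Helper5.FF

namespace Groth.Agent.Helper5.FF

variable {k K : Type*} [Field k] [Field K] [Algebra k K]

theorem exists_smul_of_all_fixed (hK : IsFunctionField k K) (σ : K ≃ₐ[k] K)
    (h : ∀ P : Place k K, comapPlace σ P = P) {u : K} (hu : u ≠ 0) :
    ∃ a : k, σ u = algebraMap k K a * u := by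
  have hσu : σ u ≠ 0 := (map_ne_zero σ).mpr hu
  have hz : ∀ P : Place k K, P.1 (σ u / u) ≤ 1 := by
    intro P
    have h1 : P.1 (σ u) = P.1 u := by
      rw [← comapPlace_val, h P]
    rw [map_div₀, h1, div_self (P.1.ne_zero_iff.mpr hu)]
  obtain ⟨a, ha⟩ := mem_range_of_forall_val_le_one hK hz
  refine ⟨a, ?_⟩
  rw [ha]; field_simp

theorem eq_one_of_all_fixed (hK : IsFunctionField k K) (σ : K ≃ₐ[k] K)
    (h : ∀ P : Place k K, comapPlace σ P = P) : σ = 1 := by
  ext w
  show σ w = w
  by_cases hw : Transcendental k w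
  · have hw0 : w ≠ 0 := by rintro rfl; exact hw isAlgebraic_zero
    have hw1 : w + 1 ≠ 0 := by
      intro h0
      apply hw
      have : w = algebraMap k K (-1) := by rw [map_neg, map_one]; linear_combination h0
      rw [this]; exact isAlgebraic_algebraMap _
    obtain ⟨a, ha⟩ := exists_smul_of_all_fixed hK σ h hw0
    obtain ⟨b, hb⟩ := exists_smul_of_all_fixed hK σ h hw1
    rw [map_add, map_one, ha] at hb
    -- a w + 1 = b (w + 1)
    have h1 : algebraMap k K (b - a) * w = algebraMap k K (1 - b) := by
      rw [map_sub, map_sub, map_one]; linear_combination -hb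
    by_cases hba : b - a = 0
    · rw [hba, map_zero, zero_mul] at h1
      have hb1 : (1 : k) - b = 0 := (map_eq_zero_iff _ (algebraMap k K).injective).mp h1.symm
      have : a = 1 := by
        have : b = 1 := by linear_combination -hb1
        rw [this] at hba; linear_combination -hba
      rw [ha, this, map_one, one_mul]
    · exfalso
      apply hw
      have : w = algebraMap k K ((1 - b) / (b - a)) := by
        have hne : algebraMap k K (b - a) ≠ 0 :=
          fun h0 => hba ((map_eq_zero_iff _ (algebraMap k K).injective).mp h0)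
        rw [map_div₀, ← h1, mul_comm, mul_div_assoc, div_self hne, mul_one]
      rw [this]; exact isAlgebraic_algebraMap _
  · rw [Transcendental, not_not] at hw
    obtain ⟨c, rfl⟩ := hK.2 w hw
    exact σ.commutes c

end Groth.Agent.Helper5.FF
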