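import Mathlib
import Groth.Agent.Helper5.FFAut
import Groth.Agent.Helper5.FFGaps2
set_option autoImplicit false
open FunFld Polynomial
open scoped IntermediateField

namespace Groth.Agent.Helper5.FF

variable {k K : Type*} [Field k] [Field K] [Algebra k K]

theorem exists_nonconstant_of_two_le_ell (hK : IsFunctionField k K) {D : Divisor k K}
    (h2 : 2 ≤ ell D) : ∃ x ∈ L D, x ∉ Set.range (algebraMap k K) := by
  by_contra hcon
  push Not at hcon
  have hle : L D ≤ L (0 : Divisor k K) := by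
    intro x hx
    rw [L_zero hK, Submodule.mem_one]
    exact hcon x hx
  have hfd := finiteDimensional_L hK (0 : Divisor k K)
  have := Submodule.finrank_mono hle
  have h0 := ell_zero hK
  unfold ell at h2 h0
  omega

theorem deg_mono {A B : Divisor k K} (h : A ≤ B) : A.deg ≤ B.deg := by
  have h1 : 0 ≤ B - A := sub_nonneg.mpr h
  have h2 := deg_nonneg h1
  rw [deg_sub] at h2
  omega

/-- number of zeros is bounded by degree of the zero divisor -/
theorem card_le_deg_zeros (hK : IsFunctionField k K) {y : K} (T : Finset (Place k K))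
    (hT : ∀ Q ∈ T, Q.1 y < 1) (hy0 : y ≠ 0) :
    (T.card : ℤ) ≤ ((FunFld.div k y) ⊔ 0).deg := by
  classical
  rw [deg_posPart_eq]
  have hsub : T ⊆ (FunFld.div k y).support.filter fun P => 0 < FunFld.div k y P := by
    intro Q hQ
    have h1 := (ord_pos_iff Q hy0).mpr (hT Q hQ)
    rw [Finset.mem_filter, Finsupp.mem_support_iff, div_apply hK]
    exact ⟨h1.ne', h1⟩
  have hterm : ∀ Q ∈ (FunFld.div k y).support.filter fun P => 0 < FunFld.div k y P,
      1 ≤ FunFld.div k y Q * (Q.deg : ℤ) := by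
    intro Q hQ
    have h1 := (Finset.mem_filter.mp hQ).2
    have h4 : (1 : ℤ) ≤ Q.deg := by exact_mod_cast deg_pos_place hK Q
    have : 1 * 1 ≤ FunFld.div k y Q * (Q.deg : ℤ) := mul_le_mul (by omega) h4 (by norm_num) (by omega)
    omega
  calc (T.card : ℤ) = ∑ Q ∈ T, (1 : ℤ) := by simp
    _ ≤ ∑ Q ∈ T, FunFld.div k y Q * (Q.deg : ℤ) :=
        Finset.sum_le_sum fun Q hQ => hterm Q (hsub hQ)
    _ ≤ _ := Finset.sum_le_sum_of_subset_of_nonneg hsub fun Q hQ _ => by
        have := hterm Q hQ; omega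

end Groth.Agent.Helper5.FF

namespace Groth.Agent.Helper5.FF

variable {k K : Type*} [Field k] [Field K] [Algebra k K]

theorem algEquiv_eq_one_of_fixed [IsAlgClosed k] (hK : IsFunctionField k K) (σ : K ≃ₐ[k] K)
    (h : ((2 * genus k K + 2 : ℕ) : ℕ∞) <
      Set.encard {P : Place k K | ∀ x : K, P.1 x < 1 → P.1 (σ x) < 1}) :
    σ = 1 := by
  classical
  by_contra hne
  have hex : ∃ P₀ : Place k K, comapPlace σ P₀ ≠ P₀ := by
    by_contra hall
    push Not at hall
    exact hne (eq_one_of_all_fixed hK σ hall)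
  obtain ⟨P₀, hP₀⟩ := hex
  set g := genus k K with hg
  set P₁ := comapPlace σ.symm P₀ with hP₁def
  have hP₁ : comapPlace σ P₁ = P₀ := comapPlace_symm_comapPlace σ P₀
  have hP₁ne : P₁ ≠ P₀ := by
    intro heq
    rw [heq] at hP₁
    exact hP₀ hP₁
  have hiff : ∀ Q : Place k K, comapPlace σ Q = P₀ ↔ Q = P₁ := by
    intro Q
    constructor
    · intro hQ
      rw [hP₁def, ← hQ, comapPlace_comapPlace_symm]
    · rintro rfl; exact hP₁
  have hdeg1 : ∀ Q : Place k K, Q.deg = 1 := deg_eq_one_of_isAlgClosed hK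
  -- the function x
  set D : Divisor k K := Finsupp.single P₀ ((g : ℤ) + 1) with hD
  have hDdeg : D.deg = g + 1 := by rw [hD, deg_single, hdeg1]; simp
  have hell : 2 ≤ ell D := by
    have := (riemann_inequality hK).1 D
    rw [hDdeg] at this
    have h2 : (2 : ℤ) ≤ ell D := by omega
    exact_mod_cast h2
  obtain ⟨x, hxL, hxk⟩ := exists_nonconstant_of_two_le_ell hK hell
  have hxtr := transcendental_of_not_mem_range hK hxk
  have hx0 : x ≠ 0 := by rintro rfl; exact hxtr isAlgebraic_zero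
  have hxord := (mem_L_single_iff P₀ _ hx0).mp hxL
  -- pole of x at P₀
  have hxpole : 1 < P₀.1 x := by
    obtain ⟨Q, hQ⟩ := exists_place_one_lt_val hK hxtr
    have hQP : Q = P₀ := by
      by_contra hne'
      have := hxord.2 Q hne'
      have := (ord_neg_iff Q hx0).mpr hQ
      omega
    rwa [hQP] at hQ
  have hσx0 : σ x ≠ 0 := (map_ne_zero σ).mpr hx0
  have hσxP₀ : P₀.1 (σ x) ≤ 1 := by
    rw [← comapPlace_val]
    exact (ord_nonneg_iff _ hx0).mp (hxord.2 _ hP₀)
  set y := σ x - x with hy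
  have hyP₀ : P₀.1 y = P₀.1 x := by
    rw [hy, Valuation.map_sub_eq_of_lt_right]
    exact lt_of_le_of_lt hσxP₀ hxpole
  have hy0 : y ≠ 0 := by
    intro h0
    rw [h0, map_zero] at hyP₀
    rw [← hyP₀] at hxpole
    exact absurd hxpole (by simp)
  have hytr : Transcendental k y :=
    transcendental_of_val_ne_one hK P₀ hy0 (by rw [hyP₀]; exact hxpole.ne')
  -- y ∈ L(D')
  set D' : Divisor k K := Finsupp.single P₀ ((g : ℤ) + 1) + Finsupp.single P₁ ((g : ℤ) + 1) with hD'
  have hD'deg : D'.deg = 2 * g + 2 := by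
    rw [hD', deg_add, deg_single, deg_single, hdeg1, hdeg1]; push_cast; ring
  have hg0 : (0 : ℤ) ≤ (g : ℤ) + 1 := by positivity
  have hxD' : x ∈ L D' := by
    apply L_mono _ hxL
    rw [hD', hD]
    exact le_add_of_nonneg_right (by
      have := single_mono (k := k) (K := K) P₁ hg0
      rwa [Finsupp.single_zero] at this)
  have hσxD' : σ x ∈ L D' := by
    have h1 : σ x ∈ L (Finsupp.single P₁ ((g : ℤ) + 1) : Divisor k K) := by
      rw [mem_L_single_iff P₁ _ hσx0]
      constructor
      · rw [← comapPlace_ord, hP₁]; exact hxord.1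
      · intro Q hQ
        rw [← comapPlace_ord]
        exact hxord.2 _ (fun h' => hQ ((hiff Q).mp h'))
    apply L_mono _ h1
    rw [hD']
    exact le_add_of_nonneg_left (by
      have := single_mono (k := k) (K := K) P₀ hg0
      rwa [Finsupp.single_zero] at this)
  have hyD' : y ∈ L D' := Submodule.sub_mem _ hσxD' hxD'
  have hD'0 : 0 ≤ D' := by
    rw [hD']
    apply add_nonneg
    · have := single_mono (k := k) (K := K) P₀ hg0
      rwa [Finsupp.single_zero] at this
    · have := single_mono (k := k) (K := K) P₁ hg0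
      rwa [Finsupp.single_zero] at this
  have hpole_le : (-(FunFld.div k y)) ⊔ 0 ≤ D' := by
    apply sup_le _ hD'0
    intro Q
    have := (mem_L_iff_ord D' hy0).mp hyD' Q
    rw [Finsupp.neg_apply, div_apply hK]
    omega
  have hdegpole : ((-(FunFld.div k y)) ⊔ 0).deg ≤ 2 * g + 2 := by
    rw [← hD'deg]; exact deg_mono hpole_le
  have hdegzero : ((FunFld.div k y) ⊔ 0).deg ≤ 2 * g + 2 := by
    rw [deg_zeros_eq hK hytr, ← deg_poles_eq hK hytr]; exact hdegpole
  -- fixed places are zeros of y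
  have hfix : ∀ Q ∈ {P : Place k K | ∀ x : K, P.1 x < 1 → P.1 (σ x) < 1}, Q.1 y < 1 := by
    intro Q hQ
    have hQfix : comapPlace σ Q = Q := comapPlace_eq_of_fixed σ Q hQ
    have hQP₀ : Q ≠ P₀ := by
      rintro rfl; exact hP₀ hQfix
    have hQx : Q.1 x ≤ 1 := (ord_nonneg_iff _ hx0).mp (hxord.2 Q hQP₀)
    obtain ⟨c, hc⟩ := exists_const_of_deg_one Q (hdeg1 Q) hQx
    have h2 := hQ _ hc
    rw [map_sub, σ.commutes] at h2
    have : y = (σ x - algebraMap k K c) - (x - algebraMap k K c) := by rw [hy]; ring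
    rw [this]
    exact lt_of_le_of_lt (Valuation.map_sub _ _ _) (max_lt h2 hc)
  have hfin : {P : Place k K | ∀ x : K, P.1 x < 1 → P.1 (σ x) < 1}.Finite :=
    (finite_zeros hK hytr).subset hfix
  have hcard := card_le_deg_zeros hK hfin.toFinset (fun Q hQ => hfix Q (hfin.mem_toFinset.mp hQ)) hy0
  rw [hfin.encard_eq_coe_toFinset_card] at h
  have h3 : 2 * g + 2 < hfin.toFinset.card := by exact_mod_cast h
  have h4 : (hfin.toFinset.card : ℤ) ≤ 2 * g + 2 := hcard.trans hdegzero
  omega

end Groth.Agent.Helper5.FF
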