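import Mathlib
import Groth.Agent.Helper5.FFAut2
set_option autoImplicit false
open FunFld Polynomial
open scoped IntermediateField

namespace Groth.Agent.Helper5.FF

variable {k K : Type*} [Field k] [Field K] [Algebra k K]

/-- there is a function whose only zero is `P` -/
theorem exists_only_zero (hK : IsFunctionField k K) (P : Place k K) :
    ∃ x : K, Transcendental k x ∧ P.1 x < 1 ∧ ∀ P' : Place k K, P'.1 x < 1 → P' = P := by
  obtain ⟨-, N, hN⟩ := riemann_inequality hK
  have hdP : (1 : ℤ) ≤ P.deg := by exact_mod_cast deg_pos_place hK P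
  set m : ℤ := max N (genus k K + 1) ⊔ 0 with hm
  have hm0 : 0 ≤ m := le_sup_right
  have hmN : N ≤ m := (le_max_left _ _).trans le_sup_left
  have hmg : (genus k K : ℤ) + 1 ≤ m := (le_max_right _ _).trans le_sup_left
  set D : Divisor k K := Finsupp.single P m with hD
  have hdeg : D.deg = m * P.deg := deg_single P m
  have hmle : m ≤ D.deg := by rw [hdeg]; nlinarith
  have h1 := hN D (hmN.trans hmle)
  have h2 : 2 ≤ ell D := by
    have : (2 : ℤ) ≤ ell D := by omega
    exact_mod_cast this
  obtain ⟨y, hyL, hy⟩ := exists_nonconstant_of_two_le_ell hK h2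
  have htr := transcendental_of_not_mem_range hK hy
  have hy0 : y ≠ 0 := by rintro rfl; exact htr isAlgebraic_zero
  have hQ : ∀ Q : Place k K, Q ≠ P → Q.1 y ≤ 1 := by
    intro Q hQP
    have := hyL Q
    rwa [hD, Finsupp.single_eq_of_ne hQP, WithZero.exp_zero] at this
  obtain ⟨P₀, hP₀⟩ := exists_place_one_lt_val hK htr
  have hP₀P : P₀ = P := by
    by_contra hne
    exact absurd (hQ P₀ hne) (not_le.mpr hP₀)
  subst hP₀P
  refine ⟨y⁻¹, fun h => htr (IsAlgebraic.inv_iff.mp h), ?_, ?_⟩
  · rw [map_inv₀]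
    exact (inv_lt_one₀ (val_pos P₀ hy0)).mpr hP₀
  · intro P' hP'
    by_contra hne
    rw [map_inv₀] at hP'
    have := (inv_lt_one₀ (val_pos P' hy0)).mp hP'
    exact absurd (hQ P' hne) (not_le.mpr this)

end Groth.Agent.Helper5.FF
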