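import Mathlib
import Groth.Agent.Helper5.FGBasic
set_option autoImplicit false
open FunFld Polynomial
open scoped IntermediateField

namespace Groth.Agent.Helper5.FG

variable {k K : Type*} [Field k] [Field K] [Algebra k K]

theorem le_exp_neg_one_of_lt_one {x : WithZero (Multiplicative ℤ)} (h : x < 1) :
    x ≤ WithZero.exp (-1 : ℤ) := by
  rw [← WithZero.lt_mul_exp_iff_le WithZero.exp_ne_zero, ← WithZero.exp_add]
  simpa using h

theorem val_pos (P : Place k K) {x : K} (hx : x ≠ 0) : 0 < P.1 x :=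
  zero_lt_iff.mpr (P.1.ne_zero_iff.mpr hx)

/-- A place is determined by its valuation ring; more precisely inclusion of valuation rings
forces equality. -/
theorem eq_of_O_le {P Q : Place k K} (h : ∀ y : K, P.1 y ≤ 1 → Q.1 y ≤ 1) : P = Q := by
  obtain ⟨t, ht⟩ := exists_uniformizer P
  have ht0 := ne_zero_of_val_eq_exp P ht
  have hunit : ∀ u : K, P.1 u = 1 → Q.1 u = 1 := by
    intro u hu
    have hu0 : u ≠ 0 := by rintro rfl; simp at hu
    apply le_antisymm (h u hu.le)
    have h2 : Q.1 u⁻¹ ≤ 1 := h _ (by rw [map_inv₀, hu, inv_one])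
    rw [map_inv₀] at h2
    exact (inv_le_one₀ (val_pos Q hu0)).mp h2
  set m : ℤ := - WithZero.log (Q.1 t) with hm_def
  have hQt : Q.1 t = WithZero.exp (-m) := by
    rw [hm_def, neg_neg, WithZero.exp_log (Q.1.ne_zero_iff.mpr ht0)]
  have key : ∀ y : K, y ≠ 0 → Q.1 y = WithZero.exp (m * WithZero.log (P.1 y)) := by
    intro y hy
    obtain ⟨n, hn⟩ : ∃ n, n = WithZero.log (P.1 y) := ⟨_, rfl⟩
    have hPy : P.1 y = WithZero.exp n := by
      rw [hn]; exact (WithZero.exp_log (P.1.ne_zero_iff.mpr hy)).symm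
    have h1 : P.1 (y * t ^ n) = 1 := by
      rw [map_mul, map_zpow₀, hPy, ht, ← WithZero.exp_zsmul, ← WithZero.exp_add]
      simp
    have h2 := hunit _ h1
    rw [map_mul, map_zpow₀, hQt, ← WithZero.exp_zsmul] at h2
    have h3 : Q.1 y = (WithZero.exp (n • -m))⁻¹ := eq_inv_of_mul_eq_one_left h2
    rw [h3, ← WithZero.exp_neg, ← hn]
    congr 1
    simp only [smul_eq_mul]
    ring
  obtain ⟨y1, hy1⟩ := Q.2.2 (WithZero.exp (1 : ℤ))
  have hy10 : y1 ≠ 0 := ne_zero_of_val_eq_exp Q hy1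
  have hm : m * WithZero.log (P.1 y1) = 1 := by
    have := key y1 hy10
    rw [hy1] at this
    exact (WithZero.exp_injective this).symm
  have hm0 : 0 ≤ m := by
    have : Q.1 t ≤ 1 := h t (by rw [ht]; exact exp_neg_one_lt_one.le)
    rw [hQt, ← WithZero.exp_zero, WithZero.exp_le_exp] at this
    omega
  have hm1 : m = 1 := by
    rcases Int.eq_one_or_neg_one_of_mul_eq_one hm with h1 | h1
    · exact h1
    · omega
  apply Subtype.ext
  apply Valuation.ext
  intro y
  by_cases hy : y = 0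
  · simp [hy]
  · rw [key y hy, hm1, one_mul, WithZero.exp_log (P.1.ne_zero_iff.mpr hy)]

theorem exists_val_le_one_lt {P Q : Place k K} (h : P ≠ Q) : ∃ u : K, P.1 u ≤ 1 ∧ 1 < Q.1 u := by
  by_contra hne
  push Not at hne
  exact h (eq_of_O_le hne)

theorem exists_val_lt_one_lt {P Q : Place k K} (h : P ≠ Q) : ∃ u : K, P.1 u < 1 ∧ 1 < Q.1 u := by
  obtain ⟨a, ha1, ha2⟩ := exists_val_le_one_lt h
  obtain ⟨b, hb1, hb2⟩ := exists_val_le_one_lt h.symm
  have hb0 : b ≠ 0 := by rintro rfl; simp at hb2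
  refine ⟨a / b, ?_, ?_⟩
  · rw [map_div₀, div_lt_one₀ (val_pos P hb0)]
    exact ha1.trans_lt hb2
  · rw [map_div₀, one_lt_div₀ (val_pos Q hb0)]
    exact hb1.trans_lt ha2

/-- Step 1 of weak approximation. -/
theorem exists_sep (P : Place k K) (S : Finset (Place k K)) (hP : P ∉ S) :
    ∃ u : K, P.1 u < 1 ∧ ∀ Q ∈ S, 1 < Q.1 u := by
  classical
  induction S using Finset.induction_on with
  | empty => exact ⟨0, by simp, by simp⟩
  | insert Q S hQ ih =>
    have hPS : P ∉ S := fun h => hP (Finset.mem_insert_of_mem h)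
    have hPQ : P ≠ Q := fun h => hP (h ▸ Finset.mem_insert_self _ _)
    obtain ⟨y, hy1, hy2⟩ := ih hPS
    by_cases hyQ : 1 < Q.1 y
    · refine ⟨y, hy1, fun Q' hQ' => ?_⟩
      rcases Finset.mem_insert.mp hQ' with rfl | h
      exacts [hyQ, hy2 _ h]
    · rw [not_lt] at hyQ
      obtain ⟨z, hz1, hz2⟩ := exists_val_lt_one_lt hPQ
      obtain ⟨r, hr_def⟩ : ∃ r : ℕ, r = 1 + ∑ Q' ∈ S, (WithZero.log (Q'.1 y)).natAbs := ⟨_, rfl⟩
      have hr0 : r ≠ 0 := by omega
      have hr : ∀ Q' ∈ S, Q'.1 (z ^ r) ≠ Q'.1 y := by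
        intro Q' hQ' heq
        have hy0 : Q'.1 y ≠ 0 := by
          have := hy2 Q' hQ'
          exact (zero_lt_one.trans this).ne'
        have hz0 : Q'.1 z ≠ 0 := by
          intro h0
          rw [map_pow, h0, zero_pow hr0] at heq
          exact hy0 heq.symm
        have hlog : (r : ℤ) * WithZero.log (Q'.1 z) = WithZero.log (Q'.1 y) := by
          rw [← heq, map_pow, WithZero.log_pow]
          simp
        have hb : 0 < WithZero.log (Q'.1 y) := by
          rw [WithZero.lt_log_iff_exp_lt hy0, WithZero.exp_zero]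
          exact hy2 Q' hQ'
        have hrb : (WithZero.log (Q'.1 y)).natAbs < r := by
          have := Finset.single_le_sum (f := fun Q' : Place k K => (WithZero.log (Q'.1 y)).natAbs)
            (fun _ _ => Nat.zero_le _) hQ'
          omega
        have hnat := congrArg Int.natAbs hlog
        rw [Int.natAbs_mul, Int.natAbs_natCast] at hnat
        have ha : 1 ≤ (WithZero.log (Q'.1 z)).natAbs := by
          by_contra hlt
          have : (WithZero.log (Q'.1 z)).natAbs = 0 := by omega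
          rw [this, mul_zero] at hnat
          have : WithZero.log (Q'.1 y) = 0 := Int.natAbs_eq_zero.mp hnat.symm
          omega
        have : r ≤ r * (WithZero.log (Q'.1 z)).natAbs := Nat.le_mul_of_pos_right r ha
        omega
      refine ⟨y + z ^ r, ?_, ?_⟩
      · refine (P.1.map_add _ _).trans_lt (max_lt hy1 ?_)
        rw [map_pow]
        exact pow_lt_one₀ zero_le hz1 hr0
      · intro Q' hQ'
        rcases Finset.mem_insert.mp hQ' with rfl | h
        · have h1 : 1 < Q'.1 (z ^ r) := by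
            rw [map_pow]; exact one_lt_pow₀ hz2 hr0
          rw [Valuation.map_add_eq_of_lt_right _ (hyQ.trans_lt h1)]
          exact h1
        · rw [Valuation.map_add_of_distinct_val _ (hr Q' h).symm]
          exact lt_max_of_lt_left (hy2 _ h)

/-- Step 2 of weak approximation: approximate idempotents. -/
theorem exists_approx_one (P : Place k K) (S : Finset (Place k K)) (hP : P ∉ S) (r : ℕ) :
    ∃ w : K, P.1 (w - 1) < WithZero.exp (-(r : ℤ)) ∧ ∀ Q ∈ S, Q.1 w < WithZero.exp (-(r : ℤ)) := by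
  obtain ⟨u, hu1, hu2⟩ := exists_sep P S hP
  have hs0 : r + 1 ≠ 0 := by omega
  have hexp : (WithZero.exp (-1 : ℤ) : WithZero (Multiplicative ℤ)) ^ (r + 1) < WithZero.exp (-(r : ℤ)) := by
    rw [← WithZero.exp_nsmul, WithZero.exp_lt_exp]
    simp
  have hU1 : P.1 (u ^ (r + 1)) < WithZero.exp (-(r : ℤ)) := by
    rw [map_pow]
    exact (pow_le_pow_left₀ zero_le (le_exp_neg_one_of_lt_one hu1) _).trans_lt hexp
  have hU1' : P.1 (u ^ (r + 1)) < 1 := by
    rw [map_pow]; exact pow_lt_one₀ zero_le hu1 hs0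
  have h1U : P.1 (1 + u ^ (r + 1)) = 1 := Valuation.map_one_add_of_lt _ hU1'
  have hne : 1 + u ^ (r + 1) ≠ 0 := by
    intro h0; rw [h0, map_zero] at h1U; exact zero_ne_one h1U
  refine ⟨(1 + u ^ (r + 1))⁻¹, ?_, ?_⟩
  · have : (1 + u ^ (r + 1))⁻¹ - 1 = - u ^ (r + 1) * (1 + u ^ (r + 1))⁻¹ := by
      field_simp
      ring
    rw [this, map_mul, Valuation.map_neg, map_inv₀, h1U, inv_one, mul_one]
    exact hU1
  · intro Q hQ
    have hu0 : u ≠ 0 := by rintro rfl; have := hu2 Q hQ; simp at this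
    have h1 : 1 < Q.1 (u ^ (r + 1)) := by
      rw [map_pow]; exact one_lt_pow₀ (hu2 Q hQ) hs0
    have h2 : Q.1 (1 + u ^ (r + 1)) = Q.1 (u ^ (r + 1)) :=
      Valuation.map_add_eq_of_lt_right _ (by rw [map_one]; exact h1)
    rw [map_inv₀, h2, map_pow, ← inv_pow]
    have h3 : (Q.1 u)⁻¹ < 1 := (inv_lt_one₀ (val_pos Q hu0)).mpr (hu2 Q hQ)
    exact (pow_le_pow_left₀ zero_le (le_exp_neg_one_of_lt_one h3) _).trans_lt hexp

end Groth.Agent.Helper5.FG
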