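import Mathlib
import Groth.Agent.Helper5.FGFinite
set_option autoImplicit false
open FunFld Polynomial
open scoped IntermediateField

namespace Groth.Agent.Helper5.FG

variable {k K : Type*} [Field k] [Field K] [Algebra k K]

section General
variable {Γ₀ : Type*} [LinearOrderedCommGroupWithZero Γ₀] (v : Valuation K Γ₀)

theorem gval_algebraMap (hv : ∀ c : k, v (algebraMap k K c) ≤ 1) {c : k} (hc : c ≠ 0) :
    v (algebraMap k K c) = 1 := by
  apply le_antisymm (hv c)
  have h1 := hv c⁻¹
  have hc0 : algebraMap k K c ≠ 0 := by simpa using hc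
  rw [map_inv₀, map_inv₀] at h1
  exact (inv_le_one₀ (zero_lt_iff.mpr (v.ne_zero_iff.mpr hc0))).mp h1

theorem gval_aeval_le (hv : ∀ c : k, v (algebraMap k K c) ≤ 1) {x : K} (hx : v x ≤ 1) (p : k[X]) :
    v (aeval x p) ≤ 1 := by
  induction p using Polynomial.induction_on' with
  | add p q hp hq => rw [map_add]; exact (v.map_add _ _).trans (max_le hp hq)
  | monomial n a =>
    rw [aeval_monomial, map_mul, map_pow]
    calc v (algebraMap k K a) * v x ^ n ≤ 1 * 1 := by
          gcongr
          · exact hv a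
          · exact pow_le_one₀ zero_le hx
      _ = 1 := one_mul 1

theorem gval_aeval_sub_coeff_lt (hv : ∀ c : k, v (algebraMap k K c) ≤ 1) {x : K} (hx : v x < 1)
    (p : k[X]) : v (aeval x p - algebraMap k K (p.coeff 0)) < 1 := by
  have : aeval x p - algebraMap k K (p.coeff 0) = x * aeval x p.divX := by
    conv_lhs => rw [← Polynomial.divX_mul_X_add p]
    simp only [map_add, map_mul, aeval_X, aeval_C, coeff_add, coeff_C_zero, mul_coeff_zero,
      coeff_X_zero, mul_zero, zero_add]
    ring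
  rw [this, map_mul]
  calc v x * v (aeval x p.divX) ≤ v x * 1 := by
        gcongr; exact gval_aeval_le v hv hx.le _
    _ = v x := mul_one _
    _ < 1 := hx

theorem gval_aeval_eq_one (hv : ∀ c : k, v (algebraMap k K c) ≤ 1) {x : K} (hx : v x < 1)
    {p : k[X]} (hp : p.coeff 0 ≠ 0) : v (aeval x p) = 1 := by
  have h1 := gval_aeval_sub_coeff_lt v hv hx p
  have h2 : v (algebraMap k K (p.coeff 0)) = 1 := gval_algebraMap v hv hp
  have : aeval x p = algebraMap k K (p.coeff 0) + (aeval x p - algebraMap k K (p.coeff 0)) := by ring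
  rw [this, Valuation.map_add_eq_of_lt_left _ (by rw [h2]; exact h1), h2]

theorem gtranscendental (hK : IsFF k K) (hv : ∀ c : k, v (algebraMap k K c) ≤ 1) {x : K}
    (hx0 : x ≠ 0) (hx : v x ≠ 1) : Transcendental k x := by
  intro halg
  exact hx (gval_eq_one_of_isAlgebraic v hv hx0 halg)

/-- chain lemma -/
theorem chain_card_le (hK : IsFF k K) (hv : ∀ c : k, v (algebraMap k K c) ≤ 1)
    {r : ℕ} (y : Fin (r + 1) → K) (hy0 : y 0 ≠ 0) (hy1 : ∀ i, v (y i) < 1)
    (hmono : StrictMono fun i => v (y i)) :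
    r + 1 ≤ Module.finrank k⟮y 0⟯ K := by
  classical
  have htr : Transcendental k (y 0) := gtranscendental v hK hv hy0 (hy1 0).ne
  have := card_le_finrank_of_coeff_zero hK htr y ?_
  · simpa using this
  intro p hex hsum
  -- the largest index with nonzero constant coefficient
  let F : Finset (Fin (r + 1)) := Finset.univ.filter fun i => (p i).coeff 0 ≠ 0
  have hF : F.Nonempty := by
    obtain ⟨i, hi⟩ := hex
    exact ⟨i, by simp [F, hi]⟩
  obtain ⟨j, hj_def⟩ : ∃ j, j = F.max' hF := ⟨_, rfl⟩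
  have hjF : j ∈ F := hj_def ▸ Finset.max'_mem F hF
  have hj : (p j).coeff 0 ≠ 0 := by simpa [F] using hjF
  have hgt : ∀ i, j < i → (p i).coeff 0 = 0 := by
    intro i hi
    by_contra hne
    have : i ∈ F := by simp [F, hne]
    have := Finset.le_max' F i this
    rw [← hj_def] at this
    exact absurd hi (not_lt.mpr this)
  have hyj0 : 0 < v (y j) := by
    have h0 : 0 < v (y 0) := zero_lt_iff.mpr (v.ne_zero_iff.mpr hy0)
    exact h0.trans_le (hmono.monotone (Fin.zero_le j))
  have hj1 : v (aeval (y 0) (p j) * y j) = v (y j) := by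
    rw [map_mul, gval_aeval_eq_one v hv (hy1 0) hj, one_mul]
  have hothers : v (∑ i ∈ Finset.univ.erase j, aeval (y 0) (p i) * y i) < v (y j) := by
    apply Valuation.map_sum_lt _ hyj0.ne'
    intro i hi
    have hij : i ≠ j := (Finset.mem_erase.mp hi).1
    rcases lt_or_gt_of_ne hij with hlt | hgt'
    · rw [map_mul]
      calc v (aeval (y 0) (p i)) * v (y i) ≤ 1 * v (y i) := by
            gcongr; exact gval_aeval_le v hv (hy1 0).le _
        _ = v (y i) := one_mul _
        _ < v (y j) := hmono hlt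
    · have hc := hgt i hgt'
      have hdiv : aeval (y 0) (p i) = y 0 * aeval (y 0) (p i).divX := by
        conv_lhs => rw [← Polynomial.divX_mul_X_add (p i), hc]
        simp [mul_comm]
      rw [hdiv, map_mul, map_mul]
      calc v (y 0) * v (aeval (y 0) (p i).divX) * v (y i)
          ≤ v (y 0) * 1 * v (y i) := by
            gcongr; exact gval_aeval_le v hv (hy1 0).le _
        _ = v (y 0) * v (y i) := by rw [mul_one]
        _ < v (y 0) * 1 := by
            apply mul_lt_mul_of_pos_left (hy1 i)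
            exact zero_lt_iff.mpr (v.ne_zero_iff.mpr hy0)
        _ = v (y 0) := mul_one _
        _ ≤ v (y j) := hmono.monotone (Fin.zero_le j)
  have htot : v (∑ i, aeval (y 0) (p i) * y i) = v (y j) := by
    rw [← Finset.add_sum_erase _ _ (Finset.mem_univ j),
      Valuation.map_add_eq_of_lt_left _ (by rw [hj1]; exact hothers), hj1]
  rw [hsum, map_zero] at htot
  exact hyj0.ne htot

theorem chain_card_le' (hK : IsFF k K) (hv : ∀ c : k, v (algebraMap k K c) ≤ 1)
    {r : ℕ} (y : Fin (r + 1) → K) (x : K) (hyx : y 0 = x) (hy0 : x ≠ 0) (hy1 : ∀ i, v (y i) < 1)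
    (hmono : StrictMono fun i => v (y i)) :
    r + 1 ≤ Module.finrank k⟮x⟯ K := by
  subst hyx
  exact chain_card_le v hK hv y hy0 hy1 hmono

/-- Claim 1: there is an element of largest valuation `< 1`. -/
theorem exists_max_val_lt_one (hK : IsFF k K) (hv : ∀ c : k, v (algebraMap k K c) ≤ 1)
    {x : K} (hx0 : x ≠ 0) (hx : v x < 1) :
    ∃ t : K, t ≠ 0 ∧ v t < 1 ∧ ∀ y : K, v y < 1 → v y ≤ v t := by
  by_contra hcon
  have hstep : ∀ t : {y : K // v y < 1 ∧ y ≠ 0}, ∃ y : {y : K // v y < 1 ∧ y ≠ 0}, v t.1 < v y.1 := by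
    intro t
    by_contra hno
    push Not at hno
    apply hcon
    refine ⟨t.1, t.2.2, t.2.1, fun y hy => ?_⟩
    by_cases hy0 : y = 0
    · rw [hy0, map_zero]; exact zero_le
    · exact hno ⟨y, hy, hy0⟩
  choose g hg using hstep
  let f : ℕ → {y : K // v y < 1 ∧ y ≠ 0} := fun n => Nat.rec ⟨x, hx, hx0⟩ (fun _ y => g y) n
  have hf0 : (f 0).1 = x := rfl
  have hfs : ∀ n, f (n + 1) = g (f n) := fun n => rfl
  have hmono : StrictMono fun n => v (f n).1 := by
    apply strictMono_nat_of_lt_succ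
    intro n
    rw [hfs]
    exact hg (f n)
  have htr : Transcendental k x := gtranscendental v hK hv hx0 hx.ne
  have := chain_card_le' v hK hv (r := Module.finrank k⟮x⟯ K) (fun i => (f i.1).1) x
    hf0 hx0 (fun i => (f i.1).2.1) (hmono.comp Fin.val_strictMono)
  omega

/-- Claim 2: archimedean property -/
theorem exists_pow_lt (hK : IsFF k K) (hv : ∀ c : k, v (algebraMap k K c) ≤ 1)
    {t : K} (ht0 : t ≠ 0) (ht : v t < 1) {y : K} (hy0 : y ≠ 0) :
    ∃ j : ℕ, v t ^ j < v y := by
  by_contra hcon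
  push Not at hcon
  have hvt0 : 0 < v t := zero_lt_iff.mpr (v.ne_zero_iff.mpr ht0)
  have hvy0 : 0 < v y := zero_lt_iff.mpr (v.ne_zero_iff.mpr hy0)
  have hval : ∀ i : ℕ, v (y / t ^ i) = v y * ((v t)⁻¹) ^ i := by
    intro i; rw [map_div₀, map_pow, div_eq_mul_inv, inv_pow]
  have hmono : StrictMono fun i : ℕ => v (y / t ^ i) := by
    apply strictMono_nat_of_lt_succ
    intro i
    rw [hval, hval, pow_succ, ← mul_assoc]
    have hpos : 0 < v y * (v t)⁻¹ ^ i := mul_pos hvy0 (pow_pos (inv_pos.mpr hvt0) i)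
    calc v y * (v t)⁻¹ ^ i = v y * (v t)⁻¹ ^ i * 1 := (mul_one _).symm
      _ < v y * (v t)⁻¹ ^ i * (v t)⁻¹ := by
          apply mul_lt_mul_of_pos_left _ hpos
          exact (one_lt_inv₀ hvt0).mpr ht
  have hlt : ∀ i : ℕ, v (y / t ^ i) < 1 := by
    intro i
    rw [map_div₀, map_pow, div_lt_one₀ (pow_pos hvt0 i)]
    calc v y ≤ v t ^ (i + 1) := hcon (i + 1)
      _ = v t ^ i * v t := pow_succ _ _
      _ < v t ^ i * 1 := mul_lt_mul_of_pos_left ht (pow_pos hvt0 i)
      _ = v t ^ i := mul_one _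
  have := chain_card_le' v hK hv (r := Module.finrank k⟮y⟯ K) (fun i => y / t ^ i.1) y
    (by simp) hy0 (fun i => hlt i.1) (hmono.comp Fin.val_strictMono)
  omega

/-- Claim 3: every nonzero integral element has the valuation of a power of `t` -/
theorem exists_val_eq_pow (hK : IsFF k K) (hv : ∀ c : k, v (algebraMap k K c) ≤ 1)
    {t : K} (ht0 : t ≠ 0) (ht : v t < 1) (hmax : ∀ y : K, v y < 1 → v y ≤ v t)
    {y : K} (hy0 : y ≠ 0) (hy : v y ≤ 1) : ∃ j : ℕ, v y = v t ^ j := by
  classical
  have hex := exists_pow_lt v hK hv ht0 ht hy0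
  have hvt0 : 0 < v t := zero_lt_iff.mpr (v.ne_zero_iff.mpr ht0)
  have hj0 : Nat.find hex ≠ 0 := by
    intro h0
    have := Nat.find_spec hex
    rw [h0, pow_zero] at this
    exact absurd hy (not_le.mpr this)
  obtain ⟨j, hj⟩ : ∃ j, Nat.find hex = j + 1 := ⟨Nat.find hex - 1, by omega⟩
  have h1 : v t ^ (j + 1) < v y := hj ▸ Nat.find_spec hex
  have h2 : v y ≤ v t ^ j := by
    have := Nat.find_min hex (m := j) (by omega)
    exact not_lt.mp this
  refine ⟨j, le_antisymm h2 ?_⟩
  by_contra hlt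
  rw [not_le] at hlt
  have hz : v (y / t ^ j) < 1 := by
    rw [map_div₀, map_pow, div_lt_one₀ (pow_pos hvt0 j)]; exact hlt
  have := hmax _ hz
  rw [map_div₀, map_pow, div_le_iff₀ (pow_pos hvt0 j), ← pow_succ'] at this
  exact absurd h1 (not_lt.mpr this)

end General

section DVR

theorem isDVR (hK : IsFF k K) (O : ValuationSubring K)
    (hk : ∀ c : k, algebraMap k K c ∈ O) {x : K} (hx0 : x ≠ 0) (hx : O.valuation x < 1) :
    IsDiscreteValuationRing O := by
  have hv : ∀ c : k, O.valuation (algebraMap k K c) ≤ 1 :=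
    fun c => (O.valuation_le_one_iff _).mpr (hk c)
  obtain ⟨t, ht0, ht, hmax⟩ := exists_max_val_lt_one O.valuation hK hv hx0 hx
  have htO : t ∈ O := (O.valuation_le_one_iff _).mp ht.le
  have hvt0 : 0 < O.valuation t := zero_lt_iff.mpr (O.valuation.ne_zero_iff.mpr ht0)
  apply IsDiscreteValuationRing.ofHasUnitMulPowIrreducibleFactorization
  refine ⟨⟨t, htO⟩, ?_, ?_⟩
  · constructor
    · rw [O.valuation_eq_one_iff]; exact ht.ne
    · intro a b hab
      by_contra hcon
      push Not at hcon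
      have ha : O.valuation (a : K) < 1 := lt_of_le_of_ne (O.valuation_le_one a)
        (fun h => hcon.1 ((O.valuation_eq_one_iff a).mpr h))
      have hb : O.valuation (b : K) < 1 := lt_of_le_of_ne (O.valuation_le_one b)
        (fun h => hcon.2 ((O.valuation_eq_one_iff b).mpr h))
      have h1 : O.valuation t = O.valuation (a : K) * O.valuation (b : K) := by
        rw [← map_mul]
        exact congrArg (fun z : O => O.valuation (z : K)) hab
      have h2 : O.valuation t ≤ O.valuation t * O.valuation (b : K) := by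
        conv_lhs => rw [h1]
        gcongr
        exact hmax _ ha
      have h3 : O.valuation t * O.valuation (b : K) < O.valuation t * 1 :=
        mul_lt_mul_of_pos_left hb hvt0
      rw [mul_one] at h3
      exact absurd h2 (not_le.mpr h3)
  · intro y hy
    have hyK : (y : K) ≠ 0 := fun h => hy (Subtype.ext h)
    obtain ⟨j, hj⟩ := exists_val_eq_pow O.valuation hK hv ht0 ht hmax hyK (O.valuation_le_one y)
    refine ⟨j, ?_⟩
    rw [← map_pow] at hj
    obtain ⟨u, hu⟩ := (O.valuation_eq_iff _ _).mp hj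
    refine ⟨u, Subtype.ext ?_⟩
    rw [← hu, mul_comm]
    rfl

open IsDedekindDomain in
theorem exists_place_of_valuationSubring (hK : IsFF k K) (O : ValuationSubring K)
    (hk : ∀ c : k, algebraMap k K c ∈ O) {x : K} (hx0 : x ≠ 0) (hx : O.valuation x < 1) :
    ∃ P : Place k K, (∀ y : K, y ∈ O → P.1 y ≤ 1) ∧ (∀ y : K, O.valuation y < 1 → P.1 y < 1) := by
  have := isDVR hK O hk hx0 hx
  refine ⟨⟨(IsDiscreteValuationRing.maximalIdeal O).valuation K, ?_, ?_⟩, ?_, ?_⟩
  · intro c
    exact (IsDiscreteValuationRing.maximalIdeal O).valuation_le_one (⟨_, hk c⟩ : O)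
  · exact HeightOneSpectrum.valuation_surjective K _
  · intro y hy
    exact (IsDiscreteValuationRing.maximalIdeal O).valuation_le_one (⟨y, hy⟩ : O)
  · intro y hy
    have hyO : y ∈ O := (O.valuation_le_one_iff _).mp hy.le
    have h1 : (⟨y, hyO⟩ : O) ∈ (IsDiscreteValuationRing.maximalIdeal O).asIdeal :=
      (O.valuation_lt_one_iff ⟨y, hyO⟩).mpr hy
    exact (HeightOneSpectrum.valuation_lt_one_iff_mem (K := K) _ (⟨y, hyO⟩ : O)).mpr h1

end DVR

/-- Every transcendental element has a zero. -/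
theorem exists_place_val_lt_one (hK : IsFF k K) {x : K} (hx : Transcendental k x) :
    ∃ P : Place k K, P.1 x < 1 := by
  have hx0 : x ≠ 0 := by rintro rfl; exact hx isAlgebraic_zero
  let A : Subring K := (Algebra.adjoin k ({x} : Set K)).toSubring
  have hxA : x ∈ A := Algebra.self_mem_adjoin_singleton k x
  have hnu : ¬ IsUnit (⟨x, hxA⟩ : A) := by
    intro hu
    obtain ⟨b, hb⟩ := hu.exists_right_inv
    have hbm : (b : K) ∈ (aeval (R := k) x).range := by
      rw [← Algebra.adjoin_singleton_eq_range_aeval]; exact b.2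
    obtain ⟨q, hq⟩ := hbm
    have h1 : x * (b : K) = 1 := congrArg Subtype.val hb
    apply hx
    refine ⟨X * q - 1, ?_, ?_⟩
    · intro h0
      have := congrArg (fun p => p.coeff 0) h0
      simp at this
    · simp only [map_sub, map_mul, aeval_X, map_one]
      have hq' : aeval x q = (b : K) := hq
      rw [hq', h1, sub_self]
  obtain ⟨M, hM, hxM⟩ := Ideal.exists_le_maximal (Ideal.span {(⟨x, hxA⟩ : A)})
    (by rwa [Ne, Ideal.span_singleton_eq_top])
  have := hM.isPrime
  obtain ⟨B, hB⟩ := (LocalSubring.ofPrime A M).exists_le_valuationSubring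
  obtain ⟨hle, hloc⟩ := hB
  have hAL : A ≤ (LocalSubring.ofPrime A M).toSubring := LocalSubring.le_ofPrime A M
  have hkB : ∀ c : k, algebraMap k K c ∈ B := fun c =>
    hle (hAL (Subalgebra.algebraMap_mem (Algebra.adjoin k ({x} : Set K)) c))
  have hxL : x ∈ (LocalSubring.ofPrime A M).toSubring := hAL hxA
  have hxLnu : ¬ IsUnit (⟨x, hxL⟩ : (LocalSubring.ofPrime A M).toSubring) := by
    have hmem : algebraMap A (LocalSubring.ofPrime A M).toSubring ⟨x, hxA⟩ ∈
        IsLocalRing.maximalIdeal (LocalSubring.ofPrime A M).toSubring := by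
      rw [IsLocalization.AtPrime.to_map_mem_maximal_iff _ M]
      exact hxM (Ideal.subset_span rfl)
    exact hmem
  have hxB : B.valuation x < 1 := by
    have hxBm : x ∈ B := hle hxL
    refine lt_of_le_of_ne ((B.valuation_le_one_iff x).mpr hxBm) ?_
    intro h1
    have hu : IsUnit (⟨x, hxBm⟩ : B) := (B.valuation_eq_one_iff ⟨x, hxBm⟩).mpr h1
    apply hxLnu
    exact hloc.map_nonunit (⟨x, hxL⟩ : (LocalSubring.ofPrime A M).toSubring) hu
  obtain ⟨P, -, hP⟩ := exists_place_of_valuationSubring hK B hkB hx0 hxB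
  exact ⟨P, hP x hxB⟩

/-- Every transcendental element has a pole. -/
theorem exists_place_one_lt_val (hK : IsFF k K) {x : K} (hx : Transcendental k x) :
    ∃ P : Place k K, 1 < P.1 x := by
  have hx0 : x ≠ 0 := by rintro rfl; exact hx isAlgebraic_zero
  have htr' : Transcendental k x⁻¹ := fun h => hx (IsAlgebraic.inv_iff.mp h)
  obtain ⟨P, hP⟩ := exists_place_val_lt_one hK htr'
  refine ⟨P, ?_⟩
  rw [map_inv₀] at hP
  exact (inv_lt_one₀ (val_pos P hx0)).mp hP

end Groth.Agent.Helper5.FG
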