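import Mathlib
import Groth.Agent.Helper5.FGExist
set_option autoImplicit false
open FunFld Polynomial
open scoped IntermediateField

namespace Groth.Agent.Helper5.FG

variable {k K : Type*} [Field k] [Field K] [Algebra k K]

theorem val_eq_exp_neg_ord (P : Place k K) {x : K} (hx : x ≠ 0) :
    P.1 x = WithZero.exp (-(P.ord x)) := by
  unfold Place.ord
  rw [neg_neg, WithZero.exp_log (P.1.ne_zero_iff.mpr hx)]

theorem ord_eq_of_val_eq (P : Place k K) {x : K} {n : ℤ} (h : P.1 x = WithZero.exp n) :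
    P.ord x = -n := by
  unfold Place.ord
  rw [h, WithZero.log_exp]

theorem ord_zero (P : Place k K) : P.ord (0 : K) = 0 := by
  unfold Place.ord; simp

theorem ord_one (P : Place k K) : P.ord (1 : K) = 0 := by
  unfold Place.ord; simp

theorem ord_mul (P : Place k K) {x y : K} (hx : x ≠ 0) (hy : y ≠ 0) :
    P.ord (x * y) = P.ord x + P.ord y := by
  unfold Place.ord
  rw [map_mul, WithZero.log_mul (P.1.ne_zero_iff.mpr hx) (P.1.ne_zero_iff.mpr hy)]
  ring

theorem ord_inv (P : Place k K) (x : K) : P.ord x⁻¹ = - P.ord x := by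
  unfold Place.ord
  rw [map_inv₀, WithZero.log_inv]

theorem ord_pow (P : Place k K) (x : K) (n : ℕ) : P.ord (x ^ n) = n * P.ord x := by
  unfold Place.ord
  rw [map_pow, WithZero.log_pow]
  simp

theorem ord_algebraMap (P : Place k K) (c : k) : P.ord (algebraMap k K c) = 0 := by
  by_cases hc : c = 0
  · rw [hc, map_zero, ord_zero]
  · unfold Place.ord
    rw [val_algebraMap P hc]; simp

theorem val_le_exp_iff (P : Place k K) {x : K} (hx : x ≠ 0) (n : ℤ) :
    P.1 x ≤ WithZero.exp n ↔ -n ≤ P.ord x := by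
  rw [val_eq_exp_neg_ord P hx, WithZero.exp_le_exp]
  omega

theorem val_lt_exp_iff (P : Place k K) {x : K} (hx : x ≠ 0) (n : ℤ) :
    P.1 x < WithZero.exp n ↔ -n < P.ord x := by
  rw [val_eq_exp_neg_ord P hx, WithZero.exp_lt_exp]
  omega

theorem ord_pos_iff (P : Place k K) {x : K} (hx : x ≠ 0) : 0 < P.ord x ↔ P.1 x < 1 := by
  have h := val_lt_exp_iff P hx 0
  rw [WithZero.exp_zero, neg_zero] at h
  exact h.symm

theorem ord_neg_iff (P : Place k K) {x : K} (hx : x ≠ 0) : P.ord x < 0 ↔ 1 < P.1 x := by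
  have h : (WithZero.exp (0 : ℤ) : WithZero (Multiplicative ℤ)) < WithZero.exp (-(P.ord x)) ↔ P.ord x < 0 := by
    rw [WithZero.exp_lt_exp]; omega
  rw [← val_eq_exp_neg_ord P hx, WithZero.exp_zero] at h
  exact h.symm

theorem ord_nonneg_iff (P : Place k K) {x : K} (hx : x ≠ 0) : 0 ≤ P.ord x ↔ P.1 x ≤ 1 := by
  have h := val_le_exp_iff P hx 0
  rw [WithZero.exp_zero, neg_zero] at h
  exact h.symm

theorem exists_zero_and_exists_pole (hK : IsFF k K) (x : K)
    (htr : Transcendental k x) :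
    (∃ P : Place k K, 0 < P.ord x) ∧ ∃ Q : Place k K, Q.ord x < 0 := by
  have hx0 : x ≠ 0 := by rintro rfl; exact htr isAlgebraic_zero
  obtain ⟨P, hP⟩ := exists_place_val_lt_one hK htr
  obtain ⟨Q, hQ⟩ := exists_place_one_lt_val hK htr
  exact ⟨⟨P, (ord_pos_iff P hx0).mpr hP⟩, ⟨Q, (ord_neg_iff Q hx0).mpr hQ⟩⟩

end Groth.Agent.Helper5.FG
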