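import Mathlib
import Groth.Agent.Helper5.FGOrd
set_option autoImplicit false
open FunFld Polynomial
open scoped IntermediateField

namespace Groth.Agent.Helper5.FG

variable {k K : Type*} [Field k] [Field K] [Algebra k K]

theorem div_apply (hK : IsFF k K) (x : K) (P : Place k K) :
    FunFld.div k x P = P.ord x := by
  unfold FunFld.div
  rw [dif_pos (finite_support_ord hK x)]
  rfl

theorem mem_L_iff (D : Divisor k K) (x : K) :
    x ∈ L D ↔ ∀ P : Place k K, P.1 x ≤ WithZero.exp (D P) := Iff.rfl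

theorem mem_L_iff_ord (D : Divisor k K) {x : K} (hx : x ≠ 0) :
    x ∈ L D ↔ ∀ P : Place k K, -(D P) ≤ P.ord x := by
  rw [mem_L_iff]
  exact forall_congr' fun P => val_le_exp_iff P hx (D P)

/-- an element without poles is algebraic over `k` -/
theorem isAlgebraic_of_forall_val_le_one (hK : IsFF k K) {x : K}
    (h : ∀ P : Place k K, P.1 x ≤ 1) : IsAlgebraic k x := by
  by_contra hx
  obtain ⟨Q, hQ⟩ := exists_place_one_lt_val hK hx
  exact absurd (h Q) (not_le.mpr hQ)

theorem mem_L_zero_iff (hK : IsFF k K) {x : K} :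
    x ∈ L (0 : Divisor k K) ↔ IsAlgebraic k x := by
  rw [mem_L_iff]
  constructor
  · intro h
    exact isAlgebraic_of_forall_val_le_one hK (fun P => by simpa using h P)
  · intro hx P
    simpa using gval_le_one_of_isAlgebraic P.1 P.2.1 hx

theorem ord_eq_zero_of_isAlgebraic (P : Place k K) {x : K} (hx : IsAlgebraic k x) :
    P.ord x = 0 := by
  by_cases hx0 : x = 0
  · rw [hx0, ord_zero]
  · unfold Place.ord
    rw [gval_eq_one_of_isAlgebraic P.1 P.2.1 hx0 hx]; simp

theorem mul_mem_L_iff (hK : IsFF k K) (D : Divisor k K) (x y : K) (hx : x ≠ 0) :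
    x * y ∈ L D ↔ y ∈ L (D + FunFld.div k x) := by
  by_cases hy : y = 0
  · subst hy; simp
  rw [mem_L_iff_ord D (mul_ne_zero hx hy), mem_L_iff_ord _ hy]
  apply forall_congr'
  intro P
  rw [ord_mul P hx hy, Finsupp.add_apply, div_apply hK]
  constructor <;> intro h <;> omega

theorem L_ne_bot_iff (hK : IsFF k K) (D : Divisor k K) :
    L D ≠ ⊥ ↔ ∃ x : K, x ≠ 0 ∧ 0 ≤ D + FunFld.div k x := by
  rw [Submodule.ne_bot_iff]
  apply exists_congr
  intro x
  constructor
  · rintro ⟨hx, hx0⟩
    refine ⟨hx0, fun P => ?_⟩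
    have := (mem_L_iff_ord D hx0).mp hx P
    rw [Finsupp.add_apply, div_apply hK, Finsupp.zero_apply]
    omega
  · rintro ⟨hx0, h⟩
    refine ⟨(mem_L_iff_ord D hx0).mpr fun P => ?_, hx0⟩
    have := h P
    rw [Finsupp.add_apply, div_apply hK, Finsupp.zero_apply] at this
    omega

end Groth.Agent.Helper5.FG
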