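import Mathlib
import Groth.Agent.Helper5.FGDiv
set_option autoImplicit false
open FunFld Polynomial
open scoped IntermediateField

namespace Groth.Agent.Helper5.FG

variable {k K : Type*} [Field k] [Field K] [Algebra k K]

/-- the degree as an additive homomorphism -/
noncomputable def degHom : Divisor k K →+ ℤ :=
  Finsupp.liftAddHom fun P : Place k K => AddMonoidHom.mulRight (P.deg : ℤ)

theorem degHom_apply (D : Divisor k K) : degHom D = D.deg := by
  unfold degHom Divisor.deg
  rw [Finsupp.liftAddHom_apply]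
  rfl

theorem deg_add (D E : Divisor k K) : (D + E).deg = D.deg + E.deg := by
  rw [← degHom_apply, ← degHom_apply, ← degHom_apply, map_add]

theorem deg_sub (D E : Divisor k K) : (D - E).deg = D.deg - E.deg := by
  rw [← degHom_apply, ← degHom_apply, ← degHom_apply, map_sub]

theorem deg_neg (D : Divisor k K) : (-D).deg = -D.deg := by
  rw [← degHom_apply, ← degHom_apply, map_neg]

theorem deg_zero : (0 : Divisor k K).deg = 0 := by
  rw [← degHom_apply, map_zero]

theorem deg_single (P : Place k K) (n : ℤ) :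
    FunFld.Divisor.deg (Finsupp.single P n : Divisor k K) = n * P.deg := by
  unfold Divisor.deg
  rw [Finsupp.sum_single_index]
  simp

theorem L_mono {A B : Divisor k K} (h : A ≤ B) : L A ≤ L B :=
  fun x hx P => (hx P).trans (WithZero.exp_le_exp.mpr (h P))

section Step
variable (A : Divisor k K) (P : Place k K) (t : K) (ht : P.1 t = WithZero.exp (-1 : ℤ))

include ht in
theorem step_val_le (x : K) (hx : x ∈ L (A + Finsupp.single P 1)) :
    t ^ (A P + 1) * x ∈ P.O := by
  show P.1 (t ^ (A P + 1) * x) ≤ 1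
  have h1 := hx P
  rw [Finsupp.add_apply, Finsupp.single_eq_same] at h1
  rw [map_mul, map_zpow₀, ht, ← WithZero.exp_zsmul]
  calc WithZero.exp ((A P + 1) • (-1 : ℤ)) * P.1 x
      ≤ WithZero.exp ((A P + 1) • (-1 : ℤ)) * WithZero.exp (A P + 1) := by gcongr
    _ = 1 := by rw [← WithZero.exp_add, ← WithZero.exp_zero]; congr 1; simp

/-- the evaluation map `L(A+P) → F_P` -/
noncomputable def stepMap : L (A + Finsupp.single P 1) →ₗ[k] IsLocalRing.ResidueField P.O where
  toFun x := IsLocalRing.residue P.O ⟨t ^ (A P + 1) * x.1, step_val_le A P t ht x.1 x.2⟩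
  map_add' x y := by
    rw [← map_add]
    congr 1
    apply Subtype.ext
    show t ^ (A P + 1) * (x.1 + y.1) = t ^ (A P + 1) * x.1 + t ^ (A P + 1) * y.1
    ring
  map_smul' c x := by
    have h : (⟨t ^ (A P + 1) * (c • x).1, step_val_le A P t ht _ (c • x).2⟩ : P.O) =
        algebraMap k P.O c * ⟨t ^ (A P + 1) * x.1, step_val_le A P t ht x.1 x.2⟩ := by
      apply Subtype.ext
      show t ^ (A P + 1) * (c • x.1) = algebraMap k K c * (t ^ (A P + 1) * x.1)
      rw [Algebra.smul_def]
      ring
    show IsLocalRing.residue P.O _ = c • IsLocalRing.residue P.O _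
    rw [h, map_mul, Algebra.smul_def]
    rfl

theorem mem_ker_stepMap (x : L (A + Finsupp.single P 1)) :
    x ∈ LinearMap.ker (stepMap A P t ht) ↔ x.1 ∈ L A := by
  classical
  rw [LinearMap.mem_ker]
  show IsLocalRing.residue P.O ⟨t ^ (A P + 1) * x.1, _⟩ = 0 ↔ _
  rw [residue_eq_zero_iff]
  show P.1 (t ^ (A P + 1) * x.1) < 1 ↔ _
  have ht0 : t ≠ 0 := ne_zero_of_val_eq_exp P ht
  have hkey : P.1 (t ^ (A P + 1) * x.1) < 1 ↔ P.1 x.1 ≤ WithZero.exp (A P) := by
    rw [map_mul, map_zpow₀, ht, ← WithZero.exp_zsmul]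
    rw [← WithZero.lt_mul_exp_iff_le WithZero.exp_ne_zero, ← WithZero.exp_add]
    have h1 : (WithZero.exp ((A P + 1) • (-1 : ℤ)) : WithZero (Multiplicative ℤ)) = (WithZero.exp (A P + 1))⁻¹ := by
      rw [← WithZero.exp_neg]; congr 1; simp
    rw [h1, inv_mul_lt_iff₀ WithZero.exp_pos, mul_one]
  rw [hkey, mem_L_iff]
  constructor
  · intro h Q
    by_cases hQ : Q = P
    · subst hQ; exact h
    · have := x.2 Q
      rwa [Finsupp.add_apply, Finsupp.single_eq_of_ne hQ, add_zero] at this
  · intro h
    exact h P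

end Step

theorem step_finite (A : Divisor k K) (P : Place k K) [FiniteDimensional k (L A)]
    (hK : IsFF k K) :
    FiniteDimensional k (L (A + Finsupp.single P 1)) ∧
      Module.finrank k (L (A + Finsupp.single P 1)) ≤ Module.finrank k (L A) + P.deg := by
  obtain ⟨t, ht⟩ := exists_uniformizer P
  have hFP := finiteDimensional_residueField hK P
  set φ := stepMap A P t ht with hφ
  -- the kernel injects into L A
  let ι : LinearMap.ker φ →ₗ[k] L A :=
    { toFun := fun x => ⟨x.1.1, (mem_ker_stepMap A P t ht x.1).mp x.2⟩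
      map_add' := fun x y => rfl
      map_smul' := fun c x => rfl }
  have hι : Function.Injective ι := by
    intro x y h
    apply Subtype.ext; apply Subtype.ext
    exact congrArg (fun z : L A => z.1) h
  have hker : FiniteDimensional k (LinearMap.ker φ) := Module.Finite.of_injective ι hι
  have hq : Module.Finite k (L (A + Finsupp.single P 1) ⧸ LinearMap.ker φ) :=
    Module.Finite.equiv (LinearMap.quotKerEquivRange φ).symm
  have hfin : FiniteDimensional k (L (A + Finsupp.single P 1)) :=
    Module.Finite.of_submodule_quotient (LinearMap.ker φ)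
  refine ⟨hfin, ?_⟩
  have h1 := LinearMap.finrank_range_add_finrank_ker φ
  have h2 : Module.finrank k (LinearMap.ker φ) ≤ Module.finrank k (L A) :=
    LinearMap.finrank_le_finrank_of_injective hι
  have h3 : Module.finrank k (LinearMap.range φ) ≤ P.deg := Submodule.finrank_le _
  omega

/-- the cast from `ℕ`-valued to `ℤ`-valued divisors -/
noncomputable def toZ : (Place k K →₀ ℕ) →+ Divisor k K :=
  Finsupp.mapRange.addMonoidHom (Nat.castAddMonoidHom ℤ)

theorem toZ_apply (F : Place k K →₀ ℕ) (P : Place k K) : toZ F P = (F P : ℤ) := rfl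

theorem toZ_single (P : Place k K) (m : ℕ) : toZ (Finsupp.single P m) = Finsupp.single P (m : ℤ) := by
  ext Q
  rw [toZ_apply]
  by_cases h : Q = P
  · subst h; simp
  · simp [Finsupp.single_eq_of_ne h]

theorem exists_toZ_eq {E : Divisor k K} (hE : 0 ≤ E) : ∃ F : Place k K →₀ ℕ, toZ F = E := by
  refine ⟨E.mapRange Int.toNat Int.toNat_zero, ?_⟩
  ext P
  rw [toZ_apply, Finsupp.mapRange_apply]
  exact Int.toNat_of_nonneg (hE P)

theorem L_add_finite (hK : IsFF k K) (F : Place k K →₀ ℕ) :
    ∀ (A : Divisor k K) [FiniteDimensional k (L A)],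
      FiniteDimensional k (L (A + toZ F)) ∧
      (Module.finrank k (L (A + toZ F)) : ℤ) ≤ Module.finrank k (L A) + (toZ F).deg := by
  induction F using Finsupp.induction_linear with
  | zero =>
    intro A hA
    rw [map_zero, add_zero, deg_zero, add_zero]
    exact ⟨hA, le_rfl⟩
  | add f g hf hg =>
    intro A hA
    obtain ⟨h1, h2⟩ := hf A
    obtain ⟨h3, h4⟩ := hg (A + toZ f)
    rw [map_add, ← add_assoc, deg_add]
    exact ⟨h3, by omega⟩
  | single P m =>
    induction m with
    | zero =>
      intro A hA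
      rw [Finsupp.single_zero, map_zero, add_zero, deg_zero, add_zero]
      exact ⟨hA, le_rfl⟩
    | succ m ih =>
      intro A hA
      obtain ⟨h1, h2⟩ := ih A
      obtain ⟨h3, h4⟩ := step_finite (A + toZ (Finsupp.single P m)) P hK
      have heq : toZ (Finsupp.single P (m + 1)) = toZ (Finsupp.single P m) + Finsupp.single P 1 := by
        rw [toZ_single, toZ_single, ← Finsupp.single_add]; simp
      rw [heq, ← add_assoc, deg_add, deg_single]
      refine ⟨h3, ?_⟩
      have : (Module.finrank k (L (A + toZ (Finsupp.single P m) + Finsupp.single P 1)) : ℤ) ≤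
          Module.finrank k (L (A + toZ (Finsupp.single P m))) + P.deg := by exact_mod_cast h4
      omega

instance finiteDimensional_one : FiniteDimensional k (1 : Submodule k K) := by
  rw [Submodule.one_eq_span]
  infer_instance

theorem L_neg_single_eq_bot (hK : IsFF k K) (P : Place k K) :
    L (-(Finsupp.single P 1) : Divisor k K) = ⊥ := by
  rw [eq_bot_iff]
  intro z hz
  rw [Submodule.mem_bot]
  by_contra hz0
  have halg : IsAlgebraic k z := by
    apply isAlgebraic_of_forall_val_le_one hK
    intro Q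
    refine (hz Q).trans ?_
    rw [← WithZero.exp_zero, WithZero.exp_le_exp, Finsupp.neg_apply]
    by_cases hQ : Q = P
    · subst hQ; simp
    · rw [Finsupp.single_eq_of_ne hQ]; simp
  have h1 := gval_eq_one_of_isAlgebraic P.1 P.2.1 hz0 halg
  have h2 := hz P
  rw [Finsupp.neg_apply, Finsupp.single_eq_same, h1, ← WithZero.exp_zero, WithZero.exp_le_exp] at h2
  omega

theorem finiteDimensional_L_zero (hK : IsFF k K) : FiniteDimensional k (L (0 : Divisor k K)) := by
  obtain ⟨x, hx, -⟩ := id hK
  obtain ⟨P, -⟩ := exists_place_val_lt_one hK hx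
  haveI : FiniteDimensional k (L (-(Finsupp.single P 1) : Divisor k K)) := by
    rw [L_neg_single_eq_bot hK P]; infer_instance
  have := (step_finite (-(Finsupp.single P 1) : Divisor k K) P hK).1
  rwa [neg_add_cancel] at this

theorem finiteDimensional_L (hK : IsFF k K) (D : Divisor k K) :
    FiniteDimensional k (L D) := by
  have h0 : FiniteDimensional k (L (0 : Divisor k K)) := finiteDimensional_L_zero hK
  obtain ⟨F, hF⟩ := exists_toZ_eq (E := D ⊔ 0) le_sup_right
  obtain ⟨h1, -⟩ := L_add_finite hK F (0 : Divisor k K)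
  rw [hF, zero_add] at h1
  exact Submodule.finiteDimensional_of_le (L_mono (le_sup_left : D ≤ D ⊔ 0))

theorem ell_sub_ell_le (hK : IsFF k K) (D₁ D₂ : Divisor k K) (h : D₁ ≤ D₂) :
    (ell D₂ : ℤ) - ell D₁ ≤ D₂.deg - D₁.deg := by
  have h0 := finiteDimensional_L hK D₁
  obtain ⟨F, hF⟩ := exists_toZ_eq (E := D₂ - D₁) (sub_nonneg.mpr h)
  obtain ⟨-, h2⟩ := L_add_finite hK F D₁
  rw [hF, add_sub_cancel, deg_sub] at h2
  unfold ell
  omega

end Groth.Agent.Helper5.FG
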