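import Mathlib
import Groth.Agent.Helper5.FGStep
set_option autoImplicit false
open FunFld Polynomial
open scoped IntermediateField

namespace Groth.Agent.Helper5.FG

variable {k K : Type*} [Field k] [Field K] [Algebra k K]

/-- Weak approximation theorem. -/
theorem weak_approx (T : Finset (Place k K)) (y : Place k K → K) (r : ℤ) :
    ∃ z : K, ∀ Q ∈ T, Q.1 (z - y Q) < WithZero.exp (-r) := by
  classical
  -- a bound for all the valuations involved
  obtain ⟨M, hM⟩ := Finset.exists_le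
    (insert (1 : WithZero (Multiplicative ℤ)) ((T ×ˢ T).image fun p => p.1.1 (y p.2)))
  have hM1 : 1 ≤ M := hM 1 (Finset.mem_insert_self _ _)
  have hMy : ∀ Q ∈ T, ∀ Q' ∈ T, Q.1 (y Q') ≤ M := by
    intro Q hQ Q' hQ'
    apply hM
    apply Finset.mem_insert_of_mem
    exact Finset.mem_image.mpr ⟨(Q, Q'), Finset.mem_product.mpr ⟨hQ, hQ'⟩, rfl⟩
  have hM0 : M ≠ 0 := (zero_lt_one.trans_le hM1).ne'
  obtain ⟨N, hN⟩ : ∃ N : ℕ, WithZero.exp (-(N : ℤ)) * M ≤ WithZero.exp (-r) := by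
    refine ⟨(r + WithZero.log M).toNat, ?_⟩
    rw [← WithZero.exp_log hM0, ← WithZero.exp_add, WithZero.exp_le_exp, WithZero.log_exp]
    have := Int.self_le_toNat (r + WithZero.log M)
    omega
  have hw : ∀ Q : Place k K, Q ∈ T → ∃ w : K, Q.1 (w - 1) < WithZero.exp (-(N : ℤ)) ∧
      ∀ Q' ∈ T.erase Q, Q'.1 w < WithZero.exp (-(N : ℤ)) := fun Q _ =>
    exists_approx_one Q (T.erase Q) (Finset.notMem_erase _ _) N
  choose! w hw1 hw2 using hw
  refine ⟨∑ Q ∈ T, w Q * y Q, fun Q hQ => ?_⟩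
  have hsplit : ∑ Q' ∈ T, w Q' * y Q' - y Q =
      (w Q - 1) * y Q + ∑ Q' ∈ T.erase Q, w Q' * y Q' := by
    rw [← Finset.add_sum_erase T _ hQ]; ring
  rw [hsplit]
  have hpos : (0 : WithZero (Multiplicative ℤ)) < WithZero.exp (-r) := WithZero.exp_pos
  apply Valuation.map_add_lt
  · rw [map_mul]
    calc Q.1 (w Q - 1) * Q.1 (y Q) ≤ Q.1 (w Q - 1) * M := by gcongr; exact hMy Q hQ Q hQ
      _ < WithZero.exp (-(N : ℤ)) * M :=
        mul_lt_mul_of_pos_right (hw1 Q hQ) (zero_lt_iff.mpr hM0)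
      _ ≤ WithZero.exp (-r) := hN
  · apply Valuation.map_sum_lt _ hpos.ne'
    intro Q' hQ'
    have hQ'T : Q' ∈ T := Finset.mem_of_mem_erase hQ'
    have hQQ' : Q ∈ T.erase Q' := by
      rw [Finset.mem_erase]
      exact ⟨fun h => (Finset.mem_erase.mp hQ').1 h.symm, hQ⟩
    rw [map_mul]
    calc Q.1 (w Q') * Q.1 (y Q') ≤ Q.1 (w Q') * M := by gcongr; exact hMy Q hQ Q' hQ'T
      _ < WithZero.exp (-(N : ℤ)) * M :=
        mul_lt_mul_of_pos_right (hw2 Q' hQ'T Q hQQ') (zero_lt_iff.mpr hM0)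
      _ ≤ WithZero.exp (-r) := hN

end Groth.Agent.Helper5.FG
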