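import Mathlib
import Groth.Agent.Helper5.FGWeak
set_option autoImplicit false
open FunFld Polynomial
open scoped IntermediateField

namespace Groth.Agent.Helper5.FG

variable {k K : Type*} [Field k] [Field K] [Algebra k K]

theorem val_lt_exp_of_lt_of_le {Q : Place k K} {y : K} {a b : ℤ} (h : Q.1 y < WithZero.exp a) (hab : a ≤ b) :
    Q.1 y < WithZero.exp b := h.trans_le (WithZero.exp_le_exp.mpr hab)

/-- Prop 1.3.3 of Stichtenoth: the degree of the zero divisor is at most `[K : k(x)]`. -/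
theorem sum_ord_mul_deg_le (hK : IsFF k K) {x : K} (hx : Transcendental k x)
    (T : Finset (Place k K)) (hT : ∀ Q ∈ T, Q.1 x < 1) :
    (∑ Q ∈ T, Q.ord x * (Q.deg : ℤ)) ≤ (Module.finrank k⟮x⟯ K : ℤ) := by
  classical
  have hx0 : x ≠ 0 := by rintro rfl; exact hx isAlgebraic_zero
  -- data at each place
  have hFin : ∀ Q : Place k K, FiniteDimensional k (IsLocalRing.ResidueField Q.O) :=
    fun Q => finiteDimensional_residueField hK Q
  let e : Place k K → ℕ := fun Q => (Q.ord x).toNat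
  have he : ∀ Q ∈ T, (e Q : ℤ) = Q.ord x := fun Q hQ =>
    Int.toNat_of_nonneg ((ord_pos_iff Q hx0).mpr (hT Q hQ)).le
  have hvx : ∀ Q ∈ T, Q.1 x = WithZero.exp (-(e Q : ℤ)) := fun Q hQ => by
    rw [he Q hQ]; exact val_eq_exp_neg_ord Q hx0
  choose t ht using fun Q : Place k K => exists_uniformizer Q
  let b : ∀ Q : Place k K, Module.Basis (Fin Q.deg) k (IsLocalRing.ResidueField Q.O) :=
    fun Q => Module.finBasis k _
  have hsurj : ∀ (Q : Place k K) (j : Fin Q.deg), ∃ s : Q.O, IsLocalRing.residue Q.O s = b Q j :=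
    fun Q j => IsLocalRing.residue_surjective _
  choose s hs using hsurj
  -- the uniform precision
  obtain ⟨R, hR_def⟩ : ∃ R : ℕ, R = 1 + ∑ Q ∈ T, e Q := ⟨_, rfl⟩
  have hRe : ∀ Q ∈ T, e Q < R := by
    intro Q hQ
    have := Finset.single_le_sum (f := e) (fun _ _ => Nat.zero_le _) hQ
    omega
  -- index type
  let ι := Σ Q : {Q // Q ∈ T}, Fin Q.1.deg × Fin (e Q.1)
  -- the elements
  have hu : ∀ idx : ι, ∃ u : K,
      idx.1.1.1 (u - t idx.1.1 ^ (idx.2.2 : ℕ) * (s idx.1.1 idx.2.1 : K)) < WithZero.exp (-(R : ℤ)) ∧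
      ∀ Q' ∈ T, Q' ≠ idx.1.1 → Q'.1 u < WithZero.exp (-(R : ℤ)) := by
    intro idx
    obtain ⟨z, hz⟩ := weak_approx T
      (fun Q' => if Q' = idx.1.1 then t idx.1.1 ^ (idx.2.2 : ℕ) * (s idx.1.1 idx.2.1 : K) else 0) R
    refine ⟨z, ?_, ?_⟩
    · have := hz idx.1.1 idx.1.2
      rwa [if_pos rfl] at this
    · intro Q' hQ' hne
      have := hz Q' hQ'
      rwa [if_neg hne, sub_zero] at this
  choose u hu1 hu2 using hu
  have hcard : Fintype.card ι = ∑ Q : {Q // Q ∈ T}, Q.1.deg * e Q.1 := by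
    simp [ι, Fintype.card_sigma]
  have hmain := card_le_finrank_of_coeff_zero hK hx u ?_
  · rw [hcard, Finset.sum_coe_sort T (fun Q => Q.deg * e Q)] at hmain
    have : (∑ Q ∈ T, Q.ord x * (Q.deg : ℤ)) = ((∑ Q ∈ T, Q.deg * e Q : ℕ) : ℤ) := by
      rw [Nat.cast_sum]
      apply Finset.sum_congr rfl
      intro Q hQ
      rw [Nat.cast_mul, he Q hQ, mul_comm]
    rw [this]
    exact_mod_cast hmain
  -- verification of the independence criterion
  intro p ⟨⟨Q, j₀, a₀'⟩, hidx₀⟩ hsum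
  have hex : ∃ a : ℕ, ∃ (h : a < e Q.1) (j : Fin Q.1.deg), (p ⟨Q, j, ⟨a, h⟩⟩).coeff 0 ≠ 0 :=
    ⟨a₀'.1, a₀'.2, j₀, hidx₀⟩
  obtain ⟨a₀, ha₀_def⟩ : ∃ a₀, a₀ = Nat.find hex := ⟨_, rfl⟩
  obtain ⟨ha₀, j₁, hj₁⟩ : ∃ (h : a₀ < e Q.1) (j : Fin Q.1.deg), (p ⟨Q, j, ⟨a₀, h⟩⟩).coeff 0 ≠ 0 :=
    ha₀_def ▸ Nat.find_spec hex
  have hmin : ∀ a : ℕ, a < a₀ → ∀ (h : a < e Q.1) (j : Fin Q.1.deg), (p ⟨Q, j, ⟨a, h⟩⟩).coeff 0 = 0 := by
    intro a ha h j
    by_contra hne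
    exact Nat.find_min hex (ha₀_def ▸ ha) ⟨h, j, hne⟩
  have hvxQ : Q.1.1 x = WithZero.exp (-(e Q.1 : ℤ)) := hvx Q.1 Q.2
  have hR : (a₀ : ℤ) < R := by have := hRe Q.1 Q.2; omega
  let corr : ι → K := fun idx => if idx.1 = Q ∧ (idx.2.2 : ℕ) = a₀ then
    algebraMap k K ((p idx).coeff 0) * (t idx.1.1 ^ a₀ * (s idx.1.1 idx.2.1 : K)) else 0
  have hA : Q.1.1 (∑ idx, corr idx) = WithZero.exp (-(a₀ : ℤ)) := by
    have h1 : ∑ idx, corr idx = ∑ j : Fin Q.1.deg,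
        algebraMap k K ((p ⟨Q, j, ⟨a₀, ha₀⟩⟩).coeff 0) * (t Q.1 ^ a₀ * (s Q.1 j : K)) := by
      rw [Fintype.sum_sigma, Finset.sum_eq_single Q]
      · rw [Fintype.sum_prod_type]
        apply Finset.sum_congr rfl
        intro j _
        rw [Finset.sum_eq_single ⟨a₀, ha₀⟩]
        · simp [corr]
        · intro a _ hne
          have : (a : ℕ) ≠ a₀ := fun h => hne (Fin.ext h)
          simp [corr, this]
        · simp
      · intro Q' _ hne
        apply Finset.sum_eq_zero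
        intro ja _
        simp [corr, hne]
      · simp
    obtain ⟨σ, hσ_def⟩ : ∃ σ : Q.1.O, σ = ∑ j, algebraMap k Q.1.O ((p ⟨Q, j, ⟨a₀, ha₀⟩⟩).coeff 0) * s Q.1 j :=
      ⟨_, rfl⟩
    have hσres : IsLocalRing.residue Q.1.O σ ≠ 0 := by
      rw [hσ_def, map_sum]
      intro h0
      have h2 : ∑ j, (p ⟨Q, j, ⟨a₀, ha₀⟩⟩).coeff 0 • b Q.1 j = 0 := by
        rw [← h0]
        apply Finset.sum_congr rfl
        intro j _
        rw [map_mul, hs, Algebra.smul_def]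
        rfl
      exact hj₁ (Fintype.linearIndependent_iff.mp (b Q.1).linearIndependent _ h2 j₁)
    have hσv : Q.1.1 (σ : K) = 1 := by
      apply le_antisymm σ.2
      rw [← not_lt, ← residue_eq_zero_iff]
      exact hσres
    have hσK : (σ : K) = ∑ j, algebraMap k K ((p ⟨Q, j, ⟨a₀, ha₀⟩⟩).coeff 0) * (s Q.1 j : K) := by
      rw [hσ_def, AddSubmonoidClass.coe_finsetSum]
      rfl
    have h3 : ∑ j : Fin Q.1.deg,
        algebraMap k K ((p ⟨Q, j, ⟨a₀, ha₀⟩⟩).coeff 0) * (t Q.1 ^ a₀ * (s Q.1 j : K)) =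
        t Q.1 ^ a₀ * (σ : K) := by
      rw [hσK, Finset.mul_sum]
      apply Finset.sum_congr rfl
      intro j _
      ring
    rw [h1, h3, map_mul, map_pow, ht, hσv, mul_one, ← WithZero.exp_nsmul]
    congr 1
    simp
  have hB : Q.1.1 (∑ idx, (aeval x (p idx) * u idx - corr idx)) < WithZero.exp (-(a₀ : ℤ)) := by
    apply Valuation.map_sum_lt _ WithZero.exp_ne_zero
    rintro ⟨Q', j, a⟩ -
    have haev : Q.1.1 (aeval x (p ⟨Q', j, a⟩)) ≤ 1 := val_aeval_le Q.1 (hT Q.1 Q.2).le _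
    by_cases hQ' : Q' = Q
    · subst hQ'
      have hδ := hu1 ⟨Q', j, a⟩
      simp only at hδ
      have haR : (a : ℤ) < R := by have := hRe Q'.1 Q'.2; have := a.2; omega
      have hsv : Q'.1.1 (s Q'.1 j : K) ≤ 1 := (s Q'.1 j).2
      have hts : Q'.1.1 (t Q'.1 ^ (a : ℕ) * (s Q'.1 j : K)) ≤ WithZero.exp (-(a : ℤ)) := by
        rw [map_mul, map_pow, ht, ← WithZero.exp_nsmul]
        calc WithZero.exp ((a : ℕ) • (-1 : ℤ)) * Q'.1.1 (s Q'.1 j : K)
            ≤ WithZero.exp ((a : ℕ) • (-1 : ℤ)) * 1 := by gcongr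
          _ = WithZero.exp (-(a : ℤ)) := by rw [mul_one]; congr 1; simp
      have huv : Q'.1.1 (u ⟨Q', j, a⟩) ≤ WithZero.exp (-(a : ℤ)) := by
        have : u ⟨Q', j, a⟩ = (u ⟨Q', j, a⟩ - t Q'.1 ^ (a : ℕ) * (s Q'.1 j : K)) +
            t Q'.1 ^ (a : ℕ) * (s Q'.1 j : K) := by ring
        rw [this]
        apply Valuation.map_add_le _ _ hts
        exact (val_lt_exp_of_lt_of_le hδ (by omega)).le
      rcases lt_trichotomy (a : ℕ) a₀ with hlt | heq | hgt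
      · have hc : (p ⟨Q', j, a⟩).coeff 0 = 0 := hmin a hlt a.2 j
        have hcorr : corr ⟨Q', j, a⟩ = 0 := by simp [corr, hlt.ne]
        have hdiv : aeval x (p ⟨Q', j, a⟩) = x * aeval x (p ⟨Q', j, a⟩).divX := by
          conv_lhs => rw [← Polynomial.divX_mul_X_add (p ⟨Q', j, a⟩), hc]
          simp [mul_comm]
        rw [hcorr, sub_zero, hdiv, map_mul, map_mul, hvxQ]
        calc WithZero.exp (-(e Q'.1 : ℤ)) * Q'.1.1 (aeval x (p ⟨Q', j, a⟩).divX) * Q'.1.1 (u ⟨Q', j, a⟩)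
            ≤ WithZero.exp (-(e Q'.1 : ℤ)) * 1 * WithZero.exp (-(a : ℤ)) := by
              gcongr
              exact val_aeval_le Q'.1 (hT Q'.1 Q'.2).le _
          _ = WithZero.exp (-(e Q'.1 : ℤ) + -(a : ℤ)) := by rw [mul_one, WithZero.exp_add]
          _ < WithZero.exp (-(a₀ : ℤ)) := by rw [WithZero.exp_lt_exp]; omega
      · have hcorr : corr ⟨Q', j, a⟩ = algebraMap k K ((p ⟨Q', j, a⟩).coeff 0) *
            (t Q'.1 ^ a₀ * (s Q'.1 j : K)) := by simp [corr, heq]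
        rw [heq] at hδ huv
        have hsplit : aeval x (p ⟨Q', j, a⟩) * u ⟨Q', j, a⟩ - corr ⟨Q', j, a⟩ =
            (aeval x (p ⟨Q', j, a⟩) - algebraMap k K ((p ⟨Q', j, a⟩).coeff 0)) * u ⟨Q', j, a⟩ +
            algebraMap k K ((p ⟨Q', j, a⟩).coeff 0) *
              (u ⟨Q', j, a⟩ - t Q'.1 ^ a₀ * (s Q'.1 j : K)) := by
          rw [hcorr]; ring
        rw [hsplit]
        apply Valuation.map_add_lt
        · rw [map_mul]
          have h1 := le_exp_neg_one_of_lt_one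
            (val_aeval_sub_coeff_lt Q'.1 (hT Q'.1 Q'.2) (p ⟨Q', j, a⟩))
          calc Q'.1.1 (aeval x (p ⟨Q', j, a⟩) - algebraMap k K ((p ⟨Q', j, a⟩).coeff 0)) *
                Q'.1.1 (u ⟨Q', j, a⟩)
              ≤ WithZero.exp (-1 : ℤ) * WithZero.exp (-(a₀ : ℤ)) := by gcongr
            _ = WithZero.exp (-1 + -(a₀ : ℤ)) := by rw [WithZero.exp_add]
            _ < WithZero.exp (-(a₀ : ℤ)) := by rw [WithZero.exp_lt_exp]; omega
        · rw [map_mul]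
          calc Q'.1.1 (algebraMap k K ((p ⟨Q', j, a⟩).coeff 0)) *
                Q'.1.1 (u ⟨Q', j, a⟩ - t Q'.1 ^ a₀ * (s Q'.1 j : K))
              ≤ 1 * Q'.1.1 (u ⟨Q', j, a⟩ - t Q'.1 ^ a₀ * (s Q'.1 j : K)) := by
                gcongr; exact Q'.1.2.1 _
            _ = Q'.1.1 (u ⟨Q', j, a⟩ - t Q'.1 ^ a₀ * (s Q'.1 j : K)) := one_mul _
            _ < WithZero.exp (-(a₀ : ℤ)) := val_lt_exp_of_lt_of_le hδ (by omega)
      · have hcorr : corr ⟨Q', j, a⟩ = 0 := by simp [corr, hgt.ne']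
        rw [hcorr, sub_zero, map_mul]
        calc Q'.1.1 (aeval x (p ⟨Q', j, a⟩)) * Q'.1.1 (u ⟨Q', j, a⟩)
            ≤ 1 * WithZero.exp (-(a : ℤ)) := by gcongr
          _ = WithZero.exp (-(a : ℤ)) := one_mul _
          _ < WithZero.exp (-(a₀ : ℤ)) := by rw [WithZero.exp_lt_exp]; omega
    · have hcorr : corr ⟨Q', j, a⟩ = 0 := by simp [corr, hQ']
      have hne : Q.1 ≠ Q'.1 := fun h => hQ' (Subtype.ext h.symm)
      have h2 := hu2 ⟨Q', j, a⟩ Q.1 Q.2 hne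
      rw [hcorr, sub_zero, map_mul]
      calc Q.1.1 (aeval x (p ⟨Q', j, a⟩)) * Q.1.1 (u ⟨Q', j, a⟩)
          ≤ 1 * Q.1.1 (u ⟨Q', j, a⟩) := by gcongr
        _ = Q.1.1 (u ⟨Q', j, a⟩) := one_mul _
        _ < WithZero.exp (-(a₀ : ℤ)) := val_lt_exp_of_lt_of_le h2 (by omega)
  have htot : ∑ idx, aeval x (p idx) * u idx =
      ∑ idx, corr idx + ∑ idx, (aeval x (p idx) * u idx - corr idx) := by
    rw [Finset.sum_sub_distrib]; ring
  rw [htot] at hsum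
  have hfin : Q.1.1 (∑ idx, corr idx + ∑ idx, (aeval x (p idx) * u idx - corr idx)) =
      Q.1.1 (∑ idx, corr idx) :=
    Valuation.map_add_eq_of_lt_left Q.1.1 (by rw [hA]; exact hB)
  rw [hsum, map_zero, hA] at hfin
  exact WithZero.exp_ne_zero hfin.symm

end Groth.Agent.Helper5.FG
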