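import Mathlib
import Groth.Agent.Helper5.FGDeg
import Groth.Prelude.Def_W4bk4goldsch23Ext
set_option autoImplicit false
open FunFld Polynomial
open scoped IntermediateField

namespace Groth.Agent.Helper5.FG

variable {k K K' : Type*} [Field k] [Field K] [Field K'] [Algebra k K] [Algebra K K']
  [Algebra k K'] [IsScalarTower k K K']

theorem finrank_adjoin_algebraMap (x : K) :
    Module.finrank k⟮algebraMap K K' x⟯ K' = Module.finrank k⟮x⟯ K * Module.finrank K K' := by
  let ι : K →ₐ[k] K' := IsScalarTower.toAlgHom k K K'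
  have hmap : (k⟮x⟯ : IntermediateField k K).map ι = k⟮algebraMap K K' x⟯ := by
    rw [IntermediateField.adjoin_map, Set.image_singleton]; rfl
  rw [Module.finrank_mul_finrank k⟮x⟯ K K', ← finrank_congr hmap]
  symm
  apply Algebra.finrank_eq_of_equiv_equiv (IntermediateField.equivMap k⟮x⟯ ι).toRingEquiv
    (RingEquiv.refl K')
  ext a
  rfl

theorem transcendental_algebraMap {x : K} (hx : Transcendental k x) :
    Transcendental k (algebraMap K K' x) := by
  intro h
  apply hx
  have : IsAlgebraic k ((IsScalarTower.toAlgHom k K K') x) := h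
  exact (isAlgebraic_algHom_iff (IsScalarTower.toAlgHom k K K') (algebraMap K K').injective).mp this

theorem isFF_of_finite [FiniteDimensional K K'] (hK : IsFF k K) : IsFF k K' := by
  obtain ⟨x, hx, hfin⟩ := hK
  refine ⟨algebraMap K K' x, transcendental_algebraMap hx, ?_⟩
  apply Module.finite_of_finrank_pos
  rw [finrank_adjoin_algebraMap]
  exact Nat.mul_pos Module.finrank_pos Module.finrank_pos

/-- the place of `K` below a place of `K'` -/
theorem exists_isOverWith [FiniteDimensional K K'] (hK : IsFF k K) (Q : Place k K') :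
    ∃ (P : Place k K) (e : ℕ), IsOverWith Q P e := by
  set v : Valuation K (WithZero (Multiplicative ℤ)) := Q.1.comap (algebraMap K K') with hv_def
  have hvk : ∀ c : k, v (algebraMap k K c) ≤ 1 := by
    intro c
    show Q.1 (algebraMap K K' (algebraMap k K c)) ≤ 1
    rw [← IsScalarTower.algebraMap_apply]
    exact Q.2.1 c
  have hvpos : ∀ y : K, y ≠ 0 → 0 < v y := fun y hy => zero_lt_iff.mpr (v.ne_zero_iff.mpr hy)
  -- nontriviality
  obtain ⟨x, hx0, hx⟩ : ∃ x : K, x ≠ 0 ∧ v x < 1 := by
    by_contra hcon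
    push Not at hcon
    have hle : ∀ c : K, Q.1 (algebraMap K K' c) ≤ 1 := by
      intro c
      by_cases hc : c = 0
      · rw [hc, map_zero, map_zero]; exact zero_le_one
      · have h1 := hcon c⁻¹ (inv_ne_zero hc)
        rw [map_inv₀] at h1
        exact (one_le_inv₀ (hvpos c hc)).mp h1
    obtain ⟨y, hy⟩ := Q.2.2 (WithZero.exp (1 : ℤ))
    have halg : IsAlgebraic K y := Algebra.IsAlgebraic.isAlgebraic y
    have := gval_le_one_of_isAlgebraic Q.1 hle halg
    rw [hy, ← WithZero.exp_zero, WithZero.exp_le_exp] at this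
    omega
  have hxO : v.valuationSubring.valuation x < 1 :=
    (Valuation.isEquiv_valuation_valuationSubring v).lt_one_iff_lt_one.mp hx
  obtain ⟨P, hP1', hP2'⟩ := exists_place_of_valuationSubring hK v.valuationSubring
    (fun c => hvk c) hx0 hxO
  have hP1 : ∀ y : K, v y ≤ 1 → P.1 y ≤ 1 := fun y hy => hP1' y hy
  have hP2 : ∀ y : K, v y < 1 → P.1 y < 1 := fun y hy =>
    hP2' y ((Valuation.isEquiv_valuation_valuationSubring v).lt_one_iff_lt_one.mp hy)
  have hP3 : ∀ y : K, P.1 y ≤ 1 → v y ≤ 1 := by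
    intro y hy
    by_contra hlt
    rw [not_le] at hlt
    have hy0 : y ≠ 0 := by rintro rfl; simp at hlt
    have h1 : v y⁻¹ < 1 := by
      rw [map_inv₀]; exact (inv_lt_one₀ (hvpos y hy0)).mpr hlt
    have h2 := hP2 _ h1
    rw [map_inv₀] at h2
    have := (inv_lt_one₀ (val_pos P hy0)).mp h2
    exact absurd hy (not_le.mpr this)
  have hP4 : ∀ y : K, P.1 y = 1 → v y = 1 := by
    intro y hy
    have hy0 : y ≠ 0 := by rintro rfl; simp at hy
    apply le_antisymm (hP3 y hy.le)
    have h1 : P.1 y⁻¹ ≤ 1 := by rw [map_inv₀, hy, inv_one]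
    have h2 := hP3 _ h1
    rw [map_inv₀] at h2
    exact (inv_le_one₀ (hvpos y hy0)).mp h2
  obtain ⟨t, ht⟩ := exists_uniformizer P
  have ht0 : t ≠ 0 := ne_zero_of_val_eq_exp P ht
  have hvt : v t < 1 := by
    by_contra hge
    rw [not_lt] at hge
    have h1 : v t⁻¹ ≤ 1 := by rw [map_inv₀]; exact inv_le_one_of_one_le₀ hge
    have h2 := hP1 _ h1
    rw [map_inv₀, ht, ← WithZero.exp_neg, ← WithZero.exp_zero, WithZero.exp_le_exp] at h2
    omega
  have hvt0 : v t ≠ 0 := (hvpos t ht0).ne'
  have hlog : WithZero.log (v t) < 0 := by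
    rw [← WithZero.exp_log hvt0, ← WithZero.exp_zero, WithZero.exp_lt_exp] at hvt
    exact hvt
  obtain ⟨e, he⟩ : ∃ e : ℕ, (e : ℤ) = -WithZero.log (v t) :=
    ⟨(-WithZero.log (v t)).toNat, Int.toNat_of_nonneg (by omega)⟩
  have he0 : e ≠ 0 := by rintro rfl; simp at he; omega
  have hvt' : v t = WithZero.exp (-(e : ℤ)) := by
    rw [he, neg_neg, WithZero.exp_log hvt0]
  refine ⟨P, e, fun y => ?_⟩
  show v y = P.1 y ^ e
  by_cases hy0 : y = 0
  · rw [hy0, map_zero, map_zero, zero_pow he0]
  · have hyn := val_eq_exp_neg_ord P hy0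
    set n := P.ord y with hn
    have hu : P.1 (y / t ^ n) = 1 := by
      rw [map_div₀, map_zpow₀, ht, hyn, ← WithZero.exp_zsmul, smul_eq_mul, mul_neg, mul_one,
        div_self WithZero.exp_ne_zero]
    have hvu := hP4 _ hu
    rw [map_div₀, map_zpow₀, hvt', ← WithZero.exp_zsmul] at hvu
    have h1 : v y = WithZero.exp (n • -(e : ℤ)) := by
      rw [div_eq_one_iff_eq WithZero.exp_ne_zero] at hvu
      exact hvu
    rw [h1, hyn, ← WithZero.exp_nsmul]
    congr 1
    simp only [smul_eq_mul, nsmul_eq_mul]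
    ring

end Groth.Agent.Helper5.FG
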