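import Mathlib
import Groth.Agent.Helper5.FGExt
import Groth.Agent.Helper5.FFOnlyZero
set_option autoImplicit false
open FunFld Polynomial
open scoped IntermediateField

namespace Groth.Agent.Helper5.FG

variable {k K K' : Type*} [Field k] [Field K] [Field K'] [Algebra k K] [Algebra K K']
  [Algebra k K'] [IsScalarTower k K K']

omit [IsScalarTower k K K'] in
theorem isOverWith_pos {Q : Place k K'} {P : Place k K} {e : ℕ} (he : IsOverWith Q P e) : e ≠ 0 := by
  rintro rfl
  have := he 0
  simp at this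

omit [IsScalarTower k K K'] in
theorem isOverWith_unique {Q : Place k K'} {P : Place k K} {e e' : ℕ} (he : IsOverWith Q P e)
    (he' : IsOverWith Q P e') : e = e' := by
  obtain ⟨t, ht⟩ := exists_uniformizer P
  have h1 := he t
  rw [he' t, ht, ← WithZero.exp_nsmul, ← WithZero.exp_nsmul] at h1
  have := WithZero.exp_injective h1
  simp only [smul_eq_mul, nsmul_eq_mul, mul_neg, mul_one, neg_inj] at this
  exact_mod_cast this.symm

omit [IsScalarTower k K K'] in
theorem ramIdx_eq {Q : Place k K'} {P : Place k K} {e : ℕ} (he : IsOverWith Q P e) :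
    ramIdx Q P = e := by
  classical
  have h : IsOver Q P := ⟨e, he⟩
  unfold ramIdx
  rw [dif_pos h]
  exact isOverWith_unique (Nat.find_spec h) he

theorem finite_isOver_and_sum [FiniteDimensional K K'] (hK : IsFunctionField k K) (P : Place k K) :
    {Q : Place k K' | IsOver Q P}.Finite ∧
    ∀ (Qs : Finset (Place k K')), (∀ Q, Q ∈ Qs ↔ IsOver Q P) →
      (∑ Q ∈ Qs, ramIdx Q P * Q.deg) = Module.finrank K K' * P.deg := by
  classical
  obtain ⟨x, htr, hxP, hxonly⟩ := FF.exists_only_zero hK P
  have hx0 : x ≠ 0 := by rintro rfl; exact htr isAlgebraic_zero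
  have hK' : IsFF k K' := isFF_of_finite hK.1
  have htr' : Transcendental k (algebraMap K K' x) := transcendental_algebraMap htr
  have hx'0 : algebraMap K K' x ≠ 0 := by rintro h; exact htr' (h ▸ isAlgebraic_zero)
  have hiff : ∀ Q : Place k K', IsOver Q P ↔ Q.1 (algebraMap K K' x) < 1 := by
    intro Q
    constructor
    · rintro ⟨e, he⟩
      rw [he x]
      exact pow_lt_one₀ zero_le hxP (isOverWith_pos he)
    · intro hQ
      obtain ⟨P₀, e, he⟩ := exists_isOverWith hK.1 Q
      have h1 : P₀.1 x < 1 := by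
        rw [he x] at hQ
        by_contra h
        exact absurd (one_le_pow₀ (not_lt.mp h)) (not_le.mpr hQ)
      rw [hxonly P₀ h1] at he
      exact ⟨e, he⟩
  have hfin : {Q : Place k K' | IsOver Q P}.Finite := by
    have := finite_zeros hK' htr'
    convert this using 1
    ext Q
    exact hiff Q
  refine ⟨hfin, fun Qs hQs => ?_⟩
  obtain ⟨m, hm_def⟩ : ∃ m : ℤ, m = P.ord x := ⟨_, rfl⟩
  have hm : 0 < m := by rw [hm_def]; exact (FF.ord_pos_iff P hx0).mpr hxP
  -- degree in K
  have hK1 : m * P.deg = Module.finrank k⟮x⟯ K := by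
    rw [← FF.deg_zeros_eq hK htr, FF.deg_posPart_eq]
    have : (FunFld.div k x).support.filter (fun P' => 0 < FunFld.div k x P') = {P} := by
      ext P'
      simp only [Finset.mem_filter, Finsupp.mem_support_iff, Finset.mem_singleton, FF.div_apply hK]
      constructor
      · rintro ⟨-, h⟩
        exact hxonly P' ((FF.ord_pos_iff P' hx0).mp h)
      · rintro rfl
        rw [← hm_def]
        exact ⟨hm.ne', hm⟩
    rw [this, Finset.sum_singleton, FF.div_apply hK, hm_def]
  -- degree in K'
  have hK2 : ∑ Q ∈ Qs, (Q.ord (algebraMap K K' x) : ℤ) * Q.deg =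
      Module.finrank k⟮algebraMap K K' x⟯ K' := by
    rw [← deg_zeros_eq hK' htr', deg_posPart_eq]
    apply Finset.sum_congr
    · ext Q
      simp only [Finset.mem_filter, Finsupp.mem_support_iff, div_apply hK', hQs, hiff,
        ← ord_pos_iff Q hx'0]
      constructor
      · intro h; exact ⟨h.ne', h⟩
      · rintro ⟨-, h⟩; exact h
    · intro Q _
      rw [div_apply hK']
  -- ord relation
  have hord : ∀ Q ∈ Qs, Q.ord (algebraMap K K' x) = (ramIdx Q P : ℤ) * m := by
    intro Q hQ
    obtain ⟨e, he⟩ := (hQs Q).mp hQ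
    rw [ramIdx_eq he]
    have h1 := he x
    rw [FF.val_eq_exp_neg_ord P hx0, ← WithZero.exp_nsmul] at h1
    rw [ord_eq_of_val_eq Q h1, hm_def]
    simp only [nsmul_eq_mul, mul_neg, neg_neg]
  have hmain : (∑ Q ∈ Qs, ((ramIdx Q P * Q.deg : ℕ) : ℤ)) * m =
      ((Module.finrank K K' * P.deg : ℕ) : ℤ) * m := by
    rw [Finset.sum_mul]
    have h1 : ∑ Q ∈ Qs, ((ramIdx Q P * Q.deg : ℕ) : ℤ) * m =
        ∑ Q ∈ Qs, (Q.ord (algebraMap K K' x) : ℤ) * Q.deg := by
      apply Finset.sum_congr rfl
      intro Q hQ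
      rw [hord Q hQ]
      push_cast
      ring
    rw [h1, hK2, finrank_adjoin_algebraMap]
    push_cast
    rw [← hK1]
    ring
  have h2 := mul_right_cancel₀ hm.ne' hmain
  rw [← Nat.cast_sum] at h2
  exact_mod_cast h2

end Groth.Agent.Helper5.FG
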