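import Mathlib
import Groth.Agent.Helper5.FGExt2
set_option autoImplicit false
open FunFld Polynomial
open scoped IntermediateField

namespace Groth.Agent.Helper5.FG

variable {k K K' : Type*} [Field k] [Field K] [Field K'] [Algebra k K] [Algebra K K']
  [Algebra k K'] [IsScalarTower k K K']

variable (K') in
open scoped Classical in
/-- the conorm of a single place -/
noncomputable def conormP (P : Place k K) : Divisor k K' :=
  if h : {Q : Place k K' | IsOver Q P}.Finite then
    h.toFinset.sum (fun Q => (ramIdx Q P : ℤ) • Finsupp.single Q 1) else 0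

omit [IsScalarTower k K K'] in
theorem conorm_eq (D : Divisor k K) : conorm K' D = D.sum fun P n => n • conormP K' P := rfl

open scoped Classical in
theorem conormP_apply [FiniteDimensional K K'] (hK : IsFunctionField k K) (P : Place k K)
    (Q : Place k K') : conormP K' P Q = if IsOver Q P then (ramIdx Q P : ℤ) else 0 := by
  have hfin := (finite_isOver_and_sum (K' := K') hK P).1
  unfold conormP
  rw [dif_pos hfin, Finsupp.finsetSum_apply]
  simp only [Finsupp.smul_apply, Finsupp.single_apply, smul_eq_mul, mul_ite, mul_one, mul_zero]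
  rw [Finset.sum_ite_eq']
  simp only [Set.Finite.mem_toFinset, Set.mem_ofPred_eq]

theorem conormP_deg [FiniteDimensional K K'] (hK : IsFunctionField k K) (P : Place k K) :
    (conormP K' P).deg = Module.finrank K K' * P.deg := by
  classical
  obtain ⟨hfin, hsum⟩ := finite_isOver_and_sum (K' := K') hK P
  have h1 := hsum hfin.toFinset (fun Q' => by rw [Set.Finite.mem_toFinset]; rfl)
  unfold conormP
  rw [dif_pos hfin, ← degHom_apply, map_sum]
  have : ∀ Q ∈ hfin.toFinset, degHom ((ramIdx Q P : ℤ) • (Finsupp.single Q 1 : Divisor k K')) =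
      ((ramIdx Q P * Q.deg : ℕ) : ℤ) := by
    intro Q _
    rw [map_zsmul, degHom_apply, deg_single]
    push_cast
    simp
  rw [Finset.sum_congr rfl this, ← Nat.cast_sum, h1]
  push_cast
  rfl

theorem conorm_deg [FiniteDimensional K K'] (hK : IsFunctionField k K) (D : Divisor k K) :
    (conorm K' D).deg = Module.finrank K K' * D.deg := by
  rw [conorm_eq, ← degHom_apply, Finsupp.sum, map_sum]
  have : ∀ P ∈ D.support, degHom (D P • conormP K' P) =
      (Module.finrank K K' : ℤ) * (D P * P.deg) := by
    intro P _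
    rw [map_zsmul, degHom_apply, conormP_deg hK]
    simp only [smul_eq_mul]
    ring
  rw [Finset.sum_congr rfl this, ← Finset.mul_sum]
  rfl

omit [IsScalarTower k K K'] in
theorem isOver_unique {Q : Place k K'} {P₁ P₂ : Place k K} (h1 : IsOver Q P₁) (h2 : IsOver Q P₂) :
    P₁ = P₂ := by
  obtain ⟨e1, he1⟩ := h1
  obtain ⟨e2, he2⟩ := h2
  apply eq_of_O_le
  intro y hy
  have h3 : Q.1 (algebraMap K K' y) ≤ 1 := by
    rw [he1 y]; exact pow_le_one₀ zero_le hy
  rw [he2 y] at h3
  by_contra hlt
  rw [not_le] at hlt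
  exact absurd h3 (not_le.mpr (one_lt_pow₀ hlt (isOverWith_pos he2)))

theorem conorm_apply [FiniteDimensional K K'] (hK : IsFunctionField k K) (D : Divisor k K)
    {Q : Place k K'} {P : Place k K} {e : ℕ} (he : IsOverWith Q P e) :
    conorm K' D Q = e * D P := by
  classical
  rw [conorm_eq, Finsupp.sum, Finsupp.finsetSum_apply]
  have : ∀ P' ∈ D.support, (D P' • conormP K' P') Q = if P' = P then (e : ℤ) * D P else 0 := by
    intro P' _
    rw [Finsupp.smul_apply, conormP_apply hK, smul_eq_mul]
    by_cases hP' : P' = P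
    · subst hP'
      rw [if_pos (show IsOver Q P' from ⟨e, he⟩), if_pos rfl, ramIdx_eq he, mul_comm]
    · rw [if_neg hP', if_neg (fun h : IsOver Q P' => hP' (isOver_unique h ⟨e, he⟩)), mul_zero]
  rw [Finset.sum_congr rfl this, Finset.sum_ite_eq']
  split_ifs with hP
  · rfl
  · rw [Finsupp.notMem_support_iff.mp hP, mul_zero]

theorem div_algebraMap_eq_conorm [FiniteDimensional K K'] (hK : IsFunctionField k K) (x : K) :
    FunFld.div k (algebraMap K K' x) = conorm K' (FunFld.div k x) := by
  have hK' : IsFF k K' := isFF_of_finite hK.1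
  ext Q
  obtain ⟨P, e, he⟩ := exists_isOverWith hK.1 Q
  rw [conorm_apply hK _ he, div_apply hK', FF.div_apply hK]
  by_cases hx0 : x = 0
  · rw [hx0, map_zero, ord_zero, FF.ord_zero, mul_zero]
  · have h1 := he x
    rw [FF.val_eq_exp_neg_ord P hx0, ← WithZero.exp_nsmul] at h1
    rw [ord_eq_of_val_eq Q h1]
    simp only [nsmul_eq_mul, mul_neg, neg_neg]

end Groth.Agent.Helper5.FG
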