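import Mathlib
import Groth.Agent.Helper5.FGExt2
set_option autoImplicit false
open FunFld Polynomial
open scoped IntermediateField

namespace Groth.Agent.Helper5.FG

section
variable {k K : Type*} [Field k] [Field K] [Algebra k K]

theorem isUnit_iff_val_eq_one (P : Place k K) (a : P.O) : IsUnit a ↔ P.1 (a : K) = 1 := by
  have h1 := ValuationSubring.valuation_eq_one_iff P.O a
  have h2 := (Valuation.isEquiv_valuation_valuationSubring P.1).eq_one_iff_eq_one (x := (a : K))
  exact h1.trans h2.symm

end

variable {k K K' : Type*} [Field k] [Field K] [Field K'] [Algebra k K] [Algebra K K']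
  [Algebra k K'] [IsScalarTower k K K']

/-- the ring homomorphism of valuation rings for a place over another -/
def isOverRingHom {Q : Place k K'} {P : Place k K} {e : ℕ} (he : IsOverWith Q P e) : P.O →+* Q.O where
  toFun x := ⟨algebraMap K K' x.1, by
    show Q.1 _ ≤ 1
    rw [he]; exact pow_le_one₀ zero_le x.2⟩
  map_one' := Subtype.ext (map_one _)
  map_mul' x y := Subtype.ext (map_mul _ _ _)
  map_zero' := Subtype.ext (map_zero _)
  map_add' x y := Subtype.ext (map_add _ _ _)

omit [IsScalarTower k K K'] in
theorem isLocalHom_isOverRingHom {Q : Place k K'} {P : Place k K} {e : ℕ} (he : IsOverWith Q P e) :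
    IsLocalHom (isOverRingHom he) := by
  refine ⟨fun a ha => ?_⟩
  rw [isUnit_iff_val_eq_one] at ha ⊢
  have h1 : Q.1 (algebraMap K K' (a : K)) = 1 := ha
  rw [he] at h1
  exact (pow_eq_one_iff_of_nonneg zero_le (isOverWith_pos he)).mp h1

theorem deg_le_of_isOverWith (hK' : IsFF k K') {Q : Place k K'} {P : Place k K} {e : ℕ}
    (he : IsOverWith Q P e) : P.deg ≤ Q.deg := by
  unfold Place.deg
  haveI := isLocalHom_isOverRingHom he
  haveI := finiteDimensional_residueField hK' Q
  let ε := IsLocalRing.ResidueField.map (isOverRingHom he)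
  have hsmul : ∀ (c : k) (a : IsLocalRing.ResidueField P.O), ε (c • a) = c • ε a := by
    intro c a
    have h1 : c • a = IsLocalRing.residue _ (algebraMap k P.O c) * a := by
      rw [Algebra.smul_def]; rfl
    have h2 : c • ε a = IsLocalRing.residue _ (algebraMap k Q.O c) * ε a := by
      rw [Algebra.smul_def]; rfl
    rw [h1, h2, map_mul]
    congr 1
    show IsLocalRing.ResidueField.map _ (IsLocalRing.residue _ _) = _
    rw [IsLocalRing.ResidueField.map_residue]
    congr 1
    apply Subtype.ext
    show algebraMap K K' (algebraMap k K c) = algebraMap k K' c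
    rw [← IsScalarTower.algebraMap_apply]
  let f : IsLocalRing.ResidueField P.O →ₗ[k] IsLocalRing.ResidueField Q.O :=
    { toFun := ε, map_add' := map_add ε, map_smul' := hsmul }
  exact LinearMap.finrank_le_finrank_of_injective (f := f) ε.injective

end Groth.Agent.Helper5.FG
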