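import Mathlib
import Groth.Agent.Helper5.FGExt3
set_option autoImplicit false
open FunFld Polynomial
open scoped IntermediateField

namespace Groth.Agent.Helper5.FG

variable {k K K' : Type*} [Field k] [Field K] [Field K'] [Algebra k K] [Algebra K K']
  [Algebra k K'] [IsScalarTower k K K']

omit [IsScalarTower k K K'] in
theorem algebraMap_O_apply (P : Place k K) [Algebra P.O K'] [IsScalarTower P.O K K'] (a : P.O) :
    algebraMap P.O K' a = algebraMap K K' (a : K) :=
  IsScalarTower.algebraMap_apply P.O K K' a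

omit [IsScalarTower k K K'] in
/-- integral over `O_P` implies in `O_Q` for all `Q | P` -/
theorem val_le_one_of_isIntegral {P : Place k K} [Algebra P.O K'] [IsScalarTower P.O K K']
    {Q : Place k K'} (hQ : IsOver Q P) {z : K'} (hz : IsIntegral P.O z) : Q.1 z ≤ 1 := by
  obtain ⟨e, he⟩ := hQ
  have hcoef : ∀ a : P.O, Q.1 (algebraMap P.O K' a) ≤ 1 := by
    intro a
    rw [algebraMap_O_apply, he]
    exact pow_le_one₀ zero_le a.2
  obtain ⟨f, hm, hf⟩ := hz
  by_cases hn : f.natDegree = 0
  · rw [Polynomial.natDegree_eq_zero] at hn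
    obtain ⟨c, rfl⟩ := hn
    have hc : c = 1 := by simpa using hm.leadingCoeff
    subst hc
    simp at hf
  simp only [Polynomial.eval₂_eq_sum_range, Finset.sum_range_succ, hm.coeff_natDegree, map_one,
    one_mul, add_eq_zero_iff_eq_neg] at hf
  apply_fun Q.1 at hf
  simp only [Valuation.map_neg, map_pow] at hf
  contrapose! hf
  refine ne_of_lt (Q.1.map_sum_lt ?_ ?_)
  · simp [hn, (hf.trans' (zero_lt_one)).ne']
  · simp only [Finset.mem_range, map_mul, map_pow]
    intro _ hi
    exact mul_lt_of_le_one_of_lt (hcoef _) <| pow_lt_pow_right₀ hf hi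

/-- in `O_Q` for all `Q | P` implies integral over `O_P` -/
theorem isIntegral_of_forall_val_le_one [FiniteDimensional K K'] (hK : IsFF k K) (P : Place k K)
    [Algebra P.O K'] [IsScalarTower P.O K K'] {z : K'}
    (h : ∀ Q : Place k K', IsOver Q P → Q.1 z ≤ 1) : IsIntegral P.O z := by
  by_contra hz
  have hzB : z ∉ (integralClosure P.O K').toSubring := hz
  obtain ⟨V, hV, hzV⟩ := Subring.exists_le_valuationSubring_of_isIntegrallyClosedIn hzB
  have hK' : IsFF k K' := isFF_of_finite hK
  have hOV : ∀ a : P.O, algebraMap P.O K' a ∈ V := fun a =>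
    hV (show algebraMap P.O K' a ∈ integralClosure P.O K' from isIntegral_algebraMap)
  have hk : ∀ c : k, algebraMap k K' c ∈ V := by
    intro c
    have := hOV (algebraMap k P.O c)
    rw [algebraMap_O_apply] at this
    rw [IsScalarTower.algebraMap_apply k K K']
    exact this
  have hz0 : z ≠ 0 := by rintro rfl; exact hzV V.zero_mem
  have hvz : 1 < V.valuation z := by
    rw [← not_le, V.valuation_le_one_iff]; exact hzV
  have hvz' : V.valuation z⁻¹ < 1 := by
    rw [map_inv₀]; exact inv_lt_one_of_one_lt₀ hvz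
  obtain ⟨Q, hQ1, hQ2⟩ := exists_place_of_valuationSubring hK' V hk (inv_ne_zero hz0) hvz'
  obtain ⟨P', e, he⟩ := exists_isOverWith hK Q
  have hPP : P = P' := by
    apply eq_of_O_le
    intro y hy
    have h1 := hQ1 _ (hOV ⟨y, hy⟩)
    rw [algebraMap_O_apply, he] at h1
    exact (pow_le_one_iff_of_nonneg zero_le (isOverWith_pos he)).mp h1
  subst hPP
  have h1 := h Q ⟨e, he⟩
  have h2 := hQ2 _ hvz'
  rw [map_inv₀] at h2
  have h3 : 1 < Q.1 z := by
    have hpos : 0 < Q.1 z := zero_lt_iff.mpr (Q.1.ne_zero_iff.mpr hz0)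
    exact (inv_lt_one₀ hpos).mp h2
  exact absurd h1 (not_le.mpr h3)

end Groth.Agent.Helper5.FG
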