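import Mathlib
import Groth.Agent.Helper5.FGInt
set_option autoImplicit false
open FunFld Polynomial
open scoped IntermediateField

namespace Groth.Agent.Helper5.FG

variable {k K K' : Type*} [Field k] [Field K] [Field K'] [Algebra k K] [Algebra K K']
  [Algebra k K'] [IsScalarTower k K K']

omit [IsScalarTower k K K'] in
theorem val_algebraMap_le_one {Q : Place k K'} {P : Place k K} {e : ℕ} (he : IsOverWith Q P e)
    {r : K} (hr : P.1 r ≤ 1) : Q.1 (algebraMap K K' r) ≤ 1 := by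
  rw [he]; exact pow_le_one₀ zero_le hr

omit [IsScalarTower k K K'] in
theorem val_algebraMap_le_exp {Q : Place k K'} {P : Place k K} {e : ℕ} (he : IsOverWith Q P e)
    {r : K} (hr : P.1 r < 1) : Q.1 (algebraMap K K' r) ≤ WithZero.exp (-(e : ℤ)) := by
  rw [he]
  calc P.1 r ^ e ≤ WithZero.exp (-1 : ℤ) ^ e := pow_le_pow_left₀ zero_le (le_exp_neg_one_of_lt_one hr) e
    _ = WithZero.exp (-(e : ℤ)) := by rw [← WithZero.exp_nsmul]; congr 1; simp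

omit [IsScalarTower k K K'] in
/-- local independence modulo the maximal ideal of `P` -/
theorem exists_local_indep (P : Place k K) (T : Finset (Place k K')) (e f : Place k K' → ℕ)
    (he : ∀ Q ∈ T, IsOverWith Q P (e Q)) (s : ∀ Q : Place k K', Fin (f Q) → K')
    (hs1 : ∀ Q ∈ T, ∀ j, Q.1 (s Q j) ≤ 1)
    (hs2 : ∀ Q ∈ T, ∀ r : Fin (f Q) → K, (∀ j, P.1 (r j) ≤ 1) →
      Q.1 (∑ j, algebraMap K K' (r j) * s Q j) < 1 → ∀ j, P.1 (r j) < 1) :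
    ∃ u : (Σ Q : {Q // Q ∈ T}, Fin (f Q.1) × Fin (e Q.1)) → K',
      (∀ idx, ∀ Q ∈ T, Q.1 (u idx) ≤ 1) ∧
      ∀ r : (Σ Q : {Q // Q ∈ T}, Fin (f Q.1) × Fin (e Q.1)) → K, (∀ idx, P.1 (r idx) ≤ 1) →
        (∀ Q ∈ T, Q.1 (∑ idx, algebraMap K K' (r idx) * u idx) ≤ WithZero.exp (-(e Q : ℤ))) →
        ∀ idx, P.1 (r idx) < 1 := by
  classical
  choose t ht using fun Q : Place k K' => exists_uniformizer Q
  obtain ⟨R, hR_def⟩ : ∃ R : ℕ, R = 1 + ∑ Q ∈ T, e Q := ⟨_, rfl⟩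
  have hRe : ∀ Q ∈ T, e Q < R := by
    intro Q hQ
    have := Finset.single_le_sum (f := e) (fun _ _ => Nat.zero_le _) hQ
    omega
  let ι := Σ Q : {Q // Q ∈ T}, Fin (f Q.1) × Fin (e Q.1)
  have hu : ∀ idx : ι, ∃ u : K',
      idx.1.1.1 (u - t idx.1.1 ^ (idx.2.2 : ℕ) * s idx.1.1 idx.2.1) < WithZero.exp (-(R : ℤ)) ∧
      ∀ Q' ∈ T, Q' ≠ idx.1.1 → Q'.1 u < WithZero.exp (-(R : ℤ)) := by
    intro idx
    obtain ⟨z, hz⟩ := weak_approx T
      (fun Q' => if Q' = idx.1.1 then t idx.1.1 ^ (idx.2.2 : ℕ) * s idx.1.1 idx.2.1 else 0) R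
    refine ⟨z, ?_, ?_⟩
    · have := hz idx.1.1 idx.1.2
      rwa [if_pos rfl] at this
    · intro Q' hQ' hne
      have := hz Q' hQ'
      rwa [if_neg hne, sub_zero] at this
  choose u hu1 hu2 using hu
  -- valuation of `t^a s`
  have hts : ∀ (Q : {Q // Q ∈ T}) (j : Fin (f Q.1)) (a : ℕ),
      Q.1.1 (t Q.1 ^ a * s Q.1 j) ≤ WithZero.exp (-(a : ℤ)) := by
    intro Q j a
    rw [map_mul, map_pow, ht, ← WithZero.exp_nsmul]
    calc WithZero.exp (a • (-1 : ℤ)) * Q.1.1 (s Q.1 j)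
        ≤ WithZero.exp (a • (-1 : ℤ)) * 1 := by gcongr; exact hs1 Q.1 Q.2 j
      _ = WithZero.exp (-(a : ℤ)) := by rw [mul_one]; congr 1; simp
  have huv : ∀ (Q : {Q // Q ∈ T}) (j : Fin (f Q.1)) (a : Fin (e Q.1)),
      Q.1.1 (u ⟨Q, j, a⟩) ≤ WithZero.exp (-((a : ℕ) : ℤ)) := by
    intro Q j a
    have hδ := hu1 ⟨Q, j, a⟩
    simp only at hδ
    have haR : ((a : ℕ) : ℤ) < R := by have := hRe Q.1 Q.2; have := a.2; omega
    have : u ⟨Q, j, a⟩ = (u ⟨Q, j, a⟩ - t Q.1 ^ (a : ℕ) * s Q.1 j) + t Q.1 ^ (a : ℕ) * s Q.1 j := by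
      ring
    rw [this]
    apply Valuation.map_add_le _ _ (hts Q j a)
    exact (val_lt_exp_of_lt_of_le hδ (by omega)).le
  refine ⟨u, ?_, ?_⟩
  · rintro ⟨Q, j, a⟩ Q' hQ'
    by_cases hQQ : Q' = Q.1
    · subst hQQ
      refine (huv Q j a).trans ?_
      rw [← WithZero.exp_zero, WithZero.exp_le_exp]
      omega
    · refine (hu2 ⟨Q, j, a⟩ Q' hQ' hQQ).le.trans ?_
      rw [← WithZero.exp_zero, WithZero.exp_le_exp]
      omega
  intro r hr hsum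
  by_contra hcon
  push Not at hcon
  obtain ⟨⟨Q, j₀, a₀'⟩, hidx₀⟩ := hcon
  have hex : ∃ a : ℕ, ∃ (h : a < e Q.1) (j : Fin (f Q.1)), ¬ P.1 (r ⟨Q, j, ⟨a, h⟩⟩) < 1 :=
    ⟨a₀'.1, a₀'.2, j₀, not_lt.mpr hidx₀⟩
  obtain ⟨a₀, ha₀_def⟩ : ∃ a₀, a₀ = Nat.find hex := ⟨_, rfl⟩
  obtain ⟨ha₀, j₁, hj₁⟩ : ∃ (h : a₀ < e Q.1) (j : Fin (f Q.1)), ¬ P.1 (r ⟨Q, j, ⟨a₀, h⟩⟩) < 1 :=
    ha₀_def ▸ Nat.find_spec hex
  have hmin : ∀ a : ℕ, a < a₀ → ∀ (h : a < e Q.1) (j : Fin (f Q.1)), P.1 (r ⟨Q, j, ⟨a, h⟩⟩) < 1 := by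
    intro a ha h j
    by_contra hne
    exact Nat.find_min hex (ha₀_def ▸ ha) ⟨h, j, hne⟩
  have heQ := he Q.1 Q.2
  have hR : (a₀ : ℤ) < R := by have := hRe Q.1 Q.2; omega
  let corr : ι → K' := fun idx => if idx.1 = Q ∧ (idx.2.2 : ℕ) = a₀ then
    algebraMap K K' (r idx) * (t idx.1.1 ^ a₀ * s idx.1.1 idx.2.1) else 0
  have hA : Q.1.1 (∑ idx, corr idx) = WithZero.exp (-(a₀ : ℤ)) := by
    have h1 : ∑ idx, corr idx = ∑ j : Fin (f Q.1),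
        algebraMap K K' (r ⟨Q, j, ⟨a₀, ha₀⟩⟩) * (t Q.1 ^ a₀ * s Q.1 j) := by
      rw [Fintype.sum_sigma, Finset.sum_eq_single Q]
      · rw [Fintype.sum_prod_type]
        apply Finset.sum_congr rfl
        intro j _
        rw [Finset.sum_eq_single ⟨a₀, ha₀⟩]
        · simp [corr]
        · intro a _ hne
          have : (a : ℕ) ≠ a₀ := fun h => hne (Fin.ext h)
          simp [corr, this]
        · simp
      · intro Q' _ hne
        apply Finset.sum_eq_zero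
        intro ja _
        simp [corr, hne]
      · simp
    obtain ⟨σ, hσ_def⟩ : ∃ σ : K', σ = ∑ j, algebraMap K K' (r ⟨Q, j, ⟨a₀, ha₀⟩⟩) * s Q.1 j :=
      ⟨_, rfl⟩
    have hσle : Q.1.1 σ ≤ 1 := by
      rw [hσ_def]
      apply Valuation.map_sum_le
      intro j _
      rw [map_mul]
      exact mul_le_one₀ (val_algebraMap_le_one heQ (hr _)) zero_le (hs1 Q.1 Q.2 j)
    have hσv : Q.1.1 σ = 1 := by
      apply le_antisymm hσle
      rw [← not_lt]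
      intro hlt
      rw [hσ_def] at hlt
      exact hj₁ (hs2 Q.1 Q.2 (fun j => r ⟨Q, j, ⟨a₀, ha₀⟩⟩) (fun j => hr _) hlt j₁)
    have h3 : ∑ j : Fin (f Q.1),
        algebraMap K K' (r ⟨Q, j, ⟨a₀, ha₀⟩⟩) * (t Q.1 ^ a₀ * s Q.1 j) = t Q.1 ^ a₀ * σ := by
      rw [hσ_def, Finset.mul_sum]
      apply Finset.sum_congr rfl
      intro j _
      ring
    rw [h1, h3, map_mul, map_pow, ht, hσv, mul_one, ← WithZero.exp_nsmul]
    congr 1
    simp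
  have hB : Q.1.1 (∑ idx, (algebraMap K K' (r idx) * u idx - corr idx)) < WithZero.exp (-(a₀ : ℤ)) := by
    apply Valuation.map_sum_lt _ WithZero.exp_ne_zero
    rintro ⟨Q', j, a⟩ -
    have hrv : Q.1.1 (algebraMap K K' (r ⟨Q', j, a⟩)) ≤ 1 := val_algebraMap_le_one heQ (hr _)
    by_cases hQ' : Q' = Q
    · subst hQ'
      have hδ := hu1 ⟨Q', j, a⟩
      simp only at hδ
      have huv' := huv Q' j a
      rcases lt_trichotomy (a : ℕ) a₀ with hlt | heq | hgt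
      · have hc : P.1 (r ⟨Q', j, a⟩) < 1 := hmin a hlt a.2 j
        have hcorr : corr ⟨Q', j, a⟩ = 0 := by simp [corr, hlt.ne]
        rw [hcorr, sub_zero, map_mul]
        calc Q'.1.1 (algebraMap K K' (r ⟨Q', j, a⟩)) * Q'.1.1 (u ⟨Q', j, a⟩)
            ≤ WithZero.exp (-(e Q'.1 : ℤ)) * WithZero.exp (-((a : ℕ) : ℤ)) := by
              gcongr
              exact val_algebraMap_le_exp heQ hc
          _ = WithZero.exp (-(e Q'.1 : ℤ) + -((a : ℕ) : ℤ)) := by rw [WithZero.exp_add]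
          _ < WithZero.exp (-(a₀ : ℤ)) := by rw [WithZero.exp_lt_exp]; omega
      · have hcorr : corr ⟨Q', j, a⟩ = algebraMap K K' (r ⟨Q', j, a⟩) *
            (t Q'.1 ^ a₀ * s Q'.1 j) := by simp [corr, heq]
        rw [heq] at hδ
        have hsplit : algebraMap K K' (r ⟨Q', j, a⟩) * u ⟨Q', j, a⟩ - corr ⟨Q', j, a⟩ =
            algebraMap K K' (r ⟨Q', j, a⟩) * (u ⟨Q', j, a⟩ - t Q'.1 ^ a₀ * s Q'.1 j) := by
          rw [hcorr]; ring
        rw [hsplit, map_mul]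
        calc Q'.1.1 (algebraMap K K' (r ⟨Q', j, a⟩)) *
              Q'.1.1 (u ⟨Q', j, a⟩ - t Q'.1 ^ a₀ * s Q'.1 j)
            ≤ 1 * Q'.1.1 (u ⟨Q', j, a⟩ - t Q'.1 ^ a₀ * s Q'.1 j) := by gcongr
          _ = Q'.1.1 (u ⟨Q', j, a⟩ - t Q'.1 ^ a₀ * s Q'.1 j) := one_mul _
          _ < WithZero.exp (-(a₀ : ℤ)) := val_lt_exp_of_lt_of_le hδ (by omega)
      · have hcorr : corr ⟨Q', j, a⟩ = 0 := by simp [corr, hgt.ne']
        rw [hcorr, sub_zero, map_mul]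
        calc Q'.1.1 (algebraMap K K' (r ⟨Q', j, a⟩)) * Q'.1.1 (u ⟨Q', j, a⟩)
            ≤ 1 * WithZero.exp (-((a : ℕ) : ℤ)) := by gcongr
          _ = WithZero.exp (-((a : ℕ) : ℤ)) := one_mul _
          _ < WithZero.exp (-(a₀ : ℤ)) := by rw [WithZero.exp_lt_exp]; omega
    · have hcorr : corr ⟨Q', j, a⟩ = 0 := by simp [corr, hQ']
      have hne : Q.1 ≠ Q'.1 := fun h => hQ' (Subtype.ext h.symm)
      have h2 := hu2 ⟨Q', j, a⟩ Q.1 Q.2 hne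
      rw [hcorr, sub_zero, map_mul]
      calc Q.1.1 (algebraMap K K' (r ⟨Q', j, a⟩)) * Q.1.1 (u ⟨Q', j, a⟩)
          ≤ 1 * Q.1.1 (u ⟨Q', j, a⟩) := by gcongr
        _ = Q.1.1 (u ⟨Q', j, a⟩) := one_mul _
        _ < WithZero.exp (-(a₀ : ℤ)) := val_lt_exp_of_lt_of_le h2 (by omega)
  have htot : ∑ idx, algebraMap K K' (r idx) * u idx =
      ∑ idx, corr idx + ∑ idx, (algebraMap K K' (r idx) * u idx - corr idx) := by
    rw [Finset.sum_sub_distrib]; ring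
  have hfin : Q.1.1 (∑ idx, corr idx + ∑ idx, (algebraMap K K' (r idx) * u idx - corr idx)) =
      Q.1.1 (∑ idx, corr idx) :=
    Valuation.map_add_eq_of_lt_left Q.1.1 (by rw [hA]; exact hB)
  have h5 := hsum Q.1 Q.2
  rw [htot, hfin, hA, WithZero.exp_le_exp] at h5
  omega

end Groth.Agent.Helper5.FG
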