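import Mathlib
import Groth.Agent.Helper5.FGLocInd
set_option autoImplicit false
open FunFld Polynomial
open scoped IntermediateField

namespace Groth.Agent.Helper5.FG

variable {k K K' : Type*} [Field k] [Field K] [Field K'] [Algebra k K] [Algebra K K']
  [Algebra k K'] [IsScalarTower k K K']

/-- residue data of a place over another -/
theorem exists_residue_basis (hK' : IsFF k K') {Q : Place k K'} {P : Place k K} {e : ℕ}
    (he : IsOverWith Q P e) :
    ∃ (f : ℕ) (s : Fin f → K'), f * P.deg = Q.deg ∧ (∀ j, Q.1 (s j) ≤ 1) ∧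
      ∀ r : Fin f → K, (∀ j, P.1 (r j) ≤ 1) →
        Q.1 (∑ j, algebraMap K K' (r j) * s j) < 1 → ∀ j, P.1 (r j) < 1 := by
  haveI := isLocalHom_isOverRingHom he
  haveI := finiteDimensional_residueField hK' Q
  let ε := IsLocalRing.ResidueField.map (isOverRingHom he)
  letI alg : Algebra (IsLocalRing.ResidueField P.O) (IsLocalRing.ResidueField Q.O) := ε.toAlgebra
  have tower : IsScalarTower k (IsLocalRing.ResidueField P.O) (IsLocalRing.ResidueField Q.O) := by
    apply IsScalarTower.of_algebraMap_eq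
    intro c
    show IsLocalRing.residue _ (algebraMap k Q.O c) =
      IsLocalRing.ResidueField.map (isOverRingHom he) (IsLocalRing.residue _ (algebraMap k P.O c))
    rw [IsLocalRing.ResidueField.map_residue]
    congr 1
    apply Subtype.ext
    show algebraMap k K' c = algebraMap K K' (algebraMap k K c)
    rw [← IsScalarTower.algebraMap_apply]
  haveI : FiniteDimensional (IsLocalRing.ResidueField P.O) (IsLocalRing.ResidueField Q.O) :=
    @FiniteDimensional.right k _ _ _ _ _ _ _ _ tower _
  let b := Module.finBasis (IsLocalRing.ResidueField P.O) (IsLocalRing.ResidueField Q.O)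
  choose s hs using fun j => IsLocalRing.residue_surjective (R := Q.O) (b j)
  refine ⟨_, fun j => (s j : K'), ?_, fun j => (s j).2, ?_⟩
  · unfold Place.deg
    rw [mul_comm]
    exact @Module.finrank_mul_finrank k (IsLocalRing.ResidueField P.O) (IsLocalRing.ResidueField Q.O)
      _ _ _ _ _ _ tower _ _ _ _
  · intro r hr hlt j
    obtain ⟨σ, hσ_def⟩ : ∃ σ : Q.O, σ = ∑ j, isOverRingHom he ⟨r j, hr j⟩ * s j := ⟨_, rfl⟩
    have hσ : (σ : K') = ∑ j, algebraMap K K' (r j) * (s j : K') := by
      rw [hσ_def, AddSubmonoidClass.coe_finsetSum]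
      rfl
    have h1 : IsLocalRing.residue Q.O σ = 0 := (residue_eq_zero_iff Q σ).mpr (hσ ▸ hlt)
    have h2 : ∑ j, (IsLocalRing.residue P.O ⟨r j, hr j⟩) • b j = 0 := by
      rw [← h1, hσ_def, map_sum]
      apply Finset.sum_congr rfl
      intro j _
      rw [map_mul, hs, Algebra.smul_def]
      congr 1
    have h3 := Fintype.linearIndependent_iff.mp b.linearIndependent _ h2 j
    exact (residue_eq_zero_iff P _).mp h3

theorem integralClosure_finite [FiniteDimensional K K'] (hK : IsFunctionField k K) (P : Place k K)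
    [Algebra P.O K'] [IsScalarTower P.O K K'] : Module.Finite P.O (integralClosure P.O K') := by
  classical
  have hK' : IsFF k K' := isFF_of_finite hK.1
  obtain ⟨hfin, hsum⟩ := finite_isOver_and_sum (K' := K') hK P
  obtain ⟨T, hT_def⟩ : ∃ T, T = hfin.toFinset := ⟨_, rfl⟩
  have hT : ∀ Q, Q ∈ T ↔ IsOver Q P := by intro Q; rw [hT_def]; simp
  have hsum' := hsum T hT
  let e : Place k K' → ℕ := fun Q => ramIdx Q P
  have he : ∀ Q ∈ T, IsOverWith Q P (e Q) := by
    intro Q hQ
    obtain ⟨e', he'⟩ := (hT Q).mp hQ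
    have : e Q = e' := ramIdx_eq he'
    rw [this]; exact he'
  have hres : ∀ Q : Place k K', ∃ (f : ℕ) (s : Fin f → K'), Q ∈ T →
      (f * P.deg = Q.deg ∧ (∀ j, Q.1 (s j) ≤ 1) ∧
      ∀ r : Fin f → K, (∀ j, P.1 (r j) ≤ 1) →
        Q.1 (∑ j, algebraMap K K' (r j) * s j) < 1 → ∀ j, P.1 (r j) < 1) := by
    intro Q
    by_cases hQ : Q ∈ T
    · obtain ⟨f, s, h⟩ := exists_residue_basis hK' (he Q hQ)
      exact ⟨f, s, fun _ => h⟩
    · exact ⟨0, Fin.elim0, fun h => absurd h hQ⟩
  choose f s hfs using hres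
  obtain ⟨u, hu1, hu2⟩ := exists_local_indep P T e f he s (fun Q hQ => (hfs Q hQ).2.1)
    (fun Q hQ => (hfs Q hQ).2.2)
  haveI := finiteDimensional_residueField hK.1 P
  have hdegP : 0 < P.deg := Module.finrank_pos
  have hcard : Fintype.card (Σ Q : {Q // Q ∈ T}, Fin (f Q.1) × Fin (e Q.1)) =
      Module.finrank K K' := by
    have h1 : Fintype.card (Σ Q : {Q // Q ∈ T}, Fin (f Q.1) × Fin (e Q.1)) =
        ∑ Q ∈ T, f Q * e Q := by
      rw [← Finset.sum_coe_sort T (fun Q => f Q * e Q)]
      simp [Fintype.card_sigma]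
    rw [h1]
    apply Nat.eq_of_mul_eq_mul_right hdegP
    rw [← hsum', Finset.sum_mul]
    apply Finset.sum_congr rfl
    intro Q hQ
    have := (hfs Q hQ).1
    show f Q * e Q * P.deg = ramIdx Q P * Q.deg
    rw [← this]
    show f Q * ramIdx Q P * P.deg = ramIdx Q P * (f Q * P.deg)
    ring
  have hint : ∀ idx, IsIntegral P.O (u idx) := fun idx =>
    isIntegral_of_forall_val_le_one hK.1 P (fun Q hQ => hu1 idx Q ((hT Q).mpr hQ))
  -- a general scaling argument
  have hscale : ∀ c : (Σ Q : {Q // Q ∈ T}, Fin (f Q.1) × Fin (e Q.1)) → K, ∀ j, c j ≠ 0 →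
      (∀ i, P.1 (c i) ≤ P.1 (c j)) →
      (∀ Q ∈ T, Q.1 (algebraMap K K' (c j)⁻¹ * ∑ i, c i • u i) ≤ WithZero.exp (-(e Q : ℤ))) →
      False := by
    intro c j hcj hmax hval
    have hpos : 0 < P.1 (c j) := zero_lt_iff.mpr (P.1.ne_zero_iff.mpr hcj)
    have h1 := hu2 (fun i => c i / c j) (fun i => by
      rw [map_div₀]; exact (div_le_one₀ hpos).mpr (hmax i)) (fun Q hQ => by
      have : ∑ i, algebraMap K K' (c i / c j) * u i = algebraMap K K' (c j)⁻¹ * ∑ i, c i • u i := by
        rw [Finset.mul_sum]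
        apply Finset.sum_congr rfl
        intro i _
        rw [Algebra.smul_def, div_eq_mul_inv, map_mul]
        ring
      rw [this]; exact hval Q hQ) j
    rw [div_self hcj, map_one] at h1
    exact lt_irrefl _ h1
  have hli : LinearIndependent K u := by
    rw [Fintype.linearIndependent_iff]
    intro c hc
    by_contra hne
    push Not at hne
    obtain ⟨i₀, hi₀⟩ := hne
    obtain ⟨j, -, hj⟩ := Finset.exists_max_image Finset.univ (fun i => P.1 (c i)) ⟨i₀, Finset.mem_univ _⟩
    have hcj : c j ≠ 0 := by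
      intro h0
      have := hj i₀ (Finset.mem_univ _)
      rw [h0, map_zero] at this
      exact hi₀ (P.1.zero_iff.mp (le_antisymm this zero_le))
    refine hscale c j hcj (fun i => hj i (Finset.mem_univ _)) (fun Q hQ => ?_)
    rw [hc, mul_zero, map_zero]
    exact zero_le
  haveI : Nonempty (Σ Q : {Q // Q ∈ T}, Fin (f Q.1) × Fin (e Q.1)) := by
    apply Fintype.card_pos_iff.mp
    rw [hcard]; exact Module.finrank_pos
  let b := basisOfLinearIndependentOfCardEqFinrank hli hcard
  have hb : ∀ i, b i = u i := fun i => by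
    show basisOfLinearIndependentOfCardEqFinrank hli hcard i = u i
    rw [coe_basisOfLinearIndependentOfCardEqFinrank]
  have hcoef : ∀ x : K', IsIntegral P.O x → ∀ i, P.1 (b.repr x i) ≤ 1 := by
    intro x hx
    by_contra hne
    push Not at hne
    obtain ⟨i₀, hi₀⟩ := hne
    obtain ⟨j, -, hj⟩ := Finset.exists_max_image Finset.univ (fun i => P.1 (b.repr x i))
      ⟨i₀, Finset.mem_univ _⟩
    have hj1 : 1 < P.1 (b.repr x j) := hi₀.trans_le (hj i₀ (Finset.mem_univ _))
    have hcj : b.repr x j ≠ 0 := by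
      intro h0
      rw [h0, map_zero] at hj1
      exact absurd hj1 (not_lt.mpr zero_le)
    refine hscale (fun i => b.repr x i) j hcj (fun i => hj i (Finset.mem_univ _)) (fun Q hQ => ?_)
    have hx' : ∑ i, b.repr x i • u i = x := by
      conv_rhs => rw [← b.sum_repr x]
      apply Finset.sum_congr rfl
      intro i _
      rw [hb]
    rw [hx', map_mul]
    have h1 : P.1 (b.repr x j)⁻¹ < 1 := by
      rw [map_inv₀]; exact inv_lt_one_of_one_lt₀ hj1
    calc Q.1 (algebraMap K K' (b.repr x j)⁻¹) * Q.1 x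
        ≤ WithZero.exp (-(e Q : ℤ)) * 1 := by
          gcongr
          · exact val_algebraMap_le_exp (he Q hQ) h1
          · exact val_le_one_of_isIntegral ((hT Q).mp hQ) hx
      _ = WithZero.exp (-(e Q : ℤ)) := mul_one _
  let v : (Σ Q : {Q // Q ∈ T}, Fin (f Q.1) × Fin (e Q.1)) → integralClosure P.O K' :=
    fun i => ⟨u i, hint i⟩
  apply Module.Finite.of_surjective (Fintype.linearCombination P.O v)
  rintro ⟨x, hx⟩
  refine ⟨fun i => ⟨b.repr x i, hcoef x hx i⟩, ?_⟩
  apply Subtype.ext
  rw [Fintype.linearCombination_apply]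
  show (integralClosure P.O K').val (∑ i, _) = x
  rw [map_sum]
  conv_rhs => rw [← b.sum_repr x]
  apply Finset.sum_congr rfl
  intro i _
  rw [hb, map_smul, Algebra.smul_def, algebraMap_O_apply, Algebra.smul_def]
  rfl

end Groth.Agent.Helper5.FG
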