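import Mathlib
import Groth.Agent.Helper5.FGIntFin
import Groth.Agent.Helper5.FFGeom5
set_option autoImplicit false
set_option linter.style.haveILetI false
open FunFld Polynomial TensorProduct
open scoped IntermediateField

namespace Groth.Agent.Helper5.FG

/-- base change of a finite separable field extension is reduced -/
theorem isReduced_tensor_of_separable (k L F : Type*) [Field k] [Field L] [Algebra k L]
    [Field F] [Algebra k F] [FiniteDimensional k F] [Algebra.IsSeparable k F] :
    IsReduced (L ⊗[k] F) := by
  let pb := Field.powerBasisOfFiniteOfSeparable k F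
  set f := minpoly k pb.gen with hfdef
  have hint : IsIntegral k pb.gen := Algebra.IsIntegral.isIntegral _
  have hsep : f.Separable := Algebra.IsSeparable.isSeparable k pb.gen
  let e1 : AdjoinRoot f ≃ₐ[k] F := AdjoinRoot.equiv' f pb (by simp [f]) (minpoly.aeval _ _)
  let q : (L ⊗[k] k)[X] := f.map (Algebra.TensorProduct.includeRight (R := k) (A := L) (B := k)).toRingHom
  let e2 : L ⊗[k] AdjoinRoot f ≃ₐ[L] AdjoinRoot q := AdjoinRoot.tensorAlgEquiv f q rfl
  let r : L ⊗[k] k ≃ₐ[L] L := Algebra.TensorProduct.rid k L L
  have h1 : q.map (r.toRingEquiv : L ⊗[k] k →+* L) = f.map (algebraMap k L) := by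
    simp only [q, Polynomial.map_map]
    congr 1
    ext c
    simp [r, Algebra.algebraMap_eq_smul_one]
  let e5 : AdjoinRoot q ≃+* AdjoinRoot (f.map (algebraMap k L)) :=
    AdjoinRoot.mapRingEquiv r.toRingEquiv q _ (by rw [h1])
  let e4 : L ⊗[k] F ≃ₐ[L] L ⊗[k] AdjoinRoot f :=
    Algebra.TensorProduct.congr AlgEquiv.refl e1.symm
  have hred : IsReduced (AdjoinRoot (f.map (algebraMap k L))) := by
    have h2 : (f.map (algebraMap k L)).Separable := hsep.map
    have h3 : (Ideal.span {f.map (algebraMap k L)}).IsRadical :=
      isRadical_iff_span_singleton.mp h2.squarefree.isRadical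
    exact (Ideal.isRadical_iff_quotient_reduced _).mp h3
  exact isReduced_of_injective ((e4.toRingEquiv.trans e2.toRingEquiv).trans e5)
    ((e4.toRingEquiv.trans e2.toRingEquiv).trans e5).injective

end Groth.Agent.Helper5.FG

namespace Groth.Agent.Helper5.FG

universe u v

section
variable {k k' : Type u} {K K' : Type v} [Field k] [Field k'] [Field K] [Field K']
    [Algebra k k'] [Algebra k K] [Algebra K K'] [Algebra k' K'] [Algebra k K']
    [IsScalarTower k k' K'] [IsScalarTower k K K']

theorem exists_basis_baseChange
    (h : Function.Bijective (Algebra.TensorProduct.productMap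
      (IsScalarTower.toAlgHom k k' K') (IsScalarTower.toAlgHom k K K')))
    {ι : Type*} (β : Module.Basis ι k k') :
    ∃ B' : Module.Basis ι K K', ∀ i, B' i = algebraMap k' K' (β i) := by
  let ψ : K ⊗[k] k' →ₐ[K] K' :=
    Algebra.TensorProduct.productLeftAlgHom (Algebra.ofId K K') (IsScalarTower.toAlgHom k k' K')
  have hψ : Function.Bijective ψ := by
    have : ⇑ψ = ⇑(Algebra.TensorProduct.productMap
      (IsScalarTower.toAlgHom k k' K') (IsScalarTower.toAlgHom k K K')) ∘
        ⇑(Algebra.TensorProduct.comm k K k') := by
      ext z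
      induction z using TensorProduct.induction_on with
      | zero => simp
      | tmul a b => simp [ψ, Algebra.ofId_apply, mul_comm]
      | add x y hx hy => simp only [map_add, hx, hy, Function.comp_apply]
    rw [this]
    exact h.comp (Algebra.TensorProduct.comm k K k').bijective
  refine ⟨(Algebra.TensorProduct.basis K β).map (AlgEquiv.ofBijective ψ hψ).toLinearEquiv, ?_⟩
  intro i
  simp [ψ, Algebra.TensorProduct.basis_apply]

end
end Groth.Agent.Helper5.FG
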