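import Mathlib
import Groth.Agent.Helper5.FGConst1
set_option autoImplicit false
set_option linter.style.haveILetI false
open FunFld Polynomial TensorProduct
open scoped IntermediateField

namespace Groth.Agent.Helper5.FG

universe u v

/-- the inclusion of `O_P` into `K` as a `k`-algebra map -/
def valO {k K : Type*} [Field k] [Field K] [Algebra k K] (P : Place k K) : P.O →ₐ[k] K :=
  { P.O.subtype with commutes' := fun _ => rfl }

section
variable {k k' : Type u} {K K' : Type v} [Field k] [Field k'] [Field K] [Field K']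
    [Algebra k k'] [Algebra k K] [Algebra K K'] [Algebra k' K'] [Algebra k K']
    [IsScalarTower k k' K'] [IsScalarTower k K K']

theorem hred_of_isReduced
    (h : Function.Bijective (Algebra.TensorProduct.productMap
      (IsScalarTower.toAlgHom k k' K') (IsScalarTower.toAlgHom k K K')))
    (P : Place k K) {F : Type*} [Field F] [Algebra k F] (res : P.O →ₐ[k] F)
    (hres : ∀ a : P.O, res a = 0 ↔ P.1 (a : K) < 1) [IsReduced (k' ⊗[k] F)]
    {ι : Type*} [Fintype ι] (β : Module.Basis ι k k')
    (r ρ : ι → K) (hr : ∀ i, P.1 (r i) ≤ 1) (hρ : ∀ i, P.1 (ρ i) < 1) (M : ℕ)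
    (hpow : (∑ i, algebraMap K K' (r i) * algebraMap k' K' (β i)) ^ M =
      ∑ i, algebraMap K K' (ρ i) * algebraMap k' K' (β i)) :
    ∀ i, P.1 (r i) < 1 := by
  classical
  let φ : k' ⊗[k] P.O →ₐ[k] K' := Algebra.TensorProduct.productMap
    (IsScalarTower.toAlgHom k k' K') ((IsScalarTower.toAlgHom k K K').comp (valO P))
  have hφ : Function.Injective φ := by
    have : ⇑φ = ⇑(Algebra.TensorProduct.productMap
      (IsScalarTower.toAlgHom k k' K') (IsScalarTower.toAlgHom k K K')) ∘
        ⇑(Algebra.TensorProduct.map (AlgHom.id k k') (valO P)) := by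
      ext z
      induction z using TensorProduct.induction_on with
      | zero => simp
      | tmul a b => simp [φ]
      | add x y hx hy => simp only [map_add, hx, hy, Function.comp_apply]
    rw [this]
    exact h.1.comp (Module.Flat.lTensor_preserves_injective_linearMap (valO P).toLinearMap
      Subtype.val_injective)
  let π : k' ⊗[k] P.O →ₐ[k] k' ⊗[k] F := Algebra.TensorProduct.map (AlgHom.id k k') res
  obtain ⟨ω, hω_def⟩ : ∃ ω : k' ⊗[k] P.O, ω = ∑ i, β i ⊗ₜ (⟨r i, hr i⟩ : P.O) := ⟨_, rfl⟩
  obtain ⟨ω', hω'_def⟩ : ∃ ω' : k' ⊗[k] P.O, ω' = ∑ i, β i ⊗ₜ (⟨ρ i, (hρ i).le⟩ : P.O) := ⟨_, rfl⟩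
  have hφω : φ ω = ∑ i, algebraMap K K' (r i) * algebraMap k' K' (β i) := by
    rw [hω_def, map_sum]
    apply Finset.sum_congr rfl
    intro i _
    simp only [φ, Algebra.TensorProduct.productMap_apply_tmul, IsScalarTower.coe_toAlgHom',
      AlgHom.comp_apply]
    rw [mul_comm]
    rfl
  have hφω' : φ ω' = ∑ i, algebraMap K K' (ρ i) * algebraMap k' K' (β i) := by
    rw [hω'_def, map_sum]
    apply Finset.sum_congr rfl
    intro i _
    simp only [φ, Algebra.TensorProduct.productMap_apply_tmul, IsScalarTower.coe_toAlgHom',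
      AlgHom.comp_apply]
    rw [mul_comm]
    rfl
  have hωM : ω ^ M = ω' := hφ (by rw [map_pow, hφω, hφω', hpow])
  have hπω' : π ω' = 0 := by
    rw [hω'_def, map_sum]
    apply Finset.sum_eq_zero
    intro i _
    simp only [π, Algebra.TensorProduct.map_tmul]
    rw [(hres _).mpr (hρ i), tmul_zero]
  have hπω : π ω = 0 := by
    have : (π ω) ^ M = 0 := by rw [← map_pow, hωM, hπω']
    exact IsReduced.eq_zero _ ⟨M, this⟩
  intro i
  let coordi : k' ⊗[k] F →ₗ[k] F := (TensorProduct.lid k F).toLinearMap ∘ₗ (β.coord i).rTensor F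
  have h1 : coordi (π ω) = res ⟨r i, hr i⟩ := by
    rw [hω_def, map_sum, map_sum]
    simp only [π, Algebra.TensorProduct.map_tmul, coordi, LinearMap.comp_apply,
      LinearMap.rTensor_tmul, LinearEquiv.coe_coe, TensorProduct.lid_tmul, AlgHom.id_apply,
      Module.Basis.coord_apply, Module.Basis.repr_self, Finsupp.single_apply]
    simp [Finset.sum_ite_eq']
  rw [hπω, map_zero] at h1
  exact (hres _).mp h1.symm

end
end Groth.Agent.Helper5.FG
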