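import Mathlib
import Groth.Agent.Helper5.FGConst2
set_option autoImplicit false
set_option linter.style.haveILetI false
open FunFld Polynomial TensorProduct
open scoped IntermediateField

namespace Groth.Agent.Helper5.FG

universe u v

section
variable {k K K' : Type*} [Field k] [Field K] [Field K'] [Algebra k K] [Algebra K K']
  [Algebra k K'] [IsScalarTower k K K']

theorem exists_pow_mul_val_le_one (P : Place k K) {t : K} (ht : P.1 t = WithZero.exp (-1 : ℤ)) (x : K) :
    ∃ N : ℕ, ∀ N' : ℕ, N ≤ N' → P.1 (t ^ N' * x) ≤ 1 := by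
  by_cases hx : x = 0
  · exact ⟨0, fun N' _ => by rw [hx, mul_zero, map_zero]; exact zero_le_one⟩
  · refine ⟨(-P.ord x).toNat, fun N' hN' => ?_⟩
    rw [map_mul, map_pow, ht, val_eq_exp_neg_ord P hx, ← WithZero.exp_nsmul, ← WithZero.exp_add,
      ← WithZero.exp_zero, WithZero.exp_le_exp]
    have : (-P.ord x) ≤ N' := by
      have := Int.self_le_toNat (-P.ord x)
      omega
    simp only [nsmul_eq_mul, mul_neg, mul_one]
    omega

/-- the conductor: a nonzero `d` multiplying all integral elements into the `O_P`-span of a basis -/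
theorem exists_conductor [FiniteDimensional K K'] (hK : IsFunctionField k K) (P : Place k K)
    [Algebra P.O K'] [IsScalarTower P.O K K'] {ι : Type*} [Fintype ι] (B' : Module.Basis ι K K') :
    ∃ d : K, d ≠ 0 ∧ ∀ y : K', IsIntegral P.O y → ∀ i, P.1 (d * B'.repr y i) ≤ 1 := by
  classical
  haveI := integralClosure_finite hK P (K' := K')
  obtain ⟨S, hS⟩ := (Module.Finite.fg_top : (⊤ : Submodule P.O (integralClosure P.O K')).FG)
  obtain ⟨t, ht⟩ := exists_uniformizer P
  have ht0 : t ≠ 0 := ne_zero_of_val_eq_exp P ht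
  choose Nf hNf using exists_pow_mul_val_le_one P ht
  obtain ⟨N, hN_def⟩ : ∃ N : ℕ, N = (S ×ˢ (Finset.univ : Finset ι)).sup
      (fun p => Nf (B'.repr (p.1 : K') p.2)) := ⟨_, rfl⟩
  refine ⟨t ^ N, pow_ne_zero _ ht0, ?_⟩
  intro y hy
  have hmem : (⟨y, hy⟩ : integralClosure P.O K') ∈ Submodule.span P.O (S : Set (integralClosure P.O K')) := by
    rw [hS]; trivial
  have key : ∀ b : integralClosure P.O K', b ∈ Submodule.span P.O (S : Set (integralClosure P.O K')) →
      ∀ i, P.1 (t ^ N * B'.repr (b : K') i) ≤ 1 := by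
    intro b hb
    induction hb using Submodule.span_induction with
    | mem g hg =>
      intro i
      apply hNf
      rw [hN_def]
      exact Finset.le_sup (f := fun p : (integralClosure P.O K') × ι => Nf (B'.repr (p.1 : K') p.2))
        (b := (g, i)) (Finset.mem_product.mpr ⟨hg, Finset.mem_univ i⟩)
    | zero =>
      intro i
      simp
    | add a b _ _ ha hb =>
      intro i
      have : t ^ N * B'.repr ((a + b : integralClosure P.O K') : K') i =
          t ^ N * B'.repr (a : K') i + t ^ N * B'.repr (b : K') i := by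
        rw [Subalgebra.coe_add, map_add, Finsupp.add_apply, mul_add]
      rw [this]
      exact Valuation.map_add_le _ (ha i) (hb i)
    | smul a b _ hb =>
      intro i
      have h1 : ((a • b : integralClosure P.O K') : K') = (a : K) • (b : K') := by
        rw [Subalgebra.coe_smul, Algebra.smul_def, algebraMap_O_apply, Algebra.smul_def]
      have : t ^ N * B'.repr ((a • b : integralClosure P.O K') : K') i =
          (a : K) * (t ^ N * B'.repr (b : K') i) := by
        rw [h1, map_smul, Finsupp.smul_apply, smul_eq_mul]; ring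
      rw [this, map_mul]
      exact mul_le_one₀ a.2 zero_le (hb i)
  exact key _ hmem

end

section
variable {k k' : Type u} {K K' : Type v} [Field k] [Field k'] [Field K] [Field K']
    [Algebra k k'] [Algebra k K] [Algebra K K'] [Algebra k' K'] [Algebra k K']
    [IsScalarTower k k' K'] [IsScalarTower k K K']

/-- integral elements have coordinates in `O_P`, under the reducedness hypothesis -/
theorem exists_integral_coords [FiniteDimensional k k']
    (h : Function.Bijective (Algebra.TensorProduct.productMap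
      (IsScalarTower.toAlgHom k k' K') (IsScalarTower.toAlgHom k K K')))
    (hK : IsFunctionField k K) (P : Place k K) [Algebra P.O K'] [IsScalarTower P.O K K']
    {ι : Type*} [Fintype ι] (β : Module.Basis ι k k')
    (hred : ∀ (r ρ : ι → K), (∀ i, P.1 (r i) ≤ 1) → (∀ i, P.1 (ρ i) < 1) → ∀ M : ℕ,
      (∑ i, algebraMap K K' (r i) * algebraMap k' K' (β i)) ^ M =
        ∑ i, algebraMap K K' (ρ i) * algebraMap k' K' (β i) → ∀ i, P.1 (r i) < 1)
    (z : K') (hz : IsIntegral P.O z) :
    ∃ c : ι → K, (∀ i, P.1 (c i) ≤ 1) ∧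
      z = ∑ i, algebraMap K K' (c i) * algebraMap k' K' (β i) := by
  classical
  haveI : FiniteDimensional K K' := FF.finite_of_baseChange h
  obtain ⟨B', hB'⟩ := exists_basis_baseChange h β
  have hrepr : ∀ y : K', y = ∑ i, algebraMap K K' (B'.repr y i) * algebraMap k' K' (β i) := by
    intro y
    conv_lhs => rw [← B'.sum_repr y]
    apply Finset.sum_congr rfl
    intro i _
    rw [hB', Algebra.smul_def]
  refine ⟨fun i => B'.repr z i, ?_, hrepr z⟩
  by_contra hne
  push Not at hne
  obtain ⟨i₀, hi₀⟩ := hne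
  obtain ⟨j, -, hj⟩ := Finset.exists_max_image Finset.univ (fun i => P.1 (B'.repr z i))
    ⟨i₀, Finset.mem_univ _⟩
  have hj1 : 1 < P.1 (B'.repr z j) := hi₀.trans_le (hj i₀ (Finset.mem_univ _))
  have hcj : B'.repr z j ≠ 0 := by
    intro h0
    rw [h0, map_zero] at hj1
    exact absurd hj1 (not_lt.mpr zero_le)
  obtain ⟨d, hd0, hd⟩ := exists_conductor hK P B'
  obtain ⟨q, hq_def⟩ : ∃ q : K, q = (B'.repr z j)⁻¹ := ⟨_, rfl⟩
  have hq1 : P.1 q < 1 := by
    rw [hq_def, map_inv₀]; exact inv_lt_one_of_one_lt₀ hj1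
  have hq1' := le_exp_neg_one_of_lt_one hq1
  obtain ⟨M, hM_def⟩ : ∃ M : ℕ, M = (P.ord d).toNat + 1 := ⟨_, rfl⟩
  have hqM : P.1 (q ^ M) < P.1 d := by
    rw [map_pow, val_eq_exp_neg_ord P hd0]
    calc P.1 q ^ M ≤ WithZero.exp (-1 : ℤ) ^ M := pow_le_pow_left₀ zero_le hq1' M
      _ = WithZero.exp (-(M : ℤ)) := by rw [← WithZero.exp_nsmul]; congr 1; simp
      _ < WithZero.exp (-P.ord d) := by
        rw [WithZero.exp_lt_exp]
        have := Int.self_le_toNat (P.ord d)
        omega
  have hpos : 0 < P.1 (B'.repr z j) := zero_lt_iff.mpr (P.1.ne_zero_iff.mpr hcj)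
  have hdpos : 0 < P.1 d := zero_lt_iff.mpr (P.1.ne_zero_iff.mpr hd0)
  have hzM : IsIntegral P.O (z ^ M) := hz.pow M
  have h1 := hred (fun i => q * B'.repr z i) (fun i => q ^ M * B'.repr (z ^ M) i)
    (fun i => by
      rw [hq_def, map_mul, map_inv₀, inv_mul_le_iff₀ hpos, mul_one]
      exact hj i (Finset.mem_univ _))
    (fun i => by
      have : q ^ M * B'.repr (z ^ M) i = (q ^ M / d) * (d * B'.repr (z ^ M) i) := by
        field_simp
      rw [this, map_mul]
      calc P.1 (q ^ M / d) * P.1 (d * B'.repr (z ^ M) i)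
          ≤ P.1 (q ^ M / d) * 1 := by gcongr; exact hd _ hzM i
        _ = P.1 (q ^ M / d) := mul_one _
        _ < 1 := by rw [map_div₀]; exact (div_lt_one₀ hdpos).mpr hqM)
    M (by
      have e1 : ∑ i, algebraMap K K' (q * B'.repr z i) * algebraMap k' K' (β i) =
          algebraMap K K' q * z := by
        conv_rhs => rw [hrepr z, Finset.mul_sum]
        apply Finset.sum_congr rfl
        intro i _
        rw [map_mul]; ring
      have e2 : ∑ i, algebraMap K K' (q ^ M * B'.repr (z ^ M) i) * algebraMap k' K' (β i) =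
          algebraMap K K' (q ^ M) * z ^ M := by
        conv_rhs => rw [hrepr (z ^ M), Finset.mul_sum]
        apply Finset.sum_congr rfl
        intro i _
        rw [map_mul]; ring
      rw [e1, e2, mul_pow, map_pow]) j
  rw [hq_def, inv_mul_cancel₀ hcj, map_one] at h1
  exact lt_irrefl _ h1

end
end Groth.Agent.Helper5.FG
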