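import Mathlib
import Groth.Agent.Helper5.FGConst3
set_option autoImplicit false
set_option linter.style.haveILetI false
open FunFld Polynomial TensorProduct
open scoped IntermediateField

namespace Groth.Agent.Helper5.FG

universe u v

section
variable {k k' : Type u} {K K' : Type v} [Field k] [Field k'] [Field K] [Field K']
    [Algebra k k'] [Algebra k K] [Algebra K K'] [Algebra k' K'] [Algebra k K']
    [IsScalarTower k k' K'] [IsScalarTower k K K']

theorem isIntegral_algebraMap_const [Algebra.IsAlgebraic k k'] (P : Place k K) [Algebra P.O K']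
    [IsScalarTower P.O K K'] (c : k') : IsIntegral P.O (algebraMap k' K' c) := by
  haveI : IsScalarTower k P.O K' := by
    apply IsScalarTower.of_algebraMap_eq
    intro a
    rw [algebraMap_O_apply, IsScalarTower.algebraMap_apply k K K']
    rfl
  have h1 : IsIntegral k c := Algebra.IsIntegral.isIntegral c
  have h2 : IsIntegral k (algebraMap k' K' c) := h1.map (IsScalarTower.toAlgHom k k' K')
  exact h2.tower_top

theorem integralClosure_eq_adjoin [FiniteDimensional k k']
    (h : Function.Bijective (Algebra.TensorProduct.productMap
      (IsScalarTower.toAlgHom k k' K') (IsScalarTower.toAlgHom k K K')))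
    (hK : IsFunctionField k K) (P : Place k K) [Algebra P.O K'] [IsScalarTower P.O K K']
    {F : Type*} [Field F] [Algebra k F] (res : P.O →ₐ[k] F)
    (hres : ∀ a : P.O, res a = 0 ↔ P.1 (a : K) < 1) (hF : IsReduced (k' ⊗[k] F)) :
    (integralClosure P.O K').toSubring =
      (Algebra.adjoin P.O (Set.range (algebraMap k' K'))).toSubring := by
  congr 1
  apply le_antisymm
  · intro z hz
    obtain ⟨c, hc, hzc⟩ := exists_integral_coords h hK P (Module.finBasis k k')
      (fun r ρ hr hρ M hpow => hred_of_isReduced h P res hres (Module.finBasis k k') r ρ hr hρ M hpow)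
      z hz
    rw [hzc]
    apply Subalgebra.sum_mem
    intro i _
    apply Subalgebra.mul_mem
    · have : algebraMap K K' (c i) = algebraMap P.O K' ⟨c i, hc i⟩ := by
        rw [algebraMap_O_apply]
      rw [this]
      exact Subalgebra.algebraMap_mem _ _
    · exact Algebra.subset_adjoin ⟨_, rfl⟩
  · apply Algebra.adjoin_le
    rintro _ ⟨c, rfl⟩
    exact isIntegral_algebraMap_const P c

end
end Groth.Agent.Helper5.FG
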