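import Mathlib
import Groth.Agent.Helper5.FGConst4
set_option autoImplicit false
set_option linter.style.haveILetI false
open FunFld Polynomial TensorProduct
open scoped IntermediateField

namespace Groth.Agent.Helper5.FG

universe u v

section
variable {k k' : Type u} {K K' : Type v} [Field k] [Field k'] [Field K] [Field K']
    [Algebra k k'] [Algebra k K] [Algebra K K'] [Algebra k' K'] [Algebra k K']
    [IsScalarTower k k' K'] [IsScalarTower k K K']

theorem isOverWith_one_of_hred [FiniteDimensional k k']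
    (h : Function.Bijective (Algebra.TensorProduct.productMap
      (IsScalarTower.toAlgHom k k' K') (IsScalarTower.toAlgHom k K K')))
    (hK : IsFunctionField k K) (P : Place k K) [Algebra P.O K'] [IsScalarTower P.O K K']
    {ι : Type*} [Fintype ι] (β : Module.Basis ι k k')
    (hred : ∀ (r ρ : ι → K), (∀ i, P.1 (r i) ≤ 1) → (∀ i, P.1 (ρ i) < 1) → ∀ M : ℕ,
      (∑ i, algebraMap K K' (r i) * algebraMap k' K' (β i)) ^ M =
        ∑ i, algebraMap K K' (ρ i) * algebraMap k' K' (β i) → ∀ i, P.1 (r i) < 1)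
    (Q : Place k K') (hQ : IsOver Q P) : IsOverWith Q P 1 := by
  classical
  haveI : FiniteDimensional K K' := FF.finite_of_baseChange h
  obtain ⟨e, he⟩ := hQ
  suffices hsuff : e = 1 by rw [hsuff] at he; exact he
  obtain ⟨hfin, -⟩ := finite_isOver_and_sum (K' := K') hK P
  obtain ⟨T, hT_def⟩ : ∃ T, T = hfin.toFinset := ⟨_, rfl⟩
  have hT : ∀ Q', Q' ∈ T ↔ IsOver Q' P := by intro Q'; rw [hT_def]; simp
  have hQT : Q ∈ T := (hT Q).mpr ⟨e, he⟩
  obtain ⟨tQ, htQ⟩ := exists_uniformizer Q
  obtain ⟨z, hz⟩ := weak_approx T (fun Q' => if Q' = Q then tQ else 0) 1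
  have hzQ : Q.1 z = WithZero.exp (-1 : ℤ) := by
    have h1 := hz Q hQT
    rw [if_pos rfl] at h1
    rw [← htQ]
    apply Valuation.map_eq_of_sub_lt
    rw [htQ]; exact h1
  have hzT : ∀ Q' ∈ T, Q'.1 z ≤ WithZero.exp (-1 : ℤ) := by
    intro Q' hQ'
    by_cases hQQ : Q' = Q
    · rw [hQQ, hzQ]
    · have h1 := hz Q' hQ'
      rw [if_neg hQQ, sub_zero] at h1
      exact h1.le
  have hexp1 : WithZero.exp (-1 : ℤ) ≤ (1 : WithZero (Multiplicative ℤ)) := by
    rw [← WithZero.exp_zero, WithZero.exp_le_exp]; omega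
  have hzint : IsIntegral P.O z :=
    isIntegral_of_forall_val_le_one hK.1 P (fun Q' hQ' => (hzT Q' ((hT Q').mpr hQ')).trans hexp1)
  obtain ⟨c, hc, hzc⟩ := exists_integral_coords h hK P β hred z hzint
  obtain ⟨E, hE_def⟩ : ∃ E : ℕ, E = ∑ Q' ∈ T, ramIdx Q' P := ⟨_, rfl⟩
  obtain ⟨t, ht⟩ := exists_uniformizer P
  have ht0 : t ≠ 0 := ne_zero_of_val_eq_exp P ht
  have ht0' : algebraMap K K' t ≠ 0 := by
    rwa [Ne, map_eq_zero]
  have hvalt : ∀ (Q' : Place k K') (e' : ℕ), IsOverWith Q' P e' →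
      Q'.1 (algebraMap K K' t) = WithZero.exp (-(e' : ℤ)) := by
    intro Q' e' he'
    rw [he', ht, ← WithZero.exp_nsmul]; congr 1; simp
  have hyint : IsIntegral P.O (z ^ E / algebraMap K K' t) := by
    apply isIntegral_of_forall_val_le_one hK.1 P
    intro Q' hQ'
    obtain ⟨e', he'⟩ := hQ'
    have hQ'T : Q' ∈ T := (hT Q').mpr ⟨e', he'⟩
    have heE : e' ≤ E := by
      rw [hE_def, ← ramIdx_eq he']
      exact Finset.single_le_sum (f := fun Q' => ramIdx Q' P) (fun _ _ => Nat.zero_le _) hQ'T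
    rw [map_div₀, hvalt Q' e' he', map_pow]
    rw [div_le_one₀ (by exact WithZero.exp_pos)]
    calc Q'.1 z ^ E ≤ WithZero.exp (-1 : ℤ) ^ E := pow_le_pow_left₀ zero_le (hzT Q' hQ'T) E
      _ = WithZero.exp (-(E : ℤ)) := by rw [← WithZero.exp_nsmul]; congr 1; simp
      _ ≤ WithZero.exp (-(e' : ℤ)) := by rw [WithZero.exp_le_exp]; omega
  obtain ⟨c', hc', hyc'⟩ := exists_integral_coords h hK P β hred _ hyint
  have hexp1' : WithZero.exp (-1 : ℤ) < (1 : WithZero (Multiplicative ℤ)) := by
    rw [← WithZero.exp_zero, WithZero.exp_lt_exp]; omega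
  have hclt := hred c (fun i => t * c' i) hc (fun i => by
      rw [map_mul, ht]
      calc WithZero.exp (-1 : ℤ) * P.1 (c' i) ≤ WithZero.exp (-1 : ℤ) * 1 := by gcongr; exact hc' i
        _ = WithZero.exp (-1 : ℤ) := mul_one _
        _ < 1 := hexp1') E (by
      rw [← hzc]
      have : z ^ E = algebraMap K K' t * (z ^ E / algebraMap K K' t) := by
        field_simp
      rw [this, hyc', Finset.mul_sum]
      apply Finset.sum_congr rfl
      intro i _
      rw [map_mul]; ring)
  -- so `z / t` is integral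
  have hzt : IsIntegral P.O (z / algebraMap K K' t) := by
    have : z / algebraMap K K' t = ∑ i, algebraMap K K' (c i / t) * algebraMap k' K' (β i) := by
      rw [hzc, Finset.sum_div]
      apply Finset.sum_congr rfl
      intro i _
      rw [map_div₀]; field_simp
    rw [this]
    apply IsIntegral.sum
    intro i _
    apply IsIntegral.mul
    · have hle : P.1 (c i / t) ≤ 1 := by
        rw [map_div₀, ht, div_le_one₀ (by exact WithZero.exp_pos)]
        exact le_exp_neg_one_of_lt_one (hclt i)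
      have : algebraMap K K' (c i / t) = algebraMap P.O K' ⟨c i / t, hle⟩ := by
        rw [algebraMap_O_apply]
      rw [this]
      exact isIntegral_algebraMap
    · exact isIntegral_algebraMap_const P _
  have h5 := val_le_one_of_isIntegral ⟨e, he⟩ hzt
  rw [map_div₀, hvalt Q e he, hzQ, div_le_one₀ (by exact WithZero.exp_pos), WithZero.exp_le_exp] at h5
  have := isOverWith_pos he
  omega

end
end Groth.Agent.Helper5.FG
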