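import Mathlib
import Groth.Agent.Helper5.FGConst5
set_option autoImplicit false
set_option linter.style.haveILetI false
open FunFld Polynomial TensorProduct
open scoped IntermediateField

namespace Groth.Agent.Helper5.FG

universe u v

section
variable {k k' : Type u} {K K' : Type v} [Field k] [Field k'] [Field K] [Field K']
    [Algebra k k'] [Algebra k K] [Algebra K K'] [Algebra k' K'] [Algebra k K']
    [IsScalarTower k k' K'] [IsScalarTower k K K']

theorem sep_const_core [FiniteDimensional k k'] [Algebra.IsSeparable k k']
    (h : Function.Bijective (Algebra.TensorProduct.productMap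
      (IsScalarTower.toAlgHom k k' K') (IsScalarTower.toAlgHom k K K')))
    (hK : IsFunctionField k K) (P : Place k K) [Algebra P.O K'] [IsScalarTower P.O K K']
    {F : Type*} [Field F] [Algebra k F] (res : P.O →ₐ[k] F)
    (hres : ∀ a : P.O, res a = 0 ↔ P.1 (a : K) < 1)
    (Q : Place k K') (hQ : IsOver Q P) :
    (integralClosure P.O K').toSubring =
      (Algebra.adjoin P.O (Set.range (algebraMap k' K'))).toSubring ∧
    IsOverWith Q P 1 := by
  have hF0 : IsReduced (F ⊗[k] k') := isReduced_tensor_of_separable k F k'
  haveI hF : IsReduced (k' ⊗[k] F) :=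
    isReduced_of_injective (Algebra.TensorProduct.comm k k' F)
      (Algebra.TensorProduct.comm k k' F).injective
  refine ⟨integralClosure_eq_adjoin h hK P res hres hF, ?_⟩
  exact isOverWith_one_of_hred h hK P (Module.finBasis k k')
    (fun r ρ hr hρ M hpow => hred_of_isReduced h P res hres (Module.finBasis k k') r ρ hr hρ M hpow)
    Q hQ

end
end Groth.Agent.Helper5.FG
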