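import Mathlib
import Groth.Agent.Helper5.FGConst4
set_option autoImplicit false
set_option linter.style.haveILetI false
open FunFld Polynomial TensorProduct
open scoped IntermediateField

namespace Groth.Agent.Helper5.FG

universe u v

section
variable {k k' : Type u} {K K' : Type v} [Field k] [Field k'] [Field K] [Field K']
    [Algebra k k'] [Algebra k K] [Algebra K K'] [Algebra k' K'] [Algebra k K']
    [IsScalarTower k k' K'] [IsScalarTower k K K']

theorem residueField_eq_adjoin [FiniteDimensional k k']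
    (h : Function.Bijective (Algebra.TensorProduct.productMap
      (IsScalarTower.toAlgHom k k' K') (IsScalarTower.toAlgHom k K K')))
    (hK : IsFunctionField k K) (P : Place k K) [Algebra P.O K'] [IsScalarTower P.O K K']
    (hns : (integralClosure P.O K').toSubring =
      (Algebra.adjoin P.O (Set.range (algebraMap k' K'))).toSubring)
    (Q : Place k K') [P.1.HasExtension Q.1] (hk' : ∀ c : k', Q.1 (algebraMap k' K' c) ≤ 1) :
    Algebra.adjoin (IsLocalRing.ResidueField P.O)
      (Set.range fun c : k' => IsLocalRing.residue Q.O ⟨algebraMap k' K' c, hk' c⟩) = ⊤ := by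
  classical
  haveI : FiniteDimensional K K' := FF.finite_of_baseChange h
  have hQP : IsOver Q P := by
    obtain ⟨P', e, he⟩ := exists_isOverWith hK.1 Q
    have : P = P' := eq_of_O_le (fun y hy => by
      have h1 : Q.1 (algebraMap K K' y) ≤ 1 :=
        (Valuation.HasExtension.val_map_le_one_iff P.1 Q.1 y).mpr hy
      rw [he] at h1
      exact (pow_le_one_iff_of_nonneg zero_le (isOverWith_pos he)).mp h1)
    subst this
    exact ⟨e, he⟩
  rw [eq_top_iff]
  rintro ξ -
  obtain ⟨a, rfl⟩ := IsLocalRing.residue_surjective ξ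
  obtain ⟨hfin, -⟩ := finite_isOver_and_sum (K' := K') hK P
  obtain ⟨T, hT_def⟩ : ∃ T, T = hfin.toFinset := ⟨_, rfl⟩
  have hT : ∀ Q', Q' ∈ T ↔ IsOver Q' P := by intro Q'; rw [hT_def]; simp
  obtain ⟨b, hb⟩ := weak_approx T (fun Q' => if Q' = Q then (a : K') else 0) 0
  rw [neg_zero, WithZero.exp_zero] at hb
  have hbQ : Q.1 (b - a) < 1 := by
    have := hb Q ((hT Q).mpr hQP)
    rwa [if_pos rfl] at this
  have hbT : ∀ Q' ∈ T, Q'.1 b ≤ 1 := by
    intro Q' hQ'
    by_cases hQQ : Q' = Q
    · subst hQQ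
      have : b = (b - a) + a := by ring
      rw [this]
      exact Valuation.map_add_le _ hbQ.le a.2
    · have := hb Q' hQ'
      rw [if_neg hQQ, sub_zero] at this
      exact this.le
  have hbint : IsIntegral P.O b :=
    isIntegral_of_forall_val_le_one hK.1 P (fun Q' hQ' => hbT Q' ((hT Q').mpr hQ'))
  have hbC : b ∈ Algebra.adjoin P.O (Set.range (algebraMap k' K')) := by
    have h1 : b ∈ (integralClosure P.O K').toSubring := hbint
    rw [hns] at h1
    exact h1
  have key : ∀ c ∈ Algebra.adjoin P.O (Set.range (algebraMap k' K')), ∃ hc : Q.1 c ≤ 1,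
      IsLocalRing.residue Q.O ⟨c, hc⟩ ∈ Algebra.adjoin (IsLocalRing.ResidueField P.O)
        (Set.range fun c : k' => IsLocalRing.residue Q.O ⟨algebraMap k' K' c, hk' c⟩) := by
    intro c hc
    induction hc using Algebra.adjoin_induction with
    | mem x hx =>
      obtain ⟨c', rfl⟩ := hx
      exact ⟨hk' c', Algebra.subset_adjoin ⟨c', rfl⟩⟩
    | algebraMap r =>
      have h1 : algebraMap P.O K' r = algebraMap K K' (r : K) := algebraMap_O_apply P r
      have h2 : Q.1 (algebraMap P.O K' r) ≤ 1 := by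
        rw [h1]; exact (Valuation.HasExtension.val_map_le_one_iff P.1 Q.1 _).mpr r.2
      refine ⟨h2, ?_⟩
      have h3 : IsLocalRing.residue Q.O ⟨algebraMap P.O K' r, h2⟩ =
          algebraMap (IsLocalRing.ResidueField P.O) (IsLocalRing.ResidueField Q.O)
            (IsLocalRing.residue P.O r) := by
        rw [IsLocalRing.ResidueField.algebraMap_residue]
        congr 1
        apply Subtype.ext
        exact h1
      rw [h3]
      exact Subalgebra.algebraMap_mem _ _
    | add x y _ _ hx hy =>
      obtain ⟨hx1, hx2⟩ := hx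
      obtain ⟨hy1, hy2⟩ := hy
      refine ⟨Valuation.map_add_le _ hx1 hy1, ?_⟩
      have : IsLocalRing.residue Q.O ⟨x + y, Valuation.map_add_le _ hx1 hy1⟩ =
          IsLocalRing.residue Q.O ⟨x, hx1⟩ + IsLocalRing.residue Q.O ⟨y, hy1⟩ := by
        rw [← map_add]; rfl
      rw [this]
      exact add_mem hx2 hy2
    | mul x y _ _ hx hy =>
      obtain ⟨hx1, hx2⟩ := hx
      obtain ⟨hy1, hy2⟩ := hy
      have hxy : Q.1 (x * y) ≤ 1 := by rw [map_mul]; exact mul_le_one₀ hx1 zero_le hy1
      refine ⟨hxy, ?_⟩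
      have : IsLocalRing.residue Q.O ⟨x * y, hxy⟩ =
          IsLocalRing.residue Q.O ⟨x, hx1⟩ * IsLocalRing.residue Q.O ⟨y, hy1⟩ := by
        rw [← map_mul]; rfl
      rw [this]
      exact mul_mem hx2 hy2
  obtain ⟨hb1, hb2⟩ := key b hbC
  have : IsLocalRing.residue Q.O a = IsLocalRing.residue Q.O ⟨b, hb1⟩ := by
    rw [← sub_eq_zero, ← map_sub, residue_eq_zero_iff]
    show Q.1 ((a : K') - b) < 1
    rw [← Valuation.map_neg, neg_sub]
    exact hbQ
  rw [this]
  exact hb2

end
end Groth.Agent.Helper5.FG
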