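import Mathlib
import Groth.Agent.Helper5.FFRational
set_option autoImplicit false
open FunFld Polynomial
open scoped IntermediateField

namespace Groth.Agent.Helper5.FF

variable {k K : Type*} [Field k] [Field K] [Algebra k K]

theorem div_mul (hK : IsFunctionField k K) {x y : K} (hx : x ≠ 0) (hy : y ≠ 0) :
    FunFld.div k (x * y) = FunFld.div k x + FunFld.div k y := by
  ext P
  rw [Finsupp.add_apply, div_apply hK, div_apply hK, div_apply hK, ord_mul P hx hy]

/-- an effective divisor of degree one is a place of degree one -/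
theorem effective_deg_one (hK : IsFunctionField k K) {B : Divisor k K} (hB0 : 0 ≤ B)
    (hBdeg : B.deg = 1) : ∃ P : Place k K, P.deg = 1 ∧ B = Finsupp.single P 1 := by
  classical
  have hsum : ∑ Q ∈ B.support, B Q * (Q.deg : ℤ) = 1 := hBdeg
  have hterm : ∀ Q ∈ B.support, 1 ≤ B Q * (Q.deg : ℤ) := by
    intro Q hQ
    have h2 := hB0 Q
    have h3 := Finsupp.mem_support_iff.mp hQ
    rw [Finsupp.zero_apply] at h2
    have h4 : (1 : ℤ) ≤ Q.deg := by exact_mod_cast deg_pos_place hK Q
    have : 1 * 1 ≤ B Q * (Q.deg : ℤ) := mul_le_mul (by omega) h4 (by norm_num) (by omega)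
    omega
  have hne : B.support.Nonempty := by
    by_contra hemp
    rw [Finset.not_nonempty_iff_eq_empty] at hemp
    rw [hemp, Finset.sum_empty] at hsum
    exact zero_ne_one hsum
  obtain ⟨P, hP⟩ := hne
  rw [← Finset.add_sum_erase _ _ hP] at hsum
  have hrest : ∀ Q ∈ B.support.erase P, 1 ≤ B Q * (Q.deg : ℤ) := fun Q hQ =>
    hterm Q (Finset.mem_of_mem_erase hQ)
  have hPterm := hterm P hP
  have hrest0 : 0 ≤ ∑ Q ∈ B.support.erase P, B Q * (Q.deg : ℤ) :=
    Finset.sum_nonneg fun Q hQ => by have := hrest Q hQ; omega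
  have hPeq : B P * (P.deg : ℤ) = 1 := by omega
  have hresteq : ∑ Q ∈ B.support.erase P, B Q * (Q.deg : ℤ) = 0 := by omega
  have hempty : B.support.erase P = ∅ := by
    by_contra hne
    obtain ⟨Q, hQ⟩ := Finset.nonempty_iff_ne_empty.mpr hne
    have := Finset.single_le_sum (f := fun Q => B Q * (Q.deg : ℤ))
      (fun Q hQ => by have := hrest Q hQ; omega) hQ
    have h5 := hrest Q hQ
    omega
  have hBP1 : B P = 1 ∧ (P.deg : ℤ) = 1 := by
    have h2 := hB0 P
    rw [Finsupp.zero_apply] at h2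
    have h4 : (0 : ℤ) ≤ P.deg := Nat.cast_nonneg _
    constructor
    · exact Int.eq_one_of_mul_eq_one_right h2 hPeq
    · exact Int.eq_one_of_mul_eq_one_left h4 hPeq
  refine ⟨P, by exact_mod_cast hBP1.2, ?_⟩
  ext Q
  by_cases hQ : Q = P
  · subst hQ; rw [Finsupp.single_eq_same, hBP1.1]
  · rw [Finsupp.single_eq_of_ne hQ]
    have hQs : Q ∉ B.support := by
      intro hmem
      have : Q ∈ B.support.erase P := Finset.mem_erase.mpr ⟨hQ, hmem⟩
      rw [hempty] at this
      exact absurd this (Finset.notMem_empty Q)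
    exact Finsupp.notMem_support_iff.mp hQs

theorem genus_one_class (hK : IsFunctionField k K) (hg : genus k K = 1) (P₀ : Place k K)
    (hP : P₀.deg = 1) (D : Divisor k K) (hD : D.deg = 0) :
    ∃! P : Place k K, P.deg = 1 ∧
      ∃ x : K, x ≠ 0 ∧ D = Finsupp.single P 1 - Finsupp.single P₀ 1 + FunFld.div k x := by
  have hEdeg : (D + Finsupp.single P₀ 1).deg = 1 := by
    rw [deg_add, deg_single, hD, hP]; norm_num
  have hell := ell_eq_of_deg_ge hK (D + Finsupp.single P₀ 1) (by rw [hEdeg, hg]; norm_num)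
  rw [hEdeg, hg] at hell
  have hpos : 0 < ell (D + Finsupp.single P₀ 1) := by
    have : (0 : ℤ) < ell (D + Finsupp.single P₀ 1) := by rw [hell]; norm_num
    exact_mod_cast this
  obtain ⟨z, hz0, hz⟩ := (L_ne_bot_iff hK _).mp (L_ne_bot_of_ell_pos hpos)
  have hFdeg : (D + Finsupp.single P₀ 1 + FunFld.div k z).deg = 1 := by
    rw [deg_add, hEdeg, deg_div hK, add_zero]
  obtain ⟨P, hPdeg, hPeq⟩ := effective_deg_one hK hz hFdeg
  refine ⟨P, ⟨hPdeg, z⁻¹, inv_ne_zero hz0, ?_⟩, ?_⟩
  · rw [div_inv hK, ← hPeq]; abel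
  · rintro P' ⟨hP'deg, x', hx'0, hx'⟩
    symm
    have hxz : x' * z ≠ 0 := mul_ne_zero hx'0 hz0
    apply eq_of_single_sub_single_eq_div hK (by omega) P P' hPdeg hP'deg (x' * z) hxz
    rw [div_mul hK hx'0 hz0]
    have h1 : Finsupp.single P 1 = D + Finsupp.single P₀ 1 + FunFld.div k z := hPeq.symm
    rw [h1]
    conv_lhs => rw [hx']
    abel

end Groth.Agent.Helper5.FF
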