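import Mathlib
import Groth.Agent.Helper5.FFAut
import Groth.Prelude.Def_W4bk4goldsch23Ext
set_option autoImplicit false
open FunFld
open scoped IntermediateField

namespace Groth.Agent.Helper5.FF

variable {k K K' : Type*} [Field k] [Field K] [Field K'] [Algebra k K] [Algebra K K']
  [Algebra k K'] [IsScalarTower k K K']

/-- action of the Galois group on places (by pullback) -/
def galPlace (σ : K' ≃ₐ[K] K') (Q : Place k K') : Place k K' :=
  comapPlace (σ.restrictScalars k) Q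

theorem galPlace_val (σ : K' ≃ₐ[K] K') (Q : Place k K') (x : K') :
    (galPlace σ Q).1 x = Q.1 (σ x) := rfl

theorem galPlace_one (Q : Place k K') : galPlace (1 : K' ≃ₐ[K] K') Q = Q :=
  place_ext fun _ => rfl

theorem galPlace_mul (σ τ : K' ≃ₐ[K] K') (Q : Place k K') :
    galPlace (σ * τ) Q = galPlace τ (galPlace σ Q) :=
  place_ext fun _ => rfl

theorem val_eq_one_of_sub_one_lt (Q : Place k K') {z : K'} (h : Q.1 (z - 1) < 1) : Q.1 z = 1 := by
  have : z = 1 + (z - 1) := by ring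
  rw [this, Valuation.map_add_eq_of_lt_left _ (by rwa [map_one]), map_one]

theorem galois_transitive [FiniteDimensional K K'] [IsGalois K K'] (Q₁ Q₂ : Place k K')
    (h : (Q₁.1.comap (algebraMap K K')).IsEquiv (Q₂.1.comap (algebraMap K K'))) :
    ∃ σ : K' ≃ₐ[K] K', galPlace σ Q₁ = Q₂ := by
  classical
  by_contra hne
  push Not at hne
  let T₁ : Finset (Place k K') := Finset.univ.image (fun σ : K' ≃ₐ[K] K' => galPlace σ Q₁)
  let T₂ : Finset (Place k K') := Finset.univ.image (fun σ : K' ≃ₐ[K] K' => galPlace σ Q₂)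
  have hdisj : ∀ Q ∈ T₂, Q ∉ T₁ := by
    intro Q hQ2 hQ1
    obtain ⟨τ, -, rfl⟩ := Finset.mem_image.mp hQ2
    obtain ⟨σ, -, hσ⟩ := Finset.mem_image.mp hQ1
    apply hne (σ * τ⁻¹)
    rw [galPlace_mul, hσ, ← galPlace_mul, mul_inv_cancel, galPlace_one]
  obtain ⟨z, hz⟩ := weak_approx (T₁ ∪ T₂) (fun Q => if Q ∈ T₁ then (1 : K') else 0) 0
  rw [neg_zero, WithZero.exp_zero] at hz
  have hz1 : ∀ σ : K' ≃ₐ[K] K', Q₁.1 (σ z) = 1 := by
    intro σ
    have hmem : galPlace σ Q₁ ∈ T₁ := Finset.mem_image.mpr ⟨σ, Finset.mem_univ _, rfl⟩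
    have := hz _ (Finset.mem_union_left _ hmem)
    rw [if_pos hmem, galPlace_val, map_sub, map_one] at this
    exact val_eq_one_of_sub_one_lt _ this
  have hz2 : ∀ σ : K' ≃ₐ[K] K', Q₂.1 (σ z) < 1 := by
    intro σ
    have hmem : galPlace σ Q₂ ∈ T₂ := Finset.mem_image.mpr ⟨σ, Finset.mem_univ _, rfl⟩
    have := hz _ (Finset.mem_union_right _ hmem)
    rw [if_neg (hdisj _ hmem), sub_zero] at this
    exact this
  have hnorm : algebraMap K K' (Algebra.norm K z) = ∏ σ : K' ≃ₐ[K] K', σ z :=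
    Algebra.norm_eq_prod_automorphisms K z
  have h1 : Q₁.1 (algebraMap K K' (Algebra.norm K z)) = 1 := by
    rw [hnorm, map_prod]
    exact Finset.prod_eq_one fun σ _ => hz1 σ
  have h2 : Q₂.1 (algebraMap K K' (Algebra.norm K z)) < 1 := by
    rw [hnorm, map_prod, ← Finset.mul_prod_erase Finset.univ _ (Finset.mem_univ (1 : K' ≃ₐ[K] K'))]
    calc Q₂.1 ((1 : K' ≃ₐ[K] K') z) * ∏ σ ∈ Finset.univ.erase (1 : K' ≃ₐ[K] K'), Q₂.1 (σ z)
        ≤ Q₂.1 ((1 : K' ≃ₐ[K] K') z) * 1 := by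
          gcongr
          exact Finset.prod_le_one' fun σ _ => (hz2 σ).le
      _ = Q₂.1 ((1 : K' ≃ₐ[K] K') z) := mul_one _
      _ < 1 := hz2 1
  have h3 := h.lt_one_iff_lt_one (x := Algebra.norm K z)
  rw [Valuation.comap_apply, Valuation.comap_apply] at h3
  have := h3.mpr h2
  rw [h1] at this
  exact lt_irrefl _ this

end Groth.Agent.Helper5.FF
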