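import Mathlib
import Groth.Agent.Helper5.FFGal
set_option autoImplicit false
open FunFld
open scoped IntermediateField Pointwise

namespace Groth.Agent.Helper5.FF

variable {k K K' : Type*} [Field k] [Field K] [Field K'] [Algebra k K] [Algebra K K']
  [Algebra k K'] [IsScalarTower k K K']

theorem isOverWith_pos {Q : Place k K'} {P : Place k K} {e : ℕ} (he : IsOverWith Q P e) : e ≠ 0 := by
  rintro rfl
  have := he 0
  simp at this

theorem isEquiv_of_isOverWith {Q Q' : Place k K'} {P : Place k K} {e e' : ℕ}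
    (he : IsOverWith Q P e) (he' : IsOverWith Q' P e') :
    (Q.1.comap (algebraMap K K')).IsEquiv (Q'.1.comap (algebraMap K K')) := by
  intro x y
  rw [Valuation.comap_apply, Valuation.comap_apply, Valuation.comap_apply, Valuation.comap_apply,
    he x, he y, he' x, he' y, pow_le_pow_iff_left₀ zero_le zero_le (isOverWith_pos he),
    pow_le_pow_iff_left₀ zero_le zero_le (isOverWith_pos he')]

theorem isOverWith_galPlace (σ : K' ≃ₐ[K] K') {Q : Place k K'} {P : Place k K} {e : ℕ}
    (he : IsOverWith Q P e) : IsOverWith (galPlace σ Q) P e := by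
  intro x
  rw [galPlace_val, σ.commutes, he x]

/-- the ring isomorphism of valuation rings induced by an automorphism -/
def galRingEquiv (σ : K' ≃ₐ[K] K') (Q : Place k K') : (galPlace σ Q).O ≃+* Q.O where
  toFun x := ⟨σ x.1, x.2⟩
  invFun y := ⟨σ.symm y.1, by
    show Q.1 (σ (σ.symm y.1)) ≤ 1
    rw [σ.apply_symm_apply]; exact y.2⟩
  left_inv x := Subtype.ext (σ.symm_apply_apply x.1)
  right_inv y := Subtype.ext (σ.apply_symm_apply y.1)
  map_mul' x y := Subtype.ext (map_mul σ x.1 y.1)
  map_add' x y := Subtype.ext (map_add σ x.1 y.1)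

theorem deg_galPlace (σ : K' ≃ₐ[K] K') (Q : Place k K') : (galPlace σ Q).deg = Q.deg := by
  unfold Place.deg
  let e := IsLocalRing.ResidueField.mapEquiv (galRingEquiv (k := k) σ Q)
  have hsmul : ∀ (c : k) (a : IsLocalRing.ResidueField (galPlace σ Q).O), e (c • a) = c • e a := by
    intro c a
    have h1 : c • a = IsLocalRing.residue _ (algebraMap k (galPlace σ Q).O c) * a := by
      rw [Algebra.smul_def]; rfl
    have h2 : c • e a = IsLocalRing.residue _ (algebraMap k Q.O c) * e a := by
      rw [Algebra.smul_def]; rfl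
    rw [h1, h2, map_mul]
    congr 1
    show IsLocalRing.ResidueField.map _ (IsLocalRing.residue _ _) = _
    rw [IsLocalRing.ResidueField.map_residue]
    congr 1
    apply Subtype.ext
    show σ (algebraMap k K' c) = algebraMap k K' c
    rw [IsScalarTower.algebraMap_apply k K K', σ.commutes]
  let f : IsLocalRing.ResidueField (galPlace σ Q).O ≃ₗ[k] IsLocalRing.ResidueField Q.O :=
    { e.toAddEquiv with map_smul' := hsmul }
  exact f.finrank_eq

/-- the action of the Galois group on places -/
noncomputable instance galMulAction : MulAction (K' ≃ₐ[K] K') (Place k K') where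
  smul σ Q := galPlace σ⁻¹ Q
  one_smul Q := by
    show galPlace (1 : K' ≃ₐ[K] K')⁻¹ Q = Q
    rw [inv_one, galPlace_one]
  mul_smul σ τ Q := by
    show galPlace (σ * τ)⁻¹ Q = galPlace σ⁻¹ (galPlace τ⁻¹ Q)
    rw [mul_inv_rev, galPlace_mul]

theorem smul_place_def (σ : K' ≃ₐ[K] K') (Q : Place k K') : σ • Q = galPlace σ⁻¹ Q := rfl

theorem O_injective {Q Q' : Place k K'} (h : Q.O = Q'.O) : Q = Q' := by
  apply eq_of_O_le
  intro y hy
  have : y ∈ Q.O := hy
  rw [h] at this
  exact this

theorem decompositionSubgroup_eq (Q : Place k K') :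
    (Q.O).decompositionSubgroup K = MulAction.stabilizer (K' ≃ₐ[K] K') Q := by
  ext σ
  rw [MulAction.mem_stabilizer_iff, MulAction.mem_stabilizer_iff]
  have key : σ • Q.O = (σ • Q).O := by
    ext x
    rw [ValuationSubring.mem_pointwise_smul_iff_inv_smul_mem]
    rfl
  rw [key]
  exact ⟨fun h => O_injective h, fun h => by rw [h]⟩

theorem orbit_eq_isOver [FiniteDimensional K K'] [IsGalois K K'] {Q : Place k K'} {P : Place k K}
    {e : ℕ} (he : IsOverWith Q P e) :
    MulAction.orbit (K' ≃ₐ[K] K') Q = {Q' : Place k K' | IsOver Q' P} := by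
  ext Q'
  constructor
  · rintro ⟨σ, rfl⟩
    exact ⟨e, isOverWith_galPlace σ⁻¹ he⟩
  · rintro ⟨e', he'⟩
    obtain ⟨σ, hσ⟩ := galois_transitive Q Q' (isEquiv_of_isOverWith he he')
    refine ⟨σ⁻¹, ?_⟩
    show σ⁻¹ • Q = Q'
    rw [← hσ, smul_place_def, inv_inv]

theorem card_isOver_mul_card_decomposition [FiniteDimensional K K'] [IsGalois K K']
    {Q : Place k K'} {P : Place k K} {e : ℕ} (he : IsOverWith Q P e) :
    Nat.card {Q' : Place k K' // IsOver Q' P} * Nat.card ((Q.O).decompositionSubgroup K) =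
      Module.finrank K K' := by
  rw [decompositionSubgroup_eq, ← IsGalois.card_aut_eq_finrank K K',
    ← Subgroup.card_mul_index (MulAction.stabilizer (K' ≃ₐ[K] K') Q), MulAction.index_stabilizer,
    orbit_eq_isOver he, ← Nat.card_coe_set_eq, mul_comm]
  rfl

theorem isOverWith_and_deg_of_isOver [FiniteDimensional K K'] [IsGalois K K']
    {Q : Place k K'} {P : Place k K} {e : ℕ} (he : IsOverWith Q P e) (Q' : Place k K')
    (hQ' : IsOver Q' P) : IsOverWith Q' P e ∧ Q'.deg = Q.deg := by
  obtain ⟨e', he'⟩ := hQ'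
  obtain ⟨σ, rfl⟩ := galois_transitive Q Q' (isEquiv_of_isOverWith he he')
  exact ⟨isOverWith_galPlace σ he, deg_galPlace σ Q⟩

end Groth.Agent.Helper5.FF
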