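import Mathlib
import Groth.Agent.Helper5.FGExt2
import Groth.Agent.Helper5.FFGal2
set_option autoImplicit false
open FunFld Polynomial
open scoped IntermediateField

namespace Groth.Agent.Helper5.FG

variable {k K K' : Type*} [Field k] [Field K] [Field K'] [Algebra k K] [Algebra K K']
  [Algebra k K'] [IsScalarTower k K K']

theorem card_decomposition_mul_deg [FiniteDimensional K K'] [IsGalois K K']
    (hK : IsFunctionField k K) (Q : Place k K') (P : Place k K) (e : ℕ) (he : IsOverWith Q P e) :
    Nat.card ((Q.O).decompositionSubgroup K) * P.deg = e * Q.deg := by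
  classical
  obtain ⟨hfin, hsum⟩ := finite_isOver_and_sum (K' := K') hK P
  have h1 := hsum hfin.toFinset (fun Q' => by rw [Set.Finite.mem_toFinset]; rfl)
  have h2 : ∀ Q' ∈ hfin.toFinset, ramIdx Q' P * Q'.deg = e * Q.deg := by
    intro Q' hQ'
    rw [Set.Finite.mem_toFinset] at hQ'
    obtain ⟨h3, h4⟩ := FF.isOverWith_and_deg_of_isOver he Q' hQ'
    rw [ramIdx_eq h3, h4]
  rw [Finset.sum_congr rfl h2, Finset.sum_const, smul_eq_mul] at h1
  have h5 := FF.card_isOver_mul_card_decomposition he
  have h6 : Nat.card {Q' : Place k K' // IsOver Q' P} = hfin.toFinset.card := by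
    have : Nat.card {Q' : Place k K' // IsOver Q' P} = Set.ncard {Q' : Place k K' | IsOver Q' P} :=
      Nat.card_coe_set_eq _
    rw [this, Set.ncard_eq_toFinset_card _ hfin]
  rw [h6] at h5
  have hpos : 0 < hfin.toFinset.card := by
    apply Finset.card_pos.mpr
    exact ⟨Q, by rw [Set.Finite.mem_toFinset]; exact ⟨e, he⟩⟩
  rw [← h5, mul_assoc] at h1
  exact (Nat.eq_of_mul_eq_mul_left hpos h1).symm

end Groth.Agent.Helper5.FG
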