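import Mathlib
import Groth.Agent.Helper5.FFGeom6
set_option autoImplicit false
set_option linter.style.haveILetI false
open FunFld Polynomial TensorProduct
open scoped IntermediateField

namespace Groth.Agent.Helper5.FF

universe u v

theorem pow_indep_aux {k K k' : Type*} [Field k] [Field K] [Algebra k K] [Field k'] [Algebra k k']
    (p : ℕ) [hp : Fact p.Prime] [CharP K p] (hfield : IsField (k' ⊗[k] K)) {ι : Type*} [Fintype ι]
    (v : ι → K) (hv : LinearIndependent k v) (c : ι → k) (d' : ι → k')
    (hd' : ∀ i, d' i ^ p = algebraMap k k' (c i)) (hc : ∑ i, c i • v i ^ p = 0) :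
    ∀ i, c i = 0 := by
  classical
  haveI : CharP k p := RingHom.charP (algebraMap k K) (algebraMap k K).injective p
  haveI : IsDomain (k' ⊗[k] K) := hfield.isDomain
  haveI : CharP k' p := charP_of_injective_algebraMap (algebraMap k k').injective p
  haveI : CharP (k' ⊗[k] K) p :=
    charP_of_injective_algebraMap (algebraMap k' (k' ⊗[k] K)).injective p
  set z : k' ⊗[k] K := ∑ i, d' i ⊗ₜ[k] v i with hz
  have hzp : z ^ p = 0 := by
    rw [hz, sum_pow_char]
    have : ∀ i, (d' i ⊗ₜ[k] v i) ^ p = (1 : k') ⊗ₜ[k] (c i • v i ^ p) := by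
      intro i
      rw [Algebra.TensorProduct.tmul_pow, hd', Algebra.algebraMap_eq_smul_one, TensorProduct.smul_tmul]
    rw [Finset.sum_congr rfl fun i _ => this i, ← TensorProduct.tmul_sum, hc, TensorProduct.tmul_zero]
  have hz0 : z = 0 := (pow_eq_zero_iff (hp.out.ne_zero)).mp hzp
  have hli : LinearIndependent k' (fun i => (1 : k') ⊗ₜ[k] v i) :=
    Module.Flat.linearIndependent_one_tmul hv
  rw [Fintype.linearIndependent_iff] at hli
  have hz' : ∑ i, d' i • ((1 : k') ⊗ₜ[k] v i) = 0 := by
    rw [← hz0, hz]
    apply Finset.sum_congr rfl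
    intro i _
    rw [TensorProduct.smul_tmul', smul_eq_mul, mul_one]
  intro i
  have h0 := hli d' hz' i
  have h1 := hd' i
  rw [h0, zero_pow hp.out.ne_zero] at h1
  exact ((map_eq_zero_iff _ (algebraMap k k').injective).mp h1.symm)

theorem linearIndepOn_pow_of_isGeometric {k : Type u} {K : Type v} [Field k] [Field K] [Algebra k K]
    (p : ℕ) [hp : Fact p.Prime] [CharP K p] (hg : IsGeometric k K) (s : Finset K)
    (hs : LinearIndepOn k _root_.id (s : Set K)) : LinearIndepOn k (· ^ p) (s : Set K) := by
  classical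
  rw [LinearIndepOn, Fintype.linearIndependent_iff]
  intro c hc
  -- p-th roots in the algebraic closure
  have hroot : ∀ i : (s : Set K), ∃ d : AlgebraicClosure k, d ^ p = algebraMap k _ (c i) :=
    fun i => IsAlgClosed.exists_pow_nat_eq _ hp.out.pos
  choose d hd using hroot
  let k' : IntermediateField k (AlgebraicClosure k) := IntermediateField.adjoin k (Set.range d)
  haveI : FiniteDimensional k k' :=
    IntermediateField.finiteDimensional_adjoin fun x _ => Algebra.IsIntegral.isIntegral x
  have hfield : IsField (k' ⊗[k] K) := hg k' inferInstance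
  let d' : {x // x ∈ (s : Set K)} → k' := fun i => ⟨d i, IntermediateField.subset_adjoin k _ ⟨i, rfl⟩⟩
  have hd' : ∀ i, d' i ^ p = algebraMap k k' (c i) := fun i => Subtype.ext (hd i)
  exact pow_indep_aux p hfield (fun i : {x // x ∈ (s : Set K)} => (i : K)) hs c d' hd' hc

end Groth.Agent.Helper5.FF
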