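import Mathlib
import Groth.Agent.Helper5.FFSep
set_option autoImplicit false
set_option linter.style.haveILetI false
open FunFld Polynomial TensorProduct
open scoped IntermediateField

namespace Groth.Agent.Helper5.FF

universe u v

theorem essFiniteType {k K : Type*} [Field k] [Field K] [Algebra k K] (hK : IsFunctionField k K) :
    Algebra.EssFiniteType k K := by
  obtain ⟨x₀, hx₀, hfin⟩ := hK.1
  have h1 : Algebra.EssFiniteType k k⟮x₀⟯ := by
    rw [IntermediateField.essFiniteType_iff]
    exact IntermediateField.fg_adjoin_of_finite (Set.finite_singleton x₀)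
  have h2 : Algebra.EssFiniteType k⟮x₀⟯ K := inferInstance
  exact Algebra.EssFiniteType.comp k k⟮x₀⟯ K

theorem trdeg_eq_one {k K : Type*} [Field k] [Field K] [Algebra k K] (hK : IsFunctionField k K) :
    Algebra.trdeg k K = 1 := by
  obtain ⟨x₀, hx₀, hfin⟩ := hK.1
  have halg0 : Algebra.IsAlgebraic k⟮x₀⟯ K := Algebra.IsAlgebraic.of_finite _ _
  have htr0 : Algebra.IsAlgebraic (Algebra.adjoin k ({x₀} : Set K)) K := by
    open scoped IntermediateField.algebraAdjoinAdjoin in
    exact Algebra.IsAlgebraic.trans (Algebra.adjoin k ({x₀} : Set K)) k⟮x₀⟯ K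
  have hle : Algebra.trdeg k K ≤ 1 := by
    have := Algebra.IsAlgebraic.trdeg_le_cardinalMk k ({x₀} : Set K)
    simpa using this
  have hind : AlgebraicIndependent k (fun _ : Unit => x₀) :=
    algebraicIndependent_unique_type_iff.mpr hx₀
  have hbasis : IsTranscendenceBasis k (fun _ : Unit => x₀) :=
    hind.isTranscendenceBasis_of_lift_trdeg_le_of_finite (by simpa using hle)
  have := hbasis.lift_cardinalMk_eq_trdeg
  simpa using this.symm

theorem exists_separating {k : Type u} {K : Type v} [Field k] [Field K] [Algebra k K]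
    (hK : IsFunctionField k K) (hg : IsGeometric k K) :
    ∃ x : K, Transcendental k x ∧ Algebra.IsSeparable k⟮x⟯ K := by
  have hess := essFiniteType hK
  obtain _ | ⟨p, hp, hpk⟩ := CharP.exists' k
  · obtain ⟨x₀, hx₀, hfin⟩ := hK.1
    haveI : CharZero k⟮x₀⟯ := charZero_of_injective_algebraMap (algebraMap k k⟮x₀⟯).injective
    exact ⟨x₀, hx₀, inferInstance⟩
  · haveI : CharP K p := charP_of_injective_algebraMap (algebraMap k K).injective p
    obtain ⟨s, hs, hsep⟩ :=
      exists_isTranscendenceBasis_and_isSeparable_of_linearIndepOn_pow_of_essFiniteType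
        (k := k) (K := K) p hp.out (fun s hs => linearIndepOn_pow_of_isGeometric p hg s hs)
    have hcard : Cardinal.mk s = 1 := by rw [hs.cardinalMk_eq_trdeg, trdeg_eq_one hK]
    have hcard' : s.card = 1 := by
      have : (Cardinal.mk s) = (s.card : Cardinal) := by simp
      rw [this] at hcard
      exact_mod_cast hcard
    obtain ⟨x, rfl⟩ := Finset.card_eq_one.mp hcard'
    refine ⟨x, ?_, ?_⟩
    · have := hs.1
      have h2 := this.transcendental ⟨x, by simp⟩
      exact h2
    · rw [Finset.coe_singleton] at hsep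
      exact hsep

end Groth.Agent.Helper5.FF
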