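import Mathlib
import Groth.Agent.Helper5.FGConorm
import Groth.Prelude.Def_W4bk4goldsch45
set_option autoImplicit false
open FunFld Polynomial
open scoped IntermediateField

namespace Groth.Agent.Helper5.FG

section
variable {k K : Type*} [Field k] [Field K] [Algebra k K]

theorem mapDiv_apply (hK : IsFF k K) {ι : Type*} [Fintype ι] [Nonempty ι] (φ : ι → K)
    (P : Place k K) :
    mapDiv k φ P = -Finset.univ.inf' Finset.univ_nonempty (fun i => P.ord (φ i)) := by
  classical
  have hfin : (Function.support fun P : Place k K =>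
      -Finset.univ.inf' Finset.univ_nonempty (fun i => P.ord (φ i))).Finite := by
    apply Set.Finite.subset (Set.finite_iUnion fun i => finite_support_ord hK (φ i))
    intro P hP
    rw [Function.mem_support] at hP
    by_contra hcon
    simp only [Set.mem_iUnion, Function.mem_support, not_exists, not_not] at hcon
    apply hP
    simp [hcon]
  unfold mapDiv
  rw [dif_pos hfin]
  rfl

end

section
variable {k K K' : Type*} [Field k] [Field K] [Field K'] [Algebra k K] [Algebra K K']
  [Algebra k K'] [IsScalarTower k K K']

omit [IsScalarTower k K K'] in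
theorem ord_algebraMap_eq {Q : Place k K'} {P : Place k K} {e : ℕ} (he : IsOverWith Q P e) (x : K) :
    Q.ord (algebraMap K K' x) = e * P.ord x := by
  by_cases hx0 : x = 0
  · rw [hx0, map_zero, ord_zero, ord_zero, mul_zero]
  · have h1 := he x
    rw [val_eq_exp_neg_ord P hx0, ← WithZero.exp_nsmul] at h1
    rw [ord_eq_of_val_eq Q h1]
    simp only [nsmul_eq_mul, mul_neg, neg_neg]

theorem mapDiv_algebraMap_eq_conorm [FiniteDimensional K K'] (hK : IsFunctionField k K)
    {ι : Type*} [Fintype ι] [Nonempty ι] (φ : ι → K) :
    mapDiv k (fun i => algebraMap K K' (φ i)) = conorm K' (mapDiv k φ) := by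
  have hK' : IsFF k K' := isFF_of_finite hK.1
  ext Q
  obtain ⟨P, e, he⟩ := exists_isOverWith hK.1 Q
  rw [conorm_apply hK _ he, mapDiv_apply hK', mapDiv_apply hK.1]
  simp_rw [ord_algebraMap_eq he]
  have hmono : Monotone fun z : ℤ => (e : ℤ) * z := fun a b hab =>
    mul_le_mul_of_nonneg_left hab (Nat.cast_nonneg e)
  have := Finset.apply_inf'_eq_inf'_comp (s := (Finset.univ : Finset ι)) Finset.univ_nonempty
    (f := fun i => P.ord (φ i)) (fun z : ℤ => (e : ℤ) * z) (fun x y => hmono.map_min)
  simp only [Function.comp_def] at this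
  rw [← this]
  ring

end

end Groth.Agent.Helper5.FG
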