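import Mathlib
import Groth.Agent.Helper5.FGMapDiv
import Groth.Agent.Helper5.FFGeom3
set_option autoImplicit false
open FunFld Polynomial
open scoped IntermediateField

namespace Groth.Agent.Helper5.FG

section
variable {k K L : Type*} [Field k] [Field K] [Field L] [Algebra k K] [Algebra k L]

/-- pull back a place along an isomorphism -/
def comapPlaceEquiv (e : K ≃ₐ[k] L) (P : Place k L) : Place k K :=
  ⟨P.1.comap (e : K →+* L), fun c => by
      show P.1 (e (algebraMap k K c)) ≤ 1
      rw [e.commutes]; exact P.2.1 c,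
    fun γ => by
      obtain ⟨y, hy⟩ := P.2.2 γ
      exact ⟨e.symm y, by show P.1 (e (e.symm y)) = γ; rw [e.apply_symm_apply, hy]⟩⟩

theorem comapPlaceEquiv_val (e : K ≃ₐ[k] L) (P : Place k L) (x : K) :
    (comapPlaceEquiv e P).1 x = P.1 (e x) := rfl

theorem comapPlaceEquiv_ord (e : K ≃ₐ[k] L) (P : Place k L) (x : K) :
    (comapPlaceEquiv e P).ord x = P.ord (e x) := rfl

theorem place_ext {P Q : Place k K} (h : ∀ x, P.1 x = Q.1 x) : P = Q :=
  Subtype.ext (Valuation.ext h)

/-- the bijection on places induced by an isomorphism -/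
def placeEquiv (e : K ≃ₐ[k] L) : Place k L ≃ Place k K where
  toFun := comapPlaceEquiv e
  invFun := comapPlaceEquiv e.symm
  left_inv P := place_ext fun x => by
    rw [comapPlaceEquiv_val, comapPlaceEquiv_val, e.apply_symm_apply]
  right_inv P := place_ext fun x => by
    rw [comapPlaceEquiv_val, comapPlaceEquiv_val, e.symm_apply_apply]

/-- the ring isomorphism of valuation rings induced by an isomorphism -/
def comapRingEquiv (e : K ≃ₐ[k] L) (P : Place k L) : (comapPlaceEquiv e P).O ≃+* P.O where
  toFun x := ⟨e x.1, x.2⟩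
  invFun y := ⟨e.symm y.1, by
    show P.1 (e (e.symm y.1)) ≤ 1
    rw [e.apply_symm_apply]; exact y.2⟩
  left_inv x := Subtype.ext (e.symm_apply_apply x.1)
  right_inv y := Subtype.ext (e.apply_symm_apply y.1)
  map_mul' x y := Subtype.ext (map_mul e x.1 y.1)
  map_add' x y := Subtype.ext (map_add e x.1 y.1)

theorem deg_comapPlaceEquiv (e : K ≃ₐ[k] L) (P : Place k L) :
    (comapPlaceEquiv e P).deg = P.deg := by
  unfold Place.deg
  let ε := IsLocalRing.ResidueField.mapEquiv (comapRingEquiv e P)
  have hsmul : ∀ (c : k) (a : IsLocalRing.ResidueField (comapPlaceEquiv e P).O),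
      ε (c • a) = c • ε a := by
    intro c a
    have h1 : c • a = IsLocalRing.residue _ (algebraMap k (comapPlaceEquiv e P).O c) * a := by
      rw [Algebra.smul_def]; rfl
    have h2 : c • ε a = IsLocalRing.residue _ (algebraMap k P.O c) * ε a := by
      rw [Algebra.smul_def]; rfl
    rw [h1, h2, map_mul]
    congr 1
    show IsLocalRing.ResidueField.map _ (IsLocalRing.residue _ _) = _
    rw [IsLocalRing.ResidueField.map_residue]
    congr 1
    apply Subtype.ext
    show e (algebraMap k K c) = algebraMap k L c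
    rw [e.commutes]
  let f : IsLocalRing.ResidueField (comapPlaceEquiv e P).O ≃ₗ[k] IsLocalRing.ResidueField P.O :=
    { ε.toAddEquiv with map_smul' := hsmul }
  exact f.finrank_eq

theorem mapDiv_comp_algEquiv (hK : IsFF k K) (hL : IsFF k L) (e : K ≃ₐ[k] L)
    {ι : Type*} [Fintype ι] [Nonempty ι] (φ : ι → K) :
    mapDiv k (fun i => e (φ i)) = Finsupp.equivMapDomain (placeEquiv e).symm (mapDiv k φ) := by
  ext P
  rw [Finsupp.equivMapDomain_apply, Equiv.symm_symm, mapDiv_apply hL, mapDiv_apply hK]
  rfl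

theorem deg_mapDiv_comp_algEquiv (hK : IsFF k K) (hL : IsFF k L) (e : K ≃ₐ[k] L)
    {ι : Type*} [Fintype ι] [Nonempty ι] (φ : ι → K) :
    (mapDiv k (fun i => e (φ i))).deg = (mapDiv k φ).deg := by
  rw [mapDiv_comp_algEquiv hK hL e φ]
  unfold Divisor.deg
  rw [Finsupp.sum_equivMapDomain]
  apply Finsupp.sum_congr
  intro P _
  congr 2
  exact deg_comapPlaceEquiv e.symm P

end

section
variable {k K : Type*} [Field k] [Field K] [Algebra k K]

theorem finiteDimensional_of_le {F E : IntermediateField k K} (h : F ≤ E)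
    (hF : FiniteDimensional F K) : FiniteDimensional E K := by
  letI : Algebra F E := (IntermediateField.inclusion h).toRingHom.toAlgebra
  haveI : IsScalarTower F E K := IsScalarTower.of_algebraMap_eq fun _ => rfl
  exact Module.Finite.of_restrictScalars_finite F E K

theorem deg_mapDiv_comp_algHom (hK : IsFunctionField k K) (τ : K →ₐ[k] K)
    {ι : Type*} [Fintype ι] [Nonempty ι] (φ : ι → K) :
    (mapDiv k (τ ∘ φ)).deg = Module.finrank τ.fieldRange K * (mapDiv k φ).deg := by
  obtain ⟨x, hx, -⟩ := hK.1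
  have hτx : Transcendental k (τ x) := by
    intro h
    exact hx ((isAlgebraic_algHom_iff τ τ.injective).mp h)
  have hmem : τ x ∈ τ.fieldRange := ⟨x, rfl⟩
  have hK₀ : IsFunctionField k τ.fieldRange :=
    FF.isFunctionField_intermediateField hK τ.fieldRange ⟨τ x, hmem, hτx⟩
  haveI hfd : FiniteDimensional τ.fieldRange K := by
    apply finiteDimensional_of_le (F := k⟮τ x⟯)
    · rw [IntermediateField.adjoin_simple_le_iff]; exact hmem
    · exact FF.finiteDimensional_adjoin hK hτx
  let e : K ≃ₐ[k] τ.fieldRange := AlgEquiv.ofInjectiveField τ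
  have h1 : (τ ∘ φ) = fun i => algebraMap τ.fieldRange K (e (φ i)) := by
    funext i; rfl
  rw [h1, mapDiv_algebraMap_eq_conorm hK₀ (fun i => e (φ i)), conorm_deg hK₀,
    deg_mapDiv_comp_algEquiv hK.1 hK₀.1 e φ]

end

end Groth.Agent.Helper5.FG
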