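import Groth.Agent.Helper5.FFExpand
import Groth.Prelude.Def_W4bk4goldsch45p2

set_option autoImplicit false

namespace Groth.Agent.Helper5.Ex
open FunFld LaurentSeries

variable {k K : Type*} [Field k] [Field K] [Algebra k K] (P : Place k K) {t : K}

theorem Φ₀_eq_of_isExp (hP : P.deg = 1) (ht : P.1 t = WithZero.exp (-1 : ℤ)) {y : K}
    (hy : P.1 y ≤ 1) {f : PowerSeries k} (hf : IsExp P (t := t) y f) : Φ₀ P t y = f :=
  isExp_unique P ht (isExp_Φ₀ P hP ht hy) hf

theorem mem_O_iff (y : K) : y ∈ P.O ↔ P.1 y ≤ 1 := Valuation.mem_valuationSubring_iff P.1 y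

/-- the expansion as a ring homomorphism on the valuation ring -/
noncomputable def Φring (hP : P.deg = 1) (ht : P.1 t = WithZero.exp (-1 : ℤ)) :
    P.O →+* PowerSeries k where
  toFun y := Φ₀ P t y.1
  map_one' := by
    have := isExp_algebraMap P (t := t) (1 : k)
    rw [map_one, map_one] at this
    exact Φ₀_eq_of_isExp P hP ht ((mem_O_iff P _).mp (1 : P.O).2) this
  map_mul' y z := by
    apply Φ₀_eq_of_isExp P hP ht ((mem_O_iff P _).mp (y * z).2)
    exact isExp_mul P ht ((mem_O_iff P _).mp z.2) (isExp_Φ₀ P hP ht ((mem_O_iff P _).mp y.2))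
      (isExp_Φ₀ P hP ht ((mem_O_iff P _).mp z.2))
  map_zero' := by
    have := isExp_algebraMap P (t := t) (0 : k)
    rw [map_zero, map_zero] at this
    exact Φ₀_eq_of_isExp P hP ht ((mem_O_iff P _).mp (0 : P.O).2) this
  map_add' y z := by
    apply Φ₀_eq_of_isExp P hP ht ((mem_O_iff P _).mp (y + z).2)
    exact isExp_add P (isExp_Φ₀ P hP ht ((mem_O_iff P _).mp y.2))
      (isExp_Φ₀ P hP ht ((mem_O_iff P _).mp z.2))

theorem Φring_injective (hP : P.deg = 1) (ht : P.1 t = WithZero.exp (-1 : ℤ)) :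
    Function.Injective (Φring P hP ht) := by
  rw [injective_iff_map_eq_zero]
  intro y hy
  have h1 : IsExp P (t := t) y.1 0 := by
    have := isExp_Φ₀ P hP ht ((mem_O_iff P _).mp y.2)
    have h2 : Φ₀ P t y.1 = 0 := hy
    rwa [h2] at this
  by_contra hne
  have hne' : (y : K) ≠ 0 := fun h => hne (Subtype.ext h)
  have h2 : P.1 (y : K) ≠ 0 := (Valuation.ne_zero_iff _).mpr hne'
  obtain ⟨a, ha⟩ : ∃ a : ℤ, P.1 (y : K) = WithZero.exp a := ⟨_, (WithZero.exp_log h2).symm⟩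
  have h3 := h1 (-a + 1).toNat
  have h4 : ev t (-a + 1).toNat (0 : PowerSeries k) = 0 := by
    rw [ev_eq_sum]; simp
  rw [h4, sub_zero, ha, WithZero.exp_le_exp] at h3
  omega

/-- the expansion on the whole field -/
noncomputable def Φfield (hP : P.deg = 1) (ht : P.1 t = WithZero.exp (-1 : ℤ)) :
    K →+* LaurentSeries k :=
  IsFractionRing.lift (A := P.O) (K := K)
    (g := (HahnSeries.ofPowerSeries ℤ k).comp (Φring P hP ht))
    ((HahnSeries.ofPowerSeries_injective).comp (Φring_injective P hP ht))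

theorem Φfield_of_le (hP : P.deg = 1) (ht : P.1 t = WithZero.exp (-1 : ℤ)) {y : K}
    (hy : P.1 y ≤ 1) : Φfield P hP ht y = ((Φ₀ P t y : PowerSeries k) : LaurentSeries k) := by
  have : y = algebraMap P.O K ⟨y, (mem_O_iff P y).mpr hy⟩ := rfl
  conv_lhs => rw [this]
  rw [Φfield, IsFractionRing.lift_algebraMap]
  rfl

/-- the expansion as a `k`-algebra homomorphism -/
noncomputable def Φ (hP : P.deg = 1) (ht : P.1 t = WithZero.exp (-1 : ℤ)) :
    K →ₐ[k] LaurentSeries k :=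
  { Φfield P hP ht with
    commutes' := by
      intro c
      show Φfield P hP ht (algebraMap k K c) = _
      rw [Φfield_of_le P hP ht (P.2.1 c),
        Φ₀_eq_of_isExp P hP ht (P.2.1 c) (isExp_algebraMap P c), LocRes.algebraMap_eq_C]
      simp }

theorem Φ_of_le (hP : P.deg = 1) (ht : P.1 t = WithZero.exp (-1 : ℤ)) {y : K}
    (hy : P.1 y ≤ 1) : Φ P hP ht y = ((Φ₀ P t y : PowerSeries k) : LaurentSeries k) :=
  Φfield_of_le P hP ht hy

theorem Φ_t (hP : P.deg = 1) (ht : P.1 t = WithZero.exp (-1 : ℤ)) :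
    Φ P hP ht t = HahnSeries.single 1 1 := by
  have ht1 : P.1 t ≤ 1 := by
    rw [ht]; exact (WithZero.exp_le_exp.mpr (by norm_num)).trans_eq WithZero.exp_zero
  rw [Φ_of_le P hP ht ht1, Φ₀_eq_of_isExp P hP ht ht1 (isExp_t P ht)]
  simp

theorem coeff_zero_Φ₀ (hP : P.deg = 1) {y : K} (hy : P.1 y ≤ 1) :
    P.1 (y - algebraMap k K (PowerSeries.coeff 0 (Φ₀ P t y))) < 1 := by
  have : PowerSeries.coeff 0 (Φ₀ P t y) = cst P y := by simp [Φ₀, dig, rem]
  rw [this]
  exact cst_spec P hP hy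

theorem val_Φ_unit (hP : P.deg = 1) (ht : P.1 t = WithZero.exp (-1 : ℤ)) {u : K}
    (hu : P.1 u = 1) : Valued.v (Φ P hP ht u) = 1 := by
  rw [Φ_of_le P hP ht hu.le]
  apply le_antisymm
  · rw [LaurentSeries.val_le_one_iff_eq_coe]
    exact ⟨_, rfl⟩
  · by_contra hlt
    rw [not_le] at hlt
    have h1 := FF.le_exp_neg_one_of_lt_one hlt
    have h2 := (LaurentSeries.valuation_le_iff_coeff_lt_eq_zero k (D := 1)).mp h1 0 (by norm_num)
    rw [PowerSeries.coeff_coe, if_neg (by norm_num)] at h2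
    simp only [Int.natAbs_zero] at h2
    have h3 := coeff_zero_Φ₀ (t := t) P hP hu.le
    rw [h2, map_zero, sub_zero, hu] at h3
    exact lt_irrefl _ h3

theorem val_Φ (hP : P.deg = 1) (ht : P.1 t = WithZero.exp (-1 : ℤ)) (y : K) :
    Valued.v (Φ P hP ht y) = P.1 y := by
  by_cases hy : y = 0
  · rw [hy, map_zero, map_zero, map_zero]
  have ht0 : t ≠ 0 := by
    rintro rfl
    rw [map_zero] at ht
    exact WithZero.exp_ne_zero ht.symm
  have h2 : P.1 y ≠ 0 := (Valuation.ne_zero_iff _).mpr hy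
  obtain ⟨a, ha⟩ : ∃ a : ℤ, P.1 y = WithZero.exp (-a) := ⟨-WithZero.log (P.1 y), by
    rw [neg_neg, WithZero.exp_log h2]⟩
  have hta : P.1 (t ^ a) = WithZero.exp (-a) := by
    rw [map_zpow₀, ht, ← WithZero.exp_zsmul]
    simp
  obtain ⟨u, hu1, hy'⟩ : ∃ u : K, P.1 u = 1 ∧ y = t ^ a * u := by
    refine ⟨y * (t ^ a)⁻¹, ?_, ?_⟩
    · rw [map_mul, map_inv₀, hta, ha, mul_inv_cancel₀ WithZero.exp_ne_zero]
    · field_simp
  rw [hy', map_mul, map_mul, map_mul, val_Φ_unit P hP ht hu1, hu1, map_zpow₀, map_zpow₀, Φ_t,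
    map_zpow₀, LaurentSeries.valuation_single_zpow, ht]

theorem isExpansionAt_Φ (hP : P.deg = 1) (ht : P.1 t = WithZero.exp (-1 : ℤ)) :
    LocRes.IsExpansionAt P.1 (Φ P hP ht) := by
  refine ⟨val_Φ P hP ht, ?_, ⟨t, ht⟩⟩
  intro a
  refine ⟨algebraMap k K a, P.2.1 a, ?_⟩
  rw [AlgHom.commutes, LocRes.algebraMap_eq_C]
  simp

/-- Dictionary: valuation bounds are vanishing of low coefficients. -/
theorem val_le_iff_coeff (hP : P.deg = 1) (ht : P.1 t = WithZero.exp (-1 : ℤ)) (y : K) (a : ℤ) :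
    P.1 y ≤ WithZero.exp (-a) ↔ ∀ n : ℤ, n < a → (Φ P hP ht y).coeff n = 0 := by
  rw [← val_Φ P hP ht y, LaurentSeries.valuation_le_iff_coeff_lt_eq_zero]

/-- Dictionary: the value at `P` of `y / t^a` is the coefficient of degree `a`. -/
theorem evalP_mul_zpow (hP : P.deg = 1) (ht : P.1 t = WithZero.exp (-1 : ℤ)) (y : K) (a : ℤ)
    (hy : P.1 y ≤ WithZero.exp (-a)) :
    evalP P (y * t ^ (-a)) = algebraMap k (IsLocalRing.ResidueField P.O) ((Φ P hP ht y).coeff a) := by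
  have hta : P.1 (t ^ (-a)) = WithZero.exp a := by
    rw [map_zpow₀, ht, ← WithZero.exp_zsmul]
    simp
  have hz : P.1 (y * t ^ (-a)) ≤ 1 := by
    rw [map_mul, hta]
    calc P.1 y * WithZero.exp a ≤ WithZero.exp (-a) * WithZero.exp a := mul_le_mul' hy le_rfl
      _ = 1 := by rw [← WithZero.exp_add]; simp
  have h1 : (Φ P hP ht y).coeff a = PowerSeries.coeff 0 (Φ₀ P t (y * t ^ (-a))) := by
    have h2 := Φ_of_le P hP ht hz
    rw [map_mul, map_zpow₀, Φ_t, ← RatFunc.single_zpow] at h2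
    have h3 := congrArg (fun f => HahnSeries.coeff f 0) h2
    rw [HahnSeries.coeff_mul_single, PowerSeries.coeff_coe, if_neg (by norm_num)] at h3
    simp only [Int.natAbs_zero, mul_one, zero_sub, neg_neg] at h3
    exact h3
  rw [h1]
  have h4 := coeff_zero_Φ₀ (t := t) P hP hz
  rw [evalP, dif_pos hz]
  have h5 : IsLocalRing.residue P.O (⟨y * t ^ (-a), (mem_O_iff P _).mpr hz⟩ -
      algebraMap k P.O (PowerSeries.coeff 0 (Φ₀ P t (y * t ^ (-a))))) = 0 := by
    rw [FF.residue_eq_zero_iff]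
    exact h4
  rw [map_sub, sub_eq_zero] at h5
  rw [h5]
  rfl

end Groth.Agent.Helper5.Ex
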