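import Mathlib
import Groth.Prelude
import Groth.Agent.Helper3.EtDiff1
import Groth.Agent.Helper3.Ked3
import Groth.Agent.Helper5.EtLoc1

set_option autoImplicit false
set_option linter.style.haveILetI false
set_option linter.unusedSectionVars false
set_option linter.unusedVariables false

open IsLocalRing TensorProduct KaehlerDifferential

universe u

namespace Groth.Agent.Helper5.JacDimA

section psi

variable (k S T K : Type u) [CommRing k] [CommRing S] [CommRing T] [Field K]
  [Algebra k S] [Algebra k T] [Algebra S T] [IsScalarTower k S T]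
  [Algebra S K] [Algebra T K] [IsScalarTower S T K] [Algebra.FormallyEtale S T]

/-- comparison of fibres of differentials along a formally étale map -/
noncomputable def psi : K ⊗[S] Ω[S⁄k] ≃ₗ[K] K ⊗[T] Ω[T⁄k] :=
  (AlgebraTensorModule.cancelBaseChange S T K K Ω[S⁄k]).symm ≪≫ₗ
    AlgebraTensorModule.congr (LinearEquiv.refl K K) (tensorKaehlerEquivOfFormallyEtale k S T)

theorem psi_tmul (s : S) :
    psi k S T K ((1 : K) ⊗ₜ[S] D k S s) = (1 : K) ⊗ₜ[T] D k T (algebraMap S T s) := by
  unfold psi
  rw [LinearEquiv.trans_apply, AlgebraTensorModule.cancelBaseChange_symm_tmul,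
    AlgebraTensorModule.congr_tmul, LinearEquiv.refl_apply,
    tensorKaehlerEquivOfFormallyEtale_apply, mapBaseChange_tmul, one_smul, map_D]

end psi

section main

variable {k S : Type u} [Field k] [CommRing S] [Algebra k S] [Algebra.FiniteType k S]

theorem forward (q : Ideal S) [q.IsPrime] (h : Algebra.IsSmoothAt k q) :
    ((Module.finrank q.ResidueField (q.ResidueField ⊗[S] Ω[S⁄k]) : ℕ∞) : WithBot ℕ∞) ≤
      FlatMor.localDim (PrimeSpectrum S) ⟨q, inferInstance⟩ := by
  haveI : Algebra.FinitePresentation k S :=
    Algebra.FinitePresentation.of_finiteType.mp inferInstance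
  haveI := h
  obtain ⟨f, hf, hstd⟩ := Algebra.IsSmoothAt.exists_notMem_isStandardSmooth k q
  obtain ⟨ι, σ, hι, hσ, ⟨P⟩⟩ := hstd.out
  haveI hn : Algebra.IsStandardSmoothOfRelativeDimension P.dimension k (Localization.Away f) :=
    ⟨_, _, _, hσ, P, rfl⟩
  generalize P.dimension = n at hn
  obtain ⟨g, hg⟩ := Algebra.IsStandardSmoothOfRelativeDimension.exists_etale_mvPolynomial n k
    (Localization.Away f)
  letI := g.toRingHom.toAlgebra
  haveI : IsScalarTower k (MvPolynomial (Fin n) k) (Localization.Away f) :=
    .of_algebraMap_eq' g.comp_algebraMap.symm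
  haveI : Algebra.Etale (MvPolynomial (Fin n) k) (Localization.Away f) := hg
  haveI : Algebra.FiniteType k (Localization.Away f) :=
    Algebra.FiniteType.trans (S := S) inferInstance
      (IsLocalization.finiteType_of_monoid_fg (Submonoid.powers f) (Localization.Away f))
  -- the prime of the localization
  have hdisj : Disjoint (Submonoid.powers f : Set S) (q : Set S) := by
    rw [Set.disjoint_left]
    rintro _ ⟨m, rfl⟩ hm
    exact hf (Ideal.IsPrime.mem_of_pow_mem inferInstance m hm)
  haveI hq' : (q.map (algebraMap S (Localization.Away f))).IsPrime :=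
    IsLocalization.isPrime_of_isPrime_disjoint (Submonoid.powers f) _ q inferInstance hdisj
  have hcomap : (q.map (algebraMap S (Localization.Away f))).comap
      (algebraMap S (Localization.Away f)) = q :=
    IsLocalization.under_map_of_isPrime_disjoint (Submonoid.powers f) _ inferInstance hdisj
  obtain ⟨hloc, -⟩ := Groth.Agent.Helper3.Ked.localDim_eq_of_etale k (Localization.Away f) n
    (q.map (algebraMap S (Localization.Away f)))
  have hopen := PrimeSpectrum.localization_away_isOpenEmbedding (Localization.Away f) f
  have h1 := Groth.Agent.Helper5.EtLoc.localDim_of_isOpenEmbedding _ hopen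
    ⟨q.map (algebraMap S (Localization.Away f)), hq'⟩
  have h2 : PrimeSpectrum.comap (algebraMap S (Localization.Away f))
      ⟨q.map (algebraMap S (Localization.Away f)), hq'⟩ = ⟨q, inferInstance⟩ :=
    PrimeSpectrum.ext hcomap
  rw [h2, hloc] at h1
  rw [← h1]
  have hunit : IsUnit (algebraMap S q.ResidueField f) := by
    rw [isUnit_iff_ne_zero, Ne, Ideal.algebraMap_residueField_eq_zero]
    exact hf
  letI algTK : Algebra (Localization.Away f) q.ResidueField :=
    (IsLocalization.Away.lift f hunit).toAlgebra
  haveI : IsScalarTower S (Localization.Away f) q.ResidueField :=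
    .of_algebraMap_eq' (IsLocalization.Away.lift_comp f hunit).symm
  haveI : Algebra.FormallyEtale S (Localization.Away f) :=
    Algebra.FormallyEtale.of_isLocalization (Submonoid.powers f)
  haveI : Nontrivial (Localization.Away f) :=
    ⟨⟨0, 1, fun h0 => hq'.ne_top ((Ideal.eq_top_iff_one _).2 (h0 ▸ Ideal.zero_mem _))⟩⟩
  haveI : Algebra.IsStandardSmooth k (Localization.Away f) := hstd
  have e := psi k S (Localization.Away f) q.ResidueField
  rw [e.finrank_eq, Module.finrank_baseChange]
  have hr := Algebra.IsStandardSmoothOfRelativeDimension.rank_kaehlerDifferential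
    (R := k) (S := Localization.Away f) n
  have hfr : Module.finrank (Localization.Away f) Ω[Localization.Away f⁄k] = n := by
    unfold Module.finrank
    rw [hr]
    simp
  rw [hfr]
  rfl

theorem span_one_tmul_D (q : Ideal S) [q.IsPrime] :
    Submodule.span q.ResidueField
      (Set.range fun x : S => (1 : q.ResidueField) ⊗ₜ[S] D k S x) = ⊤ := by
  have key : ∀ ω : Ω[S⁄k], (1 : q.ResidueField) ⊗ₜ[S] ω ∈ Submodule.span q.ResidueField
      (Set.range fun x : S => (1 : q.ResidueField) ⊗ₜ[S] D k S x) := by
    intro ω
    have hω : ω ∈ Submodule.span S (Set.range (D k S)) := by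
      rw [KaehlerDifferential.span_range_derivation]; trivial
    induction hω using Submodule.span_induction with
    | mem x hx =>
      obtain ⟨s, rfl⟩ := hx
      exact Submodule.subset_span ⟨s, rfl⟩
    | zero => rw [TensorProduct.tmul_zero]; exact Submodule.zero_mem _
    | add x y _ _ hx hy => rw [TensorProduct.tmul_add]; exact Submodule.add_mem _ hx hy
    | smul a x _ hx =>
      have : (1 : q.ResidueField) ⊗ₜ[S] (a • x) =
          (algebraMap S q.ResidueField a) • ((1 : q.ResidueField) ⊗ₜ[S] x) := by
        rw [TensorProduct.tmul_smul, TensorProduct.smul_tmul', TensorProduct.smul_tmul',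
          Algebra.smul_def, mul_one, smul_eq_mul, mul_one]
      rw [this]
      exact Submodule.smul_mem _ _ hx
  rw [eq_top_iff]
  rintro v -
  induction v using TensorProduct.induction_on with
  | zero => exact Submodule.zero_mem _
  | add x y hx hy => exact Submodule.add_mem _ hx hy
  | tmul c ω =>
    have hc : c ⊗ₜ[S] ω = c • ((1 : q.ResidueField) ⊗ₜ[S] ω) := by
      rw [TensorProduct.smul_tmul', smul_eq_mul, mul_one]
    rw [hc]
    exact Submodule.smul_mem _ _ (key ω)

theorem backward (q : Ideal S) [q.IsPrime]
    (h : ((Module.finrank q.ResidueField (q.ResidueField ⊗[S] Ω[S⁄k]) : ℕ∞) : WithBot ℕ∞) ≤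
      FlatMor.localDim (PrimeSpectrum S) ⟨q, inferInstance⟩) : Algebra.IsSmoothAt k q := by
  haveI : IsNoetherianRing S := Algebra.FiniteType.isNoetherianRing k S
  haveI : IsNoetherianRing (Localization.AtPrime q) :=
    IsLocalization.isNoetherianRing q.primeCompl _ inferInstance
  haveI : Algebra.EssFiniteType k (Localization.AtPrime q) :=
    Algebra.EssFiniteType.comp k S (Localization.AtPrime q)
  -- the local dimension is a natural number
  obtain ⟨r, hr1, hr2⟩ := Groth.Agent.Helper5.FtDim.dim_eq_trdeg k (S ⧸ q) q.ResidueField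
  have hS := Groth.Agent.S2141.result (k := k) q r hr2
  obtain ⟨d, hd⟩ : ∃ d : ℕ, ringKrullDim (Localization.AtPrime q) = (d : WithBot ℕ∞) := by
    have h1 : ringKrullDim (Localization.AtPrime q) ≠ ⊤ := ringKrullDim_ne_top
    have h2 : ringKrullDim (Localization.AtPrime q) ≠ ⊥ := ringKrullDim_ne_bot
    obtain ⟨a, ha⟩ := WithBot.ne_bot_iff_exists.1 h2
    have ha' : a ≠ ⊤ := by
      rintro rfl
      exact h1 ha.symm
    obtain ⟨d, rfl⟩ := ENat.ne_top_iff_exists.1 ha'
    exact ⟨d, ha.symm⟩
  have hn : FlatMor.localDim (PrimeSpectrum S) ⟨q, inferInstance⟩ = ((d + r : ℕ) : WithBot ℕ∞) := by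
    rw [hS, hd]; push_cast; rfl
  rw [hn] at h
  have hmn : Module.finrank q.ResidueField (q.ResidueField ⊗[S] Ω[S⁄k]) ≤ d + r := by
    exact_mod_cast h
  -- choose a basis among the `1 ⊗ d x`
  obtain ⟨κ, a, ha, hspan, hli⟩ := exists_linearIndependent' q.ResidueField
    (fun x : S => (1 : q.ResidueField) ⊗ₜ[S] D k S x)
  rw [span_one_tmul_D] at hspan
  haveI : Module.Finite S Ω[S⁄k] := inferInstance
  haveI : Module.Finite q.ResidueField (q.ResidueField ⊗[S] Ω[S⁄k]) := inferInstance
  let b : Module.Basis κ q.ResidueField (q.ResidueField ⊗[S] Ω[S⁄k]) :=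
    Module.Basis.mk hli (by rw [hspan])
  haveI : Fintype κ := FiniteDimensional.fintypeBasisIndex b
  have hcard : Fintype.card κ ≤ Fintype.card (Fin (d + r)) := by
    rw [Fintype.card_fin, ← Module.finrank_eq_card_basis b]
    exact hmn
  obtain ⟨emb⟩ := Function.Embedding.nonempty_of_card_le hcard
  let g : Fin (d + r) → S := Function.extend emb a 0
  have hg : ∀ c : κ, g (emb c) = a c := fun c => emb.injective.extend_apply a 0 c
  have hgspan : Submodule.span q.ResidueField
      (Set.range fun i : Fin (d + r) => (1 : q.ResidueField) ⊗ₜ[S] D k S (g i)) = ⊤ := by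
    rw [eq_top_iff, ← hspan]
    apply Submodule.span_mono
    rintro _ ⟨c, rfl⟩
    exact ⟨emb c, by simp only [Function.comp_apply, hg]⟩
  -- the algebra structure over the polynomial ring
  let φ : MvPolynomial (Fin (d + r)) k →ₐ[k] S := MvPolynomial.aeval g
  letI algPS : Algebra (MvPolynomial (Fin (d + r)) k) S := φ.toRingHom.toAlgebra
  haveI : IsScalarTower k (MvPolynomial (Fin (d + r)) k) S :=
    .of_algebraMap_eq' φ.comp_algebraMap.symm
  have hX : ∀ i, algebraMap (MvPolynomial (Fin (d + r)) k) S (MvPolynomial.X i) = g i := by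
    intro i
    show φ (MvPolynomial.X i) = g i
    exact MvPolynomial.aeval_X g i
  have hEt : Algebra.IsEtaleAt (MvPolynomial (Fin (d + r)) k) q := by
    rw [Groth.Agent.Helper3.EtDiff.s2790 k S (d + r) q hn]
    rw [← IsLocalRing.map_tensorProduct_mk_eq_top, Submodule.map_span, ← Set.range_comp]
    haveI : Algebra.FormallyEtale S (Localization.AtPrime q) :=
      Algebra.FormallyEtale.of_isLocalization q.primeCompl
    set W : Submodule q.ResidueField (q.ResidueField ⊗[Localization.AtPrime q]
        Ω[Localization.AtPrime q⁄k]) :=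
      Submodule.span q.ResidueField (Set.range fun i : Fin (d + r) =>
        (1 : q.ResidueField) ⊗ₜ[Localization.AtPrime q]
          D k (Localization.AtPrime q) (algebraMap S (Localization.AtPrime q) (g i))) with hW
    have hWB : Submodule.span (Localization.AtPrime q)
        (Set.range (⇑(TensorProduct.mk (Localization.AtPrime q)
          (IsLocalRing.ResidueField (Localization.AtPrime q)) Ω[Localization.AtPrime q⁄k] 1) ∘
          fun i : Fin (d + r) => D k (Localization.AtPrime q)
            (algebraMap S (Localization.AtPrime q)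
              (algebraMap (MvPolynomial (Fin (d + r)) k) S (MvPolynomial.X i))))) =
        W.restrictScalars (Localization.AtPrime q) := by
      rw [hW, Submodule.restrictScalars_span (Localization.AtPrime q) q.ResidueField
        Ideal.Quotient.mk_surjective]
      congr 2
      funext i
      simp only [Function.comp_apply, hX]
      rfl
    rw [hWB, Submodule.restrictScalars_eq_top_iff]
    have hWmap : W = Submodule.map (psi k S (Localization.AtPrime q) q.ResidueField).toLinearMap
        (Submodule.span q.ResidueField
          (Set.range fun i : Fin (d + r) => (1 : q.ResidueField) ⊗ₜ[S] D k S (g i))) := by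
      rw [Submodule.map_span, ← Set.range_comp, hW]
      congr 2
      funext i
      simp only [Function.comp_apply, LinearEquiv.coe_coe, psi_tmul]
    rw [hWmap, hgspan, Submodule.map_top, LinearEquiv.range]
  haveI : Algebra.FormallyEtale (MvPolynomial (Fin (d + r)) k) (Localization.AtPrime q) := hEt
  haveI : Algebra.FormallySmooth (MvPolynomial (Fin (d + r)) k) (Localization.AtPrime q) :=
    inferInstance
  show Algebra.FormallySmooth k (Localization.AtPrime q)
  exact Algebra.FormallySmooth.comp k (MvPolynomial (Fin (d + r)) k) (Localization.AtPrime q)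

theorem main (q : Ideal S) [q.IsPrime] :
    Algebra.IsSmoothAt k q ↔
      ((Module.finrank q.ResidueField (q.ResidueField ⊗[S] Ω[S⁄k]) : ℕ∞) : WithBot ℕ∞) ≤
        FlatMor.localDim (PrimeSpectrum S) ⟨q, inferInstance⟩ :=
  ⟨forward q, backward q⟩

end main

end Groth.Agent.Helper5.JacDimA
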