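import Mathlib
import Groth.Prelude
import Groth.Agent.Helper5.JacDimA
import Groth.Agent.Helper7.Fitt10

set_option autoImplicit false
set_option linter.style.haveILetI false
set_option linter.unusedSectionVars false
set_option linter.unusedVariables false

open IsLocalRing TensorProduct KaehlerDifferential

universe u

namespace Groth.Agent.Helper5.JacDimB

theorem exists_field (k : Type u) [inst : CommRing k] (hk : IsField k) :
    ∃ F : Field k, F.toCommRing = inst := ⟨hk.toField, rfl⟩

/-- `S2063` over a base ring which is a field only propositionally -/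
theorem main_isField {k S : Type u} [inst : CommRing k] (hk : IsField k) [CommRing S]
    [Algebra k S] [Algebra.FiniteType k S] (q : Ideal S) [q.IsPrime] :
    Algebra.IsSmoothAt k q ↔
      ((Module.finrank q.ResidueField (q.ResidueField ⊗[S] Ω[S⁄k]) : ℕ∞) : WithBot ℕ∞) ≤
        FlatMor.localDim (PrimeSpectrum S) ⟨q, inferInstance⟩ := by
  obtain ⟨F, rfl⟩ := exists_field k hk
  exact Groth.Agent.Helper5.JacDimA.main q

/-- Fitting ideal form -/
theorem fitt_le_iff {k S : Type u} [inst : CommRing k] (hk : IsField k) [CommRing S]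
    [Algebra k S] [Algebra.FiniteType k S] (q : Ideal S) [q.IsPrime] (d : ℕ)
    (hd : FlatMor.localDim (PrimeSpectrum S) ⟨q, inferInstance⟩ = (d : WithBot ℕ∞)) :
    Fitt.ideal S Ω[S⁄k] d ≤ q ↔ ¬ Algebra.IsSmoothAt k q := by
  haveI : Module.Finite S Ω[S⁄k] := inferInstance
  rw [main_isField hk q, hd, ← not_iff_not, not_not,
    (Groth.Agent.Helper7.FittLib.fitt_not_le_iff Ω[S⁄k] d q).1]
  constructor
  · intro h
    exact_mod_cast h
  · intro h
    exact_mod_cast h

end Groth.Agent.Helper5.JacDimB
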