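import Mathlib
import Groth.Prelude
import Groth.Agent.Helper5.JacDimB
import Groth.Agent.Lead.FittSheafB
import Groth.Agent.Lead.OmegaSecB
import Groth.Agent.Helper5.EtDim

set_option autoImplicit false
set_option linter.style.haveILetI false
set_option linter.unusedSectionVars false
set_option linter.unusedVariables false

open CategoryTheory CategoryTheory.Limits AlgebraicGeometry Opposite TopologicalSpace

universe u

namespace Groth.Agent.Helper5.JacDimC

open Groth.Agent.Lead Groth.Agent.Helper7.FittLib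

/-- scheme over a field: the support of `Fitt_d Ω` at a point of local dimension `d` is the
non-smooth locus -/
theorem sf {F : Scheme.{u}} (R : CommRingCat.{u}) (hR : IsField R) (g : F ⟶ Spec R)
    [LocallyOfFinitePresentation g] [QuasiSeparated g] (y : F) (d : ℕ)
    (hd : FlatMor.localDim F y = (d : WithBot ℕ∞)) :
    y ∈ (Fitt.sheafIdeal (Omega.sheaf g) d).support ↔ y ∉ g.smoothLocus := by
  obtain ⟨_, ⟨U, hU : IsAffineOpen U, rfl⟩, hyU, -⟩ :=
    F.isBasis_affineOpens.exists_subset_of_mem_open (Set.mem_univ y) isOpen_univ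
  have hV : IsAffineOpen (⊤ : (Spec R).Opens) := isAffineOpen_top _
  have e : U ≤ g ⁻¹ᵁ ⊤ := le_top
  letI alg : Algebra Γ(Spec R, ⊤) Γ(F, U) := (g.appLE ⊤ U e).hom.toAlgebra
  have hk : IsField Γ(Spec R, ⊤) :=
    MulEquiv.isField hR (Scheme.ΓSpecIso R).commRingCatIsoToRingEquiv.toMulEquiv
  haveI : Algebra.FiniteType Γ(Spec R, ⊤) Γ(F, U) := g.finiteType_appLE hV hU e
  obtain ⟨ε, -⟩ := OmegaSecA.exists_sectionsEquiv g hU hV e
  have hft := OmegaSecB.isFiniteType_omega g
  rw [FittSheafB.mem_support_iff (Omega.sheaf g) hft d hU y hyU, fitt_congr ε d]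
  have hd' : FlatMor.localDim (PrimeSpectrum Γ(F, U))
      ⟨(hU.primeIdealOf ⟨y, hyU⟩).asIdeal, inferInstance⟩ = (d : WithBot ℕ∞) := by
    have h1 := Groth.Agent.Helper5.EtDim.localDim_eq_of_etale hU.fromSpec
      (hU.primeIdealOf ⟨y, hyU⟩)
    rw [hU.fromSpec_primeIdealOf ⟨y, hyU⟩, hd] at h1
    exact h1
  rw [Groth.Agent.Helper5.JacDimB.fitt_le_iff hk _ d hd', Scheme.Hom.mem_smoothLocus,
    formallySmooth_stalkMap_iff ⊤ hV U hU e hyU]
  rfl

end Groth.Agent.Helper5.JacDimC
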