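import Groth.Agent.Helper5.EtDim
import Mathlib

set_option autoImplicit false
universe u
open CategoryTheory CategoryTheory.Limits AlgebraicGeometry Opposite

namespace Groth.Agent.Helper5.IntDim

/-- Incomparability for integral morphisms of affine schemes. -/
theorem eq_of_specializes_of_integral {W V : Scheme.{u}} [IsAffine W] [IsAffine V] (i : W ⟶ V)
    [IsIntegralHom i] {a a' : ↥W} (h : a' ⤳ a) (hi : i a' = i a) : a' = a := by
  have hint : (i.appTop).hom.IsIntegral := IsIntegralHom.isIntegral_app i ⊤ (isAffineOpen_top V)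
  let _ : Algebra Γ(V, ⊤) Γ(W, ⊤) := (i.appTop).hom.toAlgebra
  have : Algebra.IsIntegral Γ(V, ⊤) Γ(W, ⊤) := ⟨hint⟩
  let P : PrimeSpectrum Γ(W, ⊤) := W.isoSpec.hom a
  let P' : PrimeSpectrum Γ(W, ⊤) := W.isoSpec.hom a'
  have hle : P' ≤ P := by
    rw [PrimeSpectrum.le_iff_specializes]
    exact h.map W.isoSpec.hom.continuous
  have hnat : ∀ b : ↥W, (Spec.map i.appTop) (W.isoSpec.hom b) = V.isoSpec.hom (i b) := by
    intro b
    rw [← Scheme.Hom.comp_apply, Scheme.isoSpec_hom_naturality, Scheme.Hom.comp_apply]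
  have hcomap : P'.asIdeal.comap (algebraMap Γ(V, ⊤) Γ(W, ⊤)) =
      P.asIdeal.comap (algebraMap Γ(V, ⊤) Γ(W, ⊤)) := by
    have h1 := hnat a
    have h2 := hnat a'
    rw [hi] at h2
    have h3 : (Spec.map i.appTop) (W.isoSpec.hom a') = (Spec.map i.appTop) (W.isoSpec.hom a) :=
      h2.trans h1.symm
    exact congrArg PrimeSpectrum.asIdeal h3
  have heq : P' = P := by
    by_contra hne
    have hlt : P'.asIdeal < P.asIdeal := lt_of_le_of_ne hle (fun h => hne (PrimeSpectrum.ext h))
    have := Ideal.IsIntegral.comap_lt_comap (R := Γ(V, ⊤)) hlt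
    rw [hcomap] at this
    exact lt_irrefl _ this
  exact W.isoSpec.hom.isOpenEmbedding.injective heq

theorem strictMono_of_integral {W V : Scheme.{u}} [IsAffine W] [IsAffine V] (i : W ⟶ V)
    [IsIntegralHom i] : StrictMono (fun a : ↥W => i a) := by
  intro a a' h
  obtain ⟨h1, h2⟩ := h
  change a' ⤳ a at h1
  change ¬ a ⤳ a' at h2
  refine ⟨h1.map i.continuous, fun h3 => h2 ?_⟩
  have h4 : i a' = i a := (Specializes.antisymm (h1.map i.continuous) h3).eq
  rw [eq_of_specializes_of_integral i h1 h4]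

theorem coheight_le_of_integral {W V : Scheme.{u}} [IsAffine W] [IsAffine V] (i : W ⟶ V)
    [IsIntegralHom i] (a : ↥W) : Order.coheight a ≤ Order.coheight (i a) :=
  Order.coheight_le_coheight_apply_of_strictMono (fun a : ↥W => i a) (strictMono_of_integral i) a

theorem height_eq_of_integral {W V : Scheme.{u}} [IsAffine W] [IsAffine V] (i : W ⟶ V)
    [IsIntegralHom i] (a : ↥W) : Order.height a = Order.height (i a) := by
  refine Order.height_eq_of_strictMono (fun a : ↥W => i a) (strictMono_of_integral i) ?_ a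
  intro a b hab
  obtain ⟨h1, h2⟩ := hab
  change i a ⤳ b at h1
  change ¬ b ⤳ i a at h2
  have hmem : b ∈ closure (i '' ({a} : Set ↥W)) := by
    rw [Set.image_singleton]
    exact h1.mem_closure
  obtain ⟨a', ha', rfl⟩ := i.isClosedMap.closure_image_subset _ hmem
  have hsp : a ⤳ a' := specializes_iff_mem_closure.2 ha'
  exact ⟨a', ⟨hsp, fun h3 => h2 (h3.map i.continuous)⟩, rfl⟩

attribute [local instance] specializationOrder in
theorem topologicalKrullDim_eq_iSup_height (X : Scheme.{u}) :
    topologicalKrullDim ↥X = ⨆ x : ↥X, ((Order.height x : ℕ∞) : WithBot ℕ∞) := by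
  rw [topologicalKrullDim, Order.krullDim_eq_of_orderIso (irreducibleSetEquivPoints (α := ↥X)),
    Order.krullDim_eq_iSup_height]

theorem topologicalKrullDim_le_of_integral_surjective {W V : Scheme.{u}} [IsAffine W] [IsAffine V]
    (i : W ⟶ V) [IsIntegralHom i] (hs : Function.Surjective i) :
    topologicalKrullDim ↥V ≤ topologicalKrullDim ↥W := by
  rw [topologicalKrullDim_eq_iSup_height, topologicalKrullDim_eq_iSup_height]
  refine iSup_le fun v => ?_
  obtain ⟨w, rfl⟩ := hs v
  rw [← height_eq_of_integral i w]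
  exact le_iSup (fun w : ↥W => ((Order.height w : ℕ∞) : WithBot ℕ∞)) w

end Groth.Agent.Helper5.IntDim
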