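import Mathlib
import Groth.Prelude
import Groth.Agent.Helper5.DvrFlatC
import Groth.Agent.Helper4.GeomRedPt
import Groth.Agent.Helper1.FieldSmooth7

/-!
# A maximal point at which a scheme over a field is geometrically reduced is a smooth point
-/

set_option autoImplicit false
set_option linter.style.haveILetI false
universe u

namespace Groth.Agent.Helper5.UniComp

open IsLocalRing AlgebraicGeometry CategoryTheory CategoryTheory.Limits

/-- the local ring at a maximal point is a field when it is reduced -/
theorem isField_stalk_of_max {Z : Scheme.{u}} (w : Z) (hmax : ∀ w' : Z, w' ⤳ w → w' = w)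
    (hred : _root_.IsReduced (Z.presheaf.stalk w)) : IsField (Z.presheaf.stalk w) := by
  have huniq : ∀ P : PrimeSpectrum (Z.presheaf.stalk w), P = closedPoint (Z.presheaf.stalk w) := by
    intro P
    have h1 : (Z.fromSpecStalk w) P ⤳ w := by
      have : (Z.fromSpecStalk w) P ∈ Set.range (Z.fromSpecStalk w) := ⟨P, rfl⟩
      rw [Scheme.range_fromSpecStalk] at this
      exact this
    have h5 := hmax _ h1
    apply (Z.fromSpecStalk w).isEmbedding.injective
    rw [h5, Scheme.fromSpecStalk_closedPoint]
  rw [isField_iff_maximalIdeal_eq]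
  refine le_bot_iff.1 fun a ha => ?_
  have hn : IsNilpotent a := by
    rw [nilpotent_iff_mem_prime]
    intro J hJ
    have hJ' : J = maximalIdeal (Z.presheaf.stalk w) :=
      congrArg PrimeSpectrum.asIdeal (huniq ⟨J, hJ⟩)
    rw [hJ']; exact ha
  exact (Ideal.mem_bot).2 hn.eq_zero

/-- the canonical map from a field to the stalk of its spectrum is bijective -/
theorem toStalk_bijective (k : Type u) [Field k] (p : PrimeSpectrum k) :
    Function.Bijective (StructureSheaf.toStalk (CommRingCat.of k) p).hom := by
  let S := (Spec (CommRingCat.of k)).presheaf.stalk p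
  let τ : k →+* S := (StructureSheaf.toStalk (CommRingCat.of k) p).hom
  letI : Algebra k S := τ.toAlgebra
  haveI : IsLocalization.AtPrime S p.asIdeal := StructureSheaf.IsLocalization.to_stalk (R := k) p
  have hu : ∀ a ∈ p.asIdeal.primeCompl, IsUnit a := by
    intro a ha
    have : a ≠ 0 := fun h => ha (h ▸ p.asIdeal.zero_mem)
    exact this.isUnit
  exact (IsLocalization.atUnits k p.asIdeal.primeCompl (S := S) hu).bijective

/-- a maximal point at which a scheme locally of finite presentation over a field is
geometrically reduced lies in the smooth locus -/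
theorem mem_smoothLocus_of_geomReducedAt_of_max {k : Type u} [Field k] {Z : Scheme.{u}}
    (g : Z ⟶ Spec (CommRingCat.of k)) [LocallyOfFinitePresentation g] (w : Z)
    (hred : FBase.IsGeomReducedAt g w) (hmax : ∀ w' : Z, w' ⤳ w → w' = w) :
    w ∈ g.smoothLocus := by
  let S := Z.presheaf.stalk w
  let φ : k →+* S := Groth.Agent.Helper5.DvrFlat.gmap g w
  have hφ := Groth.Agent.Helper5.DvrFlat.specMap_gmap g w
  letI : Algebra k S := φ.toAlgebra
  have hgr : Algebra.IsGeometricallyReduced k S :=
    (Groth.Agent.Helper4.GeomRedPt.geomReducedAt_iff_stalk g w φ hφ).1 hred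
  haveI : _root_.IsReduced S := Algebra.isReduced_of_isGeometricallyReduced k
  have hfield : IsField S := isField_stalk_of_max w hmax inferInstance
  letI : Field S := hfield.toField
  have hfs : Algebra.FormallySmooth k S :=
    Groth.Agent.Helper1.FieldSmooth.formallySmooth_iff_isGeometricallyReduced.2 hgr
  have hφfs : φ.FormallySmooth := hfs
  rw [Scheme.Hom.mem_smoothLocus]
  let τ : k →+* (Spec (CommRingCat.of k)).presheaf.stalk (g w) :=
    (StructureSheaf.toStalk (CommRingCat.of k) (g w)).hom
  have hτ : Function.Bijective τ := toStalk_bijective k (g w)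
  let e : k ≃+* (Spec (CommRingCat.of k)).presheaf.stalk (g w) := RingEquiv.ofBijective τ hτ
  have heq : (g.stalkMap w).hom = φ.comp (e.symm : _ →+* k) := by
    ext s
    obtain ⟨a, rfl⟩ := e.surjective s
    simp only [RingHom.comp_apply, RingHom.coe_coe, RingEquiv.symm_apply_apply]
    rfl
  rw [heq]
  exact RingHom.FormallySmooth.comp (RingHom.FormallySmooth.of_bijective e.symm.bijective) hφfs

end Groth.Agent.Helper5.UniComp
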