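import Mathlib
import Groth.Agent.Helper5.FFAut2
import Groth.Prelude.Def_W4bk4goldsch45
set_option autoImplicit false
open FunFld Polynomial
open scoped IntermediateField

namespace Groth.Agent.Helper5.FF

variable {k K : Type*} [Field k] [Field K] [Algebra k K]

theorem val_le_one_of_residue (R : Place k K) {u : K} {c : k} (h : R.1 (u - algebraMap k K c) < 1) :
    R.1 u ≤ 1 := by
  have : u = (u - algebraMap k K c) + algebraMap k K c := by ring
  rw [this]
  exact (R.1.map_add _ _).trans (max_le h.le (R.2.1 c))

theorem val_lt_one_iff_of_residue (R : Place k K) {u : K} {c : k}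
    (h : R.1 (u - algebraMap k K c) < 1) : R.1 u < 1 ↔ c = 0 := by
  constructor
  · intro hu
    by_contra hc
    have h1 : R.1 (algebraMap k K c) = 1 := val_algebraMap R hc
    have : algebraMap k K c = u - (u - algebraMap k K c) := by ring
    rw [this] at h1
    have h2 := (R.1.map_sub u (u - algebraMap k K c)).trans_lt (max_lt hu h)
    rw [h1] at h2
    exact lt_irrefl _ h2
  · rintro rfl
    rwa [map_zero, sub_zero] at h

theorem val_eq_one_of_residue (R : Place k K) {u : K} {c : k}
    (h : R.1 (u - algebraMap k K c) < 1) (hc : c ≠ 0) : R.1 u = 1 := by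
  apply le_antisymm (val_le_one_of_residue R h)
  by_contra hlt
  rw [not_le] at hlt
  exact hc ((val_lt_one_iff_of_residue R h).mp hlt)

/-- elements of the algebra generated by `ψ` have common residues at `P` and `Q` -/
theorem exists_common_residue {ι : Type*} (ψ : ι → K) (P Q : Place k K)
    (hψ : ∀ i, ∃ c : k, P.1 (ψ i - algebraMap k K c) < 1 ∧ Q.1 (ψ i - algebraMap k K c) < 1) {u : K}
    (hu : u ∈ Algebra.adjoin k (Set.range ψ)) :
    ∃ c : k, P.1 (u - algebraMap k K c) < 1 ∧ Q.1 (u - algebraMap k K c) < 1 := by
  induction hu using Algebra.adjoin_induction with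
  | mem x hx =>
    obtain ⟨i, rfl⟩ := hx
    exact hψ i
  | algebraMap r => exact ⟨r, by simp, by simp⟩
  | add x y _ _ hx hy =>
    obtain ⟨c, hc1, hc2⟩ := hx
    obtain ⟨d, hd1, hd2⟩ := hy
    refine ⟨c + d, ?_, ?_⟩
    · have : x + y - algebraMap k K (c + d) = (x - algebraMap k K c) + (y - algebraMap k K d) := by
        rw [map_add]; ring
      rw [this]
      exact (P.1.map_add _ _).trans_lt (max_lt hc1 hd1)
    · have : x + y - algebraMap k K (c + d) = (x - algebraMap k K c) + (y - algebraMap k K d) := by
        rw [map_add]; ring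
      rw [this]
      exact (Q.1.map_add _ _).trans_lt (max_lt hc2 hd2)
  | mul x y _ _ hx hy =>
    obtain ⟨c, hc1, hc2⟩ := hx
    obtain ⟨d, hd1, hd2⟩ := hy
    refine ⟨c * d, ?_, ?_⟩
    · have : x * y - algebraMap k K (c * d) =
          (x - algebraMap k K c) * y + algebraMap k K c * (y - algebraMap k K d) := by
        rw [map_mul]; ring
      rw [this]
      refine (P.1.map_add _ _).trans_lt (max_lt ?_ ?_)
      · rw [map_mul]
        calc P.1 (x - algebraMap k K c) * P.1 y ≤ P.1 (x - algebraMap k K c) * 1 :=
              mul_le_mul_right (val_le_one_of_residue P hd1) _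
          _ < 1 := by rw [mul_one]; exact hc1
      · rw [map_mul]
        calc P.1 (algebraMap k K c) * P.1 (y - algebraMap k K d) ≤ 1 * P.1 (y - algebraMap k K d) :=
              mul_le_mul_left (P.2.1 c) _
          _ < 1 := by rw [one_mul]; exact hd1
    · have : x * y - algebraMap k K (c * d) =
          (x - algebraMap k K c) * y + algebraMap k K c * (y - algebraMap k K d) := by
        rw [map_mul]; ring
      rw [this]
      refine (Q.1.map_add _ _).trans_lt (max_lt ?_ ?_)
      · rw [map_mul]
        calc Q.1 (x - algebraMap k K c) * Q.1 y ≤ Q.1 (x - algebraMap k K c) * 1 :=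
              mul_le_mul_right (val_le_one_of_residue Q hd2) _
          _ < 1 := by rw [mul_one]; exact hc2
      · rw [map_mul]
        calc Q.1 (algebraMap k K c) * Q.1 (y - algebraMap k K d) ≤ 1 * Q.1 (y - algebraMap k K d) :=
              mul_le_mul_left (Q.2.1 c) _
          _ < 1 := by rw [one_mul]; exact hd2

end Groth.Agent.Helper5.FF
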