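import Mathlib
import Groth.Agent.Helper5.FFProj
set_option autoImplicit false
open FunFld Polynomial
open scoped IntermediateField

namespace Groth.Agent.Helper5.FF

variable {k K : Type*} [Field k] [Field K] [Algebra k K]

theorem exists_least_order {n : ℕ} (φ : Fin (n + 1) → K) (hφ : LinearIndependent k φ) (P : Place k K) :
    ∃ j, φ j ≠ 0 ∧ ∀ i, P.1 (φ i) ≤ P.1 (φ j) := by
  obtain ⟨j, -, hj⟩ := Finset.exists_max_image Finset.univ (fun i => P.1 (φ i)) Finset.univ_nonempty
  exact ⟨j, hφ.ne_zero j, fun i => hj i (Finset.mem_univ i)⟩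

theorem sameImage_iff [IsAlgClosed k] (hK : IsFunctionField k K) {n : ℕ} (φ : Fin (n + 1) → K)
    (hφ : LinearIndependent k φ) (P Q : Place k K) :
    SameImage φ P Q ↔
      ∀ z : K, InLocRing φ P z → (Q.1 z ≤ 1 ∧ (Q.1 z < 1 ↔ P.1 z < 1)) := by
  constructor
  · rintro ⟨j₀, hj₀, hP₀, hQ₀, hres⟩ z ⟨j, hj, hPj, u, hu, w, hw, hPw, hzw⟩
    -- ρ = φ j / φ j₀
    obtain ⟨cj, hcj1, hcj2⟩ := hres j
    have hPρ : P.1 (φ j / φ j₀) = 1 := by
      rw [map_div₀, le_antisymm (hP₀ j) (hPj j₀), div_self (P.1.ne_zero_iff.mpr hj₀)]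
    have hcj0 : cj ≠ 0 := by
      intro h0
      have := (val_lt_one_iff_of_residue P hcj1).mpr h0
      rw [hPρ] at this; exact lt_irrefl _ this
    have hQρ : Q.1 (φ j / φ j₀) = 1 := val_eq_one_of_residue Q hcj2 hcj0
    have hψ : ∀ i, ∃ c : k, P.1 (φ i / φ j - algebraMap k K c) < 1 ∧
        Q.1 (φ i / φ j - algebraMap k K c) < 1 := by
      intro i
      obtain ⟨ci, hci1, hci2⟩ := hres i
      refine ⟨ci / cj, ?_, ?_⟩
      · have hne : algebraMap k K cj ≠ 0 := fun h0 => hcj0 ((map_eq_zero_iff _ (algebraMap k K).injective).mp h0)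
        have heq : φ i / φ j - algebraMap k K (ci / cj) =
            ((φ i / φ j₀ - algebraMap k K ci) * algebraMap k K cj -
              algebraMap k K ci * (φ j / φ j₀ - algebraMap k K cj)) /
              ((φ j / φ j₀) * algebraMap k K cj) := by
          rw [map_div₀]; field_simp; ring
        rw [heq, map_div₀, map_mul, hPρ, val_algebraMap P hcj0, mul_one, div_one]
        refine (P.1.map_sub _ _).trans_lt (max_lt ?_ ?_)
        · rw [map_mul, val_algebraMap P hcj0, mul_one]; exact hci1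
        · rw [map_mul]
          calc P.1 (algebraMap k K ci) * P.1 (φ j / φ j₀ - algebraMap k K cj)
              ≤ 1 * P.1 (φ j / φ j₀ - algebraMap k K cj) := mul_le_mul_left (P.2.1 ci) _
            _ < 1 := by rw [one_mul]; exact hcj1
      · have hne : algebraMap k K cj ≠ 0 := fun h0 => hcj0 ((map_eq_zero_iff _ (algebraMap k K).injective).mp h0)
        have heq : φ i / φ j - algebraMap k K (ci / cj) =
            ((φ i / φ j₀ - algebraMap k K ci) * algebraMap k K cj -
              algebraMap k K ci * (φ j / φ j₀ - algebraMap k K cj)) /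
              ((φ j / φ j₀) * algebraMap k K cj) := by
          rw [map_div₀]; field_simp; ring
        rw [heq, map_div₀, map_mul, hQρ, val_algebraMap Q hcj0, mul_one, div_one]
        refine (Q.1.map_sub _ _).trans_lt (max_lt ?_ ?_)
        · rw [map_mul, val_algebraMap Q hcj0, mul_one]; exact hci2
        · rw [map_mul]
          calc Q.1 (algebraMap k K ci) * Q.1 (φ j / φ j₀ - algebraMap k K cj)
              ≤ 1 * Q.1 (φ j / φ j₀ - algebraMap k K cj) := mul_le_mul_left (Q.2.1 ci) _
            _ < 1 := by rw [one_mul]; exact hcj2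
    obtain ⟨cu, hcu1, hcu2⟩ := exists_common_residue (fun i => φ i / φ j) P Q hψ hu
    obtain ⟨cw, hcw1, hcw2⟩ := exists_common_residue (fun i => φ i / φ j) P Q hψ hw
    have hcw0 : cw ≠ 0 := by
      intro h0
      have := (val_lt_one_iff_of_residue P hcw1).mpr h0
      rw [hPw] at this; exact lt_irrefl _ this
    have hQw : Q.1 w = 1 := val_eq_one_of_residue Q hcw2 hcw0
    have hQz : Q.1 z = Q.1 u := by rw [← hzw, map_mul, hQw, mul_one]
    have hPz : P.1 z = P.1 u := by rw [← hzw, map_mul, hPw, mul_one]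
    refine ⟨by rw [hQz]; exact val_le_one_of_residue Q hcu2, ?_⟩
    rw [hQz, hPz, val_lt_one_iff_of_residue Q hcu2, val_lt_one_iff_of_residue P hcu1]
  · intro h
    obtain ⟨j, hj, hPj⟩ := exists_least_order φ hφ P
    have hmem : ∀ u ∈ Algebra.adjoin k (Set.range fun i => φ i / φ j), InLocRing φ P u := by
      intro u hu
      exact ⟨j, hj, hPj, u, hu, 1, Subalgebra.one_mem _, by simp, by simp⟩
    have hgen : ∀ i, φ i / φ j ∈ Algebra.adjoin k (Set.range fun i => φ i / φ j) :=
      fun i => Algebra.subset_adjoin ⟨i, rfl⟩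
    refine ⟨j, hj, hPj, ?_, ?_⟩
    · intro i
      have h1 := (h _ (hmem _ (hgen i))).1
      rw [map_div₀] at h1
      exact (div_le_one₀ (val_pos Q hj)).mp h1
    · intro i
      have hle : P.1 (φ i / φ j) ≤ 1 := by
        rw [map_div₀]
        exact (div_le_one₀ (val_pos P hj)).mpr (hPj i)
      obtain ⟨c, hc⟩ := exists_const_of_deg_one P (deg_eq_one_of_isAlgClosed hK P) hle
      refine ⟨c, hc, ?_⟩
      have h2 : φ i / φ j - algebraMap k K c ∈ Algebra.adjoin k (Set.range fun i => φ i / φ j) :=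
        Subalgebra.sub_mem _ (hgen i) (Subalgebra.algebraMap_mem _ c)
      exact ((h _ (hmem _ h2)).2).mpr hc

end Groth.Agent.Helper5.FF
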