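import Mathlib
import Groth.Agent.Helper5.FFProj2
set_option autoImplicit false
open FunFld Polynomial
open scoped IntermediateField

namespace Groth.Agent.Helper5.FF

variable {k K : Type*} [Field k] [Field K] [Algebra k K]

theorem adjoin_eq_top_of_isNonsingularAt {n : ℕ} (φ : Fin (n + 1) → K)
    (h0 : φ 0 ≠ 0) (P : Place k K) (h : IsNonsingularAt φ P) :
    IntermediateField.adjoin k (Set.range fun i => φ i / φ 0) = ⊤ := by
  set F := IntermediateField.adjoin k (Set.range fun i => φ i / φ 0) with hF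
  have hint : ∀ z : K, P.1 z ≤ 1 → z ∈ F := by
    intro z hz
    obtain ⟨j, hj, -, u, hu, w, hw, hPw, hzw⟩ := h z hz
    have hsub : Algebra.adjoin k (Set.range fun i => φ i / φ j) ≤ F.toSubalgebra := by
      rw [Algebra.adjoin_le_iff]
      rintro _ ⟨i, rfl⟩
      have h1 : φ i / φ 0 ∈ F := IntermediateField.subset_adjoin _ _ ⟨i, rfl⟩
      have h2 : φ j / φ 0 ∈ F := IntermediateField.subset_adjoin _ _ ⟨j, rfl⟩
      have : φ i / φ j = (φ i / φ 0) / (φ j / φ 0) := by field_simp
      show φ i / φ j ∈ F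
      rw [this]
      exact div_mem h1 h2
    have hw0 : w ≠ 0 := by rintro rfl; simp at hPw
    have : z = u / w := by rw [← hzw]; field_simp
    rw [this]
    exact div_mem (hsub hu) (hsub hw)
  rw [eq_top_iff]
  intro z _
  by_cases hz : P.1 z ≤ 1
  · exact hint z hz
  · rw [not_le] at hz
    have hz0 : z ≠ 0 := by rintro rfl; simp at hz
    have h1 : P.1 z⁻¹ ≤ 1 := by
      rw [map_inv₀]
      exact (inv_le_one₀ (val_pos P hz0)).mpr hz.le
    have := inv_mem (hint _ h1)
    rwa [inv_inv] at this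

end Groth.Agent.Helper5.FF
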