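import Mathlib
import Groth.Agent.Helper5.FFProj3
set_option autoImplicit false
open FunFld Polynomial
open scoped IntermediateField

namespace Groth.Agent.Helper5.FF

variable {k K : Type*} [Field k] [Field K] [Algebra k K]

theorem lt_one_iff_le_exp_neg_one (a : WithZero (Multiplicative ℤ)) :
    a < 1 ↔ a ≤ WithZero.exp (-1 : ℤ) := by
  have h := WithZero.lt_mul_exp_iff_le (x := a) (y := WithZero.exp (-1 : ℤ)) WithZero.exp_ne_zero
  rw [← WithZero.exp_add] at h
  simpa using h

theorem exp_neg_two_eq : (WithZero.exp (-2 : ℤ) : WithZero (Multiplicative ℤ)) =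
    WithZero.exp (-1 : ℤ) * WithZero.exp (-1 : ℤ) := by
  rw [← WithZero.exp_add]; norm_num

theorem exp_neg_two_lt : (WithZero.exp (-2 : ℤ) : WithZero (Multiplicative ℤ)) <
    WithZero.exp (-1 : ℤ) := by
  rw [WithZero.exp_lt_exp]; norm_num

/-- second order expansion of elements of the algebra generated by `ψ` -/
theorem exists_expansion {ι : Type*} (ψ : ι → K) (c : ι → k) (P : Place k K)
    (hψ : ∀ i, P.1 (ψ i - algebraMap k K (c i)) < 1) {u : K}
    (hu : u ∈ Algebra.adjoin k (Set.range ψ)) :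
    ∃ a : k, ∃ s ∈ Submodule.span k (Set.range fun i => ψ i - algebraMap k K (c i)),
      P.1 (u - algebraMap k K a - s) ≤ WithZero.exp (-2 : ℤ) := by
  have hspan : ∀ s ∈ Submodule.span k (Set.range fun i => ψ i - algebraMap k K (c i)),
      P.1 s ≤ WithZero.exp (-1 : ℤ) := by
    intro s hs
    induction hs using Submodule.span_induction with
    | mem x hx =>
      obtain ⟨i, rfl⟩ := hx
      exact (lt_one_iff_le_exp_neg_one _).mp (hψ i)
    | zero => simp
    | add x y _ _ hx hy => exact (P.1.map_add _ _).trans (max_le hx hy)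
    | smul r x _ hx =>
      rw [Algebra.smul_def, map_mul]
      calc P.1 (algebraMap k K r) * P.1 x ≤ 1 * P.1 x := mul_le_mul_left (P.2.1 r) _
        _ ≤ _ := by rw [one_mul]; exact hx
  induction hu using Algebra.adjoin_induction with
  | mem x hx =>
    obtain ⟨i, rfl⟩ := hx
    refine ⟨c i, ψ i - algebraMap k K (c i), Submodule.subset_span ⟨i, rfl⟩, ?_⟩
    simp
  | algebraMap r => exact ⟨r, 0, Submodule.zero_mem _, by simp⟩
  | add x y _ _ hx hy =>
    obtain ⟨a, s, hs, h1⟩ := hx
    obtain ⟨b, t, ht, h2⟩ := hy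
    refine ⟨a + b, s + t, Submodule.add_mem _ hs ht, ?_⟩
    have : x + y - algebraMap k K (a + b) - (s + t) =
        (x - algebraMap k K a - s) + (y - algebraMap k K b - t) := by rw [map_add]; ring
    rw [this]
    exact (P.1.map_add _ _).trans (max_le h1 h2)
  | mul x y _ _ hx hy =>
    obtain ⟨a, s, hs, h1⟩ := hx
    obtain ⟨b, t, ht, h2⟩ := hy
    refine ⟨a * b, a • t + b • s, Submodule.add_mem _ (Submodule.smul_mem _ _ ht)
      (Submodule.smul_mem _ _ hs), ?_⟩
    set r₁ := x - algebraMap k K a - s with hr₁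
    set r₂ := y - algebraMap k K b - t with hr₂
    have hx' : x = algebraMap k K a + s + r₁ := by rw [hr₁]; ring
    have hy' : y = algebraMap k K b + t + r₂ := by rw [hr₂]; ring
    have heq : x * y - algebraMap k K (a * b) - (a • t + b • s) =
        s * t + (algebraMap k K a + s) * r₂ + r₁ * y := by
      rw [Algebra.smul_def, Algebra.smul_def, map_mul, hy', hx']; ring
    rw [heq]
    have hs1 := hspan s hs
    have ht1 := hspan t ht
    have hle1 : P.1 (algebraMap k K a + s) ≤ 1 :=
      (P.1.map_add _ _).trans (max_le (P.2.1 a) (hs1.trans exp_neg_one_lt_one.le))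
    have hy1 : P.1 y ≤ 1 := by
      rw [hy']
      refine (P.1.map_add _ _).trans (max_le ((P.1.map_add _ _).trans (max_le (P.2.1 b)
        (ht1.trans exp_neg_one_lt_one.le))) (h2.trans (exp_neg_two_lt.le.trans exp_neg_one_lt_one.le)))
    refine (P.1.map_add _ _).trans (max_le ((P.1.map_add _ _).trans (max_le ?_ ?_)) ?_)
    · rw [map_mul, exp_neg_two_eq]; exact mul_le_mul' hs1 ht1
    · rw [map_mul]
      calc P.1 (algebraMap k K a + s) * P.1 r₂ ≤ 1 * P.1 r₂ := mul_le_mul_left hle1 _
        _ ≤ _ := by rw [one_mul]; exact h2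
    · rw [map_mul]
      calc P.1 r₁ * P.1 y ≤ P.1 r₁ * 1 := mul_le_mul_right hy1 _
        _ ≤ _ := by rw [mul_one]; exact h1

end Groth.Agent.Helper5.FF
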