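import Mathlib
import Groth.Agent.Helper5.FFProj4
set_option autoImplicit false
open FunFld Polynomial
open scoped IntermediateField

namespace Groth.Agent.Helper5.FF

variable {k K : Type*} [Field k] [Field K] [Algebra k K]

theorem exists_unit_entry {n : ℕ} (φ : Fin (n + 1) → K) (P : Place k K)
    (heff : (1 : K) ∈ Submodule.span k (Set.range φ)) (hnorm : ∀ i, P.1 (φ i) ≤ 1) :
    ∃ j, P.1 (φ j) = 1 := by
  by_contra hcon
  push Not at hcon
  have hlt : ∀ i, P.1 (φ i) < 1 := fun i => lt_of_le_of_ne (hnorm i) (hcon i)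
  have hall : ∀ s ∈ Submodule.span k (Set.range φ), P.1 s < 1 := by
    intro s hs
    induction hs using Submodule.span_induction with
    | mem x hx => obtain ⟨i, rfl⟩ := hx; exact hlt i
    | zero => simp
    | add x y _ _ hx hy => exact (P.1.map_add _ _).trans_lt (max_lt hx hy)
    | smul r x _ hx =>
      rw [Algebra.smul_def, map_mul]
      calc P.1 (algebraMap k K r) * P.1 x ≤ 1 * P.1 x := mul_le_mul_left (P.2.1 r) _
        _ < 1 := by rw [one_mul]; exact hx
  have := hall 1 heff
  simp at this

theorem div_mem_adjoin_of_mem_span {n : ℕ} (φ : Fin (n + 1) → K) (j : Fin (n + 1)) {s : K}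
    (hs : s ∈ Submodule.span k (Set.range φ)) :
    s / φ j ∈ Algebra.adjoin k (Set.range fun i => φ i / φ j) := by
  induction hs using Submodule.span_induction with
  | mem x hx => obtain ⟨i, rfl⟩ := hx; exact Algebra.subset_adjoin ⟨i, rfl⟩
  | zero => rw [zero_div]; exact Subalgebra.zero_mem _
  | add x y _ _ hx hy => rw [add_div]; exact Subalgebra.add_mem _ hx hy
  | smul r x _ hx => rw [smul_div_assoc]; exact Subalgebra.smul_mem _ hx r

theorem locParam_iff [IsAlgClosed k] (hK : IsFunctionField k K) {n : ℕ} (φ : Fin (n + 1) → K)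
    (P : Place k K) (heff : (1 : K) ∈ Submodule.span k (Set.range φ))
    (hnorm : ∀ i, P.1 (φ i) ≤ 1) :
    (∃ t : K, InLocRing φ P t ∧ P.1 t = WithZero.exp (-1)) ↔
      ∃ t ∈ Submodule.span k (Set.range φ), P.1 t = WithZero.exp (-1) := by
  obtain ⟨j₁, hj₁⟩ := exists_unit_entry φ P heff hnorm
  constructor
  · rintro ⟨t, ⟨j, hj, hPj, u, hu, w, hw, hPw, htw⟩, ht⟩
    have hPφj : P.1 (φ j) = 1 := le_antisymm (hnorm j) ((le_of_eq hj₁.symm).trans (hPj j₁))
    have hPu : P.1 u = WithZero.exp (-1) := by rw [← htw, map_mul, hPw, mul_one, ht]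
    have hle : ∀ i, P.1 (φ i / φ j) ≤ 1 := by
      intro i
      rw [map_div₀, hPφj, div_one]; exact hnorm i
    have hdeg := deg_eq_one_of_isAlgClosed hK P
    choose c hc using fun i => exists_const_of_deg_one P hdeg (hle i)
    obtain ⟨a, s, hs, hr⟩ := exists_expansion (fun i => φ i / φ j) c P hc hu
    have hs1 : P.1 s ≤ WithZero.exp (-1 : ℤ) := by
      -- from the span bound
      have hspan : ∀ s ∈ Submodule.span k (Set.range fun i => φ i / φ j - algebraMap k K (c i)),
          P.1 s ≤ WithZero.exp (-1 : ℤ) := by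
        intro s hs
        induction hs using Submodule.span_induction with
        | mem x hx =>
          obtain ⟨i, rfl⟩ := hx
          exact (lt_one_iff_le_exp_neg_one _).mp (hc i)
        | zero => simp
        | add x y _ _ hx hy => exact (P.1.map_add _ _).trans (max_le hx hy)
        | smul r x _ hx =>
          rw [Algebra.smul_def, map_mul]
          calc P.1 (algebraMap k K r) * P.1 x ≤ 1 * P.1 x := mul_le_mul_left (P.2.1 r) _
            _ ≤ _ := by rw [one_mul]; exact hx
      exact hspan s hs
    -- a = 0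
    have ha : a = 0 := by
      by_contra ha0
      have h1 : P.1 (u - algebraMap k K a) < 1 := by
        have : u - algebraMap k K a = (u - algebraMap k K a - s) + s := by ring
        rw [this]
        exact (P.1.map_add _ _).trans_lt (max_lt
          (hr.trans_lt (exp_neg_two_lt.trans exp_neg_one_lt_one)) (hs1.trans_lt exp_neg_one_lt_one))
      have := val_eq_one_of_residue P h1 ha0
      rw [hPu] at this
      exact absurd this exp_neg_one_lt_one.ne
    rw [ha, map_zero, sub_zero] at hr
    have hPs : P.1 s = WithZero.exp (-1 : ℤ) := by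
      have : s = u - (u - s) := by ring
      rw [this, Valuation.map_sub_eq_of_lt_left, hPu]
      rw [hPu]; exact hr.trans_lt exp_neg_two_lt
    -- s * φ j ∈ span φ
    have hmem : ∀ s ∈ Submodule.span k (Set.range fun i => φ i / φ j - algebraMap k K (c i)),
        s * φ j ∈ Submodule.span k (Set.range φ) := by
      intro s hs
      induction hs using Submodule.span_induction with
      | mem x hx =>
        obtain ⟨i, rfl⟩ := hx
        have : (φ i / φ j - algebraMap k K (c i)) * φ j = φ i - c i • φ j := by
          rw [Algebra.smul_def]; field_simp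
        rw [this]
        exact Submodule.sub_mem _ (Submodule.subset_span ⟨i, rfl⟩)
          (Submodule.smul_mem _ _ (Submodule.subset_span ⟨j, rfl⟩))
      | zero => rw [zero_mul]; exact Submodule.zero_mem _
      | add x y _ _ hx hy => rw [add_mul]; exact Submodule.add_mem _ hx hy
      | smul r x _ hx => rw [smul_mul_assoc]; exact Submodule.smul_mem _ _ hx
    exact ⟨s * φ j, hmem s hs, by rw [map_mul, hPφj, mul_one, hPs]⟩
  · rintro ⟨t, ht, hPt⟩
    have hj0 : φ j₁ ≠ 0 := by
      intro h0; rw [h0, map_zero] at hj₁; exact zero_ne_one hj₁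
    refine ⟨t, ⟨j₁, hj0, fun i => (hnorm i).trans (le_of_eq hj₁.symm), t / φ j₁,
      div_mem_adjoin_of_mem_span φ j₁ ht, 1 / φ j₁, div_mem_adjoin_of_mem_span φ j₁ heff, ?_, ?_⟩, hPt⟩
    · rw [map_div₀, map_one, hj₁, div_one]
    · rw [mul_one_div]

end Groth.Agent.Helper5.FF
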