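import Mathlib
import Groth.Agent.Helper5.FFProj5
set_option autoImplicit false
open FunFld Polynomial
open scoped IntermediateField

namespace Groth.Agent.Helper5.FF

variable {k K : Type*} [Field k] [Field K] [Algebra k K]

theorem aeval_smul_of_isHomogeneous {σ : Type*} [Fintype σ] {g : MvPolynomial σ k} {d : ℕ}
    (hg : g.IsHomogeneous d) (x : σ → K) (c : K) :
    MvPolynomial.aeval (fun i => c * x i) g = c ^ d * MvPolynomial.aeval x g := by
  rw [MvPolynomial.aeval_def, MvPolynomial.eval₂_eq', MvPolynomial.aeval_def, MvPolynomial.eval₂_eq',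
    Finset.mul_sum]
  apply Finset.sum_congr rfl
  intro m hm
  have h1 := hg (MvPolynomial.mem_support_iff.mp hm)
  have h2 : ∑ i, m i = d := by
    rw [← h1, ← Finsupp.degree_eq_sum]
    exact DFunLike.congr_fun Finsupp.degree_eq_weight_one m
  simp_rw [mul_pow]
  rw [Finset.prod_mul_distrib, Finset.prod_pow_eq_pow_sum, h2]
  ring

theorem finite_zeros' (hK : IsFunctionField k K) {x : K} (hx0 : x ≠ 0) :
    {P : Place k K | P.1 x < 1}.Finite := by
  by_cases hx : Transcendental k x
  · exact finite_zeros hK hx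
  · rw [Transcendental, not_not] at hx
    obtain ⟨c, rfl⟩ := hK.2 x hx
    have hc : c ≠ 0 := by rintro rfl; simp at hx0
    convert Set.finite_empty
    ext P
    simp only [Set.mem_ofPred_eq, Set.mem_empty_iff_false, iff_false, not_lt]
    exact (val_algebraMap P hc).ge

theorem finite_vanishing (hK : IsFunctionField k K) {n : ℕ} (φ : Fin (n + 1) → K)
    (g : MvPolynomial (Fin (n + 1)) k) (hg : g.IsHomogeneous g.totalDegree)
    (hgφ : MvPolynomial.aeval φ g ≠ 0) :
    {P : Place k K | ∃ j, φ j ≠ 0 ∧ (∀ i, P.1 (φ i) ≤ P.1 (φ j)) ∧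
      P.1 (MvPolynomial.aeval (fun i => φ i / φ j) g) < 1}.Finite := by
  have hfin : ∀ j : Fin (n + 1),
      {P : Place k K | φ j ≠ 0 ∧ P.1 (MvPolynomial.aeval (fun i => φ i / φ j) g) < 1}.Finite := by
    intro j
    by_cases hj : φ j = 0
    · convert Set.finite_empty
      ext P
      simp [hj]
    · have heq : MvPolynomial.aeval (fun i => φ i / φ j) g =
          (φ j)⁻¹ ^ g.totalDegree * MvPolynomial.aeval φ g := by
        have hfun : (fun i => φ i / φ j) = fun i => (φ j)⁻¹ * φ i :=
          funext fun i => div_eq_inv_mul _ _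
        rw [hfun, aeval_smul_of_isHomogeneous hg]
      have hne : MvPolynomial.aeval (fun i => φ i / φ j) g ≠ 0 := by
        rw [heq]
        exact mul_ne_zero (pow_ne_zero _ (inv_ne_zero hj)) hgφ
      exact (finite_zeros' hK hne).subset fun P hP => hP.2
  refine (Set.finite_iUnion hfin).subset ?_
  rintro P ⟨j, hj, -, hP⟩
  exact Set.mem_iUnion.mpr ⟨j, hj, hP⟩

theorem finite_fibre (hK : IsFunctionField k K) {n : ℕ} (hn : 1 ≤ n) (φ : Fin (n + 1) → K)
    (hφ : LinearIndependent k φ) (P : Place k K) : {Q : Place k K | SameImage φ P Q}.Finite := by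
  have hfin : ∀ j : Fin (n + 1),
      {Q : Place k K | φ j ≠ 0 ∧ ∀ i, ∃ c : k, P.1 (φ i / φ j - algebraMap k K c) < 1 ∧
        Q.1 (φ i / φ j - algebraMap k K c) < 1}.Finite := by
    intro j
    by_cases hj : φ j = 0
    · convert Set.finite_empty
      ext Q
      simp [hj]
    -- pick `i₀ ≠ j`
    obtain ⟨i₀, hi₀⟩ : ∃ i₀ : Fin (n + 1), i₀ ≠ j := by
      by_cases h0 : j = 0
      · exact ⟨⟨1, by omega⟩, by rw [h0]; intro h; have := congrArg Fin.val h; simp at this⟩
      · exact ⟨0, fun h => h0 h.symm⟩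
    have hnc : ∀ c : k, φ i₀ / φ j - algebraMap k K c ≠ 0 := by
      intro c h0
      have h1 : φ i₀ = c • φ j := by
        rw [Algebra.smul_def]
        field_simp at h0
        linear_combination h0
      have h2 := linearIndependent_iff.mp hφ (Finsupp.single i₀ 1 - Finsupp.single j c) (by
        rw [map_sub, Finsupp.linearCombination_single, Finsupp.linearCombination_single, one_smul, h1,
          sub_self])
      have h3 := DFunLike.congr_fun h2 i₀
      rw [Finsupp.sub_apply, Finsupp.single_eq_same, Finsupp.single_eq_of_ne hi₀,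
        Finsupp.zero_apply, sub_zero] at h3
      exact one_ne_zero h3
    by_cases hex : ∃ c₀ : k, P.1 (φ i₀ / φ j - algebraMap k K c₀) < 1
    · obtain ⟨c₀, hc₀⟩ := hex
      refine (finite_zeros' hK (hnc c₀)).subset ?_
      rintro Q ⟨-, hQ⟩
      obtain ⟨c, hc1, hc2⟩ := hQ i₀
      have hcc : c = c₀ := by
        by_contra hne
        have h3 : P.1 (algebraMap k K (c₀ - c)) = 1 := val_algebraMap P (sub_ne_zero.mpr (Ne.symm hne))
        have h4 : algebraMap k K (c₀ - c) =
            (φ i₀ / φ j - algebraMap k K c) - (φ i₀ / φ j - algebraMap k K c₀) := by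
          rw [map_sub]; ring
        rw [h4] at h3
        have h5 := (P.1.map_sub _ _).trans_lt (max_lt hc1 hc₀)
        rw [h3] at h5
        exact lt_irrefl _ h5
      rw [hcc] at hc2
      exact hc2
    · convert Set.finite_empty
      ext Q
      simp only [Set.mem_ofPred_eq, Set.mem_empty_iff_false, iff_false, not_and]
      intro _ hQ
      obtain ⟨c, hc1, -⟩ := hQ i₀
      exact hex ⟨c, hc1⟩
  refine (Set.finite_iUnion hfin).subset ?_
  rintro Q ⟨j, hj, -, -, hQ⟩
  exact Set.mem_iUnion.mpr ⟨j, hj, hQ⟩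

end Groth.Agent.Helper5.FF
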