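import Mathlib
import Groth.Agent.Helper5.FFProj6
set_option autoImplicit false
open FunFld Polynomial
open scoped IntermediateField

namespace Groth.Agent.Helper5.FF

variable {k K : Type*} [Field k] [Field K] [Algebra k K]

/-- elements of the algebra generated by `L(E)` are integral at a place outside the support -/
theorem val_le_one_of_mem_adjoin_L (E : Divisor k K) (P : Place k K) (hEP : E P = 0) {a : K}
    (ha : a ∈ Algebra.adjoin k (L E : Set K)) : P.1 a ≤ 1 := by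
  induction ha using Algebra.adjoin_induction with
  | mem x hx =>
    have := hx P
    rwa [hEP, WithZero.exp_zero] at this
  | algebraMap r => exact P.2.1 r
  | add x y _ _ hx hy => exact (P.1.map_add _ _).trans (max_le hx hy)
  | mul x y _ _ hx hy => rw [map_mul]; exact mul_le_one' hx hy

/-- Nakayama step: a common denominator for `L(m₀ E)` -/
theorem exists_denominator (P : Place k K) (hdeg : P.deg = 1) (E : Divisor k K)
    (hEP : E P = 0) (M : Submodule k K) [FiniteDimensional k M]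
    (hMP : ∀ b ∈ M, P.1 b ≤ 1) (h1M : (1 : K) ∈ M)
    (t t₂ : K) (ht : t ∈ Algebra.adjoin k (L E : Set K)) (ht₂ : t₂ ∈ Algebra.adjoin k (L E : Set K))
    (htP : P.1 t < 1) (ht₂P : P.1 t₂ < 1)
    (H3 : ∀ b ∈ M, P.1 b < 1 → ∃ b₁ ∈ M, ∃ b₂ ∈ M, b = t * b₁ + t₂ * b₂) :
    ∃ r ∈ Algebra.adjoin k (L E : Set K), P.1 r = 1 ∧
      ∀ b ∈ M, r * b ∈ Algebra.adjoin k (L E : Set K) := by
  classical
  set A : Subalgebra k K := Algebra.adjoin k (L E : Set K) with hA
  have hAP : ∀ a ∈ A, P.1 a ≤ 1 := fun a ha => val_le_one_of_mem_adjoin_L E P hEP ha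
  -- the ideal of functions in `A` vanishing at `P`
  let f : A →+* P.O := (A.val : A →+* K).codRestrict P.O.toSubring (fun a => hAP a a.2)
  let I : Ideal A := Ideal.comap f (IsLocalRing.maximalIdeal P.O)
  have hI : ∀ a : A, a ∈ I ↔ P.1 (a : K) < 1 := by
    intro a
    show f a ∈ IsLocalRing.maximalIdeal P.O ↔ _
    rw [mem_maximalIdeal_iff]
    rfl
  -- the `A`-submodules of `K`
  let A₁ : Submodule A K := 1
  let N₀ : Submodule A K := Submodule.span A (M : Set K)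
  have hN₀fg : N₀.FG := by
    obtain ⟨s, hs⟩ := (Module.Finite.iff_fg (R := k) (N := M)).mp inferInstance
    refine ⟨s, ?_⟩
    apply le_antisymm
    · exact Submodule.span_mono (by rw [← hs]; exact Submodule.subset_span)
    · rw [Submodule.span_le]
      intro b hb
      have hb' : b ∈ Submodule.span k (s : Set K) := by rw [hs]; exact hb
      -- a `k`-combination is an `A`-combination
      have : Submodule.span k (s : Set K) ≤ (Submodule.span A (s : Set K)).restrictScalars k :=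
        Submodule.span_le_restrictScalars k A _
      exact this hb'
  let q : K →ₗ[A] K ⧸ A₁ := A₁.mkQ
  let N : Submodule A (K ⧸ A₁) := N₀.map q
  have hNfg : N.FG := hN₀fg.map q
  have hle : N₀ ≤ I • N₀ ⊔ A₁ := by
    rw [Submodule.span_le]
    intro b hb
    obtain ⟨c, hc⟩ := exists_const_of_deg_one P hdeg (hMP b hb)
    have hcM : algebraMap k K c ∈ M := by
      rw [Algebra.algebraMap_eq_smul_one]; exact M.smul_mem c h1M
    obtain ⟨b₁, hb₁, b₂, hb₂, hbb⟩ := H3 (b - algebraMap k K c) (M.sub_mem hb hcM) hc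
    have h1 : t * b₁ ∈ I • N₀ := by
      have : t * b₁ = (⟨t, ht⟩ : A) • b₁ := rfl
      rw [this]
      exact Submodule.smul_mem_smul ((hI _).mpr htP) (Submodule.subset_span hb₁)
    have h2 : t₂ * b₂ ∈ I • N₀ := by
      have : t₂ * b₂ = (⟨t₂, ht₂⟩ : A) • b₂ := rfl
      rw [this]
      exact Submodule.smul_mem_smul ((hI _).mpr ht₂P) (Submodule.subset_span hb₂)
    have h3 : algebraMap k K c ∈ A₁ := by
      rw [Submodule.mem_one]
      exact ⟨algebraMap k A c, rfl⟩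
    have : b = (t * b₁ + t₂ * b₂) + algebraMap k K c := by rw [← hbb]; ring
    rw [this]
    exact Submodule.add_mem_sup (Submodule.add_mem _ h1 h2) h3
  have hin : N ≤ I • N := by
    show N₀.map q ≤ I • N₀.map q
    rw [← Submodule.map_smul'']
    intro x hx
    obtain ⟨b, hb, rfl⟩ := hx
    obtain ⟨y, hy, z, hz, rfl⟩ := Submodule.mem_sup.mp (hle hb)
    refine ⟨y, hy, ?_⟩
    rw [map_add]
    have : q z = 0 := by
      show A₁.mkQ z = 0
      rw [Submodule.mkQ_apply, Submodule.Quotient.mk_eq_zero]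
      exact hz
    rw [this, add_zero]
  obtain ⟨r, hr1, hr2⟩ :=
    Submodule.exists_sub_one_mem_and_smul_eq_zero_of_fg_of_le_smul I N hNfg hin
  refine ⟨(r : K), r.2, ?_, fun b hb => ?_⟩
  · have h1 : P.1 (((r - 1 : A) : A) : K) < 1 := (hI _).mp hr1
    have h2 : ((r - 1 : A) : K) = (r : K) - 1 := rfl
    rw [h2] at h1
    have : (r : K) = 1 + ((r : K) - 1) := by ring
    rw [this, Valuation.map_add_eq_of_lt_left _ (by rwa [map_one]), map_one]
  · have h1 : q b ∈ N := ⟨b, Submodule.subset_span hb, rfl⟩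
    have h2 := hr2 _ h1
    rw [← map_smul] at h2
    have h3 : r • b ∈ A₁ := by
      have : A₁.mkQ (r • b) = 0 := h2
      rwa [Submodule.mkQ_apply, Submodule.Quotient.mk_eq_zero] at this
    rw [Submodule.mem_one] at h3
    obtain ⟨a, ha⟩ := h3
    have : (r : K) * b = r • b := rfl
    rw [this, ← ha]
    exact a.2

theorem nsmul_apply_eq_zero (E : Divisor k K) (P : Place k K) (hEP : E P = 0) (m : ℕ) :
    (m • E) P = 0 := by
  rw [Finsupp.smul_apply, hEP, smul_zero]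

theorem inLocRing_core (hK : IsFunctionField k K) (P : Place k K) (hdeg : P.deg = 1)
    (E : Divisor k K) (hE : 0 ≤ E) (hEP : E P = 0) (m₀ : ℕ)
    (s t t₂ : K) (hs : s ∈ L E) (ht : t ∈ L E) (ht₂ : t₂ ∈ L E)
    (htP : P.1 t < 1) (ht₂P : P.1 t₂ < 1)
    (H2 : ∀ m, m₀ ≤ m → ∀ b ∈ L ((m + 1) • E), ∃ b₁ ∈ L (m • E), ∃ b₂ ∈ L (m • E),
      b = b₁ + s * b₂)
    (H3 : ∀ b ∈ L (m₀ • E), P.1 b < 1 → ∃ b₁ ∈ L (m₀ • E), ∃ b₂ ∈ L (m₀ • E),
      b = t * b₁ + t₂ * b₂)
    (H5 : ∀ G : Divisor k K, 0 ≤ G → G P = 0 → ∃ m, m₀ ≤ m ∧ ∃ w₁ ∈ L (m • E - G), P.1 w₁ = 1)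
    (z : K) (hz : P.1 z ≤ 1) :
    ∃ u ∈ Algebra.adjoin k (L E : Set K), ∃ w ∈ Algebra.adjoin k (L E : Set K),
      P.1 w = 1 ∧ z * w = u := by
  set A : Subalgebra k K := Algebra.adjoin k (L E : Set K) with hA
  have hLA : ∀ x ∈ L E, x ∈ A := fun x hx => Algebra.subset_adjoin hx
  haveI := finiteDimensional_L hK (m₀ • E)
  have hMP : ∀ b ∈ L (m₀ • E), P.1 b ≤ 1 := by
    intro b hb
    have := hb P
    rwa [nsmul_apply_eq_zero E P hEP, WithZero.exp_zero] at this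
  have h1M : (1 : K) ∈ L (m₀ • E) := by
    intro Q
    rw [map_one, ← WithZero.exp_zero, WithZero.exp_le_exp]
    exact (nsmul_nonneg hE m₀) Q
  obtain ⟨r, hrA, hrP, hr⟩ := exists_denominator P hdeg E hEP (L (m₀ • E)) hMP h1M t t₂
    (hLA t ht) (hLA t₂ ht₂) htP ht₂P H3
  -- claim
  have hC : ∀ m, m₀ ≤ m → ∀ b ∈ L (m • E), ∃ w ∈ A, P.1 w = 1 ∧ w * b ∈ A := by
    intro m hm
    induction m, hm using Nat.le_induction with
    | base => exact fun b hb => ⟨r, hrA, hrP, hr b hb⟩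
    | succ m hm ih =>
      intro b hb
      obtain ⟨b₁, hb₁, b₂, hb₂, rfl⟩ := H2 m hm b hb
      obtain ⟨w₁, hw₁A, hw₁P, hw₁⟩ := ih b₁ hb₁
      obtain ⟨w₂, hw₂A, hw₂P, hw₂⟩ := ih b₂ hb₂
      refine ⟨w₁ * w₂, A.mul_mem hw₁A hw₂A, by rw [map_mul, hw₁P, hw₂P, one_mul], ?_⟩
      have : w₁ * w₂ * (b₁ + s * b₂) = w₂ * (w₁ * b₁) + s * (w₁ * (w₂ * b₂)) := by ring
      rw [this]
      exact A.add_mem (A.mul_mem hw₂A hw₁) (A.mul_mem (hLA s hs) (A.mul_mem hw₁A hw₂))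
  by_cases hz0 : z = 0
  · exact ⟨0, A.zero_mem, 1, A.one_mem, map_one _, by rw [hz0, zero_mul]⟩
  set G : Divisor k K := (-(FunFld.div k z)) ⊔ 0 with hG
  have hG0 : 0 ≤ G := le_sup_right
  have hGP : G P = 0 := by
    rw [hG, Finsupp.sup_apply, Finsupp.neg_apply, div_apply hK, Finsupp.zero_apply]
    have := (ord_nonneg_iff P hz0).mpr hz
    exact sup_eq_right.mpr (by omega)
  have hzG : ∀ Q : Place k K, Q.1 z ≤ WithZero.exp (G Q) := by
    intro Q
    rw [val_le_exp_iff Q hz0, hG, Finsupp.sup_apply, Finsupp.neg_apply, div_apply hK]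
    have : -(Q.ord z) ≤ (-(Q.ord z)) ⊔ (0 : Divisor k K) Q := le_sup_left
    omega
  obtain ⟨m, hm, w₁, hw₁L, hw₁P⟩ := H5 G hG0 hGP
  have hw₁L' : w₁ ∈ L (m • E) := L_mono (sub_le_self _ hG0) hw₁L
  have hw₁z : w₁ * z ∈ L (m • E) := by
    intro Q
    rw [map_mul]
    have h1 := hw₁L Q
    have h2 := hzG Q
    calc Q.1 w₁ * Q.1 z ≤ WithZero.exp ((m • E - G) Q) * WithZero.exp (G Q) := mul_le_mul' h1 h2
      _ = WithZero.exp ((m • E) Q) := by
        rw [← WithZero.exp_add, Finsupp.sub_apply]; congr 1; ring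
  obtain ⟨w₂, hw₂A, hw₂P, hw₂⟩ := hC m hm w₁ hw₁L'
  obtain ⟨w₃, hw₃A, hw₃P, hw₃⟩ := hC m hm (w₁ * z) hw₁z
  refine ⟨w₂ * (w₃ * (w₁ * z)), A.mul_mem hw₂A hw₃, w₂ * w₁ * w₃, A.mul_mem hw₂ hw₃A, ?_, by ring⟩
  rw [map_mul, map_mul, hw₂P, hw₁P, hw₃P, one_mul, one_mul]

end Groth.Agent.Helper5.FF
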