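import Mathlib
import Groth.Agent.Helper5.FFEmb1
set_option autoImplicit false
open FunFld Polynomial
open scoped IntermediateField

namespace Groth.Agent.Helper5.FF

variable {k K : Type*} [Field k] [Field K] [Algebra k K]

theorem mul_mem_L_add {A B : Divisor k K} {x y : K} (hx : x ∈ L A) (hy : y ∈ L B) :
    x * y ∈ L (A + B) := by
  intro Q
  rw [map_mul, Finsupp.add_apply, WithZero.exp_add]
  exact mul_le_mul' (hx Q) (hy Q)

/-- the pencil lemma -/
theorem pencil (hK : IsFunctionField k K) (F₁ F₂ N' : Divisor k K) (s₁ s₂ : K) (hs₁ : s₁ ≠ 0)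
    (h1 : ∀ a ∈ L F₁, s₁ * a ∈ L F₂) (h2 : ∀ a ∈ L F₁, s₂ * a ∈ L F₂)
    (hker : ∀ b ∈ L F₁, (s₂ / s₁) * b ∈ L F₁ → b ∈ L (F₁ - N'))
    (hdim : ell F₂ + ell (F₁ - N') ≤ 2 * ell F₁) :
    ∀ b ∈ L F₂, ∃ b₁ ∈ L F₁, ∃ b₂ ∈ L F₁, b = s₁ * b₁ + s₂ * b₂ := by
  haveI := finiteDimensional_L hK F₁
  haveI := finiteDimensional_L hK F₂
  haveI := finiteDimensional_L hK (F₁ - N')
  let μ : (L F₁ × L F₁) →ₗ[k] L F₂ :=
    { toFun := fun x => ⟨s₁ * x.1.1 + s₂ * x.2.1, (L F₂).add_mem (h1 _ x.1.2) (h2 _ x.2.2)⟩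
      map_add' := fun x y => by
        apply Subtype.ext
        show s₁ * (x.1.1 + y.1.1) + s₂ * (x.2.1 + y.2.1) =
          (s₁ * x.1.1 + s₂ * x.2.1) + (s₁ * y.1.1 + s₂ * y.2.1)
        ring
      map_smul' := fun c x => by
        apply Subtype.ext
        show s₁ * (c • x.1.1) + s₂ * (c • x.2.1) = c • (s₁ * x.1.1 + s₂ * x.2.1)
        rw [smul_add, mul_smul_comm, mul_smul_comm] }
  have hkermem : ∀ x : LinearMap.ker μ, x.1.2.1 ∈ L (F₁ - N') := by
    intro x
    have hx : μ x.1 = 0 := x.2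
    have hx' : s₁ * x.1.1.1 + s₂ * x.1.2.1 = 0 := congrArg Subtype.val hx
    apply hker _ x.1.2.2
    have : s₂ / s₁ * x.1.2.1 = -x.1.1.1 := by
      field_simp
      linear_combination hx'
    rw [this]
    exact (L F₁).neg_mem x.1.1.2
  let κ : LinearMap.ker μ →ₗ[k] L (F₁ - N') :=
    { toFun := fun x => ⟨x.1.2.1, hkermem x⟩
      map_add' := fun x y => rfl
      map_smul' := fun c x => rfl }
  have hκ : Function.Injective κ := by
    intro x y hxy
    have h2 : x.1.2.1 = y.1.2.1 := congrArg (fun z : L (F₁ - N') => z.1) hxy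
    have hx' : s₁ * x.1.1.1 + s₂ * x.1.2.1 = 0 := congrArg Subtype.val (x.2 : μ x.1 = 0)
    have hy' : s₁ * y.1.1.1 + s₂ * y.1.2.1 = 0 := congrArg Subtype.val (y.2 : μ y.1 = 0)
    have h1' : x.1.1.1 = y.1.1.1 := by
      have : s₁ * x.1.1.1 = s₁ * y.1.1.1 := by rw [h2] at hx'; linear_combination hx' - hy'
      exact mul_left_cancel₀ hs₁ this
    apply Subtype.ext
    exact Prod.ext (Subtype.ext h1') (Subtype.ext h2)
  have hk1 : Module.finrank k (LinearMap.ker μ) ≤ ell (F₁ - N') :=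
    LinearMap.finrank_le_finrank_of_injective hκ
  have hrn := LinearMap.finrank_range_add_finrank_ker μ
  rw [Module.finrank_prod] at hrn
  have hF1 : Module.finrank k (L F₁) = ell F₁ := rfl
  have hF2 : Module.finrank k (L F₂) = ell F₂ := rfl
  have hrange : LinearMap.range μ = ⊤ := by
    apply Submodule.eq_top_of_finrank_eq
    have := Submodule.finrank_le (LinearMap.range μ)
    omega
  intro b hb
  have : (⟨b, hb⟩ : L F₂) ∈ LinearMap.range μ := by rw [hrange]; trivial
  obtain ⟨x, hx⟩ := this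
  exact ⟨x.1.1, x.1.2, x.2.1, x.2.2, (congrArg Subtype.val hx).symm⟩

/-- a generic element of `L(F)` has exact order at finitely many given places -/
theorem exists_generic [Infinite k] (hK : IsFunctionField k K) (F : Divisor k K)
    (T : Finset (Place k K)) (hF : 0 < ell F)
    (hT : ∀ Q ∈ T, ell (F - Finsupp.single Q 1) < ell F) :
    ∃ s ∈ L F, s ≠ 0 ∧ ∀ Q ∈ T, Q.ord s = -F Q := by
  classical
  haveI := finiteDimensional_L hK F
  let p : Place k K → Submodule k (L F) := fun Q =>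
    Submodule.comap (L F).subtype (L (F - Finsupp.single Q 1))
  let S : Finset (Submodule k (L F)) := insert ⊥ (T.image p)
  have hS : (⊤ : Submodule k (L F)) ∉ S := by
    intro hmem
    rcases Finset.mem_insert.mp hmem with h | h
    · have h1 : Module.finrank k (⊤ : Submodule k (L F)) = 0 := by rw [h]; exact finrank_bot k _
      rw [finrank_top] at h1
      have : ell F = 0 := h1
      omega
    · obtain ⟨Q, hQ, hpQ⟩ := Finset.mem_image.mp h
      have hle : L F ≤ L (F - Finsupp.single Q 1) := by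
        intro x hx
        have : (⟨x, hx⟩ : L F) ∈ p Q := by rw [hpQ]; trivial
        exact this
      haveI := finiteDimensional_L hK (F - Finsupp.single Q 1)
      have := Submodule.finrank_mono hle
      have h2 := hT Q hQ
      unfold ell at h2
      omega
  have hne := Subspace.biUnion_ne_univ_of_top_notMem hS
  obtain ⟨s, hs⟩ : ∃ s : L F, s ∉ ⋃ q ∈ S, (q : Set (L F)) := by
    by_contra hcon
    push Not at hcon
    exact hne (Set.eq_univ_of_forall hcon)
  simp only [Set.mem_iUnion, SetLike.mem_coe, exists_prop, not_exists, not_and] at hs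
  have hs0 : (s : K) ≠ 0 := by
    intro h0
    apply hs ⊥ (Finset.mem_insert_self _ _)
    rw [Submodule.mem_bot]
    exact Subtype.ext h0
  refine ⟨s.1, s.2, hs0, fun Q hQ => ?_⟩
  have hnot : (s : K) ∉ L (F - Finsupp.single Q 1) := by
    intro hmem
    exact hs (p Q) (Finset.mem_insert_of_mem (Finset.mem_image_of_mem p hQ)) hmem
  have hge := (mem_L_iff_ord F hs0).mp s.2 Q
  by_contra hne'
  apply hnot
  rw [mem_L_iff_ord _ hs0]
  intro Q'
  by_cases hQ' : Q' = Q
  · subst hQ'
    rw [Finsupp.sub_apply, Finsupp.single_eq_same]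
    omega
  · rw [Finsupp.sub_apply, Finsupp.single_eq_of_ne hQ', sub_zero]
    exact (mem_L_iff_ord F hs0).mp s.2 Q'

end Groth.Agent.Helper5.FF
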