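import Mathlib
import Groth.Agent.Helper5.FGConorm
set_option autoImplicit false
open FunFld Polynomial
open scoped IntermediateField

namespace Groth.Agent.Helper5.FG

section
variable {k K K' : Type*} [Field k] [Field K] [Field K'] [Algebra k K] [Algebra K K']
  [Algebra k K'] [IsScalarTower k K K']

open scoped Classical in
omit [IsScalarTower k K K'] in
theorem conormP_apply_of_finite (P : Place k K) (hfin : {Q : Place k K' | IsOver Q P}.Finite)
    (Q : Place k K') : conormP K' P Q = if IsOver Q P then (ramIdx Q P : ℤ) else 0 := by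
  unfold conormP
  rw [dif_pos hfin, Finsupp.finsetSum_apply]
  simp only [Finsupp.smul_apply, Finsupp.single_apply, smul_eq_mul, mul_ite, mul_one, mul_zero]
  rw [Finset.sum_ite_eq']
  simp only [Set.Finite.mem_toFinset, Set.mem_ofPred_eq]

omit [IsScalarTower k K K'] in
theorem conorm_apply_of_finite (hfin : ∀ P : Place k K, {Q : Place k K' | IsOver Q P}.Finite)
    (D : Divisor k K) {Q : Place k K'} {P : Place k K} {e : ℕ} (he : IsOverWith Q P e) :
    conorm K' D Q = e * D P := by
  classical
  rw [conorm_eq, Finsupp.sum, Finsupp.finsetSum_apply]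
  have : ∀ P' ∈ D.support, (D P' • conormP K' P') Q = if P' = P then (e : ℤ) * D P else 0 := by
    intro P' _
    rw [Finsupp.smul_apply, conormP_apply_of_finite P' (hfin P'), smul_eq_mul]
    by_cases hP' : P' = P
    · subst hP'
      rw [if_pos (show IsOver Q P' from ⟨e, he⟩), if_pos rfl, ramIdx_eq he, mul_comm]
    · rw [if_neg hP', if_neg (fun h : IsOver Q P' => hP' (isOver_unique h ⟨e, he⟩)), mul_zero]
  rw [Finset.sum_congr rfl this, Finset.sum_ite_eq']
  split_ifs with hP
  · rfl
  · rw [Finsupp.notMem_support_iff.mp hP, mul_zero]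

end

section
variable {k K K' K'' : Type*} [Field k] [Field K] [Field K'] [Field K'']
    [Algebra k K] [Algebra k K'] [Algebra k K''] [Algebra K K'] [Algebra K' K''] [Algebra K K'']
    [IsScalarTower k K K'] [IsScalarTower k K' K''] [IsScalarTower k K K''] [IsScalarTower K K' K'']

omit [IsScalarTower k K K'] [IsScalarTower k K' K''] [IsScalarTower k K K''] in
theorem isOverWith_trans {Q'' : Place k K''} {P' : Place k K'} {P : Place k K} {e₁ e₂ : ℕ}
    (h2 : IsOverWith Q'' P' e₂) (h1 : IsOverWith P' P e₁) : IsOverWith Q'' P (e₁ * e₂) := by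
  intro x
  rw [IsScalarTower.algebraMap_apply K K' K'', h2, h1, pow_mul]

theorem conorm_conorm [FiniteDimensional K K'] [FiniteDimensional K' K'']
    (hK : IsFunctionField k K) (D : Divisor k K) :
    conorm K'' (conorm K' D) = conorm K'' D := by
  haveI : FiniteDimensional K K'' := Module.Finite.trans K' K''
  have hK' : IsFF k K' := isFF_of_finite hK.1
  have hfin : ∀ P' : Place k K', {Q : Place k K'' | IsOver Q P'}.Finite := by
    intro P'
    obtain ⟨P, e₁, he₁⟩ := exists_isOverWith hK.1 P'
    refine (finite_isOver_and_sum (K' := K'') hK P).1.subset ?_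
    rintro Q ⟨e₂, he₂⟩
    exact ⟨_, isOverWith_trans he₂ he₁⟩
  ext Q
  obtain ⟨P', e₂, he₂⟩ := exists_isOverWith hK' Q
  obtain ⟨P, e₁, he₁⟩ := exists_isOverWith hK.1 P'
  rw [conorm_apply_of_finite hfin _ he₂, conorm_apply hK D he₁,
    conorm_apply hK D (isOverWith_trans he₂ he₁)]
  push_cast
  ring

end
end Groth.Agent.Helper5.FG
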