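import Mathlib
import Groth.Agent.Helper5.FGConst5
set_option autoImplicit false
set_option linter.style.haveILetI false
open FunFld Polynomial
open scoped IntermediateField

namespace Groth.Agent.Helper5.FG

section
variable {k K K' : Type*} [Field k] [Field K] [Field K'] [Algebra k K] [Algebra K K']

open Algebra Matrix in
theorem discr_mul_repr_mem [FiniteDimensional K K'] [Algebra.IsSeparable K K'] (P : Place k K)
    (B : PowerBasis K K') (hint : IsIntegral P.O B.gen) {z : K'} (hz : IsIntegral P.O z)
    (i : Fin B.dim) : P.1 (Algebra.discr K B.basis * B.basis.repr z i) ≤ 1 := by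
  classical
  have hinv : IsUnit (traceMatrix K B.basis).det := by
    simpa [← discr_def] using discr_isUnit_of_basis _ B.basis
  have H :
    (traceMatrix K B.basis).det • (traceMatrix K B.basis) *ᵥ (B.basis.equivFun z) =
      (traceMatrix K B.basis).det • fun i => trace K K' (z * B.basis i) := by
    congr; exact traceMatrix_of_basis_mulVec _ _
  have cramer := mulVec_cramer (traceMatrix K B.basis) fun i => trace K K' (z * B.basis i)
  suffices h : ((traceMatrix K B.basis).det • B.basis.equivFun z) i ∈ (⊥ : Subalgebra P.O K) by
    rw [Algebra.mem_bot] at h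
    obtain ⟨r, hr⟩ := h
    have : Algebra.discr K B.basis * B.basis.repr z i = (r : K) := by
      rw [discr_def]
      exact hr.symm
    rw [this]; exact r.2
  rw [← H, ← mulVec_smul] at cramer
  replace cramer := congr_arg (mulVec (traceMatrix K B.basis)⁻¹) cramer
  rw [mulVec_mulVec, nonsing_inv_mul _ hinv, mulVec_mulVec, nonsing_inv_mul _ hinv, one_mulVec,
    one_mulVec] at cramer
  rw [← congr_fun cramer i, cramer_apply, det_apply]
  refine
    Subalgebra.sum_mem _ fun σ _ => Subalgebra.zsmul_mem _ (Subalgebra.prod_mem _ fun j _ => ?_) _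
  by_cases hji : j = i
  · simp only [updateCol_apply, hji, PowerBasis.coe_basis]
    exact mem_bot.2 (IsIntegrallyClosed.isIntegral_iff.1 <| isIntegral_trace (hz.mul <| hint.pow _))
  · simp only [updateCol_apply, hji, PowerBasis.coe_basis]
    exact mem_bot.2
      (IsIntegrallyClosed.isIntegral_iff.1 <| isIntegral_trace <| (hint.pow _).mul (hint.pow _))

end
end Groth.Agent.Helper5.FG
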