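import Mathlib
import Groth.Agent.Helper5.FGUnram1
set_option autoImplicit false
set_option linter.style.haveILetI false
open FunFld Polynomial
open scoped IntermediateField

namespace Groth.Agent.Helper5.FG

section
variable {k K K' : Type*} [Field k] [Field K] [Field K'] [Algebra k K] [Algebra K K']

theorem exists_lift_poly (P : Place k K) (p : K[X]) (hp : ∀ n, P.1 (p.coeff n) ≤ 1) :
    ∃ q : P.O[X], q.map (algebraMap P.O K) = p := by
  have : p ∈ Polynomial.lifts (algebraMap P.O K) := by
    rw [Polynomial.lifts_iff_coeff_lifts]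
    intro n
    exact ⟨⟨p.coeff n, hp n⟩, rfl⟩
  exact (Polynomial.mem_lifts p).mp this

theorem hred_powerBasis (P : Place k K) (B : PowerBasis K K')
    (hf : ∀ n, P.1 ((minpoly K B.gen).coeff n) ≤ 1)
    (a b : K[X]) (hab : a * minpoly K B.gen + b * derivative (minpoly K B.gen) = 1)
    (ha : ∀ n, P.1 (a.coeff n) ≤ 1) (hb : ∀ n, P.1 (b.coeff n) ≤ 1)
    (r ρ : Fin B.dim → K) (hr : ∀ i, P.1 (r i) ≤ 1) (hρ : ∀ i, P.1 (ρ i) < 1) (M : ℕ)
    (hpow : (∑ i, algebraMap K K' (r i) * B.gen ^ (i : ℕ)) ^ M =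
      ∑ i, algebraMap K K' (ρ i) * B.gen ^ (i : ℕ)) :
    ∀ i, P.1 (r i) < 1 := by
  classical
  have hinj : Function.Injective (algebraMap P.O K) := Subtype.val_injective
  obtain ⟨fO, hfO⟩ := exists_lift_poly P _ hf
  obtain ⟨aO, haO⟩ := exists_lift_poly P _ ha
  obtain ⟨bO, hbO⟩ := exists_lift_poly P _ hb
  have hfmonic : (minpoly K B.gen).Monic := minpoly.monic B.isIntegral_gen
  have hfOmonic : fO.Monic := Polynomial.monic_of_injective hinj (by rw [hfO]; exact hfmonic)
  obtain ⟨gO, hgO_def⟩ : ∃ gO : P.O[X], gO = ∑ i : Fin B.dim, C (⟨r i, hr i⟩ : P.O) * X ^ (i : ℕ) :=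
    ⟨_, rfl⟩
  obtain ⟨ρO, hρO_def⟩ : ∃ ρO : P.O[X],
      ρO = ∑ i : Fin B.dim, C (⟨ρ i, (hρ i).le⟩ : P.O) * X ^ (i : ℕ) := ⟨_, rfl⟩
  have hgev : aeval B.gen (gO.map (algebraMap P.O K)) =
      ∑ i, algebraMap K K' (r i) * B.gen ^ (i : ℕ) := by
    rw [hgO_def, Polynomial.map_sum, map_sum]
    apply Finset.sum_congr rfl
    intro i _
    simp
  have hρev : aeval B.gen (ρO.map (algebraMap P.O K)) =
      ∑ i, algebraMap K K' (ρ i) * B.gen ^ (i : ℕ) := by
    rw [hρO_def, Polynomial.map_sum, map_sum]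
    apply Finset.sum_congr rfl
    intro i _
    simp
  have hzero : aeval B.gen ((gO ^ M - ρO).map (algebraMap P.O K)) = 0 := by
    rw [Polynomial.map_sub, Polynomial.map_pow, map_sub, map_pow, hgev, hρev, hpow, sub_self]
  have hdvdK : minpoly K B.gen ∣ (gO ^ M - ρO).map (algebraMap P.O K) := minpoly.dvd K _ hzero
  have hdvdO : fO ∣ gO ^ M - ρO := by
    rw [← hfO] at hdvdK
    exact (Polynomial.map_dvd_map _ hinj hfOmonic).mp hdvdK
  -- reduce
  let res := IsLocalRing.residue P.O
  have hρbar : ρO.map res = 0 := by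
    rw [hρO_def, Polynomial.map_sum]
    apply Finset.sum_eq_zero
    intro i _
    rw [Polynomial.map_mul, Polynomial.map_C, (residue_eq_zero_iff P _).mpr (hρ i), C_0, zero_mul]
  have hdvdbar : fO.map res ∣ (gO.map res) ^ M := by
    have := Polynomial.map_dvd res hdvdO
    rwa [Polynomial.map_sub, Polynomial.map_pow, hρbar, sub_zero] at this
  have hbez : aO * fO + bO * derivative fO = 1 := by
    apply Polynomial.map_injective _ hinj
    rw [Polynomial.map_add, Polynomial.map_mul, Polynomial.map_mul, ← Polynomial.derivative_map,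
      haO, hbO, hfO, Polynomial.map_one]
    exact hab
  have hsep : (fO.map res).Separable := by
    refine ⟨aO.map res, bO.map res, ?_⟩
    rw [Polynomial.derivative_map, ← Polynomial.map_mul, ← Polynomial.map_mul, ← Polynomial.map_add,
      hbez, Polynomial.map_one]
  have hdvd1 : fO.map res ∣ gO.map res := hsep.squarefree.isRadical M _ hdvdbar
  have hdeg : (gO.map res).degree < (fO.map res).degree := by
    have h1 : (gO.map res).degree < B.dim := by
      rw [hgO_def, Polynomial.map_sum]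
      have : ∑ i : Fin B.dim, (C (⟨r i, hr i⟩ : P.O) * X ^ (i : ℕ)).map res =
          ∑ i : Fin B.dim, C (res ⟨r i, hr i⟩) * X ^ (i : ℕ) := by
        apply Finset.sum_congr rfl
        intro i _
        simp
      rw [this]
      exact Polynomial.degree_sum_fin_lt _
    have h2 : (fO.map res).degree = B.dim := by
      rw [hfOmonic.degree_map, Polynomial.degree_eq_natDegree hfOmonic.ne_zero,
        ← Polynomial.natDegree_map_eq_of_injective hinj fO, hfO, B.natDegree_minpoly]
    rw [h2]; exact h1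
  have hzero' : gO.map res = 0 := Polynomial.eq_zero_of_dvd_of_degree_lt hdvd1 hdeg
  intro i
  have hcoef : (gO.map res).coeff (i : ℕ) = res ⟨r i, hr i⟩ := by
    rw [hgO_def, Polynomial.map_sum, Polynomial.finsetSum_coeff]
    rw [Finset.sum_eq_single i]
    · simp
    · intro j _ hji
      have : (i : ℕ) ≠ (j : ℕ) := fun h => hji (Fin.ext h.symm)
      simp [Polynomial.coeff_X_pow, this]
    · simp
  rw [hzero', Polynomial.coeff_zero] at hcoef
  exact (residue_eq_zero_iff P _).mp hcoef.symm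

end
end Groth.Agent.Helper5.FG
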