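import Mathlib
import Groth.Agent.Helper5.FGUnram3
set_option autoImplicit false
set_option linter.style.haveILetI false
open FunFld Polynomial
open scoped IntermediateField

namespace Groth.Agent.Helper5.FG

section
variable {k K K' : Type*} [Field k] [Field K] [Field K'] [Algebra k K] [Algebra K K']
  [Algebra k K'] [IsScalarTower k K K']

theorem finite_ramified [FiniteDimensional K K'] [Algebra.IsSeparable K K']
    (hK : IsFunctionField k K) :
    {Q : Place k K' | ¬ Function.Surjective (Q.1.comap (algebraMap K K'))}.Finite := by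
  classical
  let B := Field.powerBasisOfFiniteOfSeparable K K'
  have hsep : (minpoly K B.gen).Separable := Algebra.IsSeparable.isSeparable K B.gen
  obtain ⟨a, b, hab⟩ := hsep
  have hd0 : Algebra.discr K B.basis ≠ 0 := Algebra.discr_not_zero_of_basis K B.basis
  obtain ⟨X, hX_def⟩ : ∃ X : Finset K, X = (minpoly K B.gen).coeffs ∪ a.coeffs ∪ b.coeffs ∪
    {Algebra.discr K B.basis} := ⟨_, rfl⟩
  obtain ⟨bad, hbad_def⟩ : ∃ bad : Set (Place k K), bad = ⋃ x ∈ X, {P | P.ord x ≠ 0} := ⟨_, rfl⟩
  have hbad : bad.Finite := by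
    rw [hbad_def]
    exact Set.Finite.biUnion X.finite_toSet (fun x _ => finite_support_ord hK.1 x)
  have hgood : ∀ P : Place k K, P ∉ bad → ∀ x ∈ X, x ≠ 0 → P.1 x = 1 := by
    intro P hP x hx hx0
    have h1 : P.ord x = 0 := by
      by_contra hne
      apply hP
      rw [hbad_def]
      exact Set.mem_biUnion hx hne
    rw [val_eq_exp_neg_ord P hx0, h1, neg_zero, WithZero.exp_zero]
  have hcoef : ∀ P : Place k K, P ∉ bad → ∀ p : K[X], p.coeffs ⊆ X → ∀ n, P.1 (p.coeff n) ≤ 1 := by
    intro P hP p hp n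
    by_cases h0 : p.coeff n = 0
    · rw [h0, map_zero]; exact zero_le_one
    · exact (hgood P hP _ (hp (Polynomial.coeff_mem_coeffs h0)) h0).le
  have hsub : {Q : Place k K' | ¬ Function.Surjective (Q.1.comap (algebraMap K K'))} ⊆
      ⋃ P ∈ bad, {Q : Place k K' | IsOver Q P} := by
    intro Q hQ
    obtain ⟨P, e, he⟩ := exists_isOverWith hK.1 Q
    by_cases hP : P ∈ bad
    · exact Set.mem_biUnion hP ⟨e, he⟩
    · exfalso
      apply hQ
      have h1 : IsOverWith Q P 1 := isOverWith_one_of_good hK P B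
        (hcoef P hP _ (by rw [hX_def]; intro x hx; simp [hx]))
        a b hab
        (hcoef P hP _ (by rw [hX_def]; intro x hx; simp [hx]))
        (hcoef P hP _ (by rw [hX_def]; intro x hx; simp [hx]))
        (hgood P hP _ (by rw [hX_def]; simp) hd0) Q ⟨e, he⟩
      intro γ
      obtain ⟨x, hx⟩ := P.2.2 γ
      refine ⟨x, ?_⟩
      show Q.1 (algebraMap K K' x) = γ
      rw [h1 x, pow_one, hx]
  exact (Set.Finite.biUnion hbad (fun P _ => (finite_isOver_and_sum (K' := K') hK P).1)).subset hsub

end
end Groth.Agent.Helper5.FG
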