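import Mathlib
import Groth.Agent.Helper5.RedDense

set_option autoImplicit false
universe u
open CategoryTheory CategoryTheory.Limits AlgebraicGeometry TopologicalSpace Opposite

namespace Groth.Agent.Helper5.AssFlat
open Groth.Agent.Helper4 Groth.Agent.Lead

/-- flat local homomorphism: if the maximal ideal upstairs is associated to a module flat over the
(Noetherian local) base, then the base has depth zero. -/
theorem maximalIdeal_mem_associatedPrimes_of_flat
    {R S : Type*} [CommRing R] [CommRing S] [IsLocalRing R] [IsNoetherianRing R] [IsLocalRing S]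
    (φ : R →+* S) [IsLocalHom φ] (N : Type*) [AddCommGroup N] [Module S N]
    (hflat : letI := Module.compHom N φ; Module.Flat R N)
    (hass : IsAssociatedPrime (IsLocalRing.maximalIdeal S) N) :
    IsLocalRing.maximalIdeal R ∈ associatedPrimes R R := by
  letI := Module.compHom N φ
  obtain ⟨hprime, n, hn⟩ := hass
  have hdisj : Disjoint ((IsLocalRing.maximalIdeal R : Ideal R) : Set R) (nonZeroDivisors R) := by
    rw [Set.disjoint_left]
    intro a ha hreg
    have h1 : φ a ∈ IsLocalRing.maximalIdeal S := by
      have ha' : a ∈ IsLocalRing.maximalIdeal R := ha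
      rw [IsLocalRing.mem_maximalIdeal] at ha' ⊢
      exact fun h => ha' (isUnit_of_map_unit φ a h)
    rw [hn] at h1
    obtain ⟨k, hk⟩ := h1
    rw [Submodule.mem_colon_singleton, Submodule.mem_bot] at hk
    have hreg' : IsSMulRegular N (a ^ k) :=
      Module.Flat.isSMulRegular_of_nonZeroDivisors (pow_mem hreg k)
    have h2 : (a ^ k) • n = (a ^ k) • (0 : N) := by
      rw [smul_zero]
      show φ (a ^ k) • n = 0
      rw [map_pow]; exact hk
    have h3 : n = 0 := hreg' h2
    apply hprime.ne_top
    rw [hn, h3]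
    rw [Ideal.radical_eq_top]
    rw [Ideal.eq_top_iff_one, Submodule.mem_colon_singleton]
    simp
  obtain ⟨P, hP, hle⟩ : ∃ P ∈ associatedPrimes R R, IsLocalRing.maximalIdeal R ≤ P :=
    ((IsLocalRing.maximalIdeal R).subset_union_prime_finite (associatedPrimes.finite ..) (f := id)
      0 0 fun _ h _ _ ↦ h.1).1 <|
    biUnion_associatedPrimes_eq_compl_nonZeroDivisors R ▸ hdisj.subset_compl_right
  have hPprime : P.IsPrime := hP.1
  rw [(IsLocalRing.maximalIdeal.isMaximal R).eq_of_le hPprime.ne_top hle]
  exact hP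

/-- dictionary: depth zero local ring at `y` means `y` is associated to the structure sheaf -/
theorem isAssPoint_structureModule_of_mem {Y : Scheme.{u}} (y : Y)
    (h : IsLocalRing.maximalIdeal (Y.presheaf.stalk y) ∈
      associatedPrimes (Y.presheaf.stalk y) (Y.presheaf.stalk y)) :
    Curv2.IsAssPoint (Coh.structureModule Y) y := by
  rw [AssDict.isAssPoint_iff_isWeakAssPoint, WeakAss.isWeakAssPoint_iff]
  obtain ⟨_, r, hr⟩ := h
  refine ⟨r, ?_⟩
  rw [hr]
  congr 1
  ext a
  simp [Submodule.mem_colon_singleton, LinearMap.toSpanSingleton_apply]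

theorem s4641 {X Y : Scheme.{u}} (f : X ⟶ Y) [IsLocallyNoetherian X]
    [IsLocallyNoetherian Y] (hY : AssSch.NoEmbedded (Coh.structureModule Y)) (F : X.Modules)
    (hF : Coh.IsQCoh F)
    (hfl : FlatMod.IsFlatOver f F) (x : X) (hx : x ∈ AssSch.Ass F) (y : Y) (hy : y ⤳ f x) :
    y = f x := by
  haveI : (Coh.structureModule Y).IsQuasicoherent :=
    FinLocFree4.isQuasicoherent_of_isFinLocFree _ (FinLocFree6.isFinLocFree_unit (X := Y))
  have h1 : Curv2.IsAssPoint (Coh.structureModule Y) (f x) := by
    apply isAssPoint_structureModule_of_mem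
    exact maximalIdeal_mem_associatedPrimes_of_flat (f.stalkMap x).hom (F.presheaf.stalk x)
      (hfl x) hx
  obtain ⟨η, hηy, -, hmax⟩ := RedDense.exists_generic_mem_of_dense (⊤ : Y.Opens)
    (by simp) y
  have hηass : Curv2.IsAssPoint (Coh.structureModule Y) η :=
    AssMax.isAssPoint_of_maximal_in_support _ η (RedDense.mem_support_structureModule Y η)
      (fun z _ hz => hmax z hz)
  have h2 : f x = η := hY (f x) h1 η hηass (hηy.trans hy)
  have h3 : f x ⤳ y := h2 ▸ hηy
  exact (hy.antisymm h3).eq

end Groth.Agent.Helper5.AssFlat
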