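import Mathlib
import Groth.Prelude.Def_CInt
import Groth.Agent.Helper5.SOne1
import Groth.Agent.Helper4.FinLocFree5
import Groth.Agent.Helper4.AssMax

set_option autoImplicit false
universe u
open CategoryTheory CategoryTheory.Limits AlgebraicGeometry TopologicalSpace Opposite

namespace Groth.Agent.Helper5.SchD
open Groth.Agent.Helper4

theorem eq_zero_of_germ {X : Scheme.{u}} {V : X.Opens} (a : Γ(X, V))
    (h : ∀ (x : X) (hx : x ∈ V), X.presheaf.germ V x hx a = 0) : a = 0 := by
  apply TopCat.Presheaf.section_ext X.sheaf V a 0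
  intro x hx
  rw [map_zero]
  exact h x hx

/-- the maximal ideal of the stalk is associated iff the prime of the point is associated to the
ring of sections of a Noetherian affine open. -/
theorem isAssociatedPrime_stalk_iff {X : Scheme.{u}} {W : X.Opens} (hW : IsAffineOpen W)
    [IsNoetherianRing Γ(X, W)] (x : X) (hx : x ∈ W) :
    IsAssociatedPrime (IsLocalRing.maximalIdeal (X.presheaf.stalk x)) (X.presheaf.stalk x) ↔
      IsAssociatedPrime (hW.primeIdealOf ⟨x, hx⟩).asIdeal Γ(X, W) := by
  letI := X.presheaf.algebra_section_stalk ⟨x, hx⟩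
  haveI := hW.isLocalization_stalk ⟨x, hx⟩
  have h := Module.associatedPrimes.preimage_comap_associatedPrimes_eq_associatedPrimes_of_isLocalizedModule
    (hW.primeIdealOf ⟨x, hx⟩).asIdeal.primeCompl (X.presheaf.stalk x)
    (Algebra.linearMap Γ(X, W) (X.presheaf.stalk x))
  have hc : (IsLocalRing.maximalIdeal (X.presheaf.stalk x)).comap
      (algebraMap Γ(X, W) (X.presheaf.stalk x)) = (hW.primeIdealOf ⟨x, hx⟩).asIdeal :=
    IsLocalization.AtPrime.comap_maximalIdeal _ _
  have h2 : IsLocalRing.maximalIdeal (X.presheaf.stalk x) ∈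
      (Ideal.comap (algebraMap Γ(X, W) (X.presheaf.stalk x))) ⁻¹' (associatedPrimes Γ(X, W) Γ(X, W)) ↔
      IsLocalRing.maximalIdeal (X.presheaf.stalk x) ∈
        associatedPrimes (X.presheaf.stalk x) (X.presheaf.stalk x) := by rw [h]
  rw [Set.mem_preimage, hc] at h2
  exact h2.symm


theorem exists_affine_nhd {X : Scheme.{u}} (x : X) (V : X.Opens) (hxV : x ∈ V) :
    ∃ W : X.Opens, IsAffineOpen W ∧ x ∈ W ∧ W ≤ V := by
  obtain ⟨_, ⟨W, hW : IsAffineOpen W, rfl⟩, hxW, hWV⟩ :=
    X.isBasis_affineOpens.exists_subset_of_mem_open (show x ∈ (V : Set X) from hxV) V.isOpen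
  exact ⟨W, hW, hxW, hWV⟩

theorem s5091 (X : Scheme.{u}) [IsLocallyNoetherian X] (U : X.Opens) :
    CInt.IsSchematicallyDense U ↔
      ∀ x : ↥X, x ∉ U → (1 : ℕ∞) ≤ LocCoh.depth ↑(X.presheaf.stalk x) ↑(X.presheaf.stalk x) := by
  constructor
  · intro hU x hxU
    rw [SOne1.one_le_depth_iff]
    intro hass
    obtain ⟨W, hW, hxW, -⟩ := exists_affine_nhd x ⊤ trivial
    haveI : IsNoetherianRing Γ(X, W) := IsLocallyNoetherian.component_noetherian ⟨W, hW⟩
    rw [isAssociatedPrime_stalk_iff hW x hxW, isAssociatedPrime_iff] at hass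
    obtain ⟨hp, b, hb⟩ := hass
    have hb0 : b ≠ 0 := by
      rintro rfl
      apply hp.ne_top
      rw [hb]
      ext r
      simp [Submodule.mem_colon_singleton]
    apply hb0
    apply hU W
    rw [map_zero]
    apply eq_zero_of_germ
    intro y hy
    have hyW : y ∈ W := hy.1
    have hyU : y ∈ U := hy.2
    have hnle : ¬ hW.primeIdealOf ⟨x, hxW⟩ ≤ hW.primeIdealOf ⟨y, hyW⟩ := fun hle =>
      hxU ((AssMax.specializes_of_primeIdealOf_le hW hxW hyW hle).mem_open U.isOpen hyU)
    obtain ⟨t, ht, hty⟩ : ∃ t, t ∈ (hW.primeIdealOf ⟨x, hxW⟩).asIdeal ∧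
        t ∉ (hW.primeIdealOf ⟨y, hyW⟩).asIdeal := by
      by_contra hcon
      push Not at hcon
      exact hnle ((PrimeSpectrum.asIdeal_le_asIdeal _ _).mp fun t ht => hcon t ht)
    have htb : t * b = 0 := by
      have : t ∈ (⊥ : Submodule Γ(X, W) Γ(X, W)).colon {b} := hb ▸ ht
      simpa [Submodule.mem_colon_singleton] using this
    have hu : IsUnit (X.presheaf.germ W y hyW t) := by
      rw [← X.mem_basicOpen t y hyW, StalkDict.mem_basicOpen_iff_notMem_primeIdealOf hW y hyW]
      exact hty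
    rw [TopCat.Presheaf.germ_res_apply]
    have h0 : X.presheaf.germ W y hyW t * X.presheaf.germ W y hyW b = 0 := by
      rw [← map_mul, htb, map_zero]
    exact (hu.mul_right_eq_zero).mp h0
  · intro H V
    rw [injective_iff_map_eq_zero]
    intro a ha
    apply eq_zero_of_germ
    intro y hy
    by_contra hne
    obtain ⟨W, hW, hyW, hWV⟩ := exists_affine_nhd y V hy
    haveI : IsNoetherianRing Γ(X, W) := IsLocallyNoetherian.component_noetherian ⟨W, hW⟩
    set b : Γ(X, W) := X.presheaf.map (homOfLE hWV).op a with hbdef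
    have hbne : b ≠ 0 := by
      intro hb
      apply hne
      have := TopCat.Presheaf.germ_res_apply X.presheaf (homOfLE hWV) y hyW a
      rw [← this]
      show X.presheaf.germ W y hyW b = 0
      rw [hb, map_zero]
    -- an associated prime of the form `Ann (r * b)`
    let N : Submodule Γ(X, W) Γ(X, W) := Submodule.span _ {b}
    have hbN : b ∈ N := Submodule.mem_span_singleton_self b
    obtain ⟨P, hP, -⟩ := exists_le_isAssociatedPrime_of_isNoetherianRing Γ(X, W)
      (⟨b, hbN⟩ : N) (fun h => hbne (congrArg Subtype.val h))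
    have hPA : IsAssociatedPrime P Γ(X, W) := hP.map_of_injective (f := N.subtype) N.injective_subtype
    rw [isAssociatedPrime_iff] at hP
    obtain ⟨hPp, ⟨c, hcN⟩, hc⟩ := hP
    obtain ⟨r, rfl⟩ := Submodule.mem_span_singleton.mp hcN
    obtain ⟨x, hxW, hxP⟩ := FinLocFree5.exists_point_of_prime hW ⟨P, hPp⟩
    have hPA' : IsAssociatedPrime (hW.primeIdealOf ⟨x, hxW⟩).asIdeal Γ(X, W) := by
      rw [hxP]; exact hPA
    have hxU : x ∈ U := by
      by_contra hxU
      have := H x hxU
      rw [SOne1.one_le_depth_iff] at this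
      exact this ((isAssociatedPrime_stalk_iff hW x hxW).mpr hPA')
    -- germ of b at x vanishes
    have hgb : X.presheaf.germ W x hxW b = 0 := by
      have h1 := TopCat.Presheaf.germ_res_apply X.presheaf (homOfLE hWV) x hxW a
      have h2 := TopCat.Presheaf.germ_res_apply X.presheaf
        (homOfLE (inf_le_left : V ⊓ U ≤ V)) x ⟨hWV hxW, hxU⟩ a
      show X.presheaf.germ W x hxW (X.presheaf.map (homOfLE hWV).op a) = 0
      rw [h1, ← h2, ha, map_zero]
    letI := X.presheaf.algebra_section_stalk ⟨x, hxW⟩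
    haveI := hW.isLocalization_stalk ⟨x, hxW⟩
    have hgb' : algebraMap Γ(X, W) (X.presheaf.stalk x) b = 0 := hgb
    obtain ⟨⟨s, hs⟩, hsb⟩ := (IsLocalization.map_eq_zero_iff
      (hW.primeIdealOf ⟨x, hxW⟩).asIdeal.primeCompl (X.presheaf.stalk x) b).mp hgb'
    apply hs
    rw [hxP]
    show s ∈ P
    rw [hc, Submodule.mem_colon_singleton, Submodule.mem_bot]
    ext
    show s • (r • b) = 0
    rw [smul_comm, smul_eq_mul s b]
    have : s * b = 0 := hsb
    rw [this, smul_zero]

end Groth.Agent.Helper5.SchD
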