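import Mathlib
import Groth.Agent.Helper5.SchD1
import Groth.Agent.Helper5.AssFlat
import Groth.Agent.Lead.RegDimOne

set_option autoImplicit false
universe u
open CategoryTheory CategoryTheory.Limits AlgebraicGeometry TopologicalSpace Opposite

namespace Groth.Agent.Helper5.AssDed
open Groth.Agent.Helper4 Groth.Agent.Lead

theorem isAssPoint_structureModule_iff {X : Scheme.{u}} (x : X) :
    Curv2.IsAssPoint (Coh.structureModule X) x ↔
      IsAssociatedPrime (IsLocalRing.maximalIdeal (X.presheaf.stalk x)) (X.presheaf.stalk x) := by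
  rw [AssDict.isAssPoint_iff_isWeakAssPoint, WeakAss.isWeakAssPoint_iff]
  constructor
  · rintro ⟨m, hm⟩
    refine ⟨inferInstance, m, ?_⟩
    rw [← hm]
    congr 1
    ext a
    simp [Submodule.mem_colon_singleton, LinearMap.toSpanSingleton_apply]
  · rintro ⟨_, m, hm⟩
    refine ⟨m, ?_⟩
    rw [hm]
    congr 1
    ext a
    simp [Submodule.mem_colon_singleton, LinearMap.toSpanSingleton_apply]

/-- in a domain the only associated prime of the ring is zero -/
theorem eq_bot_of_isAssociatedPrime_domain {R : Type*} [CommRing R] [IsDomain R] {P : Ideal R}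
    (h : IsAssociatedPrime P R) : P = ⊥ := by
  obtain ⟨hP, a, ha⟩ := h
  have ha0 : a ≠ 0 := by
    rintro rfl
    apply hP.ne_top
    rw [ha, Ideal.radical_eq_top, Ideal.eq_top_iff_one, Submodule.mem_colon_singleton]
    simp
  rw [ha, eq_bot_iff]
  intro r hr
  obtain ⟨k, hk⟩ := hr
  rw [Submodule.mem_colon_singleton, Submodule.mem_bot, smul_eq_mul] at hk
  rcases mul_eq_zero.mp hk with h | h
  · exact (Submodule.mem_bot R).mpr (pow_eq_zero_iff (by rintro rfl; simp at h) |>.mp h)
  · exact absurd h ha0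


theorem eq_genericPoint_of_maximalIdeal_eq_bot {Y : Scheme.{u}} [IsIntegral Y] (y : Y)
    (h : IsLocalRing.maximalIdeal (Y.presheaf.stalk y) = ⊥) : y = genericPoint Y := by
  obtain ⟨V, hV, hyV, -⟩ := SchD.exists_affine_nhd y ⊤ trivial
  have hηV : genericPoint Y ∈ V :=
    ((genericPoint_spec Y).mem_open_set_iff V.isOpen).mpr ⟨y, trivial, hyV⟩
  refine (Specializes.antisymm ?_ (genericPoint_specializes y)).eq
  apply AssMax.specializes_of_primeIdealOf_le hV hyV hηV
  letI := Y.presheaf.algebra_section_stalk ⟨y, hyV⟩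
  haveI := hV.isLocalization_stalk ⟨y, hyV⟩
  have hc : (IsLocalRing.maximalIdeal (Y.presheaf.stalk y)).comap
      (algebraMap Γ(Y, V) (Y.presheaf.stalk y)) = (hV.primeIdealOf ⟨y, hyV⟩).asIdeal :=
    IsLocalization.AtPrime.comap_maximalIdeal _ _
  rw [← PrimeSpectrum.asIdeal_le_asIdeal, ← hc, h]
  intro b hb
  rw [Ideal.mem_comap, Ideal.mem_bot] at hb
  have hb' : Y.presheaf.germ V y hyV b = 0 := hb
  have : b = 0 := germ_injective_of_isIntegral Y y hyV (by rw [hb', map_zero])
  rw [this]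
  exact zero_mem _

theorem s10935 {X Y : Scheme.{u}} (f : X ⟶ Y)
    [IsIntegral Y] (hreg : ∀ y : Y, IsRegularLocalRing (Y.presheaf.stalk y))
    (hY : topologicalKrullDim ↥Y = 1) [IsNoetherian X] :
    Flat f ↔ ∀ x : X, Curv2.IsAssPoint (Coh.structureModule X) x → f.base x = genericPoint ↥Y := by
  rw [Flat.iff_flat_stalkMap]
  constructor
  · intro H x hx
    rw [isAssPoint_structureModule_iff] at hx
    haveI := hreg (f x)
    apply eq_genericPoint_of_maximalIdeal_eq_bot
    apply eq_bot_of_isAssociatedPrime_domain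
    refine AssFlat.maximalIdeal_mem_associatedPrimes_of_flat (f.stalkMap x).hom
      (X.presheaf.stalk x) ?_ hx
    exact H x
  · intro H x
    haveI := hreg (f x)
    have hdim : ringKrullDim (Y.presheaf.stalk (f x)) ≤ 1 :=
      hY ▸ RegDimOne.ringKrullDim_stalk_le_dim Y (f x)
    haveI : IsPrincipalIdealRing (Y.presheaf.stalk (f x)) :=
      RegDimOne.isPrincipalIdealRing_of_regular_dim_le_one _ hdim
    unfold RingHom.Flat
    letI : Algebra (Y.presheaf.stalk (f x)) (X.presheaf.stalk x) := (f.stalkMap x).hom.toAlgebra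
    rw [Module.Flat.flat_iff_torsion_eq_bot_of_isBezout, eq_bot_iff]
    rintro a ⟨⟨r, hr⟩, hra⟩
    rw [Submodule.mem_bot]
    by_contra ha
    have hra' : (f.stalkMap x).hom r * a = 0 := hra
    have hr0 : r ≠ 0 := nonZeroDivisors.ne_zero hr
    -- an associated prime of the stalk containing the annihilator of `a`
    obtain ⟨𝔭, h𝔭, hle⟩ := exists_le_isAssociatedPrime_of_isNoetherianRing (X.presheaf.stalk x) a ha
    have hr𝔭 : (f.stalkMap x).hom r ∈ 𝔭 := hle (by
      rw [Submodule.mem_colon_singleton, Submodule.mem_bot]; exact hra')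
    -- affine charts
    obtain ⟨V, hV, hyV, -⟩ := SchD.exists_affine_nhd (f x) ⊤ trivial
    obtain ⟨W, hW, hxW, hWV⟩ := SchD.exists_affine_nhd x (f ⁻¹ᵁ V) hyV
    haveI : IsNoetherianRing Γ(X, W) := IsLocallyNoetherian.component_noetherian ⟨W, hW⟩
    letI := X.presheaf.algebra_section_stalk ⟨x, hxW⟩
    haveI := hW.isLocalization_stalk ⟨x, hxW⟩
    letI := Y.presheaf.algebra_section_stalk ⟨f x, hyV⟩
    haveI := hV.isLocalization_stalk ⟨f x, hyV⟩
    have hP : IsAssociatedPrime (𝔭.comap (algebraMap Γ(X, W) (X.presheaf.stalk x))) Γ(X, W) := by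
      have := Module.associatedPrimes.preimage_comap_associatedPrimes_eq_associatedPrimes_of_isLocalizedModule
        (hW.primeIdealOf ⟨x, hxW⟩).asIdeal.primeCompl (X.presheaf.stalk x)
        (Algebra.linearMap Γ(X, W) (X.presheaf.stalk x))
      have h2 : 𝔭 ∈ (Ideal.comap (algebraMap Γ(X, W) (X.presheaf.stalk x))) ⁻¹'
          (associatedPrimes Γ(X, W) Γ(X, W)) := by rw [this]; exact h𝔭
      exact h2
    obtain ⟨x', hx'W, hx'P⟩ := FinLocFree5.exists_point_of_prime hW ⟨_, hP.isPrime⟩
    have hx'ass : Curv2.IsAssPoint (Coh.structureModule X) x' := by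
      rw [isAssPoint_structureModule_iff, SchD.isAssociatedPrime_stalk_iff hW x' hx'W, hx'P]
      exact hP
    have hx'η : f x' = genericPoint Y := H x' hx'ass
    -- write `r = b / s`
    obtain ⟨⟨b, s⟩, hbs⟩ := IsLocalization.surj (hV.primeIdealOf ⟨f x, hyV⟩).asIdeal.primeCompl r
    have hbs' : r * Y.presheaf.germ V (f x) hyV s.1 = Y.presheaf.germ V (f x) hyV b := hbs
    have hb0 : b ≠ 0 := by
      rintro rfl
      rw [map_zero] at hbs'
      have hs : IsUnit (Y.presheaf.germ V (f x) hyV s.1) :=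
        IsLocalization.map_units (Y.presheaf.stalk (f x)) s
      exact hr0 ((hs.mul_left_eq_zero).mp hbs')
    -- `f^♯ b ∈ P`
    have hmem : (f.appLE V W hWV).hom b ∈ (hW.primeIdealOf ⟨x', hx'W⟩).asIdeal := by
      rw [hx'P]
      show algebraMap Γ(X, W) (X.presheaf.stalk x) ((f.appLE V W hWV).hom b) ∈ 𝔭
      have h3 : algebraMap Γ(X, W) (X.presheaf.stalk x) ((f.appLE V W hWV).hom b) =
          (f.stalkMap x).hom (Y.presheaf.germ V (f x) hyV b) := by
        show X.presheaf.germ W x hxW ((f.appLE V W hWV).hom b) = _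
        rw [Scheme.Hom.germ_stalkMap_apply, Scheme.Hom.appLE, CommRingCat.comp_apply,
          TopCat.Presheaf.germ_res_apply]
      rw [h3, ← hbs', map_mul]
      exact 𝔭.mul_mem_right _ hr𝔭
    -- hence `η ∉ D(b)`
    have hηV : genericPoint Y ∈ V :=
      ((genericPoint_spec Y).mem_open_set_iff V.isOpen).mpr ⟨f x, trivial, hyV⟩
    have hηb : genericPoint Y ∈ Y.basicOpen b := by
      show genericPoint Y ∈ ((Y.basicOpen b : Y.Opens) : Set Y)
      rw [(genericPoint_spec Y).mem_open_set_iff (Y.basicOpen b).isOpen]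
      have hne : Y.basicOpen b ≠ ⊥ := fun h => hb0 ((AlgebraicGeometry.basicOpen_eq_bot_iff b).mp h)
      obtain ⟨z, hz⟩ := (Opens.ne_bot_iff_nonempty _).mp hne
      exact ⟨z, trivial, hz⟩
    have h4 : x' ∈ X.basicOpen ((f.appLE V W hWV).hom b) := by
      have h5 : f x' ∈ Y.basicOpen b := hx'η ▸ hηb
      have h6 : x' ∈ f ⁻¹ᵁ (Y.basicOpen b) := h5
      rw [Scheme.preimage_basicOpen] at h6
      have h7 : X.basicOpen ((f.appLE V W hWV).hom b) = W ⊓ X.basicOpen ((f.app V).hom b) := by
        rw [Scheme.Hom.appLE, CommRingCat.comp_apply]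
        exact Scheme.basicOpen_res _ _ _
      rw [h7]
      exact ⟨hx'W, h6⟩
    rw [StalkDict.mem_basicOpen_iff_notMem_primeIdealOf hW x' hx'W] at h4
    exact h4 hmem

end Groth.Agent.Helper5.AssDed
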