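import Mathlib
import Groth.Agent.Helper5.CurveVal
import Groth.Agent.Helper5.CIntDim1
import Groth.Agent.S4440

set_option autoImplicit false
set_option linter.style.haveILetI false
universe u

namespace Groth.Agent.Helper5.CurveExt

open CategoryTheory CategoryTheory.Limits AlgebraicGeometry IsLocalRing

/-- the dimension of the local ring does not increase under generization -/
theorem ringKrullDim_stalk_le_of_specializes {X : Scheme.{u}} {x x' : X} (h : x ⤳ x') :
    ringKrullDim (X.presheaf.stalk x) ≤ ringKrullDim (X.presheaf.stalk x') := by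
  have hx : x ∈ Set.range (X.fromSpecStalk x') := by
    rw [Scheme.range_fromSpecStalk]; exact h
  obtain ⟨p, rfl⟩ := hx
  rw [Groth.Agent.Helper5.CIntDim.ringKrullDim_stalk_fromSpecStalk]
  exact Ideal.height_le_ringKrullDim_of_isPrime

/-- a normal Noetherian local domain of dimension at most one is regular -/
theorem isRegularLocalRing_of_dim_le_one (R : Type*) [CommRing R] [IsDomain R] [IsLocalRing R]
    [IsNoetherianRing R] [IsIntegrallyClosed R] (h : ringKrullDim R ≤ 1) :
    IsRegularLocalRing R := by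
  by_cases hf : IsField R
  · haveI : IsPrincipalIdealRing R := by
      letI := hf.toField
      exact inferInstance
    infer_instance
  · have h0 : ¬ ringKrullDim R ≤ 0 := fun h0 => by
      have : Ring.KrullDimLE 0 R := Ring.krullDimLE_iff.mpr h0
      exact hf Ring.KrullDimLE.isField_of_isDomain
    have h1 : ringKrullDim R = 1 := le_antisymm h (Order.succ_le_of_lt (lt_of_not_ge h0))
    haveI := Groth.Agent.Helper5.CurveVal.isDVR_of_dim_one R h1
    infer_instance

/-- S2344 -/
theorem s2344 (k : Type u) [Field k] (X Y : Scheme.{u}) [X.Over (Spec (CommRingCat.of k))]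
    [Y.Over (Spec (CommRingCat.of k))]
    [LocallyOfFiniteType (X ↘ (Spec (CommRingCat.of k)))]
    (hcurve : (∀ x : X, IsClosed ({x} : Set X) → ringKrullDim (X.presheaf.stalk x) = 1))
    (hnorm : ∀ x : X, IsDomain (X.presheaf.stalk x) ∧ IsIntegrallyClosed (X.presheaf.stalk x))
    [IsProper (Y ↘ (Spec (CommRingCat.of k)))] (U : X.Opens) (hU : Dense (U : Set X))
    (g : (U : Scheme.{u}) ⟶ Y)
    (hg : g ≫ (Y ↘ (Spec (CommRingCat.of k))) = U.ι ≫ (X ↘ (Spec (CommRingCat.of k)))) :
    ∃! g' : X ⟶ Y, U.ι ≫ g' = g ∧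
      g' ≫ (Y ↘ (Spec (CommRingCat.of k))) = X ↘ (Spec (CommRingCat.of k)) := by
  haveI : IsLocallyNoetherian X :=
    LocallyOfFiniteType.isLocallyNoetherian (X ↘ (Spec (CommRingCat.of k)))
  haveI : JacobsonSpace X := LocallyOfFiniteType.jacobsonSpace (X ↘ (Spec (CommRingCat.of k)))
  haveI : IsReduced X := by
    haveI : ∀ x : X, _root_.IsReduced (X.presheaf.stalk x) := fun x => by
      haveI := (hnorm x).1
      infer_instance
    exact isReduced_of_isReduced_stalk X
  have hdim : ∀ x : X, ringKrullDim (X.presheaf.stalk x) ≤ 1 := by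
    intro x
    obtain ⟨x', hx'Z, hx'cl⟩ := nonempty_inter_closedPoints
      (Z := closure ({x} : Set X)) ⟨x, subset_closure rfl⟩ isClosed_closure.isLocallyClosed
    have hsp : x ⤳ x' := specializes_iff_mem_closure.2 hx'Z
    calc ringKrullDim (X.presheaf.stalk x) ≤ ringKrullDim (X.presheaf.stalk x') :=
          ringKrullDim_stalk_le_of_specializes hsp
      _ = 1 := hcurve x' hx'cl
  have hreg : ∀ x : X, ringKrullDim (X.presheaf.stalk x) ≤ 1 →
      IsRegularLocalRing (X.presheaf.stalk x) := by
    intro x hx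
    haveI := (hnorm x).1
    haveI := (hnorm x).2
    exact isRegularLocalRing_of_dim_le_one _ hx
  obtain ⟨U', hUU', g', hg'1, hg'2, hall⟩ := Groth.Agent.S4440.result
    (Y ↘ (Spec (CommRingCat.of k))) (X ↘ (Spec (CommRingCat.of k))) hreg U hU g hg
  have hU'top : U' = ⊤ := by
    ext x
    simp only [TopologicalSpace.Opens.coe_top, Set.mem_univ, iff_true]
    exact hall x (hdim x)
  subst hU'top
  haveI : IsDominant U.ι := by
    constructor
    rw [DenseRange, Scheme.Opens.range_ι]
    exact hU
  refine ⟨(X.topIso).inv ≫ g', ⟨?_, ?_⟩, ?_⟩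
  · rw [← hg'2, ← Category.assoc]
    congr 1
    rw [Iso.comp_inv_eq]
    simp
  · rw [Category.assoc, hg'1, ← Category.assoc]
    simp
  · rintro g'' ⟨h1, h2⟩
    apply ext_of_isDominant_of_isSeparated (Y ↘ (Spec (CommRingCat.of k))) ?_ U.ι ?_
    · rw [h2, Category.assoc, hg'1, ← Category.assoc]
      simp
    · rw [h1, ← hg'2, ← Category.assoc]
      congr 1
      rw [Iso.eq_comp_inv]
      simp

end Groth.Agent.Helper5.CurveExt
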