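import Mathlib
import Groth.Agent.Helper5.CurveExt

set_option autoImplicit false
set_option linter.style.haveILetI false
universe u

namespace Groth.Agent.Helper5.CurveHom

open CategoryTheory CategoryTheory.Limits AlgebraicGeometry IsLocalRing

/-- the structure morphism restricted to a local ring, as a ring map from the base field -/
theorem fromSpecStalk_over (k : Type u) [Field k] (Z : Scheme.{u}) [Z.Over (Spec (CommRingCat.of k))]
    (z : Z) :
    Z.fromSpecStalk z ≫ (Z ↘ (Spec (CommRingCat.of k))) =
      Spec.map (CommRingCat.ofHom (Curv2.stalkMap k Z z)) := by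
  have h1 : (Z ↘ (Spec (CommRingCat.of k))) = Z.toSpecΓ ≫
      Spec.map (Z ↘ (Spec (CommRingCat.of k))).appTop ≫
      Spec.map (Scheme.ΓSpecIso (CommRingCat.of k)).inv := by
    rw [← Scheme.toSpecΓ_naturality_assoc, toSpecΓ_SpecMap_ΓSpecIso_inv, Category.comp_id]
  rw [h1, Scheme.fromSpecStalk_toSpecΓ_assoc, ← Spec.map_comp, ← Spec.map_comp]
  rfl

/-- S4445 -/
theorem s4445 (k : Type u) [Field k] (X Y : Scheme.{u})
    [X.Over (Spec (CommRingCat.of k))] [LocallyOfFiniteType (X ↘ (Spec (CommRingCat.of k)))]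
    [IsIntegral X]
    (hX : ∀ x : X, IsClosed ({x} : Set X) → ringKrullDim (X.presheaf.stalk x) = 1)
    (hnorm : ∀ x : X, IsDomain (X.presheaf.stalk x) ∧ IsIntegrallyClosed (X.presheaf.stalk x))
    [Y.Over (Spec (CommRingCat.of k))] [IsProper (Y ↘ (Spec (CommRingCat.of k)))] [IsIntegral Y]
    (φ : Y.functionField →+* X.functionField)
    (hφ : φ.comp (Curv2.stalkMap k Y (genericPoint Y)) = Curv2.stalkMap k X (genericPoint X)) :
    ∃! u : X ⟶ Y, u ≫ (Y ↘ (Spec (CommRingCat.of k))) = X ↘ (Spec (CommRingCat.of k)) ∧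
      ∃ hu : u.base (genericPoint X) = genericPoint Y,
        (Y.presheaf.stalkSpecializes (specializes_of_eq hu) ≫
          u.stalkMap (genericPoint X)).hom = φ := by
  let sX := X ↘ (Spec (CommRingCat.of k))
  let sY := Y ↘ (Spec (CommRingCat.of k))
  let ψ0 : Spec (X.presheaf.stalk (genericPoint X)) ⟶ Y :=
    Spec.map (CommRingCat.ofHom φ) ≫ Y.fromSpecStalk (genericPoint Y)
  have hψ0 : ψ0 ≫ sY = X.fromSpecStalk (genericPoint X) ≫ sX := by
    show (Spec.map (CommRingCat.ofHom φ) ≫ Y.fromSpecStalk (genericPoint Y)) ≫ sY = _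
    rw [Category.assoc, fromSpecStalk_over, fromSpecStalk_over, ← Spec.map_comp,
      ← CommRingCat.ofHom_comp, hφ]
  obtain ⟨U, hξU, g, hg1, hg2⟩ := spread_out_of_isGermInjective' sX sY ψ0 hψ0
  have hUd : Dense (U : Set X) := by
    have : (U : Set X).Nonempty := ⟨_, hξU⟩
    exact U.isOpen.dense this
  -- the key characterisation of the conditions
  have key : ∀ u : X ⟶ Y, X.fromSpecStalk (genericPoint X) ≫ u = ψ0 ↔
      ∃ hu : u.base (genericPoint X) = genericPoint Y,
        (Y.presheaf.stalkSpecializes (specializes_of_eq hu) ≫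
          u.stalkMap (genericPoint X)).hom = φ := by
    intro u
    constructor
    · intro h
      have hu : u.base (genericPoint X) = genericPoint Y := by
        have h1 := congrArg (fun q : Spec (X.presheaf.stalk (genericPoint X)) ⟶ Y =>
          q (closedPoint (X.presheaf.stalk (genericPoint X)))) h
        simp only [Scheme.Hom.comp_apply, Scheme.fromSpecStalk_closedPoint] at h1
        rw [h1]
        show (Spec.map (CommRingCat.ofHom φ) ≫ Y.fromSpecStalk (genericPoint Y)) _ = _
        rw [Scheme.Hom.comp_apply]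
        have : Spec.map (CommRingCat.ofHom φ) (closedPoint (X.presheaf.stalk (genericPoint X))) =
            closedPoint (Y.presheaf.stalk (genericPoint Y)) := by
          haveI : IsLocalHom φ := inferInstance
          exact comap_closedPoint (S := X.functionField) φ
        rw [this, Scheme.fromSpecStalk_closedPoint]
      refine ⟨hu, ?_⟩
      have h2 : Spec.map (Y.presheaf.stalkSpecializes (specializes_of_eq hu) ≫
          u.stalkMap (genericPoint X)) ≫ Y.fromSpecStalk (genericPoint Y) =
          Spec.map (CommRingCat.ofHom φ) ≫ Y.fromSpecStalk (genericPoint Y) := by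
        rw [Spec.map_comp, Category.assoc,
          Scheme.SpecMap_stalkSpecializes_fromSpecStalk (specializes_of_eq hu),
          Scheme.SpecMap_stalkMap_fromSpecStalk, h]
        rfl
      rw [cancel_mono, Spec.map_inj] at h2
      exact congrArg CommRingCat.Hom.hom h2
    · rintro ⟨hu, h⟩
      have h2 : CommRingCat.ofHom φ = Y.presheaf.stalkSpecializes (specializes_of_eq hu) ≫
          u.stalkMap (genericPoint X) := by
        rw [← h]
        rfl
      show _ = Spec.map (CommRingCat.ofHom φ) ≫ Y.fromSpecStalk (genericPoint Y)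
      rw [h2, Spec.map_comp, Category.assoc,
        Scheme.SpecMap_stalkSpecializes_fromSpecStalk (specializes_of_eq hu),
        Scheme.SpecMap_stalkMap_fromSpecStalk]
  obtain ⟨u, ⟨hu1, hu2⟩, -⟩ := Groth.Agent.Helper5.CurveExt.s2344 k X Y hX hnorm U hUd g hg2
  have hu3 : X.fromSpecStalk (genericPoint X) ≫ u = ψ0 := by
    rw [← U.fromSpecStalkOfMem_ι (genericPoint X) hξU, Category.assoc, hu1, ← hg1]
  refine ⟨u, ⟨hu2, (key u).1 hu3⟩, ?_⟩
  rintro u' ⟨h1, h2⟩
  have hu3' : X.fromSpecStalk (genericPoint X) ≫ u' = ψ0 := (key u').2 h2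
  obtain ⟨V, hξV, hV⟩ := spread_out_unique_of_isGermInjective' u' u (hu3'.trans hu3.symm)
  haveI : IsDominant V.ι := by
    constructor
    rw [DenseRange, Scheme.Opens.range_ι]
    exact V.isOpen.dense ⟨_, hξV⟩
  exact ext_of_isDominant_of_isSeparated sY (h1.trans hu2.symm) V.ι hV

end Groth.Agent.Helper5.CurveHom
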