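import Mathlib
import Groth.Agent.Helper5.FFSep2
set_option autoImplicit false
set_option linter.style.haveILetI false
open FunFld Polynomial TensorProduct
open scoped IntermediateField

namespace Groth.Agent.Helper5.FF

universe u v

theorem finrank_kaehler_ratFunc (k : Type*) [Field k] :
    Module.finrank (RatFunc k) (Ω[RatFunc k⁄k]) = 1 := by
  haveI : Algebra.FormallyEtale k[X] (RatFunc k) :=
    Algebra.FormallyEtale.of_isLocalization (nonZeroDivisors k[X])
  let e2 : RatFunc k ⊗[k[X]] Ω[k[X]⁄k] ≃ₗ[RatFunc k] Ω[RatFunc k⁄k] :=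
    KaehlerDifferential.tensorKaehlerEquivOfFormallyEtale k k[X] (RatFunc k)
  let e3 : Ω[k[X]⁄k] ≃ₗ[k[X]] k[X] := KaehlerDifferential.polynomialEquiv k
  haveI : Module.Free k[X] (Ω[k[X]⁄k]) := Module.Free.of_equiv e3.symm
  rw [← e2.finrank_eq, Module.finrank_baseChange, e3.finrank_eq, Module.finrank_self]

end Groth.Agent.Helper5.FF

namespace Groth.Agent.Helper5.FF

universe u v

theorem D_X_ne_zero (k : Type*) [Field k] :
    KaehlerDifferential.D k (RatFunc k) RatFunc.X ≠ 0 := by
  haveI : Algebra.FormallyEtale k[X] (RatFunc k) :=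
    Algebra.FormallyEtale.of_isLocalization (nonZeroDivisors k[X])
  let e3 : Ω[k[X]⁄k] ≃ₗ[k[X]] k[X] := KaehlerDifferential.polynomialEquiv k
  haveI : Module.Free k[X] (Ω[k[X]⁄k]) := Module.Free.of_equiv e3.symm
  intro h0
  have h1 := KaehlerDifferential.tensorKaehlerEquivOfFormallyEtale_symm_D_algebraMap k k[X] (RatFunc k)
    (Polynomial.X)
  rw [RatFunc.algebraMap_X, h0, map_zero] at h1
  have h2 : KaehlerDifferential.D k k[X] Polynomial.X = 0 := by
    have hinj := Module.Flat.tensorProduct_mk_injective (R := k[X]) (S := RatFunc k) (M := Ω[k[X]⁄k])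
    apply hinj
    rw [map_zero]
    exact h1.symm
  have h3 := KaehlerDifferential.polynomialEquiv_D k (Polynomial.X)
  rw [h2, map_zero, Polynomial.derivative_X] at h3
  exact zero_ne_one h3

/-- data: `K` as a finite separable extension of `RatFunc k` via a separating variable -/
theorem finrank_kaehler_of_separating {k K : Type*} [Field k] [Field K] [Algebra k K]
    {x : K} (hx : Transcendental k x) (hsep : Algebra.IsSeparable k⟮x⟯ K) :
    Module.finrank K (Ω[K⁄k]) = 1 ∧ KaehlerDifferential.D k K x ≠ 0 := by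
  let e : RatFunc k ≃ₐ[k] k⟮x⟯ := RatFunc.algEquivOfTranscendental x hx
  letI : Algebra (RatFunc k) K := ((algebraMap k⟮x⟯ K).comp (e : RatFunc k →+* k⟮x⟯)).toAlgebra
  haveI : IsScalarTower k (RatFunc k) K := IsScalarTower.of_algebraMap_eq (fun c => by
    show algebraMap k K c = algebraMap k⟮x⟯ K (e (algebraMap k (RatFunc k) c))
    rw [e.commutes]; rfl)
  haveI : Algebra.IsSeparable (RatFunc k) K :=
    Algebra.IsSeparable.of_equiv_equiv e.symm.toRingEquiv (RingEquiv.refl K) (by
      ext z
      obtain ⟨w, rfl⟩ := e.surjective z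
      simp only [RingHom.comp_apply, RingEquiv.coe_toRingHom, AlgEquiv.coe_ringEquiv,
        AlgEquiv.symm_apply_apply, RingEquiv.refl_apply]
      rfl)
  haveI : Algebra.FormallyEtale (RatFunc k) K := Algebra.FormallyEtale.of_isSeparable (RatFunc k) K
  let e1 : K ⊗[RatFunc k] Ω[RatFunc k⁄k] ≃ₗ[K] Ω[K⁄k] :=
    KaehlerDifferential.tensorKaehlerEquivOfFormallyEtale k (RatFunc k) K
  have hrank : Module.finrank K (Ω[K⁄k]) = 1 := by
    rw [← e1.finrank_eq, Module.finrank_baseChange, finrank_kaehler_ratFunc]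
  refine ⟨hrank, ?_⟩
  -- `D x ≠ 0`
  intro h0
  have h1 := KaehlerDifferential.tensorKaehlerEquivOfFormallyEtale_symm_D_algebraMap k (RatFunc k) K
    (RatFunc.X)
  have hx' : algebraMap (RatFunc k) K RatFunc.X = x := by
    show algebraMap k⟮x⟯ K (e RatFunc.X) = x
    exact RatFunc.algEquivOfTranscendental_X x hx
  rw [hx', h0, map_zero] at h1
  have h2 : KaehlerDifferential.D k (RatFunc k) RatFunc.X = 0 := by
    have hinj := Module.Flat.tensorProduct_mk_injective (R := RatFunc k) (S := K) (M := Ω[RatFunc k⁄k])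
    apply hinj
    rw [map_zero]
    exact h1.symm
  exact D_X_ne_zero k h2

end Groth.Agent.Helper5.FF

namespace Groth.Agent.Helper5.FF

universe u v

theorem finrank_kaehler_eq_one {k : Type u} {K : Type v} [Field k] [Field K] [Algebra k K]
    (hK : IsFunctionField k K) (hg : IsGeometric k K) :
    Module.finrank K (Ω[K⁄k]) = 1 := by
  obtain ⟨x, hx, hsep⟩ := exists_separating hK hg
  exact (finrank_kaehler_of_separating hx hsep).1

end Groth.Agent.Helper5.FF
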