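import Mathlib
import Groth.Agent.Helper5.FFKaehler
set_option autoImplicit false
set_option linter.style.haveILetI false
open FunFld Polynomial TensorProduct
open scoped IntermediateField

namespace Groth.Agent.Helper5.FF

universe u v

section
variable (k : Type*) (K : Type*) [Field k] [Field K] [Algebra k K]

/-- the field of constants of the universal derivation -/
def constField : IntermediateField k K where
  carrier := {z | KaehlerDifferential.D k K z = 0}
  mul_mem' := fun {a b} ha hb => by
    simp only [Set.mem_ofPred_eq] at *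
    rw [Derivation.leibniz, ha, hb, smul_zero, smul_zero, add_zero]
  one_mem' := Derivation.map_one_eq_zero _
  add_mem' := fun {a b} ha hb => by
    simp only [Set.mem_ofPred_eq] at *
    rw [map_add, ha, hb, add_zero]
  zero_mem' := map_zero _
  algebraMap_mem' := fun c => Derivation.map_algebraMap _ c
  inv_mem' := fun a ha => by
    simp only [Set.mem_ofPred_eq] at *
    rw [Derivation.leibniz_inv, ha, smul_zero]

theorem mem_constField {z : K} : z ∈ constField k K ↔ KaehlerDifferential.D k K z = 0 := Iff.rfl

/-- the field `k K^p` -/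
abbrev kKp (p : ℕ) : IntermediateField k K :=
  IntermediateField.adjoin k (Set.range fun y : K => y ^ p)

theorem kKp_le_constField (p : ℕ) [CharP K p] : kKp k K p ≤ constField k K := by
  rw [IntermediateField.adjoin_le_iff]
  rintro _ ⟨y, rfl⟩
  show KaehlerDifferential.D k K (y ^ p) = 0
  rw [Derivation.leibniz_pow, ← Nat.cast_smul_eq_nsmul K, CharP.cast_eq_zero, zero_smul]

end

end Groth.Agent.Helper5.FF

namespace Groth.Agent.Helper5.FF

section
variable {k : Type*} {K : Type*} [Field k] [Field K] [Algebra k K]

theorem kKp_adjoin_eq_top (p : ℕ) [hp : Fact p.Prime] [CharP K p] {x : K}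
    (hsep : Algebra.IsSeparable k⟮x⟯ K) :
    IntermediateField.adjoin k (Set.range (fun y : K => y ^ p) ∪ {x}) = ⊤ := by
  set M' := IntermediateField.adjoin k (Set.range (fun y : K => y ^ p) ∪ {x}) with hM'
  have hle : k⟮x⟯ ≤ M' := IntermediateField.adjoin.mono k _ _ Set.subset_union_right
  rw [eq_top_iff]
  intro y _
  haveI : CharP k⟮x⟯ p := RingHom.charP (algebraMap k⟮x⟯ K) (algebraMap k⟮x⟯ K).injective p
  haveI : ExpChar k⟮x⟯ p := ExpChar.prime hp.out
  have h1 := IntermediateField.adjoin_simple_eq_adjoin_pow_expChar_of_isSeparable' k⟮x⟯ K y p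
  have hy : y ∈ (k⟮x⟯)⟮y ^ p⟯ := h1 ▸ IntermediateField.mem_adjoin_simple_self _ y
  have h2 : (k⟮x⟯)⟮y ^ p⟯ ≤ IntermediateField.extendScalars hle := by
    rw [IntermediateField.adjoin_le_iff]
    rintro _ rfl
    show y ^ p ∈ M'
    exact IntermediateField.subset_adjoin _ _ (Or.inl ⟨y, rfl⟩)
  exact h2 hy

theorem finrank_kKp (p : ℕ) [hp : Fact p.Prime] [CharP K p] {x : K}
    (hsep : Algebra.IsSeparable k⟮x⟯ K) (hx : x ∉ kKp k K p) :
    Module.finrank (kKp k K p) K = p := by
  set L := kKp k K p with hL
  have htop : L⟮x⟯ = ⊤ := by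
    apply IntermediateField.restrictScalars_injective k
    rw [IntermediateField.adjoin_adjoin_left, IntermediateField.restrictScalars_top]
    exact kKp_adjoin_eq_top p hsep
  let a : L := ⟨x ^ p, IntermediateField.subset_adjoin _ _ ⟨x, rfl⟩⟩
  have hirr : Irreducible (X ^ p - C a : L[X]) := by
    rw [X_pow_sub_C_irreducible_iff_of_prime hp.out]
    intro b hb
    have h1 : (b : K) ^ p = x ^ p := congrArg Subtype.val hb
    have h2 : (b : K) = x := frobenius_inj K p h1
    exact hx (h2 ▸ b.2)
  have heval : aeval x (X ^ p - C a : L[X]) = 0 := by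
    simp [a]
  have hmin : (X ^ p - C a : L[X]) = minpoly L x :=
    minpoly.eq_of_irreducible_of_monic hirr heval (monic_X_pow_sub_C a hp.out.ne_zero)
  have hint : IsIntegral L x := ⟨_, monic_X_pow_sub_C a hp.out.ne_zero, heval⟩
  rw [← IntermediateField.finrank_top' (F := L) (E := K), ← htop,
    IntermediateField.adjoin.finrank hint, ← hmin, natDegree_X_pow_sub_C]

end

end Groth.Agent.Helper5.FF

namespace Groth.Agent.Helper5.FF

universe u v

theorem finrank_adjoin_pow_char {k : Type u} {K : Type v} [Field k] [Field K] [Algebra k K]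
    (p : ℕ) [Fact p.Prime] [CharP K p] (hK : IsFunctionField k K) (hg : IsGeometric k K) :
    Module.finrank (IntermediateField.adjoin k (Set.range fun y : K => y ^ p)) K = p := by
  obtain ⟨x, hx, hsep⟩ := exists_separating hK hg
  have hD := (finrank_kaehler_of_separating hx hsep).2
  have hxL : x ∉ kKp k K p := fun h => hD (kKp_le_constField k K p h)
  exact finrank_kKp p hsep hxL

end Groth.Agent.Helper5.FF
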