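import Mathlib
import Groth.Agent.Helper5.FFKp
set_option autoImplicit false
set_option linter.style.haveILetI false
open FunFld Polynomial TensorProduct
open scoped IntermediateField

namespace Groth.Agent.Helper5.FF

universe u v

section
variable {k : Type u} {K : Type v} [Field k] [Field K] [Algebra k K]

theorem constField_eq_kKp (p : ℕ) [hp : Fact p.Prime] [CharP K p]
    (hK : IsFunctionField k K) (hg : IsGeometric k K) : constField k K = kKp k K p := by
  obtain ⟨x₀, hx₀, hsep⟩ := exists_separating hK hg
  have hD := (finrank_kaehler_of_separating hx₀ hsep).2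
  have hfin := finrank_adjoin_pow_char p hK hg
  have hle := kKp_le_constField k K p
  have hfd : FiniteDimensional (kKp k K p) K :=
    Module.finite_of_finrank_pos (by rw [hfin]; exact hp.out.pos)
  have hdvd := IntermediateField.finrank_dvd_of_le_left hle
  rw [hfin] at hdvd
  rcases (Nat.dvd_prime hp.out).mp hdvd with h1 | h1
  · exfalso
    have htop : constField k K = ⊤ := IntermediateField.finrank_eq_one_iff_eq_top.mp h1
    have : x₀ ∈ constField k K := by rw [htop]; trivial
    exact hD this
  · symm
    exact IntermediateField.eq_of_le_of_finrank_eq' hle (by rw [hfin, h1])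

theorem isSeparable_of_D_ne_zero (hK : IsFunctionField k K) (hg : IsGeometric k K) {x : K}
    (hD : KaehlerDifferential.D k K x ≠ 0) : Algebra.IsSeparable k⟮x⟯ K := by
  have hx : Transcendental k x := by
    intro halg
    obtain ⟨c, rfl⟩ := hK.2 x halg
    exact hD (Derivation.map_algebraMap _ c)
  have hfd := finiteDimensional_adjoin hK hx
  have hrank := finrank_kaehler_eq_one hK hg
  rw [finrank_eq_one_iff_of_nonzero' _ hD] at hrank
  have hsub : Subsingleton (Ω[K⁄k⟮x⟯]) := by
    refine ⟨fun a b => ?_⟩
    have hzero : ∀ ω : Ω[K⁄k⟮x⟯], ω = 0 := by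
      intro ω
      obtain ⟨η, rfl⟩ := KaehlerDifferential.map_surjective k k⟮x⟯ K ω
      obtain ⟨c, rfl⟩ := hrank η
      rw [map_smul, KaehlerDifferential.map_D]
      have : (algebraMap K K) x = algebraMap k⟮x⟯ K ⟨x, IntermediateField.mem_adjoin_simple_self k x⟩ := rfl
      rw [this, Derivation.map_algebraMap, smul_zero]
    rw [hzero a, hzero b]
  haveI : Algebra.FormallyUnramified k⟮x⟯ K := ⟨hsub⟩
  exact Algebra.FormallyUnramified.isSeparable k⟮x⟯ K

theorem mem_adjoin_pow_char_iff (p : ℕ) [hp : Fact p.Prime] [CharP K p]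
    (hK : IsFunctionField k K) (hg : IsGeometric k K) (x : K) :
    (x ∈ IntermediateField.adjoin k (Set.range fun y : K => y ^ p) ↔
        KaehlerDifferential.D k K x = 0) ∧
    (x ∈ IntermediateField.adjoin k (Set.range fun y : K => y ^ p) ↔
      ¬ Algebra.IsSeparable (IntermediateField.adjoin k ({x} : Set K)) K) := by
  have h1 : x ∈ IntermediateField.adjoin k (Set.range fun y : K => y ^ p) ↔
      KaehlerDifferential.D k K x = 0 := by
    rw [← mem_constField, constField_eq_kKp p hK hg]
  refine ⟨h1, ?_⟩
  rw [h1]
  constructor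
  · intro hD hsep
    by_cases hx : Transcendental k x
    · exact (finrank_kaehler_of_separating hx hsep).2 hD
    · rw [Transcendental, not_not] at hx
      obtain ⟨x₀, hx₀, -⟩ := hK.1
      haveI : Algebra.IsAlgebraic k k⟮x⟯ := IntermediateField.isAlgebraic_adjoin_simple hx.isIntegral
      haveI : Algebra.IsAlgebraic k K := Algebra.IsAlgebraic.trans k k⟮x⟯ K
      exact hx₀ (Algebra.IsAlgebraic.isAlgebraic x₀)
  · intro hns
    by_contra hD
    exact hns (isSeparable_of_D_ne_zero hK hg hD)

end

end Groth.Agent.Helper5.FF
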