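import Mathlib
import Groth.Agent.Helper5.FFKp2
set_option autoImplicit false
set_option linter.style.haveILetI false
open FunFld Polynomial TensorProduct
open scoped IntermediateField

namespace Groth.Agent.Helper5.FF

universe u v

section
variable {k : Type u} {K : Type v} [Field k] [Field K] [Algebra k K]

theorem pow_mem_of_purelyInseparable_degree_p (p : ℕ) [hp : Fact p.Prime] [CharP K p]
    (K₀ : IntermediateField k K) (hpi : IsPurelyInseparable K₀ K) (hdeg : Module.finrank K₀ K = p)
    (y : K) : y ^ p ∈ K₀ := by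
  haveI : CharP K₀ p := RingHom.charP (algebraMap K₀ K) (algebraMap K₀ K).injective p
  haveI : ExpChar K₀ p := ExpChar.prime hp.out
  have hfd : FiniteDimensional K₀ K :=
    Module.finite_of_finrank_pos (by rw [hdeg]; exact hp.out.pos)
  obtain ⟨n, a, hmin⟩ := IsPurelyInseparable.minpoly_eq_X_pow_sub_C K₀ p y
  have hint : IsIntegral K₀ y := Algebra.IsIntegral.isIntegral y
  have h1 : Module.finrank K₀ K₀⟮y⟯ = p ^ n := by
    rw [IntermediateField.adjoin.finrank hint, hmin, natDegree_X_pow_sub_C]
  have h2 := Module.finrank_mul_finrank K₀ K₀⟮y⟯ K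
  rw [h1, hdeg] at h2
  have h3 : p ^ n ∣ p := ⟨_, h2.symm⟩
  have hn : n ≤ 1 := by
    by_contra hlt
    push Not at hlt
    have : p ^ 2 ∣ p := (pow_dvd_pow p hlt).trans h3
    have h4 := Nat.le_of_dvd hp.out.pos this
    have h5 : 2 ≤ p := hp.out.two_le
    nlinarith
  have h6 : y ^ p ^ n = (a : K) := by
    have := minpoly.aeval K₀ y
    rw [hmin] at this
    simpa [sub_eq_zero] using this
  interval_cases n
  · rw [pow_zero, pow_one] at h6
    rw [h6]; exact pow_mem a.2 p
  · rw [pow_one] at h6
    rw [h6]; exact a.2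

theorem purelyInseparable_degree_char_iff (p : ℕ) [hp : Fact p.Prime] [CharP K p]
    (hK : IsFunctionField k K) (hg : IsGeometric k K) (K₀ : IntermediateField k K) :
    (IsPurelyInseparable K₀ K ∧ Module.finrank K₀ K = p) ↔
      K₀ = IntermediateField.adjoin k (Set.range fun y : K => y ^ p) := by
  have hfin := finrank_adjoin_pow_char p hK hg
  constructor
  · rintro ⟨hpi, hdeg⟩
    have hle : kKp k K p ≤ K₀ := by
      rw [IntermediateField.adjoin_le_iff]
      rintro _ ⟨y, rfl⟩
      exact pow_mem_of_purelyInseparable_degree_p p K₀ hpi hdeg y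
    have hfd : FiniteDimensional (kKp k K p) K :=
      Module.finite_of_finrank_pos (by rw [hfin]; exact hp.out.pos)
    symm
    exact IntermediateField.eq_of_le_of_finrank_eq' hle (by rw [hfin, hdeg])
  · rintro rfl
    refine ⟨?_, hfin⟩
    haveI : CharP (kKp k K p) p :=
      RingHom.charP (algebraMap (kKp k K p) K) (algebraMap (kKp k K p) K).injective p
    haveI : ExpChar (kKp k K p) p := ExpChar.prime hp.out
    rw [isPurelyInseparable_iff_pow_mem (kKp k K p) p]
    intro y
    refine ⟨1, ?_⟩
    rw [pow_one]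
    exact ⟨⟨y ^ p, IntermediateField.subset_adjoin _ _ ⟨y, rfl⟩⟩, rfl⟩

end

end Groth.Agent.Helper5.FF
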