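import Mathlib
import Groth.Agent.Helper5.FFGaps2
set_option autoImplicit false
open FunFld Polynomial
open scoped IntermediateField

namespace Groth.Agent.Helper5.FF

variable {k K : Type*} [Field k] [Field K] [Algebra k K]

/-- members of `V ⊆ L(D)` vanishing to order `≥ a` at `P` and `≥ b` at `Q ≠ P` with
`a + b > deg D` vanish identically, hence a dimension inequality -/
theorem finrank_inf_add_le [IsAlgClosed k] (hK : IsFunctionField k K) (D : Divisor k K)
    (V : Submodule k K) (hV : V ≤ L D) (P Q : Place k K) (hPQ : P ≠ Q) (a b : ℤ)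
    (ha : 0 ≤ a) (hb : 0 ≤ b) (hab : D.deg < a + b) :
    Module.finrank k ↥(V ⊓ L (D - Finsupp.single P a)) +
      Module.finrank k ↥(V ⊓ L (D - Finsupp.single Q b)) ≤ Module.finrank k ↥V := by
  haveI := finiteDimensional_L hK D
  haveI hVfd : FiniteDimensional k ↥V := Submodule.finiteDimensional_of_le hV
  have hinf : (V ⊓ L (D - Finsupp.single P a)) ⊓ (V ⊓ L (D - Finsupp.single Q b)) = ⊥ := by
    rw [eq_bot_iff]
    intro x hx
    have hx1 : x ∈ L (D - Finsupp.single P a) := hx.1.2
    have hx2 : x ∈ L (D - Finsupp.single Q b) := hx.2.2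
    have hmem : x ∈ L (D - Finsupp.single P a - Finsupp.single Q b) := by
      intro R
      by_cases hR : R = P
      · subst hR
        have := hx1 R
        rw [Finsupp.sub_apply, Finsupp.sub_apply, Finsupp.single_eq_of_ne hPQ, sub_zero]
        exact this
      · have := hx2 R
        rw [Finsupp.sub_apply, Finsupp.sub_apply, Finsupp.single_eq_of_ne hR, sub_zero]
        exact this
    have hdeg : (D - Finsupp.single P a - Finsupp.single Q b).deg < 0 := by
      rw [deg_sub, deg_sub, deg_single, deg_single, deg_eq_one_of_isAlgClosed hK P,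
        deg_eq_one_of_isAlgClosed hK Q]
      push_cast
      omega
    rw [L_eq_bot_of_deg_neg hK _ hdeg] at hmem
    exact hmem
  have h1 := Submodule.finrank_sup_add_finrank_inf_eq (V ⊓ L (D - Finsupp.single P a))
    (V ⊓ L (D - Finsupp.single Q b))
  rw [hinf, finrank_bot, add_zero] at h1
  rw [← h1]
  exact Submodule.finrank_mono (sup_le inf_le_left inf_le_left)

/-- the sum of the vanishing orders of `V` at `P` -/
noncomputable def vsum (V : Submodule k K) (D : Divisor k K) (P : Place k K) (d : ℕ) : ℕ :=
  ∑ n ∈ Finset.range d, Module.finrank k ↥(V ⊓ L (D - Finsupp.single P ((n : ℤ) + 1)))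

theorem vsum_add_vsum_le [IsAlgClosed k] (hK : IsFunctionField k K) (d : ℕ) (D : Divisor k K)
    (hD : D.deg = d) (V : Submodule k K) (hV : V ≤ L D) (P Q : Place k K) (hPQ : P ≠ Q) :
    vsum V D P d + vsum V D Q d ≤ Module.finrank k ↥V * d := by
  unfold vsum
  rw [← Finset.sum_range_reflect (fun n => Module.finrank k
    ↥(V ⊓ L (D - Finsupp.single Q ((n : ℤ) + 1)))) d, ← Finset.sum_add_distrib]
  calc _ ≤ ∑ _n ∈ Finset.range d, Module.finrank k ↥V := by
        apply Finset.sum_le_sum
        intro n hn
        rw [Finset.mem_range] at hn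
        apply finrank_inf_add_le hK D V hV P Q hPQ
        · omega
        · omega
        · rw [hD]
          have : ((d - 1 - n : ℕ) : ℤ) = (d : ℤ) - 1 - n := by omega
          rw [this]
          omega
    _ = Module.finrank k ↥V * d := by
        rw [Finset.sum_const, Finset.card_range, smul_eq_mul, mul_comm]

/-- summing a compatibility condition at a node -/
theorem vsum_add_vsum_eq_of_compat {K' : Type*} [Field K'] [Algebra k K']
    (d r : ℕ) (D : Divisor k K) (V : Submodule k K) (P : Place k K)
    (D' : Divisor k K') (V' : Submodule k K') (Q : Place k K')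
    (hcomp : ∀ m : ℕ, m ≤ d + 1 →
      Module.finrank k ↥(V ⊓ L (D - Finsupp.single P (m : ℤ))) +
        Module.finrank k ↥(V' ⊓ L (D' - Finsupp.single Q ((d : ℤ) + 1 - m))) = r + 1) :
    vsum V D P d + vsum V' D' Q d = (r + 1) * d := by
  unfold vsum
  rw [← Finset.sum_range_reflect (fun n => Module.finrank k
    ↥(V' ⊓ L (D' - Finsupp.single Q ((n : ℤ) + 1)))) d, ← Finset.sum_add_distrib]
  calc _ = ∑ _n ∈ Finset.range d, (r + 1) := by
        apply Finset.sum_congr rfl
        intro n hn
        rw [Finset.mem_range] at hn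
        have h1 := hcomp (n + 1) (by omega)
        have e1 : ((n + 1 : ℕ) : ℤ) = (n : ℤ) + 1 := by push_cast; ring
        have e2 : (d : ℤ) + 1 - ((n + 1 : ℕ) : ℤ) = ((d - 1 - n : ℕ) : ℤ) + 1 := by
          have : ((d - 1 - n : ℕ) : ℤ) = (d : ℤ) - 1 - n := by omega
          rw [this]; push_cast; ring
        rw [e2, e1] at h1
        exact h1
    _ = (r + 1) * d := by
        rw [Finset.sum_const, Finset.card_range, smul_eq_mul, mul_comm]

end Groth.Agent.Helper5.FF
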