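import Mathlib
import Groth.Agent.Helper5.FFLLS
import Groth.Agent.Helper5.FFGenusOne
set_option autoImplicit false
open FunFld Polynomial
open scoped IntermediateField

namespace Groth.Agent.Helper5.FF

variable {k K : Type*} [Field k] [Field K] [Algebra k K]

/-- on a curve of positive genus a divisor of degree one has `ℓ ≤ 1` -/
theorem ell_le_one_of_deg_one [IsAlgClosed k] (hK : IsFunctionField k K) (hg : 0 < genus k K)
    (E : Divisor k K) (hE : E.deg = 1) : ell E ≤ 1 := by
  by_contra hgt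
  rw [not_le] at hgt
  obtain ⟨x, hx, -⟩ := hK.1
  have hxn : x ∉ Set.range (algebraMap k K) := by
    rintro ⟨c, rfl⟩
    exact hx (isAlgebraic_algebraMap c)
  obtain ⟨⟨P₁, hP₁⟩, ⟨P₂, hP₂⟩⟩ := exists_zero_and_exists_pole hK x hxn
  have hne : P₁ ≠ P₂ := by rintro rfl; omega
  have key : ∀ P : Place k K, ∃ f : K, f ≠ 0 ∧ FunFld.div k f = Finsupp.single P 1 - E := by
    intro P
    have hP1 : (P.deg : ℤ) = 1 := by exact_mod_cast deg_eq_one_of_isAlgClosed hK P
    have hle : E - Finsupp.single P 1 ≤ E := by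
      intro Q
      rw [Finsupp.sub_apply]
      have : (0 : ℤ) ≤ (Finsupp.single P (1 : ℤ) : Divisor k K) Q := by
        by_cases hQ : Q = P
        · subst hQ; rw [Finsupp.single_eq_same]; norm_num
        · rw [Finsupp.single_eq_of_ne hQ]
      omega
    have h1 := ell_sub_ell_le hK (E - Finsupp.single P 1) E hle
    rw [deg_sub, deg_single, hP1] at h1
    have h2 : 0 < ell (E - Finsupp.single P 1) := by
      have : (1 : ℤ) < ell E := by exact_mod_cast hgt
      have : (0 : ℤ) < ell (E - Finsupp.single P 1) := by omega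
      exact_mod_cast this
    obtain ⟨f, hf0, hf⟩ := (L_ne_bot_iff hK _).mp (L_ne_bot_of_ell_pos h2)
    have hdeg0 : (E - Finsupp.single P 1 + FunFld.div k f).deg = 0 := by
      rw [deg_add, deg_sub, deg_single, deg_div hK, hE, hP1]; ring
    have hzero : E - Finsupp.single P 1 + FunFld.div k f = 0 := by
      by_contra hne'
      have := deg_pos_of_pos hK hf hne'
      omega
    refine ⟨f, hf0, ?_⟩
    have : FunFld.div k f = -(E - Finsupp.single P 1) := eq_neg_of_add_eq_zero_right hzero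
    rw [this]; abel
  obtain ⟨f₁, hf₁0, hf₁⟩ := key P₁
  obtain ⟨f₂, hf₂0, hf₂⟩ := key P₂
  have hdiv : Finsupp.single P₁ 1 - Finsupp.single P₂ 1 = FunFld.div k (f₁ * f₂⁻¹) := by
    rw [div_mul hK hf₁0 (inv_ne_zero hf₂0), div_inv hK, hf₁, hf₂]; abel
  exact hne (eq_of_single_sub_single_eq_div hK hg P₁ P₂ (deg_eq_one_of_isAlgClosed hK P₁)
    (deg_eq_one_of_isAlgClosed hK P₂) _ (mul_ne_zero hf₁0 (inv_ne_zero hf₂0)) hdiv)

/-- base of the cusp propagation: on a curve of positive genus at most one vanishing order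
at a point is `≥ d - 1` -/
theorem finrank_inf_le_one_of_genus_pos [IsAlgClosed k] (hK : IsFunctionField k K)
    (hg : 0 < genus k K) (d : ℕ) (hd : 1 ≤ d) (D : Divisor k K) (hD : D.deg = d)
    (V : Submodule k K) (A : Place k K) :
    Module.finrank k ↥(V ⊓ L (D - Finsupp.single A ((d : ℤ) + 1 - 2))) ≤ 1 := by
  haveI := finiteDimensional_L hK (D - Finsupp.single A ((d : ℤ) + 1 - 2))
  have h1 : Module.finrank k ↥(V ⊓ L (D - Finsupp.single A ((d : ℤ) + 1 - 2))) ≤
      Module.finrank k ↥(L (D - Finsupp.single A ((d : ℤ) + 1 - 2))) :=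
    Submodule.finrank_mono inf_le_right
  have h2 := ell_le_one_of_deg_one hK hg (D - Finsupp.single A ((d : ℤ) + 1 - 2)) (by
    rw [deg_sub, deg_single, deg_eq_one_of_isAlgClosed hK A, hD]; push_cast; ring)
  unfold ell at h2
  omega

/-- one step of the cusp propagation along a chain -/
theorem cusp_step [IsAlgClosed k] {K' : Type*} [Field K'] [Algebra k K']
    (d r : ℕ) (hd : 1 ≤ d) (D : Divisor k K) (V : Submodule k K) (B : Place k K)
    (D' : Divisor k K') (V' : Submodule k K') (A' : Place k K')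
    (hcomp : ∀ m : ℕ, m ≤ d + 1 →
      Module.finrank k ↥(V ⊓ L (D - Finsupp.single B (m : ℤ))) +
        Module.finrank k ↥(V' ⊓ L (D' - Finsupp.single A' ((d : ℤ) + 1 - m))) = r + 1)
    (h' : Module.finrank k ↥(V' ⊓ L (D' - Finsupp.single A' ((d : ℤ) + 1 - 2))) ≤ 1) :
    r ≤ Module.finrank k ↥(V ⊓ L (D - Finsupp.single B (2 : ℤ))) := by
  have h1 := hcomp 2 (by omega)
  have e : ((2 : ℕ) : ℤ) = 2 := rfl
  rw [e] at h1
  omega

/-- a cusp at `B` bounds the top vanishing orders at any other point `A` -/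
theorem finrank_inf_le_one_of_cusp [IsAlgClosed k] (hK : IsFunctionField k K)
    (d r : ℕ) (D : Divisor k K) (hD : D.deg = d) (hd : 1 ≤ d)
    (V : Submodule k K) (hV : V ≤ L D) (hVr : Module.finrank k ↥V = r + 1)
    (A B : Place k K) (hAB : A ≠ B)
    (hcusp : r ≤ Module.finrank k ↥(V ⊓ L (D - Finsupp.single B (2 : ℤ)))) :
    Module.finrank k ↥(V ⊓ L (D - Finsupp.single A ((d : ℤ) + 1 - 2))) ≤ 1 := by
  have h1 := finrank_inf_add_le hK D V hV A B hAB ((d : ℤ) + 1 - 2) 2 (by omega) (by omega)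
    (by rw [hD]; omega)
  omega

/-- for `d = 0` everything is trivial -/
theorem r_eq_zero_of_d_eq_zero (hK : IsFunctionField k K) (r : ℕ) (D : Divisor k K)
    (hD : D.deg = 0) (V : Submodule k K) (hV : V ≤ L D) (hVr : Module.finrank k ↥V = r + 1) :
    r = 0 := by
  haveI := finiteDimensional_L hK D
  have h1 : Module.finrank k ↥V ≤ Module.finrank k ↥(L D) := Submodule.finrank_mono hV
  by_contra hr
  have h2 : 2 ≤ ell D := by unfold ell; omega
  have hne : L D ≠ ⊥ := L_ne_bot_of_ell_pos (by omega)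
  obtain ⟨f, hf0, hf⟩ := (L_ne_bot_iff hK _).mp hne
  have hdeg0 : (D + FunFld.div k f).deg = 0 := by rw [deg_add, deg_div hK, hD]; ring
  have hzero : D + FunFld.div k f = 0 := by
    by_contra hne'
    have := deg_pos_of_pos hK hf hne'
    omega
  have h3 := ell_add_div hK D hf0
  rw [hzero, ell_zero hK] at h3
  omega

end Groth.Agent.Helper5.FF
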