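import Mathlib
import Groth.Agent.Helper5.FFLLS3
import Groth.Agent.Helper5.FFWeier
set_option autoImplicit false
open FunFld Polynomial
open scoped IntermediateField

namespace Groth.Agent.Helper5.FF

variable {k K : Type*} [Field k] [Field K] [Algebra k K]

/-- elements of valuation `≤ c` at `P` -/
def leSub (P : Place k K) (c : WithZero (Multiplicative ℤ)) : Submodule k K where
  carrier := {x | P.1 x ≤ c}
  add_mem' {x y} hx hy := (P.1.map_add x y).trans (max_le hx hy)
  zero_mem' := by simp
  smul_mem' a x hx := by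
    show P.1 (a • x) ≤ c
    rw [Algebra.smul_def, map_mul]
    exact (mul_le_mul' (P.2.1 a) hx).trans_eq (one_mul _)

theorem mem_leSub (P : Place k K) (c : WithZero (Multiplicative ℤ)) (x : K) :
    x ∈ leSub P c ↔ P.1 x ≤ c := Iff.rfl

theorem val_smul (P : Place k K) {a : k} (ha : a ≠ 0) (x : K) : P.1 (a • x) = P.1 x := by
  rw [Algebra.smul_def, map_mul, val_algebraMap P ha, one_mul]

/-- an echelon basis at `P`: pairwise distinct valuations -/
theorem exists_echelon (P : Place k K) (hP : P.deg = 1) (D : Divisor k K) :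
    ∀ (N : ℕ) (V : Submodule k K), V ≤ L D → FiniteDimensional k ↥V → Module.finrank k ↥V = N →
      ∃ b : Fin N → K, (∀ i, b i ∈ V) ∧ LinearIndependent k b ∧
        Submodule.span k (Set.range b) = V ∧ Function.Injective fun i => P.1 (b i) := by
  intro N
  induction N with
  | zero =>
    intro V _ hfd hN
    haveI := hfd
    have hV : V = ⊥ := Submodule.finrank_eq_zero.mp hN
    refine ⟨fun i => i.elim0, fun i => i.elim0, linearIndependent_empty_type, ?_,
      fun i => i.elim0⟩
    rw [hV]
    simp
  | succ N ih =>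
    intro V hV hfd hN
    haveI := hfd
    -- a nonzero element of maximal valuation
    have hne : V ≠ ⊥ := by
      intro h
      rw [h, finrank_bot] at hN
      omega
    obtain ⟨w, hwV, hw0⟩ := Submodule.exists_mem_ne_zero_of_ne_bot hne
    have hbdd : ∃ v₀ ∈ V, v₀ ≠ 0 ∧ ∀ v ∈ V, P.1 v ≤ P.1 v₀ := by
      -- orders of nonzero elements are bounded below by `-D P`
      have hex : ∃ z : ℤ, ∃ v ∈ V, v ≠ 0 ∧ P.ord v = z := ⟨_, w, hwV, hw0, rfl⟩
      have hlb : ∀ z : ℤ, (∃ v ∈ V, v ≠ 0 ∧ P.ord v = z) → -(D P) ≤ z := by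
        rintro z ⟨v, hv, hv0, rfl⟩
        exact (val_le_exp_iff P hv0 (D P)).mp (hV hv P)
      obtain ⟨z₀, ⟨v₀, hv₀V, hv₀0, hv₀z⟩, hmin⟩ := Int.exists_least_of_bdd ⟨-(D P), hlb⟩ hex
      refine ⟨v₀, hv₀V, hv₀0, fun v hv => ?_⟩
      by_cases hv0 : v = 0
      · rw [hv0, map_zero]; exact zero_le
      · have := hmin (P.ord v) ⟨v, hv, hv0, rfl⟩
        rw [val_eq_exp_neg_ord P hv0, val_eq_exp_neg_ord P hv₀0, WithZero.exp_le_exp]
        omega
    obtain ⟨v₀, hv₀V, hv₀0, hmax⟩ := hbdd
    have hv₀pos : P.1 v₀ ≠ 0 := P.1.ne_zero_iff.mpr hv₀0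
    obtain ⟨V', hV'_def⟩ : ∃ V' : Submodule k K,
        V' = V ⊓ leSub P (P.1 v₀ * WithZero.exp (-1 : ℤ)) := ⟨_, rfl⟩
    have hV'V : V' ≤ V := by rw [hV'_def]; exact inf_le_left
    have hV'lt : ∀ v ∈ V', P.1 v < P.1 v₀ := by
      intro v hv
      rw [hV'_def] at hv
      refine lt_of_le_of_lt hv.2 ?_
      calc P.1 v₀ * WithZero.exp (-1 : ℤ) < P.1 v₀ * 1 :=
            mul_lt_mul_of_pos_left exp_neg_one_lt_one (zero_lt_iff.mpr hv₀pos)
        _ = P.1 v₀ := mul_one _
    have hv₀V' : v₀ ∉ V' := fun h => lt_irrefl _ (hV'lt v₀ h)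
    -- decomposition
    have hsup : V' ⊔ Submodule.span k {v₀} = V := by
      apply le_antisymm
      · exact sup_le hV'V ((Submodule.span_singleton_le_iff_mem _ _).mpr hv₀V)
      · intro v hv
        have hz : P.1 (v / v₀) ≤ 1 := by
          rw [map_div₀]
          exact div_le_one_of_le₀ (hmax v hv) zero_le
        obtain ⟨c, hc⟩ := exists_const_of_deg_one P hP hz
        have hmem : v - c • v₀ ∈ V' := by
          rw [hV'_def]
          refine ⟨V.sub_mem hv (V.smul_mem c hv₀V), ?_⟩
          show P.1 (v - c • v₀) ≤ _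
          have h1 : v - c • v₀ = (v / v₀ - algebraMap k K c) * v₀ := by
            rw [Algebra.smul_def]; field_simp
          rw [h1, map_mul, mul_comm]
          exact mul_le_mul' le_rfl (le_exp_neg_one_of_lt_one hc)
        have : v = (v - c • v₀) + c • v₀ := by ring
        rw [this]
        exact Submodule.add_mem_sup hmem (Submodule.smul_mem _ c (Submodule.mem_span_singleton_self v₀))
    have hinf : V' ⊓ Submodule.span k {v₀} = ⊥ := by
      rw [eq_bot_iff]
      rintro x ⟨hx1, hx2⟩
      obtain ⟨c, rfl⟩ := Submodule.mem_span_singleton.mp hx2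
      by_cases hc : c = 0
      · rw [hc, zero_smul]; exact Submodule.zero_mem _
      · exfalso
        have := hV'lt _ hx1
        rw [val_smul P hc] at this
        exact lt_irrefl _ this
    haveI : FiniteDimensional k ↥V' := Submodule.finiteDimensional_of_le hV'V
    have hfr : Module.finrank k ↥V' = N := by
      have h1 := Submodule.finrank_sup_add_finrank_inf_eq V' (Submodule.span k {v₀})
      rw [hsup, hinf, finrank_bot, add_zero, finrank_span_singleton hv₀0, hN] at h1
      omega
    obtain ⟨b', hb'V, hb'li, hb'span, hb'inj⟩ := ih V' (hV'V.trans hV) inferInstance hfr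
    refine ⟨Fin.cons v₀ b', ?_, ?_, ?_, ?_⟩
    · intro i
      refine Fin.cases ?_ (fun j => ?_) i
      · simpa using hv₀V
      · simpa using hV'V (hb'V j)
    · rw [linearIndependent_finCons]
      refine ⟨hb'li, ?_⟩
      rw [hb'span]
      exact hv₀V'
    · rw [Fin.range_cons, Submodule.span_insert, hb'span, sup_comm]
      exact hsup
    · intro i j hij
      simp only at hij
      revert hij
      refine Fin.cases ?_ (fun i' => ?_) i <;> refine Fin.cases ?_ (fun j' => ?_) j
      · intro _; rfl
      · intro h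
        simp only [Fin.cons_zero, Fin.cons_succ] at h
        exact absurd h (ne_of_gt (hV'lt _ (hb'V j')))
      · intro h
        simp only [Fin.cons_zero, Fin.cons_succ] at h
        exact absurd h (ne_of_lt (hV'lt _ (hb'V i')))
      · intro h
        simp only [Fin.cons_succ] at h
        rw [hb'inj h]

theorem inf_leSub_eq_span (P : Place k K) {N : ℕ} (V : Submodule k K) (b : Fin N → K)
    (hspan : Submodule.span k (Set.range b) = V)
    (hinj : Function.Injective fun i => P.1 (b i)) (c : WithZero (Multiplicative ℤ)) :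
    V ⊓ leSub P c = Submodule.span k (b '' {i | P.1 (b i) ≤ c}) := by
  classical
  apply le_antisymm
  · rintro x ⟨hxV, hxc⟩
    rw [SetLike.mem_coe, ← hspan, Submodule.mem_span_range_iff_exists_fun] at hxV
    obtain ⟨a, rfl⟩ := hxV
    have hxc' : P.1 (∑ i, a i • b i) ≤ c := hxc
    obtain ⟨T, hT_def⟩ : ∃ T : Finset (Fin N), T = Finset.univ.filter fun i => a i ≠ 0 := ⟨_, rfl⟩
    have hsumT : ∑ i, a i • b i = ∑ i ∈ T, a i • b i := by
      rw [hT_def, Finset.sum_filter]
      apply Finset.sum_congr rfl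
      intro i _
      by_cases hi : a i = 0
      · simp [hi]
      · simp [hi]
    by_cases hTe : T.Nonempty
    · obtain ⟨j, hjT, hjmax⟩ := Finset.exists_max_image T (fun i => P.1 (b i)) hTe
      have haj : a j ≠ 0 := by
        rw [hT_def, Finset.mem_filter] at hjT; exact hjT.2
      have hlt : ∀ i ∈ T \ {j}, P.1 (a i • b i) < P.1 (a j • b j) := by
        intro i hi
        rw [Finset.mem_sdiff, Finset.mem_singleton] at hi
        have hai : a i ≠ 0 := by
          have := hi.1
          rw [hT_def, Finset.mem_filter] at this; exact this.2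
        rw [val_smul P hai, val_smul P haj]
        exact lt_of_le_of_ne (hjmax i hi.1) (fun h => hi.2 (hinj h))
      have hval := Valuation.map_sum_eq_of_lt P.1 hjT hlt
      rw [val_smul P haj] at hval
      rw [hsumT, hval] at hxc'
      rw [hsumT]
      apply Submodule.sum_mem
      intro i hi
      apply Submodule.smul_mem
      apply Submodule.subset_span
      exact ⟨i, (hjmax i hi).trans hxc', rfl⟩
    · rw [Finset.not_nonempty_iff_eq_empty] at hTe
      rw [hsumT, hTe, Finset.sum_empty]
      exact Submodule.zero_mem _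
  · rw [Submodule.span_le]
    rintro x ⟨i, hi, rfl⟩
    refine ⟨?_, hi⟩
    rw [SetLike.mem_coe, ← hspan]
    exact Submodule.subset_span ⟨i, rfl⟩

theorem finrank_inf_leSub (P : Place k K) {N : ℕ} (V : Submodule k K) (b : Fin N → K)
    (hli : LinearIndependent k b) (hspan : Submodule.span k (Set.range b) = V)
    (hinj : Function.Injective fun i => P.1 (b i)) (c : WithZero (Multiplicative ℤ)) :
    Module.finrank k ↥(V ⊓ leSub P c) = (Finset.univ.filter fun i => P.1 (b i) ≤ c).card := by
  classical
  rw [inf_leSub_eq_span P V b hspan hinj c]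
  have hli' : LinearIndependent k (b ∘ (Subtype.val : {i // P.1 (b i) ≤ c} → Fin N)) :=
    hli.comp _ Subtype.val_injective
  have h1 := finrank_span_eq_card hli'
  rw [Set.range_comp, Subtype.range_coe_subtype] at h1
  rw [h1, Fintype.card_subtype]

/-- `V ∩ L(D - nP)` in terms of the valuation at `P` -/
theorem inf_L_sub_single (D : Divisor k K) (V : Submodule k K) (hV : V ≤ L D) (P : Place k K)
    (n : ℤ) : V ⊓ L (D - Finsupp.single P n) = V ⊓ leSub P (WithZero.exp (D P - n)) := by
  apply le_antisymm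
  · rintro x ⟨hxV, hx⟩
    refine ⟨hxV, ?_⟩
    have := hx P
    rwa [Finsupp.sub_apply, Finsupp.single_eq_same] at this
  · rintro x ⟨hxV, hx⟩
    refine ⟨hxV, fun Q => ?_⟩
    by_cases hQ : Q = P
    · subst hQ
      rw [Finsupp.sub_apply, Finsupp.single_eq_same]
      exact hx
    · rw [Finsupp.sub_apply, Finsupp.single_eq_of_ne hQ, sub_zero]
      exact hV hxV Q

/-- the coefficient of an effective divisor at a place is bounded by its degree -/
theorem coeff_mul_deg_le_deg {E : Divisor k K} (hE : 0 ≤ E) (P : Place k K) :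
    E P * (P.deg : ℤ) ≤ E.deg := by
  have h1 : 0 ≤ E - Finsupp.single P (E P) := by
    intro Q
    rw [Finsupp.sub_apply, Finsupp.zero_apply]
    by_cases hQ : Q = P
    · subst hQ; rw [Finsupp.single_eq_same, sub_self]
    · rw [Finsupp.single_eq_of_ne hQ, sub_zero]; exact hE Q
  have h2 := deg_nonneg h1
  rw [deg_sub, deg_single] at h2
  omega

theorem ord_add_le_deg (hK : IsFunctionField k K) (P : Place k K) (hP : P.deg = 1)
    (D : Divisor k K) {x : K} (hx0 : x ≠ 0) (hx : x ∈ L D) :
    0 ≤ P.ord x + D P ∧ P.ord x + D P ≤ D.deg := by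
  have hE : 0 ≤ D + FunFld.div k x := by
    intro Q
    rw [Finsupp.add_apply, Finsupp.zero_apply, div_apply hK]
    have := (mem_L_iff_ord D hx0).mp hx Q
    omega
  have h1 := coeff_mul_deg_le_deg hE P
  rw [Finsupp.add_apply, div_apply hK, hP, deg_add, deg_div hK] at h1
  have h2 := hE P
  rw [Finsupp.add_apply, Finsupp.zero_apply, div_apply hK] at h2
  constructor
  · omega
  · simp only [Nat.cast_one, mul_one, add_zero] at h1
    omega

theorem vsum_eq_sum_ord (hK : IsFunctionField k K) (P : Place k K) (hP : P.deg = 1) (d : ℕ)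
    (D : Divisor k K) (hD : D.deg = d) (V : Submodule k K) (hV : V ≤ L D) {N : ℕ}
    (b : Fin N → K) (hbV : ∀ i, b i ∈ V) (hli : LinearIndependent k b)
    (hspan : Submodule.span k (Set.range b) = V)
    (hinj : Function.Injective fun i => P.1 (b i)) :
    ∃ o : Fin N → ℕ, (∀ i, ((o i : ℕ) : ℤ) = P.ord (b i) + D P) ∧ (∀ i, o i ≤ d) ∧
      vsum V D P d = ∑ i, o i := by
  classical
  have hb0 : ∀ i, b i ≠ 0 := fun i => hli.ne_zero i
  have hbd : ∀ i, 0 ≤ P.ord (b i) + D P ∧ P.ord (b i) + D P ≤ d := fun i => by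
    have := ord_add_le_deg hK P hP D (hb0 i) (hV (hbV i))
    rwa [hD] at this
  refine ⟨fun i => (P.ord (b i) + D P).toNat, fun i => Int.toNat_of_nonneg (hbd i).1,
    fun i => by
      show (P.ord (b i) + D P).toNat ≤ d
      have := (hbd i).2
      have := (hbd i).1
      omega, ?_⟩
  unfold vsum
  have h1 : ∀ n ∈ Finset.range d, Module.finrank k ↥(V ⊓ L (D - Finsupp.single P ((n : ℤ) + 1))) =
      ∑ i, if n + 1 ≤ (P.ord (b i) + D P).toNat then 1 else 0 := by
    intro n _
    rw [inf_L_sub_single D V hV, finrank_inf_leSub P V b hli hspan hinj, Finset.card_filter]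
    apply Finset.sum_congr rfl
    intro i _
    have hiff : P.1 (b i) ≤ WithZero.exp (D P - ((n : ℤ) + 1)) ↔
        n + 1 ≤ (P.ord (b i) + D P).toNat := by
      rw [val_le_exp_iff P (hb0 i)]
      have := (hbd i).1
      omega
    simp only [hiff]
  rw [Finset.sum_congr rfl h1, Finset.sum_comm]
  apply Finset.sum_congr rfl
  intro i _
  rw [← Finset.card_filter]
  have hset : (Finset.range d).filter (fun n => n + 1 ≤ (P.ord (b i) + D P).toNat) =
      Finset.range (P.ord (b i) + D P).toNat := by
    ext n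
    rw [Finset.mem_filter, Finset.mem_range, Finset.mem_range]
    have := (hbd i).2
    omega
  rw [hset, Finset.card_range]

end Groth.Agent.Helper5.FF
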