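import Mathlib
import Groth.Agent.Helper5.FFEchelon
import Groth.Agent.Helper5.FFRational
set_option autoImplicit false
open FunFld Polynomial
open scoped IntermediateField

namespace Groth.Agent.Helper5.FF

variable {k K : Type*} [Field k] [Field K] [Algebra k K]

theorem aeval_eq_pow_mul_reverse {x : K} (hx0 : x ≠ 0) (p : k[X]) :
    aeval x p = x ^ p.natDegree * aeval x⁻¹ p.reverse := by
  letI := invertibleOfNonzero hx0
  have h1 := Polynomial.eval₂_reverse_mul_pow (algebraMap k K) x p
  rw [invOf_eq_inv] at h1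
  rw [aeval_def, ← h1, aeval_def, mul_comm]

/-- at a pole of `x`, the valuation of a polynomial in `x` is governed by its degree -/
theorem val_aeval_of_pole (P : Place k K) {x : K} (hx : 1 < P.1 x) {p : k[X]} (hp0 : p ≠ 0) :
    P.1 (aeval x p) = P.1 x ^ p.natDegree := by
  have hx0 : x ≠ 0 := by
    rintro rfl
    rw [map_zero] at hx
    exact not_lt_zero hx
  have hXinv : P.1 x⁻¹ < 1 := by
    rw [map_inv₀]
    exact inv_lt_one_of_one_lt₀ hx
  have hcoeff : p.reverse.coeff 0 ≠ 0 := by
    rw [Polynomial.coeff_zero_reverse]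
    exact leadingCoeff_ne_zero.mpr hp0
  rw [aeval_eq_pow_mul_reverse hx0, map_mul, map_pow, val_aeval_eq_one P hXinv hcoeff, mul_one]

/-- at a zero of `x - a`, the valuation of a polynomial in `x` is governed by its root
multiplicity at `a` -/
theorem val_aeval_of_zero (P : Place k K) {x : K} (a : k) (hx : P.1 (x - algebraMap k K a) < 1)
    {p : k[X]} (hp0 : p ≠ 0) :
    P.1 (aeval x p) = P.1 (x - algebraMap k K a) ^ p.rootMultiplicity a := by
  obtain ⟨m, hm⟩ : ∃ m : ℕ, m = p.rootMultiplicity a := ⟨_, rfl⟩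
  obtain ⟨h, hh⟩ : ∃ h : k[X], h = p /ₘ (X - C a) ^ m := ⟨_, rfl⟩
  have hp : p = (X - C a) ^ m * h := by
    rw [hh, hm]; exact (pow_mul_divByMonic_rootMultiplicity_eq p a).symm
  have hha : h.eval a ≠ 0 := by
    rw [hh, hm]; exact eval_divByMonic_pow_rootMultiplicity_ne_zero a hp0
  have h1 : aeval x h = aeval (x - algebraMap k K a) (h.comp (X + C a)) := by
    rw [aeval_comp]
    congr 1
    simp
  have hcoeff : (h.comp (X + C a)).coeff 0 ≠ 0 := by
    rw [coeff_zero_eq_eval_zero, eval_comp]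
    simpa using hha
  have h2 : P.1 (aeval x h) = 1 := by
    rw [h1]; exact val_aeval_eq_one P hx hcoeff
  rw [← hm]
  conv_lhs => rw [hp]
  rw [map_mul, map_pow, map_mul, map_pow, h2, mul_one]
  congr 2
  simp

theorem adjoin_sub_const_inv_eq (x : K) (a : k) : k⟮(x - algebraMap k K a)⁻¹⟯ = k⟮x⟯ := by
  rw [adjoin_inv_eq]
  apply le_antisymm
  · rw [IntermediateField.adjoin_simple_le_iff]
    exact sub_mem (IntermediateField.mem_adjoin_simple_self k x) (IntermediateField.algebraMap_mem _ a)
  · rw [IntermediateField.adjoin_simple_le_iff]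
    have h1 := add_mem (IntermediateField.mem_adjoin_simple_self k (x - algebraMap k K a))
      (IntermediateField.algebraMap_mem k⟮x - algebraMap k K a⟯ a)
    rwa [sub_add_cancel] at h1

/-- for a generator `x` of a rational function field, `x - a` has exactly one zero, simple -/
theorem simple_zero (hK : IsFunctionField k K) {x : K} (hx : k⟮x⟯ = ⊤) (a : k) :
    ∃ Pa : Place k K, Pa.deg = 1 ∧ Pa.1 (x - algebraMap k K a) = WithZero.exp (-1 : ℤ) ∧
      ∀ Q : Place k K, Q.1 (x - algebraMap k K a) < 1 → Q = Pa := by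
  have htop : k⟮(x - algebraMap k K a)⁻¹⟯ = ⊤ := by rw [adjoin_sub_const_inv_eq, hx]
  have htr := transcendental_of_adjoin_eq_top hK htop
  have h1 : Module.finrank k⟮(x - algebraMap k K a)⁻¹⟯ K = 1 :=
    IntermediateField.finrank_eq_one_iff_eq_top.mpr htop
  obtain ⟨Pa, hdeg, hord, hQ⟩ := exists_simple_pole hK htr h1
  have hy0 : x - algebraMap k K a ≠ 0 := by
    intro h0
    rw [h0, inv_zero] at htr
    exact htr isAlgebraic_zero
  rw [ord_inv] at hord
  refine ⟨Pa, hdeg, ?_, fun Q hQlt => ?_⟩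
  · rw [val_eq_exp_neg_ord Pa hy0]
    congr 1
  · by_contra hne
    have := hQ Q hne
    rw [ord_inv] at this
    have h2 := (ord_pos_iff Q hy0).mpr hQlt
    omega

/-- in genus zero every divisor of degree `d` is linearly equivalent to `d P∞` -/
theorem exists_div_eq_sub (hK : IsFunctionField k K) (hg0 : genus k K = 0) (Pinf : Place k K)
    (hPinf : Pinf.deg = 1) (d : ℕ) (D : Divisor k K) (hD : D.deg = d) :
    ∃ u : K, u ≠ 0 ∧ FunFld.div k u = D - Finsupp.single Pinf (d : ℤ) := by
  have hdeg : Divisor.deg (Finsupp.single Pinf (d : ℤ) - D : Divisor k K) = 0 := by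
    rw [deg_sub, deg_single, hPinf, hD]; simp
  have hell := ell_eq_of_deg_ge hK (Finsupp.single Pinf (d : ℤ) - D) (by rw [hg0, hdeg]; norm_num)
  rw [hdeg, hg0] at hell
  have hpos : 0 < ell (Finsupp.single Pinf (d : ℤ) - D) := by
    have : (ell (Finsupp.single Pinf (d : ℤ) - D) : ℤ) = 1 := by rw [hell]; norm_num
    omega
  obtain ⟨u, hu0, hu⟩ := (L_ne_bot_iff hK _).mp (L_ne_bot_of_ell_pos hpos)
  have hdeg0 : Divisor.deg (Finsupp.single Pinf (d : ℤ) - D + FunFld.div k u : Divisor k K) = 0 := by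
    rw [deg_add, hdeg, deg_div hK]; ring
  have hzero : Finsupp.single Pinf (d : ℤ) - D + FunFld.div k u = 0 := by
    by_contra hne'
    have := deg_pos_of_pos hK hu hne'
    omega
  refine ⟨u, hu0, ?_⟩
  have : FunFld.div k u = -(Finsupp.single Pinf (d : ℤ) - D) := eq_neg_of_add_eq_zero_right hzero
  rw [this]; abel

/-- elements with poles only at `P∞` of order `≤ d` are polynomials of degree `≤ d` in `x` -/
theorem exists_poly_of_mem_L (hK : IsFunctionField k K) {x : K} (hx : k⟮x⟯ = ⊤)
    (Pinf : Place k K) (hPinf : Pinf.deg = 1) (hord : Pinf.ord x = -1)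
    (hreg : ∀ Q : Place k K, Q ≠ Pinf → 0 ≤ Q.ord x) (d : ℕ) {f : K}
    (hf : f ∈ L (Finsupp.single Pinf (d : ℤ) : Divisor k K)) :
    ∃ g : k[X], g.natDegree ≤ d ∧ aeval x g = f := by
  classical
  have htr := transcendental_of_adjoin_eq_top hK hx
  have hx0 : x ≠ 0 := by rintro rfl; exact htr isAlgebraic_zero
  have h1 : Module.finrank k⟮x⟯ K = 1 := IntermediateField.finrank_eq_one_iff_eq_top.mpr hx
  have hg0 := genus_eq_zero_of_finrank_one hK htr h1
  have hell := ell_eq_of_deg_ge hK (Finsupp.single Pinf (d : ℤ)) (by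
    rw [hg0, deg_single, hPinf]; push_cast; omega)
  rw [deg_single, hPinf, hg0] at hell
  have hfr : Module.finrank k ↥(L (Finsupp.single Pinf (d : ℤ) : Divisor k K)) = d + 1 := by
    have : (ell (Finsupp.single Pinf (d : ℤ) : Divisor k K) : ℤ) = d + 1 := by
      rw [hell]; push_cast; ring
    unfold ell at this
    exact_mod_cast this
  haveI := finiteDimensional_L hK (Finsupp.single Pinf (d : ℤ))
  have hpinf : Pinf.1 x = WithZero.exp (1 : ℤ) := by
    rw [val_eq_exp_neg_ord Pinf hx0, hord]; rfl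
  have hmem : ∀ i : Fin (d + 1), x ^ (i : ℕ) ∈ L (Finsupp.single Pinf (d : ℤ) : Divisor k K) := by
    intro i Q
    by_cases hQ : Q = Pinf
    · subst hQ
      rw [Finsupp.single_eq_same, map_pow, hpinf, ← WithZero.exp_nsmul, WithZero.exp_le_exp]
      have := i.2
      simp only [nsmul_eq_mul, mul_one]
      omega
    · rw [Finsupp.single_eq_of_ne hQ, WithZero.exp_zero, map_pow]
      exact pow_le_one₀ zero_le ((ord_nonneg_iff Q hx0).mp (hreg Q hQ))
  let b : Fin (d + 1) → ↥(L (Finsupp.single Pinf (d : ℤ) : Divisor k K)) :=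
    fun i => ⟨x ^ (i : ℕ), hmem i⟩
  have hli : LinearIndependent k b := by
    apply LinearIndependent.of_comp (Submodule.subtype _)
    exact linearIndependent_pow' htr d
  have hspan := hli.span_eq_top_of_card_eq_finrank' (by rw [Fintype.card_fin, hfr])
  have hfmem : (⟨f, hf⟩ : ↥(L (Finsupp.single Pinf (d : ℤ) : Divisor k K))) ∈
      Submodule.span k (Set.range b) := by rw [hspan]; exact Submodule.mem_top
  rw [Submodule.mem_span_range_iff_exists_fun] at hfmem
  obtain ⟨c, hc⟩ := hfmem
  have hc' : ∑ i, c i • x ^ (i : ℕ) = f := by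
    have := congrArg (Submodule.subtype _) hc
    simpa [b] using this
  refine ⟨∑ i : Fin (d + 1), C (c i) * X ^ (i : ℕ), ?_, ?_⟩
  · apply natDegree_sum_le_of_forall_le
    intro i _
    refine (natDegree_C_mul_X_pow_le _ _).trans ?_
    have := i.2
    omega
  · rw [map_sum, ← hc']
    apply Finset.sum_congr rfl
    intro i _
    rw [map_mul, aeval_C, map_pow, aeval_X, Algebra.smul_def]

end Groth.Agent.Helper5.FF
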