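import Mathlib
import Groth.Agent.Helper5.FFWeier
import Groth.Agent.Helper5.FFGenusOne
set_option autoImplicit false
open FunFld Polynomial
open scoped IntermediateField

namespace Groth.Agent.Helper5.FF

variable {k K : Type*} [Field k] [Field K] [Algebra k K]

theorem ell_single_genus_one (hK : IsFunctionField k K) (hg : genus k K = 1) (P₀ : Place k K)
    (hP : P₀.deg = 1) (n : ℤ) (hn : 1 ≤ n) :
    (ell (Finsupp.single P₀ n : Divisor k K) : ℤ) = n := by
  have h := ell_eq_of_deg_ge hK (Finsupp.single P₀ n : Divisor k K)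
    (by rw [deg_single, hP, hg]; push_cast; omega)
  rw [deg_single, hP, hg] at h
  push_cast at h
  omega

theorem pole_divisor_eq (hK : IsFunctionField k K) {P : Place k K} {x : K} (hx0 : x ≠ 0) {n : ℤ}
    (hn : 0 ≤ n)
    (hxL : x ∈ L (Finsupp.single P n : Divisor k K)) (hord : P.ord x = -n) :
    (-(FunFld.div k x)) ⊔ 0 = (Finsupp.single P n : Divisor k K) := by
  have h := (mem_L_single_iff P n hx0).mp hxL
  ext Q
  rw [Finsupp.sup_apply, Finsupp.neg_apply, div_apply hK, Finsupp.zero_apply]
  by_cases hQ : Q = P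
  · subst hQ
    rw [Finsupp.single_eq_same, hord, neg_neg]
    exact max_eq_left hn
  · rw [Finsupp.single_eq_of_ne hQ]
    have := h.2 Q hQ
    exact max_eq_right (by omega)

theorem finrank_adjoin_of_pole (hK : IsFunctionField k K) {P : Place k K} (hP : P.deg = 1) {x : K}
    (hx0 : x ≠ 0) {n : ℤ} (hn : 0 < n)
    (hxL : x ∈ L (Finsupp.single P n : Divisor k K)) (hord : P.ord x = -n) :
    Transcendental k x ∧ (Module.finrank k⟮x⟯ K : ℤ) = n := by
  have htr : Transcendental k x := by
    apply transcendental_of_not_mem_range hK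
    rintro ⟨c, rfl⟩
    rw [ord_algebraMap] at hord
    omega
  refine ⟨htr, ?_⟩
  rw [← deg_poles_eq hK htr, pole_divisor_eq hK hx0 hn.le hxL hord, deg_single, hP]
  simp

end Groth.Agent.Helper5.FF
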