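import Mathlib
import Groth.Agent.Helper5.FFWeier2
set_option autoImplicit false
open FunFld Polynomial
open scoped IntermediateField

namespace Groth.Agent.Helper5.FF

variable {k K : Type*} [Field k] [Field K] [Algebra k K]

theorem exists_pole_genus_one (hK : IsFunctionField k K) (hg : genus k K = 1) (P₀ : Place k K)
    (hP : P₀.deg = 1) (m : ℕ) (hm : 2 ≤ m) :
    ∃ x : K, x ≠ 0 ∧ x ∈ L (Finsupp.single P₀ (m : ℤ) : Divisor k K) ∧ P₀.ord x = -(m : ℤ) := by
  rw [← not_isGap_iff]
  intro h
  unfold IsGap at h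
  have h2 := ell_single_genus_one hK hg P₀ hP m (by omega)
  have h1 := ell_single_genus_one hK hg P₀ hP ((m : ℤ) - 1) (by omega)
  unfold ell at h1 h2
  rw [h] at h2
  omega

theorem L_single_one_genus_one (hK : IsFunctionField k K) (hg : genus k K = 1) (P₀ : Place k K)
    (hP : P₀.deg = 1) {z : K} (hz : z ∈ L (Finsupp.single P₀ (1 : ℤ) : Divisor k K)) :
    ∃ c : k, z = algebraMap k K c := by
  have h0 : (0 : Divisor k K) ≤ Finsupp.single P₀ (1 : ℤ) := by
    have := single_mono (k := k) (K := K) P₀ (show (0 : ℤ) ≤ 1 by norm_num)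
    rwa [Finsupp.single_zero] at this
  have hle := L_mono h0
  have hfd := finiteDimensional_L hK (Finsupp.single P₀ (1 : ℤ) : Divisor k K)
  have h1 := ell_single_one_of_genus_pos hK (by omega) P₀ hP
  have h2 := ell_zero hK (k := k) (K := K)
  unfold ell at h1 h2
  have heq := Submodule.eq_of_le_of_finrank_eq hle (by rw [h1, h2])
  rw [← heq, L_zero hK, Submodule.mem_one] at hz
  obtain ⟨c, rfl⟩ := hz
  exact ⟨c, rfl⟩

end Groth.Agent.Helper5.FF
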