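import Mathlib
import Groth.Agent.Helper5.FFWeier3
set_option autoImplicit false
open FunFld Polynomial
open scoped IntermediateField

namespace Groth.Agent.Helper5.FF

variable {k K : Type*} [Field k] [Field K] [Algebra k K]

theorem mono_mem (P₀ : Place k K) {x y : K} (hx0 : x ≠ 0) (hy0 : y ≠ 0)
    (hx : ∀ Q : Place k K, Q ≠ P₀ → 0 ≤ Q.ord x) (hy : ∀ Q : Place k K, Q ≠ P₀ → 0 ≤ Q.ord y)
    (hxo : P₀.ord x = -2) (hyo : P₀.ord y = -3) (a b : ℕ) (n : ℤ) (hn : n = 2 * a + 3 * b) :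
    x ^ a * y ^ b ≠ 0 ∧ P₀.ord (x ^ a * y ^ b) = -n ∧
      x ^ a * y ^ b ∈ L (Finsupp.single P₀ n : Divisor k K) := by
  have hxa : x ^ a ≠ 0 := pow_ne_zero _ hx0
  have hyb : y ^ b ≠ 0 := pow_ne_zero _ hy0
  have hne : x ^ a * y ^ b ≠ 0 := mul_ne_zero hxa hyb
  have hord : ∀ Q : Place k K, Q.ord (x ^ a * y ^ b) = a * Q.ord x + b * Q.ord y := by
    intro Q
    rw [ord_mul Q hxa hyb, ord_pow, ord_pow]
  have h1 : P₀.ord (x ^ a * y ^ b) = -n := by
    rw [hord, hxo, hyo, hn]; ring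
  refine ⟨hne, h1, ?_⟩
  rw [mem_L_single_iff P₀ n hne]
  refine ⟨by rw [h1], fun Q hQ => ?_⟩
  rw [hord]
  have := hx Q hQ
  have := hy Q hQ
  positivity

theorem genus_one_weierstrass (hK : IsFunctionField k K) (hg : genus k K = 1) (P₀ : Place k K)
    (hP : P₀.deg = 1) :
    ∃ x y : K, x ∈ L (Finsupp.single P₀ 2 : Divisor k K) ∧ y ∈ L (Finsupp.single P₀ 3 : Divisor k K) ∧
      P₀.ord x = -2 ∧ P₀.ord y = -3 ∧
      IntermediateField.adjoin k ({x, y} : Set K) = ⊤ ∧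
      ∃ f g : Polynomial k, f.natDegree ≤ 1 ∧ g.natDegree = 3 ∧
        y ^ 2 + Polynomial.aeval x f * y + Polynomial.aeval x g = 0 := by
  obtain ⟨x, hx0, hxL, hxo⟩ := exists_pole_genus_one hK hg P₀ hP 2 le_rfl
  obtain ⟨y, hy0, hyL, hyo⟩ := exists_pole_genus_one hK hg P₀ hP 3 (by norm_num)
  rw [Nat.cast_ofNat] at hxL hxo hyL hyo
  have hx := ((mem_L_single_iff P₀ 2 hx0).mp hxL).2
  have hy := ((mem_L_single_iff P₀ 3 hy0).mp hyL).2
  refine ⟨x, y, hxL, hyL, hxo, hyo, ?_, ?_⟩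
  · -- generation
    obtain ⟨htx, hfx⟩ := finrank_adjoin_of_pole hK hP hx0 (by norm_num) hxL hxo
    obtain ⟨hty, hfy⟩ := finrank_adjoin_of_pole hK hP hy0 (by norm_num) hyL hyo
    have hFx : k⟮x⟯ ≤ IntermediateField.adjoin k ({x, y} : Set K) :=
      IntermediateField.adjoin.mono k _ _ (by simp)
    have hFy : k⟮y⟯ ≤ IntermediateField.adjoin k ({x, y} : Set K) :=
      IntermediateField.adjoin.mono k _ _ (by simp)
    have d2 := IntermediateField.finrank_dvd_of_le_left hFx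
    have d3 := IntermediateField.finrank_dvd_of_le_left hFy
    have e2 : Module.finrank k⟮x⟯ K = 2 := by exact_mod_cast hfx
    have e3 : Module.finrank k⟮y⟯ K = 3 := by exact_mod_cast hfy
    rw [e2] at d2
    rw [e3] at d3
    have d1 := Nat.dvd_sub d3 d2
    apply IntermediateField.finrank_eq_one_iff_eq_top.mp
    exact Nat.dvd_one.mp d1
  · -- relation
    have M := mono_mem P₀ hx0 hy0 hx hy hxo hyo
    have m6 := M 3 0 6 (by norm_num)
    have m6' := M 0 2 6 (by norm_num)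
    have m5 := M 1 1 5 (by norm_num)
    have m4 := M 2 0 4 (by norm_num)
    have m3 := M 0 1 3 (by norm_num)
    have m2 := M 1 0 2 (by norm_num)
    simp only [pow_zero, pow_one, mul_one, one_mul] at m6 m6' m5 m4 m3 m2
    obtain ⟨c6, h6⟩ := exists_sub_smul_mem P₀ hP 6 m6.1 m6.2.1 m6.2.2 m6'.2.2
    rw [show (6 : ℤ) - 1 = 5 by norm_num] at h6
    obtain ⟨c5, h5⟩ := exists_sub_smul_mem P₀ hP 5 m5.1 m5.2.1 m5.2.2 h6
    rw [show (5 : ℤ) - 1 = 4 by norm_num] at h5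
    obtain ⟨c4, h4⟩ := exists_sub_smul_mem P₀ hP 4 m4.1 m4.2.1 m4.2.2 h5
    rw [show (4 : ℤ) - 1 = 3 by norm_num] at h4
    obtain ⟨c3, h3⟩ := exists_sub_smul_mem P₀ hP 3 m3.1 m3.2.1 m3.2.2 h4
    rw [show (3 : ℤ) - 1 = 2 by norm_num] at h3
    obtain ⟨c2, h2⟩ := exists_sub_smul_mem P₀ hP 2 m2.1 m2.2.1 m2.2.2 h3
    rw [show (2 : ℤ) - 1 = 1 by norm_num] at h2
    obtain ⟨c0, h0⟩ := L_single_one_genus_one hK hg P₀ hP h2
    have hc6 : c6 ≠ 0 := by
      rintro rfl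
      rw [zero_smul, sub_zero] at h6
      have := ((mem_L_single_iff P₀ 5 m6'.1).mp h6).1
      rw [m6'.2.1] at this
      omega
    refine ⟨C (-c5) * X + C (-c3), C (-c6) * X ^ 3 + C (-c4) * X ^ 2 + C (-c2) * X + C (-c0),
      natDegree_linear_le, natDegree_cubic (neg_ne_zero.mpr hc6), ?_⟩
    simp only [Algebra.smul_def] at h0
    simp only [map_add, map_mul, aeval_C, aeval_X, map_pow, map_neg]
    linear_combination h0

end Groth.Agent.Helper5.FF
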