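import Mathlib
import Groth.Prelude.Def_FlatCA

set_option autoImplicit false
universe u
open TensorProduct

namespace Groth.Agent.Helper5.AdicAss

variable {R S : Type u} [CommRing R] [CommRing S] [Algebra R S] (I : Ideal R)
  (N : Type u) [AddCommGroup N] [Module S N] [Module R N] [IsScalarTower R S N]

/-- `I^k N` is stable under the action of `S`. -/
theorem smul_mem_pow (k : ℕ) (s : S) (n : N) (hn : n ∈ (I ^ k • ⊤ : Submodule R N)) :
    s • n ∈ (I ^ k • ⊤ : Submodule R N) := by
  refine Submodule.smul_induction_on hn ?_ ?_
  · intro r hr m _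
    rw [smul_comm]
    exact Submodule.smul_mem_smul hr Submodule.mem_top
  · intro x y hx hy
    rw [smul_add]
    exact add_mem hx hy

theorem map_smul_mem_pow (b : S) (hb : b ∈ I.map (algebraMap R S)) (k : ℕ) (n : N)
    (hn : n ∈ (I ^ k • ⊤ : Submodule R N)) : b • n ∈ (I ^ (k + 1) • ⊤ : Submodule R N) := by
  induction hb using Submodule.span_induction generalizing n with
  | mem x hx =>
    obtain ⟨i, hi, rfl⟩ := hx
    rw [algebraMap_smul, pow_succ', mul_smul]
    exact Submodule.smul_mem_smul hi hn
  | zero => rw [zero_smul]; exact zero_mem _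
  | add x y _ _ hx hy => rw [add_smul]; exact add_mem (hx n hn) (hy n hn)
  | smul a x _ hx =>
    rw [smul_eq_mul, mul_smul]
    exact smul_mem_pow I N (k + 1) a _ (hx n hn)

theorem pow_smul_mem (b : S) (hb : b ∈ I.map (algebraMap R S)) (k : ℕ) (n : N) :
    b ^ k • n ∈ (I ^ k • ⊤ : Submodule R N) := by
  induction k with
  | zero => simp
  | succ k ih =>
    have : b ^ (k + 1) • n = b • b ^ k • n := by rw [pow_succ', mul_smul]
    rw [this]
    exact map_smul_mem_pow I N b hb k _ ih

theorem bijective_one_sub [IsAdicComplete I N] (b : S) (hb : b ∈ I.map (algebraMap R S)) :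
    Function.Bijective (fun n : N => n - b • n) := by
  constructor
  · intro n n' h
    have h0 : (n - n') = b • (n - n') := by
      have : n - b • n = n' - b • n' := h
      rw [smul_sub]
      rw [sub_eq_sub_iff_add_eq_add] at this ⊢
      rw [this, add_comm]
    have hk : ∀ k : ℕ, n - n' = b ^ k • (n - n') := by
      intro k
      induction k with
      | zero => simp
      | succ k ih => rw [pow_succ, mul_smul, ← h0]; exact ih
    have : n - n' = 0 := by
      apply IsHausdorff.haus (inferInstance : IsHausdorff I N)
      intro k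
      rw [SModEq.zero, hk k]
      exact pow_smul_mem I N b hb k _
    exact sub_eq_zero.mp this
  · intro n
    let f : ℕ → N := fun k => ∑ j ∈ Finset.range k, b ^ j • n
    have hf : ∀ {m k : ℕ}, m ≤ k → f m ≡ f k [SMOD (I ^ m • ⊤ : Submodule R N)] := by
      intro m k hmk
      rw [SModEq.sub_mem]
      have : f m - f k = - ∑ j ∈ Finset.Ico m k, b ^ j • n := by
        simp only [f]
        rw [← Finset.sum_range_add_sum_Ico _ hmk]
        abel
      rw [this]
      apply neg_mem
      apply sum_mem
      intro j hj
      have hmj : m ≤ j := (Finset.mem_Ico.mp hj).1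
      exact Submodule.smul_mono_left (Ideal.pow_le_pow_right hmj) (pow_smul_mem I N b hb j n)
    obtain ⟨L, hL⟩ := IsPrecomplete.prec (inferInstance : IsPrecomplete I N) hf
    refine ⟨L, ?_⟩
    have : (L - b • L) - n = 0 := by
      apply IsHausdorff.haus (inferInstance : IsHausdorff I N)
      intro k
      rw [SModEq.zero]
      have h1 : f k - L ∈ (I ^ k • ⊤ : Submodule R N) := (SModEq.sub_mem).mp (hL k)
      have h2 : (f k - b • f k) = n - b ^ k • n := by
        simp only [f]
        rw [Finset.smul_sum]
        have : ∀ j, b • b ^ j • n = b ^ (j + 1) • n := fun j => by rw [pow_succ', mul_smul]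
        simp only [this]
        rw [← Finset.sum_sub_distrib, Finset.sum_range_sub']
        simp
      have h3 : (L - b • L) - n = -((f k - L) - b • (f k - L)) - b ^ k • n := by
        have h2' : b ^ k • n = n - (f k - b • f k) := by rw [h2]; abel
        rw [smul_sub, h2']
        abel
      rw [h3]
      refine sub_mem (neg_mem (sub_mem h1 (smul_mem_pow I N k b _ h1))) (pow_smul_mem I N b hb k n)
    exact sub_eq_zero.mp this


theorem s1214 [IsAdicComplete I N]
    (M : Type u) [AddCommGroup M] [Module R M]
    (q : Ideal S) [q.IsPrime] (hq : q ∈ FlatCA.ass S (N ⊗[R] M)) :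
    q ⊔ I.map (algebraMap R S) ≠ ⊤ := by
  intro htop
  obtain ⟨hqp, z, hz⟩ := hq
  have h1 : (1 : S) ∈ q ⊔ I.map (algebraMap R S) := by rw [htop]; trivial
  obtain ⟨a, ha, b, hb, hab⟩ := Submodule.mem_sup.mp h1
  have haz : a • z = 0 := by
    rw [hz] at ha
    exact (Submodule.mem_annihilator_span_singleton z a).mp ha
  have hbz : z - b • z = 0 := by
    have : z = (a + b) • z := by rw [hab, one_smul]
    rw [add_smul, haz, zero_add] at this
    exact sub_eq_zero.mpr this
  let φ : N →ₗ[R] N :=
    { toFun := fun n => n - b • n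
      map_add' := fun x y => by rw [smul_add]; abel
      map_smul' := fun r x => by
        rw [RingHom.id_apply, smul_sub, smul_comm b r x] }
  let e : N ≃ₗ[R] N := LinearEquiv.ofBijective φ (bijective_one_sub I N b hb)
  have he : ∀ w : N ⊗[R] M, (e.rTensor M) w = w - b • w := by
    intro w
    induction w using TensorProduct.induction_on with
    | zero => simp
    | tmul n m =>
      rw [LinearEquiv.rTensor_tmul, TensorProduct.smul_tmul', ← TensorProduct.sub_tmul]
      rfl
    | add x y hx hy =>
      rw [map_add, hx, hy, smul_add]; abel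
  have hz0 : z = 0 := by
    have : (e.rTensor M) z = 0 := by rw [he, hbz]
    exact (LinearEquiv.map_eq_zero_iff _).mp this
  apply hqp.ne_top
  rw [hz, hz0]
  rw [Submodule.annihilator_eq_top_iff]
  simp

end Groth.Agent.Helper5.AdicAss
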