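import Groth.Agent.Helper5.GroupCompletion
import Mathlib.RingTheory.Ideal.Operations
import Mathlib.RingTheory.Finiteness.Ideal
import Mathlib.Topology.Algebra.Module.Basic
import Mathlib.Topology.Algebra.InfiniteSum.Module

set_option autoImplicit false
set_option linter.unusedSectionVars false
universe u v w

namespace Groth.Agent.Helper5.GC

open Filter Topology UniformSpace

section Approx

variable {R : Type*} [CommRing R] {X : Type*} [AddCommGroup X] [Module R X]

theorem exists_sum_of_mem_span_range_smul {s : ℕ} (g : Fin s → R) (N : Submodule R X) {z : X}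
    (hz : z ∈ Ideal.span (Set.range g) • N) :
    ∃ a : Fin s → X, (∀ i, a i ∈ N) ∧ z = ∑ i, g i • a i := by
  refine Submodule.smul_induction_on hz ?_ ?_
  · intro r hr n hn
    obtain ⟨c, rfl⟩ := (Ideal.mem_span_range_iff_exists_fun (R := R)).mp hr
    refine ⟨fun i => c i • n, fun i => N.smul_mem _ hn, ?_⟩
    rw [Finset.sum_smul]
    refine Finset.sum_congr rfl (fun i _ => ?_)
    rw [mul_comm, mul_smul]
  · rintro x y ⟨a, ha, rfl⟩ ⟨b, hb, rfl⟩
    refine ⟨fun i => a i + b i, fun i => N.add_mem (ha i) (hb i), ?_⟩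
    rw [← Finset.sum_add_distrib]
    refine Finset.sum_congr rfl (fun i _ => ?_)
    rw [smul_add]

variable [UniformSpace X] [IsUniformAddGroup X] [ContinuousConstSMul R X]
  [NonarchimedeanAddGroup X] [T2Space X] [CompleteSpace X]

theorem closure_span_smul_subset {s : ℕ} (g : Fin s → R) (L : ℕ → Submodule R X)
    (hL0 : ∀ k, L k ≤ L 0)
    (hLtend : ∀ U ∈ 𝓝 (0 : X), ∃ m, ∀ k, m ≤ k → (L k : Set X) ⊆ U)
    (hopen : ∀ k, closure ((Ideal.span (Set.range g) • L k : Submodule R X) : Set X) ∈ 𝓝 (0 : X))
    (htend : ∀ U ∈ 𝓝 (0 : X), ∃ m, ∀ k, m ≤ k →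
      closure ((Ideal.span (Set.range g) • L k : Submodule R X) : Set X) ⊆ U) :
    closure ((Ideal.span (Set.range g) • L 0 : Submodule R X) : Set X) ⊆
      (Ideal.span (Set.range g) • (L 0).topologicalClosure : Submodule R X) := by
  classical
  set J : Ideal R := Ideal.span (Set.range g) with hJ
  intro x hx
  let P : ℕ → X → Prop := fun k y => y ∈ closure ((J • L k : Submodule R X) : Set X)
  have step : ∀ k y, P k y → ∃ (a : Fin s → X) (y' : X),
      (∀ i, a i ∈ L k) ∧ P (k + 1) y' ∧ y = (∑ i, g i • a i) + y' := by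
    intro k y hy
    obtain ⟨z, hz, y', hy', hzy⟩ := exists_add_of_mem_closure_of_mem_nhds (hopen (k + 1)) hy
    obtain ⟨a, ha, rfl⟩ := exists_sum_of_mem_span_range_smul g (L k) hz
    exact ⟨a, y', ha, hy', hzy⟩
  choose fa fy hfa hfy hfeq using step
  have hx0 : P 0 x := hx
  let seq : ∀ k, {y // P k y} := fun k =>
    Nat.rec (motive := fun k => {y // P k y}) ⟨x, hx0⟩ (fun k p => ⟨fy k p.1 p.2, hfy k p.1 p.2⟩) k
  let y : ℕ → X := fun k => (seq k).1
  let a : ℕ → Fin s → X := fun k => fa k (seq k).1 (seq k).2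
  have hy0 : y 0 = x := rfl
  have hstep : ∀ k, y k = (∑ i, g i • a k i) + y (k + 1) := fun k => hfeq k (seq k).1 (seq k).2
  have ha : ∀ k i, a k i ∈ L k := fun k i => hfa k (seq k).1 (seq k).2 i
  have hyP : ∀ k, P k (y k) := fun k => (seq k).2
  have htel : ∀ k, x = (∑ j ∈ Finset.range k, ∑ i, g i • a j i) + y k := by
    intro k
    induction k with
    | zero => simp [hy0]
    | succ k ih =>
      rw [Finset.sum_range_succ, add_assoc, ← hstep k]
      exact ih
  have hy_tend : Tendsto y atTop (𝓝 0) := by
    rw [tendsto_def]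
    intro U hU
    obtain ⟨m, hm⟩ := htend U hU
    rw [mem_atTop_sets]
    exact ⟨m, fun k hk => hm k hk (hyP k)⟩
  have hsum : ∀ i, Summable (fun k => a k i) := by
    intro i
    apply NonarchimedeanAddGroup.summable_of_tendsto_cofinite_zero
    rw [Nat.cofinite_eq_atTop, tendsto_def]
    intro U hU
    obtain ⟨m, hm⟩ := hLtend U hU
    rw [mem_atTop_sets]
    exact ⟨m, fun k hk => hm k hk (ha k i)⟩
  let b : Fin s → X := fun i => ∑' k, a k i
  have hb : ∀ i, HasSum (fun k => a k i) (b i) := fun i => (hsum i).hasSum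
  have hbmem : ∀ i, b i ∈ (L 0).topologicalClosure := by
    intro i
    have hcl : IsClosed (((L 0).topologicalClosure : Submodule R X) : Set X) :=
      (L 0).isClosed_topologicalClosure
    refine hcl.mem_of_tendsto (hb i).tendsto_sum_nat (Filter.Eventually.of_forall fun k => ?_)
    exact (L 0).le_topologicalClosure (Submodule.sum_mem _ (fun j _ => hL0 j (ha j i)))
  have hb2 : HasSum (fun k => ∑ i, g i • a k i) (∑ i, g i • b i) := by
    apply hasSum_sum
    intro i _
    exact (hb i).const_smul (g i)
  have h1 : Tendsto (fun k => ∑ j ∈ Finset.range k, ∑ i, g i • a j i) atTop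
      (𝓝 (∑ i, g i • b i)) := hb2.tendsto_sum_nat
  have h2 : Tendsto (fun k => ∑ j ∈ Finset.range k, ∑ i, g i • a j i) atTop (𝓝 x) := by
    have : (fun k => ∑ j ∈ Finset.range k, ∑ i, g i • a j i) = fun k => x - y k := by
      funext k
      have := htel k
      rw [eq_sub_iff_add_eq]; exact this.symm
    rw [this]
    have := (tendsto_const_nhds (x := x)).sub hy_tend
    simpa using this
  have hxeq : x = ∑ i, g i • b i := tendsto_nhds_unique h2 h1
  rw [hxeq]
  refine Submodule.sum_mem _ (fun i _ => ?_)
  exact Submodule.smul_mem_smul (Ideal.subset_span ⟨i, rfl⟩) (hbmem i)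

end Approx

section AdicCompletion

variable {R : Type u} [CommRing R] (I : Ideal R)
    {M : Type v} [AddCommGroup M] [Module R M] [UniformSpace M] [IsUniformAddGroup M]
    [UniformContinuousConstSMul R M]

/-- The canonical map to the completion as a linear map. -/
noncomputable def toComplₗ : M →ₗ[R] Completion M where
  toFun := fun m => (m : Completion M)
  map_add' := Completion.coe_add
  map_smul' := fun r m => Completion.coe_smul r m

@[simp] theorem toComplₗ_apply (m : M) : (toComplₗ (R := R) m : Completion M) = (m : Completion M) := rfl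

variable (M' : Submodule R M)

/-- closure of the image of `I^n M'` in the completion -/
noncomputable def Cn (n : ℕ) : Submodule R (Completion M) :=
  ((I ^ n • M' : Submodule R M).map (toComplₗ (R := R))).topologicalClosure

theorem Cn_coe (n : ℕ) : (Cn I M' n : Set (Completion M)) =
    closure ((fun m : M => (m : Completion M)) '' ((I ^ n • M' : Submodule R M) : Set M)) := rfl

variable (hopen : ∀ n : ℕ, IsOpen ((I ^ n • M' : Submodule R M) : Set M))
    (hbasis : ∀ U ∈ nhds (0 : M), ∃ n : ℕ, ((I ^ n • M' : Submodule R M) : Set M) ⊆ U)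

include hopen in
theorem Cn_mem_nhds (n : ℕ) : (Cn I M' n : Set (Completion M)) ∈ 𝓝 (0 : Completion M) := by
  rw [Cn_coe]
  exact closure_image_coe_mem_nhds ((hopen n).mem_nhds (Submodule.zero_mem _))

include hopen in
theorem Cn_isOpen (n : ℕ) : IsOpen (Cn I M' n : Set (Completion M)) := by
  have : (Cn I M' n : Set (Completion M)) = ((Cn I M' n).toAddSubgroup : Set (Completion M)) := rfl
  rw [this]
  apply AddSubgroup.isOpen_of_mem_nhds (g := 0)
  exact Cn_mem_nhds I M' hopen n

include hbasis in
theorem Cn_basis {U : Set (Completion M)} (hU : U ∈ 𝓝 (0 : Completion M)) :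
    ∃ n, (Cn I M' n : Set (Completion M)) ⊆ U := by
  obtain ⟨V, hV, hVU⟩ := exists_closure_image_coe_subset hU
  obtain ⟨n, hn⟩ := hbasis V hV
  exact ⟨n, (closure_mono (Set.image_mono hn)).trans hVU⟩

theorem Cn_antitone {m n : ℕ} (h : m ≤ n) : Cn I M' n ≤ Cn I M' m := by
  apply Submodule.topologicalClosure_mono
  apply Submodule.map_mono
  exact Submodule.smul_mono_left (Ideal.pow_le_pow_right h)

include hopen hbasis in
theorem nonarchimedean_of_adic : NonarchimedeanAddGroup M where
  is_nonarchimedean := by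
    intro U hU
    obtain ⟨n, hn⟩ := hbasis U hU
    exact ⟨⟨(I ^ n • M' : Submodule R M).toAddSubgroup, hopen n⟩, hn⟩

theorem smul_Cn_le (n k : ℕ) : I ^ n • Cn I M' k ≤ Cn I M' (n + k) := by
  rw [Submodule.smul_le]
  intro r hr x hx
  have hc : Continuous fun y : Completion M => r • y := continuous_const_smul r
  have hx' : x ∈ closure ((fun m : M => (m : Completion M)) '' ((I ^ k • M' : Submodule R M) : Set M)) := hx
  have : r • x ∈ closure ((fun m : M => (m : Completion M)) '' ((I ^ (n + k) • M' : Submodule R M) : Set M)) := by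
    refine map_mem_closure hc hx' ?_
    rintro _ ⟨m, hm, rfl⟩
    refine ⟨r • m, ?_, Completion.coe_smul r m⟩
    rw [pow_add, mul_smul]
    exact Submodule.smul_mem_smul hr hm
  exact this

include hopen hbasis in
theorem Cn_le_smul (hI : I.FG) (n : ℕ) : Cn I M' n ≤ I ^ n • Cn I M' 0 := by
  have hna : NonarchimedeanAddGroup M := nonarchimedean_of_adic I M' hopen hbasis
  have hfgn : (I ^ n).FG := hI.pow
  obtain ⟨S, hS⟩ := hfgn
  let e := S.equivFin
  let g : Fin S.card → R := fun i => (e.symm i : R)
  have hg : Set.range g = (S : Set R) := by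
    ext z
    constructor
    · rintro ⟨i, rfl⟩; exact (e.symm i).2
    · intro hz; exact ⟨e ⟨z, hz⟩, by simp [g]⟩
  have hJ : Ideal.span (Set.range g) = I ^ n := by rw [hg]; exact hS
  let L : ℕ → Submodule R (Completion M) := fun k => (I ^ k • M' : Submodule R M).map (toComplₗ (R := R))
  have hJL : ∀ k, (Ideal.span (Set.range g) • L k : Submodule R (Completion M)) =
      (I ^ (n + k) • M' : Submodule R M).map (toComplₗ (R := R)) := by
    intro k
    rw [hJ]
    show I ^ n • (I ^ k • M' : Submodule R M).map (toComplₗ (R := R)) = _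
    rw [← Submodule.map_smul'', ← mul_smul, ← pow_add]
  have hcl : ∀ k, closure ((Ideal.span (Set.range g) • L k : Submodule R (Completion M)) : Set (Completion M))
      = (Cn I M' (n + k) : Set (Completion M)) := by
    intro k
    rw [hJL k]; rfl
  have key := closure_span_smul_subset g L ?_ ?_ ?_ ?_
  · intro x hx
    have h0 : (Cn I M' n : Set (Completion M)) =
        closure ((Ideal.span (Set.range g) • L 0 : Submodule R (Completion M)) : Set (Completion M)) := by
      rw [hcl 0]; rfl
    have hx' : x ∈ closure ((Ideal.span (Set.range g) • L 0 : Submodule R (Completion M)) : Set (Completion M)) := by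
      rw [← h0]; exact hx
    have := key hx'
    rw [hJ] at this
    exact this
  · intro k
    apply Submodule.map_mono
    exact Submodule.smul_mono_left (Ideal.pow_le_pow_right (Nat.zero_le k))
  · intro U hU
    obtain ⟨m, hm⟩ := Cn_basis I M' hbasis hU
    refine ⟨m, fun k hk => ?_⟩
    refine (?_ : (L k : Set (Completion M)) ⊆ (Cn I M' m : Set (Completion M))).trans hm
    refine (Submodule.le_topologicalClosure _).trans ?_
    exact Cn_antitone I M' hk
  · intro k
    rw [hcl k]
    exact Cn_mem_nhds I M' hopen _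
  · intro U hU
    obtain ⟨m, hm⟩ := Cn_basis I M' hbasis hU
    refine ⟨m, fun k hk => ?_⟩
    rw [hcl k]
    exact (SetLike.coe_subset_coe.mpr (Cn_antitone I M' (by omega : m ≤ n + k))).trans hm

include hopen hbasis in
theorem Cn_eq_smul (hI : I.FG) (n : ℕ) : Cn I M' n = I ^ n • Cn I M' 0 :=
  le_antisymm (Cn_le_smul I M' hopen hbasis hI n) (by simpa using smul_Cn_le I M' n 0)

end AdicCompletion

end Groth.Agent.Helper5.GC
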