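import Mathlib
import Groth.Prelude.Def_FlatCA

set_option autoImplicit false
universe u
open TensorProduct

namespace Groth.Agent.Helper5.AdicUI

section fg

variable {R : Type u} [CommRing R] {N P : Type u} [AddCommGroup N] [Module R N] [AddCommGroup P]
  [Module R P]

/-- universal injectivity can be tested on finitely generated modules -/
theorem lTensor_injective_of_fg (f : N →ₗ[R] P) (Q : Type u) [AddCommGroup Q] [Module R Q]
    (h : ∀ Q' : Submodule R Q, Q'.FG → Function.Injective (f.lTensor Q')) :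
    Function.Injective (f.lTensor Q) := by
  rw [injective_iff_map_eq_zero]
  intro z hz
  obtain ⟨Q₁, hQ₁, z₁, rfl⟩ := TensorProduct.exists_of_fg z
  have h1 : (Q₁.subtype.rTensor P) (f.lTensor Q₁ z₁) = 0 := by
    rw [← LinearMap.comp_apply, LinearMap.rTensor_comp_lTensor, ← LinearMap.lTensor_comp_rTensor,
      LinearMap.comp_apply]
    exact hz
  obtain ⟨Q₂, hle, hQ₂, h2⟩ := TensorProduct.eq_zero_of_fg_of_subtype_eq_zero hQ₁ h1
  have h3 : f.lTensor Q₂ ((Submodule.inclusion hle).rTensor N z₁) = 0 := by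
    rw [← LinearMap.comp_apply, LinearMap.lTensor_comp_rTensor, ← LinearMap.rTensor_comp_lTensor,
      LinearMap.comp_apply]
    exact h2
  have h4 : (Submodule.inclusion hle).rTensor N z₁ = 0 :=
    (injective_iff_map_eq_zero _).mp (h Q₂ hQ₂) _ h3
  have h5 : Q₁.subtype = Q₂.subtype ∘ₗ Submodule.inclusion hle := rfl
  rw [h5, LinearMap.rTensor_comp, LinearMap.comp_apply, h4, map_zero]

end fg


section lemma1

variable {R : Type u} [CommRing R] (I : Ideal R) {N : Type u} [AddCommGroup N] [Module R N]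
  (Q : Type u) [AddCommGroup Q] [Module R Q]

theorem range_lTensor_subtype_le (J : Ideal R) :
    LinearMap.range ((J • (⊤ : Submodule R N)).subtype.lTensor Q) ≤
      J • (⊤ : Submodule R (Q ⊗[R] N)) := by
  rintro _ ⟨w, rfl⟩
  induction w using TensorProduct.induction_on with
  | zero => rw [map_zero]; exact zero_mem _
  | add x y hx hy => rw [map_add]; exact add_mem hx hy
  | tmul q y =>
    obtain ⟨y, hy⟩ := y
    rw [LinearMap.lTensor_tmul]
    show q ⊗ₜ[R] y ∈ _
    refine Submodule.smul_induction_on hy (fun a ha n _ => ?_) (fun y₁ y₂ h₁ h₂ => ?_)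
    · rw [TensorProduct.tmul_smul]
      exact Submodule.smul_mem_smul ha Submodule.mem_top
    · rw [TensorProduct.tmul_add]
      exact add_mem h₁ h₂

theorem mem_pow_smul_top_of_lTensor_of_eq_zero (z : Q ⊗[R] N)
    (hz : (AdicCompletion.of I N).lTensor Q z = 0) (n : ℕ) :
    z ∈ I ^ n • (⊤ : Submodule R (Q ⊗[R] N)) := by
  apply range_lTensor_subtype_le Q (I ^ n)
  have hex : Function.Exact ((I ^ n • (⊤ : Submodule R N)).subtype.lTensor Q)
      ((I ^ n • (⊤ : Submodule R N)).mkQ.lTensor Q) :=
    lTensor_exact Q (LinearMap.exact_subtype_mkQ _) (Submodule.mkQ_surjective _)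
  rw [LinearMap.mem_range]
  apply (hex z).mp
  have h1 : (I ^ n • (⊤ : Submodule R N)).mkQ = (AdicCompletion.eval I N n).comp
      (AdicCompletion.of I N) := (AdicCompletion.eval_comp_of I N n).symm
  rw [h1, LinearMap.lTensor_comp, LinearMap.comp_apply, hz, map_zero]

end lemma1

section krull

variable {S : Type u} [CommRing S] [IsNoetherianRing S] {P : Type u} [AddCommGroup P] [Module S P]
  [Module.Finite S P]

theorem eq_zero_of_mem_iInf (J : Ideal S)
    (h : ∀ q ∈ associatedPrimes S P, J ⊔ q ≠ ⊤) (x : P)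
    (hx : x ∈ (⨅ n : ℕ, J ^ n • ⊤ : Submodule S P)) : x = 0 := by
  obtain ⟨r, hr⟩ := (Ideal.mem_iInf_smul_pow_eq_bot_iff J x).mp hx
  by_contra hx0
  haveI : Nontrivial (Submodule.span S {x}) :=
    ⟨⟨⟨x, Submodule.mem_span_singleton_self x⟩, 0, fun h0 => hx0 (congrArg Subtype.val h0)⟩⟩
  obtain ⟨q, hq⟩ := associatedPrimes.nonempty S (Submodule.span S {x})
  have hqP : q ∈ associatedPrimes S P :=
    associatedPrimes.subset_of_injective (f := (Submodule.span S {x}).subtype)
      (Submodule.injective_subtype _) hq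
  apply h q hqP
  obtain ⟨hprime, y, hy⟩ := hq
  have h1 : (1 - (r : S)) ∈ q := by
    rw [hy]
    apply Ideal.le_radical
    rw [Submodule.mem_colon_singleton, Submodule.mem_bot]
    obtain ⟨y, hyx⟩ := y
    obtain ⟨s, rfl⟩ := Submodule.mem_span_singleton.mp hyx
    apply Subtype.ext
    show (1 - (r : S)) • (s • x) = 0
    rw [smul_comm, sub_smul, one_smul, hr, sub_self, smul_zero]
  rw [Ideal.eq_top_iff_one]
  have : (1 : S) = (r : S) + (1 - (r : S)) := by ring
  rw [this]
  exact Submodule.add_mem_sup r.2 h1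

end krull


section main

variable {R S : Type u} [CommRing R] [CommRing S] [Algebra R S]

theorem finite_tensor (N : Type u) [AddCommGroup N] [Module S N] [Module R N] [IsScalarTower R S N]
    [Module.Finite S N] (Q : Type u) [AddCommGroup Q] [Module R Q] [Module.Finite R Q] :
    Module.Finite S (N ⊗[R] Q) := by
  obtain ⟨k, π, hπ⟩ := Module.Finite.exists_fin' R Q
  let g : N ⊗[R] (Fin k → R) →ₗ[S] N ⊗[R] Q := TensorProduct.AlgebraTensorModule.lTensor S N π
  have hg : Function.Surjective g := LinearMap.lTensor_surjective N hπ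
  haveI : Module.Finite S (N ⊗[R] (Fin k → R)) :=
    Module.Finite.equiv (TensorProduct.piScalarRight R S N (Fin k)).symm
  exact Module.Finite.of_surjective g hg

theorem pow_smul_top_le {P : Type u} [AddCommGroup P] [Module S P] [Module R P]
    [IsScalarTower R S P] (I : Ideal R) (n : ℕ) (x : P)
    (hx : x ∈ I ^ n • (⊤ : Submodule R P)) :
    x ∈ (I.map (algebraMap R S)) ^ n • (⊤ : Submodule S P) := by
  refine Submodule.smul_induction_on hx (fun a ha y _ => ?_) (fun y₁ y₂ h₁ h₂ => add_mem h₁ h₂)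
  rw [← algebraMap_smul S a y]
  refine Submodule.smul_mem_smul ?_ Submodule.mem_top
  rw [← Ideal.map_pow]
  exact Ideal.mem_map_of_mem _ ha

theorem s1199 [IsNoetherianRing R] [IsNoetherianRing S] (I : Ideal R)
    (N : Type u) [AddCommGroup N] [Module S N] [Module R N] [IsScalarTower R S N] [Module.Finite S N]
    (h : ∀ (Q : Type u) [AddCommGroup Q] [Module R Q], Module.Finite R Q →
      ∀ q ∈ associatedPrimes S (N ⊗[R] Q), I.map (algebraMap R S) ⊔ q ≠ ⊤) :
    FlatCA.UnivInj R (AdicCompletion.of I N) := by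
  intro Q _ _
  apply lTensor_injective_of_fg
  intro Q' hQ'
  haveI : Module.Finite R Q' := Module.Finite.iff_fg.mpr hQ'
  haveI : Module.Finite S (N ⊗[R] Q') := finite_tensor N Q'
  rw [injective_iff_map_eq_zero]
  intro z hz
  have h1 := mem_pow_smul_top_of_lTensor_of_eq_zero I Q' z hz
  have h2 : ∀ n, (TensorProduct.comm R Q' N) z ∈
      (I.map (algebraMap R S)) ^ n • (⊤ : Submodule S (N ⊗[R] Q')) := by
    intro n
    apply pow_smul_top_le I n
    have h3 : (TensorProduct.comm R Q' N) z ∈
        (I ^ n • (⊤ : Submodule R (Q' ⊗[R] N))).map (TensorProduct.comm R Q' N).toLinearMap :=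
      Submodule.mem_map_of_mem (h1 n)
    rw [Submodule.map_smul''] at h3
    exact Submodule.smul_mono le_rfl le_top h3
  have h4 : (TensorProduct.comm R Q' N) z = 0 :=
    eq_zero_of_mem_iInf (I.map (algebraMap R S)) (h Q' inferInstance) _
      ((Submodule.mem_iInf _).mpr h2)
  exact (TensorProduct.comm R Q' N).map_eq_zero_iff.mp h4

end main

end Groth.Agent.Helper5.AdicUI
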