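import Mathlib
import Groth.Prelude.Def_FlatCA
import Groth.Agent.Helper5.AdicUI1

set_option autoImplicit false
universe u
open TensorProduct

namespace Groth.Agent.Helper5.AdicUI

section general

variable {R S : Type u} [CommRing R] [CommRing S] [Algebra R S]
  (J : Ideal S) (N : Type u) [AddCommGroup N] [Module S N] [Module R N] [IsScalarTower R S N]

/-- elements of `Q ⊗ K`, `K ≤ J N`, land in `J (N ⊗ Q)` after swapping. -/
theorem comm_range_lTensor_le (Q : Type u) [AddCommGroup Q] [Module R Q]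
    (K : Submodule R N) (hK : ∀ x ∈ K, x ∈ J • (⊤ : Submodule S N)) (w : Q ⊗[R] K) :
    (TensorProduct.comm R Q N) (K.subtype.lTensor Q w) ∈ J • (⊤ : Submodule S (N ⊗[R] Q)) := by
  induction w using TensorProduct.induction_on with
  | zero => rw [map_zero, map_zero]; exact zero_mem _
  | add x y hx hy => rw [map_add, map_add]; exact add_mem hx hy
  | tmul q y =>
    obtain ⟨y, hy⟩ := y
    rw [LinearMap.lTensor_tmul]
    show (TensorProduct.comm R Q N) (q ⊗ₜ[R] y) ∈ _
    rw [TensorProduct.comm_tmul]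
    refine Submodule.smul_induction_on (hK y hy) (fun a ha n _ => ?_) (fun y₁ y₂ h₁ h₂ => ?_)
    · rw [← TensorProduct.smul_tmul']
      exact Submodule.smul_mem_smul ha Submodule.mem_top
    · rw [TensorProduct.add_tmul]
      exact add_mem h₁ h₂

variable [IsNoetherianRing R] [IsNoetherianRing S] [Module.Finite S N]

theorem univInj_of_truncations
    (hAss : ∀ (Q : Type u) [AddCommGroup Q] [Module R Q], Module.Finite R Q →
      ∀ q ∈ associatedPrimes S (N ⊗[R] Q), J ⊔ q ≠ ⊤)
    {Nh : Type u} [AddCommGroup Nh] [Module R Nh] (φ : N →ₗ[R] Nh)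
    (htr : ∀ n : ℕ, ∃ (T : Type u) (_ : AddCommGroup T) (_ : Module R T) (ψ : Nh →ₗ[R] T),
      Function.Surjective (ψ ∘ₗ φ) ∧ ∀ x, ψ (φ x) = 0 → x ∈ J ^ n • (⊤ : Submodule S N)) :
    FlatCA.UnivInj R φ := by
  intro Q _ _
  apply lTensor_injective_of_fg
  intro Q' hQ'
  haveI : Module.Finite R Q' := Module.Finite.iff_fg.mpr hQ'
  haveI : Module.Finite S (N ⊗[R] Q') := finite_tensor N Q'
  rw [injective_iff_map_eq_zero]
  intro z hz
  have h2 : ∀ n, (TensorProduct.comm R Q' N) z ∈ J ^ n • (⊤ : Submodule S (N ⊗[R] Q')) := by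
    intro n
    obtain ⟨T, _, _, ψ, hsurj, hker⟩ := htr n
    set π : N →ₗ[R] T := ψ ∘ₗ φ with hπ
    have hex : Function.Exact ((LinearMap.ker π).subtype.lTensor Q') (π.lTensor Q') :=
      lTensor_exact Q' (LinearMap.exact_subtype_ker_map π) hsurj
    have h3 : π.lTensor Q' z = 0 := by
      rw [hπ, LinearMap.lTensor_comp, LinearMap.comp_apply, hz, map_zero]
    obtain ⟨w, rfl⟩ := (hex z).mp h3
    exact comm_range_lTensor_le (J ^ n) N Q' (LinearMap.ker π)
      (fun x hx => hker x (LinearMap.mem_ker.mp hx)) w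
  have h4 : (TensorProduct.comm R Q' N) z = 0 :=
    eq_zero_of_mem_iInf J (hAss Q' inferInstance) _ ((Submodule.mem_iInf _).mpr h2)
  exact (TensorProduct.comm R Q' N).map_eq_zero_iff.mp h4

end general

end Groth.Agent.Helper5.AdicUI
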