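import Mathlib
import Groth.Prelude.Def_FlatCA
import Groth.Agent.Helper5.Pure1

set_option autoImplicit false
universe u
open TensorProduct CategoryTheory
namespace Groth.Agent.Helper5.Pure
attribute [local instance] Algebra.TensorProduct.rightAlgebra

variable {A B : Type u} [CommRing A] [CommRing B] [Algebra A B]

theorem isDomain_of_isPushout (h : FlatCA.GeomIntegralFibres A B) (K T : Type u) [Field K]
    [CommRing T] [Algebra A K] [Algebra A T] [Algebra B T] [Algebra K T] [IsScalarTower A B T]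
    [IsScalarTower A K T] (hpo : Algebra.IsPushout A B K T) : IsDomain T := by
  have h1 := (CommRingCat.isPushout_iff_isPushout (R := A) (R' := B) (S := K) (S' := T)).mpr hpo
  have h2 := AlgebraicGeometry.isPullback_SpecMap_of_isPushout _ _ _ _ h1
  have h3 : AlgebraicGeometry.IsIntegral (AlgebraicGeometry.Spec (CommRingCat.of T)) :=
    h.geometrically_isIntegral _ _ _ h2
  exact (AlgebraicGeometry.affine_isIntegral_iff (CommRingCat.of T)).mp h3

theorem isDomain_tensor (h : FlatCA.GeomIntegralFibres A B) (K : Type u) [Field K]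
    [Algebra A K] : IsDomain (K ⊗[A] B) :=
  isDomain_of_isPushout h K (K ⊗[A] B) TensorProduct.isPushout'

variable {A' B' : Type u} [CommRing A'] [CommRing B'] [Algebra A A'] [Algebra B B']
    [Algebra A' B'] [Algebra A B'] [IsScalarTower A B B'] [IsScalarTower A A' B']

theorem isDomain_fiber (h : FlatCA.GeomIntegralFibres A B) (hpo : Algebra.IsPushout A B A' B')
    (t' : Ideal A') [t'.IsPrime] : IsDomain (t'.Fiber B') := by
  haveI : Algebra.IsPushout A A' B B' := hpo.symm
  let e1 : B' ≃ₐ[A'] A' ⊗[A] B := (Algebra.IsPushout.equiv A A' B B').symm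
  let e2 : t'.ResidueField ⊗[A'] B' ≃ₐ[A'] t'.ResidueField ⊗[A'] (A' ⊗[A] B) :=
    Algebra.TensorProduct.congr AlgEquiv.refl e1
  let e3 := Algebra.TensorProduct.cancelBaseChange A A' A' t'.ResidueField B
  haveI := isDomain_tensor h t'.ResidueField
  exact (e2.toRingEquiv.trans e3.toRingEquiv).toMulEquiv.isDomain (t'.ResidueField ⊗[A] B)


/-- In a domain, the only associated prime of a module isomorphic to the ring is zero. -/
theorem eq_bot_of_mem_associatedPrimes_of_equiv {F M : Type u} [CommRing F] [IsDomain F]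
    [AddCommGroup M] [Module F M] (e : M ≃ₗ[F] F) (r : Ideal F)
    (hr : r ∈ associatedPrimes F M) : r = ⊥ := by
  obtain ⟨hprime, m, hm⟩ := hr
  have hm0 : m ≠ 0 := by
    rintro rfl
    apply hprime.ne_top
    rw [hm, Ideal.radical_eq_top, Ideal.eq_top_iff_one, Submodule.mem_colon_singleton]
    simp
  have hcol : (⊥ : Submodule F M).colon {m} = ⊥ := by
    rw [eq_bot_iff]
    intro x hx
    rw [Submodule.mem_colon_singleton, Submodule.mem_bot] at hx
    have h1 : x * e m = 0 := by
      rw [← smul_eq_mul, ← map_smul, hx, map_zero]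
    rcases mul_eq_zero.mp h1 with h | h
    · exact h
    · exact absurd (e.map_eq_zero_iff.mp h) hm0
  rw [hm, hcol]
  exact Ideal.radical_bot_of_noZeroDivisors

section main

variable {A' B' N' : Type u} [CommRing A'] [CommRing B'] [Algebra A A'] [Algebra B B']
    [Algebra A' B'] [Algebra A B'] [IsScalarTower A B B'] [IsScalarTower A A' B']
    [AddCommGroup N'] [Module B' N'] [Module B N'] [IsScalarTower B B' N'] [Module A' N']
    [IsScalarTower A' B' N']

/-- the fibre module of a base change of the ring itself is the fibre ring. -/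
noncomputable def fiberModEquiv (f : B →ₗ[B] N') (hf : IsBaseChange B' f) (t' : Ideal A')
    [t'.IsPrime] : FlatCA.fiberMod t' B' N' ≃ₗ[t'.Fiber B'] t'.Fiber B' :=
  let e1 : B' ⊗[B] B ≃ₗ[B'] N' := hf.equiv
  let e2 : B' ⊗[B] B ≃ₗ[B'] B' := TensorProduct.AlgebraTensorModule.rid B B' B'
  let e3 : (t'.Fiber B') ⊗[B'] N' ≃ₗ[t'.Fiber B'] (t'.Fiber B') ⊗[B'] B' :=
    TensorProduct.AlgebraTensorModule.congr (LinearEquiv.refl _ _) (e1.symm.trans e2)
  e3.trans (TensorProduct.AlgebraTensorModule.rid B' (t'.Fiber B') (t'.Fiber B'))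

theorem not_isImpurity_of_geomIntegral [Module.Flat A B] (h : FlatCA.GeomIntegralFibres A B)
    (p : Ideal A) [p.IsPrime]
    (f : B →ₗ[B] N') (t' t : Ideal A') [t'.IsPrime] [t.IsPrime]
    (P : Ideal B') [P.IsPrime] : ¬ FlatCA.IsImpurity A B B p A' B' N' f t' t P := by
  rintro ⟨hpo, hbc, hle, -, hPt', hass, hno⟩
  haveI := isDomain_fiber h hpo t'
  haveI := isDomain_fiber h hpo t
  -- the fibre ideal of `P` is zero
  have hP0 : FlatCA.fiberIdeal t' P = ⊥ :=
    eq_bot_of_mem_associatedPrimes_of_equiv (fiberModEquiv f hbc t') _ hass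
  -- a point of the fibre over `t`
  obtain ⟨𝔮, h𝔮⟩ := Ideal.exists_maximal (t.Fiber B')
  haveI : 𝔮.IsPrime := h𝔮.isPrime
  obtain ⟨Q₀, hQ₀prime, hQ₀t⟩ : ∃ Q₀ : Ideal B', Q₀.IsPrime ∧ Q₀.LiesOver t :=
    ⟨_, ((PrimeSpectrum.primesOverOrderIsoFiber A' B' t).symm ⟨𝔮, inferInstance⟩).2⟩
  -- going down
  haveI : Module.Flat A' B' := Module.Flat.isBaseChange (R := A) (S := A') (M := B) B' hpo.symm.out
  obtain ⟨Q', hQ'le, hQ'prime, hQ't'⟩ :=
    Ideal.exists_ideal_le_liesOver_of_le (p := t') (q := t) Q₀ hle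
  refine hno Q₀ ?_ hQ₀t
  intro x hx
  apply hQ'le
  apply mem_of_tmul_mem_fiberIdeal t' Q'
  have h1 : (1 : t'.ResidueField) ⊗ₜ[A'] x ∈ FlatCA.fiberIdeal t' P := Ideal.mem_map_of_mem _ hx
  rw [hP0, Ideal.mem_bot] at h1
  rw [h1]
  exact Ideal.zero_mem _

end main

theorem s1223 [Module.Flat A B] (h : FlatCA.GeomIntegralFibres A B) : FlatCA.IsUnivPure A B B := by
  intro p _ A' B' N' _ _ _ _ _ _ _ _ _ _ _ _ _ _ f t' t _ _ P _
  exact not_isImpurity_of_geomIntegral h p f t' t P

end Groth.Agent.Helper5.Pure
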