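import Mathlib
import Groth.Prelude.Def_FlatCA
import Groth.Agent.Helper5.AdicUI2
import Groth.Agent.Helper5.FlatAss1
import Groth.Agent.Helper5.Pure2

set_option autoImplicit false
universe u
open TensorProduct

namespace Groth.Agent.Helper5.AdicUI

attribute [local instance] Algebra.TensorProduct.rightAlgebra

theorem s17619 (A : Type u) [CommRing A]
    [IsNoetherianRing A] (B : Type u) [CommRing B] [Algebra A B] [Algebra.Smooth A B]
    (hfib : FlatCA.GeomIntegralFibres A B) (u : B →ₐ[A] A)
    (Bh : Type u) [CommRing Bh] [Algebra B Bh] [Algebra A Bh] [IsScalarTower A B Bh]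
    (hq : ∀ n : ℕ, Function.Bijective (Ideal.quotientMap ((RingHom.ker u ^ n).map (algebraMap B Bh))
      (algebraMap B Bh) Ideal.le_comap_map)) :
    FlatCA.UnivInj A (IsScalarTower.toAlgHom A B Bh).toLinearMap := by
  haveI : IsNoetherianRing B := Algebra.FiniteType.isNoetherianRing A B
  apply univInj_of_truncations (R := A) (S := B) (RingHom.ker u) B
  · -- the associated primes condition
    intro Q _ _ hQ q hqass
    obtain ⟨p, hp, hqprime, hover, hass⟩ :=
      FlatAss.exists_fiberIdeal_mem_associatedPrimes B Q hQ q hqass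
    haveI : IsDomain (p.Fiber B) := Pure.isDomain_tensor hfib p.ResidueField
    have hbot : FlatCA.fiberIdeal p q = ⊥ :=
      Pure.eq_bot_of_mem_associatedPrimes_of_equiv
        (TensorProduct.AlgebraTensorModule.rid B (p.Fiber B) (p.Fiber B)) _ hass
    -- the prime `u⁻¹ p`
    let q' : Ideal B := p.comap u.toRingHom
    haveI : q'.IsPrime := Ideal.comap_isPrime _ _
    haveI : q'.LiesOver p := by
      constructor
      ext a
      rw [Ideal.under_def, Ideal.mem_comap, Ideal.mem_comap]
      show a ∈ p ↔ u (algebraMap A B a) ∈ p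
      rw [u.commutes]
      rfl
    have h1 : q ≤ q' := by
      intro x hx
      apply Pure.mem_of_tmul_mem_fiberIdeal p q'
      have h2 : (1 : p.ResidueField) ⊗ₜ[A] x ∈ FlatCA.fiberIdeal p q := Ideal.mem_map_of_mem _ hx
      rw [hbot, Ideal.mem_bot] at h2
      rw [h2]
      exact Ideal.zero_mem _
    have h2 : RingHom.ker u ≤ q' := by
      intro x hx
      rw [RingHom.mem_ker] at hx
      show u x ∈ p
      rw [hx]
      exact p.zero_mem
    intro htop
    exact (inferInstance : q'.IsPrime).ne_top (top_le_iff.mp (htop ▸ sup_le h2 h1))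
  · -- truncations
    intro n
    refine ⟨Bh ⧸ (RingHom.ker u ^ n).map (algebraMap B Bh), inferInstance, inferInstance,
      (Ideal.Quotient.mkₐ A _).toLinearMap, ?_, ?_⟩
    · intro y
      obtain ⟨x, rfl⟩ := (hq n).2 y
      obtain ⟨b, rfl⟩ := Ideal.Quotient.mk_surjective x
      exact ⟨b, rfl⟩
    · intro x hx
      have h1 : Ideal.quotientMap ((RingHom.ker u ^ n).map (algebraMap B Bh))
          (algebraMap B Bh) Ideal.le_comap_map (Ideal.Quotient.mk _ x) = 0 := hx
      have h2 := (injective_iff_map_eq_zero _).mp (hq n).1 _ h1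
      rw [Ideal.Quotient.eq_zero_iff_mem] at h2
      rw [smul_eq_mul, Ideal.mul_top]
      exact h2

end Groth.Agent.Helper5.AdicUI
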