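import Mathlib

/-!
# A flat quotient of a Noetherian local algebra with the same closed fibre is an isomorphism
-/

set_option autoImplicit false
set_option linter.style.haveILetI false
universe u

namespace Groth.Agent.Helper5.AdmComp

open TensorProduct

/-- Let `π : B → B'` be a surjection of `A`-algebras with `B` Noetherian and `B'` flat over `A`,
and `𝔪` an ideal of `A` with `𝔪 B` in the Jacobson radical of `B` and `ker π ⊆ 𝔪 B`. Then `π` is
injective. -/
theorem injective_of_flat_quotient {A B B' : Type u} [CommRing A] [CommRing B] [CommRing B']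
    [Algebra A B] [Algebra A B'] [IsNoetherianRing B] (π : B →ₐ[A] B')
    (hπ : Function.Surjective π) [Module.Flat A B'] (𝔪 : Ideal A)
    (hjac : 𝔪.map (algebraMap A B) ≤ Ideal.jacobson ⊥)
    (hker : RingHom.ker (π : B →+* B') ≤ 𝔪.map (algebraMap A B)) : Function.Injective π := by
  classical
  let K : Ideal B := RingHom.ker (π : B →+* B')
  suffices hK : K = ⊥ from (RingHom.injective_iff_ker_eq_bot (π : B →+* B')).2 hK
  have hfg : (K : Submodule B B).FG := IsNoetherian.noetherian K
  refine Submodule.eq_bot_of_le_smul_of_le_jacobson_bot (𝔪.map (algebraMap A B)) K hfg ?_ hjac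
  intro k hk
  -- the multiplication maps
  let μB : 𝔪 ⊗[A] B →ₗ[A] B := TensorProduct.lift ((LinearMap.lsmul A B).comp 𝔪.subtype)
  let μB' : 𝔪 ⊗[A] B' →ₗ[A] B' := TensorProduct.lift ((LinearMap.lsmul A B').comp 𝔪.subtype)
  have hμB : ∀ (a : 𝔪) (b : B), μB (a ⊗ₜ b) = (a : A) • b := fun a b => by
    simp [μB]
  have hμB' : ∀ (a : 𝔪) (b : B'), μB' (a ⊗ₜ b) = (a : A) • b := fun a b => by
    simp [μB']
  -- every element of `𝔪 B` is in the range of `μB`
  have hrange : ∀ k ∈ 𝔪.map (algebraMap A B), ∃ τ, μB τ = k := by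
    intro k hk
    refine Submodule.span_induction (p := fun k _ => ∃ τ, μB τ = k) ?_ ?_ ?_ ?_ hk
    · rintro _ ⟨a, ha, rfl⟩
      refine ⟨(⟨a, ha⟩ : 𝔪) ⊗ₜ (1 : B), ?_⟩
      rw [hμB, Algebra.smul_def, mul_one]
    · exact ⟨0, map_zero _⟩
    · rintro x y - - ⟨τ₁, h₁⟩ ⟨τ₂, h₂⟩
      exact ⟨τ₁ + τ₂, by rw [map_add, h₁, h₂]⟩
    · rintro b x - ⟨τ, hτ⟩
      refine ⟨(LinearMap.lTensor 𝔪 (LinearMap.mulLeft A b)) τ, ?_⟩
      have hcomm : μB.comp (LinearMap.lTensor 𝔪 (LinearMap.mulLeft A b)) =
          (LinearMap.mulLeft A b).comp μB := by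
        apply TensorProduct.ext'
        intro a b'
        simp only [LinearMap.comp_apply, LinearMap.lTensor_tmul, LinearMap.mulLeft_apply, hμB]
        rw [mul_smul_comm]
      have := LinearMap.congr_fun hcomm τ
      simp only [LinearMap.comp_apply, LinearMap.mulLeft_apply] at this
      rw [this, hτ, smul_eq_mul]
  obtain ⟨τ, hτ⟩ := hrange k (hker hk)
  -- naturality
  have hnat : μB'.comp (LinearMap.lTensor 𝔪 π.toLinearMap) = π.toLinearMap.comp μB := by
    apply TensorProduct.ext'
    intro a b
    simp only [LinearMap.comp_apply, LinearMap.lTensor_tmul, AlgHom.toLinearMap_apply, hμB, hμB']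
    rw [map_smul]
  -- injectivity of `μB'`
  have hinj : Function.Injective μB' := by
    have h1 : Function.Injective (LinearMap.rTensor B' 𝔪.subtype) :=
      Module.Flat.rTensor_preserves_injective_linearMap 𝔪.subtype 𝔪.injective_subtype
    have h2 : μB' = (TensorProduct.lid A B').toLinearMap.comp (LinearMap.rTensor B' 𝔪.subtype) := by
      apply TensorProduct.ext'
      intro a b
      simp only [LinearMap.comp_apply, LinearMap.rTensor_tmul, LinearEquiv.coe_coe,
        Submodule.subtype_apply, TensorProduct.lid_tmul, hμB']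
    rw [h2]
    exact (TensorProduct.lid A B').injective.comp h1
  have hσ : (LinearMap.lTensor 𝔪 π.toLinearMap) τ = 0 := by
    apply hinj
    have := LinearMap.congr_fun hnat τ
    simp only [LinearMap.comp_apply, AlgHom.toLinearMap_apply] at this
    rw [this, hτ, map_zero]
    exact hk
  -- exactness
  let ι : LinearMap.ker π.toLinearMap →ₗ[A] B := (LinearMap.ker π.toLinearMap).subtype
  have hex : Function.Exact ι π.toLinearMap := LinearMap.exact_subtype_ker_map π.toLinearMap
  have hex' := lTensor_exact 𝔪 hex hπ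
  obtain ⟨τ', hτ'⟩ := (hex' τ).1 hσ
  have hgen : ∀ τ' : 𝔪 ⊗[A] LinearMap.ker π.toLinearMap,
      μB ((LinearMap.lTensor 𝔪 ι) τ') ∈ 𝔪.map (algebraMap A B) • (K : Submodule B B) := by
    intro τ'
    induction τ' using TensorProduct.induction_on with
    | zero => simp
    | tmul a k' =>
      rw [LinearMap.lTensor_tmul, hμB]
      have hk' : ι k' ∈ K := k'.2
      have e : ((a : A) • ι k' : B) = algebraMap A B a • ι k' := by
        rw [smul_eq_mul, Algebra.smul_def]
      rw [e]
      exact Submodule.smul_mem_smul (Ideal.mem_map_of_mem (algebraMap A B) a.2) hk'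
    | add x y hx hy =>
      rw [map_add, map_add]
      exact Submodule.add_mem _ hx hy
  rw [← hτ, ← hτ']
  exact hgen τ'

end Groth.Agent.Helper5.AdmComp
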