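import Mathlib
import Groth.Prelude
import Groth.Agent.Helper5.UOFlat8
import Groth.Agent.Helper5.UniComp1

/-!
# Geometric reducedness of the fibre passes to a closed subscheme at a maximal point of the fibre
-/

set_option autoImplicit false
set_option linter.style.haveILetI false
universe u

namespace Groth.Agent.Helper5.AdmComp

open IsLocalRing AlgebraicGeometry CategoryTheory CategoryTheory.Limits
  Groth.Agent.Helper5.UOFlat Groth.Agent.Helper5.UniComp

set_option maxHeartbeats 1000000 in
theorem geomReducedAt_of_closedImmersion {T X Y : Scheme.{u}} (j : T ⟶ X) [IsClosedImmersion j]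
    (f : X ⟶ Y) (t : T)
    (hmax : ∀ x' : X, x' ⤳ j t → f x' = f (j t) → x' = j t)
    (hred : FBase.IsGeomReducedAt (f.fiberToSpecResidueField (f (j t))) (f.asFiber (j t))) :
    FBase.IsGeomReducedAt ((j ≫ f).fiberToSpecResidueField ((j ≫ f) t)) ((j ≫ f).asFiber t) := by
  let x : X := j t
  let y : Y := f x
  let k := ResidueField (Y.presheaf.stalk y)
  let B := X.presheaf.stalk x
  let B' := T.presheaf.stalk t
  let Sf := (f.fiber y).presheaf.stalk (f.asFiber x)
  let Sg := ((j ≫ f).fiber ((j ≫ f) t)).presheaf.stalk ((j ≫ f).asFiber t)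
  let σf : B →+* Sf := (fibStalkMap f x).hom
  let σg : B' →+* Sg := (fibStalkMap (j ≫ f) t).hom
  let jS : B →+* B' := (j.stalkMap t).hom
  let φf : k →+* Sf := fibStr f x
  let φg : k →+* Sg := fibStr (j ≫ f) t
  have hjS : Function.Surjective jS := j.stalkMap_surjective t
  have hσf : Function.Surjective σf := fibStalkMap_surjective f x
  have hσg : Function.Surjective σg := fibStalkMap_surjective (j ≫ f) t
  have hcomp : ∀ a : Y.presheaf.stalk y,
      ((j ≫ f).stalkMap t).hom a = jS ((f.stalkMap x).hom a) := by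
    intro a
    rw [Scheme.Hom.stalkMap_comp]
    rfl
  letI : Algebra k Sf := φf.toAlgebra
  have hgrf : Algebra.IsGeometricallyReduced k Sf :=
    (Groth.Agent.Helper4.GeomRedPt.geomReducedAt_iff_stalk _ _ φf (specMap_fibStr f x)).1 hred
  haveI : _root_.IsReduced Sf := Algebra.isReduced_of_isGeometricallyReduced k
  -- `Sf` is a field
  have hfibmax : ∀ w' : ↥(f.fiber y), w' ⤳ f.asFiber x → w' = f.asFiber x := by
    intro w' hw'
    have h2 : (f.fiberι y) w' ⤳ x := by
      have := hw'.map (f.fiberι y).continuous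
      rwa [Scheme.Hom.fiberι_asFiber] at this
    have h3 : f ((f.fiberι y) w') = f x := Groth.Agent.Helper5.FibStalk.fiberι_apply f y w'
    have h4 := hmax _ h2 h3
    apply (f.fiberι y).isEmbedding.injective
    rw [h4, Scheme.Hom.fiberι_asFiber]
  have hfield : IsField Sf := isField_stalk_of_max (f.asFiber x) hfibmax inferInstance
  -- the induced map `Sf → Sg`
  have hker : ∀ b : B, b ∈ RingHom.ker σf → (σg.comp jS) b = 0 := by
    intro b hb
    rw [ker_fibStalkMap] at hb
    have hle : Ideal.map (f.stalkMap x).hom (maximalIdeal (Y.presheaf.stalk y)) ≤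
        (RingHom.ker σg).comap jS := by
      rw [Ideal.map_le_iff_le_comap]
      intro a ha
      show jS ((f.stalkMap x).hom a) ∈ RingHom.ker σg
      rw [ker_fibStalkMap, ← hcomp a]
      exact Ideal.mem_map_of_mem _ ha
    exact hle hb
  let e : B ⧸ RingHom.ker σf ≃+* Sf := RingHom.quotientKerEquivOfSurjective hσf
  let ψ₀ : B ⧸ RingHom.ker σf →+* Sg := Ideal.Quotient.lift _ (σg.comp jS) hker
  let ψ : Sf →+* Sg := ψ₀.comp (e.symm : Sf →+* B ⧸ RingHom.ker σf)
  have hψ : ∀ b : B, ψ (σf b) = σg (jS b) := by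
    intro b
    have h1 : e.symm (σf b) = Ideal.Quotient.mk _ b := by
      rw [RingEquiv.symm_apply_eq]
      rfl
    show ψ₀ (e.symm (σf b)) = _
    rw [h1]
    rfl
  have hψsurj : Function.Surjective ψ := by
    intro s
    obtain ⟨b', rfl⟩ := hσg s
    obtain ⟨b, rfl⟩ := hjS b'
    exact ⟨σf b, hψ b⟩
  letI : Field Sf := hfield.toField
  have hψinj : Function.Injective ψ := RingHom.injective ψ
  letI : Algebra k Sg := φg.toAlgebra
  have hψalg : ∀ c : k, ψ (algebraMap k Sf c) = algebraMap k Sg c := by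
    intro c
    obtain ⟨a, rfl⟩ := residue_surjective c
    have h1 : φf (residue _ a) = σf ((f.stalkMap x).hom a) :=
      congrArg (fun φ : Y.presheaf.stalk y →+* Sf => φ a) (fibStr_comp f x)
    have h2 : φg (residue _ a) = σg (((j ≫ f).stalkMap t).hom a) :=
      congrArg (fun φ : Y.presheaf.stalk y →+* Sg => φ a) (fibStr_comp (j ≫ f) t)
    show ψ (φf (residue _ a)) = φg (residue _ a)
    rw [h1, hψ, h2, hcomp a]
  let ψa : Sf ≃ₐ[k] Sg := AlgEquiv.ofBijective { ψ with commutes' := hψalg } ⟨hψinj, hψsurj⟩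
  refine (Groth.Agent.Helper4.GeomRedPt.geomReducedAt_iff_stalk _ _ φg
    (specMap_fibStr (j ≫ f) t)).2 ?_
  exact Algebra.IsGeometricallyReduced.of_injective ψa.symm.toAlgHom ψa.symm.injective

end Groth.Agent.Helper5.AdmComp
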