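import Mathlib
import Groth.Agent.Helper5.UOFlat1
import Groth.Agent.Helper5.UOFlat12

/-!
# Flat with reduced closed fibre: every minimal prime lies under a generic point of the fibre
-/

set_option autoImplicit false
set_option linter.style.haveILetI false
universe u

namespace Groth.Agent.Helper5.EqRed

open TensorProduct IsLocalRing Groth.Agent.Helper5.UOFlat

section

variable {A C A' B : Type u} [CommRing A] [CommRing C] [Algebra A C] [CommRing A'] [CommRing B]
  [IsLocalRing A'] [IsLocalRing B] [Algebra A A'] [Algebra C B] [Algebra A B] [IsScalarTower A C B]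
  [Algebra A' B] [IsScalarTower A A' B] [IsLocalHom (algebraMap A' B)]
  (q : Ideal C) [q.IsPrime] [IsLocalization.AtPrime B q]
  (p : Ideal A) [p.IsPrime] [IsLocalization.AtPrime A' p]

include p in
/-- chart form: a minimal prime `q₀ ≤ q` of `C` lies under a prime `q' ≤ q` over `p` which is
minimal among the primes over `p`. -/
theorem exists_fibre_generic_above [IsNoetherianRing B] [Module.Flat A' B]
    (hqp : q.comap (algebraMap A C) = p)
    (hredB : IsReduced (B ⧸ (maximalIdeal A').map (algebraMap A' B)))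
    (q₀ : Ideal C) [hq₀ : q₀.IsPrime] (hq₀q : q₀ ≤ q)
    (hq₀min : ∀ q'' : Ideal C, q''.IsPrime → q'' ≤ q₀ → q'' = q₀) :
    ∃ q' : Ideal C, q'.IsPrime ∧ q₀ ≤ q' ∧ q' ≤ q ∧ q'.comap (algebraMap A C) = p ∧
      (∀ q'' : Ideal C, q''.IsPrime → q'' ≤ q' → q''.comap (algebraMap A C) = p → q'' = q') := by
  have hloc : (maximalIdeal A').map (algebraMap A' B) ≠ ⊤ := by
    have h1 : (maximalIdeal A').map (algebraMap A' B) ≤ maximalIdeal B :=
      ((local_hom_TFAE (algebraMap A' B)).out 0 2 rfl rfl).mp inferInstance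
    exact fun h => (maximalIdeal.isMaximal B).ne_top (top_le_iff.1 (h ▸ h1))
  have h𝔪 : (maximalIdeal A').map (algebraMap A' B) =
      (p.map (algebraMap A C)).map (algebraMap C B) := by
    rw [← IsLocalization.AtPrime.map_eq_maximalIdeal p A', Ideal.map_map, Ideal.map_map,
      ← IsScalarTower.algebraMap_eq, ← IsScalarTower.algebraMap_eq]
  -- the minimal prime `P₀` of `B`
  have hdisj₀ : Disjoint (q.primeCompl : Set C) (q₀ : Set C) := by
    rw [Set.disjoint_left]
    intro c hc1 hc2
    exact hc1 (hq₀q hc2)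
  let P₀ : Ideal B := q₀.map (algebraMap C B)
  have hP₀prime : P₀.IsPrime :=
    IsLocalization.isPrime_of_isPrime_disjoint q.primeCompl B q₀ hq₀ hdisj₀
  have hP₀comap : P₀.comap (algebraMap C B) = q₀ :=
    IsLocalization.under_map_of_isPrime_disjoint q.primeCompl B hq₀ hdisj₀
  have hP₀min : P₀ ∈ minimalPrimes B := by
    refine ⟨⟨hP₀prime, bot_le⟩, ?_⟩
    rintro P' ⟨hP'prime, -⟩ hle
    have h1 : P'.comap (algebraMap C B) ≤ q₀ := by
      rw [← hP₀comap]; exact Ideal.comap_mono hle
    have h2 := hq₀min _ (Ideal.comap_isPrime _ _) h1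
    have h3 : (P'.comap (algebraMap C B)).map (algebraMap C B) = P' :=
      IsLocalization.map_comap q.primeCompl B P'
    rw [← h3, h2]
  -- `P₀` is an associated prime
  have hass : P₀ ∈ associatedPrimes B B := by
    apply Module.associatedPrimes.minimalPrimes_annihilator_subset_associatedPrimes B B
    have : Module.annihilator B B = ⊥ := by
      rw [Module.annihilator_eq_bot]
      infer_instance
    rw [this]
    exact hP₀min
  obtain ⟨-, b, hb⟩ := (isAssociatedPrime_iff).1 hass
  have hb0 : b ≠ 0 := by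
    rintro rfl
    apply hP₀prime.ne_top
    rw [hb, Ideal.eq_top_iff_one, Submodule.mem_colon_singleton]
    simp
  have hkill : ∀ s ∈ P₀, s * b = 0 := by
    intro s hs
    rw [hb, Submodule.mem_colon_singleton] at hs
    simpa using hs
  -- a minimal prime of the fibre above `P₀`
  obtain ⟨P, hP, hP₀P⟩ : ∃ P ∈ ((maximalIdeal A').map (algebraMap A' B)).minimalPrimes, P₀ ≤ P := by
    by_contra hcon
    push_neg at hcon
    apply hb0
    refine eq_zero_of_torsion_flat (maximalIdeal A') hloc hredB b ?_
    intro P hP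
    obtain ⟨s, hs, hsP⟩ := Set.not_subset.1 (hcon P hP)
    exact ⟨s, hsP, hkill s hs⟩
  haveI hPp : P.IsPrime := hP.1.1
  let q' : Ideal C := P.comap (algebraMap C B)
  haveI hq'prime : q'.IsPrime := Ideal.comap_isPrime _ _
  have hq'q : q' ≤ q := by
    rw [← IsLocalization.AtPrime.comap_maximalIdeal B q]
    exact Ideal.comap_mono (le_maximalIdeal hPp.ne_top)
  have hPq' : q'.map (algebraMap C B) = P := IsLocalization.map_comap q.primeCompl B P
  have hpq' : p.map (algebraMap A C) ≤ q' := by
    rw [Ideal.map_le_iff_le_comap]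
    intro a ha
    show algebraMap C B (algebraMap A C a) ∈ P
    apply hP.1.2
    rw [h𝔪]
    exact Ideal.mem_map_of_mem _ (Ideal.mem_map_of_mem _ ha)
  have hq'p : q'.comap (algebraMap A C) = p := by
    refine le_antisymm ?_ (Ideal.map_le_iff_le_comap.1 hpq')
    rw [← hqp]
    exact Ideal.comap_mono hq'q
  have hminq' : ∀ q'' : Ideal C, q''.IsPrime → q'' ≤ q' → q''.comap (algebraMap A C) = p →
      q'' = q' := by
    intro q'' hq''p hle hc
    have hdisj : Disjoint (q.primeCompl : Set C) (q'' : Set C) := by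
      rw [Set.disjoint_left]
      intro c hc1 hc2
      exact hc1 (hq'q (hle hc2))
    have hprime : (q''.map (algebraMap C B)).IsPrime :=
      IsLocalization.isPrime_of_isPrime_disjoint q.primeCompl B q'' hq''p hdisj
    have h1 : (maximalIdeal A').map (algebraMap A' B) ≤ q''.map (algebraMap C B) := by
      rw [h𝔪]
      apply Ideal.map_mono
      rw [Ideal.map_le_iff_le_comap, hc]
    have h2 : q''.map (algebraMap C B) ≤ P := by
      rw [← hPq']; exact Ideal.map_mono hle
    have h3 : P ≤ q''.map (algebraMap C B) := hP.2 ⟨hprime, h1⟩ h2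
    have h4 : q''.map (algebraMap C B) = P := le_antisymm h2 h3
    have h5 : (q''.map (algebraMap C B)).comap (algebraMap C B) = q'' :=
      IsLocalization.under_map_of_isPrime_disjoint q.primeCompl B hq''p hdisj
    rw [← h5, h4]
  refine ⟨q', hq'prime, ?_, hq'q, hq'p, hminq'⟩
  rw [← hP₀comap]
  exact Ideal.comap_mono hP₀P

end

end Groth.Agent.Helper5.EqRed
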