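import Mathlib
import Groth.Prelude
import Groth.Agent.Helper5.EqRed1
import Groth.Agent.Helper5.UOFlat17

/-!
# Every irreducible component through `x` contains a maximal point of the fibre through `x`
(flat with reduced fibre at `x`)
-/

set_option autoImplicit false
set_option linter.style.haveILetI false
universe u

namespace Groth.Agent.Helper5.EqRed

open TensorProduct IsLocalRing AlgebraicGeometry CategoryTheory CategoryTheory.Limits
  TopologicalSpace Opposite Groth.Agent.Helper5.UOFlat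

section

variable {X Y : Scheme.{u}} (f : X ⟶ Y)

set_option maxHeartbeats 1000000 in
/-- if `f` is flat at `x` with fibre reduced at `x`, then every maximal point `ξ` of `X`
specializing to `x` specializes to a maximal point `z` of the fibre through `x` specializing
to `x`. -/
theorem exists_max_fibre_point_between [IsLocallyNoetherian Y] [LocallyOfFiniteType f] (x : X)
    (hflat : (f.stalkMap x).hom.Flat)
    (hred : _root_.IsReduced ((f.fiber (f x)).presheaf.stalk (f.asFiber x)))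
    (ξ : X) (hξx : ξ ⤳ x) (hξmax : ∀ w : X, w ⤳ ξ → w = ξ) :
    ∃ z : X, f z = f x ∧ ξ ⤳ z ∧ z ⤳ x ∧ (∀ z' : X, z' ⤳ z → f z' = f z → z' = z) := by
  classical
  haveI : IsLocallyNoetherian X := LocallyOfFiniteType.isLocallyNoetherian f
  obtain ⟨U, hU, hfxU, -⟩ := (Opens.isBasis_iff_nbhd.1 Y.isBasis_affineOpens)
    (show f x ∈ (⊤ : Y.Opens) from trivial)
  obtain ⟨W, hW, hxW, e⟩ := (Opens.isBasis_iff_nbhd.1 X.isBasis_affineOpens)
    (show x ∈ f ⁻¹ᵁ U from hfxU)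
  let A := Γ(Y, U)
  let C := Γ(X, W)
  let A' := Y.presheaf.stalk (f x)
  let B := X.presheaf.stalk x
  letI : Algebra A' B := (f.stalkMap x).hom.toAlgebra
  haveI : IsLocalHom (algebraMap A' B) := inferInstanceAs (IsLocalHom (f.stalkMap x).hom)
  letI : Algebra A C := (f.appLE U W e).hom.toAlgebra
  letI : Algebra A A' := (Y.presheaf.germ U (f x) hfxU).hom.toAlgebra
  letI : Algebra C B := (X.presheaf.germ W x hxW).hom.toAlgebra
  letI : Algebra A B := ((algebraMap A' B).comp (algebraMap A A')).toAlgebra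
  haveI : IsScalarTower A A' B := IsScalarTower.of_algebraMap_eq fun _ => rfl
  haveI : IsScalarTower A C B := IsScalarTower.of_algebraMap_eq fun a =>
    (congrArg (fun φ => φ.hom a) (germ_appLE f U W e x hxW)).symm
  let q : Ideal C := (hW.primeIdealOf ⟨x, hxW⟩).asIdeal
  let p : Ideal A := (hU.primeIdealOf ⟨f x, hfxU⟩).asIdeal
  haveI : IsLocalization.AtPrime B q := hW.isLocalization_stalk ⟨x, hxW⟩
  haveI : IsLocalization.AtPrime A' p := hU.isLocalization_stalk ⟨f x, hfxU⟩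
  have hqp : q.comap (algebraMap A C) = p :=
    congr($(IsAffineOpen.comap_primeIdealOf_appLE U hU W hW e hxW).1)
  haveI : IsNoetherianRing B := inferInstance
  have hredB : _root_.IsReduced (B ⧸ (maximalIdeal A').map (algebraMap A' B)) := by
    haveI := hred
    have h1 : _root_.IsReduced (B ⧸ RingHom.ker (fibStalkMap f x).hom) :=
      isReduced_of_injective (RingHom.kerLift (fibStalkMap f x).hom)
        (RingHom.kerLift_injective _)
    have h2 : RingHom.ker (fibStalkMap f x).hom = (maximalIdeal A').map (algebraMap A' B) :=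
      ker_fibStalkMap f x
    exact h2 ▸ h1
  haveI : Module.Flat A' B := hflat
  haveI : IsOpenImmersion hW.fromSpec := hW.isOpenImmersion_fromSpec
  have hprime : ∀ (x₁ : X) (hx₁ : x₁ ∈ W), hW.fromSpec (hW.primeIdealOf ⟨x₁, hx₁⟩) = x₁ :=
    fun x₁ hx₁ => hW.fromSpec_primeIdealOf ⟨x₁, hx₁⟩
  have hle_of_sp : ∀ (x₁ x₂ : X) (hx₁ : x₁ ∈ W) (hx₂ : x₂ ∈ W), x₁ ⤳ x₂ →
      (hW.primeIdealOf ⟨x₁, hx₁⟩).asIdeal ≤ (hW.primeIdealOf ⟨x₂, hx₂⟩).asIdeal := by
    intro x₁ x₂ hx₁ hx₂ hsp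
    have h1 : (⟨x₁, hx₁⟩ : W) ⤳ ⟨x₂, hx₂⟩ := (subtype_specializes_iff _ _).mpr hsp
    have h2 : hW.primeIdealOf ⟨x₁, hx₁⟩ ⤳ hW.primeIdealOf ⟨x₂, hx₂⟩ :=
      h1.map hW.isoSpec.hom.continuous
    exact (PrimeSpectrum.le_iff_specializes _ _).mpr h2
  have hsp_of_le : ∀ (Q₁ Q₂ : PrimeSpectrum C), Q₁.asIdeal ≤ Q₂.asIdeal →
      hW.fromSpec Q₁ ⤳ hW.fromSpec Q₂ := by
    intro Q₁ Q₂ hle
    exact ((PrimeSpectrum.le_iff_specializes Q₁ Q₂).1 hle).map hW.fromSpec.continuous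
  have hmemW : ∀ Q : PrimeSpectrum C, hW.fromSpec Q ∈ W := by
    intro Q
    have : hW.fromSpec Q ∈ Set.range hW.fromSpec := ⟨Q, rfl⟩
    rw [hW.range_fromSpec] at this
    exact this
  have hQof : ∀ Q : PrimeSpectrum C, hW.primeIdealOf ⟨hW.fromSpec Q, hmemW Q⟩ = Q := fun Q =>
    hW.fromSpec.isEmbedding.injective (hprime _ (hmemW Q))
  have hfib : ∀ (x₁ : X) (hx₁ : x₁ ∈ W),
      (hW.primeIdealOf ⟨x₁, hx₁⟩).asIdeal.comap (algebraMap A C) = p → f x₁ = f x := by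
    intro x₁ hx₁ h
    have h1 := IsAffineOpen.comap_primeIdealOf_appLE U hU W hW e hx₁
    have h2 : hU.primeIdealOf ⟨f x₁, e hx₁⟩ = hU.primeIdealOf ⟨f x, hfxU⟩ := by
      rw [← h1]
      exact PrimeSpectrum.ext h
    have h3 := congrArg hU.fromSpec h2
    rwa [hU.fromSpec_primeIdealOf, hU.fromSpec_primeIdealOf] at h3
  have hfib' : ∀ (x₁ : X) (hx₁ : x₁ ∈ W), f x₁ = f x →
      (hW.primeIdealOf ⟨x₁, hx₁⟩).asIdeal.comap (algebraMap A C) = p := by
    intro x₁ hx₁ hf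
    have h1 := IsAffineOpen.comap_primeIdealOf_appLE U hU W hW e hx₁
    have h2 : hU.primeIdealOf ⟨f x₁, e hx₁⟩ = hU.primeIdealOf ⟨f x, hfxU⟩ := by
      congr 1
      exact Subtype.ext hf
    rw [h2] at h1
    exact congr($(h1).1)
  -- the prime of `ξ`
  have hξW : ξ ∈ W := hξx.mem_open W.2 hxW
  let Q₀ : PrimeSpectrum C := hW.primeIdealOf ⟨ξ, hξW⟩
  have hq₀q : Q₀.asIdeal ≤ q := hle_of_sp ξ x hξW hxW hξx
  have hq₀min : ∀ q'' : Ideal C, q''.IsPrime → q'' ≤ Q₀.asIdeal → q'' = Q₀.asIdeal := by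
    intro q'' hq'' hle
    let Q'' : PrimeSpectrum C := ⟨q'', hq''⟩
    have h1 : hW.fromSpec Q'' ⤳ hW.fromSpec Q₀ := hsp_of_le Q'' Q₀ hle
    rw [hprime ξ hξW] at h1
    have h2 := hξmax _ h1
    have h3 : Q'' = Q₀ := hW.fromSpec.isEmbedding.injective (h2.trans (hprime ξ hξW).symm)
    exact congrArg PrimeSpectrum.asIdeal h3
  obtain ⟨q', hq'prime, hq₀q', hq'q, hq'p, hq'min⟩ :=
    exists_fibre_generic_above q p hqp hredB Q₀.asIdeal hq₀q hq₀min
  let Q' : PrimeSpectrum C := ⟨q', hq'prime⟩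
  let z : X := hW.fromSpec Q'
  have hzW : z ∈ W := hmemW Q'
  have hQ' : hW.primeIdealOf ⟨z, hzW⟩ = Q' := hQof Q'
  have hfz : f z = f x := by
    apply hfib z hzW
    rw [hQ']; exact hq'p
  refine ⟨z, hfz, ?_, ?_, ?_⟩
  · have := hsp_of_le Q₀ Q' hq₀q'
    rwa [hprime ξ hξW] at this
  · have := hsp_of_le Q' (hW.primeIdealOf ⟨x, hxW⟩) hq'q
    rwa [hprime x hxW] at this
  · intro z' hsp hf'
    have hz'W : z' ∈ W := hsp.mem_open W.2 hzW
    have hle : (hW.primeIdealOf ⟨z', hz'W⟩).asIdeal ≤ q' := by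
      have := hle_of_sp z' z hz'W hzW hsp
      rwa [hQ'] at this
    have hc := hfib' z' hz'W (hf'.trans hfz)
    have h3 := hq'min _ (hW.primeIdealOf ⟨z', hz'W⟩).isPrime hle hc
    have h4 : hW.primeIdealOf ⟨z', hz'W⟩ = Q' := PrimeSpectrum.ext h3
    rw [← hprime z' hz'W, h4]

end

end Groth.Agent.Helper5.EqRed
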