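import Mathlib
import Groth.Prelude
import Groth.Agent.Helper5.EqRed2
import Groth.Agent.Helper3.GRO7
import Groth.Agent.Helper5.CMAff5
import Groth.Agent.Helper5.ChevA
import Groth.Agent.Helper5.OpenAt3
import Groth.Agent.Helper5.BCMin13

/-!
# S3409: equidimensionality from universal openness at the generic points of a geometrically
reduced fibre all of whose components through the point have the same dimension
-/

set_option autoImplicit false
set_option linter.style.haveILetI false
universe u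

namespace Groth.Agent.Helper5.EqRed

open TensorProduct IsLocalRing AlgebraicGeometry CategoryTheory CategoryTheory.Limits
  TopologicalSpace Opposite Groth.Agent.Helper5.UOFlat Groth.Agent.Helper3.GRO
  Groth.Agent.Helper5.EqAt Groth.Agent.Helper5.MaxPt Groth.Agent.Helper5.OpenAt

section

variable {X Y : Scheme.{u}} (f : X ⟶ Y)

/-- the local fibre dimension at a maximal point of the fibre generizing `x`, when all
components of the fibre through `x` have dimension `e` -/
theorem fibreDimAt_of_heq [LocallyOfFiniteType f] (x : X) (e : ℕ)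
    (heq : ∀ Z ∈ irreducibleComponents (↥(f.fiber (f.base x)) : Type u), f.asFiber x ∈ Z →
      topologicalKrullDim (↥Z : Type u) = e)
    (z : X) (hfz : f z = f x) (hzx : z ⤳ x)
    (hzmax : ∀ z' : X, z' ⤳ z → f z' = f z → z' = z) :
    FlatMor.fibreDimAt f z = (e : WithBot ℕ∞) := by
  obtain ⟨ζ, hζ⟩ : z ∈ Set.range (f.fiberι (f x)) := by
    rw [Scheme.Hom.range_fiberι]; exact hfz
  have hemb := (f.fiberι (f x)).isEmbedding
  have hζmax : ∀ ζ' : ↥(f.fiber (f x)), ζ' ⤳ ζ → ζ' = ζ := by
    intro ζ' hsp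
    have h2 : (f.fiberι (f x)) ζ' ⤳ z := hζ ▸ hsp.map (f.fiberι (f x)).continuous
    have h3 : f ((f.fiberι (f x)) ζ') = f z :=
      (Groth.Agent.Helper5.FibStalk.fiberι_apply f (f x) ζ').trans hfz.symm
    exact hemb.injective ((hzmax _ h2 h3).trans hζ.symm)
  have hZ := closure_singleton_mem_irreducibleComponents ζ hζmax
  have hxZ : f.asFiber x ∈ closure ({ζ} : Set ↥(f.fiber (f x))) := by
    rw [← specializes_iff_mem_closure, ← hemb.specializes_iff, hζ, Scheme.Hom.fiberι_asFiber]
    exact hzx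
  have hdim := heq _ hZ hxZ
  obtain ⟨n₁, hn₁a, hn₁b⟩ := dim_closure_fibre_point f (f x) ζ z hζ hfz
  obtain ⟨n₀, hn₀a, hn₀b⟩ := fibreDimAt_of_maximal f z
    (coheight_asFiber_eq_zero f z (fun w hw hsp => hzmax w hsp hw))
  have : n₁ = n₀ := by
    have := hn₁b.symm.trans hn₀a
    exact_mod_cast this
  rw [hn₀b, ← this, ← hn₁a]
  exact hdim

set_option maxHeartbeats 1000000 in
/-- the key step over a base which is reduced at `f x` -/
theorem key_of_reduced [IsLocallyNoetherian Y] [LocallyOfFiniteType f] (x : X)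
    (hopen : HopenX f x)
    (hred : FBase.IsGeomReducedAt (f.fiberToSpecResidueField (f x)) (f.asFiber x))
    (hy : _root_.IsReduced (Y.presheaf.stalk (f x))) (e : ℕ)
    (hmaxdim : ∀ z : X, f z = f x → z ⤳ x → (∀ z' : X, z' ⤳ z → f z' = f z → z' = z) →
      FlatMor.fibreDimAt f z = (e : WithBot ℕ∞))
    (ξ : X) (hξx : ξ ⤳ x) (hξmax : ∀ w : X, w ⤳ ξ → w = ξ) :
    FlatMor.fibreDimAt f ξ = (e : WithBot ℕ∞) ∧ ∀ η : Y, η ⤳ f ξ → η = f ξ := by
  have hflat := s2561 f x (fiber_of_hopenX f x hopen) hred hy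
  have hredst := isReduced_fibStalk f x hred
  obtain ⟨z, hfz, hξz, hzx, hzmax⟩ := exists_max_fibre_point_between f x hflat hredst ξ hξx hξmax
  have hopen_z : EGA43.IsUnivOpenAt f z := by
    apply hopen z hfz (specializes_iff_mem_closure.1 hzx)
    intro t ht hzt
    exact hzmax t (specializes_iff_mem_closure.2 hzt) (ht.trans hfz.symm)
  obtain ⟨ζ, hζ⟩ : z ∈ Set.range (f.fiberι (f x)) := by
    rw [Scheme.Hom.range_fiberι]; exact hfz
  have hemb := (f.fiberι (f x)).isEmbedding
  have hζsp : ζ ⤳ f.asFiber x := by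
    rw [← hemb.specializes_iff, hζ, Scheme.Hom.fiberι_asFiber]
    exact hzx
  have hredζ : FBase.IsGeomReducedAt (f.fiberToSpecResidueField (f x)) ζ :=
    Groth.Agent.Helper4.GeomRedPt2.geomReducedAt_of_specializes _ _ ζ hζsp hred
  have hred_z : FBase.IsGeomReducedAt (f.fiberToSpecResidueField (f z)) (f.asFiber z) := by
    have h1 := geomReducedAt_transport f (f x) ζ hredζ
    let Pr : X → Prop := fun x₁ =>
      FBase.IsGeomReducedAt (f.fiberToSpecResidueField (f x₁)) (f.asFiber x₁)
    have h2 : Pr ((f.fiberι (f x)) ζ) := h1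
    have h3 : Pr z := hζ ▸ h2
    exact h3
  have hy_z : _root_.IsReduced (Y.presheaf.stalk (f z)) := by
    let Pr : Y → Prop := fun y₁ => _root_.IsReduced (Y.presheaf.stalk y₁)
    have h2 : Pr (f x) := hy
    have h3 : Pr (f z) := hfz.symm ▸ h2
    exact h3
  have hflat_z := (flat_reduced_of_maximal f z hzmax hopen_z hred_z hy_z).1
  haveI hFN : IsLocallyNoetherian (f.fiber (f z)) :=
    LocallyOfFiniteType.isLocallyNoetherian (f.fiberToSpecResidueField (f z))
  have hdim0 : ringKrullDim ((f.fiber (f z)).presheaf.stalk (f.asFiber z)) = 0 := by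
    obtain ⟨n, hn1, hn2⟩ := Groth.Agent.Helper5.SubDim.ringKrullDim_stalk_nat (f.fiber (f z))
      (f.asFiber z)
    have h0 := coheight_asFiber_eq_zero f z (fun w hw hsp => hzmax w hsp hw)
    rw [h0] at hn2
    have : n = 0 := by exact_mod_cast hn2.symm
    rw [hn1, this]
    rfl
  have hCM := Groth.Agent.Helper5.CMAff.cm_of_dim_zero _ hdim0
  have heq_z := Groth.Agent.Helper5.CMAff.s2595 f z hflat_z hCM
  obtain ⟨e', he', hdata⟩ := Groth.Agent.Helper5.Chev.data_of_isEquidimAt f z heq_z
  have hee' : e' = e := by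
    have := he'.symm.trans (hmaxdim z hfz hzx hzmax)
    exact_mod_cast this
  rw [hee'] at hdata
  exact hdata ξ hξz hξmax

set_option maxHeartbeats 1000000 in
/-- **S3409** -/
theorem s3409 [IsLocallyNoetherian Y] [LocallyOfFiniteType f] (x : X)
    (hopen : ∀ z : ↥(f.fiber (f.base x)), f.asFiber x ∈ closure {z} →
      (∀ z' : ↥(f.fiber (f.base x)), z ∈ closure {z'} → z' = z) →
      EGA43.IsUnivOpenAt f ((f.fiberι (f.base x)).base z))
    (hred : FBase.IsGeomReducedAt (f.fiberToSpecResidueField (f.base x)) (f.asFiber x))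
    (heq : ∃ e : ℕ, ∀ Z ∈ irreducibleComponents (↥(f.fiber (f.base x)) : Type u), f.asFiber x ∈ Z →
      topologicalKrullDim (↥Z : Type u) = e) :
    EGA43.IsEquidimAt f x := by
  haveI : IsLocallyNoetherian X := LocallyOfFiniteType.isLocallyNoetherian f
  obtain ⟨e, heq⟩ := heq
  have hmaxdim := fibreDimAt_of_heq f x e heq
  have hxe : FlatMor.fibreDimAt f x ≤ (e : WithBot ℕ∞) := by
    obtain ⟨z, hfz, hzx, hzmax, hfd, -⟩ := exists_max_generization_fibreDimAt_eq f x
    rw [← hfd, hmaxdim z hfz hzx (fun z' hsp hf' => hzmax z' (hf'.trans hfz) hsp)]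
  -- the reduced base
  let I := Scheme.IdealSheafData.vanishingIdeal (⊤ : Closeds Y)
  let Y' : Scheme.{u} := I.subscheme
  let i : Y' ⟶ Y := I.subschemeι
  haveI : IsReduced Y' := Groth.Agent.Lead.VanBCA.isReduced_subscheme_vanishingIdeal ⊤
  have hri : Set.range i.base = Set.univ := by
    rw [Scheme.IdealSheafData.range_subschemeι, Scheme.IdealSheafData.coe_support_vanishingIdeal]
    rfl
  haveI : Surjective i := ⟨Set.range_eq_univ.1 hri⟩
  haveI : IsLocallyNoetherian Y' := LocallyOfFiniteType.isLocallyNoetherian i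
  let X' := pullback f i
  let f' : X' ⟶ Y' := pullback.snd f i
  let pr : X' ⟶ X := pullback.fst f i
  have hc : IsPullback pr f' f i := IsPullback.of_hasPullback f i
  haveI : IsClosedImmersion pr :=
    MorphismProperty.of_isPullback (P := @IsClosedImmersion) hc.flip inferInstance
  haveI : Surjective pr := MorphismProperty.of_isPullback (P := @Surjective) hc.flip inferInstance
  have hcomm : ∀ w : X', f (pr w) = i (f' w) := fun w => by
    show (pr ≫ f) w = (f' ≫ i) w
    rw [hc.w]
  have hiinj : Function.Injective i := i.isEmbedding.injective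
  have hprinj : Function.Injective pr := pr.isEmbedding.injective
  have hprsp : ∀ a b : X', pr a ⤳ pr b ↔ a ⤳ b := fun a b => pr.isEmbedding.specializes_iff
  have hisp : ∀ a b : Y', i a ⤳ i b ↔ a ⤳ b := fun a b => i.isEmbedding.specializes_iff
  obtain ⟨x', rfl⟩ := pr.surjective x
  have hopen' : HopenX f' x' := hopenX_of_isPullback hc hiinj pr.isEmbedding pr.surjective x'
    (hopenX_of_fiber f _ hopen)
  have hred' : x' ∈ E f' := (mem_E_iff_of_isPullback hc x').2 hred
  have hy' : _root_.IsReduced (Y'.presheaf.stalk (f' x')) := inferInstance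
  have hmaxdim' : ∀ z : X', f' z = f' x' → z ⤳ x' →
      (∀ z' : X', z' ⤳ z → f' z' = f' z → z' = z) →
      FlatMor.fibreDimAt f' z = (e : WithBot ℕ∞) := by
    intro z hfz hzx hzmax
    rw [Groth.Agent.Helper5.BCMin.fibreDimAt_of_isPullback f i pr f' hc z]
    apply hmaxdim (pr z)
    · rw [hcomm, hcomm, hfz]
    · exact (hprsp z x').2 hzx
    · intro t hsp hft
      obtain ⟨t', rfl⟩ := pr.surjective t
      congr 1
      apply hzmax t' ((hprsp t' z).1 hsp)
      apply hiinj
      rw [← hcomm, ← hcomm, hft]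
  refine isEquidimAt_of_key f (pr x') e hxe ?_
  intro ξ hξx hξ0
  have hξmax : ∀ w : X, w ⤳ ξ → w = ξ := max_of_coheight_zero ξ hξ0
  obtain ⟨ξ', rfl⟩ := pr.surjective ξ
  have hξ'max : ∀ w : X', w ⤳ ξ' → w = ξ' := by
    intro w hw
    exact hprinj (hξmax _ ((hprsp w ξ').2 hw))
  obtain ⟨h1, h2⟩ := key_of_reduced f' x' hopen' hred' hy' e hmaxdim' ξ' ((hprsp ξ' x').1 hξx)
    hξ'max
  refine ⟨?_, ?_⟩
  · rw [← Groth.Agent.Helper5.BCMin.fibreDimAt_of_isPullback f i pr f' hc ξ', h1]
  · apply closure_singleton_mem_irreducibleComponents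
    intro η hη
    obtain ⟨η', rfl⟩ := i.surjective η
    rw [hcomm] at hη ⊢
    congr 1
    exact h2 η' ((hisp η' (f' ξ')).1 hη)

end

end Groth.Agent.Helper5.EqRed
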