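import Mathlib
import Groth.Prelude
import Groth.Agent.Helper5.GuBir3

/-!
# Geometric unibranchness passes to the source of a surjective closed immersion
-/

set_option autoImplicit false
set_option linter.style.haveILetI false
universe u

namespace Groth.Agent.Helper5.UniComp

open IsLocalRing AlgebraicGeometry CategoryTheory CategoryTheory.Limits Groth.Agent.Helper5.GuBir

/-- a surjective ring map with nil kernel satisfies the birational hypotheses -/
theorem birHyp_of_surjective_nil {A C : Type u} [CommRing A] [CommRing C] (φ : A →+* C)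
    (hs : Function.Surjective φ) (hk : RingHom.ker φ ≤ nilradical A) : BirHyp φ := by
  have hkP : ∀ P : Ideal A, P.IsPrime → RingHom.ker φ ≤ P := fun P hP =>
    hk.trans (nilradical_le_prime P)
  have hcm : ∀ P : Ideal A, P.IsPrime → (P.map φ).comap φ = P := by
    intro P hP
    rw [Ideal.comap_map_of_surjective' φ hs, sup_eq_left]
    exact hkP P hP
  refine ⟨φ.isIntegral_of_surjective hs, ?_, ?_, ?_, ?_⟩
  · intro P _ Q₁ Q₂ _ _ h1 h2
    exact Ideal.comap_injective_of_surjective φ hs (h1.trans h2.symm)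
  · intro P hP
    haveI hPp : P.IsPrime := hP.1.1
    have hQp : (P.map φ).IsPrime := Ideal.map_isPrime_of_surjective hs (hkP P hPp)
    refine ⟨P.map φ, ⟨⟨hQp, bot_le⟩, ?_⟩, hcm P hPp⟩
    rintro Q' ⟨hQ'p, -⟩ hle
    have h1 : Q'.comap φ ≤ P := by
      rw [← hcm P hPp]; exact Ideal.comap_mono hle
    have h2 : P ≤ Q'.comap φ := hP.2 ⟨Ideal.comap_isPrime φ Q', bot_le⟩ h1
    have h3 : Q'.comap φ = P := le_antisymm h1 h2
    rw [← h3, Ideal.map_comap_of_surjective φ hs]
  · intro Q hQ
    haveI hQp : Q.IsPrime := hQ.1.1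
    refine ⟨⟨Ideal.comap_isPrime φ Q, bot_le⟩, ?_⟩
    rintro P' ⟨hP'p, -⟩ hle
    have hQ'p : (P'.map φ).IsPrime := Ideal.map_isPrime_of_surjective hs (hkP P' hP'p)
    have h1 : P'.map φ ≤ Q := by
      have := Ideal.map_mono (f := φ) hle
      rwa [Ideal.map_comap_of_surjective φ hs] at this
    have h2 : Q ≤ P'.map φ := hQ.2 ⟨hQ'p, bot_le⟩ h1
    have h3 : P'.map φ = Q := le_antisymm h1 h2
    rw [← h3, hcm P' hP'p]
  · intro P hP Q hQp _ c
    haveI hPp : P.IsPrime := hP.1.1
    obtain ⟨a, rfl⟩ := hs c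
    refine ⟨a, 1, fun h => hPp.ne_top ((Ideal.eq_top_iff_one _).2 h), ?_⟩
    rw [map_one, one_mul, sub_self]
    exact Q.zero_mem

/-- geometric unibranchness at a point passes to the source of a surjective closed immersion -/
theorem gu_of_closedImmersion_surjective {Y' Y : Scheme.{u}} (i : Y' ⟶ Y) [IsClosedImmersion i]
    [Surjective i] (y' : Y') (h : CAlg2.IsGeomUnibranch (Y.presheaf.stalk (i y'))) :
    CAlg2.IsGeomUnibranch (Y'.presheaf.stalk y') := by
  let φ := (i.stalkMap y').hom
  have hs : Function.Surjective φ := i.stalkMap_surjective y'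
  have hk : RingHom.ker φ ≤ nilradical (Y.presheaf.stalk (i y')) := by
    intro a ha
    rw [mem_nilradical, nilpotent_iff_mem_prime]
    intro P hP
    let p : PrimeSpectrum (Y.presheaf.stalk (i y')) := ⟨P, hP⟩
    have h1 : (Y.fromSpecStalk (i y')) p ⤳ i y' := by
      have : (Y.fromSpecStalk (i y')) p ∈ Set.range (Y.fromSpecStalk (i y')) := ⟨p, rfl⟩
      rw [Scheme.range_fromSpecStalk] at this
      exact this
    obtain ⟨η', hη'⟩ := i.surjective ((Y.fromSpecStalk (i y')) p)
    have h2 : η' ⤳ y' := by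
      rw [← i.isEmbedding.specializes_iff, hη']
      exact h1
    obtain ⟨p', hp'⟩ : η' ∈ Set.range (Y'.fromSpecStalk y') := by
      rw [Scheme.range_fromSpecStalk]; exact h2
    have h3 : (Y.fromSpecStalk (i y')) (Spec.map (i.stalkMap y') p') =
        (Y.fromSpecStalk (i y')) p := by
      rw [← Scheme.Hom.comp_apply, Scheme.SpecMap_stalkMap_fromSpecStalk, Scheme.Hom.comp_apply,
        hp', hη']
    have h4 : Spec.map (i.stalkMap y') p' = p :=
      (Y.fromSpecStalk (i y')).isEmbedding.injective h3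
    have h5 : a ∈ (Spec.map (i.stalkMap y') p').asIdeal := by
      show φ a ∈ p'.asIdeal
      rw [ha]
      exact p'.asIdeal.zero_mem
    rw [h4] at h5
    exact h5
  exact (gu_forward (birHyp_of_surjective_nil φ hs hk) h).2.2

end Groth.Agent.Helper5.UniComp
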