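import Mathlib
import Groth.Prelude
import Groth.Agent.Helper5.UniComp1
import Groth.Agent.Helper5.UniComp2
import Groth.Agent.Helper5.EqRed3
import Groth.Agent.Helper2.FiberSmooth2
import Groth.Agent.Helper2.SmGU7
import Groth.Agent.Helper4.DomOpen
import Groth.Agent.Lead.SmNbhdB

/-!
# S3410: unique irreducible component through a point with geometrically pointwise integral
fibre over a geometrically unibranch point
-/

set_option autoImplicit false
set_option linter.style.haveILetI false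
universe u

namespace Groth.Agent.Helper5.UniComp

open TensorProduct IsLocalRing AlgebraicGeometry CategoryTheory CategoryTheory.Limits
  TopologicalSpace Opposite Groth.Agent.Helper5.UOFlat Groth.Agent.Helper3.GRO
  Groth.Agent.Helper5.EqAt Groth.Agent.Helper5.MaxPt Groth.Agent.Helper5.EqRed

section

variable {X Y : Scheme.{u}} (f : X ⟶ Y)

set_option maxHeartbeats 1000000 in
/-- over a base reduced at `f x`: a maximal point `z` of the fibre through `x` generizing `x`
(with the hypotheses of S2561 at `x`) has a geometrically unibranch local ring on `X` -/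
theorem gu_stalk_of_max_fibre_point [IsLocallyNoetherian Y] [LocallyOfFiniteType f] (x : X)
    (hopen : HopenX f x)
    (hred : FBase.IsGeomReducedAt (f.fiberToSpecResidueField (f x)) (f.asFiber x))
    (hy : _root_.IsReduced (Y.presheaf.stalk (f x)))
    (hY : CAlg2.IsGeomUnibranch (Y.presheaf.stalk (f x)))
    (z : X) (hfz : f z = f x) (hzx : z ⤳ x)
    (hzmax : ∀ z' : X, z' ⤳ z → f z' = f z → z' = z) :
    CAlg2.IsGeomUnibranch (X.presheaf.stalk z) := by
  haveI : IsLocallyNoetherian X := LocallyOfFiniteType.isLocallyNoetherian f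
  haveI : LocallyOfFinitePresentation f := Groth.Agent.Helper2.ArtSch.lfp_of_lft_noeth f
  have hopen_z : EGA43.IsUnivOpenAt f z := by
    apply hopen z hfz (specializes_iff_mem_closure.1 hzx)
    intro t ht hzt
    exact hzmax t (specializes_iff_mem_closure.2 hzt) (ht.trans hfz.symm)
  obtain ⟨ζ, hζ⟩ : z ∈ Set.range (f.fiberι (f x)) := by
    rw [Scheme.Hom.range_fiberι]; exact hfz
  have hemb := (f.fiberι (f x)).isEmbedding
  have hζsp : ζ ⤳ f.asFiber x := by
    rw [← hemb.specializes_iff, hζ, Scheme.Hom.fiberι_asFiber]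
    exact hzx
  have hredζ : FBase.IsGeomReducedAt (f.fiberToSpecResidueField (f x)) ζ :=
    Groth.Agent.Helper4.GeomRedPt2.geomReducedAt_of_specializes _ _ ζ hζsp hred
  have hred_z : FBase.IsGeomReducedAt (f.fiberToSpecResidueField (f z)) (f.asFiber z) := by
    have h1 := geomReducedAt_transport f (f x) ζ hredζ
    let Pr : X → Prop := fun x₁ =>
      FBase.IsGeomReducedAt (f.fiberToSpecResidueField (f x₁)) (f.asFiber x₁)
    have h2 : Pr ((f.fiberι (f x)) ζ) := h1
    have h3 : Pr z := hζ ▸ h2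
    exact h3
  have hy_z : _root_.IsReduced (Y.presheaf.stalk (f z)) := by
    let Pr : Y → Prop := fun y₁ => _root_.IsReduced (Y.presheaf.stalk y₁)
    have h2 : Pr (f x) := hy
    have h3 : Pr (f z) := hfz.symm ▸ h2
    exact h3
  have hY_z : CAlg2.IsGeomUnibranch (Y.presheaf.stalk (f z)) := by
    let Pr : Y → Prop := fun y₁ => CAlg2.IsGeomUnibranch (Y.presheaf.stalk y₁)
    have h2 : Pr (f x) := hY
    have h3 : Pr (f z) := hfz.symm ▸ h2
    exact h3
  have hflat_z := (flat_reduced_of_maximal f z hzmax hopen_z hred_z hy_z).1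
  haveI hlfpfib : LocallyOfFinitePresentation (f.fiberToSpecResidueField (f z)) :=
    Groth.Agent.Lead.SmNbhd.lfp_fiber f (f z)
  have hzfib_max : ∀ w' : ↥(f.fiber (f z)), w' ⤳ f.asFiber z → w' = f.asFiber z := by
    intro w' hw'
    have h2 : (f.fiberι (f z)) w' ⤳ z := by
      have := hw'.map (f.fiberι (f z)).continuous
      rwa [Scheme.Hom.fiberι_asFiber] at this
    have h3 : f ((f.fiberι (f z)) w') = f z :=
      Groth.Agent.Helper5.FibStalk.fiberι_apply f (f z) w'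
    have h4 := hzmax _ h2 h3
    apply (f.fiberι (f z)).isEmbedding.injective
    rw [h4, Scheme.Hom.fiberι_asFiber]
  have hsm_fib : f.asFiber z ∈ (f.fiberToSpecResidueField (f z)).smoothLocus :=
    @mem_smoothLocus_of_geomReducedAt_of_max (Y.residueField (f z)) _ _
      (f.fiberToSpecResidueField (f z)) hlfpfib (f.asFiber z) hred_z hzfib_max
  have hsm : z ∈ f.smoothLocus :=
    (Groth.Agent.Helper2.FiberSmooth2.mem_smoothLocus_iff_flat_and_fiber f z).2 ⟨hflat_z, hsm_fib⟩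
  exact Groth.Agent.Helper2.SmGU7.stalk_of_formallySmooth f z hsm hY_z

/-- two maximal points of `X` generizing a point with geometrically unibranch local ring
coincide -/
theorem max_unique_of_gu {X : Scheme.{u}} (z : X) (h : CAlg2.IsGeomUnibranch (X.presheaf.stalk z))
    (ξ₁ ξ₂ : X) (h₁ : ξ₁ ⤳ z) (h₂ : ξ₂ ⤳ z) (hm₁ : ∀ w : X, w ⤳ ξ₁ → w = ξ₁)
    (hm₂ : ∀ w : X, w ⤳ ξ₂ → w = ξ₂) : ξ₁ = ξ₂ := by
  have hdom : IsDomain (CAlg2.red (X.presheaf.stalk z)) := h.1.1
  haveI hnp : (nilradical (X.presheaf.stalk z)).IsPrime :=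
    (Ideal.Quotient.isDomain_iff_prime _).1 hdom
  let j := X.fromSpecStalk z
  have key : ∀ ξ : X, ξ ⤳ z → (∀ w : X, w ⤳ ξ → w = ξ) →
      ξ = j ⟨nilradical (X.presheaf.stalk z), hnp⟩ := by
    intro ξ hξ hm
    obtain ⟨r, hr⟩ : ξ ∈ Set.range j := by
      rw [Scheme.range_fromSpecStalk]; exact hξ
    let b : PrimeSpectrum (X.presheaf.stalk z) := ⟨nilradical (X.presheaf.stalk z), hnp⟩
    haveI := r.isPrime
    have hbr : b ⤳ r := (PrimeSpectrum.le_iff_specializes b r).mp (nilradical_le_prime r.asIdeal)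
    have hjb : j b ⤳ ξ := hr ▸ hbr.map j.continuous
    exact (hm _ hjb).symm
  rw [key ξ₁ h₁ hm₁, key ξ₂ h₂ hm₂]

set_option maxHeartbeats 1000000 in
/-- the key uniqueness statement of S3410 -/
theorem max_unique [IsLocallyNoetherian Y] [LocallyOfFiniteType f] (x : X)
    (hopen : ∀ z : ↥(f.fiber (f.base x)), f.asFiber x ∈ closure {z} →
      (∀ z' : ↥(f.fiber (f.base x)), z ∈ closure {z'} → z' = z) →
      EGA43.IsUnivOpenAt f ((f.fiberι (f.base x)).base z))
    (hint : FBase.IsGeomPtIntegralAt (f.fiberToSpecResidueField (f.base x)) (f.asFiber x))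
    (hY : CAlg2.IsGeomUnibranch (Y.presheaf.stalk (f.base x)))
    (ξ₁ ξ₂ : X) (h₁ : ξ₁ ⤳ x) (h₂ : ξ₂ ⤳ x) (hm₁ : ∀ w : X, w ⤳ ξ₁ → w = ξ₁)
    (hm₂ : ∀ w : X, w ⤳ ξ₂ → w = ξ₂) : ξ₁ = ξ₂ := by
  haveI : IsLocallyNoetherian X := LocallyOfFiniteType.isLocallyNoetherian f
  have hred : FBase.IsGeomReducedAt (f.fiberToSpecResidueField (f.base x)) (f.asFiber x) := by
    intro K _ _ x' hx'
    haveI := hint K x' hx'
    infer_instance
  haveI hdomfib : IsDomain ((f.fiber (f x)).presheaf.stalk (f.asFiber x)) :=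
    Groth.Agent.Helper4.GeomBC.isDomain_of_geomPtIntegralAt _ _ hint
  -- uniqueness of the maximal point of the fibre generizing `x`
  have hzuniq : ∀ z₁ z₂ : X, f z₁ = f x → f z₂ = f x → z₁ ⤳ x → z₂ ⤳ x →
      (∀ z' : X, z' ⤳ z₁ → f z' = f z₁ → z' = z₁) →
      (∀ z' : X, z' ⤳ z₂ → f z' = f z₂ → z' = z₂) → z₁ = z₂ := by
    have hemb := (f.fiberι (f x)).isEmbedding
    have aux : ∀ z : X, f z = f x → z ⤳ x → (∀ z' : X, z' ⤳ z → f z' = f z → z' = z) →
        z = (f.fiberι (f x)) (((f.fiber (f x)).fromSpecStalk (f.asFiber x))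
          (⟨⊥, Ideal.isPrime_bot⟩ : PrimeSpectrum ((f.fiber (f x)).presheaf.stalk (f.asFiber x)))) := by
      intro z hfz hzx hzmax
      obtain ⟨ζ, hζ⟩ : z ∈ Set.range (f.fiberι (f x)) := by
        rw [Scheme.Hom.range_fiberι]; exact hfz
      have hζmax : ∀ ζ' : ↥(f.fiber (f x)), ζ' ⤳ ζ → ζ' = ζ := by
        intro ζ' hsp
        have h2 : (f.fiberι (f x)) ζ' ⤳ z := hζ ▸ hsp.map (f.fiberι (f x)).continuous
        have h3 : f ((f.fiberι (f x)) ζ') = f z :=
          (Groth.Agent.Helper5.FibStalk.fiberι_apply f (f x) ζ').trans hfz.symm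
        exact hemb.injective ((hzmax _ h2 h3).trans hζ.symm)
      have hZ := closure_singleton_mem_irreducibleComponents ζ hζmax
      have hζsp : ζ ⤳ f.asFiber x := by
        rw [← hemb.specializes_iff, hζ, Scheme.Hom.fiberι_asFiber]
        exact hzx
      rw [← hζ, Groth.Agent.Helper4.DomOpen.generic_eq_of_isDomain (f.asFiber x) ζ hζsp hZ]
    intro z₁ z₂ hf₁ hf₂ hs₁ hs₂ hmx₁ hmx₂
    rw [aux z₁ hf₁ hs₁ hmx₁, aux z₂ hf₂ hs₂ hmx₂]
  -- the reduced base
  let I := Scheme.IdealSheafData.vanishingIdeal (⊤ : Closeds Y)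
  let Y' : Scheme.{u} := I.subscheme
  let i : Y' ⟶ Y := I.subschemeι
  haveI : IsReduced Y' := Groth.Agent.Lead.VanBCA.isReduced_subscheme_vanishingIdeal ⊤
  have hri : Set.range i.base = Set.univ := by
    rw [Scheme.IdealSheafData.range_subschemeι, Scheme.IdealSheafData.coe_support_vanishingIdeal]
    rfl
  haveI : Surjective i := ⟨Set.range_eq_univ.1 hri⟩
  haveI : IsLocallyNoetherian Y' := LocallyOfFiniteType.isLocallyNoetherian i
  let X' := pullback f i
  let f' : X' ⟶ Y' := pullback.snd f i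
  let pr : X' ⟶ X := pullback.fst f i
  have hc : IsPullback pr f' f i := IsPullback.of_hasPullback f i
  haveI : IsClosedImmersion pr :=
    MorphismProperty.of_isPullback (P := @IsClosedImmersion) hc.flip inferInstance
  haveI : Surjective pr := MorphismProperty.of_isPullback (P := @Surjective) hc.flip inferInstance
  have hcomm : ∀ w : X', f (pr w) = i (f' w) := fun w => by
    show (pr ≫ f) w = (f' ≫ i) w
    rw [hc.w]
  have hiinj : Function.Injective i := i.isEmbedding.injective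
  have hprinj : Function.Injective pr := pr.isEmbedding.injective
  have hprsp : ∀ a b : X', pr a ⤳ pr b ↔ a ⤳ b := fun a b => pr.isEmbedding.specializes_iff
  obtain ⟨x', rfl⟩ := pr.surjective x
  obtain ⟨ξ₁', rfl⟩ := pr.surjective ξ₁
  obtain ⟨ξ₂', rfl⟩ := pr.surjective ξ₂
  have hopen' : HopenX f' x' := hopenX_of_isPullback hc hiinj pr.isEmbedding pr.surjective x'
    (hopenX_of_fiber f _ hopen)
  have hred' : x' ∈ E f' := (mem_E_iff_of_isPullback hc x').2 hred
  have hy' : _root_.IsReduced (Y'.presheaf.stalk (f' x')) := inferInstance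
  have hY' : CAlg2.IsGeomUnibranch (Y'.presheaf.stalk (f' x')) := by
    apply gu_of_closedImmersion_surjective i (f' x')
    rw [← hcomm]
    exact hY
  have hflat' := s2561 f' x' (fiber_of_hopenX f' x' hopen') hred' hy'
  have hredst' := isReduced_fibStalk f' x' hred'
  have hm₁' : ∀ w : X', w ⤳ ξ₁' → w = ξ₁' := fun w hw => hprinj (hm₁ _ ((hprsp w ξ₁').2 hw))
  have hm₂' : ∀ w : X', w ⤳ ξ₂' → w = ξ₂' := fun w hw => hprinj (hm₂ _ ((hprsp w ξ₂').2 hw))
  obtain ⟨z₁, hfz₁, hξz₁, hzx₁, hzmax₁⟩ :=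
    exists_max_fibre_point_between f' x' hflat' hredst' ξ₁' ((hprsp ξ₁' x').1 h₁) hm₁'
  obtain ⟨z₂, hfz₂, hξz₂, hzx₂, hzmax₂⟩ :=
    exists_max_fibre_point_between f' x' hflat' hredst' ξ₂' ((hprsp ξ₂' x').1 h₂) hm₂'
  have htrans : ∀ z : X', f' z = f' x' → (∀ z' : X', z' ⤳ z → f' z' = f' z → z' = z) →
      (f (pr z) = f (pr x') ∧ ∀ t : X, t ⤳ pr z → f t = f (pr z) → t = pr z) := by
    intro z hfz hzmax
    refine ⟨by rw [hcomm, hcomm, hfz], ?_⟩
    intro t hsp hft
    obtain ⟨t', rfl⟩ := pr.surjective t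
    congr 1
    apply hzmax t' ((hprsp t' z).1 hsp)
    apply hiinj
    rw [← hcomm, ← hcomm, hft]
  have hz12 : z₁ = z₂ := by
    apply hprinj
    exact hzuniq (pr z₁) (pr z₂) (htrans z₁ hfz₁ hzmax₁).1 (htrans z₂ hfz₂ hzmax₂).1
      ((hprsp z₁ x').2 hzx₁) ((hprsp z₂ x').2 hzx₂) (htrans z₁ hfz₁ hzmax₁).2
      (htrans z₂ hfz₂ hzmax₂).2
  subst hz12
  have hgu := gu_stalk_of_max_fibre_point f' x' hopen' hred' hy' hY' z₁ hfz₁ hzx₁ hzmax₁
  congr 1
  exact max_unique_of_gu z₁ hgu ξ₁' ξ₂' hξz₁ hξz₂ hm₁' hm₂'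

set_option maxHeartbeats 1000000 in
/-- **S3410** -/
theorem s3410 [IsLocallyNoetherian Y] [LocallyOfFiniteType f] (x : X)
    (hopen : ∀ z : ↥(f.fiber (f.base x)), f.asFiber x ∈ closure {z} →
      (∀ z' : ↥(f.fiber (f.base x)), z ∈ closure {z'} → z' = z) →
      EGA43.IsUnivOpenAt f ((f.fiberι (f.base x)).base z))
    (hint : FBase.IsGeomPtIntegralAt (f.fiberToSpecResidueField (f.base x)) (f.asFiber x))
    (hY : CAlg2.IsGeomUnibranch (Y.presheaf.stalk (f.base x))) :
    (∃! Z : Set X, Z ∈ irreducibleComponents (X : Type u) ∧ x ∈ Z) ∧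
      (IsDomain (Y.presheaf.stalk (f.base x)) →
        IsDomain (X.presheaf.stalk x) ∧ (f.stalkMap x).hom.Flat) := by
  have hkey := max_unique f x hopen hint hY
  have hred : FBase.IsGeomReducedAt (f.fiberToSpecResidueField (f.base x)) (f.asFiber x) := by
    intro K _ _ x' hx'
    haveI := hint K x' hx'
    infer_instance
  refine ⟨?_, ?_⟩
  · refine ⟨irreducibleComponent x, ⟨irreducibleComponent_mem_irreducibleComponents x,
      mem_irreducibleComponent⟩, ?_⟩
    have huniq : ∀ Z₁ Z₂ : Set X, Z₁ ∈ irreducibleComponents (X : Type u) → x ∈ Z₁ →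
        Z₂ ∈ irreducibleComponents (X : Type u) → x ∈ Z₂ → Z₁ = Z₂ := by
      intro Z₁ Z₂ hZ₁ hx₁ hZ₂ hx₂
      obtain ⟨ξ₁, hξ₁⟩ := QuasiSober.sober hZ₁.1 (isClosed_of_mem_irreducibleComponents Z₁ hZ₁)
      obtain ⟨ξ₂, hξ₂⟩ := QuasiSober.sober hZ₂.1 (isClosed_of_mem_irreducibleComponents Z₂ hZ₂)
      have hd₁ : closure ({ξ₁} : Set X) = Z₁ := hξ₁.def
      have hd₂ : closure ({ξ₂} : Set X) = Z₂ := hξ₂.def
      have hs₁ : ξ₁ ⤳ x := by rw [specializes_iff_mem_closure, hd₁]; exact hx₁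
      have hs₂ : ξ₂ ⤳ x := by rw [specializes_iff_mem_closure, hd₂]; exact hx₂
      have hm₁ : ∀ w : X, w ⤳ ξ₁ → w = ξ₁ := fun w hw =>
        max_of_closure_mem_irreducibleComponents ξ₁ (by rw [hd₁]; exact hZ₁) w hw
      have hm₂ : ∀ w : X, w ⤳ ξ₂ → w = ξ₂ := fun w hw =>
        max_of_closure_mem_irreducibleComponents ξ₂ (by rw [hd₂]; exact hZ₂) w hw
      rw [← hd₁, ← hd₂, hkey ξ₁ ξ₂ hs₁ hs₂ hm₁ hm₂]
    rintro Z ⟨hZ, hxZ⟩
    exact huniq Z _ hZ hxZ (irreducibleComponent_mem_irreducibleComponents x)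
      mem_irreducibleComponent
  · intro hdom
    have hy : _root_.IsReduced (Y.presheaf.stalk (f x)) := inferInstance
    refine ⟨?_, s2561 f x hopen hred hy⟩
    haveI : _root_.IsReduced (X.presheaf.stalk x) := isReduced_stalk_of_s2561 f x hopen hred hy
    apply Groth.Agent.Helper4.DomOpen.isDomain_of_subsingleton_minimalPrimes
    intro 𝔭 h𝔭 𝔮 h𝔮
    obtain ⟨hc₁, hs₁⟩ := Groth.Agent.Helper4.DomOpen.minimalPrime_point' x
      (⟨𝔭, h𝔭.1.1⟩ : PrimeSpectrum _) h𝔭
    obtain ⟨hc₂, hs₂⟩ := Groth.Agent.Helper4.DomOpen.minimalPrime_point' x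
      (⟨𝔮, h𝔮.1.1⟩ : PrimeSpectrum _) h𝔮
    have h1 := hkey _ _ hs₁ hs₂
      (fun w hw => max_of_closure_mem_irreducibleComponents _ hc₁ w hw)
      (fun w hw => max_of_closure_mem_irreducibleComponents _ hc₂ w hw)
    have h2 := (X.fromSpecStalk x).isEmbedding.injective h1
    exact congrArg PrimeSpectrum.asIdeal h2

end

end Groth.Agent.Helper5.UniComp
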