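import Mathlib
import Groth.Prelude
import Groth.Agent.Helper5.AdmComp1
import Groth.Agent.Helper5.AdmComp2
import Groth.Agent.Helper5.UniComp3
import Groth.Agent.Helper5.VarDim15
import Groth.Agent.Lead.SmNbhdC

/-!
# S3459: uniqueness of the admissible irreducible component, core step
-/

set_option autoImplicit false
set_option linter.style.haveILetI false
universe u

namespace Groth.Agent.Helper5.AdmComp

open TensorProduct IsLocalRing AlgebraicGeometry CategoryTheory CategoryTheory.Limits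
  TopologicalSpace Opposite Groth.Agent.Helper5.UOFlat Groth.Agent.Helper3.GRO
  Groth.Agent.Helper5.EqAt Groth.Agent.Helper5.MaxPt Groth.Agent.Helper5.EqRed
  Groth.Agent.Helper5.UniComp Groth.Agent.Helper5.OpenAt

section

variable {X Y : Scheme.{u}} (f : X ⟶ Y)

/-- reverse transport of geometric reducedness of the fibre -/
theorem geomReducedAt_transport' (y : Y) (w : ↥(f.fiber y))
    (h : FBase.IsGeomReducedAt (f.fiberToSpecResidueField (f ((f.fiberι y) w)))
      (f.asFiber ((f.fiberι y) w))) :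
    FBase.IsGeomReducedAt (f.fiberToSpecResidueField y) w := by
  have key : ∀ (y' : Y) (_ : y' = y) (w₁ : ↥(f.fiber y')),
      (f.fiberι y') w₁ = (f.fiberι y) w →
      FBase.IsGeomReducedAt (f.fiberToSpecResidueField y') w₁ →
      FBase.IsGeomReducedAt (f.fiberToSpecResidueField y) w := by
    intro y' hy'
    subst hy'
    intro w₁ h1 h2
    have : w₁ = w := (f.fiberι y').isEmbedding.injective h1
    rw [← this]
    exact h2
  exact key _ (Groth.Agent.Helper5.FibStalk.fiberι_apply f y w) _ (f.fiberι_asFiber _) h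

set_option maxHeartbeats 1000000 in
/-- Step 1: the generic point of the unique fibre component through `x` lies on `X'` when the
trace of `X'` on the fibre has full local dimension at `x`. -/
theorem exists_point_over_fibre_generic [LocallyOfFiniteType f] (x z₀ : X)
    (hfz₀ : f z₀ = f x) (hz₀x : z₀ ⤳ x)
    (hz₀max : ∀ t : X, t ⤳ z₀ → f t = f z₀ → t = z₀)
    (hz₀gen : ∀ z₁ : X, f z₁ = f x → z₁ ⤳ x → z₀ ⤳ z₁)
    (X' : Closeds X) (hx : x ∈ (X' : Set X))
    (hdim : FlatMor.localDim ↥((X' : Set X) ∩ f.base ⁻¹' {f.base x})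
        ⟨x, ⟨hx, Set.mem_singleton (f.base x)⟩⟩ = FlatMor.fibreDimAt f x) :
    ∃ w₀ : ↥(Scheme.IdealSheafData.vanishingIdeal X').subscheme,
      (Scheme.IdealSheafData.vanishingIdeal X').subschemeι w₀ = z₀ := by
  let ι := (Scheme.IdealSheafData.vanishingIdeal X').subschemeι
  let g := ι ≫ f
  obtain ⟨wx, hwx, hloc⟩ := localDim_closed_inter_fibre_eq f X' x hx
  have hgx : FlatMor.fibreDimAt g wx = FlatMor.fibreDimAt f x := hloc.symm.trans hdim
  obtain ⟨wz, hgwz, hwzx, hwzmax, hfd, tz, htz1, htz2⟩ :=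
    exists_max_generization_fibreDimAt_eq g wx
  let z₁ : X := ι wz
  have hfz₁ : f z₁ = f x := by
    have h1 : f (ι wz) = f (ι wx) := hgwz
    rw [hwx] at h1
    exact h1
  have hz₁x : z₁ ⤳ x := by
    have := hwzx.map ι.continuous
    rwa [hwx] at this
  have hz₀z₁ := hz₀gen z₁ hfz₁ hz₁x
  refine ⟨wz, ?_⟩
  by_contra hne
  have hne' : z₀ ≠ z₁ := fun h => hne h.symm
  have hlt := Groth.Agent.Helper5.VarDim.trdeg_lt_of_specializes_fiber f z₀ z₁ hz₀z₁ hne'
    (hfz₀.trans hfz₁.symm)
  have htr : @Algebra.trdeg (Y.residueField (f z₁)) (X.residueField z₁) _ _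
      (f.residueFieldMap z₁).hom.toAlgebra = tz := by
    rw [← trdeg_preimmersion_comp ι f wz]
    exact htz1
  obtain ⟨n₀, hn₀a, hn₀b⟩ := fibreDimAt_of_maximal f z₀
    (coheight_asFiber_eq_zero f z₀ (fun w hw hsp => hz₀max w hsp hw))
  have hle := fibreDimAt_le_of_specializes f z₀ x hz₀x
  rw [hn₀b, ← hgx, ← hfd, htz2] at hle
  have hle' : n₀ ≤ tz := by exact_mod_cast hle
  rw [htr, hn₀a] at hlt
  have : tz < n₀ := by exact_mod_cast hlt
  omega

set_option maxHeartbeats 2000000 in
/-- the core step -/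
theorem core [IsLocallyNoetherian Y] [LocallyOfFiniteType f] (z₀ : X)
    (hz₀max : ∀ t : X, t ⤳ z₀ → f t = f z₀ → t = z₀)
    (hred : FBase.IsGeomReducedAt (f.fiberToSpecResidueField (f z₀)) (f.asFiber z₀))
    (X' : Closeds X) (w₀ : ↥(Scheme.IdealSheafData.vanishingIdeal X').subscheme)
    (hw₀ : (Scheme.IdealSheafData.vanishingIdeal X').subschemeι w₀ = z₀)
    (hopen : EGA43.IsUnivOpenAt ((Scheme.IdealSheafData.vanishingIdeal X').subschemeι ≫ f) w₀) :
    (∀ ξ : X, ξ ⤳ z₀ → ξ ∈ (X' : Set X)) ∧ (∀ ξ : X, ξ ⤳ z₀ → ξ ∈ E f) := by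
  haveI : IsLocallyNoetherian X := LocallyOfFiniteType.isLocallyNoetherian f
  let ι := (Scheme.IdealSheafData.vanishingIdeal X').subschemeι
  have hrange : Set.range ι = (X' : Set X) := by
    rw [Scheme.IdealSheafData.range_subschemeι]; rfl
  -- the reduced base
  let I := Scheme.IdealSheafData.vanishingIdeal (⊤ : Closeds Y)
  let Y' : Scheme.{u} := I.subscheme
  let i : Y' ⟶ Y := I.subschemeι
  haveI : IsReduced Y' := Groth.Agent.Lead.VanBCA.isReduced_subscheme_vanishingIdeal ⊤
  have hri : Set.range i.base = Set.univ := by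
    rw [Scheme.IdealSheafData.range_subschemeι, Scheme.IdealSheafData.coe_support_vanishingIdeal]
    rfl
  haveI : Surjective i := ⟨Set.range_eq_univ.1 hri⟩
  haveI : IsLocallyNoetherian Y' := LocallyOfFiniteType.isLocallyNoetherian i
  let Xt := pullback f i
  let ft : Xt ⟶ Y' := pullback.snd f i
  let pr : Xt ⟶ X := pullback.fst f i
  have hc : IsPullback pr ft f i := IsPullback.of_hasPullback f i
  haveI : IsClosedImmersion pr :=
    MorphismProperty.of_isPullback (P := @IsClosedImmersion) hc.flip inferInstance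
  haveI : Surjective pr := MorphismProperty.of_isPullback (P := @Surjective) hc.flip inferInstance
  haveI : LocallyOfFiniteType ft := MorphismProperty.of_isPullback (P := @LocallyOfFiniteType) hc
    inferInstance
  haveI : LocallyOfFinitePresentation ft := Groth.Agent.Helper2.ArtSch.lfp_of_lft_noeth ft
  haveI : IsLocallyNoetherian Xt := LocallyOfFiniteType.isLocallyNoetherian ft
  have hcomm : ∀ w : Xt, f (pr w) = i (ft w) := fun w => by
    show (pr ≫ f) w = (ft ≫ i) w
    rw [hc.w]
  have hiinj : Function.Injective i := i.isEmbedding.injective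
  have hprinj : Function.Injective pr := pr.isEmbedding.injective
  have hprsp : ∀ a b : Xt, pr a ⤳ pr b ↔ a ⤳ b := fun a b => pr.isEmbedding.specializes_iff
  -- the base change of `X'`
  let T := pullback (ι ≫ f) i
  let pr' : T ⟶ (Scheme.IdealSheafData.vanishingIdeal X').subscheme := pullback.fst (ι ≫ f) i
  let g₀ : T ⟶ Y' := pullback.snd (ι ≫ f) i
  have hc' : IsPullback pr' g₀ (ι ≫ f) i := IsPullback.of_hasPullback (ι ≫ f) i
  haveI : Surjective pr' := MorphismProperty.of_isPullback (P := @Surjective) hc'.flip inferInstance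
  have hw : (pr' ≫ ι) ≫ f = g₀ ≫ i := by rw [Category.assoc]; exact hc'.w
  let j : T ⟶ Xt := hc.lift (pr' ≫ ι) g₀ hw
  have hjpr : j ≫ pr = pr' ≫ ι := hc.lift_fst _ _ _
  have hjft : j ≫ ft = g₀ := hc.lift_snd _ _ _
  have hsqj : IsPullback pr' j ι pr :=
    IsPullback.of_bot (by rw [hjft]; exact hc') hjpr.symm hc
  haveI : IsClosedImmersion j :=
    MorphismProperty.of_isPullback (P := @IsClosedImmersion) hsqj inferInstance
  obtain ⟨wt, hwt⟩ := pr'.surjective w₀
  let zt : Xt := j wt
  have hpzt : pr zt = z₀ := by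
    show (j ≫ pr) wt = z₀
    rw [hjpr, Scheme.Hom.comp_apply, hwt, hw₀]
  -- facts for `ft` at `zt`
  have hmaxt : ∀ t : Xt, t ⤳ zt → ft t = ft zt → t = zt := by
    intro t hsp hft
    apply hprinj
    rw [hpzt]
    apply hz₀max (pr t)
    · rw [← hpzt]; exact (hprsp t zt).2 hsp
    · rw [← hpzt, hcomm, hcomm, hft]
  have hredt : zt ∈ E ft := by
    rw [mem_E_iff_of_isPullback hc zt]
    let Pr : X → Prop := fun x₁ =>
      FBase.IsGeomReducedAt (f.fiberToSpecResidueField (f x₁)) (f.asFiber x₁)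
    have h2 : Pr z₀ := hred
    have h3 : Pr (pr zt) := hpzt.symm ▸ h2
    exact h3
  -- facts for `j ≫ ft` at `wt`
  have hopent : EGA43.IsUnivOpenAt (j ≫ ft) wt := by
    rw [hjft]
    exact Groth.Agent.Helper3.Lsc.isUnivOpenAt_of_isPullback (ι ≫ f) hopen hc' wt hwt
  have hredg := geomReducedAt_of_closedImmersion j ft wt hmaxt hredt
  have hmaxg : ∀ t : T, t ⤳ wt → (j ≫ ft) t = (j ≫ ft) wt → t = wt := by
    intro t hsp hft
    apply j.isEmbedding.injective
    exact hmaxt (j t) (hsp.map j.continuous) hft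
  haveI : LocallyOfFiniteType (j ≫ ft) := inferInstance
  have hyg : _root_.IsReduced (Y'.presheaf.stalk ((j ≫ ft) wt)) := inferInstance
  have hflatg := (flat_reduced_of_maximal (j ≫ ft) wt hmaxg hopent hredg hyg).1
  -- the algebra
  let A := Y'.presheaf.stalk (ft zt)
  let B := Xt.presheaf.stalk zt
  let B' := T.presheaf.stalk wt
  letI algB : Algebra A B := (ft.stalkMap zt).hom.toAlgebra
  letI algB' : Algebra A B' := ((j ≫ ft).stalkMap wt).hom.toAlgebra
  haveI : IsLocalHom (algebraMap A B) := inferInstanceAs (IsLocalHom (ft.stalkMap zt).hom)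
  have hcompst : ∀ a : A, ((j ≫ ft).stalkMap wt).hom a = (j.stalkMap wt).hom ((ft.stalkMap zt).hom a) := by
    intro a
    rw [Scheme.Hom.stalkMap_comp]
    rfl
  let π : B →ₐ[A] B' :=
    { (j.stalkMap wt).hom with
      commutes' := fun a => (hcompst a).symm }
  have hπsurj : Function.Surjective π := j.stalkMap_surjective wt
  haveI : Module.Flat A B' := hflatg
  haveI : IsNoetherianRing B := inferInstance
  obtain ⟨hmaxI, -⟩ := fib_package ft zt hmaxt hredt
  have hmaxI' : (maximalIdeal A).map (algebraMap A B) = maximalIdeal B := hmaxI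
  have hπinj : Function.Injective π := by
    apply injective_of_flat_quotient π hπsurj (maximalIdeal A)
    · rw [hmaxI', IsLocalRing.jacobson_eq_maximalIdeal ⊥ bot_ne_top]
    · rw [hmaxI']
      exact le_maximalIdeal (RingHom.ker_ne_top _)
  let e : B ≃ₐ[A] B' := AlgEquiv.ofBijective π ⟨hπinj, hπsurj⟩
  -- lifting generizations of `zt` to `T`
  have hlift : ∀ ξt : Xt, ξt ⤳ zt → ∃ t' : T, j t' = ξt := by
    intro ξt hsp
    obtain ⟨p, hp⟩ : ξt ∈ Set.range (Xt.fromSpecStalk zt) := by
      rw [Scheme.range_fromSpecStalk]; exact hsp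
    let p' : PrimeSpectrum B' := PrimeSpectrum.comap (e.symm : B' →+* B) p
    have hp' : PrimeSpectrum.comap (j.stalkMap wt).hom p' = p := by
      apply PrimeSpectrum.ext
      ext b
      show (e.symm ((j.stalkMap wt).hom b)) ∈ p.asIdeal ↔ b ∈ p.asIdeal
      have : e.symm ((j.stalkMap wt).hom b) = b := e.symm_apply_apply b
      rw [this]
    refine ⟨(T.fromSpecStalk wt) p', ?_⟩
    have h1 := congrArg (fun φ : Spec B' ⟶ Xt => φ p')
      (Scheme.SpecMap_stalkMap_fromSpecStalk j (x := wt))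
    have h2 : j ((T.fromSpecStalk wt) p') =
        (Xt.fromSpecStalk (j wt)) ((Spec.map (j.stalkMap wt)) p') := h1.symm
    rw [h2, ← hp]
    show (Xt.fromSpecStalk zt) (PrimeSpectrum.comap (j.stalkMap wt).hom p') = _
    rw [hp']
  refine ⟨?_, ?_⟩
  · intro ξ hξ
    obtain ⟨ξt, rfl⟩ := pr.surjective ξ
    have hsp : ξt ⤳ zt := by
      rw [← hprsp, hpzt]; exact hξ
    obtain ⟨t', rfl⟩ := hlift ξt hsp
    rw [← hrange]
    refine ⟨pr' t', ?_⟩
    show (pr' ≫ ι) t' = (j ≫ pr) t'
    rw [hjpr]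
  · -- flatness of `ft` at `zt`
    have hflatt : (ft.stalkMap zt).hom.Flat := by
      show Module.Flat A B
      exact Module.Flat.of_linearEquiv e.toLinearEquiv
    haveI hlfpfib : LocallyOfFinitePresentation (ft.fiberToSpecResidueField (ft zt)) :=
      Groth.Agent.Lead.SmNbhd.lfp_fiber ft (ft zt)
    have hfibmax : ∀ w' : ↥(ft.fiber (ft zt)), w' ⤳ ft.asFiber zt → w' = ft.asFiber zt := by
      intro w' hw'
      have h2 : (ft.fiberι (ft zt)) w' ⤳ zt := by
        have := hw'.map (ft.fiberι (ft zt)).continuous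
        rwa [Scheme.Hom.fiberι_asFiber] at this
      have h3 : ft ((ft.fiberι (ft zt)) w') = ft zt :=
        Groth.Agent.Helper5.FibStalk.fiberι_apply ft (ft zt) w'
      have h4 := hmaxt _ h2 h3
      apply (ft.fiberι (ft zt)).isEmbedding.injective
      rw [h4, Scheme.Hom.fiberι_asFiber]
    have hsm_fib : ft.asFiber zt ∈ (ft.fiberToSpecResidueField (ft zt)).smoothLocus :=
      @mem_smoothLocus_of_geomReducedAt_of_max (Y'.residueField (ft zt)) _ _
        (ft.fiberToSpecResidueField (ft zt)) hlfpfib (ft.asFiber zt) hredt hfibmax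
    have hsm : zt ∈ ft.smoothLocus :=
      (Groth.Agent.Helper2.FiberSmooth2.mem_smoothLocus_iff_flat_and_fiber ft zt).2
        ⟨hflatt, hsm_fib⟩
    intro ξ hξ
    obtain ⟨ξt, rfl⟩ := pr.surjective ξ
    have hsp : ξt ⤳ zt := by
      rw [← hprsp, hpzt]; exact hξ
    have hsmξ : ξt ∈ ft.smoothLocus := hsp.mem_open ft.smoothLocus.2 hsm
    haveI hlfpfibξ : LocallyOfFinitePresentation (ft.fiberToSpecResidueField (ft ξt)) :=
      Groth.Agent.Lead.SmNbhd.lfp_fiber ft (ft ξt)
    have hsmfibξ :=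
      ((Groth.Agent.Helper2.FiberSmooth2.mem_smoothLocus_iff_flat_and_fiber ft ξt).1 hsmξ).2
    have hEξ : ξt ∈ E ft :=
      @Groth.Agent.Lead.SmNbhd.geomReducedAt_of_mem_smoothLocus (Y'.residueField (ft ξt)) _ _
        (ft.fiberToSpecResidueField (ft ξt)) hlfpfibξ (ft.asFiber ξt) hsmfibξ
    exact (mem_E_iff_of_isPullback hc ξt).1 hEξ

end

end Groth.Agent.Helper5.AdmComp
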