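import Mathlib
import Groth.Prelude
import Groth.Agent.Helper5.AdmComp3

/-!
# S3459: uniqueness of the admissible irreducible component
-/

set_option autoImplicit false
set_option linter.style.haveILetI false
universe u

namespace Groth.Agent.Helper5.AdmComp

open AlgebraicGeometry CategoryTheory CategoryTheory.Limits TopologicalSpace Opposite
  Groth.Agent.Helper5.UOFlat Groth.Agent.Helper3.GRO

section

variable {X Y : Scheme.{u}} (f : X ⟶ Y)

/-- the admissibility predicate of S3459 -/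
def Adm (x : X) (X' : TopologicalSpace.Closeds X) : Prop :=
  (X' : Set X) ∈ irreducibleComponents (X : Type u) ∧ ∃ hx : x ∈ X',
    FlatMor.localDim ↥((X' : Set X) ∩ f.base ⁻¹' {f.base x})
        ⟨x, ⟨hx, Set.mem_singleton (f.base x)⟩⟩ =
      FlatMor.fibreDimAt f x ∧
    ∀ w : ↥(Scheme.IdealSheafData.vanishingIdeal X').subscheme,
      f.base ((Scheme.IdealSheafData.vanishingIdeal X').subschemeι.base w) = f.base x →
      x ∈ closure {(Scheme.IdealSheafData.vanishingIdeal X').subschemeι.base w} →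
      (∀ t : X, t ∈ (X' : Set X) → f.base t = f.base x →
          (Scheme.IdealSheafData.vanishingIdeal X').subschemeι.base w ∈ closure {t} →
          t = (Scheme.IdealSheafData.vanishingIdeal X').subschemeι.base w) →
      EGA43.IsUnivOpenAt ((Scheme.IdealSheafData.vanishingIdeal X').subschemeι ≫ f) w

set_option maxHeartbeats 1000000 in
theorem s3459 [IsLocallyNoetherian Y] [LocallyOfFiniteType f] (x : X) (η : Y)
    (h1 : ∃! Zc : Set ↥(f.fiber (f.base x)),
      Zc ∈ irreducibleComponents (↥(f.fiber (f.base x)) : Type u) ∧ f.asFiber x ∈ Zc)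
    (h2 : ∀ z : ↥(f.fiber (f.base x)), f.asFiber x ∈ closure {z} →
      (∀ z' : ↥(f.fiber (f.base x)), z ∈ closure {z'} → z' = z) →
      FBase.IsGeomReducedAt (f.fiberToSpecResidueField (f.base x)) z) :
    {X' : TopologicalSpace.Closeds X | Adm f x X'}.Subsingleton ∧
      ∀ X' : TopologicalSpace.Closeds X, Adm f x X' →
        ∀ ζ : ↥(f.fiber η),
          closure {(f.fiberι η).base ζ} = (X' : Set X) →
          FBase.IsGeomReducedAt (f.fiberToSpecResidueField η) ζ := by
  obtain ⟨Zc, ⟨hZc, hxZc⟩, huniq⟩ := h1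
  have hZirr : IsIrreducible Zc := hZc.1
  have hZclosed : IsClosed Zc := isClosed_of_mem_irreducibleComponents Zc hZc
  obtain ⟨ζ₀, hζ₀⟩ := QuasiSober.sober hZirr hZclosed
  have hζ₀cl : closure {ζ₀} = Zc := hζ₀.def
  have hζ₀x : ζ₀ ⤳ f.asFiber x := specializes_iff_mem_closure.2 (hζ₀cl.symm ▸ hxZc)
  have hζ₀max : ∀ z' : ↥(f.fiber (f.base x)), ζ₀ ∈ closure {z'} → z' = ζ₀ := by
    intro z' hz'
    have hirr : IsIrreducible (closure {z'}) := isIrreducible_singleton.closure
    have hle : Zc ≤ closure {z'} := by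
      rw [← hζ₀cl]
      exact closure_minimal (Set.singleton_subset_iff.2 hz') isClosed_closure
    have hge := hZc.2 hirr hle
    have h3 : z' ∈ closure {ζ₀} := by
      rw [hζ₀cl]; exact hge (subset_closure rfl)
    have hsp1 : ζ₀ ⤳ z' := specializes_iff_mem_closure.2 h3
    have hsp2 : z' ⤳ ζ₀ := specializes_iff_mem_closure.2 hz'
    exact (hsp2.antisymm hsp1).eq
  have hredζ₀ := h2 ζ₀ (hζ₀cl.symm ▸ hxZc) hζ₀max
  let z₀ : X := (f.fiberι (f.base x)) ζ₀
  have hfz₀ : f z₀ = f x := Groth.Agent.Helper5.FibStalk.fiberι_apply f (f x) ζ₀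
  have hz₀x : z₀ ⤳ x := by
    have := hζ₀x.map (f.fiberι (f.base x)).continuous
    rwa [Scheme.Hom.fiberι_asFiber] at this
  have hlift : ∀ t : X, f t = f x → ∃ t' : ↥(f.fiber (f.base x)), (f.fiberι (f.base x)) t' = t := by
    intro t ht
    have : t ∈ Set.range (f.fiberι (f.base x)) := by
      rw [Scheme.Hom.range_fiberι]; exact ht
    exact this
  have hz₀max : ∀ t : X, t ⤳ z₀ → f t = f z₀ → t = z₀ := by
    intro t hsp hft
    obtain ⟨t', rfl⟩ := hlift t (hft.trans hfz₀)
    have h3 : t' ⤳ ζ₀ := (f.fiberι (f.base x)).isEmbedding.specializes_iff.1 hsp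
    rw [hζ₀max t' (specializes_iff_mem_closure.1 h3)]
  have hz₀gen : ∀ z₁ : X, f z₁ = f x → z₁ ⤳ x → z₀ ⤳ z₁ := by
    intro z₁ hfz₁ hsp
    obtain ⟨z₁', rfl⟩ := hlift z₁ hfz₁
    have h3 : z₁' ⤳ f.asFiber x := by
      apply (f.fiberι (f.base x)).isEmbedding.specializes_iff.1
      rwa [Scheme.Hom.fiberι_asFiber]
    have h4 : f.asFiber x ∈ irreducibleComponent z₁' :=
      h3.mem_closed isClosed_irreducibleComponent mem_irreducibleComponent
    have h5 : irreducibleComponent z₁' = Zc :=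
      huniq _ ⟨irreducibleComponent_mem_irreducibleComponents z₁', h4⟩
    have h6 : z₁' ∈ closure {ζ₀} := by
      rw [hζ₀cl, ← h5]; exact mem_irreducibleComponent
    exact (specializes_iff_mem_closure.2 h6).map (f.fiberι (f.base x)).continuous
  have hred : FBase.IsGeomReducedAt (f.fiberToSpecResidueField (f z₀)) (f.asFiber z₀) :=
    geomReducedAt_transport f (f.base x) ζ₀ hredζ₀
  have hkey : ∀ X' : Closeds X, Adm f x X' →
      (z₀ ∈ (X' : Set X)) ∧ (∀ ξ : X, ξ ⤳ z₀ → ξ ∈ (X' : Set X)) ∧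
        (∀ ξ : X, ξ ⤳ z₀ → ξ ∈ E f) := by
    rintro X' ⟨hirr, hx, hdim, hop⟩
    obtain ⟨w₀, hw₀⟩ :=
      exists_point_over_fibre_generic f x z₀ hfz₀ hz₀x hz₀max hz₀gen X' hx hdim
    have hw₀' : (Scheme.IdealSheafData.vanishingIdeal X').subschemeι.base w₀ = z₀ := hw₀
    have hopen := hop w₀ (by rw [hw₀']; exact hfz₀)
      (by rw [hw₀']; exact specializes_iff_mem_closure.1 hz₀x)
      (by
        intro t _ hft hcl
        rw [hw₀'] at hcl ⊢
        exact hz₀max t (specializes_iff_mem_closure.2 hcl) (hft.trans hfz₀.symm))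
    obtain ⟨C1, C2⟩ := core f z₀ hz₀max hred X' w₀ hw₀ hopen
    exact ⟨C1 z₀ specializes_rfl, C1, C2⟩
  refine ⟨?_, ?_⟩
  · intro X₁ hX₁ X₂ hX₂
    have hle : ∀ A B : Closeds X, Adm f x A → Adm f x B → (A : Set X) ⊆ B := by
      intro A B hA hB
      obtain ⟨hzA, -, -⟩ := hkey A hA
      obtain ⟨-, C1, -⟩ := hkey B hB
      have hAirr : IsIrreducible (A : Set X) := hA.1.1
      obtain ⟨ξ, hξ⟩ := QuasiSober.sober hAirr A.isClosed
      have hξcl : closure {ξ} = (A : Set X) := hξ.def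
      have hξz : ξ ⤳ z₀ := specializes_iff_mem_closure.2 (hξcl.symm ▸ hzA)
      have hξB := C1 ξ hξz
      rw [← hξcl]
      exact closure_minimal (Set.singleton_subset_iff.2 hξB) B.isClosed
    exact Closeds.ext (Set.Subset.antisymm (hle X₁ X₂ hX₁ hX₂) (hle X₂ X₁ hX₂ hX₁))
  · intro X' hX' ζ hζ
    obtain ⟨hz, -, C2⟩ := hkey X' hX'
    have hsp : (f.fiberι η) ζ ⤳ z₀ := by
      apply specializes_iff_mem_closure.2
      have : z₀ ∈ closure {(f.fiberι η).base ζ} := hζ.symm ▸ hz
      exact this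
    exact geomReducedAt_transport' f η ζ (C2 _ hsp)

end

end Groth.Agent.Helper5.AdmComp
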