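import Mathlib

set_option autoImplicit false
universe u
open TensorProduct

namespace Groth.Agent.Helper5.AffDesc

section Module

variable {R R' M : Type*} [CommRing R] [CommRing R'] [Algebra R R']
  [AddCommGroup M] [Module R' M] [Module R M] [IsScalarTower R R' M]

/-- the counit `R' ⊗ M → M`, `r ⊗ m ↦ r • m` -/
noncomputable def eps (R R' M : Type*) [CommRing R] [CommRing R'] [Algebra R R']
    [AddCommGroup M] [Module R' M] [Module R M] [IsScalarTower R R' M] : R' ⊗[R] M →ₗ[R'] M :=
  AlgebraTensorModule.lift
    { toFun := fun r => (LinearMap.lsmul R' M r).restrictScalars R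
      map_add' := fun x y => by ext; simp [add_smul]
      map_smul' := fun x y => by ext; simp [mul_smul] }

@[simp] theorem eps_tmul (r : R') (m : M) : eps R R' M (r ⊗ₜ m) = r • m := by
  simp [eps]

/-- `η : M → R' ⊗ M`, `m ↦ 1 ⊗ m` -/
noncomputable abbrev eta (R R' M : Type*) [CommRing R] [CommRing R'] [Algebra R R']
    [AddCommGroup M] [Module R M] : M →ₗ[R] R' ⊗[R] M := TensorProduct.mk R R' M 1

variable (ρ : M →ₗ[R'] R' ⊗[R] M)

/-- `y = ρ (ε y)` for `y` in the equalizer of `id ⊗ ρ` and `id ⊗ η`. -/
theorem eq_rho_eps (y : R' ⊗[R] M)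
    (hy : (ρ.restrictScalars R).lTensor R' y = (eta R R' M).lTensor R' y) :
    y = ρ (eps R R' M y) := by
  have h1 : ∀ z : R' ⊗[R] M,
      eps R R' (R' ⊗[R] M) ((ρ.restrictScalars R).lTensor R' z) = ρ (eps R R' M z) := by
    intro z
    induction z using TensorProduct.induction_on with
    | zero => simp
    | tmul r m => simp
    | add a b ha hb => simp only [map_add, ha, hb]
  have h2 : ∀ z : R' ⊗[R] M, eps R R' (R' ⊗[R] M) ((eta R R' M).lTensor R' z) = z := by
    intro z
    induction z using TensorProduct.induction_on with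
    | zero => simp
    | tmul r m => simp [TensorProduct.smul_tmul']
    | add a b ha hb => simp only [map_add, ha, hb]
  rw [← h1, hy, h2]

/-- The descended module. -/
noncomputable abbrev descN : Submodule R M := LinearMap.eqLocus (ρ.restrictScalars R) (eta R R' M)

/-- the comparison map `R' ⊗ N → M` -/
noncomputable def psi (N : Submodule R M) : R' ⊗[R] N →ₗ[R'] M :=
  (eps R R' M).comp (AlgebraTensorModule.lTensor R' R' N.subtype)

@[simp] theorem psi_tmul (N : Submodule R M) (r : R') (n : N) : psi N (r ⊗ₜ n) = r • (n : M) := by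
  simp [psi]

theorem psi_bijective [Module.Flat R R'] (hcounit : ∀ m, eps R R' M (ρ m) = m)
    (hcoassoc : ∀ m, (ρ.restrictScalars R).lTensor R' (ρ m) = (eta R R' M).lTensor R' (ρ m))
    (N : Submodule R M) (hN : N = descN ρ) :
    Function.Bijective (psi (R' := R') N) := by
  subst hN
  have hF2 := Module.Flat.eqLocus_lTensor_eq (R := R) R' R' (ρ.restrictScalars R) (eta R R' M)
  have hF3 : Function.Injective (AlgebraTensorModule.lTensor R' R' (descN ρ).subtype) :=
    Module.Flat.lTensor_preserves_injective_linearMap (M := R') (descN ρ).subtype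
      (Submodule.injective_subtype _)
  constructor
  · rw [← LinearMap.ker_eq_bot, LinearMap.ker_eq_bot']
    intro x hx
    apply hF3
    rw [map_zero]
    set y := AlgebraTensorModule.lTensor R' R' (descN ρ).subtype x with hy
    have hmem : y ∈ LinearMap.eqLocus (AlgebraTensorModule.lTensor R' R' (ρ.restrictScalars R))
        (AlgebraTensorModule.lTensor R' R' (eta R R' M)) := by
      rw [hF2]; exact ⟨x, rfl⟩
    have h3 := eq_rho_eps ρ y hmem
    have h4 : eps R R' M y = 0 := hx
    rw [h3, h4, map_zero]
  · intro m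
    have hmem : ρ m ∈ LinearMap.eqLocus (AlgebraTensorModule.lTensor R' R' (ρ.restrictScalars R))
        (AlgebraTensorModule.lTensor R' R' (eta R R' M)) := hcoassoc m
    rw [hF2] at hmem
    obtain ⟨x, hx⟩ := hmem
    refine ⟨x, ?_⟩
    show eps R R' M (AlgebraTensorModule.lTensor R' R' (descN ρ).subtype x) = m
    rw [hx, hcounit]

end Module

section Alg

variable {R R' A' : Type u} [CommRing R] [CommRing R'] [CommRing A'] [Algebra R R'] [Algebra R' A']
  [Algebra R A'] [IsScalarTower R R' A']
variable (ρ : A' →ₐ[R'] R' ⊗[R] A')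

/-- the descended algebra -/
noncomputable def descA : Subalgebra R A' :=
  AlgHom.equalizer (ρ.restrictScalars R) Algebra.TensorProduct.includeRight

theorem mem_descA (a : A') : a ∈ descA ρ ↔ ρ a = 1 ⊗ₜ a := by
  simp [descA, AlgHom.mem_equalizer]

/-- the counit as an algebra map -/
noncomputable def epsA (R R' A' : Type u) [CommRing R] [CommRing R'] [CommRing A'] [Algebra R R']
    [Algebra R' A'] [Algebra R A'] [IsScalarTower R R' A'] : R' ⊗[R] A' →ₐ[R'] A' :=
  Algebra.TensorProduct.lift (Algebra.ofId R' A') (AlgHom.id R A') (fun _ _ => Commute.all _ _)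

@[simp] theorem epsA_tmul (r : R') (a : A') : epsA R R' A' (r ⊗ₜ a) = algebraMap R' A' r * a := by
  simp [epsA, Algebra.ofId_apply]

/-- the comparison map `R' ⊗ A → A'` -/
noncomputable def PsiA : R' ⊗[R] (descA ρ) →ₐ[R'] A' :=
  Algebra.TensorProduct.lift (Algebra.ofId R' A') (descA ρ).val (fun _ _ => Commute.all _ _)

@[simp] theorem PsiA_tmul (r : R') (a : descA ρ) :
    PsiA ρ (r ⊗ₜ a) = algebraMap R' A' r * (a : A') := by
  simp [PsiA, Algebra.ofId_apply]

theorem PsiA_bijective [Module.Flat R R'] (hcounit : ∀ a, epsA R R' A' (ρ a) = a)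
    (hcoassoc : ∀ a, Algebra.TensorProduct.map (AlgHom.id R R') (ρ.restrictScalars R) (ρ a) =
      Algebra.TensorProduct.map (AlgHom.id R R')
        (Algebra.TensorProduct.includeRight : A' →ₐ[R] R' ⊗[R] A') (ρ a)) :
    Function.Bijective (PsiA ρ) := by
  have h1 : ∀ z : R' ⊗[R] A', eps R R' A' z = epsA R R' A' z := by
    intro z
    induction z using TensorProduct.induction_on with
    | zero => simp
    | tmul r m => simp [Algebra.smul_def]
    | add a b ha hb => simp only [map_add, ha, hb]
  have h2 : ∀ z : R' ⊗[R] A', (ρ.toLinearMap.restrictScalars R).lTensor R' z =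
      Algebra.TensorProduct.map (AlgHom.id R R') (ρ.restrictScalars R) z := by
    intro z
    induction z using TensorProduct.induction_on with
    | zero => simp
    | tmul r m => simp
    | add a b ha hb => simp only [map_add, ha, hb]
  have h3 : ∀ z : R' ⊗[R] A', (eta R R' A').lTensor R' z =
      Algebra.TensorProduct.map (AlgHom.id R R')
        (Algebra.TensorProduct.includeRight : A' →ₐ[R] R' ⊗[R] A') z := by
    intro z
    induction z using TensorProduct.induction_on with
    | zero => simp
    | tmul r m => simp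
    | add a b ha hb => simp only [map_add, ha, hb]
  have hN : Subalgebra.toSubmodule (descA ρ) = descN ρ.toLinearMap := by
    ext a
    simp [mem_descA, LinearMap.mem_eqLocus]
  have key := psi_bijective ρ.toLinearMap (fun m => by rw [h1]; exact hcounit m)
    (fun m => by rw [h2, h3]; exact hcoassoc m) _ hN
  have h4 : ∀ x : R' ⊗[R] (descA ρ), PsiA ρ x = psi (R' := R') (Subalgebra.toSubmodule (descA ρ)) x := by
    intro x
    induction x using TensorProduct.induction_on with
    | zero => simp
    | tmul r m =>
      rw [PsiA_tmul]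
      erw [psi_tmul]
      rw [Algebra.smul_def]
    | add a b ha hb => simp only [map_add, ha, hb]
  have h5 : ⇑(PsiA ρ) = ⇑(psi (R' := R') (Subalgebra.toSubmodule (descA ρ))) := funext h4
  rw [h5]
  exact key

end Alg

end Groth.Agent.Helper5.AffDesc
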