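import Groth.Agent.Helper5.AffDesc9
import Groth.Agent.Helper4.AlgSpSrc
import Mathlib

set_option autoImplicit false
universe u
open CategoryTheory CategoryTheory.Limits AlgebraicGeometry Opposite TensorProduct

namespace Groth.Agent.Helper5.AffDesc

open AlgSp Groth.Agent.Helper5.GeomFibSp Groth.Agent.Helper5.ZarGlue

variable {S : Scheme.{u}}

theorem isAffineMor_of_repWith {X Y : Sp S} {f : X ⟶ Y} (h : RepWith @IsAffineHom f) :
    IsAffineMor f := by
  intro Z hZ g
  obtain ⟨W, i, fst', sq'⟩ := h.1 g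
  have hi : IsAffineHom i.left := h.2 g fst' i sq'
  have : IsAffine Z.left := hZ
  exact ⟨W, i, fst', sq', isAffine_of_isAffineHom i.left⟩

set_option backward.isDefEq.respectTransparency.types false in
/-- S9942 -/
theorem s9942 {X Y : Sp S} (hY : IsAlgSpace Y) (f : X ⟶ Y)
    (h : ∀ (V : Over S), IsAffine V.left → ∀ (b : (yon S).obj V ⟶ Y), RepWith @Etale b →
      ∀ (P : Sp S) (fst : P ⟶ X) (snd : P ⟶ (yon S).obj V), IsPullback fst snd f b →
      ∃ (W : Over S), IsAffine W.left ∧ Nonempty ((yon S).obj W ≅ P)) :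
    IsAffineMor f := by
  obtain ⟨U, p, hpe, hps⟩ := hY.atlas
  have hF := IsPullback.of_hasPullback f p
  refine s9943 f U p hpe hps (pullback.fst f p) (pullback.snd f p) hF ?_
  apply isAffineMor_of_repWith
  -- Zariski cover of `U` by affines
  obtain ⟨𝒰, h𝒰⟩ : ∃ 𝒰 : Scheme.OpenCover.{u} U.left, 𝒰 = U.left.affineCover := ⟨_, rfl⟩
  let U' : 𝒰.I₀ → Over S := fun x => Over.mk (𝒰.f x ≫ U.hom)
  let t : ∀ x, U' x ⟶ U := fun x => Over.homMk (𝒰.f x) rfl
  have hU' : ∀ x, IsAffine (U' x).left := fun x => by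
    subst h𝒰
    exact inferInstanceAs (IsAffine (U.left.affineCover.X x))
  have hoi : ∀ x, IsOpenImmersion (t x).left := fun x => inferInstanceAs (IsOpenImmersion (𝒰.f x))
  have hj : ∀ x, RepWith @IsOpenImmersion ((yon S).map (t x)) := fun x =>
    (repWith_yon_map_iff _ _).2 (hoi x)
  have hje : ∀ x, RepWith @Etale ((yon S).map (t x) ≫ p) := fun x =>
    Groth.Agent.Helper4.AlgSpSrc.repWith_comp _
      ((repWith_yon_map_iff _ _).2 (haveI := hoi x; inferInstance)) hpe
  have hcov : ∀ x : Points ((yon S).obj U), ∃ i, x ∈ Set.range (Points.map ((yon S).map (t i))) := by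
    intro x
    obtain ⟨i, y, hy⟩ := 𝒰.exists_eq (Points.toScheme U x)
    refine ⟨i, Points.ofScheme (U' i) y, ?_⟩
    rw [← Points.ofPt_eq_map_ofScheme]
    apply (Points.schemeEquiv U).symm.injective
    change Points.toScheme U (Points.ofPt ((yon S).map (t i)) y) = Points.toScheme U x
    rw [Points.toScheme_ofPt]
    exact hy
  let Fi : 𝒰.I₀ → Sp S := fun x => pullback (pullback.snd f p) ((yon S).map (t x))
  have sqi : ∀ x, IsPullback (pullback.fst (pullback.snd f p) ((yon S).map (t x)))
      (pullback.snd (pullback.snd f p) ((yon S).map (t x))) (pullback.snd f p)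
      ((yon S).map (t x)) := fun x => IsPullback.of_hasPullback _ _
  refine repWith_of_zarCover @IsAffineHom (pullback.snd f p) (fun x => (yon S).obj (U' x))
    (fun x => (yon S).map (t x)) hj hcov Fi _ _ sqi ?_
  intro x
  have big : IsPullback (pullback.fst (pullback.snd f p) ((yon S).map (t x)) ≫ pullback.fst f p)
      (pullback.snd (pullback.snd f p) ((yon S).map (t x))) f ((yon S).map (t x) ≫ p) :=
    (sqi x).paste_horiz hF
  obtain ⟨W, hW, ⟨e⟩⟩ := h (U' x) (hU' x) _ (hje x) _ _ _ big
  obtain ⟨w, hw⟩ := (yon S).map_surjective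
    (e.hom ≫ pullback.snd (pullback.snd f p) ((yon S).map (t x)))
  have h1 : RepWith @IsAffineHom ((yon S).map w) := by
    rw [repWith_yon_map_iff]
    have := hW
    have := hU' x
    show IsAffineHom w.left
    infer_instance
  have h2 : pullback.snd (pullback.snd f p) ((yon S).map (t x)) = e.inv ≫ (yon S).map w := by
    rw [hw, Iso.inv_hom_id_assoc]
  rw [h2]
  exact MorphismProperty.RespectsIso.precomp _ e.inv _ h1

end Groth.Agent.Helper5.AffDesc
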