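import Groth.Agent.Helper5.QuotEff4
import Groth.Agent.Helper5.FppfLocT1
import Groth.Agent.S9884
import Mathlib

set_option autoImplicit false
universe u
open CategoryTheory CategoryTheory.Limits AlgebraicGeometry Opposite MorphismProperty

namespace Groth.Agent.Helper5.QuotPres

open AlgSp Groth.Agent.Helper4 Groth.Agent.Helper5.QuotEff

variable {S : Scheme.{u}}


/-- the identification `rep V ≅ h_V` -/
noncomputable abbrev eY (V : Over S) : QuotSh.rep Scheme.fppfPrecoverage V ≅ (yon S).obj V :=
  QuotSh.repIsoUliftYoneda Scheme.fppfPrecoverage V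

theorem eY_natural {V W : Over S} (g : V ⟶ W) :
    QuotSh.repMap Scheme.fppfPrecoverage g ≫ (eY W).hom = (eY V).hom ≫ (yon S).map g := by
  have h := (sheafificationNatIso (J S) (Type (u + 1))).hom.naturality ((yon S).map g)
  rw [← cancel_epi (eY V).inv, ← cancel_mono (eY W).inv]
  simp only [Category.assoc, Iso.hom_inv_id, Category.comp_id, Iso.inv_hom_id_assoc]
  exact h.symm

variable {R U : Over S} (s t : R ⟶ U)

/-- the quotient map written on `h_U` -/
noncomputable def p : (yon S).obj U ⟶ QuotSh.quot Scheme.fppfPrecoverage s t :=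
  (eY U).inv ≫ QuotSh.quotπ Scheme.fppfPrecoverage s t

theorem p_cond : (yon S).map s ≫ p s t = (yon S).map t ≫ p s t := by
  unfold p
  have h1 : (yon S).map s ≫ (eY U).inv = (eY R).inv ≫ QuotSh.repMap Scheme.fppfPrecoverage s := by
    rw [← cancel_epi (eY R).hom, ← Category.assoc, ← eY_natural]
    simp
  have h2 : (yon S).map t ≫ (eY U).inv = (eY R).inv ≫ QuotSh.repMap Scheme.fppfPrecoverage t := by
    rw [← cancel_epi (eY R).hom, ← Category.assoc, ← eY_natural]
    simp
  rw [← Category.assoc, h1, ← Category.assoc, h2, Category.assoc, Category.assoc,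
    QuotSh.quot_condition]

/-- comparison with the coequalizer in `Sp S` -/
noncomputable def ψ : quotSp ((yon S).map s) ((yon S).map t) ≅ QuotSh.quot Scheme.fppfPrecoverage s t where
  hom := quotSpDesc (p s t) (p_cond s t)
  inv := coequalizer.desc ((eY U).hom ≫ quotSpπ ((yon S).map s) ((yon S).map t)) (by
    rw [← Category.assoc, eY_natural, ← Category.assoc, eY_natural, Category.assoc, Category.assoc,
      quotSp_condition])
  hom_inv_id := by
    apply coequalizer.hom_ext
    show quotSpπ _ _ ≫ _ = quotSpπ _ _ ≫ _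
    rw [← Category.assoc, quotSpπ_desc]
    unfold p
    rw [Category.assoc]
    erw [coequalizer.π_desc]
    rw [← Category.assoc, Iso.inv_hom_id, Category.id_comp, Category.comp_id]
  inv_hom_id := by
    apply coequalizer.hom_ext
    erw [coequalizer.π_desc_assoc]
    rw [Category.assoc, quotSpπ_desc]
    unfold p
    rw [Iso.hom_inv_id_assoc]
    exact (Category.comp_id _).symm

theorem π_ψ : quotSpπ ((yon S).map s) ((yon S).map t) ≫ (ψ s t).hom = p s t :=
  quotSpπ_desc _ _ (p s t) (p_cond s t)

theorem isEqvRelSp_of_isEqvRel (h : IsEqvRel s t) : IsEqvRelSp ((yon S).map s) ((yon S).map t) where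
  injective T r r' h1 h2 := by
    obtain ⟨r, rfl⟩ := (yon S).map_surjective r
    obtain ⟨r', rfl⟩ := (yon S).map_surjective r'
    rw [← Functor.map_comp, ← Functor.map_comp] at h1 h2
    rw [h.injective T r r' ((yon S).map_injective h1) ((yon S).map_injective h2)]
  equivalence T := by
    have he := h.equivalence T
    refine ⟨fun a => ?_, fun {a b} hab => ?_, fun {a b c} hab hbc => ?_⟩
    · obtain ⟨a, rfl⟩ := (yon S).map_surjective a
      obtain ⟨r, h1, h2⟩ := he.refl a
      exact ⟨(yon S).map r, by rw [← Functor.map_comp, h1], by rw [← Functor.map_comp, h2]⟩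
    · obtain ⟨a, rfl⟩ := (yon S).map_surjective a
      obtain ⟨b, rfl⟩ := (yon S).map_surjective b
      obtain ⟨r, h1, h2⟩ := hab
      obtain ⟨r, rfl⟩ := (yon S).map_surjective r
      rw [← Functor.map_comp] at h1 h2
      obtain ⟨r', h1', h2'⟩ := he.symm ⟨r, (yon S).map_injective h1, (yon S).map_injective h2⟩
      exact ⟨(yon S).map r', by rw [← Functor.map_comp, h1'], by rw [← Functor.map_comp, h2']⟩
    · obtain ⟨a, rfl⟩ := (yon S).map_surjective a
      obtain ⟨b, rfl⟩ := (yon S).map_surjective b
      obtain ⟨c, rfl⟩ := (yon S).map_surjective c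
      obtain ⟨r, h1, h2⟩ := hab
      obtain ⟨r, rfl⟩ := (yon S).map_surjective r
      obtain ⟨r₂, h3, h4⟩ := hbc
      obtain ⟨r₂, rfl⟩ := (yon S).map_surjective r₂
      rw [← Functor.map_comp] at h1 h2 h3 h4
      obtain ⟨r', h1', h2'⟩ := he.trans ⟨r, (yon S).map_injective h1, (yon S).map_injective h2⟩
        ⟨r₂, (yon S).map_injective h3, (yon S).map_injective h4⟩
      exact ⟨(yon S).map r', by rw [← Functor.map_comp, h1'], by rw [← Functor.map_comp, h2']⟩

theorem isPullback_p (h : IsEqvRel s t) :
    IsPullback ((yon S).map t) ((yon S).map s) (p s t) (p s t) := by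
  have h0 := isPullback_quot _ _ (isEqvRelSp_of_isEqvRel s t h)
  rw [← π_ψ]
  have hm : Mono (ψ s t).hom := inferInstance
  refine ⟨⟨by rw [← Category.assoc, ← Category.assoc, h0.w]⟩, ⟨?_⟩⟩
  refine PullbackCone.IsLimit.mk _ (fun c => h0.lift c.fst c.snd ?_) ?_ ?_ ?_
  · rw [← cancel_mono (ψ s t).hom, Category.assoc, Category.assoc]; exact c.condition
  · intro c; exact h0.lift_fst _ _ _
  · intro c; exact h0.lift_snd _ _ _
  · intro c m h1 h2
    apply h0.hom_ext
    · rw [h0.lift_fst]; exact h1
    · rw [h0.lift_snd]; exact h2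

instance epi_p : Epi (p s t) := by
  unfold p
  have : Epi (QuotSh.quotπ Scheme.fppfPrecoverage s t) := by
    unfold QuotSh.quotπ
    exact coequalizer.π_epi
  infer_instance

theorem surjective_of_isEqvRel (h : IsEqvRel s t) : Surjective s.left := by
  obtain ⟨r, h1, h2⟩ := (h.equivalence U).refl (𝟙 U)
  constructor
  intro x
  refine ⟨r.left x, ?_⟩
  rw [← Scheme.Hom.comp_apply, ← Over.comp_left, h2]
  rfl

set_option backward.isDefEq.respectTransparency.types false in
/-- S9869 -/
theorem s9869 (h : IsEtaleEqvRel s t)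
    (hq : IsAlgSpace (QuotSh.quot Scheme.fppfPrecoverage s t)) :
    IsPresentation s t (p s t) := by
  have hpb := isPullback_p s t h.toIsEqvRel
  have hrep : Representable (p s t) := hq.representable_from_yon _
  have : Sheaf.IsLocallySurjective (p s t) :=
    (Sheaf.isLocallySurjective_iff_epi' (Type (u + 1)) (p s t)).2 inferInstance
  have := FppfLocT.etale_fppf.{u}
  have := FppfLocT.surjective_fppf.{u}
  refine ⟨h, ?_, ?_, hpb⟩
  · exact Groth.Agent.S9884.result S _ _ _ (p s t) hrep (p s t) _ _ _ hpb @Etale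
      ((repWith_yon_map_iff _ _).2 h.etale_left)
  · exact Groth.Agent.S9884.result S _ _ _ (p s t) hrep (p s t) _ _ _ hpb @Surjective
      ((repWith_yon_map_iff _ _).2 (surjective_of_isEqvRel s t h.toIsEqvRel))

end Groth.Agent.Helper5.QuotPres
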