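import Groth.Agent.Helper5.ZarGlue12
import Groth.Agent.Helper4.AlgSpOpenImage
import Mathlib

set_option autoImplicit false
set_option linter.style.haveILetI false
set_option linter.unusedSectionVars false
set_option linter.unusedVariables false
universe u
open CategoryTheory CategoryTheory.Limits AlgebraicGeometry Opposite

namespace Groth.Agent.Helper5.SpCoprod

open AlgSp Groth.Agent.Helper5.ZarGlue

variable {S : Scheme.{u}}

/-- the terminal sheaf `h_S` -/
noncomputable def isTerminalYon : IsTerminal ((yon S).obj (Over.mk (𝟙 S))) :=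
  IsTerminal.isTerminalObj (yon S) _ Over.mkIdTerminal

/-- the map to the terminal sheaf -/
noncomputable def toOne (G : Sp S) : G ⟶ (yon S).obj (Over.mk (𝟙 S)) := isTerminalYon.from G

theorem comp_toOne {V : Over S} {G : Sp S} (a : (yon S).obj V ⟶ G) :
    a ≫ toOne G = (yon S).map (Over.homMk V.hom : V ⟶ Over.mk (𝟙 S)) :=
  isTerminalYon.hom_ext _ _

/-- local-to-global lifting through a monomorphism of sheaves -/
theorem exists_lift_of_local_lift {A B : Sp S} (m : A ⟶ B) [Mono m] {T : Over S}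
    (s : (yon S).obj T ⟶ B) (R : Sieve T) (hR : R ∈ J S T)
    (h : ∀ ⦃V : Over S⦄ (γ : V ⟶ T), R γ →
      ∃ a : (yon S).obj V ⟶ A, a ≫ m = (yon S).map γ ≫ s) :
    ∃ a₀ : (yon S).obj T ⟶ A, a₀ ≫ m = s := by
  have hA : Presieve.IsSheaf (J S) A.obj := (isSheaf_iff_isSheaf_of_type _ _).1 A.property
  have hB : Presieve.IsSheaf (J S) B.obj := (isSheaf_iff_isSheaf_of_type _ _).1 B.property
  choose a ha using h
  let x : Presieve.FamilyOfElements A.obj R.arrows :=
    fun V γ hγ => (J S).uliftYonedaEquiv (a γ hγ)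
  have hx : x.Compatible := by
    intro Y₁ Y₂ Z g₁ g₂ f₁ f₂ h₁ h₂ e
    show A.obj.map g₁.op ((J S).uliftYonedaEquiv (a f₁ h₁)) =
      A.obj.map g₂.op ((J S).uliftYonedaEquiv (a f₂ h₂))
    rw [GrothendieckTopology.uliftYonedaEquiv_naturality,
      GrothendieckTopology.uliftYonedaEquiv_naturality]
    congr 1
    rw [← cancel_mono m, Category.assoc, Category.assoc, ha, ha, ← Category.assoc,
      ← Category.assoc, ← Functor.map_comp, ← Functor.map_comp, e]
  obtain ⟨t, ht⟩ : ∃ t, x.IsAmalgamation t :=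
    ⟨(hA R hR).amalgamate x hx, (hA R hR).isAmalgamation hx⟩
  refine ⟨(J S).uliftYonedaEquiv.symm t, ?_⟩
  apply (J S).uliftYonedaEquiv.injective
  apply (hB R hR).isSeparatedFor.ext
  intro V γ hγ
  rw [GrothendieckTopology.uliftYonedaEquiv_naturality,
    GrothendieckTopology.uliftYonedaEquiv_naturality, ← Category.assoc,
    GrothendieckTopology.uliftYonedaEquiv_symm_naturality_left]
  have e1 : A.obj.map γ.op t = (J S).uliftYonedaEquiv (a γ hγ) := ht γ hγ
  rw [e1, Equiv.symm_apply_apply, ha]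

end Groth.Agent.Helper5.SpCoprod
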