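import Groth.Agent.Helper5.AffDesc10
import Groth.Agent.Helper5.QuotPres1
import Groth.Agent.Helper5.SpCoprod1
import Mathlib

set_option autoImplicit false
universe u
open CategoryTheory CategoryTheory.Limits AlgebraicGeometry Opposite TensorProduct

namespace Groth.Agent.Helper5.AffDesc

open AlgSp Groth.Agent.Helper5.GeomFibSp Groth.Agent.Helper5.ZarGlue Groth.Agent.Helper5.QuotPres
  Groth.Agent.Helper5.SpCoprod

set_option backward.isDefEq.respectTransparency.types false in
/-- S5232 -/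
theorem s5232 {S S' : Scheme.{u}} (f : S' ⟶ S)
    [Flat f] [Surjective f] [LocallyOfFinitePresentation f]
    (Z : QuotSh.Sh Scheme.fppfPrecoverage S)
    (T' : Over S) (a : T' ⟶ Over.mk f) [IsAffineHom a.left]
    (φ : QuotSh.rep Scheme.fppfPrecoverage T' ≅ Z ⨯ QuotSh.rep Scheme.fppfPrecoverage (Over.mk f))
    (hφ : φ.hom ≫ prod.snd = QuotSh.repMap Scheme.fppfPrecoverage a) :
    ∃ T : Over S, IsAffineHom T.hom ∧ Nonempty (QuotSh.rep Scheme.fppfPrecoverage T ≅ Z) := by
  let V : Over S := Over.mk f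
  let c : V ⟶ Over.mk (𝟙 S) := Over.homMk f
  let p : (yon S).obj V ⟶ (yon S).obj (Over.mk (𝟙 S)) := (yon S).map c
  have hpf : RepWith @Flat p := (repWith_yon_map_iff _ _).2 (inferInstanceAs (Flat f))
  have hpl : RepWith @LocallyOfFinitePresentation p :=
    (repWith_yon_map_iff _ _).2 (inferInstanceAs (LocallyOfFinitePresentation f))
  have hps : RepWith @Surjective p := (repWith_yon_map_iff _ _).2 (inferInstanceAs (Surjective f))
  let snd' : (Z ⨯ QuotSh.rep Scheme.fppfPrecoverage V) ⟶ (yon S).obj V := prod.snd ≫ (eY V).hom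
  have h0 : IsPullback (prod.fst : Z ⨯ QuotSh.rep Scheme.fppfPrecoverage V ⟶ Z) prod.snd
      (isTerminalYon.from Z) (isTerminalYon.from (QuotSh.rep Scheme.fppfPrecoverage V)) :=
    IsPullback.of_is_product (limit.isLimit (pair Z (QuotSh.rep Scheme.fppfPrecoverage V)))
      isTerminalYon
  have sq : IsPullback (prod.fst : Z ⨯ QuotSh.rep Scheme.fppfPrecoverage V ⟶ Z) snd' (toOne Z) p := by
    refine IsPullback.of_iso h0 (Iso.refl _) (Iso.refl _) (eY V) (Iso.refl _) ?_ ?_ ?_ ?_
    · simp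
    · simp [snd']
    · exact isTerminalYon.hom_ext _ _
    · exact isTerminalYon.hom_ext _ _
  have hsnd : snd' = (φ.inv ≫ (eY T').hom) ≫ (yon S).map a := by
    simp only [snd']
    rw [Category.assoc, ← eY_natural, ← hφ, Category.assoc, Iso.inv_hom_id_assoc]
  have h1 : RepWith @IsAffineHom ((yon S).map a) :=
    (repWith_yon_map_iff _ _).2 (inferInstanceAs (IsAffineHom a.left))
  have h2 : RepWith @IsAffineHom snd' := by
    rw [hsnd]
    exact MorphismProperty.RespectsIso.precomp _ (φ.symm ≪≫ eY T').hom _ h1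
  have h3 : IsAffineMor (toOne Z) :=
    isAffineMor_of_fppf_chart (toOne Z) V p hpf hpl hps _ snd' sq (isAffineMor_of_repWith h2)
  have hR : RepWith @IsAffineHom (toOne Z) := by
    apply repWith_of_affine_test
    intro Z₀ hZ₀ g
    obtain ⟨W, i, fst, sqW, hW⟩ := h3 hZ₀ g
    have := hZ₀
    have := hW
    exact ⟨W, i, fst, sqW, inferInstance⟩
  obtain ⟨T, i, fst, sqT⟩ := hR.1 (𝟙 _)
  have hi : IsAffineHom i.left := hR.2 _ _ _ sqT
  have : IsIso fst := sqT.isIso_fst_of_isIso
  refine ⟨T, ?_, ⟨eY T ≪≫ asIso fst⟩⟩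
  have hw : i.left ≫ 𝟙 S = T.hom := Over.w i
  rw [← hw]
  have h5 : i.left ≫ 𝟙 S = i.left := Category.comp_id _
  exact h5 ▸ hi

end Groth.Agent.Helper5.AffDesc
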