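import Groth.Agent.Helper4.AlgSpOpenImage
import Mathlib

/-! The open subspace given by the image of a flat, locally finitely presented map from a scheme
(fppf analogue of `Helper4.AlgSpOpenImage`). -/

set_option autoImplicit false
universe u
open CategoryTheory CategoryTheory.Limits AlgebraicGeometry Opposite MorphismProperty

namespace Groth.Agent.Helper5.FppfImg

open AlgSp Groth.Agent.Helper4.AlgSpOpenImage

variable {S : Scheme.{u}}

/-- the corestriction of a morphism to an open containing its image is a base change of it -/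
theorem isPullback_corestrict {U T : Over S} (O : T.left.Opens) (g : U ⟶ T)
    (g₀ : U ⟶ Over.mk (O.ι ≫ T.hom))
    (hg₀ : g₀ ≫ (Over.homMk O.ι rfl : Over.mk (O.ι ≫ T.hom) ⟶ T) = g) :
    IsPullback (𝟙 U.left) g₀.left g.left O.ι := by
  have h := Groth.Agent.Helper4.AlgSpPB.isPullback_of_mono g₀.left O.ι
  have e : g₀.left ≫ O.ι = g.left := by rw [← hg₀]; rfl
  rwa [e] at h

section Image

variable {X : Sp S} {W : Over S} (a : (yon S).obj W ⟶ X)

theorem toImg_repWith (P : MorphismProperty Scheme.{u}) [P.IsStableUnderBaseChange]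
    (ha : RepWith P a) : RepWith P (toImg a) := by
  have sq : IsPullback (𝟙 _) (toImg a) (toImg a ≫ imgι a) (imgι a) :=
    Groth.Agent.Helper4.AlgSpPB.isPullback_of_mono (toImg a) (imgι a)
  rw [toImg_ι] at sq
  have i1 := repWith_isStableUnderBaseChange (S := S) P
  exact MorphismProperty.of_isPullback sq ha

theorem toImg_surjective' (ha : Representable a) : RepWith @Surjective (toImg a) := by
  have hrep : Representable (toImg a) := by
    have sq : IsPullback (𝟙 _) (toImg a) (toImg a ≫ imgι a) (imgι a) :=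
      Groth.Agent.Helper4.AlgSpPB.isPullback_of_mono (toImg a) (imgι a)
    rw [toImg_ι] at sq
    exact MorphismProperty.of_isPullback sq ha
  refine ⟨hrep, ?_⟩
  intro T V ξ fst snd sq
  show Surjective snd.left
  refine ⟨fun t => ?_⟩
  obtain ⟨U', g', y, hu, hy⟩ := local_lift a ξ t
  obtain ⟨l, hl⟩ := (yon S).map_surjective (sq.lift y ((yon S).map g') hy)
  have hl2 : l ≫ snd = g' := by
    apply (yon S).map_injective
    rw [Functor.map_comp, hl, sq.lift_snd]
  obtain ⟨u', rfl⟩ := hu
  exact ⟨l.left u', by rw [← hl2]; rfl⟩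

/-- Key pullback square (fppf version): the base change of the image along `ξ : h_T ⟶ X` is the
open image of `W ×_X T ⟶ T`. -/
theorem exists_open_pullback' (haf : RepWith @Flat a)
    (hal : RepWith @LocallyOfFinitePresentation a) {T : Over S} (ξ : (yon S).obj T ⟶ X) :
    ∃ (O : T.left.Opens) (fstO : (yon S).obj (Over.mk (O.ι ≫ T.hom)) ⟶ img a),
      IsPullback fstO ((yon S).map (Over.homMk O.ι rfl : Over.mk (O.ι ≫ T.hom) ⟶ T))
        (imgι a) ξ := by
  have har := haf.rep
  have hpb : IsPullback (har.fst ξ) ((yon S).map (har.snd ξ)) a ξ := har.isPullback ξ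
  have hsf : Flat (har.snd ξ).left := haf.property _ _ _ hpb
  have hsl : LocallyOfFinitePresentation (har.snd ξ).left := hal.property _ _ _ hpb
  generalize har.fst ξ = fstV at hpb
  generalize har.snd ξ = sndV at hpb hsf hsl
  let O : T.left.Opens := ⟨Set.range sndV.left.base, sndV.left.isOpenMap.isOpen_range⟩
  let ι' : Over.mk (O.ι ≫ T.hom) ⟶ T := Over.homMk O.ι rfl
  have hmono : Mono ι' := by
    have : Mono ((Over.forget S).map ι') := by
      show Mono O.ι
      infer_instance
    exact (Over.forget S).mono_of_mono_map this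
  have hmono' : Mono ((yon S).map ι') := mono_yon_map ι'
  -- corestriction
  obtain ⟨c, hc⟩ := exists_factor_opens O sndV (fun v => ⟨v, rfl⟩)
  have hcpb := isPullback_corestrict O sndV c hc
  have hcf : Flat c.left := MorphismProperty.of_isPullback (P := @Flat) hcpb hsf
  have hcl : LocallyOfFinitePresentation c.left :=
    MorphismProperty.of_isPullback (P := @LocallyOfFinitePresentation) hcpb hsl
  have hcs : Surjective c.left := by
    refine ⟨fun o => ?_⟩
    obtain ⟨v, hv⟩ : (O.ι o) ∈ Set.range sndV.left.base := o.2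
    refine ⟨v, ?_⟩
    apply O.ι.isOpenEmbedding.injective
    rw [← hv, ← hc]
    rfl
  -- the section of the image over `O`
  let x : X.obj.obj (op (Over.mk (O.ι ≫ T.hom))) := (J S).uliftYonedaEquiv ((yon S).map ι' ≫ ξ)
  have hxc : (Subfunctor.range a.hom).sieveOfSection x c := by
    refine ⟨(J S).uliftYonedaEquiv fstV, ?_⟩
    show a.hom.app _ ((J S).uliftYonedaEquiv fstV) = X.obj.map c.op x
    rw [← GrothendieckTopology.uliftYonedaEquiv_comp, hpb.w,
      GrothendieckTopology.uliftYonedaEquiv_naturality, ← Category.assoc, ← Functor.map_comp, hc]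
  have hx : (Subfunctor.range a.hom).sieveOfSection x ∈ J S (Over.mk (O.ι ≫ T.hom)) := by
    refine GrothendieckTopology.superset_covering _ ?_
      (Groth.Agent.Helper4.AlgSpBasic.generate_singleton_mem_J c)
    rw [Sieve.generate_le_iff]
    rintro _ _ ⟨⟩
    exact hxc
  let fstO : (yon S).obj (Over.mk (O.ι ≫ T.hom)) ⟶ img a :=
    (J S).uliftYonedaEquiv.symm ⟨x, hx⟩
  have hw : fstO ≫ imgι a = (yon S).map ι' ≫ ξ := by
    apply (J S).uliftYonedaEquiv.injective
    rw [GrothendieckTopology.uliftYonedaEquiv_comp, Equiv.apply_symm_apply]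
    rfl
  refine ⟨O, fstO, ⟨⟨hw⟩, ⟨?_⟩⟩⟩
  -- the lift
  have hlift : ∀ c' : PullbackCone (imgι a) ξ, ∃ l : c'.pt ⟶ (yon S).obj (Over.mk (O.ι ≫ T.hom)),
      l ≫ (yon S).map ι' = c'.snd := by
    intro c'
    refine exists_lift_of_mono ((yon S).map ι') c'.snd fun U s => ?_
    obtain ⟨g, hg⟩ := (yon S).map_surjective (s ≫ c'.snd)
    have hrange : ∀ u : U.left, g.left u ∈ O := by
      intro u
      obtain ⟨U', g', y, ⟨u', hu'⟩, hy⟩ := local_lift a (s ≫ c'.fst) u
      have h1 : y ≫ a = (yon S).map (g' ≫ g) ≫ ξ := by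
        rw [← toImg_ι a, ← Category.assoc, hy, Category.assoc, Category.assoc, c'.condition,
          Functor.map_comp, hg, Category.assoc, Category.assoc]
      obtain ⟨l₀, hl₀⟩ := (yon S).map_surjective (hpb.lift y ((yon S).map (g' ≫ g)) h1)
      have h2 : l₀ ≫ sndV = g' ≫ g := by
        apply (yon S).map_injective
        rw [Functor.map_comp, hl₀, hpb.lift_snd]
      refine ⟨l₀.left u', ?_⟩
      rw [← hu']
      show (l₀ ≫ sndV).left u' = (g' ≫ g).left u'
      rw [h2]
    obtain ⟨g₀, hg₀⟩ := exists_factor_opens O g hrange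
    exact ⟨(yon S).map g₀, by rw [← Functor.map_comp, hg₀, hg]⟩
  choose l hl using hlift
  refine PullbackCone.IsLimit.mk _ l ?_ hl ?_
  · intro c'
    rw [← cancel_mono (imgι a), Category.assoc, hw, ← Category.assoc, hl, c'.condition]
  · intro c' m _ h2
    rw [← cancel_mono ((yon S).map ι'), h2, hl]

theorem imgι_isOpenImmersion' (haf : RepWith @Flat a)
    (hal : RepWith @LocallyOfFinitePresentation a) : RepWith @IsOpenImmersion (imgι a) := by
  refine MorphismProperty.relative.of_exists fun T ξ => ?_
  obtain ⟨O, fstO, sq⟩ := exists_open_pullback' a haf hal ξ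
  exact ⟨_, fstO, _, sq, (inferInstance : IsOpenImmersion O.ι)⟩

end Image

end Groth.Agent.Helper5.FppfImg
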