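import Groth.Agent.Helper5.AffDesc12
import Groth.Agent.Helper5.FppfImg1
import Mathlib

set_option autoImplicit false
universe u
open CategoryTheory CategoryTheory.Limits AlgebraicGeometry Opposite TensorProduct

namespace Groth.Agent.Helper5.AffDesc13

open AlgSp Groth.Agent.Helper5.AffDesc Groth.Agent.Helper4.AlgSpOpenImage
  Groth.Agent.Helper4.AlgSpSrc Groth.Agent.Helper4.AlgSpBasic Groth.Agent.Helper5.FppfImg
  Groth.Agent.Helper5.AffDesc12

variable {S : Scheme.{u}}

/-- fppf-chart version of `repWith_of_etale_chart` -/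
theorem repWith_of_fppf_chart (P : MorphismProperty Scheme.{u}) [P.IsStableUnderBaseChange]
    [IsZariskiLocalAtTarget P] [P.DescendsAlong (@Surjective ⊓ @Flat ⊓ @QuasiCompact)]
    (hPaff : P ≤ @IsAffineHom)
    {X Y : Sp S} (f : X ⟶ Y) (V : Over S)
    (p : (yon S).obj V ⟶ Y) (hpf : RepWith @Flat p) (hpl : RepWith @LocallyOfFinitePresentation p)
    (hps : RepWith @Surjective p)
    {P₀ : Sp S} (fst : P₀ ⟶ X) (snd : P₀ ⟶ (yon S).obj V) (sq : IsPullback fst snd f p)
    (h : RepWith P snd) : RepWith P f := by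
  have haff : IsAffineMor snd := by
    intro Z hZ g
    obtain ⟨W, i, fst', sq'⟩ := h.1 g
    have hi : P i.left := h.2 g fst' i sq'
    have : IsAffineHom i.left := hPaff _ hi
    have : IsAffine Z.left := hZ
    exact ⟨W, i, fst', sq', isAffine_of_isAffineHom i.left⟩
  have hf : IsAffineMor f := isAffineMor_of_fppf_chart f V p hpf hpl hps fst snd sq haff
  have hrep := representable_of_isAffineMor hf
  have : Sheaf.IsLocallySurjective p := Groth.Agent.S9885.result S _ _ p hpf hpl hps
  have := FppfLocT.isLocalAtTarget_fppf P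
  exact Groth.Agent.S9884.result S X Y _ f hrep p P₀ fst snd sq P h

theorem closedImmersion_of_fppf_chart {X Y : Sp S} (f : X ⟶ Y) (V : Over S)
    (p : (yon S).obj V ⟶ Y) (hpf : RepWith @Flat p) (hpl : RepWith @LocallyOfFinitePresentation p)
    (hps : RepWith @Surjective p)
    {P₀ : Sp S} (fst : P₀ ⟶ X) (snd : P₀ ⟶ (yon S).obj V) (sq : IsPullback fst snd f p)
    (h : RepWith @IsClosedImmersion snd) : RepWith @IsClosedImmersion f := by
  have := Groth.Agent.S0083.result.{u}
  exact repWith_of_fppf_chart @IsClosedImmersion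
    (fun _ _ g (hi : IsClosedImmersion g) => (inferInstance : IsAffineHom g))
    f V p hpf hpl hps fst snd sq h

set_option backward.isDefEq.respectTransparency.types false in
theorem immersion_of_fppf_chart {X Y : Sp S} (f : X ⟶ Y) (V : Over S)
    (p : (yon S).obj V ⟶ Y) (hpf : RepWith @Flat p) (hpl : RepWith @LocallyOfFinitePresentation p)
    (hps : RepWith @Surjective p)
    {P₀ : Sp S} (fst : P₀ ⟶ X) (snd : P₀ ⟶ (yon S).obj V) (sq : IsPullback fst snd f p)
    (h : RepWith @IsImmersion snd) : RepWith @IsImmersion f := by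
  obtain ⟨W', w', b, sqW⟩ := h.1 (𝟙 _)
  have hw' : IsImmersion w'.left := h.2 (𝟙 _) b w' sqW
  have hb : IsIso b := sqW.isIso_fst_of_isIso
  have hbsnd : b ≫ snd = (yon S).map w' := by simpa using sqW.w
  -- the coborder factorisation
  let O : V.left.Opens := w'.left.coborderRange
  let U' : Over S := Over.mk (O.ι ≫ V.hom)
  let ι' : U' ⟶ V := Over.homMk O.ι rfl
  let k : W' ⟶ U' := Over.homMk w'.left.liftCoborder (by
    show w'.left.liftCoborder ≫ O.ι ≫ V.hom = W'.hom
    rw [← Category.assoc, Scheme.Hom.liftCoborder_ι]; exact Over.w w')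
  have hk : k ≫ ι' = w' := by
    ext
    exact Scheme.Hom.liftCoborder_ι _
  have hkc : IsClosedImmersion k.left :=
    (inferInstance : IsClosedImmersion w'.left.liftCoborder)
  have hι'f : Flat ι'.left := (inferInstance : Flat O.ι)
  have hι'l : LocallyOfFinitePresentation ι'.left :=
    (inferInstance : LocallyOfFinitePresentation O.ι)
  have hι'mono : Mono ι' := by
    have : Mono ι'.left := (inferInstance : Mono O.ι)
    exact Over.mono_of_mono_left ι'
  have hymono : Mono ((yon S).map ι') := mono_yon_map ι'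
  let a : (yon S).obj U' ⟶ Y := (yon S).map ι' ≫ p
  have haf : RepWith @Flat a :=
    repWith_comp @Flat ((repWith_yon_map_iff _ ι').2 hι'f) hpf
  have : MorphismProperty.IsMultiplicative (@LocallyOfFinitePresentation :
      MorphismProperty Scheme.{u}) := { id_mem := fun _ => inferInstance }
  have hal : RepWith @LocallyOfFinitePresentation a :=
    repWith_comp @LocallyOfFinitePresentation ((repWith_yon_map_iff _ ι').2 hι'l) hpl
  -- factor `f` through the open image of `a`
  obtain ⟨l, hl⟩ : ∃ l : X ⟶ img a, l ≫ imgι a = f := by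
    apply exists_lift_of_mono
    intro U s
    obtain ⟨T, t, pf, sqT⟩ := hpf.1 (s ≫ f)
    have ht : Flat t.left := hpf.2 _ pf t sqT
    have htl : LocallyOfFinitePresentation t.left := hpl.2 _ pf t sqT
    have hts : Surjective t.left := hps.2 _ pf t sqT
    let c : (yon S).obj T ⟶ P₀ :=
      sq.lift ((yon S).map t ≫ s) pf (by rw [Category.assoc]; exact sqT.w.symm)
    let a' : (yon S).obj T ⟶ img a := c ≫ inv b ≫ (yon S).map k ≫ toImg a
    have ha' : a' ≫ imgι a = (yon S).map t ≫ s ≫ f := by
      have e1 : (yon S).map k ≫ a = b ≫ snd ≫ p := by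
        show (yon S).map k ≫ (yon S).map ι' ≫ p = _
        rw [← Functor.map_comp_assoc, hk, ← hbsnd, Category.assoc]
      simp only [a', Category.assoc, toImg_ι]
      rw [e1, IsIso.inv_hom_id_assoc, ← Category.assoc c, sq.lift_snd]
      exact sqT.w.symm ▸ rfl
    apply Groth.Agent.Helper5.SpCoprod.exists_lift_of_local_lift (imgι a) (s ≫ f)
      (Sieve.generate (Presieve.singleton t)) (generate_singleton_mem_J t)
    rintro V' γ ⟨Z, γ', _, ⟨⟩, rfl⟩
    exact ⟨(yon S).map γ' ≫ a', by rw [Category.assoc, ha', Functor.map_comp, Category.assoc]⟩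
  -- the chart square for `l`
  have sqL : IsPullback b ((yon S).map k) snd ((yon S).map ι') := by
    apply isPullback_of_isIso_of_mono
    rw [hbsnd, ← Functor.map_comp, hk]
  have big : IsPullback ((b ≫ fst) ≫ 𝟙 X) ((yon S).map k) (l ≫ imgι a) (toImg a ≫ imgι a) := by
    rw [hl, toImg_ι, Category.comp_id]
    exact sqL.paste_horiz sq
  have sq2 : IsPullback (b ≫ fst) ((yon S).map k) l (toImg a) := by
    refine IsPullback.of_right big ?_ (Groth.Agent.Helper4.AlgSpPB.isPullback_of_mono l (imgι a))
    rw [← cancel_mono (imgι a), Category.assoc, Category.assoc, Category.assoc, hl, toImg_ι]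
    show b ≫ fst ≫ f = (yon S).map k ≫ (yon S).map ι' ≫ p
    rw [← Functor.map_comp_assoc, hk, ← hbsnd, Category.assoc, sq.w]
  have hlc : RepWith @IsClosedImmersion l :=
    closedImmersion_of_fppf_chart l U' (toImg a) (toImg_repWith a @Flat haf)
      (toImg_repWith a @LocallyOfFinitePresentation hal) (toImg_surjective' a haf.1)
      (b ≫ fst) ((yon S).map k) sq2 ((repWith_yon_map_iff _ k).2 hkc)
  have hli : RepWith @IsImmersion l :=
    repWith_mono (fun g (hg : IsClosedImmersion g) => (inferInstance : IsImmersion g)) hlc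
  have hιi : RepWith @IsImmersion (imgι a) :=
    repWith_mono (fun g (hg : IsOpenImmersion g) => (inferInstance : IsImmersion g))
      (imgι_isOpenImmersion' a haf hal)
  rw [← hl]
  exact repWith_comp @IsImmersion hli hιi

end Groth.Agent.Helper5.AffDesc13
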