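import Groth.Agent.Helper5.AffDesc13
import Groth.Agent.Helper5.FppfLift
import Groth.Agent.Helper5.ZarGlue7
import Mathlib

set_option autoImplicit false
universe u
open CategoryTheory CategoryTheory.Limits AlgebraicGeometry Opposite TensorProduct

namespace Groth.Agent.Helper5.AffDesc14

open AlgSp Groth.Agent.Helper5.AffDesc Groth.Agent.Helper4.AlgSpOpenImage
  Groth.Agent.Helper4.AlgSpSrc Groth.Agent.Helper4.AlgSpBasic Groth.Agent.Helper5.FppfImg
  Groth.Agent.Helper5.AffDesc13 Groth.Agent.Helper5.ZarGlue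

variable {S : Scheme.{u}}

set_option backward.isDefEq.respectTransparency.types false in
/-- A morphism to a representable sheaf which becomes an immersion after base change along flat,
lfp maps `c z : V z ⟶ Z` whose images cover `Z` is an immersion. -/
theorem immersion_of_fppf_family {F : Sp S} {Z : Over S} (s : F ⟶ (yon S).obj Z)
    (V : Z.left → Over S) (c : ∀ z, V z ⟶ Z) (hcf : ∀ z, Flat (c z).left)
    (hcp : ∀ z, LocallyOfFinitePresentation (c z).left)
    (hz : ∀ z, z ∈ Set.range (c z).left)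
    (h : ∀ z (P₀ : Sp S) (fst : P₀ ⟶ F) (snd : P₀ ⟶ (yon S).obj (V z)),
      IsPullback fst snd s ((yon S).map (c z)) → RepWith @IsImmersion snd) :
    RepWith @IsImmersion s := by
  let O : Z.left → Z.left.Opens := fun z =>
    ⟨Set.range (c z).left.base, (c z).left.isOpenMap.isOpen_range⟩
  let Zo : Z.left → Over S := fun z => Over.mk ((O z).ι ≫ Z.hom)
  let ιO : ∀ z, Zo z ⟶ Z := fun z => Over.homMk (O z).ι rfl
  have hoi : ∀ z, IsOpenImmersion (ιO z).left := fun z =>
    inferInstanceAs (IsOpenImmersion (O z).ι)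
  have hj : ∀ z, RepWith @IsOpenImmersion ((yon S).map (ιO z)) := fun z =>
    (repWith_yon_map_iff _ _).2 (hoi z)
  have hcov : ∀ x : Points ((yon S).obj Z), ∃ z, x ∈ Set.range (Points.map ((yon S).map (ιO z))) := by
    intro x
    let z := Points.toScheme Z x
    have hzO : z ∈ O z := hz z
    refine ⟨z, Points.ofScheme (Zo z) ⟨z, hzO⟩, ?_⟩
    rw [← Points.ofPt_eq_map_ofScheme]
    apply (Points.schemeEquiv Z).symm.injective
    change Points.toScheme Z (Points.ofPt ((yon S).map (ιO z)) ⟨z, hzO⟩) = Points.toScheme Z x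
    rw [Points.toScheme_ofPt]
    rfl
  let Fi : Z.left → Sp S := fun z => pullback s ((yon S).map (ιO z))
  have sqi : ∀ z, IsPullback (pullback.fst s ((yon S).map (ιO z)))
      (pullback.snd s ((yon S).map (ιO z))) s ((yon S).map (ιO z)) :=
    fun z => IsPullback.of_hasPullback _ _
  refine repWith_of_zarCover @IsImmersion s (fun z => (yon S).obj (Zo z))
    (fun z => (yon S).map (ιO z)) hj hcov Fi _ _ sqi ?_
  intro z
  -- the corestriction of `c z`
  obtain ⟨c', hc'⟩ := exists_factor_opens (O z) (c z) (fun v => ⟨v, rfl⟩)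
  have hcpb := isPullback_corestrict (O z) (c z) c' hc'
  have hc'f : Flat c'.left := MorphismProperty.of_isPullback (P := @Flat) hcpb (hcf z)
  have hc'l : LocallyOfFinitePresentation c'.left :=
    MorphismProperty.of_isPullback (P := @LocallyOfFinitePresentation) hcpb (hcp z)
  have hc's : Surjective c'.left := by
    refine ⟨fun o => ?_⟩
    obtain ⟨v, hv⟩ : ((O z).ι o) ∈ Set.range (c z).left.base := o.2
    refine ⟨v, ?_⟩
    apply (O z).ι.isOpenEmbedding.injective
    rw [← hv, ← hc']
    rfl
  have sq0 := IsPullback.of_hasPullback (pullback.snd s ((yon S).map (ιO z))) ((yon S).map c')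
  refine immersion_of_fppf_chart (pullback.snd s ((yon S).map (ιO z))) (V z) ((yon S).map c')
    ((repWith_yon_map_iff _ _).2 hc'f) ((repWith_yon_map_iff _ _).2 hc'l)
    ((repWith_yon_map_iff _ _).2 hc's) _ _ sq0 ?_
  have big := sq0.paste_horiz (sqi z)
  rw [← Functor.map_comp, hc'] at big
  exact h z _ _ _ big

set_option backward.isDefEq.respectTransparency.types false in
/-- S10547 -/
theorem s10547 : IsLocalOnBase (IsFppfCover (S := S)) (RepWith @IsImmersion) := by
  intro ι Y Yi g hY hYi hcov X f hX Xi p q hXi sq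
  constructor
  · intro hf i
    exact (RepWith (S := S) @IsImmersion).of_isPullback (sq i) hf
  · intro hp
    apply repWith_of_affine_test
    intro Z hZ gZ
    have sqF : IsPullback (pullback.fst f gZ) (pullback.snd f gZ) f gZ :=
      IsPullback.of_hasPullback _ _
    suffices hF : RepWith @IsImmersion (pullback.snd f gZ) by
      obtain ⟨W, i, fst', sqW⟩ := hF.1 (𝟙 _)
      have hi := hF.2 (𝟙 _) fst' i sqW
      refine ⟨W, i, fst' ≫ pullback.fst f gZ, ?_, hi⟩
      have := sqW.paste_horiz sqF
      simpa using this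
    have H : ∀ z : ↥Z.left, ∃ (V : Over S) (c : V ⟶ Z) (i : ι) (l : (yon S).obj V ⟶ Yi i),
        IsAffine V.left ∧ Flat c.left ∧ LocallyOfFinitePresentation c.left ∧
        z ∈ Set.range c.left ∧ l ≫ g i = (yon S).map c ≫ gZ := by
      intro z
      obtain ⟨i, y, hy⟩ := hcov.2 (Points.map gZ (Points.schemeHomeo Z z))
      obtain ⟨V, c, l, hVa, hcf, hcp, hz, hl⟩ :=
        Groth.Agent.Helper5.FppfFpqc.exists_local_lift hY (hYi i) (g i) (hcov.1 i).1 (hcov.1 i).2
          Z gZ z y hy
      exact ⟨V, c, i, l, hVa, hcf, hcp, hz, hl⟩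
    choose V c i l hVa hcf hcp hz hl using H
    refine immersion_of_fppf_family (pullback.snd f gZ) V c hcf hcp hz ?_
    intro z P₀ fst₀ snd₀ sq₀
    have big : IsPullback (fst₀ ≫ pullback.fst f gZ) snd₀ f ((yon S).map (c z) ≫ gZ) :=
      sq₀.paste_horiz sqF
    have hcomm : (fst₀ ≫ pullback.fst f gZ) ≫ f = (snd₀ ≫ l z) ≫ g (i z) := by
      rw [big.w, Category.assoc, hl z]
    have e1 : fst₀ ≫ pullback.fst f gZ = (sq (i z)).lift _ _ hcomm ≫ q (i z) :=
      ((sq (i z)).lift_fst _ _ hcomm).symm
    rw [e1, ← hl z] at big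
    have sq' : IsPullback ((sq (i z)).lift _ _ hcomm) snd₀ (p (i z)) (l z) :=
      IsPullback.of_right big ((sq (i z)).lift_snd _ _ hcomm) (sq (i z))
    exact (RepWith (S := S) @IsImmersion).of_isPullback sq' (hp (i z))

end Groth.Agent.Helper5.AffDesc14
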