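import Groth.Agent.Helper5.AffDesc1
import Groth.Agent.Helper5.GeomFibSp1
import Mathlib

set_option autoImplicit false
universe u
open CategoryTheory CategoryTheory.Limits AlgebraicGeometry Opposite TensorProduct

namespace Groth.Agent.Helper5.AffDesc

open AlgSp Groth.Agent.Helper5.GeomFibSp

variable {S : Scheme.{u}} {R : Type u} [CommRing R] (tS : Spec (CommRingCat.of R) ⟶ S)

/-- `Spec` of an `R`-algebra as a scheme over `S` (through `tS : Spec R ⟶ S`). -/
noncomputable def sp (B : Type u) [CommRing B] [Algebra R B] : Over S :=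
  Over.mk (Spec.map (CommRingCat.ofHom (algebraMap R B)) ≫ tS)

variable {B C D : Type u} [CommRing B] [CommRing C] [CommRing D] [Algebra R B] [Algebra R C]
  [Algebra R D]

/-- `Spec` of an `R`-algebra map, over `S`. -/
noncomputable def spMap (φ : B →ₐ[R] C) : sp tS C ⟶ sp tS B :=
  Over.homMk (Spec.map (CommRingCat.ofHom φ.toRingHom)) (by
    simp only [sp, Over.mk_hom]
    rw [← Category.assoc, ← Spec.map_comp, ← CommRingCat.ofHom_comp]
    congr 3
    exact φ.comp_algebraMap)

@[simp] theorem spMap_left (φ : B →ₐ[R] C) :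
    (spMap tS φ).left = Spec.map (CommRingCat.ofHom φ.toRingHom) := rfl

theorem spMap_comp (φ : B →ₐ[R] C) (ψ : C →ₐ[R] D) :
    spMap tS (ψ.comp φ) = spMap tS ψ ≫ spMap tS φ := by
  ext1
  show Spec.map (CommRingCat.ofHom (ψ.comp φ).toRingHom) =
    Spec.map (CommRingCat.ofHom ψ.toRingHom) ≫ Spec.map (CommRingCat.ofHom φ.toRingHom)
  rw [← Spec.map_comp, ← CommRingCat.ofHom_comp]
  rfl

theorem spMap_id : spMap tS (AlgHom.id R B) = 𝟙 (sp tS B) := by
  ext1
  show Spec.map (CommRingCat.ofHom (AlgHom.id R B).toRingHom) = 𝟙 (Spec (CommRingCat.of B))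
  exact Spec.map_id _

theorem spMap_injective {φ ψ : B →ₐ[R] C} (h : spMap tS φ = spMap tS ψ) : φ = ψ := by
  have h1 : Spec.map (CommRingCat.ofHom φ.toRingHom) = Spec.map (CommRingCat.ofHom ψ.toRingHom) :=
    congrArg (fun m => m.left) h
  have h2 := Spec.map_injective h1
  have h3 : φ.toRingHom = ψ.toRingHom := by
    have := congrArg CommRingCat.Hom.hom h2
    simpa using this
  exact AlgHom.coe_ringHom_injective h3

/-- pushout squares of `R`-algebras give pullback squares over `S` -/
theorem isPullback_spMap {P : Type u} [CommRing P] [Algebra R P] (φ : B →ₐ[R] P) (ψ : C →ₐ[R] P)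
    (h : IsPushout (CommRingCat.ofHom (algebraMap R B)) (CommRingCat.ofHom (algebraMap R C))
      (CommRingCat.ofHom φ.toRingHom) (CommRingCat.ofHom ψ.toRingHom)) :
    IsPullback (spMap tS φ) (spMap tS ψ) (spMap tS (Algebra.ofId R B))
      (spMap tS (Algebra.ofId R C)) := by
  apply isPullback_of_left
  · rw [← spMap_comp, ← spMap_comp]
    congr 1
    ext
  · exact isPullback_SpecMap_of_isPushout _ _ _ _ h

/-- `Spec (B ⊗ C) = Spec B ×_{Spec R} Spec C` over `S`. -/
theorem isPullback_tensor :
    IsPullback (spMap tS (Algebra.TensorProduct.includeLeft : B →ₐ[R] B ⊗[R] C))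
      (spMap tS (Algebra.TensorProduct.includeRight : C →ₐ[R] B ⊗[R] C))
      (spMap tS (Algebra.ofId R B)) (spMap tS (Algebra.ofId R C)) :=
  isPullback_spMap tS _ _ (CommRingCat.isPushout_tensorProduct R B C)

end Groth.Agent.Helper5.AffDesc
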