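import Groth.Agent.Helper5.AffDesc2
import Mathlib

set_option autoImplicit false
universe u
open CategoryTheory CategoryTheory.Limits AlgebraicGeometry Opposite TensorProduct

namespace Groth.Agent.Helper5.AffDesc

open AlgSp Groth.Agent.Helper5.GeomFibSp

variable {S : Scheme.{u}} {R R' A' : Type u} [CommRing R] [CommRing R'] [CommRing A']
  [Algebra R R'] [Algebra R' A'] [Algebra R A'] [IsScalarTower R R' A']
  (tS : Spec (CommRingCat.of R) ⟶ S)

/-- `T' ⟶ T` -/
noncomputable abbrev cT (R' : Type u) [CommRing R'] [Algebra R R'] : sp tS R' ⟶ sp tS R :=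
  spMap tS (Algebra.ofId R R')

/-- `X' ⟶ T'` -/
noncomputable abbrev gX (R' A' : Type u) [CommRing R'] [CommRing A'] [Algebra R R'] [Algebra R' A']
    [Algebra R A'] [IsScalarTower R R' A'] : sp tS A' ⟶ sp tS R' :=
  spMap tS (IsScalarTower.toAlgHom R R' A')

/-- `pr₁ : X'' ⟶ X'` -/
noncomputable abbrev pr1 (R' A' : Type u) [CommRing R'] [CommRing A'] [Algebra R R']
    [Algebra R A'] : sp tS (R' ⊗[R] A') ⟶ sp tS A' :=
  spMap tS (Algebra.TensorProduct.includeRight : A' →ₐ[R] R' ⊗[R] A')

/-- `pr₂ : X'' ⟶ T'` -/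
noncomputable abbrev pr2 (R' A' : Type u) [CommRing R'] [CommRing A'] [Algebra R R']
    [Algebra R A'] : sp tS (R' ⊗[R] A') ⟶ sp tS R' :=
  spMap tS (Algebra.TensorProduct.includeLeft : R' →ₐ[R] R' ⊗[R] A')

theorem gX_cT : gX tS R' A' ≫ cT tS R' = spMap tS (Algebra.ofId R A') := by
  rw [← spMap_comp]
  congr 1
  ext

theorem isPullback_X'' :
    IsPullback (pr2 tS R' A') (pr1 tS R' A') (cT tS R') (gX tS R' A' ≫ cT tS R') := by
  rw [gX_cT]
  exact isPullback_tensor tS

variable {F : Sp S} {f : F ⟶ (yon S).obj (sp tS R)} {fst : (yon S).obj (sp tS A') ⟶ F}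
  (sq : IsPullback fst ((yon S).map (gX tS R' A')) f ((yon S).map (cT tS R')))

include sq in
theorem q_cond : ((yon S).map (pr1 tS R' A') ≫ fst) ≫ f =
    (yon S).map (pr2 tS R' A') ≫ (yon S).map (cT tS R') := by
  rw [Category.assoc, sq.w, ← Functor.map_comp, ← Functor.map_comp, ← Functor.map_comp,
    (isPullback_X'' tS).w]

/-- the second projection `X'' = X' ×_F X' ⟶ X'` -/
noncomputable def qMor : sp tS (R' ⊗[R] A') ⟶ sp tS A' :=
  (yon S).preimage (sq.lift _ _ (q_cond tS sq))

theorem qMor_fst : (yon S).map (qMor tS sq) ≫ fst = (yon S).map (pr1 tS R' A') ≫ fst := by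
  rw [qMor, Functor.map_preimage, sq.lift_fst]

theorem qMor_g : qMor tS sq ≫ gX tS R' A' = pr2 tS R' A' := by
  apply (yon S).map_injective
  rw [Functor.map_comp, qMor, Functor.map_preimage, sq.lift_snd]

/-- the coaction as a ring map -/
noncomputable def rho0 : A' →+* R' ⊗[R] A' := (Spec.preimage (qMor tS sq).left).hom

theorem spec_rho0 : Spec.map (CommRingCat.ofHom (rho0 tS sq)) = (qMor tS sq).left := by
  unfold rho0
  rw [CommRingCat.ofHom_hom, Spec.map_preimage]

theorem rho0_algebraMap (r : R') : rho0 tS sq (algebraMap R' A' r) = r ⊗ₜ 1 := by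
  have h0 : (qMor tS sq).left ≫ (gX tS R' A').left = (pr2 tS R' A').left :=
    congrArg (fun m => m.left) (qMor_g tS sq)
  have h1 : Spec.map (CommRingCat.ofHom (rho0 tS sq)) ≫
      Spec.map (CommRingCat.ofHom (IsScalarTower.toAlgHom R R' A').toRingHom) =
      Spec.map (CommRingCat.ofHom
        (Algebra.TensorProduct.includeLeft : R' →ₐ[R] R' ⊗[R] A').toRingHom) :=
    (congrArg (fun m => m ≫ Spec.map (CommRingCat.ofHom (IsScalarTower.toAlgHom R R' A').toRingHom))
      (spec_rho0 tS sq)).trans h0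
  rw [← Spec.map_comp, ← CommRingCat.ofHom_comp] at h1
  have h2 := congrArg CommRingCat.Hom.hom (Spec.map_injective h1)
  have h3 := congrArg (fun φ : R' →+* R' ⊗[R] A' => φ r) h2
  simpa using h3

/-- the coaction as an `R'`-algebra map -/
noncomputable def rho : A' →ₐ[R'] R' ⊗[R] A' :=
  { rho0 tS sq with
    commutes' := fun r => by
      show rho0 tS sq (algebraMap R' A' r) = algebraMap R' (R' ⊗[R] A') r
      rw [rho0_algebraMap, Algebra.TensorProduct.algebraMap_apply]
      rfl }

theorem spMap_rho : spMap tS ((rho tS sq).restrictScalars R) = qMor tS sq := by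
  ext1
  rw [spMap_left, ← spec_rho0]
  rfl

/-- the diagonal `X' ⟶ X''` -/
noncomputable abbrev dMor (R' A' : Type u) [CommRing R'] [CommRing A'] [Algebra R R'] [Algebra R' A']
    [Algebra R A'] [IsScalarTower R R' A'] : sp tS A' ⟶ sp tS (R' ⊗[R] A') :=
  spMap tS ((epsA R R' A').restrictScalars R)

theorem dMor_pr1 : dMor tS R' A' ≫ pr1 tS R' A' = 𝟙 _ := by
  rw [← spMap_comp, ← spMap_id]
  congr 1
  ext a
  simp [epsA_tmul]

theorem dMor_pr2 : dMor tS R' A' ≫ pr2 tS R' A' = gX tS R' A' := by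
  rw [← spMap_comp]
  congr 1
  ext r
  simp [epsA_tmul]

theorem dMor_qMor : dMor tS R' A' ≫ qMor tS sq = 𝟙 _ := by
  apply (yon S).map_injective
  apply sq.hom_ext
  · rw [Functor.map_comp, Category.assoc, qMor_fst, ← Category.assoc, ← Functor.map_comp, dMor_pr1]
  · rw [← Functor.map_comp, Category.assoc, qMor_g, dMor_pr2, CategoryTheory.Functor.map_id,
      Category.id_comp]

theorem rho_counit (a : A') : epsA R R' A' (rho tS sq a) = a := by
  have h1 : spMap tS (((epsA R R' A').restrictScalars R).comp ((rho tS sq).restrictScalars R)) =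
      spMap tS (AlgHom.id R A') := by
    rw [spMap_comp, spMap_rho, dMor_qMor, spMap_id]
  have h2 := spMap_injective tS h1
  exact congrArg (fun φ : A' →ₐ[R] A' => φ a) h2

theorem rho_coassoc (a : A') :
    Algebra.TensorProduct.map (AlgHom.id R R') ((rho tS sq).restrictScalars R) (rho tS sq a) =
      Algebra.TensorProduct.map (AlgHom.id R R')
        (Algebra.TensorProduct.includeRight : A' →ₐ[R] R' ⊗[R] A') (rho tS sq a) := by
  set ρR := (rho tS sq).restrictScalars R with hρR
  set η : A' →ₐ[R] R' ⊗[R] A' := Algebra.TensorProduct.includeRight with hη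
  set η' : (R' ⊗[R] A') →ₐ[R] R' ⊗[R] (R' ⊗[R] A') := Algebra.TensorProduct.includeRight with hη'
  have hq : spMap tS ρR = qMor tS sq := spMap_rho tS sq
  -- key: for any `m : W ⟶ X''`, `yon (m ≫ q) ≫ fst = yon (m ≫ pr₁) ≫ fst`
  have key : ∀ {W : Over S} (m : W ⟶ sp tS (R' ⊗[R] A')),
      (yon S).map (m ≫ qMor tS sq) ≫ fst = (yon S).map (m ≫ pr1 tS R' A') ≫ fst := by
    intro W m
    rw [Functor.map_comp, Category.assoc, qMor_fst, ← Category.assoc, ← Functor.map_comp]
  have h1 : spMap tS ((Algebra.TensorProduct.map (AlgHom.id R R') ρR).comp ρR) =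
      spMap tS ((Algebra.TensorProduct.map (AlgHom.id R R') η).comp ρR) := by
    apply (yon S).map_injective
    apply sq.hom_ext
    · rw [spMap_comp, spMap_comp, hq, key, key]
      have e1 : spMap tS (Algebra.TensorProduct.map (AlgHom.id R R') ρR) ≫ pr1 tS R' A' =
          spMap tS η' ≫ qMor tS sq := by
        rw [← hq, ← spMap_comp, ← spMap_comp]
        congr 1
      have e2 : spMap tS (Algebra.TensorProduct.map (AlgHom.id R R') η) ≫ pr1 tS R' A' =
          spMap tS η' ≫ pr1 tS R' A' := by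
        rw [← spMap_comp, ← spMap_comp]
        congr 1
      rw [e1, e2, key]
    · rw [← Functor.map_comp, ← Functor.map_comp]
      congr 1
      rw [spMap_comp, spMap_comp, hq, Category.assoc, Category.assoc, qMor_g, ← spMap_comp,
        ← spMap_comp]
      congr 1
      ext x
      simp
  have h2 := spMap_injective tS h1
  exact congrArg (fun φ : A' →ₐ[R] R' ⊗[R] (R' ⊗[R] A') => φ a) h2

end Groth.Agent.Helper5.AffDesc
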