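import Groth.Agent.Helper5.AffDesc3
import Mathlib

set_option autoImplicit false
universe u
open CategoryTheory CategoryTheory.Limits AlgebraicGeometry Opposite TensorProduct

namespace Groth.Agent.Helper5.AffDesc

open AlgSp Groth.Agent.Helper5.GeomFibSp

variable {S : Scheme.{u}} {R R' A' : Type u} [CommRing R] [CommRing R'] [CommRing A']
  [Algebra R R'] [Algebra R' A'] [Algebra R A'] [IsScalarTower R R' A']
  (tS : Spec (CommRingCat.of R) ⟶ S)
  {F : Sp S} {f : F ⟶ (yon S).obj (sp tS R)} {fst : (yon S).obj (sp tS A') ⟶ F}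
  (sq : IsPullback fst ((yon S).map (gX tS R' A')) f ((yon S).map (cT tS R')))

/-- the descended algebra -/
noncomputable abbrev dA : Subalgebra R A' := descA (rho tS sq)

/-- `π : X' ⟶ X` -/
noncomputable abbrev piX : sp tS A' ⟶ sp tS (dA tS sq) := spMap tS (dA tS sq).val

/-- `X ⟶ T` -/
noncomputable abbrev gA : sp tS (dA tS sq) ⟶ sp tS R := spMap tS (Algebra.ofId R (dA tS sq))

theorem piX_gA : piX tS sq ≫ gA tS sq = gX tS R' A' ≫ cT tS R' := by
  rw [← spMap_comp, ← spMap_comp]
  congr 1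
  ext

theorem qMor_piX : qMor tS sq ≫ piX tS sq = pr1 tS R' A' ≫ piX tS sq := by
  rw [← spMap_rho, ← spMap_comp, ← spMap_comp]
  congr 1
  ext a
  exact (mem_descA (rho tS sq) a.1).1 a.2

variable [Module.Flat R R']

theorem isPushout_dA :
    IsPushout (CommRingCat.ofHom (algebraMap R (dA tS sq))) (CommRingCat.ofHom (algebraMap R R'))
      (CommRingCat.ofHom (dA tS sq).val.toRingHom)
      (CommRingCat.ofHom (IsScalarTower.toAlgHom R R' A').toRingHom) := by
  have hbij := PsiA_bijective (rho tS sq) (rho_counit tS sq) (rho_coassoc tS sq)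
  let e : R' ⊗[R] (dA tS sq) ≃+* A' := RingEquiv.ofBijective (PsiA (rho tS sq)).toRingHom hbij
  have h0 := CommRingCat.isPushout_tensorProduct R R' (dA tS sq)
  refine (h0.of_iso (Iso.refl _) (Iso.refl _) (Iso.refl _) e.toCommRingCatIso ?_ ?_ ?_ ?_).flip
  · simp
  · simp
  · ext r
    simp [e]
  · ext a
    simp [e]

theorem isPullback_piX : IsPullback (piX tS sq) (gX tS R' A') (gA tS sq) (cT tS R') :=
  isPullback_spMap tS _ _ (isPushout_dA tS sq)

theorem isPullback_q_pr1 :
    IsPullback (qMor tS sq) (pr1 tS R' A') (piX tS sq) (piX tS sq) := by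
  refine IsPullback.of_right ?_ (qMor_piX tS sq) (isPullback_piX tS sq).flip
  rw [qMor_g, piX_gA]
  exact isPullback_X'' tS

end Groth.Agent.Helper5.AffDesc
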