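import Groth.Agent.Helper5.AffDesc4
import Groth.Agent.Helper2.ShfEpi
import Mathlib

set_option autoImplicit false
universe u
open CategoryTheory CategoryTheory.Limits AlgebraicGeometry Opposite TensorProduct

namespace Groth.Agent.Helper5.AffDesc

open AlgSp Groth.Agent.Helper5.GeomFibSp

variable {S : Scheme.{u}} {R R' A' : Type u} [CommRing R] [CommRing R'] [CommRing A']
  [Algebra R R'] [Algebra R' A'] [Algebra R A'] [IsScalarTower R R' A']
  (tS : Spec (CommRingCat.of R) ⟶ S)
  {F : Sp S} {f : F ⟶ (yon S).obj (sp tS R)} {fst : (yon S).obj (sp tS A') ⟶ F}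
  (sq : IsPullback fst ((yon S).map (gX tS R' A')) f ((yon S).map (cT tS R')))

include sq in
theorem epi_fst [Epi ((yon S).map (cT tS R'))] : Epi fst :=
  Groth.Agent.Helper2.ShfEpi.epi_of_isPullback (J S) sq

theorem isKernelPair_fst :
    IsKernelPair fst ((yon S).map (qMor tS sq)) ((yon S).map (pr1 tS R' A')) := by
  refine IsPullback.of_right ?_ (qMor_fst tS sq) sq.flip
  rw [← Functor.map_comp, qMor_g, sq.w, ← Functor.map_comp]
  exact (isPullback_X'' tS).map (yon S)

variable [Module.Flat R R']

theorem epi_yon_piX [Epi ((yon S).map (cT tS R'))] : Epi ((yon S).map (piX tS sq)) :=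
  Groth.Agent.Helper2.ShfEpi.epi_of_isPullback (J S) ((isPullback_piX tS sq).map (yon S))

theorem isKernelPair_piX :
    IsKernelPair ((yon S).map (piX tS sq)) ((yon S).map (qMor tS sq))
      ((yon S).map (pr1 tS R' A')) :=
  (isPullback_q_pr1 tS sq).map (yon S)

/-- **Descent of affine schemes along a flat covering of affine schemes** (sheaf form). -/
theorem exists_iso [Epi ((yon S).map (cT tS R'))] :
    ∃ e : (yon S).obj (sp tS (dA tS sq)) ≅ F,
      (yon S).map (piX tS sq) ≫ e.hom = fst ∧ e.hom ≫ f = (yon S).map (gA tS sq) := by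
  haveI := epi_fst tS sq
  haveI := epi_yon_piX tS sq
  haveI : IsRegularEpi fst := IsRegularEpiCategory.regularEpiOfEpi _
  haveI : IsRegularEpi ((yon S).map (piX tS sq)) := IsRegularEpiCategory.regularEpiOfEpi _
  have c1 := (isKernelPair_piX tS sq).toCoequalizer'
  have c2 := (isKernelPair_fst tS sq).toCoequalizer'
  let e := c1.coconePointUniqueUpToIso c2
  have he : (yon S).map (piX tS sq) ≫ e.hom = fst :=
    c1.comp_coconePointUniqueUpToIso_hom c2 WalkingParallelPair.one
  refine ⟨e, he, ?_⟩
  rw [← cancel_epi ((yon S).map (piX tS sq)), ← Category.assoc, he, sq.w, ← Functor.map_comp,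
    ← Functor.map_comp, piX_gA]

end Groth.Agent.Helper5.AffDesc
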