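import Groth.Agent.Helper5.AffDesc6
import Groth.Agent.Helper4.AlgSpBasic
import Mathlib

set_option autoImplicit false
universe u
open CategoryTheory CategoryTheory.Limits AlgebraicGeometry Opposite TensorProduct

namespace Groth.Agent.Helper5.AffDesc

open AlgSp Groth.Agent.Helper5.GeomFibSp

variable {S : Scheme.{u}}

theorem epi_yon_map_of_fppf {T' T : Over S} (t : T' ⟶ T) [Flat t.left]
    [LocallyOfFinitePresentation t.left] [Surjective t.left] : Epi ((yon S).map t) :=
  ⟨fun a b h => Groth.Agent.Helper4.AlgSpBasic.yon_map_cancel t a b h⟩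

set_option backward.isDefEq.respectTransparency.types false in
/-- an fppf covering of a quasi-compact scheme is refined by an affine one -/
theorem exists_affine_refinement {Z Z' : Scheme.{u}} [CompactSpace Z] (c : Z' ⟶ Z) [Flat c]
    [LocallyOfFinitePresentation c] [Surjective c] :
    ∃ (T : Scheme.{u}) (j : T ⟶ Z'), IsAffine T ∧ Flat (j ≫ c) ∧
      LocallyOfFinitePresentation (j ≫ c) ∧ Surjective (j ≫ c) := by
  obtain ⟨V : Z'.Opens, hV, hVc⟩ := c.isOpenMap.exists_opens_image_eq_of_prespectralSpace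
    c.continuous (U := Set.univ) (by simp [Set.range_eq_univ.2 c.surjective]) isOpen_univ
    isCompact_univ
  have : CompactSpace V.toScheme := isCompact_iff_compactSpace.mp hV
  let 𝒰 := V.toScheme.affineCover.finiteSubcover
  have : ∀ i, IsAffine (𝒰.X i) := fun i => by
    dsimp [𝒰]; infer_instance
  let k : ∀ i, 𝒰.X i ⟶ Z' := fun i => 𝒰.f i ≫ V.ι
  have : ∀ i, IsOpenImmersion (k i) := fun i => by dsimp [k]; infer_instance
  let j : (∐ 𝒰.X) ⟶ Z' := Sigma.desc k
  have hjf : Flat j := IsZariskiLocalAtSource.sigmaDesc (P := @Flat) (fun i => inferInstance)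
  have hjl : LocallyOfFinitePresentation j :=
    IsZariskiLocalAtSource.sigmaDesc (P := @LocallyOfFinitePresentation) (fun i => inferInstance)
  refine ⟨∐ 𝒰.X, j, inferInstance, inferInstance, inferInstance, ⟨fun z => ?_⟩⟩
  have hz : z ∈ c '' (V : Set Z') := by rw [hVc]; trivial
  obtain ⟨v, hv, rfl⟩ := hz
  obtain ⟨i, y, hy⟩ := 𝒰.exists_eq (⟨v, hv⟩ : V.toScheme)
  refine ⟨Sigma.ι 𝒰.X i y, ?_⟩
  rw [Scheme.Hom.comp_apply, ← Scheme.Hom.comp_apply (Sigma.ι 𝒰.X i) j]
  have h1 : Sigma.ι 𝒰.X i ≫ j = k i := by simp [j]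
  rw [h1]
  show c ((𝒰.f i ≫ V.ι) y) = c v
  rw [Scheme.Hom.comp_apply, hy]
  rfl

set_option backward.isDefEq.respectTransparency.types false in
/-- **Descent of affine schemes along an fppf covering of an affine scheme** (sheaf form). -/
theorem exists_iso_of_fppf {Z Z' : Over S} [IsAffine Z.left] (c : Z' ⟶ Z) [Flat c.left]
    [LocallyOfFinitePresentation c.left] [Surjective c.left] {F : Sp S}
    (f : F ⟶ (yon S).obj Z)
    (H : ∀ (V : Over S) (j : V ⟶ Z'), IsAffine V.left →
      ∃ (W : Over S) (g : W ⟶ V) (fst : (yon S).obj W ⟶ F), IsAffine W.left ∧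
        IsPullback fst ((yon S).map g) f ((yon S).map (j ≫ c))) :
    ∃ (X : Over S) (g : X ⟶ Z) (e : (yon S).obj X ≅ F), IsAffine X.left ∧
      e.hom ≫ f = (yon S).map g := by
  obtain ⟨T, j, hT, hf, hl, hs⟩ := exists_affine_refinement c.left
  let V : Over S := Over.mk (j ≫ Z'.hom)
  let jV : V ⟶ Z' := Over.homMk j rfl
  obtain ⟨W, g, fst, hW, sq⟩ := H V jV hT
  have : IsAffine V.left := hT
  have : Flat (jV ≫ c).left := hf
  have : LocallyOfFinitePresentation (jV ≫ c).left := hl
  have : Surjective (jV ≫ c).left := hs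
  have := epi_yon_map_of_fppf (jV ≫ c)
  exact exists_iso_of_affine (jV ≫ c) g f fst sq

end Groth.Agent.Helper5.AffDesc
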