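import Groth.Agent.Helper5.AffDesc5
import Groth.Agent.Helper5.EtGlue1
import Mathlib

/-!
# fpqc descent of affine schemes, sheaf form (no epimorphism hypothesis), part 1

In the situation of `AffDesc5` (a cartesian square `h_{X'} = F ×_{h_T} h_{T'}` with
`T' = Spec R' ⟶ T = Spec R` faithfully flat), we construct a morphism
`F ⟶ h_X`, `X = Spec` of the descended algebra, without assuming that `h_{T'} ⟶ h_T` is an
epimorphism of fppf sheaves: on `V`-valued points `ξ` it is obtained by descending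
`V ×_T T' ⟶ X' ⟶ X` along the fpqc covering `V ×_T T' ⟶ V` (Mathlib: such morphisms of schemes
are effective epimorphisms).
-/

set_option autoImplicit false
universe u
open CategoryTheory CategoryTheory.Limits AlgebraicGeometry Opposite TensorProduct

namespace Groth.Agent.Helper5.AffDescQ

open AlgSp Groth.Agent.Helper5.GeomFibSp Groth.Agent.Helper5.AffDesc

variable {S : Scheme.{u}} {R R' A' : Type u} [CommRing R] [CommRing R'] [CommRing A']
  [Algebra R R'] [Algebra R' A'] [Algebra R A'] [IsScalarTower R R' A']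
  (tS : Spec (CommRingCat.of R) ⟶ S)
  {F : Sp S} {f : F ⟶ (yon S).obj (sp tS R)} {fst : (yon S).obj (sp tS A') ⟶ F}
  (sq : IsPullback fst ((yon S).map (gX tS R' A')) f ((yon S).map (cT tS R')))

/-- `π : X' ⟶ X` coequalizes any two points of `X'` with the same image in `F`. -/
theorem coeq_piX {Z : Over S} (g₁ g₂ : Z ⟶ sp tS A')
    (h : (yon S).map g₁ ≫ fst = (yon S).map g₂ ≫ fst) :
    g₁ ≫ piX tS sq = g₂ ≫ piX tS sq := by
  have hk := isKernelPair_fst tS sq
  have h1 : hk.lift _ _ h ≫ (yon S).map (qMor tS sq) = (yon S).map g₁ := hk.lift_fst _ _ h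
  have h2 : hk.lift _ _ h ≫ (yon S).map (pr1 tS R' A') = (yon S).map g₂ := hk.lift_snd _ _ h
  obtain ⟨w, hw⟩ := (yon S).map_surjective (hk.lift _ _ h)
  rw [← hw, ← Functor.map_comp] at h1 h2
  have e1 := (yon S).map_injective h1
  have e2 := (yon S).map_injective h2
  rw [← e1, ← e2, Category.assoc, Category.assoc, qMor_piX]

/-- descent of a morphism to `X` along an fpqc covering `π : V' ⟶ V`. -/
theorem exists_desc_aux {V V' : Over S} (π : V' ⟶ V) [Flat π.left] [Surjective π.left]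
    [QuasiCompact π.left] (ξ : (yon S).obj V ⟶ F) (a : V' ⟶ sp tS A')
    (ha : (yon S).map a ≫ fst = (yon S).map π ≫ ξ) :
    ∃ m : V ⟶ sp tS (dA tS sq), π ≫ m = a ≫ piX tS sq := by
  have hcoeq : ∀ {Z : Scheme.{u}} (g₁ g₂ : Z ⟶ V'.left), g₁ ≫ π.left = g₂ ≫ π.left →
      g₁ ≫ (a ≫ piX tS sq).left = g₂ ≫ (a ≫ piX tS sq).left := by
    intro Z g₁ g₂ hg
    let Z' : Over S := Over.mk (g₁ ≫ V'.hom)
    let G₁ : Z' ⟶ V' := Over.homMk g₁ rfl
    let G₂ : Z' ⟶ V' := Over.homMk g₂ (by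
      show g₂ ≫ V'.hom = g₁ ≫ V'.hom
      rw [← Over.w π, ← Category.assoc, ← hg, Category.assoc])
    have hG : G₁ ≫ π = G₂ ≫ π := by
      ext1
      exact hg
    have key := coeq_piX tS sq (G₁ ≫ a) (G₂ ≫ a) (by
      rw [Functor.map_comp, Functor.map_comp, Category.assoc, Category.assoc, ha,
        ← Category.assoc, ← Category.assoc, ← Functor.map_comp, ← Functor.map_comp, hG])
    have key' := congrArg (fun k => k.left) key
    simpa [G₁, G₂] using key'
  have hm₀ : π.left ≫ EffectiveEpi.desc π.left (a ≫ piX tS sq).left hcoeq =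
      (a ≫ piX tS sq).left := EffectiveEpi.fac _ _ _
  refine ⟨Over.homMk (EffectiveEpi.desc π.left (a ≫ piX tS sq).left hcoeq) ?_, ?_⟩
  · rw [← cancel_epi π.left, ← Category.assoc, hm₀, Over.w, Over.w]
  · ext1
    exact hm₀

variable {tS}

/-- the structure map of a `V`-valued point of `F` -/
noncomputable def tOf {V : Over S} (ξ : (yon S).obj V ⟶ F) (f : F ⟶ (yon S).obj (sp tS R)) :
    V ⟶ sp tS R := (yon S).preimage (ξ ≫ f)

theorem map_tOf {V : Over S} (ξ : (yon S).obj V ⟶ F) : (yon S).map (tOf ξ f) = ξ ≫ f :=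
  Functor.map_preimage _ _

variable (R') in
/-- `V' = V ×_T T'` -/
noncomputable def Vp {V : Over S} (ξ : (yon S).obj V ⟶ F) (f : F ⟶ (yon S).obj (sp tS R)) :
    Over S := pullback (tOf ξ f) (cT tS R')

variable (R') in
noncomputable def piV {V : Over S} (ξ : (yon S).obj V ⟶ F) (f : F ⟶ (yon S).obj (sp tS R)) :
    Vp R' ξ f ⟶ V := pullback.fst _ _

variable (R') in
noncomputable def tauV {V : Over S} (ξ : (yon S).obj V ⟶ F) (f : F ⟶ (yon S).obj (sp tS R)) :
    Vp R' ξ f ⟶ sp tS R' := pullback.snd _ _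

theorem isPullback_Vp {V : Over S} (ξ : (yon S).obj V ⟶ F) :
    IsPullback (piV R' ξ f) (tauV R' ξ f) (tOf ξ f) (cT tS R') := IsPullback.of_hasPullback _ _

include sq in
theorem aV_cond {V : Over S} (ξ : (yon S).obj V ⟶ F) :
    ((yon S).map (piV R' ξ f) ≫ ξ) ≫ f = (yon S).map (tauV R' ξ f) ≫ (yon S).map (cT tS R') := by
  have h1 : ξ ≫ f = (yon S).map (tOf ξ f) := (map_tOf ξ).symm
  rw [Category.assoc, h1, ← Functor.map_comp, ← Functor.map_comp, (isPullback_Vp ξ).w]

/-- `V' ⟶ X'` -/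
noncomputable def aV {V : Over S} (ξ : (yon S).obj V ⟶ F) : Vp R' ξ f ⟶ sp tS A' :=
  (yon S).preimage (sq.lift _ _ (aV_cond sq ξ))

theorem aV_fst {V : Over S} (ξ : (yon S).obj V ⟶ F) :
    (yon S).map (aV sq ξ) ≫ fst = (yon S).map (piV R' ξ f) ≫ ξ := by
  rw [aV, Functor.map_preimage, sq.lift_fst]

theorem aV_gX {V : Over S} (ξ : (yon S).obj V ⟶ F) :
    aV sq ξ ≫ gX tS R' A' = tauV R' ξ f := by
  apply (yon S).map_injective
  rw [Functor.map_comp, aV, Functor.map_preimage, sq.lift_snd]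

end Groth.Agent.Helper5.AffDescQ
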