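import Groth.Agent.Helper5.AffDescQ1
import Mathlib

/-!
# fpqc descent of affine schemes, sheaf form, part 2: the morphism `F ⟶ h_X`
-/

set_option autoImplicit false
universe u
open CategoryTheory CategoryTheory.Limits AlgebraicGeometry Opposite TensorProduct

namespace Groth.Agent.Helper5.AffDescQ

open AlgSp Groth.Agent.Helper5.GeomFibSp Groth.Agent.Helper5.AffDesc

variable {S : Scheme.{u}} {R R' A' : Type u} [CommRing R] [CommRing R'] [CommRing A']
  [Algebra R R'] [Algebra R' A'] [Algebra R A'] [IsScalarTower R R' A']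
  {tS : Spec (CommRingCat.of R) ⟶ S}
  {F : Sp S} {f : F ⟶ (yon S).obj (sp tS R)} {fst : (yon S).obj (sp tS A') ⟶ F}
  (sq : IsPullback fst ((yon S).map (gX tS R' A')) f ((yon S).map (cT tS R')))

section inst

variable [Module.FaithfullyFlat R R']

instance flat_cT : Flat (cT tS R').left := by
  show Flat (Spec.map (CommRingCat.ofHom (Algebra.ofId R R').toRingHom))
  rw [HasRingHomProperty.Spec_iff (P := @Flat)]
  show (algebraMap R R').Flat
  exact RingHom.flat_algebraMap_iff.2 inferInstance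

instance surjective_cT : Surjective (cT tS R').left := by
  show Surjective (Spec.map (CommRingCat.ofHom (Algebra.ofId R R').toRingHom))
  constructor
  exact PrimeSpectrum.comap_surjective_of_faithfullyFlat (A := R) (B := R')

instance isAffineHom_cT : IsAffineHom (cT tS R').left := by
  show IsAffineHom (Spec.map (CommRingCat.ofHom (Algebra.ofId R R').toRingHom))
  infer_instance

theorem isPullback_Vp_left {V : Over S} (ξ : (yon S).obj V ⟶ F) :
    IsPullback (tauV R' ξ f).left (piV R' ξ f).left (cT tS R').left (tOf ξ f).left :=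
  ((isPullback_Vp ξ).map (Over.forget S)).flip

instance flat_piV {V : Over S} (ξ : (yon S).obj V ⟶ F) : Flat (piV R' ξ f).left :=
  MorphismProperty.of_isPullback (P := @Flat) (isPullback_Vp_left ξ) inferInstance

instance surjective_piV {V : Over S} (ξ : (yon S).obj V ⟶ F) : Surjective (piV R' ξ f).left :=
  MorphismProperty.of_isPullback (P := @Surjective) (isPullback_Vp_left ξ) inferInstance

instance isAffineHom_piV {V : Over S} (ξ : (yon S).obj V ⟶ F) : IsAffineHom (piV R' ξ f).left :=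
  MorphismProperty.of_isPullback (P := @IsAffineHom) (isPullback_Vp_left ξ) inferInstance

instance epi_piV {V : Over S} (ξ : (yon S).obj V ⟶ F) : Epi (piV R' ξ f) := by
  have : Epi ((Over.forget S).map (piV R' ξ f)) := by
    show Epi (piV R' ξ f).left
    infer_instance
  exact (Over.forget S).epi_of_epi_map this

end inst

variable [Module.FaithfullyFlat R R']

/-- the image of a `V`-valued point of `F` in `X` -/
noncomputable def mOf {V : Over S} (ξ : (yon S).obj V ⟶ F) : V ⟶ sp tS (dA tS sq) :=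
  (exists_desc_aux tS sq (piV R' ξ f) ξ (aV sq ξ) (aV_fst sq ξ)).choose

theorem mOf_spec {V : Over S} (ξ : (yon S).obj V ⟶ F) :
    piV R' ξ f ≫ mOf sq ξ = aV sq ξ ≫ piX tS sq :=
  (exists_desc_aux tS sq (piV R' ξ f) ξ (aV sq ξ) (aV_fst sq ξ)).choose_spec

theorem mOf_natural {V V₁ : Over S} (g : V₁ ⟶ V) (ξ : (yon S).obj V ⟶ F) :
    mOf sq ((yon S).map g ≫ ξ) = g ≫ mOf sq ξ := by
  set ξ₁ := (yon S).map g ≫ ξ with hξ₁
  rw [← cancel_epi (piV R' ξ₁ f), mOf_spec]
  -- the comparison `V₁' ⟶ V'`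
  have ht : tOf ξ₁ f = g ≫ tOf ξ f := by
    apply (yon S).map_injective
    rw [map_tOf, Functor.map_comp, map_tOf, hξ₁, Category.assoc]
  have hc : (piV R' ξ₁ f ≫ g) ≫ tOf ξ f = tauV R' ξ₁ f ≫ cT tS R' := by
    rw [Category.assoc, ← ht, (isPullback_Vp ξ₁).w]
  let k : Vp R' ξ₁ f ⟶ Vp R' ξ f := (isPullback_Vp ξ).lift _ _ hc
  have hk1 : k ≫ piV R' ξ f = piV R' ξ₁ f ≫ g := (isPullback_Vp ξ).lift_fst _ _ hc
  have hk2 : k ≫ tauV R' ξ f = tauV R' ξ₁ f := (isPullback_Vp ξ).lift_snd _ _ hc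
  have ha : aV sq ξ₁ = k ≫ aV sq ξ := by
    apply (yon S).map_injective
    apply sq.hom_ext
    · have e1 : (yon S).map (aV sq ξ₁) ≫ fst = (yon S).map (piV R' ξ₁ f) ≫ ξ₁ := aV_fst sq ξ₁
      have e2 : (yon S).map (k ≫ aV sq ξ) ≫ fst = (yon S).map (k ≫ piV R' ξ f) ≫ ξ := by
        rw [Functor.map_comp, Category.assoc, aV_fst, ← Category.assoc, ← Functor.map_comp]
      rw [e1, e2, hk1, hξ₁, Functor.map_comp, Category.assoc]
    · rw [← Functor.map_comp, aV_gX, ← Functor.map_comp, Category.assoc, aV_gX, hk2]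
  rw [ha, Category.assoc, ← mOf_spec, ← Category.assoc, hk1, Category.assoc]

/-- the morphism `F ⟶ h_X` -/
theorem exists_phi :
    ∃ φ : F ⟶ (yon S).obj (sp tS (dA tS sq)),
      ∀ (V : Over S) (ξ : (yon S).obj V ⟶ F), ξ ≫ φ = (yon S).map (mOf sq ξ) :=
  Groth.Agent.Helper5.EtGlue.exists_hom_of_points (fun V ξ => (yon S).map (mOf sq ξ))
    (fun V V₁ g ξ => by rw [mOf_natural, Functor.map_comp])

end Groth.Agent.Helper5.AffDescQ
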