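import Groth.Prelude.Def_AlgSpCov
import Groth.Agent.Helper4.AlgSpLocP
import Mathlib

/-!
# A single affine, flat, surjective morphism of schemes is an fpqc covering of sheaves
-/

set_option autoImplicit false
universe u
open CategoryTheory CategoryTheory.Limits AlgebraicGeometry Opposite

namespace Groth.Agent.Helper5.FpqcSingle

open AlgSp

variable {S : Scheme.{u}}

theorem isFpqcCover_single {X' X : Over S} (π : X' ⟶ X) [IsAffineHom π.left] [Flat π.left]
    [Surjective π.left] :
    IsFpqcCover (fun _ : PUnit.{u + 1} => (yon S).obj X') (fun _ => (yon S).map π) := by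
  refine ⟨fun _ => ?_, ?_⟩
  · exact Groth.Agent.Helper4.AlgSpLocP.locP_of_repWith @Flat @Flat (fun g hg => hg)
      (fun g hg => by have : Etale g := hg; infer_instance) _
      ((repWith_yon_map_iff @Flat π).2 inferInstance)
  · intro Z hZ h
    obtain ⟨z, rfl⟩ := (yon S).map_surjective h
    have sq : IsPullback (pullback.fst z π) (pullback.snd z π) z π := IsPullback.of_hasPullback _ _
    have sql : IsPullback (pullback.snd z π).left (pullback.fst z π).left π.left z.left :=
      (sq.map (Over.forget S)).flip
    have h1 : IsAffineHom (pullback.fst z π).left :=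
      MorphismProperty.of_isPullback (P := @IsAffineHom) sql inferInstance
    have h2 : Flat (pullback.fst z π).left :=
      MorphismProperty.of_isPullback (P := @Flat) sql inferInstance
    have h3 : Surjective (pullback.fst z π).left :=
      MorphismProperty.of_isPullback (P := @Surjective) sql inferInstance
    have : IsAffine Z.left := hZ
    refine ⟨1, fun _ => pullback z π, fun _ => pullback.fst z π,
      fun _ => isAffine_of_isAffineHom (pullback.fst z π).left, fun _ => h2,
      fun x => ⟨0, (pullback.fst z π).left.surjective x⟩, fun _ => ⟨PUnit.unit, (yon S).map (pullback.snd z π), ?_⟩⟩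
    rw [← Functor.map_comp, ← Functor.map_comp, sq.w]

end Groth.Agent.Helper5.FpqcSingle
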