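import Groth.Agent.Helper5.AffDescQ2
import Groth.Agent.Helper5.FpqcSingle
import Groth.Agent.Helper5.FpqcIso
import Mathlib

/-!
# fpqc descent of affine schemes, sheaf form, part 3: `F ≅ h_X` for an algebraic space `F`
-/

set_option autoImplicit false
universe u
open CategoryTheory CategoryTheory.Limits AlgebraicGeometry Opposite TensorProduct

namespace Groth.Agent.Helper5.AffDescQ

open AlgSp Groth.Agent.Helper5.GeomFibSp Groth.Agent.Helper5.AffDesc

variable {S : Scheme.{u}} {R R' A' : Type u} [CommRing R] [CommRing R'] [CommRing A']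
  [Algebra R R'] [Algebra R' A'] [Algebra R A'] [IsScalarTower R R' A']
  {tS : Spec (CommRingCat.of R) ⟶ S}
  {F : Sp S} {f : F ⟶ (yon S).obj (sp tS R)} {fst : (yon S).obj (sp tS A') ⟶ F}
  (sq : IsPullback fst ((yon S).map (gX tS R' A')) f ((yon S).map (cT tS R')))
  [Module.FaithfullyFlat R R']

theorem mOf_fst : mOf sq fst = piX tS sq := by
  rw [← cancel_epi (piV R' fst f), mOf_spec]
  exact (coeq_piX tS sq _ _ (aV_fst sq fst).symm).symm

theorem mOf_gA {V : Over S} (ξ : (yon S).obj V ⟶ F) : mOf sq ξ ≫ gA tS sq = tOf ξ f := by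
  rw [← cancel_epi (piV R' ξ f), ← Category.assoc, mOf_spec, Category.assoc, piX_gA,
    ← Category.assoc, aV_gX, (isPullback_Vp ξ).w]

/-- **fpqc descent of affine schemes** (sheaf form): if `F` is an algebraic space over `h_T`,
`T = Spec R`, whose base change along the faithfully flat `T' = Spec R' ⟶ T` is representable by
the affine scheme `Spec A'`, then `F` is representable by the spectrum of the descended algebra. -/
theorem exists_iso_fpqc (hF : IsAlgSpace F) :
    ∃ e : (yon S).obj (sp tS (dA tS sq)) ≅ F,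
      (yon S).map (piX tS sq) ≫ e.hom = fst ∧ e.hom ≫ f = (yon S).map (gA tS sq) := by
  obtain ⟨φ, hφ⟩ := exists_phi sq
  have h1 : fst ≫ φ = (yon S).map (piX tS sq) := by rw [hφ, mOf_fst]
  have h2 : φ ≫ (yon S).map (gA tS sq) = f := by
    apply Groth.Agent.Helper5.EtGlue.hom_ext_points
    intro V ξ
    rw [← Category.assoc, hφ, ← Functor.map_comp, mOf_gA, map_tOf]
  have hbot : IsPullback ((yon S).map (piX tS sq)) ((yon S).map (gX tS R' A'))
      ((yon S).map (gA tS sq)) ((yon S).map (cT tS R')) := (isPullback_piX tS sq).map (yon S)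
  have htop : IsPullback fst (𝟙 _) φ ((yon S).map (piX tS sq)) := by
    refine IsPullback.of_bot ?_ (by rw [h1, Category.id_comp]) hbot
    rw [Category.id_comp, h2]
    exact sq
  have sql : IsPullback (gX tS R' A').left (piX tS sq).left (cT tS R').left (gA tS sq).left :=
    ((isPullback_piX tS sq).map (Over.forget S)).flip
  have : Flat (piX tS sq).left :=
    MorphismProperty.of_isPullback (P := @Flat) sql inferInstance
  have : Surjective (piX tS sq).left :=
    MorphismProperty.of_isPullback (P := @Surjective) sql inferInstance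
  have : IsAffineHom (piX tS sq).left :=
    MorphismProperty.of_isPullback (P := @IsAffineHom) sql inferInstance
  have hcov := Groth.Agent.Helper5.FpqcSingle.isFpqcCover_single (piX tS sq)
  have hiso : IsIso φ :=
    (Groth.Agent.Helper5.FpqcIso.isLocalOnBase_isomorphisms
      (fun _ : PUnit.{u + 1} => (yon S).obj (sp tS A')) (fun _ => (yon S).map (piX tS sq))
      (IsAlgSpace.yon_obj _) (fun _ => IsAlgSpace.yon_obj _) hcov φ hF
      (fun _ => (yon S).obj (sp tS A')) (fun _ => 𝟙 _) (fun _ => fst)
      (fun _ => IsAlgSpace.yon_obj _) (fun _ => htop)).2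
      (fun _ => (inferInstance : IsIso (𝟙 ((yon S).obj (sp tS A')))))
  refine ⟨(asIso φ).symm, ?_, ?_⟩
  · show (yon S).map (piX tS sq) ≫ inv φ = fst
    exact (IsIso.comp_inv_eq φ).2 h1.symm
  · show inv φ ≫ f = (yon S).map (gA tS sq)
    exact (IsIso.inv_comp_eq φ).2 h2.symm

end Groth.Agent.Helper5.AffDescQ
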