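import Groth.Agent.Helper5.AffDescQ3
import Groth.Agent.Helper5.AffDesc6
import Mathlib

set_option autoImplicit false
universe u
open CategoryTheory CategoryTheory.Limits AlgebraicGeometry Opposite TensorProduct

namespace Groth.Agent.Helper5.AffDescQ

open AlgSp Groth.Agent.Helper5.GeomFibSp Groth.Agent.Helper5.AffDesc

variable {S : Scheme.{u}}

set_option backward.isDefEq.respectTransparency.types false in
/-- **fpqc descent of affine schemes** (sheaf form, `F` an algebraic space), for arbitrary affine
schemes over `S`. -/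
theorem exists_iso_of_affine_fpqc {T T' X' : Over S} [IsAffine T.left] [IsAffine T'.left]
    [IsAffine X'.left] (c : T' ⟶ T) [Flat c.left] [Surjective c.left] (g' : X' ⟶ T')
    {F : Sp S} (hF : IsAlgSpace F) (f : F ⟶ (yon S).obj T) (fst : (yon S).obj X' ⟶ F)
    (sq : IsPullback fst ((yon S).map g') f ((yon S).map c)) :
    ∃ (X : Over S) (g : X ⟶ T) (e : (yon S).obj X ≅ F), IsAffine X.left ∧
      e.hom ≫ f = (yon S).map g := by
  let R : Type u := Γ(T.left, ⊤)
  let R' : Type u := Γ(T'.left, ⊤)
  let A' : Type u := Γ(X'.left, ⊤)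
  letI : Algebra R R' := c.left.appTop.hom.toAlgebra
  letI : Algebra R' A' := g'.left.appTop.hom.toAlgebra
  letI : Algebra R A' := (g'.left.appTop.hom.comp c.left.appTop.hom).toAlgebra
  haveI : IsScalarTower R R' A' := IsScalarTower.of_algebraMap_eq' rfl
  haveI : Module.Flat R R' := by
    have h1 : c.left.appTop.hom.Flat := Scheme.Hom.flat_appTop c.left
    exact h1
  let tS : Spec (CommRingCat.of R) ⟶ S := T.left.isoSpec.inv ≫ T.hom
  -- the three isomorphisms
  let iT : T ≅ sp tS R := Over.isoMk T.left.isoSpec (by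
    show T.left.isoSpec.hom ≫ Spec.map (CommRingCat.ofHom (algebraMap R R)) ≫
      T.left.isoSpec.inv ≫ T.hom = T.hom
    have : CommRingCat.ofHom (algebraMap R R) = 𝟙 (CommRingCat.of R) := rfl
    rw [this, Spec.map_id]
    erw [Category.id_comp]
    rw [Iso.hom_inv_id_assoc])
  let iT' : T' ≅ sp tS R' := Over.isoMk T'.left.isoSpec (by
    show T'.left.isoSpec.hom ≫ Spec.map (CommRingCat.ofHom (algebraMap R R')) ≫
      T.left.isoSpec.inv ≫ T.hom = T'.hom
    have : CommRingCat.ofHom (algebraMap R R') = c.left.appTop := rfl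
    rw [this, Scheme.isoSpec_hom_naturality_assoc, Iso.hom_inv_id_assoc, Over.w])
  let iX' : X' ≅ sp tS A' := Over.isoMk X'.left.isoSpec (by
    show X'.left.isoSpec.hom ≫ Spec.map (CommRingCat.ofHom (algebraMap R A')) ≫
      T.left.isoSpec.inv ≫ T.hom = X'.hom
    have : CommRingCat.ofHom (algebraMap R A') = c.left.appTop ≫ g'.left.appTop := rfl
    rw [this, Spec.map_comp, Category.assoc, Scheme.isoSpec_hom_naturality_assoc,
      Scheme.isoSpec_hom_naturality_assoc, Iso.hom_inv_id_assoc, Over.w, Over.w])
  have hc : iT'.hom ≫ cT tS R' = c ≫ iT.hom := by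
    ext1
    show T'.left.isoSpec.hom ≫ Spec.map (CommRingCat.ofHom (Algebra.ofId R R').toRingHom) =
      c.left ≫ T.left.isoSpec.hom
    have : CommRingCat.ofHom (Algebra.ofId R R').toRingHom = c.left.appTop := rfl
    rw [this, Scheme.isoSpec_hom_naturality]
  have hg : iX'.hom ≫ gX tS R' A' = g' ≫ iT'.hom := by
    ext1
    show X'.left.isoSpec.hom ≫
      Spec.map (CommRingCat.ofHom (IsScalarTower.toAlgHom R R' A').toRingHom) =
      g'.left ≫ T'.left.isoSpec.hom
    have : CommRingCat.ofHom (IsScalarTower.toAlgHom R R' A').toRingHom = g'.left.appTop := rfl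
    rw [this, Scheme.isoSpec_hom_naturality]
  -- transported data
  let f' : F ⟶ (yon S).obj (sp tS R) := f ≫ (yon S).map iT.hom
  let fst' : (yon S).obj (sp tS A') ⟶ F := (yon S).map iX'.inv ≫ fst
  have sq' : IsPullback fst' ((yon S).map (gX tS R' A')) f' ((yon S).map (cT tS R')) := by
    refine IsPullback.of_iso sq ((yon S).mapIso iX') (Iso.refl _) ((yon S).mapIso iT')
      ((yon S).mapIso iT) ?_ ?_ ?_ ?_
    · simp only [Functor.mapIso_hom, Iso.refl_hom, Category.comp_id, fst']
      rw [← Category.assoc, ← Functor.map_comp, Iso.hom_inv_id, CategoryTheory.Functor.map_id,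
        Category.id_comp]
    · simp only [Functor.mapIso_hom]
      rw [← Functor.map_comp, ← Functor.map_comp, hg]
    · simp only [Functor.mapIso_hom, Iso.refl_hom, Category.id_comp, f']
    · simp only [Functor.mapIso_hom]
      rw [← Functor.map_comp, ← Functor.map_comp, hc]
  haveI : Module.FaithfullyFlat R R' := by
    have h1 : c.left.appTop.hom.Flat := Scheme.Hom.flat_appTop c.left
    have h2 : Function.Surjective (PrimeSpectrum.comap c.left.appTop.hom) := by
      have h3 : Surjective (Spec.map c.left.appTop) := by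
        have e : Spec.map c.left.appTop = T'.left.isoSpec.inv ≫ c.left ≫ T.left.isoSpec.hom := by
          rw [← Scheme.isoSpec_hom_naturality, Iso.inv_hom_id_assoc]
        rw [e]
        infer_instance
      exact h3.surj
    exact (RingHom.faithfullyFlat_algebraMap_iff (R := R) (S := R')).1
      (RingHom.FaithfullyFlat.iff_flat_and_comap_surjective.2 ⟨h1, h2⟩)
  obtain ⟨e, -, he⟩ := Groth.Agent.Helper5.AffDescQ.exists_iso_fpqc sq' hF
  refine ⟨sp tS (dA tS sq'), gA tS sq' ≫ iT.inv, e, inferInstance, ?_⟩
  rw [Functor.map_comp, ← he]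
  simp only [f', Category.assoc]
  rw [← Functor.map_comp, Iso.hom_inv_id, CategoryTheory.Functor.map_id, Category.comp_id]

end Groth.Agent.Helper5.AffDescQ
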