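import Groth.Prelude.Def_AlgSpCov
import Groth.Agent.Helper4.AlgSpPB
import Mathlib

set_option autoImplicit false
universe u
open CategoryTheory CategoryTheory.Limits AlgebraicGeometry Opposite

namespace Groth.Agent.Helper5.FpqcCore

open AlgSp

variable {S : Scheme.{u}}

/-- Refinement data for an fpqc covering over an affine test scheme. -/
theorem fpqc_refine {ι : Type u} {Y : Sp S} (Yi : ι → Sp S) (g : ∀ i, Yi i ⟶ Y)
    (hcov : IsFpqcCover Yi g) {X : Sp S} (f : X ⟶ Y) (Xi : ι → Sp S) (p : ∀ i, Xi i ⟶ Yi i)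
    (q : ∀ i, Xi i ⟶ X) (sq : ∀ i, IsPullback (q i) (p i) f (g i))
    (V : Over S) (hV : IsAffine V.left) (b : (yon S).obj V ⟶ Y) (F : Sp S) (fst : F ⟶ X)
    (snd : F ⟶ (yon S).obj V) (sqV : IsPullback fst snd f b) :
    ∃ (m : ℕ) (W : Fin m → Over S) (c : ∀ j, W j ⟶ V),
      (∀ j, IsAffine (W j).left) ∧ (∀ j, Flat (c j).left) ∧
      (∀ z : ↥V.left, ∃ j, z ∈ Set.range (c j).left) ∧
      ∀ j, ∃ (i : ι) (l : (yon S).obj (W j) ⟶ Yi i) (Fj : Sp S) (a : Fj ⟶ F)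
        (sj : Fj ⟶ (yon S).obj (W j)) (t : Fj ⟶ Xi i),
        IsPullback a sj snd ((yon S).map (c j)) ∧ IsPullback t sj (p i) l := by
  obtain ⟨m, W, c, hWa, hcf, hcs, hl⟩ := hcov.2 V hV b
  refine ⟨m, W, c, hWa, hcf, hcs, fun j => ?_⟩
  obtain ⟨i, l, hl⟩ := hl j
  have sqj : IsPullback (pullback.fst snd ((yon S).map (c j))) (pullback.snd snd ((yon S).map (c j)))
      snd ((yon S).map (c j)) := IsPullback.of_hasPullback _ _
  have hcomm : (pullback.fst snd ((yon S).map (c j)) ≫ fst) ≫ f =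
      (pullback.snd snd ((yon S).map (c j)) ≫ l) ≫ g i := by
    rw [Category.assoc, sqV.w, ← Category.assoc, sqj.w, Category.assoc, Category.assoc, hl]
  refine ⟨i, l, _, _, _, (sq i).lift _ _ hcomm, sqj, ?_⟩
  have big : IsPullback (pullback.fst snd ((yon S).map (c j)) ≫ fst)
      (pullback.snd snd ((yon S).map (c j))) f ((yon S).map (c j) ≫ b) := sqj.paste_horiz sqV
  have e1 : pullback.fst snd ((yon S).map (c j)) ≫ fst = (sq i).lift _ _ hcomm ≫ q i :=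
    ((sq i).lift_fst _ _ hcomm).symm
  rw [e1, ← hl] at big
  exact IsPullback.of_right big ((sq i).lift_snd _ _ hcomm) (sq i)


/-- The refinement condition used as the hypothesis of the descent step. -/
def HasFlatRefinement (PP : MorphismProperty (Sp S)) {X Y : Sp S} (f : X ⟶ Y) : Prop :=
  ∀ (V : Over S), IsAffine V.left → ∀ (b : (yon S).obj V ⟶ Y) (F : Sp S) (fst : F ⟶ X)
    (snd : F ⟶ (yon S).obj V), IsPullback fst snd f b →
    ∃ (m : ℕ) (W : Fin m → Over S) (c : ∀ j, W j ⟶ V),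
      (∀ j, IsAffine (W j).left) ∧ (∀ j, Flat (c j).left) ∧
      (∀ z : ↥V.left, ∃ j, z ∈ Set.range (c j).left) ∧
      ∀ j, ∃ (Fj : Sp S) (a : Fj ⟶ F) (sj : Fj ⟶ (yon S).obj (W j)),
        IsAlgSpace Fj ∧ IsPullback a sj snd ((yon S).map (c j)) ∧ PP sj

/-- Generic criterion for being fpqc local on the base. -/
theorem isLocalOnBase_fpqc (PP : MorphismProperty (Sp S))
    (hbc : ∀ ⦃X Y X' Y' : Sp S⦄ (f : X ⟶ Y) (g : Y' ⟶ Y) (f' : X' ⟶ Y') (g' : X' ⟶ X),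
      IsAlgSpace X → IsAlgSpace Y → IsAlgSpace X' → IsAlgSpace Y' → IsPullback g' f' f g →
      PP f → PP f')
    (hdesc : ∀ ⦃X Y : Sp S⦄ (f : X ⟶ Y), IsAlgSpace X → IsAlgSpace Y →
      HasFlatRefinement PP f → PP f) :
    IsLocalOnBase (IsFpqcCover (S := S)) PP := by
  intro ι Y Yi g hY hYi hcov X f hX Xi p q hXi sq
  constructor
  · intro hf i
    exact hbc f (g i) (p i) (q i) hX hY (hXi i) (hYi i) (sq i) hf
  · intro hp
    refine hdesc f hX hY ?_
    intro V hV b F fst snd sqV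
    have hF : IsAlgSpace F :=
      Groth.Agent.Helper4.AlgSpPB.isAlgSpace_of_isPullback hY.diag hX (IsAlgSpace.yon_obj V)
        f b fst snd sqV
    obtain ⟨m, W, c, hWa, hcf, hcs, hj⟩ := fpqc_refine Yi g hcov f Xi p q sq V hV b F fst snd sqV
    refine ⟨m, W, c, hWa, hcf, hcs, fun j => ?_⟩
    obtain ⟨i, l, Fj, a, sj, t, sq1, sq2⟩ := hj j
    have hFj : IsAlgSpace Fj :=
      Groth.Agent.Helper4.AlgSpPB.isAlgSpace_of_isPullback (IsAlgSpace.yon_obj V).diag hF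
        (IsAlgSpace.yon_obj (W j)) snd _ a sj sq1
    exact ⟨Fj, a, sj, hFj, sq1,
      hbc (p i) l sj t (hXi i) (hYi i) hFj (IsAlgSpace.yon_obj (W j)) sq2 (hp i)⟩

end Groth.Agent.Helper5.FpqcCore
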