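import Groth.Agent.Helper5.FlatBC4
import Groth.Agent.Lead.Deform
import Mathlib

set_option autoImplicit false
set_option linter.style.haveILetI false
set_option linter.unusedSectionVars false
set_option linter.unusedVariables false
universe u
open CategoryTheory CategoryTheory.Limits AlgebraicGeometry Opposite

namespace Groth.Agent.Helper5.DeformSp

open AlgSp Groth.Agent.Helper4 Groth.Agent.Helper5.GorSp Groth.Agent.Helper5.FlatSp
  Groth.Agent.Helper4.AlgSpOpenImage

variable {S : Scheme.{u}}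

set_option backward.isDefEq.respectTransparency.types false in
/-- chart triple through a point, with affine chart of the base -/
theorem exists_chart_comp_affine {X Y Z : Sp S} (hX : IsAlgSpace X) (hY : IsAlgSpace Y)
    (hZ : IsAlgSpace Z) (f : X ⟶ Y) (g : Y ⟶ Z) (x : Points X) :
    ∃ (U V W : Over S) (a : (yon S).obj U ⟶ X) (b : (yon S).obj V ⟶ Y) (c : (yon S).obj W ⟶ Z)
      (s : U ⟶ V) (t : V ⟶ W) (u : ↥U.left), IsAffine W.left ∧
      RepWith @Etale a ∧ RepWith @Etale b ∧ RepWith @Etale c ∧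
        a ≫ f = (yon S).map s ≫ b ∧ b ≫ g = (yon S).map t ≫ c ∧ Points.ofPt a u = x := by
  obtain ⟨U, V, W, a, b, c, s, t, u, ha, hb, hc, c1, c2, hu⟩ := exists_chart_comp hX hY hZ f g x
  obtain ⟨O₀, hO₀, huO₀, -⟩ := (TopologicalSpace.Opens.isBasis_iff_nbhd.mp W.left.isBasis_affineOpens)
    (show t.left (s.left u) ∈ (⊤ : W.left.Opens) from trivial)
  obtain ⟨O, hO, huO⟩ : ∃ O : W.left.Opens, IsAffineOpen O ∧ t.left (s.left u) ∈ O :=
    ⟨O₀, hO₀, huO₀⟩
  let OV : V.left.Opens := t.left ⁻¹ᵁ O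
  let OU : U.left.Opens := s.left ⁻¹ᵁ OV
  let W₁ : Over S := Over.mk (O.ι ≫ W.hom)
  let V₁ : Over S := Over.mk (OV.ι ≫ V.hom)
  let U₁ : Over S := Over.mk (OU.ι ≫ U.hom)
  let ιW : W₁ ⟶ W := Over.homMk O.ι rfl
  let ιV : V₁ ⟶ V := Over.homMk OV.ι rfl
  let ιU : U₁ ⟶ U := Over.homMk OU.ι rfl
  obtain ⟨t₁, ht₁⟩ := exists_factor_opens O (ιV ≫ t) (fun v => by
    show t.left (OV.ι v) ∈ O
    exact v.2)
  obtain ⟨s₁, hs₁⟩ := exists_factor_opens OV (ιU ≫ s) (fun v => by
    show s.left (OU.ι v) ∈ OV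
    exact v.2)
  have hιW : Etale ιW.left := by
    show Etale O.ι
    infer_instance
  have hιV : Etale ιV.left := by
    show Etale OV.ι
    infer_instance
  have hιU : Etale ιU.left := by
    show Etale OU.ι
    infer_instance
  refine ⟨U₁, V₁, W₁, (yon S).map ιU ≫ a, (yon S).map ιV ≫ b, (yon S).map ιW ≫ c, s₁, t₁,
    ⟨u, huO⟩, hO, repWith_etale_yon_comp ιU hιU a ha, repWith_etale_yon_comp ιV hιV b hb,
    repWith_etale_yon_comp ιW hιW c hc, ?_, ?_, ?_⟩
  · rw [Category.assoc, c1, ← Category.assoc, ← Functor.map_comp, ← hs₁, Functor.map_comp,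
      Category.assoc]
  · rw [Category.assoc, c2, ← Category.assoc, ← Functor.map_comp, ← ht₁, Functor.map_comp,
      Category.assoc]
  · rw [Groth.Agent.Helper4.AlgSpPtsDesc.ofPt_yon_map_comp]
    exact hu

/-- base change of an étale chart along a representable morphism -/
theorem exists_bc_chart {X X' : Sp S} (i : X ⟶ X') (hi : Representable i) {U' : Over S}
    (a' : (yon S).obj U' ⟶ X') (ha' : RepWith @Etale a') :
    ∃ (U : Over S) (j : U ⟶ U') (a : (yon S).obj U ⟶ X),
      IsPullback a ((yon S).map j) i a' ∧ RepWith @Etale a := by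
  have sq := hi.isPullback a'
  exact ⟨_, _, _, sq, MorphismProperty.of_isPullback (P := RepWith @Etale) sq.flip ha'⟩

end Groth.Agent.Helper5.DeformSp
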