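import Groth.Agent.Helper5.FlatBC2
import Groth.Prelude.Def_AlgSpInf
import Mathlib

set_option autoImplicit false
set_option linter.style.haveILetI false
set_option linter.unusedSectionVars false
set_option linter.unusedVariables false
universe u
open CategoryTheory CategoryTheory.Limits AlgebraicGeometry Opposite

namespace Groth.Agent.Helper5.FlatBC

open AlgSp Groth.Agent.Helper4 Groth.Agent.Helper5.GorSp Groth.Agent.Helper5.FlatSp
  Groth.Agent.Helper5.FlatFib

variable {S : Scheme.{u}}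

/-- a thickening is surjective on points -/
theorem isSurjectiveMor_of_isThickMor {X X' : Sp S} (i : X ⟶ X') (hi : IsThickMor i) :
    IsSurjectiveMor i :=
  Groth.Agent.Helper4.AlgSpPts.isSurjectiveMor_of_repWith i
    (Groth.Agent.Helper4.AlgSpSrc.repWith_mono (P := thick) (Q := @Surjective)
      (fun g hg => hg.2) hi)

/-- if `f` and `f ≫ g` are flat then `g` is flat at the points in the image of `f` -/
theorem isFlatAtMor_of_comp {X Y Z : Sp S} (hX : IsAlgSpace X) (hY : IsAlgSpace Y)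
    (hZ : IsAlgSpace Z) (f : X ⟶ Y) (g : Y ⟶ Z) (hf : LocP @Flat f) (hfg : LocP @Flat (f ≫ g))
    (x : Points X) : IsFlatAtMor g (Points.map f x) := by
  obtain ⟨U, V, W, a, b, c, s, t, u, ha, hb, hc, c1, c2, hu⟩ := exists_chart_comp hX hY hZ f g x
  have c3 : a ≫ (f ≫ g) = (yon S).map (s ≫ t) ≫ c := by
    rw [← Category.assoc, c1, Category.assoc, c2, Functor.map_comp, Category.assoc]
  have hpt : Points.ofPt b (s.left u) = Points.map f x := by
    rw [← hu, Points.map_ofPt, c1, Groth.Agent.Helper4.AlgSpPtsDesc.ofPt_yon_map_comp]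
  haveI : Flat s.left := hf a b s ha hb c1
  haveI : Flat (s.left ≫ t.left) := hfg a c (s ≫ t) ha hc c3
  exact isFlatAtMor_of_chart g _ b c t hb hc c2 (s.left u) hpt
    (flatAt_of_comp_flat s.left t.left u (Flat.stalkMap (s.left ≫ t.left) u))

theorem s10598 {X X' Y Y' B B' : AlgSp.Space S} (iX : X ⟶ X') (iY : Y ⟶ Y') (iB : B ⟶ B')
    (f : X ⟶ Y) (f' : X' ⟶ Y') (g : Y ⟶ B) (g' : Y' ⟶ B')
    (hcX : IsPullback iX.hom (f ≫ g).hom (f' ≫ g').hom iB.hom)
    (hcY : IsPullback iY.hom g.hom g'.hom iB.hom)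
    (w : iX ≫ f' = f ≫ iY)
    (hB : AlgSp.IsThickMor iB.hom)
    (hg' : AlgSp.LocP @LocallyOfFiniteType g'.hom)
    (hflat : AlgSp.LocP @Flat (f' ≫ g').hom)
    (hfp : AlgSp.LocP @LocallyOfFinitePresentation (f' ≫ g').hom)
    (hf : AlgSp.LocP @Flat f.hom) :
    AlgSp.LocP @Flat f'.hom ∧
    ∀ x' : AlgSp.Points X'.obj, AlgSp.IsFlatAtMor g'.hom (AlgSp.Points.map f'.hom x') := by
  have w' : iX.hom ≫ f'.hom = f.hom ≫ iY.hom := congrArg (fun k => k.hom) w
  have hX : IsPullback iX.hom f.hom f'.hom iY.hom := IsPullback.of_bot hcX w' hcY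
  obtain ⟨-, hbc⟩ := s10609 f' g' hfp hflat hg'
  have hset := hbc X Y B iB f g iX iY hcY hX
  have i1 := repWith_isStableUnderBaseChange (S := S) thick
  have hiX : IsThickMor iX.hom :=
    MorphismProperty.of_isPullback (P := RepWith thick) hcX.flip hB
  have hsurj := isSurjectiveMor_of_isThickMor iX.hom hiX
  have hf'all : ∀ x', IsFlatAtMor f'.hom x' := by
    intro x'
    obtain ⟨x, rfl⟩ := hsurj x'
    have hx : x ∈ {x : AlgSp.Points X.obj | AlgSp.IsFlatAtMor f.hom x} :=
      (locP_flat_iff_forall f.hom).1 hf x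
    rw [hset] at hx
    exact hx
  have hf' : LocP @Flat f'.hom := (locP_flat_iff_forall _).2 hf'all
  exact ⟨hf', fun x' => isFlatAtMor_of_comp X'.property Y'.property B'.property f'.hom g'.hom hf'
    hflat x'⟩

end Groth.Agent.Helper5.FlatBC
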