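import Groth.Agent.Helper5.SmLift1
import Groth.Agent.Helper5.AtMor
import Groth.Agent.Helper5.Deform1
import Groth.Agent.Helper5.TopInv5
import Groth.Agent.Helper5.FlatBC4
import Groth.Agent.Helper5.GeomRed
import Groth.Agent.Helper4.AlgSpPtsDesc
import Groth.Agent.Helper4.AlgSpSrc
import Groth.Agent.Helper4.UB1
import Groth.Agent.Helper4.AlgSpPB
import Groth.Agent.Helper4.AlgSpLocPBC
import Groth.Agent.Helper4.SDClasses
import Mathlib

set_option autoImplicit false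
set_option linter.style.haveILetI false
set_option linter.unusedSectionVars false
set_option linter.unusedVariables false
universe u
open CategoryTheory CategoryTheory.Limits AlgebraicGeometry Opposite

namespace Groth.Agent.Helper5.SmLift

open AlgSp Groth.Agent.Helper4 Groth.Agent.Helper5.DeformSp Groth.Agent.Helper5.FlatBC

variable {S : Scheme.{u}}

/-- points of `h_T` are points of `T` -/
theorem exists_ofScheme_eq (T : Over S) (p : Points ((yon S).obj T)) :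
    ∃ t : ↥T.left, Points.ofScheme T t = p :=
  (Points.schemeEquiv T).surjective p

theorem ofScheme_injective (T : Over S) : Function.Injective (Points.ofScheme T) :=
  (Points.schemeEquiv T).injective

theorem map_yon_map_ofScheme {T T' : Over S} (e : T ⟶ T') (t : ↥T.left) :
    Points.map ((yon S).map e) (Points.ofScheme T t) = Points.ofScheme T' (e.left t) := by
  have := Points.map_yon_map_apply e t
  exact this

set_option backward.isDefEq.respectTransparency.types false in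
/-- a compatible system of charts for the lifting problem over a representable base -/
theorem exists_charts {X T T' : AlgSp.Space S} {B : Over S} (f : X.obj ⟶ (yon S).obj B)
    (i : T ⟶ T') (hi : AlgSp.IsThickMor i.hom) (a : T.obj ⟶ X.obj)
    (b : T'.obj ⟶ (yon S).obj B) (w : a ≫ f = i.hom ≫ b) (t : Points T.obj) :
    ∃ (UX V' V V₂ : Over S) (α : (yon S).obj UX ⟶ X.obj) (h : UX ⟶ B)
      (τ' : (yon S).obj V' ⟶ T'.obj) (jV : V ⟶ V') (τ : (yon S).obj V ⟶ T.obj)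
      (e₀ : V₂ ⟶ V) (a₁ : V₂ ⟶ UX) (b₁ : V' ⟶ B) (v₂ : ↥V₂.left),
      RepWith @Etale α ∧ α ≫ f = (yon S).map h ∧ RepWith @Etale τ' ∧
      IsPullback τ ((yon S).map jV) i.hom τ' ∧ Etale e₀.left ∧
      (yon S).map e₀ ≫ τ ≫ a = (yon S).map a₁ ≫ α ∧ (yon S).map b₁ = τ' ≫ b ∧
      Points.ofPt τ' (jV.left (e₀.left v₂)) = Points.map i.hom t := by
  -- chart of `f` at `x`
  obtain ⟨v₀, hv₀⟩ := exists_ofScheme_eq B (Points.map f (Points.map a t))
  obtain ⟨UX, α, h, u, hα, hcomm, hu, -⟩ :=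
    Groth.Agent.Helper5.AtMor.exists_chart_over X.property f (Points.map a t) (𝟙 _)
      (repWith_id _ B) v₀ hv₀
  rw [Category.comp_id] at hcomm
  -- chart of `T'`
  obtain ⟨V', τ', v', hτ', hv'⟩ :=
    Groth.Agent.Helper5.GeomRed.exists_chart_point T'.property (Points.map i.hom t)
  obtain ⟨V, jV, τ, sqV, hτ⟩ := exists_bc_chart i.hom hi.rep τ' hτ'
  -- the point of `V`
  obtain ⟨p, hp1, hp2⟩ := Groth.Agent.Helper4.AlgSpPtsDesc.exists_point_of_isPullback sqV t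
    (Points.ofScheme V' v') (by rw [← Points.ofPt_eq_map_ofScheme]; exact hv'.symm)
  obtain ⟨v, rfl⟩ := exists_ofScheme_eq V p
  have hjv : jV.left v = v' := by
    apply ofScheme_injective V'
    rw [← map_yon_map_ofScheme]; exact hp2
  -- chart of `h_V` adapted to `α`
  have hu' : Points.ofPt α u = Points.map (τ ≫ a) (Points.ofScheme V v) := by
    rw [Points.map_comp, hp1]; exact hu
  obtain ⟨V₂, e₀', a₁, v₂, he₀', hc₂, hv₂, -⟩ :=
    Groth.Agent.Helper5.AtMor.exists_chart_over (IsAlgSpace.yon_obj V) (τ ≫ a)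
      (Points.ofScheme V v) α hα u hu'
  obtain ⟨e₀, rfl⟩ := (yon S).map_surjective e₀'
  have he₀ : Etale e₀.left := (repWith_yon_map_iff _ e₀).1 he₀'
  have hev : e₀.left v₂ = v := by
    apply ofScheme_injective V
    rw [← map_yon_map_ofScheme, ← Points.ofPt_eq_map_ofScheme]; exact hv₂
  obtain ⟨b₁, hb₁⟩ := (yon S).map_surjective (τ' ≫ b)
  refine ⟨UX, V', V, V₂, α, h, τ', jV, τ, e₀, a₁, b₁, v₂, hα, hcomm, hτ', sqV, he₀, hc₂, hb₁, ?_⟩
  rw [hev, hjv]; exact hv'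


set_option backward.isDefEq.respectTransparency.types false in
set_option maxHeartbeats 1600000 in
/-- the lifting problem over a representable base -/
theorem exists_lift_scheme_base {X T T' : AlgSp.Space S} {B : Over S} (f : X.obj ⟶ (yon S).obj B)
    (hf : AlgSp.LocP @Smooth f) (i : T ⟶ T') (hi : AlgSp.IsThickMor i.hom) (a : T.obj ⟶ X.obj)
    (b : T'.obj ⟶ (yon S).obj B) (w : a ≫ f = i.hom ≫ b) (t' : Points T'.obj) :
    ∃ (Vo : Over S) (e : (yon S).obj Vo ⟶ T'.obj) (ℓ : (yon S).obj Vo ⟶ X.obj),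
      RepWith @Etale e ∧ t' ∈ Set.range (Points.ofPt e) ∧ ℓ ≫ f = e ≫ b ∧
      ∀ (P : Sp S) (p₁ : P ⟶ T.obj) (p₂ : P ⟶ (yon S).obj Vo),
        IsPullback p₁ p₂ i.hom e → p₂ ≫ ℓ = p₁ ≫ a := by
  obtain ⟨t, rfl⟩ := isSurjectiveMor_of_isThickMor i.hom hi t'
  obtain ⟨UX, V', V, V₂, α, h, τ', jV, τ, e₀, a₁, b₁, v₂, hα, hcomm, hτ', sqV, he₀, hc₂, hb₁,
    hpt⟩ := exists_charts f i hi a b w t
  haveI : Smooth h.left :=
    hf α (𝟙 _) h hα (repWith_id _ B) (by rw [Category.comp_id]; exact hcomm)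
  have hthick : thick jV.left := hi.property _ _ _ sqV
  haveI : IsClosedImmersion jV.left := hthick.1
  haveI : Surjective jV.left := hthick.2
  haveI : Etale (Over.mk e₀.left).hom := he₀
  obtain ⟨U, wU, hUet, hwoi, v₃, hv₃⟩ :=
    Groth.Agent.Helper5.TopInv.exists_local_chart jV.left (X₀ := Over.mk e₀.left) v₂
  haveI := hUet
  -- names
  obtain ⟨j₃, hj₃⟩ : ∃ j₃ : pullback U.hom jV.left ⟶ U.left, j₃ = pullback.fst U.hom jV.left :=
    ⟨_, rfl⟩
  obtain ⟨g₃, hg₃⟩ : ∃ g₃ : pullback U.hom jV.left ⟶ V.left, g₃ = pullback.snd U.hom jV.left :=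
    ⟨_, rfl⟩
  have hsq₃ : IsPullback j₃ g₃ U.hom jV.left := by
    rw [hj₃, hg₃]; exact IsPullback.of_hasPullback _ _
  have hwe : wU.left ≫ e₀.left = g₃ := by
    rw [hg₃]; exact Over.w wU
  haveI : IsClosedImmersion j₃ := by rw [hj₃]; infer_instance
  haveI : Surjective j₃ := by rw [hj₃]; infer_instance
  -- compatibility
  have hE : a₁ ≫ h = e₀ ≫ jV ≫ b₁ := by
    apply (yon S).map_injective
    rw [Functor.map_comp, Functor.map_comp, Functor.map_comp, ← hcomm, ← Category.assoc, ← hc₂,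
      hb₁, Category.assoc, Category.assoc, w, ← Category.assoc τ, sqV.w, Category.assoc]
  have hE' : a₁.left ≫ h.left = e₀.left ≫ jV.left ≫ b₁.left := congrArg (fun k => k.left) hE
  have hcompat : (wU.left ≫ a₁.left) ≫ h.left = j₃ ≫ (U.hom ≫ b₁.left) := by
    rw [Category.assoc, hE', ← Category.assoc, hwe, ← Category.assoc, ← hsq₃.w, Category.assoc]
  obtain ⟨O, ℓ₁, hvO, hℓ1, hℓ2⟩ := exists_local_lift_of_smooth j₃ h.left (wU.left ≫ a₁.left)
    (U.hom ≫ b₁.left) hcompat (j₃ v₃)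
  -- the output
  have hb₁w : b₁.left ≫ B.hom = V'.hom := Over.w b₁
  have hhw : h.left ≫ B.hom = UX.hom := Over.w h
  have hjVw : jV.left ≫ V'.hom = V.hom := Over.w jV
  have he₀w : e₀.left ≫ V.hom = V₂.hom := Over.w e₀
  obtain ⟨Vo, hVo⟩ : ∃ Vo : Over S, Vo = Over.mk (O.ι ≫ U.hom ≫ V'.hom) := ⟨_, rfl⟩
  subst hVo
  let eo : Over.mk (O.ι ≫ U.hom ≫ V'.hom) ⟶ V' := Over.homMk (O.ι ≫ U.hom) (by
    show (O.ι ≫ U.hom) ≫ V'.hom = O.ι ≫ U.hom ≫ V'.hom
    rw [Category.assoc])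
  let ℓo : Over.mk (O.ι ≫ U.hom ≫ V'.hom) ⟶ UX := Over.homMk ℓ₁ (by
    show ℓ₁ ≫ UX.hom = O.ι ≫ U.hom ≫ V'.hom
    rw [← hhw, ← Category.assoc, hℓ1, Category.assoc, Category.assoc, hb₁w])
  haveI : Etale eo.left := by
    show Etale (O.ι ≫ U.hom)
    infer_instance
  refine ⟨_, (yon S).map eo ≫ τ', (yon S).map ℓo ≫ α, ?_, ?_, ?_, ?_⟩
  · exact Groth.Agent.Helper4.AlgSpSrc.repWith_comp _
      ((repWith_yon_map_iff _ eo).2 inferInstance) hτ'
  · refine ⟨⟨j₃ v₃, hvO⟩, ?_⟩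
    rw [Groth.Agent.Helper4.AlgSpPtsDesc.ofPt_yon_map_comp, ← hpt]
    congr 1
    have hA : U.hom (j₃ v₃) = jV.left (e₀.left v₂) := by
      have h1 : (j₃ ≫ U.hom) v₃ = (g₃ ≫ jV.left) v₃ := by rw [hsq₃.w]
      rw [Scheme.Hom.comp_apply, Scheme.Hom.comp_apply, ← hwe, Scheme.Hom.comp_apply, hv₃] at h1
      exact h1
    rw [← hA]
    rfl
  · rw [Category.assoc, hcomm, Category.assoc, ← hb₁, ← Functor.map_comp, ← Functor.map_comp]
    congr 1
    ext1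
    show ℓ₁ ≫ h.left = (O.ι ≫ U.hom) ≫ b₁.left
    rw [hℓ1, Category.assoc]
  · intro P p₁ p₂ hsq
    -- the scheme pullback
    have hpbs : IsPullback ((j₃ ⁻¹ᵁ O).ι ≫ g₃) (j₃ ∣_ O) jV.left (O.ι ≫ U.hom) :=
      ((isPullback_morphismRestrict j₃ O).paste_vert hsq₃).flip
    let V₃O : Over S := Over.mk ((j₃ ⁻¹ᵁ O).ι ≫ g₃ ≫ V.hom)
    let s : V₃O ⟶ V := Over.homMk ((j₃ ⁻¹ᵁ O).ι ≫ g₃) (by
      show ((j₃ ⁻¹ᵁ O).ι ≫ g₃) ≫ V.hom = (j₃ ⁻¹ᵁ O).ι ≫ g₃ ≫ V.hom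
      rw [Category.assoc])
    let r : V₃O ⟶ Over.mk (O.ι ≫ U.hom ≫ V'.hom) := Over.homMk (j₃ ∣_ O) (by
      show (j₃ ∣_ O) ≫ O.ι ≫ U.hom ≫ V'.hom = (j₃ ⁻¹ᵁ O).ι ≫ g₃ ≫ V.hom
      rw [← Category.assoc, morphismRestrict_ι, Category.assoc, ← Category.assoc j₃, hsq₃.w,
        Category.assoc, hjVw])
    let k : V₃O ⟶ V₂ := Over.homMk ((j₃ ⁻¹ᵁ O).ι ≫ wU.left) (by
      show ((j₃ ⁻¹ᵁ O).ι ≫ wU.left) ≫ V₂.hom = (j₃ ⁻¹ᵁ O).ι ≫ g₃ ≫ V.hom
      rw [← he₀w, Category.assoc, ← Category.assoc wU.left, hwe])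
    have hsr : s ≫ jV = r ≫ eo := by
      ext1
      exact hpbs.w
    have hpbO : IsPullback s r jV eo :=
      Groth.Agent.Helper4.UB1.isPullback_of_left hsr hpbs
    have hpby := Groth.Agent.Helper4.UB1.isPullback_yon_map hpbO
    have sqO : IsPullback ((yon S).map s ≫ τ) ((yon S).map r) i.hom ((yon S).map eo ≫ τ') :=
      (hpby.flip.paste_vert sqV.flip).flip
    have hrk : r ≫ ℓo = k ≫ a₁ := by
      ext1
      show (j₃ ∣_ O) ≫ ℓ₁ = ((j₃ ⁻¹ᵁ O).ι ≫ wU.left) ≫ a₁.left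
      rw [hℓ2, Category.assoc]
    have hks : k ≫ e₀ = s := by
      ext1
      show ((j₃ ⁻¹ᵁ O).ι ≫ wU.left) ≫ e₀.left = (j₃ ⁻¹ᵁ O).ι ≫ g₃
      rw [Category.assoc, hwe]
    obtain ⟨L, hL⟩ : ∃ L, L = sqO.lift p₁ p₂ hsq.w := ⟨_, rfl⟩
    have h1 : L ≫ ((yon S).map s ≫ τ) = p₁ := by rw [hL]; exact sqO.lift_fst _ _ _
    have h2 : L ≫ (yon S).map r = p₂ := by rw [hL]; exact sqO.lift_snd _ _ _
    rw [← h2, ← h1, Category.assoc, ← Category.assoc ((yon S).map r), ← Functor.map_comp, hrk,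
      Functor.map_comp, Category.assoc, ← hc₂, ← Category.assoc ((yon S).map k),
      ← Functor.map_comp, hks, Category.assoc, Category.assoc]

set_option backward.isDefEq.respectTransparency.types false in
set_option maxHeartbeats 1600000 in
/-- smooth morphisms of algebraic spaces lift étale locally along thickenings -/
theorem s10615 {X Y T T' : AlgSp.Space S} (f : X ⟶ Y)
    (hf : AlgSp.LocP @Smooth f.hom) (i : T ⟶ T')
    (hi : AlgSp.IsThickMor i.hom)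
    (a : T ⟶ X) (b : T' ⟶ Y) (w : a ≫ f = i ≫ b) (t' : AlgSp.Points T'.obj) :
    ∃ (V : Over S) (e : (AlgSp.yon S).obj V ⟶ T'.obj) (ℓ : (AlgSp.yon S).obj V ⟶ X.obj),
      AlgSp.RepWith @Etale e ∧ t' ∈ Set.range (AlgSp.Points.ofPt e) ∧ ℓ ≫ f.hom = e ≫ b.hom ∧
      ∀ (P : AlgSp.Sp S) (p₁ : P ⟶ T.obj) (p₂ : P ⟶ (AlgSp.yon S).obj V),
        IsPullback p₁ p₂ i.hom e → p₂ ≫ ℓ = p₁ ≫ a.hom := by
  have w' : a.hom ≫ f.hom = i.hom ≫ b.hom := congrArg (fun k => k.hom) w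
  -- a chart of `Y`
  obtain ⟨UY, β, uy, hβ, huy⟩ :=
    Groth.Agent.Helper5.GeomRed.exists_chart_point Y.property (Points.map b.hom t')
  -- the base changes
  obtain ⟨X', pX, f', sqX⟩ : ∃ (X' : Sp S) (pX : X' ⟶ X.obj) (f' : X' ⟶ (yon S).obj UY),
      IsPullback pX f' f.hom β := ⟨_, _, _, IsPullback.of_hasPullback f.hom β⟩
  obtain ⟨T₁', q', b', sqT'⟩ : ∃ (T₁' : Sp S) (q' : T₁' ⟶ T'.obj) (b' : T₁' ⟶ (yon S).obj UY),
      IsPullback q' b' b.hom β := ⟨_, _, _, IsPullback.of_hasPullback b.hom β⟩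
  obtain ⟨T₁, q, i', sqT⟩ : ∃ (T₁ : Sp S) (q : T₁ ⟶ T.obj) (i' : T₁ ⟶ T₁'),
      IsPullback q i' i.hom q' := ⟨_, _, _, IsPullback.of_hasPullback i.hom q'⟩
  have hX' : IsAlgSpace X' :=
    Groth.Agent.Helper4.AlgSpPB.isAlgSpace_of_isPullback Y.property.diag X.property
      (IsAlgSpace.yon_obj UY) f.hom β pX f' sqX
  have hT₁' : IsAlgSpace T₁' :=
    Groth.Agent.Helper4.AlgSpPB.isAlgSpace_of_isPullback Y.property.diag T'.property
      (IsAlgSpace.yon_obj UY) b.hom β q' b' sqT'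
  have hT₁ : IsAlgSpace T₁ :=
    Groth.Agent.Helper4.AlgSpPB.isAlgSpace_of_isPullback T'.property.diag T.property
      hT₁' i.hom q' q i' sqT
  have hq' : RepWith @Etale q' := MorphismProperty.of_isPullback (P := RepWith @Etale) sqT'.flip hβ
  have hi' : IsThickMor i' := MorphismProperty.of_isPullback (P := RepWith thick) sqT hi
  have hf' : LocP @Smooth f' := by
    have hG := Groth.Agent.Helper4.SDClasses.good_smooth.{u}
    haveI := hG.bc
    haveI := hG.comp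
    exact Groth.Agent.Helper4.AlgSpLocPBC.locP_of_isPullback _ hG.etale_le hG.sd X.property
      Y.property f.hom β pX f' sqX hf
  -- the new `a`
  have hcomp : (q ≫ a.hom) ≫ f.hom = (i' ≫ b') ≫ β := by
    rw [Category.assoc, w', ← Category.assoc, sqT.w, Category.assoc, sqT'.w, Category.assoc]
  obtain ⟨a', ha'1, ha'2⟩ : ∃ a' : T₁ ⟶ X', a' ≫ pX = q ≫ a.hom ∧ a' ≫ f' = i' ≫ b' :=
    ⟨sqX.lift _ _ hcomp, sqX.lift_fst _ _ _, sqX.lift_snd _ _ _⟩
  -- the point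
  obtain ⟨t₁', ht₁', -⟩ := Groth.Agent.Helper4.AlgSpPtsDesc.exists_point_of_isPullback sqT' t'
    (Points.ofScheme UY uy) (by rw [← Points.ofPt_eq_map_ofScheme]; exact huy.symm)
  -- apply the representable case
  obtain ⟨Vo, e, ℓ, he, ⟨v, hv⟩, hℓ, hP⟩ :=
    exists_lift_scheme_base (X := ⟨X', hX'⟩) (T := ⟨T₁, hT₁⟩) (T' := ⟨T₁', hT₁'⟩) f' hf'
      (ObjectProperty.homMk i') hi' a' b' ha'2 t₁'
  refine ⟨Vo, e ≫ q', ℓ ≫ pX, Groth.Agent.Helper4.AlgSpSrc.repWith_comp _ he hq', ⟨v, ?_⟩, ?_, ?_⟩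
  · rw [Points.ofPt_eq_map_ofScheme, Points.map_comp, ← Points.ofPt_eq_map_ofScheme, hv, ht₁']
  · rw [Category.assoc, sqX.w, ← Category.assoc, hℓ, Category.assoc, Category.assoc, sqT'.w]
  · intro P p₁ p₂ hsq
    have hw : p₁ ≫ i.hom = (p₂ ≫ e) ≫ q' := by rw [hsq.w, Category.assoc]
    obtain ⟨p₁', h1, h2⟩ : ∃ p₁' : P ⟶ T₁, p₁' ≫ q = p₁ ∧ p₁' ≫ i' = p₂ ≫ e :=
      ⟨sqT.lift _ _ hw, sqT.lift_fst _ _ _, sqT.lift_snd _ _ _⟩
    have hsq' : IsPullback p₁' p₂ i' e := by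
      refine IsPullback.of_right ?_ h2 sqT
      rw [h1]; exact hsq
    have := hP P p₁' p₂ hsq'
    rw [← Category.assoc, this, Category.assoc, ha'1, ← Category.assoc, h1]

end Groth.Agent.Helper5.SmLift
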