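import Groth.Agent.Helper5.AffDescQ4
import Groth.Agent.Helper5.AffDesc9
import Groth.Agent.Helper5.FpqcCore
import Groth.Agent.Helper5.SmLift2
import Mathlib

/-!
# `RepWith P` is fpqc local on the base for affine-type properties `P` with fpqc descent
-/

set_option autoImplicit false
universe u
open CategoryTheory CategoryTheory.Limits AlgebraicGeometry Opposite TensorProduct

namespace Groth.Agent.Helper5.AffDescQ

open AlgSp Groth.Agent.Helper5.GeomFibSp Groth.Agent.Helper5.AffDesc Groth.Agent.Helper5.ZarGlue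
  Groth.Agent.Helper5.FpqcCore

variable {S : Scheme.{u}}

section coprod

variable {m : ℕ} (W : Fin m → Over S)

/-- the disjoint union of finitely many schemes over `S` -/
noncomputable def sigmaOver : Over S := Over.mk (Sigma.desc (fun j => (W j).hom))

noncomputable def sigmaι (j : Fin m) : W j ⟶ sigmaOver W :=
  Over.homMk (Sigma.ι (fun j => (W j).left) j) (by simp [sigmaOver])

variable {W} in
noncomputable def sigmaDesc {Z : Over S} (c : ∀ j, W j ⟶ Z) : sigmaOver W ⟶ Z :=
  Over.homMk (Sigma.desc (fun j => (c j).left)) (by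
    apply Sigma.hom_ext
    intro j
    simp only [sigmaOver, Over.mk_hom]
    rw [← Category.assoc, Sigma.ι_desc, Sigma.ι_desc, Over.w])

variable {W} in
theorem sigmaι_desc {Z : Over S} (c : ∀ j, W j ⟶ Z) (j : Fin m) :
    sigmaι W j ≫ sigmaDesc c = c j := by
  ext1
  show Sigma.ι (fun j => (W j).left) j ≫ Sigma.desc (fun j => (c j).left) = (c j).left
  rw [Sigma.ι_desc]

instance isOpenImmersion_sigmaι (j : Fin m) : IsOpenImmersion (sigmaι W j).left := by
  show IsOpenImmersion (Sigma.ι (fun j => (W j).left) j)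
  infer_instance

theorem isAffine_sigmaOver (h : ∀ j, IsAffine (W j).left) : IsAffine (sigmaOver W).left := by
  show IsAffine (∐ fun j => (W j).left)
  infer_instance

variable {W} in
theorem flat_sigmaDesc {Z : Over S} (c : ∀ j, W j ⟶ Z) (h : ∀ j, Flat (c j).left) :
    Flat (sigmaDesc c).left := by
  show Flat (Sigma.desc (fun j => (c j).left))
  exact IsZariskiLocalAtSource.sigmaDesc (P := @Flat) h

variable {W} in
theorem surjective_sigmaDesc {Z : Over S} (c : ∀ j, W j ⟶ Z)
    (h : ∀ z : ↥Z.left, ∃ j, z ∈ Set.range (c j).left) : Surjective (sigmaDesc c).left := by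
  constructor
  intro z
  obtain ⟨j, w, rfl⟩ := h z
  refine ⟨(sigmaι W j).left w, ?_⟩
  rw [← Scheme.Hom.comp_apply, ← Over.comp_left, sigmaι_desc]

theorem exists_sigmaι_eq (t : ↥(sigmaOver W).left) :
    ∃ (j : Fin m) (w : ↥(W j).left), (sigmaι W j).left w = t := by
  obtain ⟨j, w, hw⟩ := (sigmaOpenCover (fun j => (W j).left)).exists_eq t
  exact ⟨j, w, hw⟩

end coprod

set_option backward.isDefEq.respectTransparency.types false in
/-- **Descent step**: for an affine-type property `P` of morphisms of schemes with fpqc descent,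
`RepWith P` descends along flat refinements. -/
theorem repWith_of_hasFlatRefinement (P : MorphismProperty Scheme.{u}) [P.IsStableUnderBaseChange]
    [IsZariskiLocalAtTarget P] [P.DescendsAlong (@Surjective ⊓ @Flat ⊓ @QuasiCompact)]
    (hPaff : P ≤ @IsAffineHom) {X Y : Sp S} (f : X ⟶ Y) (hX : IsAlgSpace X) (hY : IsAlgSpace Y)
    (href : HasFlatRefinement (RepWith P) f) : RepWith P f := by
  apply repWith_of_affine_test
  intro Z hZ g
  haveI : IsAffine Z.left := hZ
  have hF := IsPullback.of_hasPullback f g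
  have hFsp : IsAlgSpace (pullback f g) :=
    Groth.Agent.Helper4.AlgSpPB.isAlgSpace_of_isPullback hY.diag hX (IsAlgSpace.yon_obj Z) f g _ _
      hF
  obtain ⟨m, W, c, hWa, hcf, hcs, hj⟩ := href Z hZ g _ _ _ hF
  choose Fj aj sj hFj sqj hPj using hj
  -- the covering T' = ∐ W j
  haveI : IsAffine (sigmaOver W).left := isAffine_sigmaOver W hWa
  haveI : Flat (sigmaDesc c).left := flat_sigmaDesc c hcf
  haveI : Surjective (sigmaDesc c).left := surjective_sigmaDesc c hcs
  -- Q = F ×_Z T'
  have hQ := IsPullback.of_hasPullback (pullback.snd f g) ((yon S).map (sigmaDesc c))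
  generalize pullback.fst (pullback.snd f g) ((yon S).map (sigmaDesc c)) = q₁ at hQ
  generalize pullback.snd (pullback.snd f g) ((yon S).map (sigmaDesc c)) = q₂ at hQ
  generalize pullback (pullback.snd f g) ((yon S).map (sigmaDesc c)) = Q at q₁ q₂ hQ
  -- pieces
  have hcomm : ∀ j, aj j ≫ pullback.snd f g =
      (sj j ≫ (yon S).map (sigmaι W j)) ≫ (yon S).map (sigmaDesc c) := by
    intro j
    rw [Category.assoc, ← Functor.map_comp, sigmaι_desc, (sqj j).w]
  have sqp : ∀ j, IsPullback (hQ.lift _ _ (hcomm j)) (sj j) q₂ ((yon S).map (sigmaι W j)) := by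
    intro j
    refine IsPullback.of_right ?_ (hQ.lift_snd _ _ _) hQ
    rw [hQ.lift_fst, ← Functor.map_comp, sigmaι_desc]
    exact sqj j
  have hrep : RepWith P q₂ := by
    refine repWith_of_zarCover P q₂ (ι := ULift.{u} (Fin m)) (fun i => (yon S).obj (W i.down))
      (fun i => (yon S).map (sigmaι W i.down))
      (fun i => (repWith_yon_map_iff @IsOpenImmersion _).2 inferInstance) ?_
      (fun i => Fj i.down) (fun i => hQ.lift _ _ (hcomm i.down)) (fun i => sj i.down)
      (fun i => sqp i.down) (fun i => hPj i.down)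
    intro x
    obtain ⟨t, rfl⟩ := Groth.Agent.Helper5.SmLift.exists_ofScheme_eq (sigmaOver W) x
    obtain ⟨j, w, rfl⟩ := exists_sigmaι_eq W t
    exact ⟨⟨j⟩, Points.ofScheme (W j) w, Groth.Agent.Helper5.SmLift.map_yon_map_ofScheme _ _⟩
  -- representing object of Q
  obtain ⟨X', g', fstQ, sqQ⟩ := hrep.1 (𝟙 ((yon S).obj (sigmaOver W)))
  have hg' : P g'.left := hrep.2 _ _ _ sqQ
  haveI : IsAffineHom g'.left := hPaff _ hg'
  haveI : IsAffine X'.left := isAffine_of_isAffineHom g'.left
  have sqbig : IsPullback (fstQ ≫ q₁) ((yon S).map g') (pullback.snd f g)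
      ((yon S).map (sigmaDesc c)) := by
    have := sqQ.paste_horiz hQ
    rwa [Category.id_comp] at this
  obtain ⟨X₀, g₀, e, hX₀, he⟩ :=
    exists_iso_of_affine_fpqc (sigmaDesc c) g' hFsp (pullback.snd f g) (fstQ ≫ q₁) sqbig
  refine ⟨X₀, g₀, e.hom ≫ pullback.fst f g, ?_, ?_⟩
  · exact IsPullback.of_iso hF e.symm (Iso.refl _) (Iso.refl _) (Iso.refl _)
      (by simp) (by simp [← he]) (by simp) (by simp)
  · -- descent of `P`
    have sq2 : IsPullback ((fstQ ≫ q₁) ≫ e.inv) ((yon S).map g') ((yon S).map g₀)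
        ((yon S).map (sigmaDesc c)) :=
      IsPullback.of_iso sqbig (Iso.refl _) e.symm (Iso.refl _) (Iso.refl _) (by simp) (by simp)
        (by simp [← he]) (by simp)
    obtain ⟨k, hk⟩ := (yon S).map_surjective ((fstQ ≫ q₁) ≫ e.inv)
    rw [← hk] at sq2
    have sq3 : IsPullback k g' g₀ (sigmaDesc c) := IsPullback.of_map (yon S) (by
      apply (yon S).map_injective
      simp only [Functor.map_comp]
      exact sq2.w) sq2
    have sq4 : IsPullback g'.left k.left (sigmaDesc c).left g₀.left :=
      (sq3.map (Over.forget S)).flip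
    exact MorphismProperty.of_isPullback_of_descendsAlong (P := P)
      (Q := @Surjective ⊓ @Flat ⊓ @QuasiCompact) sq4
      ⟨⟨inferInstance, inferInstance⟩, inferInstance⟩ hg'

/-- **`RepWith P` is fpqc local on the base** for affine-type `P` with fpqc descent. -/
theorem isLocalOnBase_fpqc_repWith (P : MorphismProperty Scheme.{u}) [P.IsStableUnderBaseChange]
    [IsZariskiLocalAtTarget P] [P.DescendsAlong (@Surjective ⊓ @Flat ⊓ @QuasiCompact)]
    (hPaff : P ≤ @IsAffineHom) : IsLocalOnBase (IsFpqcCover (S := S)) (RepWith P) := by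
  have i1 := repWith_isStableUnderBaseChange (S := S) P
  exact isLocalOnBase_fpqc (RepWith P)
    (fun X Y X' Y' f g f' g' _ _ _ _ sq hf => (RepWith (S := S) P).of_isPullback sq hf)
    (fun X Y f hX hY href => repWith_of_hasFlatRefinement P hPaff f hX hY href)

end Groth.Agent.Helper5.AffDescQ
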