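import Groth.Agent.Helper5.AffDescQ5
import Groth.Agent.Helper5.AffDesc10
import Groth.Agent.S0082
import Groth.Agent.S0083
import Groth.Agent.S0084
import Groth.Agent.S0085
import Groth.Agent.S9867
import Mathlib

/-!
# fpqc locality on the base: affine, closed immersions, integral, finite, finite locally free
-/

set_option autoImplicit false
universe u
open CategoryTheory CategoryTheory.Limits AlgebraicGeometry Opposite TensorProduct

namespace Groth.Agent.Helper5.AffDescQ

open AlgSp Groth.Agent.Helper5.GeomFibSp Groth.Agent.Helper5.AffDesc Groth.Agent.Helper5.ZarGlue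
  Groth.Agent.Helper5.FpqcCore

variable {S : Scheme.{u}}

theorem isLocalOnBase_congr {τ : CovNotion S} {P Q : MorphismProperty (Sp S)}
    (h : ∀ {F G : Sp S} (f : F ⟶ G), P f ↔ Q f) (hQ : IsLocalOnBase τ Q) : IsLocalOnBase τ P := by
  intro ι Y Yi g hY hYi hcov X f hX Xi p q hXi sq
  rw [h f, hQ Yi g hY hYi hcov f hX Xi p q hXi sq]
  exact forall_congr' fun i => (h (p i)).symm

theorem isAffineMor_iff {F G : Sp S} (f : F ⟶ G) : IsAffineMor f ↔ RepWith @IsAffineHom f := by
  refine ⟨fun h => ?_, isAffineMor_of_repWith⟩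
  apply repWith_of_affine_test
  intro Z hZ g
  obtain ⟨W, i, fst, sq, hW⟩ := h hZ g
  have : IsAffine Z.left := hZ
  have : IsAffine W.left := hW
  exact ⟨W, i, fst, sq, inferInstance⟩

theorem s10533 : IsLocalOnBase (IsFpqcCover (S := S)) IsAffineMor := by
  have := Groth.Agent.S0082.result.{u}
  exact isLocalOnBase_congr isAffineMor_iff
    (isLocalOnBase_fpqc_repWith @IsAffineHom (le_refl _))

theorem s10534 : IsLocalOnBase (IsFpqcCover (S := S)) (RepWith @IsClosedImmersion) := by
  have := Groth.Agent.S0083.result.{u}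
  exact isLocalOnBase_fpqc_repWith @IsClosedImmersion
    (fun _ _ g (hg : IsClosedImmersion g) => (inferInstance : IsAffineHom g))

theorem s10539 : IsLocalOnBase (IsFpqcCover (S := S)) IsIntegralMor := by
  have := Groth.Agent.S0085.result.{u}
  exact isLocalOnBase_congr (fun f => (s10267 f).1)
    (isLocalOnBase_fpqc_repWith @IsIntegralHom
      (fun _ _ g (hg : IsIntegralHom g) => (inferInstance : IsAffineHom g)))

theorem s10540 : IsLocalOnBase (IsFpqcCover (S := S)) IsFiniteMor := by
  have := Groth.Agent.S0084.result.{u}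
  exact isLocalOnBase_congr (fun f => (s10267 f).2)
    (isLocalOnBase_fpqc_repWith @IsFinite
      (fun _ _ g (hg : IsFinite g) => (inferInstance : IsAffineHom g)))

theorem s10545 : IsLocalOnBase (IsFpqcCover (S := S)) IsFinLocFreeMor := by
  have : (finLocFree.{u}).DescendsAlong (@Surjective ⊓ @Flat ⊓ @QuasiCompact) :=
    Groth.Agent.S9867.result.{u}.1
  exact isLocalOnBase_fpqc_repWith finLocFree
    (fun _ _ g (hi : Mor2.IsFinLocFree g) =>
      (haveI : IsFinite g := hi.1; inferInstance : IsAffineHom g))

end Groth.Agent.Helper5.AffDescQ
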