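import Groth.Agent.Helper5.AffDescQ6
import Groth.Prelude.Def_AlgSpInf
import Mathlib

set_option autoImplicit false
universe u
open CategoryTheory CategoryTheory.Limits AlgebraicGeometry Opposite TensorProduct

namespace Groth.Agent.Helper5.AffDescQ

open AlgSp

variable {S : Scheme.{u}}

instance descendsAlong_surjective :
    MorphismProperty.DescendsAlong @Surjective
      (@Surjective ⊓ @Flat ⊓ @QuasiCompact : MorphismProperty Scheme.{u}) := by
  constructor
  intro A X Y Z fst snd f g h hf hfst
  have h1 : Surjective f := hf.1.1
  have h2 : Surjective fst := hfst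
  constructor
  intro z
  obtain ⟨x, rfl⟩ := f.surjective z
  obtain ⟨a, rfl⟩ := fst.surjective x
  refine ⟨snd a, ?_⟩
  rw [← Scheme.Hom.comp_apply, ← Scheme.Hom.comp_apply, h.w]

theorem s10605 : IsLocalOnBase (IsFpqcCover (S := S)) IsThickMor := by
  have := Groth.Agent.S0083.result.{u}
  have : (thick.{u}).DescendsAlong (@Surjective ⊓ @Flat ⊓ @QuasiCompact) := by
    unfold thick; infer_instance
  have : IsZariskiLocalAtTarget thick.{u} := by
    unfold thick; infer_instance
  exact isLocalOnBase_fpqc_repWith thick
    (fun _ _ g (hg : thick g) => (haveI : IsClosedImmersion g := hg.1; inferInstance : IsAffineHom g))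

end Groth.Agent.Helper5.AffDescQ
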