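import Mathlib

set_option autoImplicit false
set_option linter.unusedSectionVars false
set_option linter.style.haveILetI false
universe u

open Polynomial

namespace Groth.Agent.Helper5.AffLine

section
variable {k : Type u} [Field k]

/-- the `k`-algebra hom `k[y][x] → B` with `y ↦ a`, `x ↦ b` -/
noncomputable def ev₂ {B : Type u} [CommRing B] (κ : k →+* B) (a b : B) : k[X][X] →+* B :=
  eval₂RingHom (eval₂RingHom κ a) b

@[simp] theorem ev₂_CC {B : Type u} [CommRing B] (κ : k →+* B) (a b : B) (c : k) :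
    ev₂ κ a b (C (C c)) = κ c := by simp [ev₂]

@[simp] theorem ev₂_CX {B : Type u} [CommRing B] (κ : k →+* B) (a b : B) :
    ev₂ κ a b (C X) = a := by simp [ev₂]

@[simp] theorem ev₂_X {B : Type u} [CommRing B] (κ : k →+* B) (a b : B) :
    ev₂ κ a b X = b := by simp [ev₂]

theorem ev₂_comp_algebraMap {B : Type u} [CommRing B] (κ : k →+* B) (a b : B) :
    (ev₂ κ a b).comp (algebraMap k k[X][X]) = κ := by
  ext c
  show ev₂ κ a b (C (C c)) = κ c
  simp

/-- ring homs out of `k[y][x]` are determined by their values on constants, `y`, `x` -/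
theorem hom_ext₂ {B : Type u} [CommRing B] (f g : k[X][X] →+* B)
    (h0 : ∀ c : k, f (C (C c)) = g (C (C c))) (h1 : f (C X) = g (C X)) (h2 : f X = g X) :
    f = g := by
  apply Polynomial.ringHom_ext
  · intro p
    have : f.comp C = g.comp C := by
      apply Polynomial.ringHom_ext
      · intro c; exact h0 c
      · exact h1
    exact congrArg (fun φ => φ p) this
  · exact h2

/-- the endomorphism `ev₂ (C ∘ C) a b` of `k[y][x]` -/
noncomputable abbrev ev (a b : k[X][X]) : k[X][X] →+* k[X][X] := ev₂ ((C : k[X] →+* k[X][X]).comp C) a b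

theorem ev_CX_eq_comp (b Q : k[X][X]) : ev (C X) b Q = Q.comp b := by
  have h : (eval₂RingHom ((C : k[X] →+* k[X][X]).comp C) (C X) : k[X] →+* k[X][X]) = C := by
    apply Polynomial.ringHom_ext
    · intro c; simp
    · simp
  show eval₂ (eval₂RingHom ((C : k[X] →+* k[X][X]).comp C) (C X)) b Q = Q.comp b
  rw [h]
  rfl

theorem ev_CC_X (e : k) (Q : k[X][X]) :
    ev (C (C e)) X Q = Q.map ((C : k →+* k[X]).comp (evalRingHom e)) := by
  have h : (eval₂RingHom ((C : k[X] →+* k[X][X]).comp C) (C (C e)) : k[X] →+* k[X][X]) =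
      (C : k[X] →+* k[X][X]).comp ((C : k →+* k[X]).comp (evalRingHom e)) := by
    apply Polynomial.ringHom_ext
    · intro c; simp
    · simp
  show eval₂ (eval₂RingHom ((C : k[X] →+* k[X][X]).comp C) (C (C e))) X Q = _
  rw [h, ← Polynomial.eval₂_map, Polynomial.eval₂_C_X]

/-- the polynomial lemma: a group law on the affine line with unit `e` is `x + y - e` -/
theorem poly_key (P q : k[X][X]) (e : k)
    (h1 : ev (C X) q P = X) (h2 : ev (C X) (C (C e)) P = C X) (h3 : ev (C (C e)) X P = X) :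
    P = C X + X - C (C e) := by
  rw [ev_CX_eq_comp] at h1 h2
  rw [ev_CC_X] at h3
  -- degrees
  have hdeg : P.natDegree * q.natDegree = 1 := by
    rw [← natDegree_comp, h1, natDegree_X]
  have hP1 : P.natDegree = 1 := Nat.eq_one_of_mul_eq_one_right hdeg
  have hq1 : q.natDegree = 1 := Nat.eq_one_of_mul_eq_one_left hdeg
  have hP : P = C (P.coeff 1) * X + C (P.coeff 0) :=
    eq_X_add_C_of_natDegree_le_one hP1.le
  obtain ⟨a₁, ha₁⟩ : ∃ a, a = P.coeff 1 := ⟨_, rfl⟩
  obtain ⟨a₀, ha₀'⟩ : ∃ a, a = P.coeff 0 := ⟨_, rfl⟩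
  rw [← ha₁, ← ha₀'] at hP
  -- `a₁` is a unit
  have hunit : a₁ * q.coeff 1 = 1 := by
    have : (P.comp q).coeff 1 = (X : k[X][X]).coeff 1 := by rw [h1]
    rw [hP, add_comp, mul_comp, C_comp, X_comp, C_comp, coeff_add, coeff_C_mul, coeff_C,
      coeff_X_one] at this
    simpa using this
  have ha₁u : IsUnit a₁ := IsUnit.of_mul_eq_one _ hunit
  obtain ⟨β, hβu, hβ⟩ := Polynomial.isUnit_iff.1 ha₁u
  -- from `h3`: `β = 1`
  have hβ1 : a₁ = 1 := by
    have := congrArg (fun p => p.coeff 1) h3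
    simp only [coeff_map, coeff_X_one] at this
    rw [← ha₁, ← hβ] at this
    rw [← hβ]
    simpa using this
  -- from `h2`
  have ha₀ : a₀ = X - C e := by
    rw [comp_C] at h2
    have h2' := C_injective h2
    rw [hP, hβ1] at h2'
    simp at h2'
    rw [← h2']
    ring
  rw [hP, hβ1, ha₀]
  simp only [map_one, one_mul, map_sub]
  ring

end

end Groth.Agent.Helper5.AffLine
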