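import Mathlib
import Groth.Agent.Helper5.AffLine1
import Groth.Prelude

set_option autoImplicit false
set_option linter.unusedSectionVars false
set_option linter.style.haveILetI false
universe u

open AlgebraicGeometry CategoryTheory CategoryTheory.Limits
open MonoidalCategory CartesianMonoidalCategory MonObj GrpObj
open Polynomial

namespace Groth.Agent.Helper5.AffLine

section
variable (k : Type u) [Field k]

/-- the base `Spec k` -/
noncomputable abbrev B₀ : Scheme.{u} := Spec (CommRingCat.of k)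

/-- structure map on global sections -/
noncomputable def κ (Y : Over (B₀ k)) : k →+* Γ(Y.left, ⊤) :=
  (Y.hom.appTop).hom.comp (Scheme.ΓSpecIso (CommRingCat.of k)).inv.hom

/-- `Spec` of a `k`-algebra over `Spec k` -/
noncomputable abbrev specK (R' : Type u) [CommRing R'] [Algebra k R'] : Over (B₀ k) :=
  Over.mk (Spec.map (CommRingCat.ofHom (algebraMap k R')))

/-- the morphism to `Spec R'` given by a ring hom over `k` -/
noncomputable def toSpecK {Y : Over (B₀ k)} {R' : Type u} [CommRing R'] [Algebra k R']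
    (ρ : R' →+* Γ(Y.left, ⊤)) (hρ : ρ.comp (algebraMap k R') = κ k Y) : Y ⟶ specK k R' :=
  Over.homMk (Y.left.toSpecΓ ≫ Spec.map (CommRingCat.ofHom ρ)) (by
    show (Y.left.toSpecΓ ≫ Spec.map (CommRingCat.ofHom ρ)) ≫
      Spec.map (CommRingCat.ofHom (algebraMap k R')) = Y.hom
    rw [Category.assoc, ← Spec.map_comp, ← CommRingCat.ofHom_comp, hρ]
    have h1 : CommRingCat.ofHom (κ k Y) =
        (Scheme.ΓSpecIso (CommRingCat.of k)).inv ≫ Y.hom.appTop := rfl
    rw [h1, Spec.map_comp, ← Scheme.toSpecΓ_naturality_assoc, toSpecΓ_SpecMap_ΓSpecIso_inv,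
      Category.comp_id])

theorem toSpecK_appTop {Y : Over (B₀ k)} {R' : Type u} [CommRing R'] [Algebra k R']
    (ρ : R' →+* Γ(Y.left, ⊤)) (hρ : ρ.comp (algebraMap k R') = κ k Y) (r : R') :
    (toSpecK k ρ hρ).left.appTop ((Scheme.ΓSpecIso (CommRingCat.of R')).inv r) = ρ r := by
  show (Y.left.toSpecΓ ≫ Spec.map (CommRingCat.ofHom ρ)).appTop _ = _
  rw [Scheme.Hom.comp_appTop]
  have h1 := Scheme.ΓSpecIso_inv_naturality (CommRingCat.ofHom ρ)
  have h2 : (Spec.map (CommRingCat.ofHom ρ)).appTop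
      ((Scheme.ΓSpecIso (CommRingCat.of R')).inv r) = (Scheme.ΓSpecIso _).inv (ρ r) := by
    have := congrArg (fun φ => φ.hom r) h1
    exact this.symm
  rw [CommRingCat.comp_apply, h2, Scheme.toSpecΓ_appTop]
  exact Iso.inv_hom_id_apply (C := CommRingCat) _ _

/-- a natural coordinate on an object of `Over (Spec k)`: it represents `Y ↦ Γ(Y, 𝒪_Y)` -/
structure Coord (G : Over (B₀ k)) where
  c : ∀ Y : Over (B₀ k), (Y ⟶ G) ≃ Γ(Y.left, ⊤)
  nat : ∀ {Y Y' : Over (B₀ k)} (p : Y' ⟶ Y) (z : Y ⟶ G), c Y' (p ≫ z) = p.left.appTop (c Y z)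

end

end Groth.Agent.Helper5.AffLine
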