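import Mathlib
import Groth.Agent.Helper5.AffLine2
import Groth.Prelude

set_option autoImplicit false
set_option linter.unusedSectionVars false
set_option linter.style.haveILetI false
universe u

open AlgebraicGeometry CategoryTheory CategoryTheory.Limits
open MonoidalCategory CartesianMonoidalCategory MonObj GrpObj
open Polynomial

namespace Groth.Agent.Helper5.AffLine

section
variable (k : Type u) [Field k]

/-- the test object `Spec k[y][x]` -/
noncomputable abbrev X₂ : Over (B₀ k) := specK k k[X][X]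

variable {k}
variable {G : Over (B₀ k)} (cd : Coord k G)

/-- the `k[y][x]`-point of `G` with coordinate `a` -/
noncomputable def ptT (a : k[X][X]) : X₂ k ⟶ G :=
  (cd.c (X₂ k)).symm ((Scheme.ΓSpecIso (CommRingCat.of k[X][X])).inv a)

/-- the coordinate of a `k[y][x]`-point -/
noncomputable def coordT (z : X₂ k ⟶ G) : k[X][X] :=
  (Scheme.ΓSpecIso (CommRingCat.of k[X][X])).hom (cd.c (X₂ k) z)

theorem coordT_ptT (a : k[X][X]) : coordT cd (ptT cd a) = a := by
  unfold coordT ptT
  rw [Equiv.apply_symm_apply]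
  exact Iso.inv_hom_id_apply (C := CommRingCat) _ _

theorem ptT_coordT (z : X₂ k ⟶ G) : ptT cd (coordT cd z) = z := by
  unfold coordT ptT
  have : (Scheme.ΓSpecIso (CommRingCat.of k[X][X])).inv
      ((Scheme.ΓSpecIso (CommRingCat.of k[X][X])).hom (cd.c (X₂ k) z)) = cd.c (X₂ k) z :=
    Iso.hom_inv_id_apply (C := CommRingCat) _ _
  rw [this, Equiv.symm_apply_apply]

theorem coordT_injective : Function.Injective (coordT cd) := by
  intro z z' h
  rw [← ptT_coordT cd z, ← ptT_coordT cd z', h]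

/-- the endomorphism of the test object given by `y ↦ a`, `x ↦ b` -/
noncomputable def Ev (a b : k[X][X]) : X₂ k ⟶ X₂ k :=
  Over.homMk (Spec.map (CommRingCat.ofHom (ev a b))) (by
    show Spec.map (CommRingCat.ofHom (ev a b)) ≫
      Spec.map (CommRingCat.ofHom (algebraMap k k[X][X])) = _
    rw [← Spec.map_comp, ← CommRingCat.ofHom_comp, ev₂_comp_algebraMap]
    rfl)

theorem coordT_Ev_comp (a b : k[X][X]) (z : X₂ k ⟶ G) :
    coordT cd (Ev a b ≫ z) = ev a b (coordT cd z) := by
  unfold coordT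
  rw [cd.nat]
  have h1 := Scheme.ΓSpecIso_naturality (CommRingCat.ofHom (ev a b))
  have := congrArg (fun φ => φ.hom (cd.c (X₂ k) z)) h1
  exact this

theorem Ev_comp_ptT (a b t : k[X][X]) : Ev a b ≫ ptT cd t = ptT cd (ev a b t) := by
  apply coordT_injective cd
  rw [coordT_Ev_comp, coordT_ptT, coordT_ptT]

variable [GrpObj G]

/-- the universal product -/
noncomputable def univP : k[X][X] := coordT cd (ptT cd (C X) * ptT cd X)

theorem ptT_mul (a b : k[X][X]) :
    ptT cd a * ptT cd b = ptT cd (ev a b (univP cd)) := by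
  have h : ptT cd a * ptT cd b = Ev a b ≫ (ptT cd (C X) * ptT cd X) := by
    rw [MonObj.comp_mul, Ev_comp_ptT, Ev_comp_ptT]
    simp
  rw [h]
  apply coordT_injective cd
  rw [coordT_Ev_comp, coordT_ptT]
  rfl

/-- the coordinate of the unit section -/
noncomputable def unitCoord (η₀ : 𝟙_ (Over (B₀ k)) ⟶ G) : k :=
  (Scheme.ΓSpecIso (CommRingCat.of k)).hom (cd.c (𝟙_ (Over (B₀ k))) η₀)

theorem coordT_one : coordT cd (1 : X₂ k ⟶ G) = C (C (unitCoord cd η[G])) := by
  rw [CategoryTheory.Hom.one_def]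
  unfold coordT
  rw [cd.nat]
  have h1 := Scheme.ΓSpecIso_naturality (CommRingCat.ofHom (algebraMap k k[X][X]))
  have := congrArg (fun φ => φ.hom (cd.c (𝟙_ (Over (B₀ k))) η[G])) h1
  exact this

theorem univP_eq : univP cd = C X + X - C (C (unitCoord cd η[G])) := by
  set e := unitCoord cd η[G]
  have hone : (1 : X₂ k ⟶ G) = ptT cd (C (C e)) := by
    apply coordT_injective cd
    rw [coordT_one, coordT_ptT]
  obtain ⟨q, hq⟩ : ∃ q, (ptT cd (C X))⁻¹ * ptT cd X = ptT cd q :=
    ⟨_, (ptT_coordT cd _).symm⟩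
  refine poly_key (univP cd) q e ?_ ?_ ?_
  · have h : ptT cd (C X) * ((ptT cd (C X))⁻¹ * ptT cd X) = ptT cd X := mul_inv_cancel_left _ _
    rw [hq, ptT_mul] at h
    have := congrArg (coordT cd) h
    rwa [coordT_ptT, coordT_ptT] at this
  · have h : ptT cd (C X) * 1 = ptT cd (C X) := mul_one _
    rw [hone, ptT_mul] at h
    have := congrArg (coordT cd) h
    rwa [coordT_ptT, coordT_ptT] at this
  · have h : 1 * ptT cd X = ptT cd X := one_mul _
    rw [hone, ptT_mul] at h
    have := congrArg (coordT cd) h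
    rwa [coordT_ptT, coordT_ptT] at this

omit [GrpObj G] in
/-- the morphism `G ⊗ G → Spec k[y][x]` given by the two coordinates -/
noncomputable def rr : G ⊗ G ⟶ X₂ k :=
  toSpecK k (ev₂ (κ k (G ⊗ G)) (cd.c _ (fst G G)) (cd.c _ (snd G G)))
    (ev₂_comp_algebraMap _ _ _)

omit [GrpObj G] in
theorem c_rr_ptT (t : k[X][X]) : cd.c _ (rr cd ≫ ptT cd t) =
    ev₂ (κ k (G ⊗ G)) (cd.c _ (fst G G)) (cd.c _ (snd G G)) t := by
  rw [cd.nat]
  unfold ptT
  rw [Equiv.apply_symm_apply]
  exact toSpecK_appTop k _ _ t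

omit [GrpObj G] in
theorem rr_ptT_CX : rr cd ≫ ptT cd (C X) = fst G G := by
  apply (cd.c _).injective
  rw [c_rr_ptT, ev₂_CX]

omit [GrpObj G] in
theorem rr_ptT_X : rr cd ≫ ptT cd X = snd G G := by
  apply (cd.c _).injective
  rw [c_rr_ptT, ev₂_X]

omit [GrpObj G] in
/-- the standard multiplication determined by the unit -/
noncomputable def stdMul (η₀ : 𝟙_ (Over (B₀ k)) ⟶ G) : G ⊗ G ⟶ G :=
  rr cd ≫ ptT cd (C X + X - C (C (unitCoord cd η₀)))

theorem mul_eq_stdMul : μ[G] = stdMul cd η[G] := by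
  have h1 : μ[G] = fst G G * snd G G := by
    rw [CategoryTheory.Hom.mul_def, lift_fst_snd, Category.id_comp]
  have h2 : ptT cd (C X) * ptT cd X = ptT cd (univP cd) := (ptT_coordT cd _).symm
  rw [h1, ← rr_ptT_CX cd, ← rr_ptT_X cd, ← MonObj.comp_mul, h2, univP_eq]
  rfl

end

/-- two group structures on an "affine line" with the same unit have the same multiplication -/
theorem mul_eq_of_one_eq {k : Type u} [Field k] {G : Over (B₀ k)} (cd : Coord k G)
    (h₁ h₂ : GrpObj G) (e : h₁.one = h₂.one) : h₁.mul = h₂.mul := by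
  have e1 := @mul_eq_stdMul k _ G cd h₁
  have e2 := @mul_eq_stdMul k _ G cd h₂
  rw [e1, e2, e]

end Groth.Agent.Helper5.AffLine
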