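import Mathlib

set_option autoImplicit false
universe u
open Cardinal

namespace Groth.Agent.Helper5.AlgClosedIso

/-- two algebraically closed extensions of a field, of the same cardinality exceeding that of
the field (and uncountable), are isomorphic over the field -/
theorem exists_ringEquiv_of_card {R K L : Type u} [Field R] [Field K] [Field L] [Algebra R K]
    [Algebra R L] [IsAlgClosed K] [IsAlgClosed L] (hKL : #K = #L) (hK : max #R ℵ₀ < #K) :
    ∃ β : K ≃+* L, ∀ r : R, β (algebraMap R K r) = algebraMap R L r := by
  obtain ⟨ι, v, hv⟩ := exists_isTranscendenceBasis' R K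
  obtain ⟨κ, w, hw⟩ := exists_isTranscendenceBasis' R L
  have card_eq : ∀ {K' : Type u} [Field K'] [Algebra R K'] [IsAlgClosed K'] {ι' : Type u}
      (v' : ι' → K') (hv' : IsTranscendenceBasis R v'), max #R ℵ₀ < #K' → #ι' = #K' := by
    intro K' _ _ _ ι' v' hv' hK'
    apply le_antisymm
    · exact Cardinal.mk_le_of_injective hv'.1.injective
    · by_contra hlt
      push Not at hlt
      have h1 := IsAlgClosed.cardinal_le_max_transcendence_basis' v' hv'
      have h2 : max (max #R #ι') ℵ₀ < #K' := by
        refine max_lt (max_lt ?_ hlt) ?_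
        · exact lt_of_le_of_lt (le_max_left _ _) hK'
        · exact lt_of_le_of_lt (le_max_right _ _) hK'
      exact absurd (lt_of_le_of_lt h1 h2) (lt_irrefl _)
  have h1 : #ι = #K := card_eq v hv hK
  have h2 : #κ = #L := card_eq w hw (hKL ▸ hK)
  obtain ⟨e⟩ : Nonempty (ι ≃ κ) := Cardinal.eq.1 (by rw [h1, h2, hKL])
  letI := IsAlgClosed.isAlgClosure_of_transcendence_basis v hv
  letI := IsAlgClosed.isAlgClosure_of_transcendence_basis w hw
  let e' : Algebra.adjoin R (Set.range v) ≃ₐ[R] Algebra.adjoin R (Set.range w) :=
    hv.1.aevalEquiv.symm.trans ((MvPolynomial.renameEquiv R e).trans hw.1.aevalEquiv)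
  refine ⟨IsAlgClosure.equivOfEquiv K L e'.toRingEquiv, fun r => ?_⟩
  have e1 : algebraMap R K r =
      algebraMap (Algebra.adjoin R (Set.range v)) K (algebraMap R _ r) := rfl
  rw [e1, IsAlgClosure.equivOfEquiv_algebraMap]
  have e2 : e'.toRingEquiv (algebraMap R _ r) = algebraMap R _ r := e'.commutes r
  rw [e2]
  rfl

end Groth.Agent.Helper5.AlgClosedIso

namespace Groth.Agent.Helper5.AlgClosedIso

/-- a large algebraically closed extension of a field -/
theorem exists_big_algClosed (K : Type u) [Field K] :
    ∃ (k' : Type u) (_ : Field k') (_ : Algebra K k'), IsAlgClosed k' ∧ max #K ℵ₀ < #k' := by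
  let I := Set (K × ℕ)
  let P := MvPolynomial I K
  let F := FractionRing P
  refine ⟨AlgebraicClosure F, inferInstance, inferInstance, inferInstance, ?_⟩
  have h1 : max #K ℵ₀ ≤ #(K × ℕ) := by
    refine max_le ?_ ?_
    · exact Cardinal.mk_le_of_injective (f := fun a : K => (a, 0)) (fun a b h => by
        simpa using h)
    · haveI : Infinite (K × ℕ) := Prod.infinite_of_right
      exact Cardinal.aleph0_le_mk _
  have h2 : #(K × ℕ) < #I := by
    show #(K × ℕ) < #(Set (K × ℕ))
    rw [Cardinal.mk_set]
    exact Cardinal.cantor _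
  have h3 : #I ≤ #(AlgebraicClosure F) := by
    refine Cardinal.mk_le_of_injective
      (f := fun i : I => algebraMap F (AlgebraicClosure F) (algebraMap P F (MvPolynomial.X i))) ?_
    intro i j hij
    have := (algebraMap F (AlgebraicClosure F)).injective hij
    have := IsFractionRing.injective P F this
    exact MvPolynomial.X_injective this
  exact lt_of_le_of_lt h1 (lt_of_lt_of_le h2 h3)

end Groth.Agent.Helper5.AlgClosedIso
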