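import Groth.Prelude.Def_AlgSp4
import Groth.Agent.Helper4.AlgSpLocPFam
import Groth.Agent.Helper4.AlgSpPB
import Groth.Agent.Helper4.AlgSpQC2
import Mathlib

set_option autoImplicit false
universe u
open CategoryTheory CategoryTheory.Limits AlgebraicGeometry Opposite

namespace Groth.Agent.Helper5.AlgSpAffBC

open AlgSp Groth.Agent.Helper4.AlgSpPtsDesc Groth.Agent.Helper4.AlgSpQC2
  Groth.Agent.Helper4.SDClasses

variable {S : Scheme.{u}}

set_option backward.isDefEq.respectTransparency.types false in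
/-- `LocP P` can be tested after base change to affine schemes, for good `P`. -/
theorem locP_of_affine_base_change (P : MorphismProperty Scheme.{u}) (hG : Good P)
    {X Y : Sp S} (hX : IsAlgSpace X) (hY : IsAlgSpace Y) (f : X ⟶ Y)
    (H : ∀ (Z : Over S), IsAffine Z.left → ∀ (g : (yon S).obj Z ⟶ Y) (P₀ : Sp S) (fst : P₀ ⟶ X)
      (snd : P₀ ⟶ (yon S).obj Z), IsPullback fst snd f g → LocP P snd) : LocP P f := by
  refine Groth.Agent.Helper4.AlgSpLocPFam.locP_of_chart_family P hG f fun x => ?_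
  obtain ⟨V₀, b₀, hb₀e, hb₀s⟩ := hY.atlas
  obtain ⟨q, hq⟩ := Groth.Agent.Helper4.AlgSpPts.isSurjectiveMor_of_repWith b₀ hb₀s
    (Points.map f x)
  obtain ⟨v, rfl⟩ := (Points.schemeHomeo V₀).surjective q
  -- an affine open neighbourhood of `v`
  obtain ⟨A, hA, hvA, -⟩ :=
    (V₀.left.isBasis_affineOpens.exists_subset_of_mem_open (Set.mem_univ v) isOpen_univ)
  obtain ⟨W', hW, rfl⟩ := hA
  let W : V₀.left.Opens := W'
  let V : Over S := opOver V₀ W
  let b : (yon S).obj V ⟶ Y := (yon S).map (opι V₀ W) ≫ b₀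
  have hbe : RepWith @Etale b :=
    Groth.Agent.Helper4.AlgSpSrc.repWith_comp _
      ((repWith_yon_map_iff _ _).2 (by
        show Etale W.ι
        infer_instance)) hb₀e
  have hVaff : IsAffine V.left := hW
  have sq : IsPullback (pullback.fst f b) (pullback.snd f b) f b := IsPullback.of_hasPullback _ _
  have hl : LocP P (pullback.snd f b) := H V hVaff b _ _ _ sq
  have hP₀ : IsAlgSpace (pullback f b) :=
    Groth.Agent.Helper4.AlgSpPB.isAlgSpace_of_isPullback hY.diag hX (IsAlgSpace.yon_obj V)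
      f b _ _ sq
  have i1 := repWith_isStableUnderBaseChange (S := S) @Etale
  have hfe : RepWith @Etale (pullback.fst f b) := MorphismProperty.of_isPullback sq.flip hbe
  -- the point of the fibre product over `x` and `v`
  obtain ⟨w, hw⟩ : ∃ w : ↥V.left, (opι V₀ W).left w = v := by
    have : v ∈ Set.range W.ι := by
      rw [Scheme.Opens.range_ι]; exact hvA
    exact this
  have hxv : Points.map f x = Points.map b (Points.schemeHomeo V w) := by
    rw [ofPt_eq_map_schemeHomeo, ofPt_yon_map_comp, hw, ← hq, ofPt_eq_map_schemeHomeo]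
  obtain ⟨p₀, hp₀, -⟩ := exists_point_of_isPullback sq x _ hxv
  obtain ⟨U, a₁, ha₁e, ha₁s⟩ := hP₀.atlas
  obtain ⟨r, hr⟩ := Groth.Agent.Helper4.AlgSpPts.isSurjectiveMor_of_repWith a₁ ha₁s p₀
  obtain ⟨u, rfl⟩ := (Points.schemeHomeo U).surjective r
  obtain ⟨h, hh⟩ := (yon S).map_surjective (a₁ ≫ pullback.snd f b)
  refine ⟨U, V, a₁ ≫ pullback.fst f b, b, h, u,
    Groth.Agent.Helper4.AlgSpSrc.repWith_comp _ ha₁e hfe, hbe, ?_, ?_, ?_⟩
  · rw [Category.assoc, sq.w, ← Category.assoc, hh]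
  · rw [← Points.map_ofPt, ← ofPt_eq_map_schemeHomeo, hr, hp₀]
  · exact hl a₁ (𝟙 _) h ha₁e (repWith_id (@Etale.{u}) V) (by rw [Category.comp_id, hh])

end Groth.Agent.Helper5.AlgSpAffBC
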