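import Groth.Prelude.Def_AlgSp4
import Groth.Agent.Helper5.AlgSpNoeth
import Mathlib

set_option autoImplicit false
universe u
open CategoryTheory CategoryTheory.Limits AlgebraicGeometry Opposite TopologicalSpace

namespace Groth.Agent.Helper5.AlgSpCodim0

open AlgSp Groth.Agent.Helper4.AlgSpQC2

variable {S : Scheme.{u}}

/-- Every nonempty open of a scheme contains a point whose local ring has dimension zero. -/
theorem exists_stalk_dim_zero (U : Scheme.{u}) (O : Set U) (hO : IsOpen O) (hne : O.Nonempty) :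
    ∃ u ∈ O, ringKrullDim ↥(U.presheaf.stalk u) = 0 := by
  obtain ⟨u₀, hu₀⟩ := hne
  obtain ⟨A, hA, hu₀A, hAO⟩ := U.isBasis_affineOpens.exists_subset_of_mem_open hu₀ hO
  obtain ⟨A', hA', rfl⟩ := hA
  let y₀ := hA'.primeIdealOf ⟨u₀, hu₀A⟩
  obtain ⟨p, hp, -⟩ := Ideal.exists_minimalPrimes_le (I := ⊥) (J := y₀.asIdeal) bot_le
  have hpp : p.IsPrime := hp.1.1
  let y : PrimeSpectrum Γ(U, A') := ⟨p, hpp⟩
  have hy : hA'.fromSpec y ∈ A' := by
    have : hA'.fromSpec y ∈ Set.range hA'.fromSpec := ⟨y, rfl⟩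
    rw [hA'.range_fromSpec] at this
    exact this
  refine ⟨hA'.fromSpec y, hAO hy, ?_⟩
  have hloc := hA'.isLocalization_stalk' y hy
  have h1 := @IsLocalization.AtPrime.ringKrullDim_eq_height Γ(U, A') _ y.asIdeal _
    (U.presheaf.stalk (hA'.fromSpec y)) _
    (TopCat.Presheaf.algebra_section_stalk U.presheaf ⟨hA'.fromSpec y, hy⟩) hloc
  rw [h1]
  have h2 : y.asIdeal.height = 0 := Ideal.height_eq_zero_iff.2 hp
  rw [h2]
  rfl

/-- The codimension 0 points of an algebraic space are dense. -/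
theorem dense_codimZero {X : Sp S} (hX : IsAlgSpace X) :
    Dense {x : Points X | HasAt (fun U u => ringKrullDim ↥(U.presheaf.stalk u) = 0) X x} := by
  rw [dense_iff_inter_open]
  intro W hW hne
  obtain ⟨U, p, hpe, hps⟩ := hX.atlas
  obtain ⟨x, hx⟩ := hne
  obtain ⟨u₀, rfl⟩ := Groth.Agent.Helper5.AlgSpOpen.ofPt_surjective_of_repWith p hps x
  obtain ⟨u, hu, hdim⟩ := exists_stalk_dim_zero U.left (Points.ofPt p ⁻¹' W)
    (hW.preimage (Points.continuous_ofPt p)) ⟨u₀, hx⟩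
  exact ⟨Points.ofPt p u, hu, U, p, u, hpe, rfl, hdim⟩

end Groth.Agent.Helper5.AlgSpCodim0
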