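import Groth.Prelude.Def_AlgSp4
import Groth.Prelude.Def_AlgSpDec
import Groth.Agent.Helper4.AlgSpGeomPt
import Mathlib

set_option autoImplicit false
universe u
open CategoryTheory CategoryTheory.Limits AlgebraicGeometry Opposite

namespace Groth.Agent.Helper5.AlgSpGeomLift

open AlgSp Groth.Agent.Helper4.AlgSpPtsDesc Groth.Agent.Helper4.AlgSpQC2

variable {S : Scheme.{u}}

/-- Lifting a geometric point through a representable étale chart, through a given point. -/
theorem exists_lift_through_chart {X : Sp S} {A : Over S} (b : (yon S).obj A ⟶ X)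
    (hb : RepWith @Etale b) (k : Type u) [Field k] [IsAlgClosed k]
    (str : Spec (CommRingCat.of k) ⟶ S) (y : (yon S).obj (Over.mk str) ⟶ X)
    (t₀ : ↥(Over.mk str).left) (t : ↥A.left) (ht : Points.ofPt b t = Points.ofPt y t₀) :
    ∃ c : Over.mk str ⟶ A, (yon S).map c ≫ b = y ∧ c.left t₀ = t := by
  have hr := hb.rep
  have hpbV : IsPullback (hr.fst y) ((yon S).map (hr.snd y)) b y := hr.isPullback y
  obtain ⟨d, hd⟩ := (yon S).map_surjective (hr.fst y)
  rw [← hd] at hpbV
  clear hd
  have he'e : Etale (hr.snd y).left := hb.property _ _ _ hpbV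
  generalize hr.snd y = e' at hpbV he'e
  generalize hr.pullback y = E' at d e' hpbV
  obtain ⟨pz, hpz1, hpz2⟩ := exists_point_of_isPullback hpbV
    (Points.schemeHomeo A t) (Points.schemeHomeo (Over.mk str) t₀)
    (by rw [ofPt_eq_map_schemeHomeo, ofPt_eq_map_schemeHomeo]; exact ht)
  obtain ⟨z, rfl⟩ := (Points.schemeHomeo E').surjective pz
  rw [Points.map_yon_map_apply] at hpz1
  have hdz : d.left z = t := (Points.schemeHomeo A).injective hpz1
  obtain ⟨s, hs1, hs2⟩ :=
    Groth.Agent.Helper4.AlgSpGeomPt.exists_section_of_etale_over_algClosed (k := k) e'.left z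
  have hsw : s ≫ E'.hom = (Over.mk str).hom := by
    rw [← Over.w e', ← Category.assoc, hs1]
    exact Category.id_comp _
  let sO : Over.mk str ⟶ E' := Over.homMk s hsw
  have hsO : sO ≫ e' = 𝟙 (Over.mk str) := by
    ext1
    exact hs1
  refine ⟨sO ≫ d, ?_, ?_⟩
  · rw [Functor.map_comp, Category.assoc, hpbV.w, ← Category.assoc, ← Functor.map_comp, hsO]
    simp
  · show d.left (s t₀) = _
    rw [hs2, hdz]

/-- Geometric points lift along étale morphisms through any given point of the fibre. -/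
theorem exists_lift_of_isEtaleMor {U X : Sp S} (hU : IsAlgSpace U) (φ : U ⟶ X)
    (hφ : IsEtaleMor φ) (xbar : FieldPt X) (hx : xbar.IsGeometric)
    (u : Points U) (hu : Points.map φ u = Points.mk xbar) :
    ∃ ubar : (yon S).obj xbar.pt ⟶ U,
      ubar ≫ φ = xbar.toHom ∧ Points.ofPt ubar (IsLocalRing.closedPoint xbar.K) = u := by
  obtain ⟨A, a, hae, has⟩ := hU.atlas
  obtain ⟨p, rfl⟩ := Groth.Agent.Helper4.AlgSpPts.isSurjectiveMor_of_repWith a has u
  obtain ⟨t, rfl⟩ := (Points.schemeHomeo A).surjective p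
  have : IsAlgClosed xbar.K := hx
  have hb : RepWith @Etale (a ≫ φ) := hφ a hae
  obtain ⟨c, hc1, hc2⟩ := exists_lift_through_chart (a ≫ φ) hb xbar.K xbar.str xbar.toHom
    (IsLocalRing.closedPoint xbar.K) t (by
      refine Eq.trans ?_ (Points.ofPt_toHom xbar _).symm
      rw [← hu, ← Points.map_ofPt, ofPt_eq_map_schemeHomeo])
  refine ⟨(yon S).map c ≫ a, by rw [Category.assoc]; exact hc1, ?_⟩
  refine (ofPt_yon_map_comp c a _).trans ?_
  rw [ofPt_eq_map_schemeHomeo]
  exact congrArg (Points.ofPt a) hc2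

end Groth.Agent.Helper5.AlgSpGeomLift
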