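import Groth.Prelude.Def_AlgSp4
import Groth.Prelude.Def_AlgSpDec
import Groth.Agent.Helper4.AlgSpInj
import Mathlib

set_option autoImplicit false
universe u
open CategoryTheory CategoryTheory.Limits AlgebraicGeometry Opposite

namespace Groth.Agent.Helper5.AlgSpMonoPt

open AlgSp

variable {S : Scheme.{u}}

theorem toHom_eq {F : Sp S} (p : FieldPt F) :
    Groth.Agent.Helper4.AlgSpInj.toHom p = p.toHom := rfl

/-- A field point equivalent to a monomorphic field point factors uniquely through it. -/
theorem existsUnique_factor {X : Sp S} (hX : IsAlgSpace X) (p q : FieldPt X)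
    (h : Points.mk p = Points.mk q) [Mono p.toHom] :
    ∃! c : q.pt ⟶ p.pt, (yon S).map c ≫ p.toHom = q.toHom := by
  have hp : Representable p.toHom := Functor.relativelyRepresentable.of_diag hX.diag p.toHom
  have sq : IsPullback ((yon S).map (hp.fst' q.toHom)) ((yon S).map (hp.snd q.toHom))
      p.toHom q.toHom := hp.isPullback' q.toHom
  obtain ⟨Ω, _, w, a, b, hab⟩ :=
    (Groth.Agent.Helper4.AlgSpInj.rel_iff p q).1 (Points.mk_eq_mk_iff.1 h)
  rw [toHom_eq, toHom_eq] at hab
  generalize hp.fst' q.toHom = f1 at sq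
  generalize hp.snd q.toHom = f2 at sq
  generalize hp.pullback q.toHom = W at f1 f2 sq
  have hm1 : Mono ((yon S).map f2) := sq.mono_snd_of_mono
  have hm2 : Mono f2 := (yon S).mono_of_mono_map hm1
  have hm3 : Mono f2.left := inferInstance
  obtain ⟨l, hl⟩ := (yon S).map_surjective (sq.lift _ _ hab)
  have hne : Nonempty ↥W.left := by
    obtain ⟨t⟩ : Nonempty ↥(Over.mk w).left :=
      (inferInstance : Nonempty ↥(Spec (CommRingCat.of Ω)))
    exact ⟨l.left t⟩
  have hiso : IsIso f2.left :=
    Groth.Agent.Helper4.AlgSpInj.isIso_of_mono_to_field (K := q.K) f2.left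
  have hiso' : IsIso f2 := by
    have : IsIso ((Over.forget S).map f2) := hiso
    exact isIso_of_reflects_iso _ (Over.forget S)
  refine ⟨inv f2 ≫ f1, ?_, ?_⟩
  · show (yon S).map (inv f2 ≫ f1) ≫ p.toHom = q.toHom
    rw [Functor.map_comp, Category.assoc, sq.w, ← Category.assoc, ← Functor.map_comp,
      IsIso.inv_hom_id, CategoryTheory.Functor.map_id, Category.id_comp]
  · intro c hc
    have e : (yon S).map c ≫ p.toHom = (yon S).map (inv f2 ≫ f1) ≫ p.toHom := by
      rw [hc, Functor.map_comp, Category.assoc, sq.w, ← Category.assoc, ← Functor.map_comp,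
        IsIso.inv_hom_id, CategoryTheory.Functor.map_id, Category.id_comp]
    exact (yon S).map_injective ((cancel_mono p.toHom).1 e)

end Groth.Agent.Helper5.AlgSpMonoPt
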