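import Groth.Prelude.Def_AlgSp4
import Groth.Agent.Helper4.AlgSpSrc
import Mathlib

set_option autoImplicit false
universe u
open CategoryTheory CategoryTheory.Limits AlgebraicGeometry Opposite TopologicalSpace

namespace Groth.Agent.Helper5.AlgSpSigma

open AlgSp

variable {S : Scheme.{u}}

set_option backward.isDefEq.respectTransparency.types false in
/-- A scheme over `S` has an étale surjective cover by a disjoint union of affines, each mapping
into an affine open of `S`. -/
theorem exists_sigma_affine_cover (U : Over S) :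
    ∃ (ι : Type u) (V : ι → Scheme.{u}) (_ : ∀ i, IsAffine (V i)) (c : (∐ V) ⟶ U.left),
      Etale c ∧ Surjective c ∧
      ∀ i, ∃ W : S.Opens, IsAffineOpen W ∧ ∀ v : ↥(V i), (Sigma.ι V i ≫ c ≫ U.hom) v ∈ W := by
  let ι : Type u := Σ (j : S.affineCover.I₀), (pullback U.hom (S.affineCover.f j)).affineCover.I₀
  let V : ι → Scheme.{u} := fun i => (pullback U.hom (S.affineCover.f i.1)).affineCover.X i.2
  let g : ∀ i : ι, V i ⟶ U.left := fun i =>
    (pullback U.hom (S.affineCover.f i.1)).affineCover.f i.2 ≫
      pullback.fst U.hom (S.affineCover.f i.1)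
  let c : (∐ V) ⟶ U.left := Sigma.desc g
  have hce : Etale c := IsZariskiLocalAtSource.sigmaDesc (P := @Etale) (fun i => by
    dsimp only [g]; infer_instance)
  have hcs : Surjective c := by
    refine ⟨fun u => ?_⟩
    obtain ⟨j, s, hs⟩ := S.affineCover.exists_eq (U.hom u)
    obtain ⟨w, hw, -⟩ := Scheme.Pullback.exists_preimage_pullback (f := U.hom)
      (g := S.affineCover.f j) u s hs.symm
    obtain ⟨k, t, ht⟩ := (pullback U.hom (S.affineCover.f j)).affineCover.exists_eq w
    refine ⟨(Sigma.ι V ⟨j, k⟩) t, ?_⟩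
    rw [← Scheme.Hom.comp_apply, Sigma.ι_desc]
    show ((pullback U.hom (S.affineCover.f j)).affineCover.f k ≫
      pullback.fst U.hom (S.affineCover.f j)) t = u
    rw [Scheme.Hom.comp_apply, ht, hw]
  refine ⟨ι, V, fun i => ?_, c, hce, hcs, fun i => ?_⟩
  · dsimp only [V]; infer_instance
  · refine ⟨(S.affineCover.f i.1).opensRange, isAffineOpen_opensRange _, fun v => ?_⟩
    have h1 : Sigma.ι V i ≫ c ≫ U.hom = g i ≫ U.hom := by
      rw [← Category.assoc, Sigma.ι_desc]
    have h2 : g i ≫ U.hom = ((pullback U.hom (S.affineCover.f i.1)).affineCover.f i.2 ≫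
        pullback.snd _ _) ≫ S.affineCover.f i.1 := by
      dsimp only [g]
      rw [Category.assoc, Category.assoc, pullback.condition]
    rw [h1, h2, Scheme.Hom.comp_apply]
    exact ⟨_, rfl⟩

end Groth.Agent.Helper5.AlgSpSigma
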