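import Groth.Agent.Helper5.CycDim2
import Groth.Prelude.Def_Algz

set_option autoImplicit false
universe u
open CategoryTheory CategoryTheory.Limits AlgebraicGeometry TopologicalSpace

namespace Groth.Agent.Helper5.AlgzD

/-- transport a chain in `Set.Ici (toEquiv v)` to a chain of points -/
noncomputable def toPts {Y : Scheme.{u}} (v : Y) (p : LTSeries (Set.Ici (Specialization.toEquiv v))) :
    LTSeries Y :=
  p.map (fun a => Specialization.ofEquiv a.1) (by
    intro a b hab
    have h1 : a.1 < b.1 := hab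
    rw [lt_iff_le_not_ge] at h1 ⊢
    exact ⟨Scheme.le_iff_specializes.2 (Specialization.ofEquiv_specializes_ofEquiv.2 h1.1),
      fun h => h1.2 (Specialization.ofEquiv_specializes_ofEquiv.1 (Scheme.le_iff_specializes.1 h))⟩)

theorem codimPt_le {Y : Scheme.{u}} (δ : Y → ℤ) (hδ : Cyc.IsDimFun Y δ) (w v : Y) (h : w ⤳ v) :
    Algz.codimPt w v h ≤ (((δ w - δ v).toNat : ℕ) : ℕ∞) := by
  unfold Algz.codimPt
  rw [Order.height_le_iff']
  intro p hp
  let l : LTSeries Y := toPts v p
  have h1 := CycDim.length_le_delta δ hδ l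
  have h2 : l.last = w := by
    show Specialization.ofEquiv p.last.1 = w
    rw [hp]
    rfl
  have h3 : δ v ≤ δ l.head := by
    apply CycDim.delta_mono δ hδ l.head v
    show Specialization.ofEquiv p.head.1 ⤳ v
    exact Specialization.toEquiv_le_toEquiv.1 p.head.2
  have h5 : l.length = p.length := rfl
  have h4 : p.length ≤ (δ w - δ v).toNat := by
    rw [h2] at h1
    omega
  exact_mod_cast h4

theorem le_codimPt {Y : Scheme.{u}} (δ : Y → ℤ) (hδ : Cyc.IsDimFun Y δ) (w v : Y) (h : w ⤳ v) :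
    (((δ w - δ v).toNat : ℕ) : ℕ∞) ≤ Algz.codimPt w v h := by
  have hnn : 0 ≤ δ w - δ v := by have := CycDim.delta_mono δ hδ w v h; omega
  obtain ⟨l, hl1, hl2, hl3⟩ := CycDim.exists_chain δ hδ (δ w - δ v).toNat w v h (by omega)
  unfold Algz.codimPt
  have hmem : ∀ i, Specialization.toEquiv (l i) ∈ Set.Ici (Specialization.toEquiv v) := by
    intro i
    show Specialization.toEquiv v ≤ Specialization.toEquiv (l i)
    rw [Specialization.toEquiv_le_toEquiv]
    have : l.head ≤ l i := l.strictMono.monotone (Fin.zero_le _)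
    rw [hl2] at this
    exact Scheme.le_iff_specializes.1 this
  let p : LTSeries (Set.Ici (Specialization.toEquiv v)) := LTSeries.mk l.length
    (fun i => ⟨Specialization.toEquiv (l i), hmem i⟩) (by
      intro i j hij
      have h1 : l i < l j := l.strictMono hij
      show Specialization.toEquiv (l i) < Specialization.toEquiv (l j)
      rw [lt_iff_le_not_ge] at h1 ⊢
      exact ⟨Specialization.toEquiv_le_toEquiv.2 (Scheme.le_iff_specializes.1 h1.1),
        fun h => h1.2 (Scheme.le_iff_specializes.2 (Specialization.toEquiv_le_toEquiv.1 h))⟩)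
  have hlast : p.last = ⟨Specialization.toEquiv w, Specialization.toEquiv_le_toEquiv.mpr h⟩ := by
    apply Subtype.ext
    show Specialization.toEquiv l.last = Specialization.toEquiv w
    rw [hl3]
  have := Order.length_le_height_last (p := p)
  rw [hlast] at this
  have hlen : p.length = (δ w - δ v).toNat := hl1
  rw [hlen] at this
  exact this

theorem s8814 (Y : Scheme.{u}) [IsNoetherian Y] (Z : Set Y) (hZ : IsClosed Z) (δ : Y → ℤ)
    (hδ : Cyc.IsDimFun Y δ) (y : Y) (n : ℕ) (hn : Algz.deltaZ Z y = n) :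
    ∃ z ∈ Z, δ y ≤ n + δ z := by
  unfold Algz.deltaZ at hn
  have hex : ∃ k, ∃ S : Algz.DSystem Z y k, S.delta ≤ n := by
    by_contra hcon
    push Not at hcon
    have h1 : (((n + 1 : ℕ)) : ℕ∞) ≤ ⨅ (k : ℕ) (S : Algz.DSystem Z y k), S.delta := by
      refine le_iInf fun k => le_iInf fun S => ?_
      have := Order.add_one_le_of_lt (hcon k S)
      exact_mod_cast this
    rw [hn] at h1
    have : n + 1 ≤ n := by exact_mod_cast h1
    omega
  obtain ⟨k, S, hS⟩ := hex
  refine ⟨S.v 0, S.start_mem, ?_⟩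
  -- the i = 0 term
  have hsup : (∑ j : Fin (k + 1), S.c j) - ∑ j : Fin k, S.b j ≤ (n : ℕ∞) := by
    have h0 : (∑ j ∈ Finset.univ.filter (fun j : Fin (k + 1) => (0 : Fin (k + 1)) ≤ j), S.c j) -
        ∑ j ∈ Finset.univ.filter (fun j : Fin k => (0 : Fin (k + 1)).val ≤ j.val), S.b j ≤
        Finset.univ.sup fun i : Fin (k + 1) =>
          (∑ j ∈ Finset.univ.filter (fun j : Fin (k + 1) => i ≤ j), S.c j) -
            ∑ j ∈ Finset.univ.filter (fun j : Fin k => i.val ≤ j.val), S.b j :=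
      Finset.le_sup (f := fun i : Fin (k + 1) =>
          (∑ j ∈ Finset.univ.filter (fun j : Fin (k + 1) => i ≤ j), S.c j) -
            ∑ j ∈ Finset.univ.filter (fun j : Fin k => i.val ≤ j.val), S.b j) (Finset.mem_univ 0)
    have hf1 : Finset.univ.filter (fun j : Fin (k + 1) => (0 : Fin (k + 1)) ≤ j) = Finset.univ :=
      Finset.filter_true_of_mem (fun j _ => Fin.zero_le j)
    have hf2 : Finset.univ.filter (fun j : Fin k => (0 : Fin (k + 1)).val ≤ j.val) = Finset.univ :=
      Finset.filter_true_of_mem (fun j _ => Nat.zero_le _)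
    rw [hf1, hf2] at h0
    refine h0.trans ?_
    refine le_trans ?_ hS
    unfold Algz.DSystem.delta
    exact le_add_self
  -- bounds
  let c₀ : Fin (k + 1) → ℕ := fun j => (δ (S.w j) - δ (S.v j)).toNat
  let b₀ : Fin k → ℕ := fun j => (δ (S.w j.castSucc) - δ (S.v j.succ)).toNat
  have hc : ((∑ j, c₀ j : ℕ) : ℕ∞) ≤ ∑ j, S.c j := by
    push_cast
    exact Finset.sum_le_sum fun j _ => le_codimPt δ hδ _ _ (S.spec j)
  have hb : ∑ j, S.b j ≤ ((∑ j, b₀ j : ℕ) : ℕ∞) := by
    push_cast
    exact Finset.sum_le_sum fun j _ => codimPt_le δ hδ _ _ (S.spec_succ j)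
  have h2 : (((∑ j, c₀ j) - (∑ j, b₀ j) : ℕ) : ℕ∞) ≤ n := by
    refine le_trans ?_ hsup
    rw [ENat.natCast_sub]
    exact tsub_le_tsub hc hb
  have h3 : (∑ j, c₀ j) - (∑ j, b₀ j) ≤ n := by exact_mod_cast h2
  have hcz : ∀ j, (c₀ j : ℤ) = δ (S.w j) - δ (S.v j) := by
    intro j
    have := CycDim.delta_mono δ hδ _ _ (S.spec j)
    show (((δ (S.w j) - δ (S.v j)).toNat : ℕ) : ℤ) = _
    omega
  have hbz : ∀ j, (b₀ j : ℤ) = δ (S.w j.castSucc) - δ (S.v j.succ) := by
    intro j
    have := CycDim.delta_mono δ hδ _ _ (S.spec_succ j)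
    show (((δ (S.w j.castSucc) - δ (S.v j.succ)).toNat : ℕ) : ℤ) = _
    omega
  have htel : ((∑ j, c₀ j : ℕ) : ℤ) - ((∑ j, b₀ j : ℕ) : ℤ) = δ y - δ (S.v 0) := by
    push_cast
    simp only [hcz, hbz]
    rw [Finset.sum_sub_distrib, Finset.sum_sub_distrib]
    rw [Fin.sum_univ_castSucc (fun j => δ (S.w j)), Fin.sum_univ_succ (fun j => δ (S.v j)),
      S.last_eq]
    ring
  omega

end Groth.Agent.Helper5.AlgzD
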