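import Groth.Prelude.Def_Algz

set_option autoImplicit false
universe u
open CategoryTheory CategoryTheory.Limits AlgebraicGeometry TopologicalSpace

namespace Groth.Agent.Helper5.AlgzD

variable {Y : Type u} [TopologicalSpace Y]

theorem codimPt_congr {w w' v v' : Y} (hw : w = w') (hv : v = v') (h : w ⤳ v) (h' : w' ⤳ v') :
    Algz.codimPt w v h = Algz.codimPt w' v' h' := by
  subst hw hv
  rfl

theorem codimPt_mono {w v v' : Y} (h : w ⤳ v) (hv : v ⤳ v') :
    Algz.codimPt w v h ≤ Algz.codimPt w v' (h.trans hv) := by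
  unfold Algz.codimPt
  let f : Set.Ici (Specialization.toEquiv v) → Set.Ici (Specialization.toEquiv v') :=
    fun a => ⟨a.1, le_trans (Specialization.toEquiv_le_toEquiv.2 hv) a.2⟩
  have hf : StrictMono f := fun a b hab => hab
  exact Order.height_le_height_apply_of_strictMono f hf _

theorem codimPt_self (y : Y) (h : y ⤳ y) : Algz.codimPt y y h = 0 := by
  unfold Algz.codimPt
  rw [Order.height_eq_zero]
  intro b _
  exact b.2

theorem specializes_of_codimPt_eq_zero {w v : Y} (h : w ⤳ v) (h0 : Algz.codimPt w v h = 0) :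
    v ⤳ w := by
  unfold Algz.codimPt at h0
  rw [Order.height_eq_zero] at h0
  have h1 : (⟨Specialization.toEquiv v, Set.mem_Ici.2 (le_refl _)⟩ : Set.Ici (Specialization.toEquiv v)) ≤
      ⟨Specialization.toEquiv w, Specialization.toEquiv_le_toEquiv.mpr h⟩ :=
    Specialization.toEquiv_le_toEquiv.mpr h
  have h2 := h0 h1
  exact Specialization.toEquiv_le_toEquiv.1 h2

theorem one_le_codimPt {w v : Y} (h : w ⤳ v) (hne : ¬ v ⤳ w) : 1 ≤ Algz.codimPt w v h := by
  rw [Order.one_le_iff_ne_zero]
  intro h0
  exact hne (specializes_of_codimPt_eq_zero h h0)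

/-- an immediate specialization has codimension at most one -/
theorem codimPt_le_one [T0Space Y] {w v : Y} (h : w ⤳ v)
    (himm : ∀ z : Y, w ⤳ z → z ⤳ v → z = w ∨ z = v) : Algz.codimPt w v h ≤ 1 := by
  unfold Algz.codimPt
  have h1 : ((1 : ℕ) : ℕ∞) = 1 := rfl
  rw [← h1, Order.height_le_coe_iff]
  intro a ha
  have hav : v ⤳ Specialization.ofEquiv a.1 := by
    have h2 : a.1 ≤ Specialization.toEquiv w := ha.le
    have h3 : w ⤳ Specialization.ofEquiv a.1 := Specialization.toEquiv_le_toEquiv.1 h2
    have h4 : Specialization.ofEquiv a.1 ⤳ v := Specialization.toEquiv_le_toEquiv.1 a.2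
    rcases himm _ h3 h4 with e | e
    · exfalso
      have : ¬ (Specialization.toEquiv w ≤ a.1) := (lt_iff_le_not_ge.1 ha).2
      apply this
      show Specialization.toEquiv w ≤ Specialization.toEquiv (Specialization.ofEquiv a.1)
      rw [e]
    · rw [e]
  have hmin : IsMin a := by
    intro b _
    have h5 : Specialization.toEquiv v ≤ b.1 := b.2
    have h6 : Specialization.toEquiv (Specialization.ofEquiv a.1) ≤ Specialization.toEquiv v :=
      Specialization.toEquiv_le_toEquiv.2 hav
    show a.1 ≤ b.1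
    exact le_trans h6 h5
  rw [Order.height_eq_zero.2 hmin]
  exact Nat.cast_pos.2 Nat.one_pos

end Groth.Agent.Helper5.AlgzD
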