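import Groth.Agent.Helper5.AlgzD2

set_option autoImplicit false
universe u
open CategoryTheory CategoryTheory.Limits AlgebraicGeometry TopologicalSpace

namespace Groth.Agent.Helper5.AlgzD

variable {Y : Type u} [TopologicalSpace Y]

theorem deltaZ_le_delta {Z : Set Y} {y : Y} {k : ℕ} (S : Algz.DSystem Z y k) :
    Algz.deltaZ Z y ≤ S.delta := by
  unfold Algz.deltaZ
  exact iInf₂_le k S

/-- filtered sums over `Fin (k+1)` split off the last index -/
theorem sum_filter_castSucc {k : ℕ} (i : Fin (k + 1)) (c : Fin (k + 1) → ℕ∞) :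
    ∑ j ∈ Finset.univ.filter (fun j : Fin (k + 1) => i ≤ j), c j =
      (∑ j ∈ Finset.univ.filter (fun j : Fin k => i.val ≤ j.val), c j.castSucc) + c (Fin.last k) := by
  rw [Finset.sum_filter, Finset.sum_filter, Fin.sum_univ_castSucc]
  congr 1
  · rw [if_pos (Fin.le_last i)]

/-- the zigzag system -/
noncomputable def zigzag (Z : Set Y) (k : ℕ) (y : Fin (k + 1) → Y) (y' : Fin k → Y) (h0 : y 0 ∈ Z)
    (hdown : ∀ i : Fin k, y' i ⤳ y i.castSucc) (hup : ∀ i : Fin k, y' i ⤳ y i.succ) :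
    Algz.DSystem Z (y (Fin.last k)) k where
  v := y
  w := Fin.snoc (α := fun _ => Y) y' (y (Fin.last k))
  spec := by
    intro i
    refine Fin.lastCases ?_ (fun j => ?_) i
    · rw [Fin.snoc_last]
    · rw [Fin.snoc_castSucc]
      exact hdown j
  spec_succ := by
    intro j
    rw [Fin.snoc_castSucc]
    exact hup j
  start_mem := h0
  last_eq := by rw [Fin.snoc_last]

theorem zigzag_delta_le [T0Space Y] (Z : Set Y) (k : ℕ) (y : Fin (k + 1) → Y) (y' : Fin k → Y)
    (h0 : y 0 ∈ Z)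
    (hdown : ∀ i : Fin k, y' i ⤳ y i.castSucc ∧ y' i ≠ y i.castSucc ∧
      ∀ z : Y, y' i ⤳ z → z ⤳ y i.castSucc → z = y' i ∨ z = y i.castSucc)
    (hup : ∀ i : Fin k, y' i ⤳ y i.succ ∧ y' i ≠ y i.succ) :
    (zigzag Z k y y' h0 (fun i => (hdown i).1) (fun i => (hup i).1)).delta ≤ k := by
  set S := zigzag Z k y y' h0 (fun i => (hdown i).1) (fun i => (hup i).1) with hS
  have hw : ∀ j : Fin k, S.w j.castSucc = y' j := by
    intro j
    show Fin.snoc (α := fun _ => Y) y' (y (Fin.last k)) j.castSucc = y' j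
    rw [Fin.snoc_castSucc]
  have hwl : S.w (Fin.last k) = y (Fin.last k) := by
    show Fin.snoc (α := fun _ => Y) y' (y (Fin.last k)) (Fin.last k) = _
    rw [Fin.snoc_last]
  have hv : ∀ j, S.v j = y j := fun j => rfl
  have hc : ∀ j : Fin k, S.c j.castSucc ≤ 1 := by
    intro j
    have : S.c j.castSucc = Algz.codimPt (y' j) (y j.castSucc) (hdown j).1 :=
      codimPt_congr (hw j) rfl _ _
    rw [this]
    exact codimPt_le_one _ (hdown j).2.2
  have hcl : S.c (Fin.last k) = 0 := by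
    have : S.c (Fin.last k) = Algz.codimPt (y (Fin.last k)) (y (Fin.last k)) specializes_rfl :=
      codimPt_congr hwl rfl _ _
    rw [this]
    exact codimPt_self _ _
  have hb : ∀ j : Fin k, 1 ≤ S.b j := by
    intro j
    have : S.b j = Algz.codimPt (y' j) (y j.succ) (hup j).1 :=
      codimPt_congr (hw j) rfl _ _
    rw [this]
    apply one_le_codimPt
    intro hcon
    exact (hup j).2 (((hup j).1.antisymm hcon).eq)
  unfold Algz.DSystem.delta
  have hsup : (Finset.univ.sup fun i : Fin (k + 1) =>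
    (∑ j ∈ Finset.univ.filter (fun j : Fin (k + 1) => i ≤ j), S.c j) -
      ∑ j ∈ Finset.univ.filter (fun j : Fin k => i.val ≤ j.val), S.b j) ≤ 0 := by
    refine Finset.sup_le fun i _ => ?_
    rw [sum_filter_castSucc, hcl, add_zero]
    apply le_of_eq
    apply tsub_eq_zero_of_le
    exact Finset.sum_le_sum fun j _ => (hc j).trans (hb j)
  calc (k : ℕ∞) + _ ≤ (k : ℕ∞) + 0 := add_le_add le_rfl hsup
    _ = k := add_zero _

theorem s8816 (Y : Scheme.{u}) [IsNoetherian Y] (Z : Set Y) (hZ : IsClosed Z) (k : ℕ)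
    (y : Fin (k + 1) → Y) (y' : Fin k → Y) (h0 : y 0 ∈ Z)
    (hdown : ∀ i : Fin k, y' i ⤳ y i.castSucc ∧ y' i ≠ y i.castSucc ∧
      ∀ z : Y, y' i ⤳ z → z ⤳ y i.castSucc → z = y' i ∨ z = y i.castSucc)
    (hup : ∀ i : Fin k, y' i ⤳ y i.succ ∧ y' i ≠ y i.succ) :
    Algz.deltaZ Z (y (Fin.last k)) ≤ k :=
  (deltaZ_le_delta _).trans (zigzag_delta_le Z k y y' h0 hdown hup)

end Groth.Agent.Helper5.AlgzD
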