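import Groth.Agent.Helper5.AlgzD3

set_option autoImplicit false
universe u
open CategoryTheory CategoryTheory.Limits AlgebraicGeometry TopologicalSpace

namespace Groth.Agent.Helper5.AlgzD

variable {Y : Type u} [TopologicalSpace Y]

theorem delta_le_delta_of_le {Z : Set Y} {y y' : Y} {k : ℕ} (S : Algz.DSystem Z y k)
    (S' : Algz.DSystem Z y' k) (hc : ∀ j, S'.c j ≤ S.c j) (hb : ∀ j, S.b j ≤ S'.b j) :
    S'.delta ≤ S.delta := by
  unfold Algz.DSystem.delta
  refine add_le_add le_rfl (Finset.sup_mono_fun fun i _ => ?_)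
  exact tsub_le_tsub (Finset.sum_le_sum fun j _ => hc j) (Finset.sum_le_sum fun j _ => hb j)

theorem sum_filter_val_castSucc {k : ℕ} (m : ℕ) (hm : m ≤ k) (c : Fin (k + 1) → ℕ∞) :
    ∑ j ∈ Finset.univ.filter (fun j : Fin (k + 1) => m ≤ j.val), c j =
      (∑ j ∈ Finset.univ.filter (fun j : Fin k => m ≤ j.val), c j.castSucc) + c (Fin.last k) := by
  rw [Finset.sum_filter, Finset.sum_filter, Fin.sum_univ_castSucc]
  congr 1
  · rw [if_pos (by simpa using hm)]

theorem enat_aux (a b c : ℕ∞) (hc : 1 ≤ c) : (a - (b + c)) + 1 ≤ max (a - b) 1 := by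
  rw [← tsub_tsub]
  set x := a - b
  by_cases hx : 1 ≤ x
  · calc x - c + 1 ≤ x - 1 + 1 := add_le_add (tsub_le_tsub_left hc x) le_rfl
      _ = x := tsub_add_cancel_of_le hx
      _ ≤ max x 1 := le_max_left _ _
  · have hx0 : x = 0 := by
      rw [Order.one_le_iff_pos] at hx
      exact le_antisymm (not_lt.1 hx) zero_le
    rw [hx0, zero_tsub, zero_add]
    exact le_max_right _ _

/-- Case I: modify the last pair -/
noncomputable def modLast [T0Space Y] {Z : Set Y} (hZ : IsClosed Z) {y y' : Y} {k : ℕ}
    (S : Algz.DSystem Z y k) (h : y ⤳ y') (hvw : S.v (Fin.last k) ⤳ y) : Algz.DSystem Z y' k where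
  v := Function.update S.v (Fin.last k) y'
  w := Function.update S.w (Fin.last k) y'
  spec := by
    intro i
    by_cases hi : i = Fin.last k
    · subst hi
      rw [Function.update_self, Function.update_self]
    · rw [Function.update_of_ne hi, Function.update_of_ne hi]
      exact S.spec i
  spec_succ := by
    intro j
    rw [Function.update_of_ne (Fin.castSucc_lt_last j).ne]
    by_cases hj : j.succ = Fin.last k
    · rw [hj, Function.update_self]
      have := S.spec_succ j
      rw [hj] at this
      exact (this.trans hvw).trans h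
    · rw [Function.update_of_ne hj]
      exact S.spec_succ j
  start_mem := by
    by_cases h0 : (0 : Fin (k + 1)) = Fin.last k
    · rw [h0, Function.update_self]
      have h1 : S.v 0 ⤳ y' := by
        rw [h0]
        exact hvw.trans h
      exact h1.mem_closed hZ S.start_mem
    · rw [Function.update_of_ne h0]
      exact S.start_mem
  last_eq := by rw [Function.update_self]

theorem modLast_delta_le [T0Space Y] {Z : Set Y} (hZ : IsClosed Z) {y y' : Y} {k : ℕ}
    (S : Algz.DSystem Z y k) (h : y ⤳ y') (hvw : S.v (Fin.last k) ⤳ y) :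
    (modLast hZ S h hvw).delta ≤ S.delta := by
  apply delta_le_delta_of_le
  · intro j
    by_cases hj : j = Fin.last k
    · subst hj
      have : (modLast hZ S h hvw).c (Fin.last k) = Algz.codimPt y' y' specializes_rfl :=
        codimPt_congr (Function.update_self ..) (Function.update_self ..) _ _
      rw [this, codimPt_self]
      exact zero_le
    · apply le_of_eq
      exact codimPt_congr (Function.update_of_ne hj ..) (Function.update_of_ne hj ..) _ _
  · intro j
    have hw : (modLast hZ S h hvw).w j.castSucc = S.w j.castSucc :=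
      Function.update_of_ne (Fin.castSucc_lt_last j).ne ..
    by_cases hj : j.succ = Fin.last k
    · have hv : (modLast hZ S h hvw).v j.succ = y' := by
        show Function.update S.v (Fin.last k) y' j.succ = y'
        rw [hj, Function.update_self]
      have hsp : S.v j.succ ⤳ y' := by
        rw [hj]
        exact hvw.trans h
      have : (modLast hZ S h hvw).b j =
          Algz.codimPt (S.w j.castSucc) y' ((S.spec_succ j).trans hsp) :=
        codimPt_congr hw hv _ _
      rw [this]
      exact codimPt_mono (S.spec_succ j) hsp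
    · apply le_of_eq
      exact (codimPt_congr hw (Function.update_of_ne hj ..) _ _).symm

/-- Case II: append the pair `(y', y')` -/
noncomputable def extend {Z : Set Y} {y y' : Y} {k : ℕ}
    (S : Algz.DSystem Z y k) (h : y ⤳ y') : Algz.DSystem Z y' (k + 1) where
  v := Fin.snoc (α := fun _ => Y) S.v y'
  w := Fin.snoc (α := fun _ => Y) S.w y'
  spec := by
    intro i
    refine Fin.lastCases ?_ (fun j => ?_) i
    · rw [Fin.snoc_last, Fin.snoc_last]
    · rw [Fin.snoc_castSucc, Fin.snoc_castSucc]
      exact S.spec j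
  spec_succ := by
    intro j
    rw [Fin.snoc_castSucc]
    refine Fin.lastCases ?_ (fun j' => ?_) j
    · rw [Fin.succ_last, Fin.snoc_last, S.last_eq]
      exact h
    · rw [Fin.succ_castSucc, Fin.snoc_castSucc]
      exact S.spec_succ j'
  start_mem := by
    have : (0 : Fin (k + 1 + 1)) = Fin.castSucc 0 := rfl
    rw [this, Fin.snoc_castSucc]
    exact S.start_mem
  last_eq := by rw [Fin.snoc_last]

theorem extend_delta_le {Z : Set Y} {y y' : Y} {k : ℕ}
    (S : Algz.DSystem Z y k) (h : y ⤳ y') (hne : ¬ y' ⤳ y) (hc : S.c (Fin.last k) ≠ 0) :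
    (extend S h).delta ≤ S.delta := by
  set S' := extend S h with hS'
  have hw : ∀ j : Fin (k + 1), S'.w j.castSucc = S.w j := by
    intro j
    show Fin.snoc (α := fun _ => Y) S.w y' j.castSucc = S.w j
    rw [Fin.snoc_castSucc]
  have hv : ∀ j : Fin (k + 1), S'.v j.castSucc = S.v j := by
    intro j
    show Fin.snoc (α := fun _ => Y) S.v y' j.castSucc = S.v j
    rw [Fin.snoc_castSucc]
  have hwl : S'.w (Fin.last (k + 1)) = y' := by
    show Fin.snoc (α := fun _ => Y) S.w y' (Fin.last (k + 1)) = y'
    rw [Fin.snoc_last]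
  have hvl : S'.v (Fin.last (k + 1)) = y' := by
    show Fin.snoc (α := fun _ => Y) S.v y' (Fin.last (k + 1)) = y'
    rw [Fin.snoc_last]
  have hc' : ∀ j : Fin (k + 1), S'.c j.castSucc = S.c j := fun j =>
    codimPt_congr (hw j) (hv j) _ _
  have hcl : S'.c (Fin.last (k + 1)) = 0 := by
    have : S'.c (Fin.last (k + 1)) = Algz.codimPt y' y' specializes_rfl :=
      codimPt_congr hwl hvl _ _
    rw [this, codimPt_self]
  have hb' : ∀ j : Fin k, S'.b j.castSucc = S.b j := by
    intro j
    refine codimPt_congr (hw _) ?_ _ _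
    rw [Fin.succ_castSucc]
    exact hv _
  have hbl : 1 ≤ S'.b (Fin.last k) := by
    have : S'.b (Fin.last k) = Algz.codimPt y y' h := by
      refine codimPt_congr ?_ ?_ _ _
      · rw [hw, S.last_eq]
      · rw [Fin.succ_last]
        exact hvl
    rw [this]
    exact one_le_codimPt h hne
  -- the old supremum
  set M : ℕ∞ := Finset.univ.sup fun i : Fin (k + 1) =>
    (∑ j ∈ Finset.univ.filter (fun j : Fin (k + 1) => i ≤ j), S.c j) -
      ∑ j ∈ Finset.univ.filter (fun j : Fin k => i.val ≤ j.val), S.b j with hM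
  have hMi : ∀ i : Fin (k + 1), (∑ j ∈ Finset.univ.filter (fun j : Fin (k + 1) => i ≤ j), S.c j) -
      ∑ j ∈ Finset.univ.filter (fun j : Fin k => i.val ≤ j.val), S.b j ≤ M := fun i =>
    Finset.le_sup (f := fun i : Fin (k + 1) =>
      (∑ j ∈ Finset.univ.filter (fun j : Fin (k + 1) => i ≤ j), S.c j) -
        ∑ j ∈ Finset.univ.filter (fun j : Fin k => i.val ≤ j.val), S.b j) (Finset.mem_univ i)
  have hM1 : 1 ≤ M := by
    refine le_trans ?_ (hMi (Fin.last k))
    have hB : ∑ j ∈ Finset.univ.filter (fun j : Fin k => (Fin.last k).val ≤ j.val), S.b j = 0 := by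
      rw [Finset.filter_false_of_mem, Finset.sum_empty]
      intro j _
      have := j.2
      simp only [Fin.val_last, not_le]
      exact this
    rw [hB, tsub_zero]
    refine le_trans (Order.one_le_iff_pos.2 (pos_iff_ne_zero.2 hc)) ?_
    exact Finset.single_le_sum (f := S.c) (fun _ _ => zero_le)
      (Finset.mem_filter.2 ⟨Finset.mem_univ _, le_rfl⟩)
  have hterm : ∀ i' : Fin (k + 1 + 1),
      ((∑ j ∈ Finset.univ.filter (fun j : Fin (k + 1 + 1) => i' ≤ j), S'.c j) -
        ∑ j ∈ Finset.univ.filter (fun j : Fin (k + 1) => i'.val ≤ j.val), S'.b j) + 1 ≤ M := by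
    intro i'
    refine Fin.lastCases ?_ (fun i => ?_) i'
    · -- last index: the term vanishes
      rw [sum_filter_castSucc, hcl, add_zero]
      have h0 : ∑ j ∈ Finset.univ.filter
          (fun j : Fin (k + 1) => (Fin.last (k + 1)).val ≤ j.val), S'.c j.castSucc = 0 := by
        rw [Finset.filter_false_of_mem, Finset.sum_empty]
        intro j _
        have := j.2
        simp only [Fin.val_last, not_le]
        exact this
      rw [h0, zero_tsub, zero_add]
      exact hM1
    · rw [sum_filter_castSucc, hcl, add_zero]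
      have hi : i.castSucc.val = i.val := rfl
      rw [hi, sum_filter_val_castSucc i.val (Nat.lt_succ_iff.1 i.2) S'.b]
      have e1 : ∑ j ∈ Finset.univ.filter (fun j : Fin (k + 1) => i.val ≤ j.val), S'.c j.castSucc =
          ∑ j ∈ Finset.univ.filter (fun j : Fin (k + 1) => i ≤ j), S.c j := by
        have : Finset.univ.filter (fun j : Fin (k + 1) => i.val ≤ j.val) =
            Finset.univ.filter (fun j : Fin (k + 1) => i ≤ j) :=
          Finset.filter_congr fun j _ => Fin.le_def.symm
        rw [this]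
        exact Finset.sum_congr rfl fun j _ => hc' j
      have e2 : ∑ j ∈ Finset.univ.filter (fun j : Fin k => i.val ≤ j.val), S'.b j.castSucc =
          ∑ j ∈ Finset.univ.filter (fun j : Fin k => i.val ≤ j.val), S.b j :=
        Finset.sum_congr rfl fun j _ => hb' j
      rw [e1, e2]
      refine (enat_aux _ _ _ hbl).trans (max_le (hMi i) hM1)
  show ((k + 1 : ℕ) : ℕ∞) + (Finset.univ.sup fun i' : Fin (k + 1 + 1) =>
      (∑ j ∈ Finset.univ.filter (fun j : Fin (k + 1 + 1) => i' ≤ j), S'.c j) -
        ∑ j ∈ Finset.univ.filter (fun j : Fin (k + 1) => i'.val ≤ j.val), S'.b j) ≤ (k : ℕ∞) + M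
  have hsup : (Finset.univ.sup fun i' : Fin (k + 1 + 1) =>
      (∑ j ∈ Finset.univ.filter (fun j : Fin (k + 1 + 1) => i' ≤ j), S'.c j) -
        ∑ j ∈ Finset.univ.filter (fun j : Fin (k + 1) => i'.val ≤ j.val), S'.b j) ≤ M - 1 :=
    Finset.sup_le fun i' _ => ENat.le_sub_of_add_le_right ENat.one_ne_top (hterm i')
  calc ((k + 1 : ℕ) : ℕ∞) + _ ≤ ((k + 1 : ℕ) : ℕ∞) + (M - 1) := add_le_add le_rfl hsup
    _ = (k : ℕ∞) + (1 + (M - 1)) := by push_cast; rw [add_assoc]
    _ = (k : ℕ∞) + M := by rw [add_tsub_cancel_of_le hM1]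

theorem deltaZ_le_of_specializes [T0Space Y] (Z : Set Y) (hZ : IsClosed Z) (y y' : Y) (h : y ⤳ y') :
    Algz.deltaZ Z y' ≤ Algz.deltaZ Z y := by
  by_cases hne : y' ⤳ y
  · have : y = y' := (h.antisymm hne).eq
    rw [this]
  · conv_rhs => unfold Algz.deltaZ
    refine le_iInf₂ fun k S => ?_
    by_cases hc : S.c (Fin.last k) = 0
    · have hvw : S.v (Fin.last k) ⤳ y := by
        have := specializes_of_codimPt_eq_zero (S.spec (Fin.last k)) hc
        rw [S.last_eq] at this
        exact this
      exact (deltaZ_le_delta _).trans (modLast_delta_le hZ S h hvw)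
    · exact (deltaZ_le_delta _).trans (extend_delta_le S h hne hc)

theorem s8812 (Y : Scheme.{u}) [IsNoetherian Y] (Z : Set Y) (hZ : IsClosed Z) (y y' : Y)
    (h : y ⤳ y') : Algz.deltaZ Z y' ≤ Algz.deltaZ Z y :=
  deltaZ_le_of_specializes Z hZ y y' h

end Groth.Agent.Helper5.AlgzD
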