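import Groth.Agent.Helper5.AlgzD4

set_option autoImplicit false
universe u
open CategoryTheory CategoryTheory.Limits AlgebraicGeometry TopologicalSpace

namespace Groth.Agent.Helper5.AlgzD

variable {X Y : Type u} [TopologicalSpace X] [TopologicalSpace Y]

theorem codimPt_openEmbedding (f : X → Y) (hf : Topology.IsOpenEmbedding f) (w v : X) (h : w ⤳ v) :
    Algz.codimPt (f w) (f v) (h.map hf.continuous) = Algz.codimPt w v h := by
  unfold Algz.codimPt
  let g : Set.Ici (Specialization.toEquiv v) → Set.Ici (Specialization.toEquiv (f v)) :=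
    fun a => ⟨Specialization.toEquiv (f (Specialization.ofEquiv a.1)),
      Specialization.toEquiv_le_toEquiv.2
        ((Specialization.toEquiv_le_toEquiv.1 a.2 : Specialization.ofEquiv a.1 ⤳ v).map
          hf.continuous)⟩
  have hle : ∀ a b : Set.Ici (Specialization.toEquiv v), g a ≤ g b ↔ a ≤ b := by
    intro a b
    show Specialization.toEquiv (f (Specialization.ofEquiv a.1)) ≤
      Specialization.toEquiv (f (Specialization.ofEquiv b.1)) ↔ a.1 ≤ b.1
    rw [Specialization.toEquiv_le_toEquiv, hf.isInducing.specializes_iff]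
    exact Specialization.ofEquiv_specializes_ofEquiv
  have hg : StrictMono g := by
    intro a b hab
    rw [lt_iff_le_not_ge] at hab ⊢
    exact ⟨(hle a b).2 hab.1, fun h' => hab.2 ((hle b a).1 h')⟩
  symm
  refine Order.height_eq_of_strictMono g hg ?_ _
  intro a b hb
  have h1 : Specialization.ofEquiv b.1 ⤳ f v := Specialization.toEquiv_le_toEquiv.1 b.2
  have h2 : Specialization.ofEquiv b.1 ∈ Set.range f :=
    h1.mem_open hf.isOpen_range ⟨v, rfl⟩
  obtain ⟨x, hx⟩ := h2
  have h3 : x ⤳ v := by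
    rw [← hf.isInducing.specializes_iff, hx]
    exact h1
  let a' : Set.Ici (Specialization.toEquiv v) :=
    ⟨Specialization.toEquiv x, Specialization.toEquiv_le_toEquiv.2 h3⟩
  have ha' : g a' = b := by
    apply Subtype.ext
    show Specialization.toEquiv (f x) = b.1
    rw [hx]
    rfl
  refine ⟨a', ?_, ha'⟩
  rw [← ha'] at hb
  rw [lt_iff_le_not_ge] at hb ⊢
  exact ⟨(hle _ _).1 hb.1, fun h' => hb.2 ((hle _ _).2 h')⟩

/-- push a system forward along a continuous map -/
noncomputable def mapSys (f : X → Y) (hf : Continuous f) {Z : Set Y} {y : X} {k : ℕ}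
    (S : Algz.DSystem (f ⁻¹' Z) y k) : Algz.DSystem Z (f y) k where
  v := fun i => f (S.v i)
  w := fun i => f (S.w i)
  spec := fun i => (S.spec i).map hf
  spec_succ := fun i => (S.spec_succ i).map hf
  start_mem := S.start_mem
  last_eq := by rw [S.last_eq]

theorem mapSys_delta (f : X → Y) (hf : Topology.IsOpenEmbedding f) {Z : Set Y} {y : X} {k : ℕ}
    (S : Algz.DSystem (f ⁻¹' Z) y k) : (mapSys f hf.continuous S).delta = S.delta := by
  have hc : ∀ j, (mapSys f hf.continuous S).c j = S.c j := fun j =>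
    codimPt_openEmbedding f hf _ _ (S.spec j)
  have hb : ∀ j, (mapSys f hf.continuous S).b j = S.b j := fun j =>
    codimPt_openEmbedding f hf _ _ (S.spec_succ j)
  unfold Algz.DSystem.delta
  simp only [hc, hb]

theorem deltaZ_openEmbedding (f : X → Y) (hf : Topology.IsOpenEmbedding f) (Z : Set Y) (y : X) :
    Algz.deltaZ Z (f y) ≤ Algz.deltaZ (f ⁻¹' Z) y := by
  conv_rhs => unfold Algz.deltaZ
  refine le_iInf₂ fun k S => ?_
  rw [← mapSys_delta f hf S]
  exact deltaZ_le_delta _

theorem s8817 (Y : Scheme.{u}) [IsNoetherian Y] (Z : Set Y) (hZ : IsClosed Z) (Y' : Y.Opens)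
    (y' : (↑Y' : Scheme.{u})) :
    Algz.deltaZ Z (Y'.ι.base y') ≤
      Algz.deltaZ ((fun x : (↑Y' : Scheme.{u}) => Y'.ι.base x) ⁻¹' Z) y' :=
  deltaZ_openEmbedding (fun x : (↑Y' : Scheme.{u}) => Y'.ι.base x) Y'.ι.isOpenEmbedding Z y'

end Groth.Agent.Helper5.AlgzD
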