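import Groth.Agent.Helper5.AlgzD5
import Groth.Agent.Helper5.AlgzD1
import Groth.Agent.Helper5.StalkDict

set_option autoImplicit false
universe u
open CategoryTheory CategoryTheory.Limits AlgebraicGeometry TopologicalSpace

namespace Groth.Agent.Helper5.AlgzD

/-- the one-step system `z ∈ Z`, `y ⤳ z` -/
noncomputable def sys0 {Y : Type u} [TopologicalSpace Y] (Z : Set Y) (y z : Y) (h : y ⤳ z)
    (hz : z ∈ Z) : Algz.DSystem Z y 0 where
  v := fun _ => z
  w := fun _ => y
  spec := fun _ => h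
  spec_succ := fun i => i.elim0
  start_mem := hz
  last_eq := rfl

theorem sys0_delta_le {Y : Type u} [TopologicalSpace Y] (Z : Set Y) (y z : Y) (h : y ⤳ z)
    (hz : z ∈ Z) : (sys0 Z y z h hz).delta ≤ Algz.codimPt y z h := by
  unfold Algz.DSystem.delta
  rw [Nat.cast_zero, zero_add]
  refine Finset.sup_le fun i _ => ?_
  refine tsub_le_self.trans ?_
  refine (Finset.sum_le_sum_of_subset (Finset.filter_subset _ _)).trans ?_
  rw [Fin.sum_univ_one]
  exact le_rfl

theorem codimPt_le_krullDim_Icc {Y : Scheme.{u}} (y z : Y) (h : y ⤳ z) :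
    ((Algz.codimPt y z h : ℕ∞) : WithBot ℕ∞) ≤ Order.krullDim ↥(Set.Icc z y) := by
  have : Nonempty ↥(Set.Icc z y) :=
    ⟨⟨z, le_refl z, Scheme.le_iff_specializes.2 h⟩⟩
  rw [Order.krullDim_eq_iSup_length, WithBot.coe_le_coe]
  unfold Algz.codimPt
  rw [Order.height_le_iff']
  intro p hp
  have hmem : ∀ i, Specialization.ofEquiv (p i).1 ∈ Set.Icc z y := by
    intro i
    constructor
    · exact Scheme.le_iff_specializes.2 (Specialization.toEquiv_le_toEquiv.1 (p i).2)
    · have h1 : p i ≤ p.last := p.monotone (Fin.le_last i)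
      rw [hp] at h1
      have h2 : (p i).1 ≤ Specialization.toEquiv y := h1
      exact Scheme.le_iff_specializes.2 (Specialization.toEquiv_le_toEquiv.1 h2)
  let q : LTSeries ↥(Set.Icc z y) := LTSeries.mk p.length
    (fun i => ⟨Specialization.ofEquiv (p i).1, hmem i⟩) (by
      intro i j hij
      have h1 : (p i).1 < (p j).1 := p.strictMono hij
      show Specialization.ofEquiv (p i).1 < Specialization.ofEquiv (p j).1
      rw [lt_iff_le_not_ge] at h1 ⊢
      exact ⟨Scheme.le_iff_specializes.2 (Specialization.ofEquiv_specializes_ofEquiv.2 h1.1),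
        fun h' => h1.2 (Specialization.ofEquiv_specializes_ofEquiv.1
          (Scheme.le_iff_specializes.1 h'))⟩)
  exact le_iSup_of_le q le_rfl

theorem s8813 (Y : Scheme.{u}) [IsNoetherian Y] (Z : Set Y) (hZ : IsClosed Z) (y z : Y)
    (h : y ⤳ z) (hz : z ∈ Z) (P : PrimeSpectrum (Y.presheaf.stalk z))
    (hP : (Y.fromSpecStalk z).base P = y) :
    ((Algz.deltaZ Z y : ℕ∞) : WithBot ℕ∞) ≤ ringKrullDim (↥(Y.presheaf.stalk z) ⧸ P.asIdeal) := by
  have h1 := Groth.Agent.Helper5.StalkDict.ringKrullDim_stalk_quotient z P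
  have hP' : Y.fromSpecStalk z P = y := hP
  rw [hP'] at h1
  rw [h1]
  refine le_trans ?_ (codimPt_le_krullDim_Icc y z h)
  rw [WithBot.coe_le_coe]
  exact (deltaZ_le_delta _).trans (sys0_delta_le Z y z h hz)

end Groth.Agent.Helper5.AlgzD
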