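import Mathlib
import Groth.Prelude.Def_Found

set_option autoImplicit false
universe u

namespace Groth.Agent.Helper5.CatLoc

/-- a chain of maximal length from its head is saturated -/
theorem covBy_of_length_eq_coheight {α : Type*} [PartialOrder α] (s : LTSeries α)
    (h : (s.length : ℕ∞) = Order.coheight s.head) (i : Fin s.length) :
    s i.castSucc ⋖ s i.succ := by
  refine ⟨s.step i, ?_⟩
  intro r h1 h2
  have e1 := Order.coheight_eq_index_of_length_eq_head_coheight h i.castSucc
  have e2 := Order.coheight_eq_index_of_length_eq_head_coheight h i.succ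
  have a1 := Order.coheight_add_one_le h1
  have a2 := Order.coheight_add_one_le h2
  rw [e1] at a1
  rw [e2] at a2
  have h3 : ((i.succ.rev : ℕ) : ℕ∞) + 1 + 1 ≤ ((i.castSucc.rev : ℕ) : ℕ∞) :=
    (add_le_add a2 le_rfl).trans a1
  have h4 : (i.succ.rev : ℕ) + 1 + 1 ≤ (i.castSucc.rev : ℕ) := by exact_mod_cast h3
  have := i.2
  simp only [Fin.val_rev, Fin.val_succ, Fin.val_castSucc] at h4
  omega

theorem isMax_last_of_length_eq_coheight {α : Type*} [PartialOrder α] (s : LTSeries α)
    (h : (s.length : ℕ∞) = Order.coheight s.head) : IsMax s.last := by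
  have e1 := Order.coheight_eq_index_of_length_eq_head_coheight h (Fin.last _)
  rw [← Order.coheight_eq_zero]
  show Order.coheight (s (Fin.last _)) = 0
  rw [e1]
  simp

variable (A : Type u) [CommRing A] [IsNoetherianRing A] [IsLocalRing A]

theorem coheight_eq (x : PrimeSpectrum A) :
    Order.coheight x = ((Order.coheight x).toNat : ℕ∞) :=
  (ENat.natCast_toNat (Order.coheight_lt_top x).ne).symm

theorem eq_closedPoint_of_isMax {p : PrimeSpectrum A} (h : IsMax p) :
    p = IsLocalRing.closedPoint A := by
  have h1 : p ≤ IsLocalRing.closedPoint A := IsLocalRing.le_maximalIdeal p.isPrime.ne_top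
  exact le_antisymm h1 (h h1)

theorem coheight_closedPoint : Order.coheight (IsLocalRing.closedPoint A) = 0 := by
  rw [Order.coheight_eq_zero]
  intro b hb
  have h1 : b ≤ IsLocalRing.closedPoint A := IsLocalRing.le_maximalIdeal b.isPrime.ne_top
  exact h1

theorem coheight_covBy (hA : CAlg.IsCatenary A) {x y : PrimeSpectrum A} (h : x ⋖ y) :
    Order.coheight x = Order.coheight y + 1 := by
  obtain ⟨s, hs1, hs2⟩ := Order.exists_series_of_coheight_eq_coe x (coheight_eq A x)
  obtain ⟨t, ht1, ht2⟩ := Order.exists_series_of_coheight_eq_coe y (coheight_eq A y)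
  have hs3 : (s.length : ℕ∞) = Order.coheight s.head := by
    rw [hs1, hs2]; exact (coheight_eq A x).symm
  have ht3 : (t.length : ℕ∞) = Order.coheight t.head := by
    rw [ht1, ht2]; exact (coheight_eq A y).symm
  let f : Fin (t.length + 1 + 1) → PrimeSpectrum A := Fin.cons (α := fun _ => PrimeSpectrum A) x t.toFun
  have hf0 : f 0 = x := rfl
  have hfs : ∀ j : Fin (t.length + 1), f j.succ = t j := fun j => by
    simp only [f, Fin.cons_succ]
  have hstep : ∀ i : Fin (t.length + 1), f i.castSucc ⋖ f i.succ := by
    intro i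
    refine Fin.cases ?_ (fun j => ?_) i
    · rw [Fin.castSucc_zero, hf0, hfs]
      have : t 0 = y := ht1
      rw [this]
      exact h
    · rw [← Fin.succ_castSucc, hfs, hfs]
      exact covBy_of_length_eq_coheight t ht3 j
  have hf : StrictMono f := by
    rw [Fin.strictMono_iff_lt_succ]
    exact fun i => (hstep i).lt
  let t' : LTSeries (PrimeSpectrum A) := LTSeries.mk (t.length + 1) f hf
  have hhead : s.head = t'.head := by
    rw [hs1]
    rfl
  have hlast : s.last = t'.last := by
    have h1 : t'.last = t.last := by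
      show f (Fin.last (t.length + 1)) = t (Fin.last t.length)
      rw [← Fin.succ_last, hfs]
    rw [h1, eq_closedPoint_of_isMax A (isMax_last_of_length_eq_coheight s hs3),
      eq_closedPoint_of_isMax A (isMax_last_of_length_eq_coheight t ht3)]
  have hlen := hA.2 s t' hhead hlast (covBy_of_length_eq_coheight s hs3) hstep
  have h5 : t'.length = t.length + 1 := rfl
  rw [coheight_eq A x, coheight_eq A y, ← hs2, ← ht2, hlen, h5]
  push_cast
  rfl

end Groth.Agent.Helper5.CatLoc
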