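import Groth.Agent.Helper5.AlgzD6
import Groth.Agent.Helper5.CatLoc1

set_option autoImplicit false
universe u
open CategoryTheory CategoryTheory.Limits AlgebraicGeometry TopologicalSpace

namespace Groth.Agent.Helper5.AlgzD

section
variable (A : Type u) [CommRing A] [IsNoetherianRing A] [IsLocalRing A]

/-- the dimension function `p ↦ dim A/p` on the spectrum of a Noetherian local ring -/
noncomputable def specDimFun (x : ↥(Spec (CommRingCat.of A))) : ℤ :=
  ((Order.coheight (α := PrimeSpectrum A) x).toNat : ℤ)

theorem specDimFun_isDimFun (hA : CAlg.IsCatenary A) :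
    Cyc.IsDimFun (Spec (CommRingCat.of A)) (specDimFun A) := by
  intro x y hxy hne
  let xp : PrimeSpectrum A := x
  let yp : PrimeSpectrum A := y
  have hle : xp ≤ yp := (PrimeSpectrum.le_iff_specializes xp yp).2 hxy
  have hlt : xp < yp := lt_of_le_of_ne hle hne
  have h1 := Order.coheight_add_one_le hlt
  have ex := CatLoc.coheight_eq A xp
  have ey := CatLoc.coheight_eq A yp
  constructor
  · rw [ex, ey] at h1
    have h2 : (Order.coheight yp).toNat + 1 ≤ (Order.coheight xp).toNat := by exact_mod_cast h1
    show (((Order.coheight yp).toNat : ℕ) : ℤ) < (((Order.coheight xp).toNat : ℕ) : ℤ)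
    omega
  · intro himm
    have hcov : xp ⋖ yp := by
      refine ⟨hlt, ?_⟩
      intro r h3 h4
      have hr1 : x ⤳ (r : ↥(Spec (CommRingCat.of A))) :=
        (PrimeSpectrum.le_iff_specializes xp r).1 h3.le
      have hr2 : (r : ↥(Spec (CommRingCat.of A))) ⤳ y :=
        (PrimeSpectrum.le_iff_specializes r yp).1 h4.le
      rcases himm r hr1 hr2 with e | e
      · exact h3.ne e.symm
      · exact h4.ne e
    have h5 := CatLoc.coheight_covBy A hA hcov
    rw [ex, ey] at h5
    have h6 : (Order.coheight xp).toNat = (Order.coheight yp).toNat + 1 := by exact_mod_cast h5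
    show (((Order.coheight xp).toNat : ℕ) : ℤ) = (((Order.coheight yp).toNat : ℕ) : ℤ) + 1
    omega

theorem codimPt_le_coheight (y m : ↥(Spec (CommRingCat.of A))) (h : y ⤳ m) :
    Algz.codimPt y m h ≤ Order.coheight (α := PrimeSpectrum A) y := by
  unfold Algz.codimPt
  let f : Set.Ici (Specialization.toEquiv m) → (PrimeSpectrum A)ᵒᵈ :=
    fun a => OrderDual.toDual (Specialization.ofEquiv a.1 : PrimeSpectrum A)
  have hf : StrictMono f := by
    intro a b hab
    have h1 : a.1 < b.1 := hab
    rw [lt_iff_le_not_ge] at h1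
    show (Specialization.ofEquiv b.1 : PrimeSpectrum A) < (Specialization.ofEquiv a.1 : PrimeSpectrum A)
    rw [lt_iff_le_not_ge]
    refine ⟨(PrimeSpectrum.le_iff_specializes _ _).2
      (Specialization.ofEquiv_specializes_ofEquiv.2 h1.1), fun h' => h1.2 ?_⟩
    exact Specialization.ofEquiv_specializes_ofEquiv.1 ((PrimeSpectrum.le_iff_specializes _ _).1 h')
  exact Order.height_le_height_apply_of_strictMono f hf _

theorem ringKrullDim_quotient_eq_coheight (p : PrimeSpectrum A) :
    ringKrullDim (A ⧸ p.asIdeal) = ((Order.coheight p : ℕ∞) : WithBot ℕ∞) := by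
  rw [ringKrullDim_quotient, Order.coheight_eq_krullDim_Ici]
  have : PrimeSpectrum.zeroLocus (R := A) (p.asIdeal : Set A) = Set.Ici p := by
    ext q
    rw [PrimeSpectrum.mem_zeroLocus, Set.mem_Ici, SetLike.coe_subset_coe]
    exact PrimeSpectrum.asIdeal_le_asIdeal p q
  rw [this]

theorem s8815 (hA : CAlg.IsCatenary A) (y : Spec (CommRingCat.of A)) :
    ((Algz.deltaZ ({IsLocalRing.closedPoint A} : Set (Spec (CommRingCat.of A))) y : ℕ∞) :
      WithBot ℕ∞) = ringKrullDim (A ⧸ y.asIdeal) := by
  rw [ringKrullDim_quotient_eq_coheight A y, WithBot.coe_inj]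
  let m : ↥(Spec (CommRingCat.of A)) := IsLocalRing.closedPoint A
  have hym : y ⤳ m := by
    apply (PrimeSpectrum.le_iff_specializes (y : PrimeSpectrum A) (IsLocalRing.closedPoint A)).1
    exact IsLocalRing.le_maximalIdeal y.isPrime.ne_top
  have hZ : IsClosed ({IsLocalRing.closedPoint A} : Set (Spec (CommRingCat.of A))) :=
    IsLocalRing.isClosed_singleton_closedPoint A
  apply le_antisymm
  · have hmem : m ∈ ({IsLocalRing.closedPoint A} : Set (Spec (CommRingCat.of A))) :=
      Set.mem_singleton _
    refine (deltaZ_le_delta (sys0 _ y m hym hmem)).trans ((sys0_delta_le _ y m hym hmem).trans ?_)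
    exact codimPt_le_coheight A y m hym
  · by_cases htop : Algz.deltaZ ({IsLocalRing.closedPoint A} : Set (Spec (CommRingCat.of A))) y = ⊤
    · rw [htop]; exact le_top
    · obtain ⟨n, hn⟩ := ENat.ne_top_iff_exists.1 htop
      obtain ⟨z, hz, hle⟩ := s8814 (Spec (CommRingCat.of A)) _ hZ (specDimFun A)
        (specDimFun_isDimFun A hA) y n hn.symm
      have hz' : z = m := hz
      have h0 : specDimFun A z = 0 := by
        rw [hz']
        show (((Order.coheight (α := PrimeSpectrum A) (IsLocalRing.closedPoint A)).toNat : ℕ) : ℤ) = 0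
        rw [CatLoc.coheight_closedPoint]
        rfl
      rw [h0, add_zero] at hle
      have h1 : (Order.coheight (α := PrimeSpectrum A) y).toNat ≤ n := by
        have : (((Order.coheight (α := PrimeSpectrum A) y).toNat : ℕ) : ℤ) ≤ n := hle
        exact_mod_cast this
      rw [← hn, CatLoc.coheight_eq A y]
      exact_mod_cast h1

end

end Groth.Agent.Helper5.AlgzD
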