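import Mathlib
import Groth.Agent.Helper5.BrSum3
import Groth.Prelude

set_option autoImplicit false
set_option linter.unusedSectionVars false
set_option linter.style.haveILetI false
universe u

namespace Groth.Agent.Helper5.UnrGu

open Groth.Agent.Helper5.BrSum (iota)

/-- a normal local domain is geometrically unibranch -/
theorem gu_of_normal (A : Type u) [CommRing A] [IsLocalRing A] [IsDomain A] [IsIntegrallyClosed A] :
    CAlg2.IsGeomUnibranch A := by
  have hnil : nilradical A = ⊥ := nilradical_eq_zero A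
  have hbij : Function.Bijective (Ideal.Quotient.mk (nilradical A)) := by
    refine ⟨?_, Ideal.Quotient.mk_surjective⟩
    rw [injective_iff_map_eq_zero]
    intro a ha
    rw [Ideal.Quotient.eq_zero_iff_mem, hnil] at ha
    exact ha
  let e : A ≃+* CAlg2.red A := RingEquiv.ofBijective _ hbij
  haveI : IsDomain (CAlg2.red A) := e.symm.toMulEquiv.isDomain
  haveI : IsIntegrallyClosed (CAlg2.red A) := IsIntegrallyClosed.of_equiv e
  have hbot : integralClosure (CAlg2.red A) (FractionRing (CAlg2.red A)) = ⊥ :=
    IsIntegrallyClosed.integralClosure_eq_bot _ _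
  have hsurj : Function.Surjective (iota A) := by
    intro n
    obtain ⟨x, hx⟩ := n
    have hx' : x ∈ (⊥ : Subalgebra (CAlg2.red A) (FractionRing (CAlg2.red A))) := hbot ▸ hx
    rw [Algebra.mem_bot] at hx'
    obtain ⟨r, hr⟩ := hx'
    obtain ⟨a, rfl⟩ := Ideal.Quotient.mk_surjective r
    exact ⟨a, Subtype.ext hr⟩
  haveI : Nontrivial (CAlg2.normRed A) := inferInstance
  refine ⟨⟨inferInstance, ?_⟩, ?_⟩
  · exact IsLocalRing.of_surjective' (iota A) hsurj
  · intro m' hm' x
    obtain ⟨n, rfl⟩ := Ideal.Quotient.mk_surjective x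
    obtain ⟨a, rfl⟩ := hsurj n
    exact ⟨0, a, by rw [pow_zero, pow_one]; rfl⟩

end Groth.Agent.Helper5.UnrGu
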