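import Mathlib
import Groth.Agent.Helper5.LocInt2
import Groth.Agent.Helper5.UnrGu4
import Groth.Agent.Helper5.GuNormal
import Groth.Agent.Helper5.NeronEt3
import Groth.Prelude

set_option autoImplicit false
set_option linter.unusedSectionVars false
set_option linter.style.haveILetI false
universe u

open AlgebraicGeometry CategoryTheory Limits TopologicalSpace

namespace Groth.Agent.Helper5.Aligned

open Groth.Agent.Helper5.UnrGu Groth.Agent.Helper5.GuBir Groth.Agent.Helper5.NeronEt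
  Groth.Agent.Helper5.BirBC

/-- étaleness near a point can be checked after restricting the target to an open -/
theorem exists_etale_nhd_of_restrict {X Y : Scheme.{u}} (f : X ⟶ Y) (V : Y.Opens) (x : X)
    (hx : x ∈ f ⁻¹ᵁ V)
    (h : ∃ U' : (f ⁻¹ᵁ V : Scheme.{u}).Opens, (⟨x, hx⟩ : ↥(f ⁻¹ᵁ V)) ∈ U' ∧
      Etale (U'.ι ≫ f ∣_ V)) :
    ∃ U : X.Opens, x ∈ U ∧ Etale (U.ι ≫ f) := by
  obtain ⟨U', hxU', hU'⟩ := h
  refine ⟨(f ⁻¹ᵁ V).ι ''ᵁ U', ⟨⟨x, hx⟩, hxU', rfl⟩, ?_⟩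
  have h1 : ((f ⁻¹ᵁ V).ι ''ᵁ U').ι ≫ f =
      ((f ⁻¹ᵁ V).ι.isoImage U').inv ≫ (U'.ι ≫ f ∣_ V) ≫ V.ι := by
    rw [Category.assoc, morphismRestrict_ι, ← Scheme.Hom.isoImage_inv_ι_assoc]
  rw [h1]
  infer_instance

/-- normal stalk of an open subscheme -/
theorem gu_stalk_opens {S : Scheme.{u}} (hS : Pi1.IsNormalScheme S) (V : S.Opens)
    (v : (V : Scheme.{u})) : CAlg2.IsGeomUnibranch ((V : Scheme.{u}).presheaf.stalk v) := by
  obtain ⟨hd, hn⟩ := hS (V.ι v)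
  let e : S.presheaf.stalk (V.ι v) ≃+* (V : Scheme.{u}).presheaf.stalk v :=
    (asIso (V.ι.stalkMap v)).commRingCatIsoToRingEquiv
  haveI : IsDomain ((V : Scheme.{u}).presheaf.stalk v) := e.symm.toMulEquiv.isDomain
  haveI : IsIntegrallyClosed ((V : Scheme.{u}).presheaf.stalk v) := IsIntegrallyClosed.of_equiv e
  exact gu_of_normal _

end Groth.Agent.Helper5.Aligned
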