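import Mathlib
import Groth.Agent.Helper5.Aligned1
import Groth.Prelude

set_option autoImplicit false
set_option linter.unusedSectionVars false
set_option linter.style.haveILetI false
universe u

open AlgebraicGeometry CategoryTheory Limits TopologicalSpace

namespace Groth.Agent.Helper5.Aligned

open Groth.Agent.Helper5.UnrGu Groth.Agent.Helper5.GuBir Groth.Agent.Helper5.NeronEt
  Groth.Agent.Helper5.BirBC Groth.Agent.Helper5.LocInt

theorem s13424 {S : Scheme.{u}} [IsLocallyNoetherian S] (hS : Pi1.IsNormalScheme S)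
    {G H : Scheme.{u}} (p : G ⟶ S) (q : H ⟶ S) [Smooth p] [Smooth q]
    (eG : S ⟶ G) (eH : S ⟶ H) (heG : eG ≫ p = 𝟙 S)
    (f : G ⟶ H) [Etale f] (hf : f ≫ q = p) (hfe : eG ≫ f = eH)
    (hH : Etale (eH.ker.subschemeι ≫ q)) :
    Etale (eG.ker.subschemeι ≫ p) := by
  -- notation
  let ιG : eG.image ⟶ G := eG.imageι
  let ιH : eH.image ⟶ H := eH.imageι
  let g : eG.image ⟶ S := ιG ≫ p
  show Etale g
  -- quasi-compactness of the section
  haveI : IsLocallyNoetherian G := LocallyOfFiniteType.isLocallyNoetherian p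
  haveI : QuasiCompact (eG ≫ p) := by rw [heG]; infer_instance
  haveI : QuasiCompact eG := QuasiCompact.of_comp eG p
  -- the auxiliary étale S-scheme T
  let T := pullback ιH f
  let t : S ⟶ T := pullback.lift eH.toImage eG (by rw [Scheme.Hom.toImage_imageι, hfe])
  have ht : t ≫ pullback.snd ιH f = eG := pullback.lift_snd _ _ _
  have hle : (pullback.snd ιH f).ker ≤ eG.ker := by
    have := Scheme.Hom.le_ker_comp t (pullback.snd ιH f)
    rwa [ht] at this
  let j : eG.image ⟶ T := Scheme.IdealSheafData.inclusion hle ≫ inv (pullback.snd ιH f).toImage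
  have hj : j ≫ pullback.snd ιH f = ιG := by
    have h1 : inv (pullback.snd ιH f).toImage ≫ pullback.snd ιH f = (pullback.snd ιH f).imageι := by
      rw [IsIso.inv_comp_eq, Scheme.Hom.toImage_imageι]
    simp only [j, Category.assoc, h1]
    exact Scheme.IdealSheafData.inclusion_subschemeι hle
  haveI : Mono j := mono_of_mono_fac hj
  haveI : IsIso (pullback.diagonal j) := (pullback.isIso_diagonal_iff j).2 inferInstance
  haveI : FormallyUnramified j := inferInstance
  have hg : g = j ≫ pullback.fst ιH f ≫ ιH ≫ q := by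
    show ιG ≫ p = _
    rw [← hj, ← hf, pullback.condition_assoc, Category.assoc]
  haveI : Etale (ιH ≫ q) := hH
  haveI : FormallyUnramified g := by
    rw [hg]
    exact MorphismProperty.comp_mem _ _ _ (inferInstance : FormallyUnramified j)
      (inferInstance : FormallyUnramified (pullback.fst ιH f ≫ ιH ≫ q))
  haveI : LocallyOfFiniteType g := inferInstance
  -- the section through the image
  have hsec : eG.toImage ≫ g = 𝟙 S := by
    show eG.toImage ≫ ιG ≫ p = _
    rw [Scheme.Hom.toImage_imageι_assoc, heG]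
  -- local étaleness
  have hloc : ∀ c : eG.image, ∃ U : eG.image.Opens, c ∈ U ∧ Etale (U.ι ≫ g) := by
    intro c
    obtain ⟨ζ, hζ, hζc⟩ := exists_generic_specializes c
    obtain ⟨s₀, hs₀⟩ := mem_range_of_mem_genericPoints eG.toImage ζ hζ
    have hgζ : g ζ = s₀ := by
      rw [← hs₀, ← Scheme.Hom.comp_apply, hsec]; rfl
    rw [mem_genericPoints_iff] at hζ
    obtain ⟨V, hsV, hVint⟩ := exists_isIntegral_nhd S (fun x => (hS x).1) (g c)
    have hs₀V : s₀ ∈ V := by
      have h1 : s₀ ⤳ g c := hgζ ▸ hζc.map g.continuous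
      exact h1.mem_open V.isOpen hsV
    -- the generic point of V is s₀
    have hη : (genericPoint (V : Scheme.{u})).1 = s₀ := by
      have h1 : genericPoint (V : Scheme.{u}) ⤳ (⟨s₀, hs₀V⟩ : (V : Scheme.{u})) :=
        genericPoint_specializes _
      have h2 : (genericPoint (V : Scheme.{u})).1 ⤳ s₀ := h1.map continuous_subtype_val
      have h3 : eG.toImage (genericPoint (V : Scheme.{u})).1 ⤳ ζ :=
        hs₀ ▸ h2.map eG.toImage.continuous
      have h4 := hζ _ h3
      have h5 : g (eG.toImage (genericPoint (V : Scheme.{u})).1) = g ζ := by rw [h4]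
      rw [← Scheme.Hom.comp_apply, hsec, hgζ] at h5
      exact h5
    have hcV : c ∈ g ⁻¹ᵁ V := hsV
    have hζV : ζ ∈ g ⁻¹ᵁ V := by
      show g ζ ∈ V
      rw [hgζ]; exact hs₀V
    refine exists_etale_nhd_of_restrict g V c hcV ?_
    haveI : FormallyUnramified (g ∣_ V) :=
      MorphismProperty.of_isPullback (P := @FormallyUnramified)
        (isPullback_morphismRestrict g V).flip inferInstance
    refine s1451 (g ∣_ V) ⟨c, hcV⟩ (gu_stalk_opens hS V _) ⟨⟨ζ, hζV⟩, ?_, ?_⟩
      ⟨⊤, trivial, MorphismProperty.comp_mem _ _ _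
        (inferInstance : FormallyUnramified (⊤ : (g ⁻¹ᵁ V : Scheme.{u}).Opens).ι) inferInstance⟩
    · exact (subtype_specializes_iff _ _).2 hζc
    · apply Subtype.ext
      rw [morphismRestrict_base_coe, hη]
      exact hgζ
  choose U hcU hU using hloc
  rw [IsZariskiLocalAtSource.iff_of_iSup_eq_top (P := @Etale) U]
  · exact hU
  · rw [eq_top_iff]
    rintro c -
    exact Opens.mem_iSup.2 ⟨c, hcU c⟩

end Groth.Agent.Helper5.Aligned
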