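import Mathlib

/-!
# Helper5: the algebra behind "closedness over all affine spaces implies universal closedness"
-/

set_option autoImplicit false
universe u
open TensorProduct

namespace Groth.Agent.Helper5.AnCl

/-- If no prime over `J` lies over `p`, some `g ∉ p` maps into `J + p·BC`. -/
theorem exists_not_mem_of_fibre_empty {C BC : Type*} [CommRing C] [CommRing BC] (ι : C →+* BC)
    (J : Ideal BC) (p : Ideal C) [hp : p.IsPrime]
    (h : ∀ q : Ideal BC, q.IsPrime → J ≤ q → q.comap ι ≠ p) :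
    ∃ g : C, g ∉ p ∧ ι g ∈ J ⊔ p.map ι := by
  by_contra hcon
  push_neg at hcon
  let M : Submonoid BC := (p.primeCompl).map ι
  have hdisj : Disjoint ((J ⊔ p.map ι : Ideal BC) : Set BC) (M : Set BC) := by
    rw [Set.disjoint_left]
    rintro x hx ⟨g, hg, rfl⟩
    exact hcon g hg hx
  obtain ⟨q, hq, hIq, hqM⟩ := Ideal.exists_le_prime_disjoint _ M hdisj
  refine h q hq (le_sup_left.trans hIq) ?_
  apply le_antisymm
  · intro x hx
    by_contra hxp
    exact (Set.disjoint_left.mp hqM) hx ⟨x, hxp, rfl⟩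
  · intro x hx
    exact hIq (Ideal.mem_sup_right (Ideal.mem_map_of_mem ι hx))

variable {R B C : Type u} [CommRing R] [CommRing B] [CommRing C] [Algebra R B] [Algebra R C]

theorem exists_repr_aux (p : Ideal C) (w : B ⊗[R] (p.restrictScalars R)) :
    ∃ (m : ℕ) (b : Fin m → B) (π : Fin m → C), (∀ i, π i ∈ p) ∧
      LinearMap.lTensor B (Submodule.subtype (p.restrictScalars R)) w = ∑ i, b i ⊗ₜ[R] π i := by
  induction w using TensorProduct.induction_on with
  | zero => exact ⟨0, Fin.elim0, Fin.elim0, fun i => i.elim0, by simp⟩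
  | tmul b π =>
    refine ⟨1, fun _ => b, fun _ => (π : C), fun _ => π.2, ?_⟩
    simp
  | add w₁ w₂ h₁ h₂ =>
    obtain ⟨m₁, b₁, π₁, hπ₁, e₁⟩ := h₁
    obtain ⟨m₂, b₂, π₂, hπ₂, e₂⟩ := h₂
    refine ⟨m₁ + m₂, Fin.append b₁ b₂, Fin.append π₁ π₂, ?_, ?_⟩
    · intro i
      refine Fin.addCases (fun i => ?_) (fun i => ?_) i
      · simpa using hπ₁ i
      · simpa using hπ₂ i
    · rw [map_add, e₁, e₂, Fin.sum_univ_add]
      simp

/-- Elements of the extension of `p` to `B ⊗ C` are finite sums `∑ bᵢ ⊗ πᵢ` with `πᵢ ∈ p`. -/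
theorem exists_repr_of_mem_map (p : Ideal C) (y : B ⊗[R] C)
    (hy : y ∈ p.map (Algebra.TensorProduct.includeRight : C →ₐ[R] B ⊗[R] C)) :
    ∃ (m : ℕ) (b : Fin m → B) (π : Fin m → C), (∀ i, π i ∈ p) ∧ y = ∑ i, b i ⊗ₜ[R] π i := by
  have h1 : y ∈ (p.map (Algebra.TensorProduct.includeRight : C →ₐ[R] B ⊗[R] C)).restrictScalars R :=
    hy
  rw [Ideal.map_includeRight_eq] at h1
  obtain ⟨w, rfl⟩ := h1
  exact exists_repr_aux p w

/-- the test map `R[x₀,…,x_m] → C`, `x₀ ↦ g`, `x_{i+1} ↦ πᵢ` -/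
noncomputable def testHom (m : ℕ) (g : C) (π : Fin m → C) :
    MvPolynomial (ULift.{u} (Fin (m + 1))) R →ₐ[R] C :=
  MvPolynomial.aeval (fun i => (Fin.cons g π : Fin (m + 1) → C) i.down)

theorem alg_core (J : Ideal (B ⊗[R] C)) (p : Ideal C) [hp : p.IsPrime]
    (h : ∀ q : Ideal (B ⊗[R] C), q.IsPrime → J ≤ q →
      q.comap (Algebra.TensorProduct.includeRight : C →ₐ[R] B ⊗[R] C) ≠ p) :
    ∃ (n : ℕ) (φ : MvPolynomial (ULift.{u} (Fin n)) R →ₐ[R] C),
      ∀ q : Ideal (B ⊗[R] MvPolynomial (ULift.{u} (Fin n)) R), q.IsPrime →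
        J.comap (Algebra.TensorProduct.map (AlgHom.id R B) φ) ≤ q →
        q.comap (Algebra.TensorProduct.includeRight :
          MvPolynomial (ULift.{u} (Fin n)) R →ₐ[R] B ⊗[R] MvPolynomial (ULift.{u} (Fin n)) R) ≠
          p.comap φ := by
  obtain ⟨g, hg, hgI⟩ := exists_not_mem_of_fibre_empty
    ((Algebra.TensorProduct.includeRight : C →ₐ[R] B ⊗[R] C) : C →+* B ⊗[R] C) J p h
  obtain ⟨j, hj, y, hy, hjy⟩ := Submodule.mem_sup.mp hgI
  obtain ⟨m, b, π, hπ, rfl⟩ := exists_repr_of_mem_map p y hy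
  refine ⟨m + 1, testHom m g π, ?_⟩
  intro q hq hJq hcomap
  apply hg
  let X : Fin (m + 1) → MvPolynomial (ULift.{u} (Fin (m + 1))) R := fun i => MvPolynomial.X (ULift.up i)
  have hX0 : testHom (R := R) m g π (X 0) = g := by simp [testHom, X]
  have hXs : ∀ i : Fin m, testHom (R := R) m g π (X i.succ) = π i := by
    intro i; simp [testHom, X]
  let jt : B ⊗[R] MvPolynomial (ULift.{u} (Fin (m + 1))) R :=
    (1 : B) ⊗ₜ[R] X 0 - ∑ i : Fin m, b i ⊗ₜ[R] X i.succ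
  have hjt : Algebra.TensorProduct.map (AlgHom.id R B) (testHom m g π) jt = j := by
    have h0 : (1 : B) ⊗ₜ[R] g = j + ∑ i, b i ⊗ₜ[R] π i := by
      rw [hjy]; rfl
    simp only [jt, map_sub, map_sum, Algebra.TensorProduct.map_tmul, AlgHom.coe_id, id_eq, hX0,
      hXs, h0]
    ring
  have hjtq : jt ∈ q := hJq (by rw [Ideal.mem_comap, hjt]; exact hj)
  have hs : ∀ i : Fin m, b i ⊗ₜ[R] X i.succ ∈ q := by
    intro i
    have h1 : X i.succ ∈ p.comap (testHom (R := R) m g π) := by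
      rw [Ideal.mem_comap, hXs]; exact hπ i
    rw [← hcomap, Ideal.mem_comap] at h1
    have h2 : b i ⊗ₜ[R] X i.succ = (b i ⊗ₜ[R] (1 : MvPolynomial (ULift.{u} (Fin (m + 1))) R)) *
        ((1 : B) ⊗ₜ[R] X i.succ) := by
      rw [Algebra.TensorProduct.tmul_mul_tmul, mul_one, one_mul]
    rw [h2]
    exact Ideal.mul_mem_left _ _ h1
  have h0q : (1 : B) ⊗ₜ[R] X 0 ∈ q := by
    have : (1 : B) ⊗ₜ[R] X 0 = jt + ∑ i : Fin m, b i ⊗ₜ[R] X i.succ := by
      simp only [jt]; ring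
    rw [this]
    exact Ideal.add_mem _ hjtq (Ideal.sum_mem _ (fun i _ => hs i))
  have h3 : X 0 ∈ p.comap (testHom (R := R) m g π) := by
    rw [← hcomap, Ideal.mem_comap]; exact h0q
  rw [Ideal.mem_comap, hX0] at h3
  exact h3

end Groth.Agent.Helper5.AnCl
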