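import Groth.Prelude.Def_AlgSp4
import Groth.Agent.Helper4.UB1
import Groth.Agent.Helper4.AlgSpPtsDesc
import Groth.Agent.Helper4.AlgSpPts
import Groth.Agent.Helper4.AlgSpQC
import Groth.Agent.Helper4.AlgSpQC2
import Groth.Agent.Helper5.AnCl1
import Mathlib

/-!
# Helper5: spectra of algebras over a fixed affine base, as schemes over `S`
-/

set_option autoImplicit false
universe u
open CategoryTheory CategoryTheory.Limits AlgebraicGeometry Opposite TensorProduct

namespace Groth.Agent.Helper5.AnCl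

open AlgSp

variable {S : Scheme.{u}} {R : Type u} [CommRing R] (σ : Spec (CommRingCat.of R) ⟶ S)

/-- `Spec C` over `S`, for an `R`-algebra `C`. -/
noncomputable abbrev specOver (C : Type u) [CommRing C] [Algebra R C] : Over S :=
  Over.mk (Spec.map (CommRingCat.ofHom (algebraMap R C)) ≫ σ)

/-- The structure morphism `Spec C ⟶ Spec R` over `S`. -/
noncomputable abbrev toBase (C : Type u) [CommRing C] [Algebra R C] :
    specOver σ C ⟶ Over.mk σ :=
  Over.homMk (Spec.map (CommRingCat.ofHom (algebraMap R C))) rfl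

/-- Functoriality of `specOver`. -/
noncomputable def specMap {C₁ C₂ : Type u} [CommRing C₁] [CommRing C₂] [Algebra R C₁]
    [Algebra R C₂] (φ : C₁ →ₐ[R] C₂) : specOver σ C₂ ⟶ specOver σ C₁ :=
  Over.homMk (Spec.map (CommRingCat.ofHom φ.toRingHom)) (by
    change Spec.map _ ≫ Spec.map _ ≫ σ = Spec.map _ ≫ σ
    have h : φ.toRingHom.comp (algebraMap R C₁) = algebraMap R C₂ := RingHom.ext φ.commutes
    rw [← Category.assoc, ← Spec.map_comp, ← CommRingCat.ofHom_comp, h])

variable {C₁ C₂ : Type u} [CommRing C₁] [CommRing C₂] [Algebra R C₁] [Algebra R C₂]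

@[simp] theorem specMap_left (φ : C₁ →ₐ[R] C₂) :
    (specMap σ φ).left = Spec.map (CommRingCat.ofHom φ.toRingHom) := rfl

theorem specMap_toBase (φ : C₁ →ₐ[R] C₂) : specMap σ φ ≫ toBase σ C₁ = toBase σ C₂ := by
  ext
  change Spec.map _ ≫ Spec.map _ = Spec.map _
  have h : φ.toRingHom.comp (algebraMap R C₁) = algebraMap R C₂ := RingHom.ext φ.commutes
  rw [← Spec.map_comp, ← CommRingCat.ofHom_comp, h]

theorem specMap_left_apply (φ : C₁ →ₐ[R] C₂) (x : PrimeSpectrum C₂) :
    (specMap σ φ).left x = PrimeSpectrum.comap φ.toRingHom x := rfl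

theorem specMap_comp {C₃ : Type u} [CommRing C₃] [Algebra R C₃] (φ : C₁ →ₐ[R] C₂)
    (ψ : C₂ →ₐ[R] C₃) : specMap σ (ψ.comp φ) = specMap σ ψ ≫ specMap σ φ := by
  ext
  change Spec.map _ = Spec.map _ ≫ Spec.map _
  rw [← Spec.map_comp, ← CommRingCat.ofHom_comp]
  rfl

variable (B C : Type u) [CommRing B] [CommRing C] [Algebra R B] [Algebra R C]

theorem isPullback_tensor :
    IsPullback (specMap σ (Algebra.TensorProduct.includeLeft : B →ₐ[R] B ⊗[R] C))
      (specMap σ (Algebra.TensorProduct.includeRight : C →ₐ[R] B ⊗[R] C))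
      (toBase σ B) (toBase σ C) := by
  apply Groth.Agent.Helper4.UB1.isPullback_of_left
  · rw [specMap_toBase, specMap_toBase]
  · exact isPullback_SpecMap_of_isPushout _ _ _ _ (CommRingCat.isPushout_tensorProduct R B C)

end Groth.Agent.Helper5.AnCl
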