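import Groth.Agent.Helper5.AnCl2
import Mathlib

/-!
# Helper5: charts of base changes to spectra of algebras
-/

set_option autoImplicit false
universe u
open CategoryTheory CategoryTheory.Limits AlgebraicGeometry Opposite TensorProduct

namespace Groth.Agent.Helper5.AnCl

open AlgSp

variable {S : Scheme.{u}} {R : Type u} [CommRing R] (σ : Spec (CommRingCat.of R) ⟶ S)
variable {X Y XV : Sp S} {f : X ⟶ Y} {p : (yon S).obj (Over.mk σ) ⟶ Y}
  {π₁ : XV ⟶ X} {π₂ : XV ⟶ (yon S).obj (Over.mk σ)} (sqV : IsPullback π₁ π₂ f p)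
  {B : Type u} [CommRing B] [Algebra R B] {a : (yon S).obj (specOver σ B) ⟶ XV}
  (haπ : a ≫ π₂ = (yon S).map (toBase σ B))

include sqV haπ in
/-- The chart of a base change to `Spec C` induced by the chart `a` of the base change to `Spec R`. -/
theorem exists_chart (C : Type u) [CommRing C] [Algebra R C] {P : Sp S} {fst : P ⟶ X}
    {snd : P ⟶ (yon S).obj (specOver σ C)}
    (sq : IsPullback fst snd f ((yon S).map (toBase σ C) ≫ p)) :
    ∃ (m : P ⟶ XV) (aP : (yon S).obj (specOver σ (B ⊗[R] C)) ⟶ P),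
      m ≫ π₁ = fst ∧ m ≫ π₂ = snd ≫ (yon S).map (toBase σ C) ∧
      aP ≫ snd = (yon S).map (specMap σ (Algebra.TensorProduct.includeRight : C →ₐ[R] B ⊗[R] C)) ∧
      IsPullback aP ((yon S).map (specMap σ (Algebra.TensorProduct.includeLeft : B →ₐ[R] B ⊗[R] C)))
        m a := by
  have hm_comm : fst ≫ f = (snd ≫ (yon S).map (toBase σ C)) ≫ p := by
    rw [sq.w, Category.assoc]
  let m := sqV.lift fst (snd ≫ (yon S).map (toBase σ C)) hm_comm
  have hm1 : m ≫ π₁ = fst := sqV.lift_fst _ _ _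
  have hm2 : m ≫ π₂ = snd ≫ (yon S).map (toBase σ C) := sqV.lift_snd _ _ _
  have sqR : IsPullback m snd π₂ ((yon S).map (toBase σ C)) := by
    refine IsPullback.of_right ?_ hm2 sqV
    rw [hm1]
    exact sq
  have hT := Groth.Agent.Helper4.UB1.isPullback_yon_map (isPullback_tensor σ B C)
  have hcomm : ((yon S).map (specMap σ (Algebra.TensorProduct.includeLeft : B →ₐ[R] B ⊗[R] C)) ≫ a) ≫
      π₂ = (yon S).map (specMap σ (Algebra.TensorProduct.includeRight : C →ₐ[R] B ⊗[R] C)) ≫
        (yon S).map (toBase σ C) := by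
    rw [Category.assoc, haπ, hT.w]
  let aP := sqR.lift _ _ hcomm
  have ha1 : aP ≫ m = (yon S).map (specMap σ (Algebra.TensorProduct.includeLeft : B →ₐ[R] B ⊗[R] C)) ≫
      a := sqR.lift_fst _ _ _
  have ha2 : aP ≫ snd = (yon S).map (specMap σ (Algebra.TensorProduct.includeRight : C →ₐ[R] B ⊗[R] C)) :=
    sqR.lift_snd _ _ _
  refine ⟨m, aP, hm1, hm2, ha2, ?_⟩
  -- left cancellation: the outer rectangle is `hT`, the right square is `sqR`
  have h3 : IsPullback (aP ≫ snd)
      ((yon S).map (specMap σ (Algebra.TensorProduct.includeLeft : B →ₐ[R] B ⊗[R] C)))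
      ((yon S).map (toBase σ C)) (a ≫ π₂) := by
    rw [ha2, haπ]
    exact hT.flip
  exact IsPullback.of_right h3 ha1 sqR.flip

include sqV in
/-- Compatibility of the induced charts with a change of algebra. -/
theorem chart_square {C C' : Type u} [CommRing C] [Algebra R C] [CommRing C'] [Algebra R C']
    (φ : C' →ₐ[R] C)
    {P : Sp S} {fst : P ⟶ X} {snd : P ⟶ (yon S).obj (specOver σ C)}
    {P' : Sp S} {fst' : P' ⟶ X} {snd' : P' ⟶ (yon S).obj (specOver σ C')}
    (sq' : IsPullback fst' snd' f ((yon S).map (toBase σ C') ≫ p))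
    (k : P ⟶ P') (hk1 : k ≫ fst' = fst) (hk2 : k ≫ snd' = snd ≫ (yon S).map (specMap σ φ))
    (m : P ⟶ XV) (aP : (yon S).obj (specOver σ (B ⊗[R] C)) ⟶ P)
    (hm1 : m ≫ π₁ = fst) (hm2 : m ≫ π₂ = snd ≫ (yon S).map (toBase σ C))
    (ha2 : aP ≫ snd =
      (yon S).map (specMap σ (Algebra.TensorProduct.includeRight : C →ₐ[R] B ⊗[R] C)))
    (hpb : IsPullback aP
      ((yon S).map (specMap σ (Algebra.TensorProduct.includeLeft : B →ₐ[R] B ⊗[R] C))) m a)
    (m' : P' ⟶ XV) (aP' : (yon S).obj (specOver σ (B ⊗[R] C')) ⟶ P')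
    (hm1' : m' ≫ π₁ = fst') (hm2' : m' ≫ π₂ = snd' ≫ (yon S).map (toBase σ C'))
    (ha2' : aP' ≫ snd' =
      (yon S).map (specMap σ (Algebra.TensorProduct.includeRight : C' →ₐ[R] B ⊗[R] C')))
    (hpb' : IsPullback aP'
      ((yon S).map (specMap σ (Algebra.TensorProduct.includeLeft : B →ₐ[R] B ⊗[R] C'))) m' a) :
    IsPullback aP ((yon S).map (specMap σ (Algebra.TensorProduct.map (AlgHom.id R B) φ))) k aP' := by
  have hkm : k ≫ m' = m := by
    apply sqV.hom_ext
    · rw [Category.assoc, hm1', hk1, hm1]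
    · rw [Category.assoc, hm2', ← Category.assoc, hk2, Category.assoc, ← Functor.map_comp,
        specMap_toBase, hm2]
  have hl : specMap σ (Algebra.TensorProduct.map (AlgHom.id R B) φ) ≫
      specMap σ (Algebra.TensorProduct.includeLeft : B →ₐ[R] B ⊗[R] C') =
      specMap σ (Algebra.TensorProduct.includeLeft : B →ₐ[R] B ⊗[R] C) := by
    rw [← specMap_comp]
    congr 1
    ext b <;> simp
  have hr : specMap σ (Algebra.TensorProduct.map (AlgHom.id R B) φ) ≫
      specMap σ (Algebra.TensorProduct.includeRight : C' →ₐ[R] B ⊗[R] C') =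
      specMap σ (Algebra.TensorProduct.includeRight : C →ₐ[R] B ⊗[R] C) ≫ specMap σ φ := by
    rw [← specMap_comp, ← specMap_comp]
    congr 1
  have hcomm : aP ≫ k = (yon S).map (specMap σ (Algebra.TensorProduct.map (AlgHom.id R B) φ)) ≫
      aP' := by
    apply sq'.hom_ext
    · calc (aP ≫ k) ≫ fst' = (aP ≫ m) ≫ π₁ := by rw [Category.assoc, hk1, Category.assoc, hm1]
        _ = (yon S).map (specMap σ (Algebra.TensorProduct.includeLeft : B →ₐ[R] B ⊗[R] C)) ≫
              a ≫ π₁ := by rw [hpb.w, Category.assoc]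
        _ = ((yon S).map (specMap σ (Algebra.TensorProduct.map (AlgHom.id R B) φ)) ≫
              (yon S).map (specMap σ (Algebra.TensorProduct.includeLeft : B →ₐ[R] B ⊗[R] C'))) ≫
              a ≫ π₁ := by rw [← Functor.map_comp, hl]
        _ = (yon S).map (specMap σ (Algebra.TensorProduct.map (AlgHom.id R B) φ)) ≫
              (aP' ≫ m') ≫ π₁ := by rw [hpb'.w]; simp only [Category.assoc]
        _ = _ := by rw [Category.assoc, hm1', Category.assoc]
    · rw [Category.assoc, hk2, ← Category.assoc, ha2, Category.assoc, ha2', ← Functor.map_comp,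
        ← Functor.map_comp, hr]
  refine IsPullback.of_bot ?_ hcomm hpb'
  rw [hkm, ← Functor.map_comp, hl]
  exact hpb

end Groth.Agent.Helper5.AnCl
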