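import Groth.Agent.Helper5.AnCl3
import Groth.Agent.Helper4.AlgSpPB
import Mathlib

/-!
# Helper5: closedness over polynomial rings implies closedness over all algebras
-/

set_option autoImplicit false
universe u
open CategoryTheory CategoryTheory.Limits AlgebraicGeometry Opposite TensorProduct

namespace Groth.Agent.Helper5.AnCl

open AlgSp Groth.Agent.Helper4.AlgSpPtsDesc

variable {S : Scheme.{u}} {R : Type u} [CommRing R] (σ : Spec (CommRingCat.of R) ⟶ S)

set_option maxHeartbeats 800000 in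
set_option backward.isDefEq.respectTransparency.types false in
theorem core {X Y : Sp S} (hX : IsAlgSpace X) (hY : IsAlgSpace Y) (f : X ⟶ Y)
    (p : (yon S).obj (Over.mk σ) ⟶ Y)
    {XV : Sp S} (π₁ : XV ⟶ X) (π₂ : XV ⟶ (yon S).obj (Over.mk σ)) (sqV : IsPullback π₁ π₂ f p)
    (B : Type u) [CommRing B] [Algebra R B] (a : (yon S).obj (specOver σ B) ⟶ XV)
    (hae : RepWith @Etale a) (has : RepWith @Surjective a)
    (haπ : a ≫ π₂ = (yon S).map (toBase σ B))
    (H : ∀ (n : ℕ) (P : Sp S) (fst : P ⟶ X)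
      (snd : P ⟶ (yon S).obj (specOver σ (MvPolynomial (ULift.{u} (Fin n)) R))),
      IsPullback fst snd f ((yon S).map (toBase σ (MvPolynomial (ULift.{u} (Fin n)) R)) ≫ p) →
        IsClosedMap (Points.map snd))
    (C : Type u) [CommRing C] [Algebra R C] (P : Sp S) (fst : P ⟶ X)
    (snd : P ⟶ (yon S).obj (specOver σ C))
    (sq : IsPullback fst snd f ((yon S).map (toBase σ C) ≫ p)) :
    IsClosedMap (Points.map snd) := by
  have i1 := repWith_isStableUnderBaseChange (S := S) @Etale
  have i2 := repWith_isStableUnderBaseChange (S := S) @Surjective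
  intro T hT
  obtain ⟨m, aP, hm1, hm2, ha2, hpb⟩ := exists_chart σ sqV haπ C sq
  let hC := Points.schemeHomeo (specOver σ C)
  let hU := Points.schemeHomeo (specOver σ (B ⊗[R] C))
  rw [← hC.isClosed_preimage, ← isOpen_compl_iff, isOpen_iff_forall_mem_open]
  intro z hz
  let TU : Set (PrimeSpectrum (B ⊗[R] C)) := hU ⁻¹' (Points.map aP ⁻¹' T)
  have hTU : IsClosed TU := (hT.preimage (Points.continuous_map aP)).preimage hU.continuous
  let J : Ideal (B ⊗[R] C) := PrimeSpectrum.vanishingIdeal TU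
  have hJ : PrimeSpectrum.zeroLocus (J : Set (B ⊗[R] C)) = TU := by
    rw [PrimeSpectrum.zeroLocus_vanishingIdeal_eq_closure, hTU.closure_eq]
  have hfib : ∀ q : Ideal (B ⊗[R] C), q.IsPrime → J ≤ q →
      q.comap (Algebra.TensorProduct.includeRight : C →ₐ[R] B ⊗[R] C) ≠
        (z : PrimeSpectrum C).asIdeal := by
    intro q hq hJq heq
    apply hz
    let u : PrimeSpectrum (B ⊗[R] C) := ⟨q, hq⟩
    have hu : u ∈ TU := by rw [← hJ]; exact hJq
    refine ⟨Points.map aP (hU u), hu, ?_⟩
    rw [← Points.map_comp, ha2, Points.map_yon_map_apply]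
    congr 1
    exact PrimeSpectrum.ext heq
  obtain ⟨n, φ, hφ⟩ := alg_core J (z : PrimeSpectrum C).asIdeal hfib
  let P'' := pullback f ((yon S).map (toBase σ (MvPolynomial (ULift.{u} (Fin n)) R)) ≫ p)
  let fst'' : P'' ⟶ X := pullback.fst _ _
  let snd'' : P'' ⟶ (yon S).obj (specOver σ (MvPolynomial (ULift.{u} (Fin n)) R)) :=
    pullback.snd _ _
  have sq'' : IsPullback fst'' snd'' f
      ((yon S).map (toBase σ (MvPolynomial (ULift.{u} (Fin n)) R)) ≫ p) :=
    IsPullback.of_hasPullback _ _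
  have hcl := H n P'' fst'' snd'' sq''
  have hkc : fst ≫ f = (snd ≫ (yon S).map (specMap σ φ)) ≫
      (yon S).map (toBase σ (MvPolynomial (ULift.{u} (Fin n)) R)) ≫ p := by
    rw [sq.w, Category.assoc, ← Category.assoc ((yon S).map (specMap σ φ)), ← Functor.map_comp,
      specMap_toBase]
  let k := sq''.lift fst (snd ≫ (yon S).map (specMap σ φ)) hkc
  have hk1 : k ≫ fst'' = fst := sq''.lift_fst _ _ _
  have hk2 : k ≫ snd'' = snd ≫ (yon S).map (specMap σ φ) := sq''.lift_snd _ _ _
  obtain ⟨m'', aP'', hm1'', hm2'', ha2'', hpb''⟩ :=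
    exists_chart σ sqV haπ (MvPolynomial (ULift.{u} (Fin n)) R) sq''
  have hsqk := chart_square σ sqV φ sq'' k hk1 hk2 m aP hm1 hm2 ha2 hpb m'' aP'' hm1'' hm2''
    ha2'' hpb''
  have hP'' : IsAlgSpace P'' := Groth.Agent.Helper4.AlgSpPB.isAlgSpace_of_isPullback hY.diag hX
    (IsAlgSpace.yon_obj _) f _ fst'' snd'' sq''
  have hopen : IsOpenMap (Points.map aP'') :=
    Groth.Agent.Helper4.AlgSpQC2.isOpenMor_of_repWith_etale hP'' aP''
      (MorphismProperty.of_isPullback hpb''.flip hae)
  have hsurj'' : IsSurjectiveMor aP'' :=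
    Groth.Agent.Helper4.AlgSpPts.isSurjectiveMor_of_repWith aP''
      (MorphismProperty.of_isPullback hpb''.flip has)
  let T'' : Set (Points P'') := closure (Points.map k '' T)
  have hT''cl : IsClosed (Points.map snd'' '' T'') := hcl _ isClosed_closure
  let hC'' := Points.schemeHomeo (specOver σ (MvPolynomial (ULift.{u} (Fin n)) R))
  let hU'' := Points.schemeHomeo (specOver σ (B ⊗[R] MvPolynomial (ULift.{u} (Fin n)) R))
  refine ⟨(specMap σ φ).left ⁻¹' (hC'' ⁻¹' (Points.map snd'' '' T''))ᶜ, ?_, ?_, ?_⟩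
  · intro z₁ hz₁ hz₁D
    obtain ⟨t, ht, hst⟩ := hz₁D
    apply hz₁
    refine ⟨Points.map k t, subset_closure ⟨t, ht, rfl⟩, ?_⟩
    rw [← Points.map_comp, hk2, Points.map_comp, hst, Points.map_yon_map_apply]
  · exact ((hT''cl.preimage hC''.continuous).isOpen_compl).preimage
      (specMap σ φ).left.continuous
  · intro hzO
    obtain ⟨t'', ht'', hst''⟩ := hzO
    obtain ⟨upt, hupt⟩ := hsurj'' t''
    obtain ⟨u'', rfl⟩ := hU''.surjective upt
    have hA : (specMap σ (Algebra.TensorProduct.includeRight :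
        MvPolynomial (ULift.{u} (Fin n)) R →ₐ[R] B ⊗[R] MvPolynomial (ULift.{u} (Fin n)) R)).left u'' =
        (specMap σ φ).left z := by
      apply hC''.injective
      rw [← Points.map_yon_map_apply, ← ha2'', Points.map_comp, hupt, hst'']
    have hB : u'' ∈ closure ((specMap σ (Algebra.TensorProduct.map (AlgHom.id R B) φ)).left '' TU) := by
      have h1 : hU'' u'' ∈ Points.map aP'' ⁻¹' T'' := by
        rw [Set.mem_preimage, hupt]; exact ht''
      have h2 := hopen.preimage_closure_subset_closure_preimage h1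
      rw [preimage_image_eq hsqk] at h2
      have h3 : Points.map ((yon S).map (specMap σ (Algebra.TensorProduct.map (AlgHom.id R B) φ))) ''
          (Points.map aP ⁻¹' T) =
          hU'' '' ((specMap σ (Algebra.TensorProduct.map (AlgHom.id R B) φ)).left '' TU) := by
        ext x
        constructor
        · rintro ⟨y, hy, rfl⟩
          obtain ⟨u, rfl⟩ := hU.surjective y
          exact ⟨_, ⟨u, hy, rfl⟩, (Points.map_yon_map_apply _ u).symm⟩
        · rintro ⟨_, ⟨u, hu, rfl⟩, rfl⟩
          exact ⟨hU u, hu, Points.map_yon_map_apply _ u⟩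
      rw [h3, ← hU''.image_closure] at h2
      obtain ⟨u₁, hu₁, he⟩ := h2
      rwa [← hU''.injective he]
    have hB' : u'' ∈ closure (PrimeSpectrum.comap
        (Algebra.TensorProduct.map (AlgHom.id R B) φ).toRingHom ''
          PrimeSpectrum.zeroLocus (J : Set (B ⊗[R] C))) := by
      rw [hJ]; exact hB
    rw [PrimeSpectrum.closure_image_comap_zeroLocus] at hB'
    exact hφ (u'' : PrimeSpectrum _).asIdeal (u'' : PrimeSpectrum _).isPrime hB'
      (congrArg PrimeSpectrum.asIdeal hA)

end Groth.Agent.Helper5.AnCl
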