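import Groth.Agent.Helper5.AnCl4
import Mathlib

/-!
# Helper5: a quasi-compact space over `Spec R` has a chart `Spec B` with `B` an `R`-algebra
-/

set_option autoImplicit false
universe u
open CategoryTheory CategoryTheory.Limits AlgebraicGeometry Opposite TensorProduct

namespace Groth.Agent.Helper5.AnCl

open AlgSp

variable {S : Scheme.{u}} {R : Type u} [CommRing R] (σ : Spec (CommRingCat.of R) ⟶ S)

set_option backward.isDefEq.respectTransparency.types false in
theorem exists_spec_chart {XV : Sp S} (π₂ : XV ⟶ (yon S).obj (Over.mk σ))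
    (hqc : IsQuasiCompactSp XV) :
    ∃ (B : Type u) (_ : CommRing B) (_ : Algebra R B) (a : (yon S).obj (specOver σ B) ⟶ XV),
      RepWith @Etale a ∧ RepWith @Surjective a ∧ a ≫ π₂ = (yon S).map (toBase σ B) := by
  obtain ⟨U, a₀, hae, has, hU⟩ := Groth.Agent.Helper4.AlgSpQC.exists_affine_chart hqc
  haveI : IsAffine U.left := hU
  obtain ⟨u₀, hu₀⟩ := (yon S).map_surjective (a₀ ≫ π₂)
  let e : U.left ≅ Spec Γ(U.left, ⊤) := U.left.isoSpec
  let ψ : CommRingCat.of R ⟶ Γ(U.left, ⊤) := Spec.preimage (e.inv ≫ u₀.left)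
  have hψ : Spec.map ψ = e.inv ≫ u₀.left := Spec.map_preimage _
  letI : Algebra R Γ(U.left, ⊤) := ψ.hom.toAlgebra
  have hw : e.inv ≫ U.hom = (specOver σ Γ(U.left, ⊤)).hom := by
    change e.inv ≫ U.hom = Spec.map ψ ≫ σ
    rw [hψ, Category.assoc]
    congr 1
    exact (Over.w u₀).symm
  let ε : specOver σ Γ(U.left, ⊤) ≅ U := Over.isoMk e.symm hw
  have i1 : (RepWith (S := S) @Etale).IsStableUnderComposition :=
    (repWith_isMultiplicative (S := S) @Etale).toIsStableUnderComposition
  have i2 : (RepWith (S := S) @Surjective).IsStableUnderComposition :=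
    (repWith_isMultiplicative (S := S) @Surjective).toIsStableUnderComposition
  have hεe : Etale ε.hom.left := by
    change Etale e.inv
    infer_instance
  have hεs : Surjective ε.hom.left := by
    change Surjective e.inv
    infer_instance
  refine ⟨Γ(U.left, ⊤), inferInstance, inferInstance, (yon S).map ε.hom ≫ a₀, ?_, ?_, ?_⟩
  · exact MorphismProperty.comp_mem _ _ _ ((repWith_yon_map_iff _ _).2 hεe) hae
  · exact MorphismProperty.comp_mem _ _ _ ((repWith_yon_map_iff _ _).2 hεs) has
  · rw [Category.assoc, ← hu₀, ← Functor.map_comp]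
    congr 1
    ext
    change e.inv ≫ u₀.left = Spec.map ψ
    exact hψ.symm

end Groth.Agent.Helper5.AnCl
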