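import Groth.Agent.Helper5.CMYon2
import Groth.Agent.Helper3.GorSch2
import Groth.Agent.S0342
import Mathlib

set_option autoImplicit false
set_option linter.style.haveILetI false
universe u
open CategoryTheory CategoryTheory.Limits AlgebraicGeometry Opposite MorphismProperty

namespace Groth.Agent.Helper5.GorYon

open AlgSp Groth.Agent.Helper5.CMYon

variable {S : Scheme.{u}}

/-- at a point whose image has a field as local ring, Gorenstein for the morphism is
Gorenstein of the local ring -/
theorem isGorAt_iff_of_isField {X T : Scheme.{u}} (g : X ⟶ T) (x : X)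
    (hF : IsField (T.presheaf.stalk (g x))) :
    Dual3.IsGorensteinAt g x ↔ LocCoh.IsGorensteinLocalRing (X.presheaf.stalk x) := by
  obtain ⟨e⟩ := Groth.Agent.Helper5.CMFib.fibre_stalk_equiv' g x
  have hm : IsLocalRing.maximalIdeal (T.presheaf.stalk (g x)) = ⊥ :=
    IsLocalRing.isField_iff_maximalIdeal_eq.mp hF
  have hI : Ideal.map (g.stalkMap x).hom (IsLocalRing.maximalIdeal (T.presheaf.stalk (g x))) = ⊥ := by
    rw [hm, Ideal.map_bot]
  let e' : X.presheaf.stalk x ≃+* (g.fiber (g x)).presheaf.stalk (g.asFiber x) :=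
    ((RingEquiv.quotientBot _).symm.trans (Ideal.quotEquivOfEq hI.symm)).trans e
  constructor
  · rintro ⟨-, h2⟩
    exact Groth.Agent.Helper7.SegGor.gorLocal_of_ringEquiv e'.symm h2
  · intro h
    exact ⟨flat_stalkMap_of_isField g x hF, Groth.Agent.Helper7.SegGor.gorLocal_of_ringEquiv e' h⟩

/-- a smooth morphism is Gorenstein at every point -/
theorem isGorAt_of_smooth {X T : Scheme.{u}} (f : X ⟶ T) [Smooth f] (x : X) :
    Dual3.IsGorensteinAt f x := by
  refine ⟨Flat.stalkMap f x, ?_⟩
  haveI hsm : Smooth (f.fiberToSpecResidueField (f x)) :=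
    inferInstanceAs (Smooth (Limits.pullback.snd f (T.fromSpecResidueField (f x))))
  haveI hreg : IsRegularLocalRing ((f.fiber (f x)).presheaf.stalk (f.asFiber x)) :=
    Groth.Agent.Helper2.SmoothRegSch.stalk_regular_of_smooth (T.residueField (f x)) (f.fiber (f x))
      (f.fiberToSpecResidueField (f x)) (f.asFiber x)
  exact Groth.Agent.S0342.result _

/-- the property "Gorenstein at every point" -/
def QGor : MorphismProperty Scheme.{u} := fun _ _ g => ∀ x, Dual3.IsGorensteinAt g x

theorem isLocallyNoetherian_fiber_of_lft {X T : Scheme.{u}} (f : X ⟶ T) [LocallyOfFiniteType f]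
    (y : T) : IsLocallyNoetherian (f.fiber y) := by
  haveI : LocallyOfFiniteType (f.fiberToSpecResidueField y) :=
    inferInstanceAs (LocallyOfFiniteType (Limits.pullback.snd f (T.fromSpecResidueField _)))
  exact LocallyOfFiniteType.isLocallyNoetherian (f.fiberToSpecResidueField y)

/-- Over a base all of whose local rings are fields, a locally finite type scheme with
Gorenstein local rings gives a morphism of sheaves that is Gorenstein on every chart. -/
theorem locP_gor_yon_map_of_field {X₀ K₀ : Over S} (π : X₀ ⟶ K₀) [LocallyOfFiniteType π.left]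
    (hK : ∀ y : K₀.left, IsField (K₀.left.presheaf.stalk y))
    (H : ∀ x : X₀.left, LocCoh.IsGorensteinLocalRing (X₀.left.presheaf.stalk x)) :
    LocP QGor ((yon S).map π) := by
  intro U V a b h' ha hb comm
  obtain ⟨a₀, rfl⟩ := (yon S).map_surjective a
  obtain ⟨b₀, rfl⟩ := (yon S).map_surjective b
  have ha₀ : Etale a₀.left := (repWith_yon_map_iff _ _).1 ha
  have hb₀ : Etale b₀.left := (repWith_yon_map_iff _ _).1 hb
  have e : a₀ ≫ π = h' ≫ b₀ := by
    apply (yon S).map_injective
    rw [Functor.map_comp, Functor.map_comp, comm]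
  have e' : a₀.left ≫ π.left = h'.left ≫ b₀.left := by
    rw [← Over.comp_left, e, Over.comp_left]
  intro u
  have h1 : Dual3.IsGorensteinAt π.left (a₀.left u) :=
    (isGorAt_iff_of_isField π.left _ (hK _)).2 (H _)
  have h2 : Dual3.IsGorensteinAt a₀.left u := isGorAt_of_smooth a₀.left u
  have h3 : Dual3.IsGorensteinAt (a₀.left ≫ π.left) u :=
    (Groth.Agent.Helper3.GorSch2.s3627 _ _ _ a₀.left π.left
      (fun y => isLocallyNoetherian_fiber_of_lft _ y)
      (fun y => isLocallyNoetherian_fiber_of_lft _ y)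
      (fun y => isLocallyNoetherian_fiber_of_lft _ y) u).1 h2 h1
  have hFV : IsField (V.left.presheaf.stalk (h'.left u)) :=
    isField_stalk_of_unramified b₀.left (h'.left u) (hK _)
  exact (isGorAt_iff_of_isField h'.left u hFV).2
    ((isGorAt_iff_of_isField (a₀.left ≫ π.left) u (hK _)).1 h3)

theorem s17307 (S : Scheme.{u}) (k : Type u) [Field k] (t : Spec (CommRingCat.of k) ⟶ S)
    (X : Scheme.{u}) (p : X ⟶ Spec (CommRingCat.of k)) [LocallyOfFiniteType p] :
    AlgSp.LocP (fun _ _ g => ∀ x, (g.stalkMap x).hom.Flat ∧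
        LocCoh.IsGorensteinLocalRing ((g.fiber (g x)).presheaf.stalk (g.asFiber x)))
        ((AlgSp.yon S).map (Over.homMk p rfl : Over.mk (p ≫ t) ⟶ Over.mk t)) ↔
      ∀ x : ↥X, LocCoh.IsGorensteinLocalRing (X.presheaf.stalk x) := by
  constructor
  · intro h x
    have h1 : ∀ x, Dual3.IsGorensteinAt p x := locP_yon_map (P := QGor) h
    exact (isGorAt_iff_of_isField p x (isField_stalk_spec_field k _)).1 (h1 x)
  · intro H
    haveI : LocallyOfFiniteType (Over.homMk p rfl : Over.mk (p ≫ t) ⟶ Over.mk t).left :=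
      inferInstanceAs (LocallyOfFiniteType p)
    exact locP_gor_yon_map_of_field (Over.homMk p rfl : Over.mk (p ≫ t) ⟶ Over.mk t)
      (fun y => isField_stalk_spec_field k y) H

end Groth.Agent.Helper5.GorYon
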