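import Groth.Agent.Helper5.GorSp5
import Groth.Agent.Helper5.GorYon1
import Groth.Agent.S0344
import Mathlib

set_option autoImplicit false
set_option linter.style.haveILetI false
set_option linter.unusedSectionVars false
set_option linter.unusedVariables false
universe u
open CategoryTheory CategoryTheory.Limits AlgebraicGeometry Opposite

namespace Groth.Agent.Helper5.GorSp

open AlgSp Groth.Agent.Helper4

variable {S : Scheme.{u}} {X Y : Sp S}

/-- along an étale morphism of locally Noetherian schemes the Gorenstein property of local rings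
passes both ways -/
theorem gor_stalk_etale_iff {T W : Scheme.{u}} (e : T ⟶ W) [Etale e] [IsLocallyNoetherian W]
    (t : T) :
    LocCoh.IsGorensteinLocalRing (T.presheaf.stalk t) ↔
      LocCoh.IsGorensteinLocalRing (W.presheaf.stalk (e t)) := by
  haveI : IsLocallyNoetherian T := LocallyOfFiniteType.isLocallyNoetherian e
  have hflat : (e.stalkMap t).hom.Flat := Flat.stalkMap e t
  letI : Algebra (W.presheaf.stalk (e t)) (T.presheaf.stalk t) := (e.stalkMap t).hom.toAlgebra
  haveI : Module.Flat (W.presheaf.stalk (e t)) (T.presheaf.stalk t) := hflat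
  haveI : IsLocalHom (algebraMap (W.presheaf.stalk (e t)) (T.presheaf.stalk t)) :=
    inferInstanceAs (IsLocalHom (e.stalkMap t).hom)
  have key := Groth.Agent.S0344.result (W.presheaf.stalk (e t)) (T.presheaf.stalk t)
  obtain ⟨eq⟩ := Groth.Agent.Helper5.CMFib.fibre_stalk_equiv' e t
  have hfib : LocCoh.IsGorensteinLocalRing
      (T.presheaf.stalk t ⧸ (IsLocalRing.maximalIdeal (W.presheaf.stalk (e t))).map
        (algebraMap (W.presheaf.stalk (e t)) (T.presheaf.stalk t))) :=
    Groth.Agent.Helper7.SegGor.gorLocal_of_ringEquiv eq.symm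
      (Groth.Agent.Helper5.GorYon.isGorAt_of_smooth e t).2
  rw [key]
  exact ⟨fun h => h.1, fun h => ⟨h, hfib⟩⟩

set_option backward.isDefEq.respectTransparency.types false in
/-- the scheme fibre of the top arrow of a chart diagram is a chart of the fibre of the morphism -/
theorem exists_fiber_chart (f : X ⟶ Y) {U V : Over S} (a : (yon S).obj U ⟶ X)
    (b : (yon S).obj V ⟶ Y) (h : U ⟶ V) (comm : a ≫ f = (yon S).map h ≫ b) (v : ↥V.left)
    (ιv : Over.mk (V.left.fromSpecResidueField v ≫ V.hom) ⟶ V)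
    (hιv : ιv = Over.homMk (V.left.fromSpecResidueField v) rfl)
    (Xv : Sp S) (av : Xv ⟶ X)
    (c : Xv ⟶ (yon S).obj (Over.mk (V.left.fromSpecResidueField v ≫ V.hom)))
    (sqv : IsPullback av c f ((yon S).map ιv ≫ b)) :
    ∃ m : (yon S).obj (Over.mk (h.left.fiberι v ≫ U.hom)) ⟶ Xv,
      ∀ (Q : MorphismProperty Scheme.{u}) [Q.IsStableUnderBaseChange],
        RepWith Q (pullback.lift a ((yon S).map h) comm) → RepWith Q m := by
  have sqP : IsPullback (pullback.fst f b) (pullback.snd f b) f b := IsPullback.of_hasPullback _ _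
  obtain ⟨n, hn⟩ : ∃ n : (yon S).obj U ⟶ pullback f b, n = pullback.lift a ((yon S).map h) comm :=
    ⟨_, rfl⟩
  rw [← hn]
  have hn1 : n ≫ pullback.fst f b = a := by rw [hn]; exact pullback.lift_fst _ _ _
  have hn2 : n ≫ pullback.snd f b = (yon S).map h := by rw [hn]; exact pullback.lift_snd _ _ _
  obtain ⟨r, hr⟩ : ∃ r : Xv ⟶ pullback f b,
      r = pullback.lift av (c ≫ (yon S).map ιv)
        (by rw [Category.assoc]; exact sqv.w) := ⟨_, rfl⟩
  have hr1 : r ≫ pullback.fst f b = av := by
    rw [hr]; exact pullback.lift_fst _ _ _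
  have hr2 : r ≫ pullback.snd f b = c ≫ (yon S).map ιv := by
    rw [hr]; exact pullback.lift_snd _ _ _
  have sqA : IsPullback r c (pullback.snd f b) ((yon S).map ιv) := by
    refine IsPullback.of_right ?_ hr2 sqP
    rw [hr1]
    exact sqv
  let FO : Over S := Over.mk (h.left.fiberι v ≫ U.hom)
  let φ₁ : FO ⟶ U := Over.homMk (h.left.fiberι v) rfl
  let φ₂ : FO ⟶ Over.mk (V.left.fromSpecResidueField v ≫ V.hom) :=
    Over.homMk (h.left.fiberToSpecResidueField v) (by
      show h.left.fiberToSpecResidueField v ≫ V.left.fromSpecResidueField v ≫ V.hom =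
        h.left.fiberι v ≫ U.hom
      rw [← Category.assoc, ← h.left.fiber_fac v, Category.assoc, Over.w h])
  have hφ : φ₁ ≫ h = φ₂ ≫ ιv := by
    rw [hιv]
    ext
    exact h.left.fiber_fac v
  have sqC0 : IsPullback φ₁ φ₂ h ιv := by
    apply IsPullback.of_map (Over.forget S) hφ
    rw [hιv]
    exact IsPullback.of_hasPullback h.left (V.left.fromSpecResidueField v)
  have sqC : IsPullback ((yon S).map φ₁) ((yon S).map φ₂) ((yon S).map h) ((yon S).map ιv) :=
    sqC0.map (yon S)
  have hw : ((yon S).map φ₁ ≫ a) ≫ f = (yon S).map φ₂ ≫ (yon S).map ιv ≫ b := by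
    rw [Category.assoc, comm, ← Category.assoc, ← Functor.map_comp, hφ, Functor.map_comp,
      Category.assoc]
  obtain ⟨m, hm⟩ : ∃ m : (yon S).obj FO ⟶ Xv, m = sqv.lift ((yon S).map φ₁ ≫ a) ((yon S).map φ₂) hw :=
    ⟨_, rfl⟩
  have hm1 : m ≫ av = (yon S).map φ₁ ≫ a := by
    rw [hm]; exact sqv.lift_fst _ _ _
  have hm2 : m ≫ c = (yon S).map φ₂ := by
    rw [hm]; exact sqv.lift_snd _ _ _
  have hmr : m ≫ r = (yon S).map φ₁ ≫ n := by
    apply pullback.hom_ext
    · rw [Category.assoc, hr1, hm1, Category.assoc, hn1]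
    · rw [Category.assoc, hr2, ← Category.assoc, hm2, Category.assoc, hn2, ← Functor.map_comp,
        ← Functor.map_comp, hφ]
  have sqB : IsPullback m ((yon S).map φ₁) r n := by
    refine IsPullback.of_right ?_ hmr sqA.flip
    rw [hm2, hn2]
    exact sqC.flip
  refine ⟨m, fun Q _ hQ => ?_⟩
  have i1 := repWith_isStableUnderBaseChange (S := S) Q
  exact MorphismProperty.of_isPullback (P := RepWith Q) sqB.flip hQ

set_option backward.isDefEq.respectTransparency.types false in
/-- a chart diagram over a given étale chart of the target whose source chart is an atlas of the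
fibre product -/
theorem exists_chart_over (hX : IsAlgSpace X) (f : X ⟶ Y) {V : Over S} (b : (yon S).obj V ⟶ Y)
    (hbe : RepWith @Etale b) :
    ∃ (U : Over S) (a : (yon S).obj U ⟶ X) (h : U ⟶ V) (comm : a ≫ f = (yon S).map h ≫ b),
      RepWith @Etale a ∧ RepWith @Etale (pullback.lift a ((yon S).map h) comm) ∧
        RepWith @Surjective (pullback.lift a ((yon S).map h) comm) ∧
        (RepWith @Surjective b → RepWith @Surjective a) := by
  obtain ⟨U₀, a₀, ha₀e, ha₀s⟩ := hX.atlas
  have hbr := hbe.rep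
  have sqU : IsPullback (hbr.fst (a₀ ≫ f)) ((yon S).map (hbr.snd (a₀ ≫ f))) b (a₀ ≫ f) :=
    hbr.isPullback _
  obtain ⟨h, hh⟩ := (yon S).map_surjective (hbr.fst (a₀ ≫ f))
  rw [← hh] at sqU
  have hre : Etale (hbr.snd (a₀ ≫ f)).left := hbe.property _ _ _ sqU
  have hrs : RepWith @Surjective b → Surjective (hbr.snd (a₀ ≫ f)).left :=
    fun hbs => hbs.property _ _ _ sqU
  generalize hbr.snd (a₀ ≫ f) = r at sqU hre hrs
  have hae : RepWith @Etale ((yon S).map r ≫ a₀) := repWith_etale_yon_comp r hre a₀ ha₀e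
  have comm : ((yon S).map r ≫ a₀) ≫ f = (yon S).map h ≫ b := by
    rw [Category.assoc]; exact sqU.w.symm
  have sqP : IsPullback (pullback.fst f b) (pullback.snd f b) f b := IsPullback.of_hasPullback _ _
  have sqN : IsPullback (pullback.lift ((yon S).map r ≫ a₀) ((yon S).map h) comm) ((yon S).map r)
      (pullback.fst f b) a₀ := by
    refine IsPullback.of_right ?_ (pullback.lift_fst _ _ _) sqP.flip
    rw [pullback.lift_snd]
    exact sqU
  have i1 := repWith_isStableUnderBaseChange (S := S) @Etale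
  have i2 := repWith_isStableUnderBaseChange (S := S) @Surjective
  refine ⟨_, (yon S).map r ≫ a₀, h, comm, hae,
    MorphismProperty.of_isPullback (P := RepWith @Etale) sqN.flip ha₀e,
    MorphismProperty.of_isPullback (P := RepWith @Surjective) sqN.flip ha₀s, fun hbs => ?_⟩
  exact Groth.Agent.Helper4.AlgSpSrc.repWith_comp _ ((repWith_yon_map_iff _ _).2 (hrs hbs)) ha₀s

/-- the Gorenstein-fibres condition over one chart `b` of the target -/
def GorFibOver (f : X ⟶ Y) {V : Over S} (b : (yon S).obj V ⟶ Y) : Prop :=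
  ∀ (v : ↥V.left) (Xv : Sp S) (a : Xv ⟶ X)
    (c : Xv ⟶ (yon S).obj (Over.mk (V.left.fromSpecResidueField v ≫ V.hom))),
    IsPullback a c f ((yon S).map (Over.homMk (V.left.fromSpecResidueField v) rfl :
      Over.mk (V.left.fromSpecResidueField v ≫ V.hom) ⟶ V) ≫ b) →
    EtaleLocally Dual3.IsGorenstein Xv

set_option backward.isDefEq.respectTransparency.types false in
theorem flat_of_gor (f : X ⟶ Y)
    (H : ∀ x : Points X, LocPAt (fun h u => Dual3.IsGorensteinAt h u) f x) : LocP @Flat f := by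
  intro U V a b h ha hb comm
  rw [Flat.iff_flat_stalkMap]
  intro u
  exact (H (Points.ofPt a u) a b h u ha hb comm rfl).1

set_option backward.isDefEq.respectTransparency.types false in
theorem gorFibOver_of_gor (hX : IsAlgSpace X) (hY : IsAlgSpace Y) (f : X ⟶ Y) (hf : NoethFib f)
    (H : ∀ x : Points X, LocPAt (fun h u => Dual3.IsGorensteinAt h u) f x)
    {V : Over S} (b : (yon S).obj V ⟶ Y) (hbe : RepWith @Etale b) : GorFibOver f b := by
  intro v Xv av c sqv
  obtain ⟨U, a, h, comm, hae, hne, hns, -⟩ := exists_chart_over hX f b hbe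
  obtain ⟨m, hm⟩ := exists_fiber_chart f a b h comm v _ rfl Xv av c sqv
  refine ⟨_, m, hm _ hne, hm _ hns, ?_, ?_⟩
  · exact isLocallyNoetherian_chart_fiber hX hY f hf a b h hae hbe comm v
  · intro z
    have h1 := H (Points.ofPt a (h.left.fiberι v z)) a b h (h.left.fiberι v z) hae hbe comm rfl
    exact (Groth.Agent.Helper3.GorBC1.gor_fibre_stalk_iff h.left v z _ rfl).2 h1.2

set_option backward.isDefEq.respectTransparency.types false in
theorem gor_of_gorFibOver (hX : IsAlgSpace X) (hY : IsAlgSpace Y) (f : X ⟶ Y) (hf : NoethFib f)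
    (hfl : LocP @Flat f) {V : Over S} (b : (yon S).obj V ⟶ Y) (hbe : RepWith @Etale b)
    (hbs : RepWith @Surjective b) (Hb : GorFibOver f b) (x : Points X) :
    LocPAt (fun h u => Dual3.IsGorensteinAt h u) f x := by
  obtain ⟨U, a, h, comm, hae, hne, hns, has⟩ := exists_chart_over hX f b hbe
  obtain ⟨u, hu⟩ := Groth.Agent.Helper5.AlgSpOpen.ofPt_surjective_of_repWith a (has hbs) x
  refine locPAt_gor_of_chart hX hY f hf x a b h hae hbe comm u hu ⟨?_, ?_⟩
  · haveI : Flat h.left := hfl a b h hae hbe comm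
    exact Flat.stalkMap h.left u
  · -- the fibre through `u`
    have sqv : IsPullback (pullback.fst f ((yon S).map (Over.homMk
        (V.left.fromSpecResidueField (h.left u)) rfl :
          Over.mk (V.left.fromSpecResidueField (h.left u) ≫ V.hom) ⟶ V) ≫ b))
        (pullback.snd f _) f _ := IsPullback.of_hasPullback _ _
    obtain ⟨m, hm⟩ := exists_fiber_chart f a b h comm (h.left u) _ rfl _ _ _ sqv
    have hme := hm _ hne
    obtain ⟨W, p, hpe, hps, hWN, hWG⟩ := Hb (h.left u) _ _ _ sqv
    have hpr := hpe.rep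
    have sqT : IsPullback (hpr.fst m) ((yon S).map (hpr.snd m)) p m := hpr.isPullback m
    obtain ⟨t₁, ht₁⟩ := (yon S).map_surjective (hpr.fst m)
    rw [← ht₁] at sqT
    have ht₂e : Etale (hpr.snd m).left := hpe.property _ _ _ sqT
    have ht₂s : Surjective (hpr.snd m).left := hps.property _ _ _ sqT
    have ht₁e : Etale t₁.left := hme.property _ _ _ sqT.flip
    generalize hpr.snd m = t₂ at sqT ht₂e ht₂s
    haveI := hWN
    haveI hFN : IsLocallyNoetherian (h.left.fiber (h.left u)) :=
      isLocallyNoetherian_chart_fiber hX hY f hf a b h hae hbe comm _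
    obtain ⟨t, ht⟩ := ht₂s.surj (h.left.asFiber u)
    have g1 : LocCoh.IsGorensteinLocalRing ((hpr.pullback m).left.presheaf.stalk t) :=
      (gor_stalk_etale_iff t₁.left t).2 (hWG _)
    have g2 := (@gor_stalk_etale_iff _ _ t₂.left ht₂e hFN t).1 g1
    rw [ht] at g2
    exact g2

theorem s10690 {X Y : AlgSp.Space S} (f : X ⟶ Y)
    (hf : ∀ (k : AlgSp.FieldPt Y.obj) (Xk : AlgSp.Sp S) (a : Xk ⟶ X.obj)
        (b : Xk ⟶ (AlgSp.yon S).obj k.pt), IsPullback a b f.hom k.toHom → AlgSp.IsLocNoethSp Xk) :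
    [∀ x : AlgSp.Points X.obj, AlgSp.LocPAt (fun h u => Dual3.IsGorensteinAt h u) f.hom x,
      AlgSp.LocP @Flat f.hom ∧ ∃ (V : Over S) (b : (AlgSp.yon S).obj V ⟶ Y.obj),
        AlgSp.RepWith @Etale b ∧ AlgSp.RepWith @Surjective b ∧
          ∀ (v : ↥V.left) (Xv : AlgSp.Sp S) (a : Xv ⟶ X.obj)
            (c : Xv ⟶ (AlgSp.yon S).obj (Over.mk (V.left.fromSpecResidueField v ≫ V.hom))),
            IsPullback a c f.hom ((AlgSp.yon S).map (Over.homMk (V.left.fromSpecResidueField v) rfl :
              Over.mk (V.left.fromSpecResidueField v ≫ V.hom) ⟶ V) ≫ b) →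
            AlgSp.EtaleLocally Dual3.IsGorenstein Xv,
      AlgSp.LocP @Flat f.hom ∧ ∀ (V : Over S) (b : (AlgSp.yon S).obj V ⟶ Y.obj),
        AlgSp.RepWith @Etale b →
          ∀ (v : ↥V.left) (Xv : AlgSp.Sp S) (a : Xv ⟶ X.obj)
            (c : Xv ⟶ (AlgSp.yon S).obj (Over.mk (V.left.fromSpecResidueField v ≫ V.hom))),
            IsPullback a c f.hom ((AlgSp.yon S).map (Over.homMk (V.left.fromSpecResidueField v) rfl :
              Over.mk (V.left.fromSpecResidueField v ≫ V.hom) ⟶ V) ≫ b) →
            AlgSp.EtaleLocally Dual3.IsGorenstein Xv].TFAE := by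
  tfae_have 1 → 3 := fun H =>
    ⟨flat_of_gor f.hom H, fun V b hb => gorFibOver_of_gor X.property Y.property f.hom hf H b hb⟩
  tfae_have 3 → 2 := by
    rintro ⟨hfl, H⟩
    obtain ⟨V, b, hbe, hbs⟩ := Y.property.atlas
    exact ⟨hfl, V, b, hbe, hbs, H V b hbe⟩
  tfae_have 2 → 1 := by
    rintro ⟨hfl, V, b, hbe, hbs, H⟩ x
    exact gor_of_gorFibOver X.property Y.property f.hom hf hfl b hbe hbs H x
  tfae_finish

end Groth.Agent.Helper5.GorSp
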