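import Groth.Agent.Helper5.IrrTfae1
import Mathlib

set_option autoImplicit false
set_option linter.style.haveILetI false
set_option linter.unusedSectionVars false
set_option linter.unusedVariables false
universe u
open CategoryTheory CategoryTheory.Limits AlgebraicGeometry Opposite TopologicalSpace

namespace Groth.Agent.Helper5.IrrTfae

open AlgSp Groth.Agent.Helper4 Groth.Agent.Helper6.GenPts Groth.Agent.Helper5.Codim0B

variable {S : Scheme.{u}}

theorem dimZero_iff_of_etale {A B : Scheme.{u}} (g : A ⟶ B) [Etale g] (x : ↥A) :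
    ringKrullDim ↥(A.presheaf.stalk x) = 0 ↔ ringKrullDim ↥(B.presheaf.stalk (g x)) = 0 := by
  rw [stalk_dim_zero_iff, stalk_dim_zero_iff]
  exact ⟨isMaxPt_map_of_flat g x, isMaxPt_of_etale g x⟩

/-- every étale chart of a space with one good chart is good -/
theorem pu_chart {X : Sp S} (hX : EtaleLocally PU X) {U : Over S} (a : (yon S).obj U ⟶ X)
    (ha : RepWith @Etale a) : PU U.left := by
  obtain ⟨V, b, hbe, hbs, hV⟩ := hX
  have sq := ha.rep.isPullback b
  obtain ⟨e, he⟩ := (yon S).map_surjective (ha.rep.fst b)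
  rw [← he] at sq
  have het2 : Etale (ha.rep.snd b).left := ha.property b _ _ sq
  have het1 : Etale e.left := hbe.property a _ _ sq.flip
  have hsu1 : Surjective e.left := hbs.property a _ _ sq.flip
  clear he
  generalize ha.rep.snd b = s at sq het2
  generalize ha.rep.pullback b = R at e s sq het1 het2 hsu1
  rw [pu_iff_pg]
  have hV' : PG V.left := (pu_iff_pg _).1 hV
  have hR : PG R.left := fun W hW => finite_gen_of_flat s.left hV' W hW
  exact pg_of_surjective_etale e.left hR

/-- the open subscheme `W` of a chart as an algebraic space étale over `X` -/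
theorem exists_space_of_open (X : AlgSp.Space S) {U : Over S} (a : (yon S).obj U ⟶ X.obj)
    (ha : RepWith @Etale a) (W : U.left.Opens) (hW : IsCompact (W : Set ↥U.left)) :
    ∃ (Y : AlgSp.Space S) (g : Y ⟶ X), IsEtaleMor g.hom ∧ IsQuasiCompactSp Y.obj ∧
      Y.obj = (yon S).obj (AlgSpQC2.opOver U W) := by
  let W' := AlgSpQC2.opOver U W
  let Y : AlgSp.Space S := (AlgSp.ofScheme S).obj W'
  let a' : (yon S).obj W' ⟶ X.obj := (yon S).map (AlgSpQC2.opι U W) ≫ a
  have ha' : RepWith @Etale a' :=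
    Groth.Agent.Helper4.AlgSpSrc.repWith_comp _
      ((repWith_yon_map_iff _ _).2 (by
        show Etale (Scheme.Opens.ι W)
        infer_instance)) ha
  refine ⟨Y, ObjectProperty.homMk a', ?_, ?_, rfl⟩
  · intro V φ hφ
    exact Groth.Agent.Helper4.AlgSpSrc.repWith_comp _ hφ ha'
  · refine ⟨W', 𝟙 _, Groth.Agent.Helper5.RelDimSp.repWith_etale_id W', ?_, ?_⟩
    · rw [← (yon S).map_id]
      exact (repWith_yon_map_iff _ _).2 (by dsimp; infer_instance)
    · show CompactSpace ↥(W : Scheme)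
      exact isCompact_iff_compactSpace.1 hW

set_option backward.isDefEq.respectTransparency.types false in
theorem s10304 (X : AlgSp.Space S) :
    (AlgSp.EtaleLocally (fun U => ∀ W : U.Opens, IsCompact (W : Set ↥U) → (irreducibleComponents ↥W).Finite) X.obj ↔
      ∀ (U : Over S) (a : (AlgSp.yon S).obj U ⟶ X.obj), AlgSp.RepWith @Etale a →
        ∀ W : U.left.Opens, IsCompact (W : Set ↥U.left) → (irreducibleComponents ↥W).Finite) ∧
    (AlgSp.EtaleLocally (fun U => ∀ W : U.Opens, IsCompact (W : Set ↥U) → (irreducibleComponents ↥W).Finite) X.obj ↔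
      ∀ (Y : AlgSp.Space S) (g : Y ⟶ X), AlgSp.IsEtaleMor g.hom → AlgSp.IsQuasiCompactSp Y.obj →
        {y : AlgSp.Points Y.obj |
          AlgSp.HasAt (fun U u => ringKrullDim ↥(U.presheaf.stalk u) = 0) Y.obj y}.Finite) ∧
    (AlgSp.EtaleLocally (fun U => ∀ W : U.Opens, IsCompact (W : Set ↥U) → (irreducibleComponents ↥W).Finite) X.obj ↔
      ∀ (Y : AlgSp.Space S) (g : Y ⟶ X), AlgSp.IsEtaleMor g.hom → AlgSp.IsQuasiCompactSp Y.obj →
        (irreducibleComponents (AlgSp.Points Y.obj)).Finite) := by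
  obtain ⟨U₀, a₀, hae₀, has₀⟩ := X.property.atlas
  -- the generic-point count of a compact chart of a quasi-compact etale space
  have hgen : EtaleLocally PU X.obj → ∀ (Y : AlgSp.Space S) (g : Y ⟶ X), IsEtaleMor g.hom →
      ∀ (V : Over S) (c : (yon S).obj V ⟶ Y.obj), RepWith @Etale c → CompactSpace ↥V.left →
        (Gen ↥V.left).Finite := by
    intro hX Y g hg V c hce hcpt
    have h1 : PU V.left := pu_chart hX (c ≫ g.hom) (hg c hce)
    have h2 := (pu_iff_pg _).1 h1 ⊤ isCompact_univ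
    simpa using h2
  refine ⟨⟨fun hX U a ha => pu_chart hX a ha, fun H => ⟨U₀, a₀, hae₀, has₀, H U₀ a₀ hae₀⟩⟩,
    ⟨fun hX Y g hg hqc => ?_, fun H => ⟨U₀, a₀, hae₀, has₀, fun W hW => ?_⟩⟩,
    ⟨fun hX Y g hg hqc => ?_, fun H => ⟨U₀, a₀, hae₀, has₀, fun W hW => ?_⟩⟩⟩
  · obtain ⟨V, c, hce, hcs, hcpt⟩ := hqc
    have hfin := hgen hX Y g hg V c hce hcpt
    refine (hfin.image (Points.ofPt c)).subset ?_
    intro y hy
    obtain ⟨v, rfl⟩ := Groth.Agent.Helper5.AlgSpOpen.ofPt_surjective_of_repWith c hcs y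
    have h1 := (Groth.Agent.Helper5.HasAtChart.hasAt_iff_chart
      (fun U u => ringKrullDim ↥(U.presheaf.stalk u) = 0)
      (fun g _ x => dimZero_iff_of_etale g x) c hce v).1 hy
    exact ⟨v, (stalk_dim_zero_iff _ v).1 h1, rfl⟩
  · obtain ⟨Y, g, hg, hqc, hY⟩ := exists_space_of_open X a₀ hae₀ W hW
    have hfin := H Y g hg hqc
    haveI : QuasiSober ↥W := inferInstanceAs (QuasiSober ↥(W : Scheme.{u}))
    haveI : T0Space ↥W := inferInstanceAs (T0Space ↥(W : Scheme.{u}))
    rw [finite_irreducibleComponents_iff]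
    obtain ⟨Yo, hYp⟩ := Y
    subst hY
    let φ : ↥W → Points ((yon S).obj (AlgSpQC2.opOver U₀ W)) :=
      fun w => Points.ofPt (𝟙 _) (show ↥(AlgSpQC2.opOver U₀ W).left from w)
    have hφinj : Function.Injective φ := (Points.schemeHomeo (AlgSpQC2.opOver U₀ W)).injective
    refine (hfin.preimage (hφinj.injOn)).subset ?_
    intro w hw
    refine ⟨AlgSpQC2.opOver U₀ W, 𝟙 _, w, Groth.Agent.Helper5.RelDimSp.repWith_etale_id _, rfl, ?_⟩
    exact (stalk_dim_zero_iff _ _).2 hw
  · obtain ⟨V, c, hce, hcs, hcpt⟩ := hqc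
    have hfin := hgen hX Y g hg V c hce hcpt
    have h1 : (irreducibleComponents ↥V.left).Finite := finite_irreducibleComponents_iff.2 hfin
    exact finite_irreducibleComponents_of_surjective (Points.ofPt c) (Points.continuous_ofPt c)
      (Groth.Agent.Helper5.AlgSpOpen.ofPt_surjective_of_repWith c hcs) h1
  · obtain ⟨Y, g, hg, hqc, hY⟩ := exists_space_of_open X a₀ hae₀ W hW
    have hfin := H Y g hg hqc
    obtain ⟨Yo, hYp⟩ := Y
    subst hY
    let ψ := Points.schemeHomeo (AlgSpQC2.opOver U₀ W)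
    exact finite_irreducibleComponents_of_surjective ψ.symm ψ.symm.continuous ψ.symm.surjective hfin

end Groth.Agent.Helper5.IrrTfae
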