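import Groth.Agent.Helper5.GenDim6
import Groth.Agent.Helper5.OpenAt3
import Mathlib

set_option autoImplicit false
universe u
open CategoryTheory CategoryTheory.Limits AlgebraicGeometry TopologicalSpace

namespace Groth.Agent.Helper5.SecComp

open Groth.Agent.Helper5.VarDim Groth.Agent.Helper5.MaxPt Groth.Agent.Helper5.GenDim

/-- A connected component of a fibre is closed in the fibre. -/
theorem inter_closure_component {X Y : Scheme.{u}} (f : X ⟶ Y) (y : Y) (x₀ : X) (hx₀ : f x₀ = y) :
    f ⁻¹' {y} ∩ closure (connectedComponentIn (f ⁻¹' {y}) x₀) =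
      connectedComponentIn (f ⁻¹' {y}) x₀ := by
  have hx₀mem : x₀ ∈ f ⁻¹' {y} := hx₀
  apply Set.Subset.antisymm
  · have hpre : IsPreconnected (f ⁻¹' {y} ∩ closure (connectedComponentIn (f ⁻¹' {y}) x₀)) := by
      refine IsPreconnected.subset_closure isPreconnected_connectedComponentIn ?_
        Set.inter_subset_right
      exact fun z hz => ⟨connectedComponentIn_subset _ _ hz, subset_closure hz⟩
    exact hpre.subset_connectedComponentIn
      ⟨hx₀mem, subset_closure (mem_connectedComponentIn hx₀mem)⟩ Set.inter_subset_left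
  · exact fun z hz => ⟨connectedComponentIn_subset _ _ hz, subset_closure hz⟩

/-- The set of specialisations of `z` in its fibre lies in the connected component of any of
its points. -/
theorem fibre_closure_subset_component {X Y : Scheme.{u}} (f : X ⟶ Y) (y : Y) (x₀ z : X)
    (hx₀ : f x₀ = y) (hz : f z = y) (hzx : z ⤳ x₀) :
    f ⁻¹' {y} ∩ closure ({z} : Set X) ⊆ connectedComponentIn (f ⁻¹' {y}) x₀ := by
  have hpre : IsPreconnected (f ⁻¹' {y} ∩ closure ({z} : Set X)) := by
    refine IsPreconnected.subset_closure isPreconnected_singleton ?_ Set.inter_subset_right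
    exact Set.singleton_subset_iff.2 ⟨hz, subset_closure rfl⟩
  exact hpre.subset_connectedComponentIn ⟨hx₀, hzx.mem_closure⟩ Set.inter_subset_left

/-- An irreducible connected component of a fibre is the closure in the fibre of any maximal
point of the fibre which specialises to the base point. -/
theorem component_eq_of_irreducible {X Y : Scheme.{u}} (f : X ⟶ Y) (y : Y) (x₀ z : X)
    (hx₀ : f x₀ = y) (hz : f z = y) (hzx : z ⤳ x₀)
    (hzmax : ∀ z' : X, f z' = y → z' ⤳ z → z' = z)
    (hirr : IsIrreducible (connectedComponentIn (f ⁻¹' {y}) x₀)) :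
    connectedComponentIn (f ⁻¹' {y}) x₀ = f ⁻¹' {y} ∩ closure ({z} : Set X) := by
  set C := connectedComponentIn (f ⁻¹' {y}) x₀ with hC
  have hsub := fibre_closure_subset_component f y x₀ z hx₀ hz hzx
  have hzC : z ∈ C := hsub ⟨hz, subset_closure rfl⟩
  obtain ⟨ζ, hζ⟩ := QuasiSober.sober hirr.closure isClosed_closure
  have hζC : ζ ∈ f ⁻¹' {y} ∩ closure C := by
    refine genStable_fibre_inter_closed f y (closure C) isClosed_closure C ?_ hirr ζ ?_
    · exact fun w hw => ⟨connectedComponentIn_subset _ _ hw, subset_closure hw⟩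
    · exact hζ
  have hζz : ζ ⤳ z := by
    rw [specializes_iff_mem_closure, hζ.def]
    exact subset_closure hzC
  have hζeq : ζ = z := hzmax ζ hζC.1 hζz
  apply Set.Subset.antisymm
  · intro w hw
    refine ⟨connectedComponentIn_subset _ _ hw, ?_⟩
    rw [← hζeq, hζ.def]
    exact subset_closure hw
  · exact hsub

/-- The dimension of an irreducible connected component of a fibre is the local dimension of the
fibre at any of its points. -/
theorem dim_component_eq_fibreDimAt {X Y : Scheme.{u}} (f : X ⟶ Y) [LocallyOfFiniteType f]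
    (y : Y) (x₀ : X) (hx₀ : f x₀ = y)
    (hirr : IsIrreducible (connectedComponentIn (f ⁻¹' {y}) x₀)) :
    topologicalKrullDim ↥(connectedComponentIn (f ⁻¹' {y}) x₀) = FlatMor.fibreDimAt f x₀ := by
  obtain ⟨z, hfz, hzx, hzmax, hfd, tz, htz1, htz2⟩ :=
    Groth.Agent.Helper5.OpenAt.exists_max_generization_fibreDimAt_eq f x₀
  have hz : f z = y := hfz.trans hx₀
  have hzmax' : ∀ z' : X, f z' = y → z' ⤳ z → z' = z := fun z' hz' hs =>
    hzmax z' (hz'.trans hx₀.symm) hs
  rw [component_eq_of_irreducible f y x₀ z hx₀ hz hzx hzmax' hirr]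
  obtain ⟨n, hn1, hn2⟩ := dim_fibre_closure_point f z
  have hnt : n = tz := by
    have h1 : Dual3.resTrdeg f z = (tz : Cardinal.{u}) := htz1
    rw [hn1] at h1
    exact_mod_cast h1
  rw [← hz, hn2, ← hfd, htz2, hnt]

/-- Chevalley's semicontinuity along a continuous map to the source. -/
theorem upperSemicontinuous_fibreDimAt_comp {X Y : Scheme.{u}} (f : X ⟶ Y)
    [LocallyOfFiniteType f] {T : Type*} [TopologicalSpace T] (g : T → X) (hg : Continuous g) :
    UpperSemicontinuous (fun t : T => FlatMor.fibreDimAt f (g t)) := by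
  rw [upperSemicontinuous_iff_isOpen_preimage]
  intro c
  have hnat : ∀ x : X, ∃ m : ℕ, FlatMor.fibreDimAt f x = (m : WithBot ℕ∞) := by
    intro x
    obtain ⟨k, n, -, -, -, h⟩ := Groth.Agent.Helper5.SubDim.fibreDimAt_eq f x
    exact ⟨k + n, h⟩
  have key : IsOpen {x : X | FlatMor.fibreDimAt f x < c} := by
    induction c using WithBot.recBotCoe with
    | bot => simp
    | coe c =>
      induction c using ENat.recTopCoe with
      | top =>
        convert isOpen_univ
        ext x
        obtain ⟨m, hm⟩ := hnat x
        simp only [Set.mem_ofPred_eq, Set.mem_univ, iff_true, hm]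
        exact_mod_cast ENat.natCast_lt_top m
      | coe n =>
        rcases Nat.eq_zero_or_pos n with h0 | hpos
        · subst h0
          convert isOpen_empty
          ext x
          obtain ⟨m, hm⟩ := hnat x
          simp only [Set.mem_ofPred_eq, Set.mem_empty_iff_false, iff_false, hm, not_lt]
          exact_mod_cast Nat.zero_le m
        · convert Groth.Agent.Helper5.FibDim.isOpen_fibreDimAt_le f ((n - 1 : ℕ) : WithBot ℕ∞)
            using 1
          ext x
          obtain ⟨m, hm⟩ := hnat x
          simp only [Set.mem_ofPred_eq, hm]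
          constructor
          · intro h
            have : m < n := by exact_mod_cast h
            exact_mod_cast (by omega : m ≤ n - 1)
          · intro h
            have : m ≤ n - 1 := by exact_mod_cast h
            exact_mod_cast (by omega : m < n)
  exact key.preimage hg

end Groth.Agent.Helper5.SecComp
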