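import Groth.Agent.Helper5.RelDimSp1
import Groth.Agent.Helper5.RelDim1
import Groth.Agent.Helper5.SecComp1
import Mathlib

set_option autoImplicit false
set_option linter.style.haveILetI false
set_option linter.unusedSectionVars false
set_option linter.unusedVariables false
universe u
open CategoryTheory CategoryTheory.Limits AlgebraicGeometry Opposite

namespace Groth.Agent.Helper5.RelDimSp

open AlgSp Groth.Agent.Helper4 Groth.Agent.Helper5.PtLoc

theorem isOpen_fibreDimAt_eq_zero {A B : Scheme.{u}} (s : A ⟶ B) [LocallyOfFiniteType s] :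
    IsOpen {x : A | FlatMor.fibreDimAt s x = 0} := by
  have h := Groth.Agent.Helper5.SecComp.upperSemicontinuous_fibreDimAt_comp s id continuous_id
  rw [upperSemicontinuous_iff_isOpen_preimage] at h
  have e : {x : A | FlatMor.fibreDimAt s x = 0} =
      (fun t : A => FlatMor.fibreDimAt s (id t)) ⁻¹' Set.Iio 1 := by
    ext x
    simp only [Set.mem_ofPred_eq, Set.mem_preimage, Set.mem_Iio, id]
    obtain ⟨m, hm⟩ := Groth.Agent.Helper5.SubDim.fibreDimAt_nat s x
    rw [hm]
    constructor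
    · intro h0
      have : m = 0 := by exact_mod_cast h0
      rw [this]
      exact_mod_cast zero_lt_one
    · intro h1
      have : m < 1 := by exact_mod_cast h1
      have : m = 0 := by omega
      rw [this]; rfl
  rw [e]; exact h 1

theorem fibreDimAt_ι_comp {A B : Scheme.{u}} (s : A ⟶ B) [LocallyOfFiniteType s] (W : A.Opens)
    (w : W) : FlatMor.fibreDimAt (W.ι ≫ s) w = FlatMor.fibreDimAt s (W.ι w) :=
  Groth.Agent.Helper5.SmRelDim.fibreDimAt_precomp W.ι s w

/-- the neighbourhood form of quasi-finiteness at a point agrees with vanishing of the local fibre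
dimension, for morphisms locally of finite type -/
theorem nbhd_lqf_iff {U V : Scheme.{u}} (h : U ⟶ V) [LocallyOfFiniteType h] (u : U) :
    (∃ W : U.Opens, u ∈ W ∧ LocallyQuasiFinite (W.ι ≫ h) ∧ LocallyOfFiniteType (W.ι ≫ h)) ↔
      FlatMor.fibreDimAt h u = 0 := by
  constructor
  · rintro ⟨W, hu, hq, hl⟩
    have := Groth.Agent.Helper5.RelDim.fibreDimAt_eq_zero_of_lqf (W.ι ≫ h) ⟨u, hu⟩
    rw [fibreDimAt_ι_comp] at this
    exact this
  · intro hu
    refine ⟨⟨_, isOpen_fibreDimAt_eq_zero h⟩, hu, ?_, inferInstance⟩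
    refine Groth.Agent.Helper5.RelDim.locallyQuasiFinite_of_fibreDimAt_eq_zero _ ?_
    intro w
    rw [fibreDimAt_ι_comp]
    exact w.2

variable {S : Scheme.{u}}

theorem hasAtMor_nbhd_lqf_iff {X Y : Sp S} (f : X ⟶ Y) (hC : LocP @LocallyOfFiniteType f)
    (x : Points X) :
    HasAtMor (fun U _ h u => ∃ W : U.Opens, u ∈ W ∧ LocallyQuasiFinite (W.ι ≫ h) ∧
      LocallyOfFiniteType (W.ι ≫ h)) f x ↔ HasAtMor (QD fun r => r = 0) f x := by
  constructor
  · rintro ⟨U, V, a, b, h, u, ha, hb, comm, hu, hG⟩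
    haveI : LocallyOfFiniteType h.left := hC a b h ha hb comm
    exact ⟨U, V, a, b, h, u, ha, hb, comm, hu, (nbhd_lqf_iff h.left u).1 hG⟩
  · rintro ⟨U, V, a, b, h, u, ha, hb, comm, hu, hG⟩
    haveI : LocallyOfFiniteType h.left := hC a b h ha hb comm
    exact ⟨U, V, a, b, h, u, ha, hb, comm, hu, (nbhd_lqf_iff h.left u).2 hG⟩

set_option backward.isDefEq.respectTransparency.types false in
theorem s10313 {X Y : AlgSp.Space S} (f : X ⟶ Y)
    (hf : AlgSp.LocP @LocallyOfFiniteType f.hom) :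
    ∃ (X' : AlgSp.Space S) (j : X' ⟶ X), AlgSp.RepWith @IsOpenImmersion j.hom ∧
      AlgSp.LocP (@LocallyQuasiFinite ⊓ @LocallyOfFiniteType) (j ≫ f).hom ∧
      (∀ x : AlgSp.Points X.obj, x ∉ Set.range (AlgSp.Points.map j.hom) →
        AlgSp.HasAtMor (fun _ _ h u => 1 ≤ FlatMor.fibreDimAt h u) f.hom x) ∧
      ∀ (Y'' X'' : AlgSp.Space S) (g : Y'' ⟶ Y) (b : X'' ⟶ X) (f'' : X'' ⟶ Y''),
        IsPullback b.hom f''.hom f.hom g.hom → ∀ x'' : AlgSp.Points X''.obj,
          AlgSp.Points.map b.hom x'' ∈ Set.range (AlgSp.Points.map j.hom) ↔ AlgSp.HasAtMor (fun U _ h u => ∃ W : U.Opens, u ∈ W ∧ LocallyQuasiFinite (W.ι ≫ h) ∧ LocallyOfFiniteType (W.ι ≫ h)) f''.hom x'' := by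
  have hQ := etLocalOn_QD.{u} (fun r => r = 0)
  have hopen : IsOpen {x : Points X.obj | HasAtMor (QD fun r => r = 0) f.hom x} :=
    isOpen_locus_on hQ (fun s hs => by haveI := hs; exact isOpen_fibreDimAt_eq_zero s) f hf
  obtain ⟨W₀, j, hW₀, hj, hrange⟩ :=
    Groth.Agent.Helper5.AlgSpOpen.exists_open_subspace X.property _ hopen
  refine ⟨⟨W₀, hW₀⟩, ObjectProperty.homMk j, hj, ?_, ?_, ?_⟩
  · intro U' V' a' b' h' ha' hb' comm'
    have hje : RepWith @Etale j :=
      Groth.Agent.Helper4.AlgSpSrc.repWith_mono (fun g hg => by haveI := hg; infer_instance) hj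
    have ha'j : RepWith @Etale (a' ≫ j) := Groth.Agent.Helper4.AlgSpSrc.repWith_comp _ ha' hje
    have comm'' : (a' ≫ j) ≫ f.hom = (yon S).map h' ≫ b' := by
      rw [Category.assoc]; exact comm'
    haveI hl : LocallyOfFiniteType h'.left := hf (a' ≫ j) b' h' ha'j hb' comm''
    refine ⟨?_, hl⟩
    refine Groth.Agent.Helper5.RelDim.locallyQuasiFinite_of_fibreDimAt_eq_zero h'.left ?_
    intro u'
    have hmem : Points.ofPt (a' ≫ j) u' ∈ Set.range (Points.map j) := by
      rw [← Points.map_ofPt]; exact ⟨_, rfl⟩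
    rw [hrange] at hmem
    exact (hasAtMor_iff_chart_on hQ f.hom hf (a' ≫ j) b' h' ha'j hb' comm'' u').1 hmem
  · intro x hx
    have hx' : ¬ HasAtMor (QD fun r => r = 0) f.hom x := by
      intro h; apply hx
      show x ∈ Set.range (Points.map j)
      rw [hrange]; exact h
    obtain ⟨V, b, hbe, hbs⟩ := Y.property.atlas
    obtain ⟨U, a, s, c1, hae, -, -, has⟩ :=
      Groth.Agent.Helper5.GorSp.exists_chart_over X.property f.hom b hbe
    obtain ⟨u, rfl⟩ := Groth.Agent.Helper5.AlgSpOpen.ofPt_surjective_of_repWith a (has hbs) x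
    haveI : LocallyOfFiniteType s.left := hf a b s hae hbe c1
    refine ⟨U, V, a, b, s, u, hae, hbe, c1, rfl, ?_⟩
    obtain ⟨m, hm⟩ := Groth.Agent.Helper5.SubDim.fibreDimAt_nat s.left u
    have hm0 : m ≠ 0 := by
      intro h0
      apply hx'
      refine (hasAtMor_iff_chart_on hQ f.hom hf a b s hae hbe c1 u).2 ?_
      show FlatMor.fibreDimAt s.left u = 0
      rw [hm, h0]; rfl
    rw [hm]
    have : 1 ≤ m := Nat.one_le_iff_ne_zero.2 hm0
    exact_mod_cast this
  · intro Y'' X'' g b f'' sq x''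
    have hf'' := locP_lft_of_isPullback f g b f'' sq hf
    rw [hasAtMor_nbhd_lqf_iff f''.hom hf'' x'']
    have hbc := qd_locus_baseChange (fun r => r = 0) f g b f'' sq hf
    have h1 := Set.ext_iff.1 hbc x''
    show Points.map b.hom x'' ∈ Set.range (Points.map j) ↔ _
    rw [hrange]
    exact h1.symm

end Groth.Agent.Helper5.RelDimSp
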