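import Groth.Agent.Helper5.CodimQf1
import Groth.Agent.Helper5.IrrTfae2
import Groth.Agent.Helper5.RelDimSp2
import Groth.Agent.Helper5.GorSp6
import Mathlib

set_option autoImplicit false
set_option linter.style.haveILetI false
set_option linter.unusedSectionVars false
set_option linter.unusedVariables false
universe u
open CategoryTheory CategoryTheory.Limits AlgebraicGeometry Opposite TopologicalSpace

namespace Groth.Agent.Helper5.CodimQf

open AlgSp Groth.Agent.Helper4 Groth.Agent.Helper5.Codim0B Groth.Agent.Helper5.PtLoc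
  Groth.Agent.Helper5.RelDimSp

variable {S : Scheme.{u}}

set_option backward.isDefEq.respectTransparency.types false in
theorem s10399 {X Y : AlgSp.Space S} (f : X ⟶ Y)
    (hf : AlgSp.LocP @LocallyOfFiniteType f.hom) (y : AlgSp.Points Y.obj) (hy : AlgSp.HasAt (fun U u => ringKrullDim ↥(U.presheaf.stalk u) = 0) Y.obj y) :
    ((∀ x : AlgSp.Points X.obj, AlgSp.Points.map f.hom x = y → AlgSp.HasAt (fun U u => ringKrullDim ↥(U.presheaf.stalk u) = 0) X.obj x) ↔
        (∀ x : AlgSp.Points X.obj, AlgSp.Points.map f.hom x = y → AlgSp.HasAtMor (fun U _ h u => ∃ W : U.Opens, u ∈ W ∧ LocallyQuasiFinite (W.ι ≫ h) ∧ LocallyOfFiniteType (W.ι ≫ h)) f.hom x)) ∧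
      ((∀ x : AlgSp.Points X.obj, AlgSp.Points.map f.hom x = y → AlgSp.HasAt (fun U u => ringKrullDim ↥(U.presheaf.stalk u) = 0) X.obj x → AlgSp.HasAtMor (fun U _ h u => ∃ W : U.Opens, u ∈ W ∧ LocallyQuasiFinite (W.ι ≫ h) ∧ LocallyOfFiniteType (W.ι ≫ h)) f.hom x) →
        ∀ x : AlgSp.Points X.obj, AlgSp.Points.map f.hom x = y → AlgSp.HasAt (fun U u => ringKrullDim ↥(U.presheaf.stalk u) = 0) X.obj x) := by
  obtain ⟨V, b, hbe, hbs⟩ := Y.property.atlas
  obtain ⟨U, a, s, comm, hae, -, -, has⟩ :=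
    Groth.Agent.Helper5.GorSp.exists_chart_over X.property f.hom b hbe
  have has' := has hbs
  haveI hlft : LocallyOfFiniteType s.left := hf a b s hae hbe comm
  have hsurj := Groth.Agent.Helper5.AlgSpOpen.ofPt_surjective_of_repWith a has'
  -- (F1)
  have F1 : ∀ u : ↥U.left,
      HasAt (fun U u => ringKrullDim ↥(U.presheaf.stalk u) = 0) X.obj (Points.ofPt a u) ↔
        IsMaxPt u := by
    intro u
    rw [Groth.Agent.Helper5.HasAtChart.hasAt_iff_chart
      (fun U u => ringKrullDim ↥(U.presheaf.stalk u) = 0)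
      (fun g _ x => Groth.Agent.Helper5.IrrTfae.dimZero_iff_of_etale g x) a hae u,
      stalk_dim_zero_iff]
  -- (F2)
  have F2 : ∀ v : ↥V.left, Points.ofPt b v = y → IsMaxPt v := by
    intro v hv
    rw [← hv] at hy
    rw [Groth.Agent.Helper5.HasAtChart.hasAt_iff_chart
      (fun U u => ringKrullDim ↥(U.presheaf.stalk u) = 0)
      (fun g _ x => Groth.Agent.Helper5.IrrTfae.dimZero_iff_of_etale g x) b hbe v,
      stalk_dim_zero_iff] at hy
    exact hy
  -- (F3)
  have F3 : ∀ u : ↥U.left,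
      HasAtMor (fun U _ h u => ∃ W : U.Opens, u ∈ W ∧ LocallyQuasiFinite (W.ι ≫ h) ∧
        LocallyOfFiniteType (W.ι ≫ h)) f.hom (Points.ofPt a u) ↔
        FlatMor.fibreDimAt s.left u = 0 := by
    intro u
    rw [hasAtMor_nbhd_lqf_iff f.hom hf,
      hasAtMor_iff_chart_on (etLocalOn_QD _) f.hom hf a b s hae hbe comm u]
    rfl
  -- (F4)
  have F4 : ∀ u : ↥U.left, Points.map f.hom (Points.ofPt a u) = Points.ofPt b (s.left u) := by
    intro u
    rw [Points.map_ofPt, comm, AlgSpPtsDesc.ofPt_yon_map_comp]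
  refine ⟨⟨fun H1 x hx => ?_, fun H2 x hx => ?_⟩, fun H3 x hx => ?_⟩
  · obtain ⟨u, rfl⟩ := hsurj x
    rw [F3]
    apply fibreDimAt_eq_zero_of_no_specializes
    intro u₁ u₂ h1 h2 hs
    have hx1 : Points.map f.hom (Points.ofPt a u₁) = y := by rw [F4, h1, ← F4]; exact hx
    have := (F1 u₁).1 (H1 _ hx1)
    exact (this u₂ hs).symm
  · obtain ⟨u, rfl⟩ := hsurj x
    rw [F1]
    have hd := (F3 u).1 (H2 _ hx)
    have hv : IsMaxPt (s.left u) := F2 _ (by rw [← F4]; exact hx)
    exact isMaxPt_of_fibreDimAt_eq_zero s.left u hv hd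
  · obtain ⟨u, rfl⟩ := hsurj x
    rw [F1]
    have hv : IsMaxPt (s.left u) := F2 _ (by rw [← F4]; exact hx)
    apply isMaxPt_of_forall_isMaxPt_fibreDimAt s.left u hv
    intro u' h1 hmax
    have hx1 : Points.map f.hom (Points.ofPt a u') = y := by rw [F4, h1, ← F4]; exact hx
    exact (F3 u').1 (H3 _ hx1 ((F1 u').2 hmax))

end Groth.Agent.Helper5.CodimQf
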