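import Groth.Agent.Helper5.SpCoprod5
import Mathlib

set_option autoImplicit false
set_option linter.style.haveILetI false
set_option linter.unusedSectionVars false
set_option linter.unusedVariables false
universe u
open CategoryTheory CategoryTheory.Limits AlgebraicGeometry Opposite

namespace Groth.Agent.Helper5.SpCoprod

open AlgSp Groth.Agent.Helper5.ZarGlue Functor.relativelyRepresentable

variable {S : Scheme.{u}}

section
variable {F : Sp S} {ι : Type u} {Fi : ι → Sp S} (f : ∀ i, Fi i ⟶ F)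
    (hopen : ∀ i, RepWith @IsOpenImmersion (f i))
    (hloc : ∀ (T : Over S) (s : (yon S).obj T ⟶ F), ∃ R ∈ J S T, ∀ ⦃V : Over S⦄ (γ : V ⟶ T),
      R γ → ∃ (i : ι) (a : (yon S).obj V ⟶ Fi i), (yon S).map γ ≫ s = a ≫ f i)

include hopen hloc in
/-- the coproduct of given étale surjective charts of the members of an open cover is an étale
surjective chart -/
theorem exists_atlas_of_charts (Ui : ι → Over S) (pi : ∀ i, (yon S).obj (Ui i) ⟶ Fi i)
    (hpe : ∀ i, RepWith @Etale (pi i)) (hps : ∀ i, RepWith @Surjective (pi i)) :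
    ∃ (p : (yon S).obj (Groth.Agent.Helper5.YonCoprod.sigmaOver Ui) ⟶ F),
      (∀ i, (yon S).map (Groth.Agent.Helper5.YonCoprod.sigmaι Ui i) ≫ p = pi i ≫ f i) ∧
      RepWith @Etale p ∧ RepWith @Surjective p := by
  obtain ⟨U, hU⟩ : ∃ U : Over S, U = Groth.Agent.Helper5.YonCoprod.sigmaOver Ui := ⟨_, rfl⟩
  obtain ⟨σ, hσ, hσoi, hσcov, ⟨hcol⟩⟩ : ∃ σ : ∀ i, Ui i ⟶ U,
      (∀ i, HEq (σ i) (Groth.Agent.Helper5.YonCoprod.sigmaι Ui i)) ∧
      (∀ i, IsOpenImmersion (σ i).left) ∧
      (∀ x : U.left, ∃ i, x ∈ Set.range (σ i).left) ∧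
      Nonempty (IsColimit (Cofan.mk ((yon S).obj U) (fun j => (yon S).map (σ j)))) := by
    subst hU
    refine ⟨Groth.Agent.Helper5.YonCoprod.sigmaι Ui, fun i => HEq.rfl, fun i => ?_, fun x => ?_,
      ⟨Groth.Agent.Helper5.YonCoprod.isColimitCofan Ui⟩⟩
    · have : IsOpenImmersion (Sigma.ι (fun j => (Ui j).left) i) := inferInstance
      exact this
    · obtain ⟨y, hy⟩ := (sigmaOpenCover (fun j => (Ui j).left)).covers x
      exact ⟨_, y, hy⟩
  obtain ⟨p, hp⟩ : ∃ p : (yon S).obj U ⟶ F, ∀ i, (yon S).map (σ i) ≫ p = pi i ≫ f i :=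
    ⟨Cofan.IsColimit.desc hcol (fun i => pi i ≫ f i),
      fun i => Cofan.IsColimit.fac hcol (fun i => pi i ≫ f i) i⟩
  have key : ∀ ⦃T : Over S⦄ (g : (yon S).obj T ⟶ F), ∃ (W₀ : Over S) (snd : W₀ ⟶ T)
      (fst : (yon S).obj W₀ ⟶ (yon S).obj U), IsPullback fst ((yon S).map snd) p g ∧
        (Etale snd.left ∧ Surjective snd.left) := by
    intro T g
    choose Ti t gi sqT using fun i => (hopen i).1 g
    have ht : ∀ i, IsOpenImmersion (t i).left := fun i => (hopen i).2 _ _ _ (sqT i)
    have hcovT := cover_of_local_lift f hloc g Ti t gi sqT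
    choose W w b sqW using fun i => (hpe i).1 (gi i)
    have hwe : ∀ i, Etale (w i).left := fun i => (hpe i).2 _ _ _ (sqW i)
    have hws : ∀ i, Surjective (w i).left := fun i => (hps i).2 _ _ _ (sqW i)
    choose β hβ using fun i => (yon S).map_surjective (b i)
    have sqV : ∀ i, IsPullback ((yon S).map (β i)) ((yon S).map (w i) ≫ (yon S).map (t i))
        (pi i ≫ f i) g := fun i => by
      rw [hβ]
      exact (sqW i).paste_vert (sqT i)
    let φ : ∀ i, (yon S).obj (W i) ⟶ pullback p g := fun i =>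
      pullback.lift ((yon S).map (β i) ≫ (yon S).map (σ i))
        ((yon S).map (w i) ≫ (yon S).map (t i)) (by rw [Category.assoc, hp, (sqV i).w])
    have sqφ : ∀ i, IsPullback (φ i) ((yon S).map (β i)) (pullback.fst p g)
        ((yon S).map (σ i)) := by
      intro i
      have h0 : φ i ≫ pullback.snd p g = (yon S).map (w i) ≫ (yon S).map (t i) :=
        pullback.lift_snd _ _ _
      have h1 : IsPullback ((yon S).map (β i)) (φ i ≫ pullback.snd p g)
          ((yon S).map (σ i) ≫ p) g := by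
        rw [hp, h0]
        exact sqV i
      have h2 : (yon S).map (β i) ≫ (yon S).map (σ i) = φ i ≫ pullback.fst p g :=
        (pullback.lift_fst _ _ _).symm
      exact (IsPullback.of_bot h1 h2 (IsPullback.of_hasPullback p g)).flip
    obtain ⟨W₀, e, w₀, k, he, hk, hpb, hkoi, hkcov⟩ :=
      exists_glue_rel' (pullback.fst p g) Ui σ hσoi hσcov W β φ sqφ
    obtain ⟨snd, hsnd⟩ := (yon S).map_surjective (e.hom ≫ pullback.snd p g)
    have hks : ∀ i, k i ≫ snd = w i ≫ t i := fun i => by
      apply (yon S).map_injective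
      rw [Functor.map_comp, hsnd, ← Category.assoc, hk, Functor.map_comp]
      exact pullback.lift_snd _ _ _
    refine ⟨W₀, snd, (yon S).map w₀, ?_, ?_, ?_⟩
    · rw [hsnd, ← he]
      exact IsPullback.of_iso (IsPullback.of_hasPullback p g) e.symm (Iso.refl _) (Iso.refl _)
        (Iso.refl _) (by simp) (by simp) (by simp) (by simp)
    · refine prop_of_local_source @Etale snd.left (fun i => (W i).left) (fun i => (k i).left)
        hkoi hkcov (fun i => ?_)
      have e1 : (k i).left ≫ snd.left = (w i).left ≫ (t i).left := by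
        rw [← Over.comp_left, hks, Over.comp_left]
      rw [e1]
      have := hwe i
      have := ht i
      infer_instance
    · constructor
      intro τ
      obtain ⟨i, τ', hτ'⟩ := hcovT τ
      obtain ⟨ω, hω⟩ := (hws i).surj τ'
      refine ⟨(k i).left ω, ?_⟩
      have e1 : (k i).left ≫ snd.left = (w i).left ≫ (t i).left := by
        rw [← Over.comp_left, hks, Over.comp_left]
      rw [← Scheme.Hom.comp_apply, e1, Scheme.Hom.comp_apply, hω, hτ']
  subst hU
  have hσ' : σ = Groth.Agent.Helper5.YonCoprod.sigmaι Ui := funext fun i => eq_of_heq (hσ i)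
  subst hσ'
  refine ⟨p, hp, repWith_of_exists @Etale p (fun T g => ?_),
    repWith_of_exists @Surjective p (fun T g => ?_)⟩
  · obtain ⟨W₀, snd, fst, sq, h1, -⟩ := key g
    exact ⟨W₀, snd, fst, sq, h1⟩
  · obtain ⟨W₀, snd, fst, sq, -, h2⟩ := key g
    exact ⟨W₀, snd, fst, sq, h2⟩

end

/-- a finite coproduct of quasi-compact schemes is quasi-compact -/
theorem compactSpace_sigma {ι : Type u} [Finite ι] (g : ι → Scheme.{u})
    (h : ∀ i, CompactSpace (g i)) : CompactSpace ↥(∐ g) := by
  constructor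
  have e : (Set.univ : Set ↥(∐ g)) = ⋃ i, Set.range (Sigma.ι g i) := by
    ext x
    simp only [Set.mem_univ, Set.mem_iUnion, true_iff]
    obtain ⟨y, hy⟩ := (sigmaOpenCover g).covers x
    exact ⟨_, y, hy⟩
  rw [e]
  exact isCompact_iUnion fun i => isCompact_range (Sigma.ι g i).continuous

section Cofan

variable {ι : Type u} {F : ι → Sp S} (c : Cofan F) (hc : IsColimit c)

include hc in
/-- S10228 -/
theorem isQuasiCompactSp_pt [Finite ι] (hqc : ∀ i, IsQuasiCompactSp (F i)) :
    IsQuasiCompactSp c.pt := by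
  choose Ui pi hpe hps hUc using hqc
  obtain ⟨p, -, h1, h2⟩ := exists_atlas_of_charts (fun i => c.inj i) (repWith_oi_inj c hc)
    (local_lift c hc) Ui pi hpe hps
  exact ⟨_, p, h1, h2, compactSpace_sigma (fun j => (Ui j).left) hUc⟩

end Cofan

end Groth.Agent.Helper5.SpCoprod
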