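import Mathlib
import Groth.Agent.Helper5.SpCoprod6
import Groth.Agent.Helper5.AlgSpOpen2
import Groth.Agent.Helper5.GeomRed
import Groth.Agent.Helper5.MonoQuot9
import Groth.Agent.Helper5.Decent3
import Groth.Agent.Helper4.AlgSpQC2

/-!
# A quasi-compact open subspace containing a given finite set of points
-/

set_option autoImplicit false
set_option linter.style.haveILetI false
set_option linter.unusedVariables false
universe u

namespace Groth.Agent.Helper5.QcOpenFin

open CategoryTheory CategoryTheory.Limits AlgebraicGeometry Opposite AlgSp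
open Groth.Agent.Helper4 Groth.Agent.Helper5.YonCoprod

variable {S : Scheme.{u}}

/-- every point of an algebraic space lies in an affine étale chart -/
theorem exists_affine_chart_point {X : Sp S} (hX : IsAlgSpace X) (x : Points X) :
    ∃ (U : Over S) (a : (yon S).obj U ⟶ X) (u : ↥U.left), IsAffine U.left ∧ RepWith @Etale a ∧
      Points.ofPt a u = x := by
  obtain ⟨U₀, a₀, u₀, ha₀, hu₀⟩ := Groth.Agent.Helper5.GeomRed.exists_chart_point hX x
  obtain ⟨O, hO, hu₀O⟩ : ∃ O : U₀.left.Opens, IsAffineOpen O ∧ u₀ ∈ O := by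
    obtain ⟨_, ⟨O, hO, rfl⟩, hvO, -⟩ :=
      U₀.left.isBasis_affineOpens.exists_subset_of_mem_open (Set.mem_univ u₀) isOpen_univ
    exact ⟨O, hO, hvO⟩
  refine ⟨Over.mk (O.ι ≫ U₀.hom), (yon S).map (Over.homMk O.ι rfl) ≫ a₀, ⟨u₀, hu₀O⟩, hO,
    Groth.Agent.Helper5.MonoQuot.repWith_etale_restrict a₀ ha₀ O, ?_⟩
  rw [AlgSpPtsDesc.ofPt_yon_map_comp]
  exact hu₀

set_option backward.isDefEq.respectTransparency.types false in
theorem exists_qc_open_of_finite {X : Sp S} (hX : IsAlgSpace X) (F : Set (Points X))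
    (hF : F.Finite) :
    ∃ (X'' : Sp S) (j : X'' ⟶ X), IsAlgSpace X'' ∧ RepWith @IsOpenImmersion j ∧
      IsQuasiCompactSp X'' ∧ F ⊆ Set.range (Points.map j) := by
  obtain ⟨n, e, he⟩ := hF.fin_embedding
  have hch : ∀ i : ULift.{u} (Fin n), ∃ (U : Over S) (a : (yon S).obj U ⟶ X) (u : ↥U.left),
      IsAffine U.left ∧ RepWith @Etale a ∧ Points.ofPt a u = e i.down :=
    fun i => exists_affine_chart_point hX (e i.down)
  choose U a u hU ha hu using hch
  have hW : IsOpen (⋃ i, Set.range (Points.ofPt (a i))) :=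
    isOpen_iUnion fun i =>
      (Groth.Agent.Helper5.Decent3.isOpenMap_ofPt hX (a i) (ha i)).isOpen_range
  obtain ⟨X'', j, hX'', hj, hrange⟩ :=
    Groth.Agent.Helper5.AlgSpOpen.exists_open_subspace hX _ hW
  have hfac : ∀ i, ∃ g : (yon S).obj (U i) ⟶ X'', g ≫ j = a i := fun i =>
    Groth.Agent.Helper5.AlgSpIso.exists_factor_open j hj (a i) (by
      rw [Groth.Agent.Helper5.AlgSpOpen.range_map_eq_range_ofPt, hrange]
      exact Set.subset_iUnion (fun i => Set.range (Points.ofPt (a i))) i)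
  choose a' ha' using hfac
  let a'' : (yon S).obj (sigmaOver U) ⟶ X'' := Cofan.IsColimit.desc (isColimitCofan U) a'
  have hfac'' : ∀ i, (yon S).map (sigmaι U i) ≫ a'' = a' i := fun i =>
    Cofan.IsColimit.fac (isColimitCofan U) a' i
  haveI : Mono j := Groth.Agent.Helper5.ZarGlue.mono_of_oi j hj
  have hinj : Function.Injective (Points.map j) :=
    Groth.Agent.Helper4.AlgSpInj.injective_points_of_injective_fieldPts j
      (fun K _ str c₁ c₂ h => (cancel_mono j).1 h)
  have hsurj : IsSurjectiveMor a'' := by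
    intro p
    have hp : Points.map j p ∈ ⋃ i, Set.range (Points.ofPt (a i)) := by
      rw [← hrange]; exact ⟨p, rfl⟩
    obtain ⟨i, w, hw⟩ := Set.mem_iUnion.1 hp
    refine ⟨Points.schemeHomeo (sigmaOver U) ((sigmaι U i).left w), ?_⟩
    apply hinj
    rw [AlgSpQC2.ofPt_eq_map_schemeHomeo, ← hw, ← ha' i, ← hfac'' i, Category.assoc,
      AlgSpPtsDesc.ofPt_yon_map_comp, Points.map_ofPt]
  haveI : Finite (ULift.{u} (Fin n)) := inferInstance
  haveI : CompactSpace ↥(sigmaOver U).left :=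
    Groth.Agent.Helper5.SpCoprod.compactSpace_sigma (fun j => (U j).left)
      (fun j => by haveI := hU j; infer_instance)
  refine ⟨X'', j, hX'', hj,
    AlgSpQC2.isQuasiCompactSp_of_surjective hX'' a'' hsurj (AlgSpQC2.isQuasiCompactSp_yon _), ?_⟩
  intro x hx
  rw [← he] at hx
  obtain ⟨k, rfl⟩ := hx
  rw [hrange]
  exact Set.mem_iUnion.2 ⟨⟨k⟩, u ⟨k⟩, hu ⟨k⟩⟩

end Groth.Agent.Helper5.QcOpenFin
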