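import Mathlib
import Groth.Agent.Helper5.CodimQf2
import Groth.Agent.Helper5.MonoQuot9
import Groth.Agent.Helper5.QcOpenFin
import Groth.Agent.Helper3.GenFin3

/-!
# Finite fibres over a point force quasi-finiteness along the fibre (decent source)
-/

set_option autoImplicit false
set_option linter.style.haveILetI false
set_option linter.unusedVariables false
universe u

namespace Groth.Agent.Helper5.FinFibQf

open CategoryTheory CategoryTheory.Limits AlgebraicGeometry Opposite AlgSp
open Groth.Agent.Helper4 Groth.Agent.Helper5.Codim0B Groth.Agent.Helper5.PtLoc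
  Groth.Agent.Helper5.RelDimSp

variable {S : Scheme.{u}}

set_option backward.isDefEq.respectTransparency.types false in
/-- a morphism locally of finite type from a decent space is quasi-finite at all points of a
finite fibre -/
theorem hasAtMor_of_finite_fibre {Z Y : Space S} (g : Z ⟶ Y)
    (hg : LocP @LocallyOfFiniteType g.hom) (hZ : IsDecent Z.obj) (y : Points Y.obj)
    (hfin : (Points.map g.hom ⁻¹' {y}).Finite) (z : Points Z.obj) (hz : Points.map g.hom z = y) :
    HasAtMor (fun U _ h u => ∃ W : U.Opens, u ∈ W ∧ LocallyQuasiFinite (W.ι ≫ h) ∧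
      LocallyOfFiniteType (W.ι ≫ h)) g.hom z := by
  obtain ⟨V, b, hbe, hbs⟩ := Y.property.atlas
  obtain ⟨v, hv⟩ := Groth.Agent.Helper5.AlgSpOpen.ofPt_surjective_of_repWith b hbs y
  obtain ⟨U₀, a₀, k₀, u₀, ha₀, comm₀, hu₀, hku₀⟩ :=
    Groth.Agent.Helper5.AtMor.exists_chart_over Z.property g.hom z b hbe v (hv.trans hz.symm)
  obtain ⟨O, hO, hu₀O⟩ : ∃ O : U₀.left.Opens, IsAffineOpen O ∧ u₀ ∈ O := by
    obtain ⟨_, ⟨O, hO, rfl⟩, hvO, -⟩ :=
      U₀.left.isBasis_affineOpens.exists_subset_of_mem_open (Set.mem_univ u₀) isOpen_univ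
    exact ⟨O, hO, hvO⟩
  let U : Over S := Over.mk (O.ι ≫ U₀.hom)
  let ιO : U ⟶ U₀ := Over.homMk O.ι rfl
  let a : (yon S).obj U ⟶ Z.obj := (yon S).map ιO ≫ a₀
  have hae : RepWith @Etale a := Groth.Agent.Helper5.MonoQuot.repWith_etale_restrict a₀ ha₀ O
  let k : U ⟶ V := ιO ≫ k₀
  have comm : a ≫ g.hom = (yon S).map k ≫ b := by
    show ((yon S).map ιO ≫ a₀) ≫ g.hom = (yon S).map (ιO ≫ k₀) ≫ b
    rw [Category.assoc, comm₀, Functor.map_comp, Category.assoc]
  let u : ↥U.left := ⟨u₀, hu₀O⟩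
  have hu : Points.ofPt a u = z := by
    show Points.ofPt ((yon S).map ιO ≫ a₀) u = z
    rw [AlgSpPtsDesc.ofPt_yon_map_comp]
    exact hu₀
  have hku : k.left u = v := hku₀
  haveI hUaff : IsAffine U.left := hO
  haveI hlft : LocallyOfFiniteType k.left := hg a b k hae hbe comm
  rw [← hu, hasAtMor_nbhd_lqf_iff g.hom hg,
    hasAtMor_iff_chart_on (etLocalOn_QD _) g.hom hg a b k hae hbe comm u]
  show FlatMor.fibreDimAt k.left u = 0
  -- the fibre of the chart over `v` is finite
  obtain ⟨R, s, t, hR, -, -⟩ := Groth.Agent.Helper5.MonoQuot.exists_relation a hae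
  have hfib : (k.left ⁻¹' {v}).Finite := by
    refine (hfin.biUnion (fun z' _ =>
      ((Groth.Agent.Helper5.MonoQuot.s10360 Z z').2 (hZ z') U a hUaff hae R s t hR).1)).subset ?_
    intro u' hu'
    have hu'' : k.left u' = v := hu'
    simp only [Set.mem_iUnion, Set.mem_preimage, Set.mem_singleton_iff]
    refine ⟨Points.ofPt a u', ?_, rfl⟩
    rw [Points.map_ofPt, comm, AlgSpPtsDesc.ofPt_yon_map_comp, hu'', hv]
  have hdisc := Groth.Agent.Helper3.GenFin.isDiscrete_fiber_of_finite k.left v hfib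
  apply Groth.Agent.Helper5.CodimQf.fibreDimAt_eq_zero_of_no_specializes
  intro u₁ u₂ h1 h2 hs
  rw [hku] at h1 h2
  exact (hdisc.eq_of_specializes hs h2 h1).symm

end Groth.Agent.Helper5.FinFibQf
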