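import Mathlib
import Groth.Agent.Helper5.DegStr2
import Groth.Agent.Helper5.Codim0B

/-!
# Compactness of the strata for quasi-compact morphisms, and separating a maximal point from a
quasi-compact open
-/

set_option autoImplicit false
universe u
open CategoryTheory CategoryTheory.Limits AlgebraicGeometry TopologicalSpace

namespace Groth.Agent.Helper5.DegStr

open Groth.Agent.Helper5.Codim0B

variable {Y B : Scheme.{u}} (f : Y ⟶ B)

theorem Npts_succ_subset (n : ℕ) : Npts f (n + 1) ⊆ Npts f n := by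
  rintro b ⟨K, _, β, y, hb, hy, hinj⟩
  exact ⟨K, inferInstance, β, fun i => y i.castSucc, hb, fun i => hy _,
    fun i j hij => Fin.castSucc_injective _ (hinj hij)⟩

theorem Npts_antitone : Antitone (Npts f) := antitone_nat_of_succ_le (Npts_succ_subset f)

instance quasiCompact_offDiag_ι [IsSeparated f] [Etale f] : QuasiCompact (offDiag f).ι := by
  have hcl : IsClosed (Set.range (offDiag f).ι) := by
    rw [Scheme.Opens.range_ι]
    exact (pullback.diagonal f).isOpenEmbedding.isOpen_range.isClosed_compl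
  have hce : Topology.IsClosedEmbedding (offDiag f).ι :=
    ⟨(offDiag f).ι.isOpenEmbedding.isEmbedding, hcl⟩
  exact ⟨fun K _ hKc => hce.isCompact_preimage hKc⟩

instance quasiCompact_offDiagFst [IsSeparated f] [Etale f] [QuasiCompact f] :
    QuasiCompact (offDiagFst f) := by
  unfold offDiagFst
  infer_instance

/-- for a quasi-compact morphism to a quasi-compact base the strata are quasi-compact -/
theorem isCompact_Npts (n : ℕ) : ∀ {Y B : Scheme.{u}} (f : Y ⟶ B) [Etale f] [IsSeparated f]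
    [QuasiCompact f] [CompactSpace ↥B], IsCompact (Npts f n) := by
  induction n with
  | zero =>
    intro Y B f _ _ _ _
    rw [Npts_zero]
    exact isCompact_univ
  | succ n ih =>
    intro Y B f _ _ _ _
    haveI : CompactSpace ↥Y := QuasiCompact.compactSpace_of_compactSpace f
    rw [Npts_succ]
    exact (ih (offDiagFst f)).image f.continuous

/-- a point with zero dimensional local ring outside a basic open has a neighbourhood disjoint
from it -/
theorem exists_open_disjoint_basicOpen (u : ↥B) (hu : IsMaxPt u) (g : Γ(B, ⊤))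
    (hug : u ∉ B.basicOpen g) :
    ∃ W : B.Opens, u ∈ W ∧ Disjoint (W : Set ↥B) (B.basicOpen g : Set ↥B) := by
  have hdim : ringKrullDim ↥(B.presheaf.stalk u) = 0 := (stalk_dim_zero_iff B u).2 hu
  haveI : Ring.KrullDimLE 0 ↥(B.presheaf.stalk u) := Ring.krullDimLE_iff.2 (by rw [hdim]; rfl)
  have hnu : ¬ IsUnit (B.presheaf.germ ⊤ u trivial g) := fun h =>
    hug ((B.mem_basicOpen_top g u).2 h)
  have hmem : B.presheaf.germ ⊤ u trivial g ∈ IsLocalRing.maximalIdeal ↥(B.presheaf.stalk u) :=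
    (IsLocalRing.mem_maximalIdeal _).2 hnu
  obtain ⟨k, hk⟩ := Ring.KrullDimLE.isNilpotent_iff_mem_maximalIdeal.2 hmem
  have hk' : B.presheaf.germ ⊤ u trivial (g ^ k) = B.presheaf.germ ⊤ u trivial 0 := by
    rw [map_pow, hk, map_zero]
  obtain ⟨W, huW, iU, iV, hres⟩ := B.presheaf.germ_eq (U := ⊤) (V := ⊤) u (by trivial) (by trivial)
    (g ^ k) 0 hk'
  refine ⟨W, huW, ?_⟩
  rw [Set.disjoint_left]
  intro y hyW hyg
  have hunit : IsUnit (B.presheaf.germ ⊤ y trivial g) := (B.mem_basicOpen_top g y).1 hyg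
  have h0 : B.presheaf.germ ⊤ y trivial (g ^ k) = 0 := by
    have h1 : B.presheaf.germ W y hyW (B.presheaf.map iU.op (g ^ k)) =
        B.presheaf.germ ⊤ y trivial (g ^ k) := B.presheaf.germ_res_apply iU y hyW (g ^ k)
    rw [← h1, hres, map_zero, map_zero]
  rw [map_pow] at h0
  have : IsUnit (0 : ↥(B.presheaf.stalk y)) := by
    rw [← h0]
    exact hunit.pow k
  exact not_isUnit_zero this

/-- a maximal point outside a quasi-compact open of an affine scheme has a neighbourhood disjoint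
from it -/
theorem exists_open_disjoint_of_isMaxPt [IsAffine B] (u : ↥B) (hu : IsMaxPt u) (N : Set ↥B)
    (hNo : IsOpen N) (hNc : IsCompact N) (huN : u ∉ N) :
    ∃ O : Set ↥B, IsOpen O ∧ u ∈ O ∧ Disjoint O N := by
  classical
  have hch : ∀ y : ↥N, ∃ g : Γ(B, ⊤), (y : ↥B) ∈ B.basicOpen g ∧ (B.basicOpen g : Set ↥B) ⊆ N := by
    rintro ⟨y, hy⟩
    obtain ⟨_, ⟨_, ⟨g, rfl⟩, rfl⟩, hyg, hsub⟩ :=
      (isBasis_basicOpen B).exists_subset_of_mem_open hy hNo
    exact ⟨g, hyg, hsub⟩
  choose g hg1 hg2 using hch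
  have hW : ∀ y : ↥N, ∃ W : B.Opens, u ∈ W ∧
      Disjoint (W : Set ↥B) (B.basicOpen (g y) : Set ↥B) := fun y =>
    exists_open_disjoint_basicOpen u hu (g y) (fun h => huN (hg2 y h))
  choose W hW1 hW2 using hW
  obtain ⟨t, ht⟩ := hNc.elim_finite_subcover (fun y : ↥N => (B.basicOpen (g y) : Set ↥B))
    (fun y => (B.basicOpen (g y)).isOpen) (fun y hy => Set.mem_iUnion.2 ⟨⟨y, hy⟩, hg1 ⟨y, hy⟩⟩)
  refine ⟨⋂ y ∈ t, (W y : Set ↥B), ?_, ?_, ?_⟩
  · exact isOpen_biInter_finset (fun y _ => (W y).isOpen)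
  · exact Set.mem_iInter₂.2 (fun y _ => hW1 y)
  · rw [Set.disjoint_left]
    intro z hz hzN
    obtain ⟨y, hy, hzy⟩ := Set.mem_iUnion₂.1 (ht hzN)
    exact Set.disjoint_left.1 (hW2 y) (Set.mem_iInter₂.1 hz y hy) hzy

end Groth.Agent.Helper5.DegStr
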