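import Mathlib
import Groth.Agent.Helper5.DegStr8
import Groth.Agent.Helper5.DegStr13

/-!
# Open subschemes around codimension 0 points when the relation is quasi-compact
-/

set_option autoImplicit false
universe u

namespace Groth.Agent.Helper5.DegStr

open CategoryTheory CategoryTheory.Limits AlgebraicGeometry Opposite AlgSp
open Groth.Agent.Helper4.AlgSpOpenImage Groth.Agent.Helper4.AlgSpPtsDesc
open Groth.Agent.Helper5.Codim0B

variable {S : Scheme.{u}}

/-- the source map of the kernel pair of a chart by an affine scheme is separated -/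
theorem isSeparated_of_kernelPair {X : Sp S} {V R : Over S} [IsAffine V.left]
    (φ : (yon S).obj V ⟶ X) (s t : R ⟶ V)
    (hR : IsPullback ((yon S).map t) ((yon S).map s) φ φ) : IsSeparated s.left := by
  let j : R.left ⟶ pullback V.hom V.hom :=
    pullback.lift t.left s.left (by rw [Over.w t, Over.w s])
  haveI : Mono j := ⟨fun a b hab => by
    apply Groth.Agent.Helper5.MonoQuot.kp_jm φ s t hR a b
    · have := congrArg (· ≫ pullback.snd V.hom V.hom) hab
      simpa only [Category.assoc, j, pullback.lift_snd] using this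
    · have := congrArg (· ≫ pullback.fst V.hom V.hom) hab
      simpa only [Category.assoc, j, pullback.lift_fst] using this⟩
  have h : s.left = j ≫ pullback.snd V.hom V.hom := (pullback.lift_snd _ _ _).symm
  rw [h]
  infer_instance

/-- the saturation of an open on which the number of geometric points of the relation is constant
has a scheme as image -/
theorem exists_scheme_open_image_of_const {X : Sp S} (hX : IsAlgSpace X) {V R : Over S}
    [IsAffine V.left] (φ : (yon S).obj V ⟶ X) (hφ : RepWith @Etale φ) (s t : R ⟶ V)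
    (hR : IsPullback ((yon S).map t) ((yon S).map s) φ φ) [Etale s.left] (n : ℕ)
    (U₀ : Set ↥V.left) (hU₀o : IsOpen U₀) (hU₀n : U₀ ⊆ Npts s.left n)
    (hU₀d : Disjoint U₀ (Npts s.left (n + 1))) :
    ∃ (O : V.left.Opens) (Z : Over S), U₀ ⊆ (O : Set ↥V.left) ∧
      Nonempty ((yon S).obj Z ≅
        img ((yon S).map (Over.homMk O.ι rfl : Over.mk (O.ι ≫ V.hom) ⟶ V) ≫ φ)) := by
  haveI : IsSeparated s.left := isSeparated_of_kernelPair φ s t hR
  let π : ↥V.left → Points X := Points.ofPt φ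
  have hπo : IsOpenMap π := Groth.Agent.Helper5.Decent3.isOpenMap_ofPt hX φ hφ
  let VO : V.left.Opens := ⟨π ⁻¹' (π '' U₀), (hπo _ hU₀o).preimage (Points.continuous_ofPt φ)⟩
  have hmemVO : ∀ v : ↥V.left, v ∈ VO ↔ ∃ u ∈ U₀, π u = π v := fun v => Iff.rfl
  have hU₀VO : U₀ ⊆ (VO : Set ↥V.left) := fun u hu => (hmemVO u).2 ⟨u, hu, rfl⟩
  have hsat : ∀ v v' : ↥V.left, v ∈ VO → π v = π v' → v' ∈ VO := by
    intro v v' hv hvv'
    obtain ⟨u, hu, huv⟩ := (hmemVO v).1 hv
    exact (hmemVO v').2 ⟨u, hu, huv.trans hvv'⟩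
  have hVOn : ∀ v : ↥V.left, v ∈ VO → v ∈ Npts s.left n := by
    intro v hv
    obtain ⟨u, hu, huv⟩ := (hmemVO v).1 hv
    exact (mem_Npts_iff_of_ofPt_eq φ s t hR n u v huv).1 (hU₀n hu)
  have hVOd : ∀ v : ↥V.left, v ∈ VO → v ∉ Npts s.left (n + 1) := by
    intro v hv hv'
    obtain ⟨u, hu, huv⟩ := (hmemVO v).1 hv
    exact Set.disjoint_left.1 hU₀d hu ((mem_Npts_iff_of_ofPt_eq φ s t hR (n + 1) u v huv).2 hv')
  have hst : ∀ r : ↥R.left, π (s.left r) = π (t.left r) := by
    intro r
    show Points.ofPt φ (s.left r) = Points.ofPt φ (t.left r)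
    rw [← ofPt_yon_map_comp s φ r, ← ofPt_yon_map_comp t φ r, hR.w]
  have hpre : s.left ⁻¹ᵁ VO ≤ t.left ⁻¹ᵁ VO := by
    intro r hr
    exact hsat _ _ hr (hst r)
  -- finiteness over the saturated open
  haveI hfinO : IsFinite (s.left ∣_ VO) := by
    apply isFinite_of_Npts n (s.left ∣_ VO)
    · rw [Set.eq_univ_iff_forall]
      intro b
      exact (mem_Npts_morphismRestrict s.left VO n b).2 (hVOn _ b.2)
    · rw [Set.eq_empty_iff_forall_notMem]
      intro b hb
      exact hVOd _ b.2 ((mem_Npts_morphismRestrict s.left VO (n + 1) b).1 hb)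
  -- the restricted chart and its relation
  let VO' : Over S := Over.mk (VO.ι ≫ V.hom)
  let ιO : VO' ⟶ V := Over.homMk VO.ι rfl
  let RO : Over S := Over.mk ((s.left ⁻¹ᵁ VO).ι ≫ R.hom)
  let ιR : RO ⟶ R := Over.homMk (s.left ⁻¹ᵁ VO).ι rfl
  let sO : RO ⟶ VO' := Over.homMk (s.left ∣_ VO) (by
    show (s.left ∣_ VO) ≫ VO.ι ≫ V.hom = (s.left ⁻¹ᵁ VO).ι ≫ R.hom
    rw [← Category.assoc, morphismRestrict_ι, Category.assoc, Over.w s])
  let tO : RO ⟶ VO' := Over.homMk (t.left.resLE VO (s.left ⁻¹ᵁ VO) hpre) (by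
    show (t.left.resLE VO (s.left ⁻¹ᵁ VO) hpre) ≫ VO.ι ≫ V.hom = (s.left ⁻¹ᵁ VO).ι ≫ R.hom
    rw [← Category.assoc, Scheme.Hom.resLE_comp_ι, Category.assoc, Over.w t])
  have hsO : sO ≫ ιO = ιR ≫ s := Over.OverMorphism.ext (morphismRestrict_ι s.left VO)
  have htO : tO ≫ ιO = ιR ≫ t :=
    Over.OverMorphism.ext (Scheme.Hom.resLE_comp_ι t.left hpre)
  haveI : Mono ιO := by
    haveI : Mono ιO.left := (inferInstance : Mono VO.ι)
    exact Over.mono_of_mono_left ιO
  have sq₁ : IsPullback sO ιR ιO s :=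
    Groth.Agent.Helper4.UB1.isPullback_of_left hsO (isPullback_morphismRestrict s.left VO)
  have sq₂ : IsPullback (𝟙 RO) tO (ιR ≫ t) ιO := by
    have := Groth.Agent.Helper4.AlgSpPB.isPullback_of_mono tO ιO
    rwa [htO] at this
  let φO : (yon S).obj VO' ⟶ X := (yon S).map ιO ≫ φ
  have hRO : IsPullback ((yon S).map tO) ((yon S).map sO) φO φO := by
    have h := Groth.Agent.Helper5.MonoQuot.isPullback_through_chart φ t s hR.flip ιO ιO sq₁ sq₂
    rw [Category.id_comp] at h
    exact h.flip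
  have hφO : RepWith @Etale φO := Groth.Agent.Helper5.MonoQuot.repWith_etale_restrict φ hφ VO
  -- the quotient scheme
  let D := Groth.Agent.Helper5.MonoQuot.eqvDataOfKernelPair φO sO tO hRO
  haveI : IsFinite sO.left := hfinO
  haveI : Etale sO.left := (inferInstance : Etale (s.left ∣_ VO))
  haveI : Flat sO.left := inferInstance
  haveI : LocallyOfFinitePresentation sO.left := inferInstance
  obtain ⟨Y, q, pY, hq, hqf, hqfl, hqp, hqs, hpb⟩ := D.exists_quotient' (by
    intro x
    have hF : (tO.left '' (sO.left ⁻¹' {x})).Finite :=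
      (sO.left.finite_preimage_singleton x).image _
    exact exists_affine_open_of_finite VO _ hF)
  let Z : Over S := Over.mk pY
  let c' : VO' ⟶ Z := Over.homMk q hq
  haveI : Flat c'.left := hqfl
  haveI : LocallyOfFinitePresentation c'.left := hqp
  haveI : Surjective c'.left := ⟨hqs⟩
  have hR' : IsPullback ((yon S).map tO) ((yon S).map sO) (toImg φO) (toImg φO) := by
    apply Groth.Agent.Helper5.EtImg.isPullback_of_comp_mono (imgι φO)
    rw [toImg_ι]
    exact hRO
  obtain ⟨m, hm, hmono⟩ := exists_mono_of_quotient sO tO c' hpb (toImg φO) hR'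
  haveI := hmono
  haveI : Epi (toImg φO) := Groth.Agent.Helper5.EtGlue.epi_of_etale_surjective (toImg φO)
    (toImg_etale φO hφO) (toImg_surjective φO hφO)
  haveI : Epi ((yon S).map c' ≫ m) := by rw [hm]; infer_instance
  haveI : Epi m := epi_of_epi ((yon S).map c') m
  haveI : IsIso m := isIso_of_mono_of_epi m
  exact ⟨VO, Z, hU₀VO, ⟨asIso m⟩⟩


/-- a maximal point of an affine chart with quasi-compact relation has an open neighbourhood
whose image is a scheme -/
theorem exists_scheme_open_image_of_isMaxPt {X : Sp S} (hX : IsAlgSpace X) {V R : Over S}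
    [IsAffine V.left] (φ : (yon S).obj V ⟶ X) (hφ : RepWith @Etale φ) (s t : R ⟶ V)
    (hR : IsPullback ((yon S).map t) ((yon S).map s) φ φ) [Etale s.left] [QuasiCompact s.left]
    (v : ↥V.left) (hv : IsMaxPt v) :
    ∃ (O : V.left.Opens) (Z : Over S), v ∈ O ∧
      Nonempty ((yon S).obj Z ≅
        img ((yon S).map (Over.homMk O.ι rfl : Over.mk (O.ι ≫ V.hom) ⟶ V) ≫ φ)) := by
  classical
  haveI : IsSeparated s.left := isSeparated_of_kernelPair φ s t hR
  haveI : LocallyQuasiFinite s.left :=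
    Groth.Agent.Helper5.UnramLqf.locallyQuasiFinite_of_unramified s.left
  have hex : ∃ k, v ∉ Npts s.left k :=
    exists_not_mem_Npts s.left v (s.left.finite_preimage_singleton v)
  let k := Nat.find hex
  have hk : v ∉ Npts s.left k := Nat.find_spec hex
  have hk0 : k ≠ 0 := by
    intro h0
    apply hk
    rw [h0, Npts_zero]
    trivial
  obtain ⟨n, hn⟩ := Nat.exists_eq_succ_of_ne_zero hk0
  have hvn : v ∈ Npts s.left n := by
    by_contra hcon
    have := Nat.find_min' hex hcon
    omega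
  have hvn1 : v ∉ Npts s.left (n + 1) := by
    have : k = n + 1 := hn
    rw [← this]
    exact hk
  obtain ⟨O₁, hO₁o, hvO₁, hO₁d⟩ := exists_open_disjoint_of_isMaxPt v hv (Npts s.left (n + 1))
    (isOpen_Npts (n + 1) s.left) (isCompact_Npts (n + 1) s.left) hvn1
  obtain ⟨O, Z, hsub, hiso⟩ := exists_scheme_open_image_of_const hX φ hφ s t hR n
    (O₁ ∩ Npts s.left n) (hO₁o.inter (isOpen_Npts n s.left)) Set.inter_subset_right
    (hO₁d.mono_left Set.inter_subset_left)
  exact ⟨O, Z, hsub ⟨hvO₁, hvn⟩, hiso⟩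

end Groth.Agent.Helper5.DegStr
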