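import Mathlib
import Groth.Agent.Helper5.RelDimSp2

/-!
# Finite neighbourhoods of codimension 0 points: scheme-level lemmas
-/

set_option autoImplicit false
universe u

namespace Groth.Agent.Helper5.FinNbhd

open CategoryTheory CategoryTheory.Limits AlgebraicGeometry Opposite TopologicalSpace

/-- a quasi-compact morphism locally of finite type has a finite fibre over a point as soon as it is
quasi-finite at all points of that fibre -/
theorem finite_fibre_of_fibreDimAt {W V : Scheme.{u}} (g : W ⟶ V) [LocallyOfFiniteType g]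
    [QuasiCompact g] (v₀ : V) (h0 : ∀ w : W, g w = v₀ → FlatMor.fibreDimAt g w = 0) :
    (g ⁻¹' {v₀}).Finite := by
  let O : W.Opens := ⟨{x | FlatMor.fibreDimAt g x = 0},
    Groth.Agent.Helper5.RelDimSp.isOpen_fibreDimAt_eq_zero g⟩
  have hlqf : LocallyQuasiFinite (O.ι ≫ g) :=
    Groth.Agent.Helper5.RelDim.locallyQuasiFinite_of_fibreDimAt_eq_zero _ (fun w => by
      rw [Groth.Agent.Helper5.RelDimSp.fibreDimAt_ι_comp]
      exact w.2)
  have hdisc : _root_.IsDiscrete ((O.ι ≫ g) ⁻¹' {v₀}) :=
    Scheme.Hom.isDiscrete_preimage_singleton (O.ι ≫ g) v₀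
  have hcomp : IsCompact (g ⁻¹' {v₀}) := Scheme.Hom.isCompact_preimage_singleton g v₀
  have himg : g ⁻¹' {v₀} = O.ι '' ((O.ι ≫ g) ⁻¹' {v₀}) := by
    ext w
    constructor
    · intro hw
      have hwO : w ∈ O := h0 w hw
      refine ⟨⟨w, hwO⟩, ?_, rfl⟩
      show (O.ι ≫ g) ⟨w, hwO⟩ = v₀
      rw [Scheme.Hom.comp_apply]
      exact hw
    · rintro ⟨w', hw', rfl⟩
      have : (O.ι ≫ g) w' = v₀ := hw'
      rw [Scheme.Hom.comp_apply] at this
      exact this
  have hd : _root_.IsDiscrete (g ⁻¹' {v₀}) := by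
    rw [himg]
    exact hdisc.image O.ι.isEmbedding.isInducing
  exact hcomp.finite hd

/-- cancellation of finiteness for restrictions over an open of the base -/
theorem isFinite_morphismRestrict_of_comp {R W V : Scheme.{u}} (s : R ⟶ W) (g : W ⟶ V)
    [IsSeparated g] (V' : V.Opens) (h : IsFinite ((s ≫ g) ∣_ V')) :
    IsFinite (s ∣_ (g ⁻¹ᵁ V')) := by
  rw [morphismRestrict_comp] at h
  exact @IsFinite.of_comp _ _ _ (s ∣_ (g ⁻¹ᵁ V')) (g ∣_ V') h inferInstance

/-- a morphism of affine schemes, locally of finite type, which becomes finite after composing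
with a flat surjective morphism from an affine scheme is finite -/
theorem isFinite_of_comp_flat_surjective {A M B : Scheme.{u}} [IsAffine A] [IsAffine M]
    [IsAffine B] (q : A ⟶ M) (i : M ⟶ B) [Flat q] [Surjective q] [LocallyOfFiniteType i]
    [IsFinite (q ≫ i)] : IsFinite i := by
  rw [IsFinite.iff_isIntegralHom_and_locallyOfFiniteType]
  refine ⟨?_, inferInstance⟩
  rw [HasAffineProperty.iff_of_isAffine (P := @IsIntegralHom)]
  refine ⟨inferInstance, ?_⟩
  have hqi : IsIntegralHom (q ≫ i) := inferInstance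
  rw [HasAffineProperty.iff_of_isAffine (P := @IsIntegralHom)] at hqi
  have hint := hqi.2
  have hff : q.appTop.hom.FaithfullyFlat :=
    (Flat.flat_and_surjective_iff_faithfullyFlat_of_isAffine (f := q)).1 ⟨inferInstance, inferInstance⟩
  have hinj : Function.Injective q.appTop.hom := hff.injective
  have hcomp : ((q ≫ i).app ⊤).hom = q.appTop.hom.comp i.appTop.hom := by
    show (q ≫ i).appTop.hom = _
    rw [Scheme.Hom.comp_appTop]
    rfl
  rw [hcomp] at hint
  exact RingHom.IsIntegral.tower_bot _ _ hinj hint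

end Groth.Agent.Helper5.FinNbhd
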