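import Groth.Agent.Helper4.AlgSpQS
import Groth.Agent.Helper4.AlgSpLocal
import Mathlib

set_option autoImplicit false
universe u v₁ u₁
open CategoryTheory CategoryTheory.Limits AlgebraicGeometry Opposite

namespace Groth.Agent.Helper5.DiagBC

section general

variable {C : Type u₁} [Category.{v₁} C]

/-- If `W` with `π₁, π₂` is "product-like" (jointly monic projections) and `m : P ⟶ W` is the
canonical map from a fibre product over `X`, then `m` is a base change of the diagonal of `X`. -/
theorem isPullback_diag_of_jointly_mono {X A B P W : C} [HasBinaryProduct X X]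
    {p₁ : P ⟶ A} {p₂ : P ⟶ B} {a : A ⟶ X} {b : B ⟶ X} (h : IsPullback p₁ p₂ a b)
    (π₁ : W ⟶ A) (π₂ : W ⟶ B)
    (hmono : ∀ {T : C} (s t : T ⟶ W), s ≫ π₁ = t ≫ π₁ → s ≫ π₂ = t ≫ π₂ → s = t)
    (m : P ⟶ W) (hm1 : m ≫ π₁ = p₁) (hm2 : m ≫ π₂ = p₂) :
    IsPullback (p₁ ≫ a) m (Limits.diag X) (prod.lift (π₁ ≫ a) (π₂ ≫ b)) := by
  refine ⟨⟨?_⟩, ⟨PullbackCone.IsLimit.mk _ (fun c => h.lift (c.snd ≫ π₁) (c.snd ≫ π₂) ?_) ?_ ?_ ?_⟩⟩
  · apply Limits.prod.hom_ext
    · simp only [Category.assoc, prod.lift_fst, Limits.diag, Category.comp_id]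
      rw [← Category.assoc, hm1]
    · simp only [Category.assoc, prod.lift_snd, Limits.diag, Category.comp_id]
      rw [← Category.assoc, hm2, h.w]
  · have h1 := c.condition =≫ prod.fst
    have h2 := c.condition =≫ prod.snd
    simp only [Category.assoc, prod.lift_fst, prod.lift_snd, Limits.diag, Category.comp_id] at h1 h2
    rw [Category.assoc, Category.assoc, ← h1, ← h2]
  · intro c
    have h1 := c.condition =≫ prod.fst
    simp only [Category.assoc, prod.lift_fst, Limits.diag, Category.comp_id] at h1
    rw [← Category.assoc, h.lift_fst, Category.assoc, h1]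
  · intro c
    apply hmono
    · rw [Category.assoc, hm1, h.lift_fst]
    · rw [Category.assoc, hm2, h.lift_snd]
  · intro c k hk1 hk2
    apply h.hom_ext
    · rw [h.lift_fst, ← hk2, Category.assoc, hm1]
    · rw [h.lift_snd, ← hk2, Category.assoc, hm2]

end general

open AlgSp Groth.Agent.Helper4 Groth.Agent.Helper4.AlgSpQS

variable {S : Scheme.{u}}

/-- the canonical morphism from a scheme over `U` and `V` to `U ×_S V` -/
noncomputable def toProd {U V P : Over S} (fst : P ⟶ U) (snd : P ⟶ V) : P ⟶ prodOver U V :=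
  Over.homMk (pullback.lift fst.left snd.left (by rw [Over.w fst, Over.w snd])) (by
    show pullback.lift fst.left snd.left _ ≫ pullback.fst U.hom V.hom ≫ U.hom = P.hom
    rw [pullback.lift_fst_assoc, Over.w fst])

theorem toProd_fst {U V P : Over S} (fst : P ⟶ U) (snd : P ⟶ V) :
    toProd fst snd ≫ prodFst U V = fst := by
  apply Over.OverMorphism.ext
  exact pullback.lift_fst _ _ _

theorem toProd_snd {U V P : Over S} (fst : P ⟶ U) (snd : P ⟶ V) :
    toProd fst snd ≫ prodSnd U V = snd := by
  apply Over.OverMorphism.ext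
  exact pullback.lift_snd _ _ _

theorem yon_prod_hom_ext (U V : Over S) {T : Sp S} (s t : T ⟶ (yon S).obj (prodOver U V))
    (h1 : s ≫ (yon S).map (prodFst U V) = t ≫ (yon S).map (prodFst U V))
    (h2 : s ≫ (yon S).map (prodSnd U V) = t ≫ (yon S).map (prodSnd U V)) : s = t :=
  (isPullback_prodOver U V terminalIsTerminal (terminal.from _) (terminal.from _)).hom_ext h1 h2

/-- The canonical map `P ⟶ U ×_S V` from a scheme representing `h_U ×_X h_V` is a base change of
the diagonal of `X`. -/
theorem isPullback_toProd {X : Sp S} {U V P : Over S} (a : (yon S).obj U ⟶ X)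
    (b : (yon S).obj V ⟶ X) (fst : P ⟶ U) (snd : P ⟶ V)
    (h : IsPullback ((yon S).map fst) ((yon S).map snd) a b) :
    IsPullback ((yon S).map fst ≫ a) ((yon S).map (toProd fst snd)) (Limits.diag X)
      (prod.lift ((yon S).map (prodFst U V) ≫ a) ((yon S).map (prodSnd U V) ≫ b)) := by
  apply isPullback_diag_of_jointly_mono h _ _ (fun s t => yon_prod_hom_ext U V s t)
  · rw [← Functor.map_comp, toProd_fst]
  · rw [← Functor.map_comp, toProd_snd]

theorem prop_toProd (Q : MorphismProperty Scheme.{u}) {X : Sp S} (hX : RepWith Q (Limits.diag X))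
    {U V P : Over S} (a : (yon S).obj U ⟶ X)
    (b : (yon S).obj V ⟶ X) (fst : P ⟶ U) (snd : P ⟶ V)
    (h : IsPullback ((yon S).map fst) ((yon S).map snd) a b) : Q (toProd fst snd).left :=
  hX.property _ _ _ (isPullback_toProd a b fst snd h)

/-- the diagonal `T ⟶ T ×_S T` -/
noncomputable def diagOver (T : Over S) : T ⟶ prodOver T T := toProd (𝟙 T) (𝟙 T)

set_option backward.isDefEq.respectTransparency false in
/-- Converse: a Zariski-local, base-change-stable property of the canonical maps `P ⟶ U ×_S V` for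
affine `U`, `V` gives the property for the diagonal. -/
theorem repWith_diag_of_affine (Q : MorphismProperty Scheme.{u}) [IsZariskiLocalAtTarget Q]
    [Q.IsStableUnderBaseChange] {X : Sp S} (hX : Representable (Limits.diag X))
    (H : ∀ (U V P : Over S) (a : (yon S).obj U ⟶ X) (b : (yon S).obj V ⟶ X)
      (fst : P ⟶ U) (snd : P ⟶ V), IsAffine U.left → IsAffine V.left →
      IsPullback ((yon S).map fst) ((yon S).map snd) a b → Q (toProd fst snd).left) :
    RepWith Q (Limits.diag X) := by
  apply AlgSpLocal.repWith_of_affine Q _ hX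
  intro T E ξ c e hT sq
  let a : (yon S).obj T ⟶ X := ξ ≫ prod.fst
  let b : (yon S).obj T ⟶ X := ξ ≫ prod.snd
  have hrep : Representable a := Functor.relativelyRepresentable.of_diag hX a
  let P := hrep.pullback b
  let fst : P ⟶ T := hrep.fst' b
  let snd : P ⟶ T := hrep.snd b
  have hP : IsPullback ((yon S).map fst) ((yon S).map snd) a b := hrep.isPullback' b
  have hQ : Q (toProd fst snd).left := H T T P a b fst snd hT hT hP
  have h1 := isPullback_toProd a b fst snd hP
  have h2 : (yon S).map (diagOver T) ≫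
      prod.lift ((yon S).map (prodFst T T) ≫ a) ((yon S).map (prodSnd T T) ≫ b) = ξ := by
    apply Limits.prod.hom_ext
    · rw [Category.assoc, prod.lift_fst, ← Category.assoc, ← Functor.map_comp]
      show (yon S).map (toProd (𝟙 T) (𝟙 T) ≫ prodFst T T) ≫ a = _
      rw [toProd_fst, CategoryTheory.Functor.map_id, Category.id_comp]
    · rw [Category.assoc, prod.lift_snd, ← Category.assoc, ← Functor.map_comp]
      show (yon S).map (toProd (𝟙 T) (𝟙 T) ≫ prodSnd T T) ≫ b = _
      rw [toProd_snd, CategoryTheory.Functor.map_id, Category.id_comp]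
  have hcomm : c ≫ Limits.diag X = ((yon S).map e ≫ (yon S).map (diagOver T)) ≫
      prod.lift ((yon S).map (prodFst T T) ≫ a) ((yon S).map (prodSnd T T) ≫ b) := by
    rw [Category.assoc, h2]; exact sq.w
  have hleft : IsPullback (h1.lift c ((yon S).map e ≫ (yon S).map (diagOver T)) hcomm)
      ((yon S).map e) ((yon S).map (toProd fst snd)) ((yon S).map (diagOver T)) := by
    refine IsPullback.of_right ?_ (h1.lift_snd _ _ hcomm) h1
    rw [h1.lift_fst, h2]
    exact sq
  obtain ⟨k, hk⟩ := (yon S).map_surjective (h1.lift c ((yon S).map e ≫ (yon S).map (diagOver T)) hcomm)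
  rw [← hk] at hleft
  have hO : IsPullback k e (toProd fst snd) (diagOver T) :=
    IsPullback.of_map (yon S) ((yon S).map_injective (by
      rw [Functor.map_comp, Functor.map_comp]; exact hleft.w)) hleft
  have hSch := hO.map (Over.forget S)
  exact Q.of_isPullback hSch hQ

end Groth.Agent.Helper5.DiagBC
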