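import Mathlib
import Groth.Agent.Helper5.MonoQuot7
import Groth.Agent.Helper5.DiagBC
import Groth.Agent.Helper4.AlgSpQS

/-!
# S10350: quasi-separated algebraic spaces are decent
-/

set_option autoImplicit false
universe u

namespace Groth.Agent.Helper5.MonoQuot

open CategoryTheory CategoryTheory.Limits AlgebraicGeometry Opposite AlgSp
open Groth.Agent.Helper4.AlgSpQS Groth.Agent.Helper5.DiagBC

variable {S : Scheme.{u}}

/-- a map from a scheme quasi-compact over `S` to a quasi-separated algebraic space is
quasi-compact -/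
theorem repWith_qc_of_qs {X : Sp S} (hX : IsAlgSpace X) (hqs : IsQuasiSeparatedSp X)
    {A : Over S} [QuasiCompact A.hom] (a : (yon S).obj A ⟶ X) : RepWith @QuasiCompact a := by
  refine ⟨hX.representable_from_yon a, ?_⟩
  intro T W g fstT sndT sq
  show QuasiCompact sndT.left
  obtain ⟨fT, rfl⟩ := (yon S).map_surjective fstT
  have hΔ : RepWith @QuasiCompact (pullback.diagonal (terminal.from X)) :=
    (Groth.Agent.Helper4.AlgSpDiag.repWith_diag_iff _ _).1 hqs
  have hjpb := pullback_map_diagonal_isPullback a g (terminal.from X)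
  have i3 := repWith_isStableUnderBaseChange (S := S) @QuasiCompact
  have hj : RepWith @QuasiCompact (pullback.map a g (a ≫ terminal.from X)
      (g ≫ terminal.from X) (𝟙 _) (𝟙 _) (terminal.from X) (Category.id_comp _).symm
      (Category.id_comp _).symm) := MorphismProperty.of_isPullback hjpb hΔ
  have hN : IsPullback ((yon S).map (prodFst A T)) ((yon S).map (prodSnd A T))
      (a ≫ terminal.from X) (g ≫ terminal.from X) :=
    isPullback_prodOver A T terminalIsTerminal _ _
  have hmd : pullback.map a g (a ≫ terminal.from X)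
      (g ≫ terminal.from X) (𝟙 _) (𝟙 _) (terminal.from X) (Category.id_comp _).symm
      (Category.id_comp _).symm =
      sq.isoPullback.inv ≫ (yon S).map (toProd fT sndT) ≫ hN.isoPullback.hom := by
    rw [Iso.eq_inv_comp]
    apply pullback.hom_ext
    · simp only [Category.assoc]
      rw [IsPullback.isoPullback_hom_fst, ← Functor.map_comp, toProd_fst]
      rw [pullback.lift_fst, Category.comp_id, IsPullback.isoPullback_hom_fst]
    · simp only [Category.assoc]
      rw [IsPullback.isoPullback_hom_snd, ← Functor.map_comp, toProd_snd]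
      rw [pullback.lift_snd, Category.comp_id, IsPullback.isoPullback_hom_snd]
  have h0 : RepWith @QuasiCompact ((yon S).map (toProd fT sndT)) := by
    rw [hmd] at hj
    exact (MorphismProperty.cancel_right_of_respectsIso (RepWith (S := S) @QuasiCompact) _ _).1
      ((MorphismProperty.cancel_left_of_respectsIso (RepWith (S := S) @QuasiCompact) _ _).1 hj)
  have h1 : QuasiCompact (toProd fT sndT).left := (AlgSp.repWith_yon_map_iff _ _).1 h0
  have h2 : QuasiCompact (prodSnd A T).left :=
    (inferInstance : QuasiCompact (pullback.snd A.hom T.hom))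
  have h3 : sndT = toProd fT sndT ≫ prodSnd A T := (toProd_snd _ _).symm
  rw [h3, Over.comp_left]
  infer_instance

theorem s10350 (X : Space S) (hX : IsQuasiSeparatedSp X.obj) : IsDecent X.obj := by
  intro x
  obtain ⟨U, φ, hφ, hφs⟩ := X.property.atlas
  obtain ⟨u, hu⟩ := Groth.Agent.Helper5.QuotEff.exists_ofPt_eq φ hφs x
  haveI : QuasiCompact (FieldPt.ofPt φ u).pt.hom := by
    haveI : Finite ↥(FieldPt.ofPt φ u).pt.left :=
      (inferInstance : Finite (PrimeSpectrum (FieldPt.ofPt φ u).K))
    exact quasiCompact_of_finite _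
  have h1 : RepWith @QuasiCompact (FieldPt.ofPt φ u).toHom :=
    repWith_qc_of_qs X.property hX _
  obtain ⟨p, hp, hm, hpq⟩ := exists_qc_mono_of_chart_point X.property φ hφ u h1
  exact ⟨p, hp.trans hu, hm, hpq⟩

end Groth.Agent.Helper5.MonoQuot
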