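import Mathlib
import Groth.Agent.Helper5.MonoQuot8

/-!
# Finite neighbourhoods of codimension 0 points: restriction of charts and quasi-compactness of
the relation
-/

set_option autoImplicit false
universe u v₁ u₁

namespace Groth.Agent.Helper5.FinNbhd

open CategoryTheory CategoryTheory.Limits AlgebraicGeometry Opposite AlgSp

section Cat

variable {C : Type u₁} [Category.{v₁} C] [HasPullbacks C]

/-- the fibre product over a restricted base is a base change of the fibre product -/
theorem isPullback_map_snd {X Y V V' : C} (f : X ⟶ Y) (b : V ⟶ Y) (i : V' ⟶ V) :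
    IsPullback (pullback.map f (i ≫ b) f b (𝟙 X) i (𝟙 Y) (by simp) (by simp))
      (pullback.snd f (i ≫ b)) (pullback.snd f b) i := by
  have big : IsPullback (pullback.map f (i ≫ b) f b (𝟙 X) i (𝟙 Y) (by simp) (by simp) ≫
      pullback.fst f b) (pullback.snd f (i ≫ b)) f (i ≫ b) := by
    have h := IsPullback.of_hasPullback f (i ≫ b)
    have e : pullback.map f (i ≫ b) f b (𝟙 X) i (𝟙 Y) (by simp) (by simp) ≫ pullback.fst f b =
        pullback.fst f (i ≫ b) := by
      rw [pullback.lift_fst, Category.comp_id]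
    rw [e]
    exact h
  exact IsPullback.of_right big (pullback.lift_snd _ _ _) (IsPullback.of_hasPullback f b)

/-- restriction of a chart of a fibre product over an open of the base -/
theorem exists_restrict_chart {X Y V V' W W' : C} (f : X ⟶ Y) (b : V ⟶ Y) (i : V' ⟶ V)
    (ℓ : W ⟶ pullback f b) (iW : W' ⟶ W) (g' : W' ⟶ V')
    (sq : IsPullback iW g' (ℓ ≫ pullback.snd f b) i) :
    ∃ ℓ' : W' ⟶ pullback f (i ≫ b),
      ℓ' ≫ pullback.fst f (i ≫ b) = iW ≫ ℓ ≫ pullback.fst f b ∧
      ℓ' ≫ pullback.snd f (i ≫ b) = g' ∧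
      IsPullback ℓ' iW (pullback.map f (i ≫ b) f b (𝟙 X) i (𝟙 Y) (by simp) (by simp)) ℓ := by
  have hw : (iW ≫ ℓ ≫ pullback.fst f b) ≫ f = g' ≫ i ≫ b := by
    rw [Category.assoc, Category.assoc, pullback.condition, ← Category.assoc ℓ, ← Category.assoc iW,
      sq.w, Category.assoc]
  refine ⟨pullback.lift (iW ≫ ℓ ≫ pullback.fst f b) g' hw, pullback.lift_fst _ _ _,
    pullback.lift_snd _ _ _, ?_⟩
  have hcomm : pullback.lift (iW ≫ ℓ ≫ pullback.fst f b) g' hw ≫
      pullback.map f (i ≫ b) f b (𝟙 X) i (𝟙 Y) (by simp) (by simp) = iW ≫ ℓ := by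
    apply pullback.hom_ext
    · rw [Category.assoc, pullback.lift_fst, ← Category.assoc, pullback.lift_fst, Category.comp_id,
        Category.assoc]
    · rw [Category.assoc, pullback.lift_snd, ← Category.assoc, pullback.lift_snd, Category.assoc]
      exact sq.w.symm
  have big : IsPullback (pullback.lift (iW ≫ ℓ ≫ pullback.fst f b) g' hw ≫
      pullback.snd f (i ≫ b)) iW i (ℓ ≫ pullback.snd f b) := by
    rw [pullback.lift_snd]
    exact sq.flip
  exact IsPullback.of_right big hcomm (isPullback_map_snd f b i).flip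

end Cat

variable {S : Scheme.{u}}

/-- the relation of a chart of a sheaf quasi-separated over a scheme is quasi-compact over the
fibre square of the chart -/
theorem quasiCompact_relation {P : Sp S} {V W R T : Over S} (π : P ⟶ (yon S).obj V)
    (hqs : IsQuasiSeparatedMor π) (ℓ : (yon S).obj W ⟶ P) (g : W ⟶ V)
    (hg : ℓ ≫ π = (yon S).map g) (s t : R ⟶ W)
    (hR : IsPullback ((yon S).map t) ((yon S).map s) ℓ ℓ) (p₁ p₂ : T ⟶ W)
    (hT : IsPullback p₁ p₂ g g) (d : R ⟶ T) (hd₁ : d ≫ p₁ = t) (hd₂ : d ≫ p₂ = s) :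
    QuasiCompact d.left := by
  have hΔ : RepWith @QuasiCompact (pullback.diagonal π) := hqs
  have hjpb := pullback_map_diagonal_isPullback ℓ ℓ π
  have i3 := repWith_isStableUnderBaseChange (S := S) @QuasiCompact
  have hj : RepWith @QuasiCompact (pullback.map ℓ ℓ (ℓ ≫ π) (ℓ ≫ π) (𝟙 _) (𝟙 _) π
      (Category.id_comp _).symm (Category.id_comp _).symm) :=
    MorphismProperty.of_isPullback hjpb hΔ
  have hN : IsPullback ((yon S).map p₁) ((yon S).map p₂) (ℓ ≫ π) (ℓ ≫ π) := by
    rw [hg]
    exact hT.map (yon S)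
  have hmd : pullback.map ℓ ℓ (ℓ ≫ π) (ℓ ≫ π) (𝟙 _) (𝟙 _) π
      (Category.id_comp _).symm (Category.id_comp _).symm =
      hR.isoPullback.inv ≫ (yon S).map d ≫ hN.isoPullback.hom := by
    rw [Iso.eq_inv_comp]
    apply pullback.hom_ext
    · simp only [Category.assoc]
      rw [IsPullback.isoPullback_hom_fst, ← Functor.map_comp, hd₁]
      rw [pullback.lift_fst, Category.comp_id, IsPullback.isoPullback_hom_fst]
    · simp only [Category.assoc]
      rw [IsPullback.isoPullback_hom_snd, ← Functor.map_comp, hd₂]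
      rw [pullback.lift_snd, Category.comp_id, IsPullback.isoPullback_hom_snd]
  have h0 : RepWith @QuasiCompact ((yon S).map d) := by
    rw [hmd] at hj
    exact (MorphismProperty.cancel_right_of_respectsIso (RepWith (S := S) @QuasiCompact) _ _).1
      ((MorphismProperty.cancel_left_of_respectsIso (RepWith (S := S) @QuasiCompact) _ _).1 hj)
  exact (AlgSp.repWith_yon_map_iff _ _).1 h0

end Groth.Agent.Helper5.FinNbhd
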