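import Mathlib
import Groth.Agent.Helper5.FinNbhd1
import Groth.Agent.Helper5.FinNbhd2
import Groth.Agent.Helper5.CodimQf2
import Groth.Agent.Helper3.GenFin3
import Groth.Agent.Helper4.AlgSpQC2

/-!
# Finite neighbourhoods of codimension 0 points: stage 1 (a finite affine chart of the fibre product)
-/

set_option autoImplicit false
set_option linter.style.haveILetI false
set_option linter.unusedVariables false
universe u

namespace Groth.Agent.Helper5.FinNbhd

open CategoryTheory CategoryTheory.Limits AlgebraicGeometry Opposite AlgSp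
open Groth.Agent.Helper4 Groth.Agent.Helper5.Codim0B Groth.Agent.Helper5.PtLoc
  Groth.Agent.Helper5.RelDimSp

variable {S : Scheme.{u}}

set_option backward.isDefEq.respectTransparency.types false in
theorem stage1 {X Y : Space S} (f : X ⟶ Y) (hft : IsFiniteTypeMor f.hom) {V : Over S}
    [IsAffine V.left] (b : (yon S).obj V ⟶ Y.obj) (hbe : RepWith @Etale b) (v₀ : ↥V.left)
    (hv₀ : ∀ y : ↥V.left, y ⤳ v₀ → y = v₀)
    (hqf : ∀ x : Points X.obj, Points.map f.hom x = Points.ofPt b v₀ →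
      HasAtMor (fun U _ h u => ∃ W : U.Opens, u ∈ W ∧ LocallyQuasiFinite (W.ι ≫ h) ∧
        LocallyOfFiniteType (W.ι ≫ h)) f.hom x) :
    ∃ (V' W' : Over S) (ιV : V' ⟶ V) (v₀' : ↥V'.left)
      (ℓ' : (yon S).obj W' ⟶ pullback f.hom ((yon S).map ιV ≫ b)) (g' : W' ⟶ V'),
      IsAffine V'.left ∧ IsOpenImmersion ιV.left ∧ ιV.left v₀' = v₀ ∧
        (∀ y : ↥V'.left, y ⤳ v₀' → y = v₀') ∧ IsAffine W'.left ∧ RepWith @Etale ℓ' ∧
        RepWith @Surjective ℓ' ∧ ℓ' ≫ pullback.snd f.hom ((yon S).map ιV ≫ b) = (yon S).map g' ∧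
        IsFinite g'.left := by
  have hf := hft.1
  have sqP := IsPullback.of_hasPullback f.hom b
  have hqc : IsQuasiCompactSp (pullback f.hom b) :=
    hft.2 (IsAlgSpace.yon_obj V) (AlgSpQC2.isQuasiCompactSp_yon V) b _ _ sqP
  obtain ⟨W, p, hpe, hps, hW⟩ := AlgSpQC.exists_affine_chart hqc
  haveI : IsAffine W.left := hW
  obtain ⟨g, hg⟩ := (yon S).map_surjective (p ≫ pullback.snd f.hom b)
  have i1 := repWith_isStableUnderBaseChange (S := S) @Etale
  have i2 := (repWith_isMultiplicative (S := S) @Etale).toIsStableUnderComposition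
  have i3 := repWith_isStableUnderBaseChange (S := S) @Surjective
  have hfe : RepWith @Etale (pullback.fst f.hom b) := MorphismProperty.of_isPullback sqP.flip hbe
  have hae : RepWith @Etale (p ≫ pullback.fst f.hom b) := MorphismProperty.comp_mem _ _ _ hpe hfe
  have comm : (p ≫ pullback.fst f.hom b) ≫ f.hom = (yon S).map g ≫ b := by
    rw [Category.assoc, pullback.condition, ← Category.assoc, hg]
  haveI hlft : LocallyOfFiniteType g.left := hf _ b g hae hbe comm
  -- the fibre over `v₀` is finite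
  have hfin : (g.left ⁻¹' {v₀}).Finite := by
    apply finite_fibre_of_fibreDimAt
    intro w hw
    have h4 : Points.map f.hom (Points.ofPt (p ≫ pullback.fst f.hom b) w) = Points.ofPt b v₀ := by
      rw [Points.map_ofPt, comm, AlgSpPtsDesc.ofPt_yon_map_comp, hw]
    have h3 := hqf _ h4
    rw [hasAtMor_nbhd_lqf_iff f.hom hf,
      hasAtMor_iff_chart_on (etLocalOn_QD _) f.hom hf _ b g hae hbe comm w] at h3
    exact h3
  obtain ⟨V', hV'a, hv₀V', hV'fin⟩ :=
    Groth.Agent.Helper3.GenFin.exists_finite_nhd_of_qs g.left v₀ hv₀ hfin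
  -- the restricted objects
  let Vo : Over S := Over.mk (V'.ι ≫ V.hom)
  let ιV : Vo ⟶ V := Over.homMk V'.ι rfl
  let Wo : Over S := Over.mk ((g.left ⁻¹ᵁ V').ι ≫ W.hom)
  let ιW : Wo ⟶ W := Over.homMk (g.left ⁻¹ᵁ V').ι rfl
  let g' : Wo ⟶ Vo := Over.homMk (g.left ∣_ V') (by
    show (g.left ∣_ V') ≫ V'.ι ≫ V.hom = (g.left ⁻¹ᵁ V').ι ≫ W.hom
    rw [← Category.assoc, morphismRestrict_ι, Category.assoc, Over.w g])
  have hw : ιW ≫ g = g' ≫ ιV := Over.OverMorphism.ext (morphismRestrict_ι g.left V').symm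
  have sq : IsPullback ιW g' g ιV :=
    Groth.Agent.Helper5.GeomFibSp.isPullback_of_left hw (isPullback_morphismRestrict g.left V').flip
  have sq' : IsPullback ((yon S).map ιW) ((yon S).map g') (p ≫ pullback.snd f.hom b)
      ((yon S).map ιV) := by
    rw [← hg]
    exact sq.map (yon S)
  obtain ⟨ℓ', -, hℓ'2, hℓ'pb⟩ :=
    exists_restrict_chart f.hom b ((yon S).map ιV) p ((yon S).map ιW) ((yon S).map g') sq'
  haveI : IsAffine (V' : Scheme.{u}) := hV'a
  haveI : IsFinite (g.left ∣_ V') := hV'fin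
  refine ⟨Vo, Wo, ιV, ⟨v₀, hv₀V'⟩, ℓ', g', hV'a, (inferInstance : IsOpenImmersion V'.ι), rfl, ?_,
    ?_, MorphismProperty.of_isPullback hℓ'pb.flip hpe, MorphismProperty.of_isPullback hℓ'pb.flip hps,
    hℓ'2, hV'fin⟩
  · intro y hy
    have h1 : V'.ι y ⤳ V'.ι ⟨v₀, hv₀V'⟩ :=
      (V'.ι.isEmbedding.isInducing.specializes_iff).2 hy
    have h2 : V'.ι y = v₀ := hv₀ _ h1
    exact V'.ι.isEmbedding.injective h2
  · exact isAffine_of_isAffineHom (g.left ∣_ V')

end Groth.Agent.Helper5.FinNbhd
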