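import Mathlib
import Groth.Agent.Helper5.FinNbhd3
import Groth.Agent.Helper5.DegStr14
import Groth.Agent.S9903

/-!
# Finite neighbourhoods of codimension 0 points: stage 2 (the quotient of the finite chart)
-/

set_option autoImplicit false
set_option linter.style.haveILetI false
set_option linter.unusedVariables false
universe u

namespace Groth.Agent.Helper5.FinNbhd

open CategoryTheory CategoryTheory.Limits AlgebraicGeometry Opposite AlgSp
open Groth.Agent.Helper4 Groth.Agent.Helper5.DegStr

variable {S : Scheme.{u}}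

set_option backward.isDefEq.respectTransparency.types false in
set_option maxHeartbeats 1600000 in
theorem stage2 {X Y : Space S} (f : X ⟶ Y) (hqs : IsQuasiSeparatedMor f.hom)
    (hf : LocP @LocallyOfFiniteType f.hom) {V W : Over S} [IsAffine V.left] [IsAffine W.left]
    (b : (yon S).obj V ⟶ Y.obj) (hbe : RepWith @Etale b) (v₀ : ↥V.left)
    (hv₀ : ∀ y : ↥V.left, y ⤳ v₀ → y = v₀)
    (ℓ : (yon S).obj W ⟶ pullback f.hom b) (hℓe : RepWith @Etale ℓ)
    (hℓs : RepWith @Surjective ℓ) (g : W ⟶ V)
    (hg : ℓ ≫ pullback.snd f.hom b = (yon S).map g) [IsFinite g.left] :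
    ∃ (V'' : Over S) (ι : V'' ⟶ V) (v'' : ↥V''.left), IsOpenImmersion ι.left ∧ ι.left v'' = v₀ ∧
      RepWith @IsFinite (pullback.snd f.hom ((yon S).map ι ≫ b)) := by
  have sqP := IsPullback.of_hasPullback f.hom b
  have hπqs : IsQuasiSeparatedMor (pullback.snd f.hom b) :=
    Groth.Agent.S9903.diag_bc _ sqP hqs
  have i1 := repWith_isStableUnderBaseChange (S := S) @Etale
  have i3 := repWith_isStableUnderBaseChange (S := S) @Surjective
  -- the relation
  have sqW := hℓe.rep.isPullback ℓ
  obtain ⟨t, ht⟩ := (yon S).map_surjective (hℓe.rep.fst ℓ)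
  rw [← ht] at sqW
  have hsP : Etale (hℓe.rep.snd ℓ).left := hℓe.property ℓ _ _ sqW
  clear ht
  generalize hℓe.rep.snd ℓ = s at sqW hsP
  generalize hℓe.rep.pullback ℓ = R at s t sqW hsP
  haveI : Etale s.left := hsP
  have hts : t ≫ g = s ≫ g := by
    apply (yon S).map_injective
    rw [Functor.map_comp, Functor.map_comp, ← hg, ← Category.assoc, ← Category.assoc, sqW.w]
  have hT := IsPullback.of_hasPullback g g
  let d : R ⟶ pullback g g := pullback.lift t s hts
  have hd₁ : d ≫ pullback.fst g g = t := pullback.lift_fst _ _ _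
  have hd₂ : d ≫ pullback.snd g g = s := pullback.lift_snd _ _ _
  haveI hdqc : QuasiCompact d.left :=
    quasiCompact_relation (pullback.snd f.hom b) hπqs ℓ g hg s t sqW _ _ hT d hd₁ hd₂
  have hTl : IsPullback (pullback.fst g g).left (pullback.snd g g).left g.left g.left :=
    Groth.Agent.Helper5.GeomFibSp.isPullback_left hT
  haveI hp₂fin : IsFinite (pullback.snd g g).left :=
    MorphismProperty.of_isPullback (P := @IsFinite) hTl inferInstance
  have hsd : s.left = d.left ≫ (pullback.snd g g).left := by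
    rw [← Over.comp_left, hd₂]
  haveI : IsSeparated s.left := isSeparated_of_kernelPair ℓ s t sqW
  haveI : QuasiCompact s.left := by rw [hsd]; infer_instance
  -- the fibre of the relation over `v₀` is finite
  have hdinj : Function.Injective d.left := by
    haveI : Mono d.left := ⟨fun a b hab => by
      apply Groth.Agent.Helper5.MonoQuot.kp_jm ℓ s t sqW a b
      · have h1 := congrArg (· ≫ (pullback.snd g g).left) hab
        simp only [Category.assoc] at h1
        rw [← hsd] at h1
        exact h1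
      · have htd : t.left = d.left ≫ (pullback.fst g g).left := by
          rw [← Over.comp_left, hd₁]
        have h1 := congrArg (· ≫ (pullback.fst g g).left) hab
        simp only [Category.assoc] at h1
        rw [← htd] at h1
        exact h1⟩
    exact Scheme.Hom.injective d.left
  have hfin : ((s.left ≫ g.left) ⁻¹' {v₀}).Finite := by
    have h1 : (((pullback.snd g g).left ≫ g.left) ⁻¹' {v₀}).Finite :=
      Scheme.Hom.finite_preimage_singleton _ v₀
    refine (h1.preimage (Set.injOn_of_injective hdinj)).subset ?_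
    intro r hr
    have hr' : (s.left ≫ g.left) r = v₀ := hr
    show ((pullback.snd g g).left ≫ g.left) (d.left r) = v₀
    rw [← Scheme.Hom.comp_apply, ← Category.assoc, ← hsd]
    exact hr'
  obtain ⟨V'', hV''a, hv₀V'', hV''fin⟩ :=
    Groth.Agent.Helper3.GenFin.exists_finite_nhd_of_qs (s.left ≫ g.left) v₀ hv₀ hfin
  haveI : IsAffine (V'' : Scheme.{u}) := hV''a
  -- the invariant open of the chart
  let VO : W.left.Opens := g.left ⁻¹ᵁ V''
  haveI hfinO : IsFinite (s.left ∣_ VO) :=
    isFinite_morphismRestrict_of_comp s.left g.left V'' hV''fin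
  have hpre : s.left ⁻¹ᵁ VO ≤ t.left ⁻¹ᵁ VO := by
    intro r hr
    have h1 : g.left (s.left r) ∈ V'' := hr
    show g.left (t.left r) ∈ V''
    have h2 : t.left ≫ g.left = s.left ≫ g.left := by
      rw [← Over.comp_left, ← Over.comp_left, hts]
    rw [← Scheme.Hom.comp_apply, h2, Scheme.Hom.comp_apply]
    exact h1
  -- the restricted chart and its relation
  let VO' : Over S := Over.mk (VO.ι ≫ W.hom)
  let ιO : VO' ⟶ W := Over.homMk VO.ι rfl
  let RO : Over S := Over.mk ((s.left ⁻¹ᵁ VO).ι ≫ R.hom)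
  let ιR : RO ⟶ R := Over.homMk (s.left ⁻¹ᵁ VO).ι rfl
  let sO : RO ⟶ VO' := Over.homMk (s.left ∣_ VO) (by
    show (s.left ∣_ VO) ≫ VO.ι ≫ W.hom = (s.left ⁻¹ᵁ VO).ι ≫ R.hom
    rw [← Category.assoc, morphismRestrict_ι, Category.assoc, Over.w s])
  let tO : RO ⟶ VO' := Over.homMk (t.left.resLE VO (s.left ⁻¹ᵁ VO) hpre) (by
    show (t.left.resLE VO (s.left ⁻¹ᵁ VO) hpre) ≫ VO.ι ≫ W.hom = (s.left ⁻¹ᵁ VO).ι ≫ R.hom
    rw [← Category.assoc, Scheme.Hom.resLE_comp_ι, Category.assoc, Over.w t])
  have hsO : sO ≫ ιO = ιR ≫ s := Over.OverMorphism.ext (morphismRestrict_ι s.left VO)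
  have htO : tO ≫ ιO = ιR ≫ t :=
    Over.OverMorphism.ext (Scheme.Hom.resLE_comp_ι t.left hpre)
  haveI : Mono ιO := by
    haveI : Mono ιO.left := (inferInstance : Mono VO.ι)
    exact Over.mono_of_mono_left ιO
  have sq₁ : IsPullback sO ιR ιO s :=
    Groth.Agent.Helper4.UB1.isPullback_of_left hsO (isPullback_morphismRestrict s.left VO)
  have sq₂ : IsPullback (𝟙 RO) tO (ιR ≫ t) ιO := by
    have := Groth.Agent.Helper4.AlgSpPB.isPullback_of_mono tO ιO
    rwa [htO] at this
  let φO : (yon S).obj VO' ⟶ pullback f.hom b := (yon S).map ιO ≫ ℓ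
  have hRO : IsPullback ((yon S).map tO) ((yon S).map sO) φO φO := by
    have h := Groth.Agent.Helper5.MonoQuot.isPullback_through_chart ℓ t s sqW.flip ιO ιO sq₁ sq₂
    rw [Category.id_comp] at h
    exact h.flip
  -- the quotient scheme
  let D := Groth.Agent.Helper5.MonoQuot.eqvDataOfKernelPair φO sO tO hRO
  haveI : IsFinite sO.left := hfinO
  haveI : Etale sO.left := (inferInstance : Etale (s.left ∣_ VO))
  haveI : Flat sO.left := inferInstance
  haveI : LocallyOfFinitePresentation sO.left := inferInstance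
  haveI hgOfin : IsFinite (g.left ∣_ V'') := inferInstance
  haveI hVOaff : IsAffine VO'.left := isAffine_of_isAffineHom (g.left ∣_ V'')
  obtain ⟨Yq, q, pY, hq, hYq, hqf, hqfl, hqp, hqs', hpb⟩ := D.exists_quotient
  let Z : Over S := Over.mk pY
  let cq : VO' ⟶ Z := Over.homMk q hq
  haveI : Flat cq.left := hqfl
  haveI : LocallyOfFinitePresentation cq.left := hqp
  haveI : Surjective cq.left := ⟨hqs'⟩
  -- the restricted base
  let Vo : Over S := Over.mk (V''.ι ≫ V.hom)
  let ιV : Vo ⟶ V := Over.homMk V''.ι rfl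
  let gO : VO' ⟶ Vo := Over.homMk (g.left ∣_ V'') (by
    show (g.left ∣_ V'') ≫ V''.ι ≫ V.hom = (g.left ⁻¹ᵁ V'').ι ≫ W.hom
    rw [← Category.assoc, morphismRestrict_ι, Category.assoc, Over.w g])
  have hwg : ιO ≫ g = gO ≫ ιV := Over.OverMorphism.ext (morphismRestrict_ι g.left V'').symm
  have sqg : IsPullback ιO gO g ιV :=
    Groth.Agent.Helper5.GeomFibSp.isPullback_of_left hwg
      (isPullback_morphismRestrict g.left V'').flip
  have sqg' : IsPullback ((yon S).map ιO) ((yon S).map gO) (ℓ ≫ pullback.snd f.hom b)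
      ((yon S).map ιV) := by
    rw [hg]
    exact sqg.map (yon S)
  obtain ⟨ℓ'', hℓ''1, hℓ''2, hℓ''pb⟩ :=
    exists_restrict_chart f.hom b ((yon S).map ιV) ℓ ((yon S).map ιO) ((yon S).map gO) sqg'
  have hℓ''e : RepWith @Etale ℓ'' := MorphismProperty.of_isPullback hℓ''pb.flip hℓe
  have hℓ''s : RepWith @Surjective ℓ'' := MorphismProperty.of_isPullback hℓ''pb.flip hℓs
  haveI : Mono ιV := by
    haveI : Mono ιV.left := (inferInstance : Mono V''.ι)
    exact Over.mono_of_mono_left ιV
  haveI : Mono ((yon S).map ιV) := (yon S).map_mono ιV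
  haveI hκmono : Mono (pullback.map f.hom ((yon S).map ιV ≫ b) f.hom b (𝟙 X.obj) ((yon S).map ιV)
      (𝟙 Y.obj) (by simp) (by simp)) :=
    (isPullback_map_snd f.hom b ((yon S).map ιV)).mono_fst_of_mono
  have hR'' : IsPullback ((yon S).map tO) ((yon S).map sO) ℓ'' ℓ'' := by
    have key : IsPullback ((yon S).map tO) ((yon S).map sO)
        (ℓ'' ≫ pullback.map f.hom ((yon S).map ιV ≫ b) f.hom b (𝟙 X.obj) ((yon S).map ιV)
          (𝟙 Y.obj) (by simp) (by simp))
        (ℓ'' ≫ pullback.map f.hom ((yon S).map ιV ≫ b) f.hom b (𝟙 X.obj) ((yon S).map ιV)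
          (𝟙 Y.obj) (by simp) (by simp)) := by
      rw [hℓ''pb.w]
      exact hRO
    exact Groth.Agent.Helper5.EtImg.isPullback_of_comp_mono _ key
  obtain ⟨m, hm, hmmono⟩ := exists_mono_of_quotient sO tO cq hpb ℓ'' hR''
  haveI := hmmono
  haveI : Epi ℓ'' := Groth.Agent.Helper5.EtGlue.epi_of_etale_surjective ℓ'' hℓ''e hℓ''s
  haveI : Epi ((yon S).map cq ≫ m) := by rw [hm]; infer_instance
  haveI : Epi m := epi_of_epi ((yon S).map cq) m
  haveI : IsIso m := isIso_of_mono_of_epi m
  -- the structure map of the quotient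
  obtain ⟨i, hi⟩ := (yon S).map_surjective (m ≫ pullback.snd f.hom ((yon S).map ιV ≫ b))
  have hcqi : cq ≫ i = gO := by
    apply (yon S).map_injective
    rw [Functor.map_comp, hi, ← Category.assoc, hm, hℓ''2]
  have i2 := (repWith_isMultiplicative (S := S) @Etale).toIsStableUnderComposition
  have hb''e : RepWith @Etale ((yon S).map ιV ≫ b) :=
    MorphismProperty.comp_mem _ _ _
      ((repWith_yon_map_iff _ _).2 (show Etale V''.ι from inferInstance)) hbe
  have sqP'' := IsPullback.of_hasPullback f.hom ((yon S).map ιV ≫ b)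
  have hfst''e : RepWith @Etale (pullback.fst f.hom ((yon S).map ιV ≫ b)) :=
    MorphismProperty.of_isPullback sqP''.flip hb''e
  have hme : RepWith @Etale (m ≫ pullback.fst f.hom ((yon S).map ιV ≫ b)) :=
    (MorphismProperty.cancel_left_of_respectsIso (RepWith (S := S) @Etale) m _).2 hfst''e
  have hcomm : (m ≫ pullback.fst f.hom ((yon S).map ιV ≫ b)) ≫ f.hom =
      (yon S).map i ≫ (yon S).map ιV ≫ b := by
    rw [Category.assoc, pullback.condition, ← Category.assoc, hi]
  haveI hilft : LocallyOfFiniteType i.left := hf _ _ i hme hb''e hcomm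
  haveI : IsAffine Z.left := hYq
  haveI : IsAffine Vo.left := hV''a
  haveI : Flat q := hqfl
  haveI : Surjective q := ⟨hqs'⟩
  have hqi : q ≫ i.left = g.left ∣_ V'' := by
    have := congrArg (fun f => f.left) hcqi
    exact this
  haveI : IsFinite (q ≫ i.left) := by rw [hqi]; infer_instance
  have hifin : IsFinite i.left := isFinite_of_comp_flat_surjective q i.left
  refine ⟨Vo, ιV, ⟨v₀, hv₀V''⟩, (inferInstance : IsOpenImmersion V''.ι), rfl, ?_⟩
  have h1 : RepWith @IsFinite ((yon S).map i) := (repWith_yon_map_iff _ _).2 hifin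
  rw [hi] at h1
  exact (MorphismProperty.cancel_left_of_respectsIso (RepWith (S := S) @IsFinite) m _).1 h1

end Groth.Agent.Helper5.FinNbhd
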