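import Mathlib
import Groth.Agent.Helper5.FinNbhd4
import Groth.Agent.Helper5.AlgSpOpen2
import Groth.Agent.S10268

/-!
# Finite neighbourhoods of codimension 0 points: the theorem
-/

set_option autoImplicit false
set_option linter.style.haveILetI false
set_option linter.unusedVariables false
universe u

namespace Groth.Agent.Helper5.FinNbhd

open CategoryTheory CategoryTheory.Limits AlgebraicGeometry Opposite AlgSp
open Groth.Agent.Helper4 Groth.Agent.Helper5.Codim0B

variable {S : Scheme.{u}}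

/-- a representable finite morphism is finite in the affine-local sense -/
theorem isFiniteMor_of_repWith {F G : Sp S} (f : F ⟶ G) (h : RepWith @IsFinite f) :
    IsFiniteMor f := by
  intro Z hZ g
  haveI : IsAffine Z.left := hZ
  have sq := h.rep.isPullback g
  have hfin : IsFinite (h.rep.snd g).left := h.property g _ _ sq
  refine ⟨h.rep.pullback g, h.rep.snd g, h.rep.fst g, sq, ?_, hfin⟩
  haveI := hfin
  exact isAffine_of_isAffineHom (h.rep.snd g).left

set_option backward.isDefEq.respectTransparency.types false in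
theorem assemble {X Y : AlgSp.Space S} (f : X ⟶ Y) (y : AlgSp.Points Y.obj) {V'' : Over S}
    (b'' : (yon S).obj V'' ⟶ Y.obj) (hb''e : RepWith @Etale b'') (v'' : ↥V''.left)
    (hofpt'' : Points.ofPt b'' v'' = y) (hfin : RepWith @IsFinite (pullback.snd f.hom b'')) :
    ∃ (Y' X' : AlgSp.Space S) (j : Y' ⟶ Y) (fst : X' ⟶ Y') (snd : X' ⟶ X),
      AlgSp.RepWith @IsOpenImmersion j.hom ∧
      y ∈ Set.range (AlgSp.Points.map j.hom) ∧ IsPullback fst.hom snd.hom j.hom f.hom ∧
      AlgSp.IsFiniteMor fst.hom := by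
  -- the open image
  obtain ⟨Y', j, hY', hj, hrange⟩ :=
    Groth.Agent.Helper5.AlgSpOpen.exists_open_subspace Y.property (Set.range (Points.ofPt b''))
      (Groth.Agent.Helper5.Decent3.isOpenMap_ofPt Y.property b'' hb''e).isOpen_range
  obtain ⟨c, hc, hce, hcs⟩ :=
    Groth.Agent.Helper5.AlgSpOpen.exists_factor_etale_surjective b'' hb''e j hj hrange
  have sqX' := IsPullback.of_hasPullback f.hom j
  have hX' : IsAlgSpace (pullback f.hom j) :=
    AlgSpPB.isAlgSpace_of_isPullback Y.property.diag X.property hY' f.hom j _ _ sqX'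
  let Y's : Space S := ⟨Y', hY'⟩
  let X's : Space S := ⟨pullback f.hom j, hX'⟩
  let js : Y's ⟶ Y := ObjectProperty.homMk j
  let fsts : X's ⟶ Y's := ObjectProperty.homMk (pullback.snd f.hom j)
  let snds : X's ⟶ X := ObjectProperty.homMk (pullback.fst f.hom j)
  refine ⟨Y's, X's, js, fsts, snds, hj, ?_, sqX'.flip, ?_⟩
  · show y ∈ Set.range (Points.map j)
    rw [hrange]
    exact ⟨v'', hofpt''⟩
  · -- descent of finiteness along the étale surjective chart `c`
    have hw : pullback.fst f.hom b'' ≫ f.hom = (pullback.snd f.hom b'' ≫ c) ≫ j := by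
      rw [Category.assoc, hc, pullback.condition]
    have hbig : IsPullback (pullback.lift (pullback.fst f.hom b'') (pullback.snd f.hom b'' ≫ c) hw ≫
        pullback.fst f.hom j) (pullback.snd f.hom b'') f.hom (c ≫ j) := by
      rw [pullback.lift_fst, hc]
      exact IsPullback.of_hasPullback f.hom b''
    have hsq : IsPullback (pullback.lift (pullback.fst f.hom b'') (pullback.snd f.hom b'' ≫ c) hw)
        (pullback.snd f.hom b'') (pullback.snd f.hom j) c :=
      IsPullback.of_right hbig (pullback.lift_snd _ _ _) sqX'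
    exact (Groth.Agent.S10268.result fsts V'' c hce hcs _ _ hsq).2
      (isFiniteMor_of_repWith _ hfin)


set_option backward.isDefEq.respectTransparency.types false in
theorem s10398 {X Y : AlgSp.Space S} (f : X ⟶ Y)
    (hqs : AlgSp.IsQuasiSeparatedMor f.hom) (hft : AlgSp.IsFiniteTypeMor f.hom)
    (y : AlgSp.Points Y.obj)
    (hy : AlgSp.HasAt (fun U u => ringKrullDim ↥(U.presheaf.stalk u) = 0) Y.obj y)
    (hqf : ∀ x : AlgSp.Points X.obj, AlgSp.Points.map f.hom x = y →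
      AlgSp.HasAtMor (fun U _ h u => ∃ W : U.Opens, u ∈ W ∧ LocallyQuasiFinite (W.ι ≫ h) ∧
        LocallyOfFiniteType (W.ι ≫ h)) f.hom x) :
    ∃ (Y' X' : AlgSp.Space S) (j : Y' ⟶ Y) (fst : X' ⟶ Y') (snd : X' ⟶ X),
      AlgSp.RepWith @IsOpenImmersion j.hom ∧
      y ∈ Set.range (AlgSp.Points.map j.hom) ∧ IsPullback fst.hom snd.hom j.hom f.hom ∧
      AlgSp.IsFiniteMor fst.hom := by
  obtain ⟨V₁, b₁, v₁, hb₁e, hv₁, hdim⟩ := hy
  have hmax₁ : IsMaxPt v₁ := (stalk_dim_zero_iff V₁.left v₁).1 hdim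
  obtain ⟨O, hO, hvO⟩ : ∃ O : V₁.left.Opens, IsAffineOpen O ∧ v₁ ∈ O := by
    obtain ⟨_, ⟨O, hO, rfl⟩, hvO, -⟩ :=
      V₁.left.isBasis_affineOpens.exists_subset_of_mem_open (Set.mem_univ v₁) isOpen_univ
    exact ⟨O, hO, hvO⟩
  let Vo : Over S := Over.mk (O.ι ≫ V₁.hom)
  let ι₁ : Vo ⟶ V₁ := Over.homMk O.ι rfl
  haveI : IsAffine Vo.left := hO
  have i2 := (repWith_isMultiplicative (S := S) @Etale).toIsStableUnderComposition
  have hbe : RepWith @Etale ((yon S).map ι₁ ≫ b₁) :=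
    MorphismProperty.comp_mem _ _ _
      ((repWith_yon_map_iff _ _).2 (show Etale O.ι from inferInstance)) hb₁e
  let v₀ : ↥Vo.left := ⟨v₁, hvO⟩
  have hofpt : Points.ofPt ((yon S).map ι₁ ≫ b₁) v₀ = y := by
    rw [AlgSpPtsDesc.ofPt_yon_map_comp ι₁ b₁ v₀]
    exact hv₁
  have hv₀ : ∀ z : ↥Vo.left, z ⤳ v₀ → z = v₀ := by
    intro z hz
    have h1 : O.ι z ⤳ O.ι v₀ := (O.ι.isEmbedding.isInducing.specializes_iff).2 hz
    have h2 : O.ι z = v₁ := hmax₁ _ h1
    exact O.ι.isEmbedding.injective h2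
  obtain ⟨V', W', ιV, v₀', ℓ', g', hV'a, hιV, hιVv, hv₀', hW'a, hℓ'e, hℓ's, hg', hg'fin⟩ :=
    stage1 f hft ((yon S).map ι₁ ≫ b₁) hbe v₀ hv₀ (fun x hx => hqf x (hx.trans hofpt))
  haveI := hV'a
  haveI := hW'a
  haveI := hg'fin
  haveI := hιV
  have hb'e : RepWith @Etale ((yon S).map ιV ≫ (yon S).map ι₁ ≫ b₁) :=
    MorphismProperty.comp_mem _ _ _
      ((repWith_yon_map_iff _ _).2 (show Etale ιV.left from inferInstance)) hbe
  obtain ⟨V'', ι, v'', hι, hιv, hfin⟩ :=
    stage2 f hqs hft.1 ((yon S).map ιV ≫ (yon S).map ι₁ ≫ b₁) hb'e v₀' hv₀' ℓ' hℓ'e hℓ's g' hg'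
  haveI := hι
  have hb''e : RepWith @Etale ((yon S).map ι ≫ (yon S).map ιV ≫ (yon S).map ι₁ ≫ b₁) :=
    MorphismProperty.comp_mem _ _ _
      ((repWith_yon_map_iff _ _).2 (show Etale ι.left from inferInstance)) hb'e
  have hofpt'' : Points.ofPt ((yon S).map ι ≫ (yon S).map ιV ≫ (yon S).map ι₁ ≫ b₁) v'' = y := by
    rw [AlgSpPtsDesc.ofPt_yon_map_comp ι _ v'', hιv, AlgSpPtsDesc.ofPt_yon_map_comp ιV _ v₀', hιVv]
    exact hofpt
  exact assemble f y _ hb''e v'' hofpt'' hfin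

end Groth.Agent.Helper5.FinNbhd
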