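import Groth.Agent.Helper5.FpqcDiag
import Groth.Agent.Helper5.FpqcLocPInst
import Mathlib

set_option autoImplicit false
universe u
open CategoryTheory CategoryTheory.Limits AlgebraicGeometry Opposite

namespace Groth.Agent.Helper5.FpqcAnd

open AlgSp

variable {S : Scheme.{u}}

theorem isLocalOnBase_and {τ : CovNotion S} {P Q : MorphismProperty (Sp S)}
    (h1 : IsLocalOnBase τ P) (h2 : IsLocalOnBase τ Q) :
    IsLocalOnBase τ (fun _ _ f => P f ∧ Q f) := by
  intro ι Y Yi g hY hYi hcov X f hX Xi p q hXi sq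
  have e1 := h1 Yi g hY hYi hcov f hX Xi p q hXi sq
  have e2 := h2 Yi g hY hYi hcov f hX Xi p q hXi sq
  constructor
  · rintro ⟨a, b⟩ i
    exact ⟨e1.1 a i, e2.1 b i⟩
  · intro h
    exact ⟨e1.2 fun i => (h i).1, e2.2 fun i => (h i).2⟩

theorem isLocalOnBase_isFiniteTypeMor :
    IsLocalOnBase (IsFpqcCover (S := S)) IsFiniteTypeMor :=
  isLocalOnBase_and (Groth.Agent.Helper5.FpqcLocPInst.lft S)
    Groth.Agent.Helper5.FpqcQC.isLocalOnBase_isQuasiCompactMor

theorem isLocalOnBase_isFinitePresentationMor :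
    IsLocalOnBase (IsFpqcCover (S := S)) IsFinitePresentationMor :=
  isLocalOnBase_and (Groth.Agent.Helper5.FpqcLocPInst.lfp S)
    (isLocalOnBase_and Groth.Agent.Helper5.FpqcQC.isLocalOnBase_isQuasiCompactMor
      Groth.Agent.Helper5.FpqcDiag.isLocalOnBase_isQuasiSeparatedMor)

theorem isLocalOnBase_isProperMor :
    IsLocalOnBase (IsFpqcCover (S := S)) IsProperMor :=
  isLocalOnBase_and Groth.Agent.Helper5.FpqcDiag.isLocalOnBase_isSeparatedMor
    (isLocalOnBase_and isLocalOnBase_isFiniteTypeMor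
      Groth.Agent.Helper5.FpqcUniv.isLocalOnBase_isUnivClosedMor)

end Groth.Agent.Helper5.FpqcAnd
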