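import Mathlib
import Groth.Agent.Helper5.MonoQuot8
import Groth.Agent.Helper5.Decent1
import Groth.Agent.S12955
import Groth.Agent.S9903
import Groth.Agent.Helper4.AlgSpPB
import Groth.Agent.Helper4.AlgSpDiag

/-!
# S10423: representable or quasi-separated morphisms are decent
-/

set_option autoImplicit false
universe u

namespace Groth.Agent.Helper5.MonoQuot

open CategoryTheory CategoryTheory.Limits AlgebraicGeometry Opposite AlgSp

variable {S : Scheme.{u}}

/-- an algebraic space quasi-separated over a scheme is decent -/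
theorem isDecent_of_isQuasiSeparatedMor_to_yon {F' : Sp S} (hF' : IsAlgSpace F') {T : Over S}
    (snd : F' ⟶ (yon S).obj T) (hqs : IsQuasiSeparatedMor snd) : IsDecent F' := by
  intro x
  let t : ↥T.left := (Points.schemeHomeo T).symm (Points.map snd x)
  let W : Over S := Over.mk (T.left.fromSpecResidueField t ≫ T.hom)
  let j : W ⟶ T := Over.homMk (T.left.fromSpecResidueField t) rfl
  have sqt := IsPullback.of_hasPullback snd ((yon S).map j)
  have hFt : IsAlgSpace (pullback snd ((yon S).map j)) :=
    Groth.Agent.Helper4.AlgSpPB.isAlgSpace_of_isPullback (IsAlgSpace.yon_obj T).diag hF'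
      (IsAlgSpace.yon_obj W) _ _ _ _ sqt
  have hqs_t : IsQuasiSeparatedMor (pullback.snd snd ((yon S).map j)) :=
    Groth.Agent.S9903.diag_bc _ sqt hqs
  haveI : QuasiSeparatedSpace ↥W.left :=
    (inferInstance : QuasiSeparatedSpace ↥(Spec (T.left.residueField t)))
  have hWqs : QuasiSeparated W.hom := inferInstance
  have hW : IsQuasiSeparatedMor (terminal.from ((yon S).obj W)) :=
    (Groth.Agent.Helper4.AlgSpDiag.repWith_diag_iff _ _).1
      ((repWith_diag_yon_iff @QuasiCompact W).2 hWqs.1)
  have hqsF : IsQuasiSeparatedSp (pullback snd ((yon S).map j)) := by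
    refine (Groth.Agent.Helper4.AlgSpDiag.repWith_diag_iff _ _).2 ?_
    have h1 := Groth.Agent.S12955.isQuasiSeparatedMor_comp _ _ hqs_t hW
    have h2 : pullback.snd snd ((yon S).map j) ≫ terminal.from ((yon S).obj W) =
        terminal.from _ := terminal.hom_ext _ _
    rw [h2] at h1
    exact h1
  have hdec := s10350 ⟨_, hFt⟩ hqsF
  let w₀ : ↥W.left := (IsLocalRing.closedPoint (T.left.residueField t) :
    PrimeSpectrum (T.left.residueField t))
  have hpt : Points.map snd x = Points.map ((yon S).map j) (Points.schemeHomeo W w₀) := by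
    rw [Points.map_yon_map_apply]
    have h3 : j.left w₀ = t := Scheme.fromSpecResidueField_apply _ _
    rw [h3]
    exact ((Points.schemeHomeo T).apply_symm_apply _).symm
  obtain ⟨z, hz1, -⟩ := Groth.Agent.Helper4.AlgSpPtsDesc.exists_point_of_isPullback sqt x _ hpt
  obtain ⟨p, hp, hm, hq⟩ := hdec z
  haveI : Mono j.left := (inferInstance : Mono (T.left.fromSpecResidueField t))
  haveI : Mono j := Over.mono_of_mono_left j
  haveI : Mono ((yon S).map j) := (yon S).map_mono j
  haveI := hm
  refine ⟨p.map (pullback.fst snd ((yon S).map j)), ?_, ?_, ?_⟩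
  · rw [← Points.map_mk, hp, hz1]
  · rw [FieldPt.toHom_map]
    exact @mono_comp _ _ _ _ _ _ hm _ inferInstance
  · rw [FieldPt.toHom_map]
    have i1 := repWith_isStableUnderBaseChange (S := S) @QuasiCompact
    have i2 := (repWith_isMultiplicative (S := S) @QuasiCompact).toIsStableUnderComposition
    have hj : RepWith @QuasiCompact ((yon S).map j) :=
      (repWith_yon_map_iff _ _).2
        (Groth.Agent.Helper5.Decent1.quasiCompact_of_field
          (K := T.left.residueField t) (T.left.fromSpecResidueField t))
    have hfst : RepWith @QuasiCompact (pullback.fst snd ((yon S).map j)) :=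
      MorphismProperty.of_isPullback sqt.flip hj
    exact MorphismProperty.comp_mem _ _ _ hq hfst

theorem s10423 {X Y : Space S} (f : X ⟶ Y) :
    (Representable f.hom → IsDecentMor f.hom) ∧
      (IsQuasiSeparatedMor f.hom → IsDecentMor f.hom) := by
  refine ⟨fun h => Groth.Agent.Helper5.Decent1.isDecentMor_of_representable _ h, ?_⟩
  intro hqs T F' g fst snd sq
  have hF' : IsAlgSpace F' :=
    Groth.Agent.Helper4.AlgSpPB.isAlgSpace_of_isPullback Y.property.diag X.property
      (IsAlgSpace.yon_obj T) _ _ _ _ sq
  exact isDecent_of_isQuasiSeparatedMor_to_yon hF' snd (Groth.Agent.S9903.diag_bc _ sq hqs)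

end Groth.Agent.Helper5.MonoQuot
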