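import Mathlib
import Groth.Agent.Helper5.FinFibQf
import Groth.Agent.Helper5.FinNbhd5
import Groth.Agent.Helper5.MonoQuot16
import Groth.Agent.Helper4.AlgSpQS
import Groth.Agent.S12955

/-!
# S10446: finite fibre over a codimension 0 point iff finite over open neighbourhoods
-/

set_option autoImplicit false
set_option linter.style.haveILetI false
set_option linter.unusedVariables false
universe u

namespace Groth.Agent.Helper5.FinFibQf

open CategoryTheory CategoryTheory.Limits AlgebraicGeometry Opposite AlgSp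
open Groth.Agent.Helper4

variable {S : Scheme.{u}}

/-- a finite morphism of algebraic spaces has finite fibres on points -/
theorem finite_fibre_of_isFiniteMor {X' Y' : Space S} (g : X' ⟶ Y') (hg : IsFiniteMor g.hom)
    (y' : Points Y'.obj) : (Points.map g.hom ⁻¹' {y'}).Finite := by
  obtain ⟨V, b, v, hV, hbe, hv⟩ :=
    Groth.Agent.Helper5.QcOpenFin.exists_affine_chart_point Y'.property y'
  obtain ⟨W, i, fst, sq, hW, hi⟩ := hg hV b
  haveI := hi
  have hfin : (i.left ⁻¹' {v}).Finite := Scheme.Hom.finite_preimage_singleton i.left v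
  refine (hfin.image (Points.ofPt fst)).subset ?_
  intro x' hx'
  have hx'' : Points.map g.hom x' = y' := hx'
  have h1 : Points.map g.hom x' = Points.map b (Points.schemeHomeo V v) := by
    rw [hx'', AlgSpQC2.ofPt_eq_map_schemeHomeo, hv]
  obtain ⟨q, hq1, hq2⟩ := AlgSpPtsDesc.exists_point_of_isPullback sq x' _ h1
  obtain ⟨w, rfl⟩ := (Points.schemeHomeo W).surjective q
  refine ⟨w, ?_, ?_⟩
  · show i.left w = v
    apply (Points.schemeHomeo V).injective
    rw [← Points.map_yon_map_apply]
    exact hq2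
  · rw [← AlgSpQC2.ofPt_eq_map_schemeHomeo]
    exact hq1

theorem injective_points_of_oi {F G : Sp S} (j : F ⟶ G) (hj : RepWith @IsOpenImmersion j) :
    Function.Injective (Points.map j) := by
  haveI : Mono j := Groth.Agent.Helper5.ZarGlue.mono_of_oi j hj
  exact Groth.Agent.Helper4.AlgSpInj.injective_points_of_injective_fieldPts j
    (fun K _ str c₁ c₂ h => (cancel_mono j).1 h)

theorem isQuasiSeparatedMor_of_mono {F G : Sp S} (j : F ⟶ G) [Mono j] :
    IsQuasiSeparatedMor j :=
  Groth.Agent.Helper5.SchImg.repWith_of_isIso' @QuasiCompact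
    (fun Y => (inferInstance : QuasiCompact (𝟙 Y))) (pullback.diagonal j)

set_option backward.isDefEq.respectTransparency.types false in
theorem s10446 [QuasiSeparatedSpace ↥S] {X Y : AlgSp.Space S}
    (f : X ⟶ Y) (hqs : AlgSp.IsQuasiSeparatedMor f.hom)
    (hft : AlgSp.LocP @LocallyOfFiniteType f.hom)
    (hY : AlgSp.IsQuasiSeparatedSp Y.obj) (y : AlgSp.Points Y.obj)
    (hy : AlgSp.HasAt (fun U u => ringKrullDim ↥(U.presheaf.stalk u) = 0) Y.obj y) :
    (AlgSp.Points.map f.hom ⁻¹' {y}).Finite ↔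
      ∃ (X' Y' : AlgSp.Space S) (i : X' ⟶ X) (j : Y' ⟶ Y) (f' : X' ⟶ Y'),
        AlgSp.RepWith @IsOpenImmersion i.hom ∧
        AlgSp.RepWith @IsOpenImmersion j.hom ∧ f' ≫ j = i ≫ f ∧
          y ∈ Set.range (AlgSp.Points.map j.hom) ∧
          AlgSp.Points.map f.hom ⁻¹' {y} ⊆ Set.range (AlgSp.Points.map i.hom) ∧
            AlgSp.IsFiniteMor f'.hom := by
  constructor
  · intro hfin
    obtain ⟨X'', i'', hX'', hi'', hqc'', hsub⟩ :=
      Groth.Agent.Helper5.QcOpenFin.exists_qc_open_of_finite X.property _ hfin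
    haveI : Mono i'' := Groth.Agent.Helper5.ZarGlue.mono_of_oi i'' hi''
    have hi''e : RepWith @Etale i'' := AlgSpSrc.repWith_mono (fun g hg => by
      have : IsOpenImmersion g := hg
      infer_instance) hi''
    let X''s : Space S := ⟨X'', hX''⟩
    let i''s : X''s ⟶ X := ObjectProperty.homMk i''
    let f'' : X''s ⟶ Y := ObjectProperty.homMk (i'' ≫ f.hom)
    have hqs'' : IsQuasiSeparatedMor (i'' ≫ f.hom) :=
      Groth.Agent.S12955.isQuasiSeparatedMor_comp i'' f.hom (isQuasiSeparatedMor_of_mono i'') hqs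
    have hlft'' : LocP @LocallyOfFiniteType (i'' ≫ f.hom) := by
      intro U V a b h ha hb comm
      exact hft (a ≫ i'') b h (AlgSpSrc.repWith_comp _ ha hi''e) hb (by
        rw [Category.assoc]; exact comm)
    have hqcm'' : IsQuasiCompactMor (i'' ≫ f.hom) :=
      Groth.Agent.Helper4.AlgSpQS.isQuasiCompactMor_of_qc_qs _ hqc'' hY
    have hYt : IsQuasiSeparatedMor (terminal.from Y.obj) :=
      (Groth.Agent.Helper4.AlgSpDiag.repWith_diag_iff _ _).1 hY
    have hqsX'' : IsQuasiSeparatedSp X'' := by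
      refine (Groth.Agent.Helper4.AlgSpDiag.repWith_diag_iff _ _).2 ?_
      have h1 := Groth.Agent.S12955.isQuasiSeparatedMor_comp _ _ hqs'' hYt
      have h2 : (i'' ≫ f.hom) ≫ terminal.from Y.obj = terminal.from X'' := terminal.hom_ext _ _
      rw [h2] at h1
      exact h1
    have hdec'' : IsDecent X'' := Groth.Agent.Helper5.MonoQuot.s10350 X''s hqsX''
    have hinj'' := injective_points_of_oi i'' hi''
    have hfin'' : (Points.map (i'' ≫ f.hom) ⁻¹' {y}).Finite := by
      refine (hfin.preimage (Set.injOn_of_injective hinj'')).subset ?_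
      intro x'' hx''
      have h1 : Points.map (i'' ≫ f.hom) x'' = y := hx''
      show Points.map f.hom (Points.map i'' x'') = y
      rw [← Points.map_comp]
      exact h1
    have hqf'' : ∀ x'' : Points X'', Points.map (i'' ≫ f.hom) x'' = y →
        HasAtMor (fun U _ h u => ∃ W : U.Opens, u ∈ W ∧ LocallyQuasiFinite (W.ι ≫ h) ∧
          LocallyOfFiniteType (W.ι ≫ h)) (i'' ≫ f.hom) x'' :=
      fun x'' hx'' => hasAtMor_of_finite_fibre f'' hlft'' hdec'' y hfin'' x'' hx''
    obtain ⟨Y', X', j, fst, snd, hj, hyj, hpb, hfinm⟩ :=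
      Groth.Agent.Helper5.FinNbhd.s10398 f'' hqs'' ⟨hlft'', hqcm''⟩ y hy hqf''
    have i1 := repWith_isStableUnderBaseChange (S := S) @IsOpenImmersion
    have i2 := (repWith_isMultiplicative (S := S) @IsOpenImmersion).toIsStableUnderComposition
    have hpb' : IsPullback fst.hom snd.hom j.hom (i'' ≫ f.hom) := hpb
    have hsnd : RepWith @IsOpenImmersion snd.hom := MorphismProperty.of_isPullback hpb' hj
    refine ⟨X', Y', snd ≫ i''s, j, fst, MorphismProperty.comp_mem _ _ _ hsnd hi'', hj, ?_, hyj, ?_,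
      hfinm⟩
    · apply ObjectProperty.hom_ext
      show fst.hom ≫ j.hom = (snd.hom ≫ i'') ≫ f.hom
      rw [Category.assoc]
      exact hpb'.w
    · intro x hx
      have hx' : Points.map f.hom x = y := hx
      obtain ⟨x'', rfl⟩ := hsub hx
      obtain ⟨y', hy'⟩ := hyj
      have h1 : Points.map (i'' ≫ f.hom) x'' = Points.map j.hom y' := by
        rw [hy', Points.map_comp]
        exact hx'
      obtain ⟨p, hp1, -⟩ := AlgSpPtsDesc.exists_point_of_isPullback hpb'.flip x'' y' h1
      refine ⟨p, ?_⟩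
      show Points.map (snd.hom ≫ i'') p = Points.map i'' x''
      rw [Points.map_comp, hp1]
  · rintro ⟨X', Y', i, j, f', hi, hj, hcomm, ⟨y', rfl⟩, hsub, hfinm⟩
    have hinj := injective_points_of_oi j.hom hj
    refine ((finite_fibre_of_isFiniteMor f' hfinm y').image (Points.map i.hom)).subset ?_
    intro x hx
    have hx' : Points.map f.hom x = Points.map j.hom y' := hx
    obtain ⟨x', rfl⟩ := hsub hx
    refine ⟨x', ?_, rfl⟩
    show Points.map f'.hom x' = y'
    apply hinj
    have h2 : f'.hom ≫ j.hom = i.hom ≫ f.hom := congrArg (fun k => k.hom) hcomm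
    rw [← Points.map_comp, h2, Points.map_comp]
    exact hx'

end Groth.Agent.Helper5.FinFibQf
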