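import Groth.Agent.Helper5.AnCl5
import Groth.Agent.Helper5.FinFibQf2
import Mathlib

/-!
# Helper5: universal closedness over an affine base from polynomial tests; restriction of closed
maps over open subschemes
-/

set_option autoImplicit false
universe u
open CategoryTheory CategoryTheory.Limits AlgebraicGeometry Opposite TensorProduct

namespace Groth.Agent.Helper5.AnCl

open AlgSp Groth.Agent.Helper4.AlgSpPtsDesc

variable {S : Scheme.{u}}

set_option backward.isDefEq.respectTransparency.types false in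
/-- A closed map to a scheme restricts to a closed map over an open subscheme. -/
theorem isClosedMap_of_isPullback_openImmersion {P P' : Sp S} {Z Z' : Over S} (o : Z' ⟶ Z)
    [IsOpenImmersion o.left] (b : P ⟶ (yon S).obj Z) (q' : P' ⟶ P) (b' : P' ⟶ (yon S).obj Z')
    (h : IsPullback q' b' b ((yon S).map o)) (hP : IsAlgSpace P)
    (hb : IsClosedMap (Points.map b)) : IsClosedMap (Points.map b') := by
  have i1 := repWith_isStableUnderBaseChange (S := S) @IsOpenImmersion
  have ho : RepWith @IsOpenImmersion ((yon S).map o) :=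
    (repWith_yon_map_iff _ _).2 (inferInstance : IsOpenImmersion o.left)
  have hq' : RepWith @IsOpenImmersion q' := MorphismProperty.of_isPullback h.flip ho
  have hinj : Function.Injective (Points.map q') :=
    Groth.Agent.Helper5.FinFibQf.injective_points_of_oi q' hq'
  have hopen : IsOpenMap (Points.map q') :=
    Groth.Agent.Helper4.AlgSpQC2.isOpenMor_of_repWith_etale hP q'
      (Groth.Agent.Helper4.AlgSpSrc.repWith_mono (fun g hg => by
        have : IsOpenImmersion g := hg
        infer_instance) hq')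
  intro C' hC'
  have key : Points.map b' '' C' =
      Points.map ((yon S).map o) ⁻¹' (Points.map b '' closure (Points.map q' '' C')) := by
    ext z'
    constructor
    · rintro ⟨w', hw', rfl⟩
      refine ⟨Points.map q' w', subset_closure ⟨w', hw', rfl⟩, ?_⟩
      rw [← Points.map_comp, ← Points.map_comp, h.w]
    · rintro ⟨c, hc, hcz⟩
      obtain ⟨w', hw1, hw2⟩ := exists_point_of_isPullback h c z' hcz
      refine ⟨w', ?_, hw2⟩
      by_contra hw'
      have hN : IsOpen (Points.map q' '' C'ᶜ) := hopen _ hC'.isOpen_compl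
      have hcN : c ∈ Points.map q' '' C'ᶜ := ⟨w', hw', hw1⟩
      obtain ⟨x, hx1, hx2⟩ := mem_closure_iff.mp hc _ hN hcN
      obtain ⟨w₁, hw₁, rfl⟩ := hx1
      obtain ⟨w₂, hw₂, he⟩ := hx2
      rw [hinj he] at hw₂
      exact hw₁ hw₂
  rw [key]
  exact (hb _ isClosed_closure).preimage (Points.continuous_map _)

variable {R : Type u} [CommRing R] (σ : Spec (CommRingCat.of R) ⟶ S)

set_option backward.isDefEq.respectTransparency.types false in
/-- Universal closedness of the base change to `Spec R` from closedness over all polynomial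
rings over `R`. -/
theorem isUnivClosedMor_of_polynomial_tests {X Y : Sp S} (hX : IsAlgSpace X) (hY : IsAlgSpace Y)
    (f : X ⟶ Y) (hqc : IsQuasiCompactMor f) (p : (yon S).obj (Over.mk σ) ⟶ Y)
    {XV : Sp S} (π₁ : XV ⟶ X) (π₂ : XV ⟶ (yon S).obj (Over.mk σ)) (sqV : IsPullback π₁ π₂ f p)
    (H : ∀ (n : ℕ) (P : Sp S) (fst : P ⟶ X)
      (snd : P ⟶ (yon S).obj (specOver σ (MvPolynomial (ULift.{u} (Fin n)) R))),
      IsPullback fst snd f ((yon S).map (toBase σ (MvPolynomial (ULift.{u} (Fin n)) R)) ≫ p) →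
        IsClosedMap (Points.map snd)) :
    IsUnivClosedMor π₂ := by
  haveI : CompactSpace ↥(Over.mk σ).left :=
    (inferInstance : CompactSpace ↥(Spec (CommRingCat.of R)))
  have hXVqc : IsQuasiCompactSp XV :=
    hqc (IsAlgSpace.yon_obj _) (Groth.Agent.Helper4.AlgSpQC2.isQuasiCompactSp_yon _) p π₁ π₂ sqV
  obtain ⟨B, _, _, a, hae, has, haπ⟩ := exists_spec_chart σ π₂ hXVqc
  apply univClosed_of_affine
  intro Z hZ g Q q₁ q₂ sqQ
  haveI : IsAffine Z.left := hZ
  obtain ⟨g₀, rfl⟩ := (yon S).map_surjective g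
  let e : Z.left ≅ Spec Γ(Z.left, ⊤) := Z.left.isoSpec
  let ψ : CommRingCat.of R ⟶ Γ(Z.left, ⊤) := Spec.preimage (e.inv ≫ g₀.left)
  have hψ : Spec.map ψ = e.inv ≫ g₀.left := Spec.map_preimage _
  letI : Algebra R Γ(Z.left, ⊤) := ψ.hom.toAlgebra
  have hw : e.inv ≫ Z.hom = (specOver σ Γ(Z.left, ⊤)).hom := by
    change e.inv ≫ Z.hom = Spec.map ψ ≫ σ
    rw [hψ, Category.assoc]
    congr 1
    exact (Over.w g₀).symm
  let ε : specOver σ Γ(Z.left, ⊤) ≅ Z := Over.isoMk e.symm hw
  have hεg : ε.hom ≫ g₀ = toBase σ Γ(Z.left, ⊤) := by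
    ext
    change e.inv ≫ g₀.left = Spec.map ψ
    exact hψ.symm
  have hbig : IsPullback (q₁ ≫ π₁) q₂ f ((yon S).map g₀ ≫ p) := sqQ.paste_horiz sqV
  have hsq : IsPullback (q₁ ≫ π₁) (q₂ ≫ (yon S).map ε.inv) f
      ((yon S).map (toBase σ Γ(Z.left, ⊤)) ≫ p) := by
    refine hbig.of_iso (Iso.refl _) (Iso.refl _) ((yon S).mapIso ε.symm) (Iso.refl _) ?_ ?_ ?_ ?_
    · simp
    · simp
    · simp
    · simp only [Iso.refl_hom, Category.comp_id, Functor.mapIso_hom, Iso.symm_hom]
      rw [← hεg, ← Category.assoc, ← CategoryTheory.Functor.map_comp, ← Category.assoc,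
        Iso.inv_hom_id, Category.id_comp]
  have hcl := core σ hX hY f p π₁ π₂ sqV B a hae has haπ H Γ(Z.left, ⊤) Q (q₁ ≫ π₁)
    (q₂ ≫ (yon S).map ε.inv) hsq
  have h2 : Points.map q₂ = Points.map ((yon S).map ε.hom) ∘ Points.map (q₂ ≫ (yon S).map ε.inv) := by
    funext x
    rw [Function.comp_apply, ← Points.map_comp, Category.assoc,
      ← CategoryTheory.Functor.map_comp, Iso.inv_hom_id, CategoryTheory.Functor.map_id,
      Category.comp_id]
  rw [h2]
  exact (isClosedMap_points_map_iso ((yon S).mapIso ε)).comp hcl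

end Groth.Agent.Helper5.AnCl
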