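import Groth.Agent.Helper5.AnCl6
import Mathlib

/-!
# Helper5: restricting the affine-space tests to an affine open of the chart
-/

set_option autoImplicit false
universe u
open CategoryTheory CategoryTheory.Limits AlgebraicGeometry Opposite TensorProduct

namespace Groth.Agent.Helper5.AnCl

open AlgSp Groth.Agent.Helper4.AlgSpPtsDesc

variable {S : Scheme.{u}}

set_option maxHeartbeats 800000 in
set_option backward.isDefEq.respectTransparency.types false in
theorem tests_restrict {X Y : Sp S} (hX : IsAlgSpace X) (hY : IsAlgSpace Y) (f : X ⟶ Y)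
    (V : Over S) (p : (yon S).obj V ⟶ Y)
    (H3 : ∀ (n : ℕ) (P : Sp S) (fst : P ⟶ X)
      (snd : P ⟶ (yon S).obj (Over.mk ((𝔸(ULift.{u} (Fin n); V.left) ↘ V.left) ≫ V.hom))),
      IsPullback fst snd f ((yon S).map (Over.homMk (𝔸(ULift.{u} (Fin n); V.left) ↘ V.left)) ≫ p) →
        IsClosedMap (Points.map snd))
    {R : Type u} [CommRing R] (ι : Spec (CommRingCat.of R) ⟶ V.left) [IsOpenImmersion ι]
    (n : ℕ) (P : Sp S) (fst : P ⟶ X)
    (snd : P ⟶ (yon S).obj (specOver (ι ≫ V.hom) (MvPolynomial (ULift.{u} (Fin n)) R)))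
    (sq : IsPullback fst snd f ((yon S).map (toBase (ι ≫ V.hom) (MvPolynomial (ULift.{u} (Fin n)) R)) ≫
      (yon S).map (Over.homMk ι rfl : Over.mk (ι ≫ V.hom) ⟶ V) ≫ p)) :
    IsClosedMap (Points.map snd) := by
  let An : Over S := Over.mk ((𝔸(ULift.{u} (Fin n); V.left) ↘ V.left) ≫ V.hom)
  let toV : An ⟶ V := Over.homMk (𝔸(ULift.{u} (Fin n); V.left) ↘ V.left)
  let ol : Spec (CommRingCat.of (MvPolynomial (ULift.{u} (Fin n)) R)) ⟶ 𝔸(ULift.{u} (Fin n); V.left) :=
    (AffineSpace.SpecIso (ULift.{u} (Fin n)) (CommRingCat.of R)).inv ≫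
      AffineSpace.map (ULift.{u} (Fin n)) ι
  have hol : ol ≫ (𝔸(ULift.{u} (Fin n); V.left) ↘ V.left) =
      Spec.map (CommRingCat.ofHom (algebraMap R (MvPolynomial (ULift.{u} (Fin n)) R))) ≫ ι := by
    simp only [ol, Category.assoc, AffineSpace.map_over, AffineSpace.SpecIso_inv_over_assoc]
    rfl
  let o : specOver (ι ≫ V.hom) (MvPolynomial (ULift.{u} (Fin n)) R) ⟶ An :=
    Over.homMk ol (by
      change ol ≫ (𝔸(ULift.{u} (Fin n); V.left) ↘ V.left) ≫ V.hom = Spec.map _ ≫ ι ≫ V.hom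
      rw [← Category.assoc, hol, Category.assoc])
  have hoV : o ≫ toV = toBase (ι ≫ V.hom) (MvPolynomial (ULift.{u} (Fin n)) R) ≫
      (Over.homMk ι rfl : Over.mk (ι ≫ V.hom) ⟶ V) := by
    ext
    exact hol
  haveI : IsOpenImmersion (AffineSpace.map (ULift.{u} (Fin n)) ι) :=
    MorphismProperty.of_isPullback (P := @IsOpenImmersion)
      (AffineSpace.isPullback_map (n := ULift.{u} (Fin n)) ι).flip inferInstance
  haveI : IsOpenImmersion o.left := by
    change IsOpenImmersion ol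
    infer_instance
  let Pn := pullback f ((yon S).map toV ≫ p)
  have sqn : IsPullback (pullback.fst f ((yon S).map toV ≫ p)) (pullback.snd f ((yon S).map toV ≫ p))
      f ((yon S).map toV ≫ p) := IsPullback.of_hasPullback _ _
  have hcl : IsClosedMap (Points.map (pullback.snd f ((yon S).map toV ≫ p))) :=
    H3 n Pn _ _ sqn
  have hbot : (yon S).map (toBase (ι ≫ V.hom) (MvPolynomial (ULift.{u} (Fin n)) R)) ≫
      (yon S).map (Over.homMk ι rfl : Over.mk (ι ≫ V.hom) ⟶ V) ≫ p =
      (yon S).map o ≫ (yon S).map toV ≫ p := by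
    rw [← Category.assoc, ← CategoryTheory.Functor.map_comp, ← hoV,
      CategoryTheory.Functor.map_comp, Category.assoc]
  have hkc : fst ≫ f = (snd ≫ (yon S).map o) ≫ (yon S).map toV ≫ p := by
    rw [sq.w, hbot, Category.assoc]
  let k := sqn.lift fst (snd ≫ (yon S).map o) hkc
  have hk1 : k ≫ pullback.fst f ((yon S).map toV ≫ p) = fst := sqn.lift_fst _ _ _
  have hk2 : k ≫ pullback.snd f ((yon S).map toV ≫ p) = snd ≫ (yon S).map o := sqn.lift_snd _ _ _
  have hsq : IsPullback k snd (pullback.snd f ((yon S).map toV ≫ p)) ((yon S).map o) := by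
    refine IsPullback.of_right ?_ hk2 sqn
    rw [hk1, ← hbot]
    exact sq
  have hPn : IsAlgSpace Pn := Groth.Agent.Helper4.AlgSpPB.isAlgSpace_of_isPullback hY.diag hX
    (IsAlgSpace.yon_obj _) f _ _ _ sqn
  exact isClosedMap_of_isPullback_openImmersion o _ k snd hsq hPn hcl

end Groth.Agent.Helper5.AnCl
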