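import Groth.Agent.Helper5.AnCl7
import Groth.Agent.Helper5.AlgSpEt2
import Groth.Agent.Helper6.TauLib
import Groth.Agent.Helper6.LocalFppf
import Mathlib

/-!
# Helper5: closedness over all affine spaces over an étale chart implies universal closedness
-/

set_option autoImplicit false
universe u
open CategoryTheory CategoryTheory.Limits AlgebraicGeometry Opposite TensorProduct

namespace Groth.Agent.Helper5.AnCl

open AlgSp Groth.Agent.Helper4.AlgSpPtsDesc

variable {S : Scheme.{u}}

set_option maxHeartbeats 800000 in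
set_option backward.isDefEq.respectTransparency.types false in
theorem isUnivClosedMor_of_affineSpace_tests {X Y : Sp S} (hX : IsAlgSpace X) (hY : IsAlgSpace Y)
    (f : X ⟶ Y) (hqc : IsQuasiCompactMor f)
    (V : Over S) (p : (yon S).obj V ⟶ Y) (hpe : RepWith @Etale p) (hps : RepWith @Surjective p)
    (H3 : ∀ (n : ℕ) (P : Sp S) (fst : P ⟶ X)
      (snd : P ⟶ (yon S).obj (Over.mk ((𝔸(ULift.{u} (Fin n); V.left) ↘ V.left) ≫ V.hom))),
      IsPullback fst snd f ((yon S).map (Over.homMk (𝔸(ULift.{u} (Fin n); V.left) ↘ V.left)) ≫ p) →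
        IsClosedMap (Points.map snd)) :
    IsUnivClosedMor f := by
  let 𝒰 := V.left.affineOpenCover
  let ι : ∀ j : 𝒰.I₀, Spec (CommRingCat.of ↑(𝒰.X j)) ⟶ V.left := fun j => 𝒰.f j
  haveI : ∀ j, IsOpenImmersion (ι j) := fun j => 𝒰.map_prop j
  let Yi : 𝒰.I₀ → Sp S := fun j => (yon S).obj (Over.mk (ι j ≫ V.hom))
  let gi : ∀ j, Yi j ⟶ Y := fun j =>
    (yon S).map (Over.homMk (ι j) rfl : Over.mk (ι j ≫ V.hom) ⟶ V) ≫ p
  have i1 : (RepWith (S := S) @Etale).IsStableUnderComposition :=
    (repWith_isMultiplicative (S := S) @Etale).toIsStableUnderComposition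
  have hgie : ∀ j, IsEtaleMor (gi j) := fun j =>
    Groth.Agent.Helper6.TauLib.isEtaleMor_of_repWith _
      (MorphismProperty.comp_mem _ _ _
        ((repWith_yon_map_iff _ _).2 (inferInstance : Etale (ι j))) hpe)
  have hcov : IsFppfCover Yi gi := by
    refine ⟨fun j => ⟨?_, ?_⟩, fun y => ?_⟩
    · exact Groth.Agent.Helper5.AlgSpEt.locP_of_isEtaleMor @Flat
        (fun q (hq : Etale q) => (inferInstance : Flat q)) _ (hgie j)
    · exact Groth.Agent.Helper5.AlgSpEt.locP_of_isEtaleMor @LocallyOfFinitePresentation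
        (fun q (hq : Etale q) => (inferInstance : LocallyOfFinitePresentation q)) _ (hgie j)
    · obtain ⟨v, rfl⟩ := Groth.Agent.Helper4.AlgSpPts.isSurjectiveMor_of_repWith p hps y
      obtain ⟨v₀, rfl⟩ := (Points.schemeHomeo V).surjective v
      obtain ⟨w, hw⟩ := 𝒰.covers v₀
      refine ⟨𝒰.idx v₀, Points.schemeHomeo _ w, ?_⟩
      rw [Points.map_comp, Points.map_yon_map_apply]
      congr 2
  let Xi : 𝒰.I₀ → Sp S := fun j => pullback f (gi j)
  have hXi : ∀ j, IsAlgSpace (Xi j) := fun j =>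
    Groth.Agent.Helper4.AlgSpPB.isAlgSpace_of_isPullback hY.diag hX (IsAlgSpace.yon_obj _) f (gi j)
      _ _ (IsPullback.of_hasPullback _ _)
  have key := Groth.Agent.Helper6.LocalFppf.univClosed (S := S) Yi gi hY
    (fun j => IsAlgSpace.yon_obj _) hcov f hX Xi (fun j => pullback.snd f (gi j))
    (fun j => pullback.fst f (gi j)) hXi (fun j => IsPullback.of_hasPullback _ _)
  refine key.2 (fun j => ?_)
  exact isUnivClosedMor_of_polynomial_tests (ι j ≫ V.hom) hX hY f hqc (gi j) _ _
    (IsPullback.of_hasPullback _ _)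
    (fun n P fst snd sq => tests_restrict hX hY f V p H3 (ι j) n P fst snd sq)

end Groth.Agent.Helper5.AnCl
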