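import Mathlib
import Groth.Agent.Helper5.AnMain

set_option autoImplicit false
universe u

namespace Groth.Agent.Helper5.AnClosed

open CategoryTheory CategoryTheory.Limits AlgebraicGeometry

theorem s4378 {X Y S : Scheme.{u}} (q : Y ⟶ S) (f : X ⟶ Y)
    [IsSeparated q] [LocallyOfFiniteType q] [QuasiCompact q]
    [IsSeparated (f ≫ q)] [LocallyOfFiniteType (f ≫ q)] [QuasiCompact (f ≫ q)] :
    IsProper f ↔ ∀ (S' : Scheme.{u}) (g : S' ⟶ S),
      IsClosedMap (pullback.map (f ≫ q) g q g f (𝟙 S') (𝟙 S) (Category.comp_id (f ≫ q))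
        ((Category.comp_id g).trans (Category.id_comp g).symm)).base := by
  constructor
  · intro hf S' g
    have sq : IsPullback (pullback.map (f ≫ q) g q g f (𝟙 S') (𝟙 S) (Category.comp_id (f ≫ q))
        ((Category.comp_id g).trans (Category.id_comp g).symm)) (pullback.fst (f ≫ q) g)
        (pullback.fst q g) f := by
      refine IsPullback.of_right ?_ (pullback.lift_fst _ _ _) (IsPullback.of_hasPullback q g).flip
      have : pullback.map (f ≫ q) g q g f (𝟙 S') (𝟙 S) (Category.comp_id (f ≫ q))
        ((Category.comp_id g).trans (Category.id_comp g).symm) ≫ pullback.snd q g =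
          pullback.snd (f ≫ q) g :=
        (pullback.lift_snd _ _ _).trans (Category.comp_id _)
      rw [this]
      exact (IsPullback.of_hasPullback (f ≫ q) g).flip
    have : IsProper (pullback.map (f ≫ q) g q g f (𝟙 S') (𝟙 S) (Category.comp_id (f ≫ q))
        ((Category.comp_id g).trans (Category.id_comp g).symm)) :=
      MorphismProperty.of_isPullback sq.flip hf
    exact Scheme.Hom.isClosedMap _
  · intro h
    have h1 : IsSeparated f := IsSeparated.of_comp f q
    have h2 : LocallyOfFiniteType f := locallyOfFiniteType_of_comp f q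
    have h3 : QuasiCompact f := QuasiCompact.of_comp f q
    have h4 : UniversallyClosed f := by
      refine universallyClosed_of_closed_affineSpace f fun n => ?_
      let A := ULift.{u} (Fin n)
      have sqβ := (AffineSpace.isPullback_map (n := A) q).flip
      have sqα : IsPullback (pullback.fst f (𝔸(A; Y) ↘ Y))
          (pullback.snd f (𝔸(A; Y) ↘ Y) ≫ AffineSpace.map A q) (f ≫ q) (𝔸(A; S) ↘ S) :=
        ((IsPullback.of_hasPullback f (𝔸(A; Y) ↘ Y)).flip.paste_horiz
          (AffineSpace.isPullback_map (n := A) q)).flip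
      let α := sqα.isoPullback
      let β := sqβ.isoPullback
      have e : α.hom ≫ pullback.map (f ≫ q) (𝔸(A; S) ↘ S) q (𝔸(A; S) ↘ S) f (𝟙 _) (𝟙 S)
          (Category.comp_id (f ≫ q))
          ((Category.comp_id _).trans (Category.id_comp _).symm) =
          pullback.snd f (𝔸(A; Y) ↘ Y) ≫ β.hom := by
        apply pullback.hom_ext
        · rw [Category.assoc, Category.assoc]
          erw [pullback.lift_fst]
          rw [← Category.assoc, sqα.isoPullback_hom_fst, sqβ.isoPullback_hom_fst,
            pullback.condition]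
        · rw [Category.assoc, Category.assoc]
          erw [pullback.lift_snd]
          rw [Category.comp_id, sqα.isoPullback_hom_snd, sqβ.isoPullback_hom_snd]
      have hc := h _ (𝔸(A; S) ↘ S)
      have hc2 : IsClosedMap (α.hom ≫ pullback.map (f ≫ q) (𝔸(A; S) ↘ S) q (𝔸(A; S) ↘ S) f (𝟙 _)
          (𝟙 S) (Category.comp_id (f ≫ q))
          ((Category.comp_id _).trans (Category.id_comp _).symm)).base := by
        rw [Scheme.Hom.comp_base, TopCat.coe_comp]
        exact hc.comp α.hom.homeomorph.isClosedMap
      rw [e] at hc2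
      have hc3 : IsClosedMap ((pullback.snd f (𝔸(A; Y) ↘ Y) ≫ β.hom) ≫ β.inv).base := by
        rw [Scheme.Hom.comp_base, TopCat.coe_comp]
        exact β.inv.homeomorph.isClosedMap.comp hc2
      rwa [Category.assoc, Iso.hom_inv_id, Category.comp_id] at hc3
    exact { }

end Groth.Agent.Helper5.AnClosed
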