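import Groth.Agent.Helper5.Gpd1

set_option autoImplicit false
universe u
open CategoryTheory CategoryTheory.Limits AlgebraicGeometry Opposite

namespace Groth.Agent.Helper5.Gpd1

open AlgSp

variable {S : Scheme.{u}} {B : Sp S} (G : GroupoidSp B)

theorem eq_lift {X Y Z : Sp S} {f : X ⟶ Z} {g : Y ⟶ Z} {T : Sp S} (m : T ⟶ pullback f g) :
    m = pullback.lift (m ≫ pullback.fst f g) (m ≫ pullback.snd f g)
      (by rw [Category.assoc, Category.assoc, pullback.condition]) := by
  apply pullback.hom_ext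
  · rw [pullback.lift_fst]
  · rw [pullback.lift_snd]

theorem comp_c {T : Sp S} (m : T ⟶ pullback G.s G.t) :
    m ≫ G.c = comp G (m ≫ pullback.fst G.s G.t) (m ≫ pullback.snd G.s G.t)
      (by rw [Category.assoc, Category.assoc, pullback.condition]) := by
  conv_lhs => rw [eq_lift m]
  rfl

theorem c_s : G.c ≫ G.s = pullback.snd G.s G.t ≫ G.s := by
  have := comp_c G (𝟙 (pullback G.s G.t))
  rw [Category.id_comp] at this
  rw [this, comp_s, Category.id_comp]

theorem c_t : G.c ≫ G.t = pullback.fst G.s G.t ≫ G.t := by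
  have := comp_c G (𝟙 (pullback G.s G.t))
  rw [Category.id_comp] at this
  rw [this, comp_t, Category.id_comp]

theorem isPullback_c : IsPullback G.c (pullback.snd G.s G.t) G.s G.s := by
  refine ⟨⟨c_s G⟩, ⟨PullbackCone.IsLimit.mk _
    (fun c => pullback.lift (comp G c.fst (c.snd ≫ G.i)
      (by rw [Category.assoc, G.i_t, c.condition])) c.snd
      (by rw [comp_s, Category.assoc, G.i_s])) ?_ ?_ ?_⟩⟩
  · intro c
    exact comp_inv_comp G c.fst c.snd c.condition
  · intro c
    rw [pullback.lift_snd]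
  · intro c m h1 h2
    apply pullback.hom_ext
    · rw [pullback.lift_fst]
      have h3 := comp_c G m
      rw [h1] at h3
      have h4 := comp_comp_inv G (m ≫ pullback.fst G.s G.t) (m ≫ pullback.snd G.s G.t)
        (by rw [Category.assoc, Category.assoc, pullback.condition])
      rw [← h4]
      exact comp_congr G h3.symm (by rw [h2]) _ _
    · rw [pullback.lift_snd, h2]

theorem part2 (φ : pullback G.t G.t ⟶ pullback G.s G.t)
    (h1 : φ ≫ pullback.fst G.s G.t = pullback.fst G.t G.t)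
    (h2 : φ ≫ pullback.snd G.s G.t =
      comp G (pullback.fst G.t G.t ≫ G.i) (pullback.snd G.t G.t)
        (by rw [Category.assoc, G.i_s, pullback.condition])) :
    IsIso φ ∧ φ ≫ G.c = pullback.snd G.t G.t := by
  have hc : φ ≫ G.c = pullback.snd G.t G.t := by
    rw [comp_c]
    rw [comp_congr G h1 h2 _ (by rw [comp_t, Category.assoc, G.i_t])]
    exact comp_inv_comp' G _ _ pullback.condition
  refine ⟨?_, hc⟩
  let ψ : pullback G.s G.t ⟶ pullback G.t G.t :=
    pullback.lift (pullback.fst G.s G.t) G.c (c_t G).symm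
  refine ⟨ψ, ?_, ?_⟩
  · apply pullback.hom_ext
    · rw [Category.assoc, pullback.lift_fst, h1, Category.id_comp]
    · rw [Category.assoc, pullback.lift_snd, hc, Category.id_comp]
  · apply pullback.hom_ext
    · rw [Category.assoc, h1, pullback.lift_fst, Category.id_comp]
    · rw [Category.assoc, h2, pre_comp, Category.id_comp]
      have h3 : ψ ≫ pullback.fst G.t G.t ≫ G.i = pullback.fst G.s G.t ≫ G.i := by
        rw [← Category.assoc, pullback.lift_fst]
      have h4 : ψ ≫ pullback.snd G.t G.t =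
          comp G (pullback.fst G.s G.t) (pullback.snd G.s G.t) pullback.condition := by
        rw [pullback.lift_snd]
        have := comp_c G (𝟙 (pullback G.s G.t))
        rw [Category.id_comp] at this
        rw [this]
        exact comp_congr G (Category.id_comp _) (Category.id_comp _) _ _
      rw [comp_congr G h3 h4 _ (by rw [comp_t, Category.assoc, G.i_s])]
      exact inv_comp_comp G _ _ pullback.condition

/-- Left translation by a "bisection-like" `a : U ⟶ R` with `a ≫ s = 𝟙`. -/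
noncomputable def ltrans (a : G.U ⟶ G.R) (ha : a ≫ G.s = 𝟙 G.U) : G.R ⟶ G.R :=
  comp G (G.t ≫ a) (𝟙 G.R) (by rw [Category.assoc, ha, Category.comp_id, Category.id_comp])

theorem ltrans_t (a : G.U ⟶ G.R) (ha : a ≫ G.s = 𝟙 G.U) :
    ltrans G a ha ≫ G.t = G.t ≫ a ≫ G.t := by
  unfold ltrans
  rw [comp_t, Category.assoc]

theorem e_ltrans (a : G.U ⟶ G.R) (ha : a ≫ G.s = 𝟙 G.U) : G.e ≫ ltrans G a ha = a := by
  unfold ltrans
  rw [pre_comp]
  have h1 : G.e ≫ G.t ≫ a = a := by rw [← Category.assoc, G.e_t, Category.id_comp]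
  have h2 : G.e ≫ 𝟙 G.R = 𝟙 G.U ≫ G.e := by rw [Category.comp_id, Category.id_comp]
  rw [comp_congr G h1 h2 _ (by rw [ha, Category.id_comp, G.e_t])]
  exact comp_e G a (𝟙 G.U) ha

theorem isIso_ltrans (a : G.U ⟶ G.R) (ha : a ≫ G.s = 𝟙 G.U) [IsIso (a ≫ G.t)] :
    IsIso (ltrans G a ha) := by
  -- inverse: g ↦ a(τ⁻¹(t g))⁻¹ ∘ g
  let b : G.R ⟶ G.R := G.t ≫ inv (a ≫ G.t) ≫ a
  have hbs : b ≫ G.s = G.t ≫ inv (a ≫ G.t) := by
    simp only [b, Category.assoc, ha, Category.comp_id]
  have hbt : b ≫ G.t = G.t := by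
    simp only [b, Category.assoc]
    rw [IsIso.inv_hom_id, Category.comp_id]
  have hbit : (b ≫ G.i) ≫ G.t = b ≫ G.s := by rw [Category.assoc, G.i_t]
  have hbis : (b ≫ G.i) ≫ G.s = G.t := by rw [Category.assoc, G.i_s, hbt]
  let ρ' : G.R ⟶ G.R := comp G (b ≫ G.i) (𝟙 G.R)
    (by rw [hbis, Category.id_comp])
  have hρ't : ρ' ≫ G.t = G.t ≫ inv (a ≫ G.t) := by
    simp only [ρ']
    rw [comp_t, hbit, hbs]
  refine ⟨ρ', ?_, ?_⟩
  · -- ltrans ≫ ρ' = 𝟙
    simp only [ρ']
    rw [pre_comp]
    have h1 : ltrans G a ha ≫ b ≫ G.i = (G.t ≫ a) ≫ G.i := by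
      have h0 : ltrans G a ha ≫ b = G.t ≫ a := by
        simp only [b]
        rw [← Category.assoc (ltrans G a ha) G.t, ltrans_t]
        simp only [Category.assoc]
        rw [← Category.assoc a G.t, IsIso.hom_inv_id_assoc]
      rw [← Category.assoc, h0]
    have h2 : ltrans G a ha ≫ 𝟙 G.R =
        comp G (G.t ≫ a) (𝟙 G.R) (by rw [Category.assoc, ha, Category.comp_id, Category.id_comp]) := by
      rw [Category.comp_id]; rfl
    rw [comp_congr G h1 h2 _ (by rw [comp_t, Category.assoc, G.i_s])]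
    exact inv_comp_comp G _ _ _
  · -- ρ' ≫ ltrans = 𝟙
    unfold ltrans
    rw [pre_comp]
    have h1 : ρ' ≫ G.t ≫ a = b := by
      rw [← Category.assoc, hρ't, Category.assoc]
    have h2 : ρ' ≫ 𝟙 G.R = comp G (b ≫ G.i) (𝟙 G.R)
        (by rw [hbis, Category.id_comp]) := by
      rw [Category.comp_id]
    rw [comp_congr G h1 h2 _ (by rw [comp_t, hbit])]
    exact comp_inv_comp' G b (𝟙 G.R) (by rw [hbt, Category.id_comp])

end Groth.Agent.Helper5.Gpd1
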