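import Groth.Agent.S9911
import Groth.Agent.Helper5.Gpd2
import Groth.Agent.Helper4.AlgSpLocPChart
import Groth.Agent.Helper4.AlgSpLocPBC

set_option autoImplicit false
universe u
open CategoryTheory CategoryTheory.Limits AlgebraicGeometry Opposite MorphismProperty

namespace Groth.Agent.Helper5.FieldTgt

open AlgSp Groth.Agent.Helper4.SDClasses

variable {S : Scheme.{u}}

/-- Universal openness is stable under base change. -/
theorem univOpen_of_isPullback {X Y Y' X' : Sp S} (f : X ⟶ Y) (g : Y' ⟶ Y)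
    (fst : X' ⟶ X) (f' : X' ⟶ Y') (sq : IsPullback fst f' f g) (hf : IsUnivOpenMor f) :
    IsUnivOpenMor f' := by
  intro Z Z' hZ g' fst' snd' sq'
  exact hf hZ (g' ≫ g) (fst' ≫ fst) snd' (sq'.paste_horiz sq)

/-- Universal openness is invariant under postcomposition with an isomorphism. -/
theorem univOpen_comp_iso {X Y Y' : Sp S} (f : X ⟶ Y) (e : Y ≅ Y') (hf : IsUnivOpenMor (f ≫ e.hom)) :
    IsUnivOpenMor f := by
  have sq : IsPullback (𝟙 X) f (f ≫ e.hom) e.hom :=
    IsPullback.of_horiz_isIso ⟨by rw [Category.id_comp]⟩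
  exact univOpen_of_isPullback _ _ _ _ sq hf

/-- Any morphism from an algebraic space to (a sheaf isomorphic to) the spectrum of a field is universally open. -/
theorem univOpen_to_field {R U : Sp S} (hR : IsAlgSpace R) (k : Type u) [Field k]
    (σ : Spec (CommRingCat.of k) ⟶ S) (eU : U ≅ (yon S).obj (Over.mk σ)) (f : R ⟶ U) :
    IsUnivOpenMor f := by
  apply univOpen_comp_iso f eU
  exact Groth.Agent.S9911.result (S := S) ⟨R, hR⟩ σ ⟨f ≫ eU.hom⟩

/-- Any morphism from an algebraic space to (a sheaf isomorphic to) the spectrum of a field is flat. -/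
theorem locP_flat_to_field {R U : Sp S} (hR : IsAlgSpace R) (k : Type u) [Field k]
    (σ : Spec (CommRingCat.of k) ⟶ S) (eU : U ≅ (yon S).obj (Over.mk σ)) (f : R ⟶ U) :
    LocP @Flat f := by
  obtain ⟨W, a, hae, has⟩ := hR.atlas
  obtain ⟨h, hh⟩ := (yon S).map_surjective (X := W) (Y := Over.mk σ) (a ≫ f ≫ eU.hom)
  have hid : RepWith @Etale (𝟙 ((yon S).obj (Over.mk σ))) := by
    rw [← (yon S).map_id]; exact (repWith_yon_map_iff _ _).2 (by dsimp; infer_instance)
  have hb : RepWith @Etale (𝟙 ((yon S).obj (Over.mk σ)) ≫ eU.inv) :=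
    MorphismProperty.RespectsIso.postcomp _ _ _ hid
  rw [Category.id_comp] at hb
  refine Groth.Agent.Helper4.AlgSpLocPChart.locP_of_one_chart @Flat good_flat f a eU.inv h hae has hb
    ?_ ?_
  · rw [hh]; simp
  · have : IsIntegral (Over.mk σ).left := by dsimp; infer_instance
    have : Subsingleton (Over.mk σ).left := by dsimp; infer_instance
    infer_instance

open Groth.Agent.Helper5.Gpd1 in
theorem s10126 (B : Sp S) (G : GroupoidSp B) (hR : IsAlgSpace G.R) (k : Type u) [Field k]
    (σ : Spec (CommRingCat.of k) ⟶ S) (eU : G.U ≅ (yon S).obj (Over.mk σ)) :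
    LocP @Flat G.c ∧ IsUnivOpenMor G.c := by
  have hU : IsAlgSpace G.U := (IsAlgSpace.yon_obj (Over.mk σ)).of_iso eU.symm
  have sq := (isPullback_c G).flip
  refine ⟨?_, ?_⟩
  · exact Groth.Agent.Helper4.AlgSpLocPBC.locP_of_isPullback @Flat good_flat.etale_le good_flat.sd hR hU
      G.s G.s _ _ sq (locP_flat_to_field hR k σ eU G.s)
  · exact univOpen_of_isPullback _ _ _ _ sq (univOpen_to_field hR k σ eU G.s)

end Groth.Agent.Helper5.FieldTgt
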