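import Groth.Agent.Helper5.Restr1
import Groth.Agent.Helper5.FieldTgt
import Groth.Agent.Helper5.AlgSpAff
import Groth.Agent.Helper4.AlgSpPts
import Groth.Agent.Helper4.AlgSpSrc

set_option autoImplicit false
universe u
open CategoryTheory CategoryTheory.Limits AlgebraicGeometry Opposite MorphismProperty

namespace Groth.Agent.Helper5.Restr1

open AlgSp Groth.Agent.Helper4.SDClasses Groth.Agent.Helper5.FieldTgt Groth.Agent.Helper5.AlgSpAff

variable {S : Scheme.{u}}

theorem isSurjectiveMor_of_section {X Y : Sp S} (f : X ⟶ Y) (e : Y ⟶ X) (h : e ≫ f = 𝟙 Y) :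
    IsSurjectiveMor f := by
  intro y
  refine ⟨Points.map e y, ?_⟩
  rw [← Points.map_comp, h, Points.map_id]

theorem isSurjectiveMor_comp {X Y Z : Sp S} (f : X ⟶ Y) (g : Y ⟶ Z) (hf : IsSurjectiveMor f)
    (hg : IsSurjectiveMor g) : IsSurjectiveMor (f ≫ g) := by
  intro z
  obtain ⟨y, rfl⟩ := hg z
  obtain ⟨x, rfl⟩ := hf y
  exact ⟨x, Points.map_comp f g x⟩

theorem isAffineMor_yon_map {V' V : Over S} (h : V' ⟶ V) (hh : IsAffineHom h.left) :
    IsAffineMor ((yon S).map h) := by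
  intro Z hZ g
  have hrw : RepWith @IsAffineHom ((yon S).map h) := (repWith_yon_map_iff _ _).2 hh
  have hr := hrw.rep
  have hpb : IsPullback (hr.fst g) ((yon S).map (hr.snd g)) ((yon S).map h) g := hr.isPullback g
  have h1 : IsAffineHom (hr.snd g).left := hrw.property _ _ _ hpb
  have : IsAffine Z.left := hZ
  exact ⟨_, hr.snd g, hr.fst g, hpb, isAffine_of_isAffineHom (hr.snd g).left⟩

variable {B : Sp S} {G G' : GroupoidSp B} (φ : GroupoidSp.Hom G' G)

theorem s10132 (hR : IsAlgSpace G.R) (hR' : IsAlgSpace G'.R)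
    (k k' : Type u) [Field k] [Field k'] [Algebra k k'] (σ : Spec (CommRingCat.of k) ⟶ S)
    (eU : G.U ≅ ((yon S).obj (Over.mk σ)))
    (eU' : G'.U ≅ ((yon S).obj (Over.mk (Spec.map (CommRingCat.ofHom (algebraMap k k')) ≫ σ))))
    (hφ : φ.IsRestriction)
    (hfU : φ.fU = eU'.hom ≫ (yon S).map (Over.homMk (Spec.map (CommRingCat.ofHom (algebraMap k k'))) rfl :
      Over.mk (Spec.map (CommRingCat.ofHom (algebraMap k k')) ≫ σ) ⟶ Over.mk σ) ≫ eU.inv) :
    (∀ f ∈ [G.s, G.t], IsSurjectiveMor f ∧ LocP @Flat f ∧ IsUnivOpenMor f) ∧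
      (∀ f ∈ [G'.s, G'.t], IsSurjectiveMor f ∧ LocP @Flat f ∧ IsUnivOpenMor f) ∧
      (IsSurjectiveMor φ.fU ∧ LocP @Flat φ.fU ∧ IsUnivOpenMor φ.fU) ∧
      (IsSurjectiveMor φ.fR ∧ LocP @Flat φ.fR ∧ IsUnivOpenMor φ.fR ∧ IsAffineMor φ.fR) := by
  have hU : IsAlgSpace G.U := (IsAlgSpace.yon_obj (Over.mk σ)).of_iso eU.symm
  have hU' : IsAlgSpace G'.U := (IsAlgSpace.yon_obj _).of_iso eU'.symm
  have hfUfl : LocP @Flat φ.fU := locP_flat_to_field hU' k σ eU φ.fU
  have hfUuo : IsUnivOpenMor φ.fU := univOpen_to_field hU' k σ eU φ.fU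
  set h : Over.mk (Spec.map (CommRingCat.ofHom (algebraMap k k')) ≫ σ) ⟶ Over.mk σ :=
    Over.homMk (Spec.map (CommRingCat.ofHom (algebraMap k k'))) rfl with hh
  have sqU : IsPullback eU'.hom φ.fU ((yon S).map h) eU.hom :=
    IsPullback.of_horiz_isIso ⟨by rw [hfU]; simp⟩
  have hsurjh : Surjective h.left := by
    refine ⟨fun x => ?_⟩
    have hne : Nonempty (Spec (CommRingCat.of k')) := inferInstance
    obtain ⟨y⟩ := hne
    have : Subsingleton (Spec (CommRingCat.of k)) := inferInstance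
    exact ⟨y, Subsingleton.elim (α := Spec (CommRingCat.of k)) _ _⟩
  have hfUs : IsSurjectiveMor φ.fU :=
    Groth.Agent.Helper4.AlgSpPts.isSurjectiveMor_of_isPullback sqU
      (Groth.Agent.Helper4.AlgSpPts.isSurjectiveMor_of_repWith _ ((repWith_yon_map_iff _ _).2 hsurjh))
  have hfUaff : IsAffineMor φ.fU :=
    isAffineMor_of_isPullback sqU (isAffineMor_yon_map h (by dsimp [hh]; infer_instance))
  refine ⟨?_, ?_, ⟨hfUs, hfUfl, hfUuo⟩, ?_⟩
  · intro f hf
    simp only [List.mem_cons, List.not_mem_nil, or_false] at hf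
    rcases hf with rfl | rfl
    · exact ⟨isSurjectiveMor_of_section _ G.e G.e_s, locP_flat_to_field hR k σ eU _,
        univOpen_to_field hR k σ eU _⟩
    · exact ⟨isSurjectiveMor_of_section _ G.e G.e_t, locP_flat_to_field hR k σ eU _,
        univOpen_to_field hR k σ eU _⟩
  · intro f hf
    simp only [List.mem_cons, List.not_mem_nil, or_false] at hf
    rcases hf with rfl | rfl
    · exact ⟨isSurjectiveMor_of_section _ G'.e G'.e_s, locP_flat_to_field hR' k' _ eU' _,
        univOpen_to_field hR' k' _ eU' _⟩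
    · exact ⟨isSurjectiveMor_of_section _ G'.e G'.e_t, locP_flat_to_field hR' k' _ eU' _,
        univOpen_to_field hR' k' _ eU' _⟩
  · have hmid : IsAlgSpace (pullback φ.fU G.s) :=
      Groth.Agent.Helper4.AlgSpPB.isAlgSpace_of_isPullback hU.diag hU' hR φ.fU G.s _ _
        (IsPullback.of_hasPullback _ _)
    have sq1 := (sq_s φ hφ).flip
    have sq2 := IsPullback.of_hasPullback φ.fU G.s
    have hfac : pullback.lift G'.s φ.fR φ.comm_s.symm ≫ pullback.snd φ.fU G.s = φ.fR :=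
      pullback.lift_snd _ _ _
    rw [← hfac]
    refine ⟨?_, ?_, ?_, ?_⟩
    · exact isSurjectiveMor_comp _ _
        (Groth.Agent.Helper4.AlgSpPts.isSurjectiveMor_of_isPullback sq1 hfUs)
        (Groth.Agent.Helper4.AlgSpPts.isSurjectiveMor_of_isPullback sq2 hfUs)
    · exact Groth.Agent.Helper4.AlgSpLocPComp.locP_comp @Flat good_flat hmid _ _
        (Groth.Agent.Helper4.AlgSpLocPBC.locP_of_isPullback @Flat good_flat.etale_le good_flat.sd
          hU' hU φ.fU _ _ _ sq1 hfUfl)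
        (Groth.Agent.Helper4.AlgSpLocPBC.locP_of_isPullback @Flat good_flat.etale_le good_flat.sd
          hU' hU φ.fU _ _ _ sq2 hfUfl)
    · exact Groth.Agent.Helper4.AlgSpSrc.isUnivOpenMor_comp hmid hR.diag _ _
        (univOpen_of_isPullback _ _ _ _ sq1 hfUuo) (univOpen_of_isPullback _ _ _ _ sq2 hfUuo)
    · exact isAffineMor_comp _ _ (isAffineMor_of_isPullback sq1 hfUaff)
        (isAffineMor_of_isPullback sq2 hfUaff)

end Groth.Agent.Helper5.Restr1
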