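import Groth.Agent.Helper5.AffDesc8
import Groth.Agent.Helper5.MonoQuot8
import Groth.Agent.Helper5.Restr2
import Groth.Agent.Helper5.UnramLqf
import Mathlib

set_option autoImplicit false
set_option linter.style.haveILetI false
set_option linter.unusedSectionVars false
set_option linter.unusedVariables false
universe u
open CategoryTheory CategoryTheory.Limits AlgebraicGeometry Opposite

namespace Groth.Agent.Helper5.ArtAff

open AlgSp

/-- a scheme locally quasi-finite over an Artinian ring is discrete -/
theorem discreteTopology_of_lqf_artinian {W : Scheme.{u}} {A : Type u} [CommRing A]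
    [IsArtinianRing A] (g : W ⟶ Spec (CommRingCat.of A)) [LocallyQuasiFinite g] :
    DiscreteTopology ↥W := by
  rw [discreteTopology_iff_isOpen_singleton]
  intro w
  haveI : DiscreteTopology ↥(Spec (CommRingCat.of A)) :=
    inferInstanceAs (DiscreteTopology (PrimeSpectrum A))
  have h1 : _root_.IsDiscrete (g ⁻¹' {g w}) := Scheme.Hom.isDiscrete_preimage_singleton g (g w)
  have h2 : IsOpen (g ⁻¹' {g w}) := (isOpen_discrete _).preimage g.continuous
  haveI : DiscreteTopology ↥(g ⁻¹' {g w}) := h1.to_subtype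
  have h3 : IsOpen ({(⟨w, rfl⟩ : ↥(g ⁻¹' {g w}))} : Set ↥(g ⁻¹' {g w})) := isOpen_discrete _
  have h4 := h2.isOpenMap_subtype_val _ h3
  rwa [Set.image_singleton] at h4

variable {S : Scheme.{u}}

set_option backward.isDefEq.respectTransparency.types false in
theorem s9945 [QuasiSeparatedSpace ↥S] (X : AlgSp.Space S)
    (hX : AlgSp.IsQuasiSeparatedSp X.obj) (A : Type u) [CommRing A] [IsArtinianRing A]
    (str : Spec (CommRingCat.of A) ⟶ S) (a : (AlgSp.yon S).obj (Over.mk str) ⟶ X.obj) :
    AlgSp.IsAffineMor a := by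
  haveI : CompactSpace ↥(Spec (CommRingCat.of A)) :=
    inferInstanceAs (CompactSpace (PrimeSpectrum A))
  haveI : QuasiCompact (Over.mk str).hom := by
    show QuasiCompact str
    infer_instance
  have hqc : RepWith @QuasiCompact a :=
    Groth.Agent.Helper5.MonoQuot.repWith_qc_of_qs X.property hX a
  obtain ⟨U, φ, hφe, hφs⟩ := X.property.atlas
  have sq := hqc.rep.isPullback φ
  obtain ⟨e, he⟩ := (yon S).map_surjective (hqc.rep.fst φ)
  rw [← he] at sq
  have hcq : QuasiCompact (hqc.rep.snd φ).left := hqc.property φ _ _ sq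
  clear he
  generalize hqc.rep.snd φ = c at sq hcq
  generalize hqc.rep.pullback φ = W at e c sq hcq
  haveI het : Etale e.left := hφe.property a _ _ sq.flip
  haveI := hcq
  have hpf : RepWith @Flat φ :=
    Groth.Agent.Helper4.AlgSpSrc.repWith_mono (fun g hg => by haveI := hg; infer_instance) hφe
  have hpl : RepWith @LocallyOfFinitePresentation φ :=
    Groth.Agent.Helper4.AlgSpSrc.repWith_mono (fun g hg => by haveI := hg; infer_instance) hφe
  refine Groth.Agent.Helper5.AffDesc.isAffineMor_of_fppf_chart a U φ hpf hpl hφs _ _ sq ?_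
  apply Groth.Agent.Helper5.Restr1.isAffineMor_yon_map
  haveI : LocallyQuasiFinite e.left :=
    Groth.Agent.Helper5.UnramLqf.locallyQuasiFinite_of_unramified e.left
  haveI hWd : DiscreteTopology ↥W.left := discreteTopology_of_lqf_artinian (A := A) e.left
  refine ⟨fun U' hU' => ?_⟩
  have hcomp : IsCompact ((c.left ⁻¹ᵁ U' : W.left.Opens) : Set ↥W.left) :=
    QuasiCompact.isCompact_preimage (f := c.left) _ U'.2 hU'.isCompact
  haveI : CompactSpace ↥(c.left ⁻¹ᵁ U' : W.left.Opens).toScheme :=
    isCompact_iff_compactSpace.1 hcomp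
  haveI : DiscreteTopology ↥(c.left ⁻¹ᵁ U' : W.left.Opens).toScheme :=
    inferInstanceAs (DiscreteTopology ↥((c.left ⁻¹ᵁ U' : W.left.Opens) : Set ↥W.left))
  haveI : Finite ↥(c.left ⁻¹ᵁ U' : W.left.Opens).toScheme := finite_of_compact_of_discrete
  show IsAffine (c.left ⁻¹ᵁ U' : W.left.Opens).toScheme
  infer_instance

end Groth.Agent.Helper5.ArtAff
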