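import Mathlib
import Groth.Prelude
import Groth.Agent.Helper2.HS10

set_option autoImplicit false
set_option linter.unusedSectionVars false
set_option linter.style.haveILetI false
universe u

open AlgebraicGeometry CategoryTheory CategoryTheory.Limits
open MonoidalCategory CartesianMonoidalCategory MonObj GrpObj

namespace Groth.Agent.Helper5.ArtComp

open Groth.Agent.Helper2

/-- connected components of a group scheme over a field are quasi-compact -/
theorem isCompact_connectedComponent_field (k : Type u) [Field k]
    (G : Over (Spec (CommRingCat.of k))) [GrpObj G] (g : G.left) :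
    IsCompact (connectedComponent g) := by
  let pt : ↥(𝟙_ (Over (Spec (CommRingCat.of k)))).left := IsLocalRing.closedPoint k
  let C0 := irreducibleComponent (η[G].left pt)
  have hC0 : C0 ∈ irreducibleComponents G.left := irreducibleComponent_mem_irreducibleComponents _
  have he : η[G].left pt ∈ C0 := mem_irreducibleComponent
  have hΦ := HS6.surjective_selfAction G
  rw [HS10.connectedComponent_eq (HS2.selfAction G) C0 hC0 pt he hΦ g]
  exact HS10.isCompact_comp (HS2.selfAction G) C0 hC0 pt he hΦ _
    (irreducibleComponent_mem_irreducibleComponents g)

/-- transfer of compactness of connected components along a homeomorphism -/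
theorem isCompact_connectedComponent_of_homeo {X Y : Type*} [TopologicalSpace X]
    [TopologicalSpace Y] (e : X ≃ₜ Y) (h : ∀ x : X, IsCompact (connectedComponent x)) (y : Y) :
    IsCompact (connectedComponent y) := by
  have h1 := (h (e.symm y)).image e.continuous
  have h2 : e '' connectedComponent (e.symm y) = connectedComponent y := by
    have := e.isQuotientMap.image_connectedComponent
      (fun y => by
        have : e ⁻¹' {y} = {e.symm y} := by
          ext x; simp [Homeomorph.eq_symm_apply]
        rw [this]; exact isConnected_singleton) (e.symm y)
    simpa using this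
  rwa [h2] at h1

theorem s5345 (A : Type u) [CommRing A] [IsArtinianRing A] [IsLocalRing A]
    (G : Over (Spec (CommRingCat.of A))) [GrpObj G] (g : G.left) :
    IsCompact (connectedComponent g) := by
  let k := IsLocalRing.ResidueField A
  let i : Spec (CommRingCat.of k) ⟶ Spec (CommRingCat.of A) :=
    Spec.map (CommRingCat.ofHom (IsLocalRing.residue A))
  haveI : IsClosedImmersion i :=
    IsClosedImmersion.spec_of_surjective _ (IsLocalRing.residue_surjective)
  haveI : Surjective i := by
    refine ⟨fun x => ?_⟩
    refine ⟨IsLocalRing.closedPoint k, ?_⟩
    have h1 : ∀ y : PrimeSpectrum A, y = IsLocalRing.closedPoint A := by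
      intro y
      haveI := IsArtinianRing.isMaximal_of_isPrime y.asIdeal
      ext1
      exact IsLocalRing.eq_maximalIdeal inferInstance
    exact (h1 _).trans (h1 x).symm
  let G' := Red.bc i G
  let π : G'.left ⟶ G.left := pullback.fst G.hom i
  haveI : IsClosedImmersion π := inferInstance
  haveI : Surjective π := inferInstance
  let e : G'.left ≃ₜ G.left :=
    (Equiv.ofBijective π ⟨π.isClosedEmbedding.injective, π.surjective⟩).toHomeomorphOfIsInducing
      π.isClosedEmbedding.isInducing
  exact isCompact_connectedComponent_of_homeo e
    (fun x => isCompact_connectedComponent_field k G' x) g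

end Groth.Agent.Helper5.ArtComp
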