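import Mathlib
import Groth.Prelude.Def_Flat
import Groth.Agent.Helper5.AwnUH

set_option autoImplicit false
set_option linter.unusedSectionVars false
set_option linter.style.haveILetI false
universe u

open AlgebraicGeometry CategoryTheory Opposite TensorProduct

namespace Groth.Agent.Helper5.Awn

variable (A : Type u) [CommRing A]

/-- algebraic closure of the residue field at `p` -/
abbrev Om (p : PrimeSpectrum A) : Type u := AlgebraicClosure p.asIdeal.ResidueField

lemma ker_toOm (p : PrimeSpectrum A) : RingHom.ker (algebraMap A (Om A p)) = p.asIdeal := by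
  ext a
  rw [RingHom.mem_ker, IsScalarTower.algebraMap_apply A p.asIdeal.ResidueField (Om A p),
    map_eq_zero_iff _ (algebraMap p.asIdeal.ResidueField (Om A p)).injective]
  exact Ideal.algebraMap_residueField_eq_zero

theorem uh_id : UH (RingHom.id A) where
  integral := fun x => ⟨Polynomial.X - Polynomial.C x, Polynomial.monic_X_sub_C x, by simp⟩
  inj := fun K _ γ₁ γ₂ h => by simpa using h
  surj := fun p => ⟨p, by simp⟩

theorem exists_lift {C : Type u} [CommRing C] (ψ : A →+* C) (h : UH ψ) (p : PrimeSpectrum A) :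
    ∃ γ : C →+* Om A p, γ.comp ψ = algebraMap A (Om A p) := by
  obtain ⟨q, rfl⟩ := h.surj p
  let f : A ⧸ (PrimeSpectrum.comap ψ q).asIdeal →+* C ⧸ q.asIdeal :=
    Ideal.quotientMap q.asIdeal ψ le_rfl
  have hf : Function.Injective f := Ideal.quotientMap_injective
  have hfi : f.IsIntegral := RingHom.IsIntegral.quotient ψ h.integral
  letI := f.toAlgebra
  let g : A ⧸ (PrimeSpectrum.comap ψ q).asIdeal →+* Om A (PrimeSpectrum.comap ψ q) :=
    Ideal.Quotient.lift _ (algebraMap A (Om A (PrimeSpectrum.comap ψ q)))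
      (fun a ha => by
        have : a ∈ RingHom.ker (algebraMap A (Om A (PrimeSpectrum.comap ψ q))) := by
          rw [ker_toOm]; exact ha
        exact this)
  have hg : Function.Injective g := by
    rw [injective_iff_map_eq_zero]
    intro x hx
    obtain ⟨a, rfl⟩ := Ideal.Quotient.mk_surjective x
    have : a ∈ RingHom.ker (algebraMap A (Om A (PrimeSpectrum.comap ψ q))) := hx
    rw [ker_toOm] at this
    exact Ideal.Quotient.eq_zero_iff_mem.2 this
  letI := g.toAlgebra
  haveI : IsDomain (A ⧸ (PrimeSpectrum.comap ψ q).asIdeal) := Ideal.Quotient.isDomain _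
  haveI : IsDomain (C ⧸ q.asIdeal) := Ideal.Quotient.isDomain _
  haveI : Module.IsTorsionFree (A ⧸ (PrimeSpectrum.comap ψ q).asIdeal) (C ⧸ q.asIdeal) :=
    Module.isTorsionFree_iff_algebraMap_injective.2 hf
  haveI : Module.IsTorsionFree (A ⧸ (PrimeSpectrum.comap ψ q).asIdeal)
      (Om A (PrimeSpectrum.comap ψ q)) :=
    Module.isTorsionFree_iff_algebraMap_injective.2 hg
  haveI : Algebra.IsIntegral (A ⧸ (PrimeSpectrum.comap ψ q).asIdeal) (C ⧸ q.asIdeal) := ⟨hfi⟩
  haveI : Algebra.IsAlgebraic (A ⧸ (PrimeSpectrum.comap ψ q).asIdeal) (C ⧸ q.asIdeal) :=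
    Algebra.IsIntegral.isAlgebraic
  let l : C ⧸ q.asIdeal →ₐ[A ⧸ (PrimeSpectrum.comap ψ q).asIdeal]
    Om A (PrimeSpectrum.comap ψ q) := IsAlgClosed.lift
  refine ⟨l.toRingHom.comp (Ideal.Quotient.mk q.asIdeal), ?_⟩
  ext a
  have h1 : l (f (Ideal.Quotient.mk _ a)) = g (Ideal.Quotient.mk _ a) := l.commutes _
  exact h1


theorem uh_tensor (C C' : Type u) [CommRing C] [CommRing C'] [Algebra A C] [Algebra A C']
    (h : UH (algebraMap A C)) (h' : UH (algebraMap A C')) : UH (algebraMap A (C ⊗[A] C')) where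
  integral := by
    haveI : Algebra.IsIntegral A C := ⟨h.integral⟩
    haveI : Algebra.IsIntegral A C' := ⟨h'.integral⟩
    haveI : Algebra.IsIntegral A (C ⊗[A] C') := Algebra.IsIntegral.trans C
    exact Algebra.IsIntegral.isIntegral
  inj := by
    intro K _ γ₁ γ₂ hγ
    have h1 : γ₁.comp (Algebra.TensorProduct.includeLeftRingHom : C →+* C ⊗[A] C') =
        γ₂.comp Algebra.TensorProduct.includeLeftRingHom := by
      apply h.inj
      ext a
      have := congrArg (fun f => f a) hγ
      simpa [Algebra.TensorProduct.algebraMap_apply] using this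
    have h2 : γ₁.comp (Algebra.TensorProduct.includeRight : C' →ₐ[A] C ⊗[A] C').toRingHom =
        γ₂.comp (Algebra.TensorProduct.includeRight : C' →ₐ[A] C ⊗[A] C').toRingHom := by
      apply h'.inj
      ext a
      have := congrArg (fun f => f a) hγ
      have e : (Algebra.TensorProduct.includeRight : C' →ₐ[A] C ⊗[A] C') (algebraMap A C' a) =
          algebraMap A (C ⊗[A] C') a := AlgHom.commutes _ a
      simp only [RingHom.comp_apply, AlgHom.toRingHom_eq_coe, RingHom.coe_coe, e]
      exact this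
    refine RingHom.ext (fun x => ?_)
    induction x using TensorProduct.induction_on with
    | zero => simp
    | tmul c c' =>
      have e : c ⊗ₜ[A] c' = Algebra.TensorProduct.includeLeftRingHom c *
          (Algebra.TensorProduct.includeRight : C' →ₐ[A] C ⊗[A] C') c' := by
        simp [Algebra.TensorProduct.tmul_mul_tmul]
      rw [e, map_mul, map_mul]
      have e1 := congrArg (fun f => f c) h1
      have e2 := congrArg (fun f => f c') h2
      simp only [RingHom.comp_apply] at e1 e2
      rw [e1]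
      congr 1
    | add x y hx hy => rw [map_add, map_add, hx, hy]
  surj := by
    intro p
    obtain ⟨γ, hγ⟩ := exists_lift A (algebraMap A C) h p
    obtain ⟨γ', hγ'⟩ := exists_lift A (algebraMap A C') h' p
    let γa : C →ₐ[A] Om A p := { γ with commutes' := fun a => congrArg (fun f => f a) hγ }
    let γa' : C' →ₐ[A] Om A p := { γ' with commutes' := fun a => congrArg (fun f => f a) hγ' }
    let π : C ⊗[A] C' →ₐ[A] Om A p := Algebra.TensorProduct.productMap γa γa'
    refine ⟨⟨RingHom.ker π.toRingHom, RingHom.ker_isPrime _⟩, ?_⟩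
    apply PrimeSpectrum.ext
    show Ideal.comap (algebraMap A (C ⊗[A] C')) (RingHom.ker π.toRingHom) = p.asIdeal
    refine Eq.trans ?_ (ker_toOm A p)
    ext a
    simp only [Ideal.mem_comap, RingHom.mem_ker]
    have : π.toRingHom (algebraMap A (C ⊗[A] C') a) = algebraMap A (Om A p) a := π.commutes a
    rw [this]


/-- the ambient product -/
abbrev Pr : Type u := ∀ p : PrimeSpectrum A, Om A p

variable {A}

/-- the canonical map of a universal homeomorphism over `A` into the ambient product -/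
noncomputable def can {C : Type u} [CommRing C] (ψ : A →+* C) (h : UH ψ) : C →+* Pr A :=
  Pi.ringHom (fun p => (exists_lift A ψ h p).choose)

theorem can_apply {C : Type u} [CommRing C] (ψ : A →+* C) (h : UH ψ) (c : C)
    (p : PrimeSpectrum A) : can ψ h c p = (exists_lift A ψ h p).choose c := rfl

theorem can_comp {C : Type u} [CommRing C] (ψ : A →+* C) (h : UH ψ) :
    (can ψ h).comp ψ = algebraMap A (Pr A) := by
  ext a p
  have := congrArg (fun f => f a) (exists_lift A ψ h p).choose_spec
  exact this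

/-- uniqueness: any ring map to the product compatible with `A` is the canonical one -/
theorem eq_can {C : Type u} [CommRing C] (ψ : A →+* C) (h : UH ψ) (θ : C →+* Pr A)
    (hθ : θ.comp ψ = algebraMap A (Pr A)) : θ = can ψ h := by
  refine RingHom.ext (fun c => funext (fun p => ?_))
  have := h.inj (Om A p) ((Pi.evalRingHom (Om A) p).comp θ)
    ((Pi.evalRingHom (Om A) p).comp (can ψ h)) (by
      rw [RingHom.comp_assoc, RingHom.comp_assoc, hθ, can_comp])
  exact congrArg (fun f => f c) this

theorem can_comp_hom {C C' : Type u} [CommRing C] [CommRing C'] (ψ : A →+* C) (h : UH ψ)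
    (ψ' : A →+* C') (h' : UH ψ') (θ : C →+* C') (hθ : θ.comp ψ = ψ') :
    (can ψ' h').comp θ = can ψ h := by
  apply eq_can
  rw [RingHom.comp_assoc, hθ, can_comp]

variable (A)

/-- the absolute weak normalization as a subring of the product -/
noncomputable def awn : Subring (Pr A) where
  carrier := {b | ∃ (C : Type u) (_ : CommRing C) (ψ : A →+* C) (h : UH ψ), b ∈ (can ψ h).range}
  zero_mem' := ⟨A, inferInstance, RingHom.id A, uh_id A, ⟨0, map_zero _⟩⟩
  one_mem' := ⟨A, inferInstance, RingHom.id A, uh_id A, ⟨1, map_one _⟩⟩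
  neg_mem' := by
    rintro _ ⟨C, _, ψ, h, ⟨c, rfl⟩⟩
    exact ⟨C, _, ψ, h, ⟨-c, map_neg _ _⟩⟩
  add_mem' := by
    rintro _ _ ⟨C, _, ψ, h, ⟨c, rfl⟩⟩ ⟨C', _, ψ', h', ⟨c', rfl⟩⟩
    letI := ψ.toAlgebra
    letI := ψ'.toAlgebra
    have hT : UH (algebraMap A (C ⊗[A] C')) := uh_tensor A C C' h h'
    refine ⟨C ⊗[A] C', inferInstance, algebraMap A (C ⊗[A] C'), hT,
      ⟨c ⊗ₜ 1 + 1 ⊗ₜ c', ?_⟩⟩
    rw [map_add]
    congr 1
    · exact congrArg (fun f => f c) (can_comp_hom ψ h _ hT
        Algebra.TensorProduct.includeLeftRingHom (by ext a; rfl))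
    · exact congrArg (fun f => f c') (can_comp_hom ψ' h' _ hT
        (Algebra.TensorProduct.includeRight : C' →ₐ[A] C ⊗[A] C').toRingHom (by
          ext a
          exact (Algebra.TensorProduct.includeRight : C' →ₐ[A] C ⊗[A] C').commutes a))
  mul_mem' := by
    rintro _ _ ⟨C, _, ψ, h, ⟨c, rfl⟩⟩ ⟨C', _, ψ', h', ⟨c', rfl⟩⟩
    letI := ψ.toAlgebra
    letI := ψ'.toAlgebra
    have hT : UH (algebraMap A (C ⊗[A] C')) := uh_tensor A C C' h h'
    refine ⟨C ⊗[A] C', inferInstance, algebraMap A (C ⊗[A] C'), hT,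
      ⟨c ⊗ₜ 1 * 1 ⊗ₜ c', ?_⟩⟩
    rw [map_mul]
    congr 1
    · exact congrArg (fun f => f c) (can_comp_hom ψ h _ hT
        Algebra.TensorProduct.includeLeftRingHom (by ext a; rfl))
    · exact congrArg (fun f => f c') (can_comp_hom ψ' h' _ hT
        (Algebra.TensorProduct.includeRight : C' →ₐ[A] C ⊗[A] C').toRingHom (by
          ext a
          exact (Algebra.TensorProduct.includeRight : C' →ₐ[A] C ⊗[A] C').commutes a))


variable {A}

/-- the canonical map of a universal homeomorphism over `A` into `awn A` -/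
noncomputable def canB {C : Type u} [CommRing C] (ψ : A →+* C) (h : UH ψ) : C →+* awn A :=
  (can ψ h).codRestrict (awn A) (fun c => ⟨C, inferInstance, ψ, h, ⟨c, rfl⟩⟩)

variable (A)

/-- the structure map `A → awn A` -/
noncomputable def toAwn : A →+* awn A := canB (RingHom.id A) (uh_id A)

variable {A}

theorem canB_comp {C : Type u} [CommRing C] (ψ : A →+* C) (h : UH ψ) :
    (canB ψ h).comp ψ = toAwn A := by
  ext a : 2
  show can ψ h (ψ a) = can (RingHom.id A) (uh_id A) a
  have h1 := congrArg (fun f => f a) (can_comp ψ h)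
  have h2 := congrArg (fun f => f a) (can_comp (RingHom.id A) (uh_id A))
  exact h1.trans h2.symm

theorem subtype_comp_toAwn : (awn A).subtype.comp (toAwn A) = algebraMap A (Pr A) := by
  ext a : 1
  exact congrArg (fun f => f a) (can_comp (RingHom.id A) (uh_id A))

theorem uh_toAwn : UH (toAwn A) where
  integral := by
    rintro ⟨_, ⟨C, _, ψ, h, ⟨c, rfl⟩⟩⟩
    obtain ⟨P, hP, hPc⟩ := h.integral c
    refine ⟨P, hP, ?_⟩
    have e : (⟨can ψ h c, ⟨C, _, ψ, h, ⟨c, rfl⟩⟩⟩ : awn A) = canB ψ h c := rfl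
    rw [e, ← canB_comp ψ h, ← Polynomial.hom_eval₂, hPc, map_zero]
  inj := by
    intro K _ β₁ β₂ hβ
    refine RingHom.ext ?_
    rintro ⟨_, ⟨C, _, ψ, h, ⟨c, rfl⟩⟩⟩
    have e : (⟨can ψ h c, ⟨C, _, ψ, h, ⟨c, rfl⟩⟩⟩ : awn A) = canB ψ h c := rfl
    rw [e]
    have := h.inj K (β₁.comp (canB ψ h)) (β₂.comp (canB ψ h)) (by
      rw [RingHom.comp_assoc, RingHom.comp_assoc, canB_comp, hβ])
    exact congrArg (fun f => f c) this
  surj := by
    intro p
    let ev : awn A →+* Om A p := (Pi.evalRingHom (Om A) p).comp (awn A).subtype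
    refine ⟨⟨RingHom.ker ev, RingHom.ker_isPrime _⟩, ?_⟩
    apply PrimeSpectrum.ext
    show Ideal.comap (toAwn A) (RingHom.ker ev) = p.asIdeal
    refine Eq.trans ?_ (ker_toOm A p)
    ext a
    simp only [Ideal.mem_comap, RingHom.mem_ker]
    have : ev (toAwn A a) = algebraMap A (Om A p) a := by
      have := congrArg (fun f => f a p) (subtype_comp_toAwn (A := A))
      exact this
    rw [this]

theorem final {C : Type u} [CommRing C] (ψ : A →+* C) (h : UH ψ) :
    ∃! χ : C →+* awn A, χ.comp ψ = toAwn A := by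
  refine ⟨canB ψ h, canB_comp ψ h, ?_⟩
  intro χ hχ
  have h1 : (awn A).subtype.comp χ = can ψ h := by
    apply eq_can
    rw [RingHom.comp_assoc, hχ, subtype_comp_toAwn]
  refine RingHom.ext (fun c => Subtype.ext ?_)
  exact congrArg (fun f => f c) h1

/-- every ring has an absolute weak normalization -/
theorem exists_isRingAWN (A : Type u) [CommRing A] :
    ∃ (B : Type u) (_ : CommRing B) (φ : A →+* B),
      FlatMor.IsUnivHomeo (Spec.map (CommRingCat.ofHom φ)) ∧
      ∀ (C : Type u) [CommRing C] (ψ : A →+* C),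
        FlatMor.IsUnivHomeo (Spec.map (CommRingCat.ofHom ψ)) → ∃! χ : C →+* B, χ.comp ψ = φ := by
  refine ⟨awn A, inferInstance, toAwn A, (uh_iff _).2 uh_toAwn, ?_⟩
  intro C _ ψ hψ
  exact final ψ ((uh_iff ψ).1 hψ)

end Groth.Agent.Helper5.Awn
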