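import Mathlib
import Groth.Agent.Helper5.BCDim3

set_option autoImplicit false
set_option linter.style.haveILetI false
set_option linter.unusedSectionVars false
set_option linter.deprecated false
universe u
open CategoryTheory CategoryTheory.Limits AlgebraicGeometry TopologicalSpace Topology TensorProduct

namespace Groth.Agent.Helper5.BCDim

section General

variable (A B : Type u) [CommRing A] [CommRing B] [Algebra A B]

/-- the fibre local ring at a prime minimal over the extension of its contraction has dimension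
zero -/
theorem dim_fibLocRing_eq_zero_of_minimal (Q : Ideal B) [Q.IsPrime]
    (hQ : Q ∈ ((Q.comap (algebraMap A B)).map (algebraMap A B)).minimalPrimes) :
    ringKrullDim (EGA4.FibLocRing A B Q) = 0 := by
  set I : Ideal (Localization.AtPrime Q) :=
    (Q.comap (algebraMap A B)).map (algebraMap A (Localization.AtPrime Q)) with hI
  let φ : B →+* EGA4.FibLocRing A B Q :=
    (Ideal.Quotient.mk I).comp (algebraMap B (Localization.AtPrime Q))
  have hcomap : ∀ 𝔓 : Ideal (EGA4.FibLocRing A B Q), 𝔓.IsPrime → 𝔓.comap φ = Q := by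
    intro 𝔓 h𝔓
    haveI : (𝔓.comap φ).IsPrime := Ideal.comap_isPrime φ 𝔓
    have h1 : (Q.comap (algebraMap A B)).map (algebraMap A B) ≤ 𝔓.comap φ := by
      rw [Ideal.map_le_iff_le_comap]
      intro a ha
      rw [Ideal.mem_comap, Ideal.mem_comap]
      have : φ (algebraMap A B a) = 0 := by
        show Ideal.Quotient.mk I (algebraMap B (Localization.AtPrime Q) (algebraMap A B a)) = 0
        rw [Ideal.Quotient.eq_zero_iff_mem, ← IsScalarTower.algebraMap_apply]
        exact Ideal.mem_map_of_mem _ ha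
      rw [this]; exact 𝔓.zero_mem
    have h2 : 𝔓.comap φ ≤ Q := by
      intro b hb
      by_contra hbQ
      have hu : IsUnit (algebraMap B (Localization.AtPrime Q) b) :=
        IsLocalization.map_units (Localization.AtPrime Q) (⟨b, hbQ⟩ : Q.primeCompl)
      have hu' : IsUnit (φ b) := hu.map (Ideal.Quotient.mk I)
      exact h𝔓.ne_top (Ideal.eq_top_of_isUnit_mem _ hb hu')
    exact le_antisymm h2 (hQ.2 ⟨inferInstance, h1⟩ h2)
  have hinj : ∀ 𝔓₁ 𝔓₂ : Ideal (EGA4.FibLocRing A B Q), 𝔓₁.comap φ = 𝔓₂.comap φ → 𝔓₁ = 𝔓₂ := by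
    intro 𝔓₁ 𝔓₂ h
    have h' : (𝔓₁.comap (Ideal.Quotient.mk I)).comap (algebraMap B (Localization.AtPrime Q)) =
        (𝔓₂.comap (Ideal.Quotient.mk I)).comap (algebraMap B (Localization.AtPrime Q)) := by
      rw [Ideal.comap_comap, Ideal.comap_comap]; exact h
    have h'' : 𝔓₁.comap (Ideal.Quotient.mk I) = 𝔓₂.comap (Ideal.Quotient.mk I) := by
      rw [← IsLocalization.map_comap Q.primeCompl (Localization.AtPrime Q)
          (𝔓₁.comap (Ideal.Quotient.mk I)),
        ← IsLocalization.map_comap Q.primeCompl (Localization.AtPrime Q)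
          (𝔓₂.comap (Ideal.Quotient.mk I))]
      exact congrArg (Ideal.map (algebraMap B (Localization.AtPrime Q))) h'
    exact Ideal.comap_injective_of_surjective _ Ideal.Quotient.mk_surjective h''
  haveI : Ring.KrullDimLE 0 (EGA4.FibLocRing A B Q) := by
    apply Ring.KrullDimLE.mk₀
    intro 𝔓 h𝔓
    have hm := hcomap (IsLocalRing.maximalIdeal _) inferInstance
    rw [hinj 𝔓 (IsLocalRing.maximalIdeal _) ((hcomap 𝔓 h𝔓).trans hm.symm)]
    infer_instance
  apply le_antisymm
  · exact (Ring.krullDimLE_iff).1 inferInstance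
  · exact ringKrullDim_nonneg_of_nontrivial

variable [IsNoetherianRing A] [IsNoetherianRing B] [Module.Flat A B]

theorem dim_fibLocRing_add (Q : Ideal B) [Q.IsPrime] :
    ringKrullDim (EGA4.FibLocRing A B Q) +
      ringKrullDim (Localization.AtPrime (Q.comap (algebraMap A B))) =
        ringKrullDim (Localization.AtPrime Q) := by
  rw [IsLocalization.AtPrime.ringKrullDim_eq_height (Q.comap (algebraMap A B))
      (Localization.AtPrime (Q.comap (algebraMap A B))),
    IsLocalization.AtPrime.ringKrullDim_eq_height Q (Localization.AtPrime Q),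
    Groth.Agent.Helper2.FlatLoc.height_eq A B Q,
    ← IsLocalRing.maximalIdeal_height_eq_ringKrullDim]
  push_cast
  rw [add_comm]

/-- going down: there is a prime over `q` which is minimal over `q B` -/
theorem exists_minimal_liesOver (q : Ideal A) [q.IsPrime] (Q₀ : Ideal B) [Q₀.IsPrime]
    [Q₀.LiesOver q] :
    ∃ (Q : Ideal B) (_ : Q.IsPrime), Q.LiesOver q ∧
      Q ∈ (q.map (algebraMap A B)).minimalPrimes := by
  haveI : Algebra.HasGoingDown A B := Algebra.HasGoingDown.of_flat
  have hle : q.map (algebraMap A B) ≤ Q₀ := by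
    rw [Ideal.map_le_iff_le_comap]
    exact (Ideal.LiesOver.over (p := q) (P := Q₀)).le
  obtain ⟨Q, hQmin, hQle⟩ := Ideal.exists_minimalPrimes_le hle
  haveI hQp : Q.IsPrime := hQmin.1.1
  have hqle : q ≤ Q.under A := by
    rw [Ideal.under_def, ← Ideal.map_le_iff_le_comap]; exact hQmin.1.2
  haveI : Q.LiesOver (Q.under A) := ⟨rfl⟩
  obtain ⟨P, hPQ, hPp, hPq⟩ := Ideal.exists_ideal_le_liesOver_of_le (p := q) (q := Q.under A) Q hqle
  have hJP : q.map (algebraMap A B) ≤ P := by
    rw [Ideal.map_le_iff_le_comap]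
    exact (Ideal.LiesOver.over (p := q) (P := P)).le
  have hQP : Q ≤ P := hQmin.2 ⟨hPp, hJP⟩ hPQ
  have hEq : P = Q := le_antisymm hPQ hQP
  subst hEq
  exact ⟨P, hPp, hPq, hQmin⟩

end General

set_option maxHeartbeats 1000000 in
/-- S9180 -/
theorem s9180 (k S K : Type u) [Field k] [CommRing S] [Algebra k S]
    [Algebra.FiniteType k S] [Field K] [Algebra k K] (q : Ideal S) [q.IsPrime] (r : ℕ)
    (hr : Algebra.trdeg k q.ResidueField = r) (qK : Ideal (S ⊗[k] K)) [qK.IsPrime] [qK.LiesOver q]
    (rK : ℕ)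
    (hrK : letI : Algebra K (S ⊗[k] K) := Algebra.TensorProduct.rightAlgebra
      Algebra.trdeg K qK.ResidueField = rK) :
    ringKrullDim (EGA4.FibLocRing S (S ⊗[k] K) qK) + ringKrullDim (Localization.AtPrime q) =
        ringKrullDim (Localization.AtPrime qK) ∧
      ringKrullDim (EGA4.FibLocRing S (S ⊗[k] K) qK) + (rK : WithBot ℕ∞) = (r : WithBot ℕ∞) ∧
      ∃ (q' : Ideal (S ⊗[k] K)) (_ : q'.IsPrime), q'.LiesOver q ∧
        ringKrullDim (EGA4.FibLocRing S (S ⊗[k] K) q') = 0 := by
  haveI : IsNoetherianRing S := Algebra.FiniteType.isNoetherianRing k S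
  haveI : IsNoetherianRing (S ⊗[k] K) := by
    letI : Algebra K (S ⊗[k] K) := Algebra.TensorProduct.rightAlgebra
    haveI : Algebra.FiniteType K (S ⊗[k] K) := by
      have e : (K ⊗[k] S) ≃ₐ[K] (S ⊗[k] K) :=
        { Algebra.TensorProduct.comm k K S with
          commutes' := by
            intro c
            simp only [Algebra.TensorProduct.algebraMap_apply, Algebra.algebraMap_self,
              RingHom.id_apply, AlgEquiv.toEquiv_eq_coe, Equiv.toFun_as_coe, EquivLike.coe_coe,
              Algebra.TensorProduct.comm_tmul]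
            rfl }
      exact Algebra.FiniteType.equiv inferInstance e
    exact Algebra.FiniteType.isNoetherianRing K _
  have key : ∀ (I : Ideal S) [I.IsPrime], I = qK.comap (algebraMap S (S ⊗[k] K)) →
      ringKrullDim (EGA4.FibLocRing S (S ⊗[k] K) qK) + ringKrullDim (Localization.AtPrime I) =
        ringKrullDim (Localization.AtPrime qK) := by
    rintro I _ rfl
    exact dim_fibLocRing_add S (S ⊗[k] K) qK
  have h1 := key q (Ideal.LiesOver.over (p := q) (P := qK))
  have h2 := dim_localization_add_trdeg k S K q qK r rK hr hrK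
  refine ⟨h1, ?_, ?_⟩
  · obtain ⟨d, hd⟩ := Groth.Agent.Helper5.CMBC.exists_nat_dim (Localization.AtPrime q)
    rw [← h1, hd] at h2
    apply wb_add_right_cancel _ _ d
    rw [add_comm (r : WithBot ℕ∞) (d : WithBot ℕ∞), ← h2]
    abel
  · obtain ⟨Q, hQp, hQq, hQmin⟩ := exists_minimal_liesOver S (S ⊗[k] K) q qK
    refine ⟨Q, hQp, hQq, ?_⟩
    apply dim_fibLocRing_eq_zero_of_minimal S (S ⊗[k] K) Q
    have : Q.comap (algebraMap S (S ⊗[k] K)) = q := (Ideal.LiesOver.over (p := q) (P := Q)).symm
    rw [this]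
    exact hQmin

end Groth.Agent.Helper5.BCDim
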