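import Mathlib
import Groth.Agent.Helper5.BCDim4
import Groth.Agent.Helper5.LscDim1
import Groth.Agent.Helper5.CMFib1

set_option autoImplicit false
set_option linter.style.haveILetI false
set_option linter.unusedSectionVars false
set_option linter.deprecated false
universe u
open CategoryTheory CategoryTheory.Limits AlgebraicGeometry TopologicalSpace Topology TensorProduct

namespace Groth.Agent.Helper5.BCDim

attribute [local instance] Curv2.resAlgebra

/-- the fibre of `X_K → X` over a point is the spectrum of `κ(x) ⊗ K` -/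
theorem nonempty_fiber_bcFst_iso (k : Type u) [Field k] (X : Scheme.{u})
    [X.Over (Spec (CommRingCat.of k))] (K : Type u) [Field K] [Algebra k K] (x : X) :
    Nonempty ((Curv2.bcFst k X K).fiber x ≅
      Spec (CommRingCat.of (X.residueField x ⊗[k] K))) := by
  let f : X ⟶ Spec (CommRingCat.of k) := X ↘ Spec (CommRingCat.of k)
  let s : Spec (CommRingCat.of K) ⟶ Spec (CommRingCat.of k) :=
    Spec.map (CommRingCat.ofHom (algebraMap k K))
  let ι : Spec (X.residueField x) ⟶ X := X.fromSpecResidueField x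
  have hι : ι ≫ f = Spec.map (CommRingCat.ofHom (algebraMap k (X.residueField x))) :=
    Groth.Agent.Helper5.LscDim.fromSpecResidueField_comp f x
  let e1 : pullback (pullback.fst f s) ι ≅ pullback ι (pullback.fst f s) := pullbackSymmetry _ _
  let e2 : pullback ι (pullback.fst f s) ≅ pullback (ι ≫ f) s := pullbackRightPullbackFstIso f s ι
  let e3 : pullback (ι ≫ f) s ≅
      pullback (Spec.map (CommRingCat.ofHom (algebraMap k (X.residueField x)))) s :=
    pullback.congrHom hι rfl
  let e4 := pullbackSpecIso k (X.residueField x) K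
  exact ⟨e1 ≪≫ e2 ≪≫ e3 ≪≫ e4⟩

set_option maxHeartbeats 1000000 in
/-- S7627 -/
theorem s7627 (k : Type u) [Field k] (X : Scheme.{u}) [X.Over (Spec (CommRingCat.of k))]
    [LocallyOfFiniteType (X ↘ (Spec (CommRingCat.of k)))]
    (K : Type u) [Field K] [Algebra k K] (y : ↥(Curv2.bc k X K))
    (hdim : ringKrullDim ↥(X.presheaf.stalk (Curv2.bcFst k X K y)) =
      ringKrullDim ↥((Curv2.bc k X K).presheaf.stalk y))
    (hred : _root_.IsReduced (X.residueField (Curv2.bcFst k X K y) ⊗[k] K)) :
    Ideal.map ((Curv2.bcFst k X K).stalkMap y).hom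
      (IsLocalRing.maximalIdeal ↥(X.presheaf.stalk (Curv2.bcFst k X K y))) =
      IsLocalRing.maximalIdeal ↥((Curv2.bc k X K).presheaf.stalk y) := by
  have hsq : IsPullback (Curv2.bcFst k X K) (Curv2.bcSnd k X K) (X ↘ Spec (CommRingCat.of k))
      (Spec.map (CommRingCat.ofHom (algebraMap k K))) := IsPullback.of_hasPullback _ _
  set p := Curv2.bcFst k X K with hp
  set I := Ideal.map (p.stalkMap y).hom (IsLocalRing.maximalIdeal ↥(X.presheaf.stalk (p y)))
    with hI
  have hfib := dim_fibre_ring k K (X ↘ Spec (CommRingCat.of k))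
    (Curv2.bcSnd k X K) p hsq y
  haveI : IsLocallyNoetherian X :=
    LocallyOfFiniteType.isLocallyNoetherian (X ↘ Spec (CommRingCat.of k))
  obtain ⟨d, hd⟩ := Groth.Agent.Helper5.CMBC.exists_nat_dim (X.presheaf.stalk (p y))
  have hF0 : ringKrullDim (↥((Curv2.bc k X K).presheaf.stalk y) ⧸ I) = 0 := by
    rw [← hdim, hd] at hfib
    apply wb_add_right_cancel _ _ d
    rw [hfib, zero_add]
  -- the fibre ring is reduced
  obtain ⟨e⟩ := nonempty_fiber_bcFst_iso k X K (p y)
  haveI : IsReduced (p.fiber (p y)) := isReduced_of_isOpenImmersion e.hom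
  obtain ⟨eF⟩ := Groth.Agent.Helper5.CMFib.fibre_stalk_equiv' p y
  haveI hFred : _root_.IsReduced (↥((Curv2.bc k X K).presheaf.stalk y) ⧸ I) :=
    isReduced_of_injective eF.toRingHom eF.injective
  -- the fibre ring is local
  have hIle : I ≤ IsLocalRing.maximalIdeal ↥((Curv2.bc k X K).presheaf.stalk y) := by
    rw [hI, Ideal.map_le_iff_le_comap]
    intro a ha
    exact (IsLocalRing.mem_maximalIdeal _).2 (fun hu =>
      ((IsLocalRing.mem_maximalIdeal a).1 ha) ((isUnit_map_iff (p.stalkMap y).hom a).1 hu))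
  haveI : Nontrivial (↥((Curv2.bc k X K).presheaf.stalk y) ⧸ I) :=
    Ideal.Quotient.nontrivial_iff.2 (fun h =>
      (IsLocalRing.maximalIdeal.isMaximal _).ne_top (top_le_iff.1 (h ▸ hIle)))
  haveI : IsLocalRing (↥((Curv2.bc k X K).presheaf.stalk y) ⧸ I) :=
    IsLocalRing.of_surjective' (Ideal.Quotient.mk I) Ideal.Quotient.mk_surjective
  haveI : Ring.KrullDimLE 0 (↥((Curv2.bc k X K).presheaf.stalk y) ⧸ I) :=
    (Ring.krullDimLE_iff).2 hF0.le
  have hfield : IsField (↥((Curv2.bc k X K).presheaf.stalk y) ⧸ I) :=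
    Ring.KrullDimLE.isField_of_isReduced
  haveI : I.IsMaximal := Ideal.Quotient.maximal_of_isField I hfield
  exact IsLocalRing.eq_maximalIdeal inferInstance

end Groth.Agent.Helper5.BCDim
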