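import Mathlib
import Groth.Agent.Helper5.BCMin8
import Groth.Agent.Helper5.LocDim3

set_option autoImplicit false
universe u
open CategoryTheory CategoryTheory.Limits AlgebraicGeometry TensorProduct

namespace Groth.Agent.Helper5.BCMin

set_option maxHeartbeats 1000000 in
/-- Components of the preimage in `X ×_k K` of an irreducible closed subset `Z` of `X` have the
dimension of `Z`. -/
theorem dim_component_preimage_bc {X : Scheme.{u}} (k K : Type u) [Field k] [Field K] (φ : k →+* K)
    (f : X ⟶ Spec (CommRingCat.of k)) [LocallyOfFiniteType f]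
    (Z : Set ↥X) (hZc : IsClosed Z) (hZi : IsIrreducible Z)
    (W : Set ↥(⇑(pullback.fst f (Spec.map (CommRingCat.ofHom φ))) ⁻¹' Z))
    (hW : W ∈ irreducibleComponents ↥(⇑(pullback.fst f (Spec.map (CommRingCat.ofHom φ))) ⁻¹' Z)) :
    topologicalKrullDim ↥W = topologicalKrullDim ↥Z := by
  let g := Spec.map (CommRingCat.ofHom φ)
  let π := pullback.fst f g
  let Y : Set ↥(pullback f g) := ⇑π ⁻¹' Z
  have hY : IsClosed Y := hZc.preimage π.continuous
  obtain ⟨ζ, hζ⟩ := Groth.Agent.Helper5.LocDim.exists_generic_of_component Y hY W hW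
  have hζY : ζ ∈ Y := by
    have h1 : ζ ∈ closure ({ζ} : Set ↥(pullback f g)) := subset_closure rfl
    rw [hζ] at h1
    obtain ⟨w, -, rfl⟩ := h1
    exact w.2
  -- maximality of ζ within Y
  have hζmax : ∀ y₀ : ↥(pullback f g), y₀ ∈ Y → y₀ ⤳ ζ → y₀ = ζ := by
    intro y₀ hy₀ hsp
    let W' : Set ↥Y := closure {(⟨y₀, hy₀⟩ : ↥Y)}
    have hW'irr : IsIrreducible W' := isIrreducible_singleton.closure
    have hW'eq : W' = Subtype.val ⁻¹' closure ({y₀} : Set ↥(pullback f g)) := by
      show closure {(⟨y₀, hy₀⟩ : ↥Y)} = _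
      rw [Topology.IsInducing.subtypeVal.closure_eq_preimage_closure_image, Set.image_singleton]
    have hWW' : W ≤ W' := by
      intro w hw
      rw [hW'eq]
      show (w : ↥(pullback f g)) ∈ closure ({y₀} : Set ↥(pullback f g))
      have h1 : (w : ↥(pullback f g)) ∈ closure ({ζ} : Set ↥(pullback f g)) := by
        rw [hζ]; exact ⟨w, hw, rfl⟩
      exact (specializes_iff_closure_subset.1 hsp) h1
    have hW'W : W' ≤ W := hW.2 hW'irr hWW'
    have h2 : (⟨y₀, hy₀⟩ : ↥Y) ∈ W := hW'W (subset_closure rfl)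
    have h3 : y₀ ∈ closure ({ζ} : Set ↥(pullback f g)) := by
      rw [hζ]; exact ⟨⟨y₀, hy₀⟩, h2, rfl⟩
    exact (hsp.antisymm (specializes_iff_mem_closure.2 h3)).eq
  -- the reduced subscheme on Z and its base change
  let Zc : TopologicalSpace.Closeds ↥X := ⟨Z, hZc⟩
  let I := Scheme.IdealSheafData.vanishingIdeal Zc
  let ι : I.subscheme ⟶ X := I.subschemeι
  have hrange : Set.range ι = Z := by
    rw [Scheme.IdealSheafData.range_subschemeι]
    rfl
  let j : pullback (ι ≫ f) g ⟶ pullback f g :=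
    pullback.map (ι ≫ f) g f g ι (𝟙 _) (𝟙 _) (by simp) (by simp)
  have hjci : IsClosedImmersion j :=
    MorphismProperty.pullbackMap (P := @IsClosedImmersion) (inferInstance : IsClosedImmersion ι)
      (inferInstance : IsClosedImmersion (𝟙 (Spec (CommRingCat.of K)))) rfl (Category.id_comp g).symm
  have hjrange : Set.range j = Y := by
    rw [Scheme.Pullback.range_map]
    show ⇑π ⁻¹' Set.range ι ∩ _ = Y
    rw [hrange]
    have : Set.range (𝟙 (Spec (CommRingCat.of K)) : Spec (CommRingCat.of K) ⟶ _) = Set.univ := by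
      ext y; simp
    rw [this, Set.preimage_univ, Set.inter_univ]
  have hjfst : j ≫ π = pullback.fst (ι ≫ f) g ≫ ι := pullback.lift_fst _ _ _
  have hjemb : Topology.IsClosedEmbedding j := j.isClosedEmbedding
  obtain ⟨z', hz'⟩ : ζ ∈ Set.range j := by rw [hjrange]; exact hζY
  have hz'max : ∀ y, y ⤳ z' → y = z' := by
    intro y hy
    apply hjemb.injective
    rw [hz']
    apply hζmax
    · rw [← hjrange]; exact ⟨y, rfl⟩
    · rw [← hz']; exact hy.map j.continuous
  have hlft : LocallyOfFiniteType (ι ≫ f) := inferInstance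
  have key := dim_closure_bc k K φ (ι ≫ f) z' hz'max
  have htmax := max_fst_of_max k K φ (ι ≫ f) z' hz'max
  -- left side
  have hL : topologicalKrullDim ↥W =
      topologicalKrullDim ↥(closure ({z'} : Set ↥(pullback (ι ≫ f) g))) := by
    rw [← Groth.Agent.Helper5.LocDim.dim_image_val Y W, ← hζ, ← hz',
      ← Groth.Agent.Helper5.FibDim.dim_image_eq j hjemb.isEmbedding (closure {z'}),
      ← hjemb.closure_image_eq, Set.image_singleton]
  -- right side
  have hR : topologicalKrullDim ↥(closure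
      ({pullback.fst (ι ≫ f) g z'} : Set ↥I.subscheme)) = topologicalKrullDim ↥Z := by
    set t := pullback.fst (ι ≫ f) g z' with ht
    have hιemb : Topology.IsClosedEmbedding ι := ι.isClosedEmbedding
    rw [← Groth.Agent.Helper5.FibDim.dim_image_eq ι hιemb.isEmbedding (closure {t}),
      ← hιemb.closure_image_eq, Set.image_singleton]
    obtain ⟨η, hη⟩ := QuasiSober.sober hZi hZc
    have hηdef : closure ({η} : Set ↥X) = Z := hη.def
    have hηZ : η ∈ Z := by rw [← hηdef]; exact subset_closure rfl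
    obtain ⟨t₀, ht₀⟩ : η ∈ Set.range ι := by rw [hrange]; exact hηZ
    have h1 : ι t₀ ⤳ ι t := by
      rw [ht₀, specializes_iff_mem_closure, hηdef, ← hrange]
      exact ⟨t, rfl⟩
    have h2 : t₀ ⤳ t := hιemb.isEmbedding.toIsInducing.specializes_iff.1 h1
    have h3 : t₀ = t := htmax t₀ h2
    rw [← h3, ht₀, hηdef]
  rw [hL, key, hR]

end Groth.Agent.Helper5.BCMin
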