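import Mathlib
import Groth.Agent.Helper5.BCMin8

set_option autoImplicit false
universe u
open CategoryTheory CategoryTheory.Limits AlgebraicGeometry TensorProduct

namespace Groth.Agent.Helper5.BCMin

set_option maxHeartbeats 1000000 in
/-- Ring-level form: local dimension of `Spec (K ⊗[k] S)` at a prime over `q` equals the local
dimension of `Spec S` at `q`. -/
theorem localDim_primeSpectrum_tensor {k S K : Type u} [Field k] [CommRing S] [Algebra k S]
    [Algebra.FiniteType k S] [Field K] [Algebra k K] (q : Ideal S) [q.IsPrime]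
    (qK : Ideal (K ⊗[k] S)) [qK.IsPrime]
    (hq : qK.comap (Algebra.TensorProduct.includeRight.toRingHom : S →+* K ⊗[k] S) = q) :
    FlatMor.localDim (PrimeSpectrum (K ⊗[k] S)) ⟨qK, inferInstance⟩ =
      FlatMor.localDim (PrimeSpectrum S) ⟨q, inferInstance⟩ := by
  subst hq
  let h : Spec (CommRingCat.of S) ⟶ Spec (CommRingCat.of k) :=
    Spec.map (CommRingCat.ofHom (algebraMap k S))
  have hlft : LocallyOfFiniteType h := by
    rw [HasRingHomProperty.Spec_iff (P := @LocallyOfFiniteType)]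
    show (algebraMap k S).FiniteType
    rw [RingHom.finiteType_algebraMap]
    infer_instance
  let e := pullbackSpecIso k S K
  let c : (S ⊗[k] K) ≃+* (K ⊗[k] S) := (Algebra.TensorProduct.comm k S K).toRingEquiv
  let h1 : PrimeSpectrum (K ⊗[k] S) ≃ₜ ↥(Spec (CommRingCat.of (S ⊗[k] K))) :=
    (PrimeSpectrum.homeomorphOfRingEquiv c).symm
  let h2 : ↥(Spec (CommRingCat.of (S ⊗[k] K))) ≃ₜ
      ↥(pullback h (Spec.map (CommRingCat.ofHom (algebraMap k K)))) := (Scheme.homeoOfIso e).symm
  let P : PrimeSpectrum (K ⊗[k] S) := ⟨qK, inferInstance⟩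
  have e1 : FlatMor.localDim (PrimeSpectrum (K ⊗[k] S)) P =
      FlatMor.localDim ↥(Spec (CommRingCat.of (S ⊗[k] K))) (h1 P) :=
    Groth.Agent.Helper5.SubDim.localDim_homeomorph h1 P
  have e2 : FlatMor.localDim ↥(Spec (CommRingCat.of (S ⊗[k] K))) (h1 P) =
      FlatMor.localDim ↥(pullback h (Spec.map (CommRingCat.ofHom (algebraMap k K)))) (h2 (h1 P)) :=
    Groth.Agent.Helper5.SubDim.localDim_homeomorph h2 (h1 P)
  have e3 := localDim_bc k K (algebraMap k K) h (h2 (h1 P))
  have hfst : pullback.fst h (Spec.map (CommRingCat.ofHom (algebraMap k K))) (h2 (h1 P)) =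
      (⟨qK.comap (Algebra.TensorProduct.includeRight.toRingHom : S →+* K ⊗[k] S), inferInstance⟩ :
        PrimeSpectrum S) := by
    have hh : e.inv ≫ pullback.fst h (Spec.map (CommRingCat.ofHom (algebraMap k K))) =
        Spec.map (CommRingCat.ofHom Algebra.TensorProduct.includeLeftRingHom) :=
      pullbackSpecIso_inv_fst k S K
    have h3 : pullback.fst h (Spec.map (CommRingCat.ofHom (algebraMap k K))) (h2 (h1 P)) =
        Spec.map (CommRingCat.ofHom (Algebra.TensorProduct.includeLeftRingHom :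
          S →+* S ⊗[k] K)) (h1 P) := by
      rw [← hh]
      rfl
    rw [h3]
    apply PrimeSpectrum.ext
    ext s
    show c (s ⊗ₜ[k] (1 : K)) ∈ qK ↔ ((1 : K) ⊗ₜ[k] s) ∈ qK
    rfl
  rw [hfst] at e3
  exact e1.trans (e2.trans e3)

end Groth.Agent.Helper5.BCMin
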