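import Mathlib

set_option autoImplicit false

namespace Groth.Agent.Helper5.BinomDet
open Matrix Polynomial

variable {k : Type*} [Field k]

theorem det_choose_ne_zero {n : ℕ} (v : Fin n → ℕ)
    (hv : Function.Injective (fun i => (v i : k))) :
    (Matrix.of fun i j : Fin n => (((v i).choose (j : ℕ) : ℕ) : k)).det ≠ 0 := by
  have h := Matrix.det_eval_matrixOfPolynomials_eq_det_vandermonde (fun i => (v i : k))
    (fun j : Fin n => descPochhammer k j) (fun i => descPochhammer_natDegree k i)
    (fun i => monic_descPochhammer k i)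
  have h2 : (Matrix.of fun i j : Fin n => (descPochhammer k (j : ℕ)).eval ((v i : ℕ) : k)) =
      Matrix.of fun i j : Fin n => (((j : ℕ).factorial : ℕ) : k) * (((v i).choose (j : ℕ) : ℕ) : k) := by
    ext i j
    rw [Matrix.of_apply, Matrix.of_apply, descPochhammer_eval_eq_descFactorial,
      Nat.descFactorial_eq_factorial_mul_choose]
    push_cast
    rfl
  have h4 := Matrix.det_mul_row (fun j : Fin n => (((j : ℕ).factorial : ℕ) : k))
    (Matrix.of fun i j : Fin n => (((v i).choose (j : ℕ) : ℕ) : k))
  simp only [Matrix.of_apply] at h4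
  rw [h2, h4] at h
  have h3 : (Matrix.vandermonde fun i => (v i : k)).det ≠ 0 :=
    Matrix.det_vandermonde_ne_zero_iff.mpr hv
  rw [h] at h3
  exact right_ne_zero_of_mul h3

theorem det_choose_succ_ne_zero {n : ℕ} (J : Fin n → ℕ)
    (hv : Function.Injective (fun i : Fin (n + 1) => (((Fin.cons 0 J : Fin (n + 1) → ℕ) i : ℕ) : k))) :
    (Matrix.of fun r s : Fin n => (((J r).choose ((s : ℕ) + 1) : ℕ) : k)).det ≠ 0 := by
  have h := det_choose_ne_zero (k := k) (Fin.cons 0 J : Fin (n + 1) → ℕ) hv
  rw [Matrix.det_succ_row_zero, Finset.sum_eq_single 0] at h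
  · simp only [Fin.val_zero, pow_zero, of_apply, Fin.cons_zero, Nat.choose_self, Nat.cast_one,
      mul_one, one_mul] at h
    convert h using 2
    ext r s
    simp [Matrix.submatrix_apply, Fin.succAbove_zero]
  · intro j _ hj
    have : (j : ℕ) ≠ 0 := fun h0 => hj (Fin.ext h0)
    obtain ⟨m, hm⟩ := Nat.exists_eq_succ_of_ne_zero this
    simp [Matrix.of_apply, hm]
  · intro h0; exact absurd (Finset.mem_univ _) h0

theorem natCast_injective_of_lt (p : ℕ) [CharP k p] {ι : Type*} (v : ι → ℕ)
    (hvinj : Function.Injective v) (hp : p = 0 ∨ ∀ i, v i < p) :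
    Function.Injective (fun i => (v i : k)) := by
  intro i i' h
  apply hvinj
  rcases hp with hp | hp
  · subst hp
    have : CharZero k := CharP.charP_to_charZero k
    exact Nat.cast_injective h
  · exact CharP.natCast_injOn_Iio k p (hp i) (hp i') h

end Groth.Agent.Helper5.BinomDet
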