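import Mathlib
import Groth.Agent.Helper5.DimFormula8
import Groth.Agent.Helper5.KLem7
import Groth.Agent.Helper5.GenDim2
import Groth.Agent.Helper5.FibBound
import Groth.Agent.Helper5.Codim0B

/-!
# Quasi-finiteness over points of codimension at most one: the scheme-level lemma
-/

set_option autoImplicit false
universe u

namespace Groth.Agent.Helper5.CodimOneQf

open CategoryTheory CategoryTheory.Limits AlgebraicGeometry Opposite TopologicalSpace
open Groth.Agent.Helper5.Codim0B

theorem closure_mem_irreducibleComponents_of_isMaxPt {T : Type*} [TopologicalSpace T]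
    [QuasiSober T] (ξ : T) (hξ : ∀ w : T, w ⤳ ξ → w = ξ) :
    closure ({ξ} : Set T) ∈ irreducibleComponents T := by
  have hZ := irreducibleComponent_mem_irreducibleComponents ξ
  obtain ⟨η, hη⟩ := QuasiSober.sober (isIrreducible_irreducibleComponent (x := ξ))
    (isClosed_irreducibleComponent (x := ξ))
  have h1 : η ⤳ ξ := hη.specializes mem_irreducibleComponent
  have h2 := hξ η h1
  subst h2
  rw [hη.def]
  exact hZ

/-- a morphism locally of finite type to a locally Noetherian scheme which has residue
transcendence degree zero at the generic points of the source lying over generizations of a point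
`v` of codimension at most one is quasi-finite at all points over `v` -/
theorem fibreDimAt_eq_zero_of_codim_le_one {U V : Scheme.{u}} [IsLocallyNoetherian V] (h : U ⟶ V)
    [LocallyOfFiniteType h] (v : V) (hv : ringKrullDim ↥(V.presheaf.stalk v) ≤ 1)
    (hgen : ∀ ξ : U, closure ({ξ} : Set U) ∈ irreducibleComponents U → h ξ ⤳ v →
      Dual3.resTrdeg h ξ = 0) (u : U) (hu : h u = v) : FlatMor.fibreDimAt h u = 0 := by
  -- all points of the fibre have residue transcendence degree zero
  have key : ∀ u' : U, h u' = v → Dual3.resTrdeg h u' = 0 := by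
    intro u' hu'
    obtain ⟨ξ, a, c, hcomp, hsp, ha, hc, hineq⟩ :=
      Groth.Agent.Helper5.DimFormula.scheme_dimension_inequality h u'
    have hξv : h ξ ⤳ v := by
      rw [← hu']
      exact hsp.map h.continuous
    have hξ0 : Dual3.resTrdeg h ξ = 0 := hgen ξ hcomp hξv
    change (a : Cardinal.{u}) + Dual3.resTrdeg h u' ≤ (c : Cardinal.{u}) + Dual3.resTrdeg h ξ
      at hineq
    rw [hξ0, add_zero] at hineq
    have hc1 : c ≤ 1 := by
      rw [hu'] at hc
      rw [hc] at hv
      exact_mod_cast hv
    by_cases ha0 : a = 0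
    · -- `u'` is a maximal point
      have hmax : IsMaxPt u' := (stalk_dim_zero_iff U u').1 (by rw [ha, ha0]; rfl)
      exact hgen u' (closure_mem_irreducibleComponents_of_isMaxPt u' hmax)
        (by rw [hu'])
    · have ha1 : 1 ≤ a := Nat.one_le_iff_ne_zero.2 ha0
      have h1 : (a : Cardinal.{u}) + Dual3.resTrdeg h u' ≤ 1 :=
        hineq.trans (by exact_mod_cast hc1)
      have h2 : (1 : Cardinal.{u}) + Dual3.resTrdeg h u' ≤ 1 :=
        (add_le_add_left (by exact_mod_cast ha1) _).trans h1
      by_contra hne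
      have h3 : (1 : Cardinal.{u}) ≤ Dual3.resTrdeg h u' := Cardinal.one_le_iff_ne_zero.2 hne
      have h4 : (1 : Cardinal.{u}) + 1 ≤ 1 := (add_le_add_right h3 _).trans h2
      have h5 : ((2 : ℕ) : Cardinal.{u}) ≤ ((1 : ℕ) : Cardinal.{u}) := by
        have : ((2 : ℕ) : Cardinal.{u}) = 1 + 1 := by norm_num
        rw [this]
        exact_mod_cast h4
      have h6 : (2 : ℕ) ≤ 1 := by exact_mod_cast h5
      omega
  -- hence the fibre is zero-dimensional
  have h1 : topologicalKrullDim ↥(h ⁻¹' {v} ∩ Set.univ) ≤ 0 :=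
    Groth.Agent.Helper5.GenDim.dim_fibre_inter_closed_le h v Set.univ isClosed_univ 0
      (fun ζ hζ n hn => by
        have h2 := key ζ hζ.1
        rw [hn] at h2
        have : n = 0 := by exact_mod_cast h2
        rw [this]
        rfl)
  rw [Set.inter_univ] at h1
  have h2 := Groth.Agent.Helper5.KLem.fibreDimAt_le_dim h u
  rw [hu] at h2
  obtain ⟨m, hm⟩ := Groth.Agent.Helper5.SubDim.fibreDimAt_nat h u
  have h3 : FlatMor.fibreDimAt h u ≤ 0 := h2.trans h1
  rw [hm] at h3 ⊢
  have : m = 0 := by
    have : (m : WithBot ℕ∞) ≤ ((0 : ℕ) : WithBot ℕ∞) := h3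
    have h4 : m ≤ 0 := by exact_mod_cast this
    omega
  rw [this]
  rfl

end Groth.Agent.Helper5.CodimOneQf
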