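import Mathlib
import Groth.Agent.Helper5.CodimOneQf1
import Groth.Agent.Helper5.RF4
import Groth.Agent.Helper5.ResTr
import Groth.Agent.Helper5.LscDim5

set_option autoImplicit false
universe u
open CategoryTheory CategoryTheory.Limits AlgebraicGeometry TopologicalSpace

namespace Groth.Agent.Helper5.BirFib

open Groth.Agent.Helper5.ResTr

/-- A dense open subset of a locally Noetherian scheme contains all maximal points. -/
theorem mem_of_dense_of_isMax {Y : Scheme.{u}} [IsLocallyNoetherian Y] (ξ : Y)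
    (hξ : ∀ w : Y, w ⤳ ξ → w = ξ) (V : Y.Opens) (hV : Dense (V : Set Y)) : ξ ∈ V := by
  obtain ⟨W, hW, hξW⟩ : ∃ W : Y.Opens, IsAffineOpen W ∧ ξ ∈ W := by
    obtain ⟨_, ⟨W, hW, rfl⟩, hxW, -⟩ :=
      (Y.isBasis_affineOpens).exists_subset_of_mem_open (Set.mem_univ ξ) isOpen_univ
    exact ⟨W, hW, hxW⟩
  haveI : IsNoetherianRing Γ(Y, W) := IsLocallyNoetherian.component_noetherian ⟨W, hW⟩
  haveI : NoetherianSpace ↥W := noetherianSpace_of_isAffineOpen W hW
  haveI : QuasiSober ↥W := W.isOpenEmbedding'.quasiSober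
  let ξ' : ↥W := ⟨ξ, hξW⟩
  have hmax' : ∀ w : ↥W, w ⤳ ξ' → w = ξ' := fun w hw =>
    Subtype.ext (hξ w.1 (hw.map continuous_subtype_val))
  have hcomp := Groth.Agent.Helper5.CodimOneQf.closure_mem_irreducibleComponents_of_isMaxPt ξ' hmax'
  have hd : Dense (Subtype.val ⁻¹' (V : Set Y) : Set ↥W) :=
    hV.preimage W.isOpen.isOpenMap_subtype_val
  have := Groth.Agent.Helper5.RF4.generic_mem_of_dense hcomp ξ' isGenericPoint_closure _
    (V.isOpen.preimage continuous_subtype_val) hd
  exact this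

end Groth.Agent.Helper5.BirFib
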