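import Mathlib
import Groth.Agent.Helper5.BirFib1

set_option autoImplicit false
universe u
open CategoryTheory CategoryTheory.Limits AlgebraicGeometry TopologicalSpace

namespace Groth.Agent.Helper5.BirFib

open Groth.Agent.Helper5.ResTr

theorem resTrdeg_eq_zero_of_iso_over {X Y : Scheme.{u}} (f : Y ⟶ X) (U : X.Opens)
    (hiso : IsIso (f ∣_ U)) (ξ : Y) (hξ : ξ ∈ f ⁻¹ᵁ U) : Dual3.resTrdeg f ξ = 0 := by
  let ξ' : ↥(f ⁻¹ᵁ U) := ⟨ξ, hξ⟩
  have e1 := resTrdeg_comp (f ⁻¹ᵁ U).ι f ξ'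
  have e2 := resTrdeg_comp (f ∣_ U) U.ι ξ'
  rw [morphismRestrict_ι] at e2
  rw [e1, resTrdeg_eq_zero_of_etale (f ⁻¹ᵁ U).ι ξ', add_zero, resTrdeg_eq_zero_of_etale U.ι,
    resTrdeg_eq_zero_of_etale (f ∣_ U) ξ', add_zero] at e2
  exact e2

set_option maxHeartbeats 1000000 in
theorem s13532 {X Y : Scheme.{u}}
    [IsLocallyNoetherian X] [IsLocallyNoetherian Y] (f : Y ⟶ X) [LocallyOfFiniteType f] [QuasiCompact f]
    (U : X.Opens) (hU : Dense (U : Set X)) (hU' : Dense ((f ⁻¹ᵁ U : Y.Opens) : Set Y)) (hiso : IsIso (f ∣_ U))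
    (x : X) (hx : ringKrullDim (X.presheaf.stalk x) ≤ 1) :
    (f ⁻¹' {x}).Finite := by
  have hgen : ∀ ξ : Y, closure ({ξ} : Set Y) ∈ irreducibleComponents Y → f ξ ⤳ x →
      Dual3.resTrdeg f ξ = 0 := by
    intro ξ hξ _
    have hmax : ∀ w : Y, w ⤳ ξ → w = ξ := fun w hw =>
      Groth.Agent.Helper5.EqAt.max_of_closure_mem_irreducibleComponents ξ hξ w hw
    exact resTrdeg_eq_zero_of_iso_over f U hiso ξ (mem_of_dense_of_isMax ξ hmax _ hU')
  have hfd : ∀ y : Y, f y = x → FlatMor.fibreDimAt f y = 0 := fun y hy =>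
    Groth.Agent.Helper5.CodimOneQf.fibreDimAt_eq_zero_of_codim_le_one f x hx hgen y hy
  have hdim : topologicalKrullDim ↥(f.fiber x) ≤ 0 := by
    rw [Groth.Agent.Helper5.LscDim.dim_fiber_eq_dim_preimage,
      Groth.Agent.Helper5.LscDim.dim_preimage_eq_iSup]
    apply iSup_le
    intro y
    rw [hfd y.1 y.2]
  haveI : LocallyOfFiniteType (f.fiberToSpecResidueField x) :=
    inferInstanceAs (LocallyOfFiniteType (Limits.pullback.snd f (X.fromSpecResidueField x)))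
  haveI : IsLocallyNoetherian (f.fiber x) :=
    LocallyOfFiniteType.isLocallyNoetherian (f.fiberToSpecResidueField x)
  haveI : IsLocallyArtinian (f.fiber x) := IsLocallyArtinian.of_topologicalKrullDim_le_zero hdim
  haveI : IsArtinianScheme (f.fiber x) := {}
  haveI : Finite ↥(f.fiber x) := inferInstance
  exact Set.finite_coe_iff.1 (Finite.of_equiv _ (f.fiberHomeo x).toEquiv)

end Groth.Agent.Helper5.BirFib
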