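import Mathlib
import Groth.Agent.S1681
import Groth.Agent.S8851
import Groth.Agent.Helper5.BirBC
import Groth.Prelude

set_option autoImplicit false
set_option linter.unusedSectionVars false
set_option linter.style.haveILetI false
universe u

open AlgebraicGeometry CategoryTheory Limits

namespace Groth.Agent.Helper5.BlowInt

open Groth.Agent.Helper5.BirBC

theorem generic_not_mem_support {Y : Scheme.{u}} [IsIntegral Y] (I : Y.IdealSheafData)
    (hI : I ≠ ⊥) : genericPoint Y ∉ I.support := by
  intro h
  apply hI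
  rw [← Scheme.IdealSheafData.support_eq_top_iff]
  apply top_le_iff.1
  intro y _
  have h1 : closure {genericPoint Y} ⊆ (I.support : Set Y) :=
    I.support.isClosed.closure_subset_iff.2 (Set.singleton_subset_iff.2 h)
  rw [genericPoint_closure] at h1
  exact h1 (Set.mem_univ y)

theorem bijective_residueFieldMap_of_isIso_restrict {X Y : Scheme.{u}} (b : X ⟶ Y) (U : Y.Opens)
    [IsIso (b ∣_ U)] (x : X) (hx : b x ∈ U) :
    Function.Bijective (b.residueFieldMap x).hom := by
  let x' : ↥(b ⁻¹ᵁ U) := ⟨x, hx⟩
  have key : ∀ z : X, z = (b ⁻¹ᵁ U).ι x' → Function.Bijective (b.residueFieldMap z).hom := by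
    rintro z rfl
    have h1 := Scheme.Hom.residueFieldMap_congr (morphismRestrict_ι b U) x'
    rw [Scheme.residueFieldMap_comp, Scheme.residueFieldMap_comp] at h1
    have hA : IsIso (U.ι.residueFieldMap ((b ∣_ U) x') ≫ (b ∣_ U).residueFieldMap x') :=
      inferInstance
    rw [h1] at hA
    have h2 : IsIso (b.residueFieldMap ((b ⁻¹ᵁ U).ι x') ≫ (b ⁻¹ᵁ U).ι.residueFieldMap x') :=
      @IsIso.of_isIso_comp_left _ _ _ _ _ _ _ inferInstance hA
    have h4 : IsIso (b.residueFieldMap ((b ⁻¹ᵁ U).ι x')) :=
      IsIso.of_isIso_comp_right _ ((b ⁻¹ᵁ U).ι.residueFieldMap x')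
    exact ConcreteCategory.bijective_of_isIso (b.residueFieldMap ((b ⁻¹ᵁ U).ι x'))
  exact key x rfl

theorem main {X Y : Scheme.{u}} [IsIntegral Y] (I : Y.IdealSheafData) (hI : I ≠ ⊥)
    (b : X ⟶ Y) (hb : BlowUp.IsBlowUp b I) :
    ∃ (_ : IsIntegral X), ∃ hgen : b.base (genericPoint X) = genericPoint Y,
      Function.Bijective (b.residueFieldMap (genericPoint X)).hom := by
  have hbij := Groth.Agent.S1681.result I b hb
  have hηmax : ∀ y : Y, y ⤳ genericPoint Y → y = genericPoint Y := fun y hy =>
    (hy.antisymm (genericPoint_specializes y)).eq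
  have hη : genericPoint Y ∈ {x : ↥Y | (∀ y : ↥Y, y ⤳ x → y = x) ∧ x ∉ I.support} :=
    ⟨hηmax, generic_not_mem_support I hI⟩
  obtain ⟨ξ, hξ, hξη'⟩ := hbij.surjOn hη
  have hξη : b ξ = genericPoint Y := hξη'
  have huniq : ∀ z : X, (∀ y : X, y ⤳ z → y = z) → z = ξ := by
    intro z hz
    apply hbij.injOn hz hξ
    show b z = b ξ
    rw [hξη]
    have := (hbij.mapsTo hz).1
    exact (this _ (genericPoint_specializes _)).symm
  have hgp : genericPoints X ⊆ {ξ} := by
    intro z hz
    exact huniq z ((mem_genericPoints_iff z).1 hz)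
  have hcl : closure ({ξ} : Set X) = Set.univ := by
    apply Set.eq_univ_of_univ_subset
    rw [← genericPoints.closure (α := X)]
    exact closure_mono hgp
  haveI : IrreducibleSpace X := by
    rw [irreducibleSpace_def]
    show IsIrreducible (Set.univ : Set X)
    rw [← hcl]
    exact isIrreducible_singleton.closure
  haveI : IsReduced X := Groth.Agent.S8851.result I b hb
  haveI hint : IsIntegral X := isIntegral_of_irreducibleSpace_of_isReduced X
  have hgen : genericPoint X = ξ := by
    apply huniq
    intro y hy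
    exact (hy.antisymm (genericPoint_specializes y)).eq
  refine ⟨hint, ?_, ?_⟩
  · rw [hgen]; exact hξη
  · haveI : IsIso (b ∣_ I.support.compl) := Groth.Agent.S1682.result I b hb
    apply bijective_residueFieldMap_of_isIso_restrict b I.support.compl
    rw [hgen]
    show b ξ ∈ I.support.compl
    have : b ξ = genericPoint Y := hξη
    rw [this]
    exact generic_not_mem_support I hI

end Groth.Agent.Helper5.BlowInt
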