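import Mathlib

set_option autoImplicit false
set_option linter.unusedSectionVars false
set_option linter.style.haveILetI false
universe u v

namespace Groth.Agent.Helper5.ENatSigma

theorem hasSum_iSup {ι : Type u} (f : ι → ℕ∞) :
    HasSum f (⨆ s : Finset ι, ∑ i ∈ s, f i) :=
  hasSum_of_isLUB _ (isLUB_iSup)

theorem summable {ι : Type u} (f : ι → ℕ∞) : Summable f := (hasSum_iSup f).summable

theorem le_tsum {ι : Type u} (f : ι → ℕ∞) (i : ι) : f i ≤ ∑' j, f j :=
  le_hasSum' (summable f).hasSum i

theorem sum_le_tsum {ι : Type u} (f : ι → ℕ∞) (s : Finset ι) : ∑ i ∈ s, f i ≤ ∑' j, f j :=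
  sum_le_hasSum s (fun _ _ => zero_le) (summable f).hasSum

/-- the cardinality of a sigma type as a sum in `ℕ∞` -/
theorem card_sigma {ι : Type u} (α : ι → Type v) :
    ENat.card (Σ i, α i) = ∑' i, ENat.card (α i) := by
  classical
  by_cases hinf : ∃ i₀, Infinite (α i₀)
  · obtain ⟨i₀, hi₀⟩ := hinf
    haveI : Infinite (Σ i, α i) := Infinite.of_injective (Sigma.mk i₀) sigma_mk_injective
    rw [ENat.card_eq_top_of_infinite]
    symm
    rw [eq_top_iff]
    calc (⊤ : ℕ∞) = ENat.card (α i₀) := (ENat.card_eq_top_of_infinite).symm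
      _ ≤ _ := le_tsum (fun i => ENat.card (α i)) i₀
  · push Not at hinf
    haveI hfin : ∀ i, Finite (α i) := hinf
    by_cases hS : {i | Nonempty (α i)}.Finite
    · -- finite support
      haveI : Fintype {i // Nonempty (α i)} := hS.fintype
      let e : (Σ i, α i) ≃ Σ i : {i // Nonempty (α i)}, α i.1 :=
        { toFun := fun x => ⟨⟨x.1, ⟨x.2⟩⟩, x.2⟩
          invFun := fun x => ⟨x.1.1, x.2⟩
          left_inv := fun x => rfl
          right_inv := fun x => rfl }
      haveI : Finite (Σ i : {i // Nonempty (α i)}, α i.1) := inferInstance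
      rw [ENat.card_congr e, ENat.card_eq_coe_natCard, Nat.card_sigma]
      have h1 : ∑' i, ENat.card (α i) = ∑ i ∈ hS.toFinset, ENat.card (α i) := by
        apply tsum_eq_sum
        intro i hi
        rw [Set.Finite.mem_toFinset, Set.mem_ofPred_eq, not_nonempty_iff] at hi
        rw [ENat.card_eq_coe_natCard, Nat.card_of_isEmpty]
        rfl
      rw [h1]
      push_cast
      rw [← Finset.sum_coe_sort hS.toFinset]
      refine Finset.sum_bij' (fun i _ => ⟨i.1, by rw [Set.Finite.mem_toFinset]; exact i.2⟩)
        (fun i _ => ⟨i.1, by have := i.2; rwa [Set.Finite.mem_toFinset] at this⟩)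
        (fun _ _ => Finset.mem_univ _) (fun _ _ => Finset.mem_univ _) (fun _ _ => rfl)
        (fun _ _ => rfl) ?_
      intro i _
      exact (ENat.card_eq_coe_natCard _).symm
    · -- infinitely many nonempty
      have hSinf : {i | Nonempty (α i)}.Infinite := hS
      haveI : Infinite {i // Nonempty (α i)} := hSinf.to_subtype
      haveI : Infinite (Σ i, α i) :=
        Infinite.of_injective (fun i : {i // Nonempty (α i)} => (⟨i.1, i.2.some⟩ : Σ i, α i))
          (fun i j h => Subtype.ext (congrArg Sigma.fst h))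
      rw [ENat.card_eq_top_of_infinite]
      symm
      rw [ENat.eq_top_iff_forall_ge]
      intro n
      obtain ⟨s, hs, hcard⟩ := hSinf.exists_subset_card_eq n
      calc (n : ℕ∞) = ∑ i ∈ s, (1 : ℕ∞) := by simp [hcard]
        _ ≤ ∑ i ∈ s, ENat.card (α i) := by
            apply Finset.sum_le_sum
            intro i hi
            have hne : Nonempty (α i) := hs hi
            rw [ENat.one_le_iff_ne_zero]
            intro h0
            rw [ENat.card_eq_zero_iff_empty] at h0
            exact (not_isEmpty_iff.2 hne) h0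
        _ ≤ _ := sum_le_tsum _ s

end Groth.Agent.Helper5.ENatSigma
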