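import Mathlib
import Groth.Prelude.Def_Found
import Groth.Prelude.Def_Pi1
import Groth.Agent.Helper5.NormIso
import Groth.Agent.Helper5.FracSurj

set_option autoImplicit false
set_option linter.unusedSectionVars false
set_option linter.style.haveILetI false
universe u

open AlgebraicGeometry CategoryTheory Opposite

namespace Groth.Agent.Helper5.NormChar

open Groth.Agent.Helper5.NormGen

/-- abstract form: `ν' = d ≫ f`, sections of the source of `ν'` over `U` are fractions of sections
of `X` -/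
theorem app_surjective_of_factor {X' Y X : Scheme.{u}} (d : X' ⟶ Y) (f : Y ⟶ X) (ν' : X' ⟶ X)
    (hν : ν' = d ≫ f) (U : X.Opens)
    [IsDomain Γ(Y, f ⁻¹ᵁ U)] [IsIntegrallyClosed Γ(Y, f ⁻¹ᵁ U)] (hdom : IsDomain Γ(X', ν' ⁻¹ᵁ U))
    (hinj : Function.Injective (d.app (f ⁻¹ᵁ U)).hom)
    (hνinj : Function.Injective (ν'.app U).hom)
    (hint : (ν'.app U).hom.IsIntegral)
    (hfrac : ∀ b : Γ(X', ν' ⁻¹ᵁ U), ∃ a a₁ : Γ(X, U), a ≠ 0 ∧
      (ν'.app U).hom a * b = (ν'.app U).hom a₁) :
    Function.Surjective (d.app (f ⁻¹ᵁ U)).hom := by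
  subst hν
  haveI : IsDomain Γ(X', d ⁻¹ᵁ f ⁻¹ᵁ U) := hdom
  apply Groth.Agent.Helper5.FracSurj.surjective_of_fraction _ hinj
  · intro b
    obtain ⟨p, hp, hpb⟩ := hint b
    refine ⟨p.map (f.app U).hom, hp.map _, ?_⟩
    rw [Polynomial.eval₂_map]
    exact hpb
  · intro b
    obtain ⟨a, a₁, ha, hb⟩ := hfrac b
    refine ⟨(f.app U).hom a, (f.app U).hom a₁, ?_, hb⟩
    intro h0
    apply ha
    apply hνinj
    rw [map_zero]
    show (d.app (f ⁻¹ᵁ U)).hom ((f.app U).hom a) = 0
    rw [h0, map_zero]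

variable {X : Scheme.{u}} [IsIntegral X] (K : Type u) [Field K] (φ : X.functionField →+* K)
  [QuasiCompact (gen K φ)] [QuasiSeparated (gen K φ)]

/-- sections of the normalization over the preimage of an affine open are fractions -/
theorem sections_fraction (hbij : Function.Bijective φ) (U : X.Opens) (hU : IsAffineOpen U)
    (hne : Nonempty U)
    (b : Γ((gen K φ).normalization, (gen K φ).fromNormalization ⁻¹ᵁ U)) :
    ∃ a a₁ : Γ(X, U), a ≠ 0 ∧ ((gen K φ).fromNormalization.app U).hom a * b =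
      ((gen K φ).fromNormalization.app U).hom a₁ := by
  haveI : IsDomain Γ(X, U) := @IsIntegral.component_integral X _ U hne
  letI algK : Algebra Γ(X, U) K := (φ.comp (X.germToFunctionField U).hom).toAlgebra
  letI : Algebra X.functionField K := φ.toAlgebra
  haveI : IsScalarTower Γ(X, U) X.functionField K :=
    IsScalarTower.of_algebraMap_eq (fun x => rfl)
  haveI : IsFractionRing Γ(X, U) X.functionField :=
    functionField_isFractionRing_of_isAffineOpen X U hU
  haveI : IsFractionRing Γ(X, U) K :=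
    IsLocalization.isLocalization_of_algEquiv (nonZeroDivisors Γ(X, U))
      (AlgEquiv.ofBijective (IsScalarTower.toAlgHom Γ(X, U) X.functionField K) hbij)
  obtain ⟨E, hE⟩ := Groth.Agent.Helper5.NormFF.exists_secEquiv K φ U hU hne
  obtain ⟨⟨a₁, a⟩, ha⟩ := IsLocalization.surj (nonZeroDivisors Γ(X, U)) ((E b : K))
  refine ⟨a, a₁, nonZeroDivisors.ne_zero a.2, ?_⟩
  apply E.injective
  rw [map_mul, hE, hE]
  apply Subtype.ext
  show algebraMap Γ(X, U) K a * (E b : K) = algebraMap Γ(X, U) K a₁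
  rw [mul_comm]
  exact ha

/-- an integral `Y → X` with `Y` normal integral through which the normalization factors by a
dominant morphism is the normalization -/
theorem isIso_of_factor (hφ : φ.Finite) (hbij : Function.Bijective φ) {Y : Scheme.{u}}
    [IsIntegral Y] (hY : Pi1.IsNormalScheme Y)
    (d : (gen K φ).normalization ⟶ Y) (f : Y ⟶ X) [IsAffineHom f]
    (H : d ≫ f = (gen K φ).fromNormalization) [IsDominant d] [QuasiCompact d] : IsIso d := by
  haveI : IsSchemeTheoreticallyDominant d := IsSchemeTheoreticallyDominant.of_isDominant d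
  have hcover : (⨆ U : X.affineOpens, f ⁻¹ᵁ U.1) = ⊤ := by
    have h1 := iSup_affineOpens_eq_top X
    have h2 := congrArg (fun V : X.Opens => f ⁻¹ᵁ V) h1
    simp only [Scheme.Hom.preimage_iSup, Scheme.Hom.preimage_top] at h2
    exact h2
  refine (IsZariskiLocalAtTarget.iff_of_iSup_eq_top
    (P := MorphismProperty.isomorphisms Scheme) _ hcover).2 ?_
  rintro ⟨U, hU⟩
  show IsIso (d ∣_ (f ⁻¹ᵁ U))
  have hW : IsAffineOpen (f ⁻¹ᵁ U) := hU.preimage f
  have hV : IsAffineOpen (d ⁻¹ᵁ (f ⁻¹ᵁ U)) := by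
    have : d ⁻¹ᵁ (f ⁻¹ᵁ U) = (gen K φ).fromNormalization ⁻¹ᵁ U := by
      rw [← H]; rfl
    rw [this]
    exact hU.preimage _
  apply Groth.Agent.Helper5.NormIso.isIso_morphismRestrict d _ hW hV
  refine ⟨d.app_injective _, ?_⟩
  by_cases hne : Nonempty U
  · obtain ⟨hdom, -, hinj⟩ := Groth.Agent.Helper5.NormCurve.sections_props K φ hφ U hU hne
    have hneW : Nonempty (f ⁻¹ᵁ U) := by
      by_contra hcon
      have hbot : f ⁻¹ᵁ U = ⊥ := by
        ext y
        simp only [SetLike.mem_coe]
        constructor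
        · intro hy
          exact (hcon ⟨⟨y, hy⟩⟩).elim
        · intro hy
          exact hy.elim
      obtain ⟨x', hx'⟩ := Groth.Agent.Helper5.NormInt.fromNormalization_surjective K φ hne.some.1
      have h1 : d x' ∈ f ⁻¹ᵁ U := by
        show f (d x') ∈ U
        rw [← Scheme.Hom.comp_apply, H, hx']
        exact hne.some.2
      rw [hbot] at h1
      exact h1
    haveI : IsDomain Γ(Y, f ⁻¹ᵁ U) := @IsIntegral.component_integral Y _ (f ⁻¹ᵁ U) hneW
    haveI : IsIntegrallyClosed Γ(Y, f ⁻¹ᵁ U) :=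
      Groth.Agent.Helper5.NormKA.isIntegrallyClosed_of_stalks _ hW (fun y _ => (hY y).2)
    exact app_surjective_of_factor d f (gen K φ).fromNormalization H.symm U hdom
      (d.app_injective _)
      hinj (IsIntegralHom.isIntegral_app (gen K φ).fromNormalization U hU)
      (sections_fraction K φ hbij U hU hne)
  · have hU0 : U = ⊥ := by
      ext x
      simp only [SetLike.mem_coe]
      constructor
      · intro hx
        exact (hne ⟨⟨x, hx⟩⟩).elim
      · intro hx
        exact hx.elim
    subst hU0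
    haveI : Subsingleton Γ((gen K φ).normalization, d ⁻¹ᵁ (f ⁻¹ᵁ ⊥)) :=
      inferInstanceAs (Subsingleton Γ((gen K φ).normalization, ⊥))
    intro b
    exact ⟨0, Subsingleton.elim _ _⟩

end Groth.Agent.Helper5.NormChar
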