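import Mathlib
import Groth.Prelude.Def_Found
import Groth.Prelude.Def_Pi1
import Groth.Agent.Helper5.NormChar

set_option autoImplicit false
set_option linter.unusedSectionVars false
set_option linter.style.haveILetI false
universe u

open AlgebraicGeometry CategoryTheory Opposite

namespace Groth.Agent.Helper5.NormChar

open Groth.Agent.Helper5.NormGen

variable {X : Scheme.{u}} [IsIntegral X] (K : Type u) [Field K] (φ : X.functionField →+* K)
  [QuasiCompact (gen K φ)] [QuasiSeparated (gen K φ)]

/-- only the generic point lies over the generic point -/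
theorem fibre_genericPoint :
    (gen K φ).fromNormalization.base ⁻¹' {genericPoint X} =
      {genericPoint (gen K φ).normalization} := by
  ext x'
  simp only [Set.mem_preimage, Set.mem_singleton_iff]
  constructor
  · intro hx'
    obtain ⟨_, ⟨U, hU, rfl⟩, hxU, -⟩ := X.isBasis_affineOpens.exists_subset_of_mem_open
      (Set.mem_univ ((gen K φ).fromNormalization x')) isOpen_univ
    have hne : Nonempty U := ⟨⟨_, hxU⟩⟩
    have hV : IsAffineOpen ((gen K φ).fromNormalization ⁻¹ᵁ U) := hU.preimage _
    have hx'V : x' ∈ (gen K φ).fromNormalization ⁻¹ᵁ U := hxU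
    apply Groth.Agent.Helper5.NormKA.eq_genericPoint_of_primeIdealOf_eq_bot hV x' hx'V
    letI := ((gen K φ).fromNormalization.app U).hom.toAlgebra
    haveI : IsDomain Γ(X, U) := @IsIntegral.component_integral X _ U hne
    haveI : Nonempty ((gen K φ).fromNormalization ⁻¹ᵁ U) := ⟨⟨x', hx'V⟩⟩
    haveI : IsDomain Γ((gen K φ).normalization, (gen K φ).fromNormalization ⁻¹ᵁ U) :=
      IsIntegral.component_integral _
    haveI : Algebra.IsIntegral Γ(X, U)
        Γ((gen K φ).normalization, (gen K φ).fromNormalization ⁻¹ᵁ U) :=
      ⟨IsIntegralHom.isIntegral_app (gen K φ).fromNormalization U hU⟩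
    have hcomap := Groth.Agent.Helper5.NormCurve.primeIdealOf_comap (gen K φ).fromNormalization hU
      hV le_rfl x' hx'V
    rw [Scheme.Hom.appLE_eq_app] at hcomap
    have hp : (hU.primeIdealOf ⟨(gen K φ).fromNormalization x', hxU⟩).asIdeal = ⊥ := by
      have h1 : (⟨(gen K φ).fromNormalization x', hxU⟩ : U) =
          ⟨genericPoint X, genericPoint_mem U hne⟩ := Subtype.ext hx'
      rw [h1, hU.primeIdealOf_genericPoint, genericPoint_eq_bot_of_affine]
      rfl
    have h1 : (hV.primeIdealOf ⟨x', hx'V⟩).asIdeal.comap (algebraMap Γ(X, U) _) = ⊥ := by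
      rw [← hp, ← hcomap]; rfl
    exact Ideal.eq_bot_of_comap_eq_bot h1
  · rintro rfl
    exact Groth.Agent.Helper5.NormInt.fromNormalization_genericPoint K φ

/-- the stalk map at the generic point is an isomorphism -/
theorem isIso_stalkMap_genericPoint (hφ : φ.Finite) (hbij : Function.Bijective φ) :
    IsIso ((gen K φ).fromNormalization.stalkMap (genericPoint (gen K φ).normalization)) := by
  rw [ConcreteCategory.isIso_iff_bijective]
  obtain ⟨e, he⟩ := Groth.Agent.Helper5.NormInt.exists_equiv_stalkMap K φ hφ
  have h : genericPoint X ⤳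
      (gen K φ).fromNormalization (genericPoint (gen K φ).normalization) :=
    (genericPoint_spec X).specializes (Set.mem_univ _)
  have h' : (gen K φ).fromNormalization (genericPoint (gen K φ).normalization) ⤳
      genericPoint X := by
    rw [Groth.Agent.Helper5.NormInt.fromNormalization_genericPoint]
  have hsp : Function.Bijective (X.presheaf.stalkSpecializes h).hom := by
    haveI : IsIso (X.presheaf.stalkSpecializes h) := by
      refine ⟨X.presheaf.stalkSpecializes h', ?_, ?_⟩
      · rw [TopCat.Presheaf.stalkSpecializes_comp]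
        exact TopCat.Presheaf.stalkSpecializes_refl _ _
      · rw [TopCat.Presheaf.stalkSpecializes_comp]
        exact TopCat.Presheaf.stalkSpecializes_refl _ _
    exact ConcreteCategory.bijective_of_isIso _
  have hcomp : Function.Bijective (fun r => e (((gen K φ).fromNormalization.stalkMap
      (genericPoint (gen K φ).normalization)).hom r)) := by
    have : (fun r => e (((gen K φ).fromNormalization.stalkMap
        (genericPoint (gen K φ).normalization)).hom r)) =
        fun r => φ ((X.presheaf.stalkSpecializes h).hom r) := funext (he h)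
    rw [this]
    exact hbij.comp hsp
  exact (Function.Bijective.of_comp_iff' e.bijective _).1 hcomp

/-- properties of a scheme isomorphic to the normalization over `X` -/
theorem props_of_iso (hφ : φ.Finite) (hbij : Function.Bijective φ) {Y : Scheme.{u}}
    (e : Y ≅ (gen K φ).normalization) :
    Pi1.IsNormalScheme Y ∧ IsIntegralHom (e.hom ≫ (gen K φ).fromNormalization) ∧
      ∃ _ : IrreducibleSpace Y,
        (e.hom ≫ (gen K φ).fromNormalization).base ⁻¹' {genericPoint X} = {genericPoint Y} ∧
        IsIso ((e.hom ≫ (gen K φ).fromNormalization).stalkMap (genericPoint Y)) := by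
  have hirr : IrreducibleSpace Y :=
    (e.inv.homeomorph).surjective.irreducibleSpace (e.inv.homeomorph).continuous
  refine ⟨?_, inferInstance, hirr, ?_, ?_⟩
  · intro y
    have hN := Groth.Agent.Helper5.NormCurve.isNormalScheme K φ hφ (e.hom y)
    let E : (gen K φ).normalization.presheaf.stalk (e.hom y) ≃+* Y.presheaf.stalk y :=
      (asIso (e.hom.stalkMap y)).commRingCatIsoToRingEquiv
    haveI := hN.1
    haveI := hN.2
    haveI : IsDomain (Y.presheaf.stalk y) := E.toMulEquiv.isDomain_iff.1 inferInstance
    exact ⟨inferInstance, IsIntegrallyClosed.of_equiv E⟩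
  · have hgen : e.hom (genericPoint Y) = genericPoint (gen K φ).normalization :=
      genericPoint_eq_of_isOpenImmersion e.hom
    ext y
    simp only [Set.mem_preimage, Set.mem_singleton_iff]
    have h1 : (e.hom ≫ (gen K φ).fromNormalization) y = genericPoint X ↔
        e.hom y ∈ (gen K φ).fromNormalization.base ⁻¹' {genericPoint X} := Iff.rfl
    show (e.hom ≫ (gen K φ).fromNormalization) y = genericPoint X ↔ _
    rw [h1, fibre_genericPoint, Set.mem_singleton_iff, ← hgen]
    exact (e.hom.homeomorph).injective.eq_iff
  · have hgen : e.hom (genericPoint Y) = genericPoint (gen K φ).normalization :=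
      genericPoint_eq_of_isOpenImmersion e.hom
    rw [Scheme.Hom.stalkMap_comp]
    have h2 : ∀ x' : (gen K φ).normalization, x' = genericPoint (gen K φ).normalization →
        IsIso ((gen K φ).fromNormalization.stalkMap x') := by
      rintro x' rfl
      exact isIso_stalkMap_genericPoint K φ hφ hbij
    have h3 := h2 _ hgen
    have h4 : IsIso (e.hom.stalkMap (genericPoint Y)) := inferInstance
    exact IsIso.comp_isIso' h3 h4

/-- the converse: a normal integral scheme, integral and birational over `X`, is the
normalization -/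
theorem exists_iso_of_birational (hφ : φ.Finite) (hbij : Function.Bijective φ) {Y : Scheme.{u}}
    (f : Y ⟶ X) (hY : Pi1.IsNormalScheme Y) [IsIntegralHom f] [IrreducibleSpace Y]
    (hfib : f.base ⁻¹' {genericPoint X} = {genericPoint Y})
    (hiso : IsIso (f.stalkMap (genericPoint Y))) :
    ∃ e : Y ≅ (gen K φ).normalization, e.hom ≫ (gen K φ).fromNormalization = f := by
  haveI : ∀ y : Y, _root_.IsReduced (Y.presheaf.stalk y) := fun y => by
    haveI := (hY y).1
    infer_instance
  haveI : IsReduced Y := isReduced_of_isReduced_stalk Y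
  haveI : IsIntegral Y := isIntegral_of_irreducibleSpace_of_isReduced Y
  have hfξ : f (genericPoint Y) = genericPoint X := by
    have : genericPoint Y ∈ f.base ⁻¹' {genericPoint X} := by
      rw [hfib]; exact Set.mem_singleton _
    exact this
  have hsp : genericPoint X ⤳ f (genericPoint Y) := by rw [hfξ]
  let ψ : Y.presheaf.stalk (genericPoint Y) ⟶ X.presheaf.stalk (genericPoint X) :=
    inv (f.stalkMap (genericPoint Y)) ≫ X.presheaf.stalkSpecializes hsp
  let s : Spec (CommRingCat.of K) ⟶ Y :=
    Spec.map (CommRingCat.ofHom φ) ≫ Spec.map ψ ≫ Y.fromSpecStalk (genericPoint Y)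
  have hs : gen K φ = s ≫ f := by
    show Spec.map (CommRingCat.ofHom φ) ≫ X.fromSpecStalk (genericPoint X) =
      (Spec.map (CommRingCat.ofHom φ) ≫ Spec.map ψ ≫ Y.fromSpecStalk (genericPoint Y)) ≫ f
    rw [Category.assoc, Category.assoc]
    congr 1
    rw [← Scheme.SpecMap_stalkMap_fromSpecStalk, ← Spec.map_comp_assoc]
    have : f.stalkMap (genericPoint Y) ≫ ψ = X.presheaf.stalkSpecializes hsp := by
      show f.stalkMap (genericPoint Y) ≫ inv (f.stalkMap (genericPoint Y)) ≫ _ = _
      rw [IsIso.hom_inv_id_assoc]
    rw [this, Scheme.SpecMap_stalkSpecializes_fromSpecStalk]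
  let d : (gen K φ).normalization ⟶ Y := (gen K φ).normalizationDesc s f hs
  have hd : d ≫ f = (gen K φ).fromNormalization := (gen K φ).normalizationDesc_comp s f hs
  haveI : IsIntegralHom d := inferInstance
  have hdξ : d (genericPoint (gen K φ).normalization) = genericPoint Y := by
    have : d (genericPoint (gen K φ).normalization) ∈ f.base ⁻¹' {genericPoint X} := by
      show f (d (genericPoint (gen K φ).normalization)) = genericPoint X
      rw [← Scheme.Hom.comp_apply, hd]
      exact Groth.Agent.Helper5.NormInt.fromNormalization_genericPoint K φ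
    rw [hfib] at this
    exact this
  haveI : IsDominant d := by
    rw [isDominant_iff, DenseRange, dense_iff_closure_eq, ← Set.univ_subset_iff,
      ← (genericPoint_spec Y).def]
    apply closure_mono
    rw [Set.singleton_subset_iff]
    exact ⟨_, hdξ⟩
  haveI : IsIso d := isIso_of_factor K φ hφ hbij hY d f hd
  refine ⟨(asIso d).symm, ?_⟩
  show inv d ≫ (gen K φ).fromNormalization = f
  rw [IsIso.inv_comp_eq]
  exact hd.symm

omit [QuasiCompact (gen K φ)] [QuasiSeparated (gen K φ)] in
theorem s5949_aux (g : Spec (CommRingCat.of K) ⟶ X) (hg : g = gen K φ) [QuasiCompact g]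
    [QuasiSeparated g] (hφ : φ.Finite) (hbij : Function.Bijective φ) {Y : Scheme.{u}}
    (f : Y ⟶ X) :
    (∃ e : Y ≅ g.normalization, e.hom ≫ g.fromNormalization = f) ↔
      Pi1.IsNormalScheme Y ∧ IsIntegralHom f ∧
        ∃ _ : IrreducibleSpace ↥Y, f.base ⁻¹' {genericPoint X} = {genericPoint Y} ∧
          IsIso (f.stalkMap (genericPoint Y)) := by
  subst hg
  constructor
  · rintro ⟨e, rfl⟩
    exact props_of_iso K φ hφ hbij e
  · rintro ⟨hY, hint, hirr, hfib, hiso⟩
    exact exists_iso_of_birational K φ hφ hbij f hY hfib hiso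

end Groth.Agent.Helper5.NormChar
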