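import Mathlib
import Groth.Prelude.Def_Found
import Groth.Prelude.Def_Pi1
import Groth.Agent.Helper5.NormChar2

set_option autoImplicit false
set_option linter.unusedSectionVars false
set_option linter.style.haveILetI false
universe u

open AlgebraicGeometry CategoryTheory Opposite

namespace Groth.Agent.Helper5.NormExt

open Groth.Agent.Helper5.NormGen

/-- the integral closure of a ring in a field is integrally closed -/
theorem isIntegrallyClosed_integralClosure_field (A K : Type u) [CommRing A] [Field K]
    [Algebra A K] : IsIntegrallyClosed (integralClosure A K) := by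
  rw [isIntegrallyClosed_iff (FractionRing (integralClosure A K))]
  intro x hx
  have hinj : Function.Injective (algebraMap (integralClosure A K) K) := Subtype.val_injective
  let ι : FractionRing (integralClosure A K) →ₐ[integralClosure A K] K :=
    IsFractionRing.liftAlgHom (g := Algebra.ofId (integralClosure A K) K) hinj
  have h1 : IsIntegral (integralClosure A K) (ι x) := hx.map ι
  obtain ⟨c, hc⟩ := IsIntegrallyClosedIn.isIntegral_iff.1 h1
  refine ⟨c, ?_⟩
  have h2 : ι (algebraMap _ _ c) = ι x := (ι.commutes c).trans hc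
  exact (ι : FractionRing (integralClosure A K) →+* K).injective h2

variable {X : Scheme.{u}} [IsIntegral X] (K : Type u) [Field K] (φ : X.functionField →+* K)
  [QuasiCompact (gen K φ)] [QuasiSeparated (gen K φ)]

theorem toNormalization_preimage (U : X.Opens) :
    (gen K φ).toNormalization ⁻¹ᵁ ((gen K φ).fromNormalization ⁻¹ᵁ U) = (gen K φ) ⁻¹ᵁ U := by
  rw [← Scheme.Hom.comp_preimage, (gen K φ).toNormalization_fromNormalization]

/-- the embedding of the sections of the normalization into `K` -/
noncomputable def sig (U : X.Opens) (hne : Nonempty U) :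
    Γ((gen K φ).normalization, (gen K φ).fromNormalization ⁻¹ᵁ U) →+* K :=
  (secEquiv K φ U hne : _ →+* K).comp
    ((gen K φ).toNormalization.appLE ((gen K φ).fromNormalization ⁻¹ᵁ U) ((gen K φ) ⁻¹ᵁ U)
      (toNormalization_preimage K φ U).ge).hom

/-- explicit version of `exists_secEquiv` -/
theorem exists_secEquiv' (U : X.Opens) (hU : IsAffineOpen U) (hne : Nonempty U) :
    letI algK : Algebra Γ(X, U) K := (φ.comp (X.germToFunctionField U).hom).toAlgebra
    ∃ E : Γ((gen K φ).normalization, (gen K φ).fromNormalization ⁻¹ᵁ U) ≃+*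
      integralClosure Γ(X, U) K,
      (∀ a : Γ(X, U), E (((gen K φ).fromNormalization.app U).hom a) =
        algebraMap Γ(X, U) (integralClosure Γ(X, U) K) a) ∧
      ∀ b, ((E b : integralClosure Γ(X, U) K) : K) = sig K φ U hne b := by
  letI := ((gen K φ).app U).hom.toAlgebra
  letI algK : Algebra Γ(X, U) K := (φ.comp (X.germToFunctionField U).hom).toAlgebra
  let e : Γ(Spec (CommRingCat.of K), (gen K φ) ⁻¹ᵁ U) ≃ₐ[Γ(X, U)] K :=
    AlgEquiv.ofRingEquiv (f := secEquiv K φ U hne) (fun a => secEquiv_app K φ U hne a)
  let E₁ : Γ((gen K φ).normalization, (gen K φ).fromNormalization ⁻¹ᵁ U) ≃+*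
      integralClosure Γ(X, U) Γ(Spec (CommRingCat.of K), (gen K φ) ⁻¹ᵁ U) :=
    ((gen K φ).normalizationObjIso hU).commRingCatIsoToRingEquiv
  let E₂ : integralClosure Γ(X, U) Γ(Spec (CommRingCat.of K), (gen K φ) ⁻¹ᵁ U) ≃+*
      integralClosure Γ(X, U) K := (e.mapIntegralClosure).toRingEquiv
  refine ⟨E₁.trans E₂, ?_, ?_⟩
  · intro a
    have h1 := (gen K φ).fromNormalization_app hU
    have h2 : E₁ (((gen K φ).fromNormalization.app U).hom a) =
        algebraMap Γ(X, U) (integralClosure Γ(X, U)
          Γ(Spec (CommRingCat.of K), (gen K φ) ⁻¹ᵁ U)) a := by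
      rw [h1]
      show ((gen K φ).normalizationObjIso hU).hom.hom
        (((gen K φ).normalizationObjIso hU).inv.hom _) = _
      rw [← CommRingCat.comp_apply, Iso.inv_hom_id]
      rfl
    show E₂ (E₁ _) = _
    rw [h2]
    exact (e.mapIntegralClosure).commutes a
  · intro b
    have h1 := congrArg (fun f => f.hom b) ((gen K φ).normalizationObjIso_hom_val hU)
    simp only [CommRingCat.hom_comp, RingHom.comp_apply] at h1
    show secEquiv K φ U hne ((E₁ b : integralClosure Γ(X, U)
      Γ(Spec (CommRingCat.of K), (gen K φ) ⁻¹ᵁ U)) : Γ(Spec (CommRingCat.of K), (gen K φ) ⁻¹ᵁ U))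
      = _
    unfold sig
    rw [RingHom.comp_apply]
    exact congrArg (secEquiv K φ U hne) h1

/-- sections of the normalization (no finiteness assumption on `K`) -/
theorem sections_props' (U : X.Opens) (hU : IsAffineOpen U) (hne : Nonempty U) :
    IsDomain Γ((gen K φ).normalization, (gen K φ).fromNormalization ⁻¹ᵁ U) ∧
    IsIntegrallyClosed Γ((gen K φ).normalization, (gen K φ).fromNormalization ⁻¹ᵁ U) ∧
    Function.Injective ((gen K φ).fromNormalization.app U).hom := by
  letI algK : Algebra Γ(X, U) K := (φ.comp (X.germToFunctionField U).hom).toAlgebra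
  obtain ⟨E, hE, -⟩ := exists_secEquiv' K φ U hU hne
  haveI hic : IsIntegrallyClosed (integralClosure Γ(X, U) K) :=
    isIntegrallyClosed_integralClosure_field _ _
  refine ⟨E.toMulEquiv.isDomain _, IsIntegrallyClosed.of_equiv E.symm, ?_⟩
  intro a b hab
  have h3 : algebraMap Γ(X, U) (integralClosure Γ(X, U) K) a =
      algebraMap Γ(X, U) (integralClosure Γ(X, U) K) b := by
    rw [← hE, ← hE, hab]
  have h4 := congrArg (fun z : integralClosure Γ(X, U) K => (z : K)) h3
  have h5 : Function.Injective (algebraMap Γ(X, U) K) :=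
    φ.injective.comp (X.germToFunctionField_injective U)
  exact h5 h4

theorem isNormalScheme' : Pi1.IsNormalScheme (gen K φ).normalization := by
  intro x'
  obtain ⟨_, ⟨U, hU, rfl⟩, hxU, -⟩ := X.isBasis_affineOpens.exists_subset_of_mem_open
    (Set.mem_univ ((gen K φ).fromNormalization x')) isOpen_univ
  have hne : Nonempty U := ⟨⟨_, hxU⟩⟩
  obtain ⟨hdom, hic, -⟩ := sections_props' K φ U hU hne
  have hV : IsAffineOpen ((gen K φ).fromNormalization ⁻¹ᵁ U) := hU.preimage _
  have hx'V : x' ∈ (gen K φ).fromNormalization ⁻¹ᵁ U := hxU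
  letI : Algebra Γ((gen K φ).normalization, (gen K φ).fromNormalization ⁻¹ᵁ U)
      ((gen K φ).normalization.presheaf.stalk x') :=
    (gen K φ).normalization.presheaf.algebra_section_stalk ⟨x', hx'V⟩
  haveI : IsLocalization.AtPrime ((gen K φ).normalization.presheaf.stalk x')
      (hV.primeIdealOf ⟨x', hx'V⟩).asIdeal := hV.isLocalization_stalk ⟨x', hx'V⟩
  have hle : (hV.primeIdealOf ⟨x', hx'V⟩).asIdeal.primeCompl ≤
      nonZeroDivisors Γ((gen K φ).normalization, (gen K φ).fromNormalization ⁻¹ᵁ U) := by
    intro a ha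
    rw [mem_nonZeroDivisors_iff_ne_zero]
    rintro rfl
    exact ha (Ideal.zero_mem _)
  refine ⟨?_, ?_⟩
  · exact IsLocalization.isDomain_of_le_nonZeroDivisors _ hle
  · exact isIntegrallyClosed_of_isLocalization _ _ hle

theorem toNormalization_closedPoint :
    (gen K φ).toNormalization (IsLocalRing.closedPoint K) =
      genericPoint (gen K φ).normalization := by
  have hd : DenseRange (gen K φ).toNormalization := (gen K φ).toNormalization.denseRange
  have hrange : Set.range (gen K φ).toNormalization =
      {(gen K φ).toNormalization (IsLocalRing.closedPoint K)} := by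
    ext y
    simp only [Set.mem_range, Set.mem_singleton_iff]
    constructor
    · rintro ⟨z, rfl⟩
      congr 1
      exact Subsingleton.elim _ _
    · rintro rfl
      exact ⟨_, rfl⟩
  have h1 : IsGenericPoint ((gen K φ).toNormalization (IsLocalRing.closedPoint K))
      (Set.univ : Set (gen K φ).normalization) := by
    rw [isGenericPoint_def, ← hrange]
    exact hd.closure_range
  exact h1.eq (genericPoint_spec _)

omit [IsIntegral X] [QuasiCompact (gen K φ)] [QuasiSeparated (gen K φ)] in
theorem map_eqToHom_comp {Y : Scheme.{u}} {W₁ W₂ : Y.Opens} (h₁ : ⊤ = W₁) (h₂ : ⊤ = W₂)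
    (hle : W₂ ≤ W₁) (t : Γ(Y, W₁)) :
    (Y.presheaf.map (eqToHom h₁).op).hom t =
      (Y.presheaf.map (eqToHom h₂).op).hom ((Y.presheaf.map (homOfLE hle).op).hom t) := by
  rw [← CommRingCat.comp_apply, ← Functor.map_comp]
  rfl

theorem sCPT_germ (U : X.Opens) (hne : Nonempty U)
    (hmem : (gen K φ).toNormalization (IsLocalRing.closedPoint K) ∈
      (gen K φ).fromNormalization ⁻¹ᵁ U)
    (b : Γ((gen K φ).normalization, (gen K φ).fromNormalization ⁻¹ᵁ U)) :
    (Scheme.stalkClosedPointTo (gen K φ).toNormalization).hom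
      (((gen K φ).normalization.presheaf.germ _ _ hmem).hom b) = sig K φ U hne b := by
  have h1 := congrArg (fun f => f.hom b)
    (Scheme.germ_stalkClosedPointTo (gen K φ).toNormalization
      ((gen K φ).fromNormalization ⁻¹ᵁ U) hmem)
  simp only [CommRingCat.hom_comp, RingHom.comp_apply] at h1
  refine h1.trans ?_
  unfold sig secEquiv
  rw [RingHom.comp_apply]
  exact congrArg (Scheme.ΓSpecIso (CommRingCat.of K)).hom.hom
    (map_eqToHom_comp (Y := Spec (CommRingCat.of K))
      (Scheme.preimage_eq_top_of_closedPoint_mem (gen K φ).toNormalization hmem).symm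
      (gen_preimage K φ U hne).symm
      (toNormalization_preimage K φ U).ge _)

/-- the function field of the normalization inside `K` -/
theorem sCPT_props (x' : (gen K φ).normalization)
    (hx' : x' = genericPoint (gen K φ).normalization)
    (σ : (gen K φ).normalization.presheaf.stalk x' →+* K)
    (U : X.Opens) (hU : IsAffineOpen U) (hne : Nonempty U)
    (hmem : x' ∈ (gen K φ).fromNormalization ⁻¹ᵁ U)
    (hσ : ∀ b, σ (((gen K φ).normalization.presheaf.germ _ x' hmem).hom b) = sig K φ U hne b) :
    Function.Injective σ ∧ Set.range σ =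
      {y : K | ∃ q : Polynomial X.functionField, q.Monic ∧ Polynomial.eval₂ φ y q = 0} := by
  subst hx'
  have hV : IsAffineOpen ((gen K φ).fromNormalization ⁻¹ᵁ U) := hU.preimage _
  haveI hneV : Nonempty ((gen K φ).fromNormalization ⁻¹ᵁ U) := ⟨⟨_, hmem⟩⟩
  haveI : IsDomain Γ(X, U) := @IsIntegral.component_integral X _ U hne
  letI algK : Algebra Γ(X, U) K := (φ.comp (X.germToFunctionField U).hom).toAlgebra
  letI : Algebra X.functionField K := φ.toAlgebra
  haveI : IsScalarTower Γ(X, U) X.functionField K :=
    IsScalarTower.of_algebraMap_eq (fun x => rfl)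
  haveI : IsFractionRing Γ(X, U) X.functionField :=
    functionField_isFractionRing_of_isAffineOpen X U hU
  haveI : IsFractionRing Γ((gen K φ).normalization, (gen K φ).fromNormalization ⁻¹ᵁ U)
      (gen K φ).normalization.functionField :=
    functionField_isFractionRing_of_isAffineOpen _ _ hV
  obtain ⟨E, hE, hEsig⟩ := exists_secEquiv' K φ U hU hne
  let σ' : (gen K φ).normalization.functionField →+* K := σ
  have hσ' : ∀ b, σ' (algebraMap Γ((gen K φ).normalization, (gen K φ).fromNormalization ⁻¹ᵁ U)
      (gen K φ).normalization.functionField b) = ((E b : integralClosure Γ(X, U) K) : K) := by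
    intro b
    rw [hEsig]
    exact hσ b
  have hinjA : Function.Injective (algebraMap Γ(X, U) K) :=
    φ.injective.comp (X.germToFunctionField_injective U)
  refine ⟨σ'.injective, ?_⟩
  ext y
  simp only [Set.mem_range, Set.mem_setOf_eq]
  constructor
  · rintro ⟨s, rfl⟩
    obtain ⟨b₁, b₂, hb₂, rfl⟩ := IsFractionRing.div_surjective
      (A := Γ((gen K φ).normalization, (gen K φ).fromNormalization ⁻¹ᵁ U)) (s : (gen K φ).normalization.functionField)
    have hint : ∀ b, IsIntegral X.functionField (σ' (algebraMap
        Γ((gen K φ).normalization, (gen K φ).fromNormalization ⁻¹ᵁ U)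
        (gen K φ).normalization.functionField b)) := by
      intro b
      rw [hσ']
      exact (E b).2.tower_top
    have h1 : IsIntegral X.functionField (σ' (algebraMap _ _ b₁ / algebraMap _ _ b₂)) := by
      rw [map_div₀, div_eq_mul_inv]
      exact (hint b₁).mul (hint b₂).inv
    exact h1
  · rintro ⟨q, hq, hqy⟩
    have h1 : IsIntegral X.functionField y := ⟨q, hq, hqy⟩
    have h2 : IsAlgebraic Γ(X, U) y :=
      (IsFractionRing.isAlgebraic_iff Γ(X, U) X.functionField K).2 h1.isAlgebraic
    obtain ⟨a, ha0, hay⟩ := h2.exists_integral_multiple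
    obtain ⟨b, hb⟩ := E.surjective ⟨a • y, hay⟩
    have haK : algebraMap Γ(X, U) K a ≠ 0 := by
      rw [Ne, map_eq_zero_iff _ hinjA]; exact ha0
    refine ⟨algebraMap _ _ b / algebraMap _ _ (((gen K φ).fromNormalization.app U).hom a), ?_⟩
    show σ' _ = y
    rw [map_div₀, hσ', hσ', hb, hE]
    show (a • y) / algebraMap Γ(X, U) K a = y
    rw [Algebra.smul_def, mul_div_assoc, mul_comm, div_mul_cancel₀ _ haK]

omit [QuasiCompact (gen K φ)] [QuasiSeparated (gen K φ)] in
theorem s4448_aux (g : Spec (CommRingCat.of K) ⟶ X) (hg : g = gen K φ) [QuasiCompact g]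
    [QuasiSeparated g] :
    ∃ (_ : IsIntegral g.normalization), Pi1.IsNormalScheme g.normalization ∧
      g.fromNormalization.base ⁻¹' {genericPoint X} = {genericPoint g.normalization} ∧
      g.toNormalization.base (IsLocalRing.closedPoint K) = genericPoint g.normalization ∧
      Function.Injective (Scheme.stalkClosedPointTo g.toNormalization).hom ∧
      Set.range (Scheme.stalkClosedPointTo g.toNormalization).hom =
        {y : K | ∃ q : Polynomial X.functionField, q.Monic ∧ Polynomial.eval₂ φ y q = 0} := by
  subst hg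
  refine ⟨inferInstance, isNormalScheme' K φ, Groth.Agent.Helper5.NormChar.fibre_genericPoint K φ,
    toNormalization_closedPoint K φ, ?_⟩
  obtain ⟨_, ⟨U, hU, rfl⟩, hxU, -⟩ := X.isBasis_affineOpens.exists_subset_of_mem_open
    (Set.mem_univ ((gen K φ).fromNormalization
      ((gen K φ).toNormalization (IsLocalRing.closedPoint K)))) isOpen_univ
  have hne : Nonempty U := ⟨⟨_, hxU⟩⟩
  exact sCPT_props K φ _ (toNormalization_closedPoint K φ) _ U hU hne hxU
    (sCPT_germ K φ U hne hxU)

end Groth.Agent.Helper5.NormExt
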