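import Mathlib
import Groth.Prelude.Def_Found
import Groth.Prelude.Def_Brnch
import Groth.Agent.Helper5.NormExt
import Groth.Agent.Helper5.BrAlg1
import Groth.Agent.Helper5.BrAlg2
import Groth.Agent.Helper5.BrAlg3
import Groth.Agent.Helper5.ENatSigma

set_option autoImplicit false
set_option linter.unusedSectionVars false
set_option linter.style.haveILetI false
universe u

open AlgebraicGeometry CategoryTheory Opposite

namespace Groth.Agent.Helper5.BrNorm

open Groth.Agent.Helper5.NormGen Groth.Agent.Helper5.NormExt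

/-- points of the fibre of a morphism with affine preimage as primes of the coordinate ring -/
noncomputable def fibreEquiv {X' X : Scheme.{u}} (ν : X' ⟶ X) (U : X.Opens) (hU : IsAffineOpen U)
    (hV : IsAffineOpen (ν ⁻¹ᵁ U)) (x : X) (hxU : x ∈ U) :
    {x' : X' // ν x' = x} ≃ {q : PrimeSpectrum Γ(X', ν ⁻¹ᵁ U) //
      q.asIdeal.comap (ν.app U).hom = (hU.primeIdealOf ⟨x, hxU⟩).asIdeal} where
  toFun x' := ⟨hV.primeIdealOf ⟨x'.1, by show ν x'.1 ∈ U; rw [x'.2]; exact hxU⟩, by
    have hmem : x'.1 ∈ ν ⁻¹ᵁ U := by show ν x'.1 ∈ U; rw [x'.2]; exact hxU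
    have h1 := Groth.Agent.Helper5.NormCurve.primeIdealOf_comap ν hU hV le_rfl x'.1 hmem
    rw [Scheme.Hom.appLE_eq_app] at h1
    have h2 : (⟨ν x'.1, hmem⟩ : U) = ⟨x, hxU⟩ := Subtype.ext x'.2
    rw [h2] at h1
    exact congrArg PrimeSpectrum.asIdeal h1⟩
  invFun q := ⟨hV.fromSpec q.1, by
    obtain ⟨hmem, hq⟩ := Groth.Agent.Helper5.NormKA.primeIdealOf_fromSpec hV q.1
    have h1 := Groth.Agent.Helper5.NormCurve.primeIdealOf_comap ν hU hV le_rfl _ hmem
    rw [Scheme.Hom.appLE_eq_app, hq] at h1
    have h2 : Spec.map (ν.app U) q.1 = hU.primeIdealOf ⟨x, hxU⟩ := PrimeSpectrum.ext q.2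
    rw [h2] at h1
    have h3 := congrArg hU.fromSpec h1
    rw [hU.fromSpec_primeIdealOf, hU.fromSpec_primeIdealOf] at h3
    exact h3.symm⟩
  left_inv x' := by
    apply Subtype.ext
    exact hV.fromSpec_primeIdealOf ⟨x'.1, _⟩
  right_inv q := by
    apply Subtype.ext
    exact (Groth.Agent.Helper5.NormKA.primeIdealOf_fromSpec hV q.1).2

/-- maximal spectra of isomorphic rings -/
noncomputable def maxSpecCongr {R S : Type u} [CommRing R] [CommRing S] (e : R ≃+* S) :
    MaximalSpectrum S ≃ MaximalSpectrum R where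
  toFun m := ⟨m.asIdeal.comap (e : R →+* S), Ideal.comap_isMaximal_of_equiv e⟩
  invFun m := ⟨m.asIdeal.comap (e.symm : S →+* R), Ideal.comap_isMaximal_of_equiv e.symm⟩
  left_inv m := by
    apply MaximalSpectrum.ext
    show (m.asIdeal.comap (e : R →+* S)).comap (e.symm : S →+* R) = m.asIdeal
    rw [Ideal.comap_comap]
    have : (e : R →+* S).comp (e.symm : S →+* R) = RingHom.id S := by
      ext s; exact e.apply_symm_apply s
    rw [this, Ideal.comap_id]
  right_inv m := by
    apply MaximalSpectrum.ext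
    show (m.asIdeal.comap (e.symm : S →+* R)).comap (e : R →+* S) = m.asIdeal
    rw [Ideal.comap_comap]
    have : (e.symm : S →+* R).comp (e : R →+* S) = RingHom.id R := by
      ext s; exact e.symm_apply_apply s
    rw [this, Ideal.comap_id]

variable {X : Scheme.{u}} [IsIntegral X] (K : Type u) [Field K] (φ : X.functionField →+* K)
  [QuasiCompact (gen K φ)] [QuasiSeparated (gen K φ)]

/-- `sig` as an algebra homomorphism -/
noncomputable def sigAlg (U : X.Opens) (hU : IsAffineOpen U) (hne : Nonempty U) :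
    letI algAK : Algebra Γ(X, U) K := (φ.comp (X.germToFunctionField U).hom).toAlgebra
    letI algAB : Algebra Γ(X, U)
        Γ((gen K φ).normalization, (gen K φ).fromNormalization ⁻¹ᵁ U) :=
      ((gen K φ).fromNormalization.app U).hom.toAlgebra
    Γ((gen K φ).normalization, (gen K φ).fromNormalization ⁻¹ᵁ U) →ₐ[Γ(X, U)] K :=
  letI algAK : Algebra Γ(X, U) K := (φ.comp (X.germToFunctionField U).hom).toAlgebra
  letI algAB : Algebra Γ(X, U)
      Γ((gen K φ).normalization, (gen K φ).fromNormalization ⁻¹ᵁ U) :=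
    ((gen K φ).fromNormalization.app U).hom.toAlgebra
  { toRingHom := sig K φ U hne
    commutes' := by
      intro a
      obtain ⟨E, hE, hEsig⟩ := exists_secEquiv' K φ U hU hne
      show sig K φ U hne (((gen K φ).fromNormalization.app U).hom a) = _
      rw [← hEsig, hE]
      rfl }

theorem sigAlg_props (U : X.Opens) (hU : IsAffineOpen U) (hne : Nonempty U) :
    letI algAK : Algebra Γ(X, U) K := (φ.comp (X.germToFunctionField U).hom).toAlgebra
    letI algAB : Algebra Γ(X, U)
        Γ((gen K φ).normalization, (gen K φ).fromNormalization ⁻¹ᵁ U) :=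
      ((gen K φ).fromNormalization.app U).hom.toAlgebra
    Function.Injective (sigAlg K φ U hU hne) ∧
      (∀ b, IsIntegral Γ(X, U) (sigAlg K φ U hU hne b)) ∧
      (∀ y : K, IsIntegral Γ(X, U) y → ∃ b, sigAlg K φ U hU hne b = y) := by
  letI algAK : Algebra Γ(X, U) K := (φ.comp (X.germToFunctionField U).hom).toAlgebra
  letI algAB : Algebra Γ(X, U)
      Γ((gen K φ).normalization, (gen K φ).fromNormalization ⁻¹ᵁ U) :=
    ((gen K φ).fromNormalization.app U).hom.toAlgebra
  obtain ⟨E, hE, hEsig⟩ := exists_secEquiv' K φ U hU hne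
  refine ⟨?_, ?_, ?_⟩
  · intro a b hab
    have h1 : sig K φ U hne a = sig K φ U hne b := hab
    rw [← hEsig, ← hEsig] at h1
    exact E.injective (Subtype.ext h1)
  · intro b
    show IsIntegral Γ(X, U) (sig K φ U hne b)
    rw [← hEsig]
    exact (E b).2
  · intro y hy
    obtain ⟨b, hb⟩ := E.surjective ⟨y, hy⟩
    refine ⟨b, ?_⟩
    show sig K φ U hne b = y
    rw [← hEsig, hb]

/-- the points of the normalization over `x` are the maximal ideals of the normalization of the
local ring at `x` -/
noncomputable def Xi (hbij : Function.Bijective φ) (U : X.Opens) (hU : IsAffineOpen U) (x : X)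
    (hxU : x ∈ U) :
    {x' : (gen K φ).normalization // (gen K φ).fromNormalization x' = x} ≃
      MaximalSpectrum (CAlg2.normRed (X.presheaf.stalk x)) := by
  have hne : Nonempty U := ⟨⟨x, hxU⟩⟩
  have hV : IsAffineOpen ((gen K φ).fromNormalization ⁻¹ᵁ U) := hU.preimage _
  haveI : IsDomain Γ(X, U) := @IsIntegral.component_integral X _ U hne
  letI algAK : Algebra Γ(X, U) K := (φ.comp (X.germToFunctionField U).hom).toAlgebra
  letI algFK : Algebra X.functionField K := φ.toAlgebra
  haveI : IsScalarTower Γ(X, U) X.functionField K :=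
    IsScalarTower.of_algebraMap_eq (fun x => rfl)
  haveI : IsFractionRing Γ(X, U) X.functionField :=
    functionField_isFractionRing_of_isAffineOpen X U hU
  haveI : IsFractionRing Γ(X, U) K :=
    IsLocalization.isLocalization_of_algEquiv (nonZeroDivisors Γ(X, U))
      (AlgEquiv.ofBijective (IsScalarTower.toAlgHom Γ(X, U) X.functionField K) hbij)
  letI algAO : Algebra Γ(X, U) (X.presheaf.stalk x) :=
    X.presheaf.algebra_section_stalk ⟨x, hxU⟩
  haveI : IsLocalization.AtPrime (X.presheaf.stalk x) (hU.primeIdealOf ⟨x, hxU⟩).asIdeal :=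
    hU.isLocalization_stalk ⟨x, hxU⟩
  letI algOK : Algebra (X.presheaf.stalk x) K :=
    (φ.comp (algebraMap (X.presheaf.stalk x) X.functionField)).toAlgebra
  haveI : IsScalarTower (X.presheaf.stalk x) X.functionField K :=
    IsScalarTower.of_algebraMap_eq (fun x => rfl)
  haveI : IsScalarTower Γ(X, U) (X.presheaf.stalk x) K :=
    IsScalarTower.of_algebraMap_eq (fun a => congrArg φ
      (TopCat.Presheaf.germ_stalkSpecializes_apply X.presheaf hxU
        ((genericPoint_spec X).specializes trivial) a).symm)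
  haveI : IsFractionRing (X.presheaf.stalk x) K :=
    IsFractionRing.isFractionRing_of_isDomain_of_isLocalization
      (hU.primeIdealOf ⟨x, hxU⟩).asIdeal.primeCompl (X.presheaf.stalk x) K
  letI algAB : Algebra Γ(X, U)
      Γ((gen K φ).normalization, (gen K φ).fromNormalization ⁻¹ᵁ U) :=
    ((gen K φ).fromNormalization.app U).hom.toAlgebra
  haveI : Nonempty ((gen K φ).fromNormalization ⁻¹ᵁ U : (gen K φ).normalization.Opens) :=
    Groth.Agent.Helper5.NormFF.nonempty_preimage K φ U hne
  haveI : IsDomain Γ((gen K φ).normalization, (gen K φ).fromNormalization ⁻¹ᵁ U) :=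
    IsIntegral.component_integral _
  have h := sigAlg_props K φ U hU hne
  exact (fibreEquiv (gen K φ).fromNormalization U hU hV x hxU).trans
    ((Groth.Agent.Helper5.BrAlg.primesEquiv K (hU.primeIdealOf ⟨x, hxU⟩).asIdeal
      (X.presheaf.stalk x) Γ((gen K φ).normalization, (gen K φ).fromNormalization ⁻¹ᵁ U)
      (sigAlg K φ U hU hne) h.1 h.2.1 h.2.2).trans
      (maxSpecCongr (Groth.Agent.Helper5.BrAlg.normRedEquiv (X.presheaf.stalk x) K)))

theorem exists_Theta (hbij : Function.Bijective φ) (U : X.Opens) (hU : IsAffineOpen U)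
    (x'₁ : (gen K φ).normalization) (hxU : (gen K φ).fromNormalization x'₁ ∈ U) :
    ∃ Θ : (CAlg2.normRed (X.presheaf.stalk ((gen K φ).fromNormalization x'₁)) ⧸
        (Xi K φ hbij U hU _ hxU ⟨x'₁, rfl⟩).asIdeal) ≃+*
        ((gen K φ).normalization.residueField x'₁),
      ∀ o, Θ (Brnch.toResidue (X.presheaf.stalk ((gen K φ).fromNormalization x'₁))
        (Xi K φ hbij U hU _ hxU ⟨x'₁, rfl⟩) o) =
        ((gen K φ).fromNormalization.residueFieldMap x'₁).hom
          (IsLocalRing.residue (X.presheaf.stalk ((gen K φ).fromNormalization x'₁)) o) := by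
  have hne : Nonempty U := ⟨⟨_, hxU⟩⟩
  have hV : IsAffineOpen ((gen K φ).fromNormalization ⁻¹ᵁ U) := hU.preimage _
  haveI : IsDomain Γ(X, U) := @IsIntegral.component_integral X _ U hne
  letI algAK : Algebra Γ(X, U) K := (φ.comp (X.germToFunctionField U).hom).toAlgebra
  letI algFK : Algebra X.functionField K := φ.toAlgebra
  haveI : IsScalarTower Γ(X, U) X.functionField K :=
    IsScalarTower.of_algebraMap_eq (fun x => rfl)
  haveI : IsFractionRing Γ(X, U) X.functionField :=
    functionField_isFractionRing_of_isAffineOpen X U hU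
  haveI : IsFractionRing Γ(X, U) K :=
    IsLocalization.isLocalization_of_algEquiv (nonZeroDivisors Γ(X, U))
      (AlgEquiv.ofBijective (IsScalarTower.toAlgHom Γ(X, U) X.functionField K) hbij)
  letI algAO : Algebra Γ(X, U) (X.presheaf.stalk ((gen K φ).fromNormalization x'₁)) :=
    X.presheaf.algebra_section_stalk ⟨_, hxU⟩
  haveI : IsLocalization.AtPrime (X.presheaf.stalk ((gen K φ).fromNormalization x'₁))
      (hU.primeIdealOf ⟨_, hxU⟩).asIdeal := hU.isLocalization_stalk ⟨_, hxU⟩
  letI algOK : Algebra (X.presheaf.stalk ((gen K φ).fromNormalization x'₁)) K :=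
    (φ.comp (algebraMap (X.presheaf.stalk ((gen K φ).fromNormalization x'₁))
      X.functionField)).toAlgebra
  haveI : IsScalarTower (X.presheaf.stalk ((gen K φ).fromNormalization x'₁)) X.functionField K :=
    IsScalarTower.of_algebraMap_eq (fun x => rfl)
  haveI : IsScalarTower Γ(X, U) (X.presheaf.stalk ((gen K φ).fromNormalization x'₁)) K :=
    IsScalarTower.of_algebraMap_eq (fun a => congrArg φ
      (TopCat.Presheaf.germ_stalkSpecializes_apply X.presheaf hxU
        ((genericPoint_spec X).specializes trivial) a).symm)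
  haveI : IsFractionRing (X.presheaf.stalk ((gen K φ).fromNormalization x'₁)) K :=
    IsFractionRing.isFractionRing_of_isDomain_of_isLocalization
      (hU.primeIdealOf ⟨_, hxU⟩).asIdeal.primeCompl
      (X.presheaf.stalk ((gen K φ).fromNormalization x'₁)) K
  letI algAB : Algebra Γ(X, U)
      Γ((gen K φ).normalization, (gen K φ).fromNormalization ⁻¹ᵁ U) :=
    ((gen K φ).fromNormalization.app U).hom.toAlgebra
  haveI : Nonempty ((gen K φ).fromNormalization ⁻¹ᵁ U : (gen K φ).normalization.Opens) :=
    Groth.Agent.Helper5.NormFF.nonempty_preimage K φ U hne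
  haveI : IsDomain Γ((gen K φ).normalization, (gen K φ).fromNormalization ⁻¹ᵁ U) :=
    IsIntegral.component_integral _
  have h := sigAlg_props K φ U hU hne
  have hx'V : x'₁ ∈ (gen K φ).fromNormalization ⁻¹ᵁ U := hxU
  letI algBS : Algebra Γ((gen K φ).normalization, (gen K φ).fromNormalization ⁻¹ᵁ U)
      ((gen K φ).normalization.presheaf.stalk x'₁) :=
    (gen K φ).normalization.presheaf.algebra_section_stalk ⟨x'₁, hx'V⟩
  haveI : IsLocalization.AtPrime ((gen K φ).normalization.presheaf.stalk x'₁)
      (hV.primeIdealOf ⟨x'₁, hx'V⟩).asIdeal := hV.isLocalization_stalk ⟨x'₁, hx'V⟩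
  have hq := (fibreEquiv (gen K φ).fromNormalization U hU hV _ hxU ⟨x'₁, rfl⟩).2
  obtain ⟨θ, hθ⟩ := Groth.Agent.Helper5.BrAlg.exists_residue_equiv K
    (hU.primeIdealOf ⟨_, hxU⟩).asIdeal (X.presheaf.stalk ((gen K φ).fromNormalization x'₁))
    Γ((gen K φ).normalization, (gen K φ).fromNormalization ⁻¹ᵁ U) (sigAlg K φ U hU hne)
    h.1 h.2.1 h.2.2 (hV.primeIdealOf ⟨x'₁, hx'V⟩).asIdeal hq
    ((gen K φ).normalization.presheaf.stalk x'₁)
    ((gen K φ).fromNormalization.stalkMap x'₁).hom
    (fun a => Scheme.Hom.germ_stalkMap_apply (gen K φ).fromNormalization U x'₁ hxU a)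
  refine Groth.Agent.Helper5.BrAlg.exists_Theta_of_chart
    (X.presheaf.stalk ((gen K φ).fromNormalization x'₁)) K
    ((hV.primeIdealOf ⟨x'₁, hx'V⟩).asIdeal.map
      (Groth.Agent.Helper5.BrAlg.incl K (X.presheaf.stalk ((gen K φ).fromNormalization x'₁))
        Γ((gen K φ).normalization, (gen K φ).fromNormalization ⁻¹ᵁ U) (sigAlg K φ U hU hne)
        h.2.1))
    (Xi K φ hbij U hU _ hxU ⟨x'₁, rfl⟩) rfl
    ((gen K φ).normalization.residueField x'₁)
    ((gen K φ).fromNormalization.residueFieldMap x'₁).hom θ ?_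
  intro o
  have h3 := congrArg (fun f => f.hom o)
    (Scheme.residue_residueFieldMap (gen K φ).fromNormalization x'₁)
  simp only [CommRingCat.hom_comp, RingHom.comp_apply] at h3
  exact (hθ o).trans h3.symm


theorem card_emb (hbij : Function.Bijective φ) (U : X.Opens) (hU : IsAffineOpen U)
    (x'₁ : (gen K φ).normalization) (x : X) (hx : (gen K φ).fromNormalization x'₁ = x)
    (hxU : x ∈ U) :
    ENat.card (Brnch.Emb (X.presheaf.stalk x) (Xi K φ hbij U hU x hxU ⟨x'₁, hx⟩)) =
      (letI := ((gen K φ).fromNormalization.residueFieldMap x'₁).hom.toAlgebra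
       ENat.card (Field.Emb (X.residueField ((gen K φ).fromNormalization x'₁))
        ((gen K φ).normalization.residueField x'₁))) := by
  subst hx
  have hne : Nonempty U := ⟨⟨_, hxU⟩⟩
  have hV : IsAffineOpen ((gen K φ).fromNormalization ⁻¹ᵁ U) := hU.preimage _
  haveI : IsDomain Γ(X, U) := @IsIntegral.component_integral X _ U hne
  letI algAK : Algebra Γ(X, U) K := (φ.comp (X.germToFunctionField U).hom).toAlgebra
  letI algFK : Algebra X.functionField K := φ.toAlgebra
  haveI : IsScalarTower Γ(X, U) X.functionField K :=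
    IsScalarTower.of_algebraMap_eq (fun x => rfl)
  haveI : IsFractionRing Γ(X, U) X.functionField :=
    functionField_isFractionRing_of_isAffineOpen X U hU
  haveI : IsFractionRing Γ(X, U) K :=
    IsLocalization.isLocalization_of_algEquiv (nonZeroDivisors Γ(X, U))
      (AlgEquiv.ofBijective (IsScalarTower.toAlgHom Γ(X, U) X.functionField K) hbij)
  letI algAO : Algebra Γ(X, U) (X.presheaf.stalk ((gen K φ).fromNormalization x'₁)) :=
    X.presheaf.algebra_section_stalk ⟨_, hxU⟩
  haveI : IsLocalization.AtPrime (X.presheaf.stalk ((gen K φ).fromNormalization x'₁))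
      (hU.primeIdealOf ⟨_, hxU⟩).asIdeal := hU.isLocalization_stalk ⟨_, hxU⟩
  letI algOK : Algebra (X.presheaf.stalk ((gen K φ).fromNormalization x'₁)) K :=
    (φ.comp (algebraMap (X.presheaf.stalk ((gen K φ).fromNormalization x'₁))
      X.functionField)).toAlgebra
  haveI : IsScalarTower (X.presheaf.stalk ((gen K φ).fromNormalization x'₁)) X.functionField K :=
    IsScalarTower.of_algebraMap_eq (fun x => rfl)
  haveI : IsScalarTower Γ(X, U) (X.presheaf.stalk ((gen K φ).fromNormalization x'₁)) K :=
    IsScalarTower.of_algebraMap_eq (fun a => congrArg φ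
      (TopCat.Presheaf.germ_stalkSpecializes_apply X.presheaf hxU
        ((genericPoint_spec X).specializes trivial) a).symm)
  haveI : IsFractionRing (X.presheaf.stalk ((gen K φ).fromNormalization x'₁)) K :=
    IsFractionRing.isFractionRing_of_isDomain_of_isLocalization
      (hU.primeIdealOf ⟨_, hxU⟩).asIdeal.primeCompl
      (X.presheaf.stalk ((gen K φ).fromNormalization x'₁)) K
  letI algAB : Algebra Γ(X, U)
      Γ((gen K φ).normalization, (gen K φ).fromNormalization ⁻¹ᵁ U) :=
    ((gen K φ).fromNormalization.app U).hom.toAlgebra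
  haveI : Nonempty ((gen K φ).fromNormalization ⁻¹ᵁ U : (gen K φ).normalization.Opens) :=
    Groth.Agent.Helper5.NormFF.nonempty_preimage K φ U hne
  haveI : IsDomain Γ((gen K φ).normalization, (gen K φ).fromNormalization ⁻¹ᵁ U) :=
    IsIntegral.component_integral _
  have h := sigAlg_props K φ U hU hne
  have hx'V : x'₁ ∈ (gen K φ).fromNormalization ⁻¹ᵁ U := hxU
  letI algBS : Algebra Γ((gen K φ).normalization, (gen K φ).fromNormalization ⁻¹ᵁ U)
      ((gen K φ).normalization.presheaf.stalk x'₁) :=
    (gen K φ).normalization.presheaf.algebra_section_stalk ⟨x'₁, hx'V⟩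
  haveI : IsLocalization.AtPrime ((gen K φ).normalization.presheaf.stalk x'₁)
      (hV.primeIdealOf ⟨x'₁, hx'V⟩).asIdeal := hV.isLocalization_stalk ⟨x'₁, hx'V⟩
  have hq := (fibreEquiv (gen K φ).fromNormalization U hU hV _ hxU ⟨x'₁, rfl⟩).2
  obtain ⟨θ, hθ⟩ := Groth.Agent.Helper5.BrAlg.exists_residue_equiv K
    (hU.primeIdealOf ⟨_, hxU⟩).asIdeal (X.presheaf.stalk ((gen K φ).fromNormalization x'₁))
    Γ((gen K φ).normalization, (gen K φ).fromNormalization ⁻¹ᵁ U) (sigAlg K φ U hU hne)
    h.1 h.2.1 h.2.2 (hV.primeIdealOf ⟨x'₁, hx'V⟩).asIdeal hq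
    ((gen K φ).normalization.presheaf.stalk x'₁)
    ((gen K φ).fromNormalization.stalkMap x'₁).hom
    (fun a => Scheme.Hom.germ_stalkMap_apply (gen K φ).fromNormalization U x'₁ hxU a)
  refine Groth.Agent.Helper5.BrAlg.card_emb_of_chart
    (X.presheaf.stalk ((gen K φ).fromNormalization x'₁)) K
    ((hV.primeIdealOf ⟨x'₁, hx'V⟩).asIdeal.map
      (Groth.Agent.Helper5.BrAlg.incl K (X.presheaf.stalk ((gen K φ).fromNormalization x'₁))
        Γ((gen K φ).normalization, (gen K φ).fromNormalization ⁻¹ᵁ U) (sigAlg K φ U hU hne)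
        h.2.1))
    (Xi K φ hbij U hU _ hxU ⟨x'₁, rfl⟩) rfl
    ((gen K φ).normalization.residueField x'₁)
    ((gen K φ).fromNormalization.residueFieldMap x'₁).hom θ ?_
  intro o
  have h3 := congrArg (fun f => f.hom o)
    (Scheme.residue_residueFieldMap (gen K φ).fromNormalization x'₁)
  simp only [CommRingCat.hom_comp, RingHom.comp_apply] at h3
  exact (hθ o).trans h3.symm

theorem main (hbij : Function.Bijective φ) (x : X) :
    Brnch.numBranchesAt X x =
        ENat.card {x' : (gen K φ).normalization // (gen K φ).fromNormalization x' = x} ∧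
      Brnch.numGeomBranchesAt X x =
        ∑' x' : {x' : (gen K φ).normalization // (gen K φ).fromNormalization x' = x},
          (letI := ((gen K φ).fromNormalization.residueFieldMap x'.1).hom.toAlgebra
           ENat.card (Field.Emb (X.residueField ((gen K φ).fromNormalization x'.1))
             ((gen K φ).normalization.residueField x'.1))) := by
  obtain ⟨_, ⟨U, hU, rfl⟩, hxU, -⟩ := X.isBasis_affineOpens.exists_subset_of_mem_open
    (Set.mem_univ x) isOpen_univ
  have hfin : (minimalPrimes (X.presheaf.stalk x)).Finite :=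
    Groth.Agent.Helper5.BrAlg.minimalPrimes_finite _
  constructor
  · unfold Brnch.numBranchesAt Brnch.numBranches
    rw [if_pos hfin]
    exact (ENat.card_congr (Xi K φ hbij U hU x hxU)).symm
  · unfold Brnch.numGeomBranchesAt Brnch.numGeomBranches
    rw [if_pos hfin]
    rw [← ENat.card_congr (Equiv.sigmaCongrLeft (β := fun m' => Brnch.Emb (X.presheaf.stalk x) m')
      (Xi K φ hbij U hU x hxU))]
    rw [Groth.Agent.Helper5.ENatSigma.card_sigma]
    exact tsum_congr (fun x' => card_emb K φ hbij U hU x'.1 x x'.2 hxU)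

omit [QuasiCompact (gen K φ)] [QuasiSeparated (gen K φ)] in
theorem s7657_aux (g : Spec (CommRingCat.of K) ⟶ X) (hg : g = gen K φ) [QuasiCompact g]
    [QuasiSeparated g] (hbij : Function.Bijective φ) (x : X) :
    Brnch.numBranchesAt X x =
        ENat.card {x' : g.normalization // g.fromNormalization.base x' = x} ∧
      Brnch.numGeomBranchesAt X x =
        ∑' x' : {x' : g.normalization // g.fromNormalization.base x' = x},
          (letI := (g.fromNormalization.residueFieldMap x'.1).hom.toAlgebra
           ENat.card (Field.Emb (X.residueField (g.fromNormalization.base x'.1))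
             (g.normalization.residueField x'.1))) := by
  subst hg
  exact main K φ hbij x

end Groth.Agent.Helper5.BrNorm
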