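import Mathlib
import Groth.Prelude.Def_Found
import Groth.Prelude.Def_Brnch
import Groth.Prelude.Def_Flat
import Groth.Agent.Helper5.BrNorm
import Groth.Agent.Helper5.UnivHomeo1
import Groth.Agent.Helper5.NormInt

set_option autoImplicit false
set_option linter.unusedSectionVars false
set_option linter.style.haveILetI false
universe u

open AlgebraicGeometry CategoryTheory Opposite

namespace Groth.Agent.Helper5.BrUH

open Groth.Agent.Helper5.NormGen Groth.Agent.Helper5.NormExt Groth.Agent.Helper5.BrNorm

variable {X : Scheme.{u}} [IsIntegral X] (K : Type u) [Field K] (φ : X.functionField →+* K)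
  [QuasiCompact (gen K φ)] [QuasiSeparated (gen K φ)]

theorem universallyInjective (hbij : Function.Bijective φ)
    (hX : ∀ x : X, CAlg2.IsGeomUnibranch (X.presheaf.stalk x)) :
    UniversallyInjective (gen K φ).fromNormalization := by
  have key : Function.Injective (gen K φ).fromNormalization ∧
      ∀ x, ((gen K φ).fromNormalization.residueFieldMap x).hom.IsPurelyInseparable := by
    refine ⟨?_, ?_⟩
    · intro x'₁ x'₂ h
      obtain ⟨_, ⟨U, hU, rfl⟩, hxU, -⟩ := X.isBasis_affineOpens.exists_subset_of_mem_open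
        (Set.mem_univ ((gen K φ).fromNormalization x'₂)) isOpen_univ
      let e := Xi K φ hbij U hU _ hxU
      haveI : IsLocalRing (CAlg2.normRed (X.presheaf.stalk ((gen K φ).fromNormalization x'₂))) :=
        (hX _).1.2
      have hsub : ∀ m₁ m₂ : MaximalSpectrum
          (CAlg2.normRed (X.presheaf.stalk ((gen K φ).fromNormalization x'₂))), m₁ = m₂ := by
        intro m₁ m₂
        apply MaximalSpectrum.ext
        rw [IsLocalRing.eq_maximalIdeal m₁.isMaximal, IsLocalRing.eq_maximalIdeal m₂.isMaximal]
      have h1 : e ⟨x'₁, h⟩ = e ⟨x'₂, rfl⟩ := hsub _ _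
      exact congrArg Subtype.val (e.injective h1)
    · intro x'₁
      obtain ⟨_, ⟨U, hU, rfl⟩, hxU, -⟩ := X.isBasis_affineOpens.exists_subset_of_mem_open
        (Set.mem_univ ((gen K φ).fromNormalization x'₁)) isOpen_univ
      obtain ⟨Θ, hΘ⟩ := exists_Theta K φ hbij U hU x'₁ hxU
      exact Groth.Agent.Helper5.BrAlg.isPurelyInseparable_of_Theta _ (hX _) _ _ _ Θ hΘ
  exact ((tfae_universallyInjective (gen K φ).fromNormalization).out 0 2).2 key

theorem isUnivHomeo (hbij : Function.Bijective φ)
    (hX : ∀ x : X, CAlg2.IsGeomUnibranch (X.presheaf.stalk x)) :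
    FlatMor.IsUnivHomeo (gen K φ).fromNormalization := by
  rw [Groth.Agent.Helper5.UnivHomeo.isUnivHomeo_iff]
  refine ⟨inferInstance, universallyInjective K φ hbij hX, ?_⟩
  exact ⟨Groth.Agent.Helper5.NormInt.fromNormalization_surjective K φ⟩

omit [QuasiCompact (gen K φ)] [QuasiSeparated (gen K φ)] in
theorem s9689_aux (g : Spec (CommRingCat.of K) ⟶ X) (hg : g = gen K φ) [QuasiCompact g]
    [QuasiSeparated g] (hbij : Function.Bijective φ)
    (hX : ∀ x : X, CAlg2.IsGeomUnibranch (X.presheaf.stalk x)) :
    FlatMor.IsUnivHomeo g.fromNormalization := by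
  subst hg
  exact isUnivHomeo K φ hbij hX

end Groth.Agent.Helper5.BrUH
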