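import Mathlib
import Groth.Prelude.Def_Cyc

set_option autoImplicit false
universe u
open CategoryTheory CategoryTheory.Limits AlgebraicGeometry TopologicalSpace

namespace Groth.Agent.Helper5.CycDim

theorem delta_mono {X : Scheme.{u}} (δ : X → ℤ) (hδ : Cyc.IsDimFun X δ) (x y : X) (h : x ⤳ y) :
    δ y ≤ δ x := by
  by_cases hxy : x = y
  · rw [hxy]
  · exact (hδ x y h hxy).1.le

theorem delta_lt {X : Scheme.{u}} (δ : X → ℤ) (hδ : Cyc.IsDimFun X δ) (x y : X) (h : y < x) :
    δ y < δ x := by
  have h1 : x ⤳ y := Scheme.le_iff_specializes.1 h.le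
  have hne : x ≠ y := fun e => by rw [e] at h; exact lt_irrefl _ h
  exact (hδ x y h1 hne).1

theorem lt_of_specializes_ne {X : Scheme.{u}} (x y : X) (h : x ⤳ y) (hne : x ≠ y) : y < x := by
  refine lt_of_le_not_ge (Scheme.le_iff_specializes.2 h) ?_
  intro h2
  exact hne (h.antisymm (Scheme.le_iff_specializes.1 h2)).eq

theorem s6459 (X : Scheme.{u}) [IsIntegral X] (δ : X → ℤ) (hX : Cyc.IsSetup X δ) (ξ : X) :
    ringKrullDim ↑(X.presheaf.stalk ξ) = 1 ↔ δ ξ = δ (genericPoint X) - 1 := by
  have hδ := hX.2.2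
  let η := genericPoint X
  have hη : ∀ z : X, η ⤳ z := fun z => by
    rw [specializes_iff_mem_closure, (genericPoint_spec X).def]; exact Set.mem_univ _
  have hη0 : Order.coheight η = 0 := by
    rw [Order.coheight_eq_zero]
    intro b _
    exact Scheme.le_iff_specializes.2 (hη b)
  rw [ringKrullDim_stalk_eq_coheight]
  constructor
  · intro h
    have hco : Order.coheight ξ = 1 := by exact_mod_cast h
    have hne : η ≠ ξ := by
      intro e
      rw [← e, hη0] at hco
      exact absurd hco (by decide)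
    have h2 := (hδ η ξ (hη ξ) hne).2 (by
      intro z hz1 hz2
      by_contra hcon
      push Not at hcon
      have hlt1 : ξ < z := lt_of_specializes_ne z ξ hz2 hcon.2
      have hlt2 : z < η := lt_of_specializes_ne η z hz1 (fun e => hcon.1 e.symm)
      have h3 := Order.coheight_add_one_le hlt1
      have h4 := Order.coheight_add_one_le hlt2
      have h5 : (2 : ℕ∞) ≤ Order.coheight ξ := by
        calc (2 : ℕ∞) = 0 + 1 + 1 := by norm_num
          _ ≤ Order.coheight η + 1 + 1 := by gcongr; exact zero_le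
          _ ≤ Order.coheight z + 1 := by gcongr
          _ ≤ Order.coheight ξ := h3
      rw [hco] at h5
      exact absurd h5 (by decide))
    show δ ξ = δ η - 1
    omega
  · intro h
    have h' : δ ξ = δ η - 1 := h
    have hne : η ≠ ξ := by
      intro e
      rw [← e] at h'
      omega
    have hlt : ξ < η := lt_of_specializes_ne η ξ (hη ξ) hne
    have hge : (1 : ℕ∞) ≤ Order.coheight ξ := by
      have := Order.coheight_add_one_le hlt
      calc (1 : ℕ∞) = 0 + 1 := by norm_num
        _ ≤ Order.coheight η + 1 := by gcongr; exact zero_le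
        _ ≤ Order.coheight ξ := this
    have hle : Order.coheight ξ ≤ 1 := by
      rw [Order.coheight_le_iff']
      intro p hp
      by_contra hcon
      have h2 : 2 ≤ p.length := by
        have : ¬ p.length ≤ 1 := by exact_mod_cast hcon
        omega
      have e0 : p ⟨0, by omega⟩ = ξ := hp
      have l1 : p ⟨0, by omega⟩ < p ⟨1, by omega⟩ := p.strictMono (by simp [Fin.lt_def])
      have l2 : p ⟨1, by omega⟩ < p ⟨2, by omega⟩ := p.strictMono (by simp [Fin.lt_def])
      have d1 := delta_lt δ hδ _ _ l1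
      have d2 := delta_lt δ hδ _ _ l2
      have d3 := delta_mono δ hδ η (p ⟨2, by omega⟩) (hη _)
      rw [e0] at d1
      omega
    have : Order.coheight ξ = 1 := le_antisymm hle hge
    rw [this]
    rfl

theorem s6458 (X : Scheme.{u}) [IsIntegral X] (δ : X → ℤ) (hX : Cyc.IsSetup X δ) (ξ : X)
    (g : ↑(X.presheaf.stalk ξ)) (hg0 : g ≠ 0)
    (hgm : g ∈ IsLocalRing.maximalIdeal (X.presheaf.stalk ξ))
    (hdim : ringKrullDim (↑(X.presheaf.stalk ξ) ⧸ Ideal.span {g}) = 0) :
    δ ξ = δ (genericPoint X) - 1 := by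
  rw [← s6459 X δ hX ξ]
  let R := X.presheaf.stalk ξ
  have hN : IsLocallyNoetherian X := hX.1
  have hNR : IsNoetherianRing R := inferInstanceAs (IsNoetherianRing (X.presheaf.stalk ξ))
  have hle : ringKrullDim R ≤ 1 := by
    have hs : ({g} : Set R) ⊆ Ring.jacobson R := by
      intro a ha
      rw [Set.mem_singleton_iff] at ha
      rw [ha]
      rw [IsLocalRing.ringJacobson_eq_maximalIdeal]
      exact hgm
    have := ringKrullDim_le_ringKrullDim_quotient_add_encard ({g} : Set R) hs
    rw [hdim, Set.encard_singleton] at this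
    simpa using this
  have hne0 : ¬ ringKrullDim R ≤ 0 := by
    intro h0
    have hK : Ring.KrullDimLE 0 R := Ring.krullDimLE_iff.mpr (by simpa using h0)
    have hbot : (⊥ : Ideal R).IsMaximal := Ring.krullDimLE_zero_iff.mp hK ⊥ Ideal.isPrime_bot
    have : (⊥ : Ideal R) = IsLocalRing.maximalIdeal R := IsLocalRing.eq_maximalIdeal hbot
    rw [← this] at hgm
    exact hg0 hgm
  show ringKrullDim R = 1
  rw [ringKrullDim_stalk_eq_coheight] at hle hne0 ⊢
  have h1 : Order.coheight ξ ≤ 1 := by exact_mod_cast hle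
  have h2 : ¬ Order.coheight ξ ≤ 0 := by
    intro h; apply hne0; exact_mod_cast h
  have h3 : Order.coheight ξ = 1 := by
    obtain ⟨n, hn⟩ := ENat.ne_top_iff_exists.mp (ne_top_of_le_ne_top (by decide) h1)
    rw [← hn] at h1 h2 ⊢
    have a1 : n ≤ 1 := by exact_mod_cast h1
    have a2 : ¬ n ≤ 0 := by
      intro h; apply h2; exact_mod_cast h
    have : n = 1 := by omega
    rw [this]; rfl
  rw [h3]
  rfl

theorem s6493 (X Z : Scheme.{u}) (δ : X → ℤ) (hX : Cyc.IsSetup X δ) (i : Z ⟶ X)
    [IsClosedImmersion i] (k : ℤ) (hZ : ∀ z : Z, δ (i z) ≤ k) (ξ : Z) (hξ : δ (i ξ) = k) :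
    (∀ z : Z, z ⤳ ξ → z = ξ) ∧ ∀ ξ' : Z, (∀ z : Z, z ⤳ ξ' → z = ξ') →
      Module.length ↑(Z.presheaf.stalk ξ') ↑(Z.presheaf.stalk ξ') < ⊤ := by
  have hδ := hX.2.2
  have hN : IsLocallyNoetherian X := hX.1
  have hNZ : IsLocallyNoetherian Z := LocallyOfFiniteType.isLocallyNoetherian i
  refine ⟨?_, ?_⟩
  · intro z hz
    have h1 : i z ⤳ i ξ := hz.map i.continuous
    by_contra hne
    have hne' : i z ≠ i ξ := fun e => hne (i.isEmbedding.injective e)
    have := (hδ (i z) (i ξ) h1 hne').1
    have := hZ z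
    omega
  · intro ξ' hmax
    have hco : Order.coheight ξ' = 0 := by
      rw [Order.coheight_eq_zero]
      intro b hb
      have := hmax b (Scheme.le_iff_specializes.1 hb)
      rw [this]
    have hdim0 : ringKrullDim (Z.presheaf.stalk ξ') ≤ 0 := by
      rw [ringKrullDim_stalk_eq_coheight, hco]; rfl
    have hK : Ring.KrullDimLE 0 (Z.presheaf.stalk ξ') := Ring.krullDimLE_iff.mpr (by simpa using hdim0)
    have hA : IsArtinianRing (Z.presheaf.stalk ξ') := isArtinianRing_iff_krullDimLE_zero.mpr hK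
    exact lt_top_iff_ne_top.mpr Module.length_ne_top

end Groth.Agent.Helper5.CycDim
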