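import Mathlib
import Groth.Agent.Helper5.CIGen4
import Groth.Agent.Helper5.CIOpen1
import Groth.Agent.Helper2.SepAlg
import Groth.Agent.Helper2.SmoothDense
import Groth.Agent.Helper7.CKO10

/-!
# Local complete intersections and finitely generated field extensions
-/

set_option autoImplicit false
set_option linter.style.haveILetI false
set_option linter.unusedSectionVars false
set_option linter.unusedVariables false
universe u
open IsLocalRing TensorProduct

namespace Groth.Agent.Helper5.CIGen

open Groth.Agent.Helper5.CIAsc Groth.Agent.Helper7.CKd Groth.Agent.Helper5.CIOpen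

/-- all local rings are complete intersections -/
def AllCI (S : Type u) [CommRing S] : Prop :=
  ∀ (P : Ideal S) [P.IsPrime], Pi1.IsCompleteIntersection (Localization.AtPrime P)

theorem allCI_of_ringEquiv {S S' : Type u} [CommRing S] [CommRing S'] [IsNoetherianRing S]
    (e : S ≃+* S') (h : AllCI S) : AllCI S' := by
  intro P hP
  let Q : Ideal S := P.comap e.toRingHom
  haveI hQ : Q.IsPrime := Ideal.comap_isPrime _ _
  have H : Q.primeCompl.map e.toMonoidHom = P.primeCompl := by
    ext x
    constructor
    · rintro ⟨y, hy, rfl⟩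
      exact hy
    · intro hx
      refine ⟨e.symm x, ?_, by simp⟩
      show e.symm x ∉ Q
      intro hmem
      apply hx
      have : e (e.symm x) ∈ P := hmem
      simpa using this
  haveI : IsNoetherianRing S' := isNoetherianRing_of_ringEquiv S e
  haveI : IsNoetherianRing (Localization.AtPrime Q) :=
    IsLocalization.isNoetherianRing Q.primeCompl _ inferInstance
  haveI : IsNoetherianRing (Localization.AtPrime P) :=
    IsLocalization.isNoetherianRing P.primeCompl _ inferInstance
  exact isCI_of_ringEquiv
    (IsLocalization.ringEquivOfRingEquiv (Localization.AtPrime Q) (Localization.AtPrime P) e H)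
    (h Q)

theorem allCI_of_isLocalization {R S' : Type u} [CommRing R] [CommRing S'] [Algebra R S']
    [IsNoetherianRing R] (M : Submonoid R) [IsLocalization M S'] (h : AllCI R) : AllCI S' := by
  intro P hP
  obtain ⟨e⟩ := Groth.Agent.Helper2.SepAlg.nonempty_locEquiv M S' P
  haveI : IsNoetherianRing S' := IsLocalization.isNoetherianRing M S' inferInstance
  haveI : IsNoetherianRing (Localization.AtPrime (P.comap (algebraMap R S'))) :=
    IsLocalization.isNoetherianRing (P.comap (algebraMap R S')).primeCompl _ inferInstance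
  haveI : IsNoetherianRing (Localization.AtPrime P) :=
    IsLocalization.isNoetherianRing P.primeCompl _ inferInstance
  exact isCI_of_ringEquiv e (h _)

section fieldext

theorem isField_localization_of_eq_bot {K₀ : Type u} [CommRing K₀] (P : Ideal K₀) [P.IsPrime]
    (h : P = ⊥) : IsField (Localization.AtPrime P) := by
  rw [IsLocalRing.isField_iff_maximalIdeal_eq, ← Localization.AtPrime.map_eq_maximalIdeal]
  subst h
  exact Ideal.map_bot

theorem isNoetherianRing_tensor_field (k K₀ L : Type u) [Field k] [CommRing K₀] [Algebra k K₀]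
    [Algebra.FiniteType k K₀] [Field L] [Algebra k L] : IsNoetherianRing (K₀ ⊗[k] L) := by
  haveI : IsNoetherianRing (L ⊗[k] K₀) := Algebra.FiniteType.isNoetherianRing L _
  exact isNoetherianRing_of_ringEquiv (L ⊗[k] K₀) (Algebra.TensorProduct.comm k L K₀).toRingEquiv

/-- the local rings of `K ⊗_k L` are complete intersections, for `K` a finitely generated field
extension of `k` -/
theorem allCI_tensor_fractionRing (k K₀ K L : Type u) [Field k] [CommRing K₀] [IsDomain K₀]
    [Algebra k K₀] [Algebra.FiniteType k K₀] [Field K] [Algebra K₀ K] [Algebra k K]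
    [IsScalarTower k K₀ K] [IsFractionRing K₀ K] [Field L] [Algebra k L] : AllCI (K ⊗[k] L) := by
  haveI := isNoetherianRing_tensor_field k K₀ L
  -- the localization `S'` of `K₀ ⊗ L`
  have hS' : AllCI ((K₀ ⊗[k] L) ⊗[K₀] K) := by
    intro q'' hq''
    set Q₀ : Ideal (K₀ ⊗[k] L) := q''.comap (algebraMap (K₀ ⊗[k] L) ((K₀ ⊗[k] L) ⊗[K₀] K))
      with hQ₀
    haveI : Q₀.IsPrime := Ideal.comap_isPrime _ _
    obtain ⟨e⟩ := Groth.Agent.Helper2.SepAlg.nonempty_locEquiv
      (Algebra.algebraMapSubmonoid (K₀ ⊗[k] L) (nonZeroDivisors K₀))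
      ((K₀ ⊗[k] L) ⊗[K₀] K) q''
    -- the contraction to `K₀` is zero
    have hbot : Q₀.comap (algebraMap K₀ (K₀ ⊗[k] L)) = ⊥ := by
      rw [eq_bot_iff]
      intro x hx
      rw [Ideal.mem_bot]
      by_contra hne
      have hxM : x ∈ nonZeroDivisors K₀ := mem_nonZeroDivisors_of_ne_zero hne
      have hu : IsUnit (algebraMap (K₀ ⊗[k] L) ((K₀ ⊗[k] L) ⊗[K₀] K)
          (algebraMap K₀ (K₀ ⊗[k] L) x)) :=
        IsLocalization.map_units ((K₀ ⊗[k] L) ⊗[K₀] K)
          (⟨algebraMap K₀ (K₀ ⊗[k] L) x, Algebra.mem_algebraMapSubmonoid_of_mem ⟨x, hxM⟩⟩ :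
            Algebra.algebraMapSubmonoid (K₀ ⊗[k] L) (nonZeroDivisors K₀))
      have hmem : algebraMap (K₀ ⊗[k] L) ((K₀ ⊗[k] L) ⊗[K₀] K)
          (algebraMap K₀ (K₀ ⊗[k] L) x) ∈ q'' := hx
      exact hq''.ne_top (Ideal.eq_top_of_isUnit_mem _ hmem hu)
    haveI : (Q₀.comap (algebraMap K₀ (K₀ ⊗[k] L))).IsPrime := Ideal.comap_isPrime _ _
    have hfield : IsField (Localization.AtPrime (Q₀.comap (algebraMap K₀ (K₀ ⊗[k] L)))) :=
      isField_localization_of_eq_bot _ hbot
    haveI : IsRegularLocalRing (Localization.AtPrime (Q₀.comap (algebraMap K₀ (K₀ ⊗[k] L)))) :=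
      Groth.Agent.Helper2.SmoothDense.isRegularLocalRing_of_isField hfield
    have h1 : Pi1.IsCompleteIntersection
        (Localization.AtPrime (Q₀.comap (algebraMap K₀ (K₀ ⊗[k] L)))) := isCI_of_regular _
    have h2 := (isCI_tensor_field_iff k K₀ L Q₀).mp h1
    haveI : IsNoetherianRing (Localization.AtPrime Q₀) :=
      IsLocalization.isNoetherianRing Q₀.primeCompl _ inferInstance
    haveI : IsNoetherianRing ((K₀ ⊗[k] L) ⊗[K₀] K) :=
      IsLocalization.isNoetherianRing
        (Algebra.algebraMapSubmonoid (K₀ ⊗[k] L) (nonZeroDivisors K₀)) _ inferInstance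
    haveI : IsNoetherianRing (Localization.AtPrime q'') :=
      IsLocalization.isNoetherianRing q''.primeCompl _ inferInstance
    exact isCI_of_ringEquiv e h2
  haveI : IsNoetherianRing ((K₀ ⊗[k] L) ⊗[K₀] K) :=
    IsLocalization.isNoetherianRing
      (Algebra.algebraMapSubmonoid (K₀ ⊗[k] L) (nonZeroDivisors K₀)) _ inferInstance
  let e1 : (K₀ ⊗[k] L) ⊗[K₀] K ≃ₐ[K₀] K ⊗[K₀] (K₀ ⊗[k] L) := Algebra.TensorProduct.comm K₀ _ _
  let e2 : K ⊗[K₀] (K₀ ⊗[k] L) ≃ₐ[K] K ⊗[k] L :=
    Algebra.TensorProduct.cancelBaseChange k K₀ K K L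
  exact allCI_of_ringEquiv (e1.toRingEquiv.trans e2.toRingEquiv) hS'

end fieldext

section ringlevel

variable (R S : Type u) [CommRing R] [CommRing S] [Algebra R S] [IsNoetherianRing R]
  [Algebra.EssFiniteType R S] [Module.Flat R S]

/-- ascent of the complete intersection property to the local rings of a flat algebra essentially
of finite type over a Noetherian ring -/
theorem isCI_localization_of_fibre (Q : Ideal S) [Q.IsPrime]
    [IsLocalRing (EGA4.FibLocRing R S Q)]
    (hR : Pi1.IsCompleteIntersection (Localization.AtPrime (Q.comap (algebraMap R S))))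
    (hfib : Pi1.IsCompleteIntersection (EGA4.FibLocRing R S Q)) :
    Pi1.IsCompleteIntersection (Localization.AtPrime Q) := by
  set p := Q.comap (algebraMap R S) with hp
  haveI : Q.LiesOver p := ⟨rfl⟩
  letI alg := Localization.AtPrime.algebraOfLiesOver p Q
  haveI hloc : IsLocalHom (algebraMap (Localization.AtPrime p) (Localization.AtPrime Q)) :=
    Localization.isLocalHom_localRingHom _ _ _ Ideal.LiesOver.over
  haveI hflR : Module.Flat R (Localization.AtPrime Q) :=
    Module.Flat.trans R S (Localization.AtPrime Q)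
  haveI hfl : Module.Flat (Localization.AtPrime p) (Localization.AtPrime Q) := by
    rw [Module.flat_iff_of_isLocalization (Localization.AtPrime p) p.primeCompl]
    exact hflR
  haveI : Algebra.EssFiniteType R (Localization.AtPrime Q) :=
    Algebra.EssFiniteType.comp R S (Localization.AtPrime Q)
  haveI : Algebra.EssFiniteType (Localization.AtPrime p) (Localization.AtPrime Q) :=
    Algebra.EssFiniteType.of_comp R (Localization.AtPrime p) (Localization.AtPrime Q)
  haveI : IsNoetherianRing (Localization.AtPrime p) :=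
    IsLocalization.isNoetherianRing p.primeCompl _ inferInstance
  have hI : EGA4.mB (Localization.AtPrime p) (Localization.AtPrime Q) =
      p.map (algebraMap R (Localization.AtPrime Q)) := by
    show (IsLocalRing.maximalIdeal (Localization.AtPrime p)).map
      (algebraMap (Localization.AtPrime p) (Localization.AtPrime Q)) = _
    rw [← Localization.AtPrime.map_eq_maximalIdeal, Ideal.map_map, ← IsScalarTower.algebraMap_eq]
  let e : EGA4.FibLocRing R S Q ≃+*
      EGA4.FibRing (Localization.AtPrime p) (Localization.AtPrime Q) :=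
    Ideal.quotEquivOfEq hI.symm
  haveI : IsNoetherianRing (Localization.AtPrime Q) :=
    Algebra.EssFiniteType.isNoetherianRing R _
  have hF : Pi1.IsCompleteIntersection
      (EGA4.FibRing (Localization.AtPrime p) (Localization.AtPrime Q)) :=
    isCI_of_ringEquiv e hfib
  exact ascent_noeth (Localization.AtPrime p) (Localization.AtPrime Q) hR hF

end ringlevel

end Groth.Agent.Helper5.CIGen
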