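import Mathlib
import Groth.Agent.Helper5.CIGen6

/-!
# Local complete intersections and finitely generated field extensions: the main theorem
-/

set_option autoImplicit false
set_option linter.style.haveILetI false
set_option linter.unusedSectionVars false
set_option linter.unusedVariables false
universe u
open IsLocalRing TensorProduct

namespace Groth.Agent.Helper5.CIGen

open Groth.Agent.Helper5.CIAsc Groth.Agent.Helper7.CKd Groth.Agent.Helper5.CIOpen

theorem allCI_tensor (k K₀ K R : Type u) [Field k] [CommRing K₀] [IsDomain K₀]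
    [Algebra k K₀] [Algebra.FiniteType k K₀] [Field K] [Algebra K₀ K] [Algebra k K]
    [IsScalarTower k K₀ K] [IsFractionRing K₀ K] [CommRing R] [Algebra k R] [IsNoetherianRing R]
    (hR : AllCI R) : IsNoetherianRing (R ⊗[k] K) ∧ AllCI (R ⊗[k] K) := by
  haveI : Algebra.EssFiniteType k K := by
    haveI : Algebra.EssFiniteType K₀ K :=
      Algebra.EssFiniteType.of_isLocalization K (nonZeroDivisors K₀)
    exact Algebra.EssFiniteType.comp k K₀ K
  haveI : IsNoetherianRing (R ⊗[k] K) := Algebra.EssFiniteType.isNoetherianRing R (R ⊗[k] K)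
  refine ⟨inferInstance, ?_⟩
  intro P' hP'
  set p := P'.comap (algebraMap R (R ⊗[k] K)) with hp
  haveI : p.IsPrime := Ideal.comap_isPrime _ _
  obtain ⟨Q', hQ'p, hQ'c, ⟨ε⟩⟩ := exists_fibre_prime R (R ⊗[k] K) P'
  haveI := hQ'p
  haveI : IsLocalRing (EGA4.FibLocRing R (R ⊗[k] K) P') := ε.isLocalRing
  -- the fibre ring
  haveI : IsNoetherianRing (p.ResidueField ⊗[k] K) :=
    Algebra.EssFiniteType.isNoetherianRing p.ResidueField _
  haveI : IsNoetherianRing (K ⊗[k] p.ResidueField) :=
    isNoetherianRing_of_ringEquiv _ (Algebra.TensorProduct.comm k p.ResidueField K).toRingEquiv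
  have hfibre : AllCI (p.Fiber (R ⊗[k] K)) := by
    have h1 : AllCI (K ⊗[k] p.ResidueField) := allCI_tensor_fractionRing k K₀ K p.ResidueField
    let e1 : p.Fiber (R ⊗[k] K) ≃ₐ[p.ResidueField] p.ResidueField ⊗[k] K :=
      Algebra.TensorProduct.cancelBaseChange k R p.ResidueField p.ResidueField K
    let e2 : p.ResidueField ⊗[k] K ≃ₐ[k] K ⊗[k] p.ResidueField :=
      Algebra.TensorProduct.comm k _ _
    exact allCI_of_ringEquiv (e1.toRingEquiv.trans e2.toRingEquiv).symm h1
  have hQ' : Pi1.IsCompleteIntersection (Localization.AtPrime Q') := hfibre Q'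
  haveI : IsNoetherianRing (p.Fiber (R ⊗[k] K)) :=
    isNoetherianRing_of_ringEquiv _
      ((Algebra.TensorProduct.cancelBaseChange k R p.ResidueField p.ResidueField K).toRingEquiv).symm
  haveI : IsNoetherianRing (Localization.AtPrime Q') :=
    IsLocalization.isNoetherianRing Q'.primeCompl _ inferInstance
  haveI : IsNoetherianRing (EGA4.FibLocRing R (R ⊗[k] K) P') :=
    isNoetherianRing_of_ringEquiv _ ε
  have hfib : Pi1.IsCompleteIntersection (EGA4.FibLocRing R (R ⊗[k] K) P') :=
    isCI_of_ringEquiv ε hQ'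
  exact isCI_localization_of_fibre R (R ⊗[k] K) P' (hR p) hfib

/-- S8950 -/
theorem s8950 (k K R : Type u) [Field k] [Field K] [Algebra k K]
    (hK : ∃ s : Finset K, IntermediateField.adjoin k (s : Set K) = ⊤) [CommRing R] [Algebra k R]
    [IsNoetherianRing R]
    (hR : ∀ (p : Ideal R) [p.IsPrime], Pi1.IsCompleteIntersection (Localization.AtPrime p)) :
    IsNoetherianRing (K ⊗[k] R) ∧ ∀ (P : Ideal (K ⊗[k] R)) [P.IsPrime],
      Pi1.IsCompleteIntersection (Localization.AtPrime P) := by
  obtain ⟨s, hs⟩ := hK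
  haveI : Algebra.FiniteType k (Algebra.adjoin k (s : Set K)) :=
    .adjoin_of_finite s.finite_toSet
  haveI : IsFractionRing (Algebra.adjoin k (s : Set K)) K := by
    refine IsFractionRing.of_field _ _ (fun z => ?_)
    have hz : z ∈ IntermediateField.adjoin k (s : Set K) := by rw [hs]; trivial
    obtain ⟨x, hx, y, hy, heq⟩ := IntermediateField.mem_adjoin_iff_div.mp hz
    exact ⟨⟨x, hx⟩, ⟨y, hy⟩, heq⟩
  obtain ⟨h1, h2⟩ := allCI_tensor k (Algebra.adjoin k (s : Set K)) K R hR
  haveI := h1
  let e : R ⊗[k] K ≃+* K ⊗[k] R := (Algebra.TensorProduct.comm k R K).toRingEquiv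
  exact ⟨isNoetherianRing_of_ringEquiv _ e, allCI_of_ringEquiv e h2⟩

end Groth.Agent.Helper5.CIGen
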