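import Mathlib
import Groth.Agent.Helper5.CIOpen2
import Groth.Agent.Helper7.CKO11

/-!
# Base change of the complete intersection locus of the fibres
-/

set_option autoImplicit false
set_option linter.style.haveILetI false
set_option linter.unusedSectionVars false
set_option linter.unusedVariables false
universe u
open IsLocalRing AlgebraicGeometry CategoryTheory CategoryTheory.Limits TensorProduct

namespace Groth.Agent.Helper5.CIOpen

open Groth.Agent.Helper5.CIP Groth.Agent.Helper7.CKd

section eft

variable (K : CommRingCat.{u}) (hK : IsField K) {Z : Scheme.{u}} (φ : Z ⟶ Spec K)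
  [LocallyOfFiniteType φ] (z : Z)

include hK in
theorem germ_top_surjective (t : ↥(Spec K)) :
    Function.Surjective (((Scheme.ΓSpecIso K).inv ≫ (Spec K).presheaf.germ ⊤ t trivial).hom) := by
  intro w
  obtain ⟨U, ht, σ, rfl⟩ := TopCat.Presheaf.exists_germ_eq (Spec K).presheaf w
  have hbot : ∀ q : PrimeSpectrum K, q.asIdeal = ⊥ := by
    intro q
    rw [eq_bot_iff]; intro x hx; by_contra hne
    obtain ⟨y, hy⟩ := hK.mul_inv_cancel hne
    exact q.2.ne_top ((Ideal.eq_top_iff_one _).mpr (hy ▸ q.asIdeal.mul_mem_right y hx))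
  haveI : Subsingleton ↥(Spec K) :=
    ⟨fun a b => PrimeSpectrum.ext ((hbot a).trans (hbot b).symm)⟩
  have hU : U = ⊤ := by
    ext x
    simp only [TopologicalSpace.Opens.coe_top, Set.mem_univ, iff_true]
    rw [Subsingleton.elim x t]
    exact ht
  subst hU
  refine ⟨(Scheme.ΓSpecIso K).hom.hom σ, ?_⟩
  show ((Spec K).presheaf.germ ⊤ t trivial).hom
    ((Scheme.ΓSpecIso K).inv.hom ((Scheme.ΓSpecIso K).hom.hom σ)) = _
  have : (Scheme.ΓSpecIso K).inv.hom ((Scheme.ΓSpecIso K).hom.hom σ) = σ := by
    rw [← RingHom.comp_apply, ← CommRingCat.hom_comp, Iso.hom_inv_id]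
    rfl
  rw [this]

include hK in
/-- the local rings of a scheme locally of finite type over a field are essentially of finite
type over it, for the structure through global sections -/
theorem essFiniteType_stalk_of_field :
    ((Scheme.ΓSpecIso K).inv ≫ φ.appLE ⊤ ⊤ le_top ≫ Z.presheaf.germ ⊤ z trivial).hom.EssFiniteType := by
  have h1 : (Scheme.ΓSpecIso K).inv ≫ φ.appLE ⊤ ⊤ le_top ≫ Z.presheaf.germ ⊤ z trivial =
      ((Scheme.ΓSpecIso K).inv ≫ (Spec K).presheaf.germ ⊤ (φ z) trivial) ≫ φ.stalkMap z := by
    rw [Category.assoc, Scheme.Hom.germ_stalkMap φ ⊤ z trivial]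
    simp only [Scheme.Hom.appLE, Category.assoc, TopCat.Presheaf.germ_res]
  rw [h1, CommRingCat.hom_comp]
  refine RingHom.EssFiniteType.comp ?_ (LocallyOfFiniteType.stalkMap φ z)
  exact RingHom.FiniteType.essFiniteType
    (RingHom.FiniteType.of_surjective _ (germ_top_surjective K hK (φ z)))

end eft

section bridge

variable {X S : Scheme.{u}} (f : X ⟶ S) [LocallyOfFiniteType f]

/-- the complete intersection property over the residue field of the local ring of the fibre
is the absolute one -/
theorem isCIOver_fibre_iff (x : X) :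
    (letI := ((Scheme.ΓSpecIso (S.residueField (f.base x))).inv ≫
            (f.fiberToSpecResidueField (f.base x)).appLE ⊤ ⊤ le_top ≫
              (f.fiber (f.base x)).presheaf.germ ⊤ (f.asFiber x) trivial).hom.toAlgebra;
        Synt.IsCIOver (S.residueField (f.base x))
          ((f.fiber (f.base x)).presheaf.stalk (f.asFiber x))) ↔
      Pi1.IsCompleteIntersection (CInt.fiberStalk f x) := by
  haveI : LocallyOfFiniteType (f.fiberToSpecResidueField (f.base x)) :=
    inferInstanceAs (LocallyOfFiniteType (Limits.pullback.snd f (S.fromSpecResidueField (f.base x))))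
  letI alg : Algebra (S.residueField (f.base x))
      ((f.fiber (f.base x)).presheaf.stalk (f.asFiber x)) :=
    ((Scheme.ΓSpecIso (S.residueField (f.base x))).inv ≫
            (f.fiberToSpecResidueField (f.base x)).appLE ⊤ ⊤ le_top ≫
              (f.fiber (f.base x)).presheaf.germ ⊤ (f.asFiber x) trivial).hom.toAlgebra
  haveI : Algebra.EssFiniteType (S.residueField (f.base x))
      ((f.fiber (f.base x)).presheaf.stalk (f.asFiber x)) :=
    essFiniteType_stalk_of_field (S.residueField (f.base x)) (Field.toIsField _)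
      (f.fiberToSpecResidueField (f.base x)) (f.asFiber x)
  exact isCIOver_iff_isCI (S.residueField (f.base x))
    ((f.fiber (f.base x)).presheaf.stalk (f.asFiber x))

/-- S9379 -/
theorem setOf_fibre_isCIOver_baseChange {X' S' : Scheme.{u}} (g : S' ⟶ S)
    (g' : X' ⟶ X) (f' : X' ⟶ S') (hsq : IsPullback g' f' f g) :
    {x' : ↑X' |
        letI := ((Scheme.ΓSpecIso (S'.residueField (f'.base x'))).inv ≫
            (f'.fiberToSpecResidueField (f'.base x')).appLE ⊤ ⊤ le_top ≫
              (f'.fiber (f'.base x')).presheaf.germ ⊤ (f'.asFiber x') trivial).hom.toAlgebra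
        Synt.IsCIOver (S'.residueField (f'.base x')) ((f'.fiber (f'.base x')).presheaf.stalk (f'.asFiber x'))} =
      g'.base ⁻¹' {x : ↑X |
        letI := ((Scheme.ΓSpecIso (S.residueField (f.base x))).inv ≫
            (f.fiberToSpecResidueField (f.base x)).appLE ⊤ ⊤ le_top ≫
              (f.fiber (f.base x)).presheaf.germ ⊤ (f.asFiber x) trivial).hom.toAlgebra
        Synt.IsCIOver (S.residueField (f.base x)) ((f.fiber (f.base x)).presheaf.stalk (f.asFiber x))} := by
  haveI : LocallyOfFiniteType f' := MorphismProperty.of_isPullback hsq inferInstance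
  ext x'
  simp only [Set.mem_setOf_eq, Set.mem_preimage]
  rw [isCIOver_fibre_iff f' x', isCIOver_fibre_iff f (g'.base x')]
  exact ci_fibre_baseChange_iff f f' g' g hsq x'

end bridge

end Groth.Agent.Helper5.CIOpen
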