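import Mathlib
import Groth.Agent.Helper5.CIOpen2
import Groth.Agent.Helper5.LciS7

/-!
# lci in the factorisation sense = complete intersection morphism (flat lfp case)
-/

set_option autoImplicit false
set_option linter.style.haveILetI false
set_option linter.unusedSectionVars false
set_option linter.unusedVariables false
universe u
open IsLocalRing AlgebraicGeometry CategoryTheory CategoryTheory.Limits TensorProduct

namespace Groth.Agent.Helper5.CIOpen

variable {X Y : Scheme.{u}} (f : X ⟶ Y)

/-- for a flat lfp morphism: syntomic iff complete-intersection morphism -/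
theorem isSyntomicMor_iff_isCIMorphism [Flat f] [LocallyOfFinitePresentation f] :
    Synt.IsSyntomicMor f ↔ CInt.IsCIMorphism f := by
  constructor
  · intro h
    refine ⟨inferInstance, inferInstance, fun x => ?_⟩
    obtain ⟨U, V, e, hx, hsynt⟩ := h x
    exact isCI_of_isSyntomic_chart f x U V e hx hsynt
  · rintro ⟨-, -, h⟩ x
    exact isSyntomicAt_of_isCI f x (h x)

theorem s8660 [Flat f] [LocallyOfFinitePresentation f] :
    (∀ x : X, Synt.IsKoszulAt f x) ↔ CInt.IsCIMorphism f := by
  rw [← isSyntomicMor_iff_isCIMorphism, ← Groth.Agent.Helper5.LciS.s9758 f]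
  exact ⟨fun h => ⟨inferInstance, h⟩, fun h => h.2⟩

end Groth.Agent.Helper5.CIOpen
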