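import Mathlib
import Groth.Agent.Helper5.CMAff5
import Groth.Agent.Helper5.FlatRelDim

set_option autoImplicit false
set_option linter.style.haveILetI false
set_option linter.unusedSectionVars false
universe u
open CategoryTheory CategoryTheory.Limits AlgebraicGeometry TopologicalSpace Topology

namespace Groth.Agent.Helper5.CMAff

/-- S1344 -/
theorem s1344 {X Y : Scheme.{u}} (f : X ⟶ Y) [IsLocallyNoetherian X] [IsLocallyNoetherian Y]
    [LocallyOfFiniteType f]
    (hf : ∀ x : X, MoreMor.IsCMAt f x) (x : X) :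
    FlatMor.localDim ↑X x = FlatMor.localDim ↑Y (f x) + FlatMor.fibreDimAt f x := by
  haveI : LocallyOfFinitePresentation f := Groth.Agent.Helper2.ArtSch.lfp_of_lft_noeth f
  haveI : Flat f := by
    rw [Flat.iff_flat_stalkMap]
    exact fun t => (hf t).1
  obtain ⟨d, hd⟩ := Groth.Agent.Helper5.SubDim.fibreDimAt_nat f x
  have hlc := s9374 f hf
  rw [IsLocallyConstant.iff_exists_open] at hlc
  obtain ⟨U₀, hU₀, hxU₀, hconst⟩ := hlc x
  let U : X.Opens := ⟨U₀, hU₀⟩
  let w : ↥(U : Scheme.{u}) := ⟨x, hxU₀⟩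
  have h1 := Groth.Agent.Helper5.FlatRelDim.localDim_eq_add (U.ι ≫ f) d (fun u' => by
    rw [Groth.Agent.Helper5.EqAt.fibreDimAt_open_restrict f U u']
    exact (hconst _ u'.2).trans hd) w
  have h2 : FlatMor.localDim ↥(U : Scheme.{u}) w = FlatMor.localDim ↑X (U.ι w) :=
    Groth.Agent.Helper5.EtDim.localDim_eq_of_etale U.ι w
  rw [hd]
  have h3 : FlatMor.localDim ↑X x = FlatMor.localDim ↥(U : Scheme.{u}) w := h2.symm
  rw [h3, h1]
  rfl

end Groth.Agent.Helper5.CMAff
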