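import Groth.Agent.Helper5.NoeStalk1

set_option autoImplicit false
universe u
open AlgebraicGeometry CategoryTheory CategoryTheory.Limits TopologicalSpace

namespace Groth.Agent.Helper5.NoeStalk

/-- Common set-up for S1553/S1554. -/
theorem key {X Y : Scheme.{u}} (f : X ⟶ Y) [LocallyOfFiniteType f]
    (x : X) [IsNoetherianRing (Y.presheaf.stalk (f x))] :
    ∃ (z ξ : X) (a c tz n : ℕ), f z = f x ∧ z ⤳ x ∧
      closure ({ξ} : Set X) ∈ irreducibleComponents X ∧ ξ ⤳ z ∧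
      (ξ ≠ z → 1 ≤ a) ∧ (ξ = z → tz = n) ∧ ringKrullDim (Y.presheaf.stalk (f x)) = c ∧
      FlatMor.fibreDimAt f x = (tz : WithBot ℕ∞) ∧ FlatMor.fibreDimAt f ξ = (n : WithBot ℕ∞) ∧
      a + tz ≤ c + n := by
  obtain ⟨z, hfz, hzx, hzmax, hfdz, tz, htz, hfdz'⟩ :=
    Groth.Agent.Helper5.OpenAt.exists_max_generization_fibreDimAt_eq f x
  have hN : IsNoetherianRing (Y.presheaf.stalk (f z)) := by rw [hfz]; infer_instance
  obtain ⟨ξ, a, c, hcomp, hξz, ha, hc, hineq⟩ := dimension_inequality_of_noetherian_stalk f z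
  have hmaxξ : ∀ w : X, f w = f ξ → w ⤳ ξ → w = ξ := fun w _ hw =>
    Groth.Agent.Helper5.EqAt.max_of_closure_mem_irreducibleComponents ξ hcomp w hw
  obtain ⟨n, hn1, hn2⟩ := Groth.Agent.Helper5.MaxPt.fibreDimAt_of_maximal f ξ
    (Groth.Agent.Helper5.MaxPt.coheight_asFiber_eq_zero f ξ hmaxξ)
  refine ⟨z, ξ, a, c, tz, n, hfz, hzx, hcomp, hξz, ha, ?_, ?_, ?_, hn2, ?_⟩
  · intro h
    subst h
    have := htz.symm.trans hn1
    exact_mod_cast this
  · rw [← hfz]; exact hc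
  · rw [← hfdz, hfdz']
  · have h1 : (a : Cardinal.{u}) + (tz : Cardinal.{u}) ≤ (c : Cardinal.{u}) + (n : Cardinal.{u}) := by
      have := hineq
      unfold Dual3.resTrdeg at this
      rw [htz, hn1] at this
      exact this
    exact_mod_cast h1

theorem s1553 {X Y : Scheme.{u}} (f : X ⟶ Y) [LocallyOfFiniteType f]
    (x : X) [IsNoetherianRing (Y.presheaf.stalk (f.base x))] (d : ℕ)
    (hgen : ∀ Z ∈ irreducibleComponents (X : Type u), x ∈ Z → ∀ η : X, IsGenericPoint η Z →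
      f.base η ≠ f.base x ∧ FlatMor.fibreDimAt f η = d) :
    FlatMor.fibreDimAt f x + 1 ≤ (d : WithBot ℕ∞) + ringKrullDim (Y.presheaf.stalk (f.base x)) := by
  obtain ⟨z, ξ, a, c, tz, n, hfz, hzx, hcomp, hξz, ha, -, hc, hfd, hfdξ, hineq⟩ := key f x
  have hxmem : x ∈ closure ({ξ} : Set X) := (hξz.trans hzx).mem_closure
  obtain ⟨hne, hd⟩ := hgen _ hcomp hxmem ξ rfl
  have hξne : ξ ≠ z := fun h => hne (by rw [h]; exact hfz)
  have ha1 := ha hξne
  have hnd : n = d := by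
    have := hfdξ.symm.trans hd
    exact_mod_cast this
  rw [hfd, hc]
  have : tz + 1 ≤ d + c := by omega
  exact_mod_cast this

theorem s1554 {X Y : Scheme.{u}} (f : X ⟶ Y) [LocallyOfFiniteType f]
    (x : X) [IsNoetherianRing (Y.presheaf.stalk (f.base x))] (hdimY : ringKrullDim (Y.presheaf.stalk (f.base x)) ≤ 1) (d : ℕ)
    (hgen : ∀ Z ∈ irreducibleComponents (X : Type u), x ∈ Z → ∀ η : X, IsGenericPoint η Z → FlatMor.fibreDimAt f η = d) :
    FlatMor.fibreDimAt f x = d := by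
  obtain ⟨z, ξ, a, c, tz, n, hfz, hzx, hcomp, hξz, ha, hez, hc, hfd, hfdξ, hineq⟩ := key f x
  have hxmem : x ∈ closure ({ξ} : Set X) := (hξz.trans hzx).mem_closure
  have hd := hgen _ hcomp hxmem ξ rfl
  have hnd : n = d := by
    have := hfdξ.symm.trans hd
    exact_mod_cast this
  have hc1 : c ≤ 1 := by
    rw [hc] at hdimY
    exact_mod_cast hdimY
  apply le_antisymm
  · rw [hfd]
    by_cases h : ξ = z
    · have := hez h
      have : tz ≤ d := by omega
      exact_mod_cast this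
    · have := ha h
      have : tz ≤ d := by omega
      exact_mod_cast this
  · rw [← hd]
    exact Groth.Agent.Helper5.MaxPt.fibreDimAt_le_of_specializes f ξ x (hξz.trans hzx)

end Groth.Agent.Helper5.NoeStalk
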