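import Groth.Agent.Helper5.KLem11
import Groth.Agent.Helper5.KLem10
import Groth.Agent.Helper5.NoeStalk2

set_option autoImplicit false
universe u

namespace Groth.Agent.Helper5.GenComp

open CategoryTheory CategoryTheory.Limits AlgebraicGeometry TopologicalSpace Topology
open Groth.Agent.Helper5.PtOpen Groth.Agent.Helper5.GenDim Groth.Agent.Helper5.KLem

/-- irreducible components correspond under a homeomorphism -/
theorem preimage_mem_irreducibleComponents {A B : Type*} [TopologicalSpace A] [TopologicalSpace B]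
    (e : A ≃ₜ B) (T : Set B) (hT : T ∈ irreducibleComponents B) :
    e ⁻¹' T ∈ irreducibleComponents A := by
  have himg : e.symm '' T = e ⁻¹' T := e.symm.image_eq_preimage_symm T
  refine ⟨?_, ?_⟩
  · rw [← himg]
    exact hT.1.image e.symm e.symm.continuous.continuousOn
  · intro Z' hZ' hsub
    have h1 : T ⊆ e '' Z' := by
      intro t ht
      refine ⟨e.symm t, hsub ?_, e.apply_symm_apply t⟩
      show e (e.symm t) ∈ T
      rw [e.apply_symm_apply]; exact ht
    have h2 : e '' Z' ⊆ T := hT.2 (hZ'.image e e.continuous.continuousOn) h1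
    intro z hz
    exact h2 ⟨z, hz, rfl⟩

/-- the dimension of an irreducible component of a set-theoretic fibre is one of the component
dimensions of the scheme-theoretic fibre -/
theorem dim_mem_compDims {X Y : Scheme.{u}} (f : X ⟶ Y) (s : Y) (T : Set ↥(f ⁻¹' {s}))
    (hT : T ∈ irreducibleComponents ↥(f ⁻¹' {s})) :
    topologicalKrullDim ↥T ∈ compDims f s := by
  let j := f.fiberι s
  have hemb : Topology.IsEmbedding j := j.isEmbedding
  have hrange : Set.range j = f ⁻¹' {s} := f.range_fiberι s
  let e : ↥(f.fiber s) ≃ₜ ↥(f ⁻¹' {s}) :=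
    hemb.toHomeomorph.trans (Homeomorph.setCongr hrange)
  refine ⟨e ⁻¹' T, preimage_mem_irreducibleComponents e T hT, ?_⟩
  exact Groth.Agent.Helper5.FtDim.dim_preimage_of_isHomeomorph e e.isHomeomorph T

/-- points of a fibre that are maximal in it compute component dimensions via `fibreDimAt` -/
theorem exists_point_of_mem_compDims {X Y : Scheme.{u}} (f : X ⟶ Y) [LocallyOfFiniteType f]
    (s : Y) (d : WithBot ℕ∞) (hd : d ∈ compDims f s) :
    ∃ x : X, f x = s ∧ FlatMor.fibreDimAt f x = d := by
  obtain ⟨x, hx, hmax, n, hn, rfl⟩ := (mem_compDims_iff f s d).mp hd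
  have hmax' : ∀ w : X, f w = f x → w ⤳ x → w = x := fun w hw => hmax w (hw.trans hx)
  obtain ⟨n', hn'1, hn'2⟩ := Groth.Agent.Helper5.MaxPt.fibreDimAt_of_maximal f x
    (Groth.Agent.Helper5.MaxPt.coheight_asFiber_eq_zero f x hmax')
  refine ⟨x, hx, ?_⟩
  rw [hn'2]
  have h3 : Dual3.resTrdeg f x = (n' : Cardinal.{u}) := hn'1
  rw [hn] at h3
  have : n = n' := by exact_mod_cast h3
  rw [this]

/-- the local fibre dimension at the generic point of an irreducible source is the dimension of
its fibre -/
theorem fibreDimAt_genericPoint {X Y : Scheme.{u}} (f : X ⟶ Y) [LocallyOfFiniteType f]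
    [IrreducibleSpace X] :
    FlatMor.fibreDimAt f (genericPoint X) =
      topologicalKrullDim ↥(f ⁻¹' {f (genericPoint X)}) := by
  let ξ := genericPoint X
  have hξ : closure ({ξ} : Set X) = Set.univ := (genericPoint_spec X).def
  have hmax : ∀ w : X, f w = f ξ → w ⤳ ξ → w = ξ := by
    intro w _ hw
    have h2 : ξ ⤳ w := by
      rw [specializes_iff_mem_closure, hξ]; exact Set.mem_univ _
    exact (hw.antisymm h2).eq
  obtain ⟨n', hn'1, hn'2⟩ := Groth.Agent.Helper5.MaxPt.fibreDimAt_of_maximal f ξ
    (Groth.Agent.Helper5.MaxPt.coheight_asFiber_eq_zero f ξ hmax)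
  obtain ⟨n, hn1, hn2⟩ := dim_fibre_closure_point f ξ
  rw [hξ, Set.inter_univ] at hn2
  show FlatMor.fibreDimAt f ξ = topologicalKrullDim ↥(f ⁻¹' {f ξ})
  rw [hn'2, hn2]
  have h3 : Dual3.resTrdeg f ξ = (n' : Cardinal.{u}) := hn'1
  rw [hn1] at h3
  have : n = n' := by exact_mod_cast h3
  rw [this]

theorem map_genericPoint {X Y : Scheme.{u}} (f : X ⟶ Y) [IrreducibleSpace X] [IrreducibleSpace Y]
    (hf : DenseRange f) : f (genericPoint X) = genericPoint Y := by
  have h1 : IsGenericPoint (f (genericPoint X)) (closure (f '' Set.univ)) :=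
    (genericPoint_spec X).image f.continuous
  rw [Set.image_univ, hf.closure_range] at h1
  exact h1.eq (genericPoint_spec Y)

theorem s4781 {X S : Scheme.{u}} (f : X ⟶ S)
    [IsNoetherian S] [IrreducibleSpace S] [IrreducibleSpace X] [IsDominant f]
    [LocallyOfFiniteType f] [QuasiCompact f] :
    ∃ U : S.Opens, genericPoint S ∈ U ∧ ∀ s ∈ U, ∀ T ∈ irreducibleComponents ↥(⇑f ⁻¹' {s}),
      topologicalKrullDim ↥T = topologicalKrullDim ↥(⇑f ⁻¹' {genericPoint S}) := by
  have hfp : LocallyOfFinitePresentation f :=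
    LocallyOfFinitePresentation.iff_locallyOfFiniteType.mpr inferInstance
  have hX : IsLocallyNoetherian X := LocallyOfFiniteType.isLocallyNoetherian f
  let η := genericPoint S
  let ξ := genericPoint X
  have hfξ : f ξ = η := map_genericPoint f f.denseRange
  have hηmax : ∀ η' : S, η' ⤳ η → η' = η := by
    intro η' h
    have h2 : η ⤳ η' := by
      rw [specializes_iff_mem_closure, (genericPoint_spec S).def]; exact Set.mem_univ _
    exact (h.antisymm h2).eq
  let D := topologicalKrullDim ↥(f ⁻¹' {η})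
  have hξD : FlatMor.fibreDimAt f ξ = D := by
    have := fibreDimAt_genericPoint f
    rw [this]
    show topologicalKrullDim ↥(f ⁻¹' {f ξ}) = topologicalKrullDim ↥(f ⁻¹' {η})
    rw [hfξ]
  let Tset : Set X := {x | FlatMor.fibreDimAt f x ≤ D}ᶜ
  have hT : IsClosed Tset :=
    (Groth.Agent.Helper5.FibDim.isOpen_fibreDimAt_le f D).isClosed_compl
  have hfT : IsLocallyConstructible (f '' Tset) :=
    f.isLocallyConstructible_image (isLocallyConstructible_of_isClosed Tset hT)
  have hηT : η ∉ f '' Tset := by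
    rintro ⟨x, hx, hfx⟩
    apply hx
    have := fibreDimAt_le_dim f x
    rw [hfx] at this
    exact this
  have hupper : (f '' Tset)ᶜ ∈ nhds η := by
    refine mem_nhds_of_isLocallyConstructible _ (isLocallyConstructible_compl hfT) η ?_
    intro t ht
    rw [hηmax t ht]
    exact hηT
  obtain ⟨U, hUsub, hUopen, hηU⟩ := mem_nhds_iff.mp hupper
  refine ⟨⟨U, hUopen⟩, hηU, ?_⟩
  intro s hs T hTc
  obtain ⟨x, hx, hxd⟩ := exists_point_of_mem_compDims f s _ (dim_mem_compDims f s T hTc)
  rw [← hxd]
  apply le_antisymm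
  · by_contra hcon
    exact hUsub hs ⟨x, hcon, hx⟩
  · show D ≤ FlatMor.fibreDimAt f x
    rw [← hξD]
    refine Groth.Agent.Helper5.MaxPt.fibreDimAt_le_of_specializes f ξ x ?_
    rw [specializes_iff_mem_closure, (genericPoint_spec X).def]; exact Set.mem_univ _

end Groth.Agent.Helper5.GenComp
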