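import Mathlib
import Groth.Agent.Helper5.CMFib2
import Groth.Agent.Helper5.VarDim11
import Groth.Agent.Helper5.VarDim9
import Groth.Agent.Helper5.GenComp1
import Groth.Agent.Helper5.SubDim2

set_option autoImplicit false
set_option linter.style.haveILetI false
universe u
open CategoryTheory CategoryTheory.Limits AlgebraicGeometry TopologicalSpace Topology

namespace Groth.Agent.Helper5.CMFib

open Groth.Agent.Helper5.VarDim

/-- components of the scheme-theoretic fibre from components of the set-theoretic fibre -/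
theorem fibre_components_dim {X Y : Scheme.{u}} (f : X ⟶ Y) (y : Y) (c : WithBot ℕ∞)
    (hfib : ∀ Z ∈ irreducibleComponents (f.base ⁻¹' {y}), topologicalKrullDim Z = c) :
    ∀ Z ∈ irreducibleComponents (f.fiber y), topologicalKrullDim ↥Z = c := by
  intro Z hZ
  let j := f.fiberι y
  have hemb : Topology.IsEmbedding j := j.isEmbedding
  have hrange : Set.range j = f ⁻¹' {y} := f.range_fiberι y
  let e : ↥(f.fiber y) ≃ₜ ↥(f ⁻¹' {y}) :=
    hemb.toHomeomorph.trans (Homeomorph.setCongr hrange)
  have h1 := Groth.Agent.Helper5.GenComp.preimage_mem_irreducibleComponents e.symm Z hZ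
  have h2 := Groth.Agent.Helper5.FtDim.dim_preimage_of_isHomeomorph e.symm e.symm.isHomeomorph Z
  rw [← h2]
  exact hfib _ h1

set_option maxHeartbeats 1000000 in
/-- S10882 -/
theorem s10882 (k : Type u) [Field k] {X Y : Scheme.{u}}
    (q : Y ⟶ Spec (CommRingCat.of k)) [LocallyOfFiniteType q] (f : X ⟶ Y) [LocallyOfFiniteType (f ≫ q)]
    (hY : ∀ y : Y, IsRegularLocalRing (Y.presheaf.stalk y))
    (hX : ∀ x : X, LocCoh.IsCohenMacaulayLocalRing (X.presheaf.stalk x))
    (e d : ℕ) (hde : d ≤ e)
    (hXe : ∀ Z ∈ irreducibleComponents (X : Type u), topologicalKrullDim Z = e)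
    (hYd : ∀ Z ∈ irreducibleComponents (Y : Type u), topologicalKrullDim Z = d)
    (hfib : ∀ y : Y, ∀ Z ∈ irreducibleComponents (f.base ⁻¹' {y}), topologicalKrullDim Z = (e - d : ℕ)) :
    Flat f := by
  have hflft : LocallyOfFiniteType f := locallyOfFiniteType_of_comp f q
  have hXN : IsLocallyNoetherian X := LocallyOfFiniteType.isLocallyNoetherian (f ≫ q)
  have hYN : IsLocallyNoetherian Y := LocallyOfFiniteType.isLocallyNoetherian q
  rw [Flat.iff_flat_stalkMap]
  intro x
  have hlX : FlatMor.localDim X x = (e : WithBot ℕ∞) :=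
    localDim_eq_of_components k (f ≫ q) (e : WithBot ℕ∞) hXe x
  have hlY : FlatMor.localDim Y (f x) = (d : WithBot ℕ∞) :=
    localDim_eq_of_components k q (d : WithBot ℕ∞) hYd (f x)
  have hft : LocallyOfFiniteType (f.fiberToSpecResidueField (f x)) :=
    inferInstanceAs (LocallyOfFiniteType (Limits.pullback.snd f (Y.fromSpecResidueField (f x))))
  have hlF : FlatMor.localDim ↥(f.fiber (f x)) (f.asFiber x) = ((e - d : ℕ) : WithBot ℕ∞) :=
    localDim_eq_of_components (Y.residueField (f x)) (f.fiberToSpecResidueField (f x))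
      ((e - d : ℕ) : WithBot ℕ∞) (fibre_components_dim f (f x) _ (hfib (f x))) (f.asFiber x)
  obtain ⟨nX, hX1, hX2, -⟩ := localDim_formula k (f ≫ q) x
  obtain ⟨nY, hY1, hY2, -⟩ := localDim_formula k q (f x)
  obtain ⟨nF, hF1, hF2, -⟩ := localDim_formula (Y.residueField (f x))
    (f.fiberToSpecResidueField (f x)) (f.asFiber x)
  rw [trdeg_fiber f x] at hF1
  have htower := trdeg_tower k f q x
  rw [hX1, hY1, hF1] at htower
  have hnat : nX = nY + nF := by exact_mod_cast htower
  haveI hFN : IsLocallyNoetherian (f.fiber (f x)) :=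
    LocallyOfFiniteType.isLocallyNoetherian (f.fiberToSpecResidueField (f x))
  obtain ⟨a, ha, -⟩ := Groth.Agent.Helper5.SubDim.ringKrullDim_stalk_nat X x
  obtain ⟨b, hb, -⟩ := Groth.Agent.Helper5.SubDim.ringKrullDim_stalk_nat Y (f x)
  obtain ⟨c, hc, -⟩ := Groth.Agent.Helper5.SubDim.ringKrullDim_stalk_nat (f.fiber (f x))
    (f.asFiber x)
  rw [hlX, ha] at hX2
  rw [hlY, hb] at hY2
  rw [hlF, hc] at hF2
  have e1 : e = a + nX := by exact_mod_cast hX2
  have e2 : d = b + nY := by exact_mod_cast hY2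
  have e3 : e - d = c + nF := by exact_mod_cast hF2
  have hdim : ringKrullDim (X.presheaf.stalk x) =
      ringKrullDim (Y.presheaf.stalk (f.base x)) +
        ringKrullDim ((f.fiber (f.base x)).presheaf.stalk (f.asFiber x)) := by
    rw [ha, hb, hc]
    have : a = b + c := by omega
    rw [this]
    push_cast
    rfl
  exact ((s3440 f x (hY (f x)) (hX x)).out 4 1).1 hdim

end Groth.Agent.Helper5.CMFib
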