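import Mathlib
import Groth.Agent.Helper5.CMSrc1

set_option autoImplicit false
set_option linter.style.haveILetI false
set_option linter.unusedSectionVars false
universe u
open CategoryTheory CategoryTheory.Limits AlgebraicGeometry TopologicalSpace Topology

namespace Groth.Agent.Helper5.CMSrc

open Groth.Agent.Helper5.CMFib Groth.Agent.Helper5.CMAff Groth.Agent.Helper5.ConsPr
  Groth.Agent.Helper5.ConsLc Groth.Agent.Helper5.FlatCons Groth.Agent.Helper5.CMCons
  Groth.Agent.Helper5.SmCons

/-- the relation "the target is Cohen–Macaulay at all points of the image" -/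
abbrev PCMsrc : ∀ ⦃X Y T : Scheme.{u}⦄, (X ⟶ Y) → (Y ⟶ T) → Prop :=
  fun X Y _ f _ => ∀ x : X, LocCoh.IsCohenMacaulayLocalRing (Y.presheaf.stalk (f x))

theorem isFieldStableMor_PCMsrc : ConsProp.IsFieldStableMor (PCMsrc.{u}) := by
  intro X X' Y Y' T T' f g f' g' eX eY h _ _ _ _ _ _ _ _ sqY sqX
  haveI : IsNoetherian T := Groth.Agent.Helper5.ImmCons.isNoetherian_of_onePoint T
  haveI : LocallyOfFinitePresentation g :=
    LocallyOfFinitePresentation.iff_locallyOfFiniteType.mpr inferInstance
  have hcomm : ∀ x' : X', eY (f' x') = f (eX x') := by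
    intro x'
    have h2 := congrArg (fun φ : X' ⟶ Y => φ x') sqX.w
    simp only [Scheme.Hom.comp_apply] at h2
    exact h2.symm
  constructor
  · intro H x'
    rw [← isCMAt_iff_of_onePoint g' (f' x')]
    refine isCMAt_baseChange g g' eY h sqY (f' x') ?_
    rw [isCMAt_iff_of_onePoint g (eY (f' x')), hcomm]
    exact H _
  · intro H x
    haveI : Surjective h := surjective_of_subsingleton h
    haveI : Surjective eY := MorphismProperty.of_isPullback sqY.flip inferInstance
    haveI : Surjective eX := MorphismProperty.of_isPullback sqX.flip inferInstance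
    obtain ⟨x', rfl⟩ := eX.surjective x
    rw [← hcomm, ← isCMAt_iff_of_onePoint g (eY (f' x'))]
    refine isCMAt_of_baseChange g g' eY h sqY (f' x') (Flat.stalkMap g _) ?_
    rw [isCMAt_iff_of_onePoint g' (f' x')]
    exact H _

/-- membership in the locus, in terms of points of the source -/
theorem mem_locusMor_PCMsrc_iff {X Y S : Scheme.{u}} (f : X ⟶ Y) (g : Y ⟶ S) (s : S) :
    s ∈ ConsProp.locusMor PCMsrc f g ↔ ∀ x : X, g (f x) = s →
      LocCoh.IsCohenMacaulayLocalRing ((g.fiber (g (f x))).presheaf.stalk (g.asFiber (f x))) := by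
  constructor
  · rintro hs x rfl
    have h1 := hs ((f ≫ g).asFiber x)
    have h2 : MoreMor.fiberMap f g (g (f x)) ((f ≫ g).asFiber x) = g.asFiber (f x) :=
      fiberMap_asFiber f g x
    rw [h2] at h1
    exact h1
  · intro H x'
    let x : X := (f ≫ g).fiberι s x'
    have hxs : g (f x) = s := by
      have : x ∈ Set.range ((f ≫ g).fiberι s) := ⟨x', rfl⟩
      rw [Scheme.Hom.range_fiberι] at this
      exact this
    have h1 := Groth.Agent.Helper2.FibFlatDict.fiberMap_fst f g s
    have h2 := congrArg (fun ψ : (f ≫ g).fiber s ⟶ Y => ψ x') h1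
    simp only [Scheme.Hom.comp_apply] at h2
    rw [cm_fibre_stalk_iff g s (MoreMor.fiberMap f g s x') (f x) h2]
    exact H x hxs

end Groth.Agent.Helper5.CMSrc
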