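import Mathlib
import Groth.Agent.Helper5.CMSrc2

set_option autoImplicit false
set_option linter.style.haveILetI false
set_option linter.unusedSectionVars false
universe u
open CategoryTheory CategoryTheory.Limits AlgebraicGeometry TopologicalSpace Topology

namespace Groth.Agent.Helper5.CMSrc

open Groth.Agent.Helper5.CMFib Groth.Agent.Helper5.CMAff Groth.Agent.Helper5.ConsPr
  Groth.Agent.Helper5.ConsLc Groth.Agent.Helper5.FlatCons Groth.Agent.Helper5.CMCons
  Groth.Agent.Helper5.SmCons

/-- for a flat `g` the locus is the complement of the image of the preimage of the non-CM locus -/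
theorem locusMor_PCMsrc_eq {X Y S : Scheme.{u}} (f : X ⟶ Y) (g : Y ⟶ S) [Flat g] :
    ConsProp.locusMor PCMsrc f g =
      (⇑(f ≫ g) '' (⇑f ⁻¹' {y : Y | MoreMor.IsCMAt g y}ᶜ))ᶜ := by
  ext s
  rw [mem_locusMor_PCMsrc_iff]
  constructor
  · rintro hs ⟨x, hx, rfl⟩
    exact hx ⟨Flat.stalkMap g (f x), hs x rfl⟩
  · intro hs x hx
    have h1 : MoreMor.IsCMAt g (f x) := by
      by_contra hcon
      exact hs ⟨x, hcon, hx⟩
    exact h1.2

theorem decided_of_flat {X Y S : Scheme.{u}} (f : X ⟶ Y) (g : Y ⟶ S) [IsIntegral S]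
    [IsNoetherian S] [LocallyOfFiniteType g] [QuasiCompact g] [LocallyOfFiniteType (f ≫ g)]
    [QuasiCompact (f ≫ g)] [Flat g] : Decided PCMsrc f g := by
  have hXN1 : IsLocallyNoetherian X := LocallyOfFiniteType.isLocallyNoetherian (f ≫ g)
  have hXN2 : CompactSpace X := QuasiCompact.compactSpace_of_compactSpace (f ≫ g)
  have hXN : IsNoetherian X := {}
  haveI : LocallyOfFinitePresentation g :=
    LocallyOfFinitePresentation.iff_locallyOfFiniteType.mpr inferInstance
  haveI : LocallyOfFinitePresentation (f ≫ g) :=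
    LocallyOfFinitePresentation.iff_locallyOfFiniteType.mpr inferInstance
  apply cons_decide
  rw [locusMor_PCMsrc_eq f g]
  apply Groth.Agent.Helper5.KLem.isLocallyConstructible_compl
  apply (f ≫ g).isLocallyConstructible_image
  refine (isConstructible_of_isClosed_noeth ?_).isLocallyConstructible
  exact ((s4961 g).isClosed_compl).preimage f.continuous

theorem isConsMor_PCMsrc : ConsProp.IsConsMor (PCMsrc.{u}) := by
  refine ⟨isFieldStableMor_PCMsrc, ?_⟩
  intro X Y S f g _ _ _ _ _ _
  obtain ⟨U, hUd, hUflat, hUfp⟩ := Groth.Agent.Helper3.RedGF6.main g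
  show Decided PCMsrc f g
  apply decided_of_restrict f g isFieldStableMor_PCMsrc U
  obtain ⟨h1, h2, h3, h4, h5, h6⟩ := restrict_props f g U hUd.nonempty
  exact decided_of_flat (f ∣_ (g ⁻¹ᵁ U)) (g ∣_ U)

end Groth.Agent.Helper5.CMSrc
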