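import Mathlib
import Groth.Agent.Helper5.CMSrc3

set_option autoImplicit false
set_option linter.style.haveILetI false
set_option linter.unusedSectionVars false
universe u
open CategoryTheory CategoryTheory.Limits AlgebraicGeometry TopologicalSpace Topology

namespace Groth.Agent.Helper5.CMSrc

open Groth.Agent.Helper5.CMFib Groth.Agent.Helper5.CMAff Groth.Agent.Helper5.ConsPr
  Groth.Agent.Helper5.ConsLc Groth.Agent.Helper5.FlatCons Groth.Agent.Helper5.CMCons
  Groth.Agent.Helper5.SmCons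

set_option maxHeartbeats 1000000 in
/-- the quasi-compact quasi-separated case, by the diagonal trick -/
theorem lc_qcqs {A B : Scheme.{u}} (h : A ⟶ B) [LocallyOfFinitePresentation h] [QuasiCompact h]
    [QuasiSeparated h] :
    IsLocallyConstructible {a : A |
      LocCoh.IsCohenMacaulayLocalRing ((h.fiber (h a)).presheaf.stalk (h.asFiber a))} := by
  let p₁ : pullback h h ⟶ A := pullback.fst h h
  let p₂ : pullback h h ⟶ A := pullback.snd h h
  let δ : A ⟶ pullback h h := pullback.diagonal h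
  have hδ2 : δ ≫ p₂ = 𝟙 A := pullback.diagonal_snd h
  have hδ1 : δ ≫ p₁ = 𝟙 A := pullback.diagonal_fst h
  haveI : LocallyOfFinitePresentation p₂ := MorphismProperty.pullback_snd _ _ inferInstance
  haveI : QuasiCompact p₂ := MorphismProperty.pullback_snd _ _ inferInstance
  haveI : QuasiSeparated p₂ := MorphismProperty.pullback_snd _ _ inferInstance
  haveI : LocallyOfFinitePresentation (δ ≫ p₂) := by rw [hδ2]; infer_instance
  haveI : QuasiCompact (δ ≫ p₂) := by rw [hδ2]; infer_instance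
  haveI : QuasiSeparated (δ ≫ p₂) := by rw [hδ2]; infer_instance
  have key := s5880 δ p₂ isConsMor_PCMsrc
  have hpt2 : ∀ x : A, p₂ (δ x) = x := by
    intro x
    have h2 := congrArg (fun φ : A ⟶ A => φ x) hδ2
    exact (by simpa only [Scheme.Hom.comp_apply] using h2 : p₂ (δ x) = (𝟙 A :) x)
  have hpt1 : ∀ x : A, p₁ (δ x) = x := by
    intro x
    have h2 := congrArg (fun φ : A ⟶ A => φ x) hδ1
    exact (by simpa only [Scheme.Hom.comp_apply] using h2 : p₁ (δ x) = (𝟙 A :) x)
  have sq : IsPullback p₁ p₂ h h := IsPullback.of_hasPullback h h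
  have hiff : ∀ x : A, LocCoh.IsCohenMacaulayLocalRing
      ((p₂.fiber (p₂ (δ x))).presheaf.stalk (p₂.asFiber (δ x))) ↔
      LocCoh.IsCohenMacaulayLocalRing ((h.fiber (h x)).presheaf.stalk (h.asFiber x)) := by
    intro x
    rw [cm_fibre_baseChange_iff h p₂ p₁ h sq (δ x), hpt1]
  convert key using 1
  ext a
  rw [mem_locusMor_PCMsrc_iff]
  constructor
  · intro H x hx
    rw [hpt2] at hx
    subst hx
    exact (hiff x).mpr H
  · intro H
    exact (hiff a).mp (H a (hpt2 a))

set_option maxHeartbeats 1000000 in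
/-- S3421 -/
theorem s3421 {X S : Scheme.{u}} (f : X ⟶ S) [LocallyOfFinitePresentation f] :
    IsLocallyConstructible {x : X |
      LocCoh.IsCohenMacaulayLocalRing ((f.fiber (f x)).presheaf.stalk (f.asFiber x))} := by
  apply IsLocallyConstructible.of_isOpenCover
    (U := fun i : {p : X.affineOpens × S.affineOpens // p.1.1 ≤ f ⁻¹ᵁ p.2.1} => i.1.1.1)
  · apply IsOpenCover.mk
    rw [eq_top_iff]
    rintro x -
    obtain ⟨_, ⟨V, hV, rfl⟩, hxV, -⟩ :=
      S.isBasis_affineOpens.exists_subset_of_mem_open (Set.mem_univ (f x)) isOpen_univ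
    obtain ⟨_, ⟨U, hU, rfl⟩, hxU, hUV⟩ :=
      X.isBasis_affineOpens.exists_subset_of_mem_open (show x ∈ (f ⁻¹ᵁ V : Set X) from hxV)
        (f ⁻¹ᵁ V).2
    exact Opens.mem_iSup.mpr ⟨⟨(⟨U, hU⟩, ⟨V, hV⟩), hUV⟩, hxU⟩
  · rintro ⟨⟨U, V⟩, hUV⟩
    haveI : IsAffine (U.1 : Scheme.{u}) := U.2
    haveI : IsAffine (V.1 : Scheme.{u}) := V.2
    let h : (U.1 : Scheme.{u}) ⟶ (V.1 : Scheme.{u}) := f.resLE V.1 U.1 hUV
    have hw : h ≫ V.1.ι = U.1.ι ≫ f := f.resLE_comp_ι hUV
    haveI : LocallyOfFinitePresentation h := IsZariskiLocalAtSource.resLE hUV inferInstance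
    have key := lc_qcqs h
    have sq : IsPullback (𝟙 (U.1 : Scheme.{u})) h (U.1.ι ≫ f) V.1.ι :=
      IsPullback.of_horiz_isIso_mono ⟨by rw [Category.id_comp, hw]⟩
    have heq : ((U.1.ι : (U.1 : Scheme.{u}) → X) ⁻¹' {x : X |
        LocCoh.IsCohenMacaulayLocalRing ((f.fiber (f x)).presheaf.stalk (f.asFiber x))}) =
        {a : (U.1 : Scheme.{u}) |
          LocCoh.IsCohenMacaulayLocalRing ((h.fiber (h a)).presheaf.stalk (h.asFiber a))} := by
      ext w
      show LocCoh.IsCohenMacaulayLocalRing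
          ((f.fiber (f (U.1.ι w))).presheaf.stalk (f.asFiber (U.1.ι w))) ↔
        LocCoh.IsCohenMacaulayLocalRing ((h.fiber (h w)).presheaf.stalk (h.asFiber w))
      rw [cm_fibre_baseChange_iff (U.1.ι ≫ f) h (𝟙 _) V.1.ι sq w]
      exact (cm_fibre_open_restrict f U.1 w).symm
    rw [← heq] at key
    exact key

end Groth.Agent.Helper5.CMSrc
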