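import Mathlib
import Groth.Agent.Helper5.RelDepth6
import Groth.Agent.Helper5.CMAff5
import Groth.Agent.Helper5.FibCodim
import Groth.Agent.Helper5.SubDim5
import Groth.Agent.Helper5.BCMin6

set_option autoImplicit false
set_option linter.style.haveILetI false
set_option linter.unusedSectionVars false
universe u
open CategoryTheory CategoryTheory.Limits AlgebraicGeometry TopologicalSpace Topology TensorProduct
open IsLocalRing

namespace Groth.Agent.Helper5.RelDepth

/-- a smooth morphism is Cohen–Macaulay at every point -/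
theorem isCMAt_of_smooth {X S : Scheme.{u}} (f : X ⟶ S) [Smooth f] (x : X) :
    MoreMor.IsCMAt f x := by
  refine ⟨Flat.stalkMap f x, ?_⟩
  haveI hsm : Smooth (f.fiberToSpecResidueField (f x)) :=
    inferInstanceAs (Smooth (Limits.pullback.snd f (S.fromSpecResidueField (f x))))
  haveI hreg : IsRegularLocalRing ((f.fiber (f x)).presheaf.stalk (f.asFiber x)) :=
    Groth.Agent.Helper2.SmoothRegSch.stalk_regular_of_smooth (S.residueField (f x)) (f.fiber (f x))
      (f.fiberToSpecResidueField (f x)) (f.asFiber x)
  exact { supportDim_eq_depth := Groth.Agent.Helper2.RegCM.cm_of_isRegularLocalRing _ }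

/-- the dimension formula at a point of a flat morphism of locally Noetherian schemes -/
theorem dim_stalk_eq_add {X S : Scheme.{u}} [IsLocallyNoetherian X] [IsLocallyNoetherian S]
    (f : X ⟶ S) [Flat f] (x : X) :
    ringKrullDim ↑(CInt.fiberStalk f x) + ringKrullDim (S.presheaf.stalk (f x)) =
      ringKrullDim (X.presheaf.stalk x) := by
  letI : Algebra (S.presheaf.stalk (f x)) (X.presheaf.stalk x) := (f.stalkMap x).hom.toAlgebra
  haveI : IsLocalHom (algebraMap (S.presheaf.stalk (f x)) (X.presheaf.stalk x)) :=
    inferInstanceAs (IsLocalHom (f.stalkMap x).hom)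
  obtain ⟨e⟩ := Groth.Agent.Helper5.CMFib.fibre_stalk_equiv' f x
  haveI : Module.Flat (S.presheaf.stalk (f x)) (X.presheaf.stalk x) := Flat.stalkMap f x
  rw [← ringKrullDim_eq_of_ringEquiv e]
  exact Groth.Agent.Helper5.BCDim.ringKrullDim_quot_add

theorem eq_of_isLocallyConstant_of_specializes {T α : Type*} [TopologicalSpace T] (φ : T → α)
    (hφ : IsLocallyConstant φ) {a b : T} (h : a ⤳ b) : φ a = φ b := by
  have hopen : IsOpen (φ ⁻¹' {φ b}) := hφ.isOpen_fiber (φ b)
  exact h.mem_open hopen rfl

end Groth.Agent.Helper5.RelDepth
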