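import Groth.Agent.Helper5.CMFib5
import Groth.Agent.Helper5.RelDepth7
import Groth.Agent.Helper4.AlgSpLocP
import Mathlib

set_option autoImplicit false
set_option linter.style.haveILetI false
universe u
open CategoryTheory CategoryTheory.Limits AlgebraicGeometry Opposite MorphismProperty

namespace Groth.Agent.Helper5.CMYon

open AlgSp

variable {S : Scheme.{u}}

/-- a morphism is flat at a point whose image has a field as local ring -/
theorem flat_stalkMap_of_isField {X T : Scheme.{u}} (g : X ⟶ T) (x : X)
    (hF : IsField (T.presheaf.stalk (g x))) : (g.stalkMap x).hom.Flat := by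
  letI := hF.toField
  algebraize [(g.stalkMap x).hom]
  show Module.Flat (T.presheaf.stalk (g x)) (X.presheaf.stalk x)
  infer_instance

/-- at a point whose image has a field as local ring, Cohen–Macaulay for the morphism is
Cohen–Macaulay of the local ring -/
theorem isCMAt_iff_of_isField {X T : Scheme.{u}} (g : X ⟶ T) (x : X)
    (hF : IsField (T.presheaf.stalk (g x))) :
    MoreMor.IsCMAt g x ↔ LocCoh.IsCohenMacaulayLocalRing (X.presheaf.stalk x) := by
  obtain ⟨e⟩ := Groth.Agent.Helper5.CMFib.fibre_stalk_equiv' g x
  have hm : IsLocalRing.maximalIdeal (T.presheaf.stalk (g x)) = ⊥ :=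
    IsLocalRing.isField_iff_maximalIdeal_eq.mp hF
  have hI : Ideal.map (g.stalkMap x).hom (IsLocalRing.maximalIdeal (T.presheaf.stalk (g x))) = ⊥ := by
    rw [hm, Ideal.map_bot]
  let e' : X.presheaf.stalk x ≃+* (g.fiber (g x)).presheaf.stalk (g.asFiber x) :=
    ((RingEquiv.quotientBot _).symm.trans (Ideal.quotEquivOfEq hI.symm)).trans e
  constructor
  · rintro ⟨-, h2⟩
    exact Groth.Agent.Lead.CMCl.cm_of_ringEquiv e'.symm (h := h2)
  · intro h
    exact ⟨flat_stalkMap_of_isField g x hF, Groth.Agent.Lead.CMCl.cm_of_ringEquiv e' (h := h)⟩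

/-- a point of the source of an unramified morphism over a point whose local ring is a field has
a field as local ring -/
theorem isField_stalk_of_unramified {V Y : Scheme.{u}} (f : V ⟶ Y) [FormallyUnramified f]
    [LocallyOfFiniteType f] (v : V) (hF : IsField (Y.presheaf.stalk (f v))) :
    IsField (V.presheaf.stalk v) := by
  letI := hF.toField
  algebraize [(f.stalkMap v).hom]
  have h1 : Algebra.EssFiniteType (Y.presheaf.stalk (f v)) (V.presheaf.stalk v) :=
    LocallyOfFiniteType.stalkMap f v
  have h2 : Algebra.FormallyUnramified (Y.presheaf.stalk (f v)) (V.presheaf.stalk v) :=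
    FormallyUnramified.stalkMap f v
  have := Algebra.FormallyUnramified.finite_of_free (Y.presheaf.stalk (f v)) (V.presheaf.stalk v)
  have := IsArtinianRing.of_finite (Y.presheaf.stalk (f v)) (V.presheaf.stalk v)
  have := Algebra.FormallyUnramified.isReduced_of_field (Y.presheaf.stalk (f v))
    (V.presheaf.stalk v)
  exact IsArtinianRing.isField_of_isReduced_of_isLocalRing _

/-- the local rings of the spectrum of a field are fields -/
theorem isField_stalk_spec_field (k : Type u) [Field k] (x : Spec (CommRingCat.of k)) :
    IsField ((Spec (CommRingCat.of k)).presheaf.stalk x) := by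
  let alg : Algebra k ((Spec (CommRingCat.of k)).presheaf.stalk x) :=
    StructureSheaf.stalkAlgebra k x
  have hloc : IsLocalization.AtPrime ((Spec (CommRingCat.of k)).presheaf.stalk x) x.asIdeal :=
    StructureSheaf.IsLocalization.to_stalk k x
  have hle : x.asIdeal.primeCompl ≤ IsUnit.submonoid k := by
    intro a ha
    have ha0 : a ≠ 0 := fun h => ha (by rw [h]; exact x.asIdeal.zero_mem)
    exact ha0.isUnit
  let e := IsLocalization.atUnits k x.asIdeal.primeCompl
    (S := (Spec (CommRingCat.of k)).presheaf.stalk x) hle
  exact e.symm.toRingEquiv.toMulEquiv.isField (Field.toIsField k)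

end Groth.Agent.Helper5.CMYon
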