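import Groth.Agent.Helper5.CMYon1
import Mathlib

set_option autoImplicit false
set_option linter.style.haveILetI false
universe u
open CategoryTheory CategoryTheory.Limits AlgebraicGeometry Opposite MorphismProperty

namespace Groth.Agent.Helper5.CMYon

open AlgSp

variable {S : Scheme.{u}}

/-- the property "Cohen–Macaulay at every point" -/
def QCM : MorphismProperty Scheme.{u} := fun _ _ g => ∀ x, MoreMor.IsCMAt g x

/-- Over a base all of whose local rings are fields, a locally finite type scheme with
Cohen–Macaulay local rings gives a morphism of sheaves that is Cohen–Macaulay on every chart. -/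
theorem locP_cm_yon_map_of_field {X₀ K₀ : Over S} (π : X₀ ⟶ K₀) [LocallyOfFiniteType π.left]
    (hK : ∀ y : K₀.left, IsField (K₀.left.presheaf.stalk y))
    (H : ∀ x : X₀.left, LocCoh.IsCohenMacaulayLocalRing (X₀.left.presheaf.stalk x)) :
    LocP QCM ((yon S).map π) := by
  intro U V a b h' ha hb comm
  obtain ⟨a₀, rfl⟩ := (yon S).map_surjective a
  obtain ⟨b₀, rfl⟩ := (yon S).map_surjective b
  have ha₀ : Etale a₀.left := (repWith_yon_map_iff _ _).1 ha
  have hb₀ : Etale b₀.left := (repWith_yon_map_iff _ _).1 hb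
  have e : a₀ ≫ π = h' ≫ b₀ := by
    apply (yon S).map_injective
    rw [Functor.map_comp, Functor.map_comp, comm]
  have e' : a₀.left ≫ π.left = h'.left ≫ b₀.left := by
    rw [← Over.comp_left, e, Over.comp_left]
  intro u
  have h1 : MoreMor.IsCMAt π.left (a₀.left u) :=
    (isCMAt_iff_of_isField π.left _ (hK _)).2 (H _)
  have h2 : MoreMor.IsCMAt a₀.left u := Groth.Agent.Helper5.RelDepth.isCMAt_of_smooth a₀.left u
  haveI : LocallyOfFiniteType ((a₀.left ≫ π.left).fiberToSpecResidueField (π.left (a₀.left u))) :=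
    inferInstanceAs (LocallyOfFiniteType
      (Limits.pullback.snd (a₀.left ≫ π.left) (K₀.left.fromSpecResidueField _)))
  have hN : IsLocallyNoetherian ((a₀.left ≫ π.left).fiber (π.left (a₀.left u))) :=
    LocallyOfFiniteType.isLocallyNoetherian
      ((a₀.left ≫ π.left).fiberToSpecResidueField (π.left (a₀.left u)))
  have h3 : MoreMor.IsCMAt (a₀.left ≫ π.left) u :=
    Groth.Agent.Helper5.CMFib.s9766 a₀.left π.left u hN h2 h1
  rw [e'] at h3
  have hFV : IsField (V.left.presheaf.stalk (h'.left u)) :=
    isField_stalk_of_unramified b₀.left (h'.left u) (hK _)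
  have hfl : (h'.left.stalkMap u).hom.Flat := flat_stalkMap_of_isField h'.left u hFV
  haveI : LocallyOfFiniteType (b₀.left.fiberToSpecResidueField (b₀.left (h'.left u))) :=
    inferInstanceAs (LocallyOfFiniteType
      (Limits.pullback.snd b₀.left (K₀.left.fromSpecResidueField _)))
  have hNg : IsLocallyNoetherian (b₀.left.fiber (b₀.left (h'.left u))) :=
    LocallyOfFiniteType.isLocallyNoetherian
      (b₀.left.fiberToSpecResidueField (b₀.left (h'.left u)))
  exact (Groth.Agent.Helper5.CMFib.s9767 h'.left b₀.left u hNg h3 hfl).1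

theorem s17306 (S : Scheme.{u}) (k : Type u) [Field k] (t : Spec (CommRingCat.of k) ⟶ S)
    (X : Scheme.{u}) (p : X ⟶ Spec (CommRingCat.of k)) [LocallyOfFiniteType p] :
    AlgSp.LocP (fun _ _ g => ∀ x, MoreMor.IsCMAt g x)
        ((AlgSp.yon S).map (Over.homMk p rfl : Over.mk (p ≫ t) ⟶ Over.mk t)) ↔
      ∀ x : ↥X, LocCoh.IsCohenMacaulayLocalRing (X.presheaf.stalk x) := by
  constructor
  · intro h x
    have h1 : ∀ x, MoreMor.IsCMAt p x := locP_yon_map h
    exact (isCMAt_iff_of_isField p x (isField_stalk_spec_field k _)).1 (h1 x)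
  · intro H
    haveI : LocallyOfFiniteType (Over.homMk p rfl : Over.mk (p ≫ t) ⟶ Over.mk t).left :=
      inferInstanceAs (LocallyOfFiniteType p)
    exact locP_cm_yon_map_of_field (Over.homMk p rfl : Over.mk (p ≫ t) ⟶ Over.mk t)
      (fun y => isField_stalk_spec_field k y) H

end Groth.Agent.Helper5.CMYon
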