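import Mathlib
import Groth.Agent.Helper5.CMor1

set_option autoImplicit false
universe u

namespace Groth.Agent.Helper5.CPair

open CategoryTheory CategoryTheory.Limits AlgebraicGeometry TopologicalSpace Topology
open Groth.Agent.Helper5.ConsPr Groth.Agent.Helper5.ConsLc

set_option maxHeartbeats 1600000 in
/-- the framework theorem for morphisms: a morphism property that is stable under base change,
descends along fpqc morphisms and descends to stages of cofiltered limits is an ind-constructible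
property of morphisms of algebraic schemes. -/
theorem isIndConsMor_of_stageDescent' (Q : MorphismProperty Scheme.{u}) [Q.IsStableUnderBaseChange]
    [Q.DescendsAlong (@Surjective ⊓ @Flat ⊓ @QuasiCompact)]
    (hdesc : StageDescent' Q) : ConsProp.IsIndConsMor (fun _ _ _ f _ => Q f) := by
  have hFS := fieldStableMor_of_descends Q
  refine ⟨hFS, ?_⟩
  intro X Y S f g _ _ _ _ _ _ hη
  let η := genericPoint S
  let T' := Spec (S.residueField η)
  let τ : T' ⟶ S := S.fromSpecResidueField η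
  have sqY1 : IsPullback (g.fiberι η) (g.fiberToSpecResidueField η) g τ :=
    IsPullback.of_hasPullback _ _
  have sqX1 : IsPullback ((f ≫ g).fiberι η) (MoreMor.fiberMap f g η) f (g.fiberι η) :=
    isPullback_fiberMap f g η
  have hτ : ∀ t : T', τ t = η := fun t => Scheme.fromSpecResidueField_apply η _
  -- affine open neighbourhood of the generic point
  obtain ⟨U, hU, hηU⟩ : ∃ U : S.Opens, IsAffineOpen U ∧ η ∈ U := by
    obtain ⟨_, ⟨U, hU, rfl⟩, hxU, -⟩ :=
      (S.isBasis_affineOpens).exists_subset_of_mem_open (Set.mem_univ η) isOpen_univ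
    exact ⟨U, hU, hxU⟩
  let j : Spec Γ(S, U) ⟶ S := hU.fromSpec
  have hjrange : Set.range j = U := hU.range_fromSpec
  have hτrange : Set.range τ ⊆ Set.range j := by
    rintro _ ⟨t, rfl⟩
    rw [hτ, hjrange]
    exact hηU
  obtain ⟨τ', hτ'⟩ : ∃ τ' : T' ⟶ Spec Γ(S, U), τ' ≫ j = τ :=
    ⟨IsOpenImmersion.lift j τ hτrange, IsOpenImmersion.lift_fac _ _ _⟩
  -- the field
  have hne : Nonempty ↥T' := inferInstance
  let e₀ : T' ≅ Spec Γ(T', ⊤) := T'.isoSpec
  let φ : Γ(S, U) ⟶ Γ(T', ⊤) := Spec.preimage (e₀.inv ≫ τ')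
  have hφ : Spec.map φ = e₀.inv ≫ τ' := Spec.map_preimage _
  letI : Algebra ↑Γ(S, U) ↑Γ(T', ⊤) := φ.hom.toAlgebra
  let e : T' ≅ (cone ↑Γ(S, U) ↑Γ(T', ⊤)).pt := e₀
  have htop : top ↑Γ(S, U) ↑Γ(T', ⊤) ≫ j = e.inv ≫ τ := by
    have h1 : top ↑Γ(S, U) ↑Γ(T', ⊤) = e.inv ≫ τ' := hφ
    rw [h1, Category.assoc, hτ']
  have sqY2 : IsPullback (g.fiberι η) (g.fiberToSpecResidueField η ≫ e.hom) g
      (top ↑Γ(S, U) ↑Γ(T', ⊤) ≫ j) := by
    rw [htop]; exact isPullback_of_iso_bot sqY1 e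
  have hg : LocallyOfFinitePresentation g :=
    LocallyOfFinitePresentation.iff_locallyOfFiniteType.mpr inferInstance
  have hYN : IsLocallyNoetherian Y := LocallyOfFiniteType.isLocallyNoetherian g
  have hfg : LocallyOfFinitePresentation (f ≫ g) :=
    LocallyOfFinitePresentation.iff_locallyOfFiniteType.mpr inferInstance
  have hXN : IsLocallyNoetherian X := LocallyOfFiniteType.isLocallyNoetherian (f ≫ g)
  obtain ⟨k, XB, YB, fB, gB, eXB, eYB, sqYB, sqXB, hQB⟩ :=
    exists_fg_model_mor ↑Γ(S, U) ↑Γ(T', ⊤) Q hdesc f g j (MoreMor.fiberMap f g η)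
      (g.fiberToSpecResidueField η ≫ e.hom) _ _ sqY2 sqX1 hη
  -- the model over `Spec B`
  let σ : (D ↑Γ(S, U) ↑Γ(T', ⊤)).obj k ⟶ S := str ↑Γ(S, U) ↑Γ(T', ⊤) k ≫ j
  have hred : IsReduced ((D ↑Γ(S, U) ↑Γ(T', ⊤)).obj k) := by
    show IsReduced (Spec (CommRingCat.of ↥k.unop.1))
    infer_instance
  have hft : LocallyOfFiniteType (str ↑Γ(S, U) ↑Γ(T', ⊤) k) := by
    show LocallyOfFiniteType (Spec.map (CommRingCat.ofHom (algebraMap ↑Γ(S, U) ↥k.unop.1)))
    rw [HasRingHomProperty.Spec_iff (P := @LocallyOfFiniteType)]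
    exact (RingHom.finiteType_algebraMap (A := ↑Γ(S, U)) (B := ↥k.unop.1)).2
      ((Subalgebra.fg_iff_finiteType _).1 k.unop.2)
  have hσft : LocallyOfFiniteType σ := inferInstance
  have hσqc : QuasiCompact σ := inferInstance
  have hησ : η ∈ Set.range σ := by
    obtain ⟨t₀⟩ := hne
    refine ⟨proj ↑Γ(S, U) ↑Γ(T', ⊤) k (e.hom t₀), ?_⟩
    have h1 : proj ↑Γ(S, U) ↑Γ(T', ⊤) k ≫ σ = e.inv ≫ τ := by
      rw [← htop, ← Category.assoc, proj_str]
    rw [← Scheme.Hom.comp_apply, h1, ← Scheme.Hom.comp_apply, Iso.hom_inv_id_assoc]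
    exact hτ t₀
  obtain ⟨V, hVne, hV⟩ := Groth.Agent.Helper5.GenFib.exists_open_subset_range σ hησ
  obtain ⟨v₀, hv₀⟩ := hVne
  refine ⟨v₀, mem_interior.2 ⟨V, ?_, V.2, hv₀⟩⟩
  intro s hs
  obtain ⟨z, rfl⟩ := hV hs
  have hloc := locusMor_of_isPullback hFS sqYB sqXB
  have hz : z ∈ ConsProp.locusMor (fun _ _ _ f _ => Q f) fB gB :=
    MorphismProperty.of_isPullback (isPullback_fiberMap fB gB z) hQB
  rw [hloc] at hz
  exact hz

end Groth.Agent.Helper5.CPair
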