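import Mathlib
import Groth.Agent.Helper5.CPair5
import Groth.Agent.S9187
import Groth.Agent.S9189
import Groth.Agent.S9186
import Groth.Agent.S9190
import Groth.Agent.S9193
import Groth.Agent.S9194

set_option autoImplicit false
universe u

namespace Groth.Agent.Helper5.CPair

open CategoryTheory CategoryTheory.Limits AlgebraicGeometry TopologicalSpace Topology

theorem stageDescent_isFinite : StageDescent (@IsFinite : MorphismProperty Scheme.{u}) := by
  intro I _ _ D c hc _ i₀ _ _ X₀ Y₀ f₀ g₀ _ _ _ _ _ X Y f g qY qX hY hX hf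
  haveI : IsFinite f := hf
  exact Groth.Agent.S9187.result D c hc i₀ f₀ g₀ f g qY qX hY hX

theorem stageDescent_isClosedImmersion :
    StageDescent (@IsClosedImmersion : MorphismProperty Scheme.{u}) := by
  intro I _ _ D c hc _ i₀ _ _ X₀ Y₀ f₀ g₀ _ _ _ _ _ X Y f g qY qX hY hX hf
  haveI : IsClosedImmersion f := hf
  exact Groth.Agent.S9189.result D c hc i₀ f₀ g₀ f g qY qX hY hX

theorem stageDescent_isAffineHom : StageDescent (@IsAffineHom : MorphismProperty Scheme.{u}) := by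
  intro I _ _ D c hc _ i₀ _ _ X₀ Y₀ f₀ g₀ _ _ _ _ _ X Y f g qY qX hY hX hf
  haveI : IsAffineHom f := hf
  exact Groth.Agent.S9186.result D c hc i₀ f₀ g₀ f g qY qX hY hX

theorem stageDescent_isSeparated : StageDescent (@IsSeparated : MorphismProperty Scheme.{u}) := by
  intro I _ _ D c hc _ i₀ _ _ X₀ Y₀ f₀ g₀ _ _ _ _ _ X Y f g qY qX hY hX hf
  haveI : IsSeparated f := hf
  exact Groth.Agent.S9190.result D c hc i₀ f₀ g₀ f g qY qX hY hX

theorem stageDescent_isImmersion : StageDescent (@IsImmersion : MorphismProperty Scheme.{u}) := by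
  intro I _ _ D c hc _ i₀ _ _ X₀ Y₀ f₀ g₀ _ _ _ _ _ X Y f g qY qX hY hX hf
  haveI : IsImmersion f := hf
  exact Groth.Agent.S9193.result D c hc i₀ f₀ g₀ f g qY qX hY hX

/-- quasi-finite morphisms in the sense of the source -/
def QF : MorphismProperty Scheme.{u} := fun _ _ g =>
  LocallyOfFiniteType g ∧ QuasiCompact g ∧ LocallyQuasiFinite g

instance : (QF : MorphismProperty Scheme.{u}).IsStableUnderBaseChange where
  of_isPullback sq hg :=
    ⟨MorphismProperty.of_isPullback sq hg.1, MorphismProperty.of_isPullback sq hg.2.1,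
      MorphismProperty.of_isPullback sq hg.2.2⟩

theorem stageDescent_QF : StageDescent (QF : MorphismProperty Scheme.{u}) := by
  intro I _ _ D c hc _ i₀ _ _ X₀ Y₀ f₀ g₀ _ _ _ _ _ X Y f g qY qX hY hX hf
  haveI : LocallyQuasiFinite f := hf.2.2
  obtain ⟨i, φ, Xi, Yi, fi, gi, pY, pX, h1, h2, h3⟩ :=
    Groth.Agent.S9194.result D c hc i₀ f₀ g₀ f g qY qX hY hX
  have hqc : QuasiCompact f₀ := inferInstance
  exact ⟨i, φ, Xi, Yi, fi, gi, pY, pX, h1, h2,
    MorphismProperty.of_isPullback h2 (inferInstance : LocallyOfFiniteType f₀),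
    MorphismProperty.of_isPullback h2 hqc, h3⟩

theorem s5897 :
    ConsPropPair.IsIndConsPair
      (fun X Y T gX gY => ∃ (T' X' Y' : Scheme.{u}) (h : T' ⟶ T) (gX' : X' ⟶ T') (gY' : Y' ⟶ T')
        (eX : X' ⟶ X) (eY : Y' ⟶ Y), IsIntegral T' ∧ Subsingleton ↥T' ∧
          IsPullback eX gX' gX h ∧ IsPullback eY gY' gY h ∧
            ∃ g : X' ⟶ Y', g ≫ gY' = gX' ∧ AlgebraicGeometry.IsFinite g) :=
  isIndConsPair_rel _ stageDescent_isFinite

theorem s5894 :
    ConsPropPair.IsIndConsPair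
      (fun X Y T gX gY => ∃ (T' X' Y' : Scheme.{u}) (h : T' ⟶ T) (gX' : X' ⟶ T') (gY' : Y' ⟶ T')
        (eX : X' ⟶ X) (eY : Y' ⟶ Y), IsIntegral T' ∧ Subsingleton ↥T' ∧
          IsPullback eX gX' gX h ∧ IsPullback eY gY' gY h ∧
            ∃ g : X' ⟶ Y', g ≫ gY' = gX' ∧ AlgebraicGeometry.IsClosedImmersion g) :=
  isIndConsPair_rel _ stageDescent_isClosedImmersion

theorem s5898 :
    ConsPropPair.IsIndConsPair
      (fun X Y T gX gY => ∃ (T' X' Y' : Scheme.{u}) (h : T' ⟶ T) (gX' : X' ⟶ T') (gY' : Y' ⟶ T')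
        (eX : X' ⟶ X) (eY : Y' ⟶ Y), IsIntegral T' ∧ Subsingleton ↥T' ∧
          IsPullback eX gX' gX h ∧ IsPullback eY gY' gY h ∧
            ∃ g : X' ⟶ Y', g ≫ gY' = gX' ∧ AlgebraicGeometry.IsAffineHom g) :=
  isIndConsPair_rel _ stageDescent_isAffineHom

theorem s5902 :
    ConsPropPair.IsIndConsPair
      (fun X Y T gX gY => ∃ (T' X' Y' : Scheme.{u}) (h : T' ⟶ T) (gX' : X' ⟶ T') (gY' : Y' ⟶ T')
        (eX : X' ⟶ X) (eY : Y' ⟶ Y), IsIntegral T' ∧ Subsingleton ↥T' ∧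
          IsPullback eX gX' gX h ∧ IsPullback eY gY' gY h ∧
            ∃ g : X' ⟶ Y', g ≫ gY' = gX' ∧ AlgebraicGeometry.IsSeparated g) :=
  isIndConsPair_rel _ stageDescent_isSeparated

theorem s5900 :
    ConsPropPair.IsIndConsPair
      (fun X Y T gX gY => ∃ (T' X' Y' : Scheme.{u}) (h : T' ⟶ T) (gX' : X' ⟶ T') (gY' : Y' ⟶ T')
        (eX : X' ⟶ X) (eY : Y' ⟶ Y), IsIntegral T' ∧ Subsingleton ↥T' ∧
          IsPullback eX gX' gX h ∧ IsPullback eY gY' gY h ∧
            ∃ g : X' ⟶ Y', g ≫ gY' = gX' ∧ AlgebraicGeometry.IsImmersion g) :=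
  isIndConsPair_rel _ stageDescent_isImmersion

theorem s5903 :
    ConsPropPair.IsIndConsPair
      (fun X Y T gX gY => ∃ (T' X' Y' : Scheme.{u}) (h : T' ⟶ T) (gX' : X' ⟶ T') (gY' : Y' ⟶ T')
        (eX : X' ⟶ X) (eY : Y' ⟶ Y), IsIntegral T' ∧ Subsingleton ↥T' ∧
          IsPullback eX gX' gX h ∧ IsPullback eY gY' gY h ∧
            ∃ g : X' ⟶ Y', g ≫ gY' = gX' ∧ (AlgebraicGeometry.LocallyOfFiniteType g ∧
              AlgebraicGeometry.QuasiCompact g ∧ AlgebraicGeometry.LocallyQuasiFinite g)) :=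
  isIndConsPair_rel QF stageDescent_QF

end Groth.Agent.Helper5.CPair
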