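import Mathlib
import Groth.Agent.Helper5.CPair7
import Groth.Agent.Lead.LimIso
import Groth.Agent.Lead.LimMono
import Groth.Agent.Lead.LimOpen
import Groth.Agent.Lead.LimSurj
import Groth.Agent.Lead.LimUInj
import Groth.Agent.Lead.LimQAff

set_option autoImplicit false
universe u

namespace Groth.Agent.Helper5.CPair

open CategoryTheory CategoryTheory.Limits AlgebraicGeometry TopologicalSpace Topology

theorem stageDescent'_isIso :
    StageDescent' (MorphismProperty.isomorphisms Scheme.{u}) := by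
  intro I _ _ D c hc _ i₀ _ _ X₀ Y₀ f₀ g₀ _ _ _ _ _ _ X Y f g qY qX hY hX hf
  have hA : ∀ {i j : I} (f : i ⟶ j), IsAffineHom (D.map f) := fun f ↦ inferInstance
  have h1 := Groth.Agent.Lead.LimFrame.frame_in
    (P := MorphismProperty.isomorphisms Scheme.{u}) hY hX hf
  obtain ⟨j, hj⟩ := Groth.Agent.Lead.LimIso.isIso_descends hc i₀ g₀ f₀ h1
  exact Groth.Agent.Lead.LimFrame.frame_out
    (P := MorphismProperty.isomorphisms Scheme.{u}) j hj

theorem stageDescent'_mono :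
    StageDescent' (MorphismProperty.monomorphisms Scheme.{u}) := by
  intro I _ _ D c hc _ i₀ _ _ X₀ Y₀ f₀ g₀ _ _ _ _ _ _ X Y f g qY qX hY hX hf
  have hA : ∀ {i j : I} (f : i ⟶ j), IsAffineHom (D.map f) := fun f ↦ inferInstance
  have h1 := Groth.Agent.Lead.LimFrame.frame_in
    (P := MorphismProperty.monomorphisms Scheme.{u}) hY hX hf
  obtain ⟨j, hj⟩ := Groth.Agent.Lead.LimMono.mono_descends hc i₀ g₀ f₀ h1
  exact Groth.Agent.Lead.LimFrame.frame_out
    (P := MorphismProperty.monomorphisms Scheme.{u}) j hj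

theorem stageDescent'_isOpenImmersion :
    StageDescent' (@IsOpenImmersion : MorphismProperty Scheme.{u}) := by
  intro I _ _ D c hc _ i₀ _ _ X₀ Y₀ f₀ g₀ _ _ _ _ _ _ X Y f g qY qX hY hX hf
  have hA : ∀ {i j : I} (f : i ⟶ j), IsAffineHom (D.map f) := fun f ↦ inferInstance
  have h1 := Groth.Agent.Lead.LimFrame.frame_in
    (P := (@IsOpenImmersion : MorphismProperty Scheme.{u})) hY hX hf
  obtain ⟨j, hj⟩ := Groth.Agent.Lead.LimOpen.isOpenImmersion_descends hc i₀ g₀ f₀ h1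
  exact Groth.Agent.Lead.LimFrame.frame_out
    (P := (@IsOpenImmersion : MorphismProperty Scheme.{u})) j hj

theorem stageDescent'_surjective :
    StageDescent' (@Surjective : MorphismProperty Scheme.{u}) := by
  intro I _ _ D c hc _ i₀ _ _ X₀ Y₀ f₀ g₀ _ _ _ _ _ _ X Y f g qY qX hY hX hf
  have hA : ∀ {i j : I} (f : i ⟶ j), IsAffineHom (D.map f) := fun f ↦ inferInstance
  have h1 := Groth.Agent.Lead.LimFrame.frame_in
    (P := (@Surjective : MorphismProperty Scheme.{u})) hY hX hf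
  obtain ⟨j, hj⟩ := Groth.Agent.Lead.LimSurj.surjective_descends hc i₀ g₀ f₀ h1
  exact Groth.Agent.Lead.LimFrame.frame_out
    (P := (@Surjective : MorphismProperty Scheme.{u})) j hj

theorem stageDescent'_universallyInjective :
    StageDescent' (@UniversallyInjective : MorphismProperty Scheme.{u}) := by
  intro I _ _ D c hc _ i₀ _ _ X₀ Y₀ f₀ g₀ _ _ _ _ _ _ X Y f g qY qX hY hX hf
  have hA : ∀ {i j : I} (f : i ⟶ j), IsAffineHom (D.map f) := fun f ↦ inferInstance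
  have h1 := Groth.Agent.Lead.LimFrame.frame_in
    (P := (@UniversallyInjective : MorphismProperty Scheme.{u})) hY hX hf
  obtain ⟨j, hj⟩ := Groth.Agent.Lead.LimUInj.univInj_descends hc i₀ g₀ f₀ h1
  exact Groth.Agent.Lead.LimFrame.frame_out
    (P := (@UniversallyInjective : MorphismProperty Scheme.{u})) j hj

theorem stageDescent'_QA :
    StageDescent' (Groth.Agent.Lead.LimQAff.QA : MorphismProperty Scheme.{u}) := by
  intro I _ _ D c hc _ i₀ _ _ X₀ Y₀ f₀ g₀ _ _ _ _ _ _ X Y f g qY qX hY hX hf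
  have hA : ∀ {i j : I} (f : i ⟶ j), IsAffineHom (D.map f) := fun f ↦ inferInstance
  have hY₀c : CompactSpace Y₀ := QuasiCompact.compactSpace_of_compactSpace g₀
  have hf₀c : QuasiCompact f₀ := QuasiCompact.of_comp f₀ g₀
  have hf₀q : QuasiSeparated f₀ := QuasiSeparated.of_comp f₀ g₀
  have h1 := Groth.Agent.Lead.LimFrame.frame_in
    (P := (Groth.Agent.Lead.LimQAff.QA : MorphismProperty Scheme.{u})) hY hX hf
  obtain ⟨j, hj⟩ := Groth.Agent.Lead.LimQAff.QA_descends hc i₀ g₀ f₀ h1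
  exact Groth.Agent.Lead.LimFrame.frame_out
    (P := (Groth.Agent.Lead.LimQAff.QA : MorphismProperty Scheme.{u})) j hj

theorem s5893 :
    ConsPropPair.IsIndConsPair
      (fun X Y T gX gY => ∃ (T' X' Y' : Scheme.{u}) (h : T' ⟶ T) (gX' : X' ⟶ T') (gY' : Y' ⟶ T')
        (eX : X' ⟶ X) (eY : Y' ⟶ Y), IsIntegral T' ∧ Subsingleton ↥T' ∧
          IsPullback eX gX' gX h ∧ IsPullback eY gY' gY h ∧
            ∃ g : X' ⟶ Y', g ≫ gY' = gX' ∧ IsIso g) :=
  isIndConsPair_rel' (MorphismProperty.isomorphisms Scheme.{u}) stageDescent'_isIso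

theorem s5901 :
    ConsPropPair.IsIndConsPair
      (fun X Y T gX gY => ∃ (T' X' Y' : Scheme.{u}) (h : T' ⟶ T) (gX' : X' ⟶ T') (gY' : Y' ⟶ T')
        (eX : X' ⟶ X) (eY : Y' ⟶ Y), IsIntegral T' ∧ Subsingleton ↥T' ∧
          IsPullback eX gX' gX h ∧ IsPullback eY gY' gY h ∧
            ∃ g : X' ⟶ Y', g ≫ gY' = gX' ∧ CategoryTheory.Mono g) :=
  isIndConsPair_rel' (MorphismProperty.monomorphisms Scheme.{u}) stageDescent'_mono

theorem s5895 :
    ConsPropPair.IsIndConsPair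
      (fun X Y T gX gY => ∃ (T' X' Y' : Scheme.{u}) (h : T' ⟶ T) (gX' : X' ⟶ T') (gY' : Y' ⟶ T')
        (eX : X' ⟶ X) (eY : Y' ⟶ Y), IsIntegral T' ∧ Subsingleton ↥T' ∧
          IsPullback eX gX' gX h ∧ IsPullback eY gY' gY h ∧
            ∃ g : X' ⟶ Y', g ≫ gY' = gX' ∧ AlgebraicGeometry.IsOpenImmersion g) :=
  isIndConsPair_rel' _ stageDescent'_isOpenImmersion

theorem s5896 :
    ConsPropPair.IsIndConsPair
      (fun X Y T gX gY => ∃ (T' X' Y' : Scheme.{u}) (h : T' ⟶ T) (gX' : X' ⟶ T') (gY' : Y' ⟶ T')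
        (eX : X' ⟶ X) (eY : Y' ⟶ Y), IsIntegral T' ∧ Subsingleton ↥T' ∧
          IsPullback eX gX' gX h ∧ IsPullback eY gY' gY h ∧
            ∃ g : X' ⟶ Y', g ≫ gY' = gX' ∧ AlgebraicGeometry.Surjective g) :=
  isIndConsPair_rel' _ stageDescent'_surjective

theorem s5899 :
    ConsPropPair.IsIndConsPair
      (fun X Y T gX gY => ∃ (T' X' Y' : Scheme.{u}) (h : T' ⟶ T) (gX' : X' ⟶ T') (gY' : Y' ⟶ T')
        (eX : X' ⟶ X) (eY : Y' ⟶ Y), IsIntegral T' ∧ Subsingleton ↥T' ∧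
          IsPullback eX gX' gX h ∧ IsPullback eY gY' gY h ∧
            ∃ g : X' ⟶ Y', g ≫ gY' = gX' ∧ AlgebraicGeometry.UniversallyInjective g) :=
  isIndConsPair_rel' _ stageDescent'_universallyInjective

theorem s5905 :
    ConsPropPair.IsIndConsPair
      (fun X Y T gX gY => ∃ (T' X' Y' : Scheme.{u}) (h : T' ⟶ T) (gX' : X' ⟶ T') (gY' : Y' ⟶ T')
        (eX : X' ⟶ X) (eY : Y' ⟶ Y), IsIntegral T' ∧ Subsingleton ↥T' ∧
          IsPullback eX gX' gX h ∧ IsPullback eY gY' gY h ∧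
            ∃ g : X' ⟶ Y', g ≫ gY' = gX' ∧ MoreMor.IsQuasiAffineHom g) :=
  isIndConsPair_rel' (Groth.Agent.Lead.LimQAff.QA : MorphismProperty Scheme.{u}) stageDescent'_QA

end Groth.Agent.Helper5.CPair
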