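import Mathlib
import Groth.Agent.Helper5.CMor2
import Groth.Agent.Helper5.CPair6
import Groth.Agent.Helper5.CPair8
import Groth.Agent.Helper5.ConsLc6
import Groth.Agent.Lead.SchDescent2
import Groth.Agent.S1127

set_option autoImplicit false
universe u

namespace Groth.Agent.Helper5.CPair

open CategoryTheory CategoryTheory.Limits AlgebraicGeometry TopologicalSpace Topology
open Groth.Agent.Helper5.ConsPr Groth.Agent.Helper5.ConsLc

theorem stageDescent'_of_stageDescent {Q : MorphismProperty Scheme.{u}} (h : StageDescent Q) :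
    StageDescent' Q := by
  intro I _ _ D c hc _ i₀ _ _ X₀ Y₀ f₀ g₀ _ _ _ _ _ _ X Y f g qY qX hY hX hf
  have hY₀c : CompactSpace Y₀ := QuasiCompact.compactSpace_of_compactSpace g₀
  have hY₀q : QuasiSeparatedSpace Y₀ := quasiSeparatedSpace_of_quasiSeparated g₀
  have hX₀c : CompactSpace X₀ := QuasiCompact.compactSpace_of_compactSpace (f₀ ≫ g₀)
  have hX₀q : QuasiSeparatedSpace X₀ := quasiSeparatedSpace_of_quasiSeparated (f₀ ≫ g₀)
  have hf₀ : LocallyOfFiniteType f₀ := locallyOfFiniteType_of_comp f₀ g₀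
  exact h D c hc i₀ f₀ g₀ f g qY qX hY hX hf

instance : (Groth.Agent.Lead.LimQAff.QA : MorphismProperty Scheme.{u}).DescendsAlong
    (@Surjective ⊓ @Flat ⊓ @QuasiCompact) := Groth.Agent.S1127.result

theorem isIndConsMor_isAffineHom :
    ConsProp.IsIndConsMor (fun _ _ _ f _ => IsAffineHom f : ∀ ⦃X Y T : Scheme.{u}⦄,
      (X ⟶ Y) → (Y ⟶ T) → Prop) :=
  isIndConsMor_of_stageDescent' (@IsAffineHom : MorphismProperty Scheme.{u})
    (stageDescent'_of_stageDescent stageDescent_isAffineHom)

theorem isIndConsMor_QA :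
    ConsProp.IsIndConsMor (fun _ _ _ f _ => MoreMor.IsQuasiAffineHom f : ∀ ⦃X Y T : Scheme.{u}⦄,
      (X ⟶ Y) → (Y ⟶ T) → Prop) :=
  isIndConsMor_of_stageDescent' (Groth.Agent.Lead.LimQAff.QA : MorphismProperty Scheme.{u})
    stageDescent'_QA

theorem s4802 {X Y S : Scheme.{u}} (f : X ⟶ Y) (g : Y ⟶ S)
    [LocallyOfFinitePresentation g] [QuasiCompact g] [QuasiSeparated g]
    [LocallyOfFinitePresentation (f ≫ g)] [QuasiCompact (f ≫ g)] [QuasiSeparated (f ≫ g)] :
    ProCons.IsIndConstructible {s : S |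
      IsAffineHom (pullback.lift (pullback.fst (f ≫ g) (S.fromSpecResidueField s) ≫ f) (pullback.snd (f ≫ g) (S.fromSpecResidueField s))
          ((Category.assoc _ _ _).trans pullback.condition) :
        pullback (f ≫ g) (S.fromSpecResidueField s) ⟶ pullback g (S.fromSpecResidueField s))} :=
  s5881 f g isIndConsMor_isAffineHom

theorem s4803 {X Y S : Scheme.{u}} (f : X ⟶ Y) (g : Y ⟶ S)
    [LocallyOfFinitePresentation g] [QuasiCompact g] [QuasiSeparated g]
    [LocallyOfFinitePresentation (f ≫ g)] [QuasiCompact (f ≫ g)] [QuasiSeparated (f ≫ g)] :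
    ProCons.IsIndConstructible {s : S |
      MoreMor.IsQuasiAffineHom (pullback.lift (pullback.fst (f ≫ g) (S.fromSpecResidueField s) ≫ f) (pullback.snd (f ≫ g) (S.fromSpecResidueField s))
          ((Category.assoc _ _ _).trans pullback.condition) :
        pullback (f ≫ g) (S.fromSpecResidueField s) ⟶ pullback g (S.fromSpecResidueField s))} :=
  s5881 f g isIndConsMor_QA

end Groth.Agent.Helper5.CPair
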