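import Groth.Agent.Lead.EffCartier
import Groth.Agent.Helper9.IdealComap
import Groth.Agent.Helper3.DRingTor1
import Groth.Prelude.Def_BlowUp2
import Mathlib

/-! Base change of a relative effective Cartier divisor (schemes). -/

set_option autoImplicit false
set_option linter.style.haveILetI false
universe u
open CategoryTheory CategoryTheory.Limits AlgebraicGeometry TopologicalSpace TensorProduct

namespace Groth.Agent.Helper5.CartBC

open Groth.Agent.Lead

/-- multiplication by `b ⊗ 1` on `B ⊗[A] A'` is injective if `b` is a nonzerodivisor with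
`B ⧸ (b)` flat over `A` -/
theorem tmul_one_mem_nonZeroDivisors {A B A' : Type u} [CommRing A] [CommRing B] [CommRing A']
    [Algebra A B] [Algebra A A'] (b : B) (hb : b ∈ nonZeroDivisors B)
    [Module.Flat A (B ⧸ Ideal.span {b})] :
    (b ⊗ₜ[A] (1 : A') : B ⊗[A] A') ∈ nonZeroDivisors (B ⊗[A] A') := by
  have hinj : Function.Injective (LinearMap.mulLeft A b) := by
    intro x y hxy
    have h : (x - y) * b = 0 := by
      have : b * x = b * y := hxy
      rw [sub_mul, mul_comm x b, mul_comm y b, this, sub_self]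
    exact sub_eq_zero.1 ((mem_nonZeroDivisors_iff_right.1 hb) _ h)
  have hsurj : Function.Surjective (Ideal.Quotient.mkₐ A (Ideal.span {b})).toLinearMap :=
    Ideal.Quotient.mk_surjective
  have hex : Function.Exact (LinearMap.mulLeft A b)
      (Ideal.Quotient.mkₐ A (Ideal.span {b})).toLinearMap := by
    intro x
    constructor
    · intro hx
      have : x ∈ Ideal.span {b} := Ideal.Quotient.eq_zero_iff_mem.1 hx
      rw [Ideal.mem_span_singleton'] at this
      obtain ⟨y, hy⟩ := this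
      exact ⟨y, by rw [← hy]; exact mul_comm b y⟩
    · rintro ⟨y, rfl⟩
      apply Ideal.Quotient.eq_zero_iff_mem.2
      exact Ideal.mul_mem_right _ _ (Ideal.mem_span_singleton_self b)
  have h2 := Groth.Agent.Helper3.DRingLib.rTensor_injective_of_flat_coker
    (LinearMap.mulLeft A b) (Ideal.Quotient.mkₐ A (Ideal.span {b})).toLinearMap hinj hsurj hex A'
  have h3 : ∀ z : B ⊗[A] A', (LinearMap.mulLeft A b).rTensor A' z = (b ⊗ₜ[A] (1 : A')) * z := by
    intro z
    induction z using TensorProduct.induction_on with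
    | zero => simp
    | tmul a b =>
      simp [Algebra.TensorProduct.tmul_mul_tmul]
    | add x y hx hy => rw [map_add, hx, hy, mul_add]
  rw [mem_nonZeroDivisors_iff_right]
  intro z hz
  apply h2
  rw [h3, map_zero, mul_comm]
  exact hz

/-- the same in a pushout square of commutative rings -/
theorem map_mem_nonZeroDivisors_of_isPushout {A B A' C : CommRingCat.{u}} {φ : A ⟶ B}
    {ψ : A ⟶ A'} {β : B ⟶ C} {α : A' ⟶ C} (H : IsPushout φ ψ β α) (b : B)
    (hb : b ∈ nonZeroDivisors B)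
    (hflat : ((Ideal.Quotient.mk (Ideal.span {b})).comp φ.hom).Flat) :
    β.hom b ∈ nonZeroDivisors C := by
  letI := φ.hom.toAlgebra
  letI := ψ.hom.toAlgebra
  haveI : Module.Flat A (B ⧸ Ideal.span {b}) := (EffCartier.ringHomFlat_quot_iff φ.hom _).1 hflat
  have H' := CommRingCat.isPushout_tensorProduct A B A'
  have e1 : CommRingCat.ofHom (algebraMap A B) = φ := rfl
  have e2 : CommRingCat.ofHom (algebraMap A A') = ψ := rfl
  rw [e1, e2] at H'
  let e := H'.isoIsPushout _ _ H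
  have he : (CommRingCat.ofHom (S := B ⊗[A] A') Algebra.TensorProduct.includeLeftRingHom) ≫ e.hom
      = β := IsPushout.inl_isoIsPushout_hom _ _ H' H
  have h1 := tmul_one_mem_nonZeroDivisors (A := A) (A' := A') b hb
  have h2 : β.hom b = e.hom.hom (b ⊗ₜ[A] (1 : A')) := by
    rw [← he]
    rfl
  rw [h2, mem_nonZeroDivisors_iff_right]
  intro z hz
  have h3 : e.inv.hom z * (b ⊗ₜ[A] (1 : A')) = 0 := by
    have := congrArg e.inv.hom hz
    rw [map_mul, map_zero] at this
    have e3 : e.inv.hom (e.hom.hom (b ⊗ₜ[A] (1 : A'))) = b ⊗ₜ[A] (1 : A') := by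
      rw [← CommRingCat.comp_apply, Iso.hom_inv_id]
      rfl
    rw [e3] at this
    exact this
  have h4 := (mem_nonZeroDivisors_iff_right.1 h1) _ h3
  have e4 : e.hom.hom (e.inv.hom z) = z := by
    rw [← CommRingCat.comp_apply, Iso.inv_hom_id]
    rfl
  rw [← e4, h4, map_zero]

/-- Base change of a relative effective Cartier divisor: if `D ⊆ U` is effective Cartier and flat
over `V`, then its inverse image in `U ×_V V'` is effective Cartier. -/
theorem isEffCartierIdeal_comap_of_isPullback {U V V' U' : Scheme.{u}} {u : U ⟶ V} {v : V' ⟶ V}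
    {p₁ : U' ⟶ U} {p₂ : U' ⟶ V'} (H : IsPullback p₁ p₂ u v) (J : U.IdealSheafData)
    (hJ : BlowUp.IsEffCartierIdeal J) [Flat (J.subschemeι ≫ u)] :
    BlowUp.IsEffCartierIdeal (J.comap p₁) := by
  intro x'
  obtain ⟨_, ⟨V₀, hV₀, rfl⟩, hxV₀, -⟩ :=
    V.isBasis_affineOpens.exists_subset_of_mem_open (Set.mem_univ (u (p₁ x'))) isOpen_univ
  have hx2 : p₂ x' ∈ v ⁻¹ᵁ V₀ := by
    show v (p₂ x') ∈ V₀
    rw [← Scheme.Hom.comp_apply, ← H.w, Scheme.Hom.comp_apply]
    exact hxV₀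
  obtain ⟨_, ⟨V₀', hV₀', rfl⟩, hxV₀', hV₀'le⟩ :=
    V'.isBasis_affineOpens.exists_subset_of_mem_open hx2 (v ⁻¹ᵁ V₀).isOpen
  obtain ⟨U₀, hxU₀, hU₀le, b, hb, hJb⟩ :=
    EffCartier.exists_le_of_isEffCartier J hJ (p₁ x') (u ⁻¹ᵁ V₀) hxV₀
  let W₀ : U'.Opens := p₁ ⁻¹ᵁ U₀.1 ⊓ p₂ ⁻¹ᵁ V₀'
  have hW₀aff : IsAffineOpen W₀ := by
    haveI : IsAffine (V₀ : Scheme.{u}) := hV₀
    haveI : IsAffine (V₀' : Scheme.{u}) := hV₀'
    haveI : IsAffine (U₀.1 : Scheme.{u}) := U₀.2
    exact .of_isIso (Scheme.Hom.isPullback_resLE H hV₀'le hU₀le (UY := W₀) rfl).isoPullback.hom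
  have hpo := (isIso_pushoutSection_iff H hV₀'le hU₀le (UY := W₀) rfl).1
    (isIso_pushoutSection_of_isAffineOpen H hV₀'le hU₀le rfl hV₀ hV₀' U₀.2)
  have hle : W₀ ≤ p₁ ⁻¹ᵁ U₀.1 := inf_le_left
  refine ⟨⟨W₀, hW₀aff⟩, ⟨hxU₀, hxV₀'⟩, (p₁.appLE U₀.1 W₀ hle).hom b, ?_, ?_⟩
  · exact map_mem_nonZeroDivisors_of_isPushout hpo b hb
      (by rw [← hJb]; exact EffCartier.flat_quot_of_flat u J ⟨V₀, hV₀⟩ U₀ hU₀le)
  · rw [Groth.Agent.Helper9.IdealComap.ideal_comap p₁ J U₀ ⟨W₀, hW₀aff⟩ hle, hJb, Ideal.map_span,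
      Set.image_singleton]

end Groth.Agent.Helper5.CartBC
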