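import Groth.Agent.Lead.CartDescA
import Groth.Agent.Lead.RelCartierA
import Groth.Agent.Lead.RelCartierE
import Mathlib

/-! Faithfully flat descent of "locally principal, generated by a nonzerodivisor" without
noetherian hypotheses (algebra). -/

set_option autoImplicit false
universe u
open TensorProduct

namespace Groth.Agent.Helper5.CartDesc

/-- an ideal whose extension along a faithfully flat map is principal is finitely generated -/
theorem fg_of_map_principal {A B : Type*} [CommRing A] [CommRing B] [Algebra A B]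
    [Module.FaithfullyFlat A B] (I : Ideal A) (g : B)
    (h : I.map (algebraMap A B) = Ideal.span {g}) : I.FG := by
  classical
  have hg : g ∈ Ideal.span ((algebraMap A B) '' (I : Set A)) := by
    have : g ∈ I.map (algebraMap A B) := h ▸ Ideal.mem_span_singleton_self g
    exact this
  obtain ⟨T, hT, hgT⟩ := Submodule.mem_span_finite_of_mem_span hg
  obtain ⟨s, hs, rfl⟩ := Finset.subset_set_image_iff.1 hT
  let I₀ : Ideal A := Ideal.span (s : Set A)
  have h0 : I₀ ≤ I := Ideal.span_le.2 hs
  have h1 : I₀.map (algebraMap A B) = I.map (algebraMap A B) := by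
    apply le_antisymm (Ideal.map_mono h0)
    rw [h, Ideal.span_singleton_le_iff_mem, Ideal.map_span]
    simpa using hgT
  have h2 : I₀ = I := Ideal.map_injective_of_faithfullyFlat (B := B) h1
  rw [← h2]
  exact ⟨s, rfl⟩

/-- multiplication by `1 ⊗ g` on a flat base change stays injective -/
theorem includeRight_mem_nonZeroDivisors {A A' B : Type*} [CommRing A] [CommRing A'] [CommRing B]
    [Algebra A A'] [Algebra A B] [Module.Flat A A'] (g : B) (hg : g ∈ nonZeroDivisors B) :
    (Algebra.TensorProduct.includeRight (R := A) (A := A') (B := B)) g ∈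
      nonZeroDivisors (A' ⊗[A] B) := by
  have hinj : Function.Injective (LinearMap.mulLeft A g) := by
    intro x y hxy
    have h : (x - y) * g = 0 := by
      have : g * x = g * y := hxy
      rw [sub_mul, mul_comm x g, mul_comm y g, this, sub_self]
    exact sub_eq_zero.1 ((mem_nonZeroDivisors_iff_right.1 hg) _ h)
  have h2 := Module.Flat.lTensor_preserves_injective_linearMap (M := A') (LinearMap.mulLeft A g) hinj
  have h3 : ∀ z : A' ⊗[A] B, (LinearMap.mulLeft A g).lTensor A' z =
      (Algebra.TensorProduct.includeRight (R := A) (A := A') (B := B)) g * z := by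
    intro z
    induction z using TensorProduct.induction_on with
    | zero => simp
    | tmul a b =>
      simp [Algebra.TensorProduct.tmul_mul_tmul]
    | add x y hx hy => rw [map_add, hx, hy, mul_add]
  rw [mem_nonZeroDivisors_iff_right]
  intro z hz
  apply h2
  rw [h3, map_zero, mul_comm]
  exact hz

/-- Descent of "principal generated by a nonzerodivisor" along a faithfully flat ring map, locally
around a prime. -/
theorem alg_descent {A B : Type u} [CommRing A] [CommRing B] [Algebra A B]
    [Module.FaithfullyFlat A B] (I : Ideal A) (g : B) (hg : g ∈ nonZeroDivisors B)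
    (h : I.map (algebraMap A B) = Ideal.span {g}) (𝔭 : Ideal A) [𝔭.IsPrime] :
    ∃ r, r ∉ 𝔭 ∧ ∃ g₀ ∈ I, ∀ (A' : Type u) [CommRing A'] [Algebra A A'],
      IsLocalization.Away r A' →
        I.map (algebraMap A A') = Ideal.span {algebraMap A A' g₀} ∧
          algebraMap A A' g₀ ∈ nonZeroDivisors A' := by
  have hFG := fg_of_map_principal I g h
  obtain ⟨𝔮, h𝔮, hlo⟩ := Ideal.exists_isPrime_liesOver_of_faithfullyFlat (B := B) 𝔭
  have h𝔮p : 𝔭 = 𝔮.comap (algebraMap A B) := hlo.over
  let ψ : Localization.AtPrime 𝔭 →+* Localization.AtPrime 𝔮 :=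
    Localization.localRingHom 𝔭 𝔮 (algebraMap A B) h𝔮p
  have hψ : ψ.Flat :=
    RingHom.Flat.localRingHom (f := algebraMap A B) (RingHom.flat_algebraMap_iff.2 inferInstance)
      𝔮 𝔭 h𝔮p
  algebraize [ψ]
  haveI : IsLocalHom (algebraMap (Localization.AtPrime 𝔭) (Localization.AtPrime 𝔮)) :=
    Localization.isLocalHom_localRingHom 𝔭 𝔮 (algebraMap A B) h𝔮p
  have hcomp : (algebraMap (Localization.AtPrime 𝔭) (Localization.AtPrime 𝔮)).comp
      (algebraMap A (Localization.AtPrime 𝔭)) =
      (algebraMap B (Localization.AtPrime 𝔮)).comp (algebraMap A B) := by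
    ext a
    exact Localization.localRingHom_to_map 𝔭 𝔮 (algebraMap A B) h𝔮p a
  have hg' : algebraMap B (Localization.AtPrime 𝔮) g ∈ nonZeroDivisors (Localization.AtPrime 𝔮) :=
    IsLocalization.map_nonZeroDivisors_le 𝔮.primeCompl (Localization.AtPrime 𝔮) ⟨g, hg, rfl⟩
  have hmap : (I.map (algebraMap A (Localization.AtPrime 𝔭))).map
      (algebraMap (Localization.AtPrime 𝔭) (Localization.AtPrime 𝔮)) =
      Ideal.span {algebraMap B (Localization.AtPrime 𝔮) g} := by
    rw [Ideal.map_map, hcomp, ← Ideal.map_map, h, Ideal.map_span, Set.image_singleton]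
  obtain ⟨t, -, ht, htnzd⟩ := Groth.Agent.Lead.CartDescA.principal_descent
    (I.map (algebraMap A (Localization.AtPrime 𝔭))) (hFG.map _) _ hg' hmap
  obtain ⟨r, hr, g₀, hg₀, hsp⟩ := Groth.Agent.Lead.RelCartierE.spread_principal
    𝔭.primeCompl I hFG t ht
  refine ⟨r, hr, g₀, hg₀, fun A' _ _ hloc => ?_⟩
  have hu : IsUnit (algebraMap A A' r) := IsLocalization.Away.algebraMap_isUnit r
  have h1 := hsp A' hu
  refine ⟨h1, ?_⟩
  haveI : Module.Flat A A' := IsLocalization.flat A' (Submonoid.powers r)
  have e1 : (algebraMap A' (A' ⊗[A] B)).comp (algebraMap A A') =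
      (Algebra.TensorProduct.includeRight (R := A) (A := A') (B := B)).toRingHom.comp
        (algebraMap A B) := by
    ext a
    show (algebraMap A A' a) ⊗ₜ[A] (1 : B) = (1 : A') ⊗ₜ[A] (algebraMap A B a)
    rw [Algebra.algebraMap_eq_smul_one, Algebra.algebraMap_eq_smul_one, TensorProduct.smul_tmul]
  have hgB' := includeRight_mem_nonZeroDivisors (A := A) (A' := A') g hg
  have h2 : Ideal.span {algebraMap A' (A' ⊗[A] B) (algebraMap A A' g₀)} =
      Ideal.span {(Algebra.TensorProduct.includeRight (R := A) (A := A') (B := B)) g} := by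
    have h3 := congrArg (Ideal.map (algebraMap A' (A' ⊗[A] B))) h1
    rw [Ideal.map_map, e1, ← Ideal.map_map, h, Ideal.map_span, Ideal.map_span,
      Set.image_singleton, Set.image_singleton] at h3
    exact h3.symm
  have h4 := Groth.Agent.Lead.RelCartierA.nzd_of_span_eq _ _ hgB' h2.symm
  rw [mem_nonZeroDivisors_iff_right]
  intro x hx
  have h5 : algebraMap A' (A' ⊗[A] B) x * algebraMap A' (A' ⊗[A] B) (algebraMap A A' g₀) = 0 := by
    rw [← map_mul, hx, map_zero]
  have h6 := (mem_nonZeroDivisors_iff_right.1 h4) _ h5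
  exact (FaithfulSMul.algebraMap_injective A' (A' ⊗[A] B)) (by rw [h6, map_zero])

end Groth.Agent.Helper5.CartDesc
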