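import Groth.Agent.Helper5.CartDesc1
import Groth.Agent.Lead.EffCartier
import Groth.Agent.Helper9.IdealComap
import Groth.Prelude.Def_BlowUp2
import Mathlib

/-! Descent of effective Cartier divisors along flat universally open morphisms, locally around a
point of the image (no noetherian hypotheses). -/

set_option autoImplicit false
set_option linter.style.haveILetI false
universe u
open CategoryTheory CategoryTheory.Limits AlgebraicGeometry TopologicalSpace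

namespace Groth.Agent.Helper5.CartDesc

open Groth.Agent.Lead

/-- if `p` is flat and universally open and the inverse image of `𝓘` is effective Cartier, then
`𝓘` is principal generated by a nonzerodivisor around every point of the image of `p` -/
theorem descent_at {X' X : Scheme.{u}} (p : X' ⟶ X) [Flat p] [UniversallyOpen p]
    (𝓘 : X.IdealSheafData) (h : BlowUp.IsEffCartierIdeal (𝓘.comap p)) (x' : X') :
    ∃ U : X.affineOpens, p x' ∈ U.1 ∧ ∃ f : Γ(X, U.1), f ∈ nonZeroDivisors Γ(X, U.1) ∧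
      𝓘.ideal U = Ideal.span {f} := by
  obtain ⟨_, ⟨U, hU, rfl⟩, hxU, -⟩ :=
    X.isBasis_affineOpens.exists_subset_of_mem_open (Set.mem_univ (p x')) isOpen_univ
  obtain ⟨W, hx'W, hWU, g', hg'nzd, hgI⟩ :=
    EffCartier.exists_le_of_isEffCartier _ h x' (p ⁻¹ᵁ U) hxU
  -- the open image of `W`
  let O : X.Opens := ⟨p '' (W.1 : Set X'), p.isOpenMap _ W.1.isOpen⟩
  have hxO : p x' ∈ O := ⟨x', hx'W, rfl⟩
  obtain ⟨f, hfO, hxf⟩ := hU.exists_basicOpen_le (V := O) ⟨p x', hxO⟩ hxU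
  let U₁ : X.affineOpens := X.affineBasicOpen (U := ⟨U, hU⟩) f
  let W₁ : X'.affineOpens := X'.affineBasicOpen (U := W) ((p.appLE U W.1 hWU).hom f)
  have hW₁ : W₁.1 = W.1 ⊓ p ⁻¹ᵁ (X.basicOpen f) := Scheme.basicOpen_appLE p W.1 U hWU f
  have hWU₁ : W₁.1 ≤ p ⁻¹ᵁ U₁.1 := by
    rw [hW₁]
    exact inf_le_right
  have hW₁W : W₁ ≤ W := X'.affineBasicOpen_le _
  have hflat : (p.appLE U₁.1 W₁.1 hWU₁).hom.Flat := Scheme.Hom.flat_appLE p U₁.2 W₁.2 hWU₁
  have hsurj : Function.Surjective (PrimeSpectrum.comap (p.appLE U₁.1 W₁.1 hWU₁).hom) := by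
    intro 𝔭
    have hy : U₁.2.fromSpec 𝔭 ∈ U₁.1 := by
      have h0 := Set.mem_range_self (f := U₁.2.fromSpec) 𝔭
      rw [U₁.2.range_fromSpec] at h0
      exact h0
    obtain ⟨w, hwW, hw⟩ := hfO hy
    have hwW₁ : w ∈ W₁.1 := by
      rw [hW₁]
      refine ⟨hwW, ?_⟩
      show p w ∈ X.basicOpen f
      rw [hw]
      exact hy
    refine ⟨W₁.2.primeIdealOf ⟨w, hwW₁⟩, ?_⟩
    have h1 := IsAffineOpen.comap_primeIdealOf_appLE U₁.1 U₁.2 W₁.1 W₁.2 hWU₁ hwW₁
    apply (U₁.2.fromSpec).isOpenEmbedding.injective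
    show U₁.2.fromSpec ((W₁.2.primeIdealOf ⟨w, hwW₁⟩).comap (p.appLE U₁.1 W₁.1 hWU₁).hom) = _
    rw [h1, U₁.2.fromSpec_primeIdealOf]
    exact hw
  algebraize [(p.appLE U₁.1 W₁.1 hWU₁).hom]
  haveI : Module.FaithfullyFlat Γ(X, U₁.1) Γ(X', W₁.1) :=
    (RingHom.FaithfullyFlat.iff_flat_and_comap_surjective.2 ⟨hflat, hsurj⟩)
  obtain ⟨hg₁, hI₁⟩ := EffCartier.principal_res _ W W₁ hW₁W g' hg'nzd hgI
  have hmap : (𝓘.ideal U₁).map (algebraMap Γ(X, U₁.1) Γ(X', W₁.1)) =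
      Ideal.span {(X'.presheaf.map (homOfLE hW₁W).op g' : Γ(X', W₁.1))} := by
    rw [← hI₁]
    exact (Groth.Agent.Helper9.IdealComap.ideal_comap p 𝓘 U₁ W₁ hWU₁).symm
  obtain ⟨r, hr, g₀, hg₀, hA'⟩ := alg_descent (𝓘.ideal U₁) _ hg₁ hmap
    (U₁.2.primeIdealOf ⟨p x', hxf⟩).asIdeal
  have hxr : p x' ∈ X.basicOpen r := by
    rw [X.mem_basicOpen r _ hxf]
    letI algBT : Algebra Γ(X, U₁.1) (X.presheaf.stalk (p x')) :=
      (X.presheaf.germ U₁.1 _ hxf).hom.toAlgebra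
    haveI := U₁.2.isLocalization_stalk ⟨p x', hxf⟩
    exact IsLocalization.map_units (X.presheaf.stalk (p x'))
      (⟨r, hr⟩ : (U₁.2.primeIdealOf ⟨p x', hxf⟩).asIdeal.primeCompl)
  letI algBB' : Algebra Γ(X, U₁.1) Γ(X, X.basicOpen r) :=
    (X.presheaf.map (homOfLE (X.basicOpen_le r)).op).hom.toAlgebra
  have hloc : IsLocalization.Away r Γ(X, X.basicOpen r) := U₁.2.isLocalization_basicOpen r
  obtain ⟨h1, h2⟩ := hA' Γ(X, X.basicOpen r) hloc
  refine ⟨X.affineBasicOpen (U := U₁) r, hxr,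
    (X.presheaf.map (homOfLE (X.basicOpen_le r)).op).hom g₀, h2, ?_⟩
  rw [← 𝓘.map_ideal_basicOpen U₁ r]
  exact h1

/-- global form: descent along a flat, universally open, surjective morphism -/
theorem descent {X' X : Scheme.{u}} (p : X' ⟶ X) [Flat p] [UniversallyOpen p]
    [AlgebraicGeometry.Surjective p]
    (𝓘 : X.IdealSheafData) (h : BlowUp.IsEffCartierIdeal (𝓘.comap p)) :
    BlowUp.IsEffCartierIdeal 𝓘 := by
  intro x
  obtain ⟨x', rfl⟩ := p.surjective x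
  exact descent_at p 𝓘 h x'

end Groth.Agent.Helper5.CartDesc
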