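import Mathlib
import Groth.Prelude
import Groth.Agent.Helper5.EtDim
import Groth.Agent.Helper5.DimBC2

set_option autoImplicit false
universe u
open CategoryTheory CategoryTheory.Limits AlgebraicGeometry TopologicalSpace

namespace Groth.Agent.Helper5.CartDim

/-- The dimension of an affine open subset is the Krull dimension of its ring of sections. -/
theorem dim_affineOpen {V : Scheme.{u}} (U : V.Opens) (hU : IsAffineOpen U) :
    topologicalKrullDim ↥(U : Set V) = ringKrullDim Γ(V, U) := by
  have h1 : topologicalKrullDim ↥(U : Set V) = topologicalKrullDim ↥(U.toScheme) := rfl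
  rw [h1, ← Groth.Agent.Helper5.DimBC.dim_Spec Γ(V, U)]
  exact IsHomeomorph.topologicalKrullDim_eq _ (Scheme.homeoOfIso hU.isoSpec).isHomeomorph

set_option maxHeartbeats 1000000 in
/-- An effective Cartier divisor has smaller local dimension than the ambient scheme, at points
where the latter is finite. -/
theorem localDim_subscheme_lt {V : Scheme.{u}} (I : V.IdealSheafData)
    (hI : BlowUp.IsEffCartierIdeal I) (z : I.subscheme) (d : WithBot ℕ∞)
    (hd : FlatMor.localDim V (I.subschemeι z) = d) (hfin : d ≠ ⊤) :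
    FlatMor.localDim I.subscheme z < d := by
  let v : V := I.subschemeι z
  obtain ⟨U, hvU, f, hf, hIf⟩ := hI v
  have hne : Nonempty {W : Opens V // v ∈ W} := ⟨⟨⊤, trivial⟩⟩
  obtain ⟨⟨W, hvW⟩, hW⟩ := ciInf_mem (fun W : {W : Opens V // v ∈ W} =>
    topologicalKrullDim ↥(W.1 : Set V))
  have hW' : topologicalKrullDim ↥(W : Set V) = d := hW.trans hd
  obtain ⟨g, hg1, hg2⟩ := U.2.exists_basicOpen_le (V := U.1 ⊓ W) ⟨v, ⟨hvU, hvW⟩⟩ hvU
  let U' : V.affineOpens := V.affineBasicOpen g
  have hU'U : U' ≤ U := V.basicOpen_le g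
  have hU'W : (U'.1 : Set V) ⊆ W := fun y hy => (hg1 hy).2
  -- the dimension of U' is at most d
  have hdimU' : ringKrullDim Γ(V, U'.1) ≤ d := by
    rw [← dim_affineOpen U'.1 U'.2, ← hW']
    exact (Topology.IsEmbedding.inclusion hU'W).isInducing.topologicalKrullDim_le
  -- the ideal on U' is generated by a nonzerodivisor
  let f' : Γ(V, U'.1) := (V.presheaf.map (homOfLE hU'U).op).hom f
  have hIf' : I.ideal U' = Ideal.span {f'} := by
    rw [← I.map_ideal hU'U, hIf, Ideal.map_span, Set.image_singleton]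
  have hf' : f' ∈ nonZeroDivisors Γ(V, U'.1) := by
    haveI := U.2.isLocalization_basicOpen g
    exact IsLocalization.map_nonZeroDivisors_le (Submonoid.powers g) Γ(V, V.basicOpen g)
      (Submonoid.mem_map_of_mem _ hf)
  have hq : ringKrullDim (Γ(V, U'.1) ⧸ I.ideal U') + 1 ≤ d := by
    rw [hIf']
    exact (ringKrullDim_quotient_succ_le_of_nonZeroDivisor hf').trans hdimU'
  -- the open piece of the subscheme over U'
  have hzU' : z ∈ (I.subschemeCover.f U').opensRange := by
    rw [I.opensRange_subschemeCover_map U']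
    exact hg2
  obtain ⟨z₀, hz₀⟩ := hzU'
  have h1 : FlatMor.localDim I.subscheme z ≤ ringKrullDim (Γ(V, U'.1) ⧸ I.ideal U') := by
    rw [← hz₀, ← Groth.Agent.Helper5.EtDim.localDim_eq_of_etale (I.subschemeCover.f U') z₀]
    have h0 := Groth.Agent.Helper5.DimBC.dim_Spec (CommRingCat.of (Γ(V, U'.1) ⧸ I.ideal U'))
    refine le_trans ?_ (le_of_eq h0)
    unfold FlatMor.localDim
    refine (iInf_le _ ⟨(⊤ : Opens _), trivial⟩).trans ?_
    exact topologicalKrullDim_subspace_le _ _
  -- conclude
  have hd0 : ∃ n : ℕ, d = (n : WithBot ℕ∞) ∨ d = ⊥ := by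
    induction d using WithBot.recBotCoe with
    | bot => exact ⟨0, Or.inr rfl⟩
    | coe a =>
      induction a using ENat.recTopCoe with
      | top => exact absurd rfl hfin
      | coe n => exact ⟨n, Or.inl rfl⟩
  obtain ⟨n, hn | hn⟩ := hd0
  · rw [hn] at hq ⊢
    refine lt_of_le_of_lt h1 ?_
    generalize ringKrullDim (Γ(V, U'.1) ⧸ I.ideal U') = r at hq
    induction r using WithBot.recBotCoe with
    | bot => exact WithBot.bot_lt_coe _
    | coe a =>
      induction a using ENat.recTopCoe with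
      | top =>
        exfalso
        have : ((⊤ : ℕ∞) : WithBot ℕ∞) + 1 = ((⊤ : ℕ∞) : WithBot ℕ∞) := rfl
        rw [this] at hq
        have h6 : ((⊤ : ℕ∞) : WithBot ℕ∞) ≤ (((n : ℕ) : ℕ∞) : WithBot ℕ∞) := hq
        rw [WithBot.coe_le_coe, top_le_iff] at h6
        exact ENat.coe_ne_top n h6
      | coe m =>
        have h3 : m + 1 ≤ n := by exact_mod_cast hq
        have h4 : m < n := by omega
        exact_mod_cast h4
  · exfalso
    rw [hn] at hW'
    have : Nonempty ↥(W : Set V) := ⟨⟨v, hvW⟩⟩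
    have h5 : topologicalKrullDim ↥(W : Set V) ≠ ⊥ := by
      rw [Ne, topologicalKrullDim, Order.krullDim_eq_bot_iff, not_isEmpty_iff]
      exact ⟨⟨closure {⟨v, hvW⟩}, isIrreducible_singleton.closure, isClosed_closure⟩⟩
    exact h5 hW'

end Groth.Agent.Helper5.CartDim
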