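import Mathlib
import Groth.Agent.Helper5.CartDim1
import Groth.Agent.Helper5.HasAtChart
import Groth.Agent.Helper5.PtLoc4

set_option autoImplicit false
set_option linter.unusedVariables false
universe u
open CategoryTheory CategoryTheory.Limits AlgebraicGeometry TopologicalSpace

namespace Groth.Agent.Helper5.CartDim

open AlgSp

variable {S : Scheme.{u}}

set_option maxHeartbeats 1000000 in
set_option backward.isDefEq.respectTransparency.types false in
theorem s10794 (X D : AlgSp.Space S) (i : D ⟶ X)
    (hD : AlgSp.IsEffCartierSub i.hom) (x : AlgSp.Points D.obj) (d : WithBot ℕ∞)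
    (hd : AlgSp.HasAt (fun U u => FlatMor.localDim ↥U u = d) X.obj (AlgSp.Points.map i.hom x)) (hfin : d ≠ ⊤) :
    AlgSp.HasAt (fun V v => FlatMor.localDim ↥V v < d) D.obj x := by
  obtain ⟨-, V, φ, I, fst, hφe, hφs, hpb, hI⟩ := hD
  have inst1 := repWith_isStableUnderBaseChange (S := S) @Etale
  have inst2 := repWith_isStableUnderBaseChange (S := S) @Surjective
  have hfe : RepWith @Etale fst := MorphismProperty.of_isPullback hpb.flip hφe
  have hfs : RepWith @Surjective fst := MorphismProperty.of_isPullback hpb.flip hφs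
  obtain ⟨z, hz⟩ := Groth.Agent.Helper5.AlgSpOpen.ofPt_surjective_of_repWith fst hfs x
  refine ⟨_, fst, z, hfe, hz, ?_⟩
  have hv : FlatMor.localDim ↥V.left (I.subschemeι z) = d := by
    have h1 : Points.ofPt φ (I.subschemeι z) = Points.map i.hom x := by
      rw [← hz, Points.map_ofPt, hpb.w, Groth.Agent.Helper4.AlgSpPtsDesc.ofPt_yon_map_comp]
      rfl
    rw [← h1] at hd
    exact (Groth.Agent.Helper5.HasAtChart.hasAt_iff_chart _
      (fun g _ x => by rw [Groth.Agent.Helper5.EtDim.localDim_eq_of_etale g x]) φ hφe _).1 hd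
  exact localDim_subscheme_lt I hI z d hv hfin

end Groth.Agent.Helper5.CartDim
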