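import Mathlib
import Groth.Agent.Helper6.Caten3

set_option autoImplicit false
universe u

namespace Groth.Agent.Helper5.CatSp

open Groth.Agent.Helper6.Caten

section Lift

variable {P : Type*} [PartialOrder P] {Q : Type*} [PartialOrder Q]

/-- recursive choice of lifts along a chain -/
noncomputable def liftSeq (π : Q → P) (s : LTSeries P) (q₀ : Q) : ℕ → Q
  | 0 => q₀
  | k + 1 =>
    open Classical in
    if h : ∃ q' : Q, liftSeq π s q₀ k ≤ q' ∧ ∃ hk : k + 1 < s.length + 1, π q' = s ⟨k + 1, hk⟩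
    then h.choose else liftSeq π s q₀ k

theorem liftSeq_spec (π : Q → P)
    (hlift : ∀ (q : Q) (p' : P), π q ≤ p' → ∃ q', q ≤ q' ∧ π q' = p')
    (s : LTSeries P) (q₀ : Q) (h0 : π q₀ = s.head) :
    ∀ (k : ℕ) (hk : k < s.length + 1), π (liftSeq π s q₀ k) = s ⟨k, hk⟩ := by
  intro k
  induction k with
  | zero => intro hk; exact h0
  | succ k ih =>
    intro hk
    have h1 := ih (Nat.lt_of_succ_lt hk)
    have hlt : s ⟨k, Nat.lt_of_succ_lt hk⟩ < s ⟨k + 1, hk⟩ :=
      s.strictMono (Fin.mk_lt_mk.mpr (Nat.lt_succ_self k))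
    obtain ⟨q', hq1, hq2⟩ := hlift (liftSeq π s q₀ k) (s ⟨k + 1, hk⟩) (h1 ▸ hlt.le)
    have hex : ∃ q' : Q, liftSeq π s q₀ k ≤ q' ∧
        ∃ hk : k + 1 < s.length + 1, π q' = s ⟨k + 1, hk⟩ := ⟨q', hq1, hk, hq2⟩
    have e : liftSeq π s q₀ (k + 1) = hex.choose := by
      rw [liftSeq, dif_pos hex]
    rw [e]
    obtain ⟨-, _, h3⟩ := hex.choose_spec
    exact h3

theorem liftSeq_le (π : Q → P) (s : LTSeries P) (q₀ : Q) (k : ℕ) :
    liftSeq π s q₀ k ≤ liftSeq π s q₀ (k + 1) := by
  rw [liftSeq.eq_2]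
  split_ifs with h
  · exact h.choose_spec.1
  · exact le_rfl

/-- Lifting chains along a monotone map with going-up lifting and no comparable pairs in fibres;
saturated chains lift to saturated chains. -/
theorem exists_lift_series (π : Q → P) (hmono : Monotone π)
    (hlift : ∀ (q : Q) (p' : P), π q ≤ p' → ∃ q', q ≤ q' ∧ π q' = p')
    (hfib : ∀ q q' : Q, q ≤ q' → π q = π q' → q = q')
    (s : LTSeries P) (q₀ : Q) (h0 : π q₀ = s.head) :
    ∃ t : LTSeries Q, t.length = s.length ∧ t.head = q₀ ∧ π t.last = s.last ∧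
      ((∀ i : Fin s.length, s i.castSucc ⋖ s i.succ) →
        ∀ i : Fin t.length, t i.castSucc ⋖ t i.succ) := by
  have hspec := liftSeq_spec π hlift s q₀ h0
  have hle := liftSeq_le π s q₀
  have hlt : ∀ (k : ℕ) (hk : k + 1 < s.length + 1),
      liftSeq π s q₀ k < liftSeq π s q₀ (k + 1) := by
    intro k hk
    refine lt_of_le_of_ne (hle k) fun e => ?_
    have h1 := hspec k (Nat.lt_of_succ_lt hk)
    have h2 := hspec (k + 1) hk
    rw [← e, h1] at h2
    have : s ⟨k, Nat.lt_of_succ_lt hk⟩ < s ⟨k + 1, hk⟩ :=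
      s.strictMono (Fin.mk_lt_mk.mpr (Nat.lt_succ_self k))
    exact this.ne h2
  have hsm : StrictMono (fun i : Fin (s.length + 1) => liftSeq π s q₀ i.val) := by
    rw [Fin.strictMono_iff_lt_succ]
    intro i
    exact hlt i.val (Nat.succ_lt_succ i.isLt)
  refine ⟨LTSeries.mk s.length (fun i => liftSeq π s q₀ i.val) hsm, rfl, rfl, ?_, ?_⟩
  · exact hspec s.length (Nat.lt_succ_self _)
  · intro hsat i
    have hi : i.val + 1 < s.length + 1 := Nat.succ_lt_succ i.isLt
    refine ⟨hlt i.val hi, ?_⟩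
    intro c hc1 hc2
    change liftSeq π s q₀ i.val < c at hc1
    change c < liftSeq π s q₀ (i.val + 1) at hc2
    have h1 := hspec i.val (Nat.lt_of_succ_lt hi)
    have h2 := hspec (i.val + 1) hi
    have hcov : s ⟨i.val, Nat.lt_of_succ_lt hi⟩ ⋖ s ⟨i.val + 1, hi⟩ := hsat i
    have hc1' : s ⟨i.val, Nat.lt_of_succ_lt hi⟩ ≤ π c := h1 ▸ hmono hc1.le
    have hc2' : π c ≤ s ⟨i.val + 1, hi⟩ := h2 ▸ hmono hc2.le
    rcases hcov.eq_or_eq hc1' hc2' with e | e
    · exact hc1.ne (hfib _ _ hc1.le (by rw [h1, e]))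
    · exact hc2.ne (hfib _ _ hc2.le (by rw [h2, e]))

end Lift

section Dim

variable {P : Type*} [PartialOrder P] {Q : Type*} [Preorder Q]

/-- `csup` computed as the Krull dimension of an interval, through a surjective order-reflecting
map from a preorder. -/
theorem csup_eq_krullDim_Icc (e : Q → P) (he : ∀ a b, e a ≤ e b ↔ a ≤ b)
    (hsurj : Function.Surjective e) (a b : Q) (hab : a ≤ b) :
    ((csup (e a) (e b) : ℕ∞) : WithBot ℕ∞) = Order.krullDim (Set.Icc a b) := by
  have helt : ∀ x y : Q, x < y → e x < e y := by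
    intro x y hxy
    rw [lt_iff_le_not_ge] at hxy ⊢
    exact ⟨(he _ _).2 hxy.1, fun h => hxy.2 ((he _ _).1 h)⟩
  have helt' : ∀ x y : Q, e x < e y → x < y := by
    intro x y hxy
    rw [lt_iff_le_not_ge] at hxy ⊢
    exact ⟨(he _ _).1 hxy.1, fun h => hxy.2 ((he _ _).2 h)⟩
  have : Nonempty (Set.Icc a b) := ⟨⟨a, le_rfl, hab⟩⟩
  rw [Order.krullDim_eq_iSup_length]
  congr 1
  apply le_antisymm
  · refine iSup_le fun s => iSup_le fun hs => ?_
    choose g hg using hsurj
    have hmem : ∀ i, g (s i) ∈ Set.Icc a b := by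
      intro i
      constructor
      · rw [← he, hg, ← hs.1]; exact s.head_le i
      · rw [← he, hg]; exact (s.monotone (Fin.le_last i)).trans hs.2
    let t : LTSeries (Set.Icc a b) := LTSeries.mk s.length (fun i => ⟨g (s i), hmem i⟩)
      (fun i j hij => by
        show g (s i) < g (s j)
        apply helt'
        rw [hg, hg]
        exact s.strictMono hij)
    exact le_iSup_of_le t le_rfl
  · refine iSup_le fun t => ?_
    let s₀ : LTSeries P := t.map (fun x => e x.1) (fun x y hxy => helt _ _ hxy)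
    have hlast : s₀.last ≤ e b := by
      rw [LTSeries.last_map]
      exact (he _ _).2 t.last.2.2
    have hhead : e a ≤ s₀.head := by
      rw [LTSeries.head_map]
      exact (he _ _).2 t.head.2.1
    rcases hhead.eq_or_lt with h | h
    · exact le_iSup_of_le s₀ (le_iSup_of_le ⟨h.symm, hlast⟩ le_rfl)
    · refine le_iSup_of_le (s₀.cons (e a) h) (le_iSup_of_le ⟨?_, ?_⟩ ?_)
      · exact RelSeries.head_cons _ _ _
      · rw [RelSeries.last_cons]; exact hlast
      · show (t.length : ℕ∞) ≤ ((s₀.cons (e a) h).length : ℕ∞)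
        have : (s₀.cons (e a) h).length = t.length + 1 := by simp [s₀]
        rw [this]
        exact_mod_cast Nat.le_succ _

end Dim

end Groth.Agent.Helper5.CatSp
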