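import Groth.Agent.Helper5.CatSp1
import Groth.Agent.Helper5.Decent3
import Groth.Agent.Helper5.DegStr10
import Groth.Agent.Helper5.UCat4
import Groth.Agent.Helper5.ResTr
import Groth.Agent.Helper5.SpCoprod1
import Groth.Agent.S12459
import Groth.Prelude.Def_W4stk3decentspacesp2Birat

set_option autoImplicit false
set_option linter.unusedVariables false
universe u
open CategoryTheory CategoryTheory.Limits AlgebraicGeometry Opposite TopologicalSpace

namespace Groth.Agent.Helper5.CatSp

open AlgSp Groth.Agent.Helper4.AlgSpPtsDesc Groth.Agent.Helper4.AlgSpQC2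
open Groth.Agent.Helper6.Caten Groth.Agent.Helper5.ResTr

variable {S : Scheme.{u}}

/-- an étale chart of a space locally of finite type over `S` is locally of finite type -/
theorem lft_chart {X : Sp S} (p : X ⟶ (yon S).obj (Over.mk (𝟙 S)))
    (hp : LocP @LocallyOfFiniteType p) {U : Over S} (a : (yon S).obj U ⟶ X)
    (ha : RepWith @Etale a) : LocallyOfFiniteType U.hom := by
  have := hp a (𝟙 _) (Over.homMk U.hom : U ⟶ Over.mk (𝟙 S)) ha (repWith_id _ _)
    (Groth.Agent.Helper5.SpCoprod.isTerminalYon.hom_ext _ _)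
  exact this

/-- two generizations of `u` in an étale chart over the same point of the space have the same
codimension over `u` -/
theorem krullDim_Icc_eq [IsLocallyNoetherian S]
    (hS : ∀ s : ↥S, CAlg.IsUniversallyCatenary ↥(S.presheaf.stalk s))
    {X : Sp S} {U : Over S} [LocallyOfFiniteType U.hom] (a : (yon S).obj U ⟶ X)
    (ha : RepWith @Etale a) (u w w' : ↥U.left) (hw : w ⤳ u) (hw' : w' ⤳ u)
    (h : Points.ofPt a w = Points.ofPt a w') :
    Order.krullDim ↥(Set.Icc u w) = Order.krullDim ↥(Set.Icc u w') := by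
  have sq := ha.rep.isPullback a
  obtain ⟨p1, hp1⟩ := (yon S).map_surjective (ha.rep.fst a)
  rw [← hp1] at sq
  have het2 : Etale (ha.rep.snd a).left := ha.property a _ _ sq
  have het1 : Etale p1.left := ha.property a _ _ sq.flip
  clear hp1
  generalize ha.rep.snd a = p2 at sq het2
  generalize ha.rep.pullback a = R at p1 p2 sq het1 het2
  obtain ⟨r, hr1, hr2⟩ := Groth.Agent.Helper5.Decent2.exists_scheme_point_of_isPullback sq w w' h
  have hfw : U.hom w = U.hom w' := by
    rw [← hr1, ← hr2]
    show (p1.left ≫ U.hom) r = (p2.left ≫ U.hom) r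
    rw [Over.w, Over.w]
  have htr : Dual3.resTrdeg U.hom w = Dual3.resTrdeg U.hom w' := by
    have e1 := resTrdeg_comp p1.left U.hom r
    have e2 := resTrdeg_comp p2.left U.hom r
    rw [resTrdeg_eq_zero_of_etale p1.left, add_zero, Over.w, hr1] at e1
    rw [resTrdeg_eq_zero_of_etale p2.left, add_zero, Over.w, hr2] at e2
    rw [← e1, ← e2]
  obtain ⟨a1, c1, n1, e1, ha1, hc1, hn1, he1, hs1⟩ :=
    Groth.Agent.Helper5.UCat.scheme_dimension_equality U.hom hS u w hw
  obtain ⟨a2, c2, n2, e2, ha2, hc2, hn2, he2, hs2⟩ :=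
    Groth.Agent.Helper5.UCat.scheme_dimension_equality U.hom hS u w' hw'
  have hn : n1 = n2 := by
    have := hn1.symm.trans hn2
    exact_mod_cast this
  have he : e1 = e2 := by
    change Dual3.resTrdeg U.hom w = e1 at he1
    change Dual3.resTrdeg U.hom w' = e2 at he2
    rw [htr, he2] at he1
    exact_mod_cast he1.symm
  have key : ∀ y y' : ↥S, y = y' →
      Order.krullDim ↥(Set.Icc (U.hom u) y) = Order.krullDim ↥(Set.Icc (U.hom u) y') := by
    rintro y _ rfl
    rfl
  have hc : c1 = c2 := by
    have := (hc1.symm.trans (key _ _ hfw)).trans hc2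
    exact_mod_cast this
  rw [ha1, ha2]
  have : a1 = a2 := by omega
  rw [this]

end Groth.Agent.Helper5.CatSp
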