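import Groth.Agent.Helper5.CatSp2

set_option autoImplicit false
set_option linter.unusedVariables false
universe u
open CategoryTheory CategoryTheory.Limits AlgebraicGeometry Opposite TopologicalSpace

namespace Groth.Agent.Helper5.CatSp

open AlgSp Groth.Agent.Helper4.AlgSpPtsDesc Groth.Agent.Helper4.AlgSpQC2
open Groth.Agent.Helper6.Caten Groth.Agent.Helper5.ResTr

variable {S : Scheme.{u}}

/-- S10447 -/
theorem s10447 [IsLocallyNoetherian S]
    (hS : ∀ s : ↥S, CAlg.IsUniversallyCatenary ↥(S.presheaf.stalk s)) (X : AlgSp.Space S)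
    (hX : AlgSp.IsDecent X.obj) (p : X.obj ⟶ (AlgSp.yon S).obj (Over.mk (𝟙 S)))
    (hp : AlgSp.LocP @LocallyOfFiniteType p) :
    W4stk3decentspacesp2.IsCatenarySpace (AlgSp.Points X.obj) := by
  have hsob : QuasiSober (Points X.obj) := Groth.Agent.Helper5.DegStr.s10339 X hX
  have ht0 : T0Space (Points X.obj) :=
    Groth.Agent.Helper5.Decent3.t0Space_of_isDecent X.property hX
  intro T T' hTT'
  obtain ⟨ξ, hξ⟩ := exists_cl_eq T
  -- chart
  obtain ⟨U, a, hae, has⟩ := X.property.atlas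
  obtain ⟨r, hr⟩ := Groth.Agent.Helper4.AlgSpPts.isSurjectiveMor_of_repWith _ has ξ
  obtain ⟨u, rfl⟩ := (Points.schemeHomeo U).surjective r
  rw [ofPt_eq_map_schemeHomeo] at hr
  have hlft : LocallyOfFiniteType U.hom := lft_chart p hp a hae
  have hcatU : Cat (IrreducibleCloseds ↥U.left) :=
    (isCatenarySpace_iff _).1 ((Groth.Agent.S12459.result S).2 hS U.left U.hom hlft)
  choose g hg using fun Z : IrreducibleCloseds ↥U.left => exists_cl_eq Z
  have hgcl : ∀ w : ↥U.left, g (cl w) = w := fun w => cl_injective (hg (cl w))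
  have hgsp : ∀ Z Z' : IrreducibleCloseds ↥U.left, Z ≤ Z' → g Z' ⤳ g Z := by
    intro Z Z' hZZ'
    rw [← cl_le_cl_iff, hg, hg]
    exact hZZ'
  let π : IrreducibleCloseds ↥U.left → IrreducibleCloseds (Points X.obj) :=
    fun Z => cl (Points.ofPt a (g Z))
  have hmono : Monotone π := by
    intro Z Z' hZZ'
    show cl (Points.ofPt a (g Z)) ≤ cl (Points.ofPt a (g Z'))
    rw [cl_le_cl_iff]
    exact (hgsp Z Z' hZZ').map (Points.continuous_ofPt a)
  have hlift : ∀ (Z : IrreducibleCloseds ↥U.left) (T'' : IrreducibleCloseds (Points X.obj)),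
      π Z ≤ T'' → ∃ Z', Z ≤ Z' ∧ π Z' = T'' := by
    intro Z T'' hZ
    obtain ⟨z', hz'⟩ := exists_cl_eq T''
    have hsp : z' ⤳ Points.ofPt a (g Z) := by
      rw [← cl_le_cl_iff, hz']
      exact hZ
    obtain ⟨p', hp', -, hp'q⟩ := hX z'
    obtain ⟨w', hw'sp, hw'⟩ := Groth.Agent.Helper5.Decent3.exists_generization_in_chart
      X.property (Points.ofPt a (g Z)) z' hsp p' hp' hp'q a hae (g Z) rfl
    refine ⟨cl w', ?_, ?_⟩
    · have : cl (g Z) ≤ cl w' := (cl_le_cl_iff w' (g Z)).2 hw'sp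
      rwa [hg] at this
    · show cl (Points.ofPt a (g (cl w'))) = T''
      rw [hgcl, hw', hz']
  have hfib : ∀ Z Z' : IrreducibleCloseds ↥U.left, Z ≤ Z' → π Z = π Z' → Z = Z' := by
    intro Z Z' hZZ' hπ
    have e1 : Points.ofPt a (g Z) = Points.ofPt a (g Z') := cl_injective hπ
    obtain ⟨p₀, hp₀, -, hp₀q⟩ := hX (Points.ofPt a (g Z))
    have hxfin : ∀ (V : Over S) (b : (yon S).obj V ⟶ X.obj), IsAffine V.left → RepWith @Etale b →
        (Points.ofPt b ⁻¹' {Points.ofPt a (g Z)}).Finite := by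
      intro V b hV hb
      have : CompactSpace ↥V.left := inferInstance
      rw [← hp₀]
      exact Groth.Agent.Helper5.Decent2.finite_fibre_of_qc_point p₀ hp₀q b hb
    have e2 : g Z = g Z' :=
      Groth.Agent.Helper5.Decent2.eq_of_specializes_of_finite_fibres _ hxfin a hae (g Z) (g Z')
        rfl e1.symm (hgsp Z Z' hZZ')
    rw [← hg Z, ← hg Z', e2]
  have hπu : π (cl u) = T := by
    show cl (Points.ofPt a (g (cl u))) = T
    rw [hgcl, hr, hξ]
  obtain ⟨Z₀, hZ₀le, hZ₀⟩ := hlift (cl u) T' (by rw [hπu]; exact hTT')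
  have hNtop : csup (cl u) Z₀ ≠ ⊤ := (hcatU _ _ hZ₀le).1
  have hcl : ∀ x y : ↥U.left, cl x ≤ cl y ↔ x ≤ y := by
    intro x y
    rw [cl_le_cl_iff, Scheme.le_iff_specializes]
  have hclsurj : Function.Surjective (cl : ↥U.left → IrreducibleCloseds ↥U.left) :=
    fun Z => exists_cl_eq Z
  have key : ∀ s : LTSeries (IrreducibleCloseds (Points X.obj)), s.head = T → s.last = T' →
      (s.length : ℕ∞) ≤ csup (cl u) Z₀ ∧
      ((∀ i : Fin s.length, s i.castSucc ⋖ s i.succ) →
        (s.length : ℕ∞) = csup (cl u) Z₀) := by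
    intro s hs hl
    obtain ⟨t, htlen, hthead, htlast, htsat⟩ :=
      exists_lift_series π hmono hlift hfib s (cl u) (by rw [hπu, hs])
    have hle : cl u ≤ t.last := by
      rw [← hthead]
      exact LTSeries.head_le_last t
    have hN : csup (cl u) t.last = csup (cl u) Z₀ := by
      have hw : g t.last ⤳ u := by
        rw [← cl_le_cl_iff, hg]
        exact hle
      have hw₀ : g Z₀ ⤳ u := by
        rw [← cl_le_cl_iff, hg]
        exact hZ₀le
      have hpt : Points.ofPt a (g t.last) = Points.ofPt a (g Z₀) := by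
        apply cl_injective
        show π t.last = π Z₀
        rw [htlast, hl, hZ₀]
      have e1 := krullDim_Icc_eq hS a hae u (g t.last) (g Z₀) hw hw₀ hpt
      have e2 := csup_eq_krullDim_Icc (cl : ↥U.left → IrreducibleCloseds ↥U.left) hcl hclsurj
        u (g t.last) (Scheme.le_iff_specializes.2 hw)
      have e3 := csup_eq_krullDim_Icc (cl : ↥U.left → IrreducibleCloseds ↥U.left) hcl hclsurj
        u (g Z₀) (Scheme.le_iff_specializes.2 hw₀)
      rw [hg] at e2 e3
      have := e2.trans (e1.trans e3.symm)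
      exact_mod_cast this
    constructor
    · rw [← htlen, ← hN]
      exact le_iSup_of_le t (le_iSup_of_le ⟨hthead, le_rfl⟩ le_rfl)
    · intro hsat
      rw [← htlen, ← hN]
      exact (hcatU (cl u) t.last hle).2 t hthead rfl (htsat hsat)
  obtain ⟨n, hn⟩ := ENat.ne_top_iff_exists.mp hNtop
  refine ⟨⟨n, fun s hs hl => ?_⟩, fun s s' hs hl hs' hl' hsat hsat' => ?_⟩
  · have := (key s hs hl).1
    rw [← hn] at this
    exact_mod_cast this
  · have h1 := (key s hs hl).2 hsat
    have h2 := (key s' hs' hl').2 hsat'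
    exact_mod_cast h1.trans h2.symm

end Groth.Agent.Helper5.CatSp
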