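import Mathlib

/-!
# Helper5: wide pullbacks of a family indexed by `Fin (n+2)` as a pullback of the wide pullback of
the first `n+1` members
-/

namespace Groth.Agent.Helper5.CechInd

open CategoryTheory Limits

universe v u

variable {A : Type u} [Category.{v} A] [HasFiniteLimits A] {B : A}

section step

variable {n : ℕ} (X : Fin (n + 2) → A) (g : ∀ k, X k ⟶ B)

/-- forget the last factor -/
noncomputable def dlast :
    widePullback.{0} B X g ⟶ widePullback.{0} B (fun k : Fin (n + 1) => X k.castSucc)
      (fun k => g k.castSucc) :=
  WidePullback.lift (WidePullback.base _) (fun k => WidePullback.π _ k.castSucc) (by simp)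

/-- the comparison with the binary pullback -/
noncomputable def q :
    widePullback.{0} B X g ⟶
      pullback (WidePullback.base (fun k : Fin (n + 1) => g k.castSucc)) (g (Fin.last _)) :=
  pullback.lift (dlast X g) (WidePullback.π _ (Fin.last (n + 1))) (by
    unfold dlast
    rw [WidePullback.lift_base, WidePullback.π_arrow])

/-- the inverse comparison -/
noncomputable def qinv :
    pullback (WidePullback.base (fun k : Fin (n + 1) => g k.castSucc)) (g (Fin.last _)) ⟶
      widePullback.{0} B X g :=
  WidePullback.lift (pullback.fst _ _ ≫ WidePullback.base _)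
    (fun i => Fin.lastCases (motive := fun i =>
        (pullback (WidePullback.base (fun k : Fin (n + 1) => g k.castSucc)) (g (Fin.last _)) ⟶ X i))
      (pullback.snd _ _) (fun k => pullback.fst _ _ ≫ WidePullback.π _ k) i)
    (by
      intro i
      refine Fin.lastCases ?_ (fun k => ?_) i
      · rw [Fin.lastCases_last, pullback.condition]
      · rw [Fin.lastCases_castSucc, Category.assoc, WidePullback.π_arrow])

lemma q_qinv : q X g ≫ qinv X g = 𝟙 _ := by
  apply WidePullback.hom_ext
  · intro i
    unfold qinv
    rw [Category.assoc, WidePullback.lift_π, Category.id_comp]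
    refine Fin.lastCases ?_ (fun k => ?_) i
    · rw [Fin.lastCases_last]
      exact pullback.lift_snd _ _ _
    · rw [Fin.lastCases_castSucc, ← Category.assoc]
      unfold q
      rw [pullback.lift_fst]
      unfold dlast
      rw [WidePullback.lift_π]
  · unfold qinv
    rw [Category.assoc, WidePullback.lift_base, Category.id_comp, ← Category.assoc]
    unfold q
    rw [pullback.lift_fst]
    unfold dlast
    rw [WidePullback.lift_base]

lemma qinv_q : qinv X g ≫ q X g = 𝟙 _ := by
  apply pullback.hom_ext
  · rw [Category.assoc, Category.id_comp]
    unfold q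
    rw [pullback.lift_fst]
    apply WidePullback.hom_ext
    · intro k
      unfold dlast qinv
      rw [Category.assoc, WidePullback.lift_π, WidePullback.lift_π, Fin.lastCases_castSucc]
    · unfold dlast qinv
      rw [Category.assoc, WidePullback.lift_base, WidePullback.lift_base]
  · rw [Category.assoc, Category.id_comp]
    unfold q
    rw [pullback.lift_snd]
    unfold qinv
    rw [WidePullback.lift_π, Fin.lastCases_last]

/-- The wide pullback of `n+2` objects is the pullback of the wide pullback of the first `n+1` with
the last one. -/
theorem isPullback_dlast :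
    IsPullback (dlast X g) (WidePullback.π g (Fin.last (n + 1)))
      (WidePullback.base (fun k : Fin (n + 1) => g k.castSucc)) (g (Fin.last _)) := by
  refine IsPullback.of_iso_pullback ⟨?_⟩ ⟨q X g, qinv X g, q_qinv X g, qinv_q X g⟩ ?_ ?_
  · unfold dlast
    rw [WidePullback.lift_base, WidePullback.π_arrow]
  · exact pullback.lift_fst _ _ _
  · exact pullback.lift_snd _ _ _

lemma dlast_π (k : Fin (n + 1)) :
    dlast X g ≫ WidePullback.π (fun k : Fin (n + 1) => g k.castSucc) k =
      WidePullback.π g k.castSucc := by
  unfold dlast
  rw [WidePullback.lift_π]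

lemma dlast_base :
    dlast X g ≫ WidePullback.base (fun k : Fin (n + 1) => g k.castSucc) = WidePullback.base g := by
  unfold dlast
  rw [WidePullback.lift_base]

end step

section base

variable (X : Fin 1 → A) (g : ∀ k, X k ⟶ B)

instance isIso_π_zero : IsIso (WidePullback.π g 0 : widePullback.{0} B X g ⟶ X 0) :=
  ⟨⟨WidePullback.lift (g 0) (fun k => eqToHom (by rw [Subsingleton.elim k 0])) (by
      intro k
      obtain rfl : k = 0 := Subsingleton.elim _ _
      simp), by
    apply WidePullback.hom_ext
    · intro i
      obtain rfl : i = 0 := Subsingleton.elim _ _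
      rw [Category.assoc, WidePullback.lift_π, Category.id_comp]
      simp
    · rw [Category.assoc, WidePullback.lift_base, Category.id_comp, WidePullback.π_arrow],
    by
      rw [WidePullback.lift_π]
      simp⟩⟩

end base

/-- In a wide pullback of monomorphisms all projections are monomorphisms. -/
theorem mono_π {n : ℕ} (X : Fin (n + 1) → A) (g : ∀ k, X k ⟶ B) (hg : ∀ k, Mono (g k))
    (k : Fin (n + 1)) : Mono (WidePullback.π g k : widePullback.{0} B X g ⟶ X k) := by
  refine ⟨fun {Z} x y h => ?_⟩
  have hb : x ≫ WidePullback.base g = y ≫ WidePullback.base g := by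
    rw [← WidePullback.π_arrow g k, ← Category.assoc, h, Category.assoc]
  apply WidePullback.hom_ext
  · intro j
    haveI := hg j
    rw [← cancel_mono (g j), Category.assoc, Category.assoc, WidePullback.π_arrow]
    exact hb
  · exact hb

end Groth.Agent.Helper5.CechInd
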