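import Groth.Agent.Helper5.CechInd1
import Groth.Agent.Helper4.AlgSpSrc
import Groth.Prelude.Def_AlgSpCov
import Mathlib

/-!
# Helper5: iterated fibre products of schemes over a sheaf with representable diagonal
-/

set_option autoImplicit false
universe u
open CategoryTheory CategoryTheory.Limits AlgebraicGeometry Opposite

namespace Groth.Agent.Helper5.CechInd

open AlgSp

variable {S : Scheme.{u}}

set_option backward.isDefEq.respectTransparency.types false in
theorem exists_rep_widePullback_zero (Q : MorphismProperty Scheme.{u}) [Q.IsStableUnderBaseChange]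
    [Q.IsMultiplicative] {U : Sp S} (T : Fin 1 → Over S) (g : ∀ k, (yon S).obj (T k) ⟶ U) :
    ∃ (T' : Over S) (e : widePullback.{0} U (fun k => (yon S).obj (T k)) g ≅ (yon S).obj T')
      (p : ∀ k, T' ⟶ T k),
      (∀ k, e.inv ≫ WidePullback.π g k = (yon S).map (p k)) ∧ ∀ k, Q (p k).left := by
  haveI : IsIso (WidePullback.π g 0) := isIso_π_zero (fun k => (yon S).obj (T k)) g
  refine ⟨T 0, asIso (WidePullback.π g 0), fun k => eqToHom (by rw [Subsingleton.elim k 0]),
    ?_, ?_⟩
  · intro k
    obtain rfl : k = 0 := Subsingleton.elim _ _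
    dsimp only
    rw [asIso_inv, IsIso.inv_hom_id, eqToHom_refl, CategoryTheory.Functor.map_id]
  · intro k
    obtain rfl : k = 0 := Subsingleton.elim _ _
    dsimp only
    rw [eqToHom_refl]
    exact Q.id_mem _

set_option maxHeartbeats 1600000 in
set_option backward.isDefEq.respectTransparency.types false in
theorem exists_rep_widePullback (Q : MorphismProperty Scheme.{u}) [Q.IsStableUnderBaseChange]
    [Q.IsMultiplicative] {U : Sp S} :
    ∀ (n : ℕ) (T : Fin (n + 1) → Over S) (g : ∀ k, (yon S).obj (T k) ⟶ U)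
      (_ : ∀ k, RepWith Q (g k)),
      ∃ (T' : Over S) (e : widePullback.{0} U (fun k => (yon S).obj (T k)) g ≅ (yon S).obj T')
        (p : ∀ k, T' ⟶ T k),
        (∀ k, e.inv ≫ WidePullback.π g k = (yon S).map (p k)) ∧ ∀ k, Q (p k).left := by
  intro n
  induction n with
  | zero =>
    intro T g hg
    exact exists_rep_widePullback_zero Q T g
  | succ n ih =>
    intro T g hg
    obtain ⟨T₁, e₁, p₁, h₁, hQ₁⟩ := ih (fun k => T k.castSucc) (fun k => g k.castSucc)
      (fun k => hg k.castSucc)
    let m : (yon S).obj T₁ ⟶ U := (yon S).map (p₁ 0) ≫ g (Fin.castSucc 0)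
    have hm : RepWith Q m :=
      Groth.Agent.Helper4.AlgSpSrc.repWith_comp Q ((repWith_yon_map_iff Q _).2 (hQ₁ 0))
        (hg (Fin.castSucc 0))
    have hrep := hm.1
    let T'' : Over S := hrep.pullback (g (Fin.last (n + 1)))
    let snd' : T'' ⟶ T (Fin.last (n + 1)) := hrep.snd (g (Fin.last (n + 1)))
    obtain ⟨f₁, hf₁⟩ := (yon S).map_surjective (hrep.fst (g (Fin.last (n + 1))))
    have sq : IsPullback ((yon S).map f₁) ((yon S).map snd') m (g (Fin.last (n + 1))) := by
      rw [hf₁]
      exact hrep.isPullback (g (Fin.last (n + 1)))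
    have hQsnd : Q snd'.left := hm.2 _ _ _ sq
    have hQf₁ : Q f₁.left := (hg (Fin.last (n + 1))).2 _ _ _ sq.flip
    have hbase : WidePullback.base (fun k : Fin (n + 1) => g k.castSucc) = e₁.hom ≫ m := by
      rw [← WidePullback.π_arrow (fun k : Fin (n + 1) => g k.castSucc) 0]
      change _ = e₁.hom ≫ (yon S).map (p₁ 0) ≫ g (Fin.castSucc 0)
      rw [← h₁ 0, Category.assoc, Iso.hom_inv_id_assoc]
    have sqW : IsPullback (dlast (fun k => (yon S).obj (T k)) g ≫ e₁.hom)
        (WidePullback.π g (Fin.last (n + 1))) m (g (Fin.last (n + 1))) := by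
      have h0 := isPullback_dlast (fun k => (yon S).obj (T k)) g
      rw [hbase] at h0
      exact IsPullback.of_iso h0 (Iso.refl _) e₁ (Iso.refl _) (Iso.refl _) (by simp) (by simp)
        (by simp) (by simp)
    let e₂ := sqW.isoIsPullback _ _ sq
    have he₂1 : e₂.hom ≫ (yon S).map f₁ = dlast (fun k => (yon S).obj (T k)) g ≫ e₁.hom :=
      IsPullback.isoIsPullback_hom_fst _ _ sqW sq
    have he₂2 : e₂.hom ≫ (yon S).map snd' = WidePullback.π g (Fin.last (n + 1)) :=
      IsPullback.isoIsPullback_hom_snd _ _ sqW sq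
    refine ⟨T'', e₂, fun k => Fin.lastCases (motive := fun k => T'' ⟶ T k) snd'
      (fun k => f₁ ≫ p₁ k) k, ?_, ?_⟩
    · intro k
      refine Fin.lastCases ?_ (fun k => ?_) k
      · dsimp only
        rw [Fin.lastCases_last, Iso.inv_comp_eq, he₂2]
      · dsimp only
        rw [Fin.lastCases_castSucc, Iso.inv_comp_eq, Functor.map_comp, ← Category.assoc, he₂1,
          Category.assoc, ← h₁ k, Iso.hom_inv_id_assoc, dlast_π]
    · intro k
      refine Fin.lastCases ?_ (fun k => ?_) k
      · dsimp only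
        rw [Fin.lastCases_last]
        exact hQsnd
      · dsimp only
        rw [Fin.lastCases_castSucc]
        exact Q.comp_mem _ _ hQf₁ (hQ₁ k)

end Groth.Agent.Helper5.CechInd
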