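import Groth.Agent.Helper5.CechInd2
import Groth.Agent.Helper4.AlgSpLocP
import Groth.Agent.Helper4.AlgSpLocPComp
import Groth.Agent.Helper4.SDClasses
import Mathlib

/-!
# Helper5: one step of the Cech-descending induction
-/

set_option autoImplicit false
universe u
open CategoryTheory CategoryTheory.Limits AlgebraicGeometry Opposite

namespace Groth.Agent.Helper5.CechInd

open AlgSp Groth.Agent.Helper4.SDClasses

variable {S : Scheme.{u}}

/-- Representable etale morphisms are flat and locally of finite presentation. -/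
theorem locP_flat_of_repWith_etale {F G : Sp S} (f : F ⟶ G) (hf : RepWith @Etale f) :
    LocP @Flat f :=
  Groth.Agent.Helper4.AlgSpLocP.locP_of_repWith @Flat @Etale
    (fun g hg => good_flat.etale_le g hg) (fun g hg => good_flat.etale_le g hg) f hf

theorem locP_lfp_of_repWith_etale {F G : Sp S} (f : F ⟶ G) (hf : RepWith @Etale f) :
    LocP @LocallyOfFinitePresentation f :=
  Groth.Agent.Helper4.AlgSpLocP.locP_of_repWith @LocallyOfFinitePresentation @Etale
    (fun g hg => good_lfp.etale_le g hg) (fun g hg => good_lfp.etale_le g hg) f hf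

set_option maxHeartbeats 800000 in
set_option backward.isDefEq.respectTransparency.types false in
theorem step {X : Sp S}
    (P : ∀ ⦃U : Sp S⦄, (U ⟶ X) → Prop)
    (hP : ∀ ⦃U : Sp S⦄ (a : U ⟶ X), IsAlgSpace U →
      ∀ ⦃ι : Type u⦄ (Ui : ι → Sp S) (g : ∀ i, Ui i ⟶ U), (∀ i, IsAlgSpace (Ui i)) →
      IsFppfCover Ui g →
      (∀ (n : ℕ) (c : Fin (n + 1) → ι),
        P (WidePullback.base (fun k : Fin (n + 1) => g (c k)) ≫ a)) → P a)
    (Q : MorphismProperty Scheme.{u}) [Q.IsStableUnderBaseChange] [Q.IsMultiplicative]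
    (hQE : ∀ {A B : Scheme.{u}} (g : A ⟶ B), Q g → Etale g)
    {U : Sp S} (hU : IsAlgSpace U) (a : U ⟶ X) (hfl : LocP @Flat a)
    (hlfp : LocP @LocallyOfFinitePresentation a)
    {ι : Type u} (T : ι → Over S) (g : ∀ i, (yon S).obj (T i) ⟶ U) (hg : ∀ i, RepWith Q (g i))
    (hsurj : ∀ x : Points U, ∃ i, x ∈ Set.range (Points.map (g i)))
    (H : ∀ (U' : Sp S) (a' : U' ⟶ X) (T' : Over S) (_ : U' ≅ (yon S).obj T') (i : ι)
      (p : T' ⟶ T i), Q p.left → LocP @Flat a' → LocP @LocallyOfFinitePresentation a' → P a') :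
    P a := by
  have hgE : ∀ i, RepWith @Etale (g i) := fun i =>
    Groth.Agent.Helper4.AlgSpSrc.repWith_mono (fun g hg => hQE g hg) (hg i)
  refine hP a hU (fun i => (yon S).obj (T i)) g (fun i => IsAlgSpace.yon_obj _)
    ⟨fun i => ⟨locP_flat_of_repWith_etale _ (hgE i), locP_lfp_of_repWith_etale _ (hgE i)⟩, hsurj⟩
    (fun n c => ?_)
  obtain ⟨T', e, p, hp, hQp⟩ := exists_rep_widePullback Q n (fun k => T (c k)) (fun k => g (c k))
    (fun k => hg (c k))
  have hπ : WidePullback.π (fun k : Fin (n + 1) => g (c k)) 0 = e.hom ≫ (yon S).map (p 0) := by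
    rw [← hp 0, Iso.hom_inv_id_assoc]
  have hbase : WidePullback.base (fun k : Fin (n + 1) => g (c k)) =
      e.hom ≫ (yon S).map (p 0) ≫ g (c 0) := by
    rw [← WidePullback.π_arrow (fun k : Fin (n + 1) => g (c k)) 0, hπ, Category.assoc]
  have h1 : RepWith @Etale ((yon S).map (p 0) ≫ g (c 0)) :=
    Groth.Agent.Helper4.AlgSpSrc.repWith_comp @Etale
      ((repWith_yon_map_iff _ _).2 (hQE _ (hQp 0))) (hgE (c 0))
  have h2 : RepWith @Etale (WidePullback.base (fun k : Fin (n + 1) => g (c k))) := by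
    rw [hbase]
    exact (MorphismProperty.cancel_left_of_respectsIso (RepWith (S := S) @Etale) e.hom _).2 h1
  have hfl' : LocP @Flat (WidePullback.base (fun k : Fin (n + 1) => g (c k)) ≫ a) :=
    Groth.Agent.Helper4.AlgSpLocPComp.locP_comp _ good_flat hU _ a
      (locP_flat_of_repWith_etale _ h2) hfl
  have hlfp' : LocP @LocallyOfFinitePresentation
      (WidePullback.base (fun k : Fin (n + 1) => g (c k)) ≫ a) :=
    Groth.Agent.Helper4.AlgSpLocPComp.locP_comp _ good_lfp hU _ a
      (locP_lfp_of_repWith_etale _ h2) hlfp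
  exact H _ _ T' e (c 0) (p 0) (hQp 0) hfl' hlfp'

end Groth.Agent.Helper5.CechInd
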