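import Groth.Agent.Helper5.CechInd3
import Groth.Agent.Helper4.AlgSpPts
import Mathlib

/-!
# Helper5: the levels of the Cech-descending induction
-/

set_option autoImplicit false
universe u
open CategoryTheory CategoryTheory.Limits AlgebraicGeometry Opposite

namespace Groth.Agent.Helper5.CechInd

open AlgSp Groth.Agent.Helper4.SDClasses

variable {S : Scheme.{u}}

instance inf_isMultiplicative {C : Type*} [Category C] (P Q : MorphismProperty C)
    [P.IsMultiplicative] [Q.IsMultiplicative] : (P ⊓ Q).IsMultiplicative where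

/-- The affine open cover of a scheme isomorphic to `U`, as a family of maps to `U`, is jointly
surjective on points. -/
theorem affineCover_surj {U : Sp S} (T : Over S) (e : U ≅ (yon S).obj T) (x : Points U) :
    ∃ i : T.left.affineCover.I₀, x ∈ Set.range (Points.map
      ((yon S).map (Over.homMk (T.left.affineCover.f i) rfl :
        Over.mk (T.left.affineCover.f i ≫ T.hom) ⟶ T) ≫ e.inv)) := by
  let 𝒰 := T.left.affineCover
  let y := Points.map e.hom x
  let t := (Points.schemeHomeo T).symm y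
  obtain ⟨v, hv⟩ := 𝒰.covers t
  refine ⟨𝒰.idx t, Points.schemeHomeo (Over.mk (𝒰.f (𝒰.idx t) ≫ T.hom)) v, ?_⟩
  rw [Points.map_comp, Points.map_yon_map_apply]
  change Points.map e.inv (Points.schemeHomeo T ((𝒰.f (𝒰.idx t)) v)) = x
  rw [hv]
  change Points.map e.inv (Points.schemeHomeo T ((Points.schemeHomeo T).symm y)) = x
  rw [Homeomorph.apply_symm_apply, ← Points.map_comp, Iso.hom_inv_id, Points.map_id]

section levels

variable {X : Sp S}
  (P : ∀ ⦃U : Sp S⦄, (U ⟶ X) → Prop)
  (hP : ∀ ⦃U : Sp S⦄ (a : U ⟶ X), IsAlgSpace U →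
    ∀ ⦃ι : Type u⦄ (Ui : ι → Sp S) (g : ∀ i, Ui i ⟶ U), (∀ i, IsAlgSpace (Ui i)) →
    IsFppfCover Ui g →
    (∀ (n : ℕ) (c : Fin (n + 1) → ι),
      P (WidePullback.base (fun k : Fin (n + 1) => g (c k)) ≫ a)) → P a)
  (haff : ∀ ⦃U : Sp S⦄ (a : U ⟶ X) (T : Over S) (_ : U ≅ (yon S).obj T), IsAffine T.left →
    LocP @Flat a → LocP @LocallyOfFinitePresentation a → P a)

include hP haff

set_option maxHeartbeats 800000 in
set_option backward.isDefEq.respectTransparency.types false in
theorem level1 (U : Sp S) (a : U ⟶ X) (T : Over S) (e : U ≅ (yon S).obj T)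
    (hT : T.left.IsSeparated) (hfl : LocP @Flat a)
    (hlfp : LocP @LocallyOfFinitePresentation a) : P a := by
  let 𝒰 := T.left.affineCover
  have hU : IsAlgSpace U := (IsAlgSpace.yon_obj T).of_iso e.symm
  refine step P hP (@Etale ⊓ @IsAffineHom) (fun g hg => hg.1) hU a hfl hlfp
    (fun i => Over.mk (𝒰.f i ≫ T.hom))
    (fun i => (yon S).map (Over.homMk (𝒰.f i) rfl : Over.mk (𝒰.f i ≫ T.hom) ⟶ T) ≫ e.inv)
    (fun i => ?_) (affineCover_surj T e) ?_
  · refine (MorphismProperty.cancel_right_of_respectsIso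
      (RepWith (S := S) (@Etale ⊓ @IsAffineHom)) _ e.inv).2 ((repWith_yon_map_iff _ _).2 ?_)
    change Etale (𝒰.f i) ∧ IsAffineHom (𝒰.f i)
    refine ⟨inferInstance, ?_⟩
    haveI : IsAffineHom (𝒰.f i ≫ terminal.from T.left) := by
      rw [terminal.comp_from]
      infer_instance
    exact IsAffineHom.of_comp (𝒰.f i) (terminal.from T.left)
  · intro U' a' T' e' i p hp hfl' hlfp'
    haveI : IsAffineHom p.left := hp.2
    haveI : IsAffine (Over.mk (𝒰.f i ≫ T.hom)).left := inferInstanceAs (IsAffine (𝒰.X i))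
    have hT' : IsAffine T'.left := isAffine_of_isAffineHom p.left
    exact haff a' T' e' hT' hfl' hlfp'

set_option maxHeartbeats 800000 in
set_option backward.isDefEq.respectTransparency.types false in
theorem level2 (U : Sp S) (a : U ⟶ X) (T : Over S) (e : U ≅ (yon S).obj T)
    (hfl : LocP @Flat a) (hlfp : LocP @LocallyOfFinitePresentation a) : P a := by
  let 𝒰 := T.left.affineCover
  have hU : IsAlgSpace U := (IsAlgSpace.yon_obj T).of_iso e.symm
  refine step P hP (@Etale ⊓ MorphismProperty.monomorphisms Scheme.{u}) (fun g hg => hg.1) hU a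
    hfl hlfp (fun i => Over.mk (𝒰.f i ≫ T.hom))
    (fun i => (yon S).map (Over.homMk (𝒰.f i) rfl : Over.mk (𝒰.f i ≫ T.hom) ⟶ T) ≫ e.inv)
    (fun i => ?_) (affineCover_surj T e) ?_
  · refine (MorphismProperty.cancel_right_of_respectsIso
      (RepWith (S := S) (@Etale ⊓ MorphismProperty.monomorphisms Scheme.{u})) _ e.inv).2
      ((repWith_yon_map_iff _ _).2 ?_)
    change Etale (𝒰.f i) ∧ Mono (𝒰.f i)
    exact ⟨inferInstance, inferInstance⟩
  · intro U' a' T' e' i p hp hfl' hlfp'
    haveI : Mono p.left := hp.2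
    haveI : IsAffine (Over.mk (𝒰.f i ≫ T.hom)).left := inferInstanceAs (IsAffine (𝒰.X i))
    have hT' : T'.left.IsSeparated := by
      refine ⟨?_⟩
      rw [← terminal.comp_from p.left]
      infer_instance
    exact level1 P hP haff U' a' T' e' hT' hfl' hlfp'

set_option maxHeartbeats 800000 in
set_option backward.isDefEq.respectTransparency.types false in
theorem level3 (U : Sp S) (hU : IsAlgSpace U) (a : U ⟶ X)
    (hfl : LocP @Flat a) (hlfp : LocP @LocallyOfFinitePresentation a) : P a := by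
  obtain ⟨W, w, hwe, hws⟩ := hU.atlas
  refine step P hP @Etale (fun g hg => hg) hU a hfl hlfp (fun _ : PUnit.{u + 1} => W)
    (fun _ => w) (fun _ => hwe) (fun x => ⟨PUnit.unit, ?_⟩) ?_
  · exact Groth.Agent.Helper4.AlgSpPts.isSurjectiveMor_of_repWith w hws x
  · intro U' a' T' e' i p hp hfl' hlfp'
    exact level2 P hP haff U' a' T' e' hfl' hlfp'

end levels

end Groth.Agent.Helper5.CechInd
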