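import Mathlib

/-!
# Finite chains containing `⊥` and `⊤` versus `LTSeries`
-/

set_option autoImplicit false

namespace Groth.Agent.Helper5.ChainSeries

variable {α : Type*} [PartialOrder α] [BoundedOrder α]

open Classical in
/-- the finite set of members of a series -/
noncomputable def toFinset (s : LTSeries α) : Finset α := Finset.univ.image s.toFun

omit [BoundedOrder α] in
theorem mem_toFinset (s : LTSeries α) (x : α) : x ∈ toFinset s ↔ ∃ i, s i = x := by
  classical
  unfold toFinset
  simp

theorem isChain_toFinset (s : LTSeries α) :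
    IsChain (fun a b : α => a ≤ b) (↑(toFinset s) : Set α) := by
  intro a ha b hb _
  rw [Finset.mem_coe, mem_toFinset] at ha hb
  obtain ⟨i, rfl⟩ := ha
  obtain ⟨j, rfl⟩ := hb
  rcases le_total i j with h | h
  · exact Or.inl (s.strictMono.monotone h)
  · exact Or.inr (s.strictMono.monotone h)

/-- consecutive members of the finite set of a series are consecutive terms -/
theorem exists_index_of_consecutive (s : LTSeries α) {A B : α} (hA : A ∈ toFinset s)
    (hB : B ∈ toFinset s) (hAB : A < B) (hno : ∀ D ∈ toFinset s, ¬ (A < D ∧ D < B)) :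
    ∃ i : Fin s.length, A = s i.castSucc ∧ B = s i.succ := by
  rw [mem_toFinset] at hA hB
  obtain ⟨a, rfl⟩ := hA
  obtain ⟨b, rfl⟩ := hB
  have hab : a < b := s.strictMono.lt_iff_lt.mp hAB
  have hb1 : a.val + 1 ≤ b.val := hab
  have hbl : a.val < s.length := by have := b.isLt; omega
  refine ⟨⟨a.val, hbl⟩, ?_, ?_⟩
  · congr 1
  · have hb2 : b.val = a.val + 1 := by
      by_contra hne
      have hlt : a.val + 1 < b.val := by omega
      let c : Fin (s.length + 1) := ⟨a.val + 1, by have := b.isLt; omega⟩
      apply hno (s c) ((mem_toFinset s _).mpr ⟨c, rfl⟩)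
      refine ⟨s.strictMono ?_, s.strictMono ?_⟩
      · show a.val < a.val + 1
        omega
      · show a.val + 1 < b.val
        exact hlt
    congr 1
    ext
    simpa using hb2

theorem consecutive_of_index (s : LTSeries α) (i : Fin s.length) :
    s i.castSucc ∈ toFinset s ∧ s i.succ ∈ toFinset s ∧ s i.castSucc < s i.succ ∧
      ∀ D ∈ toFinset s, ¬ (s i.castSucc < D ∧ D < s i.succ) := by
  refine ⟨(mem_toFinset s _).mpr ⟨_, rfl⟩, (mem_toFinset s _).mpr ⟨_, rfl⟩, s.step i, ?_⟩
  intro D hD
  rw [mem_toFinset] at hD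
  obtain ⟨c, rfl⟩ := hD
  rintro ⟨h1, h2⟩
  have h1' : i.castSucc < c := s.strictMono.lt_iff_lt.mp h1
  have h2' : c < i.succ := s.strictMono.lt_iff_lt.mp h2
  have h3 : i.val < c.val := h1'
  have h4 : c.val < i.val + 1 := h2'
  omega

/-- a finite chain containing `⊥` and `⊤` is the set of members of a series from `⊥` to `⊤` -/
theorem exists_series (C : Finset α) (hbot : ⊥ ∈ C) (htop : ⊤ ∈ C)
    (hch : IsChain (fun a b : α => a ≤ b) (↑C : Set α)) :
    ∃ s : LTSeries α, s.head = ⊥ ∧ s.last = ⊤ ∧ toFinset s = C := by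
  classical
  let β := {x : α // x ∈ C}
  letI : LinearOrder β :=
    { (inferInstance : PartialOrder β) with
      le_total := fun a b => by
        rcases eq_or_ne a.1 b.1 with h | h
        · exact Or.inl (le_of_eq (Subtype.ext h))
        · exact hch (Finset.mem_coe.mpr a.2) (Finset.mem_coe.mpr b.2) h
      toDecidableLE := Classical.decRel _ }
  have hcard : 0 < Fintype.card β := Fintype.card_pos_iff.mpr ⟨⟨⊥, hbot⟩⟩
  obtain ⟨n, hn⟩ : ∃ n, Fintype.card β = n + 1 := ⟨Fintype.card β - 1, by omega⟩
  let e : Fin (n + 1) ≃o β := Fintype.orderIsoFinOfCardEq β hn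
  let s : LTSeries α := LTSeries.mk n (fun i => (e i).1) (fun i j hij => by
    have : e i < e j := e.strictMono hij
    exact this)
  have hmem : ∀ x, x ∈ toFinset s ↔ x ∈ C := by
    intro x
    rw [mem_toFinset]
    constructor
    · rintro ⟨i, rfl⟩
      exact (e i).2
    · intro hx
      refine ⟨e.symm ⟨x, hx⟩, ?_⟩
      show (e (e.symm ⟨x, hx⟩)).1 = x
      rw [OrderIso.apply_symm_apply]
  refine ⟨s, ?_, ?_, Finset.ext hmem⟩
  · -- head
    have h1 : s.head ∈ C := (hmem _).mp ((mem_toFinset s _).mpr ⟨_, rfl⟩)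
    obtain ⟨i, hi⟩ := (mem_toFinset s ⊥).mp ((hmem ⊥).mpr hbot)
    have h2 : s.head ≤ s i := s.head_le i
    rw [hi] at h2
    exact le_bot_iff.mp h2
  · obtain ⟨i, hi⟩ := (mem_toFinset s ⊤).mp ((hmem ⊤).mpr htop)
    have h2 : s i ≤ s.last := s.strictMono.monotone (Fin.le_last i)
    rw [hi] at h2
    exact top_le_iff.mp h2

/-- a series is determined by its set of members -/
theorem eq_of_toFinset_eq {s t : LTSeries α} (h : toFinset s = toFinset t) : s = t := by
  classical
  have hrange : Set.range s.toFun = Set.range t.toFun := by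
    ext x
    simp only [Set.mem_range]
    rw [← mem_toFinset, ← mem_toFinset, h]
  -- lengths agree
  have hcs : (toFinset s).card = s.length + 1 := by
    unfold toFinset
    rw [Finset.card_image_of_injective _ s.strictMono.injective]
    simp
  have hct : (toFinset t).card = t.length + 1 := by
    unfold toFinset
    rw [Finset.card_image_of_injective _ t.strictMono.injective]
    simp
  have hlen : s.length = t.length := by
    have := hcs.symm.trans (h ▸ hct)
    omega
  obtain ⟨ls, fs, hs⟩ := s
  obtain ⟨lt, ft, ht⟩ := t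
  simp only at hlen
  subst hlen
  have hsm : StrictMono fs := LTSeries.strictMono (⟨ls, fs, hs⟩ : LTSeries α)
  have htm : StrictMono ft := LTSeries.strictMono (⟨ls, ft, ht⟩ : LTSeries α)
  have : fs = ft := by
    have hr : Set.range fs = Set.range ft := hrange
    exact (StrictMono.range_inj hsm htm).mp hr
  subst this
  rfl

end Groth.Agent.Helper5.ChainSeries
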