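import Mathlib
import Groth.Agent.Helper5.ChainSeries
import Groth.Prelude.Def_StabCat

/-!
# Conditions on consecutive members of a finite chain of subobjects versus conditions on the
factors of a series
-/

set_option autoImplicit false

namespace Groth.Agent.Helper5.ChainSeries

open CategoryTheory Limits

universe v u

variable {C : Type u} [Category.{v} C] [Abelian C] {E : C}

theorem head_eq_bot_of_mem {α : Type*} [PartialOrder α] [OrderBot α] (s : LTSeries α)
    (h : ∃ i, s i = ⊥) : s.head = ⊥ := by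
  obtain ⟨i, hi⟩ := h
  have h2 : s.head ≤ s i := s.head_le i
  rw [hi] at h2
  exact le_bot_iff.mp h2

theorem last_eq_top_of_mem {α : Type*} [PartialOrder α] [OrderTop α] (s : LTSeries α)
    (h : ∃ i, s i = ⊤) : s.last = ⊤ := by
  obtain ⟨i, hi⟩ := h
  have h2 : s i ≤ s.last := s.strictMono.monotone (Fin.le_last i)
  rw [hi] at h2
  exact top_le_iff.mp h2

theorem pairs_iff (s : LTSeries (Subobject E)) (R : C → Prop) :
    (∀ A ∈ toFinset s, ∀ B ∈ toFinset s, ∀ hAB : A < B,
      (∀ D ∈ toFinset s, ¬ (A < D ∧ D < B)) → R (cokernel (Subobject.ofLE A B hAB.le))) ↔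
    ∀ i : Fin s.length, R (StabCat.factor s i) := by
  constructor
  · intro H i
    obtain ⟨h1, h2, h3, h4⟩ := consecutive_of_index s i
    exact H _ h1 _ h2 h3 h4
  · intro H A hA B hB hAB hno
    obtain ⟨i, hAi, hBi⟩ := exists_index_of_consecutive s hA hB hAB hno
    subst hAi
    subst hBi
    exact H i

theorem triples_iff (s : LTSeries (Subobject E)) (R2 : C → C → Prop) :
    (∀ A ∈ toFinset s, ∀ B ∈ toFinset s, ∀ B' ∈ toFinset s, ∀ hAB : A < B, ∀ hBB : B < B',
      (∀ D ∈ toFinset s, ¬ (A < D ∧ D < B)) → (∀ D ∈ toFinset s, ¬ (B < D ∧ D < B')) →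
        R2 (cokernel (Subobject.ofLE A B hAB.le)) (cokernel (Subobject.ofLE B B' hBB.le))) ↔
    ∀ i j : Fin s.length, i.val + 1 = j.val → R2 (StabCat.factor s i) (StabCat.factor s j) := by
  constructor
  · intro H i j hij
    obtain ⟨h1, h2, h3, h4⟩ := consecutive_of_index s i
    obtain ⟨g1, g2, g3, g4⟩ := consecutive_of_index s j
    have hidx : i.succ = j.castSucc := by
      ext
      simp only [Fin.val_succ, Fin.val_castSucc]
      exact hij
    have hB : s i.succ = s j.castSucc := by rw [hidx]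
    have aux : ∀ (B₂ : Subobject E) (_ : B₂ = s j.castSucc) (h2 : B₂ ≤ s j.succ),
        R2 (StabCat.factor s i) (cokernel (Subobject.ofLE B₂ (s j.succ) h2)) →
          R2 (StabCat.factor s i) (StabCat.factor s j) := by
      intro B₂ hB₂ h2 hR
      subst hB₂
      exact hR
    have g3' : s i.succ < s j.succ := by rw [hB]; exact g3
    have g4' : ∀ D ∈ toFinset s, ¬ (s i.succ < D ∧ D < s j.succ) := by rw [hB]; exact g4
    exact aux (s i.succ) hB g3'.le (H _ h1 _ h2 _ g2 h3 g3' h4 g4')
  · intro H A hA B hB B' hB' hAB hBB hno hno'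
    obtain ⟨i, hAi, hBi⟩ := exists_index_of_consecutive s hA hB hAB hno
    obtain ⟨j, hBj, hB'j⟩ := exists_index_of_consecutive s hB hB' hBB hno'
    subst hAi
    subst hB'j
    have hidx : i.succ = j.castSucc := s.strictMono.injective (hBi.symm.trans hBj)
    have hij : i.val + 1 = j.val := by
      have := congrArg Fin.val hidx
      simpa using this
    have aux : ∀ (B₂ : Subobject E) (_ : B₂ = s i.succ) (h1 : s i.castSucc ≤ B₂)
        (h2 : B₂ ≤ s j.succ) (_ : B₂ = s j.castSucc),
        R2 (cokernel (Subobject.ofLE (s i.castSucc) B₂ h1))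
          (cokernel (Subobject.ofLE B₂ (s j.succ) h2)) := by
      intro B₂ hB₂ h1 h2 hB₂'
      subst hB₂
      have aux2 : ∀ (B₃ : Subobject E) (_ : B₃ = s j.castSucc) (h3 : B₃ ≤ s j.succ),
          R2 (StabCat.factor s i) (cokernel (Subobject.ofLE B₃ (s j.succ) h3)) := by
        intro B₃ hB₃ h3
        subst hB₃
        exact H i j hij
      exact aux2 (s i.succ) hB₂' h2
    exact aux B hBi hAB.le hBB.le hBj

end Groth.Agent.Helper5.ChainSeries
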