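import Groth.Agent.Helper5.PtOpen2
import Groth.Agent.Helper5.ChevJ
import Mathlib

set_option autoImplicit false
set_option linter.style.haveILetI false
universe u
open CategoryTheory CategoryTheory.Limits AlgebraicGeometry TopologicalSpace

namespace Groth.Agent.Helper5.Chev

open Groth.Agent.Helper5.GenDim Groth.Agent.Helper5.KDim Groth.Agent.Helper5.MaxPt
  Groth.Agent.Helper5.BCMin Groth.Agent.Helper5.EqAt Groth.Agent.Helper5.OpenAt
  Groth.Agent.Helper5.PtOpen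

set_option maxHeartbeats 1000000 in
/-- (b' ⟹ b), with the hypothesis only at the generic point of the component -/
theorem exists_component_of_le_dim_generic {X Y : Scheme.{u}} (f : X ⟶ Y) [LocallyOfFiniteType f] (x : X)
    (hmax : ∀ x' : X, f x' = f x → x' ⤳ x → x' = x)
    (Y₀ : Set Y) (hY₀ : Y₀ ∈ irreducibleComponents (Y : Type u)) (hxY₀ : f.base x ∈ Y₀)
    (hb : ∀ U : X.Opens, x ∈ U → ∀ η : Y, closure ({η} : Set Y) = Y₀ →
        FlatMor.fibreDimAt f x ≤ topologicalKrullDim ↥((U : Set X) ∩ f.base ⁻¹' {η})) :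
    ∃ Z ∈ irreducibleComponents (X : Type u), ∃ hx : x ∈ Z, closure (f.base '' Z) = Y₀ ∧
      ∀ η : Y, closure ({η} : Set Y) = Y₀ →
        FlatMor.fibreDimAt f x =
          FlatMor.localDim ↥(Z ∩ f.base ⁻¹' {f.base x}) ⟨x, ⟨hx, rfl⟩⟩ ∧
        FlatMor.localDim ↥(Z ∩ f.base ⁻¹' {f.base x}) ⟨x, ⟨hx, rfl⟩⟩ =
          topologicalKrullDim ↥(Z ∩ f.base ⁻¹' {η}) := by
  obtain ⟨n, hn1, hn2⟩ := fibreDimAt_of_maximal f x (coheight_asFiber_eq_zero f x hmax)
  obtain ⟨η₀, hη₀⟩ := QuasiSober.sober hY₀.1 (isClosed_of_mem_irreducibleComponents Y₀ hY₀)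
  have hη₀def : closure ({η₀} : Set Y) = Y₀ := hη₀.def
  have hη₀x : η₀ ⤳ f x := by
    rw [specializes_iff_mem_closure, hη₀def]; exact hxY₀
  have hη₀max : ∀ w : Y, w ⤳ η₀ → w = η₀ :=
    max_of_closure_mem_irreducibleComponents η₀ (hη₀def ▸ hY₀)
  -- the closed set of points of fibre dimension at least n
  let E : Set X := {z | (n : WithBot ℕ∞) ≤ FlatMor.fibreDimAt f z}
  have hEcl : IsClosed E := by
    rw [← isOpen_compl_iff]
    have : Eᶜ = {z : X | FlatMor.fibreDimAt f z < (n : WithBot ℕ∞)} := by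
      ext z; simp [E]
    rw [this]
    exact isOpen_fibreDimAt_lt f _
  have hxcl : x ∈ closure (E ∩ f ⁻¹' {η₀}) := by
    rw [mem_closure_iff]
    intro N hN hxN
    have h1 := hb ⟨N, hN⟩ hxN η₀ hη₀def
    rw [hn2] at h1
    obtain ⟨γ', hγ'N, hγ'η, m, hm, hnm⟩ := exists_resTrdeg_ge_open f ⟨N, hN⟩ η₀ n h1
    refine ⟨γ', hγ'N, ?_, hγ'η⟩
    obtain ⟨k, n', -, -, hn', hfd⟩ := Groth.Agent.Helper5.SubDim.fibreDimAt_eq f γ'
    have hmn' : m = n' := by
      have h2 : Dual3.resTrdeg f γ' = (n' : Cardinal.{u}) := hn'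
      rw [hm] at h2
      exact_mod_cast h2
    show (n : WithBot ℕ∞) ≤ FlatMor.fibreDimAt f γ'
    rw [hfd]
    exact_mod_cast (by omega : n ≤ k + n')
  obtain ⟨γ₁, hγ₁cl, hγ₁η, hγ₁x⟩ :=
    exists_generic_in_closure' f η₀ (E ∩ f ⁻¹' {η₀}) Set.inter_subset_right x hxcl
  have hγ₁E : γ₁ ∈ E := closure_minimal Set.inter_subset_left hEcl hγ₁cl
  obtain ⟨γ, hfγ, hγγ₁, hγmaxfib, hfdγ, tγ, htγ1, htγ2⟩ :=
    exists_max_generization_fibreDimAt_eq f γ₁
  have hγη : f γ = η₀ := hfγ.trans hγ₁η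
  have hγx : γ ⤳ x := hγγ₁.trans hγ₁x
  have htγn : tγ = n := by
    have h1 : (n : WithBot ℕ∞) ≤ (tγ : WithBot ℕ∞) := by
      rw [← htγ2, hfdγ]; exact hγ₁E
    have h2 : (tγ : WithBot ℕ∞) ≤ (n : WithBot ℕ∞) := by
      rw [← htγ2, ← hn2]
      exact fibreDimAt_le_of_specializes f γ x hγx
    have h1' : n ≤ tγ := by exact_mod_cast h1
    have h2' : tγ ≤ n := by exact_mod_cast h2
    omega
  have hγmax : ∀ w : X, w ⤳ γ → w = γ := by
    intro w hw
    have h1 : f w ⤳ f γ := hw.map f.continuous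
    rw [hγη] at h1
    have h2 : f w = η₀ := hη₀max _ h1
    exact hγmaxfib w (h2.trans hγ₁η.symm) hw
  refine ⟨closure {γ}, closure_singleton_mem_irreducibleComponents γ hγmax, hγx.mem_closure, ?_, ?_⟩
  · apply Set.Subset.antisymm
    · refine closure_minimal ?_ (isClosed_of_mem_irreducibleComponents Y₀ hY₀)
      rintro _ ⟨z, hz, rfl⟩
      have h1 : γ ⤳ z := specializes_iff_mem_closure.2 hz
      have h2 : f γ ⤳ f z := h1.map f.continuous
      rw [hγη] at h2
      rw [← hη₀def]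
      exact h2.mem_closure
    · rw [← hη₀def]
      refine closure_minimal ?_ isClosed_closure
      rw [Set.singleton_subset_iff]
      exact subset_closure ⟨γ, subset_closure rfl, hγη⟩
  · intro η hη
    have hηeq : η = η₀ := by
      have h1 : IsGenericPoint η Y₀ := hη
      exact h1.eq hη₀
    subst hηeq
    have hζ : x ∈ closure ({γ} : Set X) ∩ f.base ⁻¹' {f x} := ⟨hγx.mem_closure, rfl⟩
    obtain ⟨n0, hn0a, hn0b⟩ := localDim_closure_inter_fibre_eq f γ x hγx hmax hζ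
    have hn0 : n0 = n := by
      rw [hn1] at hn0a
      exact_mod_cast hn0a.symm
    obtain ⟨n1, hn1a, hn1b⟩ := dim_closure_inter_fibre_eq_trdeg f γ
    have hn1' : n1 = n := by
      rw [htγ1] at hn1a
      have : tγ = n1 := by exact_mod_cast hn1a
      omega
    refine ⟨?_, ?_⟩
    · rw [hn2, ← hn0]
      exact hn0b.symm
    · rw [← hγη, hn1b, hn1', ← hn0]
      exact hn0b


end Groth.Agent.Helper5.Chev
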