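import Groth.Agent.Helper5.ChevK1
import Mathlib

/-!
# EGA IV 14.4.? : universal openness along a fibre over a geometrically unibranch point (S4938)
-/

set_option autoImplicit false
set_option linter.style.haveILetI false
universe u
open CategoryTheory CategoryTheory.Limits AlgebraicGeometry TopologicalSpace

namespace Groth.Agent.Helper5.Chev

open Groth.Agent.Helper5.GenDim Groth.Agent.Helper5.KDim Groth.Agent.Helper5.MaxPt
  Groth.Agent.Helper5.BCMin Groth.Agent.Helper5.EqAt Groth.Agent.Helper5.OpenAt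
  Groth.Agent.Helper5.PtOpen

theorem withBot_enat_le_of_forall_nat {a b : WithBot ℕ∞}
    (h : ∀ n : ℕ, (n : WithBot ℕ∞) ≤ a → (n : WithBot ℕ∞) ≤ b) : a ≤ b := by
  induction a with
  | bot => exact bot_le
  | coe a =>
    induction a with
    | top =>
      have hb : ∀ n : ℕ, (n : WithBot ℕ∞) ≤ b := fun n => h n (by exact_mod_cast le_top)
      induction b with
      | bot => exact absurd (hb 0) (by simp)
      | coe b =>
        induction b with
        | top => exact le_refl _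
        | coe m =>
          have := hb (m + 1)
          have h2 : ((m + 1 : ℕ) : ℕ∞) ≤ (m : ℕ∞) := by exact_mod_cast this
          have h3 : m + 1 ≤ m := by exact_mod_cast h2
          omega
    | coe k => exact h k (le_refl _)

/-- a) ⟹ b) -/
theorem s4938_a_b {X Y : Scheme.{u}} (f : X ⟶ Y) [LocallyOfFiniteType f] (x : X)
    (hA : ∀ x' : X, f.base x' = f.base x → EGA43.IsUnivOpenAt f x')
    (Y₀ : Set Y) (hY₀ : Y₀ ∈ irreducibleComponents (Y : Type u)) (hxY₀ : f.base x ∈ Y₀) :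
    ∃ Z ∈ irreducibleComponents (X : Type u), ∃ hx : x ∈ Z, closure (f.base '' Z) = Y₀ ∧
      ∀ η : Y, closure ({η} : Set Y) = Y₀ →
        FlatMor.localDim ↥(Z ∩ f.base ⁻¹' {f.base x}) ⟨x, ⟨hx, rfl⟩⟩ =
          topologicalKrullDim ↥(Z ∩ f.base ⁻¹' {η}) := by
  obtain ⟨z, hfz, hzx, hzmax, hfd, -⟩ := exists_max_generization_fibreDimAt_eq f x
  have hzmax' : ∀ z' : X, f z' = f z → z' ⤳ z → z' = z :=
    fun z' h1 h2 => hzmax z' (h1.trans hfz) h2
  have hb : ∀ U : X.Opens, z ∈ U → ∀ y' : Y, y' ⤳ f.base z →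
      FlatMor.fibreDimAt f z ≤ topologicalKrullDim ↥((U : Set X) ∩ f.base ⁻¹' {y'}) :=
    fun U hU y' hy' => le_dim_of_isUnivOpenAt f z hzmax' (hA z hfz) U hU y' hy'
  have hzY₀ : f.base z ∈ Y₀ := by
    have : f.base z = f.base x := hfz
    rw [this]; exact hxY₀
  obtain ⟨Z, hZ, hz, hcl, hη⟩ := exists_component_of_le_dim f z hzmax' hb Y₀ hY₀ hzY₀
  have hZcl : IsClosed Z := isClosed_of_mem_irreducibleComponents Z hZ
  have hxZ : x ∈ Z := hzx.mem_closed hZcl hz
  refine ⟨Z, hZ, hxZ, hcl, fun η hηdef => ?_⟩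
  obtain ⟨h1, h2⟩ := hη η hηdef
  rw [← h2, ← h1, hfd]
  let X'c : TopologicalSpace.Closeds X := ⟨Z, hZcl⟩
  obtain ⟨wx, hwx, hwxd⟩ := localDim_closed_inter_fibre_eq f X'c x hxZ
  obtain ⟨wz, hwz, hwzd⟩ := localDim_closed_inter_fibre_eq f X'c z hz
  apply le_antisymm
  · refine (le_of_eq hwxd).trans ?_
    have := fibreDimAt_closedImmersion_le (Scheme.IdealSheafData.vanishingIdeal X'c).subschemeι f wx
    rwa [hwx] at this
  · have hsp : wz ⤳ wx := by
      rw [← (Scheme.IdealSheafData.vanishingIdeal X'c).subschemeι.isEmbedding.specializes_iff,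
        hwz, hwx]
      exact hzx
    have h3 := fibreDimAt_le_of_specializes
      ((Scheme.IdealSheafData.vanishingIdeal X'c).subschemeι ≫ f) wz wx hsp
    rw [← hfd]
    refine (le_of_eq h1).trans ?_
    refine (le_of_eq hwzd).trans ?_
    exact h3.trans (le_of_eq hwxd.symm)

/-- a) ⟹ b'') -/
theorem s4938_a_b'' {X Y : Scheme.{u}} (f : X ⟶ Y) [LocallyOfFiniteType f] (y : Y)
    (hA : ∀ x : X, f.base x = y → EGA43.IsUnivOpenAt f x) (U : X.Opens) (η : Y) (hη : η ⤳ y) :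
    topologicalKrullDim ↥((U : Set X) ∩ f.base ⁻¹' {y}) ≤
      topologicalKrullDim ↥((U : Set X) ∩ f.base ⁻¹' {η}) := by
  apply withBot_enat_le_of_forall_nat
  intro n hn
  obtain ⟨γ, hγU, hγy, m, hm, hnm⟩ := exists_resTrdeg_ge_open f U y n hn
  obtain ⟨k, n', -, -, hn', hfdγ⟩ := Groth.Agent.Helper5.SubDim.fibreDimAt_eq f γ
  have hmn' : m = n' := by
    have h2 : Dual3.resTrdeg f γ = (n' : Cardinal.{u}) := hn'
    rw [hm] at h2
    exact_mod_cast h2
  have h1 : (n : WithBot ℕ∞) ≤ FlatMor.fibreDimAt f γ := by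
    rw [hfdγ]
    exact_mod_cast (by omega : n ≤ k + n')
  obtain ⟨z, hfz, hzγ, hzmax, hfd, -⟩ := exists_max_generization_fibreDimAt_eq f γ
  have hzmax' : ∀ z' : X, f z' = f z → z' ⤳ z → z' = z :=
    fun z' h1 h2 => hzmax z' (h1.trans hfz) h2
  have hzU : z ∈ U := hzγ.mem_open U.isOpen hγU
  have hfzy : f z = y := hfz.trans hγy
  have h2 := le_dim_of_isUnivOpenAt f z hzmax' (hA z hfzy) U hzU η (by rw [hfzy]; exact hη)
  rw [← hfd] at h1
  exact h1.trans h2

/-- b'') ⟹ a) -/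
theorem s4938_b''_a {X Y : Scheme.{u}} [IsLocallyNoetherian Y] (f : X ⟶ Y)
    [LocallyOfFiniteType f] (y : Y) (hy : CAlg2.IsGeomUnibranch (Y.presheaf.stalk y))
    (hB : ∀ U : X.Opens, ∀ Y₀ ∈ irreducibleComponents (Y : Type u), y ∈ Y₀ → ∀ η : Y,
      closure ({η} : Set Y) = Y₀ →
        topologicalKrullDim ↥((U : Set X) ∩ f.base ⁻¹' {y}) ≤
          topologicalKrullDim ↥((U : Set X) ∩ f.base ⁻¹' {η}))
    (x : X) (hx : f.base x = y) : EGA43.IsUnivOpenAt f x := by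
  apply isUnivOpenAt_of_maximal_fibre_points f x
  intro z hfz hzx hzmax
  have hfzy : f.base z = y := hfz.trans hx
  have hzmax' : ∀ z' : X, f z' = f z → z' ⤳ z → z' = z :=
    fun z' h1 h2 => hzmax z' (h1.trans hfz) h2
  have hy' : CAlg2.IsGeomUnibranch (Y.presheaf.stalk (f.base z)) :=
    geomUnibranch_congr Y y (f.base z) hfzy.symm hy
  apply isUnivOpenAt_of_components f z hy'
  intro Y₀ hY₀ hzY₀
  obtain ⟨n, hn1, hn2⟩ := fibreDimAt_of_maximal f z (coheight_asFiber_eq_zero f z hzmax')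
  have hn : Dual3.resTrdeg f z = (n : Cardinal.{u}) := hn1
  have hb : ∀ U : X.Opens, z ∈ U → ∀ η : Y, closure ({η} : Set Y) = Y₀ →
      FlatMor.fibreDimAt f z ≤ topologicalKrullDim ↥((U : Set X) ∩ f.base ⁻¹' {η}) := by
    intro U hzU η hηdef
    have h1 := le_dim_open_inter_fibre f U z hzU n hn
    rw [hn2]
    refine h1.trans ?_
    have h2 := hB U Y₀ hY₀ (hfzy ▸ hzY₀) η hηdef
    have h3 : f z = y := hfzy
    rw [h3]
    exact h2
  obtain ⟨Z, hZ, hz, hcl, hη⟩ := exists_component_of_le_dim_generic f z hzmax' Y₀ hY₀ hzY₀ hb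
  exact ⟨Z, hZ, hz, hcl, fun η h => (hη η h).2⟩

/-- **S4938** -/
theorem s4938 {X Y : Scheme.{u}} [IsLocallyNoetherian Y] (f : X ⟶ Y)
    [LocallyOfFiniteType f] (y : Y) (hy : CAlg2.IsGeomUnibranch (Y.presheaf.stalk y)) :
    List.TFAE [∀ x : X, f.base x = y → EGA43.IsUnivOpenAt f x,
      ∀ x : X, f.base x = y → ∀ Y₀ ∈ irreducibleComponents (Y : Type u), y ∈ Y₀ →
        ∃ Z ∈ irreducibleComponents (X : Type u), ∃ hx : x ∈ Z, closure (f.base '' Z) = Y₀ ∧
          ∀ η : Y, closure ({η} : Set Y) = Y₀ →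
            FlatMor.localDim ↥(Z ∩ f.base ⁻¹' {f.base x}) ⟨x, ⟨hx, rfl⟩⟩ = topologicalKrullDim ↥(Z ∩ f.base ⁻¹' {η}),
      ∀ U : X.Opens, ∀ Y₀ ∈ irreducibleComponents (Y : Type u), y ∈ Y₀ → ∀ η : Y, closure ({η} : Set Y) = Y₀ →
        topologicalKrullDim ↥((U : Set X) ∩ f.base ⁻¹' {y}) ≤ topologicalKrullDim ↥((U : Set X) ∩ f.base ⁻¹' {η}),
      ∀ x : X, f.base x = y → EGA43.IsOpenAt f.base x] := by
  tfae_have 1 → 4 := fun h x hx => isOpenAt_of_isUnivOpenAt f x (h x hx)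
  tfae_have 4 → 1 := by
    intro hC x hx
    apply isUnivOpenAt_of_maximal_fibre_points f x
    intro z hfz hzx hzmax
    have hfzy : f.base z = y := hfz.trans hx
    have hzmax' : ∀ z' : X, f z' = f z → z' ⤳ z → z' = z :=
      fun z' h1 h2 => hzmax z' (h1.trans hfz) h2
    exact isUnivOpenAt_of_isOpenAt_max f z hzmax'
      (geomUnibranch_congr Y y (f.base z) hfzy.symm hy) (hC z hfzy)
  tfae_have 2 → 1 := by
    intro hB x hx
    subst hx
    exact isUnivOpenAt_of_components f x hy (hB x rfl)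
  tfae_have 1 → 2 := by
    intro hA x hx Y₀ hY₀ hyY₀
    subst hx
    exact s4938_a_b f x hA Y₀ hY₀ hyY₀
  tfae_have 1 → 3 := by
    intro hA U Y₀ hY₀ hyY₀ η hηdef
    apply s4938_a_b'' f y hA U η
    rw [specializes_iff_mem_closure, hηdef]
    exact hyY₀
  tfae_have 3 → 1 := fun hB x hx => s4938_b''_a f y hy hB x hx
  tfae_finish

end Groth.Agent.Helper5.Chev
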