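import Groth.Agent.Helper5.RedInd1
import Mathlib

/-! Closed subspaces of an algebraic space from invariant closed subschemes of an atlas. -/

set_option autoImplicit false
universe u
open CategoryTheory CategoryTheory.Limits AlgebraicGeometry Opposite MorphismProperty

namespace Groth.Agent.Helper5.ClosedSub

open AlgSp Groth.Agent.Helper4.AlgSpOpenImage Groth.Agent.Helper4.AlgSpBasic
  Groth.Agent.Helper5.RedInd

variable {S : Scheme.{u}}

set_option backward.isDefEq.respectTransparency.types false in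
/-- An invariant closed subscheme `Z_U` of an étale atlas `U` of `X` is the pullback of the closed
subspace `img (h_{Z_U} ⟶ h_U ⟶ X)` of `X`. -/
theorem isPullback_of_invariant {X : Sp S} {U : Over S} (p : (yon S).obj U ⟶ X)
    {ZU : Over S} (i₀ : ZU ⟶ U) [Mono i₀]
    (hinv : ∀ (T'' : Over S) (α β : T'' ⟶ U), (yon S).map α ≫ p = (yon S).map β ≫ p →
      (∃ z₀ : T'' ⟶ ZU, z₀ ≫ i₀ = α) → ∃ z₁ : T'' ⟶ ZU, z₁ ≫ i₀ = β) :
    IsPullback (toImg ((yon S).map i₀ ≫ p)) ((yon S).map i₀) (imgι ((yon S).map i₀ ≫ p)) p := by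
  have hymono : Mono ((yon S).map i₀) := mono_yon_map i₀
  generalize ha : (yon S).map i₀ ≫ p = a
  refine ⟨⟨by rw [toImg_ι, ha]⟩, ⟨?_⟩⟩
  have hlift : ∀ c₀ : PullbackCone (imgι a) p, ∃ l : c₀.pt ⟶ (yon S).obj ZU,
      l ≫ (yon S).map i₀ = c₀.snd := by
    intro c₀
    refine exists_lift_of_mono ((yon S).map i₀) c₀.snd fun T' s => ?_
    obtain ⟨τ, hτ⟩ := (yon S).map_surjective (s ≫ c₀.snd)
    obtain ⟨R₁, hR₁, hl₁⟩ := loc_lift_img a (s ≫ c₀.fst)
    rw [← hτ]
    apply Groth.Agent.Helper5.SpCoprod.exists_lift_of_local_lift ((yon S).map i₀) _ R₁ hR₁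
    intro T'' γ hγ
    obtain ⟨z, hz⟩ := hl₁ γ hγ
    obtain ⟨z₀, rfl⟩ := (yon S).map_surjective z
    have hcone : (yon S).map (z₀ ≫ i₀) ≫ p = (yon S).map (γ ≫ τ) ≫ p := by
      rw [Functor.map_comp, Category.assoc, Functor.map_comp, hτ]
      have : (yon S).map z₀ ≫ toImg a ≫ imgι a = (yon S).map z₀ ≫ (yon S).map i₀ ≫ p := by
        rw [toImg_ι, ha]
      rw [← this, ← Category.assoc, hz]
      simp only [Category.assoc]
      rw [c₀.condition]
    obtain ⟨z₁, hz₁⟩ := hinv T'' (z₀ ≫ i₀) (γ ≫ τ) hcone ⟨z₀, rfl⟩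
    exact ⟨(yon S).map z₁, by rw [← Functor.map_comp, hz₁, Functor.map_comp]⟩
  choose l hl using hlift
  refine PullbackCone.IsLimit.mk _ l ?_ hl ?_
  · intro c₀
    rw [← cancel_mono (imgι a), Category.assoc, toImg_ι]
    have e : l c₀ ≫ a = (l c₀ ≫ (yon S).map i₀) ≫ p := by rw [Category.assoc, ha]
    rw [e, hl, c₀.condition]
  · intro c₀ m _ h2
    rw [← cancel_mono ((yon S).map i₀), h2, hl]

set_option backward.isDefEq.respectTransparency.types false in
/-- the closed subspace attached to an invariant closed subscheme of an atlas -/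
theorem closedSubspace_of_invariant {X : Sp S} (hXd : Representable (Limits.diag X))
    {U : Over S} (p : (yon S).obj U ⟶ X) (hp : RepWith @Etale p) (hps : RepWith @Surjective p)
    {ZU : Over S} (i₀ : ZU ⟶ U) (hi₀ : IsClosedImmersion i₀.left)
    (hinv : ∀ (T'' : Over S) (α β : T'' ⟶ U), (yon S).map α ≫ p = (yon S).map β ≫ p →
      (∃ z₀ : T'' ⟶ ZU, z₀ ≫ i₀ = α) → ∃ z₁ : T'' ⟶ ZU, z₁ ≫ i₀ = β) :
    IsPullback (toImg ((yon S).map i₀ ≫ p)) ((yon S).map i₀) (imgι ((yon S).map i₀ ≫ p)) p ∧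
    RepWith @IsClosedImmersion (imgι ((yon S).map i₀ ≫ p)) ∧
    RepWith @Etale (toImg ((yon S).map i₀ ≫ p)) ∧
    RepWith @Surjective (toImg ((yon S).map i₀ ≫ p)) ∧
    IsAlgSpace (img ((yon S).map i₀ ≫ p)) := by
  have hmono_i₀ : Mono i₀ := by
    have : Mono ((Over.forget S).map i₀) := by
      show Mono i₀.left
      infer_instance
    exact (Over.forget S).mono_of_mono_map this
  have sqK := isPullback_of_invariant p i₀ hinv
  have hci : RepWith @IsClosedImmersion (imgι ((yon S).map i₀ ≫ p)) :=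
    Groth.Agent.Helper5.AffDesc12.closedImmersion_of_etale_chart _ U p hp hps
      _ ((yon S).map i₀) sqK ((repWith_yon_map_iff _ i₀).2 hi₀)
  have hte : RepWith @Etale (toImg ((yon S).map i₀ ≫ p)) :=
    (RepWith (S := S) @Etale).of_isPullback sqK.flip hp
  have hts : RepWith @Surjective (toImg ((yon S).map i₀ ≫ p)) :=
    (RepWith (S := S) @Surjective).of_isPullback sqK.flip hps
  exact ⟨sqK, hci, hte, hts,
    { diag := MorphismProperty.of_isPullback (isPullback_diag_of_mono (imgι _)) hXd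
      atlas := ⟨ZU, _, hte, hts⟩ }⟩

end Groth.Agent.Helper5.ClosedSub
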