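import Mathlib

set_option autoImplicit false
universe u

namespace Groth.Agent.Helper5.Codim

open Module

theorem tower {k M : Type*} [Field k] [AddCommGroup M] [Module k M] (A B : Submodule k M)
    (h : A ≤ B) [Module.Finite k (M ⧸ A)] :
    finrank k (M ⧸ A) = finrank k (M ⧸ B) + finrank k ↥(B.map A.mkQ) := by
  rw [← Submodule.finrank_quotient_add_finrank (B.map A.mkQ)]
  congr 1
  exact (LinearEquiv.finrank_eq (Submodule.quotientQuotientEquivQuotient A B h))

theorem finite_of_tower {k M : Type*} [Field k] [AddCommGroup M] [Module k M] (A B : Submodule k M)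
    (h : A ≤ B) [Module.Finite k (M ⧸ B)] [Module.Finite k ↥(B.map A.mkQ)] :
    Module.Finite k (M ⧸ A) := by
  have : Module.Finite k ((M ⧸ A) ⧸ B.map A.mkQ) :=
    Module.Finite.equiv (Submodule.quotientQuotientEquivQuotient A B h).symm
  exact Module.Finite.of_submodule_quotient (B.map A.mkQ)

end Groth.Agent.Helper5.Codim
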