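import Mathlib
import Groth.Agent.Helper5.FlatComp

set_option autoImplicit false
universe u

namespace Groth.Agent.Helper5.FlatDense
open AlgebraicGeometry CategoryTheory TopologicalSpace

/-- In a Noetherian quasi-sober T0 space, a dense open set contains every maximal point. -/
theorem mem_of_dense_of_maximal {V : Type*} [TopologicalSpace V] [NoetherianSpace V]
    [QuasiSober V] [T0Space V] (U : Set V) (hUo : IsOpen U) (hUd : Dense U) (y : V)
    (hy : ∀ y' : V, y' ⤳ y → y' = y) : y ∈ U := by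
  -- irreducible component of y
  have hZ₁ := irreducibleComponent_mem_irreducibleComponents y
  obtain ⟨ζ, hζ⟩ := Groth.Agent.Helper5.FlatComp.exists_generic_of_mem_irreducibleComponents hZ₁
  have hζy : ζ = y := hy ζ (by
    rw [specializes_iff_mem_closure, hζ]; exact mem_irreducibleComponent)
  subst hζy
  -- the open set D
  obtain ⟨D, hD⟩ : ∃ D : Set V, D = (⋃ Z ∈ {Z ∈ irreducibleComponents V | Z ≠ closure {ζ}}, Z)ᶜ :=
    ⟨_, rfl⟩
  have hDopen : IsOpen D := by
    rw [hD, isOpen_compl_iff]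
    exact (NoetherianSpace.finite_irreducibleComponents.subset (fun Z hZ => hZ.1)).isClosed_biUnion
      fun Z hZ => isClosed_of_mem_irreducibleComponents Z hZ.1
  have hζD : ζ ∈ D := by
    rw [hD, Set.mem_compl_iff, Set.mem_iUnion₂]
    rintro ⟨Z, ⟨hZ, hne⟩, hζZ⟩
    apply hne
    have h1 : closure {ζ} ⊆ Z :=
      (isClosed_of_mem_irreducibleComponents Z hZ).closure_subset_iff.mpr
        (Set.singleton_subset_iff.mpr hζZ)
    rw [hζ] at h1 ⊢
    exact le_antisymm (hZ₁.2 hZ.1 h1) h1
  have hDsub : D ⊆ closure {ζ} := by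
    intro z hz
    rw [hD, Set.mem_compl_iff, Set.mem_iUnion₂] at hz
    by_contra hzn
    apply hz
    refine ⟨irreducibleComponent z, ⟨irreducibleComponent_mem_irreducibleComponents z, ?_⟩,
      mem_irreducibleComponent⟩
    intro heq
    exact hzn (heq ▸ mem_irreducibleComponent)
  obtain ⟨z, hzD, hzU⟩ := hUd.inter_open_nonempty D hDopen ⟨ζ, hζD⟩
  have hspec : ζ ⤳ z := specializes_iff_mem_closure.mpr (hDsub hzD)
  exact hspec.mem_open hUo hzU

theorem main (X Y : Scheme.{u}) [IsLocallyNoetherian X]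
    [IsLocallyNoetherian Y] (f : X ⟶ Y) [Flat f] (U : Y.Opens) (hU : Dense (U : Set Y)) :
    Dense ((f ⁻¹ᵁ U : X.Opens) : Set X) := by
  rw [dense_iff_inter_open]
  intro W hWo ⟨x, hxW⟩
  -- maximal generalization of x
  have hZ := irreducibleComponent_mem_irreducibleComponents x
  obtain ⟨ζ, hζ⟩ := Groth.Agent.Helper5.FlatComp.exists_generic_of_mem_irreducibleComponents hZ
  have hζx : ζ ⤳ x := by
    rw [specializes_iff_mem_closure, hζ]; exact mem_irreducibleComponent
  have hζmax : closure {ζ} ∈ irreducibleComponents ↥X := hζ ▸ hZ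
  have hfζmax : ∀ y' : Y, y' ⤳ f.base ζ → y' = f.base ζ := by
    intro y' hy'
    obtain ⟨x'', hx'', hfx''⟩ := Flat.generalizingMap f hy'
    rw [← hfx'', Groth.Agent.Helper5.FlatComp.eq_of_specializes_of_closure_mem hζmax hx'']
  refine ⟨ζ, hζx.mem_open hWo hxW, ?_⟩
  -- affine neighbourhood of f ζ
  obtain ⟨_, ⟨V, hV : IsAffineOpen V, rfl⟩, hyV, -⟩ :=
    Y.isBasis_affineOpens.exists_subset_of_mem_open (Set.mem_univ (f.base ζ)) isOpen_univ
  have hnoeth : IsNoetherianRing Γ(Y, V) := IsLocallyNoetherian.component_noetherian ⟨V, hV⟩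
  have hVns : NoetherianSpace {y : Y // y ∈ V} := noetherianSpace_of_isAffineOpen V hV
  have hVqs : QuasiSober {y : Y // y ∈ V} := V.isOpen.isOpenEmbedding_subtypeVal.quasiSober
  have hmem : (⟨f.base ζ, hyV⟩ : {y : Y // y ∈ V}) ∈
      (Subtype.val : {y : Y // y ∈ V} → Y) ⁻¹' (U : Set Y) := by
    apply mem_of_dense_of_maximal _ (U.isOpen.preimage continuous_subtype_val)
    · exact hU.preimage V.isOpen.isOpenMap_subtype_val
    · intro y' hy'
      apply Subtype.ext
      exact hfζmax y' (hy'.map continuous_subtype_val)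
  exact hmem

end Groth.Agent.Helper5.FlatDense
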