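import Groth.Prelude.Def_Dual3
import Groth.Prelude.Def_AlgSpDec
import Groth.Agent.Helper5.ResTr
import Groth.Agent.Helper5.AtMor
import Groth.Agent.Helper5.SrcEt
import Mathlib

set_option autoImplicit false
universe u
open CategoryTheory CategoryTheory.Limits AlgebraicGeometry Opposite

namespace Groth.Agent.Helper5.ResTr

open AlgSp Groth.Agent.Helper5.AtMor Groth.Agent.Helper5.GeomRed

variable {S : Scheme.{u}}

theorem elst_resTrdeg (r : Cardinal.{u}) :
    ELST (fun _ _ h u => Dual3.resTrdeg h u = r) := by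
  intro U' V' U V h' h p q _ _ hcomm u'
  have e1 := resTrdeg_comp h' q u'
  have e2 := resTrdeg_comp p h u'
  rw [resTrdeg_eq_zero_of_etale q, zero_add] at e1
  rw [resTrdeg_eq_zero_of_etale p, add_zero] at e2
  rw [hcomm] at e1
  show Dual3.resTrdeg h' u' = r ↔ Dual3.resTrdeg h (p u') = r
  rw [← e1, e2]

theorem hasAtMor_resTrdeg_comp {X Y Z : Sp S} (hX : IsAlgSpace X) (f : X ⟶ Y) (g : Y ⟶ Z)
    (x : Points X) (r₁ r₂ : Cardinal.{u})
    (h1 : HasAtMor (fun _ _ h u => Dual3.resTrdeg h u = r₁) f x)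
    (h2 : HasAtMor (fun _ _ h u => Dual3.resTrdeg h u = r₂) g (Points.map f x)) :
    HasAtMor (fun _ _ h u => Dual3.resTrdeg h u = r₁ + r₂) (f ≫ g) x := by
  obtain ⟨V, W, b, c, k, v, hb, hc, hcomm2, hv, hk⟩ := h2
  obtain ⟨U, a, h, u, ha, hcomm1, hu, hhu⟩ := exists_chart_over hX f x b hb v hv
  subst hu
  have e1 : Dual3.resTrdeg h.left u = r₁ :=
    (hasAtMor_iff_chart _ (elst_resTrdeg r₁) f a b h ha hb hcomm1 u).1 h1
  refine ⟨U, W, a, c, h ≫ k, u, ha, hc, ?_, rfl, ?_⟩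
  · rw [← Category.assoc, hcomm1, Category.assoc, hcomm2, Functor.map_comp, Category.assoc]
  · show Dual3.resTrdeg (h.left ≫ k.left) u = r₁ + r₂
    rw [resTrdeg_comp, hhu, hk, e1, add_comm]

theorem hasAtMor_resTrdeg_zero_of_lqf {X Y : Sp S} (hX : IsAlgSpace X) (hY : IsAlgSpace Y)
    (f : X ⟶ Y) (hf : LocP (@LocallyQuasiFinite ⊓ @LocallyOfFiniteType) f) (x : Points X) :
    HasAtMor (fun _ _ h u => Dual3.resTrdeg h u = 0) f x := by
  obtain ⟨U, V, a, b, h, u, ha, hb, hcomm, hu⟩ :=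
    Groth.Agent.Helper5.SrcEt.exists_chart_at hX hY f x
  have : LocallyQuasiFinite h.left := (hf a b h ha hb hcomm).1
  exact ⟨U, V, a, b, h, u, ha, hb, hcomm, hu, resTrdeg_eq_zero_of_lqf h.left u⟩

theorem hasAtMor_resTrdeg_iff_of_lqf {X Y Z : Sp S} (hX : IsAlgSpace X) (hY : IsAlgSpace Y)
    (hZ : IsAlgSpace Z) (f : X ⟶ Y) (g : Y ⟶ Z)
    (hf : LocP (@LocallyQuasiFinite ⊓ @LocallyOfFiniteType) f) (x : Points X) (r : Cardinal.{u}) :
    HasAtMor (fun _ _ h u => Dual3.resTrdeg h u = r) (f ≫ g) x ↔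
      HasAtMor (fun _ _ h u => Dual3.resTrdeg h u = r) g (Points.map f x) := by
  constructor
  · intro h1
    obtain ⟨V, W, b, c, k, v, hb, hc, hcomm2, hv⟩ :=
      Groth.Agent.Helper5.SrcEt.exists_chart_at hY hZ g (Points.map f x)
    obtain ⟨U, a, h, u, ha, hcomm1, hu, hhu⟩ := exists_chart_over hX f x b hb v hv
    subst hu
    have hlqf : LocallyQuasiFinite h.left := (hf a b h ha hb hcomm1).1
    have hcomm : a ≫ f ≫ g = (yon S).map (h ≫ k) ≫ c := by
      rw [← Category.assoc, hcomm1, Category.assoc, hcomm2, Functor.map_comp, Category.assoc]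
    have e1 : Dual3.resTrdeg (h ≫ k).left u = r :=
      (hasAtMor_iff_chart _ (elst_resTrdeg r) (f ≫ g) a c (h ≫ k) ha hc hcomm u).1 h1
    change Dual3.resTrdeg (h.left ≫ k.left) u = r at e1
    rw [resTrdeg_comp, resTrdeg_eq_zero_of_lqf h.left u, add_zero, hhu] at e1
    exact ⟨V, W, b, c, k, v, hb, hc, hcomm2, hv, e1⟩
  · intro h2
    have := hasAtMor_resTrdeg_comp hX f g x 0 r (hasAtMor_resTrdeg_zero_of_lqf hX hY f hf x) h2
    rwa [zero_add] at this

end Groth.Agent.Helper5.ResTr
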