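import Groth.Prelude.Def_Dual3
import Groth.Prelude.Def_AlgSpDec
import Groth.Agent.Helper5.ResTr2
import Groth.Agent.Helper5.AtMor
import Groth.Agent.Helper5.DimFormula8
import Groth.Agent.Helper5.EtDim
import Groth.Agent.Helper5.EqAt1
import Groth.Agent.Helper5.AlgSpOpen
import Mathlib

set_option autoImplicit false
universe u
open CategoryTheory CategoryTheory.Limits AlgebraicGeometry Opposite

namespace Groth.Agent.Helper5.SpDimIneq

open AlgSp Groth.Agent.Helper5.AtMor Groth.Agent.Helper5.HasAtChart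

variable {S : Scheme.{u}}

attribute [local instance] specializationOrder in
theorem stalk_dim_zero_of_component {X : Scheme.{u}} (ξ : ↥X)
    (h : closure ({ξ} : Set ↥X) ∈ irreducibleComponents ↥X) :
    ringKrullDim ↥(X.presheaf.stalk ξ) = 0 := by
  rw [ringKrullDim_stalk_eq_coheight]
  have : Order.coheight ξ = 0 := by
    rw [Order.coheight_eq_zero]
    intro w hw
    have := Groth.Agent.Helper5.EqAt.max_of_closure_mem_irreducibleComponents ξ h w hw
    exact this ▸ le_refl _
  rw [this]; rfl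

/-- The chart-level dimension inequality. -/
theorem chart_ineq {X Y : Sp S} (f : X ⟶ Y)
    (hf : LocP @LocallyOfFiniteType f) (E : Cardinal.{u})
    {U V : Over S} (a : (yon S).obj U ⟶ X) (b : (yon S).obj V ⟶ Y) (h : U ⟶ V)
    (ha : RepWith @Etale a) (hb : RepWith @Etale b) (hcomm : a ≫ f = (yon S).map h ≫ b)
    [IsLocallyNoetherian V.left] (u : ↥U.left)
    (hE : ∀ ξ : Points X, ξ ⤳ Points.ofPt a u →
      HasAt (fun U u => ringKrullDim ↥(U.presheaf.stalk u) = 0) X ξ →
      ∀ s : Cardinal.{u}, HasAtMor (fun _ _ h u => Dual3.resTrdeg h u = s) f ξ → s ≤ E) :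
    ringKrullDim ↥(U.left.presheaf.stalk u) +
        ((Cardinal.toENat (Dual3.resTrdeg h.left u) : ℕ∞) : WithBot ℕ∞) ≤
      ringKrullDim ↥(V.left.presheaf.stalk (h.left u)) +
        ((Cardinal.toENat E : ℕ∞) : WithBot ℕ∞) := by
  have hft : LocallyOfFiniteType h.left := hf a b h ha hb hcomm
  obtain ⟨ξ', a', c', hcomp, hspec, ha', hc', hineq⟩ :=
    Groth.Agent.Helper5.DimFormula.scheme_dimension_inequality h.left u
  have hsE : Dual3.resTrdeg h.left ξ' ≤ E := by
    refine hE (Points.ofPt a ξ') (hspec.map (Points.continuous_ofPt a))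
      ⟨U, a, ξ', ha, rfl, stalk_dim_zero_of_component ξ' hcomp⟩ _
      ⟨U, V, a, b, h, ξ', ha, hb, hcomm, rfl, rfl⟩
  have h1 : (a' : Cardinal.{u}) + Dual3.resTrdeg h.left u ≤ (c' : Cardinal.{u}) + E :=
    hineq.trans (add_le_add_right hsE _)
  have h2 := Cardinal.toENat.monotone' h1
  rw [ha', hc']
  simp only [OrderRingHom.toFun_eq_coe, map_add, map_natCast] at h2
  have h3 : (((a' : ℕ∞) + Cardinal.toENat (Dual3.resTrdeg h.left u) : ℕ∞) : WithBot ℕ∞) ≤
      (((c' : ℕ∞) + Cardinal.toENat E : ℕ∞) : WithBot ℕ∞) := WithBot.coe_le_coe.2 h2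
  simpa using h3

end Groth.Agent.Helper5.SpDimIneq
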