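import Mathlib
import Groth.Agent.Helper5.CodimOneQf1
import Groth.Agent.Helper5.CodimQf2
import Groth.Agent.Helper5.SpDimIneq
import Groth.Agent.Helper5.ResTr2
import Groth.Agent.Helper5.PtOpen1
import Groth.Agent.Helper5.FlatDense
import Groth.Agent.Helper5.NoethChart

/-!
# Quasi-finiteness over points of codimension at most one: algebraic spaces
-/

set_option autoImplicit false
set_option linter.style.haveILetI false
set_option linter.unusedVariables false
universe u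

namespace Groth.Agent.Helper5.CodimOneQf

open CategoryTheory CategoryTheory.Limits AlgebraicGeometry Opposite AlgSp TopologicalSpace
open Groth.Agent.Helper4 Groth.Agent.Helper5.Codim0B Groth.Agent.Helper5.PtLoc
  Groth.Agent.Helper5.RelDimSp

variable {S : Scheme.{u}}

set_option backward.isDefEq.respectTransparency.types false in
/-- S10455 -/
theorem s10455 {X Y : AlgSp.Space S} (f : X ⟶ Y)
    (hf : AlgSp.LocP @LocallyOfFiniteType f.hom) (hY : AlgSp.IsLocNoethSp Y.obj)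
    (y : AlgSp.Points Y.obj)
    (hy : AlgSp.HasAt (fun U u => ringKrullDim ↥(U.presheaf.stalk u) ≤ 1) Y.obj y)
    (h : ∀ x : AlgSp.Points X.obj,
      AlgSp.HasAt (fun U u => ringKrullDim ↥(U.presheaf.stalk u) = 0) X.obj x →
      AlgSp.Points.map f.hom x ⤳ y →
      AlgSp.HasAtMor (fun _ _ h u => Dual3.resTrdeg h u = 0) f.hom x)
    (x : AlgSp.Points X.obj) (hx : AlgSp.Points.map f.hom x = y) :
    AlgSp.HasAtMor (fun U _ h u => ∃ W : U.Opens, u ∈ W ∧ LocallyQuasiFinite (W.ι ≫ h) ∧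
      LocallyOfFiniteType (W.ι ≫ h)) f.hom x := by
  obtain ⟨V, b, v, hbe, hvy, hdim⟩ := hy
  obtain ⟨U, a, k, u, hae, comm, hu, hku⟩ :=
    Groth.Agent.Helper5.AtMor.exists_chart_over X.property f.hom x b hbe v (hvy.trans hx.symm)
  haveI : IsLocallyNoetherian V.left :=
    Groth.Agent.Helper5.NoethChart.isLocallyNoetherian_of_etale_chart hY b hbe
  haveI hlft : LocallyOfFiniteType k.left := hf a b k hae hbe comm
  rw [← hu, hasAtMor_nbhd_lqf_iff f.hom hf,
    hasAtMor_iff_chart_on (etLocalOn_QD _) f.hom hf a b k hae hbe comm u]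
  show FlatMor.fibreDimAt k.left u = 0
  refine fibreDimAt_eq_zero_of_codim_le_one k.left v hdim ?_ u hku
  intro ξ hcomp hξv
  have h4 : Points.map f.hom (Points.ofPt a ξ) = Points.ofPt b (k.left ξ) := by
    rw [Points.map_ofPt, comm, AlgSpPtsDesc.ofPt_yon_map_comp]
  have h5 : Points.map f.hom (Points.ofPt a ξ) ⤳ y := by
    rw [h4, ← hvy]
    exact hξv.map (Points.continuous_ofPt b)
  have h6 := h (Points.ofPt a ξ)
    ⟨U, a, ξ, hae, rfl, Groth.Agent.Helper5.SpDimIneq.stalk_dim_zero_of_component ξ hcomp⟩ h5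
  exact (Groth.Agent.Helper5.AtMor.hasAtMor_iff_chart _
    (Groth.Agent.Helper5.ResTr.elst_resTrdeg 0) f.hom a b k hae hbe comm ξ).1 h6

/-- quasi-finiteness at a point forces residue transcendence degree zero there -/
theorem hasAtMor_resTrdeg_of_nbhd_lqf {X Y : Sp S} (f : X ⟶ Y) (x : Points X)
    (h : HasAtMor (fun U _ h u => ∃ W : U.Opens, u ∈ W ∧ LocallyQuasiFinite (W.ι ≫ h) ∧
      LocallyOfFiniteType (W.ι ≫ h)) f x) :
    HasAtMor (fun _ _ h u => Dual3.resTrdeg h u = 0) f x := by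
  obtain ⟨U, V, a, b, k, u, hae, hbe, comm, hu, W, huW, hlqf, -⟩ := h
  refine ⟨U, V, a, b, k, u, hae, hbe, comm, hu, ?_⟩
  have h1 := Groth.Agent.Helper5.ResTr.resTrdeg_eq_zero_of_lqf (W.ι ≫ k.left) ⟨u, huW⟩
  rw [Groth.Agent.Helper5.PtOpen.resTrdeg_open] at h1
  exact h1

/-- S10503 -/
theorem s10503 {X Y : AlgSp.Space S} (f : X ⟶ Y)
    (hf : AlgSp.LocP @LocallyOfFiniteType f.hom) (hY : AlgSp.IsLocNoethSp Y.obj)
    (y : AlgSp.Points Y.obj)
    (hy : AlgSp.HasAt (fun U u => ringKrullDim ↥(U.presheaf.stalk u) ≤ 1) Y.obj y)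
    (h : ∀ x : AlgSp.Points X.obj,
      AlgSp.HasAt (fun U u => ringKrullDim ↥(U.presheaf.stalk u) = 0) X.obj x →
      AlgSp.HasAtMor (fun U _ h u => ∃ W : U.Opens, u ∈ W ∧ LocallyQuasiFinite (W.ι ≫ h) ∧
        LocallyOfFiniteType (W.ι ≫ h)) f.hom x)
    (x : AlgSp.Points X.obj) (hx : AlgSp.Points.map f.hom x = y) :
    AlgSp.HasAtMor (fun U _ h u => ∃ W : U.Opens, u ∈ W ∧ LocallyQuasiFinite (W.ι ≫ h) ∧
      LocallyOfFiniteType (W.ι ≫ h)) f.hom x :=
  s10455 f hf hY y hy (fun x' hx' _ => hasAtMor_resTrdeg_of_nbhd_lqf f.hom x' (h x' hx')) x hx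

/-- in a locally Noetherian scheme a dense open set contains every maximal point -/
theorem mem_of_dense_of_isMaxPt {U : Scheme.{u}} [IsLocallyNoetherian U] (O : Set ↥U)
    (hO : IsOpen O) (hd : Dense O) (ξ : ↥U) (hξ : IsMaxPt ξ) : ξ ∈ O := by
  obtain ⟨W, hW, hξW⟩ : ∃ W : U.Opens, IsAffineOpen W ∧ ξ ∈ W := by
    obtain ⟨_, ⟨W, hW, rfl⟩, hξW, -⟩ :=
      U.isBasis_affineOpens.exists_subset_of_mem_open (Set.mem_univ ξ) isOpen_univ
    exact ⟨W, hW, hξW⟩
  haveI : IsAffine (W : Scheme.{u}) := hW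
  haveI : IsNoetherian (W : Scheme.{u}) := { }
  haveI : NoetherianSpace ↥(W : Scheme.{u}) := inferInstance
  have h1 : (⟨ξ, hξW⟩ : ↥(W : Scheme.{u})) ∈ W.ι ⁻¹' O := by
    refine Groth.Agent.Helper5.FlatDense.mem_of_dense_of_maximal (W.ι ⁻¹' O)
      (hO.preimage W.ι.continuous) ?_ _ ?_
    · -- density of the preimage under the open embedding
      rw [dense_iff_inter_open]
      rintro G hG ⟨g, hg⟩
      have hGo : IsOpen (W.ι '' G) := W.ι.isOpenEmbedding.isOpenMap G hG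
      obtain ⟨z, hz1, hz2⟩ := hd.inter_open_nonempty _ hGo ⟨W.ι g, g, hg, rfl⟩
      obtain ⟨g', hg', rfl⟩ := hz1
      exact ⟨g', hg', hz2⟩
    · intro w hw
      have h2 : W.ι w ⤳ W.ι ⟨ξ, hξW⟩ := (W.ι.isEmbedding.isInducing.specializes_iff).2 hw
      have h3 : W.ι w = ξ := hξ _ h2
      exact W.ι.isEmbedding.injective h3
  exact h1

set_option backward.isDefEq.respectTransparency.types false in
/-- S10456 -/
theorem s10456 {X Y : AlgSp.Space S} (f : X ⟶ Y)
    (hf : AlgSp.LocP @LocallyOfFiniteType f.hom) (hY : AlgSp.IsLocNoethSp Y.obj)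
    (y : AlgSp.Points Y.obj)
    (hy : AlgSp.HasAt (fun U u => ringKrullDim ↥(U.presheaf.stalk u) ≤ 1) Y.obj y)
    (h : Dense {x : AlgSp.Points X.obj | AlgSp.HasAtMor (fun U _ h u => ∃ W : U.Opens, u ∈ W ∧
      LocallyQuasiFinite (W.ι ≫ h) ∧ LocallyOfFiniteType (W.ι ≫ h)) f.hom x})
    (x : AlgSp.Points X.obj) (hx : AlgSp.Points.map f.hom x = y) :
    AlgSp.HasAtMor (fun U _ h u => ∃ W : U.Opens, u ∈ W ∧ LocallyQuasiFinite (W.ι ≫ h) ∧
      LocallyOfFiniteType (W.ι ≫ h)) f.hom x := by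
  refine s10503 f hf hY y hy ?_ x hx
  intro x' hx'
  have hQ := etLocalOn_QD.{u} (fun r => r = 0)
  have hopen : IsOpen {x : Points X.obj | HasAtMor (QD fun r => r = 0) f.hom x} :=
    isOpen_locus_on hQ (fun s hs => by haveI := hs; exact isOpen_fibreDimAt_eq_zero s) f hf
  have hset : {x : Points X.obj | HasAtMor (QD fun r => r = 0) f.hom x} =
      {x : AlgSp.Points X.obj | AlgSp.HasAtMor (fun U _ h u => ∃ W : U.Opens, u ∈ W ∧
        LocallyQuasiFinite (W.ι ≫ h) ∧ LocallyOfFiniteType (W.ι ≫ h)) f.hom x} := by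
    ext z
    exact (hasAtMor_nbhd_lqf_iff f.hom hf z).symm
  rw [hset] at hopen
  -- a chart around `x'` over a chart of `Y`
  obtain ⟨V, b, hbe, hbs⟩ := Y.property.atlas
  obtain ⟨v, hv⟩ := Groth.Agent.Helper5.AlgSpOpen.ofPt_surjective_of_repWith b hbs
    (Points.map f.hom x')
  obtain ⟨U, a, k, u, hae, comm, hu, hku⟩ :=
    Groth.Agent.Helper5.AtMor.exists_chart_over X.property f.hom x' b hbe v hv
  haveI : IsLocallyNoetherian V.left :=
    Groth.Agent.Helper5.NoethChart.isLocallyNoetherian_of_etale_chart hY b hbe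
  haveI hlft : LocallyOfFiniteType k.left := hf a b k hae hbe comm
  haveI : IsLocallyNoetherian U.left := LocallyOfFiniteType.isLocallyNoetherian k.left
  have hmax : IsMaxPt u := by
    rw [← hu, Groth.Agent.Helper5.HasAtChart.hasAt_iff_chart
      (fun U u => ringKrullDim ↥(U.presheaf.stalk u) = 0)
      (fun g _ x => Groth.Agent.Helper5.IrrTfae.dimZero_iff_of_etale g x) a hae u,
      stalk_dim_zero_iff] at hx'
    exact hx'
  have hopenmap : IsOpenMap (Points.ofPt a) :=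
    Groth.Agent.Helper5.Decent3.isOpenMap_ofPt X.property a hae
  have hmem : u ∈ Points.ofPt a ⁻¹' {x : AlgSp.Points X.obj | AlgSp.HasAtMor (fun U _ h u =>
      ∃ W : U.Opens, u ∈ W ∧ LocallyQuasiFinite (W.ι ≫ h) ∧ LocallyOfFiniteType (W.ι ≫ h))
      f.hom x} := by
    refine mem_of_dense_of_isMaxPt _ (hopen.preimage (Points.continuous_ofPt a)) ?_ u hmax
    rw [dense_iff_inter_open]
    rintro G hG ⟨g, hg⟩
    obtain ⟨z, hz1, hz2⟩ := h.inter_open_nonempty _ (hopenmap G hG) ⟨_, g, hg, rfl⟩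
    obtain ⟨g', hg', rfl⟩ := hz1
    exact ⟨g', hg', hz2⟩
  rw [← hu]
  exact hmem

end Groth.Agent.Helper5.CodimOneQf
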