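import Groth.Agent.Helper5.IrrTfae1
import Groth.Agent.Helper5.FieldPtCond1
import Groth.Agent.Helper5.FibCodim
import Mathlib

set_option autoImplicit false
set_option linter.style.haveILetI false
set_option linter.unusedSectionVars false
set_option linter.unusedVariables false
universe u
open CategoryTheory CategoryTheory.Limits AlgebraicGeometry Opposite TopologicalSpace

namespace Groth.Agent.Helper5.CodimQf

open Groth.Agent.Helper5.Codim0B

/-- specialization in a fibre is specialization in the total space -/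
theorem fiber_specializes_iff {U V : Scheme.{u}} (h : U ⟶ V) (v : V) (w w' : h.fiber v) :
    w' ⤳ w ↔ h.fiberι v w' ⤳ h.fiberι v w :=
  ((h.fiberι v).isEmbedding.toIsInducing.specializes_iff).symm

theorem exists_fiber_point {U V : Scheme.{u}} (h : U ⟶ V) (v : V) (u : U) (hu : h u = v) :
    ∃ w : h.fiber v, h.fiberι v w = u := by
  have : u ∈ Set.range (h.fiberι v) := by rw [h.range_fiberι]; exact hu
  exact this

instance fiber_locallyOfFiniteType {U V : Scheme.{u}} (h : U ⟶ V) [LocallyOfFiniteType h] (v : V) :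
    LocallyOfFiniteType (h.fiberToSpecResidueField v) :=
  inferInstanceAs (LocallyOfFiniteType (Limits.pullback.snd h (V.fromSpecResidueField _)))

theorem fiber_isLocallyNoetherian {U V : Scheme.{u}} (h : U ⟶ V) [LocallyOfFiniteType h] (v : V) :
    IsLocallyNoetherian (h.fiber v) :=
  LocallyOfFiniteType.isLocallyNoetherian (h.fiberToSpecResidueField v)

theorem fiber_jacobsonSpace {U V : Scheme.{u}} (h : U ⟶ V) [LocallyOfFiniteType h] (v : V) :
    JacobsonSpace (h.fiber v) := by
  haveI : JacobsonSpace ↥(Spec (V.residueField v)) :=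
    inferInstanceAs (JacobsonSpace (PrimeSpectrum (V.residueField v)))
  exact LocallyOfFiniteType.jacobsonSpace (h.fiberToSpecResidueField v)

/-- (A): quasi-finite at a point over a maximal point implies maximal -/
theorem isMaxPt_of_fibreDimAt_eq_zero {U V : Scheme.{u}} (h : U ⟶ V) [LocallyOfFiniteType h]
    (u : U) (hv : IsMaxPt (h u)) (hd : FlatMor.fibreDimAt h u = 0) : IsMaxPt u := by
  obtain ⟨k, n, hk1, -, -, hfd⟩ := Groth.Agent.Helper5.SubDim.fibreDimAt_eq h u
  rw [hd] at hfd
  have hk0 : k = 0 := by
    have : ((k + n : ℕ) : WithBot ℕ∞) = 0 := hfd.symm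
    have h2 : k + n = 0 := by exact_mod_cast this
    omega
  rw [hk0] at hk1
  have hmax : IsMaxPt (h.asFiber u) := (stalk_dim_zero_iff _ _).1 (by simpa using hk1)
  intro u' hu'
  have h1 : h u' = h u := hv _ (hu'.map h.continuous)
  obtain ⟨w', hw'⟩ := exists_fiber_point h (h u) u' h1
  have h2 : w' ⤳ h.asFiber u := by
    rw [fiber_specializes_iff, hw', h.fiberι_asFiber]
    exact hu'
  rw [← hw', hmax w' h2, h.fiberι_asFiber]

/-- (B): no specializations inside a fibre implies quasi-finite along the fibre -/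
theorem fibreDimAt_eq_zero_of_no_specializes {U V : Scheme.{u}} (h : U ⟶ V)
    [LocallyOfFiniteType h] (u : U)
    (H : ∀ u₁ u₂ : U, h u₁ = h u → h u₂ = h u → u₂ ⤳ u₁ → u₁ = u₂) :
    FlatMor.fibreDimAt h u = 0 := by
  haveI := fiber_isLocallyNoetherian h (h u)
  haveI : DiscreteTopology ↥(h.fiber (h u)) := by
    apply Groth.Agent.Helper5.DiscFib.discreteTopology_of_no_specializes
    intro w w' hs
    apply (h.fiberι (h u)).isEmbedding.injective
    apply H
    · have : h.fiberι (h u) w ∈ Set.range (h.fiberι (h u)) := ⟨w, rfl⟩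
      rw [h.range_fiberι] at this
      exact this
    · have : h.fiberι (h u) w' ∈ Set.range (h.fiberι (h u)) := ⟨w', rfl⟩
      rw [h.range_fiberι] at this
      exact this
    · exact (fiber_specializes_iff h (h u) w w').1 hs
  show FlatMor.localDim ↥(h.fiber (h u)) (h.asFiber u) = 0
  exact le_antisymm
    (Groth.Agent.Helper3.RelDivCurve.localDim_le_zero_of_isOpen_singleton _ (isOpen_discrete _))
    (Groth.Agent.Helper5.FieldPtCond.localDim_nonneg _)

/-- (C): quasi-finite at the maximal points of a fibre over a maximal point implies the fibre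
consists of maximal points -/
theorem isMaxPt_of_forall_isMaxPt_fibreDimAt {U V : Scheme.{u}} (h : U ⟶ V)
    [LocallyOfFiniteType h] (u : U) (hv : IsMaxPt (h u))
    (H : ∀ u' : U, h u' = h u → IsMaxPt u' → FlatMor.fibreDimAt h u' = 0) : IsMaxPt u := by
  obtain ⟨u', hu'G, hu'u⟩ := Groth.Agent.Helper5.IrrTfae.exists_gen_specializes (α := ↥U) u
  have hu'max : IsMaxPt u' := hu'G
  have h1 : h u' = h u := hv _ (hu'u.map h.continuous)
  have hd := H u' h1 hu'max
  haveI := fiber_isLocallyNoetherian h (h u')
  haveI := fiber_jacobsonSpace h (h u')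
  have hopen : IsOpen ({h.asFiber u'} : Set ↥(h.fiber (h u'))) :=
    Groth.Agent.Helper3.RelDivCurve.isOpen_singleton_of_localDim_le_zero _ hd.le
  have hclosed : IsClosed ({h.asFiber u'} : Set ↥(h.fiber (h u'))) :=
    isClosed_singleton_of_isLocallyClosed_singleton hopen.isLocallyClosed
  obtain ⟨w, hw⟩ := exists_fiber_point h (h u') u h1.symm
  have h2 : h.asFiber u' ⤳ w := by
    rw [fiber_specializes_iff, hw, h.fiberι_asFiber]
    exact hu'u
  have h3 : w = h.asFiber u' := h2.mem_closed hclosed rfl
  have h4 : u = u' := by rw [← hw, h3, h.fiberι_asFiber]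
  rw [h4]
  exact hu'max

end Groth.Agent.Helper5.CodimQf
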