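import Groth.Agent.Helper5.HenselFin

set_option autoImplicit false
universe u
open Polynomial

namespace Groth.Agent.Helper5.CoefAlg

theorem s11087 (K A B : Type u) [Field K]
    [PerfectField K] [CommRing A] [IsDomain A] [IsDiscreteValuationRing A]
    [IsAdicComplete (IsLocalRing.maximalIdeal A) A]
    [Algebra K A] (hK : Function.Bijective ((IsLocalRing.residue A).comp (algebraMap K A)))
    [CommRing B] [IsDedekindDomain B] [Algebra A B] [Module.Finite A B] [Module.IsTorsionFree A B]
    [Algebra K B] [IsScalarTower K A B]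
    (M : Ideal B) [hM : M.IsMaximal] (b : B) :
    ∃! c : B, IsAlgebraic K c ∧ b - c ∈ M := by
  have hH : HenselianRing B M := HenselFin.henselianRing A B M
  have hover := HenselFin.liesOver A B M
  set 𝔪 := IsLocalRing.maximalIdeal A with h𝔪
  let _ : Field (B ⧸ M) := Ideal.Quotient.field M
  -- section of the residue map
  let e : K ≃+* IsLocalRing.ResidueField A := RingEquiv.ofBijective _ hK
  let σ : A →+* K := (e.symm : IsLocalRing.ResidueField A →+* K).comp (IsLocalRing.residue A)
  have hσ : ∀ a : A, a - algebraMap K A (σ a) ∈ 𝔪 := by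
    intro a
    rw [h𝔪, ← Ideal.Quotient.eq_zero_iff_mem]
    change IsLocalRing.residue A (a - algebraMap K A (σ a)) = 0
    rw [map_sub, sub_eq_zero]
    have : IsLocalRing.residue A (algebraMap K A (σ a)) = e (σ a) := rfl
    rw [this]
    simp [σ]
  have hcomp : (algebraMap K (B ⧸ M)).comp σ = algebraMap A (B ⧸ M) := by
    ext a
    have h1 : algebraMap A B (a - algebraMap K A (σ a)) ∈ M := by
      have : a - algebraMap K A (σ a) ∈ M.under A := by
        rw [← Ideal.LiesOver.over (p := 𝔪) (P := M)]; exact hσ a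
      exact this
    rw [map_sub, ← Ideal.Quotient.eq] at h1
    rw [RingHom.comp_apply, IsScalarTower.algebraMap_apply A B (B ⧸ M),
      IsScalarTower.algebraMap_apply K B (B ⧸ M), Ideal.Quotient.algebraMap_eq, h1,
      ← IsScalarTower.algebraMap_apply K A B]
  -- the residue class of `b` is integral over `K`
  set bbar : B ⧸ M := Ideal.Quotient.mk M b with hbbar
  have hint : IsIntegral K bbar := by
    have : Algebra.IsIntegral A B := Algebra.IsIntegral.of_finite A B
    have h1 : IsIntegral A bbar :=
      (Algebra.IsIntegral.isIntegral (R := A) b).map (Ideal.Quotient.mkₐ A M)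
    obtain ⟨P, hP, hP0⟩ := h1
    refine ⟨P.map σ, hP.map σ, ?_⟩
    rw [eval₂_map, hcomp]
    exact hP0
  set g : K[X] := minpoly K bbar with hg
  have hgm : g.Monic := minpoly.monic hint
  have hgsep : g.Separable := PerfectField.separable_of_irreducible (minpoly.irreducible hint)
  have hg0 : aeval bbar g = 0 := minpoly.aeval K bbar
  have hg1 : aeval bbar (derivative g) ≠ 0 := hgsep.aeval_derivative_ne_zero hg0
  have hmk : ∀ q : K[X], Ideal.Quotient.mk M ((q.map (algebraMap K B)).eval b) = aeval bbar q := by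
    intro q
    rw [eval_map, aeval_def, hbbar, hom_eval₂, IsScalarTower.algebraMap_eq K B (B ⧸ M),
      Ideal.Quotient.algebraMap_eq]
  obtain ⟨c, hc, hcb⟩ := hH.is_henselian (g.map (algebraMap K B)) (hgm.map _) b
    (by rw [← Ideal.Quotient.eq_zero_iff_mem, hmk, hg0])
    (by rw [derivative_map, hmk]; exact hg1.isUnit)
  refine ⟨c, ⟨⟨g, hgm.ne_zero, ?_⟩, ?_⟩, ?_⟩
  · rw [aeval_def, ← eval_map]; exact hc
  · rw [← neg_sub]; exact M.neg_mem hcb
  · rintro c' ⟨hc', hbc'⟩
    by_contra hne
    have hsub : c' - c ∈ M := by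
      have := M.sub_mem (M.neg_mem hcb) hbc'
      have e2 : -(c - b) - (b - c') = c' - c := by ring
      rwa [e2] at this
    have halg : IsIntegral K (c' - c) :=
      (isAlgebraic_iff_isIntegral.1 hc').sub (isAlgebraic_iff_isIntegral.1 ⟨g, hgm.ne_zero, by
        rw [aeval_def, ← eval_map]; exact hc⟩)
    have hu : IsUnit (c' - c) := halg.isUnit (sub_ne_zero.2 hne)
    exact hM.ne_top (Ideal.eq_top_of_isUnit_mem _ hsub hu)

end Groth.Agent.Helper5.CoefAlg
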