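import Groth.Agent.Helper5.ComplDVR

set_option autoImplicit false
universe u
open Polynomial
attribute [local instance] FractionRing.liftAlgebra

namespace Groth.Agent.Helper5.ComplDVR

theorem s11088 (A B : Type u) [CommRing A] [IsDomain A] [IsDiscreteValuationRing A]
    [IsAdicComplete (IsLocalRing.maximalIdeal A) A]
    [CommRing B] [IsDedekindDomain B] [Algebra A B] [Module.Finite A B] [Module.IsTorsionFree A B]
    [Algebra.IsSeparable (FractionRing A) (FractionRing B)]
    (M : Ideal B) [hM : M.IsMaximal] (x : B) (hx : x ≠ 0) :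
    emultiplicity (IsLocalRing.maximalIdeal A) (Ideal.span {Algebra.intNorm A B x}) =
      (M.inertiaDeg A : ℕ∞) * emultiplicity M (Ideal.span {x}) := by
  set 𝔪 := IsLocalRing.maximalIdeal A with h𝔪
  have h𝔪0 : 𝔪 ≠ ⊥ := IsDiscreteValuationRing.not_a_field A
  obtain ⟨M₀, hM₀, huniq⟩ := existsUnique_isMaximal_of_finite_of_complete A B
  have hMM : ∀ N : Ideal B, N.IsMaximal → N = M := fun N hN => (huniq N hN).trans (huniq M hM).symm
  have : Algebra.IsIntegral A B := Algebra.IsIntegral.of_finite A B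
  have hover : M.LiesOver 𝔪 := by
    constructor
    have : (M.comap (algebraMap A B)).IsMaximal := Ideal.isMaximal_comap_of_isIntegral_of_isMaximal M
    exact (IsLocalRing.eq_maximalIdeal this).symm
  have hprimes : 𝔪.primesOver B = {M} := by
    ext Q
    simp only [Ideal.primesOver, Set.mem_ofPred_eq, Set.mem_singleton_iff]
    constructor
    · rintro ⟨hQ, hQo⟩
      have hQ0 : Q ≠ ⊥ := Ideal.ne_bot_of_mem_primesOver h𝔪0 ⟨hQ, hQo⟩
      exact hMM Q (hQ.isMaximal hQ0)
    · rintro rfl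
      exact ⟨hM.isPrime, hover⟩
  have hmap := Ideal.map_algebraMap_eq_finsetProd_pow (R := B) (S := A) (p := 𝔪) h𝔪0
  have hfin : ((𝔪.primesOver B).toFinset : Finset (Ideal B)) = {M} := by
    ext Q; simp [hprimes]
  rw [hfin, Finset.prod_singleton] at hmap
  -- e * f = n
  have hflat : Module.Flat A B := inferInstance
  have hsum := Ideal.sum_ramification_inertia_eq_finrank 𝔪 B
  have hef : M.ramificationIdx A * M.inertiaDeg A = Module.finrank A B := by
    rw [← hsum]
    have hMmem : M ∈ 𝔪.primesOver B := ⟨hM.isPrime, hover⟩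
    have : ∀ q : 𝔪.primesOver B, q = ⟨M, hMmem⟩ := fun q => Subtype.ext (by
      have h1 : (q : Ideal B) ∈ ({M} : Set (Ideal B)) := hprimes ▸ q.2
      exact h1)
    rw [Fintype.sum_eq_single (⟨M, hMmem⟩ : 𝔪.primesOver B) (fun q hq => absurd (this q) hq)]
  have h𝔪top : 𝔪 ≠ ⊤ := Ideal.IsPrime.ne_top inferInstance
  have hinj : Function.Injective (fun n : ℕ => 𝔪 ^ n) := (Ideal.pow_right_strictAnti 𝔪 h𝔪0 h𝔪top).injective
  have hn1 : Ideal.relNorm A (𝔪.map (algebraMap A B)) = 𝔪 ^ Module.finrank A B :=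
    Ideal.relNorm_algebraMap B 𝔪
  obtain ⟨s, hs⟩ := Ideal.exists_relNorm_eq_pow_of_isPrime M 𝔪
  have hsf : s = M.inertiaDeg A := by
    rw [hmap, map_pow, hs, ← pow_mul, ← hef] at hn1
    have := hinj hn1
    have he : 0 < M.ramificationIdx A := Ideal.ramificationIdx_pos M A
    rw [mul_comm] at this
    exact Nat.eq_of_mul_eq_mul_left he this
  rw [hsf] at hs
  -- the ideal generated by x
  have hx0 : Ideal.span {x} ≠ ⊥ := by simpa using hx
  obtain ⟨Q, hQ1, hQ2⟩ := Ideal.eq_prime_pow_mul_coprime hx0 M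
  have hQtop : Q = ⊤ := by
    by_contra hne
    obtain ⟨N, hN, hQN⟩ := Ideal.exists_le_maximal Q hne
    rw [hMM N hN] at hQN
    rw [sup_eq_left.2 hQN] at hQ1
    exact hM.ne_top hQ1
  rw [hQtop, Ideal.mul_top] at hQ2
  set w := Multiset.count M (UniqueFactorizationMonoid.normalizedFactors (Ideal.span {x})) with hw
  have hnorm : Ideal.span {Algebra.intNorm A B x} = 𝔪 ^ (M.inertiaDeg A * w) := by
    rw [← Ideal.relNorm_singleton, hQ2, map_pow, hs, ← pow_mul]
  have hM0 : M ≠ ⊥ := Ideal.ne_bot_of_mem_primesOver h𝔪0 (hprimes ▸ rfl : M ∈ 𝔪.primesOver B)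
  rw [hnorm, emultiplicity_pow_self h𝔪0 (by rwa [Ideal.isUnit_iff]) ]
  conv_rhs => rw [hQ2, emultiplicity_pow_self hM0 (by rw [Ideal.isUnit_iff]; exact hM.ne_top)]
  push_cast
  rfl

end Groth.Agent.Helper5.ComplDVR
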