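import Mathlib
import Groth.Agent.Helper3.HensProd2
import Groth.Agent.Helper5.ComplDVR
import Groth.Agent.S9604

set_option autoImplicit false
set_option linter.unusedSectionVars false
universe u

namespace Groth.Agent.Helper5.ComplProd

section Pi

variable {S : Type u} [CommRing S] {ι : Type u} [Fintype ι] (A : ι → Type u)
  [∀ i, CommRing (A i)] [∀ i, IsLocalRing (A i)] (φ : S ≃+* (∀ i, A i))

/-- the `i`-th maximal ideal of a finite product of local rings -/
def mI (i : ι) : Ideal S :=
  (IsLocalRing.maximalIdeal (A i)).comap ((Pi.evalRingHom A i).comp (φ : S →+* (∀ i, A i)))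

omit [Fintype ι] in
theorem mem_mI (i : ι) (s : S) : s ∈ mI A φ i ↔ ¬ IsUnit (φ s i) := by
  simp [mI, Ideal.mem_comap]

instance mI_isMaximal (i : ι) : (mI A φ i).IsMaximal := by
  apply Ideal.comap_isMaximal_of_surjective
  intro a
  classical
  exact ⟨φ.symm (Pi.single i a), by simp⟩

theorem exists_eq_mI (M : Ideal S) [hM : M.IsMaximal] : ∃ i, M = mI A φ i := by
  classical
  have h1 : ∃ i, φ.symm (Pi.single i 1) ∉ M := by
    by_contra h
    push Not at h
    apply hM.ne_top
    rw [Ideal.eq_top_iff_one]
    have : (1 : S) = ∑ i, φ.symm (Pi.single i 1) := by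
      apply φ.injective
      rw [map_one, map_sum]
      simp only [RingEquiv.apply_symm_apply]
      exact (Finset.univ_sum_single (1 : ∀ i, A i)).symm
    rw [this]
    exact Ideal.sum_mem _ (fun i _ => h i)
  obtain ⟨i, hi⟩ := h1
  refine ⟨i, ?_⟩
  have hle : M ≤ mI A φ i := by
    intro m hm
    rw [mem_mI]
    intro hu
    obtain ⟨v, hv⟩ := hu.exists_right_inv
    apply hi
    have : φ.symm (Pi.single i 1) = m * φ.symm (Pi.single i v) := by
      apply φ.injective
      rw [map_mul]; simp only [RingEquiv.apply_symm_apply]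
      ext j
      by_cases hj : j = i
      · subst hj; simp [hv]
      · simp [Pi.single_eq_of_ne hj]
    rw [this]
    exact M.mul_mem_right _ hm
  exact hM.eq_of_le (mI_isMaximal A φ i).ne_top hle

theorem algebraMap_eq_zero_iff (M : Ideal S) [M.IsPrime] (i : ι) (hM : M = mI A φ i) (s : S) :
    algebraMap S (Localization.AtPrime M) s = 0 ↔ φ s i = 0 := by
  classical
  subst hM
  rw [IsLocalization.map_eq_zero_iff (mI A φ i).primeCompl]
  constructor
  · rintro ⟨⟨c, hc⟩, h⟩
    have hc' : IsUnit (φ c i) := by
      by_contra hcon; exact hc ((mem_mI A φ i c).2 hcon)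
    have := congrArg (fun t => φ t i) h
    simp only [map_mul, Pi.mul_apply, map_zero, Pi.zero_apply] at this
    exact (hc'.mul_right_eq_zero).1 this
  · intro h
    refine ⟨⟨φ.symm (Pi.single i 1), ?_⟩, ?_⟩
    · show φ.symm (Pi.single i 1) ∈ (mI A φ i).primeCompl
      intro hmem
      apply (mem_mI A φ i _).1 hmem; simp
    · apply φ.injective
      simp only [map_mul, RingEquiv.apply_symm_apply, map_zero]
      ext j
      by_cases hj : j = i
      · subst hj; simp [h]
      · simp [Pi.single_eq_of_ne hj]

theorem algebraMap_surjective (M : Ideal S) [M.IsPrime] (i : ι) (hM : M = mI A φ i) :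
    Function.Surjective (algebraMap S (Localization.AtPrime M)) := by
  classical
  intro x
  obtain ⟨s, ⟨t, ht⟩, rfl⟩ := IsLocalization.exists_mk'_eq M.primeCompl x
  have ht' : IsUnit (φ t i) := by
    by_contra hcon; apply ht; rw [hM, SetLike.mem_coe, mem_mI]; exact hcon
  obtain ⟨v, hv⟩ := ht'.exists_right_inv
  refine ⟨s * φ.symm (Pi.single i v), ?_⟩
  rw [eq_comm, IsLocalization.mk'_eq_iff_eq_mul, ← map_mul, ← sub_eq_zero, ← map_sub,
    algebraMap_eq_zero_iff A φ M i hM]
  simp only [map_sub, map_mul, RingEquiv.apply_symm_apply, Pi.sub_apply, Pi.mul_apply,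
    Pi.single_eq_same]
  rw [mul_assoc, mul_comm v, hv, mul_one, sub_self]

include A φ in
theorem bijective_pi :
    Function.Bijective
      (algebraMap S ((m : MaximalSpectrum S) → Localization.AtPrime m.asIdeal)) := by
  classical
  constructor
  · rw [injective_iff_map_eq_zero]
    intro s hs
    apply φ.injective
    rw [map_zero]
    ext i
    have := congrFun hs ⟨mI A φ i, mI_isMaximal A φ i⟩
    rw [Pi.algebraMap_apply] at this
    exact (algebraMap_eq_zero_iff A φ _ i rfl s).1 this
  · intro x
    have h1 : ∀ m : MaximalSpectrum S,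
        ∃ s, algebraMap S (Localization.AtPrime m.asIdeal) s = x m := by
      intro m
      obtain ⟨i, hi⟩ := exists_eq_mI A φ m.asIdeal
      exact algebraMap_surjective A φ m.asIdeal i hi (x m)
    choose s hs using h1
    refine ⟨φ.symm (fun i => φ (s ⟨mI A φ i, mI_isMaximal A φ i⟩) i), ?_⟩
    ext m
    rw [Pi.algebraMap_apply, ← hs m, ← sub_eq_zero, ← map_sub]
    obtain ⟨i, hi⟩ := exists_eq_mI A φ m.asIdeal
    rw [algebraMap_eq_zero_iff A φ m.asIdeal i hi]
    have hm : m = ⟨mI A φ i, mI_isMaximal A φ i⟩ := MaximalSpectrum.ext hi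
    subst hm
    simp

include A φ in
theorem finite_maxSpec : Finite (MaximalSpectrum S) := by
  have : Function.Surjective
      (fun i : ι => (⟨mI A φ i, mI_isMaximal A φ i⟩ : MaximalSpectrum S)) := by
    intro m
    obtain ⟨i, hi⟩ := exists_eq_mI A φ m.asIdeal
    exact ⟨i, MaximalSpectrum.ext hi.symm⟩
  exact Finite.of_surjective _ this

end Pi

section Compl

variable (R : Type u) [CommRing R] [IsLocalRing R] [IsNoetherianRing R]
  [IsAdicComplete (IsLocalRing.maximalIdeal R) R]
  (S : Type u) [CommRing S] [Algebra R S] [Module.Finite R S]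

include R in
theorem isAdicComplete_localization (M : Ideal S) [hM : M.IsMaximal]
    (hsurj : Function.Surjective (algebraMap S (Localization.AtPrime M))) :
    IsAdicComplete (IsLocalRing.maximalIdeal (Localization.AtPrime M))
      (Localization.AtPrime M) := by
  set T := Localization.AtPrime M
  set 𝔪 := IsLocalRing.maximalIdeal R
  have : Algebra.IsIntegral R S := Algebra.IsIntegral.of_finite R S
  have hfin : Module.Finite R T :=
    Module.Finite.of_surjective (IsScalarTower.toAlgHom R S T).toLinearMap hsurj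
  set I : Ideal T := 𝔪.map (algebraMap R T) with hI
  have hcompl : IsAdicComplete I T := by
    rw [hI, IsAdicComplete.map_algebraMap_iff]
    have h1 : IsPrecomplete 𝔪 T := ComplDVR.isPrecomplete_of_finite 𝔪 T
    have h2 : IsHausdorff 𝔪 T := inferInstance
    exact { }
  have hle : I ≤ IsLocalRing.maximalIdeal T := by
    rw [hI, Ideal.map_le_iff_le_comap]
    intro r hr
    rw [Ideal.mem_comap, IsScalarTower.algebraMap_apply R S T,
      IsLocalization.AtPrime.to_map_mem_maximal_iff T M]
    have : (M.comap (algebraMap R S)).IsMaximal :=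
      Ideal.isMaximal_comap_of_isIntegral_of_isMaximal M
    have h := IsLocalRing.eq_maximalIdeal this
    have : r ∈ M.comap (algebraMap R S) := h ▸ hr
    exact this
  have hart : IsArtinianRing (T ⧸ I) := by
    have : Module.Finite (R ⧸ 𝔪) (T ⧸ I) :=
      Module.Finite.of_restrictScalars_finite R (R ⧸ 𝔪) (T ⧸ I)
    let _ : Field (R ⧸ 𝔪) := Ideal.Quotient.field 𝔪
    exact IsArtinianRing.of_finite (R ⧸ 𝔪) (T ⧸ I)
  obtain ⟨n, hn⟩ := IsLocalRing.exists_maximalIdeal_pow_le_of_isArtinianRing_quotient I
  exact (Groth.Agent.S9604.result I (IsLocalRing.maximalIdeal T) 1 (n + 1) one_pos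
    (Nat.succ_pos n) (by simpa using hle)
    ((Ideal.pow_le_pow_right (Nat.le_succ n)).trans hn) T).1 hcompl

include R in
theorem main :
    Finite (MaximalSpectrum S) ∧
      Function.Bijective
        (algebraMap S ((m : MaximalSpectrum S) → Localization.AtPrime m.asIdeal)) ∧
      ∀ m : MaximalSpectrum S, IsNoetherianRing (Localization.AtPrime m.asIdeal) ∧
        IsAdicComplete (IsLocalRing.maximalIdeal (Localization.AtPrime m.asIdeal))
          (Localization.AtPrime m.asIdeal) := by
  have hH : HenselianLocalRing R := by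
    have h := IsAdicComplete.henselianRing R (IsLocalRing.maximalIdeal R)
    exact { is_henselian := fun f hf a₀ h₁ h₂ => h.is_henselian f hf a₀ h₁ (h₂.map _) }
  obtain ⟨ι, _, A, _, hloc, ⟨φ⟩⟩ := Groth.Agent.Helper3.HensProd.finite_pi_of_hens R S
  have hNoeth : IsNoetherianRing S := IsNoetherianRing.of_finite R S
  refine ⟨finite_maxSpec A φ, bijective_pi A φ, fun m =>
    ⟨IsLocalization.isNoetherianRing m.asIdeal.primeCompl _ hNoeth, ?_⟩⟩
  obtain ⟨i, hi⟩ := exists_eq_mI A φ m.asIdeal
  exact isAdicComplete_localization R S m.asIdeal (algebraMap_surjective A φ m.asIdeal i hi)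

end Compl

end Groth.Agent.Helper5.ComplProd
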