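import Mathlib

set_option autoImplicit false
universe u
open TensorProduct

namespace Groth.Agent.Helper5.ConnDvr

/-- idempotents of `A[1/ϖ]` descend to `A` when `ϖ` is regular and `A/ϖ` is reduced. -/
theorem exists_idempotent_of_away {A : Type*} [CommRing A] (ϖ : A) (hreg : IsSMulRegular A ϖ)
    (hred : ∀ a : A, a ^ 2 ∈ Ideal.span {ϖ} → a ∈ Ideal.span {ϖ})
    (S : Type*) [CommRing S] [Algebra A S] [IsLocalization.Away ϖ S]
    (e : S) (he : IsIdempotentElem e) :
    ∃ a : A, IsIdempotentElem a ∧ algebraMap A S a = e := by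
  classical
  have hinj : Function.Injective (algebraMap A S) := by
    apply IsLocalization.injective S (M := Submonoid.powers ϖ)
    rintro _ ⟨n, rfl⟩
    rw [mem_nonZeroDivisors_iff_right]
    intro z hz
    have : IsSMulRegular A (ϖ ^ n) := hreg.pow n
    apply this
    simpa [mul_comm] using hz
  have hunit : IsUnit (algebraMap A S ϖ) := IsLocalization.Away.algebraMap_isUnit ϖ
  have hex : ∃ n : ℕ, ∃ a : A, e * algebraMap A S ϖ ^ n = algebraMap A S a := by
    obtain ⟨n, a, h⟩ := IsLocalization.Away.surj ϖ e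
    exact ⟨n, a, h⟩
  have hfind := Nat.find_spec hex
  obtain ⟨a, ha⟩ := hfind
  have hn0 : Nat.find hex = 0 := by
    by_contra hne
    obtain ⟨k, hk⟩ := Nat.exists_eq_succ_of_ne_zero hne
    -- `a² = a ϖ^n`
    have h1 : a ^ 2 = a * ϖ ^ (Nat.find hex) := by
      apply hinj
      rw [map_pow, map_mul, map_pow, ← ha]
      have : e * e = e := he
      calc (e * algebraMap A S ϖ ^ Nat.find hex) ^ 2
          = (e * e) * (algebraMap A S ϖ ^ Nat.find hex) ^ 2 := by ring
        _ = e * algebraMap A S ϖ ^ Nat.find hex * algebraMap A S ϖ ^ Nat.find hex := by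
            rw [this]; ring
    have h2 : a ^ 2 ∈ Ideal.span {ϖ} := by
      rw [h1, hk, pow_succ]
      exact Ideal.mul_mem_left _ _ (Ideal.mul_mem_left _ _ (Ideal.mem_span_singleton_self ϖ))
    obtain ⟨a', ha'⟩ := Ideal.mem_span_singleton'.1 (hred a h2)
    have h3 : e * algebraMap A S ϖ ^ k = algebraMap A S a' := by
      have h4 : e * algebraMap A S ϖ ^ k * algebraMap A S ϖ = algebraMap A S a' * algebraMap A S ϖ := by
        rw [← map_mul, ha', ← ha, hk, pow_succ]
        ring
      exact hunit.mul_left_injective h4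
    exact Nat.find_min hex (by omega : k < Nat.find hex) ⟨a', h3⟩
  rw [hn0, pow_zero, mul_one] at ha
  refine ⟨a, ?_, ha.symm⟩
  apply hinj
  rw [map_mul, ← ha]
  exact he

end Groth.Agent.Helper5.ConnDvr
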