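import Mathlib
import Groth.Agent.Helper5.ConnDvr

set_option autoImplicit false
universe u
open TensorProduct PrimeSpectrum

namespace Groth.Agent.Helper5.ConnDvr

theorem disjoint_closure {A : Type*} [CommRing A] (ϖ : A) (hreg : IsSMulRegular A ϖ)
    (hred : ∀ a : A, a ^ 2 ∈ Ideal.span {ϖ} → a ∈ Ideal.span {ϖ})
    (U V : Set (PrimeSpectrum A)) (hU : IsOpen U) (hV : IsOpen V) (hdisj : Disjoint U V)
    (hUV : U ∪ V = (basicOpen ϖ : Set (PrimeSpectrum A))) :
    closure U ∩ closure V = ∅ := by
  let S := Localization.Away ϖ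
  let c : PrimeSpectrum S → PrimeSpectrum A := comap (algebraMap A S)
  have hc : Continuous c := PrimeSpectrum.continuous_comap (algebraMap A S)
  have hrange : Set.range c = (basicOpen ϖ : Set (PrimeSpectrum A)) :=
    localization_away_comap_range S ϖ
  have hU'open : IsOpen (c ⁻¹' U) := hU.preimage hc
  have hV'open : IsOpen (c ⁻¹' V) := hV.preimage hc
  have hcompl : (c ⁻¹' U)ᶜ = c ⁻¹' V := by
    ext q
    have hq : c q ∈ U ∪ V := by rw [hUV, ← hrange]; exact ⟨q, rfl⟩
    simp only [Set.mem_compl_iff, Set.mem_preimage]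
    constructor
    · intro h; exact hq.resolve_left h
    · intro h h'; exact (Set.disjoint_left.1 hdisj h') h
  have hclopen : IsClopen (c ⁻¹' U) := ⟨by rw [← isOpen_compl_iff, hcompl]; exact hV'open, hU'open⟩
  obtain ⟨e, he, hUe⟩ := exists_idempotent_basicOpen_eq_of_isClopen hclopen
  obtain ⟨a, ha, hae⟩ := exists_idempotent_of_away ϖ hreg hred S e he
  have hmem : ∀ q : PrimeSpectrum S, a ∈ (c q).asIdeal ↔ e ∈ q.asIdeal := by
    intro q
    rw [← hae]
    rfl
  have hUa : U ⊆ zeroLocus {1 - a} := by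
    intro p hp
    have : p ∈ Set.range c := by rw [hrange, ← hUV]; exact Or.inl hp
    obtain ⟨q, rfl⟩ := this
    have hq : q ∈ c ⁻¹' U := hp
    rw [hUe] at hq
    have hq' : e ∉ q.asIdeal := hq
    have ha' : a ∉ (c q).asIdeal := fun h => hq' ((hmem q).1 h)
    simp only [mem_zeroLocus, Set.singleton_subset_iff, SetLike.mem_coe]
    have h0 : a * (1 - a) ∈ (c q).asIdeal := by
      have : a * (1 - a) = 0 := by
        have : a * a = a := ha
        rw [mul_sub, mul_one, this, sub_self]
      rw [this]; exact Ideal.zero_mem _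
    exact ((c q).isPrime.mem_or_mem h0).resolve_left ha'
  have hVa : V ⊆ zeroLocus {a} := by
    intro p hp
    have : p ∈ Set.range c := by rw [hrange, ← hUV]; exact Or.inr hp
    obtain ⟨q, rfl⟩ := this
    have hq : q ∉ c ⁻¹' U := fun h => (Set.disjoint_left.1 hdisj h) hp
    rw [hUe] at hq
    have hq' : e ∈ q.asIdeal := by
      by_contra h
      exact hq h
    simp only [mem_zeroLocus, Set.singleton_subset_iff, SetLike.mem_coe]
    exact (hmem q).2 hq'
  have h1 : closure U ⊆ zeroLocus {1 - a} :=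
    closure_minimal hUa (isClosed_zeroLocus _)
  have h2 : closure V ⊆ zeroLocus {a} :=
    closure_minimal hVa (isClosed_zeroLocus _)
  rw [Set.eq_empty_iff_forall_notMem]
  rintro p ⟨hp1, hp2⟩
  have h3 := h1 hp1
  have h4 := h2 hp2
  simp only [mem_zeroLocus, Set.singleton_subset_iff, SetLike.mem_coe] at h3 h4
  have : (1 : A) ∈ p.asIdeal := by
    have := p.asIdeal.add_mem h3 h4
    simpa using this
  exact p.isPrime.ne_top ((Ideal.eq_top_iff_one _).2 this)

end Groth.Agent.Helper5.ConnDvr
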