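import Mathlib
import Groth.Agent.Helper5.RedFib
import Groth.Agent.Helper5.RedDvr2
import Groth.Agent.Helper5.ConnDvr2

set_option autoImplicit false
universe u
open CategoryTheory CategoryTheory.Limits AlgebraicGeometry TensorProduct

namespace Groth.Agent.Helper5.ConnDvr

open Groth.Agent.Helper5.RedFib Groth.Agent.Helper5.RedDvr

/-- generalisation of S2 to any flat preimmersion -/
theorem isReduced_pullback_comp {X Y T Z : Scheme.{u}} (f : X ⟶ Y) (j : Z ⟶ X) [Flat j]
    [IsPreimmersion j] (g : T ⟶ Y) [IsReduced (pullback f g)] :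
    IsReduced (pullback (j ≫ f) g) := by
  have : IsReduced (pullback j (pullback.fst f g)) :=
    isReduced_of_flat_preimmersion (pullback.snd j (pullback.fst f g))
  exact isReduced_of_isOpenImmersion (pullbackRightPullbackFstIso f g j).inv

/-- Lemma F' -/
theorem isReduced_tensor_residueField' {R : Type u} [CommRing R] {X : Scheme.{u}}
    (f : X ⟶ Spec (CommRingCat.of R)) {A : CommRingCat.{u}} (j : Spec A ⟶ X) [Flat j]
    [IsPreimmersion j] (s : Spec (CommRingCat.of R)) (hred : IsReduced (f.fiber s)) :
    letI : Algebra R A := (Spec.preimage (j ≫ f)).hom.toAlgebra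
    _root_.IsReduced (A ⊗[R] s.asIdeal.ResidueField) := by
  let : Algebra R A := (Spec.preimage (j ≫ f)).hom.toAlgebra
  have h0 : IsReduced (pullback f ((Spec (CommRingCat.of R)).fromSpecResidueField s)) := hred
  have h1 : IsReduced (pullback (j ≫ f)
      ((Spec (CommRingCat.of R)).fromSpecResidueField s)) := isReduced_pullback_comp f j _
  have e1 : Spec.map (CommRingCat.ofHom (algebraMap R A)) = j ≫ f := Spec.map_preimage _
  have e2 : Spec.map (Scheme.Spec.residueFieldIso (CommRingCat.of R) s).inv ≫
      Spec.map (CommRingCat.ofHom (algebraMap R s.asIdeal.ResidueField)) =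
      (Spec (CommRingCat.of R)).fromSpecResidueField s :=
    Scheme.Spec.map_residueFieldIso_inv_eq_fromSpecResidueField (CommRingCat.of R) s
  have h2 : IsReduced (pullback (Spec.map (CommRingCat.ofHom (algebraMap R A)))
      (Spec.map (CommRingCat.ofHom (algebraMap R s.asIdeal.ResidueField)))) := by
    let g : pullback (Spec.map (CommRingCat.ofHom (algebraMap R A)))
        (Spec.map (CommRingCat.ofHom (algebraMap R s.asIdeal.ResidueField))) ⟶
        pullback (j ≫ f) ((Spec (CommRingCat.of R)).fromSpecResidueField s) :=
      pullback.map _ _ _ _ (𝟙 _)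
        (Spec.map (Scheme.Spec.residueFieldIso (CommRingCat.of R) s).hom) (𝟙 _)
        (by rw [Category.comp_id, Category.id_comp, e1])
        (by rw [Category.comp_id, ← e2, ← Category.assoc, ← Spec.map_comp, Iso.inv_hom_id,
          Spec.map_id, Category.id_comp])
    have : IsIso g := by
      dsimp only [g]
      infer_instance
    exact isReduced_of_isOpenImmersion g
  have h3 : IsReduced (Spec (.of (A ⊗[R] s.asIdeal.ResidueField))) :=
    isReduced_of_isOpenImmersion (pullbackSpecIso R A s.asIdeal.ResidueField).inv
  exact (affine_isReduced_iff _).1 h3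

end Groth.Agent.Helper5.ConnDvr
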