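import Mathlib
import Groth.Agent.Helper5.RedFib
import Groth.Agent.Helper5.RedDvr
import Groth.Agent.Helper5.ConnDvr3

set_option autoImplicit false
universe u
open CategoryTheory CategoryTheory.Limits AlgebraicGeometry TensorProduct

namespace Groth.Agent.Helper5.ConnDvr

open Groth.Agent.Helper5.RedFib Groth.Agent.Helper5.RedDvr

theorem isReduced_quotient_map {R B : Type*} [CommRing R] [CommRing B] [Algebra R B]
    (m : Ideal R) [m.IsMaximal] (hred : _root_.IsReduced (B ⊗[R] m.ResidueField)) :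
    _root_.IsReduced (B ⧸ m.map (algebraMap R B)) := by
  constructor
  intro x hx
  obtain ⟨b, rfl⟩ := Ideal.Quotient.mk_surjective x
  obtain ⟨n, hn⟩ := hx
  rw [← map_pow, Ideal.Quotient.eq_zero_iff_mem] at hn
  -- work in the quotient directly
  let e : (R ⧸ m) ≃ₐ[R] m.ResidueField :=
    AlgEquiv.ofBijective (IsScalarTower.toAlgHom R (R ⧸ m) m.ResidueField)
      m.bijective_algebraMap_quotient_residueField
  let E : B ⊗[R] (R ⧸ m) ≃ₐ[R] B ⊗[R] m.ResidueField :=
    Algebra.TensorProduct.congr AlgEquiv.refl e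
  have h1 : _root_.IsReduced (B ⊗[R] (R ⧸ m)) :=
    isReduced_of_injective E.toAlgHom E.injective
  have h2 : _root_.IsReduced (B ⧸ m.map (algebraMap R B)) :=
    isReduced_of_injective (Algebra.TensorProduct.quotIdealMapEquivTensorQuot B m).toAlgHom
      (Algebra.TensorProduct.quotIdealMapEquivTensorQuot B m).injective
  apply h2.eq_zero
  exact ⟨n, by rw [← map_pow, Ideal.Quotient.eq_zero_iff_mem]; exact hn⟩

theorem local_claim {R : Type u} [CommRing R] [IsDomain R] [IsDiscreteValuationRing R]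
    {X : Scheme.{u}} (f : X ⟶ Spec (CommRingCat.of R)) [Flat f]
    (hred : IsReduced (f.fiber (IsLocalRing.closedPoint R)))
    {A : CommRingCat.{u}} (j : Spec A ⟶ X) [IsOpenImmersion j]
    (U V : Set (PrimeSpectrum A)) (hU : IsOpen U) (hV : IsOpen V) (hdisj : Disjoint U V)
    (hUV : U ∪ V = {p : PrimeSpectrum A |
      (j ≫ f) p = (⟨⊥, Ideal.isPrime_bot⟩ : PrimeSpectrum R)}) :
    closure U ∩ closure V = ∅ := by
  let ψ := Spec.preimage (j ≫ f)
  let alg : Algebra R A := ψ.hom.toAlgebra
  have hψ : Spec.map ψ = j ≫ f := Spec.map_preimage _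
  obtain ⟨π, hπ⟩ := IsDiscreteValuationRing.exists_irreducible R
  have hm : IsLocalRing.maximalIdeal R = Ideal.span {π} := hπ.maximalIdeal_eq
  have hT := isReduced_tensor_residueField' f j (IsLocalRing.closedPoint R) hred
  have hmax : (IsLocalRing.closedPoint R).asIdeal.IsMaximal :=
    inferInstanceAs (IsLocalRing.maximalIdeal R).IsMaximal
  have hQ := isReduced_quotient_map (IsLocalRing.closedPoint R).asIdeal hT
  set ϖ : A := algebraMap R A π with hϖdef
  have hmap : (IsLocalRing.closedPoint R).asIdeal.map (algebraMap R A) = Ideal.span {ϖ} := by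
    show (IsLocalRing.maximalIdeal R).map (algebraMap R A) = Ideal.span {ϖ}
    rw [hm, Ideal.map_span, Set.image_singleton]
  rw [hmap] at hQ
  have hflat : Module.Flat R A := by
    have h1 : Flat (Spec.map ψ) := by rw [hψ]; infer_instance
    exact (Flat.SpecMap_iff).1 h1
  have hreg : IsSMulRegular A ϖ := by
    have : IsSMulRegular R π := (IsRegular.of_ne_zero hπ.ne_zero).left.isSMulRegular
    exact this.of_flat
  have hred' : ∀ a : A, a ^ 2 ∈ Ideal.span {ϖ} → a ∈ Ideal.span {ϖ} := by
    intro a ha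
    rw [← Ideal.Quotient.eq_zero_iff_mem] at ha ⊢
    rw [map_pow] at ha
    exact hQ.eq_zero _ ⟨2, ha⟩
  apply disjoint_closure ϖ hreg hred' U V hU hV hdisj
  rw [hUV]
  ext p
  simp only [Set.mem_ofPred_eq, SetLike.mem_coe, PrimeSpectrum.mem_basicOpen]
  have hp : (j ≫ f) p = PrimeSpectrum.comap ψ.hom p := by rw [← hψ]; rfl
  rw [hp]
  constructor
  · intro h hϖp
    have : π ∈ (PrimeSpectrum.comap ψ.hom p).asIdeal := hϖp
    rw [h] at this
    exact hπ.ne_zero (by simpa using this)
  · intro h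
    apply PrimeSpectrum.ext
    show (PrimeSpectrum.comap ψ.hom p).asIdeal = ⊥
    by_contra hne
    have hmax' : (PrimeSpectrum.comap ψ.hom p).asIdeal.IsMaximal :=
      (PrimeSpectrum.comap ψ.hom p).isPrime.isMaximal hne
    have := IsLocalRing.eq_maximalIdeal hmax'
    apply h
    show π ∈ (PrimeSpectrum.comap ψ.hom p).asIdeal
    rw [this, hm]
    exact Ideal.mem_span_singleton_self π

end Groth.Agent.Helper5.ConnDvr
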