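import Mathlib
import Groth.Agent.Helper5.ConnDvr4

set_option autoImplicit false
universe u
open CategoryTheory CategoryTheory.Limits AlgebraicGeometry TensorProduct

namespace Groth.Agent.Helper5.ConnDvr

theorem main {R : Type u} [CommRing R] [IsDomain R] [IsDiscreteValuationRing R] {X : Scheme.{u}}
    (f : X ⟶ Spec (CommRingCat.of R)) [Flat f] [ConnectedSpace ↑X]
    (hred : IsReduced (f.fiber (IsLocalRing.closedPoint R))) :
    ConnectedSpace ↑(f.fiber (⟨⊥, Ideal.isPrime_bot⟩ : PrimeSpectrum R)) := by
  set η : Spec (CommRingCat.of R) := (⟨⊥, Ideal.isPrime_bot⟩ : PrimeSpectrum R) with hη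
  set T : Set X := f ⁻¹' {η} with hT
  -- `η` is an open point
  have hηopen : IsOpen ({η} : Set (Spec (CommRingCat.of R))) := by
    obtain ⟨π, hπ⟩ := IsDiscreteValuationRing.exists_irreducible R
    have hm : IsLocalRing.maximalIdeal R = Ideal.span {π} := hπ.maximalIdeal_eq
    have : ({η} : Set (PrimeSpectrum R)) = (PrimeSpectrum.basicOpen π : Set (PrimeSpectrum R)) := by
      ext p
      simp only [SetLike.mem_coe, PrimeSpectrum.mem_basicOpen]
      constructor
      · rintro rfl h
        exact hπ.ne_zero (by simpa [hη] using h)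
      · intro h
        apply PrimeSpectrum.ext
        show p.asIdeal = ⊥
        by_contra hne
        have hmax' : p.asIdeal.IsMaximal := p.isPrime.isMaximal hne
        have := IsLocalRing.eq_maximalIdeal hmax'
        apply h
        rw [this, hm]
        exact Ideal.mem_span_singleton_self π
    show IsOpen ({η} : Set (PrimeSpectrum R))
    rw [this]
    exact (PrimeSpectrum.basicOpen π).isOpen
  have hTopen : IsOpen T := hηopen.preimage f.continuous
  -- every point has a generization in `T`
  have hgen : ∀ x : X, ∃ x' : X, x' ⤳ x ∧ x' ∈ T := by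
    intro x
    have h1 : η ⤳ f x := by
      have : (⟨⊥, Ideal.isPrime_bot⟩ : PrimeSpectrum R) ≤ (f x : PrimeSpectrum R) := by
        show (⊥ : Ideal R) ≤ (f x : PrimeSpectrum R).asIdeal
        exact bot_le
      exact (PrimeSpectrum.le_iff_specializes (R := R) ⟨⊥, Ideal.isPrime_bot⟩ (f x)).1 this
    obtain ⟨x', hx', hfx'⟩ := Flat.generalizingMap f h1
    exact ⟨x', hx', hfx'⟩
  have hTdense : Dense T := by
    intro x
    obtain ⟨x', hx', hx'T⟩ := hgen x
    exact closure_mono (Set.singleton_subset_iff.2 hx'T) (specializes_iff_mem_closure.1 hx')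
  have hTne : T.Nonempty := by
    obtain ⟨x⟩ : Nonempty X := inferInstance
    obtain ⟨x', -, hx'T⟩ := hgen x
    exact ⟨x', hx'T⟩
  -- preconnectedness
  have hTpre : _root_.IsPreconnected T := by
    intro Y Z hY hZ hTYZ hTY hTZ
    by_contra hempty
    rw [Set.not_nonempty_iff_eq_empty] at hempty
    set Y₁ := T ∩ Y with hY₁
    set Z₁ := T ∩ Z with hZ₁
    have hY₁open : IsOpen Y₁ := hTopen.inter hY
    have hZ₁open : IsOpen Z₁ := hTopen.inter hZ
    have hdisj : Disjoint Y₁ Z₁ := by
      rw [Set.disjoint_iff_inter_eq_empty]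
      rw [← hempty]
      ext z
      simp only [hY₁, hZ₁, Set.mem_inter_iff]
      tauto
    have hunion : Y₁ ∪ Z₁ = T := by
      rw [hY₁, hZ₁, ← Set.inter_union_distrib_left]
      exact Set.inter_eq_left.2 hTYZ
    have hclaim : closure Y₁ ∩ closure Z₁ = ∅ := by
      rw [Set.eq_empty_iff_forall_notMem]
      rintro x ⟨hxY, hxZ⟩
      have hW := isAffineOpen_opensRange (X.affineCover.f (X.affineCover.idx x))
      have hxW : x ∈ (X.affineCover.f (X.affineCover.idx x)).opensRange := X.affineCover.covers x
      set W := (X.affineCover.f (X.affineCover.idx x)).opensRange with hWdef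
      let j := hW.fromSpec
      have hjrange : Set.range j = (W : Set X) := hW.range_fromSpec
      obtain ⟨x', hx'⟩ : x ∈ Set.range j := by rw [hjrange]; exact hxW
      have hjopen : IsOpenMap j := j.isOpenEmbedding.isOpenMap
      have hjcont : Continuous j := j.continuous
      have h1 : x' ∈ closure (j ⁻¹' Y₁) := by
        rw [← hjopen.preimage_closure_eq_closure_preimage hjcont]
        show j x' ∈ closure Y₁
        rw [hx']; exact hxY
      have h2 : x' ∈ closure (j ⁻¹' Z₁) := by
        rw [← hjopen.preimage_closure_eq_closure_preimage hjcont]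
        show j x' ∈ closure Z₁
        rw [hx']; exact hxZ
      have h3 := local_claim f hred j (j ⁻¹' Y₁) (j ⁻¹' Z₁) (hY₁open.preimage hjcont)
        (hZ₁open.preimage hjcont) (hdisj.preimage j) (by
          rw [← Set.preimage_union, hunion]
          ext p
          simp only [Set.mem_preimage, Set.mem_ofPred_eq, hT, Set.mem_singleton_iff]
          rfl)
      exact (Set.eq_empty_iff_forall_notMem.1 h3 x') ⟨h1, h2⟩
    -- contradiction with connectedness of `X`
    have hcover : (Set.univ : Set X) ⊆ closure Y₁ ∪ closure Z₁ := by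
      intro x _
      have : x ∈ closure T := hTdense x
      rw [← hunion, closure_union] at this
      exact this
    have hpre : _root_.IsPreconnected (Set.univ : Set X) := isPreconnected_univ
    rw [isPreconnected_closed_iff] at hpre
    have := hpre (closure Y₁) (closure Z₁) isClosed_closure isClosed_closure hcover
      (by
        obtain ⟨y, hy⟩ := hTY
        exact ⟨y, trivial, subset_closure hy⟩)
      (by
        obtain ⟨z, hz⟩ := hTZ
        exact ⟨z, trivial, subset_closure hz⟩)
    rw [Set.univ_inter, hclaim] at this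
    exact Set.not_nonempty_empty this
  have hTconn : _root_.IsConnected T := ⟨hTne, hTpre⟩
  have : ConnectedSpace T := isConnected_iff_connectedSpace.1 hTconn
  exact (f.fiberHomeo η).symm.surjective.connectedSpace (f.fiberHomeo η).symm.continuous

end Groth.Agent.Helper5.ConnDvr
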