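import Mathlib
import Groth.Agent.Helper5.ConnDvr2

set_option autoImplicit false
universe u
open TensorProduct PrimeSpectrum

namespace Groth.Agent.Helper5.ConnDvr

theorem mem_span_of_pow_mem {A : Type*} [CommRing A] (ϖ : A)
    (hred : ∀ a : A, a ^ 2 ∈ Ideal.span {ϖ} → a ∈ Ideal.span {ϖ}) (a : A) (k : ℕ)
    (h : a ^ k ∈ Ideal.span {ϖ}) : a ∈ Ideal.span {ϖ} := by
  have key : ∀ m : ℕ, a ^ (2 ^ m) ∈ Ideal.span {ϖ} → a ∈ Ideal.span {ϖ} := by
    intro m
    induction m with
    | zero => intro h; simpa using h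
    | succ m ih =>
      intro h
      apply ih
      apply hred
      rw [← pow_mul, ← pow_succ]
      exact h
  apply key k
  have hk : k ≤ 2 ^ k := Nat.lt_two_pow_self.le
  obtain ⟨d, hd⟩ := Nat.exists_eq_add_of_le hk
  rw [hd, pow_add]
  exact Ideal.mul_mem_right _ _ h

theorem disjoint_closure' {A : Type*} [CommRing A] (ϖ : A)
    (hred : ∀ a : A, a ^ 2 ∈ Ideal.span {ϖ} → a ∈ Ideal.span {ϖ})
    (hdense : Dense (basicOpen ϖ : Set (PrimeSpectrum A)))
    (U V : Set (PrimeSpectrum A)) (hU : IsOpen U) (hV : IsOpen V) (hdisj : Disjoint U V)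
    (hUV : U ∪ V = (basicOpen ϖ : Set (PrimeSpectrum A))) :
    closure U ∩ closure V = ∅ := by
  let I : Ideal A := RingHom.ker (algebraMap A (Localization.Away ϖ))
  have hI : ∀ t : A, t ∈ I ↔ ∃ n : ℕ, ϖ ^ n * t = 0 := by
    intro t
    rw [RingHom.mem_ker, IsLocalization.map_eq_zero_iff (Submonoid.powers ϖ)]
    constructor
    · rintro ⟨⟨_, n, rfl⟩, h⟩
      exact ⟨n, h⟩
    · rintro ⟨n, h⟩
      exact ⟨⟨_, n, rfl⟩, h⟩
  have hInil : I ≤ nilradical A := by
    intro t ht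
    obtain ⟨n, hn⟩ := (hI t).1 ht
    have h1 : (basicOpen ϖ : Set (PrimeSpectrum A)) ⊆ zeroLocus {t} := by
      intro p hp
      have hp' : ϖ ∉ p.asIdeal := hp
      simp only [mem_zeroLocus, Set.singleton_subset_iff, SetLike.mem_coe]
      have : ϖ ^ n * t ∈ p.asIdeal := by rw [hn]; exact Ideal.zero_mem _
      rcases p.isPrime.mem_or_mem this with h | h
      · exact absurd (p.isPrime.mem_of_pow_mem _ h) hp'
      · exact h
    have h2 : zeroLocus ({t} : Set A) = Set.univ := by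
      rw [← Set.univ_subset_iff, ← hdense.closure_eq]
      exact closure_minimal h1 (isClosed_zeroLocus _)
    rw [zeroLocus_eq_univ_iff] at h2
    exact h2 (Set.mem_singleton t)
  let q : A →+* A ⧸ I := Ideal.Quotient.mk I
  have hq : Function.Surjective q := Ideal.Quotient.mk_surjective
  have hhomeo : IsHomeomorph (comap q) := by
    apply PrimeSpectrum.isHomeomorph_comap q
    · intro x
      obtain ⟨y, rfl⟩ := hq x
      exact ⟨1, one_pos, y, by simp⟩
    · rw [Ideal.mk_ker]; exact hInil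
  have hreg' : IsSMulRegular (A ⧸ I) (q ϖ) := by
    intro x y hxy
    obtain ⟨x, rfl⟩ := hq x
    obtain ⟨y, rfl⟩ := hq y
    simp only [smul_eq_mul, ← map_mul] at hxy
    rw [← sub_eq_zero, ← map_sub, ← mul_sub] at hxy
    have h1 : ϖ * (x - y) ∈ I := Ideal.Quotient.eq_zero_iff_mem.1 hxy
    obtain ⟨n, hn⟩ := (hI _).1 h1
    have h2 : x - y ∈ I := (hI _).2 ⟨n + 1, by rw [pow_succ, mul_assoc]; exact hn⟩
    rw [← sub_eq_zero, ← map_sub]
    exact Ideal.Quotient.eq_zero_iff_mem.2 h2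
  have hred' : ∀ a : A ⧸ I, a ^ 2 ∈ Ideal.span {q ϖ} → a ∈ Ideal.span {q ϖ} := by
    intro a ha
    obtain ⟨a, rfl⟩ := hq a
    obtain ⟨c, hc⟩ := Ideal.mem_span_singleton'.1 ha
    obtain ⟨c, rfl⟩ := hq c
    rw [← map_pow, ← map_mul, ← sub_eq_zero, ← map_sub] at hc
    have h1 : c * ϖ - a ^ 2 ∈ I := Ideal.Quotient.eq_zero_iff_mem.1 hc
    obtain ⟨N, hN⟩ := hInil h1
    -- `(a^2)^N ∈ (ϖ)`
    have h2 : (a ^ 2) ^ N ∈ Ideal.span {ϖ} := by
      have hcomm : Commute (c * ϖ) (-(c * ϖ - a ^ 2)) := Commute.all _ _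
      have : a ^ 2 = c * ϖ + -(c * ϖ - a ^ 2) := by ring
      rw [this]
      have hnil : (-(c * ϖ - a ^ 2)) ^ N = 0 := by rw [neg_pow, hN, mul_zero]
      rw [add_pow]
      apply Ideal.sum_mem
      intro i hi
      by_cases hiN : i = 0
      · subst hiN
        simp only [pow_zero, one_mul, Nat.sub_zero, Nat.choose_zero_right, Nat.cast_one, mul_one]
        rw [hnil]; exact Ideal.zero_mem _
      · obtain ⟨i', rfl⟩ := Nat.exists_eq_succ_of_ne_zero hiN
        rw [pow_succ, mul_pow] 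
        apply Ideal.mul_mem_right
        apply Ideal.mul_mem_right
        apply Ideal.mul_mem_left
        exact Ideal.mul_mem_left _ _ (Ideal.mem_span_singleton_self ϖ)
    rw [← pow_mul] at h2
    have h3 := mem_span_of_pow_mem ϖ hred a _ h2
    obtain ⟨d, hd⟩ := Ideal.mem_span_singleton'.1 h3
    rw [← hd, map_mul]
    exact Ideal.mul_mem_left _ _ (Ideal.mem_span_singleton_self _)
  have hcont : Continuous (comap q) := continuous_comap q
  have h0 := disjoint_closure (q ϖ) hreg' hred' ((comap q) ⁻¹' U) ((comap q) ⁻¹' V)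
    (hU.preimage hcont) (hV.preimage hcont) (hdisj.preimage _) (by
      rw [← Set.preimage_union, hUV]
      ext p
      simp only [Set.mem_preimage, SetLike.mem_coe, mem_basicOpen]
      rfl)
  rw [Set.eq_empty_iff_forall_notMem]
  rintro p ⟨hp1, hp2⟩
  obtain ⟨p', rfl⟩ := hhomeo.surjective p
  have h1 : p' ∈ closure ((comap q) ⁻¹' U) := by
    rw [← hhomeo.isOpenMap.preimage_closure_eq_closure_preimage hcont]
    exact hp1
  have h2 : p' ∈ closure ((comap q) ⁻¹' V) := by
    rw [← hhomeo.isOpenMap.preimage_closure_eq_closure_preimage hcont]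
    exact hp2
  exact (Set.eq_empty_iff_forall_notMem.1 h0 p') ⟨h1, h2⟩

end Groth.Agent.Helper5.ConnDvr
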