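import Mathlib
import Groth.Agent.Helper5.ConnDvr4
import Groth.Agent.Helper5.ConnDvr6

set_option autoImplicit false
universe u
open CategoryTheory CategoryTheory.Limits AlgebraicGeometry TensorProduct

namespace Groth.Agent.Helper5.ConnDvr

theorem local_claim' {R : Type u} [CommRing R] [IsDomain R] [IsDiscreteValuationRing R]
    {X : Scheme.{u}} (f : X ⟶ Spec (CommRingCat.of R))
    (hred : IsReduced (f.fiber (IsLocalRing.closedPoint R)))
    {A : CommRingCat.{u}} (j : Spec A ⟶ X) [IsOpenImmersion j]
    (hdense : Dense {p : PrimeSpectrum A |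
      (j ≫ f) p = (⟨⊥, Ideal.isPrime_bot⟩ : PrimeSpectrum R)})
    (U V : Set (PrimeSpectrum A)) (hU : IsOpen U) (hV : IsOpen V) (hdisj : Disjoint U V)
    (hUV : U ∪ V = {p : PrimeSpectrum A |
      (j ≫ f) p = (⟨⊥, Ideal.isPrime_bot⟩ : PrimeSpectrum R)}) :
    closure U ∩ closure V = ∅ := by
  let ψ := Spec.preimage (j ≫ f)
  let alg : Algebra R A := ψ.hom.toAlgebra
  have hψ : Spec.map ψ = j ≫ f := Spec.map_preimage _
  obtain ⟨π, hπ⟩ := IsDiscreteValuationRing.exists_irreducible R
  have hm : IsLocalRing.maximalIdeal R = Ideal.span {π} := hπ.maximalIdeal_eq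
  have hT := isReduced_tensor_residueField' f j (IsLocalRing.closedPoint R) hred
  have hmax : (IsLocalRing.closedPoint R).asIdeal.IsMaximal :=
    inferInstanceAs (IsLocalRing.maximalIdeal R).IsMaximal
  have hQ := isReduced_quotient_map (IsLocalRing.closedPoint R).asIdeal hT
  set ϖ : A := algebraMap R A π with hϖdef
  have hmap : (IsLocalRing.closedPoint R).asIdeal.map (algebraMap R A) = Ideal.span {ϖ} := by
    show (IsLocalRing.maximalIdeal R).map (algebraMap R A) = Ideal.span {ϖ}
    rw [hm, Ideal.map_span, Set.image_singleton]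
  rw [hmap] at hQ
  have hred' : ∀ a : A, a ^ 2 ∈ Ideal.span {ϖ} → a ∈ Ideal.span {ϖ} := by
    intro a ha
    rw [← Ideal.Quotient.eq_zero_iff_mem] at ha ⊢
    rw [map_pow] at ha
    exact hQ.eq_zero _ ⟨2, ha⟩
  have hset : {p : PrimeSpectrum A |
      (j ≫ f) p = (⟨⊥, Ideal.isPrime_bot⟩ : PrimeSpectrum R)} =
      (PrimeSpectrum.basicOpen ϖ : Set (PrimeSpectrum A)) := by
    ext p
    simp only [Set.mem_ofPred_eq, SetLike.mem_coe, PrimeSpectrum.mem_basicOpen]
    have hp : (j ≫ f) p = PrimeSpectrum.comap ψ.hom p := by rw [← hψ]; rfl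
    rw [hp]
    constructor
    · intro h hϖp
      have : π ∈ (PrimeSpectrum.comap ψ.hom p).asIdeal := hϖp
      rw [h] at this
      exact hπ.ne_zero (by simpa using this)
    · intro h
      apply PrimeSpectrum.ext
      show (PrimeSpectrum.comap ψ.hom p).asIdeal = ⊥
      by_contra hne
      have hmax' : (PrimeSpectrum.comap ψ.hom p).asIdeal.IsMaximal :=
        (PrimeSpectrum.comap ψ.hom p).isPrime.isMaximal hne
      have := IsLocalRing.eq_maximalIdeal hmax'
      apply h
      show π ∈ (PrimeSpectrum.comap ψ.hom p).asIdeal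
      rw [this, hm]
      exact Ideal.mem_span_singleton_self π
  rw [hset] at hdense hUV
  exact disjoint_closure' ϖ hred' hdense U V hU hV hdisj hUV

theorem main' {R : Type u} [CommRing R] [IsDomain R] [IsDiscreteValuationRing R] {X : Scheme.{u}}
    (f : X ⟶ Spec (CommRingCat.of R)) (hopen : IsOpenMap f) [PreconnectedSpace ↑X]
    (hred : IsReduced (f.fiber (IsLocalRing.closedPoint R))) :
    PreconnectedSpace ↑(f.fiber (⟨⊥, Ideal.isPrime_bot⟩ : PrimeSpectrum R)) := by
  set η : Spec (CommRingCat.of R) := (⟨⊥, Ideal.isPrime_bot⟩ : PrimeSpectrum R) with hη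
  set T : Set X := f ⁻¹' {η} with hT
  have hηopen : IsOpen ({η} : Set (Spec (CommRingCat.of R))) := by
    obtain ⟨π, hπ⟩ := IsDiscreteValuationRing.exists_irreducible R
    have hm : IsLocalRing.maximalIdeal R = Ideal.span {π} := hπ.maximalIdeal_eq
    have : ({η} : Set (PrimeSpectrum R)) = (PrimeSpectrum.basicOpen π : Set (PrimeSpectrum R)) := by
      ext p
      simp only [SetLike.mem_coe, PrimeSpectrum.mem_basicOpen]
      constructor
      · rintro rfl h
        exact hπ.ne_zero (by simpa [hη] using h)
      · intro h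
        apply PrimeSpectrum.ext
        show p.asIdeal = ⊥
        by_contra hne
        have hmax' : p.asIdeal.IsMaximal := p.isPrime.isMaximal hne
        have := IsLocalRing.eq_maximalIdeal hmax'
        apply h
        rw [this, hm]
        exact Ideal.mem_span_singleton_self π
    show IsOpen ({η} : Set (PrimeSpectrum R))
    rw [this]
    exact (PrimeSpectrum.basicOpen π).isOpen
  have hTopen : IsOpen T := hηopen.preimage f.continuous
  -- `T` is dense since `f` is open and `η` lies in every nonempty open
  have hηmem : ∀ O : Set (Spec (CommRingCat.of R)), IsOpen O → O.Nonempty → η ∈ O := by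
    intro O hO ⟨z, hz⟩
    have h1 : η ⤳ z := by
      have : (⟨⊥, Ideal.isPrime_bot⟩ : PrimeSpectrum R) ≤ (z : PrimeSpectrum R) := by
        show (⊥ : Ideal R) ≤ (z : PrimeSpectrum R).asIdeal
        exact bot_le
      exact (PrimeSpectrum.le_iff_specializes (R := R) ⟨⊥, Ideal.isPrime_bot⟩ z).1 this
    exact h1.mem_open hO hz
  have hTdense : Dense T := by
    rw [dense_iff_inter_open]
    intro N hN hNne
    have h1 := hηmem (f '' N) (hopen N hN) (hNne.image f)
    obtain ⟨x, hxN, hx⟩ := h1
    exact ⟨x, hxN, hx⟩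
  have hTpre : _root_.IsPreconnected T := by
    intro Y Z hY hZ hTYZ hTY hTZ
    by_contra hempty
    rw [Set.not_nonempty_iff_eq_empty] at hempty
    set Y₁ := T ∩ Y with hY₁
    set Z₁ := T ∩ Z with hZ₁
    have hY₁open : IsOpen Y₁ := hTopen.inter hY
    have hZ₁open : IsOpen Z₁ := hTopen.inter hZ
    have hdisj : Disjoint Y₁ Z₁ := by
      rw [Set.disjoint_iff_inter_eq_empty]
      rw [← hempty]
      ext z
      simp only [hY₁, hZ₁, Set.mem_inter_iff]
      tauto
    have hunion : Y₁ ∪ Z₁ = T := by
      rw [hY₁, hZ₁, ← Set.inter_union_distrib_left]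
      exact Set.inter_eq_left.2 hTYZ
    have hclaim : closure Y₁ ∩ closure Z₁ = ∅ := by
      rw [Set.eq_empty_iff_forall_notMem]
      rintro x ⟨hxY, hxZ⟩
      have hW := isAffineOpen_opensRange (X.affineCover.f (X.affineCover.idx x))
      have hxW : x ∈ (X.affineCover.f (X.affineCover.idx x)).opensRange := X.affineCover.covers x
      set W := (X.affineCover.f (X.affineCover.idx x)).opensRange with hWdef
      let j := hW.fromSpec
      have hjrange : Set.range j = (W : Set X) := hW.range_fromSpec
      obtain ⟨x', hx'⟩ : x ∈ Set.range j := by rw [hjrange]; exact hxW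
      have hjopen : IsOpenMap j := j.isOpenEmbedding.isOpenMap
      have hjcont : Continuous j := j.continuous
      have h1 : x' ∈ closure (j ⁻¹' Y₁) := by
        rw [← hjopen.preimage_closure_eq_closure_preimage hjcont]
        show j x' ∈ closure Y₁
        rw [hx']; exact hxY
      have h2 : x' ∈ closure (j ⁻¹' Z₁) := by
        rw [← hjopen.preimage_closure_eq_closure_preimage hjcont]
        show j x' ∈ closure Z₁
        rw [hx']; exact hxZ
      have hd : Dense (j ⁻¹' T) := hTdense.preimage hjopen
      have h3 := local_claim' f hred j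
        (show Dense {p : PrimeSpectrum Γ(X, W) | (j ≫ f) p = η} from hd)
        (j ⁻¹' Y₁) (j ⁻¹' Z₁) (hY₁open.preimage hjcont)
        (hZ₁open.preimage hjcont) (hdisj.preimage j) (by
          rw [← Set.preimage_union, hunion]
          ext p
          simp only [Set.mem_preimage, hT, Set.mem_singleton_iff]
          rfl)
      exact (Set.eq_empty_iff_forall_notMem.1 h3 x') ⟨h1, h2⟩
    have hcover : (Set.univ : Set X) ⊆ closure Y₁ ∪ closure Z₁ := by
      intro x _
      have : x ∈ closure T := hTdense x
      rw [← hunion, closure_union] at this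
      exact this
    have hpre : _root_.IsPreconnected (Set.univ : Set X) := isPreconnected_univ
    rw [isPreconnected_closed_iff] at hpre
    have := hpre (closure Y₁) (closure Z₁) isClosed_closure isClosed_closure hcover
      (by
        obtain ⟨y, hy⟩ := hTY
        exact ⟨y, trivial, subset_closure hy⟩)
      (by
        obtain ⟨z, hz⟩ := hTZ
        exact ⟨z, trivial, subset_closure hz⟩)
    rw [Set.univ_inter, hclaim] at this
    exact Set.not_nonempty_empty this
  have : PreconnectedSpace T := isPreconnected_iff_preconnectedSpace.1 hTpre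
  exact (f.fiberHomeo η).symm.surjective.denseRange.preconnectedSpace
    (f.fiberHomeo η).symm.continuous

end Groth.Agent.Helper5.ConnDvr
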