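import Mathlib
import Groth.Agent.Helper5.ConsPr5

set_option autoImplicit false
universe u

namespace Groth.Agent.Helper5.ConsPr

open CategoryTheory CategoryTheory.Limits AlgebraicGeometry TopologicalSpace Topology

/-- a point of `X ×_Y X` lies on the diagonal iff the two projections agree on its residue
field point -/
theorem mem_range_diagonal_iff {X Y : Scheme.{u}} (f : X ⟶ Y) (w : ↥(pullback f f)) :
    w ∈ Set.range (pullback.diagonal f) ↔
      (pullback f f).fromSpecResidueField w ≫ pullback.fst f f =
        (pullback f f).fromSpecResidueField w ≫ pullback.snd f f := by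
  constructor
  · rintro ⟨x, rfl⟩
    let Δ := pullback.diagonal f
    let r := Spec.map (Δ.residueFieldMap x)
    have hr : r ≫ (pullback f f).fromSpecResidueField (Δ x) = X.fromSpecResidueField x ≫ Δ :=
      Scheme.Hom.SpecMap_residueFieldMap_fromSpecResidueField Δ x
    haveI : Nonempty ↥(Spec (X.residueField x)) :=
      inferInstanceAs (Nonempty (PrimeSpectrum (X.residueField x)))
    haveI : Surjective r := surjective_of_subsingleton r
    haveI : Epi r := Flat.epi_of_flat_of_surjective r
    rw [← cancel_epi r, ← Category.assoc, ← Category.assoc, hr, Category.assoc, Category.assoc,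
      pullback.diagonal_fst, pullback.diagonal_snd]
  · intro h
    let φ := (pullback f f).fromSpecResidueField w
    let a := φ ≫ pullback.fst f f
    have hφ : φ = a ≫ pullback.diagonal f := by
      apply pullback.hom_ext
      · simp [a]
      · simp only [Category.assoc, pullback.diagonal_snd, Category.comp_id, a]
        exact h.symm
    haveI : Nonempty ↥(Spec ((pullback f f).residueField w)) :=
      inferInstanceAs (Nonempty (PrimeSpectrum ((pullback f f).residueField w)))
    let pt : ↥(Spec ((pullback f f).residueField w)) := Nonempty.some inferInstance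
    refine ⟨a pt, ?_⟩
    rw [← Scheme.Hom.comp_apply, ← hφ]
    exact Scheme.fromSpecResidueField_apply w pt

end Groth.Agent.Helper5.ConsPr

namespace Groth.Agent.Helper5.ConsPr

open CategoryTheory CategoryTheory.Limits AlgebraicGeometry TopologicalSpace Topology

/-- the diagonal of a base change, pointwise -/
theorem mem_range_diagonal_of_isPullback {X' X Y' Y : Scheme.{u}} {e : X' ⟶ X} {f' : X' ⟶ Y'}
    {f : X ⟶ Y} {g : Y' ⟶ Y} (sq : IsPullback e f' f g) (w' : ↥(pullback f' f')) :
    w' ∈ Set.range (pullback.diagonal f') ↔
      pullback.map f' f' f f e e g sq.w.symm sq.w.symm w' ∈ Set.range (pullback.diagonal f) := by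
  let m := pullback.map f' f' f f e e g sq.w.symm sq.w.symm
  have hm1 : m ≫ pullback.fst f f = pullback.fst f' f' ≫ e := pullback.lift_fst _ _ _
  have hm2 : m ≫ pullback.snd f f = pullback.snd f' f' ≫ e := pullback.lift_snd _ _ _
  constructor
  · rintro ⟨x', rfl⟩
    refine ⟨e x', ?_⟩
    have : pullback.diagonal f' ≫ m = e ≫ pullback.diagonal f := by
      apply pullback.hom_ext
      · rw [Category.assoc, hm1, ← Category.assoc, pullback.diagonal_fst, Category.assoc,
          pullback.diagonal_fst]
        simp
      · rw [Category.assoc, hm2, ← Category.assoc, pullback.diagonal_snd, Category.assoc,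
          pullback.diagonal_snd]
        simp
    rw [← Scheme.Hom.comp_apply, ← this]
    rfl
  · intro hw
    rw [mem_range_diagonal_iff] at hw ⊢
    let φ' := (pullback f' f').fromSpecResidueField w'
    have hnat : Spec.map (m.residueFieldMap w') ≫ (pullback f f).fromSpecResidueField (m w') =
        φ' ≫ m := Scheme.Hom.SpecMap_residueFieldMap_fromSpecResidueField m w'
    apply sq.hom_ext
    · calc (φ' ≫ pullback.fst f' f') ≫ e = (φ' ≫ m) ≫ pullback.fst f f := by
            rw [Category.assoc, Category.assoc, hm1]
        _ = (φ' ≫ m) ≫ pullback.snd f f := by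
            rw [← hnat, Category.assoc, Category.assoc, hw]
        _ = (φ' ≫ pullback.snd f' f') ≫ e := by
            rw [Category.assoc, Category.assoc, hm2]
    · rw [Category.assoc, Category.assoc, pullback.condition]

end Groth.Agent.Helper5.ConsPr

namespace Groth.Agent.Helper5.ConsPr

open CategoryTheory CategoryTheory.Limits AlgebraicGeometry TopologicalSpace Topology

/-- the range of the map of self-products induced by a base change -/
theorem range_map_of_isPullback {X' X Y' Y : Scheme.{u}} {e : X' ⟶ X} {f' : X' ⟶ Y'}
    {f : X ⟶ Y} {g : Y' ⟶ Y} (sq : IsPullback e f' f g) :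
    Set.range (pullback.map f' f' f f e e g sq.w.symm sq.w.symm) =
      (pullback.fst f f ≫ f) ⁻¹' Set.range g := by
  let m := pullback.map f' f' f f e e g sq.w.symm sq.w.symm
  have hm1 : m ≫ pullback.fst f f = pullback.fst f' f' ≫ e := pullback.lift_fst _ _ _
  have hm2 : m ≫ pullback.snd f f = pullback.snd f' f' ≫ e := pullback.lift_snd _ _ _
  apply Set.Subset.antisymm
  · rintro _ ⟨w', rfl⟩
    refine ⟨(pullback.fst f' f' ≫ f') w', ?_⟩
    show (((pullback.fst f' f' ≫ f') ≫ g) w') = ((m ≫ pullback.fst f f ≫ f) w')
    rw [← Category.assoc m, hm1, Category.assoc, Category.assoc, sq.w]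
  · rintro w ⟨y', hy'⟩
    let p := pullback.fst f f ≫ f
    obtain ⟨t, ht1, ht2⟩ := Scheme.Pullback.exists_preimage_pullback (f := p) (g := g) w y' hy'.symm
    let q1 := pullback.fst p g
    let q2 := pullback.snd p g
    have hc : q1 ≫ p = q2 ≫ g := pullback.condition
    have h1 : (q1 ≫ pullback.fst f f) ≫ f = q2 ≫ g := by rw [Category.assoc]; exact hc
    have h2 : (q1 ≫ pullback.snd f f) ≫ f = q2 ≫ g := by
      rw [Category.assoc, ← pullback.condition]; exact hc
    let a1 : pullback p g ⟶ X' := sq.lift (q1 ≫ pullback.fst f f) q2 h1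
    let a2 : pullback p g ⟶ X' := sq.lift (q1 ≫ pullback.snd f f) q2 h2
    have ha : a1 ≫ f' = a2 ≫ f' := by rw [sq.lift_snd, sq.lift_snd]
    let Φ : pullback p g ⟶ pullback f' f' := pullback.lift a1 a2 ha
    have hΦ : Φ ≫ m = q1 := by
      apply pullback.hom_ext
      · rw [Category.assoc, hm1, ← Category.assoc, pullback.lift_fst, sq.lift_fst]
      · rw [Category.assoc, hm2, ← Category.assoc, pullback.lift_snd, sq.lift_fst]
    refine ⟨Φ t, ?_⟩
    rw [← Scheme.Hom.comp_apply, hΦ]
    exact ht1

/-- universal injectivity of a base change in terms of the diagonal of the original morphism -/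
theorem universallyInjective_of_isPullback_iff {X' X Y' Y : Scheme.{u}} {e : X' ⟶ X}
    {f' : X' ⟶ Y'} {f : X ⟶ Y} {g : Y' ⟶ Y} (sq : IsPullback e f' f g) :
    UniversallyInjective f' ↔
      (pullback.fst f f ≫ f) ⁻¹' Set.range g ⊆ Set.range (pullback.diagonal f) := by
  rw [UniversallyInjective.iff_diagonal, ← range_map_of_isPullback sq]
  constructor
  · rintro h _ ⟨w', rfl⟩
    exact (mem_range_diagonal_of_isPullback sq w').1 (h.surj w')
  · intro h
    exact ⟨fun w' => (mem_range_diagonal_of_isPullback sq w').2 (h ⟨w', rfl⟩)⟩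

end Groth.Agent.Helper5.ConsPr
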