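import Mathlib
import Groth.Agent.Helper5.ConsPr7
import Groth.Agent.Helper5.KLem11
import Groth.Agent.Helper5.ConsPr6

set_option autoImplicit false
universe u

namespace Groth.Agent.Helper5.ConsPr

open CategoryTheory CategoryTheory.Limits AlgebraicGeometry TopologicalSpace Topology

theorem fieldStable_universallyInjective :
    ConsProp.IsFieldStable (fun _ _ g => AlgebraicGeometry.UniversallyInjective g) := by
  intro Y Y' T T' g g' e h _ _ _ _ _ _ sq
  constructor
  · intro hg
    exact MorphismProperty.of_isPullback (P := @UniversallyInjective) sq hg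
  · intro hg'
    have : Nonempty T' := inferInstance
    have hh : Surjective h := surjective_of_subsingleton h
    have hfin : Finite T' := Finite.of_subsingleton
    have hqc : QuasiCompact h := ⟨fun U _ _ => (Set.toFinite _).isCompact⟩
    have hfl : Flat h := inferInstance
    exact MorphismProperty.of_isPullback_of_descendsAlong (P := @UniversallyInjective)
      (Q := @Surjective ⊓ @Flat ⊓ @QuasiCompact) sq.flip ⟨⟨hh, hfl⟩, hqc⟩ hg'

theorem s5887 :
    ConsProp.IsCons (fun _ _ g => AlgebraicGeometry.UniversallyInjective g) := by
  refine ⟨fieldStable_universallyInjective, ?_⟩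
  intro X S u _ _ _ _
  let Δ := pullback.diagonal u
  let p : pullback u u ⟶ S := pullback.fst u u ≫ u
  have hmem : ∀ s, s ∈ ConsProp.locus (fun _ _ g => AlgebraicGeometry.UniversallyInjective g) u ↔
      p ⁻¹' {s} ⊆ Set.range Δ := by
    intro s
    have sq : IsPullback (u.fiberι s) (u.fiberToSpecResidueField s) u
        (S.fromSpecResidueField s) := IsPullback.of_hasPullback _ _
    have := universallyInjective_of_isPullback_iff sq
    rw [Scheme.range_fromSpecResidueField] at this
    exact this
  -- Noetherian-ness
  have hXN1 : IsLocallyNoetherian X := LocallyOfFiniteType.isLocallyNoetherian u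
  have hXN2 : CompactSpace X := QuasiCompact.compactSpace_of_compactSpace u
  have hXN : IsNoetherian X := {}
  have hWN1 : IsLocallyNoetherian (pullback u u) :=
    LocallyOfFiniteType.isLocallyNoetherian (pullback.fst u u)
  have hWN2 : CompactSpace ↥(pullback u u) :=
    QuasiCompact.compactSpace_of_compactSpace (pullback.fst u u)
  have hWN : IsNoetherian (pullback u u) := {}
  have hΔlft : LocallyOfFiniteType Δ := by
    have : LocallyOfFiniteType (Δ ≫ pullback.fst u u) := by
      rw [pullback.diagonal_fst]; infer_instance
    exact locallyOfFiniteType_of_comp Δ (pullback.fst u u)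
  have hΔfp : LocallyOfFinitePresentation Δ :=
    LocallyOfFinitePresentation.iff_locallyOfFiniteType.mpr hΔlft
  have hΔqc : QuasiCompact Δ := ⟨fun U _ _ => NoetherianSpace.isCompact _⟩
  have hpfp : LocallyOfFinitePresentation p :=
    LocallyOfFinitePresentation.iff_locallyOfFiniteType.mpr inferInstance
  have hrange : IsLocallyConstructible (Set.range Δ) := by
    rw [← Set.image_univ]
    exact Δ.isLocallyConstructible_image IsLocallyConstructible.univ
  have hB : IsLocallyConstructible (p '' (Set.range Δ)ᶜ) :=
    p.isLocallyConstructible_image (Groth.Agent.Helper5.KLem.isLocallyConstructible_compl hrange)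
  have hlocus : ConsProp.locus (fun _ _ g => AlgebraicGeometry.UniversallyInjective g) u =
      (p '' (Set.range Δ)ᶜ)ᶜ := by
    ext s
    rw [hmem]
    constructor
    · rintro h ⟨w, hw, rfl⟩
      exact hw (h rfl)
    · intro h w hw
      by_contra hcon
      exact h ⟨w, hcon, hw⟩
  let η := genericPoint S
  have hηmax : ∀ η' : S, η' ⤳ η → η' = η := by
    intro η' hη'
    have h1 : η ⤳ η' := by
      rw [specializes_iff_mem_closure, genericPoint_closure]; trivial
    exact (hη'.antisymm h1).eq
  rw [hlocus, compl_compl]
  by_cases hη : η ∈ p '' (Set.range Δ)ᶜ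
  · right
    refine ⟨η, mem_interior_iff_mem_nhds.mpr ?_⟩
    refine Groth.Agent.Helper5.KLem.mem_nhds_of_isLocallyConstructible _ hB η ?_
    intro t ht
    rw [hηmax t ht]
    exact hη
  · left
    refine ⟨η, mem_interior_iff_mem_nhds.mpr ?_⟩
    refine Groth.Agent.Helper5.KLem.mem_nhds_of_isLocallyConstructible _
      (Groth.Agent.Helper5.KLem.isLocallyConstructible_compl hB) η ?_
    intro t ht
    rw [hηmax t ht]
    exact hη

end Groth.Agent.Helper5.ConsPr

namespace Groth.Agent.Helper5.ConsPr

open CategoryTheory CategoryTheory.Limits AlgebraicGeometry TopologicalSpace Topology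

/-- universal injectivity is checked on fibres -/
theorem universallyInjective_iff_fibres {X Y : Scheme.{u}} (f : X ⟶ Y) :
    UniversallyInjective f ↔ ∀ y : Y, UniversallyInjective (f.fiberToSpecResidueField y) := by
  constructor
  · intro hf y
    exact MorphismProperty.of_isPullback (P := @UniversallyInjective)
      (IsPullback.of_hasPullback f (Y.fromSpecResidueField y)) hf
  · intro H
    rw [UniversallyInjective.iff_diagonal]
    refine ⟨fun w => ?_⟩
    let y := (pullback.fst f f ≫ f) w
    have sq : IsPullback (f.fiberι y) (f.fiberToSpecResidueField y) f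
        (Y.fromSpecResidueField y) := IsPullback.of_hasPullback _ _
    have h1 := (universallyInjective_of_isPullback_iff sq).1 (H y)
    rw [Scheme.range_fromSpecResidueField] at h1
    exact h1 rfl

theorem s5890 :
    ConsProp.IsConsMor (fun _ _ _ f _ => AlgebraicGeometry.UniversallyInjective f) := by
  refine isConsMor_congr ?_ (s5884 s5887)
  intro X Y T f g _ _ _ _ _ _
  exact universallyInjective_iff_fibres f

end Groth.Agent.Helper5.ConsPr
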