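import Mathlib

set_option autoImplicit false
set_option linter.style.haveILetI false
set_option linter.unusedSectionVars false
set_option linter.unusedVariables false

open IsLocalRing TensorProduct KaehlerDifferential

universe u

namespace Groth.Agent.Helper5.CotCrit

section P1

variable {k R S : Type u} [CommRing k] [CommRing R] [CommRing S] [IsLocalRing S]
  [Algebra k R] [Algebra k S] [Algebra R S] [IsScalarTower k R S]

/-- **Jacobian criterion for a tower**: a local algebra `S`, formally smooth and essentially of
finite type over `k`, is formally smooth over a `k`-algebra `R` with finite differentials iff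
`κ ⊗ (S ⊗_R Ω_{R/k}) → κ ⊗ Ω_{S/k}` is injective. -/
theorem formallySmooth_iff_lTensor_injective [Module.Finite R Ω[R⁄k]]
    [Algebra.EssFiniteType k S] [Algebra.FormallySmooth k S] :
    Algebra.FormallySmooth R S ↔
      Function.Injective ((mapBaseChange k R S).lTensor (ResidueField S)) := by
  haveI : Module.Finite S (S ⊗[R] Ω[R⁄k]) := inferInstance
  haveI : Module.Finite S Ω[S⁄k] := inferInstance
  haveI : Module.Free S Ω[S⁄k] := Module.free_of_flat_of_isLocalRing
  have hex := KaehlerDifferential.exact_mapBaseChange_map k R S
  have hsurj := KaehlerDifferential.map_surjective k R S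
  have hδ := Algebra.H1Cotangent.exact_δ_mapBaseChange k R S
  have hm := Algebra.H1Cotangent.exact_map_δ k R S
  constructor
  · intro h
    haveI := h
    have hinj : Function.Injective (mapBaseChange k R S) := by
      rw [injective_iff_map_eq_zero]
      intro x hx
      obtain ⟨z, hz⟩ := (hδ x).1 hx
      rw [← hz, Subsingleton.elim z 0, map_zero]
    obtain ⟨s, hs⟩ := Module.projective_lifting_property (KaehlerDifferential.map k R S S)
      LinearMap.id hsurj
    obtain ⟨-, l, hl⟩ := (hex.split_tfae'.out 0 1 rfl rfl).1 ⟨hinj, s, hs⟩
    exact (IsLocalRing.split_injective_iff_lTensor_residueField_injective _).1 ⟨l, hl⟩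
  · intro hinj
    obtain ⟨l', hl'⟩ :=
      (IsLocalRing.split_injective_iff_lTensor_residueField_injective (mapBaseChange k R S)).2 hinj
    obtain ⟨hφinj, s, hs⟩ := (hex.split_tfae'.out 1 0 rfl rfl).1 ⟨hsurj, l', hl'⟩
    refine ⟨Module.Projective.of_split s (KaehlerDifferential.map k R S S) hs, ?_⟩
    refine ⟨fun x y => ?_⟩
    have hx : ∀ z : Algebra.H1Cotangent R S, z = 0 := by
      intro z
      have h1 : Algebra.H1Cotangent.δ k R S z = 0 := by
        apply hφinj
        rw [map_zero]
        exact (hδ _).2 ⟨z, rfl⟩
      obtain ⟨w, hw⟩ := (hm z).1 h1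
      rw [← hw, Subsingleton.elim w 0, map_zero]
    rw [hx x, hx y]

end P1

end Groth.Agent.Helper5.CotCrit
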