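import Mathlib
import Groth.Agent.Helper5.CotCrit1

set_option autoImplicit false
set_option linter.style.haveILetI false
set_option linter.unusedSectionVars false
set_option linter.unusedVariables false

open IsLocalRing TensorProduct KaehlerDifferential

universe u

namespace Groth.Agent.Helper5.CotCrit

section P2

variable {k R S : Type u} [Field k] [CommRing R] [CommRing S] [IsLocalRing R] [IsLocalRing S]
  [Algebra k R] [Algebra k S] [Algebra R S] [IsScalarTower k R S] [IsLocalHom (algebraMap R S)]

theorem ker_algebraMap_residueField_S :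
    RingHom.ker (algebraMap S (ResidueField S)) = maximalIdeal S :=
  IsLocalRing.ker_residue

theorem ker_algebraMap_residueField_R :
    RingHom.ker (algebraMap R (ResidueField S)) = maximalIdeal R := by
  rw [IsScalarTower.algebraMap_eq R S (ResidueField S), ← RingHom.comap_ker,
    ker_algebraMap_residueField_S]
  exact ((IsLocalRing.local_hom_TFAE (algebraMap R S)).out 0 4).1 (inferInstance : IsLocalHom (algebraMap R S))

theorem key_tmul (x : R) :
    (mapBaseChange k R S).lTensor (ResidueField S)
      ((AlgebraTensorModule.cancelBaseChange R S (ResidueField S) (ResidueField S) Ω[R⁄k]).symm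
        ((1 : ResidueField S) ⊗ₜ[R] D k R x)) =
      (1 : ResidueField S) ⊗ₜ[S] D k S (algebraMap R S x) := by
  rw [AlgebraTensorModule.cancelBaseChange_symm_tmul, LinearMap.lTensor_tmul,
    mapBaseChange_tmul, one_smul, map_D]

theorem toCotangent_ker_eq_zero_iff_S (y : S) (hy : y ∈ RingHom.ker (algebraMap S (ResidueField S))) :
    (RingHom.ker (algebraMap S (ResidueField S))).toCotangent ⟨y, hy⟩ = 0 ↔
      y ∈ maximalIdeal S ^ 2 := by
  rw [Ideal.toCotangent_eq_zero]
  show y ∈ RingHom.ker (algebraMap S (ResidueField S)) ^ 2 ↔ _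
  rw [ker_algebraMap_residueField_S]

theorem toCotangent_ker_eq_zero_iff_R (x : R) (hx : x ∈ RingHom.ker (algebraMap R (ResidueField S))) :
    (RingHom.ker (algebraMap R (ResidueField S))).toCotangent ⟨x, hx⟩ = 0 ↔
      x ∈ maximalIdeal R ^ 2 := by
  rw [Ideal.toCotangent_eq_zero]
  show x ∈ RingHom.ker (algebraMap R (ResidueField S)) ^ 2 ↔ _
  rw [ker_algebraMap_residueField_R]

variable [Algebra.FormallySmooth k R] [Algebra.FormallySmooth k S]

theorem lTensor_injective_iff_mapCotangent
    (hres : Function.Surjective (algebraMap k (ResidueField S)))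
    (g : R →ₐ[ℤ] S) (hg : ∀ r, g r = algebraMap R S r)
    (h : maximalIdeal R ≤ (maximalIdeal S).comap g) :
    Function.Injective ((mapBaseChange k R S).lTensor (ResidueField S)) ↔
      Function.Injective (Ideal.mapCotangent (maximalIdeal R) (maximalIdeal S) g h) := by
  set L := ResidueField S with hL
  have hbij : Function.Bijective (algebraMap k L) := ⟨(algebraMap k L).injective, hres⟩
  haveI : Algebra.FormallySmooth k L :=
    Algebra.FormallySmooth.of_equiv (AlgEquiv.ofBijective (Algebra.ofId k L) hbij)
  have hsurjS : Function.Surjective (algebraMap S L) := IsLocalRing.residue_surjective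
  have hsurjR : Function.Surjective (algebraMap R L) := by
    intro l
    obtain ⟨c, rfl⟩ := hres l
    exact ⟨algebraMap k R c, (IsScalarTower.algebraMap_apply k R L c).symm⟩
  have haS : Function.Injective (kerCotangentToTensor k S L) :=
    (Algebra.FormallySmooth.kerCotangentToTensor_injective_iff hsurjS).2 inferInstance
  have haR : Function.Injective (kerCotangentToTensor k R L) :=
    (Algebra.FormallySmooth.kerCotangentToTensor_injective_iff hsurjR).2 inferInstance
  haveI : Subsingleton Ω[L⁄k] := KaehlerDifferential.subsingleton_of_surjective k L hres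
  have haRs : Function.Surjective (kerCotangentToTensor k R L) := by
    intro t
    exact (KaehlerDifferential.exact_kerCotangentToTensor_mapBaseChange k R L hsurjR t).1
      (Subsingleton.elim _ _)
  have hmemR : ∀ x : R, x ∈ maximalIdeal R ↔ x ∈ RingHom.ker (algebraMap R L) := fun x => by
    rw [ker_algebraMap_residueField_R]
  have hmemS : ∀ y : S, y ∈ maximalIdeal S ↔ y ∈ RingHom.ker (algebraMap S L) := fun y => by
    rw [ker_algebraMap_residueField_S]
  constructor
  · intro hinj
    rw [injective_iff_map_eq_zero]
    intro c hc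
    obtain ⟨⟨x, hx⟩, rfl⟩ := Ideal.toCotangent_surjective _ c
    rw [Ideal.mapCotangent_toCotangent, Ideal.toCotangent_eq_zero] at hc
    rw [Ideal.toCotangent_eq_zero]
    have hx' := (hmemR x).1 hx
    have hy' : algebraMap R S x ∈ RingHom.ker (algebraMap S L) := by
      rw [← hmemS, ← hg]; exact h hx
    have h1 : (1 : L) ⊗ₜ[S] D k S (algebraMap R S x) = 0 := by
      have := (toCotangent_ker_eq_zero_iff_S (algebraMap R S x) hy').2 (by rw [← hg]; exact hc)
      have h2 := congrArg (kerCotangentToTensor k S L) this
      rw [kerCotangentToTensor_toCotangent, map_zero] at h2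
      exact h2
    rw [← key_tmul] at h1
    have h3 := (injective_iff_map_eq_zero _).1 hinj _ h1
    rw [LinearEquiv.map_eq_zero_iff] at h3
    have h4 : kerCotangentToTensor k R L ((RingHom.ker (algebraMap R L)).toCotangent ⟨x, hx'⟩) =
        0 := by
      rw [kerCotangentToTensor_toCotangent]; exact h3
    have h5 := (injective_iff_map_eq_zero _).1 haR _ h4
    exact (toCotangent_ker_eq_zero_iff_R x hx').1 h5
  · intro hinj
    rw [injective_iff_map_eq_zero]
    intro t ht
    obtain ⟨c, hc⟩ := haRs
      (AlgebraTensorModule.cancelBaseChange R S L L Ω[R⁄k] t)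
    obtain ⟨⟨x, hx'⟩, rfl⟩ := Ideal.toCotangent_surjective _ c
    rw [kerCotangentToTensor_toCotangent] at hc
    have ht' : t = (AlgebraTensorModule.cancelBaseChange R S L L Ω[R⁄k]).symm
        ((1 : L) ⊗ₜ[R] D k R x) := by
      rw [hc, LinearEquiv.symm_apply_apply]
    have hx : x ∈ maximalIdeal R := (hmemR x).2 hx'
    have hy' : algebraMap R S x ∈ RingHom.ker (algebraMap S L) := by
      rw [← hmemS, ← hg]; exact h hx
    rw [ht', key_tmul] at ht
    have h4 : kerCotangentToTensor k S L
        ((RingHom.ker (algebraMap S L)).toCotangent ⟨algebraMap R S x, hy'⟩) = 0 := by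
      rw [kerCotangentToTensor_toCotangent]; exact ht
    have h5 := (injective_iff_map_eq_zero _).1 haS _ h4
    have h6 := (toCotangent_ker_eq_zero_iff_S _ hy').1 h5
    have h7 : Ideal.mapCotangent (maximalIdeal R) (maximalIdeal S) g h
        ((maximalIdeal R).toCotangent ⟨x, hx⟩) = 0 := by
      rw [Ideal.mapCotangent_toCotangent, Ideal.toCotangent_eq_zero]
      show g x ∈ _
      rw [hg]; exact h6
    have h8 := (injective_iff_map_eq_zero _).1 hinj _ h7
    rw [Ideal.toCotangent_eq_zero] at h8
    have h9 := (toCotangent_ker_eq_zero_iff_R x hx').2 h8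
    have h10 : (1 : L) ⊗ₜ[R] D k R x = 0 := by
      have := congrArg (kerCotangentToTensor k R L) h9
      rw [kerCotangentToTensor_toCotangent, map_zero] at this
      exact this
    rw [ht', h10, map_zero]

end P2

end Groth.Agent.Helper5.CotCrit
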