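import Mathlib
import Groth.Agent.Helper5.CotCrit2

set_option autoImplicit false
set_option linter.style.haveILetI false
set_option linter.unusedSectionVars false
set_option linter.unusedVariables false

open IsLocalRing TensorProduct KaehlerDifferential

universe u

namespace Groth.Agent.Helper5.CotCrit

/-- **Cotangent criterion**: a local homomorphism `R → S` of local algebras essentially of finite
type and formally smooth over a field `k`, with residue field of `S` equal to `k`, is formally smooth
iff the cotangent map `m_R/m_R² → m_S/m_S²` is injective. -/
theorem formallySmooth_iff_mapCotangent {k R S : Type u} [Field k] [CommRing R] [CommRing S]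
    [IsLocalRing R] [IsLocalRing S]
    [Algebra k R] [Algebra k S] [Algebra R S] [IsScalarTower k R S] [IsLocalHom (algebraMap R S)]
    [Algebra.FormallySmooth k R] [Algebra.FormallySmooth k S]
    [Algebra.EssFiniteType k R] [Algebra.EssFiniteType k S]
    (hres : Function.Surjective (algebraMap k (ResidueField S)))
    (g : R →ₐ[ℤ] S) (hg : ∀ r, g r = algebraMap R S r)
    (h : maximalIdeal R ≤ (maximalIdeal S).comap g) :
    Algebra.FormallySmooth R S ↔
      Function.Injective (Ideal.mapCotangent (maximalIdeal R) (maximalIdeal S) g h) := by
  haveI : Module.Finite R Ω[R⁄k] := inferInstance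
  rw [formallySmooth_iff_lTensor_injective (k := k), lTensor_injective_iff_mapCotangent hres g hg h]

theorem exists_field (k : Type u) [inst : CommRing k] (hk : IsField k) :
    ∃ F : Field k, F.toCommRing = inst := ⟨hk.toField, rfl⟩

/-- the same over a base which is only propositionally a field -/
theorem formallySmooth_iff_mapCotangent_isField {k R S : Type u} [inst : CommRing k]
    (hk : IsField k) [CommRing R] [CommRing S]
    [IsLocalRing R] [IsLocalRing S]
    [Algebra k R] [Algebra k S] [Algebra R S] [IsScalarTower k R S] [IsLocalHom (algebraMap R S)]
    [Algebra.FormallySmooth k R] [Algebra.FormallySmooth k S]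
    [Algebra.EssFiniteType k R] [Algebra.EssFiniteType k S]
    (hres : Function.Surjective (algebraMap k (ResidueField S)))
    (g : R →ₐ[ℤ] S) (hg : ∀ r, g r = algebraMap R S r)
    (h : maximalIdeal R ≤ (maximalIdeal S).comap g) :
    Algebra.FormallySmooth R S ↔
      Function.Injective (Ideal.mapCotangent (maximalIdeal R) (maximalIdeal S) g h) := by
  obtain ⟨F, rfl⟩ := exists_field k hk
  exact formallySmooth_iff_mapCotangent hres g hg h

end Groth.Agent.Helper5.CotCrit
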