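import Mathlib
import Groth.Prelude
import Groth.Agent.Helper5.CotCrit3
import Groth.Agent.Helper5.CMYon1

set_option autoImplicit false
set_option linter.style.haveILetI false
set_option linter.unusedSectionVars false
set_option linter.unusedVariables false

open CategoryTheory CategoryTheory.Limits AlgebraicGeometry Opposite TopologicalSpace

universe u

namespace Groth.Agent.Helper5.CotCrit

/-- the structure map `k → κ(x)` of a point of a `k`-scheme, through the stalk of `Spec k` -/
theorem specMap_comp_eq {k : Type u} [Field k] {X : Scheme.{u}}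
    (q : X ⟶ Spec (CommRingCat.of k)) (x : X) :
    Spec.map (((Scheme.ΓSpecIso (CommRingCat.of k)).inv ≫
      (Spec (CommRingCat.of k)).presheaf.germ ⊤ (q x) trivial) ≫ q.stalkMap x ≫ X.residue x) =
      X.fromSpecResidueField x ≫ q := by
  rw [Spec.map_comp, Spec.map_comp, ← Spec.fromSpecStalk_eq, Category.assoc,
    Scheme.SpecMap_stalkMap_fromSpecStalk]
  rfl

/-- over an algebraically closed field, the residue field at a closed point is the base field:
the map from the stalk of `Spec k` is surjective -/
theorem residue_surjective_of_isClosed {k : Type u} [Field k] [IsAlgClosed k] {X : Scheme.{u}}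
    (q : X ⟶ Spec (CommRingCat.of k)) [LocallyOfFiniteType q] (x : X)
    (hx : IsClosed ({x} : Set X)) :
    Function.Surjective (q.stalkMap x ≫ X.residue x).hom := by
  haveI : IsClosedImmersion (X.fromSpecResidueField x) :=
    isClosed_singleton_iff_isClosedImmersion.mp hx
  haveI : LocallyOfFiniteType (X.fromSpecResidueField x ≫ q) := inferInstance
  haveI : IsFinite (X.fromSpecResidueField x ≫ q) :=
    isFinite_iff_locallyOfFiniteType_of_jacobsonSpace.mpr inferInstance
  set ψ : CommRingCat.of k ⟶ X.residueField x :=
    ((Scheme.ΓSpecIso (CommRingCat.of k)).inv ≫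
      (Spec (CommRingCat.of k)).presheaf.germ ⊤ (q x) trivial) ≫ q.stalkMap x ≫ X.residue x
    with hψ
  have hfin : ψ.hom.Finite := by
    rw [← IsFinite.SpecMap_iff, hψ, specMap_comp_eq]; infer_instance
  letI : Algebra k (X.residueField x) := ψ.hom.toAlgebra
  haveI : Module.Finite k (X.residueField x) := hfin
  haveI : Algebra.IsIntegral k (X.residueField x) := Algebra.IsIntegral.of_finite k _
  have hbij := IsAlgClosed.algebraMap_bijective_of_isIntegral (k := k) (K := X.residueField x)
  intro l
  obtain ⟨c, hc⟩ := hbij.2 l
  refine ⟨((Scheme.ΓSpecIso (CommRingCat.of k)).inv ≫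
      (Spec (CommRingCat.of k)).presheaf.germ ⊤ (q x) trivial).hom c, ?_⟩
  rw [← hc]
  rfl

end Groth.Agent.Helper5.CotCrit
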