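import Mathlib
import Groth.Prelude
import Groth.Agent.Helper5.CotCrit4

set_option autoImplicit false
set_option linter.style.haveILetI false
set_option linter.unusedSectionVars false
set_option linter.unusedVariables false

open CategoryTheory CategoryTheory.Limits AlgebraicGeometry Opposite TopologicalSpace

universe u

namespace Groth.Agent.Helper5.CotCrit

theorem stalkMapAt_rfl {X Y : Scheme.{u}} (f : X ⟶ Y) (x : X) (r : Y.presheaf.stalk (f x)) :
    FixPt.stalkMapAt f x (f x) rfl r = (f.stalkMap x).hom r := by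
  unfold FixPt.stalkMapAt
  have : (Y.presheaf.stalkCongr (Inseparable.of_eq (rfl : f x = f x))).inv = 𝟙 _ := by
    simp [TopCat.Presheaf.stalkCongr]
  rw [this, Category.id_comp]

/-- **Cotangent criterion for smoothness at a closed point** of a morphism of smooth varieties
over an algebraically closed field. -/
theorem stalk_criterion (k : Type u) [Field k] [IsAlgClosed k] {X Y : Scheme.{u}}
    (qY : Y ⟶ Spec (CommRingCat.of k)) (f : X ⟶ Y)
    [LocallyOfFiniteType qY] [Smooth qY] [LocallyOfFiniteType (f ≫ qY)] [Smooth (f ≫ qY)]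
    (x : X) (hx : IsClosed ({x} : Set X)) :
    (f.stalkMap x).hom.FormallySmooth ↔
      Function.Injective (FixPt.cotangentMapAt f x (f x) rfl) := by
  have hK : IsField ((Spec (CommRingCat.of k)).presheaf.stalk (qY (f x))) :=
    Groth.Agent.Helper5.CMYon.isField_stalk_spec_field k _
  letI algKR : Algebra ((Spec (CommRingCat.of k)).presheaf.stalk (qY (f x)))
      (Y.presheaf.stalk (f x)) := (qY.stalkMap (f x)).hom.toAlgebra
  letI algKS : Algebra ((Spec (CommRingCat.of k)).presheaf.stalk (qY (f x)))
      (X.presheaf.stalk x) := ((f ≫ qY).stalkMap x).hom.toAlgebra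
  letI algRS : Algebra (Y.presheaf.stalk (f x)) (X.presheaf.stalk x) :=
    (f.stalkMap x).hom.toAlgebra
  haveI : IsScalarTower ((Spec (CommRingCat.of k)).presheaf.stalk (qY (f x)))
      (Y.presheaf.stalk (f x)) (X.presheaf.stalk x) := by
    refine .of_algebraMap_eq' ?_
    show ((f ≫ qY).stalkMap x).hom = (f.stalkMap x).hom.comp (qY.stalkMap (f x)).hom
    rw [Scheme.Hom.stalkMap_comp]
    rfl
  haveI : IsLocalHom (algebraMap (Y.presheaf.stalk (f x)) (X.presheaf.stalk x)) :=
    inferInstanceAs (IsLocalHom (f.stalkMap x).hom)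
  haveI : Algebra.FormallySmooth ((Spec (CommRingCat.of k)).presheaf.stalk (qY (f x)))
      (Y.presheaf.stalk (f x)) := by
    have h1 : f x ∈ qY.smoothLocus := by rw [qY.smoothLocus_eq_top]; trivial
    exact h1
  haveI : Algebra.FormallySmooth ((Spec (CommRingCat.of k)).presheaf.stalk (qY (f x)))
      (X.presheaf.stalk x) := by
    have h1 : x ∈ (f ≫ qY).smoothLocus := by rw [(f ≫ qY).smoothLocus_eq_top]; trivial
    exact h1
  haveI : Algebra.EssFiniteType ((Spec (CommRingCat.of k)).presheaf.stalk (qY (f x)))
      (Y.presheaf.stalk (f x)) := LocallyOfFiniteType.stalkMap qY (f x)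
  haveI : Algebra.EssFiniteType ((Spec (CommRingCat.of k)).presheaf.stalk (qY (f x)))
      (X.presheaf.stalk x) := LocallyOfFiniteType.stalkMap (f ≫ qY) x
  have hres : Function.Surjective (algebraMap ((Spec (CommRingCat.of k)).presheaf.stalk (qY (f x)))
      (IsLocalRing.ResidueField (X.presheaf.stalk x))) :=
    residue_surjective_of_isClosed (f ≫ qY) x hx
  have key := formallySmooth_iff_mapCotangent_isField hK hres
    (FixPt.stalkMapAt f x (f x) rfl).toIntAlgHom (fun r => stalkMapAt_rfl f x r)
    (FixPt.maximalIdeal_le_comap_stalkMapAt f x (f x) rfl)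
  exact key

end Groth.Agent.Helper5.CotCrit
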