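import Mathlib
import Groth.Prelude
import Groth.Agent.Helper5.JacDimA

set_option autoImplicit false
set_option linter.style.haveILetI false
set_option linter.unusedSectionVars false
set_option linter.unusedVariables false

open IsLocalRing TensorProduct KaehlerDifferential

universe u

namespace Groth.Agent.Helper5.JacDimE

open Groth.Agent.Helper5.JacDimA

variable {k S : Type u} [Field k] [CommRing S] [Algebra k S] [Algebra.FiniteType k S]

/-- at a smooth point of a finite type algebra over a field, the fibre of the differentials over any
field-valued point with kernel `q` has dimension the local dimension at `q`. -/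
theorem forward_eq (q : Ideal S) [q.IsPrime] (h : Algebra.IsSmoothAt k q)
    (K : Type u) [Field K] [Algebra S K] (hK : RingHom.ker (algebraMap S K) = q) :
    ((Module.finrank K (K ⊗[S] Ω[S⁄k]) : ℕ∞) : WithBot ℕ∞) =
      FlatMor.localDim (PrimeSpectrum S) ⟨q, inferInstance⟩ := by
  haveI : Algebra.FinitePresentation k S :=
    Algebra.FinitePresentation.of_finiteType.mp inferInstance
  haveI := h
  obtain ⟨f, hf, hstd⟩ := Algebra.IsSmoothAt.exists_notMem_isStandardSmooth k q
  obtain ⟨ι, σ, hι, hσ, ⟨P⟩⟩ := hstd.out
  haveI hn : Algebra.IsStandardSmoothOfRelativeDimension P.dimension k (Localization.Away f) :=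
    ⟨_, _, _, hσ, P, rfl⟩
  generalize P.dimension = n at hn
  obtain ⟨g, hg⟩ := Algebra.IsStandardSmoothOfRelativeDimension.exists_etale_mvPolynomial n k
    (Localization.Away f)
  letI := g.toRingHom.toAlgebra
  haveI : IsScalarTower k (MvPolynomial (Fin n) k) (Localization.Away f) :=
    .of_algebraMap_eq' g.comp_algebraMap.symm
  haveI : Algebra.Etale (MvPolynomial (Fin n) k) (Localization.Away f) := hg
  haveI : Algebra.FiniteType k (Localization.Away f) :=
    Algebra.FiniteType.trans (S := S) inferInstance
      (IsLocalization.finiteType_of_monoid_fg (Submonoid.powers f) (Localization.Away f))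
  -- the prime of the localization
  have hdisj : Disjoint (Submonoid.powers f : Set S) (q : Set S) := by
    rw [Set.disjoint_left]
    rintro _ ⟨m, rfl⟩ hm
    exact hf (Ideal.IsPrime.mem_of_pow_mem inferInstance m hm)
  haveI hq' : (q.map (algebraMap S (Localization.Away f))).IsPrime :=
    IsLocalization.isPrime_of_isPrime_disjoint (Submonoid.powers f) _ q inferInstance hdisj
  have hcomap : (q.map (algebraMap S (Localization.Away f))).comap
      (algebraMap S (Localization.Away f)) = q :=
    IsLocalization.under_map_of_isPrime_disjoint (Submonoid.powers f) _ inferInstance hdisj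
  obtain ⟨hloc, -⟩ := Groth.Agent.Helper3.Ked.localDim_eq_of_etale k (Localization.Away f) n
    (q.map (algebraMap S (Localization.Away f)))
  have hopen := PrimeSpectrum.localization_away_isOpenEmbedding (Localization.Away f) f
  have h1 := Groth.Agent.Helper5.EtLoc.localDim_of_isOpenEmbedding _ hopen
    ⟨q.map (algebraMap S (Localization.Away f)), hq'⟩
  have h2 : PrimeSpectrum.comap (algebraMap S (Localization.Away f))
      ⟨q.map (algebraMap S (Localization.Away f)), hq'⟩ = ⟨q, inferInstance⟩ :=
    PrimeSpectrum.ext hcomap
  rw [h2, hloc] at h1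
  rw [← h1]
  have hunit : IsUnit (algebraMap S K f) := by
    rw [isUnit_iff_ne_zero, Ne, ← RingHom.mem_ker, hK]
    exact hf
  letI algTK : Algebra (Localization.Away f) K :=
    (IsLocalization.Away.lift f hunit).toAlgebra
  haveI : IsScalarTower S (Localization.Away f) K :=
    .of_algebraMap_eq' (IsLocalization.Away.lift_comp f hunit).symm
  haveI : Algebra.FormallyEtale S (Localization.Away f) :=
    Algebra.FormallyEtale.of_isLocalization (Submonoid.powers f)
  haveI : Nontrivial (Localization.Away f) :=
    ⟨⟨0, 1, fun h0 => hq'.ne_top ((Ideal.eq_top_iff_one _).2 (h0 ▸ Ideal.zero_mem _))⟩⟩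
  haveI : Algebra.IsStandardSmooth k (Localization.Away f) := hstd
  have e := psi k S (Localization.Away f) K
  rw [e.finrank_eq, Module.finrank_baseChange]
  have hr := Algebra.IsStandardSmoothOfRelativeDimension.rank_kaehlerDifferential
    (R := k) (S := Localization.Away f) n
  have hfr : Module.finrank (Localization.Away f) Ω[Localization.Away f⁄k] = n := by
    unfold Module.finrank
    rw [hr]
    simp
  rw [hfr]
  rfl

end Groth.Agent.Helper5.JacDimE
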