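import Mathlib
import Groth.Prelude
import Groth.Agent.Helper5.JacDimE

set_option autoImplicit false
set_option linter.style.haveILetI false
set_option linter.unusedSectionVars false
set_option linter.unusedVariables false

open IsLocalRing TensorProduct KaehlerDifferential

universe u

namespace Groth.Agent.Helper5.SmTower

open Groth.Agent.Helper5.JacDimA

/-- dimension count: an exact sequence `M → N → P → 0` of finite dimensional spaces with
`dim N = dim M + dim P` has `M → N` injective -/
theorem injective_of_exact_of_finrank {L M N P : Type u} [Field L] [AddCommGroup M] [Module L M]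
    [AddCommGroup N] [Module L N] [AddCommGroup P] [Module L P] [Module.Finite L M]
    [Module.Finite L N] [Module.Finite L P] (φ : M →ₗ[L] N) (ψ : N →ₗ[L] P)
    (hex : Function.Exact φ ψ) (hsurj : Function.Surjective ψ)
    (hdim : Module.finrank L N = Module.finrank L M + Module.finrank L P) :
    Function.Injective φ := by
  have h1 := LinearMap.finrank_range_add_finrank_ker φ
  have h2 := LinearMap.finrank_range_add_finrank_ker ψ
  rw [LinearMap.range_eq_top.2 hsurj, finrank_top, (LinearMap.exact_iff.1 hex)] at h2
  have h3 : Module.finrank L (LinearMap.ker φ) = 0 := by omega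
  rw [← LinearMap.ker_eq_bot]
  exact Submodule.finrank_eq_zero.1 h3

end Groth.Agent.Helper5.SmTower
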