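import Mathlib
import Groth.Prelude
import Groth.Agent.Helper5.SmTower1

set_option autoImplicit false
set_option linter.style.haveILetI false
set_option linter.unusedSectionVars false
set_option linter.unusedVariables false

open IsLocalRing TensorProduct KaehlerDifferential

universe u

namespace Groth.Agent.Helper5.SmTower

open Groth.Agent.Helper5.JacDimA

section tower

variable {k A B : Type u} [Field k] [CommRing A] [CommRing B] [Algebra k A] [Algebra k B]
  [Algebra A B] [IsScalarTower k A B] [Algebra.FiniteType k A] [Algebra.FiniteType k B]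

theorem isSmoothAt_of_tower (p : Ideal B) [p.IsPrime] (n dY : ℕ)
    (hB : Algebra.IsSmoothAt k p) (hA : Algebra.IsSmoothAt k (p.comap (algebraMap A B)))
    (hdB : FlatMor.localDim (PrimeSpectrum B) ⟨p, inferInstance⟩ = ((dY + n : ℕ) : WithBot ℕ∞))
    (hdA : FlatMor.localDim (PrimeSpectrum A) ⟨p.comap (algebraMap A B), inferInstance⟩ =
      (dY : WithBot ℕ∞))
    [Module.Free B Ω[B⁄A]] (hΩBA : Module.finrank B Ω[B⁄A] = n) : Algebra.IsSmoothAt A p := by
  haveI : Nontrivial B := nontrivial_of_ne (0 : B) 1
    (fun h => (inferInstance : p.IsPrime).ne_top ((Ideal.eq_top_iff_one _).2 (h ▸ p.zero_mem)))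
  set Bp := Localization.AtPrime p with hBp
  set L := p.ResidueField with hL
  haveI : Algebra.FormallySmooth k Bp := hB
  haveI : Algebra.EssFiniteType k Bp := Algebra.EssFiniteType.comp k B Bp
  haveI : Algebra.FormallyEtale B Bp := Algebra.FormallyEtale.of_isLocalization p.primeCompl
  -- the three dimensions
  have hkerB : RingHom.ker (algebraMap B L) = p := Ideal.ker_algebraMap_residueField p
  have hkerA : RingHom.ker (algebraMap A L) = p.comap (algebraMap A B) := by
    rw [IsScalarTower.algebraMap_eq A B L, ← RingHom.comap_ker, hkerB]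
  have d1 : Module.finrank L (L ⊗[B] Ω[B⁄k]) = dY + n := by
    have := Groth.Agent.Helper5.JacDimE.forward_eq p hB L hkerB
    rw [hdB] at this
    exact_mod_cast this
  have d2 : Module.finrank L (L ⊗[A] Ω[A⁄k]) = dY := by
    have := Groth.Agent.Helper5.JacDimE.forward_eq (p.comap (algebraMap A B)) hA L hkerA
    rw [hdA] at this
    exact_mod_cast this
  have d3 : Module.finrank L (L ⊗[B] Ω[B⁄A]) = n := by
    rw [Module.finrank_baseChange, hΩBA]
  -- transfer to the local ring
  have e1 : Module.finrank L (L ⊗[Bp] Ω[Bp⁄k]) = dY + n := by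
    rw [← (psi k B Bp L).finrank_eq, d1]
  have e2 : Module.finrank L (L ⊗[Bp] (Bp ⊗[A] Ω[A⁄k])) = dY := by
    rw [(AlgebraTensorModule.cancelBaseChange A Bp L L Ω[A⁄k]).finrank_eq, d2]
  have e3 : Module.finrank L (L ⊗[Bp] Ω[Bp⁄A]) = n := by
    rw [← (psi A B Bp L).finrank_eq, d3]
  -- finiteness
  haveI : Module.Finite A Ω[A⁄k] := inferInstance
  haveI : Module.Finite Bp (Bp ⊗[A] Ω[A⁄k]) := inferInstance
  haveI : Module.Finite Bp Ω[Bp⁄k] := inferInstance
  haveI : Algebra.EssFiniteType A Bp := Algebra.EssFiniteType.of_comp k A Bp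
  haveI : Module.Finite Bp Ω[Bp⁄A] := inferInstance
  haveI : Module.Free Bp Ω[Bp⁄k] := Module.free_of_flat_of_isLocalRing
  -- the residue map is injective
  have hinj : Function.Injective ((mapBaseChange k A Bp).lTensor (ResidueField Bp)) := by
    have hex := lTensor_exact L (KaehlerDifferential.exact_mapBaseChange_map k A Bp)
      (KaehlerDifferential.map_surjective k A Bp)
    have hsurj := LinearMap.lTensor_surjective L (KaehlerDifferential.map_surjective k A Bp)
    have key := injective_of_exact_of_finrank
      ((mapBaseChange k A Bp).baseChange L) ((KaehlerDifferential.map k A Bp Bp).baseChange L)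
      hex hsurj (by rw [e1, e2, e3])
    exact key
  obtain ⟨l', hl'⟩ :=
    (IsLocalRing.split_injective_iff_lTensor_residueField_injective (mapBaseChange k A Bp)).2 hinj
  have hφinj : Function.Injective (mapBaseChange k A Bp) := by
    intro x y hxy
    have := congrArg l' hxy
    rw [← LinearMap.comp_apply, ← LinearMap.comp_apply, hl'] at this
    exact this
  show Algebra.FormallySmooth A Bp
  refine ⟨?_, ?_⟩
  · have e := tensorKaehlerEquivOfFormallyEtale A B Bp
    exact Module.Projective.of_equiv e
  · have hδ := Algebra.H1Cotangent.exact_δ_mapBaseChange k A Bp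
    have hm := Algebra.H1Cotangent.exact_map_δ k A Bp
    refine ⟨fun x y => ?_⟩
    have hx : ∀ z : Algebra.H1Cotangent A Bp, z = 0 := by
      intro z
      have h1 : Algebra.H1Cotangent.δ k A Bp z = 0 := by
        apply hφinj
        rw [map_zero]
        exact (hδ _).2 ⟨z, rfl⟩
      obtain ⟨w, hw⟩ := (hm z).1 h1
      rw [← hw, Subsingleton.elim w 0, map_zero]
    rw [hx x, hx y]

end tower

end Groth.Agent.Helper5.SmTower
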