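import Mathlib
import Groth.Prelude
import Groth.Agent.Helper5.SmTower2
import Groth.Agent.Helper5.JacDimB
import Groth.Agent.Lead.OmegaSecB
import Groth.Agent.Helper4.FinLocFree2
import Groth.Agent.Helper5.EtDim

set_option autoImplicit false
set_option linter.style.haveILetI false
set_option linter.unusedSectionVars false
set_option linter.unusedVariables false

open CategoryTheory CategoryTheory.Limits AlgebraicGeometry Opposite TopologicalSpace

universe u

namespace Groth.Agent.Helper5.SmTower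

open Groth.Agent.Lead Groth.Agent.Helper4 Groth.Agent.Helper4.FinLocFree KaehlerDifferential

/-- version of the tower criterion over a base which is only propositionally a field -/
theorem isSmoothAt_of_tower_isField {k A B : Type u} [inst : CommRing k] (hk : IsField k)
    [CommRing A] [CommRing B] [Algebra k A] [Algebra k B]
    [Algebra A B] [IsScalarTower k A B] [Algebra.FiniteType k A] [Algebra.FiniteType k B]
    (p : Ideal B) [p.IsPrime] (n dY : ℕ)
    (hB : Algebra.IsSmoothAt k p) (hA : Algebra.IsSmoothAt k (p.comap (algebraMap A B)))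
    (hdB : FlatMor.localDim (PrimeSpectrum B) ⟨p, inferInstance⟩ = ((dY + n : ℕ) : WithBot ℕ∞))
    (hdA : FlatMor.localDim (PrimeSpectrum A) ⟨p.comap (algebraMap A B), inferInstance⟩ =
      (dY : WithBot ℕ∞))
    [Module.Free B Ω[B⁄A]] (hΩBA : Module.finrank B Ω[B⁄A] = n) : Algebra.IsSmoothAt A p := by
  obtain ⟨F, rfl⟩ := Groth.Agent.Helper5.JacDimB.exists_field k hk
  exact isSmoothAt_of_tower p n dY hB hA hdB hdA hΩBA

/-- version with a named contraction -/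
theorem isSmoothAt_of_tower_isField' {k A B : Type u} [inst : CommRing k] (hk : IsField k)
    [CommRing A] [CommRing B] [Algebra k A] [Algebra k B]
    [Algebra A B] [IsScalarTower k A B] [Algebra.FiniteType k A] [Algebra.FiniteType k B]
    (p : Ideal B) [p.IsPrime] (q : Ideal A) [q.IsPrime] (hq : p.comap (algebraMap A B) = q)
    (n dY : ℕ)
    (hB : Algebra.IsSmoothAt k p) (hA : Algebra.IsSmoothAt k q)
    (hdB : FlatMor.localDim (PrimeSpectrum B) ⟨p, inferInstance⟩ = ((dY + n : ℕ) : WithBot ℕ∞))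
    (hdA : FlatMor.localDim (PrimeSpectrum A) ⟨q, inferInstance⟩ = (dY : WithBot ℕ∞))
    [Module.Free B Ω[B⁄A]] (hΩBA : Module.finrank B Ω[B⁄A] = n) : Algebra.IsSmoothAt A p := by
  subst hq
  exact isSmoothAt_of_tower_isField hk p n dY hB hA hdB hdA hΩBA

theorem smooth_of_omega_free (R : CommRingCat.{u}) (hR : IsField R) {X Y : Scheme.{u}}
    (qX : X ⟶ Spec R) (qY : Y ⟶ Spec R)
    [LocallyOfFiniteType qX] [Smooth qX] [LocallyOfFiniteType qY] [Smooth qY]
    (f : X ⟶ Y) [QuasiSeparated f] [LocallyOfFinitePresentation f] (hf : f ≫ qY = qX) (n dY : ℕ)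
    (hdX : ∀ x : X, FlatMor.localDim X x = ((dY + n : ℕ) : WithBot ℕ∞))
    (hdY : ∀ y : Y, FlatMor.localDim Y y = (dY : WithBot ℕ∞))
    (hΩ : FlatMod.IsFinLocFreeOfRank n (Omega.sheaf f)) : Smooth f := by
  rw [← Scheme.Hom.smoothLocus_eq_top_iff, ← top_le_iff]
  rintro x -
  obtain ⟨U₀, hxU₀, hfree⟩ := hΩ x
  obtain ⟨U, V, hU, hV, hxU, e, hUU₀⟩ := OmegaSecB.exists_affine_pair_le f x U₀ hxU₀
  obtain ⟨b⟩ := (isFreeAlong_ι_iff_basis hU (Omega.sheaf f)).mp (IsFreeAlong.of_le hUU₀ hfree)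
  have hT : IsAffineOpen (⊤ : (Spec R).Opens) := isAffineOpen_top _
  have eX : U ≤ qX ⁻¹ᵁ ⊤ := le_top
  have eY : V ≤ qY ⁻¹ᵁ ⊤ := le_top
  letI algKA : Algebra Γ(Spec R, ⊤) Γ(Y, V) := (qY.appLE ⊤ V eY).hom.toAlgebra
  letI algKB : Algebra Γ(Spec R, ⊤) Γ(X, U) := (qX.appLE ⊤ U eX).hom.toAlgebra
  letI algAB : Algebra Γ(Y, V) Γ(X, U) := (f.appLE V U e).hom.toAlgebra
  have hk : IsField Γ(Spec R, ⊤) :=
    MulEquiv.isField hR (Scheme.ΓSpecIso R).commRingCatIsoToRingEquiv.toMulEquiv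
  haveI : IsScalarTower Γ(Spec R, ⊤) Γ(Y, V) Γ(X, U) := by
    refine .of_algebraMap_eq' ?_
    show (qX.appLE ⊤ U eX).hom = (f.appLE V U e).hom.comp (qY.appLE ⊤ V eY).hom
    rw [← CommRingCat.hom_comp]
    congr 1
    subst hf
    exact (Scheme.Hom.appLE_comp_appLE f qY ⊤ V U eY e).symm
  haveI : Algebra.FiniteType Γ(Spec R, ⊤) Γ(Y, V) := qY.finiteType_appLE hT hV eY
  haveI : Algebra.FiniteType Γ(Spec R, ⊤) Γ(X, U) := qX.finiteType_appLE hT hU eX
  haveI : Nonempty U := ⟨⟨x, hxU⟩⟩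
  haveI : Nontrivial Γ(X, U) := Scheme.component_nontrivial X U
  obtain ⟨ε, -⟩ := OmegaSecA.exists_sectionsEquiv f hU hV e
  let b' : Module.Basis (Fin n) Γ(X, U) Ω[Γ(X, U)⁄Γ(Y, V)] := b.map ε
  haveI : Module.Free Γ(X, U) Ω[Γ(X, U)⁄Γ(Y, V)] := Module.Free.of_basis b'
  have hrk : Module.finrank Γ(X, U) Ω[Γ(X, U)⁄Γ(Y, V)] = n := by
    rw [Module.finrank_eq_card_basis b', Fintype.card_fin]
  -- the primes
  have hcomap := IsAffineOpen.comap_primeIdealOf_appLE V hV U hU e hxU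
  have hpA : (hU.primeIdealOf ⟨x, hxU⟩).asIdeal.comap (algebraMap Γ(Y, V) Γ(X, U)) =
      (hV.primeIdealOf ⟨f x, e hxU⟩).asIdeal := congr($(hcomap).1)
  -- smoothness over the field
  have hsX : Algebra.IsSmoothAt Γ(Spec R, ⊤) (hU.primeIdealOf ⟨x, hxU⟩).asIdeal := by
    have h1 : x ∈ qX.smoothLocus := by rw [qX.smoothLocus_eq_top]; trivial
    rw [Scheme.Hom.mem_smoothLocus, formallySmooth_stalkMap_iff ⊤ hT U hU eX hxU] at h1
    exact h1
  have hsY : Algebra.IsSmoothAt Γ(Spec R, ⊤) (hV.primeIdealOf ⟨f x, e hxU⟩).asIdeal := by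
    have h1 : f x ∈ qY.smoothLocus := by rw [qY.smoothLocus_eq_top]; trivial
    rw [Scheme.Hom.mem_smoothLocus, formallySmooth_stalkMap_iff ⊤ hT V hV eY (e hxU)] at h1
    exact h1
  -- local dimensions
  have hdB : FlatMor.localDim (PrimeSpectrum Γ(X, U))
      ⟨(hU.primeIdealOf ⟨x, hxU⟩).asIdeal, inferInstance⟩ = ((dY + n : ℕ) : WithBot ℕ∞) := by
    have h1 := Groth.Agent.Helper5.EtDim.localDim_eq_of_etale hU.fromSpec
      (hU.primeIdealOf ⟨x, hxU⟩)
    rw [hU.fromSpec_primeIdealOf ⟨x, hxU⟩, hdX] at h1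
    exact h1
  have hdA : FlatMor.localDim (PrimeSpectrum Γ(Y, V))
      ⟨(hV.primeIdealOf ⟨f x, e hxU⟩).asIdeal, inferInstance⟩ = (dY : WithBot ℕ∞) := by
    have h1 := Groth.Agent.Helper5.EtDim.localDim_eq_of_etale hV.fromSpec
      (hV.primeIdealOf ⟨f x, e hxU⟩)
    rw [hV.fromSpec_primeIdealOf ⟨f x, e hxU⟩, hdY] at h1
    exact h1
  rw [Scheme.Hom.mem_smoothLocus, formallySmooth_stalkMap_iff V hV U hU e hxU]
  show Algebra.IsSmoothAt Γ(Y, V) (hU.primeIdealOf ⟨x, hxU⟩).asIdeal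
  exact isSmoothAt_of_tower_isField' hk (hU.primeIdealOf ⟨x, hxU⟩).asIdeal
    (hV.primeIdealOf ⟨f x, e hxU⟩).asIdeal hpA n dY hsX hsY hdB hdA hrk

end Groth.Agent.Helper5.SmTower
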