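import Mathlib
import Groth.Prelude
import Groth.Agent.Helper5.SmTower3
import Groth.Agent.Helper5.SmLocDim1
import Groth.Agent.Helper5.VarDim2
import Groth.Agent.Lead.SmOmegaA
import Groth.Agent.Lead.OmegaUnivA

set_option autoImplicit false
set_option linter.style.haveILetI false
set_option linter.unusedSectionVars false
set_option linter.unusedVariables false

open CategoryTheory CategoryTheory.Limits AlgebraicGeometry Opposite TopologicalSpace

universe u

namespace Groth.Agent.Helper5.SmTower

open Groth.Agent.Lead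

/-- a smooth morphism between equidimensional schemes is smooth of the expected relative
dimension -/
theorem smoothOfRelDim_of_localDim {X Y : Scheme.{u}} [IsLocallyNoetherian Y] (f : X ⟶ Y)
    [Smooth f] (n dY : ℕ)
    (hdX : ∀ x : X, FlatMor.localDim X x = ((dY + n : ℕ) : WithBot ℕ∞))
    (hdY : ∀ y : Y, FlatMor.localDim Y y = (dY : WithBot ℕ∞)) :
    SmoothOfRelativeDimension n f := by
  constructor
  intro x
  obtain ⟨U, hU, V, hV, hxV, e, hφ⟩ := Smooth.exists_isStandardSmooth f x
  letI := (f.appLE U V e).hom.toAlgebra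
  have hφ' : Algebra.IsStandardSmooth Γ(Y, U) Γ(X, V) := hφ
  obtain ⟨ι, σ, hσ, hι, ⟨P⟩⟩ := hφ'.out
  have hn : RingHom.IsStandardSmoothOfRelativeDimension P.dimension (f.appLE U V e).hom :=
    P.isStandardSmoothOfRelativeDimension rfl
  have h1 := Groth.Agent.Helper5.SmLocDim.fibreDimAt_of_isStandardSmooth _ f hU hV e hn x hxV
  have h2 := Groth.Agent.Helper5.SmLocDim.localDim_eq_add_of_smooth f x
  rw [hdX, hdY, h1] at h2
  have h3 : dY + n = dY + P.dimension := by exact_mod_cast h2
  have h4 : P.dimension = n := by omega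
  rw [h4] at hn
  exact ⟨U, hU, V, hV, hxV, e, hn⟩

theorem s10937 (k : Type u) [Field k]
    {X Y : Scheme.{u}} (qX : X ⟶ Spec (CommRingCat.of k)) (qY : Y ⟶ Spec (CommRingCat.of k))
    [IsIntegral X] [IsSeparated qX] [LocallyOfFiniteType qX] [Smooth qX]
    [IsIntegral Y] [LocallyOfFiniteType qY] [Smooth qY]
    (f : X ⟶ Y) (hf : f ≫ qY = qX) (n dY : ℕ) (hY : topologicalKrullDim ↥Y = dY)
    (hX : topologicalKrullDim ↥X = ((dY + n : ℕ) : WithBot ℕ∞)) :
    SmoothOfRelativeDimension n f ↔ FlatMod.IsFinLocFreeOfRank n (Omega.sheaf f) := by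
  haveI : IsSeparated (f ≫ qY) := by rw [hf]; infer_instance
  haveI : IsSeparated f := IsSeparated.of_comp f qY
  haveI : QuasiSeparated f := inferInstance
  haveI : LocallyOfFiniteType (f ≫ qY) := by rw [hf]; infer_instance
  haveI : LocallyOfFiniteType f := locallyOfFiniteType_of_comp f qY
  haveI : IsLocallyNoetherian Y := LocallyOfFiniteType.isLocallyNoetherian qY
  haveI : LocallyOfFinitePresentation f := inferInstance
  have hdX : ∀ x : X, FlatMor.localDim X x = ((dY + n : ℕ) : WithBot ℕ∞) := fun x => by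
    rw [Groth.Agent.Helper5.VarDim.localDim_eq_dim_of_irreducible k qX x, hX]
  have hdY : ∀ y : Y, FlatMor.localDim Y y = (dY : WithBot ℕ∞) := fun y => by
    rw [Groth.Agent.Helper5.VarDim.localDim_eq_dim_of_irreducible k qY y, hY]
  constructor
  · intro h
    haveI := h
    haveI : Smooth f := SmoothOfRelativeDimension.smooth n f
    intro x
    obtain ⟨U, n', hxU, hiso, hfd⟩ := SmOmegaA.main f (Omega.sheaf f) (OmegaSh.dOmega f)
      (OmegaUnivA.isUniversal f) x
    have h2 := Groth.Agent.S2768.result n f x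
    rw [hfd] at h2
    have h3 : n' = n := by exact_mod_cast h2
    subst h3
    exact ⟨U, hxU, hiso⟩
  · intro hΩ
    haveI : Smooth f := smooth_of_omega_free (.of k) (Field.toIsField k) qX qY f hf n dY hdX hdY hΩ
    exact smoothOfRelDim_of_localDim f n dY hdX hdY

end Groth.Agent.Helper5.SmTower
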