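import Mathlib
import Groth.Prelude
import Groth.Agent.Helper5.CotCrit5
import Groth.Agent.Helper5.SmTower4

set_option autoImplicit false
set_option linter.style.haveILetI false
set_option linter.unusedSectionVars false
set_option linter.unusedVariables false

open CategoryTheory CategoryTheory.Limits AlgebraicGeometry Opposite TopologicalSpace

universe u

namespace Groth.Agent.Helper5.CotCrit

open Groth.Agent.Helper5.SmTower

theorem s10936 (k : Type u) [Field k] [IsAlgClosed k]
    {X Y : Scheme.{u}} (qX : X ⟶ Spec (CommRingCat.of k)) (qY : Y ⟶ Spec (CommRingCat.of k))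
    [IsIntegral X] [LocallyOfFiniteType qX] [QuasiCompact qX] [Smooth qX]
    [IsIntegral Y] [LocallyOfFiniteType qY] [Smooth qY]
    (f : X ⟶ Y) (hf : f ≫ qY = qX) (n dY : ℕ) (hY : topologicalKrullDim ↥Y = dY)
    (hX : topologicalKrullDim ↥X = ((dY + n : ℕ) : WithBot ℕ∞)) :
    SmoothOfRelativeDimension n f ↔
      ∀ x : X, IsClosed ({x} : Set ↥X) →
        Function.Injective (FixPt.cotangentMapAt f x (f.base x) rfl) := by
  subst hf
  haveI : LocallyOfFiniteType f := locallyOfFiniteType_of_comp f qY
  haveI : IsLocallyNoetherian Y := LocallyOfFiniteType.isLocallyNoetherian qY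
  haveI : LocallyOfFinitePresentation f := inferInstance
  have hdX : ∀ x : X, FlatMor.localDim X x = ((dY + n : ℕ) : WithBot ℕ∞) := fun x => by
    rw [Groth.Agent.Helper5.VarDim.localDim_eq_dim_of_irreducible k (f ≫ qY) x, hX]
  have hdY : ∀ y : Y, FlatMor.localDim Y y = (dY : WithBot ℕ∞) := fun y => by
    rw [Groth.Agent.Helper5.VarDim.localDim_eq_dim_of_irreducible k qY y, hY]
  constructor
  · intro h x hx
    haveI := h
    haveI : Smooth f := SmoothOfRelativeDimension.smooth n f
    rw [← stalk_criterion k qY f x hx]
    have h1 : x ∈ f.smoothLocus := by rw [f.smoothLocus_eq_top]; trivial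
    exact h1
  · intro h
    haveI hsm : Smooth f := by
      rw [← Scheme.Hom.smoothLocus_eq_top_iff]
      by_contra hne
      haveI : CompactSpace X := QuasiCompact.compactSpace_of_compactSpace (f ≫ qY)
      have hcl : IsClosed ((f.smoothLocus : Set X)ᶜ) := f.smoothLocus.2.isClosed_compl
      have hne' : ((f.smoothLocus : Set X)ᶜ).Nonempty := by
        rw [Set.nonempty_compl]
        intro h'
        exact hne (Opens.ext h')
      obtain ⟨x, hxS, hx⟩ := hcl.exists_closed_singleton hne'
      exact hxS ((stalk_criterion k qY f x hx).2 (h x hx))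
    exact smoothOfRelDim_of_localDim f n dY hdX hdY

end Groth.Agent.Helper5.CotCrit
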