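import Mathlib
import Groth.Prelude.Def_CurvBase
import Groth.Agent.Helper5.NormCurve
import Groth.Agent.Helper5.FtDim5

set_option autoImplicit false
set_option linter.unusedSectionVars false
set_option linter.style.haveILetI false
universe u

open AlgebraicGeometry CategoryTheory Opposite

namespace Groth.Agent.Helper5.CurveDim

/-- an integral scheme locally of finite type over a field whose function field has transcendence
degree one has one-dimensional local rings at closed points -/
theorem stalk_dim_one (k : Type u) [Field k] (Y : Scheme.{u}) [IsIntegral Y]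
    [Y.Over (Spec (CommRingCat.of k))] [LocallyOfFiniteType (Y ↘ Spec (CommRingCat.of k))]
    (K : Type u) [Field K] [Algebra k K]
    (e : Y.presheaf.stalk (genericPoint Y) ≃+* K)
    (he : ∀ c : k, e (Curv2.stalkMap k Y (genericPoint Y) c) = algebraMap k K c)
    (htr : Algebra.trdeg k K = 1) (y : Y) (hy : IsClosed ({y} : Set Y)) :
    ringKrullDim (Y.presheaf.stalk y) = 1 := by
  obtain ⟨_, ⟨V, hV, rfl⟩, hyV, -⟩ := Y.isBasis_affineOpens.exists_subset_of_mem_open
    (Set.mem_univ y) isOpen_univ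
  haveI hne : Nonempty V := ⟨⟨_, hyV⟩⟩
  haveI : IsDomain Γ(Y, V) := @IsIntegral.component_integral Y _ V hne
  -- the k-algebra structure
  have h1 : ((Y ↘ Spec (CommRingCat.of k)).appLE ⊤ V le_top).hom.FiniteType :=
    (Y ↘ Spec (CommRingCat.of k)).finiteType_appLE (isAffineOpen_top _) hV le_top
  have h2 : ((Scheme.ΓSpecIso (CommRingCat.of k)).inv.hom).FiniteType :=
    RingHom.FiniteType.of_surjective _
      (ConcreteCategory.bijective_of_isIso (Scheme.ΓSpecIso (CommRingCat.of k)).inv).2
  have h3 := h1.comp h2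
  letI : Algebra k Γ(Y, V) :=
    (((Y ↘ Spec (CommRingCat.of k)).appLE ⊤ V le_top).hom.comp
      (Scheme.ΓSpecIso (CommRingCat.of k)).inv.hom).toAlgebra
  haveI : Algebra.FiniteType k Γ(Y, V) := h3
  letI : Algebra k Y.functionField := (Curv2.stalkMap k Y (genericPoint Y)).toAlgebra
  haveI : IsFractionRing Γ(Y, V) Y.functionField :=
    functionField_isFractionRing_of_isAffineOpen Y V hV
  haveI : IsScalarTower k Γ(Y, V) Y.functionField := by
    refine IsScalarTower.of_algebraMap_eq (fun c => ?_)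
    show Curv2.stalkMap k Y (genericPoint Y) c = _
    unfold Curv2.stalkMap Coh.toGlobal
    rw [RingHom.comp_apply, RingHom.comp_apply]
    exact (TopCat.Presheaf.germ_res_apply _ (homOfLE (le_top : V ≤ ⊤)) _ _ _).symm
  obtain ⟨n, hn1, hn2⟩ := Groth.Agent.Helper5.FtDim.dim_eq_trdeg k Γ(Y, V) Y.functionField
  let e' : Y.functionField ≃ₐ[k] K := AlgEquiv.ofRingEquiv (f := e) he
  rw [e'.trdeg_eq, htr] at hn2
  have hn : n = 1 := by exact_mod_cast hn2.symm
  subst hn
  haveI := Groth.Agent.Helper5.NormCurve.isMaximal_primeIdealOf hV y hyV hy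
  have h4 := Groth.Agent.Helper5.FtDim.height_of_isMaximal k Γ(Y, V)
    (hV.primeIdealOf ⟨y, hyV⟩).asIdeal
  letI : Algebra Γ(Y, V) (Y.presheaf.stalk y) := Y.presheaf.algebra_section_stalk ⟨y, hyV⟩
  haveI : IsLocalization.AtPrime (Y.presheaf.stalk y) (hV.primeIdealOf ⟨y, hyV⟩).asIdeal :=
    hV.isLocalization_stalk ⟨y, hyV⟩
  rw [IsLocalization.AtPrime.ringKrullDim_eq_height (hV.primeIdealOf ⟨y, hyV⟩).asIdeal, h4, hn1]
  rfl

end Groth.Agent.Helper5.CurveDim
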