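import Mathlib
import Groth.Prelude.Def_CurvBase
import Groth.Prelude.Def_Pi1
import Groth.Agent.Helper5.P1Sch
import Groth.Agent.Helper5.NormCurve2
import Groth.Agent.Helper5.NormFF
import Groth.Agent.Helper5.CurveDim
import Groth.Agent.Helper6.HProj

set_option autoImplicit false
set_option linter.unusedSectionVars false
set_option linter.style.haveILetI false
universe u

open AlgebraicGeometry CategoryTheory Opposite

namespace Groth.Agent.Helper5.CurveExist

open Groth.Agent.Helper5.NormGen Groth.Agent.Helper5.P1Sch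

instance isProper_toSpec (k : Type u) [Field k] : IsProper (toSpec k) :=
  Groth.Agent.Helper6.HProj.isProper_toSpec 1 k

theorem main (k : Type u) [Field k] (K : Type u) [Field K] [Algebra k K]
    (hfg : (⊤ : IntermediateField k K).FG) (htr : Algebra.trdeg k K = 1) :
    ∃ (X : Scheme.{u}) (_ : X.Over (Spec (CommRingCat.of k))) (_ : IsIntegral X),
      IsProper (X ↘ (Spec (CommRingCat.of k))) ∧ Pi1.IsNormalScheme X ∧
      (∀ x : X, IsClosed ({x} : Set X) → ringKrullDim (X.presheaf.stalk x) = 1) ∧
      ∃ e : X.presheaf.stalk (genericPoint X) ≃+* K,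
        ∀ c : k, e (Curv2.stalkMap k X (genericPoint X) c) = algebraMap k K c := by
  have hne0 : Algebra.trdeg k K ≠ 0 := by
    rw [htr]
    exact one_ne_zero
  obtain ⟨⟨t, ht⟩⟩ := trdeg_ne_zero_iff.1 hne0
  haveI : IsProper ((Proj (CohB1.polyGrading 1 k)) ↘ Spec (CommRingCat.of k)) :=
    isProper_toSpec k
  haveI : QuasiSeparatedSpace (Proj (CohB1.polyGrading 1 k)) :=
    quasiSeparatedSpace_of_quasiSeparated (toSpec k)
  have hφ := phi_finite k K t hfg htr ht
  have hφk := phi_stalkMap k K t ht
  haveI : QuasiCompact (gen K (phi k K t ht)) := inferInstance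
  haveI : QuasiSeparated (gen K (phi k K t ht)) := inferInstance
  letI ov : (gen K (phi k K t ht)).normalization.Over (Spec (CommRingCat.of k)) :=
    ⟨(gen K (phi k K t ht)).fromNormalization ≫
      ((Proj (CohB1.polyGrading 1 k)) ↘ Spec (CommRingCat.of k))⟩
  have hfin : IsFinite (gen K (phi k K t ht)).fromNormalization :=
    isFinite_fromNormalization K (phi k K t ht) hφ _ rfl
      (fun U hU hne => Groth.Agent.Helper5.NormCurve.isN2_of_locallyOfFiniteType k _
        ((Proj (CohB1.polyGrading 1 k)) ↘ Spec (CommRingCat.of k)) U hU hne)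
  haveI hprop : IsProper ((gen K (phi k K t ht)).normalization ↘ Spec (CommRingCat.of k)) := by
    show IsProper ((gen K (phi k K t ht)).fromNormalization ≫
      ((Proj (CohB1.polyGrading 1 k)) ↘ Spec (CommRingCat.of k)))
    infer_instance
  obtain ⟨e, he⟩ := Groth.Agent.Helper5.NormFF.exists_functionField_equiv_over
    (X := Proj (CohB1.polyGrading 1 k)) K (phi k K t ht) k hφ hφk
  refine ⟨(gen K (phi k K t ht)).normalization, ov, inferInstance, hprop,
    Groth.Agent.Helper5.NormCurve.isNormalScheme K (phi k K t ht) hφ, ?_, e, he⟩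
  intro x hx
  exact Groth.Agent.Helper5.CurveDim.stalk_dim_one k _ K e he htr x hx

end Groth.Agent.Helper5.CurveExist
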