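import Mathlib

set_option autoImplicit false
universe u

namespace Groth.Agent.Helper5.OpenGen
open AlgebraicGeometry CategoryTheory PrimeSpectrum

/-- Ring level: if `Spec A → Spec B` is open then it lifts generalizations. -/
theorem generalizingMap_comap_of_isOpenMap {B A : Type*} [CommRing B] [CommRing A] (φ : B →+* A)
    (hopen : IsOpenMap (PrimeSpectrum.comap φ)) : GeneralizingMap (PrimeSpectrum.comap φ) := by
  intro p q' hq'
  -- q' ⤳ comap φ p, i.e. q' ≤ comap φ p
  rw [← PrimeSpectrum.le_iff_specializes] at hq'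
  -- the multiplicative set
  have hdisj : Disjoint ((Ideal.map φ q'.asIdeal : Ideal A) : Set A)
      ((q'.asIdeal.primeCompl.map φ ⊔ p.asIdeal.primeCompl : Submonoid A) : Set A) := by
    rw [Set.disjoint_iff]
    rintro a ⟨haI, haS⟩
    rw [SetLike.mem_coe, Submonoid.mem_sup] at haS
    obtain ⟨_, ⟨b, hb, rfl⟩, s, hs, rfl⟩ := haS
    -- openness
    have hop : IsOpen (PrimeSpectrum.comap φ '' (PrimeSpectrum.basicOpen s : Set (PrimeSpectrum A))) :=
      hopen _ (PrimeSpectrum.basicOpen s).isOpen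
    have hmem : PrimeSpectrum.comap φ p ∈
        PrimeSpectrum.comap φ '' (PrimeSpectrum.basicOpen s : Set (PrimeSpectrum A)) :=
      ⟨p, hs, rfl⟩
    have hq'mem : q' ∈ PrimeSpectrum.comap φ '' (PrimeSpectrum.basicOpen s : Set (PrimeSpectrum A)) :=
      hop.stableUnderGeneralization ((PrimeSpectrum.le_iff_specializes _ _).mp hq') hmem
    obtain ⟨p'', hp''s, hp''⟩ := hq'mem
    have h1 : Ideal.map φ q'.asIdeal ≤ p''.asIdeal := by
      rw [Ideal.map_le_iff_le_comap, ← hp'']
      exact le_rfl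
    have h2 : φ b * s ∈ p''.asIdeal := h1 haI
    rcases p''.isPrime.mem_or_mem h2 with h3 | h3
    · apply hb
      rw [← hp'']
      exact h3
    · exact hp''s h3
  obtain ⟨P, hPprime, hIP, hPdisj⟩ := Ideal.exists_le_prime_disjoint _ _ hdisj
  refine ⟨⟨P, hPprime⟩, ?_, ?_⟩
  · change (⟨P, hPprime⟩ : PrimeSpectrum A) ⤳ p
    rw [← PrimeSpectrum.le_iff_specializes]
    intro a haP
    by_contra hap
    exact Set.disjoint_iff.mp hPdisj ⟨haP, (le_sup_right : p.asIdeal.primeCompl ≤ _) hap⟩
  · apply PrimeSpectrum.ext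
    apply le_antisymm
    · intro b hb
      by_contra hbq
      exact Set.disjoint_iff.mp hPdisj ⟨hb,
        (le_sup_left : q'.asIdeal.primeCompl.map φ ≤ _) ⟨b, hbq, rfl⟩⟩
    · intro b hb
      exact hIP (Ideal.mem_map_of_mem φ hb)

theorem main {X Y : Scheme.{u}} (f : X ⟶ Y) (hf : IsOpenMap f.base) :
    GeneralizingMap f.base := by
  change topologically GeneralizingMap f
  wlog hY : ∃ R, Y = Spec R
  · rw [IsZariskiLocalAtTarget.iff_of_openCover (P := topologically GeneralizingMap) Y.affineCover]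
    intro i
    dsimp only [Scheme.Cover.pullbackHom]
    refine this _ ?_ ⟨_, rfl⟩
    exact IsZariskiLocalAtTarget.of_isPullback (P := topologically IsOpenMap)
      (iY := Y.affineCover.f i) (IsPullback.of_hasPullback ..) hf
  obtain ⟨R, rfl⟩ := hY
  wlog hX : ∃ S, X = Spec S
  · rw [IsZariskiLocalAtSource.iff_of_openCover (P := topologically GeneralizingMap) X.affineCover]
    intro i
    refine this _ _ ?_ ⟨_, rfl⟩
    exact IsZariskiLocalAtSource.comp (P := topologically IsOpenMap) hf _
  obtain ⟨S, rfl⟩ := hX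
  obtain ⟨φ, rfl⟩ := Spec.map_surjective f
  exact generalizingMap_comap_of_isOpenMap φ.hom hf

end Groth.Agent.Helper5.OpenGen
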