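import Groth.Agent.Helper5.PairPt2
import Groth.Agent.Helper5.OpenGen
import Groth.Prelude.Def_Cyc

set_option autoImplicit false
universe u
open CategoryTheory CategoryTheory.Limits AlgebraicGeometry TopologicalSpace

namespace Groth.Agent.Helper5.CycBC

/-- (GF) generisations inside a fibre of `c` lift along a base change of any morphism -/
theorem exists_generization_same_fibre {X S X' S' : Scheme.{u}} (f : X ⟶ S) (c : S' ⟶ S)
    (pX : X' ⟶ X) (f' : X' ⟶ S') (hsq : IsPullback pX f' f c) (x' : X') (η : S')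
    (hη : η ⤳ f' x') (hc : c η = c (f' x')) : ∃ y' : X', y' ⤳ x' ∧ f' y' = η := by
  let s : S := c (f' x')
  let ι := c.fiberι s
  have hemb : Topology.IsEmbedding ι := ι.isEmbedding
  have hrange : Set.range ι = c ⁻¹' {s} := c.range_fiberι s
  obtain ⟨σ', hσ'⟩ : f' x' ∈ Set.range ι := by rw [hrange]; rfl
  obtain ⟨τ', hτ'⟩ : η ∈ Set.range ι := by rw [hrange]; exact hc
  have hτσ : τ' ⤳ σ' := by
    rw [← hemb.isInducing.specializes_iff, hσ', hτ']
    exact hη
  let w₁ : pullback f' ι ⟶ X' := pullback.fst f' ι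
  let q : pullback f' ι ⟶ c.fiber s := pullback.snd f' ι
  have hW : IsPullback w₁ q f' ι := IsPullback.of_hasPullback f' ι
  let u := f.fiberToSpecResidueField s
  let cκ := c.fiberToSpecResidueField s
  have hsub : Subsingleton ↥(Spec (S.residueField s)) :=
    inferInstanceAs (Subsingleton (PrimeSpectrum (S.residueField s)))
  have huo : UniversallyOpen u := inferInstance
  have hfibf : IsPullback (f.fiberι s) u f (S.fromSpecResidueField s) :=
    IsPullback.of_hasPullback f (S.fromSpecResidueField s)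
  have hfibc : ι ≫ c = cκ ≫ S.fromSpecResidueField s := pullback.condition
  let r : pullback f' ι ⟶ f.fiber s := pullback.lift (w₁ ≫ pX) (q ≫ cκ) (by
    rw [Category.assoc, hsq.w, ← Category.assoc, hW.w, Category.assoc, Category.assoc, hfibc])
  have hr1 : r ≫ f.fiberι s = w₁ ≫ pX := pullback.lift_fst _ _ _
  have hr2 : r ≫ u = q ≫ cκ := pullback.lift_snd _ _ _
  have hbig : IsPullback (w₁ ≫ pX) q f (ι ≫ c) := hW.paste_horiz hsq
  rw [← hr1, hfibc] at hbig
  have hleft : IsPullback r q u cκ := IsPullback.of_right hbig hr2 hfibf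
  have hqo : UniversallyOpen q := MorphismProperty.of_isPullback hleft huo
  have hgen : GeneralizingMap q.base := Groth.Agent.Helper5.OpenGen.main q q.isOpenMap
  obtain ⟨ζ, hζ1, hζ2⟩ :=
    Scheme.Pullback.exists_preimage_pullback (f := f') (g := ι) x' σ' hσ'.symm
  have hτq : τ' ⤳ q ζ := by rw [show q ζ = σ' from hζ2]; exact hτσ
  obtain ⟨ζ₁, hζ₁1, hζ₁2⟩ := hgen hτq
  refine ⟨w₁ ζ₁, ?_, ?_⟩
  · have := hζ₁1.map w₁.continuous
    rwa [show w₁ ζ = x' from hζ1] at this
  · have e1 : f' (w₁ ζ₁) = ι (q ζ₁) := congrArg (fun ψ : pullback f' ι ⟶ S' => ψ ζ₁) hW.w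
    rw [e1, show q ζ₁ = τ' from hζ₁2, hτ']

theorem s1939 (S S' X : Scheme.{u}) (δS : S → ℤ) (δS' : S' → ℤ) (_hS : Cyc.IsSetup S δS)
    (_hS' : Cyc.IsSetup S' δS') (g : S' ⟶ S) [Flat g] (c : ℤ)
    (hc : ∀ s' : S', (∀ y, g y = g s' → y ⤳ s' → y = s') → δS' s' = δS (g s') + c)
    (a : X ⟶ S) [LocallyOfFiniteType a] [IsIntegral X] (δX : X → ℤ)
    (hX : Cyc.DeltaCompat a δX δS) (δX' : ↥(pullback a g) → ℤ)
    (hX' : Cyc.DeltaCompat (pullback.snd a g) δX' δS') (k : ℤ)
    (hk : δX (genericPoint X) = k) (x' : ↥(pullback a g))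
    (hx' : ∀ y : ↥(pullback a g), y ⤳ x' → y = x') : δX' x' = k + c := by
  let pX := pullback.fst a g
  let f' := pullback.snd a g
  have hsq : IsPullback pX f' a g := IsPullback.of_hasPullback a g
  have hflat : Flat pX := by dsimp only [pX]; infer_instance
  have hlft' : LocallyOfFiniteType f' := by dsimp only [f']; infer_instance
  -- the first projection of x' is the generic point
  have hx : pX x' = genericPoint X := by
    have hgen : genericPoint X ⤳ pX x' := by
      rw [specializes_iff_mem_closure, (genericPoint_spec X).def]; exact Set.mem_univ _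
    obtain ⟨w', hw'1, hw'2⟩ := (Flat.generalizingMap pX) hgen
    rw [← hw'2, hx' w' hw'1]
  -- the second projection is maximal in its fibre
  have hs' : ∀ y, g y = g (f' x') → y ⤳ f' x' → y = f' x' := by
    intro y hy1 hy2
    obtain ⟨y', hy'1, hy'2⟩ := exists_generization_same_fibre a g pX f' hsq x' y hy2 hy1
    rw [← hy'2, hx' y' hy'1]
  have h1 := hc (f' x') hs'
  -- transcendence degrees agree
  have h2 := Groth.Agent.Helper5.PairPt.resTrdeg_eq_of_isPullback_of_maximal a g pX f' hsq x'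
    (fun w _ _ hw => hx' w hw)
  obtain ⟨n', hn'1, hn'2⟩ := hX' x'
  obtain ⟨n, hn1, hn2⟩ := hX (genericPoint X)
  have hnn : n' = n := by
    have e1 : Dual3.resTrdeg f' x' = (n' : Cardinal.{u}) := hn'1
    have e2 : Dual3.resTrdeg a (genericPoint X) = (n : Cardinal.{u}) := hn1
    rw [h2, hx, e2] at e1
    exact_mod_cast e1.symm
  have hcomm : g (f' x') = a (pX x') := (congrArg (fun ψ : pullback a g ⟶ S => ψ x') hsq.w).symm
  have hn'2' : δX' x' = δS' (f' x') + n' := hn'2
  rw [hn'2', h1, hcomm, hx, hnn, ← hk, hn2]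
  ring

end Groth.Agent.Helper5.CycBC
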