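import Groth.Agent.Helper5.CycDim1
import Groth.Agent.Helper5.StalkDict
import Groth.Agent.Helper5.LocDim1
import Groth.Agent.Helper5.EquiDim1
import Groth.Agent.Helper5.KDim5

set_option autoImplicit false
universe u
open CategoryTheory CategoryTheory.Limits AlgebraicGeometry TopologicalSpace

namespace Groth.Agent.Helper5.CycDim

/-- chains are bounded by the drop of a dimension function -/
theorem length_le_delta {X : Scheme.{u}} (δ : X → ℤ) (hδ : Cyc.IsDimFun X δ) (l : LTSeries X) :
    (l.length : ℤ) ≤ δ l.last - δ l.head := by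
  have key : ∀ i : ℕ, ∀ hi : i < l.length + 1, δ l.head + i ≤ δ (l ⟨i, hi⟩) := by
    intro i
    induction i with
    | zero =>
      intro hi
      simp only [Nat.cast_zero, add_zero]
      exact le_of_eq rfl
    | succ i ih =>
      intro hi
      have h1 := ih (by omega)
      have hlt : l ⟨i, by omega⟩ < l ⟨i + 1, hi⟩ := l.strictMono (by simp [Fin.lt_def])
      have h2 := delta_lt δ hδ _ _ hlt
      push_cast
      omega
  have := key l.length (by omega)
  have hlast : l ⟨l.length, by omega⟩ = l.last := rfl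
  rw [hlast] at this
  omega

/-- (Sat) saturated chains between two points realise the drop of a dimension function -/
theorem exists_chain {X : Scheme.{u}} (δ : X → ℤ) (hδ : Cyc.IsDimFun X δ) :
    ∀ n : ℕ, ∀ ξ z : X, ξ ⤳ z → δ ξ - δ z = n →
      ∃ l : LTSeries X, l.length = n ∧ l.head = z ∧ l.last = ξ := by
  intro n
  induction n with
  | zero =>
    intro ξ z h hn
    have hξz : ξ = z := by
      by_contra hne
      have := (hδ ξ z h hne).1
      simp only [Nat.cast_zero] at hn
      omega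
    exact ⟨RelSeries.singleton _ z, rfl, rfl, by rw [hξz]; rfl⟩
  | succ n ih =>
    intro ξ z h hn
    have hne : ξ ≠ z := by
      intro e
      rw [e] at hn
      push_cast at hn
      omega
    let P : ℤ → Prop := fun m => ∃ w : X, ξ ⤳ w ∧ w ⤳ z ∧ w ≠ ξ ∧ δ w = m
    have hbdd : ∃ b : ℤ, ∀ m : ℤ, P m → m ≤ b := by
      refine ⟨δ ξ, ?_⟩
      rintro m ⟨w, hw1, -, hw3, rfl⟩
      exact ((hδ ξ w hw1 (fun e => hw3 e.symm)).1).le
    have hinh : ∃ m : ℤ, P m := ⟨δ z, z, h, specializes_rfl, fun e => hne e.symm, rfl⟩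
    obtain ⟨m₀, ⟨w₀, hw1, hw2, hw3, hw4⟩, hmax⟩ := Int.exists_greatest_of_bdd hbdd hinh
    have himm : ∀ v : X, ξ ⤳ v → v ⤳ w₀ → v = ξ ∨ v = w₀ := by
      intro v hv1 hv2
      by_contra hcon
      push Not at hcon
      have h1 : δ v ≤ m₀ := hmax (δ v) ⟨v, hv1, hv2.trans hw2, hcon.1, rfl⟩
      have h2 := (hδ v w₀ hv2 hcon.2).1
      omega
    have hstep : δ ξ = δ w₀ + 1 := (hδ ξ w₀ hw1 (fun e => hw3 e.symm)).2 himm
    obtain ⟨l', hl'1, hl'2, hl'3⟩ := ih w₀ z hw2 (by push_cast at hn; omega)
    have hlt : l'.last < ξ := by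
      rw [hl'3]
      exact lt_of_specializes_ne ξ w₀ hw1 (fun e => hw3 e.symm)
    refine ⟨l'.snoc ξ hlt, ?_, ?_, ?_⟩
    · show l'.length + 1 = n + 1
      rw [hl'1]
    · rw [RelSeries.head_snoc]; exact hl'2
    · exact RelSeries.last_snoc _ _ _

/-- (IccDim) the dimension of an interval of points is the drop of a dimension function -/
theorem krullDim_Icc {X : Scheme.{u}} (δ : X → ℤ) (hδ : Cyc.IsDimFun X δ) (ξ z : X) (h : ξ ⤳ z) :
    Order.krullDim ↥(Set.Icc z ξ) = (((δ ξ - δ z).toNat : ℕ) : WithBot ℕ∞) := by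
  have hnn : 0 ≤ δ ξ - δ z := by have := delta_mono δ hδ ξ z h; omega
  apply le_antisymm
  · unfold Order.krullDim
    refine iSup_le fun l => ?_
    let l' : LTSeries X := l.map Subtype.val (fun a b hab => hab)
    have h1 := length_le_delta δ hδ l'
    have h2 : δ l'.last ≤ δ ξ :=
      delta_mono δ hδ ξ l'.last (Scheme.le_iff_specializes.1 (l.last.2.2))
    have h3 : δ z ≤ δ l'.head :=
      delta_mono δ hδ l'.head z (Scheme.le_iff_specializes.1 (l.head.2.1))
    have h4 : l.length ≤ (δ ξ - δ z).toNat := by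
      have : (l'.length : ℤ) ≤ δ ξ - δ z := by omega
      have h5 : l'.length = l.length := rfl
      omega
    exact_mod_cast h4
  · obtain ⟨l, hl1, hl2, hl3⟩ := exists_chain δ hδ (δ ξ - δ z).toNat ξ z h (by omega)
    let l' : LTSeries ↥(Set.Icc z ξ) := LTSeries.mk l.length
      (fun i => ⟨l i, by rw [← hl2]; exact l.monotone (Fin.zero_le i),
        by rw [← hl3]; exact l.monotone (Fin.le_last i)⟩)
      (fun i j hij => l.strictMono hij)
    have := Order.LTSeries.length_le_krullDim l'
    have h5 : l'.length = (δ ξ - δ z).toNat := hl1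
    rw [h5] at this
    exact this

end Groth.Agent.Helper5.CycDim
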