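import Groth.Agent.Helper5.CycDim3

set_option autoImplicit false
universe u
open CategoryTheory CategoryTheory.Limits AlgebraicGeometry TopologicalSpace

namespace Groth.Agent.Helper5.CycDim

theorem s6460 (X : Scheme.{u}) (δ : X → ℤ) (hX : Cyc.IsSetup X δ)
    (h3 : ∀ x : X, ∃ n : ℤ, ∀ ξ : X, (∀ ξ' : X, ξ' ⤳ ξ → ξ' = ξ) → ξ ⤳ x → δ ξ = n) :
    ∃ c : X → ℤ, IsLocallyConstant c ∧ ∀ ξ : X, (∀ ξ' : X, ξ' ⤳ ξ → ξ' = ξ) → δ ξ = c ξ := by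
  have hN : IsLocallyNoetherian X := hX.1
  let c : X → ℤ := fun x => (h3 x).choose
  have hc : ∀ x ξ : X, (∀ ξ' : X, ξ' ⤳ ξ → ξ' = ξ) → ξ ⤳ x → δ ξ = c x :=
    fun x => (h3 x).choose_spec
  refine ⟨c, ?_, fun ξ hξ => hc ξ ξ hξ specializes_rfl⟩
  rw [IsLocallyConstant.iff_exists_open]
  intro x
  obtain ⟨V, hVsub, hVopen, hxV⟩ :=
    mem_nhds_iff.mp (Groth.Agent.Helper5.KLem.components_mem_nhds x)
  refine ⟨V, hVopen, hxV, ?_⟩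
  intro z hz
  obtain ⟨η, hηmax, hηz, hηx⟩ := hVsub hz
  rw [← hc z η hηmax hηz, ← hc x η hηmax hηx]

end Groth.Agent.Helper5.CycDim
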