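import Groth.Agent.Helper5.QfAt1
import Groth.Agent.Helper5.GenComp1
import Groth.Agent.Helper5.PbFibre
import Groth.Prelude.Def_Cyc

set_option autoImplicit false
universe u
open CategoryTheory CategoryTheory.Limits AlgebraicGeometry TopologicalSpace

namespace Groth.Agent.Helper5.CycGen

/-- Residue field extensions at quasi-finite points are finite. -/
theorem finite_residueFieldMap_of_quasiFiniteAt {A B : Scheme.{u}} (h : A ⟶ B)
    (a : ↥A) (hqf : h.QuasiFiniteAt a) : (h.residueFieldMap a).hom.Finite := by
  let i0 : Algebra (B.presheaf.stalk (h a)) (A.presheaf.stalk a) := (h.stalkMap a).hom.toAlgebra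
  have hqf' : Algebra.QuasiFinite (B.presheaf.stalk (h a)) (A.presheaf.stalk a) := hqf
  let i2 : Algebra (B.residueField (h a)) (A.residueField a) := (h.residueFieldMap a).hom.toAlgebra
  let i1 : Algebra (A.presheaf.stalk a) (A.residueField a) := (A.residue a).hom.toAlgebra
  let i4 : Algebra (B.presheaf.stalk (h a)) (B.residueField (h a)) := (B.residue (h a)).hom.toAlgebra
  let i3 : Algebra (B.presheaf.stalk (h a)) (A.residueField a) :=
    ((A.residue a).hom.comp (h.stalkMap a).hom).toAlgebra
  have t1 : IsScalarTower (B.presheaf.stalk (h a)) (A.presheaf.stalk a) (A.residueField a) :=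
    IsScalarTower.of_algebraMap_eq' rfl
  have t2 : IsScalarTower (B.presheaf.stalk (h a)) (B.residueField (h a)) (A.residueField a) := by
    refine IsScalarTower.of_algebraMap_eq' ?_
    ext x
    rfl
  have f1 : Module.Finite (A.presheaf.stalk a) (A.residueField a) :=
    Module.Finite.of_surjective (Algebra.linearMap (A.presheaf.stalk a) (A.residueField a))
      (IsLocalRing.residue_surjective (R := A.presheaf.stalk a))
  have q1 : Algebra.QuasiFinite (B.presheaf.stalk (h a)) (A.residueField a) :=
    Algebra.QuasiFinite.trans _ (A.presheaf.stalk a) _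
  have q2 : Algebra.QuasiFinite (B.residueField (h a)) (A.residueField a) :=
    Algebra.QuasiFinite.of_restrictScalars (B.presheaf.stalk (h a)) _ _
  have f2 : Module.Finite (B.residueField (h a)) (A.residueField a) := Module.Finite.of_quasiFinite
  exact f2

/-- at a point maximal in its fibre, a vanishing residue transcendence degree makes the residue
field extension finite -/
theorem finite_residueFieldMap_of_resTrdeg_eq_zero {X Y : Scheme.{u}} (f : X ⟶ Y)
    [LocallyOfFiniteType f] (x : X) (hmax : ∀ w : X, f w = f x → w ⤳ x → w = x)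
    (h0 : Dual3.resTrdeg f x = 0) : (f.residueFieldMap x).hom.Finite := by
  obtain ⟨n, hn1, hn2⟩ := Groth.Agent.Helper5.MaxPt.fibreDimAt_of_maximal f x
    (Groth.Agent.Helper5.MaxPt.coheight_asFiber_eq_zero f x hmax)
  have h3 : Dual3.resTrdeg f x = (n : Cardinal.{u}) := hn1
  rw [h0] at h3
  have hn0 : n = 0 := by exact_mod_cast h3.symm
  refine finite_residueFieldMap_of_quasiFiniteAt f x
    (Groth.Agent.Helper5.QfAt.quasiFiniteAt_of_fibreDimAt_le_zero f x ?_)
  rw [hn2, hn0]
  rfl

theorem s1862 (X Y : Scheme.{u}) [IsIntegral X] [IsIntegral Y] (δX : X → ℤ) (δY : Y → ℤ)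
    (_hX : Cyc.IsSetup X δX) (_hY : Cyc.IsSetup Y δY) (f : X ⟶ Y) [LocallyOfFiniteType f]
    (hδ : Cyc.DeltaCompat f δX δY) (heq : δX (genericPoint X) = δY (genericPoint Y)) :
    ¬ Dense (Set.range f) ∨ (f (genericPoint X) = genericPoint Y ∧
      (f.residueFieldMap (genericPoint X)).hom.Finite) := by
  by_cases hd : Dense (Set.range f)
  · right
    have hgen : f (genericPoint X) = genericPoint Y :=
      Groth.Agent.Helper5.GenComp.map_genericPoint f hd
    refine ⟨hgen, ?_⟩
    obtain ⟨n, hn1, hn2⟩ := hδ (genericPoint X)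
    rw [hgen, heq] at hn2
    have hn0 : n = 0 := by
      have : (n : ℤ) = 0 := by linarith
      exact_mod_cast this
    refine finite_residueFieldMap_of_resTrdeg_eq_zero f (genericPoint X) ?_ ?_
    · intro w _ hw
      have h2 : genericPoint X ⤳ w := by
        rw [specializes_iff_mem_closure, (genericPoint_spec X).def]; exact Set.mem_univ _
      exact (hw.antisymm h2).eq
    · show Dual3.resTrdeg f (genericPoint X) = 0
      unfold Dual3.resTrdeg
      rw [hn1, hn0]
      rfl
  · left; exact hd

end Groth.Agent.Helper5.CycGen
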