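import Groth.Agent.Helper5.CycGen1
import Groth.Agent.Helper5.KLem10

set_option autoImplicit false
universe u
open CategoryTheory CategoryTheory.Limits AlgebraicGeometry TopologicalSpace

namespace Groth.Agent.Helper5.CycGen

open Groth.Agent.Helper5.KLem

theorem s1861 (X Y : Scheme.{u}) (δX : X → ℤ) (δY : Y → ℤ) (_hX : Cyc.IsSetup X δX)
    (_hY : Cyc.IsSetup Y δY) (f : X ⟶ Y) [Flat f] [LocallyOfFiniteType f] (r : ℕ)
    (hr : Cyc.HasRelDim f r) (hδ : Cyc.DeltaCompat f δX δY) (y : Y) (x : X)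
    (hx : f x ∈ closure ({y} : Set Y))
    (hmax : ∀ x' : X, f x' ∈ closure ({y} : Set Y) → x' ⤳ x → x' = x) :
    f x = y ∧ δX x = δY y + r := by
  have hyx : y ⤳ f x := specializes_iff_mem_closure.mpr hx
  obtain ⟨x', hx'x, hfx'⟩ := (Flat.generalizingMap f) hyx
  have hx'eq : x' = x := hmax x' (by rw [hfx']; exact subset_closure rfl) hx'x
  have hfx : f x = y := by rw [← hx'eq]; exact hfx'
  refine ⟨hfx, ?_⟩
  obtain ⟨n, hn1, hn2⟩ := hδ x
  have hmem : ((n : ℕ) : WithBot ℕ∞) ∈ compDims f y := by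
    rw [mem_compDims_iff]
    refine ⟨x, hfx, ?_, n, hn1, rfl⟩
    intro w hw hwx
    exact hmax w (by rw [hw]; exact subset_closure rfl) hwx
  obtain ⟨T, hT, hTd⟩ := hmem
  have h1 : topologicalKrullDim ↥T = (r : WithBot ℕ∞) := hr y T hT
  have h2 : topologicalKrullDim ↥T = (n : WithBot ℕ∞) := hTd
  have hnr : n = r := by
    have := h2.symm.trans h1
    exact_mod_cast this
  rw [hn2, hfx, hnr]

end Groth.Agent.Helper5.CycGen
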