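import Groth.Agent.Helper5.CycGen2
import Groth.Agent.Helper5.GenComp1
import Groth.Agent.Helper5.FlatRelDim
import Groth.Agent.Helper5.DimFormula8

set_option autoImplicit false
universe u
open CategoryTheory CategoryTheory.Limits AlgebraicGeometry TopologicalSpace

namespace Groth.Agent.Helper5.CycRel

open Groth.Agent.Helper5.KLem Groth.Agent.Helper5.GenDim

/-- (RD) for a flat morphism locally of finite type from an irreducible scheme to a locally
Noetherian scheme, the residue transcendence degree at a point maximal in its fibre is the one at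
the generic point -/
theorem resTrdeg_eq_generic {X Y : Scheme.{u}} (f : X ⟶ Y) [Flat f] [LocallyOfFiniteType f]
    [IrreducibleSpace X] [IsLocallyNoetherian Y] (x : X)
    (hmax : ∀ w : X, f w = f x → w ⤳ x → w = x) :
    Dual3.resTrdeg f x = Dual3.resTrdeg f (genericPoint X) := by
  let ξ := genericPoint X
  have hXN : IsLocallyNoetherian X := LocallyOfFiniteType.isLocallyNoetherian f
  have hξx : ξ ⤳ x := by
    rw [specializes_iff_mem_closure, (genericPoint_spec X).def]; exact Set.mem_univ _
  have hξmax : ∀ w : X, f w = f ξ → w ⤳ ξ → w = ξ := by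
    intro w _ hw
    have h2 : ξ ⤳ w := by
      rw [specializes_iff_mem_closure, (genericPoint_spec X).def]; exact Set.mem_univ _
    exact (hw.antisymm h2).eq
  obtain ⟨n, hn1, hn2⟩ := Groth.Agent.Helper5.MaxPt.fibreDimAt_of_maximal f x
    (Groth.Agent.Helper5.MaxPt.coheight_asFiber_eq_zero f x hmax)
  obtain ⟨m, hm1, hm2⟩ := Groth.Agent.Helper5.MaxPt.fibreDimAt_of_maximal f ξ
    (Groth.Agent.Helper5.MaxPt.coheight_asFiber_eq_zero f ξ hξmax)
  have hn1' : Dual3.resTrdeg f x = (n : Cardinal.{u}) := hn1
  have hm1' : Dual3.resTrdeg f ξ = (m : Cardinal.{u}) := hm1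
  -- Chevalley: m ≤ n
  have hmn : m ≤ n := by
    have := Groth.Agent.Helper5.MaxPt.fibreDimAt_le_of_specializes f ξ x hξx
    rw [hn2, hm2] at this
    exact_mod_cast this
  -- dimension inequality and flatness: n ≤ m
  obtain ⟨ξ₀, a, c, hcomp, -, ha, hc, hineq⟩ :=
    Groth.Agent.Helper5.DimFormula.scheme_dimension_inequality f x
  have hξ₀ : ξ₀ = ξ := by
    have h2 : ξ ⤳ ξ₀ := by
      rw [specializes_iff_mem_closure, (genericPoint_spec X).def]; exact Set.mem_univ _
    exact (Groth.Agent.Helper5.EqAt.max_of_closure_mem_irreducibleComponents ξ₀ hcomp _ h2).symm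
  rw [hξ₀] at hineq
  have hflat := Groth.Agent.Helper5.FlatRelDim.stalk_dim_eq_of_flat' f (f x) (f.asFiber x)
  rw [f.fiberι_asFiber x, ha, hc] at hflat
  have h0 : ringKrullDim ((f.fiber (f x)).presheaf.stalk (f.asFiber x)) = 0 := by
    rw [ringKrullDim_stalk_eq_coheight,
      Groth.Agent.Helper5.MaxPt.coheight_asFiber_eq_zero f x hmax]
    rfl
  rw [h0, add_zero] at hflat
  have hac : a = c := by exact_mod_cast hflat
  have hnm : n ≤ m := by
    have h3 : (a : Cardinal.{u}) + (n : Cardinal.{u}) ≤ (c : Cardinal.{u}) + (m : Cardinal.{u}) := by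
      have := hineq
      rw [show (@Algebra.trdeg (Y.residueField (f x)) (X.residueField x) _ _
        (f.residueFieldMap x).hom.toAlgebra) = (n : Cardinal.{u}) from hn1,
        show (@Algebra.trdeg (Y.residueField (f ξ)) (X.residueField ξ) _ _
        (f.residueFieldMap ξ).hom.toAlgebra) = (m : Cardinal.{u}) from hm1] at this
      exact this
    have h4 : a + n ≤ c + m := by exact_mod_cast h3
    omega
  rw [hn1', hm1']
  exact_mod_cast le_antisymm hnm hmn

theorem s17840 {X Y : Scheme.{u}} (f : X ⟶ Y) [Flat f] [LocallyOfFiniteType f]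
    [IrreducibleSpace X] [IrreducibleSpace Y] (δX : X → ℤ) (δY : Y → ℤ) (hY : Cyc.IsSetup Y δY)
    (hδ : Cyc.DeltaCompat f δX δY) :
    0 ≤ δX (genericPoint X) - δY (genericPoint Y) ∧
      Cyc.HasRelDim f (δX (genericPoint X) - δY (genericPoint Y)).toNat ∧
      ∀ x : X, topologicalKrullDim ↥(f.fiber (f x)) =
        ((δX (genericPoint X) - δY (genericPoint Y)).toNat : WithBot ℕ∞) := by
  have hYN : IsLocallyNoetherian Y := hY.1
  let ξ := genericPoint X
  -- the generic point maps to the generic point
  have hfξ : f ξ = genericPoint Y := by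
    have hgen : genericPoint Y ⤳ f ξ := by
      rw [specializes_iff_mem_closure, (genericPoint_spec Y).def]; exact Set.mem_univ _
    obtain ⟨w, hw1, hw2⟩ := (Flat.generalizingMap f) hgen
    have h2 : ξ ⤳ w := by
      rw [specializes_iff_mem_closure, (genericPoint_spec X).def]; exact Set.mem_univ _
    rw [← hw2, (hw1.antisymm h2).eq]
  obtain ⟨m, hm1, hm2⟩ := hδ ξ
  have hm1' : Dual3.resTrdeg f ξ = (m : Cardinal.{u}) := hm1
  have hd : δX (genericPoint X) - δY (genericPoint Y) = m := by
    have : δX ξ = δY (f ξ) + m := hm2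
    rw [hfξ] at this
    show δX ξ - δY (genericPoint Y) = m
    omega
  rw [hd]
  have hmnat : ((m : ℤ)).toNat = m := Int.toNat_natCast m
  rw [hmnat]
  -- the key: component dimensions of fibres are all `m`
  have hkey : ∀ y : Y, ∀ d ∈ compDims f y, d = (m : WithBot ℕ∞) := by
    intro y d hdmem
    obtain ⟨x, hx, hmax, n, hn, rfl⟩ := (mem_compDims_iff f y d).mp hdmem
    have h1 := resTrdeg_eq_generic f x (fun w hw => hmax w (hw.trans hx))
    rw [hn, hm1'] at h1
    have : n = m := by exact_mod_cast h1
    rw [this]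
  refine ⟨by omega, ?_, ?_⟩
  · intro y T hT
    exact hkey y _ ⟨T, hT, rfl⟩
  · intro x
    apply le_antisymm
    · rw [dim_fiber_eq_preimage]
      have := dim_fibre_inter_closed_le f (f x) Set.univ isClosed_univ (m : WithBot ℕ∞)
        (fun ζ hζ k hk => by
          obtain ⟨z, hz1, -, hz3, hz4, tz, htz1, htz2⟩ :=
            Groth.Agent.Helper5.OpenAt.exists_max_generization_fibreDimAt_eq f ζ
          have h1 := le_fibreDimAt_of_resTrdeg f ζ k (le_of_eq hk.symm)
          rw [← hz4, htz2] at h1
          have hzy : f z = f x := hz1.trans hζ.1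
          have hmem : ((tz : ℕ) : WithBot ℕ∞) ∈ compDims f (f x) := by
            rw [mem_compDims_iff]
            exact ⟨z, hzy, fun w hw hwz => hz3 w (hw.trans hzy.symm |>.trans hz1) hwz, tz, htz1, rfl⟩
          rw [hkey (f x) _ hmem] at h1
          exact h1)
      rwa [Set.inter_univ] at this
    · -- some component exists
      obtain ⟨z, hz1, -, hz3, -, tz, htz1, -⟩ :=
        Groth.Agent.Helper5.OpenAt.exists_max_generization_fibreDimAt_eq f x
      have hmem : ((tz : ℕ) : WithBot ℕ∞) ∈ compDims f (f x) := by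
        rw [mem_compDims_iff]
        exact ⟨z, hz1, fun w hw hwz => hz3 w hw hwz, tz, htz1, rfl⟩
      have htm := hkey (f x) _ hmem
      obtain ⟨T, hT, hTd⟩ := hmem
      have hTd' : topologicalKrullDim ↥T = (tz : WithBot ℕ∞) := hTd
      rw [← htm, ← hTd']
      exact Groth.Agent.Helper5.KDim.dim_set_le T

end Groth.Agent.Helper5.CycRel
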