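import Mathlib

set_option autoImplicit false
universe u

namespace Groth.Agent.Helper5.CyclicInv

open MvPolynomial in
theorem monomial_eq_two {k : Type u} [CommSemiring k] (m : Fin 2 →₀ ℕ) (c : k) :
    (monomial m c : MvPolynomial (Fin 2) k) = C c * (X 0 ^ m 0 * X 1 ^ m 1) := by
  rw [MvPolynomial.monomial_eq, Finsupp.prod_fintype _ _ (fun i => pow_zero _), Fin.prod_univ_two]

open MvPolynomial in
theorem sigma_monomial {k : Type u} [Field k] (a : ℕ) (ζ : k) (m : Fin 2 →₀ ℕ) (c : k) :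
    MvPolynomial.aeval (fun i : Fin 2 => if i = 0 then MvPolynomial.C ζ⁻¹ * MvPolynomial.X 0
        else MvPolynomial.C (ζ⁻¹ ^ a) * (MvPolynomial.X 1 : MvPolynomial (Fin 2) k)) (monomial m c)
      = monomial m (c * ζ⁻¹ ^ (m 0 + a * m 1)) := by
  rw [MvPolynomial.aeval_monomial, Finsupp.prod_fintype _ _ (fun i => pow_zero _), Fin.prod_univ_two,
    monomial_eq_two]
  simp only [if_true, Fin.isValue, one_ne_zero, if_false, mul_pow, algebraMap_eq, C_mul, C_pow,
    pow_add, pow_mul]
  ring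

open MvPolynomial in
theorem coeff_sigma {k : Type u} [Field k] (a : ℕ) (ζ : k) (p : MvPolynomial (Fin 2) k)
    (m : Fin 2 →₀ ℕ) :
    coeff m (MvPolynomial.aeval (fun i : Fin 2 => if i = 0 then MvPolynomial.C ζ⁻¹ * MvPolynomial.X 0
        else MvPolynomial.C (ζ⁻¹ ^ a) * (MvPolynomial.X 1 : MvPolynomial (Fin 2) k)) p)
      = coeff m p * ζ⁻¹ ^ (m 0 + a * m 1) := by
  induction p using MvPolynomial.induction_on' with
  | monomial m' c =>
    rw [sigma_monomial, coeff_monomial, coeff_monomial]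
    split_ifs with h
    · subst h; rfl
    · simp
  | add p q hp hq =>
    rw [map_add, coeff_add, coeff_add, hp, hq, add_mul]

open MvPolynomial in
theorem mono_mem {k : Type u} [Field k] (r a : ℕ) (ha : 0 < a) (har : a < r) :
    ∀ (N i j : ℕ), i + j ≤ N → r ∣ i + a * j →
      (X 0 ^ i * X 1 ^ j : MvPolynomial (Fin 2) k) ∈
        Algebra.adjoin k {q : MvPolynomial (Fin 2) k | ∃ i j : ℕ, i ≤ r ∧ j ≤ r ∧ ¬ (i = r ∧ j = r) ∧
        r ∣ i + a * j ∧ q = MvPolynomial.X 0 ^ i * MvPolynomial.X 1 ^ j} := by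
  have hr : 0 < r := by omega
  have hX : (X 0 ^ r : MvPolynomial (Fin 2) k) ∈
        Algebra.adjoin k {q : MvPolynomial (Fin 2) k | ∃ i j : ℕ, i ≤ r ∧ j ≤ r ∧ ¬ (i = r ∧ j = r) ∧
        r ∣ i + a * j ∧ q = MvPolynomial.X 0 ^ i * MvPolynomial.X 1 ^ j} := by
    apply Algebra.subset_adjoin
    refine ⟨r, 0, le_rfl, hr.le, by omega, by simp, by simp⟩
  have hY : (X 1 ^ r : MvPolynomial (Fin 2) k) ∈
        Algebra.adjoin k {q : MvPolynomial (Fin 2) k | ∃ i j : ℕ, i ≤ r ∧ j ≤ r ∧ ¬ (i = r ∧ j = r) ∧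
        r ∣ i + a * j ∧ q = MvPolynomial.X 0 ^ i * MvPolynomial.X 1 ^ j} := by
    apply Algebra.subset_adjoin
    refine ⟨0, r, hr.le, le_rfl, by omega, by simp, by simp⟩
  intro N
  induction N with
  | zero =>
    intro i j hij _
    have hi : i = 0 := by omega
    have hj : j = 0 := by omega
    subst hi hj
    simp
  | succ N ih =>
    intro i j hij hdvd
    by_cases hi : r < i
    · obtain ⟨i', rfl⟩ : ∃ i', i = r + i' := ⟨i - r, by omega⟩
      have h1 : r ∣ i' + a * j := by
        have : r + i' + a * j = r + (i' + a * j) := by ring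
        rw [this] at hdvd
        exact (Nat.dvd_add_right (dvd_refl r)).mp hdvd
      have := ih i' j (by omega) h1
      rw [pow_add, mul_assoc]
      exact Subalgebra.mul_mem _ hX this
    by_cases hj : r < j
    · obtain ⟨j', rfl⟩ : ∃ j', j = r + j' := ⟨j - r, by omega⟩
      have h1 : r ∣ i + a * j' := by
        have : i + a * (r + j') = r * a + (i + a * j') := by ring
        rw [this] at hdvd
        exact (Nat.dvd_add_right (dvd_mul_right r a)).mp hdvd
      have := ih i j' (by omega) h1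
      rw [pow_add, mul_left_comm]
      exact Subalgebra.mul_mem _ hY this
    by_cases hboth : i = r ∧ j = r
    · rw [hboth.1, hboth.2]
      exact Subalgebra.mul_mem _ hX hY
    · apply Algebra.subset_adjoin
      exact ⟨i, j, by omega, by omega, hboth, hdvd, rfl⟩

end Groth.Agent.Helper5.CyclicInv
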