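import Mathlib
import Groth.Prelude.Def_FlatCA
import Groth.Agent.Helper5.AdicAss1

set_option autoImplicit false
universe u
open TensorProduct IsLocalRing

namespace Groth.Agent.Helper5.DSAss

/-- Nakayama: an endomorphism of a finite module over a local ring with image in `𝔪 P` has
`1 - T` bijective. -/
theorem bijective_id_sub {R : Type u} [CommRing R] [IsLocalRing R] {P : Type u} [AddCommGroup P]
    [Module R P] [Module.Finite R P] (T : P →ₗ[R] P)
    (hT : ∀ p, T p ∈ (maximalIdeal R • ⊤ : Submodule R P)) :
    Function.Bijective (LinearMap.id - T : P →ₗ[R] P) := by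
  have hsurj : Function.Surjective (LinearMap.id - T : P →ₗ[R] P) := by
    rw [← LinearMap.range_eq_top]
    apply top_le_iff.mp
    apply Submodule.le_of_le_smul_of_le_jacobson_bot (I := maximalIdeal R)
      (Module.finite_def.mp inferInstance) (maximalIdeal_le_jacobson ⊥)
    intro p _
    have : p = (LinearMap.id - T : P →ₗ[R] P) p + T p := by simp
    rw [this]
    exact Submodule.add_mem_sup (LinearMap.mem_range_self _ p) (hT p)
  exact ⟨OrzechProperty.injective_of_surjective_endomorphism _ hsurj, hsurj⟩


theorem range_rTensor_mono {R : Type u} [CommRing R] {N : Type u} [AddCommGroup N] [Module R N]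
    (M : Type u) [AddCommGroup M] [Module R M] {P P' : Submodule R N} (h : P ≤ P') :
    LinearMap.range (P.subtype.rTensor M) ≤ LinearMap.range (P'.subtype.rTensor M) := by
  rintro _ ⟨x, rfl⟩
  refine ⟨(Submodule.inclusion h).rTensor M x, ?_⟩
  rw [← LinearMap.comp_apply, ← LinearMap.rTensor_comp, Submodule.subtype_comp_inclusion]

theorem tmul_mem_range_rTensor {R : Type u} [CommRing R] {N : Type u} [AddCommGroup N] [Module R N]
    (M : Type u) [AddCommGroup M] [Module R M] {P : Submodule R N} (n : N) (hn : n ∈ P) (m : M) :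
    n ⊗ₜ[R] m ∈ LinearMap.range (P.subtype.rTensor M) :=
  ⟨(⟨n, hn⟩ : P) ⊗ₜ m, by rw [LinearMap.rTensor_tmul, Submodule.subtype_apply]⟩

section Main

variable {R S : Type u} [CommRing R] [IsLocalRing R] [CommRing S] [Algebra R S]
  (N : Type u) [AddCommGroup N] [Module S N] [Module R N] [IsScalarTower R S N]
  (ι : Type u) [DecidableEq ι] (F : ι → Submodule R N)

/-- the finite partial sums -/
noncomputable def part (T : Finset ι) : Submodule R N := ⨆ i ∈ T, F i

theorem part_mono {T T' : Finset ι} (h : T ⊆ T') : part N ι F T ≤ part N ι F T' :=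
  biSup_mono fun _ hi => h hi

variable {N ι F}

theorem isCompl_part (hF : DirectSum.IsInternal F) (T : Finset ι) :
    IsCompl (part N ι F T) (⨆ i ∈ ((T : Set ι)ᶜ), F i) := by
  constructor
  · exact hF.submodule_iSupIndep.disjoint_biSup_biSup' (s := (T : Set ι)) (t := (T : Set ι)ᶜ)
      disjoint_compl_right T.finite_toSet
  · rw [codisjoint_iff]
    have h1 := iSup_split F (fun i => i ∈ (T : Set ι))
    rw [hF.submodule_iSup_eq_top] at h1
    rw [h1]
    rfl

theorem finite_part (hfin : ∀ i, Module.Finite R (F i)) (T : Finset ι) :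
    Module.Finite R (part N ι F T) := by
  rw [Module.Finite.iff_fg]
  exact Submodule.fg_biSup T F fun i _ => Module.Finite.iff_fg.mp (hfin i)

theorem exists_part (hF : DirectSum.IsInternal F) (M : Type u) [AddCommGroup M] [Module R M]
    (z : N ⊗[R] M) :
    ∃ T : Finset ι, z ∈ LinearMap.range ((part N ι F T).subtype.rTensor M) := by
  classical
  induction z using TensorProduct.induction_on with
  | zero => exact ⟨∅, zero_mem _⟩
  | tmul n m =>
    have hn : n ∈ ⨆ i, F i := by rw [hF.submodule_iSup_eq_top]; trivial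
    obtain ⟨T, hT⟩ := Submodule.exists_finset_of_mem_iSup F hn
    exact ⟨T, tmul_mem_range_rTensor M n hT m⟩
  | add x y hx hy =>
    obtain ⟨T, hx⟩ := hx
    obtain ⟨T', hy⟩ := hy
    exact ⟨T ∪ T', add_mem
      (range_rTensor_mono M (part_mono N ι F Finset.subset_union_left) hx)
      (range_rTensor_mono M (part_mono N ι F Finset.subset_union_right) hy)⟩

omit [DecidableEq ι] in
theorem key {P Q : Submodule R N} (hc : IsCompl P Q) [Module.Finite R P] (b : S)
    (hb : b ∈ (maximalIdeal R).map (algebraMap R S)) (M : Type u) [AddCommGroup M] [Module R M]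
    (z' : P ⊗[R] M) (hz : P.subtype.rTensor M z' = b • (P.subtype.rTensor M z')) : z' = 0 := by
  let incl : P →ₗ[R] N := P.subtype
  let π : N →ₗ[R] P := Submodule.linearProjOfIsCompl _ _ hc
  have hπ : π ∘ₗ incl = LinearMap.id := by
    ext p
    exact congrArg Subtype.val (Submodule.linearProjOfIsCompl_apply_left hc p)
  -- multiplication by `b` as an `R`-linear endomorphism of `N`
  let μ : N →ₗ[R] N :=
    { toFun := fun n => b • n
      map_add' := fun x y => smul_add b x y
      map_smul' := fun r x => by rw [RingHom.id_apply, smul_comm] }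
  let Tm : P →ₗ[R] P := π ∘ₗ μ ∘ₗ incl
  have hμ : ∀ n : N, μ n ∈ (maximalIdeal R • ⊤ : Submodule R N) := by
    intro n
    have := AdicAss.map_smul_mem_pow (maximalIdeal R) N b hb 0 n (by simp)
    show b • n ∈ _
    simpa using this
  have hTm : ∀ p, Tm p ∈ (maximalIdeal R • ⊤ : Submodule R P) := by
    intro p
    show π (μ (incl p)) ∈ _
    have h := hμ (incl p)
    refine Submodule.smul_induction_on h ?_ ?_
    · intro r hr m _
      rw [map_smul]
      exact Submodule.smul_mem_smul hr Submodule.mem_top
    · intro x y hx hy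
      rw [map_add]; exact add_mem hx hy
  have hbij := bijective_id_sub Tm hTm
  let e : P ≃ₗ[R] P := LinearEquiv.ofBijective _ hbij
  have hμz : ∀ w : N ⊗[R] M, (μ.rTensor M) w = b • w := by
    intro w
    induction w using TensorProduct.induction_on with
    | zero => simp
    | tmul n m => rw [LinearMap.rTensor_tmul, TensorProduct.smul_tmul']; rfl
    | add x y hx hy => rw [map_add, hx, hy, smul_add]
  have hkey : ((LinearMap.id - Tm : P →ₗ[R] P).rTensor M) z' = 0 := by
    rw [LinearMap.rTensor_sub, LinearMap.sub_apply, LinearMap.rTensor_id, LinearMap.id_apply,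
      sub_eq_zero]
    show z' = ((π ∘ₗ μ ∘ₗ incl).rTensor M) z'
    rw [LinearMap.rTensor_comp, LinearMap.rTensor_comp, LinearMap.comp_apply, LinearMap.comp_apply]
    rw [hμz, ← hz, ← LinearMap.comp_apply, ← LinearMap.rTensor_comp, hπ,
      LinearMap.rTensor_id, LinearMap.id_apply]
  have hg : (e.symm : P →ₗ[R] P) ∘ₗ (LinearMap.id - Tm : P →ₗ[R] P) = LinearMap.id :=
    LinearMap.ext fun p => e.symm_apply_apply p
  have := congrArg ((e.symm : P →ₗ[R] P).rTensor M) hkey
  rw [← LinearMap.comp_apply, ← LinearMap.rTensor_comp, hg, LinearMap.rTensor_id,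
    LinearMap.id_apply, map_zero] at this
  exact this

theorem s1213 (hF : DirectSum.IsInternal F) (hfin : ∀ i, Module.Finite R (F i))
    (M : Type u) [AddCommGroup M] [Module R M]
    (q : Ideal S) [q.IsPrime] (hq : q ∈ FlatCA.ass S (N ⊗[R] M)) :
    q ⊔ (maximalIdeal R).map (algebraMap R S) ≠ ⊤ := by
  intro htop
  obtain ⟨hqp, z, hz⟩ := hq
  have h1 : (1 : S) ∈ q ⊔ (maximalIdeal R).map (algebraMap R S) := by rw [htop]; trivial
  obtain ⟨a, ha, b, hb, hab⟩ := Submodule.mem_sup.mp h1
  have haz : a • z = 0 := by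
    rw [hz] at ha
    exact (Submodule.mem_annihilator_span_singleton z a).mp ha
  have hbz : z = b • z := by
    have : z = (a + b) • z := by rw [hab, one_smul]
    rwa [add_smul, haz, zero_add] at this
  obtain ⟨T, z', hz'⟩ := exists_part hF M z
  haveI : Module.Finite R (part N ι F T) := finite_part hfin T
  have hz'0 : z' = 0 := key (isCompl_part hF T) b hb M z' (by rw [hz']; exact hbz)
  have hz0 : z = 0 := by rw [← hz', hz'0, map_zero]
  apply hqp.ne_top
  rw [hz, hz0, Submodule.annihilator_eq_top_iff]
  simp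

end Main

end Groth.Agent.Helper5.DSAss
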