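import Mathlib
import Groth.Prelude.Def_FlatCA
import Groth.Agent.Helper5.DSAss1

set_option autoImplicit false
universe u
open TensorProduct IsLocalRing

namespace Groth.Agent.Helper5.DSAss

section

variable {R S : Type u} [CommRing R] [IsLocalRing R] [CommRing S] [Algebra R S]
  {N : Type u} [AddCommGroup N] [Module S N] [Module R N] [IsScalarTower R S N]

/-- version of `key` for a retract `N` of an `R`-module `L`. -/
theorem key' {L : Type u} [AddCommGroup L] [Module R L] (ι : N →ₗ[R] L) (ρ : L →ₗ[R] N)
    (hρι : ρ ∘ₗ ι = LinearMap.id) {P Q : Submodule R L} (hc : IsCompl P Q) [Module.Finite R P]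
    (b : S) (hb : b ∈ (maximalIdeal R).map (algebraMap R S)) (M : Type u) [AddCommGroup M]
    [Module R M] (z : N ⊗[R] M) (hz : z = b • z) (w : P ⊗[R] M)
    (hw : P.subtype.rTensor M w = ι.rTensor M z) : z = 0 := by
  let incl : P →ₗ[R] L := P.subtype
  let π : L →ₗ[R] P := Submodule.linearProjOfIsCompl _ _ hc
  have hπ : π ∘ₗ incl = LinearMap.id := by
    ext p
    exact congrArg Subtype.val (Submodule.linearProjOfIsCompl_apply_left hc p)
  let μ : N →ₗ[R] N :=
    { toFun := fun n => b • n
      map_add' := fun x y => smul_add b x y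
      map_smul' := fun r x => by rw [RingHom.id_apply, smul_comm] }
  let Tm : P →ₗ[R] P := π ∘ₗ ι ∘ₗ μ ∘ₗ ρ ∘ₗ incl
  have hμ : ∀ n : N, μ n ∈ (maximalIdeal R • ⊤ : Submodule R N) := by
    intro n
    have := AdicAss.map_smul_mem_pow (maximalIdeal R) N b hb 0 n (by simp)
    show b • n ∈ _
    simpa using this
  have hTm : ∀ p, Tm p ∈ (maximalIdeal R • ⊤ : Submodule R P) := by
    intro p
    show π (ι (μ (ρ (incl p)))) ∈ _
    have h := hμ (ρ (incl p))
    refine Submodule.smul_induction_on h ?_ ?_
    · intro r hr m _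
      rw [map_smul, map_smul]
      exact Submodule.smul_mem_smul hr Submodule.mem_top
    · intro x y hx hy
      rw [map_add, map_add]; exact add_mem hx hy
  have hbij := bijective_id_sub Tm hTm
  let e : P ≃ₗ[R] P := LinearEquiv.ofBijective _ hbij
  have hμz : ∀ v : N ⊗[R] M, (μ.rTensor M) v = b • v := by
    intro v
    induction v using TensorProduct.induction_on with
    | zero => simp
    | tmul n m => rw [LinearMap.rTensor_tmul, TensorProduct.smul_tmul']; rfl
    | add x y hx hy => rw [map_add, hx, hy, smul_add]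
  have hρz : (ρ.rTensor M) ((ι.rTensor M) z) = z := by
    rw [← LinearMap.comp_apply, ← LinearMap.rTensor_comp, hρι, LinearMap.rTensor_id,
      LinearMap.id_apply]
  have hkey : ((LinearMap.id - Tm : P →ₗ[R] P).rTensor M) w = 0 := by
    rw [LinearMap.rTensor_sub, LinearMap.sub_apply, LinearMap.rTensor_id, LinearMap.id_apply,
      sub_eq_zero]
    show w = ((π ∘ₗ ι ∘ₗ μ ∘ₗ ρ ∘ₗ incl).rTensor M) w
    rw [LinearMap.rTensor_comp, LinearMap.rTensor_comp, LinearMap.rTensor_comp,
      LinearMap.rTensor_comp, LinearMap.comp_apply, LinearMap.comp_apply, LinearMap.comp_apply,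
      LinearMap.comp_apply]
    rw [show (incl.rTensor M) w = (ι.rTensor M) z from hw, hρz, hμz, ← hz, ← hw,
      ← LinearMap.comp_apply, ← LinearMap.rTensor_comp, hπ, LinearMap.rTensor_id,
      LinearMap.id_apply]
  have hg : (e.symm : P →ₗ[R] P) ∘ₗ (LinearMap.id - Tm : P →ₗ[R] P) = LinearMap.id :=
    LinearMap.ext fun p => e.symm_apply_apply p
  have hw0 := congrArg ((e.symm : P →ₗ[R] P).rTensor M) hkey
  rw [← LinearMap.comp_apply, ← LinearMap.rTensor_comp, hg, LinearMap.rTensor_id,
    LinearMap.id_apply, map_zero] at hw0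
  rw [← hρz, ← hw, hw0, map_zero, map_zero]

end

section Free

variable {R : Type u} [CommRing R] (α : Type u)

/-- the coordinate lines of a free module -/
noncomputable def line (a : α) : Submodule R (α →₀ R) :=
  LinearMap.range (Finsupp.lsingle a : R →ₗ[R] α →₀ R)

theorem isInternal_line [DecidableEq α] : DirectSum.IsInternal (line (R := R) α) := by
  apply DirectSum.isInternal_submodule_of_iSupIndep_of_iSup_eq_top
  · intro a
    have := Finsupp.disjoint_lsingle_lsingle (R := R) (M := R) ({a} : Set α) {j | j ≠ a}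
      (by rw [Set.disjoint_left]; rintro x hx hx'; exact hx' hx)
    simpa [line] using this
  · exact Finsupp.iSup_lsingle_range

theorem finite_line (a : α) : Module.Finite R (line (R := R) α a) :=
  Module.Finite.range _

end Free

theorem s1212 {R S : Type u} [CommRing R] [IsLocalRing R] [CommRing S] [Algebra R S]
    (N : Type u) [AddCommGroup N] [Module S N] [Module R N] [IsScalarTower R S N] [Module.Projective R N]
    (M : Type u) [AddCommGroup M] [Module R M]
    (q : Ideal S) [q.IsPrime]
    (hq : q ∈ FlatCA.ass S (N ⊗[R] M)) :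
    q ⊔ (maximalIdeal R).map (algebraMap R S) ≠ ⊤ := by
  classical
  intro htop
  obtain ⟨hqp, z, hz⟩ := hq
  have h1 : (1 : S) ∈ q ⊔ (maximalIdeal R).map (algebraMap R S) := by rw [htop]; trivial
  obtain ⟨a, ha, b, hb, hab⟩ := Submodule.mem_sup.mp h1
  have haz : a • z = 0 := by
    rw [hz] at ha
    exact (Submodule.mem_annihilator_span_singleton z a).mp ha
  have hbz : z = b • z := by
    have : z = (a + b) • z := by rw [hab, one_smul]
    rwa [add_smul, haz, zero_add] at this
  obtain ⟨s, hs⟩ := Module.projective_def'.mp (inferInstance : Module.Projective R N)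
  obtain ⟨T, w, hw⟩ := exists_part (isInternal_line (R := R) N) M (s.rTensor M z)
  haveI : Module.Finite R (part (N →₀ R) N (line (R := R) N) T) :=
    finite_part (fun a => finite_line N a) T
  have hz0 : z = 0 := key' s (Finsupp.linearCombination R id) hs
    (isCompl_part (isInternal_line (R := R) N) T) b hb M z hbz w hw
  apply hqp.ne_top
  rw [hz, hz0, Submodule.annihilator_eq_top_iff]
  simp

end Groth.Agent.Helper5.DSAss
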