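import Groth.Agent.Helper5.DTBij

universe u
open CategoryTheory CategoryTheory.Limits Opposite LocCoh

namespace Groth.Agent.Helper5.DTCor

open Groth.Agent.Helper5.DTApi Groth.Agent.Helper5.DTKer Groth.Agent.Helper5.DTBij

variable {R : Type u} [CommRing R] (I : Ideal R)

/-- the map `r ↦ r • m` on `I^n` as a morphism. -/
def smulMor (n : ℕ) (M : ModuleCat.{u} R) (m : M) : ModuleCat.of R ↥(I ^ n) ⟶ M :=
  ModuleCat.ofHom (((LinearMap.lsmul R M).domRestrict (I ^ n)).flip m)

theorem smulMor_hom_apply (n : ℕ) (M : ModuleCat.{u} R) (m : M) (r : ↥(I ^ n)) :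
    (smulMor I n M m).hom r = (r : R) • m := rfl

theorem toDT_apply' (M : Type u) [AddCommGroup M] [Module R M] (m : M) :
    toDT I M m = ι I (ModuleCat.of R M) 0 (smulMor I 0 (ModuleCat.of R M) m) := rfl

theorem res_smulMor {n k : ℕ} (h : n ≤ k) (M : ModuleCat.{u} R) (m : M) :
    res I M h (smulMor I n M m) = smulMor I k M m := rfl

/-- S11590 (no Noetherian needed) -/
theorem ker_toDT (M : Type u) [AddCommGroup M] [Module R M] :
    LinearMap.ker (LocCoh.toDT I M) = DRing.torsionSub I M := by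
  ext m
  rw [LinearMap.mem_ker, toDT_apply', ι_eq_zero_iff]
  constructor
  · rintro ⟨k, hk, h⟩
    refine ⟨k, fun a ha => ?_⟩
    have := congrArg (fun t => t.hom ⟨a, ha⟩) h
    simp only [res_hom, LinearMap.coe_comp, Function.comp_apply] at this
    exact this
  · rintro ⟨k, hk⟩
    refine ⟨k, Nat.zero_le k, ?_⟩
    apply ModuleCat.hom_ext
    rw [res_hom]
    ext ⟨a, ha⟩
    exact hk a ha

/-- S11594 -/
theorem DT_subsingleton [IsNoetherianRing R] (N : Type u) [AddCommGroup N] [Module R N]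
    (hN : LocCoh.IsPowerTorsion I N) : Subsingleton (LocCoh.DT I N) := by
  refine subsingleton_of_forall_eq 0 fun x => ?_
  obtain ⟨n, f, rfl⟩ := exists_rep I _ x
  obtain ⟨k, hk⟩ := exists_comp_inclusion_eq_zero I f.hom (fun x => hN _)
  rw [ι_eq_zero_iff]
  exact ⟨k + n, Nat.le_add_left n k, ModuleCat.hom_ext hk⟩

/-- S11595 -/
theorem map_mkQ_bijective [IsNoetherianRing R] (M : Type u) [AddCommGroup M] [Module R M] :
    Function.Bijective ((LocCoh.idealTransform I).map
      (ModuleCat.ofHom (DRing.torsionSub I M).mkQ)).hom := by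
  apply map_bijective
  · rw [Submodule.ker_mkQ]
  · intro x
    refine ⟨0, fun a _ => ?_⟩
    have : x = 0 := by
      obtain ⟨y, rfl⟩ := Submodule.Quotient.mk_surjective _ x
      rw [Submodule.Quotient.mk_eq_zero, Submodule.range_mkQ]
      exact Submodule.mem_top
    rw [this, smul_zero]


theorem smul_ι_eq_toDT (M : Type u) [AddCommGroup M] [Module R M] {n : ℕ}
    (f : ModuleCat.of R ↥(I ^ n) ⟶ ModuleCat.of R M) (a : R) (ha : a ∈ I ^ n) :
    a • ι I (ModuleCat.of R M) n f = toDT I M (f.hom ⟨a, ha⟩) := by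
  rw [← map_smul, toDT_apply', ← ι_res I _ (Nat.zero_le n) (smulMor I 0 _ _), res_smulMor]
  congr 1
  apply ModuleCat.hom_ext
  ext ⟨s, hs⟩
  rw [ModuleCat.hom_smul, LinearMap.smul_apply, smulMor_hom_apply, ← map_smul, ← map_smul]
  congr 1
  apply Subtype.ext
  simp [mul_comm]

theorem coker_toDT_isPowerTorsion (M : Type u) [AddCommGroup M] [Module R M] :
    LocCoh.IsPowerTorsion I (LocCoh.DT I M ⧸ LinearMap.range (LocCoh.toDT I M)) := by
  intro x
  obtain ⟨y, rfl⟩ := Submodule.Quotient.mk_surjective _ x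
  obtain ⟨n, f, rfl⟩ := exists_rep I _ y
  refine ⟨n, fun a ha => ?_⟩
  rw [← Submodule.Quotient.mk_smul, Submodule.Quotient.mk_eq_zero, smul_ι_eq_toDT I M f a ha]
  exact ⟨_, rfl⟩

/-- S11596 -/
theorem map_toDT_bijective [IsNoetherianRing R] (M : Type u) [AddCommGroup M] [Module R M] :
    Function.Bijective ((LocCoh.idealTransform I).map (ModuleCat.ofHom (LocCoh.toDT I M))).hom := by
  apply map_bijective
  · rw [ker_toDT]
  · exact coker_toDT_isPowerTorsion I M


theorem toDT_naturality {M M' : Type u} [AddCommGroup M] [Module R M]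
    [AddCommGroup M'] [Module R M'] (e : M →ₗ[R] M') (m : M) :
    ((idealTransform I).map (ModuleCat.ofHom e)).hom (toDT I M m) = toDT I M' (e m) := by
  rw [toDT_apply', map_ι, toDT_apply']
  congr 1
  apply ModuleCat.hom_ext
  ext ⟨s, hs⟩
  simp only [ModuleCat.hom_comp, ModuleCat.hom_ofHom, LinearMap.coe_comp, Function.comp_apply]
  rw [smulMor_hom_apply, smulMor_hom_apply, map_smul]

/-- first half of S11597 -/
theorem torsionSub_DT_eq_bot [IsNoetherianRing R] (M : Type u) [AddCommGroup M] [Module R M] :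
    DRing.torsionSub I (LocCoh.DT I M) = ⊥ := by
  rw [eq_bot_iff]
  rintro x ⟨k, hk⟩
  rw [Submodule.mem_bot]
  obtain ⟨n, f, rfl⟩ := exists_rep I _ x
  rw [← ι_res I _ (le_max_left n k) f] at hk ⊢
  set f' := res I _ (le_max_left n k) f with hf'
  have h1 : ∀ x, f'.hom x ∈ DRing.torsionSub I M := by
    rintro ⟨a, ha⟩
    rw [← ker_toDT, LinearMap.mem_ker, ← smul_ι_eq_toDT I M f' a ha]
    exact hk a (Ideal.pow_le_pow_right (le_max_right n k) ha)
  obtain ⟨k', hk'⟩ := exists_comp_inclusion_eq_zero I f'.hom h1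
  rw [ι_eq_zero_iff]
  exact ⟨k' + max n k, Nat.le_add_left _ _, ModuleCat.hom_ext hk'⟩

theorem eq_of_comp_eq [IsNoetherianRing R] {M M' K : Type u} [AddCommGroup M] [Module R M]
    [AddCommGroup M'] [Module R M'] [AddCommGroup K] [Module R K] (e : M →ₗ[R] M')
    (hcoker : LocCoh.IsPowerTorsion I (M' ⧸ LinearMap.range e))
    (α β : M' →ₗ[R] LocCoh.DT I K) (h : α ∘ₗ e = β ∘ₗ e) : α = β := by
  apply LinearMap.ext
  intro x
  rw [← sub_eq_zero]
  have : α x - β x ∈ DRing.torsionSub I (LocCoh.DT I K) := by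
    obtain ⟨n, hn⟩ := hcoker (Submodule.Quotient.mk x)
    refine ⟨n, fun a ha => ?_⟩
    have h2 := hn a ha
    rw [← Submodule.Quotient.mk_smul, Submodule.Quotient.mk_eq_zero] at h2
    obtain ⟨m, hm⟩ := h2
    rw [smul_sub, ← map_smul, ← map_smul, ← hm, sub_eq_zero]
    exact congrArg (fun φ => φ m) h
  rw [torsionSub_DT_eq_bot] at this
  exact this

/-- S11601 -/
theorem factor_bijective [IsNoetherianRing R] {M M' K : Type u} [AddCommGroup M] [Module R M]
    [AddCommGroup M'] [Module R M'] [AddCommGroup K] [Module R K] (e : M →ₗ[R] M')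
    (hker : LinearMap.ker e ≤ DRing.torsionSub I M)
    (hcoker : LocCoh.IsPowerTorsion I (M' ⧸ LinearMap.range e))
    (ψ : M →ₗ[R] K) (hψ : Function.Bijective ψ) (ψ' : M' →ₗ[R] LocCoh.DT I K)
    (hψ' : ψ' ∘ₗ e = LocCoh.toDT I K ∘ₗ ψ) (hη : Function.Bijective (LocCoh.toDT I M')) :
    Function.Bijective ψ' := by
  set De := ((idealTransform I).map (ModuleCat.ofHom e)).hom with hDe
  have hDeb : Function.Bijective De := map_bijective I e hker hcoker
  set Dψ := ((idealTransform I).map (ModuleCat.ofHom ψ)).hom with hDψ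
  have hDψb : Function.Bijective Dψ := by
    apply map_bijective
    · rw [LinearMap.ker_eq_bot.mpr hψ.1]; exact bot_le
    · intro x
      refine ⟨0, fun a _ => ?_⟩
      have : x = 0 := by
        obtain ⟨y, rfl⟩ := Submodule.Quotient.mk_surjective _ x
        rw [Submodule.Quotient.mk_eq_zero, LinearMap.range_eq_top.mpr hψ.2]
        exact Submodule.mem_top
      rw [this, smul_zero]
  let Dee := LinearEquiv.ofBijective De hDeb
  set F : M' →ₗ[R] LocCoh.DT I K := Dψ ∘ₗ Dee.symm.toLinearMap ∘ₗ LocCoh.toDT I M' with hF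
  have hFb : Function.Bijective F := by
    rw [hF]
    exact hDψb.comp (Dee.symm.bijective.comp hη)
  have : ψ' = F := by
    apply eq_of_comp_eq I e hcoker
    rw [hψ']
    apply LinearMap.ext
    intro m
    simp only [hF, LinearMap.coe_comp, LinearEquiv.coe_coe, Function.comp_apply]
    rw [← toDT_naturality I e m]
    have : Dee.symm (((idealTransform I).map (ModuleCat.ofHom e)).hom (toDT I M m)) = toDT I M m :=
      Dee.symm_apply_apply _
    rw [this, hDψ, toDT_naturality]
  rw [this]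
  exact hFb

end Groth.Agent.Helper5.DTCor
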