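import Groth.Agent.Helper5.DTApi
import Mathlib.RingTheory.Filtration

universe u
open CategoryTheory CategoryTheory.Limits Opposite LocCoh

namespace Groth.Agent.Helper5.DTKer

open Groth.Agent.Helper5.DTApi

variable {R : Type u} [CommRing R] (I : Ideal R)

theorem exists_pow_kill {M : Type u} [AddCommGroup M] [Module R M] (L : Submodule R M) (hfg : L.FG)
    (ht : ∀ x ∈ L, x ∈ DRing.torsionSub I M) : ∃ k : ℕ, ∀ a ∈ I ^ k, ∀ x ∈ L, a • x = 0 := by
  revert ht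
  refine Submodule.fg_induction (motive := fun L _ => (∀ x ∈ L, x ∈ DRing.torsionSub I M) →
    ∃ k : ℕ, ∀ a ∈ I ^ k, ∀ x ∈ L, a • x = 0) ?_ ?_ L hfg
  · intro x hx
    obtain ⟨n, hn⟩ := hx x (Submodule.mem_span_singleton_self x)
    refine ⟨n, fun a ha y hy => ?_⟩
    obtain ⟨r, rfl⟩ := Submodule.mem_span_singleton.mp hy
    rw [smul_comm, hn a ha, smul_zero]
  · intro L₁ L₂ _ _ h₁ h₂ h
    obtain ⟨k₁, hk₁⟩ := h₁ (fun x hx => h x (Submodule.mem_sup_left hx))
    obtain ⟨k₂, hk₂⟩ := h₂ (fun x hx => h x (Submodule.mem_sup_right hx))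
    refine ⟨max k₁ k₂, fun a ha x hx => ?_⟩
    obtain ⟨y, hy, z, hz, rfl⟩ := Submodule.mem_sup.mp hx
    rw [smul_add, hk₁ a (Ideal.pow_le_pow_right (le_max_left _ _) ha) y hy,
      hk₂ a (Ideal.pow_le_pow_right (le_max_right _ _) ha) z hz, add_zero]

theorem mle {k m : ℕ} {w : R} (hw : w ∈ I ^ k * I ^ m) : w ∈ I ^ m :=
  Ideal.mul_le_right (I := I ^ k) (J := I ^ m) hw

/-- restriction of a linear map on `I^m` to `I^(k+m)`. -/
theorem comp_inclusion_eq_zero {M : Type u} [AddCommGroup M] [Module R M] {m k : ℕ}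
    (φ : ↥(I ^ m) →ₗ[R] M) (h : ∀ a ∈ I ^ k, ∀ x ∈ LinearMap.range φ, a • x = 0) :
    φ ∘ₗ Submodule.inclusion (Ideal.pow_le_pow_right (Nat.le_add_left m k)) = 0 := by
  ext ⟨z, hz⟩
  have hz' : z ∈ I ^ k * I ^ m := by rwa [← pow_add]
  simp only [LinearMap.coe_comp, Function.comp_apply, LinearMap.zero_apply]
  have key : ∀ (w : R) (hw : w ∈ I ^ k * I ^ m), φ ⟨w, mle I hw⟩ = 0 := by
    intro w hw
    refine Submodule.mul_induction_on' (C := fun w hw => φ ⟨w, mle I hw⟩ = 0) ?_ ?_ hw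
    · intro a ha b hb
      have : (⟨a * b, mle I (Submodule.mul_mem_mul ha hb)⟩ : ↥(I ^ m)) = a • ⟨b, hb⟩ :=
        Subtype.ext (by simp)
      rw [this, map_smul]
      exact h a ha _ ⟨_, rfl⟩
    · intro x hx y hy h1 h2
      have : (⟨x + y, mle I (add_mem hx hy)⟩ : ↥(I ^ m)) =
        ⟨x, mle I hx⟩ + ⟨y, mle I hy⟩ := Subtype.ext (by simp)
      rw [this, map_add, h1, h2, add_zero]
  exact key z hz'

/-- A linear map from `I^m` (Noetherian) with torsion image vanishes on a deeper power. -/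
theorem exists_comp_inclusion_eq_zero [IsNoetherianRing R] {M : Type u} [AddCommGroup M] [Module R M]
    {m : ℕ} (φ : ↥(I ^ m) →ₗ[R] M) (h : ∀ x, φ x ∈ DRing.torsionSub I M) :
    ∃ k : ℕ, φ ∘ₗ Submodule.inclusion (Ideal.pow_le_pow_right (Nat.le_add_left m k)) = 0 := by
  have hfg : (LinearMap.range φ).FG := by
    rw [LinearMap.range_eq_map]
    exact (Module.Finite.fg_top).map φ
  obtain ⟨k, hk⟩ := exists_pow_kill I (LinearMap.range φ) hfg (by rintro _ ⟨x, rfl⟩; exact h x)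
  exact ⟨k, comp_inclusion_eq_zero I φ hk⟩

end Groth.Agent.Helper5.DTKer

namespace Groth.Agent.Helper5.DTKer

open Groth.Agent.Helper5.DTApi

variable {R : Type u} [CommRing R] (I : Ideal R)

theorem map_inclusion_mem {M : Type u} [AddCommGroup M] [Module R M] {m k : ℕ}
    (φ : ↥(I ^ m) →ₗ[R] M) (N : Submodule R M)
    (h : ∀ a ∈ I ^ k, ∀ x ∈ LinearMap.range φ, a • x ∈ N)
    (w : ↥(I ^ (k + m))) :
    φ (Submodule.inclusion (Ideal.pow_le_pow_right (Nat.le_add_left m k)) w) ∈ N := by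
  obtain ⟨z, hz⟩ := w
  have hz' : z ∈ I ^ k * I ^ m := by rwa [← pow_add]
  have key : ∀ (w : R) (hw : w ∈ I ^ k * I ^ m), φ ⟨w, mle I hw⟩ ∈ N := by
    intro w hw
    refine Submodule.mul_induction_on' (C := fun w hw => φ ⟨w, mle I hw⟩ ∈ N) ?_ ?_ hw
    · intro a ha b hb
      have : (⟨a * b, mle I (Submodule.mul_mem_mul ha hb)⟩ : ↥(I ^ m)) = a • ⟨b, hb⟩ :=
        Subtype.ext (by simp)
      rw [this, map_smul]
      exact h a ha _ ⟨_, rfl⟩
    · intro x hx y hy h1 h2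
      have : (⟨x + y, mle I (add_mem hx hy)⟩ : ↥(I ^ m)) =
        ⟨x, mle I hx⟩ + ⟨y, mle I hy⟩ := Subtype.ext (by simp)
      rw [this, map_add]
      exact N.add_mem h1 h2
  exact key z hz'

theorem res_hom (M : ModuleCat.{u} R) {n m : ℕ} (h : n ≤ m) (f : ModuleCat.of R ↥(I ^ n) ⟶ M) :
    (res I M h f).hom = f.hom ∘ₗ Submodule.inclusion (Ideal.pow_le_pow_right h) := rfl

theorem mem_torsionSub_of_isPowerTorsion {M : Type u} [AddCommGroup M] [Module R M]
    (h : IsPowerTorsion I M) (x : M) : x ∈ DRing.torsionSub I M := h x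

end Groth.Agent.Helper5.DTKer
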