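import Groth.Agent.Helper5.DecJac1
import Groth.Agent.Helper5.UnramLqf
import Mathlib

set_option autoImplicit false
universe u

namespace Groth.Agent.Helper5.DecJac

open CategoryTheory CategoryTheory.Limits AlgebraicGeometry Opposite AlgSp Topology
open Groth.Agent.Helper4.AlgSpPtsDesc Groth.Agent.Helper4.AlgSpQC2

variable {S : Scheme.{u}}

/-- the image of a closed point of a chart of a decent Jacobson space is closed -/
theorem isClosed_image_of_isClosed_singleton {X : Sp S} (hX : IsAlgSpace X) (hd : IsDecent X)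
    {U₀ : Over S} (a₀ : (yon S).obj U₀ ⟶ X) (ha₀e : RepWith @Etale a₀)
    (ha₀s : RepWith @Surjective a₀) [JacobsonSpace ↥U₀.left]
    {U : Over S} (a : (yon S).obj U ⟶ X) (ha : RepWith @Etale a) (u : ↥U.left)
    (hcl : IsClosed ({u} : Set ↥U.left)) :
    IsClosed ({Points.ofPt a u} : Set (Points X)) := by
  have hquot : IsQuotientMap (Points.ofPt a₀) :=
    (Groth.Agent.Helper5.Decent3.isOpenMap_ofPt hX a₀ ha₀e).isQuotientMap
      (Points.continuous_ofPt a₀)
      (Groth.Agent.Helper5.AlgSpOpen.ofPt_surjective_of_repWith a₀ ha₀s)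
  rw [← hquot.isClosed_preimage]
  have sq := ha.rep.isPullback a₀
  obtain ⟨p₁, hp₁⟩ := (yon S).map_surjective (ha.rep.fst a₀)
  rw [← hp₁] at sq
  have het2 : Etale (ha.rep.snd a₀).left := ha.property a₀ _ _ sq
  have het1 : Etale p₁.left := ha₀e.property a _ _ sq.flip
  clear hp₁
  generalize ha.rep.snd a₀ = p₂ at sq het2
  generalize ha.rep.pullback a₀ = R at p₁ p₂ sq het1 het2
  have hlqf : LocallyQuasiFinite p₁.left :=
    Groth.Agent.Helper5.UnramLqf.locallyQuasiFinite_of_unramified p₁.left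
  set F₀ : Set ↥U₀.left := Points.ofPt a₀ ⁻¹' {Points.ofPt a u} with hF₀
  have hFcl : ∀ u' ∈ F₀, IsClosed ({u'} : Set ↥U₀.left) := by
    intro u' hu'
    obtain ⟨r, hr1, hr2⟩ := Groth.Agent.Helper5.Decent2.exists_scheme_point_of_isPullback sq u u'
      (Eq.symm hu')
    have hdisc := Scheme.Hom.isDiscrete_preimage_singleton p₁.left u
    have hc : IsClosed (p₁.left ⁻¹' {u}) := hcl.preimage p₁.left.continuous
    have hr : IsClosed ({r} : Set ↥R.left) := by
      rw [← closure_eq_iff_isClosed]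
      apply Set.Subset.antisymm _ subset_closure
      intro r' hr'
      have hsp : r ⤳ r' := specializes_iff_mem_closure.2 hr'
      have hr'm : r' ∈ p₁.left ⁻¹' {u} :=
        (hc.closure_subset_iff.2 (Set.singleton_subset_iff.2 hr1)) hr'
      exact (hdisc.eq_of_specializes hsp hr1 hr'm).symm
    have := p₂.left.closePoints_subset_preimage_closedPoints hr
    rw [← hr2]
    exact this
  rw [← isOpen_compl_iff, isOpen_iff_forall_mem_open]
  intro w hw
  obtain ⟨_, ⟨(O : U₀.left.Opens), hO, rfl⟩, hwO, -⟩ :=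
    (U₀.left.isBasis_affineOpens).exists_subset_of_mem_open (Set.mem_univ w) isOpen_univ
  have hfin : (F₀ ∩ (O : Set ↥U₀.left)).Finite := by
    have h1 := finite_fibres_of_isDecent hd (Points.ofPt a u) (Over.mk (O.ι ≫ U₀.hom))
      ((yon S).map (Over.homMk O.ι rfl : Over.mk (O.ι ≫ U₀.hom) ⟶ U₀) ≫ a₀) hO
      (Groth.Agent.Helper5.MonoQuot.repWith_etale_restrict a₀ ha₀e O)
    have h4 := h1.image (fun w : ↥O => (w : ↥U₀.left))
    refine h4.subset ?_
    rintro w' ⟨hw'F, hw'O⟩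
    refine ⟨⟨w', hw'O⟩, ?_, rfl⟩
    show Points.ofPt ((yon S).map (Over.homMk O.ι rfl : Over.mk (O.ι ≫ U₀.hom) ⟶ U₀) ≫ a₀)
      ⟨w', hw'O⟩ = _
    rw [ofPt_yon_map_comp]
    exact hw'F
  have hcl' : IsClosed (F₀ ∩ (O : Set ↥U₀.left)) := by
    have h := hfin.isClosed_biUnion (f := fun u' => ({u'} : Set ↥U₀.left))
      (fun u' hu' => hFcl u' hu'.1)
    rwa [Set.biUnion_of_singleton] at h
  refine ⟨(O : Set ↥U₀.left) ∩ (F₀ ∩ (O : Set ↥U₀.left))ᶜ, ?_, O.isOpen.inter hcl'.isOpen_compl,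
    ⟨hwO, fun h => hw h.1⟩⟩
  rintro w' ⟨hw'O, hw'n⟩ hw'F
  exact hw'n ⟨hw'F, hw'O⟩

/-- S10403 -/
theorem s10403 (X : Space S) (hd : IsDecent X.obj)
    (hX : EtaleLocally (fun U => JacobsonSpace ↥U) X.obj) (x : Points X.obj) :
    HasAt (fun U u => IsClosed ({u} : Set ↥U)) X.obj x ↔ IsClosed ({x} : Set (Points X.obj)) := by
  obtain ⟨U₀, a₀, ha₀e, ha₀s, hJ⟩ := hX
  haveI : JacobsonSpace ↥U₀.left := hJ
  constructor
  · rintro ⟨U, a, u, ha, rfl, hcl⟩
    exact isClosed_image_of_isClosed_singleton X.property hd a₀ ha₀e ha₀s a ha u hcl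
  · intro hcl
    obtain ⟨u₀, hu₀⟩ := Groth.Agent.Helper5.AlgSpOpen.ofPt_surjective_of_repWith a₀ ha₀s x
    obtain ⟨O, hu₀O, hO⟩ := Groth.Agent.Helper5.MonoQuot.exists_open_isolating x
      (finite_fibres_of_isDecent hd x) a₀ ha₀e u₀ hu₀
    refine ⟨Over.mk (O.ι ≫ U₀.hom),
      (yon S).map (Over.homMk O.ι rfl : Over.mk (O.ι ≫ U₀.hom) ⟶ U₀) ≫ a₀, ⟨u₀, hu₀O⟩,
      Groth.Agent.Helper5.MonoQuot.repWith_etale_restrict a₀ ha₀e O, ?_, ?_⟩
    · rw [ofPt_yon_map_comp]
      exact hu₀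
    · have h1 : IsClosed (Points.ofPt ((yon S).map (Over.homMk O.ι rfl :
          Over.mk (O.ι ≫ U₀.hom) ⟶ U₀) ≫ a₀) ⁻¹' {x}) :=
        hcl.preimage (Points.continuous_ofPt _)
      have h2 : Points.ofPt ((yon S).map (Over.homMk O.ι rfl :
          Over.mk (O.ι ≫ U₀.hom) ⟶ U₀) ≫ a₀) ⁻¹' {x} = {(⟨u₀, hu₀O⟩ : ↥O)} := by
        ext w
        simp only [Set.mem_preimage, Set.mem_singleton_iff]
        rw [ofPt_yon_map_comp]
        constructor
        · intro hw
          exact Subtype.ext (hO _ w.2 hw)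
        · rintro rfl
          exact hu₀
      rw [h2] at h1
      exact h1

/-- S10404 -/
theorem s10404 (X : Space S) (hd : IsDecent X.obj) :
    EtaleLocally (fun U => JacobsonSpace ↥U) X.obj ↔ JacobsonSpace (Points X.obj) := by
  constructor
  · rintro ⟨U₀, a₀, ha₀e, ha₀s, hJ⟩
    haveI : JacobsonSpace ↥U₀.left := hJ
    rw [jacobsonSpace_iff_locallyClosed]
    intro Z hne hZ
    have hZ' : IsLocallyClosed (Points.ofPt a₀ ⁻¹' Z) := hZ.preimage (Points.continuous_ofPt a₀)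
    have hne' : (Points.ofPt a₀ ⁻¹' Z).Nonempty := by
      obtain ⟨z, hz⟩ := hne
      obtain ⟨u, rfl⟩ := Groth.Agent.Helper5.AlgSpOpen.ofPt_surjective_of_repWith a₀ ha₀s z
      exact ⟨u, hz⟩
    obtain ⟨u, huZ, hucl⟩ := nonempty_inter_closedPoints hne' hZ'
    exact ⟨Points.ofPt a₀ u, huZ,
      isClosed_image_of_isClosed_singleton X.property hd a₀ ha₀e ha₀s a₀ ha₀e u hucl⟩
  · intro hJ
    obtain ⟨U, a, hae, has⟩ := X.property.atlas
    refine ⟨U, a, hae, has, ?_⟩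
    show JacobsonSpace ↥U.left
    rw [jacobsonSpace_iff_locallyClosed]
    intro Z hne hZ
    obtain ⟨z, hzZ, hzlc⟩ := exists_isLocallyClosed_singleton U.left Z hne hZ
    have h1 := isLocallyClosed_image_of_isLocallyClosed_singleton X.property hd a hae z hzlc
    have h2 := isClosed_singleton_of_isLocallyClosed_singleton h1
    exact ⟨z, hzZ, isClosed_singleton_of_isClosed_image hd a hae z h2⟩

end Groth.Agent.Helper5.DecJac
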