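import Groth.Agent.Helper5.DecJac1
import Groth.Agent.Helper5.EtLocTransfer
import Mathlib

set_option autoImplicit false
universe u

namespace Groth.Agent.Helper5.DecJac

open CategoryTheory CategoryTheory.Limits AlgebraicGeometry Opposite AlgSp Topology
open Groth.Agent.Helper4.AlgSpPtsDesc Groth.Agent.Helper4.AlgSpQC2

variable {S : Scheme.{u}}

/-- the Jacobson property descends along etale surjective morphisms of schemes -/
theorem jacobsonSpace_of_etale_surjective {W' W : Scheme.{u}} (c : W' ⟶ W) [Etale c]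
    [Surjective c] [JacobsonSpace ↥W'] : JacobsonSpace ↥W := by
  rw [jacobsonSpace_iff_locallyClosed]
  intro Z hne hZ
  obtain ⟨z, hzZ, hzlc⟩ := exists_isLocallyClosed_singleton W Z hne hZ
  refine ⟨z, hzZ, ?_⟩
  have hlqf : LocallyQuasiFinite c :=
    Groth.Agent.Helper5.UnramLqf.locallyQuasiFinite_of_unramified c
  have hdisc := Scheme.Hom.isDiscrete_preimage_singleton c z
  have hlc : IsLocallyClosed (c ⁻¹' {z}) := hzlc.preimage c.continuous
  have hclosed : ∀ w' : ↥W', c w' = z → IsClosed ({w'} : Set ↥W') := by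
    intro w' hw'
    apply isClosed_singleton_of_isLocallyClosed_singleton
    haveI : DiscreteTopology ↥(c ⁻¹' {z}) := hdisc.to_subtype
    have hop : IsOpen ({⟨w', hw'⟩} : Set ↥(c ⁻¹' {z})) := isOpen_discrete _
    obtain ⟨O, hO, hOw⟩ := isOpen_induced_iff.1 hop
    have : ({w'} : Set ↥W') = O ∩ (c ⁻¹' {z}) := by
      ext y
      constructor
      · rintro rfl
        refine ⟨?_, hw'⟩
        have : (⟨y, hw'⟩ : ↥(c ⁻¹' {z})) ∈ Subtype.val ⁻¹' O := by rw [hOw]; rfl
        exact this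
      · rintro ⟨hyO, hyz⟩
        have : (⟨y, hyz⟩ : ↥(c ⁻¹' {z})) ∈ ({⟨w', hw'⟩} : Set ↥(c ⁻¹' {z})) := by
          rw [← hOw]; exact hyO
        rw [Set.mem_singleton_iff] at this
        exact congrArg Subtype.val this
    rw [this]
    exact hO.isLocallyClosed.inter hlc
  rw [mem_closedPoints_iff, ← closure_eq_iff_isClosed]
  apply Set.Subset.antisymm _ subset_closure
  intro z₁ hz₁
  have hsp : z ⤳ z₁ := specializes_iff_mem_closure.2 hz₁
  obtain ⟨w₁, hw₁⟩ := c.surjective z₁
  have hgen : GeneralizingMap c := Flat.generalizingMap c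
  obtain ⟨w'', hw''sp, hw''⟩ := hgen (a := w₁) (b := z) (by rw [hw₁]; exact hsp)
  have h1 := hclosed w'' hw''
  have h2 : w₁ ∈ closure ({w''} : Set ↥W') := specializes_iff_mem_closure.1 hw''sp
  rw [h1.closure_eq] at h2
  rw [Set.mem_singleton_iff] at h2
  rw [Set.mem_singleton_iff, ← hw₁, h2, hw'']

/-- S10402 -/
theorem s10402 (X : Space S) (hX : EtaleLocally (fun U => JacobsonSpace ↥U) X.obj)
    (x : Points X.obj) (hx : HasAt (fun U u => IsClosed ({u} : Set ↥U)) X.obj x) {W : Over S}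
    (g : (yon S).obj W ⟶ X.obj) (hg : LocP @LocallyOfFiniteType g)
    (hxW : x ∈ Set.range (Points.ofPt g)) :
    ∃ w : ↥W.left, IsClosed ({w} : Set ↥W.left) ∧ Points.ofPt g w = x := by
  obtain ⟨U, a, u, ha, rfl, hucl⟩ := hx
  obtain ⟨w₀, hw₀⟩ := hxW
  -- W is Jacobson
  have hWJ : EtaleLocally (fun U => JacobsonSpace ↥U) ((yon S).obj W) :=
    Groth.Agent.Helper5.EtLocTransfer.etaleLocally_of_locP @LocallyOfFiniteType
      (fun U => JacobsonSpace ↥U) (by
        intro A B g hg hB
        have : LocallyOfFiniteType g := hg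
        have : JacobsonSpace ↥B := hB
        exact LocallyOfFiniteType.jacobsonSpace g) (IsAlgSpace.yon_obj W) g hg hX
  obtain ⟨W', c', hc'e, hc's, hW'J⟩ := hWJ
  obtain ⟨c, rfl⟩ := (yon S).map_surjective c'
  haveI : Etale c.left := (repWith_yon_map_iff _ _).1 hc'e
  haveI : Surjective c.left := (repWith_yon_map_iff _ _).1 hc's
  haveI : JacobsonSpace ↥W'.left := hW'J
  haveI hWJ' : JacobsonSpace ↥W.left := jacobsonSpace_of_etale_surjective c.left
  -- the fibre product
  have sq := ha.rep.isPullback g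
  obtain ⟨π₂, hπ₂⟩ := (yon S).map_surjective (ha.rep.fst g)
  rw [← hπ₂] at sq
  have het : Etale (ha.rep.snd g).left := ha.property g _ _ sq
  clear hπ₂
  generalize ha.rep.snd g = π₁ at sq het
  generalize ha.rep.pullback g = P at π₁ π₂ sq het
  have hlft : LocallyOfFiniteType π₂.left :=
    hg ((yon S).map π₁) a π₂ ((repWith_yon_map_iff _ _).2 het) ha sq.w.symm
  haveI : JacobsonSpace ↥P.left := LocallyOfFiniteType.jacobsonSpace π₁.left
  obtain ⟨p₀, hp₀1, -⟩ := Groth.Agent.Helper5.Decent2.exists_scheme_point_of_isPullback sq u w₀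
    hw₀.symm
  have hFc : IsClosed (π₂.left ⁻¹' {u}) := hucl.preimage π₂.left.continuous
  obtain ⟨p, hpF, hpcl⟩ := nonempty_inter_closedPoints (X := ↥P.left) ⟨p₀, hp₀1⟩ hFc.isLocallyClosed
  refine ⟨π₁.left p, π₁.left.closePoints_subset_preimage_closedPoints hpcl, ?_⟩
  rw [← ofPt_yon_map_comp, ← sq.w, ofPt_yon_map_comp]
  exact congrArg (Points.ofPt a) hpF

end Groth.Agent.Helper5.DecJac
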