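import Groth.Agent.Helper5.DecJac1
import Mathlib

set_option autoImplicit false
universe u

namespace Groth.Agent.Helper5.DecJac

open CategoryTheory CategoryTheory.Limits AlgebraicGeometry Opposite AlgSp Topology
open Groth.Agent.Helper4.AlgSpPtsDesc Groth.Agent.Helper4.AlgSpQC2

variable {S : Scheme.{u}}

/-- a point of a decent space all of whose preimages in an atlas are closed points is closed -/
theorem isClosed_singleton_of_forall_isClosed {X : Sp S} (hX : IsAlgSpace X) (hd : IsDecent X)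
    {U₀ : Over S} (a₀ : (yon S).obj U₀ ⟶ X) (ha₀e : RepWith @Etale a₀)
    (ha₀s : RepWith @Surjective a₀) (x : Points X)
    (hFcl : ∀ u' : ↥U₀.left, Points.ofPt a₀ u' = x → IsClosed ({u'} : Set ↥U₀.left)) :
    IsClosed ({x} : Set (Points X)) := by
  have hquot : IsQuotientMap (Points.ofPt a₀) :=
    (Groth.Agent.Helper5.Decent3.isOpenMap_ofPt hX a₀ ha₀e).isQuotientMap
      (Points.continuous_ofPt a₀)
      (Groth.Agent.Helper5.AlgSpOpen.ofPt_surjective_of_repWith a₀ ha₀s)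
  rw [← hquot.isClosed_preimage]
  set F₀ : Set ↥U₀.left := Points.ofPt a₀ ⁻¹' {x} with hF₀
  rw [← isOpen_compl_iff, isOpen_iff_forall_mem_open]
  intro w hw
  obtain ⟨_, ⟨(O : U₀.left.Opens), hO, rfl⟩, hwO, -⟩ :=
    (U₀.left.isBasis_affineOpens).exists_subset_of_mem_open (Set.mem_univ w) isOpen_univ
  have hfin : (F₀ ∩ (O : Set ↥U₀.left)).Finite := by
    have h1 := finite_fibres_of_isDecent hd x (Over.mk (O.ι ≫ U₀.hom))
      ((yon S).map (Over.homMk O.ι rfl : Over.mk (O.ι ≫ U₀.hom) ⟶ U₀) ≫ a₀) hO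
      (Groth.Agent.Helper5.MonoQuot.repWith_etale_restrict a₀ ha₀e O)
    have h4 := h1.image (fun w : ↥O => (w : ↥U₀.left))
    refine h4.subset ?_
    rintro w' ⟨hw'F, hw'O⟩
    refine ⟨⟨w', hw'O⟩, ?_, rfl⟩
    show Points.ofPt ((yon S).map (Over.homMk O.ι rfl : Over.mk (O.ι ≫ U₀.hom) ⟶ U₀) ≫ a₀)
      ⟨w', hw'O⟩ = _
    rw [ofPt_yon_map_comp]
    exact hw'F
  have hcl' : IsClosed (F₀ ∩ (O : Set ↥U₀.left)) := by
    have h := hfin.isClosed_biUnion (f := fun u' => ({u'} : Set ↥U₀.left))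
      (fun u' hu' => hFcl u' hu'.1)
    rwa [Set.biUnion_of_singleton] at h
  refine ⟨(O : Set ↥U₀.left) ∩ (F₀ ∩ (O : Set ↥U₀.left))ᶜ, ?_, O.isOpen.inter hcl'.isOpen_compl,
    ⟨hwO, fun h => hw h.1⟩⟩
  rintro w' ⟨hw'O, hw'n⟩ hw'F
  exact hw'n ⟨hw'F, hw'O⟩

/-- a point of a scheme which is closed in every affine open containing it is closed -/
theorem isClosed_singleton_of_affine_opens (U : Scheme.{u}) (u : ↥U)
    (h : ∀ (O : U.Opens), IsAffineOpen O → ∀ hu : u ∈ O, IsClosed ({⟨u, hu⟩} : Set ↥O)) :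
    IsClosed ({u} : Set ↥U) := by
  rw [← closure_eq_iff_isClosed]
  apply Set.Subset.antisymm _ subset_closure
  intro u₁ hu₁
  have hsp : u ⤳ u₁ := specializes_iff_mem_closure.2 hu₁
  obtain ⟨_, ⟨(O : U.Opens), hO, rfl⟩, hu₁O, -⟩ :=
    (U.isBasis_affineOpens).exists_subset_of_mem_open (Set.mem_univ u₁) isOpen_univ
  have huO : u ∈ O := hsp.mem_open O.isOpen hu₁O
  have hcl := h O hO huO
  have hsp' : (⟨u, huO⟩ : ↥O) ⤳ ⟨u₁, hu₁O⟩ := (subtype_specializes_iff _ _).2 hsp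
  have h2 : (⟨u₁, hu₁O⟩ : ↥O) ∈ closure ({⟨u, huO⟩} : Set ↥O) := specializes_iff_mem_closure.1 hsp'
  rw [hcl.closure_eq, Set.mem_singleton_iff] at h2
  rw [Set.mem_singleton_iff]
  exact congrArg Subtype.val h2

end Groth.Agent.Helper5.DecJac
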