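import Mathlib
import Groth.Agent.Helper5.MonoQuot9

/-!
# S10356: reduced decent one-point spaces are spectra of fields
-/

set_option autoImplicit false
universe u

namespace Groth.Agent.Helper5.MonoQuot

open CategoryTheory CategoryTheory.Limits AlgebraicGeometry Opposite AlgSp

variable {S : Scheme.{u}}

/-- an etale chart all of whose points lie over a point with finite fibres in affine etale
charts is a discrete space -/
theorem discreteTopology_of_finite_fibres {X : Sp S} (x : Points X)
    (hx : ∀ (V : Over S) (b : (yon S).obj V ⟶ X), IsAffine V.left → RepWith @Etale b →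
      (Points.ofPt b ⁻¹' {x}).Finite)
    {U : Over S} (a : (yon S).obj U ⟶ X) (ha : RepWith @Etale a)
    (hall : ∀ u : ↥U.left, Points.ofPt a u = x) : DiscreteTopology ↥U.left := by
  rw [discreteTopology_iff_isOpen_singleton]
  intro u
  obtain ⟨_, ⟨(V₀ : U.left.Opens), hV₀, rfl⟩, huV, -⟩ :=
    (U.left.isBasis_affineOpens).exists_subset_of_mem_open (Set.mem_univ u) isOpen_univ
  have hfin : (V₀ : Set ↥U.left).Finite := by
    have h1 := hx (Over.mk (V₀.ι ≫ U.hom))
      ((yon S).map (Over.homMk V₀.ι rfl : Over.mk (V₀.ι ≫ U.hom) ⟶ U) ≫ a) hV₀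
      (repWith_etale_restrict a ha V₀)
    have h2 : (Points.ofPt ((yon S).map (Over.homMk V₀.ι rfl : Over.mk (V₀.ι ≫ U.hom) ⟶ U) ≫ a) ⁻¹'
        {x}) = Set.univ := by
      ext w
      simp only [Set.mem_preimage, Set.mem_singleton_iff, Set.mem_univ, iff_true]
      rw [Groth.Agent.Helper4.AlgSpPtsDesc.ofPt_yon_map_comp]
      exact hall _
    rw [h2] at h1
    have h3 : (Set.univ : Set ↥V₀).Finite := h1
    have h4 := h3.image (fun w : ↥V₀ => (w : ↥U.left))
    refine h4.subset ?_
    intro w hw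
    exact ⟨⟨w, hw⟩, Set.mem_univ _, rfl⟩
  have hC : IsClosed (⋃ u' ∈ ((V₀ : Set ↥U.left) \ {u}), closure ({u'} : Set ↥U.left)) :=
    (hfin.subset Set.sdiff_subset).isClosed_biUnion (fun _ _ => isClosed_closure)
  have heq : ({u} : Set ↥U.left) =
      (V₀ : Set ↥U.left) ∩ (⋃ u' ∈ ((V₀ : Set ↥U.left) \ {u}), closure ({u'} : Set ↥U.left))ᶜ := by
    ext v
    simp only [Set.mem_singleton_iff, Set.mem_inter_iff, Set.mem_compl_iff, Set.mem_iUnion,
      Set.mem_sdiff, not_exists]
    constructor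
    · rintro rfl
      refine ⟨huV, ?_⟩
      rintro u' ⟨hu'V, hu'ne⟩ hcl
      have hsp : u' ⤳ v := specializes_iff_mem_closure.2 hcl
      exact hu'ne
        (Groth.Agent.Helper5.Decent2.eq_of_specializes_of_finite_fibres x hx a ha v u'
          (hall _) (hall _) hsp).symm
    · rintro ⟨hvV, hv⟩
      by_contra hne
      exact hv v ⟨hvV, hne⟩ (subset_closure rfl)
  rw [heq]
  exact V₀.isOpen.inter hC.isOpen_compl

theorem mono_morphismRestrict {A B : Scheme.{u}} (e : A ⟶ B) [Mono e] (O : B.Opens) :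
    Mono (e ∣_ O) := by
  have h : e ∣_ O = (pullbackRestrictIsoRestrict e O).inv ≫ pullback.snd _ _ := rfl
  rw [h]
  infer_instance

/-- a surjective monomorphism onto a reduced discrete scheme is an isomorphism -/
theorem isIso_of_mono_surjective_discrete {W U : Scheme.{u}} (e : W ⟶ U) [Mono e]
    (hs : Function.Surjective e) [DiscreteTopology ↥U] [IsReduced U] : IsIso e := by
  let O : ↥U → U.Opens := fun u => ⟨{u}, isOpen_discrete _⟩
  have hO : ⨆ u, O u = ⊤ := by
    rw [eq_top_iff]
    intro u _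
    exact TopologicalSpace.Opens.mem_iSup.2 ⟨u, rfl⟩
  show MorphismProperty.isomorphisms Scheme.{u} e
  rw [IsZariskiLocalAtTarget.iff_of_iSup_eq_top (P := MorphismProperty.isomorphisms Scheme.{u}) O hO]
  intro u
  show IsIso (e ∣_ O u)
  haveI : Mono (e ∣_ O u) := mono_morphismRestrict e (O u)
  haveI : Subsingleton ↥(O u).toScheme :=
    ⟨fun a b => Subtype.ext ((show a.1 = u from a.2).trans (show b.1 = u from b.2).symm)⟩
  haveI : Nonempty ↥(O u).toScheme := ⟨⟨u, rfl⟩⟩
  haveI : Nonempty ↥(e ⁻¹ᵁ O u).toScheme := by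
    obtain ⟨w, hw⟩ := hs u
    exact ⟨⟨w, hw⟩⟩
  haveI : IsReduced (O u).toScheme := inferInstance
  haveI : IsIntegral (O u).toScheme :=
    (isIntegral_iff_irreducibleSpace_and_isReduced _).mpr ⟨⟨inferInstance⟩, inferInstance⟩
  letI := (isField_of_isIntegral_of_subsingleton (O u).toScheme).toField
  haveI h : IsIso ((e ∣_ O u) ≫ (O u).toScheme.isoSpec.hom) :=
    Groth.Agent.Helper4.AlgSpInj.isIso_of_mono_to_field (K := Γ((O u).toScheme, ⊤))
      ((e ∣_ O u) ≫ (O u).toScheme.isoSpec.hom)
  exact IsIso.of_isIso_comp_right (e ∣_ O u) (O u).toScheme.isoSpec.hom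

theorem s10356 (X : Space S) (hX : IsDecent X.obj)
    (hr : EtaleLocally (fun U => IsReduced U) X.obj)
    [Nonempty (Points X.obj)] [Subsingleton (Points X.obj)] :
    ∃ (k : Type u) (_ : Field k) (str : Spec (CommRingCat.of k) ⟶ S),
      Nonempty ((yon S).obj (Over.mk str) ≅ X.obj) := by
  obtain ⟨U, φ, hφ, hφs, hred⟩ := hr
  obtain ⟨x⟩ := ‹Nonempty (Points X.obj)›
  obtain ⟨p, hp, hm, hqc⟩ := hX x
  haveI := hm
  have hx : ∀ (V : Over S) (b : (yon S).obj V ⟶ X.obj), IsAffine V.left → RepWith @Etale b →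
      (Points.ofPt b ⁻¹' {x}).Finite := by
    intro V b hV hb
    haveI : IsAffine V.left := hV
    rw [← hp]
    exact Groth.Agent.Helper5.Decent2.finite_fibre_of_qc_point p hqc b hb
  haveI : DiscreteTopology ↥U.left :=
    discreteTopology_of_finite_fibres x hx φ hφ (fun u => Subsingleton.elim _ _)
  haveI : IsReduced U.left := hred
  have sqW := hφ.rep.isPullback p.toHom
  obtain ⟨e, he⟩ := (yon S).map_surjective (hφ.rep.fst p.toHom)
  rw [← he] at sqW
  clear he
  generalize hφ.rep.snd p.toHom = c at sqW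
  generalize hφ.rep.pullback p.toHom = W at e c sqW
  have hme : Mono ((yon S).map e) := sqW.mono_fst_of_mono
  have hme' : Mono e := (yon S).mono_of_mono_map hme
  haveI hme'' : Mono e.left := inferInstance
  let s₀ : ↥p.pt.left := (IsLocalRing.closedPoint p.K : ↥(Spec (CommRingCat.of p.K)))
  have hsurj : Function.Surjective e.left := by
    intro u
    obtain ⟨z, hz, -⟩ := Groth.Agent.Helper5.Decent2.exists_scheme_point_of_isPullback sqW u s₀
      (Subsingleton.elim _ _)
    exact ⟨z, hz⟩
  haveI : IsIso e.left := isIso_of_mono_surjective_discrete e.left hsurj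
  haveI : IsIso e := by
    have : IsIso ((Over.forget S).map e) := ‹IsIso e.left›
    exact isIso_of_reflects_iso _ (Over.forget S)
  haveI hepi : Epi φ := Groth.Agent.Helper5.SchImg.epi_of_etale_surjective φ hφ hφs
  have h1 : (yon S).map (inv e ≫ c) ≫ p.toHom = φ := by
    rw [Functor.map_comp, Category.assoc, ← sqW.w, ← Category.assoc, ← Functor.map_comp,
      IsIso.inv_hom_id, CategoryTheory.Functor.map_id, Category.id_comp]
  haveI : Epi ((yon S).map (inv e ≫ c) ≫ p.toHom) := by rw [h1]; exact hepi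
  haveI : Epi p.toHom := epi_of_epi ((yon S).map (inv e ≫ c)) p.toHom
  haveI : IsIso p.toHom := isIso_of_mono_of_epi _
  exact ⟨p.K, inferInstance, p.str, ⟨asIso p.toHom⟩⟩

end Groth.Agent.Helper5.MonoQuot
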