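import Mathlib
import Groth.Agent.Helper5.MonoQuot13
import Groth.Agent.Helper5.RedDesc
import Groth.Agent.Helper4.AlgSpDesc
import Groth.Agent.Helper4.AlgSpDesc2
import Groth.Agent.Lead.SchDescent4

/-!
# S10359: closed points of decent spaces are represented by closed immersions
-/

set_option autoImplicit false
universe u

namespace Groth.Agent.Helper5.MonoQuot

open CategoryTheory CategoryTheory.Limits AlgebraicGeometry Opposite AlgSp

variable {S : Scheme.{u}}

/-- a monomorphism from a nonempty scheme to a reduced one-point scheme is an isomorphism -/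
theorem isIso_of_mono_to_point {Z T : Scheme.{u}} (m : Z ⟶ T) [Mono m] [Nonempty ↥Z]
    [Subsingleton ↥T] [IsReduced T] : IsIso m := by
  haveI : Nonempty ↥T := ⟨m (Classical.arbitrary _)⟩
  haveI : IsIntegral T :=
    (isIntegral_iff_irreducibleSpace_and_isReduced _).mpr ⟨⟨inferInstance⟩, inferInstance⟩
  letI := (isField_of_isIntegral_of_subsingleton T).toField
  haveI h : IsIso (m ≫ T.isoSpec.hom) :=
    Groth.Agent.Helper4.AlgSpInj.isIso_of_mono_to_field (K := Γ(T, ⊤)) (m ≫ T.isoSpec.hom)
  exact IsIso.of_isIso_comp_right m T.isoSpec.hom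

/-- the points of a fibre over a point with finite fibres in affine etale charts are isolated in
the fibre -/
theorem exists_open_isolating {X : Sp S} (x : Points X)
    (hx : ∀ (V : Over S) (b : (yon S).obj V ⟶ X), IsAffine V.left → RepWith @Etale b →
      (Points.ofPt b ⁻¹' {x}).Finite)
    {U : Over S} (a : (yon S).obj U ⟶ X) (ha : RepWith @Etale a) (u : ↥U.left)
    (hu : Points.ofPt a u = x) :
    ∃ O : U.left.Opens, u ∈ O ∧ ∀ u' ∈ O, Points.ofPt a u' = x → u' = u := by
  obtain ⟨_, ⟨(V₀ : U.left.Opens), hV₀, rfl⟩, huV, -⟩ :=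
    (U.left.isBasis_affineOpens).exists_subset_of_mem_open (Set.mem_univ u) isOpen_univ
  set F : Set ↥U.left := (V₀ : Set ↥U.left) ∩ (Points.ofPt a ⁻¹' {x}) with hF
  have hfin : F.Finite := by
    have h1 := hx (Over.mk (V₀.ι ≫ U.hom))
      ((yon S).map (Over.homMk V₀.ι rfl : Over.mk (V₀.ι ≫ U.hom) ⟶ U) ≫ a) hV₀
      (repWith_etale_restrict a ha V₀)
    have h4 := h1.image (fun w : ↥V₀ => (w : ↥U.left))
    refine h4.subset ?_
    rintro w ⟨hwV, hw⟩
    refine ⟨⟨w, hwV⟩, ?_, rfl⟩
    show Points.ofPt ((yon S).map (Over.homMk V₀.ι rfl : Over.mk (V₀.ι ≫ U.hom) ⟶ U) ≫ a)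
      ⟨w, hwV⟩ = x
    rw [Groth.Agent.Helper4.AlgSpPtsDesc.ofPt_yon_map_comp]
    exact hw
  have hC : IsClosed (⋃ u' ∈ (F \ {u}), closure ({u'} : Set ↥U.left)) :=
    (hfin.subset Set.sdiff_subset).isClosed_biUnion (fun _ _ => isClosed_closure)
  refine ⟨V₀ ⊓ ⟨_, hC.isOpen_compl⟩, ⟨huV, ?_⟩, ?_⟩
  · show u ∉ ⋃ u' ∈ (F \ {u}), closure ({u'} : Set ↥U.left)
    simp only [Set.mem_iUnion, not_exists]
    rintro u' ⟨⟨hu'V, hu'x⟩, hu'ne⟩ hcl
    have hsp : u' ⤳ u := specializes_iff_mem_closure.2 hcl
    exact hu'ne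
      (Groth.Agent.Helper5.Decent2.eq_of_specializes_of_finite_fibres x hx a ha u u'
        hu hu'x hsp).symm
  · rintro u' ⟨hu'V, hu'C⟩ hu'x
    by_contra hne
    apply hu'C
    simp only [Set.mem_iUnion]
    exact ⟨u', ⟨⟨hu'V, hu'x⟩, hne⟩, subset_closure rfl⟩

/-- A monomorphism from a scheme etale over a field whose image is closed and consists of
isolated points (in the image) is a closed immersion. -/
theorem isClosedImmersion_of_mono_etale_field {W U : Scheme.{u}} {k : Type u} [Field k]
    (e : W ⟶ U) [Mono e] (c : W ⟶ Spec (CommRingCat.of k)) [Etale c]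
    (hcl : IsClosed (Set.range e))
    (hiso : ∀ w : ↥W, ∃ O : U.Opens, e w ∈ O ∧ ∀ w' : ↥W, e w' ∈ O → w' = w) :
    IsClosedImmersion e := by
  have hinj : Function.Injective e := e.injective
  haveI : LocallyQuasiFinite c :=
    Groth.Agent.Helper5.UnramLqf.locallyQuasiFinite_of_unramified c
  haveI : IsLocallyArtinian W := IsLocallyArtinian.of_locallyQuasiFinite c
  haveI : DiscreteTopology ↥W := inferInstance
  haveI : IsReduced W := Groth.Agent.Helper5.RedDesc.isReduced_of_smooth c
  -- embedding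
  have hemb : Topology.IsEmbedding e := by
    refine ⟨⟨le_antisymm e.continuous.le_induced ?_⟩, hinj⟩
    intro s _
    rw [isOpen_induced_iff]
    choose O hO1 hO2 using hiso
    refine ⟨⋃ w ∈ s, (O w : Set ↥U), isOpen_biUnion (fun w _ => (O w).isOpen), ?_⟩
    ext w'
    simp only [Set.mem_preimage, Set.mem_iUnion]
    constructor
    · rintro ⟨w, hws, hw'⟩
      rw [hO2 w w' hw']
      exact hws
    · intro hw'
      exact ⟨w', hw', hO1 w'⟩
  -- surjective on stalks
  haveI hsurj : SurjectiveOnStalks e := by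
    let O : ↥W → W.Opens := fun w => ⟨{w}, isOpen_discrete _⟩
    have hO : ⨆ w, O w = ⊤ := by
      rw [eq_top_iff]
      intro w _
      exact TopologicalSpace.Opens.mem_iSup.2 ⟨w, rfl⟩
    rw [IsZariskiLocalAtSource.iff_of_iSup_eq_top (P := @SurjectiveOnStalks) O hO]
    intro w
    -- the fibre over `e w`
    haveI : Mono (pullback.snd e (U.fromSpecResidueField (e w))) := inferInstance
    haveI : Nonempty ↥(pullback e (U.fromSpecResidueField (e w))) := by
      obtain ⟨z, -, -⟩ := Scheme.Pullback.exists_preimage_pullback (f := e)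
        (g := U.fromSpecResidueField (e w)) w
        (IsLocalRing.closedPoint (U.residueField (e w)) : ↥(Spec (U.residueField (e w))))
        (by rw [Scheme.fromSpecResidueField_apply])
      exact ⟨z⟩
    haveI : IsIso (pullback.snd e (U.fromSpecResidueField (e w))) :=
      isIso_of_mono_to_point _
    let j : Spec (U.residueField (e w)) ⟶ W :=
      inv (pullback.snd e (U.fromSpecResidueField (e w))) ≫ pullback.fst _ _
    have hj : j ≫ e = U.fromSpecResidueField (e w) := by
      rw [Category.assoc, pullback.condition, IsIso.inv_hom_id_assoc]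
    haveI : Mono (j ≫ e) := by rw [hj]; infer_instance
    haveI : Mono j := mono_of_mono j e
    have hjw : ∀ z, j z = w := by
      intro z
      apply hinj
      rw [← Scheme.Hom.comp_apply, hj, Scheme.fromSpecResidueField_apply]
    have hrange : Set.range j ⊆ Set.range (O w).ι := by
      rintro _ ⟨z, rfl⟩
      rw [Scheme.Opens.range_ι, hjw]
      rfl
    let j' : Spec (U.residueField (e w)) ⟶ (O w).toScheme := IsOpenImmersion.lift (O w).ι j hrange
    have hj' : j' ≫ (O w).ι = j := IsOpenImmersion.lift_fac _ _ _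
    haveI : Mono (j' ≫ (O w).ι) := by rw [hj']; infer_instance
    haveI : Mono j' := mono_of_mono j' (O w).ι
    haveI : Subsingleton ↥(O w).toScheme :=
      ⟨fun a b => Subtype.ext ((show a.1 = w from a.2).trans (show b.1 = w from b.2).symm)⟩
    haveI : IsReduced (O w).toScheme := inferInstance
    haveI : IsIso j' := isIso_of_mono_to_point j'
    have h1 : (O w).ι ≫ e = inv j' ≫ U.fromSpecResidueField (e w) := by
      rw [← hj, ← hj', Category.assoc, IsIso.inv_hom_id_assoc]
    rw [h1]
    infer_instance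
  haveI : IsPreimmersion e := ⟨hemb⟩
  exact IsClosedImmersion.of_isPreimmersion e hcl

theorem s10359 (X : Space S) (hX : IsDecent X.obj) (x : Points X.obj)
    (hx : IsClosed ({x} : Set (Points X.obj))) :
    ∃ p : FieldPt X.obj, Points.mk p = x ∧ RepWith @IsClosedImmersion p.toHom := by
  obtain ⟨p, hp, hm, hqc⟩ := hX x
  haveI := hm
  refine ⟨p, hp, ?_⟩
  obtain ⟨U, φ, hφ, hφs⟩ := X.property.atlas
  have hfib : ∀ (V : Over S) (b : (yon S).obj V ⟶ X.obj), IsAffine V.left → RepWith @Etale b →
      (Points.ofPt b ⁻¹' {x}).Finite := by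
    intro V b hV hb
    haveI : IsAffine V.left := hV
    rw [← hp]
    exact Groth.Agent.Helper5.Decent2.finite_fibre_of_qc_point p hqc b hb
  have sqW := hφ.rep.isPullback p.toHom
  obtain ⟨e, he⟩ := (yon S).map_surjective (hφ.rep.fst p.toHom)
  rw [← he] at sqW
  clear he
  have het : Etale (hφ.rep.snd p.toHom).left := hφ.property p.toHom _ _ sqW
  generalize hφ.rep.snd p.toHom = c at sqW het
  generalize hφ.rep.pullback p.toHom = W at e c sqW het
  have hme : Mono ((yon S).map e) := sqW.mono_fst_of_mono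
  have hme' : Mono e := (yon S).mono_of_mono_map hme
  haveI hme'' : Mono e.left := inferInstance
  have hinj : Function.Injective e.left := e.left.injective
  let s₀ : ↥p.pt.left := (IsLocalRing.closedPoint p.K : ↥(Spec (CommRingCat.of p.K)))
  have hpt : ∀ w : ↥W.left, Points.ofPt φ (e.left w) = x := by
    intro w
    rw [← Groth.Agent.Helper4.AlgSpPtsDesc.ofPt_yon_map_comp, sqW.w,
      Groth.Agent.Helper4.AlgSpPtsDesc.ofPt_yon_map_comp, Points.ofPt_toHom, hp]
  have hrange : Set.range e.left = Points.ofPt φ ⁻¹' {x} := by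
    ext u
    constructor
    · rintro ⟨w, rfl⟩
      exact hpt w
    · intro hu
      have hu' : Points.ofPt φ u = x := hu
      obtain ⟨z, hz, -⟩ := Groth.Agent.Helper5.Decent2.exists_scheme_point_of_isPullback sqW u s₀
        (by rw [Points.ofPt_toHom, hp, hu'])
      exact ⟨z, hz⟩
  have hcl : IsClosed (Set.range e.left) := by
    rw [hrange]
    exact hx.preimage (Points.continuous_ofPt φ)
  have hiso : ∀ w : ↥W.left, ∃ O : U.left.Opens, e.left w ∈ O ∧
      ∀ w' : ↥W.left, e.left w' ∈ O → w' = w := by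
    intro w
    obtain ⟨O, hO1, hO2⟩ := exists_open_isolating x hfib φ hφ (e.left w) (hpt w)
    exact ⟨O, hO1, fun w' hw' => hinj (hO2 _ hw' (hpt w'))⟩
  haveI : Etale c.left := het
  have hci : IsClosedImmersion e.left :=
    isClosedImmersion_of_mono_etale_field (k := p.K) e.left c.left hcl hiso
  have hcov := Groth.Agent.Helper4.AlgSpDesc2.cover_of_etale_surjective hφ hφs
  refine Groth.Agent.Helper4.AlgSpDesc.repWith_descend @IsClosedImmersion ?_ sqW.flip
    hcov.1.1 hcov.1.2 hcov.2 (X.property.representable_from_yon _)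
    ((AlgSp.repWith_yon_map_iff _ _).2 hci)
  intro A X' Y Z fst snd f g h h1 h2 h3 h4
  exact MorphismProperty.of_isPullback_of_descendsAlong (P := @IsClosedImmersion)
    (Q := (@Surjective ⊓ @Flat ⊓ @LocallyOfFinitePresentation)) h ⟨⟨h1, h2⟩, h3⟩ h4

end Groth.Agent.Helper5.MonoQuot
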