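import Mathlib
import Groth.Agent.Helper5.MonoQuot14
import Groth.Agent.Helper5.MonoQuot11
import Groth.Agent.Helper5.ZarGlue8
import Groth.Agent.Helper5.StalkRed
import Groth.Agent.Helper5.Decent1

/-!
# S10206: an algebraic space etale over a field is a scheme
-/

set_option autoImplicit false
universe u

namespace Groth.Agent.Helper5.MonoQuot

open CategoryTheory CategoryTheory.Limits AlgebraicGeometry Opposite AlgSp

variable {S : Scheme.{u}}

/-- a scheme etale over a field is discrete -/
theorem discreteTopology_of_etale_field {U : Scheme.{u}} {k : Type u} [Field k]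
    (g : U ⟶ Spec (CommRingCat.of k)) [Etale g] : DiscreteTopology ↥U := by
  haveI : LocallyQuasiFinite g :=
    Groth.Agent.Helper5.UnramLqf.locallyQuasiFinite_of_unramified g
  let s₀ : ↥(Spec (CommRingCat.of k)) := (IsLocalRing.closedPoint k : PrimeSpectrum k)
  have h1 := Scheme.Hom.isDiscrete_preimage_singleton g s₀
  have h2 : g ⁻¹' {s₀} = Set.univ := by
    ext w
    simp only [Set.mem_preimage, Set.mem_singleton_iff, Set.mem_univ, iff_true]
    exact (inferInstance : Subsingleton (PrimeSpectrum k)).elim _ _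
  rw [h2] at h1
  exact isDiscrete_univ_iff.1 h1

/-- a scheme etale over a field is reduced -/
theorem isReduced_of_etale_field {U : Scheme.{u}} {k : Type u} [Field k]
    (g : U ⟶ Spec (CommRingCat.of k)) [Etale g] : IsReduced U := by
  haveI : ∀ u : ↥U, _root_.IsReduced (U.presheaf.stalk u) := fun u =>
    Groth.Agent.Helper5.StalkRed.isReduced_stalk_of_smooth g u inferInstance
  exact isReduced_of_isReduced_stalk U

/-- a monomorphism into a reduced discrete scheme is an open immersion -/
theorem isOpenImmersion_of_mono_discrete {T U : Scheme.{u}} (e : T ⟶ U) [Mono e]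
    [DiscreteTopology ↥U] [IsReduced U] : IsOpenImmersion e := by
  let O : U.Opens := ⟨Set.range e, isOpen_discrete _⟩
  have hsub : Set.range e ⊆ Set.range O.ι := by
    rw [Scheme.Opens.range_ι]
    exact subset_rfl
  let e' : T ⟶ O.toScheme := IsOpenImmersion.lift O.ι e hsub
  have he' : e' ≫ O.ι = e := IsOpenImmersion.lift_fac _ _ _
  haveI : Mono e' := by
    haveI : Mono (e' ≫ O.ι) := by rw [he']; infer_instance
    exact mono_of_mono e' O.ι
  have hs : Function.Surjective e' := by
    rintro ⟨y, t, rfl⟩
    refine ⟨t, ?_⟩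
    apply O.ι.injective
    rw [← Scheme.Hom.comp_apply, he']
    rfl
  haveI : DiscreteTopology ↥O.toScheme := (inferInstance : DiscreteTopology ↥O)
  haveI : IsIso e' := isIso_of_mono_surjective_discrete e' hs
  rw [← he']
  infer_instance

theorem s10206 (X : Space S) (k : Type u) [Field k] (str : Spec (CommRingCat.of k) ⟶ S)
    (f : X.obj ⟶ (yon S).obj (Over.mk str)) (hf : IsEtaleMor f) :
    X.obj.obj.IsRepresentable := by
  have hdec : IsDecent X.obj :=
    s10352 (Y := ⟨(yon S).obj (Over.mk str), IsAlgSpace.yon_obj _⟩) (ObjectProperty.homMk f) hf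
      (Groth.Agent.Helper5.Decent1.isDecent_yon _)
  obtain ⟨U, φ, hφ, hφs⟩ := X.property.atlas
  have hsurjp := Groth.Agent.Helper5.AlgSpOpen.ofPt_surjective_of_repWith φ hφs
  -- the atlas is etale over the field
  have hψ : RepWith @Etale (φ ≫ f) := hf φ hφ
  obtain ⟨g, hg⟩ := (yon S).map_surjective (φ ≫ f)
  rw [← hg] at hψ
  haveI hget : Etale g.left := (AlgSp.repWith_yon_map_iff _ _).1 hψ
  haveI : DiscreteTopology ↥U.left := discreteTopology_of_etale_field (k := k) g.left
  haveI : IsReduced U.left := isReduced_of_etale_field (k := k) g.left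
  -- the mono points are open immersions
  have hcov := Groth.Agent.Helper4.AlgSpDesc2.cover_of_etale_surjective hφ hφs
  have hoi : ∀ p : FieldPt X.obj, Mono p.toHom → RepWith @IsOpenImmersion p.toHom := by
    intro p hm
    haveI := hm
    have sqW := hφ.rep.isPullback p.toHom
    obtain ⟨e, he⟩ := (yon S).map_surjective (hφ.rep.fst p.toHom)
    rw [← he] at sqW
    clear he
    generalize hφ.rep.snd p.toHom = c at sqW
    generalize hφ.rep.pullback p.toHom = T at e c sqW
    have hme : Mono ((yon S).map e) := sqW.flip.mono_snd_of_mono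
    have hme' : Mono e := (yon S).mono_of_mono_map hme
    haveI hme'' : Mono e.left := inferInstance
    have hoi : IsOpenImmersion e.left := isOpenImmersion_of_mono_discrete e.left
    refine Groth.Agent.Helper4.AlgSpDesc.repWith_descend @IsOpenImmersion ?_ sqW.flip
      hcov.1.1 hcov.1.2 hcov.2 (X.property.representable_from_yon _)
      ((AlgSp.repWith_yon_map_iff _ _).2 hoi)
    intro A X' Y Z fst snd f g h h1 h2 h3 h4
    exact MorphismProperty.of_isPullback_of_descendsAlong (P := @IsOpenImmersion)
      (Q := (@Surjective ⊓ @Flat ⊓ @LocallyOfFinitePresentation)) h ⟨⟨h1, h2⟩, h3⟩ h4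
  choose p hp hm hqc using hdec
  obtain ⟨W₀, e, -, -, -, -⟩ := Groth.Agent.Helper5.ZarGlue.exists_glue_of_points
    (ι := ↥U.left) (X := fun u => (p (Points.ofPt φ u)).pt)
    (fun u => (p (Points.ofPt φ u)).toHom) (fun u => hoi _ (hm _)) (by
      intro x
      obtain ⟨u, hu⟩ := hsurjp x
      refine ⟨u, ?_⟩
      let s₀ : ↥(Spec (CommRingCat.of (p (Points.ofPt φ u)).K)) :=
        (IsLocalRing.closedPoint (p (Points.ofPt φ u)).K : PrimeSpectrum (p (Points.ofPt φ u)).K)
      refine ⟨Points.schemeHomeo _ s₀, ?_⟩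
      rw [Groth.Agent.Helper4.AlgSpQC2.ofPt_eq_map_schemeHomeo, Points.ofPt_toHom, hp, hu])
  exact ⟨⟨W₀, ⟨representableByOfIso e⟩⟩⟩

end Groth.Agent.Helper5.MonoQuot
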