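import Groth.Agent.Helper5.DecJac4
import Groth.Agent.Helper5.MonoQuot20
import Groth.Agent.Helper5.UnramLqf
import Mathlib

set_option autoImplicit false
universe u

namespace Groth.Agent.Helper5.DecJac

open CategoryTheory CategoryTheory.Limits AlgebraicGeometry Opposite AlgSp Topology
open Groth.Agent.Helper4.AlgSpPtsDesc Groth.Agent.Helper4.AlgSpQC2

variable {S : Scheme.{u}}

/-- a morphism to an affine scheme which is integral over a closed point of the base is closed -/
theorem isClosedMap_of_integral_over_closedPoint {W₁ O S : Scheme.{u}} [IsAffine O] (h : O ⟶ S)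
    (s : ↥S) (hs : IsClosed ({s} : Set ↥S)) (q : W₁ ⟶ O) (c : W₁ ⟶ Spec (S.residueField s))
    [IsIntegralHom c] (comm : q ≫ h = c ≫ S.fromSpecResidueField s) : IsClosedMap q := by
  haveI : IsClosedImmersion (S.fromSpecResidueField s) :=
    isClosed_singleton_iff_isClosedImmersion.1 hs
  haveI : IsIntegralHom (q ≫ h) := by rw [comm]; infer_instance
  haveI : IsIntegralHom q := IsIntegralHom.of_comp q h
  exact q.isClosedMap

/-- S10357 -/
theorem s10357 (X : Space S) (hX : IsDecent X.obj) (s : ↥S) (hs : IsClosed ({s} : Set ↥S))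
    (k : Type u) [Field k] (φ : S.residueField s ⟶ CommRingCat.of k) (hφ : φ.hom.IsIntegral)
    (p : (yon S).obj (Over.mk (Spec.map φ ≫ S.fromSpecResidueField s)) ⟶ X.obj)
    (t : ↥(Spec (CommRingCat.of k))) :
    IsClosed ({Points.ofPt p t} : Set (Points X.obj)) := by
  obtain ⟨U₀, a₀, ha₀e, ha₀s⟩ := X.property.atlas
  refine isClosed_singleton_of_forall_isClosed X.property hX a₀ ha₀e ha₀s _ ?_
  intro u' hu'
  apply isClosed_singleton_of_affine_opens
  intro O hO hu'O
  let O' : Over S := Over.mk (O.ι ≫ U₀.hom)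
  let aO : (yon S).obj O' ⟶ X.obj := (yon S).map (Over.homMk O.ι rfl : O' ⟶ U₀) ≫ a₀
  have haO : RepWith @Etale aO := Groth.Agent.Helper5.MonoQuot.repWith_etale_restrict a₀ ha₀e O
  have sq := haO.rep.isPullback p
  obtain ⟨π₂, hπ₂⟩ := (yon S).map_surjective (haO.rep.fst p)
  rw [← hπ₂] at sq
  have het : Etale (haO.rep.snd p).left := haO.property p _ _ sq
  clear hπ₂
  generalize haO.rep.snd p = π₁ at sq het
  generalize haO.rep.pullback p = W at π₁ π₂ sq het
  obtain ⟨w, hw2, hw1⟩ := Groth.Agent.Helper5.Decent2.exists_scheme_point_of_isPullback sq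
    (⟨u', hu'O⟩ : ↥O) t (by
      show Points.ofPt ((yon S).map (Over.homMk O.ι rfl : O' ⟶ U₀) ≫ a₀) _ = _
      rw [ofPt_yon_map_comp]
      exact hu')
  haveI : DiscreteTopology ↥W.left :=
    Groth.Agent.Helper5.MonoQuot.discreteTopology_of_etale_field (k := k) π₁.left
  let W₁ : W.left.Opens := ⟨{w}, isOpen_discrete _⟩
  let j : (W₁ : Scheme.{u}) ⟶ W.left := W₁.ι
  haveI : Finite ↥(W₁ : Scheme.{u}) := (Set.finite_singleton w).to_subtype
  have hqc : QuasiCompact (j ≫ π₁.left) := Groth.Agent.Helper5.Decent1.quasiCompact_of_finite _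
  haveI : Etale (j ≫ π₁.left) := inferInstance
  have hlqf : LocallyQuasiFinite (j ≫ π₁.left) :=
    Groth.Agent.Helper5.UnramLqf.locallyQuasiFinite_of_unramified _
  haveI : IsLocallyArtinian (Over.mk (Spec.map φ ≫ S.fromSpecResidueField s)).left :=
    inferInstanceAs (IsLocallyArtinian (Spec (CommRingCat.of k)))
  haveI : IsFinite (j ≫ π₁.left) := IsFinite.of_locallyQuasiFinite _
  haveI : IsIntegralHom (Spec.map φ) := IsIntegralHom.SpecMap_iff.2 hφ
  haveI : IsAffine (O : Scheme.{u}) := hO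
  have comm : (j ≫ π₂.left) ≫ (O.ι ≫ U₀.hom) =
      ((j ≫ π₁.left) ≫ Spec.map φ) ≫ S.fromSpecResidueField s := by
    have e1 : π₂.left ≫ (O.ι ≫ U₀.hom) = W.hom := Over.w π₂
    have e2 : π₁.left ≫ (Spec.map φ ≫ S.fromSpecResidueField s) = W.hom := Over.w π₁
    rw [Category.assoc, e1, Category.assoc, Category.assoc, e2]
  have hcm := isClosedMap_of_integral_over_closedPoint (O.ι ≫ U₀.hom) s hs (j ≫ π₂.left)
    ((j ≫ π₁.left) ≫ Spec.map φ) comm
  have hrange : Set.range (j ≫ π₂.left) = {(⟨u', hu'O⟩ : ↥O)} := by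
    ext y
    constructor
    · rintro ⟨⟨w', hw'⟩, rfl⟩
      have : w' = w := hw'
      subst this
      exact hw2
    · rintro rfl
      exact ⟨⟨w, rfl⟩, hw2⟩
  have hfinal := hcm.isClosed_range
  rw [hrange] at hfinal
  exact hfinal

end Groth.Agent.Helper5.DecJac
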