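import Groth.Agent.Helper5.DecJac5
import Groth.Agent.Helper5.MonoQuot14
import Groth.Agent.Helper5.AlgSpMonoPt
import Groth.Agent.Helper5.ProperImg1
import Mathlib

set_option autoImplicit false
universe u

namespace Groth.Agent.Helper5.DecJac

open CategoryTheory CategoryTheory.Limits AlgebraicGeometry Opposite AlgSp Topology
open Groth.Agent.Helper4.AlgSpPtsDesc Groth.Agent.Helper4.AlgSpQC2

variable {S : Scheme.{u}}

/-- S10358 -/
theorem s10358 (X : Space S) (hX : IsDecent X.obj) (s : ↥S) (hs : IsClosed ({s} : Set ↥S))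
    (k : Type u) [Field k] (φ : S.residueField s ⟶ CommRingCat.of k) (hφ : φ.hom.Finite)
    (p : (yon S).obj (Over.mk (Spec.map φ ≫ S.fromSpecResidueField s)) ⟶ X.obj) :
    RepWith @IsFinite p ∧ (Function.Bijective φ.hom → RepWith @IsClosedImmersion p) := by
  let t : ↥(Spec (CommRingCat.of k)) := (IsLocalRing.closedPoint k : PrimeSpectrum k)
  have hcl : IsClosed ({Points.ofPt p t} : Set (Points X.obj)) :=
    s10357 X hX s hs k φ hφ.to_isIntegral p t
  obtain ⟨r, hr, hrci⟩ := Groth.Agent.Helper5.MonoQuot.s10359 X hX _ hcl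
  haveI : Mono r.toHom := Groth.Agent.Helper5.ProperImg.mono_of_closedImmersion r.toHom hrci
  let p₀ : FieldPt X.obj := ⟨k, Spec.map φ ≫ S.fromSpecResidueField s, (J S).uliftYonedaEquiv p⟩
  have hp₀ : p₀.toHom = p := (J S).uliftYonedaEquiv.symm_apply_apply _
  have hmk : Points.mk r = Points.mk p₀ := by
    rw [hr, ← Points.ofPt_toHom p₀ t, hp₀]
  obtain ⟨c, hc, -⟩ := Groth.Agent.Helper5.AlgSpMonoPt.existsUnique_factor X.property r p₀ hmk
  rw [hp₀] at hc
  haveI : IsClosedImmersion (S.fromSpecResidueField s) :=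
    isClosed_singleton_iff_isClosedImmersion.1 hs
  haveI : IsAffine r.pt.left := inferInstanceAs (IsAffine (Spec (CommRingCat.of r.K)))
  haveI : IsSeparated r.str := inferInstance
  have hcomm : c.left ≫ r.str = Spec.map φ ≫ S.fromSpecResidueField s := Over.w c
  constructor
  · haveI : IsFinite (Spec.map φ) := (IsFinite.SpecMap_iff _).2 hφ
    haveI : IsFinite (c.left ≫ r.str) := by rw [hcomm]; infer_instance
    have hfin : IsFinite c.left := IsFinite.of_comp c.left r.str
    rw [← hc]
    exact Groth.Agent.Helper4.AlgSpSrc.repWith_comp @IsFinite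
      ((repWith_yon_map_iff _ _).2 hfin)
      (Groth.Agent.Helper5.AffDesc.repWith_of_le (fun _ _ f hf => by
        have : IsClosedImmersion f := hf
        exact (inferInstance : IsFinite f)) hrci)
  · intro hbij
    haveI : IsClosedImmersion (Spec.map φ) :=
      IsClosedImmersion.spec_of_surjective _ hbij.2
    haveI : IsClosedImmersion (c.left ≫ r.str) := by rw [hcomm]; infer_instance
    have hci : IsClosedImmersion c.left := IsClosedImmersion.of_comp c.left r.str
    rw [← hc]
    exact Groth.Agent.Helper4.AlgSpSrc.repWith_comp @IsClosedImmersion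
      ((repWith_yon_map_iff _ _).2 hci) hrci

end Groth.Agent.Helper5.DecJac
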