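import Groth.Agent.Helper5.ZarGlue8
import Groth.Agent.Helper5.MonoQuot9
import Groth.Agent.Helper5.Decent2
import Groth.Agent.Helper4.AlgSpInj
import Mathlib

set_option autoImplicit false
universe u
open CategoryTheory CategoryTheory.Limits AlgebraicGeometry Opposite

namespace Groth.Agent.Helper5.DecZar

open AlgSp Groth.Agent.Helper4.AlgSpPtsDesc Groth.Agent.Helper4.AlgSpQC2

variable {S : Scheme.{u}}

/-- S10364 -/
theorem s10364 (X : Space S) {ι : Type u} (Xi : ι → Space S) (j : ∀ i, Xi i ⟶ X)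
    (hj : IsZarCover (fun i => (Xi i).obj) (fun i => (j i).hom))
    (hd : ∀ i, IsDecent (Xi i).obj) : IsDecent X.obj := by
  obtain ⟨hjo, hjs⟩ := hj
  have hmono : ∀ i, Mono (j i).hom := fun i => Groth.Agent.Helper5.ZarGlue.mono_of_oi _ (hjo i)
  have hinj : ∀ i, Function.Injective (Points.map (j i).hom) := fun i => by
    haveI := hmono i
    exact Groth.Agent.Helper4.AlgSpInj.injective_points_of_injective_fieldPts (j i).hom
      (fun K _ str c₁ c₂ h => (cancel_mono (j i).hom).1 h)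
  have hopen : ∀ i, IsOpen (Set.range (Points.map (j i).hom)) := fun i =>
    Groth.Agent.Helper5.ZarGlue.isOpen_range_of_oi X.property _ (hjo i)
  intro x
  obtain ⟨i, z, hz⟩ := hjs x
  obtain ⟨p, hp, hpm, -⟩ := hd i z
  haveI := hpm
  haveI := hmono i
  let p' : FieldPt X.obj := p.map (j i).hom
  have hp'hom : p'.toHom = p.toHom ≫ (j i).hom := FieldPt.toHom_map _ _
  have hp'mk : Points.mk p' = x := by
    show Points.map (j i).hom (Points.mk p) = x
    rw [hp, hz]
  haveI hp'm : Mono p'.toHom := by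
    rw [hp'hom]
    exact mono_comp' hpm (hmono i)
  refine ⟨p', hp'mk, hp'm, ?_⟩
  apply Groth.Agent.Helper5.MonoQuot.repWith_qc_of_finite_fibres X.property p'
  intro V ψ hV hψ
  rw [hp'mk]
  haveI : IsAffine V.left := hV
  set Φ : Set ↥V.left := Points.ofPt ψ ⁻¹' {x} with hΦ
  -- local finiteness along the closure
  have hloc : ∀ v' ∈ closure Φ, ∃ O : Set ↥V.left, O ∈ nhds v' ∧ (O ∩ Φ).Finite := by
    intro v' hv'
    have hsp : x ⤳ Points.ofPt ψ v' := by
      rw [specializes_iff_mem_closure]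
      have h1 : Points.ofPt ψ v' ∈ closure (Points.ofPt ψ '' Φ) :=
        image_closure_subset_closure_image (Points.continuous_ofPt ψ) ⟨v', hv', rfl⟩
      refine closure_mono ?_ h1
      rintro _ ⟨v, hv, rfl⟩
      exact hv
    obtain ⟨k, hk⟩ := hjs (Points.ofPt ψ v')
    have hxk : x ∈ Set.range (Points.map (j k).hom) := hsp.mem_open (hopen k) hk
    obtain ⟨zk, hzk⟩ := hxk
    have hVk : IsOpen (Points.ofPt ψ ⁻¹' Set.range (Points.map (j k).hom)) :=
      (hopen k).preimage (Points.continuous_ofPt ψ)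
    obtain ⟨_, ⟨(O : V.left.Opens), hO, rfl⟩, hv'O, hOk⟩ :=
      (V.left.isBasis_affineOpens).exists_subset_of_mem_open
        (show v' ∈ Points.ofPt ψ ⁻¹' Set.range (Points.map (j k).hom) from hk) hVk
    refine ⟨O, O.isOpen.mem_nhds hv'O, ?_⟩
    let O' : Over S := Over.mk (O.ι ≫ V.hom)
    let ψO : (yon S).obj O' ⟶ X.obj := (yon S).map (Over.homMk O.ι rfl : O' ⟶ V) ≫ ψ
    have hψO : RepWith @Etale ψO := Groth.Agent.Helper5.MonoQuot.repWith_etale_restrict ψ hψ O
    have hrange : Set.range (Points.map ψO) ⊆ Set.range (Points.map (j k).hom) := by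
      rintro _ ⟨y, rfl⟩
      obtain ⟨o, rfl⟩ := (Points.schemeHomeo O').surjective y
      rw [ofPt_eq_map_schemeHomeo]
      show Points.ofPt ((yon S).map (Over.homMk O.ι rfl : O' ⟶ V) ≫ ψ) o ∈ _
      rw [ofPt_yon_map_comp]
      exact hOk o.2
    obtain ⟨ψk, hψk⟩ := Groth.Agent.Helper5.AlgSpIso.exists_factor_open (j k).hom (hjo k) ψO hrange
    haveI := hmono k
    have hψke : RepWith @Etale ψk := by
      have sq : IsPullback (𝟙 _) ψk (ψk ≫ (j k).hom) (j k).hom :=
        Groth.Agent.Helper4.AlgSpPB.isPullback_of_mono ψk (j k).hom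
      rw [hψk] at sq
      have i1 := repWith_isStableUnderBaseChange (S := S) @Etale
      exact MorphismProperty.of_isPullback sq hψO
    obtain ⟨pk, hpk, -, hpkq⟩ := hd k zk
    haveI : CompactSpace ↥O'.left := isCompact_iff_compactSpace.1 hO.isCompact
    have hfin := Groth.Agent.Helper5.Decent2.finite_fibre_of_qc_point pk hpkq ψk hψke
    have h4 := hfin.image (fun w : ↥O => (w : ↥V.left))
    refine h4.subset ?_
    rintro w ⟨hwO, hwΦ⟩
    refine ⟨⟨w, hwO⟩, ?_, rfl⟩
    show Points.ofPt ψk ⟨w, hwO⟩ = Points.mk pk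
    apply hinj k
    rw [Points.map_ofPt, hψk, hpk, hzk]
    show Points.ofPt ((yon S).map (Over.homMk O.ι rfl : O' ⟶ V) ≫ ψ) ⟨w, hwO⟩ = x
    rw [ofPt_yon_map_comp]
    exact hwΦ
  choose! O hOn hOf using hloc
  have hK : IsCompact (closure Φ) := isClosed_closure.isCompact
  obtain ⟨t, ht, hcov⟩ := hK.elim_nhds_subcover O hOn
  have hfin : (⋃ v ∈ t, O v ∩ Φ).Finite :=
    t.finite_toSet.biUnion (fun v hv => hOf v (ht v hv))
  refine hfin.subset ?_
  intro v hv
  have h1 : v ∈ ⋃ x ∈ t, O x := hcov (subset_closure hv)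
  simp only [Set.mem_iUnion] at h1 ⊢
  obtain ⟨w, hw, hvw⟩ := h1
  exact ⟨w, hw, hvw, hv⟩

end Groth.Agent.Helper5.DecZar
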