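import Groth.Prelude.Def_AlgSp4
import Groth.Prelude.Def_AlgSpDec
import Groth.Agent.Helper5.Decent2
import Groth.Agent.Helper5.NoethChart
import Mathlib

set_option autoImplicit false
universe u
open CategoryTheory CategoryTheory.Limits AlgebraicGeometry Opposite

namespace Groth.Agent.Helper5.Decent4

open AlgSp Groth.Agent.Helper4.AlgSpPtsDesc Groth.Agent.Helper4.AlgSpQC2

variable {S : Scheme.{u}}

/-- The key step: from a strict specialization inside a fibre of an étale chart, produce a
further strict generization inside the fibre. -/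
theorem exists_strict_generization {X : Sp S} {V : Over S} (b : (yon S).obj V ⟶ X)
    (hb : RepWith @Etale b) (w w' : ↥V.left) (hww : Points.ofPt b w = Points.ofPt b w')
    (hsp : w' ⤳ w) (hne : w' ≠ w) :
    ∃ w'' : ↥V.left, Points.ofPt b w'' = Points.ofPt b w' ∧ w'' ⤳ w' ∧ w'' ≠ w' := by
  have sq := hb.rep.isPullback b
  obtain ⟨p1, hp1⟩ := (yon S).map_surjective (hb.rep.fst b)
  rw [← hp1] at sq
  have het2 : Etale (hb.rep.snd b).left := hb.property b _ _ sq
  have het1 : Etale p1.left := hb.property b _ _ sq.flip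
  clear hp1
  generalize hb.rep.snd b = p2 at sq het2
  generalize hb.rep.pullback b = R at p1 p2 sq het1 het2
  have hflat : Flat p1.left := inferInstance
  have hgen : GeneralizingMap p1.left := Flat.generalizingMap p1.left
  have hlqf : LocallyQuasiFinite p2.left :=
    Groth.Agent.Helper5.UnramLqf.locallyQuasiFinite_of_unramified p2.left
  obtain ⟨r, hr1, hr2⟩ :=
    Groth.Agent.Helper5.Decent2.exists_scheme_point_of_isPullback sq w w' hww
  obtain ⟨r', hr'sp, hr'1⟩ := hgen (a := r) (b := w') (by rw [hr1]; exact hsp)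
  refine ⟨p2.left r', ?_, ?_, ?_⟩
  · rw [← ofPt_yon_map_comp, ← sq.w, ofPt_yon_map_comp, hr'1]
  · rw [← hr2]
    exact hr'sp.map p2.left.continuous
  · intro heq
    have hd := Scheme.Hom.isDiscrete_preimage_singleton p2.left w'
    have : r' = r := hd.eq_of_specializes hr'sp heq hr2
    apply hne
    rw [← hr'1, this, hr1]

/-- No strict specializations in a Noetherian affine scheme can go on forever: a height function. -/
theorem exists_height_fn (V : Scheme.{u}) [IsAffine V] [IsLocallyNoetherian V] :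
    ∃ ht : ↥V → ℕ∞, ∀ w w' : ↥V, w' ⤳ w → w' ≠ w → ht w' < ht w := by
  have hN : IsNoetherianRing Γ(V, ⊤) :=
    IsLocallyNoetherian.component_noetherian (X := V) ⟨⊤, isAffineOpen_top V⟩
  let φ : ↥V → PrimeSpectrum Γ(V, ⊤) := fun w => V.isoSpec.hom w
  have hφc : Continuous φ := V.isoSpec.hom.continuous
  have hφi : Function.Injective φ := by
    have : IsIso V.isoSpec.hom := inferInstance
    exact (V.isoSpec.hom.homeomorph).injective
  refine ⟨fun w => (φ w).asIdeal.height, fun w w' hsp hne => ?_⟩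
  have h1 : φ w' ≤ φ w := (PrimeSpectrum.le_iff_specializes _ _).2 (hsp.map hφc)
  have h2 : φ w' ≠ φ w := fun h => hne (hφi h)
  have h3 : (φ w').asIdeal < (φ w).asIdeal := lt_of_le_of_ne h1 fun h => h2 (PrimeSpectrum.ext h)
  exact Ideal.height_strict_mono_of_isPrime_of_isPrime h3

/-- No specializations among points of an étale chart of a locally Noetherian space over the
same point. -/
theorem eq_of_specializes_of_isLocNoethSp {X : Sp S} (hX : IsLocNoethSp X)
    {U : Over S} (a : (yon S).obj U ⟶ X) (ha : RepWith @Etale a) (u u' : ↥U.left)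
    (he : Points.ofPt a u = Points.ofPt a u') (hs : u' ⤳ u) : u = u' := by
  obtain ⟨_, ⟨V₀, hV₀, rfl⟩, huV, -⟩ :=
    (U.left.isBasis_affineOpens).exists_subset_of_mem_open (Set.mem_univ u) isOpen_univ
  have hu'V : u' ∈ V₀ := hs.mem_open V₀.isOpen huV
  let V := opOver U V₀
  let b : (yon S).obj V ⟶ X := (yon S).map (opι U V₀) ≫ a
  have hb : RepWith @Etale b :=
    Groth.Agent.Helper4.AlgSpSrc.repWith_comp _
      ((repWith_yon_map_iff _ _).2 (by
        show Etale (Scheme.Opens.ι V₀)
        infer_instance)) ha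
  have hVaff : IsAffine V.left := hV₀
  have hVN : IsLocallyNoetherian V.left :=
    Groth.Agent.Helper5.NoethChart.isLocallyNoetherian_of_etale_chart hX b hb
  have hbpt : ∀ w : ↥V.left, Points.ofPt b w = Points.ofPt a ((opι U V₀).left w) := fun w =>
    ofPt_yon_map_comp _ _ _
  obtain ⟨ht, hht⟩ := exists_height_fn V.left
  by_contra hne
  let x := Points.ofPt a u
  let v : ↥V.left := ⟨u, huV⟩
  let v' : ↥V.left := ⟨u', hu'V⟩
  have hvF : Points.ofPt b v = x := by rw [hbpt]; rfl
  have hv'F : Points.ofPt b v' = x := by rw [hbpt]; exact he.symm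
  have hvsp : v' ⤳ v := (subtype_specializes_iff v' v).2 hs
  have hvne : v' ≠ v := fun h => hne (congrArg Subtype.val h).symm
  let A : Set ↥V.left := {w' | Points.ofPt b w' = x ∧ ∃ w, Points.ofPt b w = x ∧ w' ⤳ w ∧ w' ≠ w}
  have hAne : A.Nonempty := ⟨v', hv'F, v, hvF, hvsp, hvne⟩
  obtain ⟨m, hmA, hmin⟩ := WellFounded.has_min (InvImage.wf ht wellFounded_lt) A hAne
  obtain ⟨hmF, w, hwF, hmw, hmne⟩ := hmA
  obtain ⟨m', hm'F, hm'sp, hm'ne⟩ :=
    exists_strict_generization b hb w m (by rw [hwF, hmF]) hmw hmne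
  have hm'A : m' ∈ A := ⟨hm'F.trans hmF, m, hmF, hm'sp, hm'ne⟩
  exact hmin m' hm'A (hht m m' hm'sp hm'ne)

end Groth.Agent.Helper5.Decent4
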