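import Groth.Prelude.Def_AlgSp4
import Groth.Prelude.Def_AlgSpDec
import Groth.Agent.Helper5.Decent1
import Mathlib

set_option autoImplicit false
universe u
open CategoryTheory CategoryTheory.Limits AlgebraicGeometry Opposite

namespace Groth.Agent.Helper5.Decent5

open AlgSp

variable {S : Scheme.{u}}

/-- A sheaf all of whose points are represented by monomorphisms from field spectra. -/
def HasMonoPts (F : Sp S) : Prop :=
  ∀ x : Points F, ∃ p : FieldPt F, Points.mk p = x ∧ Mono p.toHom

theorem hasMonoPts_of_iso {F G : Sp S} (hF : HasMonoPts F) (e : F ≅ G) : HasMonoPts G := by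
  intro x
  obtain ⟨p, hp, hm⟩ := hF (Points.map e.inv x)
  refine ⟨p.map e.hom, ?_, ?_⟩
  · rw [← Points.map_mk, hp, ← Points.map_comp, e.inv_hom_id, Points.map_id]
  · rw [FieldPt.toHom_map]; exact @mono_comp _ _ _ _ _ _ hm _ inferInstance

theorem hasMonoPts_yon (T : Over S) : HasMonoPts ((yon S).obj T) := fun x => by
  obtain ⟨p, hp, hm, -⟩ := Groth.Agent.Helper5.Decent1.isDecent_yon T x
  exact ⟨p, hp, hm⟩

/-- If every base change of `f` to a field point of `Y` has mono points and `Y` has mono points,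
so does `X`. -/
theorem hasMonoPts_of_representable {X Y : Sp S} (f : X ⟶ Y) (hf : Representable f)
    (hY : HasMonoPts Y) : HasMonoPts X := by
  intro x
  obtain ⟨q, hq, hqm⟩ := hY (Points.map f x)
  have sq : IsPullback (pullback.fst f q.toHom) (pullback.snd f q.toHom) f q.toHom :=
    IsPullback.of_hasPullback _ _
  have hP : HasMonoPts (pullback f q.toHom) :=
    hasMonoPts_of_iso (hasMonoPts_yon (hf.pullback q.toHom))
      ((hf.isPullback q.toHom).isoIsPullback _ _ sq)
  let s₀ : ↥(Spec (CommRingCat.of q.K)) := IsLocalRing.closedPoint q.K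
  have hs : Points.map q.toHom (Points.ofScheme q.pt s₀) = Points.map f x := by
    rw [← Points.ofPt_eq_map_ofScheme, Points.ofPt_toHom, hq]
  obtain ⟨z, hz1, -⟩ := Groth.Agent.Helper4.AlgSpPtsDesc.exists_point_of_isPullback sq x _ hs.symm
  obtain ⟨r, hr, hrm⟩ := hP z
  refine ⟨r.map (pullback.fst f q.toHom), ?_, ?_⟩
  · rw [← Points.map_mk, hr, hz1]
  · rw [FieldPt.toHom_map]
    have : Mono (pullback.fst f q.toHom) := sq.mono_fst_of_mono
    exact @mono_comp _ _ _ _ _ _ hrm _ this

end Groth.Agent.Helper5.Decent5
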