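import Groth.Prelude.Def_AlgSp4
import Groth.Prelude.Def_AlgSpDec
import Groth.Agent.Helper5.Decent2
import Mathlib

set_option autoImplicit false
universe u
open CategoryTheory CategoryTheory.Limits AlgebraicGeometry Opposite

namespace Groth.Agent.Helper5.Decent6

open AlgSp Groth.Agent.Helper4.AlgSpPtsDesc Groth.Agent.Helper4.AlgSpQC2

variable {S : Scheme.{u}}

/-- For an étale morphism of schemes `q : R ⟶ U` and `r : R`, there is an affine open
neighbourhood `W` of `r` such that every fibre of `q` meets `W` in a finite set. -/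
theorem exists_affine_nhd_finite_fibres {R U : Scheme.{u}} (q : R ⟶ U) [Etale q] (r : ↥R) :
    ∃ W : R.Opens, IsAffineOpen W ∧ r ∈ W ∧ ∀ u : ↥U, {w : ↥R | w ∈ W ∧ q w = u}.Finite := by
  obtain ⟨_, ⟨U', hU', rfl⟩, hrU', -⟩ :=
    U.isBasis_affineOpens.exists_subset_of_mem_open (Set.mem_univ (q r)) isOpen_univ
  obtain ⟨_, ⟨W, hW, rfl⟩, hrW, hWU⟩ :=
    R.isBasis_affineOpens.exists_subset_of_mem_open (show r ∈ (q ⁻¹ᵁ U' : Set R) from hrU')
      (q ⁻¹ᵁ U').isOpen
  refine ⟨W, hW, hrW, fun u => ?_⟩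
  have e : W ≤ q ⁻¹ᵁ U' := hWU
  by_cases hu : u ∈ U'
  · let g := q.resLE U' W e
    have hlqf : LocallyQuasiFinite q :=
      Groth.Agent.Helper5.UnramLqf.locallyQuasiFinite_of_unramified q
    have hg1 : LocallyQuasiFinite g := inferInstance
    have hWa : IsAffine (Scheme.Opens.toScheme W) := hW
    have hUa : IsAffine (Scheme.Opens.toScheme U') := hU'
    have hg2 : QuasiCompact g := quasiCompact_of_compactSpace g
    have hfin := Scheme.Hom.finite_preimage_singleton g ⟨u, hu⟩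
    refine (hfin.image (fun w : ↥(Scheme.Opens.toScheme W) => (Scheme.Opens.ι W w : ↥R))).subset ?_
    rintro w ⟨hwW, hwu⟩
    refine ⟨⟨w, hwW⟩, ?_, rfl⟩
    show g ⟨w, hwW⟩ = ⟨u, hu⟩
    apply Subtype.ext
    have h1 : (g ≫ Scheme.Opens.ι U') ⟨w, hwW⟩ = (Scheme.Opens.ι W ≫ q) ⟨w, hwW⟩ := by
      rw [Scheme.Hom.resLE_comp_ι]
    exact h1.trans hwu
  · convert Set.finite_empty
    ext w
    simp only [Set.mem_ofPred_eq, Set.mem_empty_iff_false, iff_false, not_and]
    intro hwW hwu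
    exact hu (hwu ▸ e hwW)

/-- If `x` has finite fibres in a jointly surjective family of étale charts, then it has finite
fibre in every quasi-compact étale chart. -/
theorem finite_fibre_of_family {X : Sp S} (x : Points X) {ι : Type u} (U : ι → Over S)
    (φ : ∀ i, (yon S).obj (U i) ⟶ X) (hφ : ∀ i, RepWith @Etale (φ i))
    (hsurj : ∀ y : Points X, ∃ (i : ι) (v : ↥(U i).left), Points.ofPt (φ i) v = y)
    (hfin : ∀ i, (Points.ofPt (φ i) ⁻¹' {x}).Finite)
    {V : Over S} [CompactSpace ↥V.left] (ψ : (yon S).obj V ⟶ X) (hψ : RepWith @Etale ψ) :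
    (Points.ofPt ψ ⁻¹' {x}).Finite := by
  -- the fibre products `V ×_X U_i`
  have hdata : ∀ i, ∃ (R : Over S) (p : R ⟶ V) (q : R ⟶ U i),
      IsPullback ((yon S).map p) ((yon S).map q) ψ (φ i) ∧ Etale p.left ∧ Etale q.left := by
    intro i
    have sq := (hφ i).rep.isPullback ψ
    obtain ⟨p, hp⟩ := (yon S).map_surjective ((hφ i).rep.fst ψ)
    rw [← hp] at sq
    refine ⟨_, (hφ i).rep.snd ψ, p, sq.flip, (hφ i).property ψ _ _ sq, ?_⟩
    exact hψ.property (φ i) _ _ sq.flip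
  choose R p q sq hpe hqe using hdata
  -- local data at each point of `V`
  have hloc : ∀ v : ↥V.left, ∃ (i : ι) (W : (R i).left.Opens),
      v ∈ (p i).left '' (W : Set ↥(R i).left) ∧
      ∀ u : ↥(U i).left, {w : ↥(R i).left | w ∈ W ∧ (q i).left w = u}.Finite := by
    intro v
    obtain ⟨i, u, hu⟩ := hsurj (Points.ofPt ψ v)
    obtain ⟨r, hr1, hr2⟩ :=
      Groth.Agent.Helper5.Decent2.exists_scheme_point_of_isPullback (sq i) v u hu.symm
    have := hqe i
    obtain ⟨W, -, hrW, hWfin⟩ := exists_affine_nhd_finite_fibres (q i).left r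
    exact ⟨i, W, ⟨r, hrW, hr1⟩, hWfin⟩
  choose iv Wv hv hWfin using hloc
  have hopen : ∀ v : ↥V.left, IsOpen ((p (iv v)).left '' (Wv v : Set ↥(R (iv v)).left)) := by
    intro v
    have := hpe (iv v)
    exact (p (iv v)).left.isOpenMap _ (Wv v).isOpen
  obtain ⟨t, -, ht⟩ := isCompact_univ.elim_nhds_subcover
    (fun v => (p (iv v)).left '' (Wv v : Set ↥(R (iv v)).left))
    (fun v _ => (hopen v).mem_nhds (hv v))
  -- the finite pieces
  have hpiece : ∀ v₀ : ↥V.left,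
      {r : ↥(R (iv v₀)).left | r ∈ Wv v₀ ∧ Points.ofPt (φ (iv v₀)) ((q (iv v₀)).left r) = x}.Finite := by
    intro v₀
    have h1 : {r : ↥(R (iv v₀)).left | r ∈ Wv v₀ ∧
        Points.ofPt (φ (iv v₀)) ((q (iv v₀)).left r) = x} =
        ⋃ u ∈ Points.ofPt (φ (iv v₀)) ⁻¹' {x},
          {w : ↥(R (iv v₀)).left | w ∈ Wv v₀ ∧ (q (iv v₀)).left w = u} := by
      ext r
      simp only [Set.mem_ofPred_eq, Set.mem_iUnion, Set.mem_preimage, Set.mem_singleton_iff,
        exists_prop]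
      constructor
      · rintro ⟨h1, h2⟩
        exact ⟨_, h2, h1, rfl⟩
      · rintro ⟨u, hu, h1, rfl⟩
        exact ⟨h1, hu⟩
    rw [h1]
    exact (hfin (iv v₀)).biUnion fun u _ => hWfin v₀ u
  refine (Set.Finite.biUnion t.finite_toSet fun v₀ _ =>
    (hpiece v₀).image (p (iv v₀)).left).subset ?_
  intro v hvx
  have hvx' : Points.ofPt ψ v = x := hvx
  obtain ⟨v₀, hv₀t, r, hrW, hrv⟩ := Set.mem_iUnion₂.1 (ht (Set.mem_univ v))
  refine Set.mem_iUnion₂.2 ⟨v₀, hv₀t, r, ⟨hrW, ?_⟩, hrv⟩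
  rw [← ofPt_yon_map_comp, ← (sq (iv v₀)).w, ofPt_yon_map_comp, hrv, hvx']

end Groth.Agent.Helper5.Decent6
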