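import Mathlib
import Groth.Agent.Lead.RegLocal

set_option autoImplicit false
universe u

namespace Groth.Agent.Helper5.DedOpen

open CategoryTheory CategoryTheory.Limits AlgebraicGeometry IsLocalRing

/-- a regular local domain of dimension `≤ 1` is a valuation ring -/
lemma valuationRing_of_regular (R : Type u) [CommRing R] [IsDomain R] [IsRegularLocalRing R]
    (hd : ringKrullDim R ≤ 1) : ValuationRing R := by
  by_cases hf : IsField R
  · letI := hf.toField
    infer_instance
  · have h1 : ((maximalIdeal R).spanFinrank : WithBot ℕ∞) ≤ 1 :=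
      (IsRegularLocalRing.spanFinrank_maximalIdeal (R := R)).trans_le hd
    have h2 : (maximalIdeal R).spanFinrank ≤ 1 := by exact_mod_cast h1
    have hfg : (maximalIdeal R).FG := (maximalIdeal R).fg_of_isNoetherianRing
    have hprin : (maximalIdeal R).IsPrincipal := by
      have hgen := Submodule.FG.generators_ncard hfg
      have hfin := Submodule.FG.finite_generators hfg
      have hspan := Submodule.span_generators (maximalIdeal R)
      rw [← hgen] at h2
      haveI : Nonempty R := ⟨0⟩
      obtain ⟨x, hx⟩ := (Set.ncard_le_one_iff_subset_singleton hfin).mp h2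
      rcases Set.subset_singleton_iff_eq.mp hx with h0 | h0
      · refine ⟨⟨0, ?_⟩⟩
        rw [← hspan, h0]
        simp
      · exact ⟨⟨x, by rw [← hspan, h0]⟩⟩
    exact ((IsDiscreteValuationRing.TFAE R hf).out 1 4).mpr hprin

/-- torsion-freeness of the reduction when minimal primes contract to zero -/
lemma torsion_eq_bot_of_minimalPrimes {A B : Type u} [CommRing A] [IsDomain A] [CommRing B]
    (ψ : A →+* B ⧸ nilradical B) (φ : A →+* B) (hψ : ψ = (Ideal.Quotient.mk _).comp φ)
    (h : ∀ q ∈ minimalPrimes B, q.comap φ = ⊥) :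
    letI := ψ.toAlgebra
    Submodule.torsion A (B ⧸ nilradical B) = ⊥ := by
  letI := ψ.toAlgebra
  rw [eq_bot_iff]
  rintro x ⟨⟨a, ha⟩, hax⟩
  obtain ⟨b, rfl⟩ := Ideal.Quotient.mk_surjective x
  have ha0 : a ≠ 0 := nonZeroDivisors.ne_zero ha
  have h1 : φ a * b ∈ nilradical B := by
    rw [← Ideal.Quotient.eq_zero_iff_mem, map_mul]
    have : a • (Ideal.Quotient.mk (nilradical B) b) = 0 := hax
    rw [Algebra.smul_def] at this
    rw [← this]
    congr 1
    change _ = ψ a
    rw [hψ]
    rfl
  have h2 : b ∈ nilradical B := by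
    rw [nilradical_eq_sInf, Ideal.mem_sInf]
    intro q hq
    have hq' : q.IsPrime := hq
    obtain ⟨q', hq'min, hq'le⟩ := Ideal.exists_minimalPrimes_le (I := ⊥) (J := q) bot_le
    have hq'p : q'.IsPrime := hq'min.1.1
    have h3 : φ a * b ∈ q' := nilradical_le_prime q' h1
    rcases hq'p.mem_or_mem h3 with h4 | h4
    · exfalso
      have : a ∈ q'.comap φ := h4
      rw [h q' hq'min] at this
      exact ha0 this
    · exact hq'le h4
  simpa [Ideal.Quotient.eq_zero_iff_mem] using h2

/-- universal openness descends along a surjection on the source -/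
lemma universallyOpen_of_comp_surjective {X' X Y : Scheme.{u}} (i : X' ⟶ X) (g : X ⟶ Y)
    [Surjective i] [hig : UniversallyOpen (i ≫ g)] : UniversallyOpen g := by
  refine ⟨fun XT T i₁ i₂ f' hsq => ?_⟩
  have hsurj : Surjective (pullback.fst i₁ i) := inferInstance
  have hsq2 : IsPullback (pullback.fst i₁ i ≫ f') (pullback.snd i₁ i) i₂ (i ≫ g) :=
    ((IsPullback.of_hasPullback i₁ i).flip.paste_vert hsq.flip).flip
  have hopen : IsOpenMap (pullback.fst i₁ i ≫ f').base := hig.out _ _ _ hsq2
  intro W hW
  have : f'.base '' W = (pullback.fst i₁ i ≫ f').base '' ((pullback.fst i₁ i).base ⁻¹' W) := by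
    rw [Scheme.Hom.comp_base, TopCat.coe_comp, Set.image_comp,
      Set.image_preimage_eq _ hsurj.surj]
  rw [this]
  exact hopen _ (hW.preimage (pullback.fst i₁ i).continuous)

/-- the affine case -/
theorem universallyOpen_Spec {A B : CommRingCat.{u}} (φ : A ⟶ B) [IsDomain A]
    [IsNoetherianRing A]
    (hval : ∀ (P : Ideal A) [P.IsMaximal], ValuationRing (Localization P.primeCompl))
    (hft : φ.hom.FiniteType)
    (h : ∀ q ∈ minimalPrimes B, q.comap φ.hom = ⊥) :
    UniversallyOpen (Spec.map φ) := by
  let π : B ⟶ CommRingCat.of (B ⧸ nilradical (B : Type u)) :=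
    CommRingCat.ofHom (Ideal.Quotient.mk _)
  let ψ : A ⟶ CommRingCat.of (B ⧸ nilradical (B : Type u)) := φ ≫ π
  have hcomp : Spec.map ψ = Spec.map π ≫ Spec.map φ := Spec.map_comp _ _
  have hsurj : Surjective (Spec.map π) := by
    refine ⟨fun x => ?_⟩
    let x' : PrimeSpectrum (B : Type u) := x
    have hx : x' ∈ Set.range (PrimeSpectrum.comap (Ideal.Quotient.mk (nilradical (B : Type u)))) := by
      rw [range_comap_of_surjective _ _ Ideal.Quotient.mk_surjective,
        PrimeSpectrum.mem_zeroLocus, Ideal.mk_ker]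
      exact nilradical_le_prime x'.asIdeal
    obtain ⟨z, hz⟩ := hx
    exact ⟨z, hz⟩
  have htors := torsion_eq_bot_of_minimalPrimes ψ.hom φ.hom rfl h
  have hflat : Flat (Spec.map ψ) := by
    rw [HasRingHomProperty.Spec_iff (P := @Flat)]
    letI := ψ.hom.toAlgebra
    exact (Module.Flat.flat_iff_torsion_eq_bot_of_valuationRing_localization_isMaximal
      (fun P _ => hval P)).mpr htors
  have hfp : LocallyOfFinitePresentation (Spec.map ψ) := by
    rw [HasRingHomProperty.Spec_iff (P := @LocallyOfFinitePresentation)]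
    have h1 : ψ.hom.FiniteType :=
      (RingHom.FiniteType.of_surjective _ Ideal.Quotient.mk_surjective).comp hft
    exact RingHom.FinitePresentation.of_finiteType.mp h1
  have : UniversallyOpen (Spec.map π ≫ Spec.map φ) := hcomp ▸ inferInstance
  exact universallyOpen_of_comp_surjective (Spec.map π) (Spec.map φ)

end Groth.Agent.Helper5.DedOpen
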