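import Mathlib
import Groth.Agent.Helper5.EqAt1

set_option autoImplicit false
universe u

namespace Groth.Agent.Helper5.DedOpen

open CategoryTheory CategoryTheory.Limits AlgebraicGeometry TopologicalSpace Topology

/-- maximal points: no proper generization -/
def IsMaxPt {T : Type*} [TopologicalSpace T] (ξ : T) : Prop := ∀ w : T, w ⤳ ξ → w = ξ

lemma finite_maxPts (T : Type*) [TopologicalSpace T] [NoetherianSpace T] [QuasiSober T]
    [T0Space T] : {ξ : T | IsMaxPt ξ}.Finite := by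
  refine Set.Finite.of_injOn (f := fun ξ => closure ({ξ} : Set T))
    (t := irreducibleComponents T) ?_ ?_ NoetherianSpace.finite_irreducibleComponents
  · intro ξ hξ
    exact EqAt.closure_singleton_mem_irreducibleComponents ξ hξ
  · intro ξ _ ξ' _ h
    exact (inseparable_iff_closure_eq.mpr h).eq

lemma isMaxPt_iff_of_isOpenEmbedding {S T : Type*} [TopologicalSpace S] [TopologicalSpace T]
    {j : S → T} (hj : IsOpenEmbedding j) (ξ : S) : IsMaxPt (j ξ) ↔ IsMaxPt ξ := by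
  constructor
  · intro h w hw
    exact hj.injective (h (j w) (hw.map hj.continuous))
  · intro h w hw
    obtain ⟨w', rfl⟩ : w ∈ Set.range j := hw.mem_open hj.isOpen_range ⟨ξ, rfl⟩
    rw [h w' (hj.isInducing.specializes_iff.mp hw)]

theorem notMem_closure_bad {X : Scheme.{u}} [IsLocallyNoetherian X] (G : Set X) (x : X)
    (hx : ∀ ξ : X, IsMaxPt ξ → ξ ⤳ x → ξ ∈ G) :
    x ∉ closure {ξ : X | IsMaxPt ξ ∧ ξ ∉ G} := by
  intro hcl
  obtain ⟨W, hW, hxW, -⟩ := Opens.isBasis_iff_nbhd.mp X.isBasis_affineOpens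
    (show x ∈ (⊤ : X.Opens) from trivial)
  have := IsLocallyNoetherian.component_noetherian ⟨W, hW⟩
  have : NoetherianSpace W := noetherianSpace_of_isAffineOpen W hW
  have h1 : x ∈ closure ((W : Set X) ∩ {ξ : X | IsMaxPt ξ ∧ ξ ∉ G}) :=
    W.isOpen.inter_closure ⟨hxW, hcl⟩
  have hfin : ((W : Set X) ∩ {ξ : X | IsMaxPt ξ ∧ ξ ∉ G}).Finite := by
    refine ((finite_maxPts W).image Subtype.val).subset ?_
    rintro ξ ⟨hξW, hξ, -⟩
    refine ⟨⟨ξ, hξW⟩, ?_, rfl⟩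
    exact (isMaxPt_iff_of_isOpenEmbedding W.isOpen.isOpenEmbedding_subtypeVal ⟨ξ, hξW⟩).mp hξ
  have h2 : closure ((W : Set X) ∩ {ξ : X | IsMaxPt ξ ∧ ξ ∉ G}) =
      ⋃ ξ ∈ (W : Set X) ∩ {ξ : X | IsMaxPt ξ ∧ ξ ∉ G}, closure {ξ} := by
    conv_lhs => rw [← Set.biUnion_of_singleton ((W : Set X) ∩ {ξ : X | IsMaxPt ξ ∧ ξ ∉ G})]
    exact hfin.closure_biUnion _
  rw [h2] at h1
  obtain ⟨ξ, ⟨-, hξ, hξG⟩, hxξ⟩ := Set.mem_iUnion₂.mp h1
  exact hξG (hx ξ hξ (specializes_iff_mem_closure.mpr hxξ))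

end Groth.Agent.Helper5.DedOpen
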