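import Mathlib
import Groth.Agent.Helper5.DedOpen1
import Groth.Agent.Helper5.DedOpen2

set_option autoImplicit false
universe u

namespace Groth.Agent.Helper5.DedOpen

open CategoryTheory CategoryTheory.Limits AlgebraicGeometry TopologicalSpace Topology

/-- the affine case, in scheme language -/
theorem universallyOpen_of_maxPts_affine {A B : CommRingCat.{u}} [IsLocallyNoetherian (Spec A)]
    [IsIntegral (Spec A)]
    (hY : ∀ y : Spec A, IsRegularLocalRing ((Spec A).presheaf.stalk y) ∧
      ringKrullDim ((Spec A).presheaf.stalk y) ≤ 1)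
    (g : Spec B ⟶ Spec A) [LocallyOfFiniteType g]
    (hg : ∀ ξ : Spec B, IsMaxPt ξ → IsMaxPt (g ξ)) : UniversallyOpen g := by
  obtain ⟨φ, rfl⟩ := Spec.map_surjective g
  have hdom : IsDomain A := (affine_isIntegral_iff A).mp inferInstance
  have hnoe : IsNoetherianRing A := isLocallyNoetherian_Spec.mp inferInstance
  refine universallyOpen_Spec φ ?_ ?_ ?_
  · intro P hP
    let x : Spec A := ⟨P, hP.isPrime⟩
    let k : Algebra ↑A ↑((Spec A).presheaf.stalk x) := StructureSheaf.stalkAlgebra (↑A) x
    have hloc : IsLocalization.AtPrime (↑((Spec A).presheaf.stalk x)) P :=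
      StructureSheaf.IsLocalization.to_stalk A x
    let e : (Localization P.primeCompl) ≃+* ((Spec A).presheaf.stalk x) :=
      (IsLocalization.algEquiv P.primeCompl (Localization P.primeCompl)
        ((Spec A).presheaf.stalk x)).toRingEquiv
    have hreg : IsRegularLocalRing (Localization P.primeCompl) :=
      @IsRegularLocalRing.of_ringEquiv _ _ (hY x).1 _ _ e.symm
    have hdim : ringKrullDim (Localization P.primeCompl) ≤ 1 :=
      (ringKrullDim_eq_of_ringEquiv e).trans_le (hY x).2
    exact valuationRing_of_regular _ hdim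
  · exact (HasRingHomProperty.Spec_iff (P := @LocallyOfFiniteType)).mp inferInstance
  · intro q hq
    have hqp : q.IsPrime := hq.1.1
    let ξ : Spec B := ⟨q, hqp⟩
    have hξ : IsMaxPt ξ := by
      intro w hw
      have hle : (show PrimeSpectrum B from w).asIdeal ≤ q :=
        (PrimeSpectrum.le_iff_specializes (show PrimeSpectrum B from w)
          (show PrimeSpectrum B from ξ)).mpr hw
      have hle' : q ≤ (show PrimeSpectrum B from w).asIdeal := hq.2 ⟨w.isPrime, bot_le⟩ hle
      exact PrimeSpectrum.ext (le_antisymm hle hle')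
    have h1 := hg ξ hξ
    let z : Spec A := ⟨⊥, Ideal.isPrime_bot⟩
    have hz : z ⤳ (Spec.map φ) ξ :=
      (PrimeSpectrum.le_iff_specializes (show PrimeSpectrum A from z)
        (show PrimeSpectrum A from (Spec.map φ) ξ)).mp
        (show (⊥ : Ideal A) ≤ _ from bot_le)
    have h2 : z = (Spec.map φ) ξ := h1 z hz
    have h3 : z.asIdeal = ((Spec.map φ) ξ).asIdeal := congrArg PrimeSpectrum.asIdeal h2
    exact h3.symm

/-- over an integral locally Noetherian base with regular local rings of dimension `≤ 1`, a
morphism locally of finite type whose maximal points map to maximal points is universally open -/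
theorem universallyOpen_of_maxPts {X Y : Scheme.{u}} [IsLocallyNoetherian Y] [IsIntegral Y]
    (hY : ∀ y : Y, IsRegularLocalRing (Y.presheaf.stalk y) ∧
      ringKrullDim (Y.presheaf.stalk y) ≤ 1)
    (g : X ⟶ Y) [LocallyOfFiniteType g]
    (hg : ∀ ξ : X, IsMaxPt ξ → IsMaxPt (g ξ)) : UniversallyOpen g := by
  wlog hYa : ∃ R, Y = Spec R generalizing X Y with H
  · rw [IsZariskiLocalAtTarget.iff_of_openCover (P := @UniversallyOpen) Y.affineCover]
    intro i
    dsimp only [Scheme.Cover.pullbackHom]
    let j := Y.affineCover.f i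
    rcases isEmpty_or_nonempty (Y.affineCover.X i) with hemp | hne
    · have : IsEmpty ↥(pullback g j) := Function.isEmpty (pullback.snd g j)
      infer_instance
    have : IsIntegral (Y.affineCover.X i) := isIntegral_of_isOpenImmersion j
    have : IsLocallyNoetherian (Y.affineCover.X i) := isLocallyNoetherian_of_isOpenImmersion j
    refine H ?_ (pullback.snd g j) ?_ ⟨_, rfl⟩
    · intro y'
      let e : Y.presheaf.stalk (j y') ≃+* (Y.affineCover.X i).presheaf.stalk y' :=
        (asIso (j.stalkMap y')).commRingCatIsoToRingEquiv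
      exact ⟨@IsRegularLocalRing.of_ringEquiv _ _ (hY (j y')).1 _ _ e,
        (ringKrullDim_eq_of_ringEquiv e).symm.trans_le (hY (j y')).2⟩
    · intro ξ hξ
      have h1 : IsMaxPt ((pullback.fst g j) ξ) :=
        (isMaxPt_iff_of_isOpenEmbedding (pullback.fst g j).isOpenEmbedding ξ).mpr hξ
      have h2 := hg _ h1
      have h3 : g ((pullback.fst g j) ξ) = j ((pullback.snd g j) ξ) :=
        congrArg (fun ψ : pullback g j ⟶ Y => ψ ξ) pullback.condition
      rw [h3] at h2
      exact (isMaxPt_iff_of_isOpenEmbedding j.isOpenEmbedding _).mp h2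
  obtain ⟨R, rfl⟩ := hYa
  wlog hXa : ∃ S, X = Spec S generalizing X
  · rw [IsZariskiLocalAtSource.iff_of_openCover (P := @UniversallyOpen) X.affineCover]
    intro i
    refine this (X.affineCover.f i ≫ g) ?_ ⟨_, rfl⟩
    intro ξ hξ
    have h1 : IsMaxPt ((X.affineCover.f i) ξ) :=
      (isMaxPt_iff_of_isOpenEmbedding (X.affineCover.f i).isOpenEmbedding ξ).mpr hξ
    exact hg _ h1
  obtain ⟨S, rfl⟩ := hXa
  exact universallyOpen_of_maxPts_affine hY g hg

end Groth.Agent.Helper5.DedOpen
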