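import Mathlib
import Groth.Agent.Helper5.DedOpen3

set_option autoImplicit false
universe u

namespace Groth.Agent.Helper5.DedOpen

open CategoryTheory CategoryTheory.Limits AlgebraicGeometry TopologicalSpace Topology

/-- S2572 -/
theorem s2572 {X Y : Scheme.{u}} [IsLocallyNoetherian Y] [IrreducibleSpace Y]
    (hY : ∀ y : Y, IsRegularLocalRing (Y.presheaf.stalk y) ∧ ringKrullDim (Y.presheaf.stalk y) ≤ 1)
    (f : X ⟶ Y) [LocallyOfFiniteType f] (y : Y)
    (h : ∀ Z ∈ irreducibleComponents (X : Type u), (Z ∩ f.base ⁻¹' {y}).Nonempty →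
      Dense (f.base '' Z)) :
    ∃ U : X.Opens, f.base ⁻¹' {y} ⊆ (U : Set X) ∧ UniversallyOpen (U.ι ≫ f) := by
  have hred : IsReduced Y := by
    have : ∀ y : Y, _root_.IsReduced (Y.presheaf.stalk y) := fun y => by
      have := (hY y).1
      have := Lead.RegLocal.isDomain_of_isRegularLocalRing (Y.presheaf.stalk y)
      infer_instance
    exact isReduced_of_isReduced_stalk Y
  have hint : IsIntegral Y := isIntegral_of_irreducibleSpace_of_isReduced Y
  have hXn : IsLocallyNoetherian X := LocallyOfFiniteType.isLocallyNoetherian f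
  let G : Set X := {ξ | IsMaxPt (f ξ)}
  let U : X.Opens := ⟨(closure {ξ : X | IsMaxPt ξ ∧ ξ ∉ G})ᶜ, isClosed_closure.isOpen_compl⟩
  refine ⟨U, ?_, ?_⟩
  · intro x hx
    refine notMem_closure_bad G x ?_
    intro ξ hξ hξx
    have hZ := EqAt.closure_singleton_mem_irreducibleComponents ξ hξ
    have hd := h _ hZ ⟨x, hξx.mem_closure, hx⟩
    show IsMaxPt (f ξ)
    intro w hw
    have h1 : closure {f ξ} = Set.univ := by
      have h0 : f.base '' closure {ξ} ⊆ closure {f ξ} := by
        refine (image_closure_subset_closure_image f.continuous).trans ?_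
        rw [Set.image_singleton]
      exact Set.eq_univ_of_univ_subset (hd.closure_eq ▸ closure_minimal h0 isClosed_closure)
    have h2 : f ξ ⤳ w := by
      rw [specializes_iff_mem_closure, h1]
      trivial
    exact (hw.antisymm h2).eq
  · refine universallyOpen_of_maxPts hY (U.ι ≫ f) ?_
    intro ξ hξ
    have h1 : IsMaxPt (U.ι ξ) := (isMaxPt_iff_of_isOpenEmbedding U.ι.isOpenEmbedding ξ).mpr hξ
    by_contra hbad
    have h2 : U.ι ξ ∈ closure {ξ : X | IsMaxPt ξ ∧ ξ ∉ G} := subset_closure ⟨h1, hbad⟩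
    exact ξ.2 h2

end Groth.Agent.Helper5.DedOpen
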