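import Mathlib
import Groth.Agent.Helper5.CutSec9
import Groth.Agent.Helper5.DedOpen4
import Groth.Agent.Helper5.ChevL

set_option autoImplicit false
set_option linter.style.haveILetI false
universe u
open CategoryTheory CategoryTheory.Limits AlgebraicGeometry TopologicalSpace Topology

namespace Groth.Agent.Helper5.DedQf

open Groth.Agent.Helper5.DedOpen Groth.Agent.Helper5.CutSec Groth.Agent.Helper5.OpenAt
  Groth.Agent.Helper5.SubDim Groth.Agent.Helper5.Chev

set_option maxHeartbeats 1000000 in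
/-- d ⇒ e -/
theorem s4946_d_e {X Y : Scheme.{u}} [IrreducibleSpace Y]
    [IsLocallyNoetherian Y]
    (hY : ∀ y : Y, IsRegularLocalRing (Y.presheaf.stalk y) ∧ ringKrullDim (Y.presheaf.stalk y) ≤ 1)
    (f : X ⟶ Y) [LocallyOfFiniteType f] (x : X)
    (hcl : ∀ x' : X, f.base x' = f.base x → x ⤳ x' → x' = x)
    (Xi : Set X) (hXi : Xi ∈ irreducibleComponents (X : Type u)) (hx : x ∈ Xi)
    (hd : Dense (f.base '' Xi)) :
    ∃ (T : Scheme.{u}) (i : T ⟶ X), IsImmersion i ∧ IrreducibleSpace ↥T ∧ IsReduced T ∧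
      x ∈ Set.range i.base ∧ Set.range i.base ⊆ Xi ∧
      LocallyOfFiniteType (i ≫ f) ∧ LocallyQuasiFinite (i ≫ f) ∧ QuasiCompact (i ≫ f) ∧
        IsDominant (i ≫ f) := by
  have hred : IsReduced Y := by
    have : ∀ y : Y, _root_.IsReduced (Y.presheaf.stalk y) := fun y => by
      have := (hY y).1
      have := Lead.RegLocal.isDomain_of_isRegularLocalRing (Y.presheaf.stalk y)
      infer_instance
    exact isReduced_of_isReduced_stalk Y
  have hint : IsIntegral Y := isIntegral_of_irreducibleSpace_of_isReduced Y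
  have hZcl := isClosed_of_mem_irreducibleComponents Xi hXi
  let Zc : TopologicalSpace.Closeds ↥X := ⟨Xi, hZcl⟩
  let I := Scheme.IdealSheafData.vanishingIdeal Zc
  let ι₀ : I.subscheme ⟶ X := I.subschemeι
  have hrange : Set.range ι₀ = Xi := by rw [Scheme.IdealSheafData.range_subschemeι]; rfl
  have hredT : IsReduced I.subscheme := isReduced_vanishingIdeal_subscheme Zc
  obtain ⟨ξ, hξ⟩ := QuasiSober.sober hXi.1 hZcl
  have hξdef : closure ({ξ} : Set ↥X) = Xi := hξ.def
  obtain ⟨ξT, hξT⟩ : ξ ∈ Set.range ι₀ := by rw [hrange, ← hξdef]; exact subset_closure rfl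
  have hξTgen : closure ({ξT} : Set ↥I.subscheme) = Set.univ := by
    rw [ι₀.isEmbedding.toIsInducing.closure_eq_preimage_closure_image, Set.image_singleton, hξT,
      hξdef]
    refine Set.eq_univ_of_forall fun t => ?_
    show ι₀ t ∈ Xi
    rw [← hrange]; exact ⟨t, rfl⟩
  have hirr : IrreducibleSpace ↥I.subscheme := by
    have h1 : IsIrreducible (Set.univ : Set ↥I.subscheme) := by
      rw [← hξTgen]; exact isIrreducible_singleton.closure
    exact (irreducibleSpace_def _).2 h1
  let g : I.subscheme ⟶ Y := ι₀ ≫ f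
  have hglft : LocallyOfFiniteType g := inferInstance
  have hgdom : IsDominant g := by
    refine ⟨?_⟩
    rw [DenseRange]
    have : Set.range g = f '' Xi := by
      rw [← hrange]
      ext y
      simp only [Set.mem_range, Set.mem_image, g, Scheme.Hom.comp_apply]
      constructor
      · rintro ⟨t, rfl⟩; exact ⟨ι₀ t, ⟨t, rfl⟩, rfl⟩
      · rintro ⟨_, ⟨t, rfl⟩, rfl⟩; exact ⟨t, rfl⟩
    rw [this]; exact hd
  have hgmax : ∀ ξ : ↥I.subscheme, IsMaxPt ξ → IsMaxPt (g ξ) := by
    intro ξ' hξ'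
    have h1 : genericPoint ↥I.subscheme = ξ' :=
      hξ' _ ((genericPoint_spec ↥I.subscheme).specializes (Set.mem_univ _))
    rw [← h1, map_genericPoint_of_isDominant g]
    intro w hw
    have h2 : genericPoint ↥Y ⤳ w := (genericPoint_spec ↥Y).specializes (Set.mem_univ _)
    exact (hw.antisymm h2).eq
  have hguo : UniversallyOpen g := universallyOpen_of_maxPts hY g hgmax
  have hgopen : IsOpenMap g := g.isOpenMap
  obtain ⟨w, hw⟩ : x ∈ Set.range ι₀ := by rw [hrange]; exact hx
  have hEq : EGA43.IsEquidimAt g w :=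
    isEquidimAt_of_isOpenAt_of_irreducible g w (fun z _ _ => isOpenAt_of_isOpenMap _ hgopen _)
  have hclw : ∀ w' : ↥I.subscheme, g w' = g w → w ⤳ w' → w' = w := by
    intro w' h1 h2
    have h3 : ι₀ w ⤳ ι₀ w' := h2.map ι₀.continuous
    rw [hw] at h3
    have h4 : f (ι₀ w') = f x := by
      have : g w' = g w := h1
      simp only [g, Scheme.Hom.comp_apply] at this
      rw [this, hw]
    have h5 := hcl _ h4 h3
    exact ι₀.isEmbedding.injective (h5.trans hw.symm)
  obtain ⟨e, he⟩ := fibreDimAt_nat g w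
  obtain ⟨T', i, -, himm, hirr', hred', hwi, hlft, hlqf, hqc, hdom⟩ :=
    exists_qf_aux' e I.subscheme g w hEq hclw he
  refine ⟨T', i ≫ ι₀, inferInstance, hirr', hred', ?_, ?_, ?_, ?_, ?_, ?_⟩
  · obtain ⟨t, ht⟩ := hwi
    exact ⟨t, by rw [Scheme.Hom.comp_apply, ht, hw]⟩
  · rintro _ ⟨t, rfl⟩
    rw [← hrange]
    exact ⟨i t, rfl⟩
  · rw [Category.assoc]; exact hlft
  · rw [Category.assoc]; exact hlqf
  · rw [Category.assoc]; exact hqc
  · rw [Category.assoc]; exact hdom

end Groth.Agent.Helper5.DedQf
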