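import Mathlib
import Groth.Agent.Helper5.DedQf1

set_option autoImplicit false
set_option linter.style.haveILetI false
universe u
open CategoryTheory CategoryTheory.Limits AlgebraicGeometry TopologicalSpace Topology

namespace Groth.Agent.Helper5.DedQf

/-- a nonempty closed subset of `X` meeting the fibre contains a point closed in the fibre -/
theorem exists_closed_in_fibre {X Y : Scheme.{u}} (f : X ⟶ Y) [LocallyOfFiniteType f] (y : Y)
    (Z : Set X) (hZ : IsClosed Z) (hne : (Z ∩ f.base ⁻¹' {y}).Nonempty) :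
    ∃ x : X, x ∈ Z ∧ f.base x = y ∧ ∀ x' : X, f.base x' = y → x ⤳ x' → x' = x := by
  let ι := f.fiberι y
  let W : Set ↥(f.fiber y) := ι ⁻¹' Z
  have hWc : IsClosed W := hZ.preimage ι.continuous
  obtain ⟨x₀, hx₀Z, hx₀y⟩ := hne
  have hxr : x₀ ∈ Set.range ι := by
    rw [f.range_fiberι y]
    exact hx₀y
  obtain ⟨z₀, hz₀⟩ := hxr
  have hWne : W.Nonempty := ⟨z₀, by show ι z₀ ∈ Z; rw [hz₀]; exact hx₀Z⟩
  obtain ⟨z, hzW, hzcl⟩ : ∃ z ∈ W, z ∈ closedPoints ↥(f.fiber y) := by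
    have h1 := closure_inter_closedPoints hWc
    by_contra hcon
    have h2 : W ∩ closedPoints ↥(f.fiber y) = ∅ := by
      ext z
      simp only [Set.mem_inter_iff, Set.mem_empty_iff_false, iff_false]
      rintro ⟨h3, h4⟩
      exact hcon ⟨z, h3, h4⟩
    rw [h2, closure_empty] at h1
    rw [← h1] at hWne
    exact Set.not_nonempty_empty hWne
  have hzcl' : IsClosed ({z} : Set ↥(f.fiber y)) := hzcl
  have hfx : f (ι z) = y := by
    have : ι z ∈ Set.range ι := ⟨z, rfl⟩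
    rw [f.range_fiberι y] at this
    exact this
  refine ⟨ι z, hzW, hfx, ?_⟩
  intro x' hx' hsp
  have hx'r : x' ∈ Set.range ι := by
    rw [f.range_fiberι y]
    exact hx'
  obtain ⟨z', hz'⟩ := hx'r
  have h1 : z ⤳ z' := by
    rw [← ι.isEmbedding.isInducing.specializes_iff, hz']
    exact hsp
  have h2 : z' ∈ closure ({z} : Set ↥(f.fiber y)) := h1.mem_closure
  rw [hzcl'.closure_eq] at h2
  rw [← hz', h2]

/-- S4946 -/
theorem s4946 {X Y : Scheme.{u}} [IrreducibleSpace Y]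
    [IsLocallyNoetherian Y] (hY : ∀ y : Y, IsRegularLocalRing (Y.presheaf.stalk y) ∧ ringKrullDim (Y.presheaf.stalk y) ≤ 1)
    (f : X ⟶ Y) [LocallyOfFiniteType f] (y : Y) :
    (∀ Z ∈ irreducibleComponents (X : Type u), (Z ∩ f.base ⁻¹' {y}).Nonempty → Dense (f.base '' Z)) ↔
      ∀ x : X, f.base x = y → (∀ x' : X, f.base x' = y → x ⤳ x' → x' = x) →
        ∀ Xi ∈ irreducibleComponents (X : Type u), x ∈ Xi →
          ∃ (T : Scheme.{u}) (i : T ⟶ X), IsImmersion i ∧ IrreducibleSpace ↥T ∧ IsReduced T ∧ x ∈ Set.range i.base ∧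
            Set.range i.base ⊆ Xi ∧
            LocallyOfFiniteType (i ≫ f) ∧ LocallyQuasiFinite (i ≫ f) ∧ QuasiCompact (i ≫ f) ∧ IsDominant (i ≫ f) := by
  constructor
  · intro hd x hx hcl Xi hXi hxXi
    subst hx
    exact s4946_d_e hY f x hcl Xi hXi hxXi (hd Xi hXi ⟨x, hxXi, rfl⟩)
  · intro he Z hZ hne
    have hZcl := isClosed_of_mem_irreducibleComponents Z hZ
    obtain ⟨x, hxZ, hxy, hcl⟩ := exists_closed_in_fibre f y Z hZcl hne
    obtain ⟨T, i, -, -, -, -, hsub, -, -, -, hdom⟩ := he x hxy hcl Z hZ hxZ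
    have h1 : DenseRange (i ≫ f) := hdom.1
    refine h1.mono ?_
    rintro _ ⟨t, rfl⟩
    exact ⟨i t, hsub ⟨t, rfl⟩, rfl⟩

end Groth.Agent.Helper5.DedQf
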