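import Groth.Agent.Helper5.Deform1
import Groth.Agent.Helper5.GeomFibSp1
import Mathlib

set_option autoImplicit false
set_option linter.style.haveILetI false
set_option linter.unusedSectionVars false
set_option linter.unusedVariables false
universe u
open CategoryTheory CategoryTheory.Limits AlgebraicGeometry Opposite

namespace Groth.Agent.Helper5.DeformSp

open AlgSp Groth.Agent.Helper4 Groth.Agent.Helper5.GorSp Groth.Agent.Helper5.FlatSp
  Groth.Agent.Helper4.AlgSpOpenImage

variable {S : Scheme.{u}}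

set_option backward.isDefEq.respectTransparency.types false in
/-- base change of a chart triple along a representable morphism of the base -/
theorem exists_bc_cube {X X' Y Y' B B' : Sp S} (iX : X ⟶ X') (iY : Y ⟶ Y') (iB : B ⟶ B')
    (f : X ⟶ Y) (f' : X' ⟶ Y') (g : Y ⟶ B) (g' : Y' ⟶ B')
    (hcX : IsPullback iX (f ≫ g) (f' ≫ g') iB) (hcY : IsPullback iY g g' iB)
    (w : iX ≫ f' = f ≫ iY) (hB : Representable iB)
    {U' V' W' : Over S} (a' : (yon S).obj U' ⟶ X') (b' : (yon S).obj V' ⟶ Y')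
    (c' : (yon S).obj W' ⟶ B') (s' : U' ⟶ V') (t' : V' ⟶ W')
    (ha' : RepWith @Etale a') (hb' : RepWith @Etale b') (hc' : RepWith @Etale c')
    (c1 : a' ≫ f' = (yon S).map s' ≫ b') (c2 : b' ≫ g' = (yon S).map t' ≫ c') :
    ∃ (U V W : Over S) (jU : U ⟶ U') (jV : V ⟶ V') (jW : W ⟶ W') (a : (yon S).obj U ⟶ X)
      (b : (yon S).obj V ⟶ Y) (c : (yon S).obj W ⟶ B) (s : U ⟶ V) (t : V ⟶ W),
      RepWith @Etale a ∧ RepWith @Etale b ∧ RepWith @Etale c ∧
      IsPullback a ((yon S).map jU) iX a' ∧ IsPullback b ((yon S).map jV) iY b' ∧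
      IsPullback c ((yon S).map jW) iB c' ∧
      a ≫ f = (yon S).map s ≫ b ∧ b ≫ g = (yon S).map t ≫ c ∧
      IsPullback jU (s ≫ t) (s' ≫ t') jW ∧ IsPullback jV t t' jW ∧ jU ≫ s' = s ≫ jV := by
  have hXsq : IsPullback iX f f' iY := IsPullback.of_bot hcX w hcY
  have hiY : Representable iY := MorphismProperty.of_isPullback (P := Representable) hcY.flip hB
  have hiX : Representable iX := MorphismProperty.of_isPullback (P := Representable) hcX.flip hB
  obtain ⟨W, jW, c, sqW, hc⟩ := exists_bc_chart iB hB c' hc'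
  obtain ⟨V, jV, b, sqV, hb⟩ := exists_bc_chart iY hiY b' hb'
  obtain ⟨U, jU, a, sqU, ha⟩ := exists_bc_chart iX hiX a' ha'
  -- `t`
  have ewt : (b ≫ g) ≫ iB = ((yon S).map jV ≫ (yon S).map t') ≫ c' := by
    rw [Category.assoc, ← hcY.w, ← Category.assoc, sqV.w, Category.assoc, c2, Category.assoc]
  obtain ⟨t, ht⟩ := (yon S).map_surjective (sqW.lift (b ≫ g) ((yon S).map jV ≫ (yon S).map t') ewt)
  have ht1 : (yon S).map t ≫ c = b ≫ g := by rw [ht]; exact sqW.lift_fst _ _ _
  have ht2 : (yon S).map t ≫ (yon S).map jW = (yon S).map jV ≫ (yon S).map t' := by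
    rw [ht]; exact sqW.lift_snd _ _ _
  -- `s`
  have ews : (a ≫ f) ≫ iY = ((yon S).map jU ≫ (yon S).map s') ≫ b' := by
    rw [Category.assoc, ← w, ← Category.assoc, sqU.w, Category.assoc, c1, Category.assoc]
  obtain ⟨s, hs⟩ := (yon S).map_surjective (sqV.lift (a ≫ f) ((yon S).map jU ≫ (yon S).map s') ews)
  have hs1 : (yon S).map s ≫ b = a ≫ f := by rw [hs]; exact sqV.lift_fst _ _ _
  have hs2 : (yon S).map s ≫ (yon S).map jV = (yon S).map jU ≫ (yon S).map s' := by
    rw [hs]; exact sqV.lift_snd _ _ _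
  -- the pullback squares of schemes
  have bigV : IsPullback ((yon S).map t ≫ c) ((yon S).map jV) iB ((yon S).map t' ≫ c') := by
    have := sqV.paste_horiz hcY.flip
    rw [← ht1, c2] at this
    exact this
  have pVy : IsPullback ((yon S).map t) ((yon S).map jV) ((yon S).map jW) ((yon S).map t') :=
    IsPullback.of_right bigV ht2 sqW
  have pV : IsPullback jV t t' jW :=
    Groth.Agent.Helper5.GeomFibSp.isPullback_of_yon_map pVy.flip
  have e1 : a ≫ f ≫ g = (yon S).map (s ≫ t) ≫ c := by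
    rw [← Category.assoc, ← hs1, Category.assoc, ← ht1, Functor.map_comp, Category.assoc]
  have e2 : a' ≫ f' ≫ g' = (yon S).map (s' ≫ t') ≫ c' := by
    rw [← Category.assoc, c1, Category.assoc, c2, Functor.map_comp, Category.assoc]
  have bigU : IsPullback ((yon S).map (s ≫ t) ≫ c) ((yon S).map jU) iB
      ((yon S).map (s' ≫ t') ≫ c') := by
    have := sqU.paste_horiz hcX.flip
    rw [e1, e2] at this
    exact this
  have ecomm : (yon S).map (s ≫ t) ≫ (yon S).map jW = (yon S).map jU ≫ (yon S).map (s' ≫ t') := by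
    rw [Functor.map_comp, Category.assoc, ht2, ← Category.assoc, hs2, Category.assoc,
      ← Functor.map_comp]
  have pUy : IsPullback ((yon S).map (s ≫ t)) ((yon S).map jU) ((yon S).map jW)
      ((yon S).map (s' ≫ t')) := IsPullback.of_right bigU ecomm sqW
  have pU : IsPullback jU (s ≫ t) (s' ≫ t') jW :=
    Groth.Agent.Helper5.GeomFibSp.isPullback_of_yon_map pUy.flip
  refine ⟨U, V, W, jU, jV, jW, a, b, c, s, t, ha, hb, hc, sqU, sqV, sqW, hs1.symm, ht1.symm, pU, pV,
    ?_⟩
  apply (yon S).map_injective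
  rw [Functor.map_comp, Functor.map_comp, hs2]

end Groth.Agent.Helper5.DeformSp
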