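import Groth.Agent.Helper5.Deform2
import Mathlib

set_option autoImplicit false
set_option linter.style.haveILetI false
set_option linter.unusedSectionVars false
set_option linter.unusedVariables false
universe u
open CategoryTheory CategoryTheory.Limits AlgebraicGeometry Opposite

namespace Groth.Agent.Helper5.DeformSp

open AlgSp Groth.Agent.Helper4 Groth.Agent.Helper5.GorSp Groth.Agent.Helper5.FlatSp
  Groth.Agent.Helper4.AlgSpOpenImage Groth.Agent.Helper5.FlatBC

variable {S : Scheme.{u}}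

set_option backward.isDefEq.respectTransparency.types false in
theorem s10595 {X X' Y Y' B B' : AlgSp.Space S} (iX : X ⟶ X') (iY : Y ⟶ Y') (iB : B ⟶ B')
    (f : X ⟶ Y) (f' : X' ⟶ Y') (g : Y ⟶ B) (g' : Y' ⟶ B')
    (hcX : IsPullback iX.hom (f ≫ g).hom (f' ≫ g').hom iB.hom)
    (hcY : IsPullback iY.hom g.hom g'.hom iB.hom)
    (w : iX ≫ f' = f ≫ iY)
    (hB : AlgSp.IsFinThickMor iB.hom) (hflat : AlgSp.LocP @Flat (f' ≫ g').hom)
    (hf : AlgSp.LocP @Flat f.hom) :
    AlgSp.LocP @Flat f'.hom ∧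
    ∀ x' : AlgSp.Points X'.obj, AlgSp.IsFlatAtMor g'.hom (AlgSp.Points.map f'.hom x') := by
  obtain ⟨n, hthick, hpow⟩ := hB
  have w' : iX.hom ≫ f'.hom = f.hom ≫ iY.hom := congrArg (fun k => k.hom) w
  have hf'all : ∀ x', IsFlatAtMor f'.hom x' := by
    intro x'
    obtain ⟨U', V', W', a', b', c', s', t', u', hWaff, ha', hb', hc', c1, c2, hu'⟩ :=
      exists_chart_comp_affine X'.property Y'.property B'.property f'.hom g'.hom x'
    obtain ⟨U, V, W, jU, jV, jW, a, b, c, s, t, ha, hb, hc, sqU, sqV, sqW, d1, d2, pU, pV, hjs⟩ :=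
      exists_bc_cube iX.hom iY.hom iB.hom f.hom f'.hom g.hom g'.hom hcX hcY w' hthick.rep
        a' b' c' s' t' ha' hb' hc' c1 c2
    have hjW : MoreMor.IsFiniteOrderThickening jW.left :=
      ⟨hthick.property _ _ _ sqW, ⟨n + 1, hpow c' c jW hWaff hc' sqW⟩⟩
    have c3 : a' ≫ (f' ≫ g').hom = (yon S).map (s' ≫ t') ≫ c' := by
      show a' ≫ f'.hom ≫ g'.hom = _
      rw [← Category.assoc, c1, Category.assoc, c2, Functor.map_comp, Category.assoc]
    haveI : Flat (s'.left ≫ t'.left) := hflat a' c' (s' ≫ t') ha' hc' c3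
    haveI : Flat s.left := hf a b s ha hb d1
    have hfl : Flat s'.left :=
      Groth.Agent.Lead.Deform.flat_of_deform jU.left jV.left jW.left s.left s'.left t.left t'.left
        hjW (pU.map (Over.forget S)) (pV.map (Over.forget S))
        (congrArg (fun k => k.left) hjs)
    exact isFlatAtMor_of_chart f'.hom x' a' b' s' ha' hb' c1 u' hu' (Flat.stalkMap s'.left u')
  have hf' : LocP @Flat f'.hom := (locP_flat_iff_forall _).2 hf'all
  exact ⟨hf', fun x' => isFlatAtMor_of_comp X'.property Y'.property B'.property f'.hom g'.hom hf'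
    hflat x'⟩

end Groth.Agent.Helper5.DeformSp
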