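import Mathlib

set_option autoImplicit false
set_option linter.style.haveILetI false
set_option linter.unusedSectionVars false
set_option linter.unusedVariables false
universe u
open TensorProduct

namespace Groth.Agent.Helper5.DeformAlg

section FT

variable {B' C' B C : Type u} [CommRing B'] [CommRing C'] [CommRing B] [CommRing C]

/-- finite type lifts along nilpotent cartesian thickenings -/
theorem finiteType_of_nilpotent (β : B' →+* C') (φ : B →+* C) (πB : B' →+* B) (πC : C' →+* C)
    (hcomm : φ.comp πB = πC.comp β) (hπB : Function.Surjective πB) (hπC : Function.Surjective πC)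
    (hnil : IsNilpotent (RingHom.ker πB)) (hL : RingHom.ker πC = (RingHom.ker πB).map β)
    (hφ : φ.FiniteType) : β.FiniteType := by
  algebraize [β, φ]
  obtain ⟨s, hs⟩ := (Algebra.FiniteType.out : (⊤ : Subalgebra B C).FG)
  choose lift hlift using hπC
  classical
  let t : Finset C' := s.image lift
  let D : Subalgebra B' C' := Algebra.adjoin B' (t : Set C')
  -- `πC` restricted to `D` is onto
  have h1 : ∀ c : C, ∃ d ∈ D, πC d = c := by
    intro c
    have hc : c ∈ Algebra.adjoin B (s : Set C) := by rw [hs]; trivial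
    induction hc using Algebra.adjoin_induction with
    | mem x hx =>
      refine ⟨lift x, Algebra.subset_adjoin ?_, hlift x⟩
      exact Finset.mem_coe.2 (Finset.mem_image_of_mem lift hx)
    | algebraMap b =>
      obtain ⟨b', rfl⟩ := hπB b
      refine ⟨algebraMap B' C' b', Subalgebra.algebraMap_mem D b', ?_⟩
      have := congrArg (fun ψ => ψ b') hcomm
      exact this.symm
    | add x y _ _ hx hy =>
      obtain ⟨dx, hdx, rfl⟩ := hx
      obtain ⟨dy, hdy, rfl⟩ := hy
      exact ⟨dx + dy, D.add_mem hdx hdy, map_add _ _ _⟩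
    | mul x y _ _ hx hy =>
      obtain ⟨dx, hdx, rfl⟩ := hx
      obtain ⟨dy, hdy, rfl⟩ := hy
      exact ⟨dx * dy, D.mul_mem hdx hdy, map_mul _ _ _⟩
  set K : Ideal B' := RingHom.ker πB with hK
  let N : Submodule B' C' := Subalgebra.toSubmodule D
  have h2 : (⊤ : Submodule B' C') ≤ N ⊔ K • ⊤ := by
    intro c' _
    obtain ⟨d, hd, hdc⟩ := h1 (πC c')
    have hmem : c' - d ∈ RingHom.ker πC := by
      rw [RingHom.mem_ker, map_sub, hdc, sub_self]
    rw [hL] at hmem
    have hmem' : c' - d ∈ K • (⊤ : Submodule B' C') := by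
      rw [Ideal.smul_top_eq_map]
      exact hmem
    have : c' = d + (c' - d) := by ring
    rw [this]
    exact Submodule.add_mem_sup hd hmem'
  have h3 : ∀ n : ℕ, (⊤ : Submodule B' C') ≤ N ⊔ (K ^ n) • ⊤ := by
    intro n
    induction n with
    | zero =>
      rw [pow_zero, Ideal.one_eq_top, Submodule.top_smul]
      exact le_sup_right
    | succ n ih =>
      calc (⊤ : Submodule B' C') ≤ N ⊔ K • ⊤ := h2
        _ ≤ N ⊔ K • (N ⊔ (K ^ n) • ⊤) := by gcongr
        _ = N ⊔ (K • N ⊔ K • ((K ^ n) • ⊤)) := by rw [Submodule.smul_sup]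
        _ ≤ N ⊔ (K ^ (n + 1)) • ⊤ := by
          rw [← Submodule.mul_smul, ← pow_succ']
          refine sup_le le_sup_left (sup_le ?_ le_sup_right)
          exact le_trans Submodule.smul_le_right le_sup_left
  obtain ⟨n, hn⟩ := hnil
  have h4 : (⊤ : Submodule B' C') ≤ N := by
    have := h3 n
    rw [hn] at this
    simpa using this
  rw [RingHom.FiniteType]
  refine ⟨⟨t, ?_⟩⟩
  rw [eq_top_iff]
  intro c' _
  exact h4 (show c' ∈ (⊤ : Submodule B' C') from trivial)

end FT

end Groth.Agent.Helper5.DeformAlg
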