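import Groth.Agent.Helper5.Deform3
import Groth.Agent.Helper5.DeformAlg1
import Groth.Agent.Lead.ThickBC2
import Groth.Agent.Lead.Deform2
import Groth.Agent.Helper4.AlgSpLocPBC
import Groth.Agent.Helper4.AlgSpLocPFam
import Mathlib

set_option autoImplicit false
set_option linter.style.haveILetI false
set_option linter.unusedSectionVars false
set_option linter.unusedVariables false
universe u
open CategoryTheory CategoryTheory.Limits AlgebraicGeometry Opposite

namespace Groth.Agent.Helper5.DeformSp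

open AlgSp Groth.Agent.Helper4 Groth.Agent.Helper5.GorSp Groth.Agent.Helper5.FlatSp
  Groth.Agent.Helper4.AlgSpOpenImage Groth.Agent.Helper5.FlatBC Groth.Agent.Helper4.SDClasses

/-- locally of finite type lifts along finite order thickenings -/
theorem lft_of_deform {X X' Y Y' : Scheme.{u}} (iX : X ⟶ X') (iY : Y ⟶ Y') (f : X ⟶ Y)
    (f' : X' ⟶ Y') (hY : MoreMor.IsFiniteOrderThickening iY) (hc : IsPullback iX f f' iY)
    (h : LocallyOfFiniteType f) : LocallyOfFiniteType f' := by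
  obtain ⟨n, hn⟩ := Groth.Agent.Lead.Deform.nilpotent_ker iY hY
  haveI := hY.1.1
  refine Groth.Agent.Lead.ThickBC.lift_of_isPullback @LocallyOfFiniteType RingHom.FiniteType hc ?_ h
  intro V' U' e hφ
  obtain ⟨h1, h2, h3, h4⟩ := Groth.Agent.Lead.ThickBC.square_facts hc V' U' e
  exact Groth.Agent.Helper5.DeformAlg.finiteType_of_nilpotent _ _ _ _ h1 h2 h3 ⟨n, hn V'⟩ h4 hφ

variable {S : Scheme.{u}}

/-- the data of a chart cube over a base change square of spaces -/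
def Cube {X' Y' B B' : Sp S} (iB : B ⟶ B') (f' : X' ⟶ Y') (g' : Y' ⟶ B')
    {U U' V V' W W' : Over S} (jU : U ⟶ U') (jV : V ⟶ V') (jW : W ⟶ W')
    (s : U ⟶ V) (s' : U' ⟶ V') (t : V ⟶ W) (t' : V' ⟶ W') : Prop :=
  ∃ (a' : (yon S).obj U' ⟶ X') (b' : (yon S).obj V' ⟶ Y') (c' : (yon S).obj W' ⟶ B')
    (c : (yon S).obj W ⟶ B),
    IsAffine W'.left ∧ RepWith @Etale a' ∧ RepWith @Etale b' ∧ RepWith @Etale c' ∧
    a' ≫ f' = (yon S).map s' ≫ b' ∧ b' ≫ g' = (yon S).map t' ≫ c' ∧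
    IsPullback c ((yon S).map jW) iB c' ∧
    IsPullback jU.left (s.left ≫ t.left) (s'.left ≫ t'.left) jW.left ∧
    IsPullback jV.left t.left t'.left jW.left ∧ jU.left ≫ s'.left = s.left ≫ jV.left

set_option backward.isDefEq.respectTransparency.types false in
/-- generic transfer of an étale local property along a base change cube -/
theorem locP_of_cube (P₀ P : MorphismProperty Scheme.{u}) (hG : Good P)
    {X X' Y Y' B B' : AlgSp.Space S} (iX : X ⟶ X') (iY : Y ⟶ Y') (iB : B ⟶ B')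
    (f : X ⟶ Y) (f' : X' ⟶ Y') (g : Y ⟶ B) (g' : Y' ⟶ B')
    (hcX : IsPullback iX.hom (f ≫ g).hom (f' ≫ g').hom iB.hom)
    (hcY : IsPullback iY.hom g.hom g'.hom iB.hom)
    (w : iX ≫ f' = f ≫ iY) (hrep : Representable iB.hom)
    (hT : ∀ {U U' V V' W W' : Over S} (jU : U ⟶ U') (jV : V ⟶ V') (jW : W ⟶ W')
      (s : U ⟶ V) (s' : U' ⟶ V') (t : V ⟶ W) (t' : V' ⟶ W'),
      Cube iB.hom f'.hom g'.hom jU jV jW s s' t t' → P₀ s.left → P s'.left)
    (hf : AlgSp.LocP P₀ f.hom) : AlgSp.LocP P f'.hom := by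
  have w' : iX.hom ≫ f'.hom = f.hom ≫ iY.hom := congrArg (fun k => k.hom) w
  refine Groth.Agent.Helper4.AlgSpLocPFam.locP_of_chart_family P hG f'.hom (fun x' => ?_)
  obtain ⟨U', V', W', a', b', c', s', t', u', hWaff, ha', hb', hc', c1, c2, hu'⟩ :=
    exists_chart_comp_affine X'.property Y'.property B'.property f'.hom g'.hom x'
  obtain ⟨U, V, W, jU, jV, jW, a, b, c, s, t, ha, hb, hc, sqU, sqV, sqW, d1, d2, pU, pV, hjs⟩ :=
    exists_bc_cube iX.hom iY.hom iB.hom f.hom f'.hom g.hom g'.hom hcX hcY w' hrep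
      a' b' c' s' t' ha' hb' hc' c1 c2
  refine ⟨U', V', a', b', s', u', ha', hb', c1, hu', hT jU jV jW s s' t t' ?_ (hf a b s ha hb d1)⟩
  exact ⟨a', b', c', c, hWaff, ha', hb', hc', c1, c2, sqW, pU.map (Over.forget S),
    pV.map (Over.forget S), congrArg (fun k => k.left) hjs⟩

/-- facts from a cube over a finite order thickening -/
theorem Cube.facts_fin {X' Y' B B' : Sp S} {iB : B ⟶ B'} {f' : X' ⟶ Y'} {g' : Y' ⟶ B'}
    {U U' V V' W W' : Over S} {jU : U ⟶ U'} {jV : V ⟶ V'} {jW : W ⟶ W'}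
    {s : U ⟶ V} {s' : U' ⟶ V'} {t : V ⟶ W} {t' : V' ⟶ W'}
    (hC : Cube iB f' g' jU jV jW s s' t t')
    (hB : AlgSp.IsFinThickMor iB) (hflat : AlgSp.LocP @Flat (f' ≫ g')) :
    MoreMor.IsFiniteOrderThickening jW.left ∧ MoreMor.IsFiniteOrderThickening jV.left ∧
    Flat (s'.left ≫ t'.left) ∧ IsPullback jU.left s.left s'.left jV.left ∧
    IsPullback jU.left (s.left ≫ t.left) (s'.left ≫ t'.left) jW.left ∧
    IsPullback jV.left t.left t'.left jW.left ∧ jU.left ≫ s'.left = s.left ≫ jV.left := by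
  obtain ⟨a', b', c', c, hWaff, ha', hb', hc', c1, c2, sqW, pU, pV, hjs⟩ := hC
  obtain ⟨n, hthick, hpow⟩ := hB
  have hjW : MoreMor.IsFiniteOrderThickening jW.left :=
    ⟨hthick.property _ _ _ sqW, ⟨n + 1, hpow c' c jW hWaff hc' sqW⟩⟩
  have c3 : a' ≫ (f' ≫ g') = (yon S).map (s' ≫ t') ≫ c' := by
    rw [← Category.assoc, c1, Category.assoc, c2, Functor.map_comp, Category.assoc]
  refine ⟨hjW, Groth.Agent.Lead.Deform.finiteOrder_of_isPullback jV.left jW.left t.left t'.left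
    hjW pV, hflat a' c' (s' ≫ t') ha' hc' c3, IsPullback.of_bot pU hjs pV, pU, pV, hjs⟩

/-- facts from a cube over a thickening -/
theorem Cube.facts_thick {X' Y' B B' : Sp S} {iB : B ⟶ B'} {f' : X' ⟶ Y'} {g' : Y' ⟶ B'}
    {U U' V V' W W' : Over S} {jU : U ⟶ U'} {jV : V ⟶ V'} {jW : W ⟶ W'}
    {s : U ⟶ V} {s' : U' ⟶ V'} {t : V ⟶ W} {t' : V' ⟶ W'}
    (hC : Cube iB f' g' jU jV jW s s' t t')
    (hB : AlgSp.IsThickMor iB) (hg' : AlgSp.LocP @LocallyOfFiniteType g')
    (hflat : AlgSp.LocP @Flat (f' ≫ g'))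
    (hfp : AlgSp.LocP @LocallyOfFinitePresentation (f' ≫ g')) :
    MoreMor.IsThickening jW.left ∧ MoreMor.IsThickening jV.left ∧
    Flat (s'.left ≫ t'.left) ∧ LocallyOfFinitePresentation (s'.left ≫ t'.left) ∧
    LocallyOfFiniteType t'.left ∧ LocallyOfFiniteType s'.left ∧
    IsPullback jU.left s.left s'.left jV.left ∧
    IsPullback jU.left (s.left ≫ t.left) (s'.left ≫ t'.left) jW.left ∧
    IsPullback jV.left t.left t'.left jW.left ∧ jU.left ≫ s'.left = s.left ≫ jV.left := by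
  obtain ⟨a', b', c', c, hWaff, ha', hb', hc', c1, c2, sqW, pU, pV, hjs⟩ := hC
  have hjW : MoreMor.IsThickening jW.left := hB.property _ _ _ sqW
  have c3 : a' ≫ (f' ≫ g') = (yon S).map (s' ≫ t') ≫ c' := by
    rw [← Category.assoc, c1, Category.assoc, c2, Functor.map_comp, Category.assoc]
  have hfp' : LocallyOfFinitePresentation (s'.left ≫ t'.left) := hfp a' c' (s' ≫ t') ha' hc' c3
  have hjV : MoreMor.IsThickening jV.left :=
    (AlgSp.thick_iff _).1 (MorphismProperty.of_isPullback (P := AlgSp.thick) pV.flip ((AlgSp.thick_iff _).2 hjW))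
  haveI := hfp'
  have hlft : LocallyOfFiniteType (s'.left ≫ t'.left) := inferInstance
  refine ⟨hjW, hjV, hflat a' c' (s' ≫ t') ha' hc' c3, hfp', hg' b' c' t' hb' hc' c2,
    locallyOfFiniteType_of_comp s'.left t'.left, IsPullback.of_bot pU hjs pV, pU, pV, hjs⟩

end Groth.Agent.Helper5.DeformSp
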