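import Groth.Agent.Helper5.Deform4
import Groth.Agent.Helper5.RelDimSp1
import Groth.Agent.Helper5.RelDim1
import Groth.Agent.Helper5.AlgSpEt2
import Groth.Agent.Helper5.FlatBC4
import Groth.Agent.S1310
import Groth.Agent.S1314
import Groth.Agent.S1320
import Groth.Agent.S1321
import Groth.Agent.S1322
import Groth.Agent.S1381
import Groth.Agent.S1384
import Groth.Agent.S1385
import Mathlib

set_option autoImplicit false
set_option linter.style.haveILetI false
set_option linter.unusedSectionVars false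
set_option linter.unusedVariables false
universe u
open CategoryTheory CategoryTheory.Limits AlgebraicGeometry Opposite

namespace Groth.Agent.Helper5.DeformSp

open AlgSp Groth.Agent.Helper4 Groth.Agent.Helper5.GorSp Groth.Agent.Helper5.FlatSp
  Groth.Agent.Helper4.AlgSpOpenImage Groth.Agent.Helper5.FlatBC Groth.Agent.Helper4.SDClasses

variable {S : Scheme.{u}}

set_option backward.isDefEq.respectTransparency.types false in
/-- étale local properties pass to the base change -/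
theorem locP_back (P : MorphismProperty Scheme.{u}) (hG : Good P)
    {X X' Y Y' : AlgSp.Space S} (iX : X ⟶ X') (iY : Y ⟶ Y')
    (f : X ⟶ Y) (f' : X' ⟶ Y') (hXsq : IsPullback iX.hom f.hom f'.hom iY.hom)
    (hf' : AlgSp.LocP P f'.hom) : AlgSp.LocP P f.hom := by
  haveI := hG.bc
  haveI := hG.comp
  exact Groth.Agent.Helper4.AlgSpLocPBC.locP_of_isPullback P hG.etale_le hG.sd X'.property
    Y'.property f'.hom iY.hom iX.hom f.hom hXsq hf'

set_option backward.isDefEq.respectTransparency.types false in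
/-- the relative dimension clause -/
theorem relDim_iff {X X' Y Y' : AlgSp.Space S} (iX : X ⟶ X') (iY : Y ⟶ Y')
    (f : X ⟶ Y) (f' : X' ⟶ Y') (hXsq : IsPullback iX.hom f.hom f'.hom iY.hom)
    (hiX : AlgSp.IsThickMor iX.hom)
    (hlft : AlgSp.LocP @LocallyOfFiniteType f.hom → AlgSp.LocP @LocallyOfFiniteType f'.hom)
    (d : WithBot ℕ∞) :
    ((AlgSp.LocP @LocallyOfFiniteType f.hom ∧
        ∀ x, AlgSp.HasAtMor (fun _ _ h u => FlatMor.fibreDimAt h u = d) f.hom x) ↔
      (AlgSp.LocP @LocallyOfFiniteType f'.hom ∧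
        ∀ x', AlgSp.HasAtMor (fun _ _ h u => FlatMor.fibreDimAt h u = d) f'.hom x')) := by
  have hsurj : Function.Surjective (Points.map iX.hom) := isSurjectiveMor_of_isThickMor iX.hom hiX
  constructor
  · rintro ⟨h1, h2⟩
    have h1' := hlft h1
    refine ⟨h1', fun x' => ?_⟩
    obtain ⟨x, rfl⟩ := hsurj x'
    have := Groth.Agent.Helper5.RelDimSp.qd_locus_baseChange (fun r => r = d) f' iY iX f hXsq h1'
    exact (Set.ext_iff.1 this x).1 (h2 x)
  · rintro ⟨h1', h2'⟩
    refine ⟨locP_back _ good_lft iX iY f f' hXsq h1', fun x => ?_⟩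
    have := Groth.Agent.Helper5.RelDimSp.qd_locus_baseChange (fun r => r = d) f' iY iX f hXsq h1'
    exact (Set.ext_iff.1 this x).2 (h2' _)

set_option backward.isDefEq.respectTransparency.types false in
/-- the locally quasi-finite clause -/
theorem lqf_iff {X X' Y Y' : AlgSp.Space S} (iX : X ⟶ X') (iY : Y ⟶ Y')
    (f : X ⟶ Y) (f' : X' ⟶ Y') (hXsq : IsPullback iX.hom f.hom f'.hom iY.hom)
    (hiX : AlgSp.IsThickMor iX.hom)
    (hlft : AlgSp.LocP @LocallyOfFiniteType f.hom → AlgSp.LocP @LocallyOfFiniteType f'.hom) :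
    (AlgSp.LocP (@LocallyQuasiFinite ⊓ @LocallyOfFiniteType) f.hom ↔
      AlgSp.LocP (@LocallyQuasiFinite ⊓ @LocallyOfFiniteType) f'.hom) := by
  constructor
  · intro h
    have h1 : AlgSp.LocP @LocallyOfFiniteType f.hom := fun _ _ a b k ha hb c => (h a b k ha hb c).2
    have h2 := (Groth.Agent.Helper5.RelDim.locP_lqf_iff_relDim_zero X.property Y.property f.hom
      h1).1 h
    obtain ⟨h1', h2'⟩ := (relDim_iff iX iY f f' hXsq hiX hlft 0).1 ⟨h1, h2⟩
    exact (Groth.Agent.Helper5.RelDim.locP_lqf_iff_relDim_zero X'.property Y'.property f'.hom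
      h1').2 h2'
  · exact locP_back _ good_lqf iX iY f f' hXsq

set_option backward.isDefEq.respectTransparency.types false in
theorem s10596 {X X' Y Y' B B' : AlgSp.Space S} (iX : X ⟶ X') (iY : Y ⟶ Y') (iB : B ⟶ B')
    (f : X ⟶ Y) (f' : X' ⟶ Y') (g : Y ⟶ B) (g' : Y' ⟶ B')
    (hcX : IsPullback iX.hom (f ≫ g).hom (f' ≫ g').hom iB.hom)
    (hcY : IsPullback iY.hom g.hom g'.hom iB.hom)
    (w : iX ≫ f' = f ≫ iY)
    (hB : AlgSp.IsFinThickMor iB.hom) (hflat : AlgSp.LocP @Flat (f' ≫ g').hom) (d : ℕ) :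
    ((AlgSp.LocP @LocallyOfFiniteType f.hom ∧
        ∀ x, AlgSp.HasAtMor (fun _ _ h u => FlatMor.fibreDimAt h u = (d : WithBot ℕ∞)) f.hom x) ↔
      (AlgSp.LocP @LocallyOfFiniteType f'.hom ∧
        ∀ x', AlgSp.HasAtMor (fun _ _ h u => FlatMor.fibreDimAt h u = (d : WithBot ℕ∞)) f'.hom x')) ∧
    (AlgSp.LocP @Flat f.hom ↔ AlgSp.LocP @Flat f'.hom) ∧
    (AlgSp.LocP @LocallyOfFiniteType f.hom ↔ AlgSp.LocP @LocallyOfFiniteType f'.hom) ∧
    (AlgSp.LocP (@LocallyQuasiFinite ⊓ @LocallyOfFiniteType) f.hom ↔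
      AlgSp.LocP (@LocallyQuasiFinite ⊓ @LocallyOfFiniteType) f'.hom) ∧
    (AlgSp.LocP @LocallyOfFinitePresentation f.hom ↔ AlgSp.LocP @LocallyOfFinitePresentation f'.hom) ∧
    (AlgSp.LocP @Smooth f.hom ↔ AlgSp.LocP @Smooth f'.hom) ∧
    (AlgSp.LocP (@LocallyOfFiniteType ⊓ @FormallyUnramified) f.hom ↔
      AlgSp.LocP (@LocallyOfFiniteType ⊓ @FormallyUnramified) f'.hom) ∧
    (AlgSp.IsEtaleMor f.hom ↔ AlgSp.IsEtaleMor f'.hom) := by
  have hthick : AlgSp.IsThickMor iB.hom := by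
    obtain ⟨n, hthick, -⟩ := hB
    exact hthick
  have hrep : Representable iB.hom := hthick.rep
  have w' : iX.hom ≫ f'.hom = f.hom ≫ iY.hom := congrArg (fun k => k.hom) w
  have hXsq : IsPullback iX.hom f.hom f'.hom iY.hom := IsPullback.of_bot hcX w' hcY
  have hiX : AlgSp.IsThickMor iX.hom :=
    MorphismProperty.of_isPullback (P := RepWith thick) hcX.flip hthick
  have hlft : AlgSp.LocP @LocallyOfFiniteType f.hom → AlgSp.LocP @LocallyOfFiniteType f'.hom := by
    refine locP_of_cube _ _ good_lft iX iY iB f f' g g' hcX hcY w hrep ?_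
    intro U U' V V' W W' jU jV jW s s' t t' hC hs
    obtain ⟨hjW, hjV, hfl, hUV, pU, pV, hjs⟩ := hC.facts_fin hB hflat
    exact lft_of_deform _ _ _ _ hjV hUV hs
  refine ⟨relDim_iff iX iY f f' hXsq hiX hlft _, ⟨fun h => (s10595 iX iY iB f f' g g' hcX hcY w hB
    hflat h).1, locP_back _ good_flat iX iY f f' hXsq⟩, ⟨hlft, locP_back _ good_lft iX iY f f' hXsq⟩,
    lqf_iff iX iY f f' hXsq hiX hlft, ⟨?_, locP_back _ good_lfp iX iY f f' hXsq⟩,
    ⟨?_, locP_back _ good_smooth iX iY f f' hXsq⟩, ⟨?_, locP_back _ good_unram iX iY f f' hXsq⟩,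
    ⟨fun h => ?_, fun h => ?_⟩⟩
  · refine locP_of_cube _ _ good_lfp iX iY iB f f' g g' hcX hcY w hrep ?_
    intro U U' V V' W W' jU jV jW s s' t t' hC hs
    obtain ⟨hjW, hjV, hfl, hUV, pU, pV, hjs⟩ := hC.facts_fin hB hflat
    haveI := hfl
    exact (Groth.Agent.S1320.result jU.left jV.left jW.left s.left s'.left t.left t'.left hjW pU pV
      hjs).1 hs
  · refine locP_of_cube _ _ good_smooth iX iY iB f f' g g' hcX hcY w hrep ?_
    intro U U' V V' W W' jU jV jW s s' t t' hC hs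
    obtain ⟨hjW, hjV, hfl, hUV, pU, pV, hjs⟩ := hC.facts_fin hB hflat
    haveI := hfl
    exact (Groth.Agent.S1321.result jU.left jV.left jW.left s.left s'.left t.left t'.left hjW pU pV
      hjs).1 hs
  · refine locP_of_cube _ _ good_unram iX iY iB f f' g g' hcX hcY w hrep ?_
    intro U U' V V' W W' jU jV jW s s' t t' hC hs
    obtain ⟨hjW, hjV, hfl, hUV, pU, pV, hjs⟩ := hC.facts_fin hB hflat
    exact ⟨lft_of_deform _ _ _ _ hjV hUV hs.1,
      (Groth.Agent.S1310.aux jU.left jV.left s.left s'.left hjV hUV).1 hs.2⟩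
  · refine Groth.Agent.Helper5.AlgSpEt.isEtaleMor_of_locP_etale X'.property Y'.property f'.hom ?_
    refine locP_of_cube _ _ good_etale iX iY iB f f' g g' hcX hcY w hrep ?_
      (Groth.Agent.Helper5.AlgSpEt.locP_etale_of_isEtaleMor f.hom h)
    intro U U' V V' W W' jU jV jW s s' t t' hC hs
    obtain ⟨hjW, hjV, hfl, hUV, pU, pV, hjs⟩ := hC.facts_fin hB hflat
    haveI := hfl
    exact (Groth.Agent.S1322.result jU.left jV.left jW.left s.left s'.left t.left t'.left hjW pU pV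
      hjs).1 hs
  · exact Groth.Agent.Helper5.AlgSpEt.isEtaleMor_of_locP_etale X.property Y.property f.hom
      (locP_back _ good_etale iX iY f f' hXsq
        (Groth.Agent.Helper5.AlgSpEt.locP_etale_of_isEtaleMor f'.hom h))

set_option backward.isDefEq.respectTransparency.types false in
theorem s10599 {X X' Y Y' B B' : AlgSp.Space S} (iX : X ⟶ X') (iY : Y ⟶ Y') (iB : B ⟶ B')
    (f : X ⟶ Y) (f' : X' ⟶ Y') (g : Y ⟶ B) (g' : Y' ⟶ B')
    (hcX : IsPullback iX.hom (f ≫ g).hom (f' ≫ g').hom iB.hom)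
    (hcY : IsPullback iY.hom g.hom g'.hom iB.hom)
    (w : iX ≫ f' = f ≫ iY)
    (hB : AlgSp.IsThickMor iB.hom)
    (hg' : AlgSp.LocP @LocallyOfFiniteType g'.hom)
    (hflat : AlgSp.LocP @Flat (f' ≫ g').hom)
    (hfp : AlgSp.LocP @LocallyOfFinitePresentation (f' ≫ g').hom) (d : ℕ) :
    ((AlgSp.LocP @LocallyOfFiniteType f.hom ∧
        ∀ x, AlgSp.HasAtMor (fun _ _ h u => FlatMor.fibreDimAt h u = (d : WithBot ℕ∞)) f.hom x) ↔
      (AlgSp.LocP @LocallyOfFiniteType f'.hom ∧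
        ∀ x', AlgSp.HasAtMor (fun _ _ h u => FlatMor.fibreDimAt h u = (d : WithBot ℕ∞)) f'.hom x')) ∧
    (AlgSp.LocP @Flat f.hom ↔ AlgSp.LocP @Flat f'.hom) ∧
    (AlgSp.LocP (@LocallyQuasiFinite ⊓ @LocallyOfFiniteType) f.hom ↔
      AlgSp.LocP (@LocallyQuasiFinite ⊓ @LocallyOfFiniteType) f'.hom) ∧
    (AlgSp.LocP @Smooth f.hom ↔ AlgSp.LocP @Smooth f'.hom) ∧
    (AlgSp.LocP (@LocallyOfFiniteType ⊓ @FormallyUnramified) f.hom ↔
      AlgSp.LocP (@LocallyOfFiniteType ⊓ @FormallyUnramified) f'.hom) ∧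
    (AlgSp.IsEtaleMor f.hom ↔ AlgSp.IsEtaleMor f'.hom) := by
  have hrep : Representable iB.hom := hB.rep
  have w' : iX.hom ≫ f'.hom = f.hom ≫ iY.hom := congrArg (fun k => k.hom) w
  have hXsq : IsPullback iX.hom f.hom f'.hom iY.hom := IsPullback.of_bot hcX w' hcY
  have hiX : AlgSp.IsThickMor iX.hom :=
    MorphismProperty.of_isPullback (P := RepWith thick) hcX.flip hB
  have hlft' : AlgSp.LocP @LocallyOfFiniteType f'.hom := by
    refine locP_of_cube ⊤ _ good_lft iX iY iB f f' g g' hcX hcY w hrep ?_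
      (fun _ _ _ _ _ _ _ _ => trivial)
    intro U U' V V' W W' jU jV jW s s' t t' hC hs
    obtain ⟨hjW, hjV, hfl, hfp', hlt, hls, hUV, pU, pV, hjs⟩ := hC.facts_thick hB hg' hflat hfp
    exact hls
  have hlft : AlgSp.LocP @LocallyOfFiniteType f.hom → AlgSp.LocP @LocallyOfFiniteType f'.hom :=
    fun _ => hlft'
  refine ⟨relDim_iff iX iY f f' hXsq hiX hlft _, ⟨?_, locP_back _ good_flat iX iY f f' hXsq⟩,
    lqf_iff iX iY f f' hXsq hiX hlft,
    ⟨?_, locP_back _ good_smooth iX iY f f' hXsq⟩, ⟨?_, locP_back _ good_unram iX iY f f' hXsq⟩,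
    ⟨fun h => ?_, fun h => ?_⟩⟩
  · refine locP_of_cube _ _ good_flat iX iY iB f f' g g' hcX hcY w hrep ?_
    intro U U' V V' W W' jU jV jW s s' t t' hC hs
    obtain ⟨hjW, hjV, hfl, hfp', hlt, hls, hUV, pU, pV, hjs⟩ := hC.facts_thick hB hg' hflat hfp
    haveI := hfl; haveI := hfp'; haveI := hlt
    exact (Groth.Agent.S1381.result jU.left jV.left jW.left s.left s'.left t.left t'.left hjW pU pV
      hjs).1 hs
  · refine locP_of_cube _ _ good_smooth iX iY iB f f' g g' hcX hcY w hrep ?_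
    intro U U' V V' W W' jU jV jW s s' t t' hC hs
    obtain ⟨hjW, hjV, hfl, hfp', hlt, hls, hUV, pU, pV, hjs⟩ := hC.facts_thick hB hg' hflat hfp
    haveI := hfl; haveI := hfp'; haveI := hlt
    exact (Groth.Agent.S1384.result jU.left jV.left jW.left s.left s'.left t.left t'.left hjW pU pV
      hjs).1 hs
  · refine locP_of_cube _ _ good_unram iX iY iB f f' g g' hcX hcY w hrep ?_
    intro U U' V V' W W' jU jV jW s s' t t' hC hs
    obtain ⟨hjW, hjV, hfl, hfp', hlt, hls, hUV, pU, pV, hjs⟩ := hC.facts_thick hB hg' hflat hfp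
    haveI : LocallyOfFiniteType s.left := hs.1
    haveI := hls
    exact ⟨hls, (Groth.Agent.S1314.aux jU.left jV.left s.left s'.left hjV hUV).1 hs.2⟩
  · refine Groth.Agent.Helper5.AlgSpEt.isEtaleMor_of_locP_etale X'.property Y'.property f'.hom ?_
    refine locP_of_cube _ _ good_etale iX iY iB f f' g g' hcX hcY w hrep ?_
      (Groth.Agent.Helper5.AlgSpEt.locP_etale_of_isEtaleMor f.hom h)
    intro U U' V V' W W' jU jV jW s s' t t' hC hs
    obtain ⟨hjW, hjV, hfl, hfp', hlt, hls, hUV, pU, pV, hjs⟩ := hC.facts_thick hB hg' hflat hfp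
    haveI := hfl; haveI := hfp'; haveI := hlt
    exact (Groth.Agent.S1385.result jU.left jV.left jW.left s.left s'.left t.left t'.left hjW pU pV
      hjs).1 hs
  · exact Groth.Agent.Helper5.AlgSpEt.isEtaleMor_of_locP_etale X.property Y.property f.hom
      (locP_back _ good_etale iX iY f f' hXsq
        (Groth.Agent.Helper5.AlgSpEt.locP_etale_of_isEtaleMor f'.hom h))

end Groth.Agent.Helper5.DeformSp
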