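import Groth.Agent.Helper5.DiagBC3
import Groth.Agent.Helper4.AlgSpDesc2
import Groth.Agent.Helper4.SchDescent
import Mathlib

set_option autoImplicit false
universe u
open CategoryTheory CategoryTheory.Limits AlgebraicGeometry Opposite

namespace Groth.Agent.Helper5.DiagBC

open AlgSp Groth.Agent.Helper4 Groth.Agent.Helper4.AlgSpQS

variable {S : Scheme.{u}}

set_option backward.isDefEq.respectTransparency false in
/-- Descent of a property of the diagonal along an étale surjective chart: if the canonical
map `R ⟶ U ×_S U` has `Q` (with `Q` descending along fppf covers) then the diagonal of `X` has `Q`. -/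
theorem repWith_diag_of_chart (Q : MorphismProperty Scheme.{u}) [Q.IsStableUnderBaseChange]
    [Q.DescendsAlong (@Surjective ⊓ @Flat ⊓ @LocallyOfFinitePresentation)]
    (X : Space S) {R U : Over S}
    (p : (yon S).obj U ⟶ X.obj) (hp : RepWith @Etale p) (hs : RepWith @Surjective p)
    (s t : R ⟶ U) (hR : IsPullback ((yon S).map t) ((yon S).map s) p p)
    (hQ : Q (toProd t s).left) : RepWith Q (Limits.diag X.obj) := by
  rw [AlgSpDiag.repWith_diag_iff]
  set tX := terminal.from X.obj with htX
  have i1 := repWith_isStableUnderBaseChange (S := S) @Etale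
  have i2 := repWith_isStableUnderBaseChange (S := S) @Surjective
  have i3 : (RepWith (S := S) @Etale).IsStableUnderComposition :=
    (repWith_isMultiplicative (S := S) @Etale).toIsStableUnderComposition
  have i4 : (RepWith (S := S) @Surjective).IsStableUnderComposition :=
    (repWith_isMultiplicative (S := S) @Surjective).toIsStableUnderComposition
  -- the cover
  have hce : RepWith @Etale (pullback.map (p ≫ tX) (p ≫ tX) tX tX p p (𝟙 _)
      ((Category.comp_id _).trans rfl) ((Category.comp_id _).trans rfl)) :=
    MorphismProperty.pullbackMap hp hp rfl rfl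
  have hcs : RepWith @Surjective (pullback.map (p ≫ tX) (p ≫ tX) tX tX p p (𝟙 _)
      ((Category.comp_id _).trans rfl) ((Category.comp_id _).trans rfl)) :=
    MorphismProperty.pullbackMap hs hs rfl rfl
  have hcov := AlgSpDesc2.cover_of_etale_surjective hce hcs
  have sq := pullback_map_diagonal_isPullback p p tX
  -- the base change of the diagonal is (isomorphic to) `toProd t s`
  have hN : IsPullback ((yon S).map (prodFst U U)) ((yon S).map (prodSnd U U)) (p ≫ tX) (p ≫ tX) :=
    isPullback_prodOver U U terminalIsTerminal _ _
  have hmd : pullback.mapDesc p p tX =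
      hR.isoPullback.inv ≫ (yon S).map (toProd t s) ≫ hN.isoPullback.hom := by
    rw [Iso.eq_inv_comp]
    apply pullback.hom_ext
    · simp only [Category.assoc]
      rw [IsPullback.isoPullback_hom_fst, ← Functor.map_comp, toProd_fst]
      simp [pullback.mapDesc]
    · simp only [Category.assoc]
      rw [IsPullback.isoPullback_hom_snd, ← Functor.map_comp, toProd_snd]
      simp [pullback.mapDesc]
  have ha' : RepWith Q (pullback.mapDesc p p tX) := by
    rw [hmd]
    have h0 : RepWith Q ((yon S).map (toProd t s)) := (repWith_yon_map_iff Q _).2 hQ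
    exact (MorphismProperty.cancel_left_of_respectsIso (RepWith (S := S) Q) _ _).2
      ((MorphismProperty.cancel_right_of_respectsIso (RepWith (S := S) Q) _ _).2 h0)
  have hrepΔ : Representable (pullback.diagonal tX) :=
    AlgSpDesc2.representable_diagonal X.property.diag tX
  refine AlgSpDesc.repWith_descend Q ?_ sq hcov.1.1 hcov.1.2 hcov.2 hrepΔ ha'
  intro A X' Y Z fst snd f g h h1 h2 h3 h4
  exact MorphismProperty.of_isPullback_of_descendsAlong (P := Q)
    (Q := (@Surjective ⊓ @Flat ⊓ @LocallyOfFinitePresentation)) h ⟨⟨h1, h2⟩, h3⟩ h4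

theorem s10182 (X : Space S) {R U : Over S}
    (p : (yon S).obj U ⟶ X.obj) (hp : RepWith @Etale p) (hs : RepWith @Surjective p)
    [QuasiSeparatedSpace ↥U.left] (s t : R ⟶ U)
    (hR : IsPullback ((yon S).map t) ((yon S).map s) p p) [QuasiCompact t.left] :
    IsQuasiSeparatedSp X.obj := by
  have hqc : QuasiCompact (toProd t s).left := by
    have h1 : (toProd t s).left ≫ pullback.fst U.hom U.hom = t.left :=
      congrArg (fun k => k.left) (toProd_fst t s)
    have h2 : QuasiCompact ((toProd t s).left ≫ pullback.fst U.hom U.hom) := by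
      rw [h1]; infer_instance
    exact QuasiCompact.of_comp (toProd t s).left (pullback.fst U.hom U.hom)
  have := SchDescent.descendsAlong_quasiCompact_fppf.{u}
  exact repWith_diag_of_chart @QuasiCompact X p hp hs s t hR hqc

end Groth.Agent.Helper5.DiagBC
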