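import Groth.Agent.Helper5.FpqcIso
import Groth.Agent.Helper5.FppfFpqc
import Groth.Agent.Helper5.FpqcUniv
import Groth.Agent.Helper5.AffDesc7
import Groth.Agent.Helper5.GeomFibSp1
import Groth.Agent.Helper4.AlgSpPtsDesc
import Mathlib

/-! A monomorphism into an algebraic space with an fppf cover by the spectrum of a field. -/

set_option autoImplicit false
universe u
open CategoryTheory CategoryTheory.Limits AlgebraicGeometry Opposite MorphismProperty

namespace Groth.Agent.Helper5.MonoFld

open AlgSp Groth.Agent.Helper4.AlgSpPtsDesc Groth.Agent.Helper5.GeomFibSp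

section general
variable {C : Type*} [Category C]

/-- composing with a monomorphism does not change pullback squares -/
theorem isPullback_comp_mono {P A B D E : C} {fst : P ⟶ A} {snd : P ⟶ B} {f : A ⟶ D} {g : B ⟶ D}
    (h : IsPullback fst snd f g) (m : D ⟶ E) [Mono m] : IsPullback fst snd (f ≫ m) (g ≫ m) := by
  refine ⟨⟨by rw [← Category.assoc, h.w, Category.assoc]⟩, ⟨?_⟩⟩
  refine PullbackCone.IsLimit.mk _ (fun c => h.lift c.fst c.snd (by
    rw [← cancel_mono m, Category.assoc, Category.assoc]; exact c.condition)) ?_ ?_ ?_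
  · intro c; exact h.lift_fst _ _ _
  · intro c; exact h.lift_snd _ _ _
  · intro c l h1 h2
    apply h.hom_ext
    · rw [h1, h.lift_fst]
    · rw [h2, h.lift_snd]

end general

variable {S : Scheme.{u}}

set_option backward.isDefEq.respectTransparency.types false in
/-- a monomorphism from a non-empty algebraic space to the spectrum of a field is an isomorphism -/
theorem isIso_of_mono_to_field {P : Sp S} (hP : IsAlgSpace P) {k : Type u} [Field k]
    (str : Spec (CommRingCat.of k) ⟶ S) (snd : P ⟶ (yon S).obj (Over.mk str)) [Mono snd]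
    (hne : Nonempty (Points P)) : IsIso snd := by
  obtain ⟨x⟩ := hne
  obtain ⟨W, a, hae, has⟩ := hP.atlas
  obtain ⟨V, v, -⟩ := Groth.Agent.Helper5.FpqcUniv.exists_affine_lift a has x
  let U' : Over S := affOver W V
  have hU'aff : IsAffine U'.left := V.2
  have hιe : Etale (affι W V).left := by
    show Etale V.1.ι
    infer_instance
  let a₀ : (yon S).obj U' ⟶ P := (yon S).map (affι W V) ≫ a
  have ha₀ : RepWith @Etale a₀ :=
    Groth.Agent.Helper4.AlgSpSrc.repWith_comp @Etale ((repWith_yon_map_iff _ _).2 hιe) hae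
  obtain ⟨c₀, hc₀⟩ := (yon S).map_surjective (a₀ ≫ snd)
  -- the self fibre product
  obtain ⟨R₁, r₂, r₁', sqR⟩ := ha₀.1 a₀
  have hr₂ : Etale r₂.left := ha₀.2 _ _ _ sqR
  obtain ⟨r₁, rfl⟩ := (yon S).map_surjective r₁'
  have sqR' := isPullback_comp_mono sqR snd
  rw [← hc₀] at sqR'
  have sqS : IsPullback r₁.left r₂.left c₀.left c₀.left :=
    isPullback_left (isPullback_of_yon_map sqR')
  -- `c₀` is an fpqc covering
  have hne' : Nonempty U'.left := ⟨(Points.schemeHomeo U').symm v⟩
  have hKaff : IsAffine (Over.mk str).left := inferInstanceAs (IsAffine (Spec (CommRingCat.of k)))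
  have hsurj : Surjective c₀.left := by
    refine ⟨fun y => ?_⟩
    obtain ⟨u⟩ := hne'
    have : Subsingleton (Spec (CommRingCat.of k)) := inferInstance
    exact ⟨u, Subsingleton.elim (α := Spec (CommRingCat.of k)) _ _⟩
  have hflat : Flat c₀.left := by
    have : Subsingleton ↥(Over.mk str).left :=
      inferInstanceAs (Subsingleton (Spec (CommRingCat.of k)))
    have : IsIntegral (Over.mk str).left :=
      inferInstanceAs (IsIntegral (Spec (CommRingCat.of k)))
    infer_instance
  have hqc : QuasiCompact c₀.left := by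
    have : IsAffineHom c₀.left := isAffineHom_of_isAffine c₀.left
    infer_instance
  have het : Etale c₀.left :=
    MorphismProperty.of_isPullback_of_descendsAlong (P := @Etale)
      (Q := @Surjective ⊓ @Flat ⊓ @QuasiCompact) sqS.flip ⟨⟨hsurj, hflat⟩, hqc⟩ hr₂
  have hepi : Epi ((yon S).map c₀) := Groth.Agent.Helper5.AffDesc.epi_yon_map_of_fppf c₀
  rw [hc₀] at hepi
  have : Epi snd := epi_of_epi a₀ snd
  exact isIso_of_mono_of_epi snd

set_option backward.isDefEq.respectTransparency.types false in
/-- S10369 -/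
theorem s10369 {Z' Z : Sp S} (hZ' : IsAlgSpace Z') (hZ : IsAlgSpace Z) (f : Z' ⟶ Z) [Mono f]
    {k : Type u} [Field k] (str : Spec (CommRingCat.of k) ⟶ S)
    (p : (yon S).obj (Over.mk str) ⟶ Z) (hp1 : LocP @LocallyOfFinitePresentation p)
    (hp2 : LocP @Flat p) (hp3 : IsSurjectiveMor p) :
    IsEmpty (Points Z') ∨ IsIso f := by
  have sq : IsPullback (pullback.fst f p) (pullback.snd f p) f p := IsPullback.of_hasPullback _ _
  have hP : IsAlgSpace (pullback f p) :=
    Groth.Agent.Helper4.AlgSpPB.isAlgSpace_of_isPullback hZ.diag hZ' (IsAlgSpace.yon_obj _)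
      f p _ _ sq
  by_cases hne : Nonempty (Points (pullback f p))
  · right
    have hiso : IsIso (pullback.snd f p) := isIso_of_mono_to_field hP str _ hne
    have hcov : IsFppfCover (fun _ : PUnit.{u + 1} => (yon S).obj (Over.mk str)) (fun _ => p) :=
      ⟨fun _ => ⟨hp2, hp1⟩, fun x => ⟨PUnit.unit, hp3 x⟩⟩
    have hcov' := Groth.Agent.Helper5.FppfFpqc.isFpqcCover_of_isFppfCover hZ _
      (fun _ => IsAlgSpace.yon_obj _) _ hcov
    exact (Groth.Agent.Helper5.FpqcIso.isLocalOnBase_isomorphisms (S := S)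
      (fun _ : PUnit.{u + 1} => (yon S).obj (Over.mk str)) (fun _ => p) hZ
      (fun _ => IsAlgSpace.yon_obj _) hcov' f hZ' (fun _ => pullback f p)
      (fun _ => pullback.snd f p) (fun _ => pullback.fst f p) (fun _ => hP) (fun _ => sq)).2
      (fun _ => hiso)
  · left
    refine ⟨fun z' => hne ?_⟩
    obtain ⟨y, hy⟩ := hp3 (Points.map f z')
    obtain ⟨w, -, -⟩ := exists_point_of_isPullback sq z' y hy.symm
    exact ⟨w⟩

end Groth.Agent.Helper5.MonoFld
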