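import Groth.Agent.Helper5.EtImg5
import Groth.Agent.Helper5.DiagBC4
import Groth.Agent.Helper5.MonoQuot9
import Groth.Agent.Helper5.MonoFld1
import Mathlib

set_option autoImplicit false
universe u
open CategoryTheory CategoryTheory.Limits AlgebraicGeometry Opposite

namespace Groth.Agent.Helper5.EtImg

open AlgSp Groth.Agent.Helper4.AlgSpOpenImage Groth.Agent.Helper4.AlgSpPtsDesc
  Groth.Agent.Helper4.AlgSpQS Groth.Agent.Helper5.DiagBC

variable {S : Scheme.{u}}

/-- the second projection of the self fibre product over `S` of an affine scheme mapping into an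
affine open of `S` is quasi-compact -/
theorem quasiCompact_snd_of_affine {U S : Scheme.{u}} [IsAffine U] (h : U ⟶ S) (S₀ : S.Opens)
    (hS₀ : IsAffineOpen S₀) (hU : ∀ u : ↥U, h u ∈ S₀) : QuasiCompact (pullback.snd h h) := by
  have hr : Set.range h ⊆ Set.range S₀.ι := by
    rw [Scheme.Opens.range_ι]
    rintro _ ⟨u, rfl⟩
    exact hU u
  let f₀ := IsOpenImmersion.lift S₀.ι h hr
  have hf₀ : f₀ ≫ S₀.ι = h := IsOpenImmersion.lift_fac _ _ _
  have sq₁ : IsPullback (pullback.fst f₀ f₀) (pullback.snd f₀ f₀) (f₀ ≫ S₀.ι) (f₀ ≫ S₀.ι) :=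
    Groth.Agent.Helper5.MonoFld.isPullback_comp_mono (IsPullback.of_hasPullback f₀ f₀) S₀.ι
  rw [hf₀] at sq₁
  haveI : IsAffine (S₀ : Scheme.{u}) := hS₀
  haveI : IsAffineHom (pullback.snd f₀ f₀) := isAffineHom_of_isAffine _
  have : pullback.snd h h = sq₁.isoPullback.inv ≫ pullback.snd f₀ f₀ := by
    rw [Iso.eq_inv_comp]
    exact sq₁.isoPullback_hom_snd
  rw [this]
  infer_instance

/-- S10198 -/
theorem s10198 (X : Space S) :
    (∃ (ι : Type u) (Xi : ι → Space S) (j : ∀ i, Xi i ⟶ X),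
        IsZarCover (fun i => (Xi i).obj) (fun i => (j i).hom) ∧
          ∀ i, IsQuasiSeparatedSp (Xi i).obj) ↔
      (∃ (ι : Type u) (Xi : ι → Space S) (j : ∀ i, Xi i ⟶ X),
        IsZarCover (fun i => (Xi i).obj) (fun i => (j i).hom) ∧
          ∀ i, ∃ (U : Over S) (p : (yon S).obj U ⟶ (Xi i).obj), IsAffine U.left ∧
            RepWith @QuasiCompact p ∧ RepWith @Etale p ∧ RepWith @Surjective p) := by
  constructor
  · rintro ⟨ι, Xi, j, ⟨hjo, hjs⟩, hqs⟩
    have hatlas : ∀ i, ∃ (W : Over S) (b : (yon S).obj W ⟶ (Xi i).obj),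
        RepWith @Etale b ∧ RepWith @Surjective b := fun i => (Xi i).property.atlas
    choose W b hbe hbs using hatlas
    have hloc : ∀ (i : ι) (w : ↥(W i).left), ∃ (U : (W i).left.Opens), IsAffineOpen U ∧ w ∈ U ∧
        ∃ S₀ : S.Opens, IsAffineOpen S₀ ∧ ∀ u ∈ U, (W i).hom u ∈ S₀ := by
      intro i w
      obtain ⟨_, ⟨(S₀ : S.Opens), hS₀, rfl⟩, hsS₀, -⟩ :=
        (S.isBasis_affineOpens).exists_subset_of_mem_open (Set.mem_univ ((W i).hom w)) isOpen_univ
      obtain ⟨_, ⟨(U : (W i).left.Opens), hU, rfl⟩, hwU, hUS⟩ :=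
        ((W i).left.isBasis_affineOpens).exists_subset_of_mem_open
          (show w ∈ (W i).hom ⁻¹ᵁ S₀ from hsS₀) ((W i).hom ⁻¹ᵁ S₀).isOpen
      exact ⟨U, hU, hwU, S₀, hS₀, fun u hu => hUS hu⟩
    choose Uo hUa hwU S₀ hS₀ hUS₀ using hloc
    let U' : (Σ i, ↥(W i).left) → Over S := fun k => Over.mk ((Uo k.1 k.2).ι ≫ (W k.1).hom)
    let d : ∀ k : (Σ i, ↥(W i).left), (yon S).obj (U' k) ⟶ (Xi k.1).obj := fun k =>
      (yon S).map (Over.homMk (Uo k.1 k.2).ι rfl : U' k ⟶ W k.1) ≫ b k.1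
    have hd : ∀ k, RepWith @Etale (d k) := fun k =>
      Groth.Agent.Helper5.MonoQuot.repWith_etale_restrict (b k.1) (hbe k.1) (Uo k.1 k.2)
    let c : ∀ k : (Σ i, ↥(W i).left), (yon S).obj (U' k) ⟶ X.obj := fun k => d k ≫ (j k.1).hom
    have hc : ∀ k, RepWith @Etale (c k) := fun k =>
      Groth.Agent.Helper4.AlgSpSrc.repWith_comp @Etale (hd k)
        (Groth.Agent.Helper4.AlgSpSrc.repWith_mono (fun g hg => by
          have : IsOpenImmersion g := hg
          exact (inferInstance : Etale g)) (hjo k.1))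
    refine ⟨Σ i, ↥(W i).left, fun k => ⟨img (c k), isAlgSpace_img (c k) X.property.diag (hc k)⟩,
      fun k => ObjectProperty.homMk (imgι (c k)), ⟨?_, ?_⟩, ?_⟩
    · intro k
      exact imgι_isOpenImmersion (c k) (hc k)
    · intro x
      obtain ⟨i, z, hz⟩ := hjs x
      obtain ⟨w, hw⟩ := Groth.Agent.Helper5.AlgSpOpen.ofPt_surjective_of_repWith (b i) (hbs i) z
      refine ⟨⟨i, w⟩, Points.ofPt (toImg (c ⟨i, w⟩)) (⟨w, hwU i w⟩ : ↥(Uo i w)), ?_⟩
      show Points.map (imgι (c ⟨i, w⟩)) (Points.ofPt (toImg (c ⟨i, w⟩)) _) = x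
      rw [Points.map_ofPt, toImg_ι]
      show Points.ofPt (d ⟨i, w⟩ ≫ (j i).hom) _ = x
      rw [← Points.map_ofPt]
      show Points.map (j i).hom (Points.ofPt ((yon S).map (Over.homMk (Uo i w).ι rfl :
        U' ⟨i, w⟩ ⟶ W i) ≫ b i) _) = x
      rw [ofPt_yon_map_comp]
      show Points.map (j i).hom (Points.ofPt (b i) w) = x
      rw [hw, hz]
    · intro k
      refine ⟨U' k, toImg (c k), hUa k.1 k.2, ?_, toImg_etale (c k) (hc k),
        toImg_surjective (c k) (hc k)⟩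
      have sqR := (hc k).rep.isPullback (c k)
      obtain ⟨p₁, hp₁⟩ := (yon S).map_surjective ((hc k).rep.fst (c k))
      rw [← hp₁] at sqR
      clear hp₁
      generalize (hc k).rep.snd (c k) = p₂ at sqR
      generalize (hc k).rep.pullback (c k) = R at p₁ p₂ sqR
      refine toImg_quasiCompact (c k) (hc k) p₁ p₂ sqR ?_
      haveI : Mono (j k.1).hom := Groth.Agent.Helper4.AlgSpBasic.mono_of_repWith
        (P := @IsOpenImmersion) (fun g hg => by
          have : IsOpenImmersion g := hg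
          infer_instance) (j k.1).hom (hjo k.1)
      have sq' : IsPullback ((yon S).map p₁) ((yon S).map p₂) (d k) (d k) :=
        isPullback_of_comp_mono (j k.1).hom sqR
      have h1 : QuasiCompact (toProd p₁ p₂).left :=
        prop_toProd @QuasiCompact (hqs k.1) (d k) (d k) p₁ p₂ sq'
      haveI : IsAffine (U' k).left := hUa k.1 k.2
      have h2 : QuasiCompact (pullback.snd (U' k).hom (U' k).hom) :=
        quasiCompact_snd_of_affine (U' k).hom (S₀ k.1 k.2) (hS₀ k.1 k.2) (fun u => by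
          show (W k.1).hom ((Uo k.1 k.2).ι u) ∈ S₀ k.1 k.2
          exact hUS₀ k.1 k.2 _ u.2)
      have h3 : p₂.left = (toProd p₁ p₂).left ≫ pullback.snd (U' k).hom (U' k).hom :=
        (congrArg (fun φ => φ.left) (toProd_snd p₁ p₂)).symm
      rw [h3]
      infer_instance
  · rintro ⟨ι, Xi, j, hcov, hU⟩
    refine ⟨ι, Xi, j, hcov, fun i => ?_⟩
    obtain ⟨U, p, hUa, hpq, hpe, hps⟩ := hU i
    have sq := hpe.rep.isPullback p
    obtain ⟨t, ht⟩ := (yon S).map_surjective (hpe.rep.fst p)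
    rw [← ht] at sq
    haveI : QuasiCompact t.left := hpq.property p _ t sq.flip
    haveI : IsAffine U.left := hUa
    exact s10182 (Xi i) p hpe hps (hpe.rep.snd p) t sq

end Groth.Agent.Helper5.EtImg
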