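import Mathlib
import Groth.Agent.Helper5.DegStr14
import Groth.Agent.Helper5.EtImg6
import Groth.Agent.Helper5.MonoQuot9
import Groth.Agent.Helper5.ZarGlue8

/-!
# Codimension 0 points of a quasi-separated algebraic space lie in the schematic locus (S10453)
-/

set_option autoImplicit false
universe u

namespace Groth.Agent.Helper5.DegStr

open CategoryTheory CategoryTheory.Limits AlgebraicGeometry Opposite AlgSp
open Groth.Agent.Helper4.AlgSpOpenImage Groth.Agent.Helper4.AlgSpPtsDesc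
open Groth.Agent.Helper5.Codim0B Groth.Agent.Helper5.DiagBC

variable {S : Scheme.{u}}

theorem exists_open_subscheme_of_codimZero_of_qs {X : Sp S} (hX : IsAlgSpace X)
    (hqs : IsQuasiSeparatedSp X) (x : Points X)
    (hx : HasAt (fun U u => ringKrullDim ↥(U.presheaf.stalk u) = 0) X x) :
    ∃ (X'' : Sp S) (j'' : X'' ⟶ X), IsAlgSpace X'' ∧ RepWith @IsOpenImmersion j'' ∧
      X''.obj.IsRepresentable ∧ x ∈ Set.range (Points.map j'') := by
  obtain ⟨U, a, u, hae, hu, hdim⟩ := hx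
  have humax : IsMaxPt u := (stalk_dim_zero_iff _ _).1 hdim
  obtain ⟨_, ⟨(S₀ : S.Opens), hS₀, rfl⟩, hsS₀, -⟩ :=
    (S.isBasis_affineOpens).exists_subset_of_mem_open (Set.mem_univ (U.hom u)) isOpen_univ
  obtain ⟨_, ⟨(V₀ : U.left.Opens), hV₀, rfl⟩, huV₀, hV₀S⟩ :=
    (U.left.isBasis_affineOpens).exists_subset_of_mem_open
      (show u ∈ U.hom ⁻¹ᵁ S₀ from hsS₀) (U.hom ⁻¹ᵁ S₀).isOpen
  let V : Over S := Over.mk (V₀.ι ≫ U.hom)
  let φ : (yon S).obj V ⟶ X := (yon S).map (Over.homMk V₀.ι rfl : V ⟶ U) ≫ a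
  have hφ : RepWith @Etale φ := Groth.Agent.Helper5.MonoQuot.repWith_etale_restrict a hae V₀
  haveI hVaff : IsAffine V.left := hV₀
  obtain ⟨R, s, t, hR, hs, -⟩ := Groth.Agent.Helper5.MonoQuot.exists_relation φ hφ
  haveI := hs
  haveI : QuasiCompact s.left := by
    have h1 : QuasiCompact (toProd t s).left := prop_toProd @QuasiCompact hqs φ φ t s hR
    have h2 : QuasiCompact (pullback.snd V.hom V.hom) :=
      Groth.Agent.Helper5.EtImg.quasiCompact_snd_of_affine V.hom S₀ hS₀ (fun w => by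
        show U.hom (V₀.ι w) ∈ S₀
        exact hV₀S w.2)
    have h3 : s.left = (toProd t s).left ≫ pullback.snd V.hom V.hom :=
      (congrArg (fun ψ => ψ.left) (toProd_snd t s)).symm
    rw [h3]
    infer_instance
  let v : ↥V.left := (⟨u, huV₀⟩ : ↥V₀.toScheme)
  have hvu : V₀.ι v = u := rfl
  have hvmax : IsMaxPt v := by
    intro v' hv'
    have h1 : V₀.ι v' ⤳ V₀.ι v := hv'.map V₀.ι.continuous
    have h2 : V₀.ι v' = u := humax _ h1
    exact V₀.ι.isOpenEmbedding.injective (h2.trans hvu.symm)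
  obtain ⟨O, Z, hvO, ⟨e⟩⟩ := exists_scheme_open_image_of_isMaxPt hX φ hφ s t hR v hvmax
  let φO : (yon S).obj (Over.mk (O.ι ≫ V.hom)) ⟶ X :=
    (yon S).map (Over.homMk O.ι rfl : Over.mk (O.ι ≫ V.hom) ⟶ V) ≫ φ
  have hφO : RepWith @Etale φO := Groth.Agent.Helper5.MonoQuot.repWith_etale_restrict φ hφ O
  refine ⟨img φO, imgι φO, isAlgSpace_img φO hX.diag hφO, imgι_isOpenImmersion φO hφO,
    ⟨⟨Z, ⟨representableByOfIso e⟩⟩⟩, ?_⟩
  let o' : ↥(Over.mk (O.ι ≫ V.hom)).left := (⟨v, hvO⟩ : ↥O.toScheme)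
  refine ⟨Points.ofPt (toImg φO) o', ?_⟩
  rw [Points.map_ofPt, toImg_ι]
  show Points.ofPt ((yon S).map (Over.homMk O.ι rfl : Over.mk (O.ι ≫ V.hom) ⟶ V) ≫ φ) o' = x
  rw [ofPt_yon_map_comp]
  show Points.ofPt ((yon S).map (Over.homMk V₀.ι rfl : V ⟶ U) ≫ a) v = x
  rw [ofPt_yon_map_comp]
  exact hu

/-- S10453 -/
theorem s10453 (X : Space S) (hqs : IsQuasiSeparatedSp X.obj) (x : Points X.obj)
    (hx : HasAt (fun U u => ringKrullDim ↥(U.presheaf.stalk u) = 0) X.obj x) :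
    ∃ (X' : Space S) (j : X' ⟶ X), RepWith @IsOpenImmersion j.hom ∧
      X'.obj.obj.IsRepresentable ∧ x ∈ Set.range (Points.map j.hom) := by
  obtain ⟨X'', j'', h0, h1, h2, h3⟩ := exists_open_subscheme_of_codimZero_of_qs X.property hqs x hx
  exact ⟨⟨X'', h0⟩, ObjectProperty.homMk j'', h1, h2, h3⟩

end Groth.Agent.Helper5.DegStr
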