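import Mathlib
import Groth.Agent.Helper5.DegStr15
import Groth.Agent.Helper5.DegStr12
import Groth.Agent.Helper5.DecZar1
import Groth.Agent.Helper5.MonoQuot8

/-!
# Zariski locally quasi-separated algebraic spaces: sobriety (S10199) and the dense open
subscheme containing the codimension 0 points (S10200)
-/

set_option autoImplicit false
universe u

namespace Groth.Agent.Helper5.DegStr

open CategoryTheory CategoryTheory.Limits AlgebraicGeometry Opposite AlgSp

variable {S : Scheme.{u}}

theorem isDecent_of_zarLocQS (X : Space S)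
    (hX : ∃ (ι : Type u) (Xi : ι → Space S) (j : ∀ i, Xi i ⟶ X),
        IsZarCover (fun i => (Xi i).obj) (fun i => (j i).hom) ∧
          ∀ i, IsQuasiSeparatedSp (Xi i).obj) : IsDecent X.obj := by
  obtain ⟨ι, Xi, j, hj, hqs⟩ := hX
  exact Groth.Agent.Helper5.DecZar.s10364 X Xi j hj
    (fun i => Groth.Agent.Helper5.MonoQuot.s10350 (Xi i) (hqs i))

/-- S10199 -/
theorem s10199 (X : Space S)
    (hX : ∃ (ι : Type u) (Xi : ι → Space S) (j : ∀ i, Xi i ⟶ X),
        IsZarCover (fun i => (Xi i).obj) (fun i => (j i).hom) ∧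
          ∀ i, IsQuasiSeparatedSp (Xi i).obj) :
    QuasiSober (Points X.obj) ∧ T0Space (Points X.obj) := by
  have hd := isDecent_of_zarLocQS X hX
  exact ⟨s10339 X hd, Groth.Agent.Helper5.Decent3.t0Space_of_isDecent X.property hd⟩

/-- an open immersion of algebraic spaces is etale -/
theorem isEtaleMor_of_oi {F G : Sp S} (j : F ⟶ G) (hj : RepWith @IsOpenImmersion j) :
    IsEtaleMor j := by
  intro U φ hφ
  exact Groth.Agent.Helper4.AlgSpSrc.repWith_comp @Etale hφ
    (Groth.Agent.Helper4.AlgSpSrc.repWith_mono (fun g hg => by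
      have : IsOpenImmersion g := hg
      exact (inferInstance : Etale g)) hj)

/-- S10200 -/
theorem s10200 (X : Space S)
    (hX : ∃ (ι : Type u) (Xi : ι → Space S) (j : ∀ i, Xi i ⟶ X),
        IsZarCover (fun i => (Xi i).obj) (fun i => (j i).hom) ∧
          ∀ i, IsQuasiSeparatedSp (Xi i).obj) :
    ∃ (X' : Space S) (j : X' ⟶ X), RepWith @IsOpenImmersion j.hom ∧ X'.obj.obj.IsRepresentable ∧
      Dense (Set.range (Points.map j.hom)) ∧
      ∀ x : Points X.obj, HasAt (fun U u => ringKrullDim ↥(U.presheaf.stalk u) = 0) X.obj x →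
        x ∈ Set.range (Points.map j.hom) := by
  have hd := isDecent_of_zarLocQS X hX
  obtain ⟨ι, Xi, j, ⟨hjo, hjs⟩, hqs⟩ := hX
  obtain ⟨X', j', hX', hj', hrep, hmax⟩ := Groth.Agent.Helper5.ZarGlue.s10197 X.property
  refine ⟨⟨X', hX'⟩, ObjectProperty.homMk j', hj', hrep, ?_, ?_⟩
  · show Dense (Set.range (Points.map j'))
    by_contra hnd
    have hne : ((closure (Set.range (Points.map j')))ᶜ).Nonempty := by
      rw [Set.nonempty_compl]
      intro h
      exact hnd (dense_iff_closure_eq.2 h)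
    obtain ⟨X'', j'', h1, h2, y, hy1, hy2⟩ := exists_open_subscheme_meeting X.property hd _
      isClosed_closure.isOpen_compl hne
    obtain ⟨k, hk⟩ := hmax X'' j'' h1 h2
    apply hy2
    apply subset_closure
    obtain ⟨z, rfl⟩ := hy1
    refine ⟨Points.map k z, ?_⟩
    rw [← Points.map_comp, hk]
  · intro x hx
    show x ∈ Set.range (Points.map j')
    obtain ⟨i, z, hz⟩ := hjs x
    have hz' : Points.map (j i).hom z = x := hz
    have hzc : HasAt (fun U u => ringKrullDim ↥(U.presheaf.stalk u) = 0) (Xi i).obj z := by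
      apply (hasAt_codimZero_iff_of_etale (j i) (isEtaleMor_of_oi (j i).hom (hjo i)) z).2
      rw [hz']
      exact hx
    obtain ⟨X'', j'', -, h1, h2, w, hw⟩ :=
      exists_open_subscheme_of_codimZero_of_qs (Xi i).property (hqs i) z hzc
    have h3 : RepWith @IsOpenImmersion (j'' ≫ (j i).hom) :=
      Groth.Agent.Helper4.AlgSpSrc.repWith_comp @IsOpenImmersion h1 (hjo i)
    obtain ⟨k, hk⟩ := hmax X'' (j'' ≫ (j i).hom) h3 h2
    refine ⟨Points.map k w, ?_⟩
    rw [← Points.map_comp, hk, Points.map_comp, hw, hz']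

end Groth.Agent.Helper5.DegStr
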