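import Mathlib
import Groth.Agent.Helper5.DegStr9
import Groth.Agent.Helper5.MonoQuot4

/-!
# The kernel pair of the restriction of a chart to an open, and dense open subschemes of
spaces with a finite etale cover by a scheme (S10353)
-/

set_option autoImplicit false
universe u

namespace Groth.Agent.Helper5.DegStr

open CategoryTheory CategoryTheory.Limits AlgebraicGeometry Opposite AlgSp
open Groth.Agent.Helper4.AlgSpOpenImage Groth.Agent.Helper4.AlgSpPtsDesc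

variable {S : Scheme.{u}}

/-- The kernel pair of the restriction of a chart `φ` to an open `V₀` of its source is the open
`s⁻¹(V₀) ∩ t⁻¹(V₀)` of the kernel pair of `φ`. -/
theorem exists_restricted_kernelPair {X : Sp S} {U R : Over S} (φ : (yon S).obj U ⟶ X)
    (s t : R ⟶ U) (hR : IsPullback ((yon S).map t) ((yon S).map s) φ φ) (V₀ : U.left.Opens) :
    ∃ (R' : Over S) (s' t' : R' ⟶ Over.mk (V₀.ι ≫ U.hom)) (i : R'.left ⟶ (s.left ⁻¹ᵁ V₀).toScheme),
      IsPullback ((yon S).map t') ((yon S).map s')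
        ((yon S).map (Over.homMk V₀.ι rfl : Over.mk (V₀.ι ≫ U.hom) ⟶ U) ≫ φ)
        ((yon S).map (Over.homMk V₀.ι rfl : Over.mk (V₀.ι ≫ U.hom) ⟶ U) ≫ φ) ∧
      IsOpenImmersion i ∧ s'.left = i ≫ (s.left ∣_ V₀) ∧
      i ≫ (s.left ⁻¹ᵁ V₀).ι ≫ t.left = t'.left ≫ V₀.ι ∧
      Set.range i = ((s.left ⁻¹ᵁ V₀).ι ≫ t.left) ⁻¹' (V₀ : Set ↥U.left) := by
  let V' : Over S := Over.mk (V₀.ι ≫ U.hom)
  let ιV : V' ⟶ U := Over.homMk V₀.ι rfl
  let P₁ : R.left.Opens := s.left ⁻¹ᵁ V₀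
  let g : P₁.toScheme ⟶ U.left := P₁.ι ≫ t.left
  let P₂ : P₁.toScheme.Opens := g ⁻¹ᵁ V₀
  let R₁ : Over S := Over.mk (P₁.ι ≫ R.hom)
  let ι₁ : R₁ ⟶ R := Over.homMk P₁.ι rfl
  let s₁ : R₁ ⟶ V' := Over.homMk (s.left ∣_ V₀) (by
    show (s.left ∣_ V₀) ≫ V₀.ι ≫ U.hom = P₁.ι ≫ R.hom
    rw [← Category.assoc, morphismRestrict_ι, Category.assoc, Over.w s])
  have hs₁ : s₁ ≫ ιV = ι₁ ≫ s := Over.OverMorphism.ext (morphismRestrict_ι s.left V₀)
  have sq₁ : IsPullback s₁ ι₁ ιV s :=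
    Groth.Agent.Helper4.UB1.isPullback_of_left hs₁ (isPullback_morphismRestrict s.left V₀)
  let R' : Over S := Over.mk (P₂.ι ≫ P₁.ι ≫ R.hom)
  let ι₂ : R' ⟶ R₁ := Over.homMk P₂.ι rfl
  let t' : R' ⟶ V' := Over.homMk (g ∣_ V₀) (by
    show (g ∣_ V₀) ≫ V₀.ι ≫ U.hom = P₂.ι ≫ P₁.ι ≫ R.hom
    rw [← Category.assoc, morphismRestrict_ι, Category.assoc]
    show P₂.ι ≫ (P₁.ι ≫ t.left) ≫ U.hom = P₂.ι ≫ P₁.ι ≫ R.hom
    rw [Category.assoc, Over.w t])
  have ht' : t' ≫ ιV = ι₂ ≫ (ι₁ ≫ t) := Over.OverMorphism.ext (morphismRestrict_ι g V₀)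
  have sq₂ : IsPullback ι₂ t' (ι₁ ≫ t) ιV :=
    Groth.Agent.Helper4.UB1.isPullback_of_left ht'.symm (isPullback_morphismRestrict g V₀).flip
  have h := Groth.Agent.Helper5.MonoQuot.isPullback_through_chart φ t s hR.flip ιV ιV sq₁ sq₂
  refine ⟨R', ι₂ ≫ s₁, t', P₂.ι, h.flip, inferInstance, rfl, ?_, ?_⟩
  · exact (morphismRestrict_ι g V₀).symm
  · exact Scheme.Opens.range_ι P₂

/-- every nonempty open subset of the points of a space with an etale chart whose relation is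
finite over it meets an open subspace which is a scheme -/
theorem exists_open_subscheme_meeting_of_finite {X : Sp S} (hX : IsAlgSpace X) {U R : Over S}
    (a : (yon S).obj U ⟶ X) (hae : RepWith @Etale a) (s t : R ⟶ U)
    (hR : IsPullback ((yon S).map t) ((yon S).map s) a a) [Etale s.left] [IsFinite s.left]
    (u : ↥U.left) (O : Set (Points X)) (hO : IsOpen O) (hu : Points.ofPt a u ∈ O) :
    ∃ (X'' : Sp S) (j'' : X'' ⟶ X), RepWith @IsOpenImmersion j'' ∧ X''.obj.IsRepresentable ∧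
      ∃ y ∈ Set.range (Points.map j''), y ∈ O := by
  have hopen : IsOpen (Points.ofPt a ⁻¹' O) := hO.preimage (Points.continuous_ofPt a)
  obtain ⟨_, ⟨(V₀ : U.left.Opens), hV₀, rfl⟩, huV₀, hV₀O⟩ :=
    (U.left.isBasis_affineOpens).exists_subset_of_mem_open
      (show u ∈ Points.ofPt a ⁻¹' O from hu) hopen
  let V : Over S := Over.mk (V₀.ι ≫ U.hom)
  let φ : (yon S).obj V ⟶ X := (yon S).map (Over.homMk V₀.ι rfl : V ⟶ U) ≫ a
  have hφ : RepWith @Etale φ := Groth.Agent.Helper5.MonoQuot.repWith_etale_restrict a hae V₀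
  haveI hVaff : IsAffine V.left := hV₀
  haveI : Nonempty ↥V.left := ⟨⟨u, huV₀⟩⟩
  obtain ⟨R', s', t', i, hR', hi, hs', -, -⟩ := exists_restricted_kernelPair a s t hR V₀
  haveI := hi
  haveI : Etale s'.left := by rw [hs']; infer_instance
  have hfin : ∀ v : ↥V.left, (s'.left ⁻¹' {v}).Finite := by
    intro v
    have h1 : ((s.left ∣_ V₀) ⁻¹' {v}).Finite := (s.left ∣_ V₀).finite_preimage_singleton v
    refine Set.Finite.of_finite_image (f := i) (h1.subset ?_) i.isOpenEmbedding.injective.injOn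
    rintro _ ⟨r, hr, rfl⟩
    show (s.left ∣_ V₀) (i r) = v
    have : s'.left r = v := hr
    rw [hs'] at this
    exact this
  obtain ⟨O', Z, ⟨o, ho⟩, ⟨e⟩⟩ := exists_scheme_open_image hX φ hφ s' t' hR' hfin
  let φO : (yon S).obj (Over.mk (O'.ι ≫ V.hom)) ⟶ X :=
    (yon S).map (Over.homMk O'.ι rfl : Over.mk (O'.ι ≫ V.hom) ⟶ V) ≫ φ
  have hφO : RepWith @Etale φO := Groth.Agent.Helper5.MonoQuot.repWith_etale_restrict φ hφ O'
  refine ⟨img φO, imgι φO, imgι_isOpenImmersion φO hφO, ⟨⟨Z, ⟨representableByOfIso e⟩⟩⟩, ?_⟩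
  let o' : ↥(Over.mk (O'.ι ≫ V.hom)).left := (⟨o, ho⟩ : ↥O'.toScheme)
  refine ⟨Points.ofPt φO o', ⟨Points.ofPt (toImg φO) o', ?_⟩, ?_⟩
  · rw [Points.map_ofPt, toImg_ι]
  · show Points.ofPt ((yon S).map (Over.homMk O'.ι rfl : Over.mk (O'.ι ≫ V.hom) ⟶ V) ≫ φ) o' ∈ O
    rw [ofPt_yon_map_comp]
    show Points.ofPt ((yon S).map (Over.homMk V₀.ι rfl : V ⟶ U) ≫ a) _ ∈ O
    rw [ofPt_yon_map_comp]
    exact hV₀O (Subtype.property _)

/-- S10353 -/
theorem s10353 (X : Space S) {U : Over S} (a : (yon S).obj U ⟶ X.obj)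
    (hf : RepWith @IsFinite a) (he : RepWith @Etale a) (hs : RepWith @Surjective a) :
    ∃ (X' : Space S) (j : X' ⟶ X), RepWith @IsOpenImmersion j.hom ∧ X'.obj.obj.IsRepresentable ∧
      Dense (Set.range (Points.map j.hom)) := by
  obtain ⟨R, s, t, hR, hse, -⟩ := Groth.Agent.Helper5.MonoQuot.exists_relation a he
  haveI := hse
  haveI : IsFinite s.left := hf.property a ((yon S).map t) s hR
  obtain ⟨X', j, hX', hj, hrep, hmax⟩ := Groth.Agent.Helper5.ZarGlue.s10197 X.property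
  refine ⟨⟨X', hX'⟩, ObjectProperty.homMk j, hj, hrep, ?_⟩
  show Dense (Set.range (Points.map j))
  by_contra hnd
  have hne : ((closure (Set.range (Points.map j)))ᶜ).Nonempty := by
    rw [Set.nonempty_compl]
    intro h
    exact hnd (dense_iff_closure_eq.2 h)
  obtain ⟨x, hx⟩ := hne
  obtain ⟨u, hu⟩ := Groth.Agent.Helper5.AlgSpOpen.ofPt_surjective_of_repWith a hs x
  obtain ⟨X'', j'', h1, h2, y, hy1, hy2⟩ := exists_open_subscheme_meeting_of_finite X.property a he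
    s t hR u _ isClosed_closure.isOpen_compl (by rw [hu]; exact hx)
  obtain ⟨k, hk⟩ := hmax X'' j'' h1 h2
  apply hy2
  apply subset_closure
  obtain ⟨z, rfl⟩ := hy1
  refine ⟨Points.map k z, ?_⟩
  rw [← Points.map_comp, hk]

end Groth.Agent.Helper5.DegStr
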