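import Mathlib
import Groth.Agent.Helper5.DegStr17
import Groth.Agent.Helper5.DegStr14
import Groth.Agent.Helper5.Codim0B

/-!
# Open subschemes containing the codimension 0 points of a space with a finite etale cover by
a quasi-separated scheme (S10204)
-/

set_option autoImplicit false
universe u

namespace Groth.Agent.Helper5.DegStr

open CategoryTheory CategoryTheory.Limits AlgebraicGeometry Opposite AlgSp
open Groth.Agent.Helper4.AlgSpOpenImage Groth.Agent.Helper4.AlgSpPtsDesc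
open Groth.Agent.Helper5.Codim0B

variable {S : Scheme.{u}}

/-- a maximal point of a scheme is a maximal point of every open subscheme containing it -/
theorem isMaxPt_of_opens {U : Scheme.{u}} (V₀ : U.Opens) (u : ↥U) (hu : IsMaxPt u)
    (huV : u ∈ V₀) : IsMaxPt (⟨u, huV⟩ : ↥V₀.toScheme) := by
  intro v' hv'
  have h1 : V₀.ι v' ⤳ V₀.ι (⟨u, huV⟩ : ↥V₀.toScheme) := hv'.map V₀.ι.continuous
  have h2 : V₀.ι v' = u := hu _ h1
  exact V₀.ι.isOpenEmbedding.injective h2

/-- a maximal point of the chart of a space with a finite etale relation over a quasi-separated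
scheme lies in an open subspace which is a scheme -/
theorem exists_open_subscheme_of_isMaxPt_of_finite {X : Sp S} (hX : IsAlgSpace X) {U R : Over S}
    (a : (yon S).obj U ⟶ X) (hae : RepWith @Etale a) (s t : R ⟶ U)
    (hR : IsPullback ((yon S).map t) ((yon S).map s) a a) [Etale s.left] [IsFinite s.left]
    [QuasiSeparatedSpace ↥U.left] (u : ↥U.left) (hu : IsMaxPt u) :
    ∃ (X'' : Sp S) (j'' : X'' ⟶ X), RepWith @IsOpenImmersion j'' ∧ X''.obj.IsRepresentable ∧
      Points.ofPt a u ∈ Set.range (Points.map j'') := by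
  obtain ⟨_, ⟨(V₀ : U.left.Opens), hV₀, rfl⟩, huV₀, -⟩ :=
    (U.left.isBasis_affineOpens).exists_subset_of_mem_open
      (show u ∈ (Set.univ : Set ↥U.left) from trivial) isOpen_univ
  let V : Over S := Over.mk (V₀.ι ≫ U.hom)
  let φ : (yon S).obj V ⟶ X := (yon S).map (Over.homMk V₀.ι rfl : V ⟶ U) ≫ a
  have hφ : RepWith @Etale φ := Groth.Agent.Helper5.MonoQuot.repWith_etale_restrict a hae V₀
  haveI hVaff : IsAffine V.left := hV₀
  haveI hVaff' : IsAffine V₀.toScheme := hV₀
  obtain ⟨R', s', t', i, hR', hi, hs', -, hrange⟩ := exists_restricted_kernelPair a s t hR V₀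
  haveI := hi
  haveI : Etale s'.left := by rw [hs']; infer_instance
  -- the source of the restricted relation is quasi-compact
  haveI hP₁ : IsAffine (s.left ⁻¹ᵁ V₀).toScheme := isAffine_of_isAffineHom (s.left ∣_ V₀)
  haveI : QuasiCompact ((s.left ⁻¹ᵁ V₀).ι ≫ t.left) := quasiCompact_of_compactSpace _
  have hcomp : IsCompact (((s.left ⁻¹ᵁ V₀).ι ≫ t.left) ⁻¹' (V₀ : Set ↥U.left)) :=
    QuasiCompact.isCompact_preimage (f := (s.left ⁻¹ᵁ V₀).ι ≫ t.left) _ V₀.isOpen
      (IsAffineOpen.isCompact hV₀)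
  haveI : CompactSpace ↥R'.left := by
    rw [← isCompact_univ_iff, i.isOpenEmbedding.isInducing.isCompact_iff, Set.image_univ, hrange]
    exact hcomp
  haveI : QuasiCompact s'.left := quasiCompact_of_compactSpace _
  let v : ↥V.left := (⟨u, huV₀⟩ : ↥V₀.toScheme)
  have hv : IsMaxPt v := isMaxPt_of_opens V₀ u hu huV₀
  obtain ⟨O', Z, hvO, ⟨e⟩⟩ := exists_scheme_open_image_of_isMaxPt hX φ hφ s' t' hR' v hv
  let φO : (yon S).obj (Over.mk (O'.ι ≫ V.hom)) ⟶ X :=
    (yon S).map (Over.homMk O'.ι rfl : Over.mk (O'.ι ≫ V.hom) ⟶ V) ≫ φ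
  have hφO : RepWith @Etale φO := Groth.Agent.Helper5.MonoQuot.repWith_etale_restrict φ hφ O'
  refine ⟨img φO, imgι φO, imgι_isOpenImmersion φO hφO, ⟨⟨Z, ⟨representableByOfIso e⟩⟩⟩, ?_⟩
  let o' : ↥(Over.mk (O'.ι ≫ V.hom)).left := (⟨v, hvO⟩ : ↥O'.toScheme)
  refine ⟨Points.ofPt (toImg φO) o', ?_⟩
  rw [Points.map_ofPt, toImg_ι]
  show Points.ofPt ((yon S).map (Over.homMk O'.ι rfl : Over.mk (O'.ι ≫ V.hom) ⟶ V) ≫ φ) o' = _
  rw [ofPt_yon_map_comp]
  show Points.ofPt ((yon S).map (Over.homMk V₀.ι rfl : V ⟶ U) ≫ a) _ = _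
  rw [ofPt_yon_map_comp]
  rfl

/-- S10204 -/
theorem s10204 (X : Space S) {U : Over S} (a : (yon S).obj U ⟶ X.obj)
    (hf : RepWith @IsFinite a) (he : RepWith @Etale a) (hs : RepWith @Surjective a)
    [QuasiSeparatedSpace ↥U.left] :
    ∃ (X' : Space S) (j : X' ⟶ X), RepWith @IsOpenImmersion j.hom ∧ X'.obj.obj.IsRepresentable ∧
      Dense (Set.range (Points.map j.hom)) ∧
      ∀ x : Points X.obj,
        HasAt (fun U u => ringKrullDim ↥(U.presheaf.stalk u) = 0) X.obj x →
          x ∈ Set.range (Points.map j.hom) := by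
  obtain ⟨R, s, t, hR, hse, -⟩ := Groth.Agent.Helper5.MonoQuot.exists_relation a he
  haveI := hse
  haveI : IsFinite s.left := hf.property a ((yon S).map t) s hR
  obtain ⟨X', j, hX', hj, hrep, hmax⟩ := Groth.Agent.Helper5.ZarGlue.s10197 X.property
  refine ⟨⟨X', hX'⟩, ObjectProperty.homMk j, hj, hrep, ?_, ?_⟩
  · show Dense (Set.range (Points.map j))
    by_contra hnd
    have hne : ((closure (Set.range (Points.map j)))ᶜ).Nonempty := by
      rw [Set.nonempty_compl]
      intro h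
      exact hnd (dense_iff_closure_eq.2 h)
    obtain ⟨x, hx⟩ := hne
    obtain ⟨u, hu⟩ := Groth.Agent.Helper5.AlgSpOpen.ofPt_surjective_of_repWith a hs x
    obtain ⟨X'', j'', h1, h2, y, hy1, hy2⟩ :=
      exists_open_subscheme_meeting_of_finite X.property a he
        s t hR u _ isClosed_closure.isOpen_compl (by rw [hu]; exact hx)
    obtain ⟨k, hk⟩ := hmax X'' j'' h1 h2
    apply hy2
    apply subset_closure
    obtain ⟨z, rfl⟩ := hy1
    refine ⟨Points.map k z, ?_⟩
    rw [← Points.map_comp, hk]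
  · intro x hx
    show x ∈ Set.range (Points.map j)
    obtain ⟨W, b, w, hb, hbw, hdim⟩ := hx
    have hw : IsMaxPt w := (stalk_dim_zero_iff W.left w).1 hdim
    obtain ⟨u, hu⟩ := Groth.Agent.Helper5.AlgSpOpen.ofPt_surjective_of_repWith a hs x
    have humax : IsMaxPt u := isMaxPt_of_chart b hb a he w u (hbw.trans hu.symm) hw
    obtain ⟨X'', j'', h1, h2, z, hz⟩ :=
      exists_open_subscheme_of_isMaxPt_of_finite X.property a he s t hR u humax
    obtain ⟨k, hk⟩ := hmax X'' j'' h1 h2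
    refine ⟨Points.map k z, ?_⟩
    rw [← Points.map_comp, hk, hz, hu]

end Groth.Agent.Helper5.DegStr
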