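import Mathlib
import Groth.Agent.Helper5.DegStr19
import Groth.Agent.Helper5.DegStr14
import Groth.Agent.Helper5.DegStr10
import Groth.Agent.Helper5.MonoQuot10
import Groth.Agent.Helper5.Decent3

/-!
# Finiteness of the fibres of the relation of an affine chart, when the generic points of a
dense open subscheme are quasi-compact
-/

set_option autoImplicit false
universe u

namespace Groth.Agent.Helper5.DegStr

open CategoryTheory CategoryTheory.Limits AlgebraicGeometry Opposite AlgSp
open Groth.Agent.Helper4.AlgSpPtsDesc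

variable {S : Scheme.{u}}

/-- the field valued point of a point of a scheme, seen in a space through a monomorphism, is a
monomorphism -/
theorem mono_toHom_ofPt {X : Sp S} {X' : Over S} (j : (yon S).obj X' ⟶ X) [Mono j]
    (x' : ↥X'.left) : Mono (FieldPt.ofPt j x').toHom := by
  rw [FieldPt.toHom_ofPt]
  have h1 : Mono (Over.homMk (X'.left.fromSpecResidueField x') rfl :
      Over.mk (X'.left.fromSpecResidueField x' ≫ X'.hom) ⟶ X') := by
    have : Mono ((Over.forget S).map (Over.homMk (X'.left.fromSpecResidueField x') rfl :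
        Over.mk (X'.left.fromSpecResidueField x' ≫ X'.hom) ⟶ X')) := by
      show Mono (X'.left.fromSpecResidueField x')
      infer_instance
    exact (Over.forget S).mono_of_mono_map this
  have h2 := @Groth.Agent.Helper4.AlgSpOpenImage.mono_yon_map _ _ _ _ h1
  exact mono_comp' h2 inferInstance

/-- Under the hypotheses (3) of S10397, the relation of an affine etale chart has finite
fibres. -/
theorem finite_fibre_relation_of_generic_qc {X : Sp S} (hX : IsAlgSpace X) {X' : Over S}
    (j : (yon S).obj X' ⟶ X) (hj : RepWith @IsOpenImmersion j)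
    (hd : Dense (Set.range (Points.ofPt j)))
    (hfin : (irreducibleComponents ↥X'.left).Finite)
    (hqc : ∀ x' : ↥X'.left, (∃ T ∈ irreducibleComponents ↥X'.left, IsGenericPoint x' T) →
      RepWith @QuasiCompact (FieldPt.ofPt j x').toHom)
    {U R : Over S} [IsAffine U.left] (φ : (yon S).obj U ⟶ X) (hφ : RepWith @Etale φ)
    (s t : R ⟶ U) (hR : IsPullback ((yon S).map t) ((yon S).map s) φ φ) [Etale s.left]
    (u : ↥U.left) : (s.left ⁻¹' {u}).Finite := by
  classical
  haveI : Mono j := Groth.Agent.Helper5.ZarGlue.mono_of_oi j hj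
  haveI : IsSeparated s.left := isSeparated_of_kernelPair φ s t hR
  -- the generic points of `X'`
  let G' : Set ↥X'.left := {x' | ∃ T ∈ irreducibleComponents ↥X'.left, IsGenericPoint x' T}
  have hG'fin : G'.Finite := by
    refine (genericPoints.finite hfin).subset ?_
    rintro x' ⟨T, hT, hx'T⟩
    show closure {x'} ∈ irreducibleComponents ↥X'.left
    rw [hx'T.def]
    exact hT
  -- the points of `U` over them
  let G : Set ↥U.left := ⋃ x' ∈ G', Points.ofPt φ ⁻¹' {Points.ofPt j x'}
  have hfib : ∀ x' ∈ G', (Points.ofPt φ ⁻¹' {Points.ofPt j x'}).Finite := fun x' hx' =>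
    Groth.Agent.Helper5.Decent2.finite_fibre_of_qc_point (FieldPt.ofPt j x') (hqc x' hx') φ hφ
  have hGfin : G.Finite := hG'fin.biUnion hfib
  -- every point of `U` is a specialization of a point of `G`
  have hcl : ∀ w : ↥U.left, w ∈ closure G := by
    intro w₀
    by_contra hw₀
    have hWo : IsOpen ((closure G)ᶜ) := isClosed_closure.isOpen_compl
    have hWim : IsOpen (Points.ofPt φ '' (closure G)ᶜ) :=
      Groth.Agent.Helper5.Decent3.isOpenMap_ofPt hX φ hφ _ hWo
    obtain ⟨_, ⟨w, hw, rfl⟩, ⟨x', hx'⟩⟩ :=
      hd.inter_open_nonempty _ hWim ⟨_, w₀, hw₀, rfl⟩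
    -- a generic point specializing to `x'`
    have hT : irreducibleComponent x' ∈ irreducibleComponents ↥X'.left :=
      irreducibleComponent_mem_irreducibleComponents x'
    obtain ⟨ξ, hξ⟩ := QuasiSober.sober hT.1 isClosed_irreducibleComponent
    have hξG : ξ ∈ G' := ⟨_, hT, hξ⟩
    have hsp : ξ ⤳ x' := by
      rw [specializes_iff_mem_closure, hξ.def]
      exact mem_irreducibleComponent
    have hsp' : Points.ofPt j ξ ⤳ Points.ofPt φ w := by
      rw [← hx']
      exact hsp.map (Points.continuous_ofPt j)
    obtain ⟨w', hw'sp, hw'⟩ :=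
      Groth.Agent.Helper5.Decent3.exists_generization_in_chart hX _ _ hsp'
        (FieldPt.ofPt j ξ) rfl (hqc ξ hξG) φ hφ w rfl
    apply hw
    have hw'G : w' ∈ G := by
      simp only [G, Set.mem_iUnion]
      exact ⟨ξ, hξG, hw'⟩
    exact closure_mono (Set.singleton_subset_iff.2 hw'G) (specializes_iff_mem_closure.1 hw'sp)
  -- the fibres over the points of `G` are finite
  have hGfib : ∀ η ∈ G, (s.left ⁻¹' {η}).Finite := by
    intro η hη
    simp only [G, Set.mem_iUnion] at hη
    obtain ⟨x', hx'G, hηx'⟩ := hη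
    haveI : Mono (FieldPt.ofPt j x').toHom := mono_toHom_ofPt j x'
    have h1 := Groth.Agent.Helper5.MonoQuot.finite_relation_fibre (FieldPt.ofPt j x') φ hφ
      (hfib x' hx'G) R s t hR
    refine h1.subset ?_
    intro r hr
    show Points.ofPt ((yon S).map t ≫ φ) r = Points.ofPt j x'
    rw [hR.w, ofPt_yon_map_comp]
    have : s.left r = η := hr
    rw [this]
    exact hηx'
  have hbd : ∀ η : ↥U.left, ∃ n, η ∈ G → η ∉ Npts s.left n := by
    intro η
    by_cases hη : η ∈ G
    · obtain ⟨n, hn⟩ := exists_not_mem_Npts s.left η (hGfib η hη)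
      exact ⟨n, fun _ => hn⟩
    · exact ⟨0, fun h => (hη h).elim⟩
  choose n hn using hbd
  let N : ℕ := hGfin.toFinset.sup n
  have hN : ∀ η ∈ G, η ∉ Npts s.left N := by
    intro η hη hmem
    have hle : n η ≤ N := Finset.le_sup (f := n) (hGfin.mem_toFinset.2 hη)
    exact hn η hη (Npts_antitone s.left hle hmem)
  have hopen : IsOpen (Npts s.left N) := isOpen_Npts N s.left
  have hu : u ∉ Npts s.left N := by
    intro hmem
    have h1 : u ∈ closure G := hcl u
    have h2 : G = ⋃ η ∈ G, ({η} : Set ↥U.left) := (Set.biUnion_of_singleton G).symm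
    rw [h2, hGfin.closure_biUnion] at h1
    simp only [Set.mem_iUnion] at h1
    obtain ⟨η, hηG, huη⟩ := h1
    have hsp : η ⤳ u := specializes_iff_mem_closure.2 huη
    exact hN η hηG (hsp.mem_open hopen hmem)
  exact finite_fibre_of_not_mem_Npts s.left u N hu

end Groth.Agent.Helper5.DegStr
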