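import Mathlib
import Groth.Agent.Helper5.DegStr20
import Groth.Agent.Helper5.MonoQuot9
import Groth.Agent.Helper5.MonoQuot7

/-!
# S10397: decent with finitely many irreducible components iff there is a dense open subscheme
with finitely many irreducible components whose generic points are quasi-compact
-/

set_option autoImplicit false
universe u

namespace Groth.Agent.Helper5.DegStr

open CategoryTheory CategoryTheory.Limits AlgebraicGeometry Opposite AlgSp
open Groth.Agent.Helper4.AlgSpPtsDesc Groth.Agent.Helper4.AlgSpQC2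

variable {S : Scheme.{u}}

/-- a space with a dense open subscheme with finitely many irreducible components whose generic
points are quasi-compact is decent -/
theorem isDecent_of_generic_qc (X : Space S) {X' : Over S}
    (j : (yon S).obj X' ⟶ X.obj) (hj : RepWith @IsOpenImmersion j)
    (hd : Dense (Set.range (Points.ofPt j)))
    (hfin : (irreducibleComponents ↥X'.left).Finite)
    (hqc : ∀ x' : ↥X'.left, (∃ T ∈ irreducibleComponents ↥X'.left, IsGenericPoint x' T) →
      RepWith @QuasiCompact (FieldPt.ofPt j x').toHom) : IsDecent X.obj := by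
  intro x
  refine (Groth.Agent.Helper5.MonoQuot.s10360 X x).1 ?_
  intro U φ hU hφ R s t hR
  haveI : IsAffine U.left := hU
  haveI : Etale s.left := hφ.property φ ((yon S).map t) s hR
  have hsfin : ∀ u : ↥U.left, (s.left ⁻¹' {u}).Finite := fun u =>
    finite_fibre_relation_of_generic_qc X.property j hj hd hfin hqc φ hφ s t hR u
  have hUx : (Points.ofPt φ ⁻¹' {x}).Finite := by
    by_cases hne : (Points.ofPt φ ⁻¹' {x}).Nonempty
    · obtain ⟨u₀, hu₀⟩ := hne
      have hu₀' : Points.ofPt φ u₀ = x := hu₀
      refine ((hsfin u₀).image t.left).subset ?_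
      intro u hu
      have hu' : Points.ofPt φ u = x := hu
      obtain ⟨r, hr1, hr2⟩ :=
        Groth.Agent.Helper5.Decent2.exists_scheme_point_of_isPullback hR u u₀
          (hu'.trans hu₀'.symm)
      exact ⟨r, hr2, hr1⟩
    · rw [Set.not_nonempty_iff_eq_empty] at hne
      rw [hne]
      exact Set.finite_empty
  refine ⟨hUx, ?_⟩
  have h1 : (⋃ u ∈ (Points.ofPt φ ⁻¹' {x}), s.left ⁻¹' {u}).Finite :=
    hUx.biUnion (fun u _ => hsfin u)
  refine h1.subset ?_
  intro r hr
  have hr' : Points.ofPt ((yon S).map t ≫ φ) r = x := hr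
  rw [hR.w, ofPt_yon_map_comp] at hr'
  simp only [Set.mem_iUnion]
  exact ⟨s.left r, hr', rfl⟩

/-- S10397 -/
theorem s10397 (X : Space S) :
    (IsDecent X.obj ∧ (irreducibleComponents (Points X.obj)).Finite) ↔
      ∃ (X' : Over S) (j : (yon S).obj X' ⟶ X.obj), RepWith @IsOpenImmersion j ∧
        Dense (Set.range (Points.ofPt j)) ∧ (irreducibleComponents ↥X'.left).Finite ∧
        ∀ x' : ↥X'.left, (∃ T ∈ irreducibleComponents ↥X'.left, IsGenericPoint x' T) →
          RepWith @QuasiCompact (FieldPt.ofPt j x').toHom := by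
  constructor
  · rintro ⟨hdec, hfin⟩
    obtain ⟨Z', j, hj, hrep, hdense⟩ := s10337 X hdec
    obtain ⟨W, ⟨e⟩⟩ := hrep.has_representation
    let ψ : (yon S).obj W ⟶ X.obj := (isoOfRepresentableBy e).hom ≫ j.hom
    have hψ : RepWith @IsOpenImmersion ψ :=
      ((RepWith (S := S) @IsOpenImmersion).cancel_left_of_respectsIso _ _).2 hj
    have hk := isOpenEmbedding_ofPt_of_oi X.property ψ hψ
    have hrange : Set.range (Points.ofPt ψ) = Set.range (Points.map j.hom) := by
      ext z
      constructor
      · rintro ⟨w, rfl⟩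
        refine ⟨Points.ofPt (isoOfRepresentableBy e).hom w, ?_⟩
        rw [Points.map_ofPt]
      · rintro ⟨y, rfl⟩
        obtain ⟨w, hw⟩ :=
          (Points.schemeHomeo W).surjective (Points.map (isoOfRepresentableBy e).inv y)
        refine ⟨w, ?_⟩
        rw [← ofPt_eq_map_schemeHomeo, hw, Points.map_comp, ← Points.map_comp _ _ y,
          Iso.inv_hom_id, Points.map_id]
    refine ⟨W, ψ, hψ, ?_, ?_, ?_⟩
    · rw [hrange]; exact hdense
    · exact finite_irreducibleComponents_of_isOpenEmbedding _ hk hfin
    · intro x' _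
      obtain ⟨p, hp, -, hpq⟩ := hdec (Points.ofPt ψ x')
      exact Groth.Agent.Helper5.MonoQuot.repWith_qc_of_rel X.property (FieldPt.ofPt ψ x') p
        hp.symm hpq
  · rintro ⟨X', j, hj, hd, hfin, hqc⟩
    exact ⟨isDecent_of_generic_qc X j hj hd hfin hqc,
      finite_irreducibleComponents_of_denseRange _ (Points.continuous_ofPt j) hd hfin⟩

end Groth.Agent.Helper5.DegStr
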