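import Mathlib
import Groth.Agent.Helper5.BirBC
import Groth.Prelude

set_option autoImplicit false
set_option linter.unusedSectionVars false
set_option linter.style.haveILetI false
universe u

open AlgebraicGeometry CategoryTheory Limits TopologicalSpace

namespace Groth.Agent.Helper5.NeronEt

/-- in a Noetherian quasi-sober space, a point in the closure of an open set has a generization
in that open set -/
theorem exists_specializes_of_mem_closure_of_isOpen {Y : Type*} [TopologicalSpace Y]
    [NoetherianSpace Y] [QuasiSober Y] (T : Set Y) (hT : IsOpen T) (w : Y) (hw : w ∈ closure T) :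
    ∃ ζ ∈ T, ζ ⤳ w := by
  have hfin : (irreducibleComponents Y).Finite := NoetherianSpace.finite_irreducibleComponents
  have hcov : T = ⋃ Z ∈ irreducibleComponents Y, T ∩ Z := by
    rw [← Set.inter_iUnion₂, ← Set.sUnion_eq_biUnion, sUnion_irreducibleComponents, Set.inter_univ]
  rw [hcov, hfin.closure_biUnion] at hw
  obtain ⟨Z, hZ, hwZ⟩ := Set.mem_iUnion₂.1 hw
  have hne : (T ∩ Z).Nonempty := by
    by_contra h
    rw [Set.not_nonempty_iff_eq_empty] at h
    rw [h, closure_empty] at hwZ
    exact hwZ
  obtain ⟨ζ, hζ⟩ := QuasiSober.sober hZ.1 (isClosed_of_mem_irreducibleComponents Z hZ)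
  have hζT : ζ ∈ T := by
    have := (hζ.mem_open_set_iff hT).2 (by rwa [Set.inter_comm] at hne)
    exact this
  refine ⟨ζ, hζT, ?_⟩
  rw [specializes_iff_mem_closure, hζ.def]
  exact closure_minimal Set.inter_subset_right (isClosed_of_mem_irreducibleComponents Z hZ) hwZ

/-- in a locally Noetherian scheme an open subset stable under specialisation is closed -/
theorem isClosed_of_isOpen_of_stableUnderSpecialization (X : Scheme.{u}) [IsLocallyNoetherian X]
    (E : Set X) (hE : IsOpen E) (hsp : ∀ a b : X, a ⤳ b → a ∈ E → b ∈ E) : IsClosed E := by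
  rw [← closure_subset_iff_isClosed]
  intro x hx
  obtain ⟨W, hW, hxW, -⟩ := exists_isAffineOpen_mem_and_subset (X := X) (x := x) (U := ⊤) trivial
  haveI : IsNoetherianRing Γ(X, W) := IsLocallyNoetherian.component_noetherian ⟨W, hW⟩
  let w := hW.primeIdealOf ⟨x, hxW⟩
  have hw : hW.fromSpec w = x := hW.fromSpec_primeIdealOf ⟨x, hxW⟩
  have hoe : Topology.IsOpenEmbedding hW.fromSpec := hW.fromSpec.isOpenEmbedding
  have hcl : w ∈ closure (hW.fromSpec ⁻¹' E) := by
    rw [← hoe.isOpenMap.preimage_closure_eq_closure_preimage hW.fromSpec.continuous]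
    show hW.fromSpec w ∈ closure E
    rw [hw]; exact hx
  obtain ⟨ζ, hζ, hζw⟩ := exists_specializes_of_mem_closure_of_isOpen (hW.fromSpec ⁻¹' E)
    (hE.preimage hW.fromSpec.continuous) w hcl
  have := hsp _ _ (hζw.map hW.fromSpec.continuous) hζ
  rwa [hw] at this

end Groth.Agent.Helper5.NeronEt
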