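import Mathlib
import Groth.Agent.Helper5.SchD1
import Groth.Agent.Helper5.RF4

set_option autoImplicit false
universe u
open CategoryTheory CategoryTheory.Limits AlgebraicGeometry TopologicalSpace Opposite

namespace Groth.Agent.Helper5.SchD
open Groth.Agent.Helper4

/-- a point of a locally Noetherian scheme whose local ring has dimension `0` lies in every dense
open subset. -/
theorem mem_of_dense_of_dim_zero (X : Scheme.{u}) [IsLocallyNoetherian X] (x : X)
    (hx : ringKrullDim (X.presheaf.stalk x) ≤ 0) (U : X.Opens) (hU : Dense (U : Set X)) : x ∈ U := by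
  have hmax : ∀ y : X, y ⤳ x → y = x := by
    rw [ringKrullDim_stalk_eq_coheight] at hx
    have h0 : Order.coheight x = 0 := by
      have : Order.coheight x ≤ 0 := by exact_mod_cast hx
      exact nonpos_iff_eq_zero.mp this
    rw [Order.coheight_eq_zero] at h0
    intro y hy
    have h1 : x ⤳ y := Scheme.le_iff_specializes.mp (h0 (Scheme.le_iff_specializes.mpr hy))
    exact (hy.antisymm h1).eq
  obtain ⟨W, hW, hxW, -⟩ := exists_affine_nhd x ⊤ trivial
  haveI : IsNoetherianRing Γ(X, W) := IsLocallyNoetherian.component_noetherian ⟨W, hW⟩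
  haveI : NoetherianSpace ↥W := noetherianSpace_of_isAffineOpen W hW
  let x' : ↥W := ⟨x, hxW⟩
  have hZ := irreducibleComponent_mem_irreducibleComponents x'
  haveI : QuasiSober ↥W := inferInstanceAs (QuasiSober ↥(W : Scheme.{u}))
  obtain ⟨ξ, hξ⟩ := QuasiSober.sober (isIrreducible_irreducibleComponent (x := x'))
    isClosed_irreducibleComponent
  have hξx : ξ ⤳ x' := by
    rw [specializes_iff_mem_closure, hξ.def]
    exact mem_irreducibleComponent
  have hξeq : ξ = x' := by
    apply Subtype.ext
    exact hmax ξ.1 (hξx.map continuous_subtype_val)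
  rw [hξeq] at hξ
  have hV : Dense ((Subtype.val : ↥W → X) ⁻¹' (U : Set X)) :=
    hU.preimage W.isOpen.isOpenMap_subtype_val
  exact RF4.generic_mem_of_dense hZ x' hξ _ (U.isOpen.preimage continuous_subtype_val) hV


theorem dense_of_isSchematicallyDense {X : Scheme.{u}} (U : X.Opens)
    (hU : CInt.IsSchematicallyDense U) : Dense (U : Set X) := by
  rw [dense_iff_inter_open]
  intro V hVo hVne
  by_contra hcon
  rw [Set.not_nonempty_iff_eq_empty] at hcon
  obtain ⟨x, hx⟩ := hVne
  obtain ⟨W, hW, hxW, hWV⟩ := exists_affine_nhd x ⟨V, hVo⟩ hx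
  have hbot : W ⊓ U = ⊥ := by
    rw [eq_bot_iff]
    intro y hy
    have : y ∈ V ∩ (U : Set X) := ⟨hWV hy.1, hy.2⟩
    rw [hcon] at this
    exact this
  haveI : Subsingleton Γ(X, W ⊓ U) := by
    rw [hbot]; infer_instance
  haveI : Nonempty ↥W := ⟨⟨x, hxW⟩⟩
  have h1 : (1 : Γ(X, W)) = 0 := hU W (Subsingleton.elim _ _)
  exact one_ne_zero h1

theorem s15712 (X : Scheme.{u}) [IsLocallyNoetherian X]
    (hS1 : ∀ x : X, min (1 : WithBot ℕ∞) (ringKrullDim (X.presheaf.stalk x)) ≤
      ((LocCoh.depth (X.presheaf.stalk x) (X.presheaf.stalk x) : ℕ∞) : WithBot ℕ∞))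
    (U : X.Opens) : CInt.IsSchematicallyDense U ↔ Dense (U : Set X) := by
  refine ⟨dense_of_isSchematicallyDense U, fun hd => ?_⟩
  rw [s5091]
  intro x hxU
  have h := hS1 x
  by_cases hdim : (1 : WithBot ℕ∞) ≤ ringKrullDim (X.presheaf.stalk x)
  · rw [min_eq_left hdim] at h
    exact_mod_cast h
  · exfalso
    apply hxU
    apply mem_of_dense_of_dim_zero X x _ U hd
    rw [not_le] at hdim
    generalize ringKrullDim (X.presheaf.stalk x) = d at hdim
    induction d using WithBot.recBotCoe with
    | bot => exact bot_le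
    | coe n =>
      have h1 : n < 1 := by exact_mod_cast hdim
      have h2 : n = 0 := ENat.lt_one_iff_eq_zero.mp h1
      subst h2
      exact le_rfl

end Groth.Agent.Helper5.SchD
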