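import Mathlib
import Groth.Agent.Helper5.UnrGu4
import Groth.Agent.Helper5.SchD2
import Groth.Agent.Helper5.NeronEt3
import Groth.Agent.Helper5.NeronEt2
import Groth.Prelude

set_option autoImplicit false
set_option linter.unusedSectionVars false
set_option linter.style.haveILetI false
universe u

open AlgebraicGeometry CategoryTheory Limits TensorProduct TopologicalSpace

namespace Groth.Agent.Helper5.DenseOI

/-- an étale separated morphism which is a monomorphism over an open subset meeting every
"generalization class" is an open immersion -/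
theorem isOpenImmersion_of_etale_separated_of_dense {W X : Scheme.{u}} (h : W ⟶ X) [Etale h]
    [IsSeparated h] (X₀ : X.Opens) (hgen : ∀ x : X, ∃ x' ∈ X₀, x' ⤳ x)
    (hmono : ∀ p : ↥(pullback h h), (pullback.fst h h ≫ h) p ∈ X₀ →
      p ∈ Set.range (pullback.diagonal h)) :
    IsOpenImmersion h := by
  have hΔ : Surjective (pullback.diagonal h) := by
    constructor
    intro p
    let π : pullback h h ⟶ X := pullback.fst h h ≫ h
    obtain ⟨x', hx'0, hx'⟩ := hgen (π p)
    obtain ⟨p', hp'p, hp'⟩ := (Flat.generalizingMap π) hx'
    have h1 : p' ∈ Set.range (pullback.diagonal h) := hmono p' (by rw [show (pullback.fst h h ≫ h) p' = x' from hp']; exact hx'0)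
    have hcl : IsClosed (Set.range (pullback.diagonal h)) :=
      (pullback.diagonal h).isClosedEmbedding.isClosed_range
    exact hp'p.mem_closed hcl h1
  haveI : IsIso (pullback.diagonal h) := by
    apply isIso_of_isOpenImmersion_of_opensRange_eq_top
    rw [eq_top_iff]
    rintro x -
    exact hΔ.surj x
  haveI : Mono h := (pullback.isIso_diagonal_iff h).1 inferInstance
  exact IsOpenImmersion.of_flat_of_mono h

/-- in a locally Noetherian scheme every point has a generalization in any given dense open -/
theorem exists_specializes_mem_of_dense (X : Scheme.{u}) [IsLocallyNoetherian X] (U : X.Opens)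
    (hU : Dense (U : Set X)) (x : X) : ∃ x' ∈ U, x' ⤳ x := by
  obtain ⟨W, hW, hxW, -⟩ := exists_isAffineOpen_mem_and_subset (X := X) (x := x) (U := ⊤) trivial
  haveI : IsNoetherianRing Γ(X, W) := IsLocallyNoetherian.component_noetherian ⟨W, hW⟩
  haveI : NoetherianSpace W := noetherianSpace_of_isAffineOpen W hW
  -- work in the subspace W
  let T : Set W := Subtype.val ⁻¹' (U : Set X)
  have hT : IsOpen T := U.isOpen.preimage continuous_subtype_val
  have hTd : Dense T := hU.preimage W.isOpen.isOpenMap_subtype_val
  obtain ⟨ζ, hζT, hζ⟩ := Groth.Agent.Helper5.NeronEt.exists_specializes_of_mem_closure_of_isOpen T hT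
    (⟨x, hxW⟩ : W) (hTd _)
  exact ⟨ζ.1, hζT, hζ.map continuous_subtype_val⟩

end Groth.Agent.Helper5.DenseOI
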