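import Mathlib
import Groth.Agent.Helper5.DenseOI1
import Groth.Prelude

set_option autoImplicit false
set_option linter.unusedSectionVars false
set_option linter.style.haveILetI false
universe u

open AlgebraicGeometry CategoryTheory Limits TensorProduct TopologicalSpace

namespace Groth.Agent.Helper5.DenseOI

/-- if `Ω[B/A]` is free and `B_g` is a nonzero formally unramified `A`-algebra then `B` is
formally unramified over `A` -/
theorem formallyUnramified_of_away {A B B' : Type u} [CommRing A] [CommRing B] [CommRing B']
    [Algebra A B] [Algebra A B'] [Algebra B B'] [IsScalarTower A B B']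
    [Module.Free B Ω[B⁄A]] (g : B) [IsLocalization.Away g B'] [Nontrivial B']
    [Algebra.FormallyUnramified A B'] : Algebra.FormallyUnramified A B := by
  refine ⟨?_⟩
  haveI : Subsingleton Ω[B'⁄A] := inferInstance
  let b := Module.Free.chooseBasis B Ω[B⁄A]
  have hemp : IsEmpty (Module.Free.ChooseBasisIndex B Ω[B⁄A]) := by
    by_contra hne
    rw [not_isEmpty_iff] at hne
    obtain ⟨i⟩ := hne
    have h1 : KaehlerDifferential.map A A B B' (b i) = 0 := Subsingleton.elim _ _
    haveI := KaehlerDifferential.isLocalizedModule_map (R := A) (S := B) (T := B')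
      (Submonoid.powers g)
    obtain ⟨⟨_, n, rfl⟩, hc⟩ := (IsLocalizedModule.eq_zero_iff (Submonoid.powers g)
      (KaehlerDifferential.map A A B B')).1 h1
    have hc' : g ^ n • b i = 0 := hc
    have h2 : g ^ n = 0 := by
      have h3 := congrArg (fun m => b.repr m i) hc'
      simpa using h3
    have h4 : IsUnit (algebraMap B B' g) := IsLocalization.Away.algebraMap_isUnit g
    have h5 : (algebraMap B B' g) ^ n = 0 := by rw [← map_pow, h2, map_zero]
    have h6 : IsUnit ((0 : B')) := h5 ▸ h4.pow n
    exact not_isUnit_zero h6
  exact b.repr.toEquiv.subsingleton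

end Groth.Agent.Helper5.DenseOI
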