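import Mathlib
import Groth.Agent.Helper5.DenseOI2
import Groth.Prelude

set_option autoImplicit false
set_option linter.unusedSectionVars false
set_option linter.style.haveILetI false
universe u

open AlgebraicGeometry CategoryTheory Limits TensorProduct TopologicalSpace

namespace Groth.Agent.Helper5.DenseOI

open Groth.Agent.Helper5.UnrGu

/-- a smooth morphism which is unramified over a dense open of the source is unramified -/
theorem formallyUnramified_of_smooth_of_dense {N S : Scheme.{u}} (f : N ⟶ S) [Smooth f]
    (N₀ : N.Opens) (hd : Dense (N₀ : Set N)) (h0 : FormallyUnramified (N₀.ι ≫ f)) :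
    FormallyUnramified f := by
  choose U hU V hV hxV e hss using fun x : N => Smooth.exists_isStandardSmooth f x
  rw [IsZariskiLocalAtSource.iff_of_iSup_eq_top (P := @FormallyUnramified) V]
  · intro x
    obtain ⟨y, hyV, hy0⟩ := hd.inter_open_nonempty (V x) (V x).isOpen ⟨x, hxV x⟩
    obtain ⟨g, hgle, hyg⟩ := (hV x).exists_basicOpen_le (V := V x ⊓ N₀) ⟨y, ⟨hyV, hy0⟩⟩ hyV
    have hgV : N.basicOpen g ≤ V x := hgle.trans inf_le_left
    have hg0 : N.basicOpen g ≤ N₀ := hgle.trans inf_le_right
    have hDaff : IsAffineOpen (N.basicOpen g) := (hV x).basicOpen g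
    have e' : N.basicOpen g ≤ f ⁻¹ᵁ (U x) := hgV.trans (e x)
    -- unramified on D(g)
    have h1 : FormallyUnramified ((N.basicOpen g).ι ≫ f) := by
      rw [← N.homOfLE_ι hg0, Category.assoc]
      exact MorphismProperty.comp_mem _ _ _
        (inferInstance : FormallyUnramified (N.homOfLE hg0)) h0
    have h2 : FormallyUnramified (f.resLE (U x) (N.basicOpen g) e') := by
      rw [← Scheme.Hom.resLE_comp_ι f e'] at h1
      exact FormallyUnramified.of_comp (f.resLE (U x) (N.basicOpen g) e') (U x).ι
    have h3 : (f.appLE (U x) (N.basicOpen g) e').hom.FormallyUnramified :=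
      (resLE_iff_appLE (P := @FormallyUnramified) f (U x) (hU x) (N.basicOpen g) hDaff e').1 h2
    -- ring level
    have key : (f.appLE (U x) (V x) (e x)).hom.FormallyUnramified := by
      have hfac : f.appLE (U x) (N.basicOpen g) e' =
          f.appLE (U x) (V x) (e x) ≫ N.presheaf.map (homOfLE hgV).op :=
        (Scheme.Hom.appLE_map f (e x) (homOfLE hgV).op).symm
      algebraize [(f.appLE (U x) (V x) (e x)).hom, (N.presheaf.map (homOfLE hgV).op).hom,
        (f.appLE (U x) (N.basicOpen g) e').hom]
      haveI : IsScalarTower Γ(S, U x) Γ(N, V x) Γ(N, N.basicOpen g) :=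
        IsScalarTower.of_algebraMap_eq' (by
          rw [RingHom.algebraMap_toAlgebra, RingHom.algebraMap_toAlgebra,
            RingHom.algebraMap_toAlgebra, hfac]; rfl)
      haveI : Algebra.IsStandardSmooth Γ(S, U x) Γ(N, V x) := hss x
      haveI : IsLocalization.Away g Γ(N, N.basicOpen g) := (hV x).isLocalization_basicOpen g
      haveI : Nontrivial Γ(N, N.basicOpen g) := by
        by_contra hnt
        rw [not_nontrivial_iff_subsingleton] at hnt
        have h4 : N.basicOpen g = ⊥ := by
          have h5 : N.basicOpen (N.presheaf.map (homOfLE hgV).op g) = N.basicOpen g := by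
            rw [Scheme.basicOpen_res]; exact inf_eq_left.2 le_rfl
          rw [← h5, Subsingleton.elim (N.presheaf.map (homOfLE hgV).op g) 0, Scheme.basicOpen_zero]
        rw [h4] at hyg
        exact hyg
      haveI : Algebra.FormallyUnramified Γ(S, U x) Γ(N, N.basicOpen g) := by
        rw [← RingHom.formallyUnramified_algebraMap, RingHom.algebraMap_toAlgebra]
        exact h3
      have h6 := formallyUnramified_of_away (A := Γ(S, U x)) (B := Γ(N, V x))
        (B' := Γ(N, N.basicOpen g)) g
      rw [← RingHom.formallyUnramified_algebraMap, RingHom.algebraMap_toAlgebra] at h6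
      exact h6
    have h7 : FormallyUnramified (f.resLE (U x) (V x) (e x)) :=
      (resLE_iff_appLE (P := @FormallyUnramified) f (U x) (hU x) (V x) (hV x) (e x)).2 key
    rw [← Scheme.Hom.resLE_comp_ι f (e x)]
    exact MorphismProperty.comp_mem _ _ _ h7 (inferInstance : FormallyUnramified (U x).ι)
  · rw [eq_top_iff]
    rintro x -
    exact Opens.mem_iSup.2 ⟨x, hxV x⟩

end Groth.Agent.Helper5.DenseOI
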