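import Mathlib
import Groth.Agent.Helper5.DenseOI3
import Groth.Prelude

set_option autoImplicit false
set_option linter.unusedSectionVars false
set_option linter.style.haveILetI false
universe u

open AlgebraicGeometry CategoryTheory Limits TensorProduct TopologicalSpace

namespace Groth.Agent.Helper5.DenseOI

/-- if the base change of `φ` over the open `S₀` is a monomorphism then the diagonal of `φ` is
surjective over `S₀` -/
theorem mem_range_diagonal_of_mono_restrict {S : Scheme.{u}} (S₀ : S.Opens) {M N : Over S}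
    (φ : M ⟶ N) [Mono ((Over.pullback S₀.ι).map φ).left]
    (p : ↥(pullback φ.left φ.left))
    (hp : (pullback.fst φ.left φ.left ≫ φ.left ≫ N.hom) p ∈ S₀) :
    p ∈ Set.range (pullback.diagonal φ.left) := by
  let P := pullback φ.left φ.left
  let z : Spec (P.residueField p) ⟶ P := P.fromSpecResidueField p
  let a₁ := z ≫ pullback.fst φ.left φ.left
  let a₂ := z ≫ pullback.snd φ.left φ.left
  have ha : a₁ ≫ φ.left = a₂ ≫ φ.left := by
    simp only [a₁, a₂, Category.assoc, pullback.condition]
  let c : Spec (P.residueField p) ⟶ S := a₁ ≫ φ.left ≫ N.hom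
  have hc : Set.range c ⊆ Set.range S₀.ι := by
    rintro _ ⟨t, rfl⟩
    rw [Scheme.Opens.range_ι]
    have h1 : c t = (pullback.fst φ.left φ.left ≫ φ.left ≫ N.hom) (z t) := by
      simp only [c, a₁, Category.assoc, Scheme.Hom.comp_apply]
    rw [h1, Scheme.fromSpecResidueField_apply]
    exact hp
  let c₀ : Spec (P.residueField p) ⟶ (S₀ : Scheme.{u}) := IsOpenImmersion.lift S₀.ι c hc
  have hc₀ : c₀ ≫ S₀.ι = c := IsOpenImmersion.lift_fac _ _ _
  have hM₁ : a₁ ≫ M.hom = c₀ ≫ S₀.ι := by
    rw [hc₀, ← Over.w φ]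
  have hM₂ : a₂ ≫ M.hom = c₀ ≫ S₀.ι := by
    rw [hc₀, ← Over.w φ, ← Category.assoc, ← ha, Category.assoc]
  let a₁' : Spec (P.residueField p) ⟶ pullback M.hom S₀.ι := pullback.lift a₁ c₀ hM₁
  let a₂' : Spec (P.residueField p) ⟶ pullback M.hom S₀.ι := pullback.lift a₂ c₀ hM₂
  have hφ₀fst : ((Over.pullback S₀.ι).map φ).left ≫ pullback.fst N.hom S₀.ι =
      pullback.fst M.hom S₀.ι ≫ φ.left := by
    simp only [Over.pullback_map_left]
    exact pullback.lift_fst _ _ _
  have hφ₀snd : ((Over.pullback S₀.ι).map φ).left ≫ pullback.snd N.hom S₀.ι =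
      pullback.snd M.hom S₀.ι := by
    simp only [Over.pullback_map_left]
    exact pullback.lift_snd _ _ _
  have heq : a₁' ≫ ((Over.pullback S₀.ι).map φ).left = a₂' ≫ ((Over.pullback S₀.ι).map φ).left := by
    apply pullback.hom_ext
    · rw [Category.assoc, Category.assoc, hφ₀fst, ← Category.assoc, ← Category.assoc,
        pullback.lift_fst, pullback.lift_fst]
      exact ha
    · rw [Category.assoc, Category.assoc, hφ₀snd, pullback.lift_snd, pullback.lift_snd]
  have h12' : a₁' = a₂' := (cancel_mono _).1 heq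
  have h12 : a₁ = a₂ := by
    have h := congrArg (· ≫ pullback.fst M.hom S₀.ι) h12'
    simp only [a₁', a₂'] at h
    rwa [pullback.lift_fst, pullback.lift_fst] at h
  have hz : z = a₁ ≫ pullback.diagonal φ.left := by
    apply pullback.hom_ext
    · simp [a₁]
    · rw [Category.assoc, pullback.diagonal_snd, Category.comp_id, h12]
  refine ⟨a₁ (IsLocalRing.closedPoint _), ?_⟩
  rw [← Scheme.Hom.comp_apply, ← hz, Scheme.fromSpecResidueField_apply]

theorem s13428 {S : Scheme.{u}} [IsLocallyNoetherian S] (S₀ : S.Opens)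
    (hS₀ : CInt.IsSchematicallyDense S₀)
    (N : Over S) [Smooth N.hom]
    [Etale ((Over.pullback S₀.ι).obj N).hom]
    (M : Over S) [Etale M.hom] [IsSeparated M.hom]
    (φ : M ⟶ N) [IsIso ((Over.pullback S₀.ι).map φ)] :
    IsOpenImmersion φ.left := by
  have hd0 : Dense (S₀ : Set S) := Groth.Agent.Helper5.SchD.dense_of_isSchematicallyDense S₀ hS₀
  let N₀ : N.left.Opens := N.hom ⁻¹ᵁ S₀
  have hdN : Dense (N₀ : Set N.left) := hd0.preimage N.hom.isOpenMap
  have h0 : Etale (N₀.ι ≫ N.hom) := by
    have h1 : N₀.ι ≫ N.hom = (pullbackRestrictIsoRestrict N.hom S₀).inv ≫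
        pullback.snd N.hom S₀.ι ≫ S₀.ι := by
      rw [← pullback.condition, ← Category.assoc, pullbackRestrictIsoRestrict_inv_fst]
    rw [h1]
    haveI : Etale (pullback.snd N.hom S₀.ι) :=
      (inferInstance : Etale ((Over.pullback S₀.ι).obj N).hom)
    infer_instance
  haveI : FormallyUnramified N.hom :=
    formallyUnramified_of_smooth_of_dense N.hom N₀ hdN inferInstance
  haveI : Etale N.hom := Etale.of_formallyUnramified_of_flat N.hom
  haveI : Etale (φ.left ≫ N.hom) := by rw [Over.w φ]; infer_instance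
  haveI : Etale φ.left := Etale.of_comp φ.left N.hom
  haveI : IsSeparated (φ.left ≫ N.hom) := by rw [Over.w φ]; infer_instance
  haveI : IsSeparated φ.left := IsSeparated.of_comp φ.left N.hom
  haveI : IsLocallyNoetherian N.left := LocallyOfFiniteType.isLocallyNoetherian N.hom
  haveI : IsIso ((Over.pullback S₀.ι).map φ).left :=
    (Over.forget _).map_isIso ((Over.pullback S₀.ι).map φ)
  refine isOpenImmersion_of_etale_separated_of_dense φ.left N₀
    (exists_specializes_mem_of_dense N.left N₀ hdN) ?_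
  intro p hp
  exact mem_range_diagonal_of_mono_restrict S₀ φ p hp

end Groth.Agent.Helper5.DenseOI
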