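import Mathlib
import Groth.Agent.Helper5.LciS7
import Groth.Agent.Helper3.KosBridgeD

set_option autoImplicit false
set_option linter.style.haveILetI false
universe u
open CategoryTheory CategoryTheory.Limits AlgebraicGeometry MorphismProperty

namespace Groth.Agent.Helper5.Desc

lemma flat_codescendsAlong_faithfullyFlat :
    RingHom.CodescendsAlong RingHom.Flat RingHom.FaithfullyFlat := by
  refine .mk _ RingHom.Flat.respectsIso fun R S T _ _ _ _ _ h h' ↦ ?_
  rw [RingHom.flat_algebraMap_iff] at h' ⊢
  rw [RingHom.faithfullyFlat_algebraMap_iff] at h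
  exact Module.Flat.of_flat_tensorProduct R T S

instance flat_descendsAlong :
    DescendsAlong @Flat (@Surjective ⊓ @Flat ⊓ @QuasiCompact) :=
  HasRingHomProperty.descendsAlong_flat flat_codescendsAlong_faithfullyFlat

theorem s9848 {X Y Y' : Scheme.{u}} (f : X ⟶ Y) (g : Y' ⟶ Y)
    [Flat g] [Surjective g] [QuasiCompact g] (h : Synt.IsSyntomicMor (pullback.snd f g)) :
    Synt.IsSyntomicMor f := by
  have h' := (Groth.Agent.Helper5.LciS.s9758 (pullback.snd f g)).mpr h
  rw [← Groth.Agent.Helper5.LciS.s9758]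
  refine ⟨?_, ?_⟩
  · exact MorphismProperty.of_pullback_snd_of_descendsAlong
      (P := @Flat) (Q := @Surjective ⊓ @Flat ⊓ @QuasiCompact) (f := f) (g := g)
      ⟨⟨inferInstance, inferInstance⟩, inferInstance⟩ h'.1
  · exact Groth.Agent.Helper3.KosBridgeD.s8662 f g (pullback.snd f g) (pullback.fst f g)
      (IsPullback.of_hasPullback f g) h'.2

end Groth.Agent.Helper5.Desc
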