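import Groth.Agent.Helper5.DiagBC2
import Groth.Agent.Helper4.AlgSpDiag
import Mathlib

set_option autoImplicit false
universe u
open CategoryTheory CategoryTheory.Limits AlgebraicGeometry Opposite

namespace Groth.Agent.Helper5.DiagBC

open AlgSp Groth.Agent.Helper4 Groth.Agent.Helper4.AlgSpQS

variable {S : Scheme.{u}}

theorem mono_toProd {X : Sp S} (hX : Representable (Limits.diag X)) {U V P : Over S}
    (a : (yon S).obj U ⟶ X) (b : (yon S).obj V ⟶ X) (fst : P ⟶ U) (snd : P ⟶ V)
    (h : IsPullback ((yon S).map fst) ((yon S).map snd) a b) : Mono (toProd fst snd).left :=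
  prop_toProd (MorphismProperty.monomorphisms Scheme.{u})
    (AlgSpDiag.repWith_mono_of_mono (Limits.diag X) hX) a b fst snd h

theorem isSeparated_snd_of_separated {X : Sp S} (hX : Representable (Limits.diag X)) {U V P : Over S}
    [U.left.IsSeparated]
    (a : (yon S).obj U ⟶ X) (b : (yon S).obj V ⟶ X) (fst : P ⟶ U) (snd : P ⟶ V)
    (h : IsPullback ((yon S).map fst) ((yon S).map snd) a b) : IsSeparated snd.left := by
  have hm := mono_toProd hX a b fst snd h
  have h1 : snd.left = (toProd fst snd).left ≫ pullback.snd U.hom V.hom :=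
    (congrArg (fun k => k.left) (toProd_snd fst snd)).symm
  rw [h1]
  infer_instance

theorem isSeparated_fst_of_separated {X : Sp S} (hX : Representable (Limits.diag X)) {U V P : Over S}
    [V.left.IsSeparated]
    (a : (yon S).obj U ⟶ X) (b : (yon S).obj V ⟶ X) (fst : P ⟶ U) (snd : P ⟶ V)
    (h : IsPullback ((yon S).map fst) ((yon S).map snd) a b) : IsSeparated fst.left := by
  have hm := mono_toProd hX a b fst snd h
  have h1 : fst.left = (toProd fst snd).left ≫ pullback.fst U.hom V.hom :=
    (congrArg (fun k => k.left) (toProd_fst fst snd)).symm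
  rw [h1]
  infer_instance

theorem s10181 (X : Space S) {U : Over S}
    (a : (yon S).obj U ⟶ X.obj) (ha : RepWith @Etale a) [U.left.IsSeparated] :
    RepWith @IsSeparated a ∧
      ∀ (R : Over S) (s t : R ⟶ U), IsPullback ((yon S).map t) ((yon S).map s) a a →
        R.left.IsSeparated := by
  constructor
  · refine ⟨ha.rep, ?_⟩
    intro T E ξ c e sq
    obtain ⟨c₀, hc₀⟩ := (yon S).map_surjective c
    rw [← hc₀] at sq
    exact isSeparated_snd_of_separated X.property.diag a ξ c₀ e sq
  · intro R s t sq
    have h1 : IsSeparated t.left := isSeparated_fst_of_separated X.property.diag a a t s sq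
    constructor
    rw [← terminal.comp_from t.left]
    infer_instance

end Groth.Agent.Helper5.DiagBC
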