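import Groth.Agent.Helper5.UnrLoc3
import Groth.Agent.Helper5.UnivInj1
import Mathlib

set_option autoImplicit false
set_option linter.style.haveILetI false
set_option linter.unusedSectionVars false
set_option linter.unusedVariables false
universe u
open CategoryTheory CategoryTheory.Limits AlgebraicGeometry Opposite

namespace Groth.Agent.Helper5.DiagOpen

open AlgSp Groth.Agent.Helper4 Groth.Agent.Helper5.UnrLoc Groth.Agent.Helper5.GorSp

set_option backward.isDefEq.respectTransparency.types false in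
/-- scheme level: the diagonal maps an open subset of the unramified locus onto an open subset -/
theorem isOpen_image_diag {A B P : Scheme.{u}} (s : A ⟶ B) [LocallyOfFiniteType s]
    (p₁ p₂ : P ⟶ A) (sq : IsPullback p₁ p₂ s s) (δ : A ⟶ P) (h1 : δ ≫ p₁ = 𝟙 A)
    (h2 : δ ≫ p₂ = 𝟙 A) (U₁ : A.Opens) (hU₁ : ∀ u ∈ U₁, UnramAt s u) :
    IsOpen (δ '' (U₁ : Set A)) := by
  haveI : FormallyUnramified (U₁.ι ≫ s) := formallyUnramified_ι_comp s U₁ hU₁
  obtain ⟨m, hm⟩ : ∃ m : pullback (U₁.ι ≫ s) (U₁.ι ≫ s) ⟶ pullback s s,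
    m = pullback.map (U₁.ι ≫ s) (U₁.ι ≫ s) s s U₁.ι U₁.ι (𝟙 B) (by simp) (by simp) := ⟨_, rfl⟩
  haveI : IsOpenImmersion m := by rw [hm]; infer_instance
  have hm1 : m ≫ pullback.fst s s = pullback.fst _ _ ≫ U₁.ι := by
    rw [hm]; exact pullback.lift_fst _ _ _
  have hm2 : m ≫ pullback.snd s s = pullback.snd _ _ ≫ U₁.ι := by
    rw [hm]; exact pullback.lift_snd _ _ _
  have key : U₁.ι ≫ δ = pullback.diagonal (U₁.ι ≫ s) ≫ m ≫ sq.isoPullback.inv := by
    apply sq.hom_ext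
    · rw [Category.assoc, h1, Category.comp_id, Category.assoc, Category.assoc,
        sq.isoPullback_inv_fst, hm1, ← Category.assoc, pullback.diagonal_fst, Category.id_comp]
    · rw [Category.assoc, h2, Category.comp_id, Category.assoc, Category.assoc,
        sq.isoPullback_inv_snd, hm2, ← Category.assoc, pullback.diagonal_snd, Category.id_comp]
  haveI : IsOpenImmersion (U₁.ι ≫ δ) := by rw [key]; infer_instance
  have e : δ '' (U₁ : Set A) = Set.range (U₁.ι ≫ δ) := by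
    ext y
    constructor
    · rintro ⟨x, hx, rfl⟩
      exact ⟨⟨x, hx⟩, by simp⟩
    · rintro ⟨x, rfl⟩
      exact ⟨U₁.ι x, by simp, by simp⟩
  rw [e]
  exact (U₁.ι ≫ δ).isOpenEmbedding.isOpen_range

variable {S : Scheme.{u}}

set_option backward.isDefEq.respectTransparency.types false in
/-- the diagonal of a morphism of algebraic spaces maps an open subset of the unramified locus onto
an open subset -/
theorem isOpen_image_diag_sp {X Y XX : AlgSp.Space S} (f : X ⟶ Y)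
    (hf : LocP @LocallyOfFiniteType f.hom)
    (pr0 pr1 : XX ⟶ X) (hXX : IsPullback pr0.hom pr1.hom f.hom f.hom) (Δ : X ⟶ XX)
    (hΔ0 : Δ ≫ pr0 = 𝟙 X) (hΔ1 : Δ ≫ pr1 = 𝟙 X)
    (O : Set (Points X.obj)) (hO : IsOpen O) (hOu : ∀ x ∈ O, HasAtMor QU f.hom x) :
    IsOpen (Points.map Δ.hom '' O) := by
  obtain ⟨V, b, hbe, hbs⟩ := Y.property.atlas
  obtain ⟨U, a, s, c1, hae, hne, hns, has⟩ := exists_chart_over X.property f.hom b hbe
  have sq : IsPullback (pullback.fst s s) (pullback.snd s s) s s := IsPullback.of_hasPullback _ _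
  generalize pullback.fst s s = p₁ at sq
  generalize pullback.snd s s = p₂ at sq
  generalize pullback s s = UU at p₁ p₂ sq
  obtain ⟨δ, hδ⟩ : ∃ δ : U ⟶ UU, δ = sq.lift (𝟙 U) (𝟙 U) rfl := ⟨_, rfl⟩
  have hδ1 : δ ≫ p₁ = 𝟙 U := by rw [hδ]; exact sq.lift_fst _ _ _
  have hδ2 : δ ≫ p₂ = 𝟙 U := by rw [hδ]; exact sq.lift_snd _ _ _
  have hw : ((yon S).map p₁ ≫ a) ≫ f.hom = ((yon S).map p₂ ≫ a) ≫ f.hom := by
    rw [Category.assoc, Category.assoc, c1, ← Category.assoc, ← Category.assoc,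
      ← Functor.map_comp, ← Functor.map_comp, sq.w]
  obtain ⟨a', ha'⟩ : ∃ a' : (yon S).obj UU ⟶ XX.obj, a' = hXX.lift _ _ hw := ⟨_, rfl⟩
  have ha'1 : a' ≫ pr0.hom = (yon S).map p₁ ≫ a := by rw [ha']; exact hXX.lift_fst _ _ hw
  have ha'2 : a' ≫ pr1.hom = (yon S).map p₂ ≫ a := by rw [ha']; exact hXX.lift_snd _ _ hw
  have ha'e : RepWith @Etale a' :=
    repWith_cube @Etale hXX a b a s s c1 c1 p₁ p₂ sq a' ha'1 ha'2 hne hae
  have hΔ0' : Δ.hom ≫ pr0.hom = 𝟙 X.obj := congrArg (fun φ => φ.hom) hΔ0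
  have hΔ1' : Δ.hom ≫ pr1.hom = 𝟙 X.obj := congrArg (fun φ => φ.hom) hΔ1
  have hcomp : (yon S).map δ ≫ a' = a ≫ Δ.hom := by
    apply hXX.hom_ext
    · rw [Category.assoc, ha'1, ← Category.assoc, ← Functor.map_comp, hδ1,
        CategoryTheory.Functor.map_id, Category.id_comp, Category.assoc, hΔ0', Category.comp_id]
    · rw [Category.assoc, ha'2, ← Category.assoc, ← Functor.map_comp, hδ2,
        CategoryTheory.Functor.map_id, Category.id_comp, Category.assoc, hΔ1', Category.comp_id]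
  haveI : LocallyOfFiniteType s.left := hf a b s hae hbe c1
  have hU₁ : IsOpen (Points.ofPt a ⁻¹' O) := hO.preimage (Points.continuous_ofPt a)
  have h1 : IsOpen (δ.left '' (Points.ofPt a ⁻¹' O)) := by
    refine isOpen_image_diag s.left p₁.left p₂.left (sq.map (Over.forget S)) δ.left ?_ ?_
      ⟨_, hU₁⟩ ?_
    · rw [← Over.comp_left, hδ1]; rfl
    · rw [← Over.comp_left, hδ2]; rfl
    · intro u hu
      exact (Groth.Agent.Helper5.PtLoc.hasAtMor_iff_chart etLocal_QU f.hom a b s hae hbe c1 u).1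
        (hOu _ hu)
  have h2 := Groth.Agent.Helper5.AlgSpNoeth.isOpenMap_ofPt XX.property a' ha'e _ h1
  have key : ∀ u : U.left, Points.ofPt a' (δ.left u) = Points.map Δ.hom (Points.ofPt a u) := by
    intro u
    rw [Points.map_ofPt, ← hcomp, Groth.Agent.Helper4.AlgSpPtsDesc.ofPt_yon_map_comp]
  have e : Points.ofPt a' '' (δ.left '' (Points.ofPt a ⁻¹' O)) = Points.map Δ.hom '' O := by
    ext y
    constructor
    · rintro ⟨_, ⟨u, hu, rfl⟩, rfl⟩
      exact ⟨_, hu, (key u).symm⟩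
    · rintro ⟨x, hx, rfl⟩
      obtain ⟨u, rfl⟩ := Groth.Agent.Helper5.AlgSpOpen.ofPt_surjective_of_repWith a (has hbs) x
      exact ⟨_, ⟨u, hx, rfl⟩, key u⟩
  rw [← e]; exact h2

end Groth.Agent.Helper5.DiagOpen
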