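import Mathlib

universe v u
open CategoryTheory CategoryTheory.Limits

namespace Groth.Agent.Helper5.DiagSq

variable {C : Type u} [Category.{v} C] [HasPullbacks C]

/-- The diagonal of a base change is the base change of the diagonal. -/
theorem isPullback_diagonal {X Y X' Y' : C} {f : X ⟶ Y} {g : Y' ⟶ Y} {fst : X' ⟶ X}
    {f' : X' ⟶ Y'} (sq : IsPullback fst f' f g) :
    IsPullback fst (pullback.diagonal f') (pullback.diagonal f)
      (pullback.map f' f' f f fst fst g sq.w.symm sq.w.symm) := by
  have hw := sq.w
  refine ⟨⟨?_⟩, ⟨PullbackCone.IsLimit.mk _ (fun s => ?_) (fun s => ?_) (fun s => ?_)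
    (fun s m h1 h2 => ?_)⟩⟩
  · apply pullback.hom_ext
    · simp only [pullback.map, Category.assoc, pullback.diagonal_fst, Category.comp_id,
        pullback.lift_fst, pullback.diagonal_fst_assoc]
    · simp only [pullback.map, Category.assoc, pullback.diagonal_snd, Category.comp_id,
        pullback.lift_snd, pullback.diagonal_snd_assoc]
  · -- the lift
    refine sq.lift s.fst (s.snd ≫ pullback.fst f' f' ≫ f') ?_
    have h := s.condition
    have h1 := congrArg (fun t => t ≫ pullback.fst f f) h
    simp only [Category.assoc, pullback.diagonal_fst, Category.comp_id, pullback.lift_fst,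
      pullback.map] at h1
    simp only [h1, Category.assoc, hw]
  · simp
  · -- lift ≫ diagonal f' = s.snd
    have h := s.condition
    have h1 := congrArg (fun t => t ≫ pullback.fst f f) h
    have h2 := congrArg (fun t => t ≫ pullback.snd f f) h
    simp only [Category.assoc, pullback.diagonal_fst, pullback.diagonal_snd, Category.comp_id,
      pullback.lift_fst, pullback.lift_snd, pullback.map] at h1 h2
    apply pullback.hom_ext
    · simp only [Category.assoc, pullback.diagonal_fst, Category.comp_id]
      apply sq.hom_ext
      · rw [sq.lift_fst, h1, Category.assoc]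
      · rw [sq.lift_snd, Category.assoc]
    · simp only [Category.assoc, pullback.diagonal_snd, Category.comp_id]
      apply sq.hom_ext
      · rw [sq.lift_fst, h2, Category.assoc]
      · rw [sq.lift_snd, pullback.condition, Category.assoc]
  · apply sq.hom_ext
    · rw [sq.lift_fst]; exact h1
    · rw [sq.lift_snd, ← h2]; simp

end Groth.Agent.Helper5.DiagSq
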