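import Groth.Agent.Helper5.HasseIter

set_option autoImplicit false

namespace Groth.Agent.Helper5.Hs
open FunFld LocRes
open scoped IntermediateField

variable {k K : Type*} [Field k] [Field K] [Algebra k K]

/-- A `K`-linear relation among the Hasse rows can be differentiated. -/
theorem derived_relation (hK : IsFunctionField k K) {s : K} {H : K →ₐ[k] PowerSeries K}
    (hH : IsHasseFamily s H) {ι : Type*} (φ : ι → K) (S : Finset ι) (a : ι → K)
    (hrel : ∀ j, ∑ i ∈ S, a i * hasseD H j (φ i) = 0) :
    ∀ m j, ∑ i ∈ S, hasseD H m (a i) * hasseD H j (φ i) = 0 := by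
  intro m
  induction m using Nat.strong_induction_on with
  | _ m ih =>
    intro j
    have h1 : hasseD H m (∑ i ∈ S, a i * hasseD H j (φ i)) = 0 := by
      rw [hrel j]
      have := hasseD_algebraMap H m (0 : k)
      simpa using this
    rw [hasseD_sum] at h1
    have h2 : ∀ i ∈ S, hasseD H m (a i * hasseD H j (φ i)) =
        ∑ l ∈ Finset.range (m + 1), ((m - l + j).choose j : K) *
          (hasseD H l (a i) * hasseD H (m - l + j) (φ i)) := by
      intro i _
      rw [hasseD_mul, Finset.Nat.sum_antidiagonal_eq_sum_range_succ_mk]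
      apply Finset.sum_congr rfl
      intro l _
      simp only
      rw [hasseD_hasseD hK hH]
      ring
    rw [Finset.sum_congr rfl h2, Finset.sum_comm] at h1
    rw [Finset.sum_range_succ] at h1
    have h3 : ∀ l ∈ Finset.range m, ∑ i ∈ S, ((m - l + j).choose j : K) *
        (hasseD H l (a i) * hasseD H (m - l + j) (φ i)) = 0 := by
      intro l hl
      rw [← Finset.mul_sum, ih l (Finset.mem_range.mp hl) (m - l + j), mul_zero]
    rw [Finset.sum_eq_zero h3, zero_add] at h1
    simpa using h1

/-- The rows `(D^(j) φ_i)_j` of the Hasse matrix of a `k`-linearly independent tuple are linearly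
independent over `K`. -/
theorem hasse_rows_independent (hK : IsFunctionField k K) {s : K} {H : K →ₐ[k] PowerSeries K}
    (hH : IsHasseFamily s H) {ι : Type*} (φ : ι → K) (hφ : LinearIndependent k φ)
    (S : Finset ι) (g : ι → K) (hrel : ∀ j, ∑ i ∈ S, g i * hasseD H j (φ i) = 0) :
    ∀ i ∈ S, g i = 0 := by
  classical
  induction S using Finset.strongInduction generalizing g with
  | H S ih =>
    by_contra hne
    push Not at hne
    obtain ⟨i0, hi0, hg0⟩ := hne
    let a : ι → K := fun i => g i / g i0
    have hrel' : ∀ j, ∑ i ∈ S, a i * hasseD H j (φ i) = 0 := by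
      intro j
      have : ∑ i ∈ S, a i * hasseD H j (φ i) = (g i0)⁻¹ * ∑ i ∈ S, g i * hasseD H j (φ i) := by
        rw [Finset.mul_sum]
        apply Finset.sum_congr rfl
        intro i _
        simp only [a]
        ring
      rw [this, hrel j, mul_zero]
    have hder := derived_relation hK hH φ S a hrel'
    have ha0 : a i0 = 1 := div_self hg0
    have hconst : ∀ i ∈ S, ∀ m, 1 ≤ m → hasseD H m (a i) = 0 := by
      intro i hi m hm
      by_cases hii : i = i0
      · rw [hii, ha0, hasseD_one, if_neg (by omega)]
      · have hss : S.erase i0 ⊂ S := Finset.erase_ssubset hi0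
        refine ih (S.erase i0) hss (fun i => hasseD H m (a i)) ?_ i (Finset.mem_erase.mpr ⟨hii, hi⟩)
        intro j
        have := hder m j
        rw [← Finset.add_sum_erase S _ hi0, ha0, hasseD_one, if_neg (by omega), zero_mul,
          zero_add] at this
        exact this
    have hck : ∀ i ∈ S, ∃ c : k, algebraMap k K c = a i := fun i hi =>
      mem_range_of_hasseD_eq_zero hK hH (a i) (hconst i hi)
    let c : ι → k := fun i => if h : i ∈ S then (hck i h).choose else 0
    have hc : ∀ i ∈ S, algebraMap k K (c i) = a i := by
      intro i hi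
      simp only [c, dif_pos hi]
      exact (hck i hi).choose_spec
    have h0 := hrel' 0
    have h1 : ∑ i ∈ S, c i • φ i = 0 := by
      rw [← h0]
      apply Finset.sum_congr rfl
      intro i hi
      rw [hasseD_zero hH, Algebra.smul_def, hc i hi]
    have h2 := linearIndependent_iff'.mp hφ S c h1 i0 hi0
    have h3 := hc i0 hi0
    rw [h2, map_zero, ha0] at h3
    exact zero_ne_one h3

end Groth.Agent.Helper5.Hs
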