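import Groth.Agent.Helper5.WrRank
import Groth.Agent.Helper5.HasseRank

set_option autoImplicit false

namespace Groth.Agent.Helper5.Wr
open FunFld LocRes

variable {k K : Type*} [Field k] [Field K] [Algebra k K]

/-- The columns of Hasse derivatives of a linearly independent tuple span everything. -/
theorem span_hasse_cols_eq_top (hK : IsFunctionField k K) {s : K} {H : K →ₐ[k] PowerSeries K}
    (hH : IsHasseFamily s H) {n : ℕ} (φ : Fin (n + 1) → K) (hφ : LinearIndependent k φ) :
    Submodule.span K (Set.range fun j : ℕ => (fun i => hasseD H j (φ i) : Fin (n + 1) → K)) = ⊤ := by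
  by_contra hne
  have hlt : Submodule.span K (Set.range fun j : ℕ => (fun i => hasseD H j (φ i) : Fin (n + 1) → K)) < ⊤ :=
    lt_top_iff_ne_top.mpr hne
  obtain ⟨f, hf0, hf⟩ := Submodule.exists_le_ker_of_lt_top _ hlt
  apply hf0
  have hrel : ∀ j, ∑ i ∈ (Finset.univ : Finset (Fin (n + 1))),
      f (Pi.single i 1) * hasseD H j (φ i) = 0 := by
    intro j
    have h1 : (fun i => hasseD H j (φ i) : Fin (n + 1) → K) ∈ LinearMap.ker f :=
      hf (Submodule.subset_span ⟨j, rfl⟩)
    rw [LinearMap.mem_ker, LinearMap.pi_apply_eq_sum_univ] at h1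
    rw [← h1]
    apply Finset.sum_congr rfl
    intro i _
    rw [smul_eq_mul, mul_comm]
    congr 2
    funext j'
    simp [Pi.single_apply, eq_comm]
  have h2 := Hs.hasse_rows_independent hK hH φ hφ Finset.univ _ hrel
  apply LinearMap.ext
  intro v
  rw [LinearMap.pi_apply_eq_sum_univ, LinearMap.zero_apply]
  apply Finset.sum_eq_zero
  intro i _
  have h3 := h2 i (Finset.mem_univ _)
  have h4 : (fun j : Fin (n + 1) => if i = j then (1 : K) else 0) = Pi.single i 1 := by
    funext j'
    simp [Pi.single_apply, eq_comm]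
  rw [h4, h3, smul_zero]

theorem exists_isOrders_det_ne_zero (hK : IsFunctionField k K) {s : K} {H : K →ₐ[k] PowerSeries K}
    (hH : IsHasseFamily s H) {n : ℕ} (φ : Fin (n + 1) → K) (hφ : LinearIndependent k φ)
    (τ : K →ₐ[k] K) :
    ∃ J : Fin n → ℕ, IsOrders K (hcol τ H φ) J ∧ (wrMat τ H φ J).det ≠ 0 := by
  have hc0 : hcol τ H φ 0 ≠ 0 := by
    intro h
    have h1 := congrFun h 0
    simp only [hcol, Pi.zero_apply, map_eq_zero] at h1
    exact hφ.ne_zero 0 h1
  have htop : Submodule.span K (Set.range (hcol τ H φ)) = ⊤ := by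
    rw [eq_top_iff, ← span_hasse_cols_eq_top hK hH φ hφ]
    apply Submodule.span_mono
    rintro _ ⟨j, rfl⟩
    exact ⟨j + 1, rfl⟩
  have hdim : Module.finrank K (Fin (n + 1) → K) = n + 1 := by simp
  obtain ⟨J, hJ, hli⟩ := exists_orders (R := K) (hcol τ H φ) hc0 htop hdim
  exact ⟨J, hJ, det_ne_zero_of_linearIndependent_selCols τ H φ J hli⟩

end Groth.Agent.Helper5.Wr
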