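import Groth.Agent.Helper5.WrStrong
import Groth.Agent.Helper5.WrExist
import Groth.Agent.Helper5.FGMapDiv
import Groth.Agent.Helper5.FFDiv

set_option autoImplicit false

namespace Groth.Agent.Helper5.Wr
open FunFld LocRes

variable {k K : Type*} [Field k] [Field K] [Algebra k K]

theorem isOrders_unique {R M : Type*} [Semiring R] [AddCommMonoid M] [Module R M]
    (c : ℕ → M) {n : ℕ} (J J' : Fin n → ℕ) (hJ : IsOrders R c J) (hJ' : IsOrders R c J') :
    J = J' :=
  (hJ.1.range_inj hJ'.1).mp (Set.ext fun j => (hJ.2 j).trans (hJ'.2 j).symm)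

theorem det_wrMat_ne_zero_of_isOrders (hK : IsFunctionField k K) {s : K}
    {H : K →ₐ[k] PowerSeries K} (hH : IsHasseFamily s H) {n : ℕ} (φ : Fin (n + 1) → K)
    (hφ : LinearIndependent k φ) (τ : K →ₐ[k] K) (J : Fin n → ℕ)
    (hJ : IsOrders K (hcol τ H φ) J) : (wrMat τ H φ J).det ≠ 0 := by
  obtain ⟨J₀, hJ₀, hdet⟩ := exists_isOrders_det_ne_zero hK hH φ hφ τ
  rwa [isOrders_unique _ J J₀ hJ hJ₀]

theorem exists_val_eq_one_of_eff (P : Place k K) {ι : Type*} [Fintype ι] (φ : ι → K)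
    (heff : (1 : K) ∈ Submodule.span k (Set.range φ)) (hnorm : ∀ i, P.1 (φ i) ≤ 1) :
    ∃ i, P.1 (φ i) = 1 := by
  by_contra hcon
  push Not at hcon
  have hlt : ∀ i, P.1 (φ i) < 1 := fun i => lt_of_le_of_ne (hnorm i) (hcon i)
  obtain ⟨c, hc⟩ := (Submodule.mem_span_range_iff_exists_fun k).mp heff
  have : P.1 (∑ i, c i • φ i) < 1 := by
    apply Valuation.map_sum_lt _ one_ne_zero
    intro i _
    by_cases hci : c i = 0
    · rw [hci, zero_smul, map_zero]; exact zero_lt_one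
    · rw [FF.val_smul P hci]; exact hlt i
  rw [hc, map_one] at this
  exact lt_irrefl _ this

theorem mapDiv_apply_eq_zero (hK : IsFunctionField k K) (P : Place k K) {ι : Type*} [Fintype ι]
    [Nonempty ι] (φ : ι → K) (hnorm : ∀ i, P.1 (φ i) ≤ 1) (hunit : ∃ i, P.1 (φ i) = 1) :
    mapDiv k φ P = 0 := by
  rw [FG.mapDiv_apply hK.1, neg_eq_zero]
  apply le_antisymm
  · obtain ⟨i, hi⟩ := hunit
    refine (Finset.inf'_le _ (Finset.mem_univ i)).trans_eq ?_
    have := FF.ord_eq_of_val_eq P (n := 0) (by simpa using hi)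
    simpa using this
  · rw [Finset.le_inf'_iff]; intro i _
    by_cases h0 : φ i = 0
    · rw [h0, FF.ord_zero]
    · exact (FF.ord_nonneg_iff P h0).mpr (hnorm i)

theorem val_D_of_val_eq (F : Type*) [Field F] (f : LaurentSeries F)
    (hf : Valued.v f = WithZero.exp (-1 : ℤ)) : Valued.v (D F f) = 1 := by
  have h1 : ∀ n : ℤ, n < 1 → f.coeff n = 0 :=
    (LaurentSeries.valuation_le_iff_coeff_lt_eq_zero F (D := 1)).mp hf.le
  have h2 : f.coeff 1 ≠ 0 := by
    intro h
    have : Valued.v f ≤ WithZero.exp (-(2 : ℤ)) := by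
      apply (LaurentSeries.valuation_le_iff_coeff_lt_eq_zero F (D := 2)).mpr
      intro n hn
      rcases lt_or_eq_of_le (show n ≤ 1 by omega) with h' | h'
      · exact h1 n h'
      · rw [h']; exact h
    rw [hf, WithZero.exp_le_exp] at this
    omega
  apply le_antisymm
  · have : Valued.v (D F f) ≤ WithZero.exp (-(0 : ℤ)) := by
      apply (LaurentSeries.valuation_le_iff_coeff_lt_eq_zero F (D := 0)).mpr
      intro n hn
      rw [D_coeff, h1 (n + 1) (by omega), smul_zero]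
    simpa using this
  · by_contra hlt
    rw [not_le] at hlt
    have h3 : Valued.v (D F f) ≤ WithZero.exp (-(1 : ℤ)) := FF.le_exp_neg_one_of_lt_one hlt
    have := (LaurentSeries.valuation_le_iff_coeff_lt_eq_zero F (D := 1)).mp h3 0 (by norm_num)
    rw [D_coeff] at this
    simp at this
    exact h2 this

theorem divDiff_one_apply_eq_zero (Φ : Place k K → (K →ₐ[k] LaurentSeries k)) (P : Place k K)
    (hΦ : IsExpansionAt P.1 (Φ P)) {t : K} (ht : P.1 t = WithZero.exp (-1 : ℤ)) :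
    divDiff Φ 1 t P = 0 := by
  classical
  unfold divDiff
  split_ifs with h
  · show ordDiff (Φ P) 1 t = 0
    unfold ordDiff vDiff
    rw [map_one, one_mul, val_D_of_val_eq _ _ (by rw [hΦ.1, ht]), WithZero.log_one, neg_zero]
  · rfl

theorem one_mem_span_comp (τ : K →ₐ[k] K) {ι : Type*} [Fintype ι] (φ : ι → K)
    (heff : (1 : K) ∈ Submodule.span k (Set.range φ)) :
    (1 : K) ∈ Submodule.span k (Set.range (τ ∘ φ)) := by
  obtain ⟨c, hc⟩ := (Submodule.mem_span_range_iff_exists_fun k).mp heff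
  apply (Submodule.mem_span_range_iff_exists_fun k).mpr
  refine ⟨c, ?_⟩
  have := congrArg τ hc
  rw [map_sum, map_one] at this
  rw [← this]
  refine Finset.sum_congr rfl fun i _ => ?_
  rw [Function.comp_apply, Algebra.smul_def, Algebra.smul_def, map_mul, AlgHom.commutes]

/-- The coefficient of the Weierstrass divisor at a fixed point: the order of the Wronskian. -/
theorem wDiv_apply (hK : IsFunctionField k K) (P : Place k K) (hP : P.deg = 1)
    (τ : K →ₐ[k] K) (hfix : IsFixedPt τ P) {n : ℕ}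
    (φ : Fin (n + 1) → K)
    (heff : (1 : K) ∈ Submodule.span k (Set.range φ)) (hnorm : ∀ i, P.1 (φ i) ≤ 1)
    {t : K} (ht : P.1 t = WithZero.exp (-1 : ℤ))
    (Ht : K →ₐ[k] PowerSeries K)
    (Φ : Place k K → (K →ₐ[k] LaurentSeries k)) (hΦ : IsExpansionAt P.1 (Φ P))
    (J : Fin n → ℕ) :
    wDiv τ Ht Φ t φ J P = P.ord (wrMat τ Ht φ J).det := by
  have hnorm' : ∀ i, P.1 ((τ ∘ φ) i) ≤ 1 := fun i => (val_tau_le_one P hP τ hfix (hnorm i)).1
  unfold wDiv
  rw [Finsupp.add_apply, Finsupp.add_apply, Finsupp.add_apply, Finsupp.smul_apply,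
    Finsupp.smul_apply, FF.div_apply hK,
    mapDiv_apply_eq_zero hK P φ hnorm (exists_val_eq_one_of_eff P φ heff hnorm),
    mapDiv_apply_eq_zero hK P (τ ∘ φ) hnorm'
      (exists_val_eq_one_of_eff P _ (one_mem_span_comp τ φ heff) hnorm'),
    divDiff_one_apply_eq_zero Φ P hΦ ht]
  simp

theorem isFixedPt_id (P : Place k K) : IsFixedPt (AlgHom.id k K) P := fun _ hz => hz

theorem det_binomMat_self {n : ℕ} (J : Fin n → ℕ) (hJ : StrictMono J) :
    (binomMat k J J).det = 1 := by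
  rw [Matrix.det_of_isLowerTriangular]
  · simp [binomMat]
  · intro i j hij
    have hij' : i < j := OrderDual.toDual_lt_toDual.mp hij
    simp only [binomMat, Matrix.of_apply]
    rw [Nat.choose_eq_zero_of_lt (hJ hij'), Nat.cast_zero]

end Groth.Agent.Helper5.Wr

namespace Groth.Agent.Helper5.Wr
open FunFld LocRes

variable {k K : Type*} [Field k] [Field K] [Algebra k K]

theorem evalP_ne_zero_iff (P : Place k K) {z : K} (hz : P.1 z ≤ 1) :
    evalP P z ≠ 0 ↔ P.1 z = 1 := by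
  constructor
  · intro h
    by_contra hne
    exact h (evalP_eq_zero_of_lt P (lt_of_le_of_ne hz hne))
  · exact evalP_ne_zero_of_val_eq_one P

theorem ord_eq_zero_iff (P : Place k K) {z : K} (hz : z ≠ 0) : P.ord z = 0 ↔ P.1 z = 1 := by
  constructor
  · intro h
    rw [FF.val_eq_exp_neg_ord P hz, h, neg_zero, WithZero.exp_zero]
  · intro h
    have := FF.ord_eq_of_val_eq P (n := 0) (by simpa using h)
    simpa using this

theorem one_le_ordersAt (hK : IsFunctionField k K) (P : Place k K) (hP : P.deg = 1) {n : ℕ}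
    (φ : Fin (n + 1) → K) (hnorm : ∀ i, P.1 (φ i) ≤ 1)
    {t : K} (ht : P.1 t = WithZero.exp (-1 : ℤ))
    {Ht : K →ₐ[k] PowerSeries K} (hHt : IsHasseFamily t Ht)
    (J' : Fin n → ℕ) (hJ' : IsOrders (IsLocalRing.ResidueField P.O) (hcolAt P Ht φ) J') :
    ∀ l, 0 < J' l := fun l =>
  ((isJump_hcolAt_iff hK P hP ht hHt φ hnorm (J' l)).mp ((hJ'.2 (J' l)).mp ⟨l, rfl⟩)).1

theorem orders_le_ordersAt (hK : IsFunctionField k K) (P : Place k K) (hP : P.deg = 1) {n : ℕ}
    (φ : Fin (n + 1) → K) (hφ : LinearIndependent k φ)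
    (heff : (1 : K) ∈ Submodule.span k (Set.range φ)) (hnorm : ∀ i, P.1 (φ i) ≤ 1)
    {t : K} (ht : P.1 t = WithZero.exp (-1 : ℤ))
    {Ht : K →ₐ[k] PowerSeries K} (hHt : IsHasseFamily t Ht)
    (J : Fin n → ℕ) (hJ : IsOrders K (hcol (AlgHom.id k K) Ht φ) J)
    (J' : Fin n → ℕ) (hJ' : IsOrders (IsLocalRing.ResidueField P.O) (hcolAt P Ht φ) J') :
    ∀ l, J l ≤ J' l := by
  have hpos := one_le_ordersAt hK P hP φ hnorm ht hHt J' hJ'
  obtain ⟨-, h2⟩ := val_det_wrMat hK P hP (AlgHom.id k K) (isFixedPt_id P) φ hφ heff hnorm ht hHt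
    J' hJ' J'
  have h3 := (h2 (Or.inl hpos)).mpr (by rw [det_binomMat_self J' hJ'.1]; exact one_ne_zero)
  have hdet : (wrMat (AlgHom.id k K) Ht φ J').det ≠ 0 := by
    intro h0
    rw [h0, map_zero] at h3
    exact WithZero.exp_ne_zero h3.symm
  exact orders_le (hcol (AlgHom.id k K) Ht φ) J J' hJ hJ'.1
    (linearIndependent_selCols_of_det_ne_zero _ Ht φ J' hdet)

theorem ordersAt_eq_iff (hK : IsFunctionField k K) (P : Place k K) (hP : P.deg = 1) {n : ℕ}
    (φ : Fin (n + 1) → K) (hφ : LinearIndependent k φ)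
    (heff : (1 : K) ∈ Submodule.span k (Set.range φ)) (hnorm : ∀ i, P.1 (φ i) ≤ 1)
    {t : K} (ht : P.1 t = WithZero.exp (-1 : ℤ))
    {Ht : K →ₐ[k] PowerSeries K} (hHt : IsHasseFamily t Ht)
    (J : Fin n → ℕ) (hJ : IsOrders K (hcol (AlgHom.id k K) Ht φ) J)
    (J' : Fin n → ℕ) (hJ' : IsOrders (IsLocalRing.ResidueField P.O) (hcolAt P Ht φ) J') :
    P.1 (wrMat (AlgHom.id k K) Ht φ J).det ≤ 1 ∧
    ((∀ l, J' l = J l) ↔ P.1 (wrMat (AlgHom.id k K) Ht φ J).det = 1) := by
  have hle := orders_le_ordersAt hK P hP φ hφ heff hnorm ht hHt J hJ J' hJ'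
  have hpos := one_le_ordersAt hK P hP φ hnorm ht hHt J' hJ'
  obtain ⟨h1, h2⟩ := val_det_wrMat hK P hP (AlgHom.id k K) (isFixedPt_id P) φ hφ heff hnorm ht hHt
    J' hJ' J
  have hnn : ∀ l ∈ Finset.univ, (0 : ℤ) ≤ (J' l : ℤ) - J l := fun l _ => by
    have := hle l; omega
  have hS0 : (∑ l, ((J' l : ℤ) - J l)) = 0 ↔ ∀ l, J' l = J l := by
    rw [Finset.sum_eq_zero_iff_of_nonneg hnn]
    constructor
    · intro h l; have := h l (Finset.mem_univ l); omega
    · intro h l _; rw [h l]; ring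
  have hSnn : (0 : ℤ) ≤ ∑ l, ((J' l : ℤ) - J l) := Finset.sum_nonneg hnn
  have hd1 : P.1 (wrMat (AlgHom.id k K) Ht φ J).det ≤ 1 := by
    refine h1.trans ?_
    rw [← WithZero.exp_zero, WithZero.exp_le_exp]
    omega
  refine ⟨hd1, ?_⟩
  constructor
  · intro h
    have hJJ : J' = J := funext h
    subst hJJ
    have h3 := (h2 (Or.inl hpos)).mpr (by rw [det_binomMat_self J' hJ'.1]; exact one_ne_zero)
    rw [h3]
    simp
  · intro h
    rw [h, ← WithZero.exp_zero, WithZero.exp_le_exp] at h1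
    exact hS0.mp (by omega)

end Groth.Agent.Helper5.Wr
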