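import Groth.Agent.Helper5.FFKaehler
import Groth.Agent.Helper5.WrWeier
import Groth.Prelude.Def_W4bk4goldsch23Ext

set_option autoImplicit false

namespace Groth.Agent.Helper5.DiffExp
open FunFld LocRes

universe u v w
variable {k : Type u} {K : Type v} [Field k] [Field K] [Algebra k K]
  {F : Type w} [Field F] [Algebra k F]

/-- chain rule through Kähler differentials -/
theorem D_exp_of_kaehler (Ψ : K →ₐ[k] LaurentSeries F) {x x' c : K}
    (h : KaehlerDifferential.D k K x' = c • KaehlerDifferential.D k K x) :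
    LocRes.D F (Ψ x') = Ψ c * LocRes.D F (Ψ x) := by
  let _i := Ψ.toRingHom.toAlgebra
  have _t : IsScalarTower k K (LaurentSeries F) := isScalarTower_exp Ψ
  have h1 := congrArg (dExp Ψ).liftKaehlerDifferential h
  rw [map_smul, Derivation.liftKaehlerDifferential_comp_D,
    Derivation.liftKaehlerDifferential_comp_D] at h1
  exact h1

theorem exists_smul_D (hK : IsFunctionField k K) (hg : IsGeometric k K) {x : K}
    (hx : KaehlerDifferential.D k K x ≠ 0) (x' : K) :
    ∃ c : K, KaehlerDifferential.D k K x' = c • KaehlerDifferential.D k K x := by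
  have hrank := FF.finrank_kaehler_eq_one hK hg
  rw [finrank_eq_one_iff_of_nonzero' _ hx] at hrank
  obtain ⟨c, hc⟩ := hrank (KaehlerDifferential.D k K x')
  exact ⟨c, hc.symm⟩

theorem D_ne_zero_of_vDiff_ne_zero (Ψ : K →ₐ[k] LaurentSeries F) {x : K}
    (hx : LocRes.vDiff Ψ 1 x ≠ 0) : KaehlerDifferential.D k K x ≠ 0 := by
  intro h0
  apply hx
  have h1 : KaehlerDifferential.D k K x = (0 : K) • KaehlerDifferential.D k K x := by
    rw [h0, smul_zero]
  have := D_exp_of_kaehler Ψ h1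
  unfold vDiff
  rw [this, map_zero, zero_mul, mul_zero, map_zero]

theorem vDiff_one_eq (Ψ : K →ₐ[k] LaurentSeries F) (x : K) :
    LocRes.vDiff Ψ 1 x = Valued.v (LocRes.D F (Ψ x)) := by
  unfold vDiff
  rw [map_one, one_mul]

end Groth.Agent.Helper5.DiffExp

namespace Groth.Agent.Helper5.DiffExp
open FunFld LocRes

universe u v w
variable {k : Type u} {K K' : Type v} [Field k] [Field K] [Algebra k K]
  [Field K'] [Algebra K K'] [Algebra k K'] [IsScalarTower k K K']
  {F F' : Type w} [Field F] [Algebra k F] [Field F'] [Algebra k F']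

theorem D_exp_of_kaehler_ext (ψ : K' →ₐ[k] LaurentSeries F') {x x' c : K}
    (h : KaehlerDifferential.D k K x' = c • KaehlerDifferential.D k K x) :
    LocRes.D F' (ψ (algebraMap K K' x')) =
      ψ (algebraMap K K' c) * LocRes.D F' (ψ (algebraMap K K' x)) :=
  D_exp_of_kaehler (ψ.comp (IsScalarTower.toAlgHom k K K')) h

theorem diffExp_eq_diffExp (hK : IsFunctionField k K) (hg : IsGeometric k K)
    (P : Place k K) (Q : Place k K') (e : ℕ) (he : IsOverWith Q P e)
    (φ : K →ₐ[k] LaurentSeries F) (hφ : IsExpansionAt P.1 φ)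
    (ψ : K' →ₐ[k] LaurentSeries F') (hψ : IsExpansionAt Q.1 ψ)
    (x : K) (hx : vDiff φ 1 x ≠ 0) (hx' : vDiff ψ 1 (algebraMap K K' x) ≠ 0)
    (x' : K) (hx2 : vDiff φ 1 x' ≠ 0) :
    diffExp φ ψ e x = diffExp φ ψ e x' := by
  have hδ := D_ne_zero_of_vDiff_ne_zero φ hx
  obtain ⟨c, hc⟩ := exists_smul_D hK hg hδ x'
  have h1 := D_exp_of_kaehler φ hc
  have h2 := D_exp_of_kaehler_ext ψ hc
  have hc0 : c ≠ 0 := by
    rintro rfl
    rw [vDiff_one_eq, h1, map_zero, zero_mul, map_zero] at hx2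
    exact hx2 rfl
  have hPc : P.1 c ≠ 0 := (P.1.ne_zero_iff).mpr hc0
  rw [vDiff_one_eq] at hx hx'
  unfold diffExp ordDiff
  rw [vDiff_one_eq, vDiff_one_eq, vDiff_one_eq, vDiff_one_eq, h1, h2, map_mul, map_mul, hφ.1, hψ.1,
    he c, WithZero.log_mul (pow_ne_zero _ hPc) hx', WithZero.log_mul hPc hx, WithZero.log_pow]
  simp only [nsmul_eq_mul]
  ring

end Groth.Agent.Helper5.DiffExp
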