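import Groth.Agent.Helper5.DiffExp

set_option autoImplicit false

namespace Groth.Agent.Helper5.DiffExp
open FunFld LocRes

universe u v w
variable {k : Type u} {K K' : Type v} [Field k] [Field K] [Algebra k K]
  [Field K'] [Algebra K K'] [Algebra k K'] [IsScalarTower k K K']
  {F F' : Type w} [Field F] [Algebra k F] [Field F'] [Algebra k F']

omit [Algebra k K] [IsScalarTower k K K'] in
theorem natCast_eq_zero_iff (ψ : K' →ₐ[k] LaurentSeries F') (e : ℕ) :
    ringChar K ∣ e ↔ ((e : ℕ) : F') = 0 := by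
  rw [← ringChar.spec K e]
  let ι : K →+* LaurentSeries F' := (ψ : K' →+* LaurentSeries F').comp (algebraMap K K')
  have h1 : ι (e : K) = HahnSeries.C ((e : ℕ) : F') := by
    rw [map_natCast, map_natCast]
  constructor
  · intro h
    rw [h, map_zero] at h1
    exact HahnSeries.C_injective (by rw [← h1, map_zero])
  · intro h
    rw [h, map_zero] at h1
    exact (map_eq_zero ι).mp h1

theorem diffExp_tame_wild (hK : IsFunctionField k K) (hg : IsGeometric k K)
    (P : Place k K) (Q : Place k K') (e : ℕ) (he : IsOverWith Q P e)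
    (φ : K →ₐ[k] LaurentSeries F) (hφ : IsExpansionAt P.1 φ)
    (ψ : K' →ₐ[k] LaurentSeries F') (hψ : IsExpansionAt Q.1 ψ)
    (x : K) (hx : vDiff φ 1 x ≠ 0) (hx' : vDiff ψ 1 (algebraMap K K' x) ≠ 0) :
    (¬ (ringChar K ∣ e) → diffExp φ ψ e x = (e : ℤ) - 1) ∧
    (ringChar K ∣ e → (e : ℤ) ≤ diffExp φ ψ e x) := by
  obtain ⟨t, ht⟩ := hφ.2.2
  have hDt : Valued.v (LocRes.D F (φ t)) = 1 := Wr.val_D_of_val_eq F (φ t) (by rw [hφ.1, ht])
  have hxt : vDiff φ 1 t ≠ 0 := by rw [vDiff_one_eq, hDt]; exact one_ne_zero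
  rw [diffExp_eq_diffExp hK hg P Q e he φ hφ ψ hψ x hx hx' t hxt]
  set g : LaurentSeries F' := ψ (algebraMap K K' t) with hg'
  have hvg : Valued.v g = WithZero.exp (-(e : ℤ)) := by
    rw [hg', hψ.1, he t, ht, ← WithZero.exp_nsmul]
    simp
  -- `D g ≠ 0`
  have hδt := D_ne_zero_of_vDiff_ne_zero φ hxt
  obtain ⟨c', hc'⟩ := exists_smul_D hK hg hδt x
  have hDg : LocRes.D F' g ≠ 0 := by
    intro h0
    apply hx'
    rw [vDiff_one_eq, D_exp_of_kaehler_ext ψ hc', h0, mul_zero, map_zero]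
  have hvDg : Valued.v (LocRes.D F' g) ≠ 0 := (Valuation.ne_zero_iff _).mpr hDg
  have hg1 : ∀ n : ℤ, n < e → g.coeff n = 0 :=
    (LaurentSeries.valuation_le_iff_coeff_lt_eq_zero F' (D := (e : ℤ))).mp hvg.le
  have hg2 : g.coeff e ≠ 0 := by
    intro h
    have : Valued.v g ≤ WithZero.exp (-((e : ℤ) + 1)) := by
      apply (LaurentSeries.valuation_le_iff_coeff_lt_eq_zero F' (D := (e : ℤ) + 1)).mpr
      intro n hn
      rcases lt_or_eq_of_le (show n ≤ e by omega) with h' | h'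
      · exact hg1 n h'
      · rw [h']; exact h
    rw [hvg, WithZero.exp_le_exp] at this
    omega
  have hle : Valued.v (LocRes.D F' g) ≤ WithZero.exp (-((e : ℤ) - 1)) := by
    apply (LaurentSeries.valuation_le_iff_coeff_lt_eq_zero F' (D := (e : ℤ) - 1)).mpr
    intro n hn
    rw [D_coeff, hg1 (n + 1) (by omega), smul_zero]
  have hcoef : (LocRes.D F' g).coeff ((e : ℤ) - 1) = ((e : ℕ) : F') * g.coeff e := by
    rw [D_coeff, sub_add_cancel, zsmul_eq_mul]
    simp
  have hdiff : diffExp φ ψ e t = -WithZero.log (Valued.v (LocRes.D F' g)) := by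
    unfold diffExp ordDiff
    rw [vDiff_one_eq, vDiff_one_eq, hDt, WithZero.log_one, neg_zero, mul_zero, sub_zero]
  rw [hdiff]
  obtain ⟨m, hm⟩ : ∃ m : ℤ, Valued.v (LocRes.D F' g) = WithZero.exp m :=
    ⟨_, (WithZero.exp_log hvDg).symm⟩
  rw [hm, WithZero.log_exp]
  rw [hm, WithZero.exp_le_exp] at hle
  constructor
  · intro hchar
    have hne : ((e : ℕ) : F') ≠ 0 := fun h => hchar ((natCast_eq_zero_iff ψ e).mpr h)
    have hnot : ¬ Valued.v (LocRes.D F' g) ≤ WithZero.exp (-(e : ℤ)) := by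
      intro h
      have := (LaurentSeries.valuation_le_iff_coeff_lt_eq_zero F' (D := (e : ℤ))).mp h
        ((e : ℤ) - 1) (by omega)
      rw [hcoef] at this
      exact (mul_ne_zero hne hg2) this
    rw [hm, WithZero.exp_le_exp] at hnot
    omega
  · intro hchar
    have h0 : ((e : ℕ) : F') = 0 := (natCast_eq_zero_iff ψ e).mp hchar
    have h : Valued.v (LocRes.D F' g) ≤ WithZero.exp (-(e : ℤ)) := by
      apply (LaurentSeries.valuation_le_iff_coeff_lt_eq_zero F' (D := (e : ℤ))).mpr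
      intro n hn
      rcases lt_or_eq_of_le (show n ≤ (e : ℤ) - 1 by omega) with h' | h'
      · rw [D_coeff, hg1 (n + 1) (by omega), smul_zero]
      · rw [h', hcoef, h0, zero_mul]
    rw [hm, WithZero.exp_le_exp] at h
    omega

end Groth.Agent.Helper5.DiffExp
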