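import Mathlib
import Groth.Agent.Helper5.FGConst2
set_option autoImplicit false
set_option linter.style.haveILetI false
open FunFld Polynomial
open scoped IntermediateField

namespace Groth.Agent.Helper5.FG

section
variable {k K : Type*} [Field k] [Field K] [Algebra k K]

theorem coe_aeval_O (Q : Place k K) (a : Q.O) (p : k[X]) :
    ((aeval a p : Q.O) : K) = aeval (a : K) p :=
  (Polynomial.aeval_algHom_apply (valO Q) a p).symm

theorem val_aeval_sub_le (Q : Place k K) (p : k[X]) {a b : K} (ha : Q.1 a ≤ 1) (hb : Q.1 b ≤ 1) :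
    Q.1 (aeval b p - aeval a p) ≤ Q.1 (b - a) := by
  obtain ⟨q, hq⟩ := Polynomial.sub_dvd_eval_sub (⟨b, hb⟩ : Q.O) ⟨a, ha⟩ (p.map (algebraMap k Q.O))
  have h1 : aeval b p - aeval a p = (b - a) * (q : K) := by
    have := congrArg (fun z : Q.O => (z : K)) hq
    simp only [Polynomial.eval_map_algebraMap] at this
    rw [← coe_aeval_O Q ⟨b, hb⟩ p, ← coe_aeval_O Q ⟨a, ha⟩ p]
    exact this
  rw [h1, map_mul]
  calc Q.1 (b - a) * Q.1 (q : K) ≤ Q.1 (b - a) * 1 := by gcongr; exact q.2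
    _ = Q.1 (b - a) := mul_one _

theorem exists_taylor (Q : Place k K) (p : k[X]) {a b : K} (ha : Q.1 a ≤ 1) (hb : Q.1 b ≤ 1) :
    ∃ c : K, Q.1 c ≤ 1 ∧
      aeval b p = aeval a p + aeval a (derivative p) * (b - a) + c * (b - a) ^ 2 := by
  obtain ⟨c, hc⟩ := Polynomial.binomExpansion (p.map (algebraMap k Q.O)) (⟨a, ha⟩ : Q.O)
    ((⟨b, hb⟩ : Q.O) - ⟨a, ha⟩)
  refine ⟨(c : K), c.2, ?_⟩
  have := congrArg (fun z : Q.O => (z : K)) hc
  simp only [add_sub_cancel, Polynomial.eval_map_algebraMap, Polynomial.derivative_map] at this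
  rw [← coe_aeval_O Q ⟨b, hb⟩ p, ← coe_aeval_O Q ⟨a, ha⟩ p, ← coe_aeval_O Q ⟨a, ha⟩ (derivative p)]
  exact this

end
end Groth.Agent.Helper5.FG
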