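import Groth.Agent.Helper5.HasseSep
import Groth.Agent.Helper5.FGUnram4
import Groth.Agent.Helper5.FGRam1
import Groth.Agent.Helper5.FFGeom3
import Groth.Agent.Helper5.FFWeier
import Groth.Agent.Helper5.WrWeier

set_option autoImplicit false

namespace Groth.Agent.Helper5.Wr
open FunFld LocRes Polynomial
open scoped IntermediateField

universe u v
variable {k : Type u} {K : Type v} [Field k] [Field K] [Algebra k K]

theorem val_aeval_le_one (Q : Place k K) {σ : K} (hσ : Q.1 σ ≤ 1) (r : k[X]) :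
    Q.1 (aeval σ r) ≤ 1 := by
  rw [← FG.coe_aeval_O Q ⟨σ, hσ⟩ r]
  exact (aeval (⟨σ, hσ⟩ : Q.O) r).2

/-- a nonzero polynomial in an element of positive order is a power of it times a unit -/
theorem exists_pow_mul_unit (Q : Place k K) {σ : K} (hσ : Q.1 σ < 1) (r : k[X]) (hr : r ≠ 0) :
    ∃ (m : ℕ) (w : K), Q.1 w = 1 ∧ aeval σ r = σ ^ m * w := by
  obtain ⟨q, hq, hndvd⟩ := Polynomial.exists_eq_pow_rootMultiplicity_mul_and_not_dvd r hr 0
  rw [C_0, sub_zero] at hq hndvd
  have hq0 : q.coeff 0 ≠ 0 := fun h => hndvd (Polynomial.X_dvd_iff.mpr h)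
  refine ⟨r.rootMultiplicity 0, aeval σ q, ?_, ?_⟩
  · have h1 : aeval σ q = σ * aeval σ (divX q) + algebraMap k K (q.coeff 0) := by
      conv_lhs => rw [← Polynomial.X_mul_divX_add q]
      rw [map_add, map_mul, aeval_X, aeval_C]
    rw [h1]
    have h2 : Q.1 (σ * aeval σ (divX q)) < 1 := by
      rw [map_mul]
      calc Q.1 σ * Q.1 (aeval σ (divX q)) ≤ Q.1 σ * 1 := by
            gcongr; exact val_aeval_le_one Q hσ.le _
        _ = Q.1 σ := mul_one _
        _ < 1 := hσ
    have h3 : Q.1 (algebraMap k K (q.coeff 0)) = 1 := FF.val_algebraMap Q hq0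
    rw [Valuation.map_add_eq_of_lt_right _ (by rw [h3]; exact h2), h3]
  · conv_lhs => rw [hq]
    rw [map_mul, map_pow, aeval_X]

/-- At a place unramified over `k(s)` where `s` is integral, `s - s(Q)` is a local parameter. -/
theorem exists_const_val_eq_of_unramified (Q : Place k K) (hQ : Q.deg = 1) {s : K}
    (hs : Q.1 s ≤ 1)
    (hsurj : Function.Surjective (Q.1.comap (algebraMap k⟮s⟯ K))) :
    ∃ c : k, Q.1 (s - algebraMap k K c) = WithZero.exp (-1 : ℤ) := by
  obtain ⟨c, hc⟩ := FF.exists_const_of_deg_one Q hQ hs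
  refine ⟨c, ?_⟩
  set σ : K := s - algebraMap k K c with hσ
  obtain ⟨⟨z, hz⟩, hzv⟩ := hsurj (WithZero.exp (-1 : ℤ))
  rw [Valuation.comap_apply] at hzv
  change Q.1 z = _ at hzv
  obtain ⟨r₁, r₂, hzr⟩ := (IntermediateField.mem_adjoin_simple_iff k z).mp hz
  have hz0 : z ≠ 0 := by
    rintro rfl
    rw [map_zero] at hzv
    exact WithZero.exp_ne_zero hzv.symm
  have hs' : s = σ + algebraMap k K c := by rw [hσ]; ring
  have hcomp : ∀ r : k[X], aeval s r = aeval σ (r.comp (X + C c)) := by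
    intro r
    rw [Polynomial.aeval_comp, map_add, aeval_X, aeval_C, ← hs']
  have h10 : aeval s r₁ ≠ 0 := by
    intro h; rw [hzr, h, zero_div] at hz0; exact hz0 rfl
  have h20 : aeval s r₂ ≠ 0 := by
    intro h; rw [hzr, h, div_zero] at hz0; exact hz0 rfl
  have hr1 : r₁.comp (X + C c) ≠ 0 := by
    intro h; rw [hcomp, h, map_zero] at h10; exact h10 rfl
  have hr2 : r₂.comp (X + C c) ≠ 0 := by
    intro h; rw [hcomp, h, map_zero] at h20; exact h20 rfl
  obtain ⟨m₁, w₁, hw₁, h1⟩ := exists_pow_mul_unit Q hc _ hr1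
  obtain ⟨m₂, w₂, hw₂, h2⟩ := exists_pow_mul_unit Q hc _ hr2
  have hσ0 : σ ≠ 0 := by
    intro h0
    rw [hzr, hcomp, hcomp, h1, h2, map_div₀, map_mul, map_mul, hw₁, hw₂, mul_one, mul_one, h0,
      map_pow, map_pow, map_zero] at hzv
    rcases Nat.eq_zero_or_pos m₂ with hm2 | hm2
    · rcases Nat.eq_zero_or_pos m₁ with hm1 | hm1
      · rw [hm1, hm2, pow_zero, div_one] at hzv
        have : (1 : WithZero (Multiplicative ℤ)) = WithZero.exp (0 : ℤ) := rfl
        rw [this, WithZero.exp_inj] at hzv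
        omega
      · have h00 : (0 : WithZero (Multiplicative ℤ)) ^ m₁ = 0 := zero_pow (by omega)
        rw [h00, zero_div] at hzv
        exact WithZero.exp_ne_zero hzv.symm
    · have h00 : (0 : WithZero (Multiplicative ℤ)) ^ m₂ = 0 := zero_pow (by omega)
      rw [h00, div_zero] at hzv
      exact WithZero.exp_ne_zero hzv.symm
  have hw10 : w₁ ≠ 0 := by
    rintro rfl; rw [map_zero] at hw₁; exact zero_ne_one hw₁
  have hw20 : w₂ ≠ 0 := by
    rintro rfl; rw [map_zero] at hw₂; exact zero_ne_one hw₂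
  have hordz : Q.ord z = 1 := by
    have := FF.ord_eq_of_val_eq Q hzv
    omega
  have hordw1 : Q.ord w₁ = 0 := by
    have := FF.ord_eq_of_val_eq Q (n := 0) (by simpa using hw₁)
    simpa using this
  have hordw2 : Q.ord w₂ = 0 := by
    have := FF.ord_eq_of_val_eq Q (n := 0) (by simpa using hw₂)
    simpa using this
  have hσpos : 0 < Q.ord σ := (FF.ord_pos_iff Q hσ0).mpr hc
  have hord : Q.ord z = (m₁ : ℤ) * Q.ord σ - (m₂ : ℤ) * Q.ord σ := by
    rw [hzr, hcomp, hcomp, h1, h2, div_eq_mul_inv,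
      FF.ord_mul Q (mul_ne_zero (pow_ne_zero _ hσ0) hw10)
        (inv_ne_zero (mul_ne_zero (pow_ne_zero _ hσ0) hw20)),
      FF.ord_inv, FF.ord_mul Q (pow_ne_zero _ hσ0) hw10, FF.ord_mul Q (pow_ne_zero _ hσ0) hw20,
      FF.ord_pow, FF.ord_pow, hordw1, hordw2]
    ring
  rw [hordz] at hord
  have hdvd : Q.ord σ ∣ 1 := ⟨(m₁ : ℤ) - m₂, by rw [hord]; ring⟩
  have hone : Q.ord σ = 1 := Int.eq_one_of_dvd_one hσpos.le hdvd
  rw [FF.val_eq_exp_neg_ord Q hσ0, hone]

end Groth.Agent.Helper5.Wr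

namespace Groth.Agent.Helper5.Wr
open FunFld LocRes Polynomial
open scoped IntermediateField

universe u v
variable {k : Type u} {K : Type v} [Field k] [Field K] [Algebra k K]

theorem ordDiff_one_eq_zero_of_local_param (P : Place k K) (Ψ : K →ₐ[k] LaurentSeries k)
    (hΨ : IsExpansionAt P.1 Ψ) {s : K} (c : k)
    (hc : P.1 (s - algebraMap k K c) = WithZero.exp (-1 : ℤ)) : ordDiff Ψ 1 s = 0 := by
  have h1 := val_D_of_val_eq k (Ψ (s - algebraMap k K c)) (by rw [hΨ.1, hc])
  have h2 : LocRes.D k (Ψ (s - algebraMap k K c)) = LocRes.D k (Ψ s) := by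
    rw [map_sub, map_sub, LocRes.map_algebraMap, LocRes.D_apply, LocRes.D_apply,
      LocRes.derivative_C, sub_zero]
  rw [h2] at h1
  unfold ordDiff vDiff
  rw [map_one, one_mul, h1, WithZero.log_one, neg_zero]

/-- The differential `ds` of a separating variable has only finitely many zeros and poles. -/
theorem finite_support_ordDiff [IsAlgClosed k] (hK : IsFunctionField k K) {s : K}
    {Hs : K →ₐ[k] PowerSeries K} (hHs : IsHasseFamily s Hs)
    (Φ : Place k K → (K →ₐ[k] LaurentSeries k)) (hΦ : ∀ P : Place k K, IsExpansionAt P.1 (Φ P)) :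
    (Function.support fun P : Place k K => ordDiff (Φ P) 1 s).Finite := by
  have htr := _root_.Groth.Agent.Helper5.Hs.transcendental_of_isHasseFamily hK hHs
  have hK₀ : IsFunctionField k k⟮s⟯ :=
    FF.isFunctionField_intermediateField hK k⟮s⟯ ⟨s, IntermediateField.mem_adjoin_simple_self k s, htr⟩
  have := FF.finiteDimensional_adjoin hK htr
  have := _root_.Groth.Agent.Helper5.Hs.isSeparable_of_isHasseFamily hK hHs
  have hram := FG.finite_ramified (k := k) (K := k⟮s⟯) (K' := K) hK₀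
  have hpole : {P : Place k K | 1 < P.1 s}.Finite := by
    apply (FF.finite_support_ord hK s).subset
    intro P hP
    rw [Function.mem_support]
    have hs0 : s ≠ 0 := by
      rintro rfl
      rw [Set.mem_ofPred_eq, map_zero] at hP
      exact not_lt_zero hP
    have := (FF.ord_neg_iff P hs0).mpr hP
    omega
  apply (hpole.union hram).subset
  intro P hP
  rw [Function.mem_support] at hP
  by_contra hcon
  rw [Set.mem_union, not_or] at hcon
  obtain ⟨h1, h2⟩ := hcon
  simp only [Set.mem_ofPred_eq, not_lt, not_not] at h1 h2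
  obtain ⟨c, hc⟩ := exists_const_val_eq_of_unramified P (FF.deg_eq_one_of_isAlgClosed hK P) h1 h2
  exact hP (ordDiff_one_eq_zero_of_local_param P (Φ P) (hΦ P) c hc)

end Groth.Agent.Helper5.Wr
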