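import Mathlib

/-!
# Krull dimension along continuous maps which lift generizations and have no specializations in
their fibres
-/

set_option autoImplicit false

namespace Groth.Agent.Helper5.DimDec

open TopologicalSpace

section Top

variable {A B : Type*} [TopologicalSpace A] [TopologicalSpace B] [T0Space A] [T0Space B]

theorem strictMono_of_fibres (f : A → B) (hf : Continuous f)
    (hSM : ∀ a a' : A, a' ⤳ a → f a' = f a → a' = a) :
    @StrictMono A B (specializationPreorder A) (specializationPreorder B) f := by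
  letI := specializationOrder A
  letI := specializationOrder B
  intro a a' hlt
  have h1 : a' ⤳ a := hlt.le
  refine lt_of_le_of_ne (h1.map hf) ?_
  intro heq
  exact hlt.ne (hSM a a' h1 heq.symm).symm

theorem coheight_eq_of_lifting (f : A → B) (hf : Continuous f)
    (hSM : ∀ a a' : A, a' ⤳ a → f a' = f a → a' = a)
    (hLG : ∀ (a : A) (b' : B), b' ⤳ f a → ∃ a', a' ⤳ a ∧ f a' = b') (a : A) :
    @Order.coheight A (specializationPreorder A) a =
      @Order.coheight B (specializationPreorder B) (f a) := by
  letI := specializationOrder A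
  letI := specializationOrder B
  exact Order.coheight_eq_of_strictMono f (strictMono_of_fibres f hf hSM) (fun a b hlt => by
    obtain ⟨a', ha', rfl⟩ := hLG a b hlt.le
    refine ⟨a', lt_of_le_of_ne ha' ?_, rfl⟩
    rintro rfl
    exact lt_irrefl _ hlt) a

theorem topologicalKrullDim_eq_krullDim (T : Type*) [TopologicalSpace T] [QuasiSober T]
    [T0Space T] : topologicalKrullDim T = @Order.krullDim T (specializationPreorder T) := by
  letI := specializationOrder T
  exact Order.krullDim_eq_of_orderIso irreducibleSetEquivPoints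

theorem topologicalKrullDim_le_of_fibres [QuasiSober A] [QuasiSober B] (f : A → B)
    (hf : Continuous f) (hSM : ∀ a a' : A, a' ⤳ a → f a' = f a → a' = a) :
    topologicalKrullDim A ≤ topologicalKrullDim B := by
  rw [topologicalKrullDim_eq_krullDim, topologicalKrullDim_eq_krullDim]
  exact @Order.krullDim_le_of_strictMono A B (specializationPreorder A) (specializationPreorder B)
    f (strictMono_of_fibres f hf hSM)

theorem topologicalKrullDim_eq_of_lifting [QuasiSober A] [QuasiSober B] (f : A → B)
    (hf : Continuous f) (hSM : ∀ a a' : A, a' ⤳ a → f a' = f a → a' = a)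
    (hLG : ∀ (a : A) (b' : B), b' ⤳ f a → ∃ a', a' ⤳ a ∧ f a' = b')
    (hsurj : Function.Surjective f) : topologicalKrullDim A = topologicalKrullDim B := by
  refine le_antisymm (topologicalKrullDim_le_of_fibres f hf hSM) ?_
  rw [topologicalKrullDim_eq_krullDim B, @Order.krullDim_eq_iSup_coheight B (specializationPreorder B)]
  apply iSup_le
  intro b
  obtain ⟨a, rfl⟩ := hsurj b
  rw [← coheight_eq_of_lifting f hf hSM hLG a, topologicalKrullDim_eq_krullDim A]
  exact @Order.coheight_le_krullDim A (specializationPreorder A) a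

/-- the version for open subsets, inequality -/
theorem topologicalKrullDim_opens_le [QuasiSober A] [QuasiSober B] (f : A → B)
    (hf : Continuous f) (hSM : ∀ a a' : A, a' ⤳ a → f a' = f a → a' = a)
    (W : Opens A) (O : Opens B) (h : ∀ w ∈ W, f w ∈ O) :
    topologicalKrullDim ↥(W : Set A) ≤ topologicalKrullDim ↥(O : Set B) := by
  have : QuasiSober ↥(W : Set A) := W.isOpen.isOpenEmbedding_subtypeVal.quasiSober
  have : QuasiSober ↥(O : Set B) := O.isOpen.isOpenEmbedding_subtypeVal.quasiSober
  let g : ↥(W : Set A) → ↥(O : Set B) := fun w => ⟨f w.1, h w.1 w.2⟩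
  have hg : Continuous g := (hf.comp continuous_subtype_val).subtype_mk _
  refine topologicalKrullDim_le_of_fibres g hg ?_
  intro w w' hsp heq
  apply Subtype.ext
  exact hSM w.1 w'.1 ((subtype_specializes_iff _ _).1 hsp) (congrArg Subtype.val heq)

/-- the version for open subsets, equality -/
theorem topologicalKrullDim_opens_eq [QuasiSober A] [QuasiSober B] (f : A → B)
    (hf : Continuous f) (hSM : ∀ a a' : A, a' ⤳ a → f a' = f a → a' = a)
    (hLG : ∀ (a : A) (b' : B), b' ⤳ f a → ∃ a', a' ⤳ a ∧ f a' = b')
    (W : Opens A) (O : Opens B) (h : f '' (W : Set A) = (O : Set B)) :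
    topologicalKrullDim ↥(W : Set A) = topologicalKrullDim ↥(O : Set B) := by
  have : QuasiSober ↥(W : Set A) := W.isOpen.isOpenEmbedding_subtypeVal.quasiSober
  have : QuasiSober ↥(O : Set B) := O.isOpen.isOpenEmbedding_subtypeVal.quasiSober
  have h' : ∀ w ∈ W, f w ∈ O := fun w hw => by
    have : f w ∈ f '' (W : Set A) := ⟨w, hw, rfl⟩
    rw [h] at this
    exact this
  let g : ↥(W : Set A) → ↥(O : Set B) := fun w => ⟨f w.1, h' w.1 w.2⟩
  have hg : Continuous g := (hf.comp continuous_subtype_val).subtype_mk _
  refine topologicalKrullDim_eq_of_lifting g hg ?_ ?_ ?_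
  · intro w w' hsp heq
    apply Subtype.ext
    exact hSM w.1 w'.1 ((subtype_specializes_iff _ _).1 hsp) (congrArg Subtype.val heq)
  · intro w o' hsp
    have hsp' : o'.1 ⤳ f w.1 := (subtype_specializes_iff _ _).1 hsp
    obtain ⟨a', ha', hfa'⟩ := hLG w.1 o'.1 hsp'
    have ha'W : a' ∈ W := ha'.mem_open W.isOpen w.2
    refine ⟨⟨a', ha'W⟩, (subtype_specializes_iff _ _).2 ha', Subtype.ext hfa'⟩
  · rintro ⟨o, ho⟩
    have : o ∈ f '' (W : Set A) := by rw [h]; exact ho
    obtain ⟨w, hw, rfl⟩ := this
    exact ⟨⟨w, hw⟩, rfl⟩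

end Top

end Groth.Agent.Helper5.DimDec
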