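import Mathlib
import Groth.Agent.Helper5.DimDec1
import Groth.Agent.Helper5.DegStr10
import Groth.Agent.Helper5.Decent3
import Groth.Agent.Helper5.Decent2
import Groth.Agent.Helper5.DecJac1
import Groth.Agent.Helper5.AlgSpOpen

/-!
# Dimension theory of decent algebraic spaces: S10345, S10346, S10396
-/

set_option autoImplicit false
universe u

namespace Groth.Agent.Helper5.DimDec

open CategoryTheory CategoryTheory.Limits AlgebraicGeometry Opposite AlgSp TopologicalSpace

variable {S : Scheme.{u}}

theorem eq_of_specializes_of_ofPt_eq (X : Space S) (hX : IsDecent X.obj) {U : Over S}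
    (a : (yon S).obj U ⟶ X.obj) (ha : RepWith @Etale a) (u u' : ↥U.left) (hs : u' ⤳ u)
    (h : Points.ofPt a u' = Points.ofPt a u) : u' = u :=
  (Groth.Agent.Helper5.Decent2.eq_of_specializes_of_finite_fibres _
    (Groth.Agent.Helper5.DecJac.finite_fibres_of_isDecent hX _) a ha u u' rfl h hs).symm

theorem exists_generization (X : Space S) (hX : IsDecent X.obj) {U : Over S}
    (a : (yon S).obj U ⟶ X.obj) (ha : RepWith @Etale a) (u : ↥U.left) (x' : Points X.obj)
    (h : x' ⤳ Points.ofPt a u) : ∃ u' : ↥U.left, u' ⤳ u ∧ Points.ofPt a u' = x' := by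
  obtain ⟨p, hp, -, hpq⟩ := hX x'
  exact Groth.Agent.Helper5.Decent3.exists_generization_in_chart X.property _ x' h p hp hpq a ha
    u rfl

/-- S10396 -/
theorem s10396 (X : Space S) (hX : IsDecent X.obj)
    (T : IrreducibleCloseds (Points X.obj)) (ξ : Points X.obj)
    (hξ : IsGenericPoint ξ (T : Set (Points X.obj))) {U : Over S}
    (a : (yon S).obj U ⟶ X.obj) (ha : RepWith @Etale a) (u : ↥U.left)
    (hu : Points.ofPt a u = ξ) :
    (Order.coheight T : WithBot ℕ∞) = ringKrullDim ↥(U.left.presheaf.stalk u) := by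
  haveI := Groth.Agent.Helper5.Decent3.t0Space_of_isDecent X.property hX
  haveI := Groth.Agent.Helper5.DegStr.s10339 X hX
  rw [ringKrullDim_stalk_eq_coheight u]
  congr 1
  have h3 := coheight_eq_of_lifting (Points.ofPt a) (Points.continuous_ofPt a)
    (fun u u' hs h => eq_of_specializes_of_ofPt_eq X hX a ha u u' hs h)
    (fun u x' h => exists_generization X hX a ha u x' h) u
  letI := specializationOrder (Points X.obj)
  have h1 : Order.coheight (irreducibleSetEquivPoints T) = Order.coheight T :=
    Order.coheight_orderIso _ T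
  have h2 : irreducibleSetEquivPoints T = ξ :=
    (T.2.isGenericPoint_genericPoint T.3).eq hξ
  rw [← h1, h2, ← hu]
  exact h3.symm

/-- S10345 -/
theorem s10345 (X : Space S) (hX : IsDecent X.obj) :
    topologicalKrullDim (Points X.obj) = AlgSp.dim X.obj := by
  haveI := Groth.Agent.Helper5.Decent3.t0Space_of_isDecent X.property hX
  haveI := Groth.Agent.Helper5.DegStr.s10339 X hX
  unfold AlgSp.dim
  apply le_antisymm
  · rw [topologicalKrullDim_eq_krullDim,
      @Order.krullDim_eq_iSup_coheight _ (specializationPreorder (Points X.obj))]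
    apply iSup_le
    intro x
    obtain ⟨U, a, ha, has⟩ := X.property.atlas
    obtain ⟨u, rfl⟩ := Groth.Agent.Helper5.AlgSpOpen.ofPt_surjective_of_repWith a has x
    rw [← coheight_eq_of_lifting (Points.ofPt a) (Points.continuous_ofPt a)
      (fun u u' hs h => eq_of_specializes_of_ofPt_eq X hX a ha u u' hs h)
      (fun u x' h => exists_generization X hX a ha u x' h) u]
    refine le_trans ?_ (le_iSup_of_le U (le_iSup_of_le a (le_iSup_of_le ha le_rfl)))
    rw [topologicalKrullDim_eq_krullDim ↥U.left]
    exact @Order.coheight_le_krullDim _ (specializationPreorder ↥U.left) u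
  · apply iSup_le
    intro U
    apply iSup_le
    intro a
    apply iSup_le
    intro ha
    exact topologicalKrullDim_le_of_fibres (Points.ofPt a) (Points.continuous_ofPt a)
      (fun u u' hs h => eq_of_specializes_of_ofPt_eq X hX a ha u u' hs h)

/-- S10346 -/
theorem s10346 (X : Space S) (hX : IsDecent X.obj) {U : Over S}
    (a : (yon S).obj U ⟶ X.obj) (ha : RepWith @Etale a) (u : ↥U.left) :
    FlatMor.localDim ↥U.left u = FlatMor.localDim (Points X.obj) (Points.ofPt a u) := by
  haveI := Groth.Agent.Helper5.Decent3.t0Space_of_isDecent X.property hX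
  haveI := Groth.Agent.Helper5.DegStr.s10339 X hX
  have hSM : ∀ u u' : ↥U.left, u' ⤳ u → Points.ofPt a u' = Points.ofPt a u → u' = u :=
    fun u u' hs h => eq_of_specializes_of_ofPt_eq X hX a ha u u' hs h
  have hLG : ∀ (u : ↥U.left) (x' : Points X.obj), x' ⤳ Points.ofPt a u →
      ∃ u' : ↥U.left, u' ⤳ u ∧ Points.ofPt a u' = x' :=
    fun u x' h => exists_generization X hX a ha u x' h
  unfold FlatMor.localDim
  apply le_antisymm
  · apply le_iInf
    rintro ⟨O, hO⟩
    let W : Opens ↥U.left := ⟨Points.ofPt a ⁻¹' O, O.isOpen.preimage (Points.continuous_ofPt a)⟩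
    exact iInf_le_of_le ⟨W, hO⟩
      (topologicalKrullDim_opens_le (Points.ofPt a) (Points.continuous_ofPt a) hSM W O
        (fun w hw => hw))
  · apply le_iInf
    rintro ⟨W, hW⟩
    let O : Opens (Points X.obj) := ⟨Points.ofPt a '' W,
      Groth.Agent.Helper5.Decent3.isOpenMap_ofPt X.property a ha _ W.isOpen⟩
    exact iInf_le_of_le ⟨O, ⟨u, hW, rfl⟩⟩
      (topologicalKrullDim_opens_eq (Points.ofPt a) (Points.continuous_ofPt a) hSM hLG W O rfl).ge

end Groth.Agent.Helper5.DimDec
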