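import Mathlib
import Groth.Agent.Helper5.ProperImg1
import Groth.Agent.Helper5.AlgSpFin

/-!
# Dimension functions descend along closed surjective maps (S10406)
-/

set_option autoImplicit false
universe u

namespace Groth.Agent.Helper5.DimDec

open CategoryTheory CategoryTheory.Limits AlgebraicGeometry Opposite AlgSp TopologicalSpace

section Top

variable {A B : Type*} [TopologicalSpace A] [TopologicalSpace B]

/-- specializations lift along closed maps -/
theorem exists_specialization_of_isClosedMap (φ : A → B) (hφ : IsClosedMap φ) (a' : A) (b : B)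
    (h : φ a' ⤳ b) : ∃ b' : A, a' ⤳ b' ∧ φ b' = b := by
  have h1 : b ∈ closure ({φ a'} : Set B) := specializes_iff_mem_closure.1 h
  have h2 : closure ({φ a'} : Set B) ⊆ φ '' closure ({a'} : Set A) := by
    rw [← Set.image_singleton]
    exact hφ.closure_image_subset _
  obtain ⟨b', hb', rfl⟩ := h2 h1
  exact ⟨b', specializes_iff_mem_closure.2 hb', rfl⟩

/-- a dimension function descends along a closed surjective map -/
theorem dimFun_descends (φ : A → B) (hφc : Continuous φ) (hφ : IsClosedMap φ)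
    (hs : Function.Surjective φ) (δ : B → ℤ)
    (hδ : ∀ a b : A, a ⤳ b → a ≠ b → (δ ∘ φ) b < (δ ∘ φ) a ∧
      ((∀ c : A, a ⤳ c → c ⤳ b → c = a ∨ c = b) → (δ ∘ φ) a = (δ ∘ φ) b + 1)) :
    ∀ a b : B, a ⤳ b → a ≠ b → δ b < δ a ∧
      ((∀ c : B, a ⤳ c → c ⤳ b → c = a ∨ c = b) → δ a = δ b + 1) := by
  intro a b hab hne
  obtain ⟨a', rfl⟩ := hs a
  obtain ⟨b', ha'b', rfl⟩ := exists_specialization_of_isClosedMap φ hφ a' b hab
  have hne' : a' ≠ b' := fun h => hne (by rw [h])
  refine ⟨(hδ a' b' ha'b' hne').1, ?_⟩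
  intro himm
  -- induction on the difference of the values
  have key : ∀ (n : ℕ) (x y : A), x ⤳ y → φ x = φ a' → φ y = φ b' →
      ((δ ∘ φ) x - (δ ∘ φ) y).toNat ≤ n → δ (φ a') = δ (φ b') + 1 := by
    intro n
    induction n with
    | zero =>
      intro x y hxy hx hy hn
      have hxyne : x ≠ y := fun h => hne (by rw [← hx, ← hy, h])
      have := (hδ x y hxy hxyne).1
      omega
    | succ n ih =>
      intro x y hxy hx hy hn
      have hxyne : x ≠ y := fun h => hne (by rw [← hx, ← hy, h])
      by_cases hsat : ∀ c : A, x ⤳ c → c ⤳ y → c = x ∨ c = y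
      · have := (hδ x y hxy hxyne).2 hsat
        simp only [Function.comp] at this
        rw [hx, hy] at this
        exact this
      · push_neg at hsat
        obtain ⟨c, hxc, hcy, hcx, hcy'⟩ := hsat
        have h1 := (hδ x c hxc (Ne.symm hcx)).1
        have h2 := (hδ c y hcy hcy').1
        rcases himm (φ c) (by rw [← hx]; exact hxc.map hφc) (by rw [← hy]; exact hcy.map hφc)
          with h | h
        · exact ih c y hcy h hy (by omega)
        · exact ih x c hxc hx h (by omega)
  exact key _ a' b' ha'b' rfl rfl le_rfl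

end Top

variable {S : Scheme.{u}}

/-- S10406 -/
theorem s10406 {X Y : Space S} (f : Y ⟶ X) (hf : IsFiniteMor f.hom)
    (hs : IsSurjectiveMor f.hom) (δ : Points X.obj → ℤ)
    (hδ : ∀ a b : Points Y.obj, a ⤳ b → a ≠ b →
      (δ ∘ Points.map f.hom) b < (δ ∘ Points.map f.hom) a ∧
      ((∀ c : Points Y.obj, a ⤳ c → c ⤳ b → c = a ∨ c = b) →
        (δ ∘ Points.map f.hom) a = (δ ∘ Points.map f.hom) b + 1)) :
    ∀ a b : Points X.obj, a ⤳ b → a ≠ b → δ b < δ a ∧
      ((∀ c : Points X.obj, a ⤳ c → c ⤳ b → c = a ∨ c = b) → δ a = δ b + 1) := by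
  have hint : IsIntegralMor f.hom := by
    intro Z hZ g
    obtain ⟨W, i, fst, sq, hW, hfin⟩ := hf hZ g
    haveI := hfin
    exact ⟨W, i, fst, sq, hW, inferInstance⟩
  have huc : IsUnivClosedMor f.hom :=
    ((Groth.Agent.Helper5.AlgSpFin.isIntegralMor_iff f.hom).1 hint).2
  have hcl : IsClosedMap (Points.map f.hom) :=
    Groth.Agent.Helper5.ProperImg.isClosedMap_of_isUnivClosedMor X.property f.hom huc
  exact dimFun_descends (Points.map f.hom) (Points.continuous_map f.hom) hcl hs δ hδ

end Groth.Agent.Helper5.DimDec
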