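import Groth.Agent.Helper5.DimFormula1

set_option autoImplicit false
universe u

namespace Groth.Agent.Helper5.DimFormula

open Polynomial

/-- Transport of a height/transcendence degree formula along an algebra isomorphism. -/
theorem formula_of_algEquiv {R T T' : Type u} [CommRing R] [CommRing T] [CommRing T']
    [Algebra R T] [Algebra R T'] (e : T ≃ₐ[R] T') (p : Ideal R) [p.IsPrime]
    (q : Ideal T) [q.IsPrime] [q.LiesOver p] (c : Cardinal.{u})
    (h : ∀ (q' : Ideal T') [q'.IsPrime] [q'.LiesOver p],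
      c = (q'.height : Cardinal.{u}) + Algebra.trdeg (R ⧸ p) (T' ⧸ q')) :
    c = (q.height : Cardinal.{u}) + Algebra.trdeg (R ⧸ p) (T ⧸ q) := by
  have hprime : (q.map e).IsPrime := Ideal.map_isPrime_of_equiv e
  have h1 := h (q.map e)
  have h2 : (q.map e).height = q.height := RingEquiv.height_map e.toRingEquiv q
  have h3 := AlgEquiv.trdeg_eq (Ideal.Quotient.algEquivOfEqMap p e (P := q) (Q := q.map e) rfl)
  rw [h1, h2, h3]

/-- Tower of quotient domains. -/
theorem trdeg_quotient_tower {R A T : Type u} [CommRing R] [CommRing A] [CommRing T]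
    [Algebra R A] [Algebra A T] [Algebra R T] [IsScalarTower R A T]
    (p : Ideal R) [p.IsPrime] (p1 : Ideal A) [p1.IsPrime] (q1 : Ideal T) [q1.IsPrime]
    [p1.LiesOver p] [q1.LiesOver p1] [q1.LiesOver p] :
    Algebra.trdeg (R ⧸ p) (T ⧸ q1) =
      Algebra.trdeg (R ⧸ p) (A ⧸ p1) + Algebra.trdeg (A ⧸ p1) (T ⧸ q1) := by
  have : IsScalarTower (R ⧸ p) (A ⧸ p1) (T ⧸ q1) := IsScalarTower.of_algebraMap_eq <| by
    rintro ⟨x⟩
    show Ideal.Quotient.mk q1 (algebraMap R T x) =
      Ideal.Quotient.mk q1 (algebraMap A T (algebraMap R A x))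
    rw [IsScalarTower.algebraMap_apply R A T]
  exact (trdeg_add_eq (R ⧸ p) (A ⧸ p1) (A := T ⧸ q1)).symm

/-- A prime of `R` lying over `p` (for the identity algebra structure) is `p`. -/
theorem formula_self {R : Type u} [CommRing R] (p : Ideal R) [p.IsPrime]
    (q' : Ideal R) [q'.IsPrime] [hq : q'.LiesOver p] :
    (p.height : Cardinal.{u}) + (0 : ℕ) =
      (q'.height : Cardinal.{u}) + Algebra.trdeg (R ⧸ p) (R ⧸ q') := by
  have hpq : q' = p := by
    have := hq.over
    rw [Ideal.under_def] at this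
    simpa using this.symm
  have hsurj : Function.Surjective (algebraMap (R ⧸ p) (R ⧸ q')) := by
    intro y
    obtain ⟨r, rfl⟩ := Ideal.Quotient.mk_surjective y
    exact ⟨Ideal.Quotient.mk p r, rfl⟩
  have hint : Algebra.IsIntegral (R ⧸ p) (R ⧸ q') := Algebra.isIntegral_of_surjective hsurj
  have : Algebra.IsAlgebraic (R ⧸ p) (R ⧸ q') := inferInstance
  rw [trdeg_eq_zero, hpq]
  simp

/-- The dimension formula (with equality) for polynomial rings in finitely many variables over
a Noetherian ring. -/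
theorem mvPolynomial_formula (n : ℕ) : ∀ (R : Type u) [CommRing R] [IsNoetherianRing R]
    (p : Ideal R) [p.IsPrime] (q : Ideal (MvPolynomial (Fin n) R)) [q.IsPrime] [q.LiesOver p],
    (p.height : Cardinal.{u}) + (n : ℕ) =
      (q.height : Cardinal.{u}) + Algebra.trdeg (R ⧸ p) (MvPolynomial (Fin n) R ⧸ q) := by
  induction n with
  | zero =>
    intro R _ _ p _ q _ _
    refine formula_of_algEquiv (MvPolynomial.isEmptyAlgEquiv R (Fin 0)) p q _ ?_
    intro q' _ _
    exact formula_self p q'
  | succ n ih =>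
    intro R _ _ p _ q _ _
    refine formula_of_algEquiv (MvPolynomial.finSuccEquiv R n) p q _ ?_
    intro q1 _ _
    let A := MvPolynomial (Fin n) R
    let p1 : Ideal A := q1.under A
    have hp1 : p1.IsPrime := inferInstance
    have hp1p : p1.LiesOver p := inferInstance
    have h1 := ih R p p1
    have h2 := Groth.Agent.S4730.result A p1 q1
    have h3 := trdeg_quotient_tower p p1 q1
    rw [h3]
    push_cast
    calc (p.height : Cardinal.{u}) + ((n : Cardinal.{u}) + 1)
        = ((p.height : Cardinal.{u}) + (n : ℕ)) + 1 := by ring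
      _ = ((p1.height : Cardinal.{u}) + 1) + Algebra.trdeg (R ⧸ p) (A ⧸ p1) := by rw [h1]; ring
      _ = _ := by rw [h2]; ring

end Groth.Agent.Helper5.DimFormula
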