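import Groth.Agent.Helper5.DimFormula4

set_option autoImplicit false
universe u

namespace Groth.Agent.Helper5.DimFormula

open Order

/-- General form of the identity `ht p + n = ht π⁻¹q + trdeg (A/p) (B/q)` for a presentation
`π : A[X₁..Xₙ] → B`. -/
theorem presentation_identity (A : Type u) [CommRing A] [IsNoetherianRing A] (B : Type u)
    [CommRing B] [Algebra A B] (n : ℕ) (π : MvPolynomial (Fin n) A →ₐ[A] B)
    (hπ : Function.Surjective π) (p : Ideal A) [p.IsPrime] (q : Ideal B) [q.IsPrime]
    [q.LiesOver p] :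
    (p.height : Cardinal.{u}) + (n : ℕ) =
        ((q.comap π).height : Cardinal.{u}) + Algebra.trdeg (A ⧸ p) (B ⧸ q) := by
  let P := MvPolynomial (Fin n) A
  let q' : Ideal P := q.comap π
  have hq' : q'.IsPrime := inferInstance
  have hq'p : q'.LiesOver p := inferInstance
  have h1 := mvPolynomial_formula n A p q'
  rw [h1]
  congr 1
  let φ : (P ⧸ q') →ₐ[A ⧸ p] (B ⧸ q) :=
    { toRingHom := Ideal.quotientMap q π.toRingHom le_rfl
      commutes' := by
        rintro ⟨x⟩
        show Ideal.Quotient.mk q (π (algebraMap A P x)) = Ideal.Quotient.mk q (algebraMap A B x)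
        rw [π.commutes] }
  have hφ : Function.Bijective φ := by
    constructor
    · exact Ideal.quotientMap_injective (I := q) (f := π.toRingHom)
    · exact Ideal.quotientMap_surjective (I := q) (f := π.toRingHom) (H := le_rfl) hπ
  exact AlgEquiv.trdeg_eq (AlgEquiv.ofBijective φ hφ)

/-- The general dimension inequality: for a finite type algebra `B` over a Noetherian ring `A`
and a prime `q` of `B` over `p`, there is a minimal prime `Q₀ ≤ q` with
`ht q + trdeg (A/p) (B/q) + ht (Q₀ ∩ A) ≤ ht p + trdeg (A/(Q₀ ∩ A)) (B/Q₀)`. -/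
theorem general_dimension_inequality (A : Type u) [CommRing A] [IsNoetherianRing A] (B : Type u)
    [CommRing B] [Algebra A B] [Algebra.FiniteType A B] (p : Ideal A) [p.IsPrime] (q : Ideal B)
    [hq : q.IsPrime] [q.LiesOver p] :
    ∃ (Q₀ : Ideal B) (_ : Q₀.IsPrime), Q₀ ∈ minimalPrimes B ∧ Q₀ ≤ q ∧
      (q.height : Cardinal.{u}) + Algebra.trdeg (A ⧸ p) (B ⧸ q) + ((Q₀.under A).height : Cardinal.{u}) ≤
        (p.height : Cardinal.{u}) + Algebra.trdeg (A ⧸ Q₀.under A) (B ⧸ Q₀) := by
  have hB : IsNoetherianRing B := Algebra.FiniteType.isNoetherianRing A B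
  obtain ⟨n, π, hπ⟩ := Algebra.FiniteType.iff_quotient_mvPolynomial''.mp
    (inferInstance : Algebra.FiniteType A B)
  let P := MvPolynomial (Fin n) A
  let q0 : PrimeSpectrum B := ⟨q, hq⟩
  have e0 : q.height = height q0 := PrimeSpectrum.height_eq_orderHeight q0
  obtain ⟨m, hm⟩ := ENat.ne_top_iff_exists.1 (e0 ▸ Ideal.height_ne_top_of_isPrime (I := q))
  obtain ⟨l, hl1, hl2⟩ := exists_series_of_height_eq_coe q0 hm.symm
  have hmax : height l.last = l.length := by rw [hl1, ← hm, hl2]
  have hhead : height l.head = 0 := by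
    have := height_eq_index_of_length_eq_height l hmax 0
    show height (l.toFun 0) = 0
    simpa using this
  let Q₀ : Ideal B := l.head.asIdeal
  have hQ₀ : Q₀.IsPrime := l.head.isPrime
  have hQ₀min : Q₀ ∈ minimalPrimes B := by
    rw [← Ideal.height_eq_zero_iff]
    rw [show Q₀.height = height l.head from PrimeSpectrum.height_eq_orderHeight l.head]
    exact hhead
  have hQ₀q : Q₀ ≤ q := by
    have := LTSeries.head_le_last l
    rw [hl1] at this
    exact this
  refine ⟨Q₀, hQ₀, hQ₀min, hQ₀q, ?_⟩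
  have h1 := presentation_identity A B n π hπ p q
  have h2 := presentation_identity A B n π hπ (Q₀.under A) Q₀
  -- the chain inequality
  let c : PrimeSpectrum B → PrimeSpectrum P := PrimeSpectrum.comap π.toRingHom
  have hc : StrictMono c := by
    intro x y hxy
    refine lt_of_le_of_ne ?_ ?_
    · exact Ideal.comap_mono (f := π.toRingHom) hxy.le
    · intro h
      exact hxy.ne (PrimeSpectrum.comap_injective_of_surjective π.toRingHom hπ h)
  have key := length_add_height_head_le (l.map c hc)
  rw [LTSeries.last_map, LTSeries.head_map, LTSeries.map_length, hl1, hl2] at key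
  have e1 : (q.comap π).height = height (c q0) := PrimeSpectrum.height_eq_orderHeight (c q0)
  have e2 : (Q₀.comap π).height = height (c l.head) :=
    PrimeSpectrum.height_eq_orderHeight (c l.head)
  rw [← e1, ← e2, hm, ← e0] at key
  have key' : (q.height : Cardinal.{u}) + ((Q₀.comap π).height : Cardinal.{u}) ≤
      ((q.comap π).height : Cardinal.{u}) := by
    rw [← Cardinal.ofENat_add]
    exact Cardinal.ofENat_le_ofENat.2 key
  have hfin : ((n : ℕ) : Cardinal.{u}) + ((Q₀.comap π).height : Cardinal.{u}) < Cardinal.aleph0 :=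
    Cardinal.add_lt_aleph0 (Cardinal.natCast_lt_aleph0)
      (Cardinal.ofENat_lt_aleph0.2 (lt_top_iff_ne_top.2 Ideal.height_ne_top_of_isPrime))
  rw [← Cardinal.add_le_add_iff_of_lt_aleph0 hfin]
  calc (q.height : Cardinal.{u}) + Algebra.trdeg (A ⧸ p) (B ⧸ q) + ((Q₀.under A).height : Cardinal.{u}) +
        (((n : ℕ) : Cardinal.{u}) + ((Q₀.comap π).height : Cardinal.{u}))
      = ((q.height : Cardinal.{u}) + ((Q₀.comap π).height : Cardinal.{u})) +
          Algebra.trdeg (A ⧸ p) (B ⧸ q) + (((Q₀.under A).height : Cardinal.{u}) + (n : ℕ)) := by ring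
    _ ≤ ((q.comap π).height : Cardinal.{u}) + Algebra.trdeg (A ⧸ p) (B ⧸ q) +
          (((Q₀.under A).height : Cardinal.{u}) + (n : ℕ)) := by gcongr
    _ = ((p.height : Cardinal.{u}) + (n : ℕ)) + (((Q₀.comap π).height : Cardinal.{u}) +
          Algebra.trdeg (A ⧸ Q₀.under A) (B ⧸ Q₀)) := by rw [h1, h2]
    _ = _ := by ring

end Groth.Agent.Helper5.DimFormula
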