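import Groth.Agent.Helper5.DimFormula5

set_option autoImplicit false
universe u

namespace Groth.Agent.Helper5.DimFormula

/-- A field `K` receiving a map `a : A → K` with kernel `p` such that every element of `K` is a
fraction of elements in the image is algebraic over `A/p`. -/
theorem isAlgebraic_of_fraction_data {A K : Type u} [CommRing A] [Field K] (p : Ideal A)
    [p.IsPrime] (a : A →+* K) (ha : RingHom.ker a = p)
    (hK : ∀ z : K, ∃ x y : A, a y ≠ 0 ∧ z * a y = a x) :
    @Algebra.IsAlgebraic (A ⧸ p) K _ _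
      (Ideal.Quotient.lift p a (fun x hx => by rw [← ha] at hx; exact hx)).toAlgebra := by
  let a1 : A ⧸ p →+* K := Ideal.Quotient.lift p a (fun x hx => by rw [← ha] at hx; exact hx)
  let _ : Algebra (A ⧸ p) K := a1.toAlgebra
  refine ⟨fun z => ?_⟩
  obtain ⟨x, y, hy, hz⟩ := hK z
  have hz' : z = (Ideal.Quotient.mk p x) • (algebraMap (A ⧸ p) K (Ideal.Quotient.mk p y))⁻¹ := by
    rw [Algebra.smul_def]
    show z = a x * (a y)⁻¹
    rw [← hz]
    field_simp
  rw [hz']
  exact ((isAlgebraic_algebraMap (Ideal.Quotient.mk p y)).inv).smul _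

/-- The transcendence degree of a residue field extension presented by fraction data equals
the transcendence degree of the extension of quotient domains. -/
theorem trdeg_eq_of_fraction_data {A B K L : Type u} [CommRing A] [CommRing B] [Field K] [Field L]
    [Algebra A B] (p : Ideal A) [p.IsPrime] (q : Ideal B) [q.IsPrime] [q.LiesOver p]
    (a : A →+* K) (b : B →+* L) (ψ : K →+* L)
    (hcomm : ∀ x, ψ (a x) = b (algebraMap A B x))
    (ha : RingHom.ker a = p) (hb : RingHom.ker b = q)
    (hK : ∀ z : K, ∃ x y : A, a y ≠ 0 ∧ z * a y = a x)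
    (hL : ∀ z : L, ∃ x y : B, b y ≠ 0 ∧ z * b y = b x) :
    @Algebra.trdeg K L _ _ ψ.toAlgebra = Algebra.trdeg (A ⧸ p) (B ⧸ q) := by
  let a1 : A ⧸ p →+* K := Ideal.Quotient.lift p a (fun x hx => by rw [← ha] at hx; exact hx)
  let b1 : B ⧸ q →+* L := Ideal.Quotient.lift q b (fun x hx => by rw [← hb] at hx; exact hx)
  have ha1inj : Function.Injective a1 := by
    rw [injective_iff_map_eq_zero]
    intro x hx
    obtain ⟨x, rfl⟩ := Ideal.Quotient.mk_surjective x
    have : a x = 0 := hx
    rw [Ideal.Quotient.eq_zero_iff_mem, ← ha]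
    exact this
  have hb1inj : Function.Injective b1 := by
    rw [injective_iff_map_eq_zero]
    intro x hx
    obtain ⟨x, rfl⟩ := Ideal.Quotient.mk_surjective x
    have : b x = 0 := hx
    rw [Ideal.Quotient.eq_zero_iff_mem, ← hb]
    exact this
  let _ : Algebra (A ⧸ p) K := a1.toAlgebra
  let _ : Algebra (B ⧸ q) L := b1.toAlgebra
  let _ : Algebra K L := ψ.toAlgebra
  let _ : Algebra (A ⧸ p) L := (ψ.comp a1).toAlgebra
  have st1 : IsScalarTower (A ⧸ p) K L := IsScalarTower.of_algebraMap_eq (fun _ => rfl)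
  have st2 : IsScalarTower (A ⧸ p) (B ⧸ q) L := IsScalarTower.of_algebraMap_eq (by
    intro x
    obtain ⟨x, rfl⟩ := Ideal.Quotient.mk_surjective x
    show ψ (a x) = b (algebraMap A B x)
    exact hcomm x)
  have halgK : Algebra.IsAlgebraic (A ⧸ p) K := isAlgebraic_of_fraction_data p a ha hK
  have halgL : Algebra.IsAlgebraic (B ⧸ q) L := isAlgebraic_of_fraction_data q b hb hL
  have f1 : FaithfulSMul (A ⧸ p) K := (faithfulSMul_iff_algebraMap_injective _ _).2 ha1inj
  have f2 : FaithfulSMul (B ⧸ q) L := (faithfulSMul_iff_algebraMap_injective _ _).2 hb1inj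
  have f3 : FaithfulSMul K L := (faithfulSMul_iff_algebraMap_injective _ _).2 ψ.injective
  have h1 := trdeg_add_eq (A ⧸ p) K (A := L)
  have h2 := trdeg_add_eq (A ⧸ p) (B ⧸ q) (A := L)
  rw [trdeg_eq_zero (R := A ⧸ p) (A := K), zero_add] at h1
  rw [trdeg_eq_zero (R := B ⧸ q) (A := L), add_zero] at h2
  rw [h1, h2]

end Groth.Agent.Helper5.DimFormula
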