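import Mathlib
import Groth.Agent.Helper5.DimStrat6

set_option autoImplicit false
set_option linter.style.haveILetI false
set_option linter.unusedSectionVars false
set_option linter.deprecated false
universe u
open CategoryTheory CategoryTheory.Limits AlgebraicGeometry TopologicalSpace Topology

namespace Groth.Agent.Helper5.DimStrat

open Groth.Agent.Helper5.StalkDict

/-- the prime of the local ring at `ξ` of a generization is the preimage of the maximal ideal -/
theorem asIdeal_eq_comap_of_fromSpecStalk {C : Scheme.{u}} (ξ : C)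
    (𝔮 : ↥(Spec (C.presheaf.stalk ξ))) (h : C.fromSpecStalk ξ 𝔮 ⤳ ξ) :
    𝔮.asIdeal = Ideal.comap (C.presheaf.stalkSpecializes h).hom
      (IsLocalRing.maximalIdeal (C.presheaf.stalk (C.fromSpecStalk ξ 𝔮))) := by
  set ζ := C.fromSpecStalk ξ 𝔮 with hζ
  let φ := C.presheaf.stalkSpecializes h
  let c : ↥(Spec (C.presheaf.stalk ζ)) := IsLocalRing.closedPoint (C.presheaf.stalk ζ)
  have h1 := Scheme.SpecMap_stalkSpecializes_fromSpecStalk (X := C) h
  have h2 := congrArg (fun ψ : Spec (C.presheaf.stalk ζ) ⟶ C => ψ c) h1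
  have h3 : C.fromSpecStalk ζ c = ζ := Scheme.fromSpecStalk_closedPoint
  have h4 : C.fromSpecStalk ξ (Spec.map φ c) = C.fromSpecStalk ξ 𝔮 := h2.trans h3
  have h5 : Spec.map φ c = 𝔮 := (C.fromSpecStalk ξ).isEmbedding.injective h4
  have h6 : 𝔮.asIdeal = (Spec.map φ c).asIdeal := by rw [h5]
  rw [h6]
  rfl

/-- K1: vanishing of a germ in a prime of the local ring, in terms of the generization -/
theorem germ_mem_iff {C : Scheme.{u}} (ξ : C) (𝔮 : ↥(Spec (C.presheaf.stalk ξ))) (U' : C.Opens)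
    (hξ : ξ ∈ U') (s : Γ(C, U')) :
    C.presheaf.germ U' ξ hξ s ∈ 𝔮.asIdeal ↔ C.fromSpecStalk ξ 𝔮 ∉ C.basicOpen s := by
  have h : C.fromSpecStalk ξ 𝔮 ⤳ ξ := fromSpecStalk_specializes ξ 𝔮
  have hζU : C.fromSpecStalk ξ 𝔮 ∈ U' := h.mem_open U'.2 hξ
  rw [asIdeal_eq_comap_of_fromSpecStalk ξ 𝔮 h, Ideal.mem_comap, Scheme.mem_basicOpen _ _ _ hζU,
    IsLocalRing.mem_maximalIdeal, mem_nonunits_iff]
  have : (C.presheaf.stalkSpecializes h).hom (C.presheaf.germ U' ξ hξ s) =
      C.presheaf.germ U' (C.fromSpecStalk ξ 𝔮) hζU s := by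
    have := TopCat.Presheaf.germ_stalkSpecializes C.presheaf hξ h
    exact congrArg (fun ψ => ψ.hom s) this
  rw [this]

/-- K2: points of an affine open lying on an immersed subscheme that is closed there, via the
kernel -/
theorem mem_range_iff_of_ker {W X : Scheme.{u}} (ι : W ⟶ X) [QuasiCompact ι] (U : X.affineOpens)
    (hcl : IsClosedImmersion (ι ∣_ U.1)) (x : X) (hx : x ∈ U.1) :
    x ∈ Set.range ι ↔ ∀ r ∈ RingHom.ker (ι.app U.1).hom, x ∉ X.basicOpen r := by
  have h1 : x ∈ Set.range ι ↔ x ∈ closure (Set.range ι) := by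
    refine ⟨fun h => subset_closure h, fun h => ?_⟩
    have hclosed : IsClosed (Set.range (ι ∣_ U.1)) := (ι ∣_ U.1).isClosedEmbedding.isClosed_range
    obtain ⟨F, hF, hFeq⟩ := isClosed_induced_iff.1 hclosed
    have hres : ∀ w' : ↥(ι ⁻¹ᵁ U.1), ((ι ∣_ U.1) w').1 = ι w'.1 := by
      intro w'
      have := congrArg (fun ψ => ψ w') (morphismRestrict_ι ι U.1)
      exact this
    have hsub : Set.range ι ⊆ F ∪ (U.1 : Set X)ᶜ := by
      rintro _ ⟨w, rfl⟩
      by_cases hw : ι w ∈ U.1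
      · left
        have hmem : (⟨ι w, hw⟩ : ↥U.1) ∈ Set.range (ι ∣_ U.1) := by
          refine ⟨⟨w, hw⟩, ?_⟩
          apply Subtype.ext
          exact hres ⟨w, hw⟩
        rw [← hFeq] at hmem
        exact hmem
      · right; exact hw
    have hcl' : IsClosed (F ∪ (U.1 : Set X)ᶜ) := hF.union U.1.2.isClosed_compl
    have hx' := closure_minimal hsub hcl' h
    rcases hx' with hxF | hxU
    · have hmem : (⟨x, hx⟩ : ↥U.1) ∈ Set.range (ι ∣_ U.1) := by
        rw [← hFeq]; exact hxF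
      obtain ⟨w', hw'⟩ := hmem
      refine ⟨w'.1, ?_⟩
      rw [← hres w', hw']
    · exact absurd hx hxU
  rw [h1, ← Scheme.Hom.support_ker, SetLike.mem_coe,
    Scheme.IdealSheafData.mem_support_iff_of_mem (U := U) hx, Scheme.Hom.ker_apply,
    Scheme.mem_zeroLocus_iff]
  rfl

end Groth.Agent.Helper5.DimStrat
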