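import Mathlib
import Groth.Agent.Helper5.DimStrat7

set_option autoImplicit false
set_option linter.style.haveILetI false
set_option linter.unusedSectionVars false
set_option linter.deprecated false
universe u
open CategoryTheory CategoryTheory.Limits AlgebraicGeometry TopologicalSpace Topology

namespace Groth.Agent.Helper5.DimStrat

open Groth.Agent.Helper5.StalkDict Groth.Agent.Helper5.CycDim

/-- vanishing on a span -/
theorem forall_span_notMem_basicOpen {X : Scheme.{u}} (U : X.Opens) (S₀ : Set Γ(X, U)) (x : X)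
    (hx : x ∈ U) :
    (∀ r ∈ Ideal.span S₀, x ∉ X.basicOpen r) ↔ ∀ r ∈ S₀, x ∉ X.basicOpen r := by
  constructor
  · intro h r hr
    exact h r (Ideal.subset_span hr)
  · intro h
    let J : Ideal Γ(X, U) := Ideal.comap (X.presheaf.germ U x hx).hom
      (IsLocalRing.maximalIdeal (X.presheaf.stalk x))
    have hJ : ∀ r, r ∈ J ↔ x ∉ X.basicOpen r := by
      intro r
      rw [Scheme.mem_basicOpen _ _ _ hx]
      show (X.presheaf.germ U x hx).hom r ∈ IsLocalRing.maximalIdeal _ ↔ _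
      rw [IsLocalRing.mem_maximalIdeal, mem_nonunits_iff]
    have hle : Ideal.span S₀ ≤ J := Ideal.span_le.2 (fun r hr => (hJ r).2 (h r hr))
    intro r hr
    exact (hJ r).1 (hle hr)

theorem comap_mk_maximalIdeal {R : Type*} [CommRing R] [IsLocalRing R] (I : Ideal R)
    [Nontrivial (R ⧸ I)] [IsLocalRing (R ⧸ I)] :
    Ideal.comap (Ideal.Quotient.mk I) (IsLocalRing.maximalIdeal (R ⧸ I)) =
      IsLocalRing.maximalIdeal R := by
  haveI : (Ideal.comap (Ideal.Quotient.mk I) (IsLocalRing.maximalIdeal (R ⧸ I))).IsMaximal :=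
    Ideal.comap_isMaximal_of_surjective _ Ideal.Quotient.mk_surjective
  exact IsLocalRing.eq_maximalIdeal inferInstance

set_option maxHeartbeats 2000000 in
/-- (K) Krull's height theorem for a maximal point of the preimage of a subscheme cut out by `c`
equations -/
theorem krull_bound (k : Type u) [Field k] {C X W : Scheme.{u}}
    (q : X ⟶ Spec (CommRingCat.of k)) (π : C ⟶ X) (ι : W ⟶ X)
    [LocallyOfFiniteType q] [LocallyOfFiniteType π] [QuasiCompact ι]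
    (c : ℕ) (U : X.affineOpens) (hcl : IsClosedImmersion (ι ∣_ U.1)) (rs : List Γ(X, U.1))
    (hlen : rs.length = c) (hker : RingHom.ker (ι.app U.1).hom = Ideal.ofList rs)
    (ξ η : C) (hηξ : η ⤳ ξ) (hξU : π ξ ∈ U.1) (hξE : π ξ ∈ Set.range ι)
    (hmax : ∀ ζ : C, η ⤳ ζ → ζ ⤳ ξ → π ζ ∈ Set.range ι → ζ = ξ) :
    δ k (π ≫ q) η ≤ δ k (π ≫ q) ξ + c := by
  haveI : IsLocallyNoetherian X := LocallyOfFiniteType.isLocallyNoetherian q
  haveI : IsLocallyNoetherian C := LocallyOfFiniteType.isLocallyNoetherian π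
  obtain ⟨𝔭, h𝔭⟩ := exists_prime_of_specializes ξ η hηξ
  have hdim : ringKrullDim (C.presheaf.stalk ξ ⧸ 𝔭.asIdeal) =
      (((((δ k (π ≫ q) η : ℕ) : ℤ) - ((δ k (π ≫ q) ξ : ℕ) : ℤ)).toNat : ℕ) : WithBot ℕ∞) := by
    rw [ringKrullDim_stalk_quotient ξ 𝔭, h𝔭]
    exact krullDim_Icc _ (isDimFun_δ k (π ≫ q)) η ξ hηξ
  -- Krull
  have hξU' : ξ ∈ π ⁻¹ᵁ U.1 := hξU
  let mk := Ideal.Quotient.mk 𝔭.asIdeal
  let ρ : Γ(X, U.1) →+* C.presheaf.stalk ξ :=
    (C.presheaf.germ (π ⁻¹ᵁ U.1) ξ hξU').hom.comp (π.app U.1).hom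
  -- vanishing dictionary
  have hvan : ∀ 𝔮 : ↥(Spec (C.presheaf.stalk ξ)),
      (∀ r ∈ rs, ρ r ∈ 𝔮.asIdeal) ↔ π (C.fromSpecStalk ξ 𝔮) ∈ Set.range ι := by
    intro 𝔮
    have hζξ : C.fromSpecStalk ξ 𝔮 ⤳ ξ := fromSpecStalk_specializes ξ 𝔮
    have hζU : π (C.fromSpecStalk ξ 𝔮) ∈ U.1 := (hζξ.map π.continuous).mem_open U.1.2 hξU
    rw [mem_range_iff_of_ker ι U hcl _ hζU, hker]
    have h1 := forall_span_notMem_basicOpen U.1 {r | r ∈ rs} (π (C.fromSpecStalk ξ 𝔮)) hζU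
    rw [show Ideal.ofList rs = Ideal.span {r | r ∈ rs} from rfl, h1]
    refine forall₂_congr fun r _ => ?_
    show C.presheaf.germ (π ⁻¹ᵁ U.1) ξ hξU' ((π.app U.1).hom r) ∈ 𝔮.asIdeal ↔ _
    rw [germ_mem_iff ξ 𝔮 (π ⁻¹ᵁ U.1) hξU', ← Scheme.preimage_basicOpen]
    rfl
  haveI hAloc : IsLocalRing (C.presheaf.stalk ξ ⧸ 𝔭.asIdeal) :=
    IsLocalRing.of_surjective' mk Ideal.Quotient.mk_surjective
  have hcm : Ideal.comap mk (IsLocalRing.maximalIdeal (C.presheaf.stalk ξ ⧸ 𝔭.asIdeal)) =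
      IsLocalRing.maximalIdeal (C.presheaf.stalk ξ) := comap_mk_maximalIdeal 𝔭.asIdeal
  let S : Set (C.presheaf.stalk ξ ⧸ 𝔭.asIdeal) := (fun r => mk (ρ r)) '' {r | r ∈ rs}
  have hfin0 : {r | r ∈ rs}.Finite := List.finite_toSet rs
  have hfin : S.Finite := hfin0.image _
  have hcard : S.ncard ≤ c := by
    classical
    refine (Set.ncard_image_le hfin0).trans ?_
    have : {r | r ∈ rs} = (rs.toFinset : Set _) := by
      ext r; simp
    rw [this, Set.ncard_coe_finset, ← hlen]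
    exact List.toFinset_card_le rs
  let cl : ↥(Spec (C.presheaf.stalk ξ)) := IsLocalRing.closedPoint (C.presheaf.stalk ξ)
  have hcl_pt : C.fromSpecStalk ξ cl = ξ := Scheme.fromSpecStalk_closedPoint
  have hmin : IsLocalRing.maximalIdeal (C.presheaf.stalk ξ ⧸ 𝔭.asIdeal) ∈
      (Ideal.span S).minimalPrimes := by
    refine ⟨⟨inferInstance, ?_⟩, ?_⟩
    · rw [Ideal.span_le]
      rintro _ ⟨r, hr, rfl⟩
      show mk (ρ r) ∈ IsLocalRing.maximalIdeal _
      rw [← Ideal.mem_comap, hcm]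
      have := (hvan cl).2 (by rw [hcl_pt]; exact hξE) r hr
      exact this
    · rintro Q' ⟨hQ'prime, hQ'le⟩ -
      haveI := hQ'prime
      let 𝔮 : ↥(Spec (C.presheaf.stalk ξ)) := ⟨Ideal.comap mk Q', inferInstance⟩
      have h1 : ∀ r ∈ rs, ρ r ∈ 𝔮.asIdeal := by
        intro r hr
        show mk (ρ r) ∈ Q'
        exact hQ'le (Ideal.subset_span ⟨r, hr, rfl⟩)
      have h2 := (hvan 𝔮).1 h1
      have h3 : 𝔭.asIdeal ≤ 𝔮.asIdeal := by
        intro a ha
        show mk a ∈ Q'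
        rw [Ideal.Quotient.eq_zero_iff_mem.2 ha]
        exact Q'.zero_mem
      have h4 : η ⤳ C.fromSpecStalk ξ 𝔮 := by
        rw [← h𝔭]
        exact (fromSpecStalk_specializes_iff ξ 𝔭 𝔮).2 h3
      have h5 := hmax _ h4 (fromSpecStalk_specializes ξ 𝔮) h2
      have h6 : 𝔮 = cl := (C.fromSpecStalk ξ).isEmbedding.injective (h5.trans hcl_pt.symm)
      have h7 : Ideal.comap mk Q' = IsLocalRing.maximalIdeal (C.presheaf.stalk ξ) := by
        have := congrArg (fun z : ↥(Spec (C.presheaf.stalk ξ)) => z.asIdeal) h6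
        exact this
      intro x hx
      obtain ⟨o, rfl⟩ := Ideal.Quotient.mk_surjective x
      have : o ∈ Ideal.comap mk (IsLocalRing.maximalIdeal (C.presheaf.stalk ξ ⧸ 𝔭.asIdeal)) := hx
      rw [hcm, ← h7] at this
      exact this
  have hht := Ideal.height_le_card_of_mem_minimalPrimes_span hfin hmin
  have hkr : ringKrullDim (C.presheaf.stalk ξ ⧸ 𝔭.asIdeal) ≤ (c : WithBot ℕ∞) := by
    rw [← IsLocalRing.maximalIdeal_height_eq_ringKrullDim]
    have : (IsLocalRing.maximalIdeal (C.presheaf.stalk ξ ⧸ 𝔭.asIdeal)).height ≤ (c : ℕ∞) :=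
      hht.trans (by exact_mod_cast hcard)
    exact_mod_cast this
  rw [hdim] at hkr
  have : (((δ k (π ≫ q) η : ℕ) : ℤ) - ((δ k (π ≫ q) ξ : ℕ) : ℤ)).toNat ≤ c := by
    exact_mod_cast hkr
  omega

end Groth.Agent.Helper5.DimStrat
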