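import Mathlib
import Groth.Agent.Helper5.DimStrat8

set_option autoImplicit false
set_option linter.style.haveILetI false
set_option linter.unusedSectionVars false
set_option linter.deprecated false
universe u
open CategoryTheory CategoryTheory.Limits AlgebraicGeometry TopologicalSpace Topology

namespace Groth.Agent.Helper5.DimStrat

open Groth.Agent.Helper5.LocDim Groth.Agent.Helper5.StalkDict Groth.Agent.Helper5.CycDim

variable (k : Type u) [Field k] {C : Scheme.{u}} (g : C ⟶ Spec (CommRingCat.of k))
  [LocallyOfFiniteType g]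

theorem dim_locallyClosed_le_iff' (T : Set C) (hT : IsLocallyClosed T) (b : WithBot ℕ∞) :
    topologicalKrullDim ↥T ≤ b ↔ ∀ t ∈ T, (δ k g t : WithBot ℕ∞) ≤ b := by
  obtain ⟨O, F, hO, hF, rfl⟩ := hT
  exact dim_locallyClosed_le_iff k g O F hO hF b

theorem genStable_of_isLocallyClosed (T : Set C) (hT : IsLocallyClosed T) : GenStable T := by
  obtain ⟨O, F, hO, hF, rfl⟩ := hT
  exact genStable_of_isOpen_inter_isClosed O F hO hF

/-- Fact 4: a closed subset of a locally closed subspace has dimension at least `δ` of each of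
its points -/
theorem δ_le_dim_of_mem (T : Set C) (hT : IsLocallyClosed T) (Q : Set ↥T) (hQ : IsClosed Q)
    (e : ↥T) (he : e ∈ Q) : (δ k g e.1 : WithBot ℕ∞) ≤ topologicalKrullDim ↥Q := by
  obtain ⟨O, F, hO, hF, rfl⟩ := hT
  have h1 : closure ({e} : Set ↥(O ∩ F)) ⊆ Q :=
    hQ.closure_subset_iff.2 (Set.singleton_subset_iff.2 he)
  refine le_trans ?_ (dim_subset_le h1)
  have hemb : IsEmbedding (Subtype.val : ↥(O ∩ F) → C) := IsEmbedding.subtypeVal
  have himg : (Subtype.val : ↥(O ∩ F) → C) '' closure ({e} : Set ↥(O ∩ F)) =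
      closure ({e.1} : Set C) ∩ (O ∩ F) := by
    rw [hemb.closure_eq_preimage_closure_image, Set.image_singleton,
      Set.image_preimage_eq_inter_range, Subtype.range_coe]
  have e' := hemb.homeomorphImage (closure ({e} : Set ↥(O ∩ F)))
  rw [e'.isHomeomorph.topologicalKrullDim_eq, himg,
    dim_closure_inter_locallyClosed k g O F hO hF e.1 e.2]

end Groth.Agent.Helper5.DimStrat
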