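import Mathlib
import Groth.Agent.Helper5.DimStrat9
import Groth.Prelude.Def_RegImm

set_option autoImplicit false
set_option linter.style.haveILetI false
set_option linter.unusedSectionVars false
set_option linter.deprecated false
universe u
open CategoryTheory CategoryTheory.Limits AlgebraicGeometry TopologicalSpace Topology

namespace Groth.Agent.Helper5.DimStrat

open Groth.Agent.Helper5.LocDim Groth.Agent.Helper5.StalkDict Groth.Agent.Helper5.CycDim

set_option maxHeartbeats 2000000 in
/-- S14481 -/
theorem s14481 (k : Type u) [Field k] (C X W : Scheme.{u})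
    (q : X ⟶ Spec (CommRingCat.of k)) (π : C ⟶ X) (ι : W ⟶ X)
    [LocallyOfFiniteType q] [CompactSpace X] [LocallyOfFiniteType π] [CompactSpace C]
    (κ : RegImm.Kind) (n c : ℕ) (hι : RegImm.IsRegularImmersionOfCodim κ c ι)
    (hC : ∀ P ∈ irreducibleComponents (C : Type u), topologicalKrullDim P = n) :
    (∀ P ∈ irreducibleComponents (C : Type u),
        ∀ Q ∈ irreducibleComponents (P ∩ π ⁻¹' Set.range ι : Set C),
        topologicalKrullDim Q + (c : WithBot ℕ∞) = n) ↔
      topologicalKrullDim (π ⁻¹' Set.range ι : Set C) + (c : WithBot ℕ∞) ≤ n := by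
  haveI hXN : IsLocallyNoetherian X := LocallyOfFiniteType.isLocallyNoetherian q
  haveI hCN : IsLocallyNoetherian C := LocallyOfFiniteType.isLocallyNoetherian π
  haveI : IsNoetherian C := { }
  haveI : IsNoetherian X := { }
  haveI : IsImmersion ι := hι.1
  haveI : NoetherianSpace W := ι.isEmbedding.isInducing.noetherianSpace
  haveI : QuasiCompact ι := inferInstance
  haveI hg : LocallyOfFiniteType (π ≫ q) := inferInstance
  set E : Set C := π ⁻¹' Set.range ι with hE
  have hElc : IsLocallyClosed E := (ι.isLocallyClosed_range).preimage π.continuous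
  have hTlc : ∀ P ∈ irreducibleComponents (C : Type u), IsLocallyClosed (P ∩ E) := fun P hP =>
    (isClosed_of_mem_irreducibleComponents P hP).isLocallyClosed.inter hElc
  constructor
  · -- (a) ⇒ (b)
    intro ha
    have hpt : ∀ e ∈ E, δ k (π ≫ q) e + c ≤ n := by
      intro e he
      let P : Set C := irreducibleComponent e
      have hP : P ∈ irreducibleComponents (C : Type u) := irreducibleComponent_mem_irreducibleComponents e
      let e' : ↥(P ∩ E) := ⟨e, mem_irreducibleComponent, he⟩
      let Q : Set ↥(P ∩ E) := irreducibleComponent e'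
      have hQ : Q ∈ irreducibleComponents ↥(P ∩ E) := irreducibleComponent_mem_irreducibleComponents e'
      have h1 := ha P hP Q hQ
      have h2 := δ_le_dim_of_mem k (π ≫ q) (P ∩ E) (hTlc P hP) Q isClosed_irreducibleComponent e'
        mem_irreducibleComponent
      have h3 : (δ k (π ≫ q) e : WithBot ℕ∞) + (c : WithBot ℕ∞) ≤ n := by
        rw [← h1]
        exact add_le_add_left h2 _
      exact_mod_cast h3
    rcases E.eq_empty_or_nonempty with hemp | ⟨e₀, he₀⟩
    · rw [hemp, Groth.Agent.Helper5.MaxPt.dim_empty_eq_bot]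
      simp
    · have h0 := hpt e₀ he₀
      have hle : topologicalKrullDim ↥E ≤ ((n - c : ℕ) : WithBot ℕ∞) := by
        rw [dim_locallyClosed_le_iff' k (π ≫ q) E hElc]
        intro t ht
        have := hpt t ht
        have : δ k (π ≫ q) t ≤ n - c := by omega
        exact_mod_cast this
      calc topologicalKrullDim ↥E + (c : WithBot ℕ∞)
          ≤ ((n - c : ℕ) : WithBot ℕ∞) + (c : WithBot ℕ∞) := add_le_add_left hle _
        _ = (n : WithBot ℕ∞) := by
          have : n - c + c = n := by omega
          exact_mod_cast this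
  · -- (b) ⇒ (a)
    intro hb P hP Q hQ
    have hPcl : IsClosed P := isClosed_of_mem_irreducibleComponents P hP
    have hQcl : IsClosed Q := isClosed_of_mem_irreducibleComponents Q hQ
    apply le_antisymm
    · have h1 : topologicalKrullDim ↥Q ≤ topologicalKrullDim ↥(P ∩ E) :=
        topologicalKrullDim_subspace_le _ _
      have h2 : topologicalKrullDim ↥(P ∩ E) ≤ topologicalKrullDim ↥E :=
        dim_subset_le Set.inter_subset_right
      exact (add_le_add_left (h1.trans h2) _).trans hb
    · -- the generic point of `Q`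
      have hQirr : IsIrreducible Q := hQ.1
      let Q' : Set C := Subtype.val '' Q
      have hQ'irr : IsIrreducible Q' := hQirr.image _ continuous_subtype_val.continuousOn
      have hQ'T : Q' ⊆ P ∩ E := by
        rintro _ ⟨t, -, rfl⟩; exact t.2
      obtain ⟨ξ, hξ⟩ := QuasiSober.sober hQ'irr.closure isClosed_closure
      have hξT : ξ ∈ P ∩ E :=
        genStable_of_isLocallyClosed (P ∩ E) (hTlc P hP) Q' hQ'T hQ'irr ξ hξ
      have hξQ : (⟨ξ, hξT⟩ : ↥(P ∩ E)) ∈ Q := by
        have h1 : closure Q = Q := hQcl.closure_eq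
        rw [← h1, IsInducing.subtypeVal.closure_eq_preimage_closure_image]
        exact hξ.mem
      have hmaxT : ∀ ζ ∈ P ∩ E, ζ ⤳ ξ → ζ = ξ := by
        intro ζ hζ hζξ
        let S : Set ↥(P ∩ E) := closure {⟨ζ, hζ⟩}
        have hSirr : IsIrreducible S := isIrreducible_singleton.closure
        have hQS : Q ≤ S := by
          intro q' hq'
          have h1 : q'.1 ∈ closure ({ξ} : Set C) := by
            rw [hξ.def]
            exact subset_closure ⟨q', hq', rfl⟩
          have h2 : ξ ⤳ q'.1 := specializes_iff_mem_closure.2 h1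
          have h3 : ζ ⤳ q'.1 := hζξ.trans h2
          have h4 : (⟨ζ, hζ⟩ : ↥(P ∩ E)) ⤳ q' :=
            (IsInducing.subtypeVal.specializes_iff).1 h3
          exact specializes_iff_mem_closure.1 h4
        have hSQ : S ≤ Q := hQ.2 hSirr hQS
        have hζQ : (⟨ζ, hζ⟩ : ↥(P ∩ E)) ∈ Q := hSQ (subset_closure rfl)
        have h1 : ζ ∈ closure ({ξ} : Set C) := by
          rw [hξ.def]
          exact subset_closure ⟨⟨ζ, hζ⟩, hζQ, rfl⟩
        have h2 : ξ ⤳ ζ := specializes_iff_mem_closure.2 h1
        exact (hζξ.antisymm h2).eq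
      -- the generic point of `P`
      obtain ⟨η, hη⟩ := QuasiSober.sober hP.1 hPcl
      have hηξ : η ⤳ ξ := by
        rw [specializes_iff_mem_closure, hη.def]; exact hξT.1
      have hδη : δ k (π ≫ q) η = n := by
        have h1 := (δ_spec k (π ≫ q) η).1
        rw [hη.def, hC P hP] at h1
        exact_mod_cast h1.symm
      -- the local equations
      obtain ⟨w, hw⟩ : π ξ ∈ Set.range ι := hξT.2
      obtain ⟨U, hwU, hcl, rs, hlen, -, hker⟩ := hι.2 w
      have hξU : π ξ ∈ U.1 := by rw [← hw]; exact hwU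
      have hmax : ∀ ζ : C, η ⤳ ζ → ζ ⤳ ξ → π ζ ∈ Set.range ι → ζ = ξ := by
        intro ζ h1 h2 h3
        refine hmaxT ζ ⟨?_, h3⟩ h2
        rw [← hη.def]
        exact specializes_iff_mem_closure.1 h1
      have hK := krull_bound k q π ι c U hcl rs hlen hker ξ η hηξ hξU ⟨w, hw⟩ hmax
      have h4 := δ_le_dim_of_mem k (π ≫ q) (P ∩ E) (hTlc P hP) Q hQcl ⟨ξ, hξT⟩ hξQ
      rw [hδη] at hK
      calc (n : WithBot ℕ∞) ≤ ((δ k (π ≫ q) ξ + c : ℕ) : WithBot ℕ∞) := by exact_mod_cast hK
        _ = (δ k (π ≫ q) ξ : WithBot ℕ∞) + (c : WithBot ℕ∞) := by push_cast; rfl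
        _ ≤ topologicalKrullDim ↥Q + (c : WithBot ℕ∞) := add_le_add_left h4 _

end Groth.Agent.Helper5.DimStrat
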