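import Mathlib

set_option autoImplicit false
set_option linter.style.haveILetI false
set_option linter.unusedSectionVars false
set_option linter.unusedVariables false
universe u
open CategoryTheory CategoryTheory.Limits AlgebraicGeometry Opposite TopologicalSpace

namespace Groth.Agent.Helper5.UnrLoc

/-- unramifiedness at a point: the stalk map is formally unramified -/
def UnramAt {X Y : Scheme.{u}} (f : X ⟶ Y) (x : X) : Prop :=
  (f.stalkMap x).hom.FormallyUnramified

theorem unramAt_congr {X Y : Scheme.{u}} {f g : X ⟶ Y} (h : f = g) (x : X) (hf : UnramAt f x) :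
    UnramAt g x := by subst h; exact hf

theorem unramAt_comp {X Y Z : Scheme.{u}} (f : X ⟶ Y) (g : Y ⟶ Z) (x : X) (hf : UnramAt f x)
    (hg : UnramAt g (f x)) : UnramAt (f ≫ g) x := by
  unfold UnramAt
  rw [Scheme.Hom.stalkMap_comp]
  exact RingHom.FormallyUnramified.comp hg hf

theorem unramAt_of_comp {X Y Z : Scheme.{u}} (f : X ⟶ Y) (g : Y ⟶ Z) (x : X)
    (h : UnramAt (f ≫ g) x) : UnramAt f x := by
  unfold UnramAt at h ⊢
  rw [Scheme.Hom.stalkMap_comp] at h
  exact RingHom.FormallyUnramified.of_comp h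

theorem unramAt_of_formallyUnramified {X Y : Scheme.{u}} (f : X ⟶ Y) [FormallyUnramified f]
    (x : X) : UnramAt f x :=
  FormallyUnramified.stalkMap f x

theorem formallyUnramified_iff_forall {X Y : Scheme.{u}} (f : X ⟶ Y) :
    FormallyUnramified f ↔ ∀ x, UnramAt f x :=
  ⟨fun _ x => unramAt_of_formallyUnramified f x, fun H =>
    HasRingHomProperty.of_stalkMap RingHom.FormallyUnramified.ofLocalizationPrime H⟩

/-- pointwise comparison on an affine chart -/
theorem unramAt_iff_affine {X Y : Scheme.{u}} {f : X ⟶ Y} {x : X} (U : Y.Opens)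
    (hU : IsAffineOpen U) (V : X.Opens) (hV : IsAffineOpen V) (hVU : V ≤ f ⁻¹ᵁ U)
    (hx : x ∈ V) :
    letI := (f.appLE U V hVU).hom.toAlgebra
    UnramAt f x ↔ hV.primeIdealOf ⟨x, hx⟩ ∈ Algebra.unramifiedLocus Γ(Y, U) Γ(X, V) := by
  let := (f.appLE U V hVU).hom.toAlgebra
  let p := (hU.primeIdealOf ⟨f x, hVU hx⟩).asIdeal
  let q := (hV.primeIdealOf ⟨x, hx⟩).asIdeal
  have : q.LiesOver p :=
    ⟨congr($(IsAffineOpen.comap_primeIdealOf_appLE U hU V hV hVU hx).1).symm⟩
  let := Localization.AtPrime.algebraOfLiesOver p q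
  trans Algebra.FormallyUnramified (Localization.AtPrime p) (Localization.AtPrime q)
  · rw [← RingHom.formallyUnramified_algebraMap]
    exact RingHom.FormallyUnramified.respectsIso.arrow_mk_iso_iff
      (IsAffineOpen.arrowStalkMapIso f U hU V hV hVU hx)
  · constructor
    · intro h
      show Algebra.FormallyUnramified Γ(Y, U) (Localization.AtPrime q)
      haveI : Algebra.FormallyUnramified Γ(Y, U) (Localization.AtPrime p) :=
        Algebra.FormallyUnramified.of_isLocalization p.primeCompl
      exact Algebra.FormallyUnramified.comp Γ(Y, U) (Localization.AtPrime p)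
        (Localization.AtPrime q)
    · intro h
      have h' : Algebra.FormallyUnramified Γ(Y, U) (Localization.AtPrime q) := h
      exact Algebra.FormallyUnramified.of_restrictScalars Γ(Y, U) (Localization.AtPrime p)
        (Localization.AtPrime q)

theorem isOpen_unramAt {X Y : Scheme.{u}} (f : X ⟶ Y) [LocallyOfFiniteType f] :
    IsOpen {x : X | UnramAt f x} := by
  rw [isOpen_iff_forall_mem_open]
  intro x hx
  obtain ⟨_, ⟨U, hU, rfl⟩, hxU, -⟩ :=
    Y.isBasis_affineOpens.exists_subset_of_mem_open (Set.mem_univ (f x)) isOpen_univ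
  obtain ⟨_, ⟨V, hV, rfl⟩, hxV, hVU⟩ :=
    X.isBasis_affineOpens.exists_subset_of_mem_open hxU (U.2.preimage f.continuous)
  have hft := f.finiteType_appLE hU hV hVU
  algebraize [(f.appLE U V hVU).hom]
  have hopen := Algebra.isOpen_unramifiedLocus (R := Γ(Y, U)) (A := Γ(X, V))
  refine ⟨Subtype.val '' ((fun y : V => IsAffineOpen.primeIdealOf hV y) ⁻¹'
    (Algebra.unramifiedLocus Γ(Y, U) Γ(X, V))), ?_, ?_, ?_⟩
  · rintro _ ⟨y, hy, rfl⟩
    exact (unramAt_iff_affine U hU V hV hVU y.2).2 hy
  · exact V.2.isOpenEmbedding_subtypeVal.isOpenMap _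
      (hopen.preimage (IsAffineOpen.isoSpec hV).hom.continuous)
  · exact ⟨⟨x, hxV⟩, (unramAt_iff_affine U hU V hV hVU hxV).1 hx, rfl⟩

/-- a morphism is formally unramified on an open contained in the unramified locus -/
theorem formallyUnramified_ι_comp {X Y : Scheme.{u}} (f : X ⟶ Y) (W : X.Opens)
    (hW : ∀ x ∈ W, UnramAt f x) : FormallyUnramified (W.ι ≫ f) := by
  rw [formallyUnramified_iff_forall]
  intro x
  exact unramAt_comp W.ι f x (unramAt_of_formallyUnramified W.ι x) (hW _ x.2)

/-- unramifiedness at a point only depends on a neighbourhood -/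
theorem unramAt_of_ι_comp {X Y : Scheme.{u}} (f : X ⟶ Y) (W : X.Opens) (x : X) (hx : x ∈ W)
    (h : UnramAt (W.ι ≫ f) ⟨x, hx⟩) : UnramAt f x := by
  unfold UnramAt at h ⊢
  rw [Scheme.Hom.stalkMap_comp] at h
  have h2 := (RingHom.FormallyUnramified.respectsIso.cancel_right_isIso _
    (W.ι.stalkMap ⟨x, hx⟩)).1 (by rw [← CommRingCat.hom_comp]; exact h)
  exact h2

open TensorProduct in
/-- descent of formal unramifiedness along a faithfully flat formally étale extension on top -/
theorem formallyUnramified_of_comp_etale (C D D' : Type u) [CommRing C] [CommRing D] [CommRing D']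
    [Algebra C D] [Algebra D D'] [Algebra C D'] [IsScalarTower C D D'] [Algebra.FormallyEtale D D']
    [Module.FaithfullyFlat D D'] [Algebra.FormallyUnramified C D'] :
    Algebra.FormallyUnramified C D := by
  rw [Algebra.formallyUnramified_iff]
  have h1 : Subsingleton Ω[D'⁄C] := (Algebra.formallyUnramified_iff C D').1 inferInstance
  have h2 : Subsingleton (D' ⊗[D] Ω[D⁄C]) :=
    (KaehlerDifferential.tensorKaehlerEquivOfFormallyEtale C D D').toEquiv.subsingleton
  exact Module.FaithfullyFlat.lTensor_reflects_triviality D D' _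

theorem ringHom_formallyUnramified_of_comp_etale {C D D' : Type u} [CommRing C] [CommRing D]
    [CommRing D'] (φ : C →+* D) (ψ : D →+* D') (hψ1 : ψ.FormallyEtale) (hψ2 : ψ.FaithfullyFlat)
    (h : (ψ.comp φ).FormallyUnramified) : φ.FormallyUnramified := by
  algebraize [φ, ψ, ψ.comp φ]
  exact formallyUnramified_of_comp_etale C D D'

theorem formallyEtale_stalkMap_of_etale {A' A : Scheme.{u}} (e : A' ⟶ A) [Etale e] (x : A') :
    (e.stalkMap x).hom.FormallyEtale := by
  have h1 : (e.stalkMap x).hom.FormallySmooth := by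
    have : x ∈ e.smoothLocus := by rw [Scheme.Hom.smoothLocus_eq_top]; trivial
    exact this
  have h2 : (e.stalkMap x).hom.FormallyUnramified := FormallyUnramified.stalkMap e x
  algebraize [(e.stalkMap x).hom]
  exact Algebra.FormallyEtale.iff_formallyUnramified_and_formallySmooth.mpr ⟨h2, h1⟩

theorem faithfullyFlat_stalkMap_of_flat {A' A : Scheme.{u}} (e : A' ⟶ A) [Flat e] (x : A') :
    (e.stalkMap x).hom.FaithfullyFlat := by
  have h2 : (e.stalkMap x).hom.Flat := Flat.stalkMap e x
  algebraize [(e.stalkMap x).hom]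
  have : IsLocalHom (algebraMap (A.presheaf.stalk (e x)) (A'.presheaf.stalk x)) := by
    show IsLocalHom (e.stalkMap x).hom
    infer_instance
  exact (RingHom.faithfullyFlat_algebraMap_iff).2 Module.FaithfullyFlat.of_flat_of_isLocalHom

/-- descent of unramifiedness at a point along an étale morphism on the source -/
theorem unramAt_of_precomp_etale {A' A B : Scheme.{u}} (e : A' ⟶ A) [Etale e] (s : A ⟶ B)
    (x' : A') (h : UnramAt (e ≫ s) x') : UnramAt s (e x') := by
  unfold UnramAt at h ⊢
  rw [Scheme.Hom.stalkMap_comp] at h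
  exact ringHom_formallyUnramified_of_comp_etale _ _ (formallyEtale_stalkMap_of_etale e x')
    (faithfullyFlat_stalkMap_of_flat e x') h

theorem unramAt_precomp_etale_iff {A' A B : Scheme.{u}} (e : A' ⟶ A) [Etale e] (s : A ⟶ B)
    (x' : A') : UnramAt (e ≫ s) x' ↔ UnramAt s (e x') :=
  ⟨unramAt_of_precomp_etale e s x', fun h =>
    unramAt_comp e s x' (unramAt_of_formallyUnramified e x') h⟩

theorem unramAt_postcomp_etale_iff {A B C : Scheme.{u}} (s : A ⟶ B) (e : B ⟶ C) [Etale e] (x : A) :
    UnramAt (s ≫ e) x ↔ UnramAt s x :=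
  ⟨unramAt_of_comp s e x, fun h => unramAt_comp s e x h (unramAt_of_formallyUnramified e (s x))⟩

end Groth.Agent.Helper5.UnrLoc
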