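import Groth.Agent.S6284
import Groth.Agent.Helper5.UnrLoc1
import Mathlib

set_option autoImplicit false
set_option linter.style.haveILetI false
set_option linter.unusedSectionVars false
set_option linter.unusedVariables false
universe u
open CategoryTheory CategoryTheory.Limits AlgebraicGeometry Opposite TopologicalSpace

namespace Groth.Agent.Helper5.UnrLoc

open TensorProduct in
/-- the unramified locus commutes with base change (finite type case) -/
theorem unramifiedLocus_baseChange (R R' A A' : Type u) [CommRing R] [CommRing R'] [CommRing A]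
    [CommRing A'] [Algebra R R'] [Algebra R A] [Algebra R' A'] [Algebra A A'] [Algebra R A']
    [IsScalarTower R R' A'] [IsScalarTower R A A'] [Algebra.IsPushout R R' A A']
    [Algebra.FiniteType R A] :
    Algebra.unramifiedLocus R' A' =
      PrimeSpectrum.comap (algebraMap A A') ⁻¹' Algebra.unramifiedLocus R A := by
  rw [Algebra.unramifiedLocus_eq_compl_support, Algebra.unramifiedLocus_eq_compl_support,
    Set.preimage_compl, ← (KaehlerDifferential.tensorKaehlerEquiv R R' A A').support_eq,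
    Groth.Agent.S6284.result]

set_option backward.isDefEq.respectTransparency.types false in
/-- base change of the unramified locus, for a pullback square of affine schemes -/
theorem unramAt_baseChange_iff_affine {A B A' B' : Scheme.{u}} [IsAffine A] [IsAffine B]
    [IsAffine B'] (s : A ⟶ B) [LocallyOfFiniteType s] (g : B' ⟶ B) (g' : A' ⟶ A) (s' : A' ⟶ B')
    (sq : IsPullback g' s' s g) (x' : A') : UnramAt s' x' ↔ UnramAt s (g' x') := by
  haveI : IsAffine A' := IsAffine.of_isPullback sq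
  have hpo : IsPushout s.appTop g.appTop g'.appTop s'.appTop := isPushout_appTop_of_isPullback sq
  have e1 : s.appLE ⊤ ⊤ le_top = s.appTop := by simp [Scheme.Hom.appLE]
  have e2 : g.appLE ⊤ ⊤ le_top = g.appTop := by simp [Scheme.Hom.appLE]
  have e3 : g'.appLE ⊤ ⊤ le_top = g'.appTop := by simp [Scheme.Hom.appLE]
  have e4 : s'.appLE ⊤ ⊤ le_top = s'.appTop := by simp [Scheme.Hom.appLE]
  rw [← e1, ← e2, ← e3, ← e4] at hpo
  have hft : (s.appLE ⊤ ⊤ le_top).hom.FiniteType :=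
    s.finiteType_appLE (isAffineOpen_top B) (isAffineOpen_top A) le_top
  rw [unramAt_iff_affine ⊤ (isAffineOpen_top B') ⊤ (isAffineOpen_top A') le_top trivial,
    unramAt_iff_affine ⊤ (isAffineOpen_top B) ⊤ (isAffineOpen_top A) le_top trivial]
  letI i1 : Algebra Γ(B, ⊤) Γ(A, ⊤) := (s.appLE ⊤ ⊤ le_top).hom.toAlgebra
  letI i2 : Algebra Γ(B, ⊤) Γ(B', ⊤) := (g.appLE ⊤ ⊤ le_top).hom.toAlgebra
  letI i3 : Algebra Γ(A, ⊤) Γ(A', ⊤) := (g'.appLE ⊤ ⊤ le_top).hom.toAlgebra
  letI i4 : Algebra Γ(B', ⊤) Γ(A', ⊤) := (s'.appLE ⊤ ⊤ le_top).hom.toAlgebra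
  letI i5 : Algebra Γ(B, ⊤) Γ(A', ⊤) :=
    ((g'.appLE ⊤ ⊤ le_top).hom.comp (s.appLE ⊤ ⊤ le_top).hom).toAlgebra
  haveI t1 : IsScalarTower Γ(B, ⊤) Γ(A, ⊤) Γ(A', ⊤) := IsScalarTower.of_algebraMap_eq fun r => rfl
  haveI t2 : IsScalarTower Γ(B, ⊤) Γ(B', ⊤) Γ(A', ⊤) := IsScalarTower.of_algebraMap_eq fun r => by
    have := congr($(hpo.w).hom r)
    exact this
  haveI : Algebra.FiniteType Γ(B, ⊤) Γ(A, ⊤) := hft
  haveI : Algebra.IsPushout Γ(B, ⊤) Γ(B', ⊤) Γ(A, ⊤) Γ(A', ⊤) :=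
    CommRingCat.isPushout_iff_isPushout.1 hpo.flip
  rw [unramifiedLocus_baseChange Γ(B, ⊤) Γ(B', ⊤) Γ(A, ⊤) Γ(A', ⊤), Set.mem_preimage]
  have hc := IsAffineOpen.comap_primeIdealOf_appLE (f := g') (x := x') ⊤ (isAffineOpen_top A) ⊤
    (isAffineOpen_top A') le_top trivial
  rw [← hc]
  rfl

theorem exists_affineOpen_mem {X : Scheme.{u}} (W : X.Opens) (x : X) (hx : x ∈ W) :
    ∃ V : X.Opens, IsAffineOpen V ∧ x ∈ V ∧ V ≤ W := by
  obtain ⟨_, ⟨V, hV, rfl⟩, hxV, hVW⟩ :=
    X.isBasis_affineOpens.exists_subset_of_mem_open hx W.2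
  exact ⟨V, hV, hxV, hVW⟩

set_option backward.isDefEq.respectTransparency.types false in
/-- **the unramified locus commutes with arbitrary base change** (finite type case) -/
theorem unramAt_baseChange_iff {A B A' B' : Scheme.{u}} (s : A ⟶ B) [LocallyOfFiniteType s]
    (g : B' ⟶ B) (g' : A' ⟶ A) (s' : A' ⟶ B') (sq : IsPullback g' s' s g) (x' : A') :
    UnramAt s' x' ↔ UnramAt s (g' x') := by
  obtain ⟨U, hU, hxU, -⟩ := exists_affineOpen_mem (⊤ : B.Opens) (s (g' x')) trivial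
  have hxU' : s' x' ∈ g ⁻¹ᵁ U := by
    show g (s' x') ∈ U
    rw [← Scheme.Hom.comp_apply, ← sq.w, Scheme.Hom.comp_apply]; exact hxU
  obtain ⟨U', hU', hxU'', hU'U⟩ := exists_affineOpen_mem (g ⁻¹ᵁ U) (s' x') hxU'
  obtain ⟨V, hV, hxV, hVU⟩ := exists_affineOpen_mem (s ⁻¹ᵁ U) (g' x') hxU
  haveI : IsAffine (U : Scheme) := hU
  haveI : IsAffine (U' : Scheme) := hU'
  haveI : IsAffine (V : Scheme) := hV
  obtain ⟨sV, hsV⟩ : ∃ sV : (V : Scheme) ⟶ (U : Scheme), sV = s.resLE U V hVU := ⟨_, rfl⟩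
  obtain ⟨gU, hgU⟩ : ∃ gU : (U' : Scheme) ⟶ (U : Scheme), gU = g.resLE U U' hU'U := ⟨_, rfl⟩
  have c1 : sV ≫ U.ι = V.ι ≫ s := by rw [hsV]; exact Scheme.Hom.resLE_comp_ι _ _
  have c2 : gU ≫ U.ι = U'.ι ≫ g := by rw [hgU]; exact Scheme.Hom.resLE_comp_ι _ _
  haveI : LocallyOfFiniteType sV := by
    haveI : LocallyOfFiniteType (sV ≫ U.ι) := by rw [c1]; infer_instance
    exact locallyOfFiniteType_of_comp sV U.ι
  obtain ⟨m, hm⟩ : ∃ m : pullback sV gU ⟶ pullback s g,
    m = pullback.map sV gU s g V.ι U'.ι U.ι c1 c2 := ⟨_, rfl⟩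
  haveI : IsOpenImmersion m := by rw [hm]; infer_instance
  have hm1 : m ≫ pullback.fst s g = pullback.fst sV gU ≫ V.ι := by
    rw [hm]; exact pullback.lift_fst _ _ _
  have hm2 : m ≫ pullback.snd s g = pullback.snd sV gU ≫ U'.ι := by
    rw [hm]; exact pullback.lift_snd _ _ _
  obtain ⟨ι, hι⟩ : ∃ ι : pullback sV gU ⟶ A', ι = m ≫ sq.isoPullback.inv := ⟨_, rfl⟩
  haveI : IsOpenImmersion ι := by rw [hι]; infer_instance
  have hι1 : ι ≫ g' = pullback.fst sV gU ≫ V.ι := by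
    rw [hι, Category.assoc, sq.isoPullback_inv_fst, hm1]
  have hι2 : ι ≫ s' = pullback.snd sV gU ≫ U'.ι := by
    rw [hι, Category.assoc, sq.isoPullback_inv_snd, hm2]
  -- the point lies in the open
  have hz : sq.isoPullback.hom x' ∈ Set.range m := by
    rw [hm, Scheme.Pullback.range_map]
    refine ⟨?_, ?_⟩
    · rw [Set.mem_preimage, ← Scheme.Hom.comp_apply, sq.isoPullback_hom_fst]
      simpa using hxV
    · rw [Set.mem_preimage, ← Scheme.Hom.comp_apply, sq.isoPullback_hom_snd]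
      simpa using hxU''
  obtain ⟨z, hz⟩ := hz
  have hzx : ι z = x' := by
    rw [hι, Scheme.Hom.comp_apply, hz, ← Scheme.Hom.comp_apply, Iso.hom_inv_id]
    rfl
  have hzx2 : V.ι (pullback.fst sV gU z) = g' x' := by
    rw [← hzx, ← Scheme.Hom.comp_apply, ← Scheme.Hom.comp_apply, hι1]
  rw [← hzx2, ← hzx, ← unramAt_precomp_etale_iff ι s' z, ← unramAt_precomp_etale_iff V.ι s]
  have k1 : UnramAt (ι ≫ s') z ↔ UnramAt (pullback.snd sV gU) z := by
    constructor
    · intro h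
      exact (unramAt_postcomp_etale_iff _ U'.ι z).1 (unramAt_congr hι2 z h)
    · intro h
      exact unramAt_congr hι2.symm z ((unramAt_postcomp_etale_iff _ U'.ι z).2 h)
  have k2 : UnramAt (V.ι ≫ s) (pullback.fst sV gU z) ↔ UnramAt sV (pullback.fst sV gU z) := by
    constructor
    · intro h
      exact (unramAt_postcomp_etale_iff _ U.ι _).1 (unramAt_congr c1.symm _ h)
    · intro h
      exact unramAt_congr c1 _ ((unramAt_postcomp_etale_iff _ U.ι _).2 h)
  rw [k1, k2]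
  exact unramAt_baseChange_iff_affine sV gU (pullback.fst sV gU) (pullback.snd sV gU)
    (IsPullback.of_hasPullback _ _) z

end Groth.Agent.Helper5.UnrLoc
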