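import Groth.Agent.Helper5.Where1
import Groth.Agent.Helper5.AlgSpNoeth
import Mathlib

set_option autoImplicit false
set_option linter.style.haveILetI false
set_option linter.unusedSectionVars false
set_option linter.unusedVariables false
universe u
open CategoryTheory CategoryTheory.Limits AlgebraicGeometry Opposite

namespace Groth.Agent.Helper5.Where

open AlgSp Groth.Agent.Helper4 Groth.Agent.Helper5.GorSp Groth.Agent.Helper5.FlatSp
  Groth.Agent.Helper5.FlatBC

variable {S : Scheme.{u}}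

/-- an open subset of the points of an algebraic space is classified by an open subspace -/
theorem exists_open_classifier (Z : AlgSp.Space S) (O : Set (Points Z.obj)) (hO : IsOpen O) :
    ∃ (W : AlgSp.Space S) (w : W ⟶ Z), AlgSp.RepWith @IsOpenImmersion w.hom ∧
      ∀ (Z' : AlgSp.Space S) (g : Z' ⟶ Z),
        (∃ k : Z' ⟶ W, k ≫ w = g) ↔ Set.range (Points.map g.hom) ⊆ O := by
  obtain ⟨W₀, j, hW₀, hj, hrange⟩ :=
    Groth.Agent.Helper5.AlgSpOpen.exists_open_subspace Z.property _ hO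
  refine ⟨⟨W₀, hW₀⟩, ObjectProperty.homMk j, hj, fun Z' g => ⟨?_, fun h => ?_⟩⟩
  · rintro ⟨k, rfl⟩
    rw [← hrange]
    rintro _ ⟨z', rfl⟩
    exact ⟨Points.map k.hom z', by rw [← Points.map_comp]; rfl⟩
  · rw [← hrange] at h
    obtain ⟨k, hk⟩ := Groth.Agent.Helper5.AlgSpIso.exists_factor_open j hj g.hom h
    exact ⟨ObjectProperty.homMk k, by ext1; exact hk⟩

/-- base changes exist -/
theorem exists_baseChange {X Y Z Z' : AlgSp.Space S} (f : X ⟶ Y) (q : Y ⟶ Z) (g : Z' ⟶ Z) :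
    ∃ (Y' : AlgSp.Space S) (gY : Y' ⟶ Y) (q' : Y' ⟶ Z') (X' : AlgSp.Space S) (gX : X' ⟶ X)
      (f' : X' ⟶ Y'), IsPullback gY.hom q'.hom q.hom g.hom ∧
        IsPullback gX.hom f'.hom f.hom gY.hom := by
  have sqY : IsPullback (pullback.fst q.hom g.hom) (pullback.snd q.hom g.hom) q.hom g.hom :=
    IsPullback.of_hasPullback _ _
  have hY' : IsAlgSpace (pullback q.hom g.hom) :=
    AlgSpPB.isAlgSpace_of_isPullback Z.property.diag Y.property Z'.property _ _ _ _ sqY
  have sqX : IsPullback (pullback.fst f.hom (pullback.fst q.hom g.hom))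
      (pullback.snd f.hom (pullback.fst q.hom g.hom)) f.hom (pullback.fst q.hom g.hom) :=
    IsPullback.of_hasPullback _ _
  have hX' : IsAlgSpace (pullback f.hom (pullback.fst q.hom g.hom)) :=
    AlgSpPB.isAlgSpace_of_isPullback Y.property.diag X.property hY' _ _ _ _ sqX
  exact ⟨⟨_, hY'⟩, ObjectProperty.homMk (pullback.fst q.hom g.hom),
    ObjectProperty.homMk (pullback.snd q.hom g.hom), ⟨_, hX'⟩,
    ObjectProperty.homMk (pullback.fst f.hom (pullback.fst q.hom g.hom)),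
    ObjectProperty.homMk (pullback.snd f.hom (pullback.fst q.hom g.hom)), sqY, sqX⟩

section bc

variable {X Y Z Z' Y' X' : AlgSp.Space S} (f : X ⟶ Y) (q : Y ⟶ Z) (g : Z' ⟶ Z)
  (gY : Y' ⟶ Y) (q' : Y' ⟶ Z') (gX : X' ⟶ X) (f' : X' ⟶ Y')
  (sqY : IsPullback gY.hom q'.hom q.hom g.hom) (sqX : IsPullback gX.hom f'.hom f.hom gY.hom)

include sqY sqX in
/-- a locus compatible with base change is everything on the base change iff the image of the base
avoids the image of the complement -/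
theorem preimage_eq_univ_iff (T : Set (Points X.obj)) :
    Points.map gX.hom ⁻¹' T = Set.univ ↔
      Set.range (Points.map g.hom) ⊆ (Points.map (f ≫ q).hom '' Tᶜ)ᶜ := by
  constructor
  · rintro H _ ⟨z', rfl⟩ ⟨x, hx, hxz⟩
    have e1 : Points.map q.hom (Points.map f.hom x) = Points.map g.hom z' := by
      rw [← hxz, ← Points.map_comp]; rfl
    obtain ⟨y', hy1, hy2⟩ :=
      Groth.Agent.Helper4.AlgSpPtsDesc.exists_point_of_isPullback sqY _ _ e1
    obtain ⟨x', hx1, hx2⟩ :=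
      Groth.Agent.Helper4.AlgSpPtsDesc.exists_point_of_isPullback sqX x y' hy1.symm
    have : x' ∈ Points.map gX.hom ⁻¹' T := by rw [H]; trivial
    rw [Set.mem_preimage, hx1] at this
    exact hx this
  · intro H
    ext x'
    simp only [Set.mem_preimage, Set.mem_univ, iff_true]
    by_contra hx
    have h1 : Points.map (f ≫ q).hom (Points.map gX.hom x') ∈
        Points.map (f ≫ q).hom '' Tᶜ := ⟨_, hx, rfl⟩
    have h2 : Points.map (f ≫ q).hom (Points.map gX.hom x') =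
        Points.map g.hom (Points.map q'.hom (Points.map f'.hom x')) := by
      have e : gX.hom ≫ (f ≫ q).hom = f'.hom ≫ q'.hom ≫ g.hom := by
        show gX.hom ≫ f.hom ≫ q.hom = f'.hom ≫ q'.hom ≫ g.hom
        rw [← Category.assoc, sqX.w, Category.assoc, sqY.w]
      rw [← Points.map_comp, e, Points.map_comp, Points.map_comp]
    exact H ⟨_, h2.symm⟩ h1

include sqY sqX in
/-- surjectivity of the base change in terms of the image of the base -/
theorem isSurjectiveMor_iff :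
    IsSurjectiveMor f'.hom ↔
      Set.range (Points.map g.hom) ⊆ (Points.map q.hom '' (Set.range (Points.map f.hom))ᶜ)ᶜ := by
  constructor
  · rintro H _ ⟨z', rfl⟩ ⟨y, hy, hyz⟩
    obtain ⟨y', hy1, hy2⟩ :=
      Groth.Agent.Helper4.AlgSpPtsDesc.exists_point_of_isPullback sqY y z' hyz
    obtain ⟨x', rfl⟩ := H y'
    apply hy
    refine ⟨Points.map gX.hom x', ?_⟩
    rw [← hy1, ← Points.map_comp, ← Points.map_comp, sqX.w]
  · intro H y'
    have hy : Points.map gY.hom y' ∈ Set.range (Points.map f.hom) := by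
      by_contra hn
      have h1 : Points.map q.hom (Points.map gY.hom y') ∈
          Points.map q.hom '' (Set.range (Points.map f.hom))ᶜ := ⟨_, hn, rfl⟩
      have h2 : Points.map q.hom (Points.map gY.hom y') = Points.map g.hom (Points.map q'.hom y') := by
        rw [← Points.map_comp, ← Points.map_comp, sqY.w]
      exact H ⟨_, h2.symm⟩ h1
    obtain ⟨x, hx⟩ := hy
    obtain ⟨x', -, hx2⟩ :=
      Groth.Agent.Helper4.AlgSpPtsDesc.exists_point_of_isPullback sqX x y' hx
    exact ⟨x', hx2⟩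

end bc

/-- scheme level: the image of an open subset of the flat locus of a morphism locally of finite
presentation is open -/
theorem isOpen_image_of_flatAt {A B : Scheme.{u}} (s : A ⟶ B) [LocallyOfFinitePresentation s]
    (U₁ : A.Opens) (hU₁ : ∀ u ∈ U₁, FlatAt s u) : IsOpen (s '' (U₁ : Set A)) := by
  haveI : Flat (U₁.ι ≫ s) := by
    rw [Flat.iff_flat_stalkMap]
    intro x
    have := flatAt_comp U₁.ι s x (flatAt_of_flat U₁.ι x) (hU₁ _ x.2)
    exact this
  have h := (U₁.ι ≫ s).isOpenMap _ isOpen_univ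
  have e : (U₁.ι ≫ s) '' Set.univ = s '' (U₁ : Set A) := by
    ext y
    constructor
    · rintro ⟨x, -, rfl⟩
      exact ⟨U₁.ι x, by simp, by simp⟩
    · rintro ⟨x, hx, rfl⟩
      exact ⟨⟨x, hx⟩, trivial, by simp⟩
  rw [← e]; exact h

set_option backward.isDefEq.respectTransparency.types false in
/-- the image of an open subset of the flat locus under a morphism locally of finite presentation
is open -/
theorem isOpen_image_of_flat {X Y Z : AlgSp.Space S} (f : X ⟶ Y) (h : Y ⟶ Z)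
    (hfp : AlgSp.LocP @LocallyOfFinitePresentation (f ≫ h).hom)
    (hft : AlgSp.LocP @LocallyOfFiniteType h.hom)
    (O : Set (Points X.obj)) (hO : IsOpen O) (hOf : ∀ x ∈ O, IsFlatAtMor f.hom x) :
    IsOpen (Points.map f.hom '' O) := by
  obtain ⟨W, c, hce, hcs⟩ := Z.property.atlas
  obtain ⟨V, b, t, c2, hbe, -, -, hbs⟩ := exists_chart_over Y.property h.hom c hce
  obtain ⟨U, a, s, c1, hae, -, -, has⟩ := exists_chart_over X.property f.hom b hbe
  have c3 : a ≫ (f.hom ≫ h.hom) = (yon S).map (s ≫ t) ≫ c := by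
    rw [← Category.assoc, c1, Category.assoc, c2, Functor.map_comp, Category.assoc]
  have i1 : LocallyOfFinitePresentation (s.left ≫ t.left) := hfp a c (s ≫ t) hae hce c3
  have i3 : LocallyOfFiniteType t.left := hft b c t hbe hce c2
  haveI : LocallyOfFinitePresentation s.left :=
    Groth.Agent.Helper2.LfpComp.locallyOfFinitePresentation_of_comp s.left t.left i1 i3
  have hU₁ : IsOpen (Points.ofPt a ⁻¹' O) := hO.preimage (Points.continuous_ofPt a)
  have h1 : IsOpen (s.left '' (Points.ofPt a ⁻¹' O)) := by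
    refine isOpen_image_of_flatAt s.left ⟨_, hU₁⟩ ?_
    intro u hu
    exact (isFlatAtMor_iff_chart f.hom a b s hae hbe c1 u).1 (hOf _ hu)
  have h2 := Groth.Agent.Helper5.AlgSpNoeth.isOpenMap_ofPt Y.property b hbe _ h1
  have e : Points.ofPt b '' (s.left '' (Points.ofPt a ⁻¹' O)) = Points.map f.hom '' O := by
    have key : ∀ u : U.left, Points.ofPt b (s.left u) = Points.map f.hom (Points.ofPt a u) := by
      intro u
      rw [Points.map_ofPt, c1, Groth.Agent.Helper4.AlgSpPtsDesc.ofPt_yon_map_comp]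
    ext y
    constructor
    · rintro ⟨_, ⟨u, hu, rfl⟩, rfl⟩
      exact ⟨_, hu, (key u).symm⟩
    · rintro ⟨x, hx, rfl⟩
      obtain ⟨u, rfl⟩ := Groth.Agent.Helper5.AlgSpOpen.ofPt_surjective_of_repWith a
        (has (hbs hcs)) x
      exact ⟨_, ⟨u, hx, rfl⟩, key u⟩
  rw [← e]; exact h2

set_option backward.isDefEq.respectTransparency.types false in
theorem s10643 {X Y Z : AlgSp.Space S}
    (f : X ⟶ Y) (p : X ⟶ Z) (q : Y ⟶ Z) (hc : f ≫ q = p)
    (hp1 : AlgSp.LocP @LocallyOfFinitePresentation p.hom) (hp2 : AlgSp.LocP @Flat p.hom)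
    (hp3 : AlgSp.IsClosedMor p.hom) (hq1 : AlgSp.LocP @LocallyOfFiniteType q.hom)
    (hq2 : AlgSp.IsClosedMor q.hom) :
    ∃ (W : AlgSp.Space S) (w : W ⟶ Z), AlgSp.RepWith @IsOpenImmersion w.hom ∧
      ∀ (Z' : AlgSp.Space S) (g : Z' ⟶ Z),
        (∃ k : Z' ⟶ W, k ≫ w = g) ↔
          ∀ (Y' : AlgSp.Space S) (gY : Y' ⟶ Y) (q' : Y' ⟶ Z'),
            IsPullback gY.hom q'.hom q.hom g.hom →
            ∀ (X' : AlgSp.Space S) (gX : X' ⟶ X) (f' : X' ⟶ Y'),
              IsPullback gX.hom f'.hom f.hom gY.hom →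
                (AlgSp.IsSurjectiveMor f'.hom ∧ AlgSp.LocP @Flat f'.hom) := by
  subst hc
  obtain ⟨hopen, hbc⟩ := s10609 f q hp1 hp2 hq1
  obtain ⟨T₁, hT₁⟩ : ∃ T₁ : Set (Points X.obj), T₁ = {x | IsFlatAtMor f.hom x} := ⟨_, rfl⟩
  rw [← hT₁] at hopen
  obtain ⟨W₁, hW₁d⟩ : ∃ W₁ : Set (Points Z.obj), W₁ = (Points.map (f ≫ q).hom '' T₁ᶜ)ᶜ :=
    ⟨_, rfl⟩
  have hW₁ : IsOpen W₁ := by
    rw [hW₁d]; exact (hp3 _ hopen.isClosed_compl).isOpen_compl
  obtain ⟨X₁, hX₁d⟩ : ∃ X₁ : Set (Points X.obj), X₁ = Points.map (f ≫ q).hom ⁻¹' W₁ := ⟨_, rfl⟩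
  have hX₁ : IsOpen X₁ := by
    rw [hX₁d]; exact hW₁.preimage (Points.continuous_map _)
  have hX₁T : ∀ x ∈ X₁, IsFlatAtMor f.hom x := by
    intro x hx
    by_contra hn
    rw [hX₁d, Set.mem_preimage, hW₁d] at hx
    refine hx ⟨x, ?_, rfl⟩
    rw [hT₁]; exact hn
  have hfX₁ : IsOpen (Points.map f.hom '' X₁) := isOpen_image_of_flat f q hp1 hq1 X₁ hX₁ hX₁T
  obtain ⟨W₂, hW₂d⟩ : ∃ W₂ : Set (Points Z.obj),
    W₂ = (Points.map q.hom '' (Points.map f.hom '' X₁)ᶜ)ᶜ := ⟨_, rfl⟩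
  have hW₂ : IsOpen W₂ := by
    rw [hW₂d]; exact (hq2 _ hfX₁.isClosed_compl).isOpen_compl
  have key : ∀ z ∈ W₁,
      (z ∈ W₂ ↔ z ∈ (Points.map q.hom '' (Set.range (Points.map f.hom))ᶜ)ᶜ) := by
    intro z hz
    have hy : ∀ y, Points.map q.hom y = z →
        (y ∈ Points.map f.hom '' X₁ ↔ y ∈ Set.range (Points.map f.hom)) := by
      intro y hyz
      constructor
      · rintro ⟨x, -, rfl⟩; exact ⟨x, rfl⟩
      · rintro ⟨x, rfl⟩
        refine ⟨x, ?_, rfl⟩
        rw [hX₁d, Set.mem_preimage]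
        have : Points.map (f ≫ q).hom x = z := by
          rw [← hyz, ← Points.map_comp]; rfl
        rw [this]; exact hz
    rw [hW₂d]
    constructor
    · rintro h ⟨y, hy1, hy2⟩
      exact h ⟨y, fun h' => hy1 ((hy y hy2).1 h'), hy2⟩
    · rintro h ⟨y, hy1, hy2⟩
      exact h ⟨y, fun h' => hy1 ((hy y hy2).2 h'), hy2⟩
  obtain ⟨W, w, hw, H⟩ := exists_open_classifier Z (W₁ ∩ W₂) (hW₁.inter hW₂)
  refine ⟨W, w, hw, fun Z' g => ?_⟩
  rw [H Z' g, Set.subset_inter_iff]
  constructor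
  · rintro ⟨h1, h2⟩ Y' gY q' sqY X' gX f' sqX
    refine ⟨(isSurjectiveMor_iff f q g gY q' gX f' sqY sqX).2 ?_, ?_⟩
    · intro z hz; exact (key z (h1 hz)).1 (h2 hz)
    · rw [locP_flat_iff_forall]
      rw [hW₁d] at h1
      have h3 := (preimage_eq_univ_iff f q g gY q' gX f' sqY sqX T₁).2 h1
      intro x'
      have hx' : x' ∈ Points.map gX.hom ⁻¹' T₁ := by rw [h3]; trivial
      rw [hT₁, ← hbc X' Y' Z' g f' q' gX gY sqY sqX] at hx'
      exact hx'
  · intro Hall
    obtain ⟨Y', gY, q', X', gX, f', sqY, sqX⟩ := exists_baseChange f q g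
    obtain ⟨hs, hfl⟩ := Hall Y' gY q' sqY X' gX f' sqX
    have h1 : Set.range (Points.map g.hom) ⊆ W₁ := by
      rw [hW₁d]
      refine (preimage_eq_univ_iff f q g gY q' gX f' sqY sqX T₁).1 ?_
      rw [hT₁, ← hbc X' Y' Z' g f' q' gX gY sqY sqX, Set.eq_univ_iff_forall]
      exact (locP_flat_iff_forall _).1 hfl
    refine ⟨h1, ?_⟩
    intro z hz
    exact (key z (h1 hz)).2 ((isSurjectiveMor_iff f q g gY q' gX f' sqY sqX).1 hs hz)

end Groth.Agent.Helper5.Where
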