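import Groth.Agent.Helper5.PtLoc1
import Groth.Agent.Helper5.UnrLoc2
import Groth.Agent.Helper5.Where2
import Groth.Agent.Helper4.SDClasses
import Groth.Agent.S9952
import Mathlib

set_option autoImplicit false
set_option linter.style.haveILetI false
set_option linter.unusedSectionVars false
set_option linter.unusedVariables false
universe u
open CategoryTheory CategoryTheory.Limits AlgebraicGeometry Opposite

namespace Groth.Agent.Helper5.UnrLoc

open AlgSp Groth.Agent.Helper4 Groth.Agent.Helper5.PtLoc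

/-- unramifiedness at a point, in the shape used by `AlgSp.HasAtMor` -/
def QU : ∀ (A B : Scheme.{u}), (A ⟶ B) → ↥A → Prop := fun _ _ s x => UnramAt s x

theorem etLocal_QU : EtLocal QU.{u} :=
  ⟨fun e _ s x' => unramAt_precomp_etale_iff e s x', fun s e _ x => unramAt_postcomp_etale_iff s e x⟩

/-- the neighbourhood form of unramifiedness at a point agrees with the stalk form, for morphisms
locally of finite type -/
theorem nbhd_iff_unramAt {U V : Scheme.{u}} (h : U ⟶ V) [LocallyOfFiniteType h] (u : U) :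
    (∃ W : U.Opens, u ∈ W ∧ LocallyOfFiniteType (W.ι ≫ h) ∧ FormallyUnramified (W.ι ≫ h)) ↔
      UnramAt h u := by
  constructor
  · rintro ⟨W, hu, -, hW⟩
    exact unramAt_of_ι_comp h W u hu (unramAt_of_formallyUnramified (W.ι ≫ h) ⟨u, hu⟩)
  · intro hu
    refine ⟨⟨{x | UnramAt h x}, isOpen_unramAt h⟩, hu, inferInstance, ?_⟩
    exact formallyUnramified_ι_comp h _ fun x hx => hx

variable {S : Scheme.{u}}

theorem hasAtMor_nbhd_iff {X Y : Sp S} (f : X ⟶ Y) (hC : LocP @LocallyOfFiniteType f)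
    (x : Points X) :
    HasAtMor (fun U _ h u => ∃ W : U.Opens, u ∈ W ∧ LocallyOfFiniteType (W.ι ≫ h) ∧
      FormallyUnramified (W.ι ≫ h)) f x ↔ HasAtMor QU f x := by
  constructor
  · rintro ⟨U, V, a, b, h, u, ha, hb, comm, hu, hG⟩
    haveI : LocallyOfFiniteType h.left := hC a b h ha hb comm
    exact ⟨U, V, a, b, h, u, ha, hb, comm, hu, (nbhd_iff_unramAt h.left u).1 hG⟩
  · rintro ⟨U, V, a, b, h, u, ha, hb, comm, hu, hG⟩
    haveI : LocallyOfFiniteType h.left := hC a b h ha hb comm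
    exact ⟨U, V, a, b, h, u, ha, hb, comm, hu, (nbhd_iff_unramAt h.left u).2 hG⟩

theorem s10312 {X Y Z Z' Y' X' : AlgSp.Space S} (f : X ⟶ Y)
    (p : X ⟶ Z) (q : Y ⟶ Z) (comm : f ≫ q = p) (hp : AlgSp.LocP @LocallyOfFiniteType p.hom)
    (g : Z' ⟶ Z)
    (a : Y' ⟶ Y) (q' : Y' ⟶ Z') (sq1 : IsPullback a.hom q'.hom q.hom g.hom)
    (b : X' ⟶ X) (f' : X' ⟶ Y') (sq2 : IsPullback b.hom f'.hom f.hom a.hom) :
    IsOpen {x : AlgSp.Points X.obj | AlgSp.HasAtMor (fun U _ h u => ∃ W : U.Opens, u ∈ W ∧ LocallyOfFiniteType (W.ι ≫ h) ∧ FormallyUnramified (W.ι ≫ h)) f.hom x} ∧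
    {x' : AlgSp.Points X'.obj | AlgSp.HasAtMor (fun U _ h u => ∃ W : U.Opens, u ∈ W ∧ LocallyOfFiniteType (W.ι ≫ h) ∧ FormallyUnramified (W.ι ≫ h)) f'.hom x'} =
      AlgSp.Points.map b.hom ⁻¹' {x : AlgSp.Points X.obj | AlgSp.HasAtMor (fun U _ h u => ∃ W : U.Opens, u ∈ W ∧ LocallyOfFiniteType (W.ι ≫ h) ∧ FormallyUnramified (W.ι ≫ h)) f.hom x} := by
  subst comm
  have hf : LocP @LocallyOfFiniteType f.hom := Groth.Agent.S9952.result f q hp
  have hG := Groth.Agent.Helper4.SDClasses.good_lft.{u}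
  have hf' : LocP @LocallyOfFiniteType f'.hom :=
    Groth.Agent.Helper4.AlgSpLocPBC.locP_of_isPullback @LocallyOfFiniteType hG.etale_le hG.sd
      X.property Y.property f.hom a.hom b.hom f'.hom sq2 hf
  have e1 : {x : AlgSp.Points X.obj | AlgSp.HasAtMor (fun U _ h u => ∃ W : U.Opens, u ∈ W ∧
      LocallyOfFiniteType (W.ι ≫ h) ∧ FormallyUnramified (W.ι ≫ h)) f.hom x} =
      {x | HasAtMor QU f.hom x} := by
    ext x; exact hasAtMor_nbhd_iff f.hom hf x
  have e2 : {x : AlgSp.Points X'.obj | AlgSp.HasAtMor (fun U _ h u => ∃ W : U.Opens, u ∈ W ∧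
      LocallyOfFiniteType (W.ι ≫ h) ∧ FormallyUnramified (W.ι ≫ h)) f'.hom x} =
      {x | HasAtMor QU f'.hom x} := by
    ext x; exact hasAtMor_nbhd_iff f'.hom hf' x
  rw [e1, e2]
  refine ⟨isOpen_locus etLocal_QU @LocallyOfFiniteType (fun s hs => ?_) f hf,
    locus_baseChange etLocal_QU @LocallyOfFiniteType (fun s g g' s' sq hs x' => ?_) f hf a b f' sq2⟩
  · haveI := hs
    exact isOpen_unramAt s
  · haveI := hs
    exact unramAt_baseChange_iff s g g' s' sq x'

/-- unramifiedness of a morphism of algebraic spaces is unramifiedness at every point -/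
theorem locP_unram_iff_forall {X Y : AlgSp.Space S} (f : X ⟶ Y)
    (hf : LocP @LocallyOfFiniteType f.hom) :
    LocP (@LocallyOfFiniteType ⊓ @FormallyUnramified) f.hom ↔
      {x : Points X.obj | HasAtMor QU f.hom x} = Set.univ := by
  rw [Set.eq_univ_iff_forall]
  show _ ↔ ∀ x : Points X.obj, HasAtMor QU f.hom x
  rw [forall_hasAtMor_iff etLocal_QU f]
  constructor
  · intro H U V a b h ha hb comm u
    haveI : FormallyUnramified h.left := (H a b h ha hb comm).2
    exact unramAt_of_formallyUnramified h.left u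
  · intro H U V a b h ha hb comm
    exact ⟨hf a b h ha hb comm, (formallyUnramified_iff_forall h.left).2 (H a b h ha hb comm)⟩

theorem s10639 {X Y Z : AlgSp.Space S}
    (f : X ⟶ Y) (p : X ⟶ Z) (q : Y ⟶ Z) (hc : f ≫ q = p)
    (hp1 : AlgSp.LocP @LocallyOfFiniteType p.hom) (hp2 : AlgSp.IsClosedMor p.hom) :
    ∃ (W : AlgSp.Space S) (w : W ⟶ Z), AlgSp.RepWith @IsOpenImmersion w.hom ∧
      ∀ (Z' : AlgSp.Space S) (g : Z' ⟶ Z),
        (∃ k : Z' ⟶ W, k ≫ w = g) ↔
          ∀ (Y' : AlgSp.Space S) (gY : Y' ⟶ Y) (q' : Y' ⟶ Z'),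
            IsPullback gY.hom q'.hom q.hom g.hom →
            ∀ (X' : AlgSp.Space S) (gX : X' ⟶ X) (f' : X' ⟶ Y'),
              IsPullback gX.hom f'.hom f.hom gY.hom →
                AlgSp.LocP (@LocallyOfFiniteType ⊓ @FormallyUnramified) f'.hom := by
  subst hc
  have hf : LocP @LocallyOfFiniteType f.hom := Groth.Agent.S9952.result f q hp1
  have hG := Groth.Agent.Helper4.SDClasses.good_lft.{u}
  have hopen : IsOpen {x : Points X.obj | HasAtMor QU f.hom x} :=
    isOpen_locus etLocal_QU @LocallyOfFiniteType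
      (fun s hs => by haveI := hs; exact isOpen_unramAt s) f hf
  obtain ⟨W, w, hw, H⟩ := Groth.Agent.Helper5.Where.where_of_locus f q
    (fun {X' Y'} f' => {x' : AlgSp.Points X'.obj | HasAtMor QU f'.hom x'}) hopen hp2
    (fun X' Y' Z' g f' h' pX pY sqY sqX =>
      locus_baseChange etLocal_QU @LocallyOfFiniteType
        (fun s g g' s' sq hs x' => by haveI := hs; exact unramAt_baseChange_iff s g g' s' sq x')
        f hf pY pX f' sqX)
  refine ⟨W, w, hw, fun Z' g => ?_⟩
  rw [H Z' g]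
  refine forall₃_congr fun Y' gY q' => forall_congr' fun sqY => forall₃_congr fun X' gX f' =>
    forall_congr' fun sqX => ?_
  have hf' : LocP @LocallyOfFiniteType f'.hom :=
    Groth.Agent.Helper4.AlgSpLocPBC.locP_of_isPullback @LocallyOfFiniteType hG.etale_le hG.sd
      X.property Y.property f.hom gY.hom gX.hom f'.hom sqX hf
  exact (locP_unram_iff_forall f' hf').symm

end Groth.Agent.Helper5.UnrLoc
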