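import Groth.Agent.Helper5.ThickTop1
import Groth.Agent.Helper5.UnrLoc3
import Groth.Agent.Helper5.RelDimSp2
import Mathlib

set_option autoImplicit false
set_option linter.style.haveILetI false
set_option linter.unusedSectionVars false
set_option linter.unusedVariables false
universe u
open CategoryTheory CategoryTheory.Limits AlgebraicGeometry Opposite

namespace Groth.Agent.Helper5.ThickLoc

open AlgSp Groth.Agent.Helper4 Groth.Agent.Helper5.PtLoc Groth.Agent.Helper5.RelDimSp
  Groth.Agent.Helper5.UnrLoc

variable {S : Scheme.{u}}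

/-- local quasi-finiteness of a morphism locally of finite type is vanishing of the local fibre
dimension at every point -/
theorem locP_lqf_iff_forall {X Y : AlgSp.Space S} (f : X ⟶ Y)
    (hf : LocP @LocallyOfFiniteType f.hom) :
    LocP (@LocallyQuasiFinite ⊓ @LocallyOfFiniteType) f.hom ↔
      {x : Points X.obj | HasAtMor (QD fun r => r = 0) f.hom x} = Set.univ := by
  rw [Set.eq_univ_iff_forall]
  show _ ↔ ∀ x : Points X.obj, HasAtMor (QD fun r => r = 0) f.hom x
  rw [forall_hasAtMor_iff_on (etLocalOn_QD _) f hf]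
  constructor
  · intro H U V a b h ha hb comm u
    haveI : LocallyQuasiFinite h.left := (H a b h ha hb comm).1
    haveI : LocallyOfFiniteType h.left := (H a b h ha hb comm).2
    exact Groth.Agent.Helper5.RelDim.fibreDimAt_eq_zero_of_lqf h.left u
  · intro H U V a b h ha hb comm
    haveI : LocallyOfFiniteType h.left := hf a b h ha hb comm
    exact ⟨Groth.Agent.Helper5.RelDim.locallyQuasiFinite_of_fibreDimAt_eq_zero h.left
      (fun u => H a b h ha hb comm u), hf a b h ha hb comm⟩

theorem univ_iff_of_surjective {A B : Type*} (φ : A → B) (hφ : Function.Surjective φ) (T : Set B) :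
    φ ⁻¹' T = Set.univ ↔ T = Set.univ := by
  constructor
  · intro h
    rw [Set.eq_univ_iff_forall]
    intro b
    obtain ⟨a, rfl⟩ := hφ b
    have : a ∈ φ ⁻¹' T := by rw [h]; trivial
    exact this
  · intro h; rw [h]; rfl

theorem s10593 {X X' Y Y' : AlgSp.Space S} (i : X ⟶ X') (j : Y ⟶ Y')
    (f : X ⟶ Y) (f' : X' ⟶ Y')
    (hi : AlgSp.IsThickMor i.hom)
    (hcart : IsPullback i.hom f.hom f'.hom j.hom)
    (hft : AlgSp.LocP @LocallyOfFiniteType f.hom) (hft' : AlgSp.LocP @LocallyOfFiniteType f'.hom) :
    (AlgSp.LocP (@LocallyQuasiFinite ⊓ @LocallyOfFiniteType) f.hom ↔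
      AlgSp.LocP (@LocallyQuasiFinite ⊓ @LocallyOfFiniteType) f'.hom) ∧
    (AlgSp.LocP (@LocallyOfFiniteType ⊓ @FormallyUnramified) f.hom ↔
      AlgSp.LocP (@LocallyOfFiniteType ⊓ @FormallyUnramified) f'.hom) := by
  have hsurj := Groth.Agent.Helper5.FlatBC.isSurjectiveMor_of_isThickMor i.hom hi
  constructor
  · rw [locP_lqf_iff_forall f hft, locP_lqf_iff_forall f' hft',
      qd_locus_baseChange (fun r => r = 0) f' j i f hcart hft']
    exact univ_iff_of_surjective _ hsurj _
  · rw [locP_unram_iff_forall f hft, locP_unram_iff_forall f' hft',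
      locus_baseChange etLocal_QU @LocallyOfFiniteType
        (fun s g g' s' sq hs x' => by haveI := hs; exact unramAt_baseChange_iff s g g' s' sq x')
        f' hft' j i f hcart]
    exact univ_iff_of_surjective _ hsurj _

end Groth.Agent.Helper5.ThickLoc
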