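import Groth.Agent.Helper5.QfFin2
import Groth.Agent.Helper5.Decent4
import Groth.Agent.Helper5.ThickLoc1
import Mathlib

set_option autoImplicit false
set_option linter.style.haveILetI false
set_option linter.unusedSectionVars false
set_option linter.unusedVariables false
universe u
open CategoryTheory CategoryTheory.Limits AlgebraicGeometry Opposite

namespace Groth.Agent.Helper5.DiscFib

open AlgSp Groth.Agent.Helper4 Groth.Agent.Helper5.PtLoc Groth.Agent.Helper5.RelDimSp
  Groth.Agent.Helper5.UnivInj

variable {S : Scheme.{u}}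

/-- an affine Noetherian scheme without nontrivial specializations is discrete -/
theorem discreteTopology_of_no_specializes_affine (V : Scheme.{u}) [IsAffine V]
    [IsLocallyNoetherian V] (H : ∀ w w' : V, w' ⤳ w → w = w') : DiscreteTopology V := by
  have hN : IsNoetherianRing Γ(V, ⊤) :=
    IsLocallyNoetherian.component_noetherian (X := V) ⟨⊤, isAffineOpen_top V⟩
  have : IsIso V.isoSpec.hom := inferInstance
  let φ := V.isoSpec.hom.homeomorph
  have hK : Ring.KrullDimLE 0 Γ(V, ⊤) := by
    rw [Ring.krullDimLE_zero_iff]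
    intro I hI
    obtain ⟨m, hm, hIm⟩ := Ideal.exists_le_maximal I hI.ne_top
    let p : PrimeSpectrum Γ(V, ⊤) := ⟨I, hI⟩
    let q : PrimeSpectrum Γ(V, ⊤) := ⟨m, hm.isPrime⟩
    have hpq : p ⤳ q := (PrimeSpectrum.le_iff_specializes p q).1 hIm
    have h1 : φ.symm p ⤳ φ.symm q := hpq.map φ.symm.continuous
    have h2 := H _ _ h1
    have h3 : q = p := φ.symm.injective h2
    have h4 : m = I := congrArg PrimeSpectrum.asIdeal h3
    rw [← h4]; exact hm
  haveI : IsArtinianRing Γ(V, ⊤) := IsNoetherianRing.isArtinianRing_of_krullDimLE_zero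
  haveI : DiscreteTopology (PrimeSpectrum Γ(V, ⊤)) := inferInstance
  exact φ.symm.discreteTopology

/-- a locally Noetherian scheme without nontrivial specializations is discrete -/
theorem discreteTopology_of_no_specializes (W : Scheme.{u}) [IsLocallyNoetherian W]
    (H : ∀ w w' : W, w' ⤳ w → w = w') : DiscreteTopology W := by
  rw [discreteTopology_iff_isOpen_singleton]
  intro w
  obtain ⟨V₀, hV₀, hwV⟩ : ∃ V₁ : W.Opens, IsAffineOpen V₁ ∧ w ∈ V₁ := by
    obtain ⟨_, ⟨V₀, hV₀, rfl⟩, hwV, -⟩ :=
      (W.isBasis_affineOpens).exists_subset_of_mem_open (Set.mem_univ w) isOpen_univ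
    exact ⟨V₀, hV₀, hwV⟩
  haveI : IsAffine V₀.toScheme := hV₀
  haveI : IsLocallyNoetherian V₀.toScheme := inferInstance
  haveI : DiscreteTopology V₀.toScheme := by
    apply discreteTopology_of_no_specializes_affine
    intro v v' hs
    exact Subtype.ext (H _ _ ((subtype_specializes_iff v' v).1 hs))
  have h1 : IsOpen (V₀.ι '' {(⟨w, hwV⟩ : V₀.toScheme)}) :=
    V₀.ι.isOpenEmbedding.isOpenMap _ (isOpen_discrete _)
  have h2 : (V₀.ι '' {(⟨w, hwV⟩ : V₀.toScheme)}) = {w} := by
    ext z
    simp only [Set.mem_image, Set.mem_singleton_iff]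
    constructor
    · rintro ⟨y, rfl, rfl⟩; rfl
    · rintro rfl; exact ⟨_, rfl, rfl⟩
  rw [← h2]
  exact h1

set_option backward.isDefEq.respectTransparency.types false in
/-- a morphism locally of finite type from an algebraic space with discrete space of points to a
locally Noetherian scheme has relative dimension zero at every point -/
theorem hasAtMor_of_discrete {P : AlgSp.Space S} {T : Over S} [IsLocallyNoetherian T.left]
    (q : P.obj ⟶ (yon S).obj T) (hq : LocP @LocallyOfFiniteType q)
    [DiscreteTopology (Points P.obj)] (x : Points P.obj) :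
    HasAtMor (QD fun r => r = 0) q x := by
  obtain ⟨W, a, hae, has⟩ := P.property.atlas
  obtain ⟨w, rfl⟩ := Groth.Agent.Helper5.AlgSpOpen.ofPt_surjective_of_repWith a has x
  obtain ⟨h, hh⟩ := (yon S).map_surjective (a ≫ q)
  have hTid : RepWith @Etale (𝟙 ((yon S).obj T)) := Groth.Agent.Helper5.RelDimSp.repWith_etale_id T
  haveI hlft : LocallyOfFiniteType h.left := hq a (𝟙 _) h hae hTid (by rw [hh]; simp)
  haveI hWN : IsLocallyNoetherian W.left := LocallyOfFiniteType.isLocallyNoetherian h.left
  have hPN : IsLocNoethSp P.obj := ⟨W, a, hae, has, hWN⟩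
  have hcont : Continuous (Points.ofPt a) := Points.continuous_ofPt a
  let W₀ : W.left.Opens :=
    ⟨Points.ofPt a ⁻¹' {Points.ofPt a w}, (isOpen_discrete _).preimage hcont⟩
  let W' := AlgSpQC2.opOver W W₀
  let a' : (yon S).obj W' ⟶ P.obj := (yon S).map (AlgSpQC2.opι W W₀) ≫ a
  have ha' : RepWith @Etale a' :=
    Groth.Agent.Helper4.AlgSpSrc.repWith_comp _
      ((repWith_yon_map_iff _ _).2 (by
        show Etale (Scheme.Opens.ι W₀)
        infer_instance)) hae
  have hpt : ∀ v : ↥W'.left, Points.ofPt a' v = Points.ofPt a ((AlgSpQC2.opι W W₀).left v) :=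
    fun v => AlgSpPtsDesc.ofPt_yon_map_comp _ _ _
  have hmem : ∀ v : ↥W'.left, Points.ofPt a' v = Points.ofPt a w := by
    intro v
    rw [hpt]
    exact v.2
  have hnospec : ∀ v v' : ↥W'.left, v' ⤳ v → v = v' := by
    intro v v' hs
    exact Groth.Agent.Helper5.Decent4.eq_of_specializes_of_isLocNoethSp hPN a' ha' v v'
      ((hmem v).trans (hmem v').symm) hs
  haveI : IsLocallyNoetherian W'.left := by
    show IsLocallyNoetherian W₀.toScheme
    infer_instance
  haveI := discreteTopology_of_no_specializes W'.left hnospec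
  let h' : W' ⟶ T := AlgSpQC2.opι W W₀ ≫ h
  haveI hlft' : LocallyOfFiniteType h'.left := by
    show LocallyOfFiniteType (W₀.ι ≫ h.left)
    infer_instance
  haveI hlqf : LocallyQuasiFinite h'.left := by
    rw [locallyQuasiFinite_iff_isDiscrete_preimage_singleton]
    intro y
    exact ⟨inferInstance⟩
  have comm' : a' ≫ q = (yon S).map h' ≫ 𝟙 _ := by
    rw [Category.comp_id, Functor.map_comp, hh, Category.assoc]
  refine ⟨W', T, a', 𝟙 _, h', ⟨w, rfl⟩, ha', hTid, comm', hmem _, ?_⟩
  exact Groth.Agent.Helper5.RelDim.fibreDimAt_eq_zero_of_lqf h'.left _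

set_option backward.isDefEq.respectTransparency.types false in
theorem s9955 {X Y : AlgSp.Space S} (f : X ⟶ Y)
    (hf : AlgSp.LocP @LocallyOfFiniteType f.hom) :
    AlgSp.LocP ((@LocallyQuasiFinite : MorphismProperty Scheme.{u}) ⊓ @LocallyOfFiniteType) f.hom ↔
      ∀ (k : Type u) [Field k] (str : Spec (CommRingCat.of k) ⟶ S) (y : (AlgSp.yon S).obj (Over.mk str) ⟶ Y.obj)
        (P : AlgSp.Sp S) (fst : P ⟶ X.obj) (snd : P ⟶ (AlgSp.yon S).obj (Over.mk str)),
        IsPullback fst snd f.hom y → DiscreteTopology (AlgSp.Points P) := by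
  constructor
  · intro H k _ str y P fst snd sq
    have hP : IsAlgSpace P :=
      AlgSpPB.isAlgSpace_of_isPullback Y.property.diag X.property (IsAlgSpace.yon_obj _)
        f.hom y fst snd sq
    have hG := SDClasses.good_lqf.{u}
    haveI := hG.bc
    haveI := hG.comp
    have hsnd : LocP (@LocallyQuasiFinite ⊓ @LocallyOfFiniteType) snd :=
      AlgSpLocPBC.locP_of_isPullback _ hG.etale_le hG.sd X.property Y.property
        f.hom y fst snd sq H
    obtain ⟨W, a, hae, has⟩ := hP.atlas
    obtain ⟨h, hh⟩ := (yon S).map_surjective (a ≫ snd)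
    have hTid := Groth.Agent.Helper5.RelDimSp.repWith_etale_id (Over.mk str)
    haveI hlqf : LocallyQuasiFinite h.left := (hsnd a (𝟙 _) h hae hTid (by rw [hh]; simp)).1
    haveI : DiscreteTopology W.left := by
      by_cases hne : Nonempty W.left
      · obtain ⟨w⟩ := hne
        have hd := Scheme.Hom.isDiscrete_preimage_singleton h.left (h.left w)
        have heq : h.left ⁻¹' {h.left w} = Set.univ := by
          rw [Set.eq_univ_iff_forall]
          intro z
          show h.left z = h.left w
          exact Subsingleton.elim (α := PrimeSpectrum k) _ _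
        rw [heq, isDiscrete_univ_iff] at hd
        exact hd
      · haveI : IsEmpty W.left := not_nonempty_iff.1 hne
        exact ⟨by ext s; simp [Set.eq_empty_of_isEmpty s]⟩
    rw [discreteTopology_iff_isOpen_singleton]
    intro x
    obtain ⟨w, rfl⟩ := Groth.Agent.Helper5.AlgSpOpen.ofPt_surjective_of_repWith a has x
    have h1 := Groth.Agent.Helper5.AlgSpNoeth.isOpenMap_ofPt hP a hae {w} (isOpen_discrete _)
    rw [Set.image_singleton] at h1
    exact h1
  · intro H
    rw [Groth.Agent.Helper5.ThickLoc.locP_lqf_iff_forall f hf, Set.eq_univ_iff_forall]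
    intro x
    induction x using Points.ind with
    | h k =>
      let T : Over S := k.pt
      let y : (yon S).obj T ⟶ Y.obj := k.toHom ≫ f.hom
      have sq : IsPullback (pullback.fst f.hom y) (pullback.snd f.hom y) f.hom y :=
        IsPullback.of_hasPullback _ _
      haveI := H k.K k.str y _ _ _ sq
      have hP : IsAlgSpace (pullback f.hom y) :=
        AlgSpPB.isAlgSpace_of_isPullback Y.property.diag X.property (IsAlgSpace.yon_obj _)
          f.hom y _ _ sq
      let Yk : AlgSp.Space S := (AlgSp.ofScheme S).obj T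
      let PK : AlgSp.Space S := ⟨pullback f.hom y, hP⟩
      let y' : Yk ⟶ Y := ObjectProperty.homMk y
      let p' : PK ⟶ X := ObjectProperty.homMk (pullback.fst f.hom y)
      let q' : PK ⟶ Yk := ObjectProperty.homMk (pullback.snd f.hom y)
      have sq' : IsPullback p'.hom q'.hom f.hom y'.hom := sq
      have hlft' := locP_lft_of_isPullback f y' p' q' sq' hf
      let s : (yon S).obj T ⟶ pullback f.hom y := pullback.lift k.toHom (𝟙 _) (by simp [y])
      obtain ⟨t₀, -⟩ : ∃ t : Points ((yon S).obj T), True := ⟨ptOf (𝟙 _), trivial⟩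
      let x' : Points PK.obj := Points.map s t₀
      have hx' : Points.map p'.hom x' = Points.mk k := by
        show Points.map (pullback.fst f.hom y) (Points.map s t₀) = _
        rw [← Points.map_comp, pullback.lift_fst, map_toHom_eq]
      have hbc := qd_locus_baseChange (fun r => r = 0) f y' p' q' sq' hf
      haveI : DiscreteTopology (Points PK.obj) := ‹_›
      haveI : IsLocallyNoetherian T.left := by
        show IsLocallyNoetherian (Spec (CommRingCat.of k.K))
        infer_instance
      have hmem : x' ∈ {x' | HasAtMor (QD fun r => r = 0) q'.hom x'} :=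
        hasAtMor_of_discrete (P := PK) (T := T) q'.hom hlft' x'
      rw [hbc] at hmem
      show HasAtMor _ f.hom (Points.mk k)
      rw [← hx']
      exact hmem

end Groth.Agent.Helper5.DiscFib
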