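import Mathlib
import Groth.Agent.Helper5.Dvr

set_option autoImplicit false
set_option linter.style.haveILetI false
universe u

namespace Groth.Agent.Helper5.DomDimOne

open IsLocalRing

/-- S9132 -/
theorem s9132 (R : Type u) [CommRing R] [IsDomain R]
    [IsNoetherianRing R] [IsLocalRing R] (hR : ¬ IsField R) :
    ∃ R' : Subalgebra R (FractionRing R), ∃ _ : IsLocalRing R',
      IsNoetherianRing R' ∧ ringKrullDim R' = 1 ∧ IsLocalHom (algebraMap R R') ∧
        Algebra.EssFiniteType R R' := by
  classical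
  set K := FractionRing R with hK
  have hm0 : maximalIdeal R ≠ ⊥ := fun h => hR (isField_iff_maximalIdeal_eq.2 h)
  have hm1 : maximalIdeal R ≠ ⊤ := Ideal.IsPrime.ne_top inferInstance
  obtain ⟨A', x, hx0, hxm, hfg, hxu, hPA⟩ :=
    Groth.Agent.Helper5.Dvr.exists_chart R K (maximalIdeal R) hm1 hm0
  haveI : Algebra.FiniteType R A' := (Subalgebra.fg_iff_finiteType A').1 hfg
  haveI : IsNoetherianRing A' := Algebra.FiniteType.isNoetherianRing R A'
  set x' : A' := algebraMap R A' x with hx'
  have hx'0 : x' ≠ 0 := by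
    intro h
    apply hx0
    have h1 : algebraMap R K x = 0 := congrArg Subtype.val h
    exact IsFractionRing.injective R K (by rw [h1, map_zero])
  have hne : Ideal.span {x'} ≠ ⊤ := by rwa [Ne, Ideal.span_singleton_eq_top]
  obtain ⟨⟨q, hq⟩⟩ := Ideal.nonempty_minimalPrimes hne
  haveI : q.IsPrime := hq.1.1
  have hxq : x' ∈ q := hq.1.2 (Ideal.mem_span_singleton_self x')
  have hht1 : q.height ≤ 1 :=
    Ideal.height_le_one_of_isPrincipal_of_mem_minimalPrimes (Ideal.span {x'}) q hq
  have hq0 : q ≠ ⊥ := fun h => hx'0 (by rw [h, Ideal.mem_bot] at hxq; exact hxq)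
  have hht : q.height = 1 := by
    apply le_antisymm hht1
    rw [Order.one_le_iff_pos, pos_iff_ne_zero, Ne, Ideal.height_eq_zero_iff_eq_bot]
    exact hq0
  have hT : q.primeCompl ≤ nonZeroDivisors A' := q.primeCompl_le_nonZeroDivisors
  let L₀ : Subalgebra A' K := Localization.subalgebra.ofField K q.primeCompl hT
  haveI hloc : IsLocalization.AtPrime L₀ q :=
    Localization.subalgebra.isLocalization_ofField K q.primeCompl hT
  haveI hL₀loc : IsLocalRing L₀ := IsLocalization.AtPrime.isLocalRing L₀ q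
  haveI hL₀noeth : IsNoetherianRing L₀ := IsLocalization.isNoetherianRing q.primeCompl L₀ inferInstance
  have hL₀dim : ringKrullDim L₀ = 1 := by
    rw [IsLocalization.AtPrime.ringKrullDim_eq_height q L₀, hht]; rfl
  refine ⟨L₀.restrictScalars R, hL₀loc, hL₀noeth, hL₀dim, ?_, ?_⟩
  · constructor
    intro r hr
    by_contra hnr
    have hrm : r ∈ maximalIdeal R := (mem_maximalIdeal r).2 hnr
    obtain ⟨c, hc⟩ := hPA r hrm
    have hrq : algebraMap R A' r ∈ q := by rw [hc]; exact q.mul_mem_left c hxq
    have h1 : algebraMap A' L₀ (algebraMap R A' r) ∈ maximalIdeal L₀ :=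
      (IsLocalization.AtPrime.to_map_mem_maximal_iff L₀ q _).2 hrq
    have h2 : IsUnit (algebraMap A' L₀ (algebraMap R A' r)) := hr
    exact (mem_maximalIdeal _).1 h1 h2
  · haveI : Algebra.EssFiniteType A' L₀ := Algebra.EssFiniteType.of_isLocalization L₀ q.primeCompl
    letI : Algebra R L₀ := (L₀.restrictScalars R).algebra
    haveI : IsScalarTower R A' L₀ := IsScalarTower.of_algebraMap_eq (fun _ => rfl)
    exact Algebra.EssFiniteType.comp R A' L₀

end Groth.Agent.Helper5.DomDimOne
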