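import Mathlib

set_option autoImplicit false
universe u
open CategoryTheory CategoryTheory.Limits AlgebraicGeometry TopologicalSpace

namespace Groth.Agent.Helper5.DomGen

theorem affine_case {R S : CommRingCat.{u}} (φ : R ⟶ S) (η : ↥(Spec R))
    (hmax : ∀ y : ↥(Spec R), y ⤳ η → y = η)
    (hcl : η ∈ closure (Set.range (Spec.map φ))) : η ∈ Set.range (Spec.map φ) := by
  have hcl' : η ∈ closure (Set.range (PrimeSpectrum.comap φ.hom)) := hcl
  rw [PrimeSpectrum.closure_range_comap] at hcl'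
  have hker : RingHom.ker φ.hom ≤ η.asIdeal := hcl'
  have hmin : η.asIdeal ∈ (Ideal.comap φ.hom ⊥).minimalPrimes := by
    rw [← RingHom.ker_eq_comap_bot]
    refine ⟨⟨η.isPrime, hker⟩, ?_⟩
    rintro q ⟨hq, -⟩ hle
    have h1 : (⟨q, hq⟩ : PrimeSpectrum R) ⤳ η :=
      (PrimeSpectrum.le_iff_specializes ⟨q, hq⟩ η).1 hle
    have h2 := hmax ⟨q, hq⟩ h1
    rw [← h2]
  obtain ⟨p', hp', -, hp'eq⟩ := Ideal.exists_comap_eq_of_mem_minimalPrimes φ.hom η.asIdeal hmin
  refine ⟨(⟨p', hp'⟩ : PrimeSpectrum S), ?_⟩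
  exact PrimeSpectrum.ext hp'eq

/-- A maximal point in the closure of the image of a quasi-compact morphism is in the image. -/
theorem mem_range_of_maximal {X Y : Scheme.{u}} (f : X ⟶ Y) [QuasiCompact f] (η : Y)
    (hmax : ∀ y : Y, y ⤳ η → y = η) (hcl : η ∈ closure (Set.range f)) : η ∈ Set.range f := by
  wlog hY : ∃ S, Y = Spec S generalizing X Y
  · let 𝒰 := Y.affineCover
    obtain ⟨i, η', rfl⟩ := 𝒰.exists_eq η
    have inst : QuasiCompact (𝒰.pullbackHom f i) :=
      MorphismProperty.pullback_snd _ _ inferInstance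
    have hemb : Topology.IsOpenEmbedding (𝒰.f i) := (𝒰.f i).isOpenEmbedding
    have hmax' : ∀ y : ↥(𝒰.X i), y ⤳ η' → y = η' := by
      intro y hy
      have := hmax _ (hy.map (𝒰.f i).continuous)
      exact hemb.injective this
    have hrange : Set.range (𝒰.pullbackHom f i) = (𝒰.f i) ⁻¹' Set.range f :=
      Scheme.Pullback.range_snd (f := f) (g := 𝒰.f i)
    have hcl' : η' ∈ closure (Set.range (𝒰.pullbackHom f i)) := by
      rw [hrange]
      exact hemb.isOpenMap.preimage_closure_subset_closure_preimage hcl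
    obtain ⟨z, hz⟩ := this (𝒰.pullbackHom f i) η' hmax' hcl' ⟨_, rfl⟩
    have : η' ∈ (𝒰.f i) ⁻¹' Set.range f := hrange ▸ ⟨z, hz⟩
    exact this
  obtain ⟨S, rfl⟩ := hY
  wlog hX : ∃ R, X = Spec R generalizing X
  · have inst : CompactSpace X := HasAffineProperty.iff_of_isAffine.mp ‹QuasiCompact f›
    let 𝒰 := X.affineCover.finiteSubcover
    have hfin : Finite 𝒰.I₀ := inferInstance
    have hrange : Set.range f = ⋃ i, Set.range (𝒰.f i ≫ f) := by
      ext y
      simp only [Set.mem_range, Set.mem_iUnion]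
      constructor
      · rintro ⟨x, rfl⟩
        obtain ⟨i, x', rfl⟩ := 𝒰.exists_eq x
        exact ⟨i, x', rfl⟩
      · rintro ⟨i, x', rfl⟩
        exact ⟨_, rfl⟩
    rw [hrange, closure_iUnion_of_finite] at hcl
    obtain ⟨i, hi⟩ := Set.mem_iUnion.1 hcl
    have inst : QuasiCompact (𝒰.f i ≫ f) := HasAffineProperty.iff_of_isAffine.mpr
      (inferInstanceAs <| CompactSpace (Spec _))
    obtain ⟨z, hz⟩ := this (𝒰.f i ≫ f) hi ⟨_, rfl⟩
    exact ⟨_, hz⟩
  obtain ⟨R, rfl⟩ := hX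
  obtain ⟨φ, rfl⟩ := Spec.map_surjective f
  exact affine_case φ η hmax hcl

/-- A dominant quasi-compact morphism hits every maximal point. -/
theorem exists_preimage_of_maximal {X Y : Scheme.{u}} (f : X ⟶ Y) [QuasiCompact f]
    (hdom : DenseRange f.base) (η : Y) (hmax : ∀ y : Y, y ⤳ η → y = η) : ∃ x : X, f x = η :=
  mem_range_of_maximal f η hmax (hdom η)

end Groth.Agent.Helper5.DomGen
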