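import Mathlib

universe u

namespace Groth.Agent.Helper5.DualNum
open TrivSqZeroExt

variable {P : Type u} [CommRing P]

theorem mul_formula (c d a b : P) :
    (inl c + inr d : DualNumber P) * (inl a + inr b) = inl (c * a) + inr (c * b + d * a) := by
  ext <;> simp

theorem eps_mul_formula (a b : P) :
    (DualNumber.eps : DualNumber P) * (inl a + inr b) = inl 0 + inr a := by
  ext <;> simp

theorem decomp (x : DualNumber P) : x = inl x.fst + inr x.snd :=
  (inl_fst_add_inr_snd_eq x).symm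

/-- the ideal attached to `φ` -/
def idealOf (J : Ideal P) (φ : J →ₗ[P] (P ⧸ J)) : Ideal (DualNumber P) where
  carrier := {x | ∃ a : J, (a : P) = x.fst ∧ Ideal.Quotient.mk J x.snd = φ a}
  add_mem' := by
    rintro x y ⟨a, hx, hx'⟩ ⟨b, hy, hy'⟩
    refine ⟨a + b, by rw [fst_add, ← hx, ← hy]; rfl, ?_⟩
    rw [snd_add, map_add, hx', hy', ← map_add]
  zero_mem' := ⟨0, by simp, by simp⟩
  smul_mem' := by
    rintro c x ⟨a, hx, hx'⟩
    refine ⟨c.fst • a, by rw [smul_eq_mul, fst_mul, ← hx]; rfl, ?_⟩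
    have hxJ : x.fst ∈ J := hx ▸ a.2
    rw [smul_eq_mul, DualNumber.snd_mul, map_add, map_mul, hx', map_mul,
      Ideal.Quotient.eq_zero_iff_mem.mpr hxJ, mul_zero, add_zero, map_smul]
    rfl

theorem mem_idealOf (J : Ideal P) (φ : J →ₗ[P] (P ⧸ J)) (a b : P) :
    (inl a + inr b : DualNumber P) ∈ idealOf J φ ↔
      ∃ h : a ∈ J, Ideal.Quotient.mk J b = φ ⟨a, h⟩ := by
  change (∃ a' : J, (a' : P) = (inl a + inr b : DualNumber P).fst ∧
    Ideal.Quotient.mk J (inl a + inr b : DualNumber P).snd = φ a') ↔ _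
  have h1 : (inl a + inr b : DualNumber P).fst = a := by simp
  have h2 : (inl a + inr b : DualNumber P).snd = b := by simp
  rw [h1, h2]
  constructor
  · rintro ⟨⟨a', ha'⟩, rfl, h'⟩
    exact ⟨ha', h'⟩
  · rintro ⟨h, h'⟩
    exact ⟨⟨a, h⟩, rfl, h'⟩

end Groth.Agent.Helper5.DualNum
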