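import Mathlib

/-!
# Helper5: a valuation ring dominating a discrete valuation ring, with finite separable extension
of fraction fields, is a discrete valuation ring
-/

set_option autoImplicit false
universe u

namespace Groth.Agent.Helper5.DvrAlg

open IsLocalRing

section

theorem isDVR_aux (A K A' K' : Type u) [CommRing A] [IsDomain A] [IsDiscreteValuationRing A]
    [Field K] [Algebra A K] [IsFractionRing A K]
    [Field K'] [Algebra K K'] [FiniteDimensional K K'] [Algebra.IsSeparable K K']
    [CommRing A'] [IsDomain A'] [ValuationRing A'] [Algebra A' K'] [IsFractionRing A' K']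
    [Algebra A A'] [Algebra A K'] [IsScalarTower A K K'] [IsScalarTower A A' K']
    (hloc : IsLocalHom (algebraMap A A')) : IsDiscreteValuationRing A' := by
  let C := integralClosure A K'
  haveI : IsDedekindDomain C := integralClosure.isDedekindDomain A K K'
  haveI : IsFractionRing C K' := integralClosure.isFractionRing_of_finite_extension K K'
  have hinjA' : Function.Injective (algebraMap A' K') := IsFractionRing.injective A' K'
  -- `C → A'`
  have hCA' : ∀ c : C, (c : K') ∈ (algebraMap A' K').range := by
    intro c
    have h1 : IsIntegral A (c : K') := c.2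
    have h2 : IsIntegral A' (c : K') := h1.tower_top
    exact IsIntegrallyClosed.isIntegral_iff.mp h2
  let e' : A' ≃+* (algebraMap A' K').range :=
    RingEquiv.ofBijective (algebraMap A' K').rangeRestrict
      ⟨fun a b h => hinjA' (congrArg Subtype.val h), (algebraMap A' K').rangeRestrict_surjective⟩
  let θ : C →+* A' :=
    e'.symm.toRingHom.comp ((algebraMap C K').codRestrict (algebraMap A' K').range hCA')
  have hθ : ∀ c : C, algebraMap A' K' (θ c) = (c : K') := by
    intro c
    have h1 : e' (θ c) = (algebraMap C K').codRestrict (algebraMap A' K').range hCA' c :=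
      e'.apply_symm_apply _
    exact congrArg Subtype.val h1
  -- the centre of `A'` on `C`
  let 𝔪 : Ideal C := (maximalIdeal A').comap θ
  haveI : 𝔪.IsPrime := Ideal.comap_isPrime θ (maximalIdeal A')
  have h𝔪 : 𝔪 ≠ ⊥ := by
    obtain ⟨π, hπ⟩ := IsDiscreteValuationRing.exists_irreducible A
    have hπ0 : π ≠ 0 := hπ.ne_zero
    have hπn : ¬ IsUnit π := hπ.not_isUnit
    have h1 : θ (algebraMap A C π) = algebraMap A A' π := by
      apply hinjA'
      rw [hθ]
      change algebraMap A K' π = _
      rw [IsScalarTower.algebraMap_apply A A' K']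
    have h2 : algebraMap A C π ∈ 𝔪 := by
      rw [Ideal.mem_comap, h1, mem_maximalIdeal, mem_nonunits_iff]
      exact fun h => hπn (hloc.map_nonunit π h)
    have h3 : algebraMap A C π ≠ 0 := by
      intro h
      have h4 : algebraMap A K' π = 0 := by
        have := congrArg (fun c : C => (c : K')) h
        simpa using this
      rw [IsScalarTower.algebraMap_apply A K K'] at h4
      have h5 : algebraMap A K π = 0 := (algebraMap K K').injective (h4.trans (map_zero _).symm)
      exact hπ0 ((IsFractionRing.injective A K) (h5.trans (map_zero _).symm))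
    intro hbot
    rw [hbot, Ideal.mem_bot] at h2
    exact h3 h2
  -- the localization
  let D := Localization.AtPrime 𝔪
  haveI : IsDiscreteValuationRing D :=
    IsLocalization.AtPrime.isDiscreteValuationRing_of_dedekind_domain C h𝔪 D
  have hunitsK : ∀ s : 𝔪.primeCompl, IsUnit (algebraMap C K' s) := by
    intro s
    rw [isUnit_iff_ne_zero]
    intro h0
    have : (s : C) = 0 := (IsFractionRing.injective C K') (h0.trans (map_zero _).symm)
    exact s.2 (by rw [this]; exact zero_mem _)
  let toK' : D →+* K' := IsLocalization.lift (M := 𝔪.primeCompl) hunitsK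
  letI : Algebra D K' := toK'.toAlgebra
  haveI : IsScalarTower C D K' :=
    IsScalarTower.of_algebraMap_eq (fun c => (IsLocalization.lift_eq hunitsK c).symm)
  haveI : IsFractionRing D K' :=
    IsFractionRing.isFractionRing_of_isDomain_of_isLocalization 𝔪.primeCompl D K'
  have hunitsA : ∀ s : 𝔪.primeCompl, IsUnit (θ s) := by
    intro s
    by_contra h
    exact s.2 (show θ s ∈ maximalIdeal A' from h)
  let toA' : D →+* A' := IsLocalization.lift (M := 𝔪.primeCompl) hunitsA
  have hcompat : (algebraMap A' K').comp toA' = algebraMap D K' := by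
    apply IsLocalization.ringHom_ext 𝔪.primeCompl
    ext c
    change algebraMap A' K' (toA' (algebraMap C D c)) = toK' (algebraMap C D c)
    rw [IsLocalization.lift_eq, IsLocalization.lift_eq, hθ]
    rfl
  have hcompat' : ∀ d : D, algebraMap A' K' (toA' d) = algebraMap D K' d :=
    fun d => congrArg (fun t => t d) hcompat
  have hinj : Function.Injective toA' := by
    intro d₁ d₂ h
    apply IsFractionRing.injective D K'
    rw [← hcompat', ← hcompat', h]
  have hlocD : ∀ d : D, ¬ IsUnit d → ¬ IsUnit (toA' d) := by
    intro d hd hu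
    obtain ⟨c, s, rfl⟩ := IsLocalization.exists_mk'_eq 𝔪.primeCompl d
    have hc : c ∈ 𝔪 := by
      by_contra hc
      exact hd ((IsLocalization.AtPrime.isUnit_mk'_iff D 𝔪 c s).mpr hc)
    have h1 : toA' (IsLocalization.mk' D c s) * θ s = θ c := by
      have h2 : IsLocalization.mk' D c s * algebraMap C D s = algebraMap C D c :=
        IsLocalization.mk'_spec D c s
      have h3 := congrArg toA' h2
      rw [map_mul, IsLocalization.lift_eq, IsLocalization.lift_eq] at h3
      exact h3
    have h4 : IsUnit (θ c) := by
      rw [← h1]
      exact hu.mul (hunitsA s)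
    exact (show θ c ∈ maximalIdeal A' from hc) h4
  have hsurj : Function.Surjective toA' := by
    intro a'
    by_cases hx : algebraMap A' K' a' = 0
    · refine ⟨0, ?_⟩
      rw [map_zero]
      exact (hinjA' (hx.trans (map_zero _).symm)).symm
    rcases ValuationRing.isInteger_or_isInteger D (algebraMap A' K' a') with ⟨d, hd⟩ | ⟨d, hd⟩
    · refine ⟨d, hinjA' ?_⟩
      rw [hcompat', hd]
    · by_cases hdu : IsUnit d
      · obtain ⟨u, rfl⟩ := hdu
        refine ⟨((u⁻¹ : Dˣ) : D), hinjA' ?_⟩
        rw [hcompat']
        have h1 : algebraMap D K' ((u⁻¹ : Dˣ) : D) * algebraMap D K' (u : D) = 1 := by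
          rw [← map_mul, Units.inv_mul, map_one]
        rw [hd] at h1
        have h2 : (algebraMap A' K' a')⁻¹ ≠ 0 := inv_ne_zero hx
        field_simp at h1
        exact h1
      · exfalso
        apply hlocD d hdu
        have h1 : algebraMap A' K' (toA' d * a') = algebraMap A' K' 1 := by
          rw [map_mul, hcompat', hd, inv_mul_cancel₀ hx, map_one]
        exact IsUnit.of_mul_eq_one _ (hinjA' h1)
  exact IsDiscreteValuationRing.RingEquivClass.isDiscreteValuationRing (RingEquiv.ofBijective toA' ⟨hinj, hsurj⟩)

theorem isDVR_of_finite_separable {A K A' K' : Type u} [CommRing A] [IsDomain A]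
    [IsDiscreteValuationRing A] [Field K] [Algebra A K] [IsFractionRing A K]
    [CommRing A'] [IsDomain A'] [ValuationRing A'] [Field K'] [Algebra A' K'] [IsFractionRing A' K']
    (φ : A →+* A') (ψ : K →+* K') (comm : (algebraMap A' K').comp φ = ψ.comp (algebraMap A K))
    (hloc : IsLocalHom φ)
    (hfs : letI := ψ.toAlgebra; Module.Finite K K' ∧ Algebra.IsSeparable K K') :
    IsDiscreteValuationRing A' := by
  letI : Algebra K K' := ψ.toAlgebra
  letI : Algebra A A' := φ.toAlgebra
  letI : Algebra A K' := ((algebraMap A' K').comp φ).toAlgebra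
  haveI : IsScalarTower A A' K' := IsScalarTower.of_algebraMap_eq (fun _ => rfl)
  haveI : IsScalarTower A K K' :=
    IsScalarTower.of_algebraMap_eq (fun a => congrArg (fun t => t a) comm)
  haveI : Module.Finite K K' := hfs.1
  haveI : Algebra.IsSeparable K K' := hfs.2
  exact isDVR_aux A K A' K' hloc

end

end Groth.Agent.Helper5.DvrAlg
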