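import Mathlib
import Groth.Agent.Helper5.DvrDom

set_option autoImplicit false
set_option linter.style.haveILetI false

namespace Groth.Agent.Helper5.Dvr

open Polynomial Algebra

theorem isIntegral_iff_mem_dvr (A : Type*) [CommRing A] [IsDomain A] [IsNoetherianRing A]
    (K : Type*) [Field K] [Algebra A K] [IsFractionRing A K]
    (L : Type*) [Field L] [Algebra K L] [Algebra A L] [IsScalarTower A K L]
    (hfg : (⊤ : IntermediateField K L).FG) (x : L) :
    IsIntegral A x ↔ ∀ R : ValuationSubring L, IsDiscreteValuationRing R →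
      (∀ a : A, algebraMap A L a ∈ R) → x ∈ R := by
  classical
  constructor
  · intro hx R _ hAR
    -- valuation rings are integrally closed
    let f : A →+* R := (algebraMap A L).codRestrict R.toSubring hAR
    have hxR : IsIntegral R x := by
      obtain ⟨p, hp, hpx⟩ := hx
      refine ⟨p.map f, hp.map f, ?_⟩
      rw [eval₂_map]
      exact hpx
    obtain ⟨y, hy⟩ := IsIntegrallyClosed.algebraMap_eq_of_integral hxR
    rw [← hy]
    exact y.2
  · intro h
    by_contra hx
    have hx0 : x ≠ 0 := by
      rintro rfl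
      exact hx isIntegral_zero
    obtain ⟨S, hS⟩ := hfg
    have hinj : Function.Injective (algebraMap A L) := by
      rw [IsScalarTower.algebraMap_eq A K L]
      exact (algebraMap K L).injective.comp (IsFractionRing.injective A K)
    have hcl := closure_eq_top_of_fg A K L S hS
    letI : Invertible x⁻¹ := invertibleOfNonzero (inv_ne_zero hx0)
    -- B := A[x⁻¹]
    have hfgB : (Algebra.adjoin A {x⁻¹}).FG := ⟨{x⁻¹}, by simp⟩
    haveI : Algebra.FiniteType A (Algebra.adjoin A {x⁻¹}) := (Subalgebra.fg_iff_finiteType _).1 hfgB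
    haveI : IsNoetherianRing (Algebra.adjoin A {x⁻¹}) := Algebra.FiniteType.isNoetherianRing A _
    have hinjB : Function.Injective (algebraMap (Algebra.adjoin A {x⁻¹}) L) := Subtype.val_injective
    have hclB : Subfield.closure (Set.range (algebraMap (Algebra.adjoin A {x⁻¹}) L) ∪ (S : Set L)) = ⊤ := by
      rw [_root_.eq_top_iff, ← hcl]
      apply Subfield.closure_mono
      apply Set.union_subset_union_left
      rintro _ ⟨b, rfl⟩
      exact ⟨algebraMap A (Algebra.adjoin A {x⁻¹}) b, rfl⟩
    have hPtop : Ideal.span {(⟨x⁻¹, subset_adjoin rfl⟩ : Algebra.adjoin A {x⁻¹})} ≠ ⊤ := by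
      intro eq
      apply hx
      obtain ⟨p, hp, hpx⟩ := exists_aeval_invOf_eq_zero_of_idealMap_adjoin_sup_span_eq_top (x⁻¹)
        (⊥ : Ideal A) bot_ne_top (top_unique <| eq.ge.trans le_sup_right)
      refine ⟨p, ?_, ?_⟩
      · rw [Ideal.mem_bot, sub_eq_zero] at hp
        exact hp
      · have : ⅟(x⁻¹) = x := by rw [invOf_eq_inv, inv_inv]
        rw [this] at hpx
        exact hpx
    have hPbot : Ideal.span {(⟨x⁻¹, subset_adjoin rfl⟩ : Algebra.adjoin A {x⁻¹})} ≠ ⊥ := by
      rw [Ne, Ideal.span_singleton_eq_bot]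
      intro h0
      exact inv_ne_zero hx0 (congrArg Subtype.val h0)
    obtain ⟨O, hO, hBO, hlt⟩ := exists_dvr (Algebra.adjoin A {x⁻¹}) L hinjB S hclB _ hPtop hPbot
    have hAO : ∀ a : A, algebraMap A L a ∈ O := by
      intro a
      rw [IsScalarTower.algebraMap_apply A (Algebra.adjoin A {x⁻¹}) L]
      exact hBO _
    have hxO := h O hO hAO
    have h1 : O.valuation (x⁻¹) < 1 :=
      hlt ⟨x⁻¹, subset_adjoin rfl⟩ (Ideal.mem_span_singleton_self _)
    have h2 : O.valuation x ≤ 1 := (ValuationSubring.valuation_le_one_iff O x).2 hxO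
    have h3 : O.valuation x * O.valuation x⁻¹ = 1 := by
      rw [← map_mul, mul_inv_cancel₀ hx0, map_one]
    have h4 : O.valuation x * O.valuation x⁻¹ < 1 :=
      lt_of_le_of_lt (mul_le_of_le_one_left' h2) h1
    exact (ne_of_lt h4) h3

end Groth.Agent.Helper5.Dvr
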