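import Mathlib
import Groth.Agent.Helper5.AwnUH
import Groth.Prelude

set_option autoImplicit false
set_option linter.unusedSectionVars false
set_option linter.style.haveILetI false
universe u

open AlgebraicGeometry CategoryTheory

namespace Groth.Agent.Helper5.DvrPI

/-- key: in a finite extension of normal domains with purely inseparable fraction field extension,
some `q^n`-th power of every element lies in the base -/
theorem exists_pow_mem (R S K L : Type u) [CommRing R] [IsDomain R] [IsIntegrallyClosed R]
    [CommRing S] [IsDomain S] [Algebra R S] [Algebra.IsIntegral R S]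
    [Field K] [Field L] [Algebra R K] [IsFractionRing R K] [Algebra S L] [IsFractionRing S L]
    [Algebra K L] [Algebra R L] [IsScalarTower R S L] [IsScalarTower R K L] [IsPurelyInseparable K L]
    (q : ℕ) [ExpChar K q] (s : S) : ∃ (n : ℕ) (r : R), s ^ q ^ n = algebraMap R S r := by
  obtain ⟨n, k, hk⟩ := IsPurelyInseparable.pow_mem K q (algebraMap S L s)
  have hint : IsIntegral R k := by
    have h1 : IsIntegral R (algebraMap S L (s ^ q ^ n)) :=
      (Algebra.IsIntegral.isIntegral (R := R) (s ^ q ^ n)).map (IsScalarTower.toAlgHom R S L)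
    rw [map_pow, ← hk] at h1
    exact (isIntegral_algHom_iff (IsScalarTower.toAlgHom R K L) (algebraMap K L).injective).1 h1
  obtain ⟨r, hr⟩ := (isIntegrallyClosed_iff K).1 inferInstance hint
  refine ⟨n, r, ?_⟩
  apply IsFractionRing.injective S L
  rw [map_pow, ← hk, ← hr, ← IsScalarTower.algebraMap_apply R K L,
    ← IsScalarTower.algebraMap_apply R S L]

/-- a finite injective extension of normal domains with purely inseparable fraction field
extension is a universal homeomorphism on spectra -/
theorem isUnivHomeo (R S K L : Type u) [CommRing R] [IsDomain R] [IsIntegrallyClosed R]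
    [CommRing S] [IsDomain S] [Algebra R S] [Algebra.IsIntegral R S] [FaithfulSMul R S]
    [Field K] [Field L] [Algebra R K] [IsFractionRing R K] [Algebra S L] [IsFractionRing S L]
    [Algebra K L] [Algebra R L] [IsScalarTower R S L] [IsScalarTower R K L] [IsPurelyInseparable K L] :
    FlatMor.IsUnivHomeo (Spec.map (CommRingCat.ofHom (algebraMap R S))) := by
  rw [Groth.Agent.Helper5.Awn.uh_iff]
  have hinj : Function.Injective (algebraMap R S) := FaithfulSMul.algebraMap_injective R S
  refine ⟨algebraMap_isIntegral_iff.2 inferInstance, ?_, ?_⟩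
  · intro Ω _ γ₁ γ₂ h
    ext s
    obtain ⟨q, hq⟩ := ExpChar.exists K
    obtain ⟨n, r, hr⟩ := exists_pow_mem R S K L q s
    have h1 : γ₁ s ^ q ^ n = γ₂ s ^ q ^ n := by
      rw [← map_pow, ← map_pow, hr]
      exact congrArg (fun φ : R →+* Ω => φ r) h
    cases hq with
    | zero =>
      simpa using h1
    | prime hp =>
      haveI : CharP R q := by
        exact (RingHom.charP_iff (algebraMap R K) (IsFractionRing.injective R K) q).2 inferInstance
      have hq0 : (q : Ω) = 0 := by
        have : (q : Ω) = (γ₁.comp (algebraMap R S)) (q : R) := (map_natCast _ q).symm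
        rw [this, CharP.cast_eq_zero R q, map_zero]
      haveI : CharP Ω q := (CharP.charP_iff_prime_eq_zero hp).2 hq0
      haveI : Fact q.Prime := ⟨hp⟩
      exact (frobenius_inj Ω q).iterate n |> fun hi => hi (by
        simpa [iterate_frobenius] using h1)
  · intro p
    obtain ⟨Q, -, hQ, hQp⟩ := Ideal.exists_ideal_over_prime_of_isIntegral p.asIdeal
      (⊥ : Ideal S) (by
        intro a ha
        have h0 : algebraMap R S a = 0 := ha
        have : a = 0 := hinj (h0.trans (map_zero _).symm)
        rw [this]
        exact zero_mem _)
    exact ⟨⟨Q, hQ⟩, PrimeSpectrum.ext hQp⟩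

end Groth.Agent.Helper5.DvrPI
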