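import Groth.Agent.Helper5.RedInd1
import Groth.Agent.Helper5.AlgSpProper
import Groth.Agent.Helper6.DvrSp
import Groth.Prelude.Def_AlgSpMor5
import Mathlib

/-!
# Helper5: lifting of discrete valuation squares gives closedness (finite type, Noetherian base)
-/

set_option autoImplicit false
universe u
open CategoryTheory CategoryTheory.Limits AlgebraicGeometry Opposite IsLocalRing

namespace Groth.Agent.Helper5.DvrUC

open AlgSp Groth.Agent.Helper4.SDClasses

variable {S : Scheme.{u}}

/-- Finite type morphisms compose. -/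
theorem isFiniteTypeMor_comp {X Y Z : Sp S} (hY : IsAlgSpace Y) (hZ : Representable (Limits.diag Z))
    (f : X ⟶ Y) (g : Y ⟶ Z) (hf : IsFiniteTypeMor f) (hg : IsFiniteTypeMor g) :
    IsFiniteTypeMor (f ≫ g) :=
  ⟨Groth.Agent.Helper4.AlgSpLocPComp.locP_comp _ good_lft hY f g hf.1 hg.1,
    Groth.Agent.Helper4.AlgSpQC.isQuasiCompactMor_comp hY hZ f g hf.2 hg.2⟩

/-- The generic point of the spectrum of a domain specializes to every point. -/
theorem generic_specializes {A K : Type u} [CommRing A] [IsDomain A] [Field K] [Algebra A K]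
    [IsFractionRing A K] (pt : Spec (CommRingCat.of K)) (x : Spec (CommRingCat.of A)) :
    (Spec.map (CommRingCat.ofHom (algebraMap A K))) pt ⤳ x := by
  change (PrimeSpectrum.comap (algebraMap A K) pt : PrimeSpectrum A) ⤳ (x : PrimeSpectrum A)
  rw [← PrimeSpectrum.le_iff_specializes]
  change Ideal.comap (algebraMap A K) pt.asIdeal ≤ x.asIdeal
  intro r hr
  rw [Ideal.mem_comap] at hr
  have h0 : algebraMap A K r = 0 := by
    by_contra hne
    exact pt.isPrime.ne_top (Ideal.eq_top_of_isUnit_mem _ hr (isUnit_iff_ne_zero.mpr hne))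
  have : r = 0 := (IsFractionRing.injective A K) (h0.trans (map_zero _).symm)
  rw [this]
  exact zero_mem _

set_option backward.isDefEq.respectTransparency.types false in
theorem isClosedMap_of_dvr_lift {X Y : Sp S} (hX : IsAlgSpace X) (hY : IsAlgSpace Y) (f : X ⟶ Y)
    (hft : IsFiniteTypeMor f) (hYN : IsLocNoethSp Y)
    (H : ∀ sq : ValSq f, IsDiscreteValuationRing sq.A → sq.HasLift) :
    IsClosedMap (Points.map f) := by
  intro T hT
  obtain ⟨Z, i, hZ, hi, hiT, hZred⟩ := Groth.Agent.Helper5.RedInd.s10192 X hX T hT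
  have hift : IsFiniteTypeMor (i ≫ f) :=
    isFiniteTypeMor_comp hX hY.diag i f
      (Groth.Agent.Helper5.AlgSpProper.isProperMor_of_closedImmersion i hi).2.1 hft
  apply isClosed_of_closure_subset
  intro y hy
  have hy' : y ∈ closure (Set.range (Points.map (i ≫ f))) := by
    have : Set.range (Points.map (i ≫ f)) = Points.map f '' T := by
      rw [← hiT, ← Set.range_comp]
      congr 1
      funext x
      exact Points.map_comp i f x
    rwa [this]
  obtain ⟨A, iCR, iDom, iDVR, a, α, κ, hκ, hα⟩ :=
    Groth.Agent.Helper6.DvrSp.exists_dvr_diagram hZ hY (i ≫ f) hift hYN y hy'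
  let sq : ValSq f :=
    { A := A, K := FractionRing A, str := a, top := κ ≫ i, bot := α
      comm := by rw [Category.assoc]; exact hκ }
  obtain ⟨l, hl1, hl2⟩ := H sq iDVR
  refine ⟨Points.map l (Points.schemeEquiv (Over.mk a) (closedPoint A)), ?_, ?_⟩
  · let g : Spec (CommRingCat.of A) → Points X := fun t => Points.map l (Points.schemeHomeo (Over.mk a) t)
    have hg : Continuous g := (Points.continuous_map l).comp (Points.schemeHomeo (Over.mk a)).continuous
    have hcl : IsClosed (g ⁻¹' T) := hT.preimage hg
    let pt : Spec (CommRingCat.of (FractionRing A)) := closedPoint (FractionRing A)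
    have hgen : (Spec.map (CommRingCat.ofHom (algebraMap A (FractionRing A)))) pt ∈ g ⁻¹' T := by
      change Points.map l (Points.schemeHomeo (Over.mk a) (sq.j.left pt)) ∈ T
      rw [← Points.map_yon_map_apply, ← Points.map_comp, hl1]
      change Points.map (κ ≫ i) _ ∈ T
      rw [Points.map_comp, ← hiT]
      exact Set.mem_range_self _
    exact (generic_specializes pt (closedPoint A)).mem_closed hcl hgen
  · rw [← Points.map_comp, hl2]
    exact hα

end Groth.Agent.Helper5.DvrUC
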