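import Groth.Agent.Helper5.DvrUC1
import Groth.Agent.Helper5.AnCl8
import Groth.Agent.Helper5.NoethChart
import Mathlib

/-!
# Helper5: lifting of discrete valuation squares gives universal closedness
(finite type, locally Noetherian base)
-/

set_option autoImplicit false
universe u
open CategoryTheory CategoryTheory.Limits AlgebraicGeometry Opposite IsLocalRing

namespace Groth.Agent.Helper5.DvrUC

open AlgSp Groth.Agent.Helper4.SDClasses

variable {S : Scheme.{u}}

/-- Lifting of discrete valuation squares is stable under base change. -/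
theorem dvr_lift_of_isPullback {X Y X' Z : Sp S} {f : X ⟶ Y} {g : Z ⟶ Y} {fst : X' ⟶ X}
    {f' : X' ⟶ Z} (pb : IsPullback fst f' f g)
    (H : ∀ sq : ValSq f, IsDiscreteValuationRing sq.A → sq.HasLift) :
    ∀ sq : ValSq f', IsDiscreteValuationRing sq.A → sq.HasLift := by
  intro sq' hdvr
  let sq : ValSq f :=
    { A := sq'.A, K := sq'.K, str := sq'.str, top := sq'.top ≫ fst, bot := sq'.bot ≫ g
      comm := by rw [Category.assoc, pb.w, ← Category.assoc, sq'.comm, Category.assoc] }
  obtain ⟨l, hl1, hl2⟩ := H sq hdvr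
  refine ⟨pb.lift l sq'.bot hl2, ?_, pb.lift_snd _ _ _⟩
  apply pb.hom_ext
  · rw [Category.assoc, pb.lift_fst]
    exact hl1
  · rw [Category.assoc, pb.lift_snd]
    exact sq'.comm.symm

/-- Finite type morphisms are stable under base change. -/
theorem isFiniteTypeMor_of_isPullback {X Y X' Y' : Sp S} (hX : IsAlgSpace X) (hY : IsAlgSpace Y)
    {f : X ⟶ Y} {g : Y' ⟶ Y} {fst : X' ⟶ X} {f' : X' ⟶ Y'} (sq : IsPullback fst f' f g)
    (hf : IsFiniteTypeMor f) : IsFiniteTypeMor f' := by
  have hG := good_lft.{u}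
  have := hG.bc
  have := hG.comp
  exact ⟨Groth.Agent.Helper4.AlgSpLocPBC.locP_of_isPullback @LocallyOfFiniteType
      (fun g hg => hG.etale_le g hg) (fun e h he hs hP => hG.sd e h he hs hP)
      hX hY f g fst f' sq hf.1,
    Groth.Agent.Helper4.AlgSpQC.isQuasiCompactMor_of_isPullback sq hf.2⟩

set_option backward.isDefEq.respectTransparency.types false in
theorem isUnivClosedMor_of_dvr_lift {X Y : Sp S} (hX : IsAlgSpace X) (hY : IsAlgSpace Y) (f : X ⟶ Y)
    (hft : IsFiniteTypeMor f) (hYN : IsLocNoethSp Y)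
    (H : ∀ sq : ValSq f, IsDiscreteValuationRing sq.A → sq.HasLift) :
    IsUnivClosedMor f := by
  obtain ⟨V, p, hpe, hps, hVN⟩ := hYN
  haveI : IsLocallyNoetherian V.left := hVN
  refine Groth.Agent.Helper5.AnCl.isUnivClosedMor_of_affineSpace_tests hX hY f hft.2 V p hpe hps
    (fun n P fst snd pb => ?_)
  let An : Over S := Over.mk ((𝔸(ULift.{u} (Fin n); V.left) ↘ V.left) ≫ V.hom)
  haveI : IsLocallyNoetherian An.left :=
    LocallyOfFiniteType.isLocallyNoetherian (𝔸(ULift.{u} (Fin n); V.left) ↘ V.left)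
  have hP : IsAlgSpace P :=
    Groth.Agent.Helper4.AlgSpPB.isAlgSpace_of_isPullback hY.diag hX (IsAlgSpace.yon_obj An)
      f _ fst snd pb
  have hAnN : IsLocNoethSp ((yon S).obj An) :=
    ⟨An, 𝟙 _, repWith_id (@Etale.{u}) An, repWith_id (@Surjective.{u}) An, inferInstance⟩
  exact isClosedMap_of_dvr_lift hP (IsAlgSpace.yon_obj An) snd
    (isFiniteTypeMor_of_isPullback hX hY pb hft) hAnN (dvr_lift_of_isPullback pb H)

end Groth.Agent.Helper5.DvrUC
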