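import Groth.Agent.Helper5.DvrUC2
import Mathlib

/-!
# Helper5: lifting of discrete valuation squares after extension gives universal closedness
(finite type, locally Noetherian base)
-/

set_option autoImplicit false
universe u
open CategoryTheory CategoryTheory.Limits AlgebraicGeometry Opposite IsLocalRing

namespace Groth.Agent.Helper5.DvrUC

open AlgSp Groth.Agent.Helper4.SDClasses

variable {S : Scheme.{u}}

set_option backward.isDefEq.respectTransparency.types false in
theorem isClosedMap_of_dvr_liftExt {X Y : Sp S} (hX : IsAlgSpace X) (hY : IsAlgSpace Y) (f : X ⟶ Y)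
    (hft : IsFiniteTypeMor f) (hYN : IsLocNoethSp Y)
    (H : ∀ sq : ValSq f, IsDiscreteValuationRing sq.A → sq.HasLiftExt) :
    IsClosedMap (Points.map f) := by
  intro T hT
  obtain ⟨Z, i, hZ, hi, hiT, hZred⟩ := Groth.Agent.Helper5.RedInd.s10192 X hX T hT
  have hift : IsFiniteTypeMor (i ≫ f) :=
    isFiniteTypeMor_comp hX hY.diag i f
      (Groth.Agent.Helper5.AlgSpProper.isProperMor_of_closedImmersion i hi).2.1 hft
  apply isClosed_of_closure_subset
  intro y hy
  have hy' : y ∈ closure (Set.range (Points.map (i ≫ f))) := by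
    have : Set.range (Points.map (i ≫ f)) = Points.map f '' T := by
      rw [← hiT, ← Set.range_comp]
      congr 1
      funext x
      exact Points.map_comp i f x
    rwa [this]
  obtain ⟨A, iCR, iDom, iDVR, a, α, κ, hκ, hα⟩ :=
    Groth.Agent.Helper6.DvrSp.exists_dvr_diagram hZ hY (i ≫ f) hift hYN y hy'
  let sq : ValSq f :=
    { A := A, K := FractionRing A, str := a, top := κ ≫ i, bot := α
      comm := by rw [Category.assoc]; exact hκ }
  obtain ⟨e, l, hl1, hl2⟩ := H sq iDVR
  haveI := e.isLocalHom
  refine ⟨Points.map l (Points.schemeHomeo e.ptA' (closedPoint e.A')), ?_, ?_⟩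
  · let g : Spec (CommRingCat.of e.A') → Points X :=
      fun t => Points.map l (Points.schemeHomeo e.ptA' t)
    have hg : Continuous g := (Points.continuous_map l).comp (Points.schemeHomeo e.ptA').continuous
    have hcl : IsClosed (g ⁻¹' T) := hT.preimage hg
    let pt : Spec (CommRingCat.of e.K') := closedPoint e.K'
    have hgen : (Spec.map (CommRingCat.ofHom (algebraMap e.A' e.K'))) pt ∈ g ⁻¹' T := by
      change Points.map l (Points.schemeHomeo e.ptA'
        ((Over.homMk (Spec.map (CommRingCat.ofHom (algebraMap e.A' e.K'))) rfl :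
          e.ptK' ⟶ e.ptA').left pt)) ∈ T
      rw [← Points.map_yon_map_apply, ← Points.map_comp, hl1, Points.map_comp]
      change Points.map (κ ≫ i) _ ∈ T
      rw [Points.map_comp, ← hiT]
      exact Set.mem_range_self _
    exact (generic_specializes pt (closedPoint e.A')).mem_closed hcl hgen
  · rw [← Points.map_comp, hl2, Points.map_comp, Points.map_yon_map_apply]
    have hc : (Over.homMk (Spec.map (CommRingCat.ofHom e.φ)) rfl : e.ptA' ⟶ sq.ptA).left
        (closedPoint e.A') = closedPoint A := by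
      change PrimeSpectrum.comap e.φ (closedPoint e.A') = closedPoint A
      exact IsLocalRing.comap_closedPoint e.φ
    rw [hc]
    exact hα

/-- Lifting of discrete valuation squares after extension is stable under base change. -/
theorem dvr_liftExt_of_isPullback {X Y X' Z : Sp S} {f : X ⟶ Y} {g : Z ⟶ Y} {fst : X' ⟶ X}
    {f' : X' ⟶ Z} (pb : IsPullback fst f' f g)
    (H : ∀ sq : ValSq f, IsDiscreteValuationRing sq.A → sq.HasLiftExt) :
    ∀ sq : ValSq f', IsDiscreteValuationRing sq.A → sq.HasLiftExt := by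
  intro sq' hdvr
  let sq : ValSq f :=
    { A := sq'.A, K := sq'.K, str := sq'.str, top := sq'.top ≫ fst, bot := sq'.bot ≫ g
      comm := by rw [Category.assoc, pb.w, ← Category.assoc, sq'.comm, Category.assoc] }
  obtain ⟨e, l, hl1, hl2⟩ := H sq hdvr
  let e' : sq'.DomExt :=
    { A' := e.A', K' := e.K', φ := e.φ, ψ := e.ψ, comm := e.comm, isLocalHom := e.isLocalHom }
  refine ⟨e', pb.lift l ((yon S).map (Over.homMk (Spec.map (CommRingCat.ofHom e'.φ)) rfl :
    e'.ptA' ⟶ sq'.ptA) ≫ sq'.bot) (by rw [hl2]; rfl), ?_, pb.lift_snd _ _ _⟩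
  apply pb.hom_ext
  · rw [Category.assoc, pb.lift_fst, Category.assoc]
    exact hl1
  · rw [Category.assoc, pb.lift_snd, Category.assoc, sq'.comm, ← Category.assoc, ← Category.assoc,
      ← Functor.map_comp, ← Functor.map_comp]
    congr 2
    ext
    change Spec.map _ ≫ Spec.map _ = Spec.map _ ≫ Spec.map _
    rw [← Spec.map_comp, ← Spec.map_comp, ← CommRingCat.ofHom_comp, ← CommRingCat.ofHom_comp]
    congr 2
    exact e.comm

set_option backward.isDefEq.respectTransparency.types false in
theorem isUnivClosedMor_of_dvr_liftExt {X Y : Sp S} (hX : IsAlgSpace X) (hY : IsAlgSpace Y)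
    (f : X ⟶ Y) (hft : IsFiniteTypeMor f) (hYN : IsLocNoethSp Y)
    (H : ∀ sq : ValSq f, IsDiscreteValuationRing sq.A → sq.HasLiftExt) :
    IsUnivClosedMor f := by
  obtain ⟨V, p, hpe, hps, hVN⟩ := hYN
  haveI : IsLocallyNoetherian V.left := hVN
  refine Groth.Agent.Helper5.AnCl.isUnivClosedMor_of_affineSpace_tests hX hY f hft.2 V p hpe hps
    (fun n P fst snd pb => ?_)
  let An : Over S := Over.mk ((𝔸(ULift.{u} (Fin n); V.left) ↘ V.left) ≫ V.hom)
  haveI : IsLocallyNoetherian An.left :=
    LocallyOfFiniteType.isLocallyNoetherian (𝔸(ULift.{u} (Fin n); V.left) ↘ V.left)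
  have hP : IsAlgSpace P :=
    Groth.Agent.Helper4.AlgSpPB.isAlgSpace_of_isPullback hY.diag hX (IsAlgSpace.yon_obj An)
      f _ fst snd pb
  have hAnN : IsLocNoethSp ((yon S).obj An) :=
    ⟨An, 𝟙 _, repWith_id (@Etale.{u}) An, repWith_id (@Surjective.{u}) An, inferInstance⟩
  exact isClosedMap_of_dvr_liftExt hP (IsAlgSpace.yon_obj An) snd
    (isFiniteTypeMor_of_isPullback hX hY pb hft) hAnN (dvr_liftExt_of_isPullback pb H)

end Groth.Agent.Helper5.DvrUC
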