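import Groth.Agent.Helper5.EffCart1
import Groth.Agent.Helper9.IdealComap
import Groth.Agent.Helper5.GeomFibSp1
import Mathlib

/-! Flat pullback of effective Cartier divisors (schemes, then algebraic spaces). -/

set_option autoImplicit false
universe u
open CategoryTheory CategoryTheory.Limits AlgebraicGeometry Opposite MorphismProperty

namespace Groth.Agent.Helper5.EffCart

open AlgSp

/-- a flat ring map preserves nonzerodivisors -/
theorem map_mem_nonZeroDivisors_of_flat {A B : Type u} [CommRing A] [CommRing B] (φ : A →+* B)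
    (hφ : φ.Flat) (a : A) (ha : a ∈ nonZeroDivisors A) : φ a ∈ nonZeroDivisors B := by
  algebraize [φ]
  have h1 : IsSMulRegular A a := by
    intro x y hxy
    have h : (x - y) * a = 0 := by
      have : a * x = a * y := hxy
      rw [sub_mul, mul_comm x a, mul_comm y a, this, sub_self]
    exact sub_eq_zero.1 ((mem_nonZeroDivisors_iff_right.1 ha) _ h)
  have h2 : IsSMulRegular B (algebraMap A B a) := IsSMulRegular.of_flat h1
  rw [mem_nonZeroDivisors_iff_right]
  intro x hx
  apply h2
  show algebraMap A B a * x = algebraMap A B a * 0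
  rw [mul_zero, mul_comm]
  exact hx

/-- the inverse image of an effective Cartier divisor under a flat morphism is one -/
theorem isEffCartierIdeal_comap_of_flat {W V : Scheme.{u}} (g : W ⟶ V) [Flat g]
    (I : V.IdealSheafData) (hI : BlowUp.IsEffCartierIdeal I) :
    BlowUp.IsEffCartierIdeal (I.comap g) := by
  intro x
  obtain ⟨U, hxU, f, hf, hIU⟩ := hI (g x)
  have hx : x ∈ g ⁻¹ᵁ U.1 := hxU
  obtain ⟨_, ⟨W', hW', rfl⟩, hxW', hle⟩ :=
    W.isBasis_affineOpens.exists_subset_of_mem_open hx (g ⁻¹ᵁ U.1).isOpen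
  refine ⟨⟨W', hW'⟩, hxW', (g.appLE U.1 W' hle).hom f, ?_, ?_⟩
  · exact map_mem_nonZeroDivisors_of_flat _ (Scheme.Hom.flat_appLE g U.2 hW' hle) f hf
  · rw [Groth.Agent.Helper9.IdealComap.ideal_comap g I U ⟨W', hW'⟩ hle, hIU, Ideal.map_span,
      Set.image_singleton]

/-- the closed subscheme of the inverse image ideal is the fibre product -/
theorem isPullback_comap {W V : Scheme.{u}} (g : W ⟶ V) (I : V.IdealSheafData) :
    IsPullback ((I.comapIso g).hom ≫ pullback.snd _ _) (I.comap g).subschemeι I.subschemeι g := by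
  refine IsPullback.flip (IsPullback.of_iso_pullback ⟨?_⟩ (I.comapIso g) ?_ rfl)
  · rw [← Scheme.IdealSheafData.comapIso_hom_fst, Category.assoc, Category.assoc, pullback.condition]
  · exact Scheme.IdealSheafData.comapIso_hom_fst I g

variable {S : Scheme.{u}}

set_option backward.isDefEq.respectTransparency.types false in
/-- S10795 -/
theorem s10795 {X Y D P : Sp S} (hX : IsAlgSpace X) (f : X ⟶ Y) (hf : LocP @Flat f) (i : D ⟶ Y)
    (hD : IsEffCartierSub i) (fst : P ⟶ D) (snd : P ⟶ X) (hP : IsPullback fst snd i f) :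
    IsEffCartierSub snd := by
  obtain ⟨hci, V, φ, I, fstD, hφ, hφs, sqD, hI⟩ := hD
  obtain ⟨U₀, a₀, ha₀, ha₀s⟩ := hX.atlas
  obtain ⟨W, w, h', sqW⟩ := hφ.1 (a₀ ≫ f)
  obtain ⟨h, rfl⟩ := (yon S).map_surjective h'
  have hwet : Etale w.left := hφ.2 _ _ _ sqW
  have hws : Surjective w.left := hφs.2 _ _ _ sqW
  let a : (yon S).obj W ⟶ X := (yon S).map w ≫ a₀
  have ha : RepWith @Etale a :=
    (RepWith @Etale).comp_mem _ _ ((repWith_yon_map_iff _ w).2 hwet) ha₀
  have has : RepWith @Surjective a :=
    (RepWith @Surjective).comp_mem _ _ ((repWith_yon_map_iff _ w).2 hws) ha₀s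
  have hcomm : a ≫ f = (yon S).map h ≫ φ := by
    show ((yon S).map w ≫ a₀) ≫ f = _
    rw [Category.assoc, sqW.w]
  haveI : Flat h.left := hf a φ h ha hφ hcomm
  have hJ := isEffCartierIdeal_comap_of_flat h.left I hI
  -- the scheme-level pullback square, over S
  let DW : Over S := Over.mk ((I.comap h.left).subschemeι ≫ W.hom)
  let DV : Over S := Over.mk (I.subschemeι ≫ V.hom)
  let ιW : DW ⟶ W := Over.homMk (I.comap h.left).subschemeι rfl
  let ιV : DV ⟶ V := Over.homMk I.subschemeι rfl
  let m : DW ⟶ DV := Over.homMk ((I.comapIso h.left).hom ≫ pullback.snd _ _) (by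
    show ((I.comapIso h.left).hom ≫ pullback.snd _ _) ≫ I.subschemeι ≫ V.hom =
      (I.comap h.left).subschemeι ≫ W.hom
    rw [← Over.w h, ← Category.assoc, ← Category.assoc, (isPullback_comap h.left I).w])
  have sqS : IsPullback m ιW ιV h := by
    apply Groth.Agent.Helper5.GeomFibSp.isPullback_of_left
    · ext
      exact (isPullback_comap h.left I).w
    · exact isPullback_comap h.left I
  have sqY := sqS.map (yon S)
  -- the rectangle over `a ≫ f`
  have big : IsPullback ((yon S).map m ≫ fstD) ((yon S).map ιW) i (a ≫ f) := by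
    rw [hcomm]
    exact sqY.paste_horiz sqD
  let fst' : (yon S).obj DW ⟶ P := hP.lift ((yon S).map m ≫ fstD) ((yon S).map ιW ≫ a) (by
    have := big.w
    simp only [Category.assoc] at this ⊢
    exact this)
  have h1 : fst' ≫ fst = (yon S).map m ≫ fstD := hP.lift_fst _ _ _
  have h2 : fst' ≫ snd = (yon S).map ιW ≫ a := hP.lift_snd _ _ _
  have sqP : IsPullback fst' ((yon S).map ιW) snd a := by
    refine IsPullback.of_right ?_ h2 hP
    rw [h1]
    exact big
  exact ⟨(RepWith @IsClosedImmersion).of_isPullback hP hci, W, a, I.comap h.left, fst', ha, has,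
    sqP, hJ⟩

end Groth.Agent.Helper5.EffCart
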