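import Groth.Agent.Helper5.ClosedSub1
import Mathlib

/-! The scheme theoretic image of a morphism of algebraic spaces. -/

set_option autoImplicit false
universe u
open CategoryTheory CategoryTheory.Limits AlgebraicGeometry Opposite MorphismProperty

namespace Groth.Agent.Helper5.SchImg

open AlgSp Groth.Agent.Helper4.AlgSpOpenImage Groth.Agent.Helper4.AlgSpBasic
  Groth.Agent.Helper5.RedInd Groth.Agent.Helper5.ClosedSub Groth.Agent.Helper5.GeomFibSp

/-- the kernel of a base change of a closed immersion -/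
theorem ker_of_isPullback {A B C D : Scheme.{u}} {q : A ⟶ B} {z : A ⟶ C} {i : B ⟶ D} {f : C ⟶ D}
    [IsClosedImmersion i] (sq : IsPullback q z i f) : z.ker = i.ker.comap f := by
  rw [← Scheme.IdealSheafData.ker_fst_of_isClosedImmersion, ← sq.flip.isoPullback_hom_fst,
    Scheme.Hom.ker_comp_of_isIso]

/-- a morphism factors through a closed immersion iff the kernels are comparable -/
theorem ker_le_of_factor {A B C : Scheme.{u}} (i : B ⟶ C) (z : A ⟶ B) : i.ker ≤ (z ≫ i).ker := by
  rw [Scheme.Hom.ker_comp, ← Scheme.IdealSheafData.map_bot]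
  exact Scheme.IdealSheafData.map_mono _ bot_le

variable {S : Scheme.{u}}

/-- lifting through a closed immersion over `S` -/
theorem exists_over_lift {A B C : Over S} (i : B ⟶ C) [IsClosedImmersion i.left] (g : A ⟶ C)
    (H : i.left.ker ≤ g.left.ker) : ∃ l : A ⟶ B, l ≫ i = g := by
  let l₀ : A.left ⟶ B.left := IsClosedImmersion.lift i.left g.left H
  have h1 : l₀ ≫ i.left = g.left := IsClosedImmersion.lift_fac _ _ H
  have h2 : i.left ≫ C.hom = B.hom := CategoryTheory.Over.w i
  have h3 : g.left ≫ C.hom = A.hom := CategoryTheory.Over.w g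
  have h4 : l₀ ≫ B.hom = A.hom := by rw [← h2, ← Category.assoc, h1, h3]
  refine ⟨Over.homMk l₀ h4, ?_⟩
  ext
  exact h1

set_option backward.isDefEq.respectTransparency.types false in
/-- S9964 -/
theorem s9964 {X Y : Sp S} (hX : IsAlgSpace X) (hY : IsAlgSpace Y) (f : X ⟶ Y) :
    ∃ (Z : Sp S) (i : Z ⟶ Y), IsAlgSpace Z ∧ IsSchImage f i := by
  obtain ⟨V, p, hp, hps⟩ := hY.atlas
  obtain ⟨W₀, q, hq, hqs⟩ := hX.atlas
  obtain ⟨W, t, g', sqW⟩ := hp.1 (q ≫ f)
  have hte : Etale t.left := hp.2 _ _ _ sqW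
  have hts : Surjective t.left := hps.2 _ _ _ sqW
  obtain ⟨g, rfl⟩ := (yon S).map_surjective g'
  let u : (yon S).obj W ⟶ X := (yon S).map t ≫ q
  have hu : RepWith @Etale u :=
    Groth.Agent.Helper4.AlgSpSrc.repWith_comp @Etale ((repWith_yon_map_iff _ t).2 hte) hq
  have hus : RepWith @Surjective u :=
    Groth.Agent.Helper4.AlgSpSrc.repWith_comp @Surjective ((repWith_yon_map_iff _ t).2 hts) hqs
  have huf : u ≫ f = (yon S).map g ≫ p := by
    show ((yon S).map t ≫ q) ≫ f = _
    rw [Category.assoc, sqW.w]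
  -- `R₀ = V ×_Y V`
  obtain ⟨R₀, pr₂, pr₁', sqR⟩ := hp.1 p
  obtain ⟨pr₁, rfl⟩ := (yon S).map_surjective pr₁'
  -- the largest invariant ideal contained in the kernel of `g`
  let Iset : Set V.left.IdealSheafData :=
    {I | I.comap pr₁.left = I.comap pr₂.left ∧ I ≤ g.left.ker}
  let I : V.left.IdealSheafData := sSup Iset
  have hIinv : I.comap pr₁.left = I.comap pr₂.left := by
    show (sSup Iset).comap pr₁.left = (sSup Iset).comap pr₂.left
    rw [(Scheme.IdealSheafData.map_gc pr₁.left).l_sSup, (Scheme.IdealSheafData.map_gc pr₂.left).l_sSup]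
    exact iSup_congr fun J => iSup_congr fun hJ => hJ.1
  have hIle : I ≤ g.left.ker := sSup_le fun J hJ => hJ.2
  let ZV : Over S := Over.mk (I.subschemeι ≫ V.hom)
  let ī : ZV ⟶ V := Over.homMk I.subschemeι rfl
  have hīc : IsClosedImmersion ī.left := inferInstanceAs (IsClosedImmersion I.subschemeι)
  have hīker : ī.left.ker = I := I.ker_subschemeι
  -- invariance in the form used by `closedSubspace_of_invariant`
  have hinv_gen : ∀ (J : V.left.IdealSheafData), J.comap pr₁.left = J.comap pr₂.left →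
      ∀ (T'' : Over S) (α β : T'' ⟶ V), (yon S).map α ≫ p = (yon S).map β ≫ p →
      J ≤ α.left.ker → J ≤ β.left.ker := by
    intro J hJ T'' α β hαβ hα
    obtain ⟨ρ, hρ⟩ := (yon S).map_surjective (sqR.lift _ _ hαβ)
    have hρ1 : ρ ≫ pr₁ = α := by
      apply (yon S).map_injective
      rw [Functor.map_comp, hρ, sqR.lift_fst]
    have hρ2 : ρ ≫ pr₂ = β := by
      apply (yon S).map_injective
      rw [Functor.map_comp, hρ, sqR.lift_snd]
    rw [← hρ1, Over.comp_left, Scheme.Hom.ker_comp, Scheme.IdealSheafData.le_map_iff_comap_le,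
      hJ, ← Scheme.IdealSheafData.le_map_iff_comap_le, ← Scheme.Hom.ker_comp, ← Over.comp_left,
      hρ2] at hα
    exact hα
  have hinv : ∀ (T'' : Over S) (α β : T'' ⟶ V), (yon S).map α ≫ p = (yon S).map β ≫ p →
      (∃ z₀ : T'' ⟶ ZV, z₀ ≫ ī = α) → ∃ z₁ : T'' ⟶ ZV, z₁ ≫ ī = β := by
    rintro T'' α β hαβ ⟨z₀, rfl⟩
    have h1 : I ≤ (z₀ ≫ ī).left.ker := by
      rw [← hīker, Over.comp_left]
      exact ker_le_of_factor _ _
    have h2 := hinv_gen I hIinv T'' _ β hαβ h1
    exact exists_over_lift ī β (by rw [hīker]; exact h2)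
  obtain ⟨sqK, hci, hte', hts', hZalg⟩ :=
    closedSubspace_of_invariant hY.diag p hp hps ī hīc hinv
  generalize ha : (yon S).map ī ≫ p = a at sqK hci hte' hts' hZalg
  refine ⟨img a, imgι a, hZalg, hci, ?_, ?_⟩
  · -- `f` factors through the image
    obtain ⟨gI, hgI⟩ := exists_over_lift ī g (by rw [hīker]; exact hIle)
    apply exists_lift_of_mono
    intro T s
    obtain ⟨T', t', pf, sqT⟩ := hu.1 s
    have ht' : Etale t'.left := hu.2 _ pf t' sqT
    have hts'' : Surjective t'.left := hus.2 _ pf t' sqT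
    let a' : (yon S).obj T' ⟶ img a := pf ≫ (yon S).map gI ≫ toImg a
    have ha' : a' ≫ imgι a = (yon S).map t' ≫ s ≫ f := by
      simp only [a', Category.assoc, toImg_ι]
      rw [← ha, ← Category.assoc ((yon S).map gI), ← Functor.map_comp, hgI, ← huf,
        ← Category.assoc, sqT.w, Category.assoc]
    have : Flat t'.left := inferInstance
    have : LocallyOfFinitePresentation t'.left := inferInstance
    apply Groth.Agent.Helper5.SpCoprod.exists_lift_of_local_lift (imgι a) (s ≫ f)
      (Sieve.generate (Presieve.singleton t')) (generate_singleton_mem_J t')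
    rintro V' γ ⟨Z', γ', _, ⟨⟩, rfl⟩
    exact ⟨(yon S).map γ' ≫ a', by rw [Category.assoc, ha', Functor.map_comp, Category.assoc]⟩
  · -- minimality
    intro Z' i' hZ' hi' ⟨f'', hf''⟩
    have hmono' : Mono i' := mono_of_repWith (P := @IsClosedImmersion) (fun g hg => by
      have : IsClosedImmersion g := hg
      infer_instance) i' hi'
    obtain ⟨Z'V, ī', b', sqZ'⟩ := hi'.1 p
    have hī'c : IsClosedImmersion ī'.left := hi'.2 _ _ _ sqZ'
    -- `g` factors through `Z'_V`
    have hcone : (u ≫ f'') ≫ i' = (yon S).map g ≫ p := by rw [Category.assoc, hf'', huf]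
    obtain ⟨m, hm⟩ := (yon S).map_surjective (sqZ'.lift _ _ hcone)
    have hm2 : m ≫ ī' = g := by
      apply (yon S).map_injective
      rw [Functor.map_comp, hm, sqZ'.lift_snd]
    have hle1 : ī'.left.ker ≤ g.left.ker := by
      rw [← hm2, Over.comp_left]
      exact ker_le_of_factor _ _
    -- invariance of `Z'_V`
    obtain ⟨ZR', zR', bR', sqZR'⟩ := hi'.1 ((yon S).map pr₁ ≫ p)
    have key : ∀ (pr : R₀ ⟶ V), (yon S).map pr ≫ p = (yon S).map pr₁ ≫ p →
        zR'.left.ker = ī'.left.ker.comap pr.left := by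
      intro pr hpr
      have hcomm : bR' ≫ i' = ((yon S).map zR' ≫ (yon S).map pr) ≫ p := by
        rw [sqZR'.w, Category.assoc, hpr]
      obtain ⟨q', hq'⟩ :=
        (yon S).map_surjective (sqZ'.lift bR' ((yon S).map zR' ≫ (yon S).map pr) hcomm)
      have big : IsPullback ((yon S).map q' ≫ b') ((yon S).map zR') i' ((yon S).map pr ≫ p) := by
        rw [hq', sqZ'.lift_fst, hpr]
        exact sqZR'
      have sq' : IsPullback ((yon S).map q') ((yon S).map zR') ((yon S).map ī') ((yon S).map pr) :=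
        IsPullback.of_right big (by rw [hq', sqZ'.lift_snd]) sqZ'
      have sqS : IsPullback q'.left zR'.left ī'.left pr.left :=
        isPullback_left (isPullback_of_yon_map sq')
      exact ker_of_isPullback sqS
    have hinv' : ī'.left.ker.comap pr₁.left = ī'.left.ker.comap pr₂.left := by
      rw [← key pr₁ rfl, ← key pr₂ sqR.w.symm]
    have hle2 : ī'.left.ker ≤ I := le_sSup ⟨hinv', hle1⟩
    obtain ⟨e, he⟩ := exists_over_lift ī' ī (by rw [hīker]; exact hle2)
    -- the map `img a ⟶ Z'`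
    have hκ : ((yon S).map e ≫ b') ≫ i' = a := by
      rw [Category.assoc, sqZ'.w, ← Category.assoc, ← Functor.map_comp, he, ha]
    apply exists_lift_of_mono
    intro T s
    obtain ⟨R₁, hR₁, hl₁⟩ := loc_lift_img a s
    apply Groth.Agent.Helper5.SpCoprod.exists_lift_of_local_lift i' _ R₁ hR₁
    intro T' γ hγ
    obtain ⟨z, hz⟩ := hl₁ γ hγ
    refine ⟨z ≫ (yon S).map e ≫ b', ?_⟩
    have e1 : z ≫ a = (z ≫ toImg a) ≫ imgι a := by rw [Category.assoc, toImg_ι]
    rw [Category.assoc, Category.assoc, ← Category.assoc ((yon S).map e), hκ, e1, hz,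
      Category.assoc]

end Groth.Agent.Helper5.SchImg
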