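import Groth.Agent.Helper5.EffCart2
import Groth.Agent.Helper5.CartDesc2
import Groth.Agent.Helper5.SchImg1
import Mathlib

/-! Effective Cartier divisors on algebraic spaces: independence of the chart. -/

set_option autoImplicit false
set_option linter.style.haveILetI false
universe u
open CategoryTheory CategoryTheory.Limits AlgebraicGeometry Opposite MorphismProperty

namespace Groth.Agent.Helper5.EffCart

open AlgSp

variable {S : Scheme.{u}}

/-- the closed subscheme of the inverse image ideal is the fibre product, over `S` -/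
theorem isPullback_comap_over {W V : Over S} (h : W ⟶ V) (I : V.left.IdealSheafData) :
    ∃ m : Over.mk ((I.comap h.left).subschemeι ≫ W.hom) ⟶ Over.mk (I.subschemeι ≫ V.hom),
      IsPullback m (Over.homMk (I.comap h.left).subschemeι rfl :
          Over.mk ((I.comap h.left).subschemeι ≫ W.hom) ⟶ W)
        (Over.homMk I.subschemeι rfl : Over.mk (I.subschemeι ≫ V.hom) ⟶ V) h := by
  let m : Over.mk ((I.comap h.left).subschemeι ≫ W.hom) ⟶ Over.mk (I.subschemeι ≫ V.hom) :=
    Over.homMk ((I.comapIso h.left).hom ≫ pullback.snd _ _) (by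
      show ((I.comapIso h.left).hom ≫ pullback.snd _ _) ≫ I.subschemeι ≫ V.hom =
        (I.comap h.left).subschemeι ≫ W.hom
      rw [← Over.w h, ← Category.assoc, ← Category.assoc, (isPullback_comap h.left I).w])
  refine ⟨m, ?_⟩
  apply Groth.Agent.Helper5.GeomFibSp.isPullback_of_left
  · ext
    exact (isPullback_comap h.left I).w
  · exact isPullback_comap h.left I

set_option backward.isDefEq.respectTransparency.types false in
/-- Two charts with ideals cutting out the same subsheaf: the ideals agree on any common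
refinement. -/
theorem comap_eq_comap {X D : Sp S} (i : D ⟶ X) {U V W : Over S}
    (ψ : (yon S).obj U ⟶ X) (φ : (yon S).obj V ⟶ X) (q : W ⟶ U) (r : W ⟶ V)
    (hqr : (yon S).map q ≫ ψ = (yon S).map r ≫ φ)
    (J : U.left.IdealSheafData) (fstJ : (yon S).obj (Over.mk (J.subschemeι ≫ U.hom)) ⟶ D)
    (sqJ : IsPullback fstJ ((yon S).map (Over.homMk J.subschemeι rfl :
      Over.mk (J.subschemeι ≫ U.hom) ⟶ U)) i ψ)
    (I : V.left.IdealSheafData) (fstI : (yon S).obj (Over.mk (I.subschemeι ≫ V.hom)) ⟶ D)
    (sqI : IsPullback fstI ((yon S).map (Over.homMk I.subschemeι rfl :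
      Over.mk (I.subschemeι ≫ V.hom) ⟶ V)) i φ) :
    J.comap q.left = I.comap r.left := by
  obtain ⟨m, sqS⟩ := isPullback_comap_over q J
  have sqY := sqS.map (yon S)
  have big : IsPullback ((yon S).map m ≫ fstJ) ((yon S).map (Over.homMk
      (J.comap q.left).subschemeι rfl : Over.mk ((J.comap q.left).subschemeι ≫ W.hom) ⟶ W)) i
      ((yon S).map r ≫ φ) := by
    rw [← hqr]
    exact sqY.paste_horiz sqJ
  let l := sqI.lift ((yon S).map m ≫ fstJ) ((yon S).map (Over.homMk
      (J.comap q.left).subschemeι rfl : Over.mk ((J.comap q.left).subschemeι ≫ W.hom) ⟶ W) ≫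
      (yon S).map r) (by
    have := big.w
    simp only [Category.assoc] at this ⊢
    exact this)
  have h1 : l ≫ fstI = (yon S).map m ≫ fstJ := sqI.lift_fst _ _ _
  have h2 : l ≫ (yon S).map (Over.homMk I.subschemeι rfl : Over.mk (I.subschemeι ≫ V.hom) ⟶ V) =
      (yon S).map (Over.homMk (J.comap q.left).subschemeι rfl :
        Over.mk ((J.comap q.left).subschemeι ≫ W.hom) ⟶ W) ≫ (yon S).map r := sqI.lift_snd _ _ _
  have sqL : IsPullback l ((yon S).map (Over.homMk (J.comap q.left).subschemeι rfl :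
      Over.mk ((J.comap q.left).subschemeι ≫ W.hom) ⟶ W))
      ((yon S).map (Over.homMk I.subschemeι rfl : Over.mk (I.subschemeι ≫ V.hom) ⟶ V))
      ((yon S).map r) := by
    refine IsPullback.of_right ?_ h2 sqI
    rw [h1]
    exact big
  obtain ⟨l₀, hl₀⟩ := (yon S).map_surjective l
  rw [← hl₀] at sqL
  have sqL' := Groth.Agent.Helper5.GeomFibSp.isPullback_left
    (Groth.Agent.Helper5.GeomFibSp.isPullback_of_yon_map sqL)
  have sqL'' : IsPullback l₀.left (J.comap q.left).subschemeι I.subschemeι r.left := sqL'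
  have := Groth.Agent.Helper5.SchImg.ker_of_isPullback sqL''
  simpa using this

set_option backward.isDefEq.respectTransparency.types false in
/-- the inverse image of a closed subspace in a chart is the closed subscheme of an ideal sheaf -/
theorem exists_isPullback_subscheme {X D : Sp S} (i : D ⟶ X) (hi : RepWith @IsClosedImmersion i)
    {V : Over S} (φ : (yon S).obj V ⟶ X) :
    ∃ (I : V.left.IdealSheafData) (fst : (yon S).obj (Over.mk (I.subschemeι ≫ V.hom)) ⟶ D),
      IsPullback fst ((yon S).map (Over.homMk I.subschemeι rfl :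
        Over.mk (I.subschemeι ≫ V.hom) ⟶ V)) i φ := by
  obtain ⟨Z, z, fstZ, sqZ⟩ := hi.1 φ
  haveI : IsClosedImmersion z.left := hi.2 _ _ _ sqZ
  let e₀ : z.left.ker.subscheme ≅ Z.left := (asIso z.left.toImage).symm
  have he₀ : e₀.hom ≫ z.left = z.left.ker.subschemeι := by
    show inv z.left.toImage ≫ z.left = _
    rw [IsIso.inv_comp_eq]
    exact (z.left.toImage_imageι).symm
  let c : Over.mk (z.left.ker.subschemeι ≫ V.hom) ⟶ Z := Over.homMk e₀.hom (by
    show e₀.hom ≫ Z.hom = z.left.ker.subschemeι ≫ V.hom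
    rw [← Over.w z, ← Category.assoc, he₀])
  have hc : c ≫ z = (Over.homMk z.left.ker.subschemeι rfl :
      Over.mk (z.left.ker.subschemeι ≫ V.hom) ⟶ V) := by
    ext
    exact he₀
  haveI : IsIso c := by
    haveI : IsIso ((Over.forget S).map c) := by
      show IsIso e₀.hom
      infer_instance
    exact isIso_of_reflects_iso c (Over.forget S)
  refine ⟨z.left.ker, (yon S).map c ≫ fstZ, ?_⟩
  have sq0 : IsPullback ((yon S).map c) ((yon S).map (Over.homMk z.left.ker.subschemeι rfl :
      Over.mk (z.left.ker.subschemeι ≫ V.hom) ⟶ V)) ((yon S).map z) (𝟙 _) :=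
    IsPullback.of_horiz_isIso ⟨by rw [Category.comp_id, ← Functor.map_comp, hc]⟩
  have := sq0.paste_horiz sqZ
  rwa [Category.id_comp] at this

/-- S10791 -/
theorem s10791 {X D : Sp S} (hX : IsAlgSpace X) (i : D ⟶ X) (hi : RepWith @IsClosedImmersion i) :
    IsEffCartierSub i ↔
      ∀ (U : Over S) (φ : (yon S).obj U ⟶ X), RepWith @Etale φ →
        ∀ (I : U.left.IdealSheafData)
          (fst : (yon S).obj (Over.mk (I.subschemeι ≫ U.hom)) ⟶ D),
          IsPullback fst ((yon S).map (Over.homMk I.subschemeι rfl :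
            Over.mk (I.subschemeι ≫ U.hom) ⟶ U)) i φ →
            BlowUp.IsEffCartierIdeal I := by
  constructor
  · rintro ⟨-, V, φ, I, fstD, hφ, hφs, sqD, hI⟩ U ψ hψ J fstJ sqJ
    obtain ⟨W, q, r', sqW⟩ := hφ.1 ψ
    obtain ⟨r, rfl⟩ := (yon S).map_surjective r'
    haveI : Etale q.left := hφ.2 _ _ _ sqW
    haveI : Surjective q.left := hφs.2 _ _ _ sqW
    haveI : Etale r.left := hψ.2 _ _ _ sqW.flip
    have key := comap_eq_comap i ψ φ q r sqW.w.symm J fstJ sqJ I fstD sqD
    have h1 : BlowUp.IsEffCartierIdeal (I.comap r.left) :=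
      isEffCartierIdeal_comap_of_flat r.left I hI
    rw [← key] at h1
    exact Groth.Agent.Helper5.CartDesc.descent q.left J h1
  · intro H
    obtain ⟨V, φ, hφ, hφs⟩ := hX.atlas
    obtain ⟨I, fst, sq⟩ := exists_isPullback_subscheme i hi φ
    exact ⟨hi, V, φ, I, fst, hφ, hφs, sq, H V φ hφ I fst sq⟩

end Groth.Agent.Helper5.EffCart
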