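import Groth.Agent.Helper5.EffCart3
import Groth.Agent.Helper5.AlgSpOpen
import Groth.Agent.Helper5.GeomRed2
import Groth.Agent.Lead.CartProdA
import Mathlib

/-! Effective Cartier divisors on algebraic spaces: the pointed affine form. -/

set_option autoImplicit false
set_option linter.style.haveILetI false
universe u
open CategoryTheory CategoryTheory.Limits AlgebraicGeometry Opposite MorphismProperty

namespace Groth.Agent.Helper5.EffCart

open AlgSp

variable {S : Scheme.{u}}

/-- an ideal sheaf on an affine scheme whose global ideal is generated by a nonzerodivisor is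
effective Cartier -/
theorem isEffCartierIdeal_of_top {U : Scheme.{u}} [IsAffine U] (J : U.IdealSheafData)
    (f : Γ(U, ⊤)) (hf : f ∈ nonZeroDivisors Γ(U, ⊤))
    (hJ : J.ideal ⟨⊤, isAffineOpen_top U⟩ = Ideal.span {f}) : BlowUp.IsEffCartierIdeal J :=
  fun _ => ⟨⟨⊤, isAffineOpen_top U⟩, trivial, f, hf, hJ⟩

/-- S10792, from the one-chart form to the pointed affine form -/
theorem s10792_mp {X D : Sp S} (i : D ⟶ X) (hD : IsEffCartierSub i) (x : Points D) :
    ∃ (U : Over S) (_ : IsAffine U.left) (a : (yon S).obj U ⟶ X) (u : ↥U.left)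
      (f : Γ(U.left, ⊤)) (I : U.left.IdealSheafData)
      (fst : (yon S).obj (Over.mk (I.subschemeι ≫ U.hom)) ⟶ D),
      RepWith @Etale a ∧ Points.ofPt a u = Points.map i x ∧
        f ∈ nonZeroDivisors Γ(U.left, ⊤) ∧
        I.ideal ⟨⊤, isAffineOpen_top U.left⟩ = Ideal.span {f} ∧
        IsPullback fst ((yon S).map (Over.homMk I.subschemeι rfl :
          Over.mk (I.subschemeι ≫ U.hom) ⟶ U)) i a := by
  obtain ⟨hci, V, φ, I, fstD, hφ, hφs, sqD, hI⟩ := hD
  obtain ⟨v, hv⟩ := Groth.Agent.Helper5.AlgSpOpen.ofPt_surjective_of_repWith φ hφs (Points.map i x)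
  obtain ⟨U₀, hvU₀, f, hf, hIU₀⟩ := hI v
  let U : Over S := Over.mk (U₀.1.ι ≫ V.hom)
  let ι : U ⟶ V := Over.homMk U₀.1.ι rfl
  haveI hUaff : IsAffine U.left := U₀.2
  have hιet : Etale ι.left := by
    show Etale U₀.1.ι
    infer_instance
  have ha : RepWith @Etale ((yon S).map ι ≫ φ) :=
    (RepWith @Etale).comp_mem _ _ ((repWith_yon_map_iff _ ι).2 hιet) hφ
  obtain ⟨m, sqS⟩ := isPullback_comap_over ι I
  have sqY := sqS.map (yon S)
  have big := sqY.paste_horiz sqD
  refine ⟨U, hUaff, (yon S).map ι ≫ φ, ⟨v, hvU₀⟩, U₀.1.topIso.inv.hom f, I.comap ι.left,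
    (yon S).map m ≫ fstD, ha, ?_, ?_, ?_, big⟩
  · rw [Groth.Agent.Helper4.AlgSpPtsDesc.ofPt_yon_map_comp]
    exact hv
  · rw [mem_nonZeroDivisors_iff_right]
    intro y hy
    have h1 : U₀.1.topIso.hom.hom y * f = 0 := by
      have := congrArg U₀.1.topIso.hom.hom hy
      rw [map_mul, map_zero] at this
      have e : U₀.1.topIso.hom.hom (U₀.1.topIso.inv.hom f) = f := by
        rw [← CommRingCat.comp_apply, Iso.inv_hom_id]
        rfl
      rw [e] at this
      exact this
    have h2 := (mem_nonZeroDivisors_iff_right.1 hf) _ h1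
    have e : U₀.1.topIso.inv.hom (U₀.1.topIso.hom.hom y) = y := by
      rw [← CommRingCat.comp_apply, Iso.hom_inv_id]
      rfl
    rw [← e, h2, map_zero]
  · have := Groth.Agent.Helper9.IdealComap.ideal_comap_ι I U₀ (isAffineOpen_top _)
    show (I.comap U₀.1.ι).ideal ⟨⊤, _⟩ = _
    rw [this, hIU₀, Ideal.map_span, Set.image_singleton]
    rfl

set_option backward.isDefEq.respectTransparency.types false in
/-- S10792, from the pointed affine form to the one-chart form -/
theorem s10792_mpr {X D : Sp S} (hX : IsAlgSpace X) (i : D ⟶ X)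
    (hi : RepWith @IsClosedImmersion i)
    (H : ∀ x : Points D,
      ∃ (U : Over S) (_ : IsAffine U.left) (a : (yon S).obj U ⟶ X) (u : ↥U.left)
        (f : Γ(U.left, ⊤)) (I : U.left.IdealSheafData)
        (fst : (yon S).obj (Over.mk (I.subschemeι ≫ U.hom)) ⟶ D),
        RepWith @Etale a ∧ Points.ofPt a u = Points.map i x ∧
          f ∈ nonZeroDivisors Γ(U.left, ⊤) ∧
          I.ideal ⟨⊤, isAffineOpen_top U.left⟩ = Ideal.span {f} ∧
          IsPullback fst ((yon S).map (Over.homMk I.subschemeι rfl :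
            Over.mk (I.subschemeι ≫ U.hom) ⟶ U)) i a) :
    IsEffCartierSub i := by
  obtain ⟨V, φ, hφ, hφs⟩ := hX.atlas
  obtain ⟨I, fst, sq⟩ := exists_isPullback_subscheme i hi φ
  refine ⟨hi, V, φ, I, fst, hφ, hφs, sq, ?_⟩
  intro v
  by_cases hv : v ∈ I.support
  · have hvr : v ∈ Set.range (Over.homMk I.subschemeι rfl :
        Over.mk (I.subschemeι ≫ V.hom) ⟶ V).left := by
      show v ∈ Set.range I.subschemeι
      rw [Scheme.IdealSheafData.range_subschemeι]
      exact hv
    obtain ⟨x, hx⟩ := (mem_range_iff_of_isPullback i φ _ fst sq v).1 hvr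
    obtain ⟨U, hUaff, a, u, f, J, fstJ, ha, hu, hf, hJ, sqJ⟩ := H x
    obtain ⟨W, q, r', sqW⟩ := hφ.1 a
    obtain ⟨r, rfl⟩ := (yon S).map_surjective r'
    haveI : Etale q.left := hφ.2 _ _ _ sqW
    haveI : Etale r.left := ha.2 _ _ _ sqW.flip
    have hpt : Points.map φ (Points.schemeHomeo V v) = Points.map a (Points.schemeHomeo U u) := by
      rw [← hx, Groth.Agent.Helper4.AlgSpQC2.ofPt_eq_map_schemeHomeo, hu]
    obtain ⟨p, hp1, hp2⟩ := Groth.Agent.Helper4.AlgSpPtsDesc.exists_point_of_isPullback sqW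
      (Points.schemeHomeo V v) (Points.schemeHomeo U u) hpt
    obtain ⟨w, rfl⟩ := (Points.schemeHomeo W).surjective p
    rw [Points.map_yon_map_apply] at hp1
    have hrw : r.left w = v := (Points.schemeHomeo V).injective hp1
    have key := comap_eq_comap i a φ q r sqW.w.symm J fstJ sqJ I fst sq
    have h1 : BlowUp.IsEffCartierIdeal (J.comap q.left) :=
      isEffCartierIdeal_comap_of_flat q.left J (isEffCartierIdeal_of_top J f hf hJ)
    rw [key] at h1
    have := Groth.Agent.Helper5.CartDesc.descent_at r.left I h1 w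
    rw [hrw] at this
    exact this
  · have hopen : IsOpen ((I.support : Set V.left)ᶜ) := I.support.isClosed.isOpen_compl
    obtain ⟨_, ⟨W, hW, rfl⟩, hvW, hle⟩ :=
      V.left.isBasis_affineOpens.exists_subset_of_mem_open (show v ∈ (I.support : Set V.left)ᶜ from hv)
        hopen
    have htop : I.ideal ⟨W, hW⟩ = ⊤ :=
      Groth.Agent.Lead.CartProdA.ideal_eq_top_of_disjoint I ⟨W, hW⟩ (fun y hy => hle hy)
    refine ⟨⟨W, hW⟩, hvW, 1, one_mem _, ?_⟩
    rw [htop, Ideal.span_singleton_one]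

end Groth.Agent.Helper5.EffCart
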