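import Groth.Agent.Helper5.EffCart3
import Groth.Agent.S1685
import Groth.Agent.Helper5.NormDepth1
import Groth.Agent.Helper2.Depth
import Mathlib

/-! Serre's conditions on an effective Cartier divisor of an algebraic space. -/

set_option autoImplicit false
set_option linter.style.haveILetI false
universe u
open CategoryTheory CategoryTheory.Limits AlgebraicGeometry Opposite MorphismProperty

namespace Groth.Agent.Helper5.EffCart

open AlgSp

variable {S : Scheme.{u}}

/-- a chart of the ambient space restricts to a chart of an effective Cartier divisor, whose ideal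
is effective Cartier -/
theorem exists_chart_of_isEffCartierSub {X D : Sp S} (hX : IsAlgSpace X) (i : D ⟶ X)
    (hD : IsEffCartierSub i) {U : Over S} (a : (yon S).obj U ⟶ X) (ha : RepWith @Etale a)
    (has : RepWith @Surjective a) :
    ∃ (J : U.left.IdealSheafData) (fstJ : (yon S).obj (Over.mk (J.subschemeι ≫ U.hom)) ⟶ D),
      BlowUp.IsEffCartierIdeal J ∧ RepWith @Etale fstJ ∧ RepWith @Surjective fstJ ∧
      IsPullback fstJ ((yon S).map (Over.homMk J.subschemeι rfl :
        Over.mk (J.subschemeι ≫ U.hom) ⟶ U)) i a := by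
  obtain ⟨J, fstJ, sqJ⟩ := exists_isPullback_subscheme i hD.1 a
  have hJ : BlowUp.IsEffCartierIdeal J := (s10791 hX i hD.1).1 hD U a ha J fstJ sqJ
  exact ⟨J, fstJ, hJ, (RepWith @Etale).of_isPullback sqJ.flip ha,
    (RepWith @Surjective).of_isPullback sqJ.flip has, sqJ⟩

/-- S10798 -/
theorem s10798 {X D : Sp S} (hXs : IsAlgSpace X) (k : ℕ)
    (hX : EtaleLocally (fun U => IsLocallyNoetherian U ∧ ∀ x : ↥U,
        min ((k : ℕ) : WithBot ℕ∞) (ringKrullDim ↥(U.presheaf.stalk x)) ≤
          ((LocCoh.depth ↥(U.presheaf.stalk x) ↥(U.presheaf.stalk x) : ℕ∞) : WithBot ℕ∞)) X)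
    (i : D ⟶ X) (hD : IsEffCartierSub i) :
    EtaleLocally (fun V => IsLocallyNoetherian V ∧ ∀ v : ↥V,
        min ((k - 1 : ℕ) : WithBot ℕ∞) (ringKrullDim ↥(V.presheaf.stalk v)) ≤
          ((LocCoh.depth ↥(V.presheaf.stalk v) ↥(V.presheaf.stalk v) : ℕ∞) : WithBot ℕ∞)) D := by
  obtain ⟨U, a, ha, has, hUN, hSk⟩ := hX
  obtain ⟨J, fstJ, hJ, h1, h2, -⟩ := exists_chart_of_isEffCartierSub hXs i hD a ha has
  haveI := hUN
  refine ⟨Over.mk (J.subschemeι ≫ U.hom), fstJ, h1, h2, ?_, ?_⟩
  · exact LocallyOfFiniteType.isLocallyNoetherian J.subschemeι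
  · intro d
    exact Groth.Agent.S1685.result U.left k hSk J hJ d

/-- a normal noetherian local domain satisfies `(S₂)` -/
theorem normal_S2 (A : Type u) [CommRing A] [IsDomain A] [IsNoetherianRing A] [IsLocalRing A]
    [IsIntegrallyClosed A] :
    min ((2 : ℕ) : WithBot ℕ∞) (ringKrullDim A) ≤ ((LocCoh.depth A A : ℕ∞) : WithBot ℕ∞) := by
  by_cases h2 : (2 : ℕ∞) ≤ LocCoh.depth A A
  · refine (min_le_left _ _).trans ?_
    have e2 : ((2 : ℕ) : WithBot ℕ∞) = ((2 : ℕ∞) : WithBot ℕ∞) := rfl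
    rw [e2]
    exact WithBot.coe_le_coe.2 h2
  · have h2' : LocCoh.depth A A ≤ 1 := ENat.lt_two_iff.1 (not_le.1 h2)
    have h01 : LocCoh.depth A A = 0 ∨ LocCoh.depth A A = 1 := by
      rcases lt_or_eq_of_le h2' with h | h
      · left
        exact Order.lt_one_iff.1 h
      · right
        exact h
    rcases h01 with h0 | h1
    · have hm : ∀ x ∈ IsLocalRing.maximalIdeal A, x = 0 := by
        intro x hx
        by_contra hne
        refine (Groth.Agent.Helper2.Depth.depth_eq_zero_iff A A).1 h0 x hx ?_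
        intro a b hab
        exact mul_left_cancel₀ hne hab
      have hf : IsField A := by
        rw [IsLocalRing.isField_iff_maximalIdeal_eq]
        exact eq_bot_iff.2 fun x hx => hm x hx
      rw [h0, ringKrullDim_eq_zero_of_isField hf]
      simp
    · haveI := Groth.Agent.Helper5.NormDepth.isDiscreteValuationRing_of_depth_one A h1
      rw [h1, IsDiscreteValuationRing.ringKrullDim_eq_one A]
      simp

/-- S10799 -/
theorem s10799 {X D : Sp S} (hXs : IsAlgSpace X)
    (hX : EtaleLocally (fun U => IsLocallyNoetherian U ∧ Pi1.IsNormalScheme U) X)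
    (i : D ⟶ X) (hD : IsEffCartierSub i) :
    EtaleLocally (fun V => IsLocallyNoetherian V ∧ ∀ v : ↥V,
        min ((1 : ℕ) : WithBot ℕ∞) (ringKrullDim ↥(V.presheaf.stalk v)) ≤
          ((LocCoh.depth ↥(V.presheaf.stalk v) ↥(V.presheaf.stalk v) : ℕ∞) : WithBot ℕ∞)) D := by
  obtain ⟨U, a, ha, has, hUN, hnorm⟩ := hX
  haveI := hUN
  refine s10798 hXs 2 ⟨U, a, ha, has, hUN, fun x => ?_⟩ i hD
  haveI := (hnorm x).1
  haveI := (hnorm x).2
  exact normal_S2 _

end Groth.Agent.Helper5.EffCart
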