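import Groth.Agent.Helper5.EffCart5
import Groth.Agent.Helper5.CartBC1
import Mathlib

/-! Base change of a relative effective Cartier divisor of algebraic spaces. -/

set_option autoImplicit false
set_option linter.style.haveILetI false
universe u
open CategoryTheory CategoryTheory.Limits AlgebraicGeometry Opposite MorphismProperty

namespace Groth.Agent.Helper5.EffCart

open AlgSp

/-- the morphism induced on fibre products by two morphisms with a property stable under base
change and composition has this property -/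
theorem mem_of_isPullback_of_isPullback {C : Type*} [Category C] [HasPullbacks C]
    (W : MorphismProperty C) [W.IsStableUnderBaseChange] [W.IsStableUnderComposition]
    {X Y Y' P A B Q : C} {f : X ⟶ Y} {g : Y' ⟶ Y} {g' : P ⟶ X} {f' : P ⟶ Y'}
    (hP : IsPullback g' f' f g) {a₀ : A ⟶ X} {b : B ⟶ Y'} {p : Q ⟶ A} {q : Q ⟶ B}
    (hQ : IsPullback p q (a₀ ≫ f) (b ≫ g)) (ha : W a₀) (hb : W b) (c : Q ⟶ P)
    (hc1 : c ≫ g' = p ≫ a₀) (hc2 : c ≫ f' = q ≫ b) : W c := by
  have sqR : IsPullback (pullback.snd a₀ g') (pullback.fst a₀ g') g' a₀ :=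
    (IsPullback.of_hasPullback a₀ g').flip
  have sqR2 : IsPullback (pullback.snd a₀ g' ≫ f') (pullback.fst a₀ g') g (a₀ ≫ f) :=
    sqR.paste_horiz hP.flip
  let d : Q ⟶ pullback a₀ g' := pullback.lift p c hc1.symm
  have hd1 : d ≫ pullback.fst a₀ g' = p := pullback.lift_fst _ _ _
  have hd2 : d ≫ pullback.snd a₀ g' = c := pullback.lift_snd _ _ _
  have hcomm : q ≫ b = d ≫ pullback.snd a₀ g' ≫ f' := by
    rw [← Category.assoc, hd2, hc2]
  have sqTop : IsPullback q d b (pullback.snd a₀ g' ≫ f') := by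
    refine IsPullback.of_bot ?_ hcomm sqR2
    rw [hd1]
    exact hQ.flip
  have h1 : W d := W.of_isPullback sqTop hb
  have h2 : W (pullback.snd a₀ g') := W.of_isPullback sqR.flip ha
  rw [← hd2]
  exact W.comp_mem _ _ h1 h2

variable {S : Scheme.{u}}

set_option backward.isDefEq.respectTransparency.types false in
/-- S10797 -/
theorem s10797 {X Y D Y' X' D' : Sp S} (hX : IsAlgSpace X) (hY : IsAlgSpace Y)
    (hY' : IsAlgSpace Y') (f : X ⟶ Y) (i : D ⟶ X) (hD : IsEffCartierSub i)
    (hflat : LocP @Flat (i ≫ f)) (g : Y' ⟶ Y) (g' : X' ⟶ X) (f' : X' ⟶ Y')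
    (hX' : IsPullback g' f' f g) (k : D' ⟶ D) (i' : D' ⟶ X') (hD' : IsPullback k i' i g') :
    IsEffCartierSub i' := by
  obtain ⟨V, φ, hφ, hφs⟩ := hY.atlas
  obtain ⟨U₀, a₀, ha₀, ha₀s⟩ := hX.atlas
  obtain ⟨V₀', b₀, hb₀, hb₀s⟩ := hY'.atlas
  obtain ⟨U, pU, u', sqU⟩ := hφ.1 (a₀ ≫ f)
  obtain ⟨u, rfl⟩ := (yon S).map_surjective u'
  obtain ⟨V', pV', v', sqV'⟩ := hφ.1 (b₀ ≫ g)
  obtain ⟨v, rfl⟩ := (yon S).map_surjective v'
  have hpUe : Etale pU.left := hφ.2 _ _ _ sqU
  have hpUs : Surjective pU.left := hφs.2 _ _ _ sqU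
  have hpVe : Etale pV'.left := hφ.2 _ _ _ sqV'
  have hpVs : Surjective pV'.left := hφs.2 _ _ _ sqV'
  have ha : RepWith @Etale ((yon S).map pU ≫ a₀) :=
    (RepWith @Etale).comp_mem _ _ ((repWith_yon_map_iff _ pU).2 hpUe) ha₀
  have has : RepWith @Surjective ((yon S).map pU ≫ a₀) :=
    (RepWith @Surjective).comp_mem _ _ ((repWith_yon_map_iff _ pU).2 hpUs) ha₀s
  have hb : RepWith @Etale ((yon S).map pV' ≫ b₀) :=
    (RepWith @Etale).comp_mem _ _ ((repWith_yon_map_iff _ pV').2 hpVe) hb₀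
  have hbs : RepWith @Surjective ((yon S).map pV' ≫ b₀) :=
    (RepWith @Surjective).comp_mem _ _ ((repWith_yon_map_iff _ pV').2 hpVs) hb₀s
  have haf : ((yon S).map pU ≫ a₀) ≫ f = (yon S).map u ≫ φ := by
    rw [Category.assoc, sqU.w]
  have hbg : ((yon S).map pV' ≫ b₀) ≫ g = (yon S).map v ≫ φ := by
    rw [Category.assoc, sqV'.w]
  -- the fibre product of the charts
  have sqS : IsPullback (pullback.fst u v) (pullback.snd u v) u v := IsPullback.of_hasPullback u v
  have sqSY := sqS.map (yon S)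
  have hQ : IsPullback ((yon S).map (pullback.fst u v) ≫ (yon S).map pU)
      ((yon S).map (pullback.snd u v)) (a₀ ≫ f) (((yon S).map pV' ≫ b₀) ≫ g) := by
    rw [hbg]
    exact sqSY.paste_horiz sqU.flip
  let c : (yon S).obj (pullback u v) ⟶ X' :=
    hX'.lift (((yon S).map (pullback.fst u v) ≫ (yon S).map pU) ≫ a₀)
      ((yon S).map (pullback.snd u v) ≫ ((yon S).map pV' ≫ b₀)) (by
        have := hQ.w
        simp only [Category.assoc] at this ⊢
        exact this)
  have hc1 : c ≫ g' = ((yon S).map (pullback.fst u v) ≫ (yon S).map pU) ≫ a₀ :=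
    hX'.lift_fst _ _ _
  have hc2 : c ≫ f' = (yon S).map (pullback.snd u v) ≫ ((yon S).map pV' ≫ b₀) :=
    hX'.lift_snd _ _ _
  have hce : RepWith @Etale c :=
    mem_of_isPullback_of_isPullback (RepWith @Etale) hX' hQ ha₀ hb c hc1 hc2
  have hcs : RepWith @Surjective c :=
    mem_of_isPullback_of_isPullback (RepWith @Surjective) hX' hQ ha₀s hbs c hc1 hc2
  -- the divisor in the chart of `X`
  obtain ⟨J, fstJ, hJ, hfe, -, sqJ⟩ :=
    exists_chart_of_isEffCartierSub hX i hD ((yon S).map pU ≫ a₀) ha has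
  haveI : Flat (J.subschemeι ≫ u.left) := by
    have h0 := hflat fstJ φ ((Over.homMk J.subschemeι rfl :
      Over.mk (J.subschemeι ≫ U.hom) ⟶ U) ≫ u) hfe hφ (by
        rw [← Category.assoc, sqJ.w, Category.assoc, haf, Functor.map_comp, Category.assoc])
    exact h0
  have hK : BlowUp.IsEffCartierIdeal (J.comap (pullback.fst u v).left) :=
    Groth.Agent.Helper5.CartBC.isEffCartierIdeal_comap_of_isPullback
      (Groth.Agent.Helper5.GeomFibSp.isPullback_left sqS) J hJ
  obtain ⟨m, sqM⟩ := isPullback_comap_over (pullback.fst u v) J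
  have big := (sqM.map (yon S)).paste_horiz sqJ
  have hc1' : c ≫ g' = (yon S).map (pullback.fst u v) ≫ ((yon S).map pU ≫ a₀) := by
    rw [hc1, Category.assoc]
  let fst' := hD'.lift ((yon S).map m ≫ fstJ)
    ((yon S).map (Over.homMk (J.comap (pullback.fst u v).left).subschemeι rfl :
      Over.mk ((J.comap (pullback.fst u v).left).subschemeι ≫ (pullback u v).hom) ⟶ pullback u v) ≫ c)
    (by
      have := big.w
      rw [Category.assoc (f := (yon S).map _) (g := c) (h := g'), hc1']
      simp only [Category.assoc] at this ⊢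
      exact this)
  have h1 : fst' ≫ k = (yon S).map m ≫ fstJ := hD'.lift_fst _ _ _
  have h2 : fst' ≫ i' = (yon S).map (Over.homMk (J.comap (pullback.fst u v).left).subschemeι rfl :
      Over.mk ((J.comap (pullback.fst u v).left).subschemeι ≫ (pullback u v).hom) ⟶ pullback u v) ≫ c :=
    hD'.lift_snd _ _ _
  have sqP : IsPullback fst' ((yon S).map (Over.homMk (J.comap (pullback.fst u v).left).subschemeι rfl :
      Over.mk ((J.comap (pullback.fst u v).left).subschemeι ≫ (pullback u v).hom) ⟶ pullback u v)) i' c := by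
    refine IsPullback.of_right ?_ h2 hD'
    rw [h1, hc1']
    exact big
  exact ⟨(RepWith @IsClosedImmersion).of_isPullback hD' hD.1, pullback u v, c,
    J.comap (pullback.fst u v).left, fst', hce, hcs, sqP, hK⟩

end Groth.Agent.Helper5.EffCart
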