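import Groth.Agent.Helper5.EffCart1
import Groth.Prelude.Def_W4stk3spdivLocPr
import Mathlib

/-! The complement of a locally principal closed subspace is affine. -/

set_option autoImplicit false
set_option linter.style.haveILetI false
universe u
open CategoryTheory CategoryTheory.Limits AlgebraicGeometry Opposite MorphismProperty

namespace Groth.Agent.Helper5.EffCart

open AlgSp

/-- the inclusion of the complement of a locally principal closed subscheme is affine -/
theorem isAffineHom_of_range_eq_compl_support' {V W' : Scheme.{u}} (I : V.IdealSheafData)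
    (hI : Curv2.IsLocPrincipal I) (w : W' ⟶ V) [IsOpenImmersion w]
    (hw : Set.range w = (I.support : Set V)ᶜ) : IsAffineHom w := by
  apply isAffineHom_of_forall_exists_isAffineOpen
  intro x
  by_cases hx : x ∈ I.support
  · obtain ⟨U, hxU, f, hIU⟩ := hI x hx
    refine ⟨U.1, hxU, U.2, ?_⟩
    have hle : V.basicOpen f ≤ w.opensRange := by
      intro y hy
      show y ∈ Set.range w
      rw [hw]
      intro hys
      exact ((mem_support_iff_of_span I U f hIU y (V.basicOpen_le f hy)).1 hys) hy
    have e : w ⁻¹ᵁ U.1 = w ⁻¹ᵁ V.basicOpen f := by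
      ext y
      constructor
      · intro hy
        by_contra hny
        have h1 : w y ∈ I.support :=
          (mem_support_iff_of_span I U f hIU (w y) hy).2 hny
        have h2 : w y ∈ Set.range w := ⟨y, rfl⟩
        rw [hw] at h2
        exact h2 h1
      · intro hy
        exact V.basicOpen_le f hy
    rw [e]
    exact (U.2.basicOpen f).preimage_of_isOpenImmersion w hle
  · obtain ⟨_, ⟨U, hU, rfl⟩, hxU, hle⟩ :=
      V.isBasis_affineOpens.exists_subset_of_mem_open (show x ∈ (I.support : Set V)ᶜ from hx)
        I.support.isClosed.isOpen_compl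
    refine ⟨U, hxU, hU, ?_⟩
    refine hU.preimage_of_isOpenImmersion w ?_
    intro y hy
    show y ∈ Set.range w
    rw [hw]
    exact hle hy

variable {S : Scheme.{u}}

set_option backward.isDefEq.respectTransparency.types false in
/-- S10806 -/
theorem s10806 {X Z U : Sp S} (i : Z ⟶ X) (hZ : IsLocPrincipalSub i) (j : U ⟶ X)
    (hj : RepWith @IsOpenImmersion j)
    (hU : Set.range (Points.map j) = (Set.range (Points.map i))ᶜ) :
    IsAffineMor j := by
  obtain ⟨hci, V, φ, I, fstD, hφ, hφs, sqD, hI⟩ := hZ
  obtain ⟨W', w, fstU, sqU⟩ := hj.1 φ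
  haveI : IsOpenImmersion w.left := hj.2 _ _ _ sqU
  let ιI : Over.mk (I.subschemeι ≫ V.hom) ⟶ V := Over.homMk I.subschemeι rfl
  have hrange : Set.range w.left = (I.support : Set V.left)ᶜ := by
    ext v
    rw [mem_range_iff_of_isPullback j φ w fstU sqU v, hU, Set.mem_compl_iff, Set.mem_compl_iff,
      ← mem_range_iff_of_isPullback i φ ιI fstD sqD v]
    show ¬ v ∈ Set.range I.subschemeι ↔ _
    rw [Scheme.IdealSheafData.range_subschemeι]
  have haff : IsAffineHom w.left := isAffineHom_of_range_eq_compl_support' I hI w.left hrange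
  apply Groth.Agent.Helper5.AffDesc.isAffineMor_of_fppf_chart j V φ
    (Groth.Agent.Helper5.AffDesc.repWith_of_le Groth.Agent.Helper5.AffDesc.etale_le_flat hφ)
    (Groth.Agent.Helper5.AffDesc.repWith_of_le Groth.Agent.Helper5.AffDesc.etale_le_lfp hφ) hφs
    fstU ((yon S).map w) sqU
  intro Z hZ g
  haveI : IsAffine Z.left := hZ
  have hrw : RepWith @IsAffineHom ((yon S).map w) := (repWith_yon_map_iff _ w).2 haff
  obtain ⟨W₁, i₁, fst₁, sq₁⟩ := hrw.1 g
  haveI : IsAffineHom i₁.left := hrw.2 _ _ _ sq₁
  exact ⟨W₁, i₁, fst₁, sq₁, isAffine_of_isAffineHom i₁.left⟩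

end Groth.Agent.Helper5.EffCart
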