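import Groth.Agent.Helper5.EffCart2
import Mathlib

/-! Pullback of effective Cartier divisors avoiding weakly associated points (schemes). -/

set_option autoImplicit false
set_option linter.unusedVariables false
universe u
open CategoryTheory CategoryTheory.Limits AlgebraicGeometry Opposite MorphismProperty

namespace Groth.Agent.Helper5.EffCartWA

open AlgSp Groth.Agent.Helper5.EffCart

/-- annihilator of an element of a ring -/
def annElt {A : Type*} [CommRing A] (b : A) : Ideal A :=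
  LinearMap.ker (LinearMap.toSpanSingleton A A b)

theorem mem_annElt {A : Type*} [CommRing A] (a b : A) : a ∈ annElt b ↔ a * b = 0 := by
  unfold annElt
  rw [LinearMap.mem_ker, LinearMap.toSpanSingleton_apply, smul_eq_mul]

theorem mem_primeIdealOf_iff {V : Scheme.{u}} (U : V.Opens) (hU : IsAffineOpen U) (t : Γ(V, U))
    (y : V) (hy : y ∈ U) :
    t ∈ (hU.primeIdealOf ⟨y, hy⟩).asIdeal ↔ y ∉ V.basicOpen t := by
  rw [IsAffineOpen.primeIdealOf_eq_map_closedPoint, Scheme.mem_basicOpen V t y hy]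
  show (V.presheaf.germ U y hy).hom t ∈ IsLocalRing.maximalIdeal _ ↔ _
  rw [IsLocalRing.mem_maximalIdeal, mem_nonunits_iff]

theorem primeIdealOf_fromSpec {W : Scheme.{u}} (W' : W.Opens) (hW' : IsAffineOpen W')
    (y : PrimeSpectrum Γ(W, W')) (hy : hW'.fromSpec y ∈ W') :
    hW'.primeIdealOf ⟨hW'.fromSpec y, hy⟩ = y := by
  have hinj : Function.Injective hW'.fromSpec := hW'.fromSpec.isOpenEmbedding.injective
  apply hinj
  exact hW'.fromSpec_primeIdealOf ⟨hW'.fromSpec y, hy⟩

/-- the inverse image of an effective Cartier divisor is one, when the weakly associated points of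
the source avoid it -/
theorem isEffCartierIdeal_comap_of_weakAss {W V : Scheme.{u}} (g : W ⟶ V)
    (I : V.IdealSheafData) (hI : BlowUp.IsEffCartierIdeal I)
    (H : ∀ (W' : W.affineOpens) (b : Γ(W, W'.1)) (w : W) (hw : w ∈ W'.1),
      (W'.2.primeIdealOf ⟨w, hw⟩).asIdeal ∈ (annElt b).minimalPrimes → g w ∉ I.support) :
    BlowUp.IsEffCartierIdeal (I.comap g) := by
  intro x
  obtain ⟨U, hxU, t, ht, hIU⟩ := hI (g x)
  have hx : x ∈ g ⁻¹ᵁ U.1 := hxU
  obtain ⟨_, ⟨W', hW', rfl⟩, hxW', hle⟩ :=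
    W.isBasis_affineOpens.exists_subset_of_mem_open hx (g ⁻¹ᵁ U.1).isOpen
  refine ⟨⟨W', hW'⟩, hxW', (g.appLE U.1 W' hle).hom t, ?_, ?_⟩
  · rw [mem_nonZeroDivisors_iff_right]
    intro b hb
    by_contra hb0
    have hne : annElt b ≠ ⊤ := by
      intro h
      have h1 : (1 : Γ(W, W')) ∈ annElt b := h ▸ Submodule.mem_top
      rw [mem_annElt, one_mul] at h1
      exact hb0 h1
    obtain ⟨⟨p, hp⟩⟩ := Ideal.nonempty_minimalPrimes hne
    have hpp : p.IsPrime := hp.1.1
    have htp : (g.appLE U.1 W' hle).hom t ∈ p :=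
      hp.1.2 ((mem_annElt _ _).2 (by rw [mul_comm]; exact hb))
    let y : PrimeSpectrum Γ(W, W') := ⟨p, hpp⟩
    have hwW' : hW'.fromSpec y ∈ W' := by
      have : hW'.fromSpec y ∈ Set.range hW'.fromSpec := Set.mem_range_self _
      rw [hW'.range_fromSpec] at this
      exact this
    have hpw : hW'.primeIdealOf ⟨hW'.fromSpec y, hwW'⟩ = y := primeIdealOf_fromSpec W' hW' y hwW'
    have hns := H ⟨W', hW'⟩ b (hW'.fromSpec y) hwW' (by rw [hpw]; exact hp)
    apply hns
    rw [mem_support_iff_of_span I U t hIU (g (hW'.fromSpec y)) (hle hwW'),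
      ← mem_primeIdealOf_iff U.1 U.2 t _ (hle hwW'),
      ← IsAffineOpen.comap_primeIdealOf_appLE U.1 U.2 W' hW' hle hwW', hpw]
    exact htp
  · rw [Groth.Agent.Helper9.IdealComap.ideal_comap g I U ⟨W', hW'⟩ hle, hIU, Ideal.map_span,
      Set.image_singleton]

end Groth.Agent.Helper5.EffCartWA
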