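import Groth.Agent.Helper5.WAssEx5
import Groth.Prelude.Def_AlgSpOX2

set_option autoImplicit false
set_option linter.unusedVariables false
universe u
open CategoryTheory CategoryTheory.Limits AlgebraicGeometry Opposite

namespace Groth.Agent.Helper5.WAssEx

open AlgSp Groth.Agent.Helper4.AlgSpQC2 Groth.Agent.Helper4.AlgSpPtsDesc
open Groth.Agent.Helper5.WAssRed

variable {S : Scheme.{u}}

/-- `primeAtPt` is compatible with morphisms of schemes -/
theorem primeAtPt_map {W V : Scheme.{u}} (g : W ⟶ V) (w : W) :
    primeAtPt V (g w) = Ideal.comap g.appTop.hom (primeAtPt W w) := by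
  unfold primeAtPt
  rw [Ideal.comap_comap]
  have h1 : (W.presheaf.germ ⊤ w trivial).hom.comp g.appTop.hom =
      (g.stalkMap w).hom.comp (V.presheaf.germ ⊤ (g w) trivial).hom := by
    have := Scheme.Hom.germ_stalkMap g ⊤ w trivial
    have h2 := congrArg CommRingCat.Hom.hom this
    simp only [CommRingCat.hom_comp] at h2
    exact h2.symm
  rw [h1, ← Ideal.comap_comap]
  congr 1
  have hloc : IsLocalHom (g.stalkMap w).hom := inferInstance
  exact (IsLocalRing.maximalIdeal_comap (g.stalkMap w).hom).symm

theorem primeAtPt_injective (U : Scheme.{u}) [IsAffine U] {u u' : U}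
    (h : primeAtPt U u = primeAtPt U u') : u = u' := by
  rw [primeAtPt_eq, primeAtPt_eq] at h
  have h' : (isAffineOpen_top U).primeIdealOf ⟨u, trivial⟩ =
      (isAffineOpen_top U).primeIdealOf ⟨u', trivial⟩ := PrimeSpectrum.ext h
  have := congrArg (isAffineOpen_top U).fromSpec h'
  rw [IsAffineOpen.fromSpec_primeIdealOf, IsAffineOpen.fromSpec_primeIdealOf] at this
  exact this

end Groth.Agent.Helper5.WAssEx
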