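import Groth.Agent.Helper5.EffCartWA1
import Groth.Agent.Helper5.WAssPush1

/-! Weakly associated points on charts. -/

set_option autoImplicit false
set_option linter.unusedVariables false
universe u
open CategoryTheory CategoryTheory.Limits AlgebraicGeometry Opposite MorphismProperty

namespace Groth.Agent.Helper5.EffCartWA

open AlgSp Groth.Agent.Helper5.EffCart Groth.Agent.Helper5.WAssRed Groth.Agent.Helper5.WAssEx
open Groth.Agent.Helper4.AlgSpQC2 Groth.Agent.Helper4.AlgSpPtsDesc

/-- restriction of functions from an affine open to the open subscheme -/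
noncomputable def resTop {W : Scheme.{u}} (W' : W.Opens) : Γ(W, W') ⟶ Γ(W'.toScheme, ⊤) :=
  W'.ι.appLE W' ⊤ (by simp)

theorem resTop_injective {W : Scheme.{u}} (W' : W.Opens) :
    Function.Injective (resTop W').hom := by
  have h1 : resTop W' = W'.topIso.inv := by
    unfold resTop
    rw [Scheme.Opens.ι_appLE, Scheme.Opens.topIso_inv]
    congr 1
  rw [h1]
  exact (ConcreteCategory.bijective_of_isIso W'.topIso.inv).1

variable {S : Scheme.{u}}

/-- a point of an étale chart which is weakly associated on an affine open of the chart gives a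
weakly associated point of the space -/
theorem mem_weakAssEt_of_chart {X : Sp S} {W : Over S} (a : (yon S).obj W ⟶ X)
    (ha : RepWith @Etale a) (W' : W.left.affineOpens) (b : Γ(W.left, W'.1)) (w : W.left)
    (hw : w ∈ W'.1)
    (hp : (W'.2.primeIdealOf ⟨w, hw⟩).asIdeal ∈ (annElt b).minimalPrimes) :
    Points.ofPt a w ∈ WeakAssEt (unitModEt X) := by
  let c : (yon S).obj (opOver W W'.1) ⟶ X := (yon S).map (opι W W'.1) ≫ a
  have hc : RepWith @Etale c :=
    Groth.Agent.Helper4.AlgSpSrc.repWith_comp _
      ((repWith_yon_map_iff _ _).2 (by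
        show Etale (Scheme.Opens.ι W'.1)
        infer_instance)) ha
  let E : EtOver X := EtOver.mk c hc
  have hEaff : IsAffine E.obj.left.left := W'.2
  let ψ := (resTop W'.1).hom
  have hψ : Function.Injective ψ := resTop_injective W'.1
  let s : sectModEt (unitModEt X) E :=
    (show sectModEt (unitModEt X) E from
      (ULift.up (ψ b) : ULift.{u + 1} Γ(E.obj.left.left, ⊤)))
  have hann : annSect s = annElt (ψ b) := by
    ext a'
    rw [mem_annSect_unit, mem_annElt]
  have hcomap : Ideal.comap ψ (annElt (ψ b)) = annElt b := by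
    ext a'
    rw [Ideal.mem_comap, mem_annElt, mem_annElt, ← map_mul]
    constructor
    · intro h
      apply hψ
      rw [h, map_zero]
    · intro h
      rw [h, map_zero]
  rw [← hcomap] at hp
  obtain ⟨q, hq, hqp⟩ := Ideal.exists_minimalPrimes_comap_eq ψ _ hp
  have hqprime : q.IsPrime := hq.1.1
  obtain ⟨w', hw'⟩ := exists_primeAtPt_eq E.obj.left.left q
  have hww' : W'.1.ι w' = w := by
    have h1 := IsAffineOpen.comap_primeIdealOf_appLE (f := W'.1.ι) (x := w') W'.1 W'.2 ⊤
      (isAffineOpen_top _) (by simp) trivial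
    have h2 : (W'.2.primeIdealOf ⟨W'.1.ι w', w'.2⟩).asIdeal =
        (W'.2.primeIdealOf ⟨w, hw⟩).asIdeal := by
      rw [← hqp, ← hw', primeAtPt_eq]
      exact (congrArg PrimeSpectrum.asIdeal h1).symm
    have h3 : W'.2.primeIdealOf ⟨W'.1.ι w', w'.2⟩ = W'.2.primeIdealOf ⟨w, hw⟩ :=
      PrimeSpectrum.ext h2
    have := congrArg W'.2.fromSpec h3
    rw [IsAffineOpen.fromSpec_primeIdealOf, IsAffineOpen.fromSpec_primeIdealOf] at this
    exact this
  refine ⟨E, hEaff, w', ?_, s, ?_⟩
  · show Points.ofPt c w' = Points.ofPt a w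
    rw [ofPt_yon_map_comp]
    congr 1
  · rw [hann, hw']
    exact hq

end Groth.Agent.Helper5.EffCartWA
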