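import Groth.Agent.Helper5.EffCartWA2

/-! S10796: pullback of effective Cartier divisors avoiding weakly associated points. -/

set_option autoImplicit false
set_option linter.unusedVariables false
universe u
open CategoryTheory CategoryTheory.Limits AlgebraicGeometry Opposite MorphismProperty

namespace Groth.Agent.Helper5.EffCartWA

open AlgSp Groth.Agent.Helper5.EffCart Groth.Agent.Helper5.WAssRed Groth.Agent.Helper5.WAssEx
open Groth.Agent.Helper4.AlgSpQC2 Groth.Agent.Helper4.AlgSpPtsDesc

variable {S : Scheme.{u}}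

set_option backward.isDefEq.respectTransparency.types false in
/-- S10796 -/
theorem s10796 {X Y D P : Sp S} (hX : IsAlgSpace X) (f : X ⟶ Y) (i : D ⟶ Y)
    (hD : IsEffCartierSub i)
    (hw : ∀ x ∈ WeakAssEt (unitModEt X), Points.map f x ∉ Set.range (Points.map i))
    (fst : P ⟶ D) (snd : P ⟶ X) (hP : IsPullback fst snd i f) :
    IsEffCartierSub snd := by
  obtain ⟨hci, V, φ, I, fstD, hφ, hφs, sqD, hI⟩ := hD
  obtain ⟨U₀, a₀, ha₀, ha₀s⟩ := hX.atlas
  obtain ⟨W, w, h', sqW⟩ := hφ.1 (a₀ ≫ f)
  obtain ⟨h, rfl⟩ := (yon S).map_surjective h'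
  have hwet : Etale w.left := hφ.2 _ _ _ sqW
  have hws : Surjective w.left := hφs.2 _ _ _ sqW
  let a : (yon S).obj W ⟶ X := (yon S).map w ≫ a₀
  have ha : RepWith @Etale a :=
    (RepWith @Etale).comp_mem _ _ ((repWith_yon_map_iff _ w).2 hwet) ha₀
  have has : RepWith @Surjective a :=
    (RepWith @Surjective).comp_mem _ _ ((repWith_yon_map_iff _ w).2 hws) ha₀s
  have hcomm : a ≫ f = (yon S).map h ≫ φ := by
    show ((yon S).map w ≫ a₀) ≫ f = _
    rw [Category.assoc, sqW.w]
  let DW : Over S := Over.mk ((I.comap h.left).subschemeι ≫ W.hom)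
  let DV : Over S := Over.mk (I.subschemeι ≫ V.hom)
  let ιW : DW ⟶ W := Over.homMk (I.comap h.left).subschemeι rfl
  let ιV : DV ⟶ V := Over.homMk I.subschemeι rfl
  have hJ : BlowUp.IsEffCartierIdeal (I.comap h.left) := by
    apply isEffCartierIdeal_comap_of_weakAss h.left I hI
    intro W' b w₀ hw₀ hp
    have hx := mem_weakAssEt_of_chart a ha W' b w₀ hw₀ hp
    have hnot := hw _ hx
    intro hsupp
    apply hnot
    rw [Points.map_ofPt, hcomm, ofPt_yon_map_comp]
    have hr : h.left w₀ ∈ Set.range ιV.left := by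
      show h.left w₀ ∈ Set.range I.subschemeι
      rw [Scheme.IdealSheafData.range_subschemeι]
      exact hsupp
    have := (mem_range_iff_of_isPullback i φ ιV fstD sqD (h.left w₀)).1 hr
    rwa [ofPt_eq_map_schemeHomeo] at this
  let m : DW ⟶ DV := Over.homMk ((I.comapIso h.left).hom ≫ pullback.snd _ _) (by
    show ((I.comapIso h.left).hom ≫ pullback.snd _ _) ≫ I.subschemeι ≫ V.hom =
      (I.comap h.left).subschemeι ≫ W.hom
    rw [← Over.w h, ← Category.assoc, ← Category.assoc, (isPullback_comap h.left I).w])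
  have sqS : IsPullback m ιW ιV h := by
    apply Groth.Agent.Helper5.GeomFibSp.isPullback_of_left
    · ext
      exact (isPullback_comap h.left I).w
    · exact isPullback_comap h.left I
  have sqY := sqS.map (yon S)
  have big : IsPullback ((yon S).map m ≫ fstD) ((yon S).map ιW) i (a ≫ f) := by
    rw [hcomm]
    exact sqY.paste_horiz sqD
  let fst' : (yon S).obj DW ⟶ P := hP.lift ((yon S).map m ≫ fstD) ((yon S).map ιW ≫ a) (by
    have := big.w
    simp only [Category.assoc] at this ⊢
    exact this)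
  have h1 : fst' ≫ fst = (yon S).map m ≫ fstD := hP.lift_fst _ _ _
  have h2 : fst' ≫ snd = (yon S).map ιW ≫ a := hP.lift_snd _ _ _
  have sqP : IsPullback fst' ((yon S).map ιW) snd a := by
    refine IsPullback.of_right ?_ h2 hP
    rw [h1]
    exact big
  exact ⟨(RepWith @IsClosedImmersion).of_isPullback hP hci, W, a, I.comap h.left, fst', ha, has,
    sqP, hJ⟩

end Groth.Agent.Helper5.EffCartWA
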