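import Groth.Agent.Helper5.EtGlue2
import Groth.Agent.Helper5.FpqcIso
import Groth.Agent.Helper5.SchImg2
import Groth.Agent.Helper5.ProperImg1
import Groth.Agent.Helper4.AlgSpPtsDesc
import Groth.Agent.S10262
import Mathlib

set_option autoImplicit false
universe u
open CategoryTheory CategoryTheory.Limits AlgebraicGeometry Opposite

namespace Groth.Agent.Helper5.ElemDist

open AlgSp Groth.Agent.Helper5.EtGlue

variable {S : Scheme.{u}}

theorem locP_unram_of_isEtaleMor {V Y : Sp S} (b : V ⟶ Y) (hb : IsEtaleMor b) :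
    LocP (@LocallyOfFiniteType ⊓ @FormallyUnramified) b := by
  intro U W a c h ha hc hcomm
  let EU : EtOver Y := EtOver.mk (a ≫ b) (hb a ha)
  let EW : EtOver Y := EtOver.mk c hc
  let m : EU ⟶ EW := EtOver.homMk h hcomm.symm
  haveI : Etale h.left := EtOver.etale_left m
  exact ⟨inferInstance, inferInstance⟩

/-- two-member version of `hom_ext_of_cover` -/
theorem hom_ext_of_cover₂ (T : Sp S) {Z Z₁ Z₂ : Over S} (e₁ : Z₁ ⟶ Z) (e₂ : Z₂ ⟶ Z)
    [IsOpenImmersion e₁.left] [IsOpenImmersion e₂.left]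
    (hs : ∀ z : ↥Z.left, z ∈ Set.range e₁.left ∨ z ∈ Set.range e₂.left)
    (c₁ c₂ : (yon S).obj Z ⟶ T)
    (h₁ : (yon S).map e₁ ≫ c₁ = (yon S).map e₁ ≫ c₂)
    (h₂ : (yon S).map e₂ ≫ c₁ = (yon S).map e₂ ≫ c₂) : c₁ = c₂ := by
  let Zk : ULift.{u} Bool → Over S := fun k => match k with
    | ⟨true⟩ => Z₁
    | ⟨false⟩ => Z₂
  let e : ∀ k, Zk k ⟶ Z := fun k => match k with
    | ⟨true⟩ => e₁
    | ⟨false⟩ => e₂
  have hoi : ∀ k, IsOpenImmersion (e k).left := fun k => match k with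
    | ⟨true⟩ => inferInstanceAs (IsOpenImmersion e₁.left)
    | ⟨false⟩ => inferInstanceAs (IsOpenImmersion e₂.left)
  have hcov : Sieve.ofArrows Zk e ∈ J S Z := by
    refine Groth.Agent.Helper5.FppfLift.ofArrows_mem_J Zk e (fun k => ?_) (fun k => ?_)
      (fun z => ?_)
    · have := hoi k
      infer_instance
    · have := hoi k
      infer_instance
    · rcases hs z with h | h
      · exact ⟨⟨true⟩, h⟩
      · exact ⟨⟨false⟩, h⟩
  refine hom_ext_of_cover T Zk e hcov c₁ c₂ ?_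
  rintro ⟨_ | _⟩
  · exact h₂
  · exact h₁

/-- over the closed complement, the kernel pair of `f` is the diagonal -/
theorem mem_range_diagonal {V W Tc Pc : Sp S} (f : V ⟶ W) (i : Tc ⟶ W) (p₁ : Pc ⟶ Tc)
    (p₂ : Pc ⟶ V) (sqc : IsPullback p₁ p₂ i f) [IsIso p₁] (n : Points (pullback f f))
    (hn : Points.map (pullback.fst f f ≫ f) n ∈ Set.range (Points.map i)) :
    n ∈ Set.range (Points.map (pullback.diagonal f)) := by
  obtain ⟨τ, hτ⟩ := hn
  obtain ⟨pr, hpr⟩ : ∃ pr : pullback f f ⟶ W, pr = pullback.fst f f ≫ f := ⟨_, rfl⟩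
  rw [← hpr] at hτ
  have sqN : IsPullback (pullback.fst pr i) (pullback.snd pr i) pr i := IsPullback.of_hasPullback _ _
  obtain ⟨n', hn', -⟩ :=
    Groth.Agent.Helper4.AlgSpPtsDesc.exists_point_of_isPullback sqN n τ hτ.symm
  let y₁ : pullback pr i ⟶ V := pullback.fst pr i ≫ pullback.fst f f
  let y₂ : pullback pr i ⟶ V := pullback.fst pr i ≫ pullback.snd f f
  have hy₁ : pullback.snd pr i ≫ i = y₁ ≫ f := by
    rw [← sqN.w]
    show pullback.fst pr i ≫ pr = (pullback.fst pr i ≫ pullback.fst f f) ≫ f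
    rw [Category.assoc]
    exact congrArg (fun t => pullback.fst pr i ≫ t) hpr
  have hy₂ : pullback.snd pr i ≫ i = y₂ ≫ f := by
    rw [hy₁]
    show (pullback.fst pr i ≫ pullback.fst f f) ≫ f = (pullback.fst pr i ≫ pullback.snd f f) ≫ f
    rw [Category.assoc, Category.assoc, pullback.condition]
  have e1 : sqc.lift (pullback.snd pr i) y₁ hy₁ = sqc.lift (pullback.snd pr i) y₂ hy₂ := by
    rw [← cancel_mono p₁, sqc.lift_fst, sqc.lift_fst]
  have hy : y₁ = y₂ := by
    have h1 := sqc.lift_snd (pullback.snd pr i) y₁ hy₁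
    have h2 := sqc.lift_snd (pullback.snd pr i) y₂ hy₂
    rw [← h1, ← h2, e1]
  have hfac : pullback.fst pr i = y₁ ≫ pullback.diagonal f := by
    apply pullback.hom_ext
    · rw [Category.assoc, pullback.diagonal_fst, Category.comp_id]
    · rw [Category.assoc, pullback.diagonal_snd, Category.comp_id]
      exact hy.symm
  refine ⟨Points.map y₁ n', ?_⟩
  rw [← Points.map_comp, ← hfac, hn']

set_option backward.isDefEq.respectTransparency.types false in
/-- the two composites of the kernel pair of `f` with `b` agree -/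
theorem eq_on_kernelPair {U V W P Tc Pc T : Sp S}
    (j : U ⟶ W) (f : V ⟶ W) (hj : RepWith @IsOpenImmersion j)
    (hΔ : RepWith @IsOpenImmersion (pullback.diagonal f))
    (i : Tc ⟶ W) (p₁ : Pc ⟶ Tc) (p₂ : Pc ⟶ V) (sqc : IsPullback p₁ p₂ i f) [IsIso p₁]
    (hcompl : ∀ w : Points W, w ∈ Set.range (Points.map j) ∨ w ∈ Set.range (Points.map i))
    (p : P ⟶ U) (q : P ⟶ V) (hP : IsPullback p q j f)
    (a : U ⟶ T) (b : V ⟶ T) (hab : p ≫ a = q ≫ b)
    {R : Over S} (x₁ x₂ : (yon S).obj R ⟶ V) (hx : x₁ ≫ f = x₂ ≫ f) : x₁ ≫ b = x₂ ≫ b := by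
  obtain ⟨RU, eU, lU, sqU⟩ := hj.1 (x₁ ≫ f)
  haveI : IsOpenImmersion eU.left := hj.2 _ _ _ sqU
  let x₁₂ : (yon S).obj R ⟶ pullback f f := pullback.lift x₁ x₂ hx
  obtain ⟨RΔ, eΔ, lΔ, sqΔ⟩ := hΔ.1 x₁₂
  haveI : IsOpenImmersion eΔ.left := hΔ.2 _ _ _ sqΔ
  refine hom_ext_of_cover₂ T eU eΔ (fun r => ?_) _ _ ?_ ?_
  · rcases hcompl (Points.map (x₁ ≫ f) (Points.schemeHomeo R r)) with h | h
    · left
      exact (Groth.Agent.Helper5.EffCart.mem_range_iff_of_isPullback j (x₁ ≫ f) eU lU sqU r).2 h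
    · right
      refine (Groth.Agent.Helper5.EffCart.mem_range_iff_of_isPullback (pullback.diagonal f) x₁₂ eΔ
        lΔ sqΔ r).2 ?_
      apply mem_range_diagonal f i p₁ p₂ sqc
      rw [← Points.map_comp]
      have : x₁₂ ≫ pullback.fst f f ≫ f = x₁ ≫ f := by
        rw [← Category.assoc, pullback.lift_fst]
      rw [this]
      exact h
  · -- on `R_U`
    have h1 : lU ≫ j = ((yon S).map eU ≫ x₁) ≫ f := by rw [Category.assoc]; exact sqU.w
    have h2 : lU ≫ j = ((yon S).map eU ≫ x₂) ≫ f := by rw [Category.assoc, ← hx]; exact sqU.w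
    have e1 : ((yon S).map eU ≫ x₁) ≫ b = lU ≫ a := by
      rw [← hP.lift_snd lU ((yon S).map eU ≫ x₁) h1, Category.assoc, ← hab, ← Category.assoc,
        hP.lift_fst]
    have e2 : ((yon S).map eU ≫ x₂) ≫ b = lU ≫ a := by
      rw [← hP.lift_snd lU ((yon S).map eU ≫ x₂) h2, Category.assoc, ← hab, ← Category.assoc,
        hP.lift_fst]
    rw [← Category.assoc, ← Category.assoc, e1, e2]
  · -- on `R_Δ`
    have h0 := sqΔ.w
    have h1 : (yon S).map eΔ ≫ x₁ = lΔ := by
      have := congrArg (fun k => k ≫ pullback.fst f f) h0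
      simp only [Category.assoc, pullback.diagonal_fst, Category.comp_id] at this
      rw [this]
      show (yon S).map eΔ ≫ x₁ = (yon S).map eΔ ≫ pullback.lift x₁ x₂ hx ≫ pullback.fst f f
      rw [pullback.lift_fst]
    have h2 : (yon S).map eΔ ≫ x₂ = lΔ := by
      have := congrArg (fun k => k ≫ pullback.snd f f) h0
      simp only [Category.assoc, pullback.diagonal_snd, Category.comp_id] at this
      rw [this]
      show (yon S).map eΔ ≫ x₂ = (yon S).map eΔ ≫ pullback.lift x₁ x₂ hx ≫ pullback.snd f f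
      rw [pullback.lift_snd]
    rw [← Category.assoc, ← Category.assoc, h1, h2]

end Groth.Agent.Helper5.ElemDist
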