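import Groth.Agent.Helper5.ElemDist1
import Mathlib

set_option autoImplicit false
set_option linter.style.haveILetI false
universe u
open CategoryTheory CategoryTheory.Limits AlgebraicGeometry Opposite

namespace Groth.Agent.Helper5.ElemDist

open AlgSp Groth.Agent.Helper5.EtGlue

variable {S : Scheme.{u}}

theorem existsUnique_desc_elemDist {U V W P : Space S} (j : U ⟶ W) (f : V ⟶ W)
    (hsq : IsElemDistSq j.hom f.hom) (p : P ⟶ U) (q : P ⟶ V)
    (hP : IsPullback p.hom q.hom j.hom f.hom) (T : Sp S) (a : U.obj ⟶ T) (b : V.obj ⟶ T)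
    (hab : p.hom ≫ a = q.hom ≫ b) : ∃! c : W.obj ⟶ T, j.hom ≫ c = a ∧ f.hom ≫ c = b := by
  obtain ⟨hj, hf, Tc, Pc, i, p₁, p₂, hred, sqc, hiso⟩ := hsq
  haveI := hiso
  have hΔ : RepWith @IsOpenImmersion (pullback.diagonal f.hom) :=
    (Groth.Agent.S10262.result f).1 (locP_unram_of_isEtaleMor f.hom hf)
  have hcompl : ∀ w : Points W.obj,
      w ∈ Set.range (Points.map j.hom) ∨ w ∈ Set.range (Points.map i) := by
    intro w
    by_cases h : w ∈ Set.range (Points.map j.hom)
    · exact Or.inl h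
    · right
      rw [hred.2.1]
      exact h
  obtain ⟨U', u', hu'e, hu's⟩ := U.property.atlas
  obtain ⟨V', v', hv'e, hv's⟩ := V.property.atlas
  haveI hjm : Mono j.hom := Groth.Agent.Helper5.FpqcIso.mono_of_repWith_openImmersion _ hj
  have hg₁ : RepWith @Etale (u' ≫ j.hom) :=
    Groth.Agent.Helper5.FpqcIso.isEtaleMor_of_repWith_openImmersion j.hom hj u' hu'e
  have hg₂ : RepWith @Etale (v' ≫ f.hom) := hf v' hv'e
  have hsurj : ∀ w : Points W.obj, w ∈ Set.range (Points.map (u' ≫ j.hom)) ∨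
      w ∈ Set.range (Points.map (v' ≫ f.hom)) := by
    intro w
    rcases hcompl w with ⟨x, rfl⟩ | ⟨τ, rfl⟩
    · obtain ⟨y, rfl⟩ := Groth.Agent.Helper4.AlgSpPts.isSurjectiveMor_of_repWith u' hu's x
      exact Or.inl ⟨y, Points.map_comp _ _ _⟩
    · obtain ⟨π, rfl⟩ : ∃ π, Points.map p₁ π = τ :=
        ⟨Points.map (inv p₁) τ, by rw [← Points.map_comp, IsIso.inv_hom_id, Points.map_id]⟩
      obtain ⟨y, hy⟩ := Groth.Agent.Helper4.AlgSpPts.isSurjectiveMor_of_repWith v' hv's
        (Points.map p₂ π)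
      refine Or.inr ⟨y, ?_⟩
      rw [Points.map_comp, hy, ← Points.map_comp, ← sqc.w, Points.map_comp]
  haveI hu'epi : Epi u' := Groth.Agent.Helper5.SchImg.epi_of_etale_surjective u' hu'e hu's
  haveI hv'epi : Epi v' := Groth.Agent.Helper5.SchImg.epi_of_etale_surjective v' hv'e hv's
  have h22 := fun (R : Over S) (x₁ x₂ : (yon S).obj R ⟶ V.obj) (hx : x₁ ≫ f.hom = x₂ ≫ f.hom) =>
    eq_on_kernelPair j.hom f.hom hj hΔ i p₁ p₂ sqc hcompl p.hom q.hom hP a b hab x₁ x₂ hx
  obtain ⟨c, ⟨hc1, hc2⟩, huniq⟩ := existsUnique_desc₂ U' V' (u' ≫ j.hom) (v' ≫ f.hom) hg₁ hg₂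
    hsurj (u' ≫ a) (v' ≫ b)
    (by
      intro R r₁ r₂ h
      have h' : ((yon S).map r₁ ≫ u') ≫ j.hom = ((yon S).map r₂ ≫ u') ≫ j.hom := by
        rw [Category.assoc, Category.assoc]; exact h
      have := (cancel_mono j.hom).1 h'
      rw [← Category.assoc, ← Category.assoc, this])
    (by
      intro R r₁ r₂ h
      have h' : ((yon S).map r₁ ≫ u') ≫ j.hom = ((yon S).map r₂ ≫ v') ≫ f.hom := by
        rw [Category.assoc, Category.assoc]; exact h
      rw [← Category.assoc, ← Category.assoc, ← hP.lift_fst _ _ h', Category.assoc, hab,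
        ← Category.assoc, hP.lift_snd])
    (by
      intro R r₁ r₂ h
      have h' : ((yon S).map r₁ ≫ v') ≫ f.hom = ((yon S).map r₂ ≫ v') ≫ f.hom := by
        rw [Category.assoc, Category.assoc]; exact h
      have := h22 R _ _ h'
      rw [← Category.assoc, ← Category.assoc, this])
  refine ⟨c, ⟨?_, ?_⟩, ?_⟩
  · rw [← cancel_epi u', ← Category.assoc, hc1]
  · rw [← cancel_epi v', ← Category.assoc, hc2]
  · rintro c' ⟨h1, h2⟩
    apply huniq
    exact ⟨by rw [Category.assoc, h1], by rw [Category.assoc, h2]⟩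

theorem s10695 {U V W P : Space S} (j : U ⟶ W) (f : V ⟶ W)
    (hsq : IsElemDistSq j.hom f.hom) (p : P ⟶ U) (q : P ⟶ V)
    (hP : IsPullback p.hom q.hom j.hom f.hom) : IsPushout p q j f := by
  have key := fun (T : Space S) (a : U ⟶ T) (b : V ⟶ T) (hab : p ≫ a = q ≫ b) =>
    existsUnique_desc_elemDist j f hsq p q hP T.obj a.hom b.hom
      (congrArg (fun k => k.hom) hab)
  have hw : p ≫ j = q ≫ f := ObjectProperty.hom_ext _ hP.w
  refine ⟨⟨hw⟩, ⟨PushoutCocone.IsColimit.mk _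
    (fun s => ObjectProperty.homMk (key s.pt s.inl s.inr s.condition).choose) ?_ ?_ ?_⟩⟩
  · intro s
    apply ObjectProperty.hom_ext
    exact (key s.pt s.inl s.inr s.condition).choose_spec.1.1
  · intro s
    apply ObjectProperty.hom_ext
    exact (key s.pt s.inl s.inr s.condition).choose_spec.1.2
  · intro s m h1 h2
    apply ObjectProperty.hom_ext
    exact (key s.pt s.inl s.inr s.condition).choose_spec.2 m.hom
      ⟨congrArg (fun k => k.hom) h1, congrArg (fun k => k.hom) h2⟩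

end Groth.Agent.Helper5.ElemDist
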