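import Groth.Agent.Helper5.ResSp1
import Mathlib

set_option autoImplicit false
universe u

namespace Groth.Agent.Helper5.ResSp

open CategoryTheory CategoryTheory.Limits AlgebraicGeometry Opposite AlgSp
open Groth.Agent.Helper4.AlgSpPtsDesc Groth.Agent.Helper4.AlgSpQC2

variable {S : Scheme.{u}}

theorem hasFieldCover_yon (k : Type u) [Field k] (str : Spec (CommRingCat.of k) ⟶ S) :
    HasFieldCover ((yon S).obj (Over.mk str)) := by
  refine ⟨k, inferInstance, str, 𝟙 _,
    Groth.Agent.Helper6.LocalIso.locP_of_isIso _ (fun g hg => by haveI := hg; infer_instance) _,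
    Groth.Agent.Helper6.LocalIso.locP_of_isIso _ (fun g hg => by haveI := hg; infer_instance) _, ?_⟩
  intro x
  exact ⟨x, Points.map_id x⟩

theorem range_map_toHom {X : Sp S} (p : FieldPt X) :
    Set.range (Points.map p.toHom) = {Points.mk p} := by
  ext y
  constructor
  · rintro ⟨s, rfl⟩
    obtain ⟨s₀, rfl⟩ := (Points.schemeHomeo p.pt).surjective s
    rw [ofPt_eq_map_schemeHomeo]
    exact Points.ofPt_toHom p s₀
  · rintro rfl
    let s₀ : ↥p.pt.left := (IsLocalRing.closedPoint p.K : ↥(Spec (CommRingCat.of p.K)))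
    refine ⟨Points.schemeHomeo p.pt s₀, ?_⟩
    rw [ofPt_eq_map_schemeHomeo]
    exact Points.ofPt_toHom p s₀

/-- S10414 -/
theorem s10414 (X : Space S) (x : Points X.obj) {Z : Space S} (i : Z ⟶ X) [Mono i.hom]
    (hi : Set.range (Points.map i.hom) = {x}) (hZ : HasFieldCover Z.obj) :
    (∃ (k : Type u) (_ : Field k) (str : Spec (CommRingCat.of k) ⟶ S),
        Nonempty (Z.obj ≅ (yon S).obj (Over.mk str))) ↔
      ∃ p : FieldPt X.obj, Points.mk p = x ∧ Mono p.toHom := by
  constructor
  · rintro ⟨k, _, str, ⟨e⟩⟩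
    let p : FieldPt X.obj := ⟨k, str, (J S).uliftYonedaEquiv (e.inv ≫ i.hom)⟩
    have hp : p.toHom = e.inv ≫ i.hom := (J S).uliftYonedaEquiv.symm_apply_apply _
    refine ⟨p, ?_, ?_⟩
    · let s₀ : ↥p.pt.left := (IsLocalRing.closedPoint k : ↥(Spec (CommRingCat.of k)))
      have h1 : Points.mk p = Points.ofPt p.toHom s₀ := (Points.ofPt_toHom p s₀).symm
      have h2 : Points.mk p ∈ Set.range (Points.map i.hom) := by
        rw [h1, hp, ← Points.map_ofPt]
        exact ⟨_, rfl⟩
      rw [hi] at h2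
      exact h2
    · rw [hp]
      exact mono_comp _ _
  · rintro ⟨p, rfl, hm⟩
    haveI := hm
    obtain ⟨e, -⟩ := exists_iso_of_residual X.property Z.property (IsAlgSpace.yon_obj p.pt)
      (Points.mk p) i.hom p.toHom hi (range_map_toHom p) hZ (hasFieldCover_yon p.K p.str)
    exact ⟨p.K, inferInstance, p.str, ⟨e.symm⟩⟩

end Groth.Agent.Helper5.ResSp
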