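import Groth.Prelude.Def_AlgSpDec
import Groth.Agent.Helper5.ResSp2
import Groth.Agent.Helper4.AlgSpSrc
import Mathlib

set_option autoImplicit false
universe u

namespace Groth.Agent.Helper5.ElemNbhd

open CategoryTheory CategoryTheory.Limits AlgebraicGeometry Opposite AlgSp
open Groth.Agent.Helper4.AlgSpPtsDesc

variable {S : Scheme.{u}}

/-- factorisation of a field valued point through the residue field of a specified point -/
theorem exists_factor {K : Type u} [Field K] (T : Scheme.{u}) (f : Spec (CommRingCat.of K) ⟶ T)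
    (y : ↥T) (hy : f (IsLocalRing.closedPoint K) = y) :
    ∃ g : Spec (CommRingCat.of K) ⟶ Spec (CommRingCat.of ↥(T.residueField y)),
      g ≫ T.fromSpecResidueField y = f := by
  subst hy
  exact ⟨_, Scheme.descResidueField_stalkClosedPointTo_fromSpecResidueField K T f⟩

/-- a morphism of spectra of fields with a retraction is an isomorphism -/
theorem isIso_of_section {K L : Type u} [Field K] [Field L]
    (s : Spec (CommRingCat.of K) ⟶ Spec (CommRingCat.of L))
    (r : Spec (CommRingCat.of L) ⟶ Spec (CommRingCat.of K)) (h : s ≫ r = 𝟙 _) : IsIso s := by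
  have hs : s = Spec.map (Spec.preimage s) := (Spec.map_preimage s).symm
  have hr : r = Spec.map (Spec.preimage r) := (Spec.map_preimage r).symm
  set σ := Spec.preimage s
  set ρ := Spec.preimage r
  have h1 : ρ ≫ σ = 𝟙 _ := by
    apply Spec.map_injective
    rw [Spec.map_comp, ← hs, ← hr, h, Spec.map_id]
  have hbij : Function.Bijective σ.hom := by
    refine ⟨σ.hom.injective, fun y => ⟨ρ.hom y, ?_⟩⟩
    have := congrArg (fun m => m.hom y) h1
    simpa using this
  haveI : IsIso σ := (ConcreteCategory.isIso_iff_bijective σ).mpr hbij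
  rw [hs]
  infer_instance

/-- Lemma A: a scheme over an elementary etale neighbourhood, etale over the space, with a lift
of the residue field point is an elementary etale neighbourhood. -/
theorem isElemEtaleNbhd_of_section {F : Sp S} {U₁ U : Over S} (a₁ : (yon S).obj U₁ ⟶ F)
    (u₁ : ↥U₁.left) (x : Points F) (h₁ : IsElemEtaleNbhd a₁ u₁ x) (h : U ⟶ U₁)
    (he : RepWith @Etale ((yon S).map h ≫ a₁))
    (t : (FieldPt.ofPt a₁ u₁).pt ⟶ U)
    (ht : t ≫ h = (Over.homMk (U₁.left.fromSpecResidueField u₁) rfl :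
      (FieldPt.ofPt a₁ u₁).pt ⟶ U₁)) :
    IsElemEtaleNbhd ((yon S).map h ≫ a₁)
        (t.left (IsLocalRing.closedPoint (FieldPt.ofPt a₁ u₁).K)) x ∧
      h.left (t.left (IsLocalRing.closedPoint (FieldPt.ofPt a₁ u₁).K)) = u₁ := by
  have hvu : h.left (t.left (IsLocalRing.closedPoint (FieldPt.ofPt a₁ u₁).K)) = u₁ := by
    have h1 := congrArg (fun m => m.left (IsLocalRing.closedPoint (FieldPt.ofPt a₁ u₁).K)) ht
    have h3 : (Over.homMk (U₁.left.fromSpecResidueField u₁) rfl :
      (FieldPt.ofPt a₁ u₁).pt ⟶ U₁).left (IsLocalRing.closedPoint (FieldPt.ofPt a₁ u₁).K) = u₁ :=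
      Scheme.fromSpecResidueField_apply _ _
    exact h1.trans h3
  refine ⟨⟨he, ?_, ?_⟩, hvu⟩
  · rw [ofPt_yon_map_comp, hvu]
    exact h₁.ofPt_eq
  · have hm := h₁.mono
    obtain ⟨s, hs⟩ := exists_factor U.left t.left _ rfl
    obtain ⟨r, hr⟩ := exists_factor U₁.left (U.left.fromSpecResidueField
      (t.left (IsLocalRing.closedPoint (FieldPt.ofPt a₁ u₁).K)) ≫ h.left) u₁ (by
      change h.left ((U.left.fromSpecResidueField _) _) = u₁
      rw [Scheme.fromSpecResidueField_apply]
      exact hvu)
    have hsr : s ≫ r = 𝟙 _ := by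
      refine (cancel_mono (U₁.left.fromSpecResidueField u₁)).mp ?_
      calc (s ≫ r) ≫ U₁.left.fromSpecResidueField u₁
          = s ≫ (r ≫ U₁.left.fromSpecResidueField u₁) := Category.assoc _ _ _
        _ = s ≫ (U.left.fromSpecResidueField _ ≫ h.left) := congrArg (s ≫ ·) hr
        _ = (s ≫ U.left.fromSpecResidueField _) ≫ h.left := (Category.assoc _ _ _).symm
        _ = t.left ≫ h.left := congrArg (· ≫ h.left) hs
        _ = U₁.left.fromSpecResidueField u₁ := congrArg (fun m => m.left) ht
        _ = 𝟙 _ ≫ U₁.left.fromSpecResidueField u₁ := (Category.id_comp _).symm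
    have hiso : IsIso s := isIso_of_section s r hsr
    let s' : (FieldPt.ofPt a₁ u₁).pt ⟶ (FieldPt.ofPt ((yon S).map h ≫ a₁)
        (t.left (IsLocalRing.closedPoint (FieldPt.ofPt a₁ u₁).K))).pt := Over.homMk s (by
      change s ≫ U.left.fromSpecResidueField _ ≫ U.hom = _
      rw [← Category.assoc]
      exact (congrArg (· ≫ U.hom) hs).trans (Over.w t))
    haveI : IsIso ((Over.forget S).map s') := hiso
    haveI : IsIso s' := isIso_of_reflects_iso s' (Over.forget S)
    have hfac : (yon S).map s' ≫ (FieldPt.ofPt ((yon S).map h ≫ a₁)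
        (t.left (IsLocalRing.closedPoint (FieldPt.ofPt a₁ u₁).K))).toHom =
        (FieldPt.ofPt a₁ u₁).toHom := by
      rw [FieldPt.toHom_ofPt, FieldPt.toHom_ofPt, ← Category.assoc, ← Category.assoc,
        ← Functor.map_comp, ← Functor.map_comp]
      congr 2
      rw [← ht]
      congr 1
      exact Over.OverMorphism.ext hs
    have : (FieldPt.ofPt ((yon S).map h ≫ a₁)
        (t.left (IsLocalRing.closedPoint (FieldPt.ofPt a₁ u₁).K))).toHom =
        inv ((yon S).map s') ≫ (FieldPt.ofPt a₁ u₁).toHom := by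
      rw [← hfac, IsIso.inv_hom_id_assoc]
    rw [this]
    exact mono_comp _ _

end Groth.Agent.Helper5.ElemNbhd
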