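import Groth.Agent.Helper5.ElemNbhd1
import Mathlib

set_option autoImplicit false
universe u

namespace Groth.Agent.Helper5.ElemNbhd

open CategoryTheory CategoryTheory.Limits AlgebraicGeometry Opposite AlgSp
open Groth.Agent.Helper4.AlgSpPtsDesc Groth.Agent.Helper5.ResSp

variable {S : Scheme.{u}}

/-- two elementary etale neighbourhoods are dominated by a third -/
theorem dominate {X : Sp S} (hX : IsAlgSpace X) (x : Points X) {U₁ U₂ : Over S}
    (a₁ : (yon S).obj U₁ ⟶ X) (a₂ : (yon S).obj U₂ ⟶ X) (u₁ : ↥U₁.left) (u₂ : ↥U₂.left)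
    (h₁ : IsElemEtaleNbhd a₁ u₁ x) (h₂ : IsElemEtaleNbhd a₂ u₂ x) :
    ∃ (U : Over S) (a : (yon S).obj U ⟶ X) (v : ↥U.left) (g₁ : U ⟶ U₁) (g₂ : U ⟶ U₂),
      IsElemEtaleNbhd a v x ∧ (yon S).map g₁ ≫ a₁ = a ∧ (yon S).map g₂ ≫ a₂ = a ∧
        g₁.left v = u₁ ∧ g₂.left v = u₂ := by
  have hm₁ := h₁.mono
  have hm₂ := h₂.mono
  obtain ⟨e, he⟩ := exists_iso_of_residual hX (IsAlgSpace.yon_obj (FieldPt.ofPt a₂ u₂).pt)
    (IsAlgSpace.yon_obj (FieldPt.ofPt a₁ u₁).pt) x (FieldPt.ofPt a₂ u₂).toHom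
    (FieldPt.ofPt a₁ u₁).toHom
    (by rw [range_map_toHom]; exact congrArg _ h₂.ofPt_eq)
    (by rw [range_map_toHom]; exact congrArg _ h₁.ofPt_eq)
    (hasFieldCover_yon (FieldPt.ofPt a₂ u₂).K (FieldPt.ofPt a₂ u₂).str)
    (hasFieldCover_yon (FieldPt.ofPt a₁ u₁).K (FieldPt.ofPt a₁ u₁).str)
  have rep := h₁.etale.rep
  let U : Over S := rep.pullback a₂
  let g₂ : U ⟶ U₂ := rep.snd a₂
  let g₁ : U ⟶ U₁ := (yon S).preimage (rep.fst a₂)
  have sq : IsPullback ((yon S).map g₁) ((yon S).map g₂) a₁ a₂ := by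
    rw [Functor.map_preimage]
    exact rep.isPullback a₂
  let ι₁ : (FieldPt.ofPt a₁ u₁).pt ⟶ U₁ := Over.homMk (U₁.left.fromSpecResidueField u₁) rfl
  let ι₂ : (FieldPt.ofPt a₂ u₂).pt ⟶ U₂ := Over.homMk (U₂.left.fromSpecResidueField u₂) rfl
  have hι₁ : (FieldPt.ofPt a₁ u₁).toHom = (yon S).map ι₁ ≫ a₁ := FieldPt.toHom_ofPt a₁ u₁
  have hι₂ : (FieldPt.ofPt a₂ u₂).toHom = (yon S).map ι₂ ≫ a₂ := FieldPt.toHom_ofPt a₂ u₂
  let ε : (FieldPt.ofPt a₁ u₁).pt ⟶ (FieldPt.ofPt a₂ u₂).pt := (yon S).preimage e.hom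
  have hε : (yon S).map ε = e.hom := Functor.map_preimage _ _
  have comm : (yon S).map ι₁ ≫ a₁ = (e.hom ≫ (yon S).map ι₂) ≫ a₂ := by
    rw [Category.assoc, ← hι₁, ← hι₂, he]
  let t : (FieldPt.ofPt a₁ u₁).pt ⟶ U := (yon S).preimage (sq.lift _ _ comm)
  have ht₁ : t ≫ g₁ = ι₁ := by
    apply (yon S).map_injective
    rw [Functor.map_comp, Functor.map_preimage, sq.lift_fst]
  have ht₂ : t ≫ g₂ = ε ≫ ι₂ := by
    apply (yon S).map_injective
    rw [Functor.map_comp, Functor.map_preimage, sq.lift_snd, Functor.map_comp, hε]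
  have he₁ : Etale g₁.left := h₂.etale.property a₁ _ _ sq.flip
  have hea : RepWith @Etale ((yon S).map g₁ ≫ a₁) :=
    Groth.Agent.Helper4.AlgSpSrc.repWith_comp @Etale
      ((repWith_yon_map_iff @Etale g₁).mpr he₁) h₁.etale
  obtain ⟨hn, hv₁⟩ := isElemEtaleNbhd_of_section a₁ u₁ x h₁ g₁ hea t ht₁
  refine ⟨U, (yon S).map g₁ ≫ a₁, _, g₁, g₂, hn, rfl, sq.w.symm, hv₁, ?_⟩
  have h1 := congrArg (fun m => m.left (IsLocalRing.closedPoint (FieldPt.ofPt a₁ u₁).K)) ht₂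
  refine h1.trans ?_
  change (U₂.left.fromSpecResidueField u₂) _ = u₂
  exact Scheme.fromSpecResidueField_apply _ _

/-- two morphisms of elementary etale neighbourhoods agree on the residue field point -/
theorem comp_eq_of_mono {X : Sp S} (x : Points X) {U₁ U₂ : Over S}
    (a₁ : (yon S).obj U₁ ⟶ X) (a₂ : (yon S).obj U₂ ⟶ X) (u₁ : ↥U₁.left) (u₂ : ↥U₂.left)
    (b c : U₁ ⟶ U₂) (h₂ : IsElemEtaleNbhd a₂ u₂ x)
    (hb : (yon S).map b ≫ a₂ = a₁) (hc : (yon S).map c ≫ a₂ = a₁) (hbu : b.left u₁ = u₂)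
    (hcu : c.left u₁ = u₂) :
    (Over.homMk (U₁.left.fromSpecResidueField u₁) rfl : (FieldPt.ofPt a₁ u₁).pt ⟶ U₁) ≫ b =
      (Over.homMk (U₁.left.fromSpecResidueField u₁) rfl : (FieldPt.ofPt a₁ u₁).pt ⟶ U₁) ≫ c := by
  have hm₂ := h₂.mono
  let ι₁ : (FieldPt.ofPt a₁ u₁).pt ⟶ U₁ := Over.homMk (U₁.left.fromSpecResidueField u₁) rfl
  let ι₂ : (FieldPt.ofPt a₂ u₂).pt ⟶ U₂ := Over.homMk (U₂.left.fromSpecResidueField u₂) rfl
  have hι₂ : (FieldPt.ofPt a₂ u₂).toHom = (yon S).map ι₂ ≫ a₂ := FieldPt.toHom_ofPt a₂ u₂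
  -- general factorisation
  have key : ∀ d : U₁ ⟶ U₂, (yon S).map d ≫ a₂ = a₁ → d.left u₁ = u₂ →
      ∃ β : (FieldPt.ofPt a₁ u₁).pt ⟶ (FieldPt.ofPt a₂ u₂).pt, β ≫ ι₂ = ι₁ ≫ d := by
    intro d hd hdu
    obtain ⟨β₀, hβ₀⟩ := exists_factor U₂.left (U₁.left.fromSpecResidueField u₁ ≫ d.left) u₂ (by
      change d.left ((U₁.left.fromSpecResidueField u₁) _) = u₂
      rw [Scheme.fromSpecResidueField_apply]
      exact hdu)
    refine ⟨Over.homMk β₀ ?_, Over.OverMorphism.ext hβ₀⟩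
    change β₀ ≫ U₂.left.fromSpecResidueField u₂ ≫ U₂.hom = U₁.left.fromSpecResidueField u₁ ≫ U₁.hom
    rw [← Category.assoc]
    refine (congrArg (· ≫ U₂.hom) hβ₀).trans ?_
    exact (Category.assoc _ _ _).trans (congrArg (U₁.left.fromSpecResidueField u₁ ≫ ·) (Over.w d))
  obtain ⟨β, hβ⟩ := key b hb hbu
  obtain ⟨γ, hγ⟩ := key c hc hcu
  have h1 : (yon S).map β ≫ (FieldPt.ofPt a₂ u₂).toHom =
      (yon S).map γ ≫ (FieldPt.ofPt a₂ u₂).toHom := by
    rw [hι₂, ← Category.assoc, ← Category.assoc, ← Functor.map_comp, ← Functor.map_comp, hβ, hγ,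
      Functor.map_comp, Functor.map_comp, Category.assoc, Category.assoc, hb, hc]
  have h2 : β = γ := (yon S).map_injective ((cancel_mono _).mp h1)
  change ι₁ ≫ b = ι₁ ≫ c
  rw [← hβ, ← hγ, h2]

/-- two parallel morphisms of elementary etale neighbourhoods are equalized by a third -/
theorem equalize {X : Sp S} (x : Points X) {U₁ U₂ : Over S}
    (a₁ : (yon S).obj U₁ ⟶ X) (a₂ : (yon S).obj U₂ ⟶ X) (u₁ : ↥U₁.left) (u₂ : ↥U₂.left)
    (b c : U₁ ⟶ U₂) (h₁ : IsElemEtaleNbhd a₁ u₁ x) (h₂ : IsElemEtaleNbhd a₂ u₂ x)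
    (hb : (yon S).map b ≫ a₂ = a₁) (hc : (yon S).map c ≫ a₂ = a₁) (hbu : b.left u₁ = u₂)
    (hcu : c.left u₁ = u₂) :
    ∃ (U : Over S) (a : (yon S).obj U ⟶ X) (v : ↥U.left) (h : U ⟶ U₁),
      IsElemEtaleNbhd a v x ∧ (yon S).map h ≫ a₁ = a ∧ h.left v = u₁ ∧ h ≫ b = h ≫ c := by
  have rep := h₂.etale.rep
  let R : Over S := rep.pullback a₂
  let π₂ : R ⟶ U₂ := rep.snd a₂
  let π₁ : R ⟶ U₂ := (yon S).preimage (rep.fst a₂)
  have sq : IsPullback ((yon S).map π₁) ((yon S).map π₂) a₂ a₂ := by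
    rw [Functor.map_preimage]
    exact rep.isPullback a₂
  have hπ₁ : Etale π₁.left := h₂.etale.property a₂ _ _ sq.flip
  let δ : U₂ ⟶ R := (yon S).preimage (sq.lift (𝟙 _) (𝟙 _) rfl)
  have hδ₁ : δ ≫ π₁ = 𝟙 _ := by
    apply (yon S).map_injective
    rw [Functor.map_comp, Functor.map_preimage, sq.lift_fst, CategoryTheory.Functor.map_id]
  have hδ₂ : δ ≫ π₂ = 𝟙 _ := by
    apply (yon S).map_injective
    rw [Functor.map_comp, Functor.map_preimage, sq.lift_snd, CategoryTheory.Functor.map_id]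
  let bc : U₁ ⟶ R := (yon S).preimage (sq.lift ((yon S).map b) ((yon S).map c) (hb.trans hc.symm))
  have hbc₁ : bc ≫ π₁ = b := by
    apply (yon S).map_injective
    rw [Functor.map_comp, Functor.map_preimage, sq.lift_fst]
  have hbc₂ : bc ≫ π₂ = c := by
    apply (yon S).map_injective
    rw [Functor.map_comp, Functor.map_preimage, sq.lift_snd]
  have hδe : Etale δ.left := by
    haveI : Etale (δ.left ≫ π₁.left) := by
      rw [← Over.comp_left, hδ₁]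
      exact (inferInstance : Etale (𝟙 U₂.left))
    exact Etale.of_comp δ.left π₁.left
  -- the equalizer
  let E₀ : Scheme.{u} := pullback δ.left bc.left
  let E : Over S := Over.mk (pullback.snd δ.left bc.left ≫ U₁.hom)
  let h : E ⟶ U₁ := Over.homMk (pullback.snd δ.left bc.left) rfl
  have hhe : Etale h.left := (inferInstance : Etale (pullback.snd δ.left bc.left))
  have hfst : ∀ d : U₁ ⟶ U₂, bc ≫ π₁ = d ∨ bc ≫ π₂ = d →
      pullback.snd δ.left bc.left ≫ d.left = pullback.fst δ.left bc.left := by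
    intro d hd
    rcases hd with hd | hd
    · rw [← hd, Over.comp_left, ← Category.assoc, ← pullback.condition, Category.assoc,
        ← Over.comp_left, hδ₁, Over.id_left, Category.comp_id]
    · rw [← hd, Over.comp_left, ← Category.assoc, ← pullback.condition, Category.assoc,
        ← Over.comp_left, hδ₂, Over.id_left, Category.comp_id]
  have heq : h ≫ b = h ≫ c := by
    apply Over.OverMorphism.ext
    rw [Over.comp_left, Over.comp_left]
    exact (hfst b (Or.inl hbc₁)).trans (hfst c (Or.inr hbc₂)).symm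
  -- the point
  let ι₁ : (FieldPt.ofPt a₁ u₁).pt ⟶ U₁ := Over.homMk (U₁.left.fromSpecResidueField u₁) rfl
  have hιbc : ι₁ ≫ b = ι₁ ≫ c := comp_eq_of_mono x a₁ a₂ u₁ u₂ b c h₂ hb hc hbu hcu
  have hpt : (ι₁ ≫ b) ≫ δ = ι₁ ≫ bc := by
    apply (yon S).map_injective
    apply sq.hom_ext
    · rw [← Functor.map_comp, ← Functor.map_comp]
      congr 1
      simp only [Category.assoc, hδ₁, hbc₁, Category.comp_id]
    · rw [← Functor.map_comp, ← Functor.map_comp]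
      congr 1
      simp only [Category.assoc, hδ₂, hbc₂, Category.comp_id]
      exact hιbc
  let t₀ : (FieldPt.ofPt a₁ u₁).pt.left ⟶ E₀ :=
    pullback.lift (ι₁ ≫ b).left ι₁.left (congrArg (fun m => m.left) hpt)
  let t : (FieldPt.ofPt a₁ u₁).pt ⟶ E := Over.homMk t₀ (by
    change t₀ ≫ pullback.snd δ.left bc.left ≫ U₁.hom = _
    rw [← Category.assoc, pullback.lift_snd]
    exact Over.w ι₁)
  have ht : t ≫ h = ι₁ := Over.OverMorphism.ext (pullback.lift_snd _ _ _)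
  have hea : RepWith @Etale ((yon S).map h ≫ a₁) :=
    Groth.Agent.Helper4.AlgSpSrc.repWith_comp @Etale
      ((repWith_yon_map_iff @Etale h).mpr hhe) h₁.etale
  obtain ⟨hn, hv₁⟩ := isElemEtaleNbhd_of_section a₁ u₁ x h₁ h hea t ht
  exact ⟨E, (yon S).map h ≫ a₁, _, h, hn, rfl, hv₁, heq⟩

end Groth.Agent.Helper5.ElemNbhd
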