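import Groth.Agent.Helper5.HensLift1
import Mathlib

set_option autoImplicit false
universe u

namespace Groth.Agent.Helper5.HensLift

open CategoryTheory AlgebraicGeometry IsLocalRing

/-- unique extension of a local homomorphism to a henselian local ring along the stalk map of an
etale morphism with trivial residue field extension -/
theorem existsUnique_lift_stalk {X Y : Scheme.{u}} (g : X ⟶ Y) [Etale g] (x : X)
    (hκ : Function.Surjective (ResidueField.map (g.stalkMap x).hom))
    (T : Type u) [CommRing T] [HenselianLocalRing T]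
    (f : Y.presheaf.stalk (g x) →+* T) [IsLocalHom f] :
    (∃ f' : X.presheaf.stalk x →+* T, f'.comp (g.stalkMap x).hom = f) ∧
    (∀ f' : X.presheaf.stalk x →+* T, f'.comp (g.stalkMap x).hom = f → IsLocalHom f') ∧
    (∀ f' f'' : X.presheaf.stalk x →+* T, f'.comp (g.stalkMap x).hom = f →
      f''.comp (g.stalkMap x).hom = f → f' = f'') := by
  have hbij : Function.Bijective (ResidueField.map (g.stalkMap x).hom) :=
    ⟨(ResidueField.map (g.stalkMap x).hom).injective, hκ⟩
  let e := RingEquiv.ofBijective _ hbij
  -- algebra structures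
  letI : Algebra (Y.presheaf.stalk (g x)) (X.presheaf.stalk x) := (g.stalkMap x).hom.toAlgebra
  letI : Algebra (Y.presheaf.stalk (g x)) T := f.toAlgebra
  haveI : IsLocalHom (algebraMap (Y.presheaf.stalk (g x)) (X.presheaf.stalk x)) :=
    (inferInstance : IsLocalHom (g.stalkMap x).hom)
  haveI : IsLocalHom (algebraMap (Y.presheaf.stalk (g x)) T) := (inferInstance : IsLocalHom f)
  haveI : Algebra.EssFiniteType (Y.presheaf.stalk (g x)) (X.presheaf.stalk x) :=
    LocallyOfFiniteType.stalkMap g x
  haveI : Algebra.FormallyEtale (Y.presheaf.stalk (g x)) (X.presheaf.stalk x) :=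
    Groth.Agent.Helper5.UnrLoc.formallyEtale_stalkMap_of_etale g x
  have hmax : ∀ f' : X.presheaf.stalk x →+* T, f'.comp (g.stalkMap x).hom = f →
      ∀ y ∈ maximalIdeal (X.presheaf.stalk x), f' y ∈ maximalIdeal T := by
    intro f' hf'
    let ψ : X.presheaf.stalk x →ₐ[Y.presheaf.stalk (g x)] T :=
      { f' with commutes' := fun a => congrArg (fun m => m a) hf' }
    exact Groth.Agent.Helper1.EssEt.map_maximalIdeal_le ψ
  refine ⟨?_, ?_, ?_⟩
  · refine exists_lift_stalk g x T f ((ResidueField.map f).comp (e.symm : _ →+* _)) ?_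
    ext z
    simp only [RingHom.comp_apply]
    congr 1
    exact e.symm_apply_apply _
  · intro f' hf'
    constructor
    intro y hy
    by_contra hnu
    exact (hmax f' hf' y ((mem_maximalIdeal _).2 hnu)) hy
  · intro f' f'' hf' hf''
    let ψ' : X.presheaf.stalk x →ₐ[Y.presheaf.stalk (g x)] T :=
      { f' with commutes' := fun a => congrArg (fun m => m a) hf' }
    let ψ'' : X.presheaf.stalk x →ₐ[Y.presheaf.stalk (g x)] T :=
      { f'' with commutes' := fun a => congrArg (fun m => m a) hf'' }
    have key : ψ' = ψ'' := by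
      apply Groth.Agent.Helper1.EssEt.algHom_eq_of_residue_eq
      intro y
      obtain ⟨z, hz⟩ := hκ (residue _ y)
      obtain ⟨a, rfl⟩ := residue_surjective z
      rw [ResidueField.map_residue] at hz
      have hm : y - (g.stalkMap x).hom a ∈ maximalIdeal (X.presheaf.stalk x) := by
        rw [← residue_eq_zero_iff, map_sub, hz, sub_self]
      have h1 := hmax f' hf' _ hm
      have h2 := hmax f'' hf'' _ hm
      rw [← residue_eq_zero_iff] at h1 h2
      have e1 : f' ((g.stalkMap x).hom a) = f a := congrArg (fun m => m a) hf'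
      have e2 : f'' ((g.stalkMap x).hom a) = f a := congrArg (fun m => m a) hf''
      rw [map_sub, map_sub, e1, sub_eq_zero] at h1
      rw [map_sub, map_sub, e2, sub_eq_zero] at h2
      change residue T (f' y) = residue T (f'' y)
      rw [h1, h2]
    ext y
    exact congrArg (fun m => m y) key

end Groth.Agent.Helper5.HensLift
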