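import Groth.Agent.Helper5.ElemNbhd2
import Groth.Agent.Helper5.HensLift2
import Groth.Prelude.Def_Hensel
import Mathlib

set_option autoImplicit false
universe u

namespace Groth.Agent.Helper5.ElemNbhd

open CategoryTheory CategoryTheory.Limits AlgebraicGeometry Opposite AlgSp IsLocalRing
open Groth.Agent.Helper4.AlgSpPtsDesc Groth.Agent.Helper5.ResSp

variable {S : Scheme.{u}}

/-- a morphism between etale charts is etale -/
theorem etale_of_repWith_comp {F : Sp S} {U U' : Over S} (a : (yon S).obj U ⟶ F) (g : U' ⟶ U)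
    (ha : RepWith @Etale a) (ha' : RepWith @Etale ((yon S).map g ≫ a)) : Etale g.left := by
  have rep := ha.rep
  let R : Over S := rep.pullback ((yon S).map g ≫ a)
  let π₂ : R ⟶ U' := rep.snd ((yon S).map g ≫ a)
  let π₁ : R ⟶ U := (yon S).preimage (rep.fst ((yon S).map g ≫ a))
  have sq : IsPullback ((yon S).map π₁) ((yon S).map π₂) a ((yon S).map g ≫ a) := by
    rw [Functor.map_preimage]
    exact rep.isPullback _
  have hπ₂ : Etale π₂.left := ha.property _ _ _ sq
  have hπ₁ : Etale π₁.left := ha'.property _ _ _ sq.flip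
  let γ : U' ⟶ R := (yon S).preimage (sq.lift ((yon S).map g) (𝟙 _) (by rw [Category.id_comp]))
  have hγ₁ : γ ≫ π₁ = g := by
    apply (yon S).map_injective
    rw [Functor.map_comp, Functor.map_preimage, sq.lift_fst]
  have hγ₂ : γ ≫ π₂ = 𝟙 _ := by
    apply (yon S).map_injective
    rw [Functor.map_comp, Functor.map_preimage, sq.lift_snd, CategoryTheory.Functor.map_id]
  have hγe : Etale γ.left := by
    haveI : Etale (γ.left ≫ π₂.left) := by
      rw [← Over.comp_left, hγ₂]
      exact (inferInstance : Etale (𝟙 U'.left))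
    exact Etale.of_comp γ.left π₂.left
  rw [← hγ₁, Over.comp_left]
  infer_instance

/-- a morphism of elementary etale neighbourhoods induces an isomorphism of residue fields -/
theorem residueFieldMap_surjective {X : Sp S} (hX : IsAlgSpace X) (x : Points X) {U U' : Over S}
    (a : (yon S).obj U ⟶ X) (a' : (yon S).obj U' ⟶ X) (g : U' ⟶ U) (u' : ↥U'.left)
    (hg : (yon S).map g ≫ a = a') (ha : IsElemEtaleNbhd a (g.left u') x)
    (ha' : IsElemEtaleNbhd a' u' x) :
    Function.Surjective (ResidueField.map (g.left.stalkMap u').hom) := by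
  have hm := ha.mono
  have hm' := ha'.mono
  obtain ⟨e, he⟩ := exists_iso_of_residual hX (IsAlgSpace.yon_obj (FieldPt.ofPt a (g.left u')).pt)
    (IsAlgSpace.yon_obj (FieldPt.ofPt a' u').pt) x (FieldPt.ofPt a (g.left u')).toHom
    (FieldPt.ofPt a' u').toHom
    (by rw [range_map_toHom]; exact congrArg _ ha.ofPt_eq)
    (by rw [range_map_toHom]; exact congrArg _ ha'.ofPt_eq)
    (hasFieldCover_yon (FieldPt.ofPt a (g.left u')).K (FieldPt.ofPt a (g.left u')).str)
    (hasFieldCover_yon (FieldPt.ofPt a' u').K (FieldPt.ofPt a' u').str)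
  let ι : (FieldPt.ofPt a (g.left u')).pt ⟶ U :=
    Over.homMk (U.left.fromSpecResidueField (g.left u')) rfl
  let ι' : (FieldPt.ofPt a' u').pt ⟶ U' := Over.homMk (U'.left.fromSpecResidueField u') rfl
  have hι : (FieldPt.ofPt a (g.left u')).toHom = (yon S).map ι ≫ a := FieldPt.toHom_ofPt _ _
  have hι' : (FieldPt.ofPt a' u').toHom = (yon S).map ι' ≫ a' := FieldPt.toHom_ofPt _ _
  have hsq : Spec.map (g.left.residueFieldMap u') ≫ U.left.fromSpecResidueField (g.left u') =
      U'.left.fromSpecResidueField u' ≫ g.left :=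
    Scheme.Hom.SpecMap_residueFieldMap_fromSpecResidueField g.left u'
  let m : (FieldPt.ofPt a' u').pt ⟶ (FieldPt.ofPt a (g.left u')).pt :=
    Over.homMk (Spec.map (g.left.residueFieldMap u')) (by
      change Spec.map (g.left.residueFieldMap u') ≫ U.left.fromSpecResidueField (g.left u') ≫ U.hom =
        U'.left.fromSpecResidueField u' ≫ U'.hom
      rw [← Category.assoc, hsq, Category.assoc, Over.w g])
  have hmι : m ≫ ι = ι' ≫ g := Over.OverMorphism.ext hsq
  have h1 : (yon S).map m ≫ (FieldPt.ofPt a (g.left u')).toHom = (FieldPt.ofPt a' u').toHom := by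
    rw [hι, hι', ← Category.assoc, ← Functor.map_comp, hmι, Functor.map_comp, Category.assoc, hg]
  have h2 : (yon S).map m = e.hom := (cancel_mono _).mp (h1.trans he.symm)
  haveI : IsIso ((yon S).map m) := by rw [h2]; infer_instance
  haveI : IsIso m := isIso_of_fully_faithful (yon S) m
  haveI : IsIso (Spec.map (g.left.residueFieldMap u')) :=
    (inferInstance : IsIso ((Over.forget S).map m))
  haveI : IsIso (g.left.residueFieldMap u') := by
    haveI : IsIso (Scheme.Spec.map (g.left.residueFieldMap u').op) :=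
      (inferInstance : IsIso (Spec.map (g.left.residueFieldMap u')))
    have : IsIso (g.left.residueFieldMap u').op :=
      isIso_of_reflects_iso (g.left.residueFieldMap u').op Scheme.Spec
    exact isIso_of_op _
  exact ((ConcreteCategory.isIso_iff_bijective (g.left.residueFieldMap u')).mp inferInstance).2

end Groth.Agent.Helper5.ElemNbhd
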