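import Groth.Agent.Helper5.ElemNbhd3
import Mathlib

set_option autoImplicit false
universe u

namespace Groth.Agent.Helper5.ElemNbhd

open CategoryTheory AlgebraicGeometry IsLocalRing

/-- a henselization of the local ring upstairs is a henselization of the local ring downstairs,
for an etale morphism with trivial residue field extension -/
theorem isHenselization_of_etale {X Y : Scheme.{u}} (g : X ⟶ Y) [Etale g] (x : X)
    (hκ : Function.Surjective (ResidueField.map (g.stalkMap x).hom))
    (R : Type u) [CommRing R] [IsLocalRing R] [Algebra (X.presheaf.stalk x) R]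
    [IsLocalHom (algebraMap (X.presheaf.stalk x) R)]
    [hR : Hensel.IsHenselization (X.presheaf.stalk x) R] :
    letI : Algebra (Y.presheaf.stalk (g x)) R :=
      ((algebraMap (X.presheaf.stalk x) R).comp (g.stalkMap x).hom).toAlgebra
    ∃ (_ : IsLocalHom (algebraMap (Y.presheaf.stalk (g x)) R)),
      Hensel.IsHenselization (Y.presheaf.stalk (g x)) R := by
  letI : Algebra (Y.presheaf.stalk (g x)) R :=
    ((algebraMap (X.presheaf.stalk x) R).comp (g.stalkMap x).hom).toAlgebra
  have hloc : IsLocalHom (algebraMap (Y.presheaf.stalk (g x)) R) := by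
    change IsLocalHom ((algebraMap (X.presheaf.stalk x) R).comp (g.stalkMap x).hom)
    exact RingHom.isLocalHom_comp _ _
  refine ⟨hloc, ⟨hR.henselian, ?_⟩⟩
  intro T _ _ f hf
  haveI := hf
  obtain ⟨⟨f', hf'⟩, hl, hu⟩ := HensLift.existsUnique_lift_stalk g x hκ T f
  obtain ⟨k, hk, hku⟩ := hR.universal T f' (hl f' hf')
  refine ⟨k, ?_, ?_⟩
  · change k.comp ((algebraMap (X.presheaf.stalk x) R).comp (g.stalkMap x).hom) = f
    rw [← RingHom.comp_assoc, hk, hf']
  · intro k' hk'
    apply hku
    apply hu _ _ _ hf'
    rw [RingHom.comp_assoc]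
    exact hk'

end Groth.Agent.Helper5.ElemNbhd
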