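import Groth.Agent.Helper5.ElemNbhd4
import Groth.Prelude.Def_Hens2
import Mathlib

set_option autoImplicit false
universe u

namespace Groth.Agent.Helper5.ElemNbhd

open CategoryTheory CategoryTheory.Limits AlgebraicGeometry Opposite AlgSp IsLocalRing
open Groth.Agent.Helper4.AlgSpPtsDesc

variable {S : Scheme.{u}}

/-- an elementary etale neighbourhood (in the sense of schemes) of an elementary etale neighbourhood
of a point of a space is an elementary etale neighbourhood of that point -/
theorem isElemEtaleNbhd_of_isEtaleNbhd {F : Sp S} {U : Over S} (a : (yon S).obj U ⟶ F)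
    (x : Points F) {V : Scheme.{u}} (g : V ⟶ U.left) (v : V) (hU : IsElemEtaleNbhd a (g v) x)
    (hg : Etale g) (hres : Function.Bijective (g.residueFieldMap v)) :
    IsElemEtaleNbhd ((yon S).map (Over.homMk g rfl : Over.mk (g ≫ U.hom) ⟶ U) ≫ a) v x := by
  haveI : IsIso (g.residueFieldMap v) :=
    (ConcreteCategory.isIso_iff_bijective (g.residueFieldMap v)).mpr hres
  let h : Over.mk (g ≫ U.hom) ⟶ U := Over.homMk g rfl
  have hsq : Spec.map (g.residueFieldMap v) ≫ U.left.fromSpecResidueField (g v) =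
      V.fromSpecResidueField v ≫ g :=
    Scheme.Hom.SpecMap_residueFieldMap_fromSpecResidueField g v
  let t₀ : Spec (CommRingCat.of ↥(U.left.residueField (g v))) ⟶ V :=
    Spec.map (inv (g.residueFieldMap v)) ≫ V.fromSpecResidueField v
  have ht₀ : t₀ ≫ g = U.left.fromSpecResidueField (g v) := by
    change (Spec.map (inv (g.residueFieldMap v)) ≫ V.fromSpecResidueField v) ≫ g = _
    rw [Category.assoc, ← hsq, ← Category.assoc, ← Spec.map_comp, IsIso.hom_inv_id, Spec.map_id,
      Category.id_comp]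
  let t : (FieldPt.ofPt a (g v)).pt ⟶ Over.mk (g ≫ U.hom) := Over.homMk t₀ (by
    change t₀ ≫ g ≫ U.hom = U.left.fromSpecResidueField (g v) ≫ U.hom
    rw [← Category.assoc, ht₀])
  have ht : t ≫ h = (Over.homMk (U.left.fromSpecResidueField (g v)) rfl :
      (FieldPt.ofPt a (g v)).pt ⟶ U) := Over.OverMorphism.ext ht₀
  have hea : RepWith @Etale ((yon S).map h ≫ a) :=
    Groth.Agent.Helper4.AlgSpSrc.repWith_comp @Etale
      ((repWith_yon_map_iff @Etale h).mpr hg) hU.etale
  obtain ⟨hn, -⟩ := isElemEtaleNbhd_of_section a (g v) x hU h hea t ht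
  have hv : t.left (IsLocalRing.closedPoint (FieldPt.ofPt a (g v)).K) = v := by
    change (V.fromSpecResidueField v) _ = v
    exact Scheme.fromSpecResidueField_apply _ _
  rw [hv] at hn
  exact hn

/-- the same for a `Hens2.IsEtaleNbhd` -/
theorem isElemEtaleNbhd_of_hens2 {F : Sp S} {U : Over S} (a : (yon S).obj U ⟶ F)
    (x : Points F) (u : ↥U.left) (hU : IsElemEtaleNbhd a u x) {V : Scheme.{u}} (g : V ⟶ U.left)
    (v : V) (hg : Hens2.IsEtaleNbhd g v u) :
    IsElemEtaleNbhd ((yon S).map (Over.homMk g rfl : Over.mk (g ≫ U.hom) ⟶ U) ≫ a) v x := by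
  obtain ⟨h1, h2, h3⟩ := hg
  subst h2
  exact isElemEtaleNbhd_of_isEtaleNbhd a x g v hU h1 h3

end Groth.Agent.Helper5.ElemNbhd
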