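import Groth.Agent.Helper5.ElemNbhd5
import Groth.Agent.Helper4.HensPrime
import Groth.Agent.Helper1.HensIsHens
import Mathlib

set_option autoImplicit false
universe u

namespace Groth.Agent.Helper5.ElemNbhd

open CategoryTheory CategoryTheory.Limits AlgebraicGeometry Opposite AlgSp IsLocalRing
open Groth.Agent.Helper1.Hens

variable {S : Scheme.{u}}

/-- the henselizations of the local rings of two elementary etale neighbourhoods are isomorphic -/
theorem exists_henselization_equiv {X : Sp S} (hX : IsAlgSpace X) (x : Points X) {U₀ U : Over S}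
    (a₀ : (yon S).obj U₀ ⟶ X) (a : (yon S).obj U ⟶ X) (u₀ : ↥U₀.left) (u : ↥U.left)
    (h₀ : IsElemEtaleNbhd a₀ u₀ x) (h : IsElemEtaleNbhd a u x)
    (R : Type u) [CommRing R] [IsLocalRing R] [Algebra ↥(U₀.left.presheaf.stalk u₀) R]
    [IsLocalHom (algebraMap ↥(U₀.left.presheaf.stalk u₀) R)]
    [Hensel.IsHenselization ↥(U₀.left.presheaf.stalk u₀) R] :
    ∃ (R' : Type u) (_ : CommRing R') (_ : IsLocalRing R')
      (_ : Algebra ↥(U.left.presheaf.stalk u) R')
      (_ : IsLocalHom (algebraMap ↥(U.left.presheaf.stalk u) R'))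
      (_ : Hensel.IsHenselization ↥(U.left.presheaf.stalk u) R'), Nonempty (R ≃+* R') := by
  obtain ⟨U₃, a₃, v, g₁, g₂, hn, hg₁, hg₂, hv₁, hv₂⟩ := dominate hX x a₀ a u₀ u h₀ h
  subst hv₁ hv₂
  haveI e₁ : Etale g₁.left := etale_of_repWith_comp a₀ g₁ h₀.etale (by rw [hg₁]; exact hn.etale)
  haveI e₂ : Etale g₂.left := etale_of_repWith_comp a g₂ h.etale (by rw [hg₂]; exact hn.etale)
  have s₁ := residueFieldMap_surjective hX x a₀ a₃ g₁ v hg₁ h₀ hn
  have s₂ := residueFieldMap_surjective hX x a a₃ g₂ v hg₂ h hn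
  letI alg₁ : Algebra ↥(U₀.left.presheaf.stalk (g₁.left v)) (Hh ↥(U₃.left.presheaf.stalk v)) :=
    ((algebraMap ↥(U₃.left.presheaf.stalk v) (Hh ↥(U₃.left.presheaf.stalk v))).comp
      (g₁.left.stalkMap v).hom).toAlgebra
  obtain ⟨l₁, H₁⟩ := isHenselization_of_etale g₁.left v s₁ (Hh ↥(U₃.left.presheaf.stalk v))
  letI alg₂ : Algebra ↥(U.left.presheaf.stalk (g₂.left v)) (Hh ↥(U₃.left.presheaf.stalk v)) :=
    ((algebraMap ↥(U₃.left.presheaf.stalk v) (Hh ↥(U₃.left.presheaf.stalk v))).comp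
      (g₂.left.stalkMap v).hom).toAlgebra
  obtain ⟨l₂, H₂⟩ := isHenselization_of_etale g₂.left v s₂ (Hh ↥(U₃.left.presheaf.stalk v))
  have e := Groth.Agent.Helper4.HensPrime.equivOfTwo ↥(U₀.left.presheaf.stalk (g₁.left v)) R
    (Hh ↥(U₃.left.presheaf.stalk v))
  exact ⟨Hh ↥(U₃.left.presheaf.stalk v), inferInstance, inferInstance, alg₂, l₂, H₂,
    ⟨e.toRingEquiv⟩⟩

end Groth.Agent.Helper5.ElemNbhd
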