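import Groth.Agent.Helper5.ElemNbhd6
import Groth.Agent.Helper2.BrSchH
import Groth.Agent.Helper2.BrnchB
import Mathlib

set_option autoImplicit false
universe u

namespace Groth.Agent.Helper5.ElemNbhd

open CategoryTheory CategoryTheory.Limits AlgebraicGeometry Opposite AlgSp IsLocalRing
open Groth.Agent.Helper2.BrSch

variable {S : Scheme.{u}}

theorem hasUniqueMinimalPrime_iff_encard (A : Type u) [CommRing A] :
    CAlgX.HasUniqueMinimalPrime A ↔ (minimalPrimes A).encard = 1 := by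
  unfold CAlgX.HasUniqueMinimalPrime
  rw [Set.encard_eq_one]
  constructor
  · rintro ⟨p, hp, hu⟩
    refine ⟨p, ?_⟩
    ext q
    exact ⟨fun hq => hu q hq, fun hq => by rw [Set.mem_singleton_iff.mp hq]; exact hp⟩
  · rintro ⟨p, hp⟩
    refine ⟨p, by rw [hp]; rfl, fun q hq => ?_⟩
    rw [hp] at hq
    exact hq

section core

variable {X : Sp S} (hX : IsAlgSpace X) (x : Points X) {U₀ : Over S}
    (a₀ : (yon S).obj U₀ ⟶ X) (u₀ : ↥U₀.left) (h₀ : IsElemEtaleNbhd a₀ u₀ x)
    (R : Type u) [CommRing R] [IsLocalRing R] [Algebra ↥(U₀.left.presheaf.stalk u₀) R]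
    [IsLocalHom (algebraMap ↥(U₀.left.presheaf.stalk u₀) R)]
    [Hensel.IsHenselization ↥(U₀.left.presheaf.stalk u₀) R]

include hX h₀ in
/-- (C1) the number of branches at any elementary etale neighbourhood is the number of minimal
primes of the henselization -/
theorem numBranchesAt_eq {U : Over S} (a : (yon S).obj U ⟶ X) (u : ↥U.left)
    (h : IsElemEtaleNbhd a u x) :
    _root_.Brnch.numBranchesAt U.left u = (minimalPrimes R).encard := by
  obtain ⟨R', _, _, _, _, _, ⟨e⟩⟩ := exists_henselization_equiv hX x a₀ a u₀ u h₀ h R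
  rw [Groth.Agent.Helper2.Brnch.encard_minimalPrimes_of_ringEquiv e]
  exact (Groth.Agent.Helper2.Brnch.s9237 ↥(U.left.presheaf.stalk u) R').symm

include hX h₀ in
/-- (C2) -/
theorem encard_components_le {U : Over S} (a : (yon S).obj U ⟶ X) (u : ↥U.left)
    (h : IsElemEtaleNbhd a u x) :
    {Z : Set ↥U.left | Z ∈ irreducibleComponents ↥U.left ∧ u ∈ Z}.encard ≤
      (minimalPrimes R).encard := by
  rw [← numBranchesAt_eq hX x a₀ u₀ h₀ R a u h]
  have := le_numBranchesAt (𝟙 U.left) u (by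
    rw [Scheme.residueFieldMap_id]
    exact Function.bijective_id)
  exact this

include hX h₀ in
/-- (C3) -/
theorem exists_nbhd_le (n : ℕ) (hn : (n : ℕ∞) ≤ (minimalPrimes R).encard) :
    ∃ (U : Over S) (a : (yon S).obj U ⟶ X) (u : ↥U.left), IsElemEtaleNbhd a u x ∧
      (n : ℕ∞) ≤ {Z : Set ↥U.left | Z ∈ irreducibleComponents ↥U.left ∧ u ∈ Z}.encard := by
  rw [← numBranchesAt_eq hX x a₀ u₀ h₀ R a₀ u₀ h₀] at hn
  obtain ⟨V, g, v, hg, hle⟩ := exists_nbhd_elem u₀ n hn
  exact ⟨Over.mk (g ≫ U₀.hom), _, v, isElemEtaleNbhd_of_hens2 a₀ x u₀ h₀ g v hg, hle⟩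

end core

end Groth.Agent.Helper5.ElemNbhd
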