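import Groth.Agent.Helper5.ElemNbhd7
import Groth.Agent.S9235
import Mathlib

set_option autoImplicit false
universe u

namespace Groth.Agent.Helper5.ElemNbhd

open CategoryTheory CategoryTheory.Limits AlgebraicGeometry Opposite AlgSp IsLocalRing
open Groth.Agent.Helper2.BrSch

variable {S : Scheme.{u}}

section core

variable {X : Sp S} (hX : IsAlgSpace X) (x : Points X) {U₀ : Over S}
    (a₀ : (yon S).obj U₀ ⟶ X) (u₀ : ↥U₀.left) (h₀ : IsElemEtaleNbhd a₀ u₀ x)
    (R : Type u) [CommRing R] [IsLocalRing R] [Algebra ↥(U₀.left.presheaf.stalk u₀) R]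
    [IsLocalHom (algebraMap ↥(U₀.left.presheaf.stalk u₀) R)]
    [Hensel.IsHenselization ↥(U₀.left.presheaf.stalk u₀) R]

include hX h₀ in
theorem components_cond_iff (n : ℕ) :
    ((∀ (U : Over S) (a : (yon S).obj U ⟶ X) (u : ↥U.left), IsElemEtaleNbhd a u x →
        {Z : Set ↥U.left | Z ∈ irreducibleComponents ↥U.left ∧ u ∈ Z}.encard ≤ n) ∧
      (∃ (U : Over S) (a : (yon S).obj U ⟶ X) (u : ↥U.left), IsElemEtaleNbhd a u x ∧
        {Z : Set ↥U.left | Z ∈ irreducibleComponents ↥U.left ∧ u ∈ Z}.encard = n)) ↔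
      (minimalPrimes R).encard = n := by
  constructor
  · rintro ⟨hall, U, a, u, hP, heq⟩
    apply le_antisymm
    · by_contra hlt
      rw [not_le] at hlt
      have h1 : ((n + 1 : ℕ) : ℕ∞) ≤ (minimalPrimes R).encard := by
        rw [Nat.cast_add, Nat.cast_one]
        exact Order.add_one_le_of_lt hlt
      obtain ⟨V, b, v, hV, hle⟩ := exists_nbhd_le hX x a₀ u₀ h₀ R (n + 1) h1
      have h2 := hle.trans (hall V b v hV)
      rw [Nat.cast_le] at h2
      omega
    · rw [← heq]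
      exact encard_components_le hX x a₀ u₀ h₀ R a u hP
  · intro hN
    refine ⟨fun U a u hP => (encard_components_le hX x a₀ u₀ h₀ R a u hP).trans hN.le, ?_⟩
    obtain ⟨V, b, v, hV, hle⟩ := exists_nbhd_le hX x a₀ u₀ h₀ R n hN.ge
    exact ⟨V, b, v, hV,
      le_antisymm ((encard_components_le hX x a₀ u₀ h₀ R b v hV).trans hN.le) hle⟩

include hX h₀ in
theorem branches_cond_iff (n : ℕ) :
    ((∀ (U : Over S) (a : (yon S).obj U ⟶ X) (u : ↥U.left), IsElemEtaleNbhd a u x →
        _root_.Brnch.numBranchesAt U.left u ≤ n) ∧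
      (∃ (U : Over S) (a : (yon S).obj U ⟶ X) (u : ↥U.left), IsElemEtaleNbhd a u x ∧
        _root_.Brnch.numBranchesAt U.left u = n)) ↔
      (minimalPrimes R).encard = n := by
  constructor
  · rintro ⟨-, U, a, u, hP, heq⟩
    exact (numBranchesAt_eq hX x a₀ u₀ h₀ R a u hP).symm.trans heq
  · intro hN
    exact ⟨fun U a u hP => (numBranchesAt_eq hX x a₀ u₀ h₀ R a u hP).le.trans hN.le,
      U₀, a₀, u₀, h₀, (numBranchesAt_eq hX x a₀ u₀ h₀ R a₀ u₀ h₀).trans hN⟩

include hX h₀ in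
theorem components_one_iff :
    (∀ (U : Over S) (a : (yon S).obj U ⟶ X) (u : ↥U.left), IsElemEtaleNbhd a u x →
        {Z : Set ↥U.left | Z ∈ irreducibleComponents ↥U.left ∧ u ∈ Z}.encard = 1) ↔
      (minimalPrimes R).encard = 1 := by
  rw [← (show ((1 : ℕ) : ℕ∞) = 1 from Nat.cast_one), ← components_cond_iff hX x a₀ u₀ h₀ R 1]
  constructor
  · intro h
    exact ⟨fun U a u hP => (h U a u hP).le, U₀, a₀, u₀, h₀, h U₀ a₀ u₀ h₀⟩
  · rintro ⟨h, -⟩ U a u hP
    refine le_antisymm (h U a u hP) ?_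
    rw [Nat.cast_one]
    exact one_le_encard_components U.left u

include hX h₀ in
theorem unibranch_iff :
    (∀ (U : Over S) (a : (yon S).obj U ⟶ X) (u : ↥U.left), IsElemEtaleNbhd a u x →
        CAlg2.IsUnibranch ↥(U.left.presheaf.stalk u)) ↔
      (minimalPrimes R).encard = 1 := by
  have key : ∀ (U : Over S) (a : (yon S).obj U ⟶ X) (u : ↥U.left), IsElemEtaleNbhd a u x →
      (CAlg2.IsUnibranch ↥(U.left.presheaf.stalk u) ↔ (minimalPrimes R).encard = 1) := by
    intro U a u hP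
    rw [← Groth.Agent.S9235.result, ← numBranchesAt_eq hX x a₀ u₀ h₀ R a u hP]
    rfl
  constructor
  · intro h
    exact (key U₀ a₀ u₀ h₀).mp (h U₀ a₀ u₀ h₀)
  · intro hN U a u hP
    exact (key U a u hP).mpr hN

end core

end Groth.Agent.Helper5.ElemNbhd
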