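import Groth.Agent.Helper5.AffDescQ6
import Groth.Agent.Helper6.LocalFppf
import Groth.Agent.Helper5.AlgSpEt
import Groth.Agent.Helper5.AlgSpEt2
import Groth.Agent.Helper4.AlgSpPtsDesc
import Groth.Agent.Helper4.AlgSpPB
import Mathlib

/-!
# Helper5: the "magic square" and products of étale morphisms of algebraic spaces
-/

set_option autoImplicit false
universe u v
open CategoryTheory CategoryTheory.Limits AlgebraicGeometry Opposite

namespace Groth.Agent.Helper5.ElemSep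

/-- The magic square for unchosen fibre products: `A ×_X B ⟶ A ×_Y B` is the base change of the
diagonal `X ⟶ X ×_Y X`. -/
theorem magic_sq {C : Type u} [Category.{v} C] {A B X Y PX PY D : C}
    {a : A ⟶ X} {b : B ⟶ X} {g : X ⟶ Y}
    {pX : PX ⟶ A} {qX : PX ⟶ B} (hPX : IsPullback pX qX a b)
    {pY : PY ⟶ A} {qY : PY ⟶ B} (hPY : IsPullback pY qY (a ≫ g) (b ≫ g))
    {c : PX ⟶ PY} (hc₁ : c ≫ pY = pX) (hc₂ : c ≫ qY = qX)
    {d₁ d₂ : D ⟶ X} (hD : IsPullback d₁ d₂ g g)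
    {Δ : X ⟶ D} (hΔ₁ : Δ ≫ d₁ = 𝟙 X) (hΔ₂ : Δ ≫ d₂ = 𝟙 X)
    {m : PY ⟶ D} (hm₁ : m ≫ d₁ = pY ≫ a) (hm₂ : m ≫ d₂ = qY ≫ b) :
    IsPullback (pX ≫ a) c Δ m := by
  have hw : (pX ≫ a) ≫ Δ = c ≫ m := by
    apply hD.hom_ext
    · rw [Category.assoc, hΔ₁, Category.comp_id, Category.assoc, hm₁, ← Category.assoc, hc₁]
    · rw [Category.assoc, hΔ₂, Category.comp_id, Category.assoc, hm₂, ← Category.assoc, hc₂]
      exact hPX.w
  refine ⟨⟨hw⟩, ⟨PullbackCone.IsLimit.mk hw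
    (fun s => hPX.lift (s.snd ≫ pY) (s.snd ≫ qY) ?_) ?_ ?_ ?_⟩⟩
  · have h1 : s.snd ≫ pY ≫ a = s.fst := by
      rw [← hm₁, ← Category.assoc, ← s.condition, Category.assoc, hΔ₁, Category.comp_id]
    have h2 : s.snd ≫ qY ≫ b = s.fst := by
      rw [← hm₂, ← Category.assoc, ← s.condition, Category.assoc, hΔ₂, Category.comp_id]
    rw [Category.assoc, Category.assoc, h1, h2]
  · intro s
    have h1 : s.snd ≫ pY ≫ a = s.fst := by
      rw [← hm₁, ← Category.assoc, ← s.condition, Category.assoc, hΔ₁, Category.comp_id]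
    rw [← Category.assoc, hPX.lift_fst, Category.assoc, h1]
  · intro s
    apply hPY.hom_ext
    · rw [Category.assoc, hc₁, hPX.lift_fst]
    · rw [Category.assoc, hc₂, hPX.lift_snd]
  · intro s l h1 h2
    apply hPX.hom_ext
    · rw [hPX.lift_fst, ← h2, Category.assoc, hc₁]
    · rw [hPX.lift_snd, ← h2, Category.assoc, hc₂]

open AlgSp

variable {S : Scheme.{u}}

theorem isEtaleMor_comp {X Y Z : Sp S} (f : X ⟶ Y) (h : Y ⟶ Z) (hf : IsEtaleMor f)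
    (hh : IsEtaleMor h) : IsEtaleMor (f ≫ h) := by
  intro U φ hφ
  rw [← Category.assoc]
  exact hh _ (hf φ hφ)

/-- The two squares exhibiting `A ×_Y B ⟶ X ×_Y X` as a composite of base changes of `a` and `b`. -/
theorem prodMap_squares {A B X Y PY D : Sp S} {a : A ⟶ X} {b : B ⟶ X} {g : X ⟶ Y}
    {pY : PY ⟶ A} {qY : PY ⟶ B} (hPY : IsPullback pY qY (a ≫ g) (b ≫ g))
    {d₁ d₂ : D ⟶ X} (hD : IsPullback d₁ d₂ g g)
    {m : PY ⟶ D} (hm₁ : m ≫ d₁ = pY ≫ a) (hm₂ : m ≫ d₂ = qY ≫ b) :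
    ∃ (m₁ : PY ⟶ pullback g (b ≫ g)) (m₂ : pullback g (b ≫ g) ⟶ D),
      m₁ ≫ m₂ = m ∧ IsPullback m₁ pY (pullback.fst g (b ≫ g)) a ∧
        IsPullback m₂ (pullback.snd g (b ≫ g)) d₂ b ∧ m₂ ≫ d₁ = pullback.fst g (b ≫ g) := by
  have hE : IsPullback (pullback.fst g (b ≫ g)) (pullback.snd g (b ≫ g)) g (b ≫ g) :=
    IsPullback.of_hasPullback _ _
  let m₂ : pullback g (b ≫ g) ⟶ D :=
    hD.lift (pullback.fst g (b ≫ g)) (pullback.snd g (b ≫ g) ≫ b) (by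
      rw [Category.assoc]; exact hE.w)
  have hm₂1 : m₂ ≫ d₁ = pullback.fst g (b ≫ g) := hD.lift_fst _ _ _
  have hm₂2 : m₂ ≫ d₂ = pullback.snd g (b ≫ g) ≫ b := hD.lift_snd _ _ _
  let m₁ : PY ⟶ pullback g (b ≫ g) :=
    hE.lift (pY ≫ a) qY (by rw [Category.assoc]; exact hPY.w)
  have hm₁1 : m₁ ≫ pullback.fst g (b ≫ g) = pY ≫ a := hE.lift_fst _ _ _
  have hm₁2 : m₁ ≫ pullback.snd g (b ≫ g) = qY := hE.lift_snd _ _ _
  refine ⟨m₁, m₂, ?_, ?_, ?_, hm₂1⟩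
  · apply hD.hom_ext
    · rw [Category.assoc, hm₂1, hm₁1, hm₁]
    · rw [Category.assoc, hm₂2, ← Category.assoc, hm₁2, hm₂]
  · -- top square of a vertical pasting with bottom `hE`
    refine IsPullback.of_right ?_ hm₁1 hE.flip
    rw [hm₁2]
    exact hPY.flip
  · refine IsPullback.of_right ?_ hm₂2 hD
    rw [hm₂1]
    exact hE

theorem isEtaleMor_prodMap {A B X Y PY D : Sp S} (hA : IsAlgSpace A) (hB : IsAlgSpace B)
    (hX : IsAlgSpace X) (hY : IsAlgSpace Y) (hDs : IsAlgSpace D)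
    {a : A ⟶ X} {b : B ⟶ X} {g : X ⟶ Y} (ha : IsEtaleMor a) (hb : IsEtaleMor b)
    {pY : PY ⟶ A} {qY : PY ⟶ B} (hPY : IsPullback pY qY (a ≫ g) (b ≫ g))
    {d₁ d₂ : D ⟶ X} (hD : IsPullback d₁ d₂ g g)
    {m : PY ⟶ D} (hm₁ : m ≫ d₁ = pY ≫ a) (hm₂ : m ≫ d₂ = qY ≫ b) : IsEtaleMor m := by
  obtain ⟨m₁, m₂, rfl, sq1, sq2, -⟩ := prodMap_squares hPY hD hm₁ hm₂
  have hE : IsAlgSpace (pullback g (b ≫ g)) :=
    Groth.Agent.Helper4.AlgSpPB.isAlgSpace_of_isPullback hY.diag hX hB g (b ≫ g) _ _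
      (IsPullback.of_hasPullback _ _)
  have h1 : IsEtaleMor m₁ :=
    Groth.Agent.Helper5.AlgSpEt.isEtaleMor_of_isPullback hA hE sq1 ha
  have h2 : IsEtaleMor m₂ :=
    Groth.Agent.Helper5.AlgSpEt.isEtaleMor_of_isPullback hB hDs sq2 hb
  exact isEtaleMor_comp _ _ h1 h2

theorem exists_point_prodMap {A B X Y PY D : Sp S}
    {a : A ⟶ X} {b : B ⟶ X} {g : X ⟶ Y}
    {pY : PY ⟶ A} {qY : PY ⟶ B} (hPY : IsPullback pY qY (a ≫ g) (b ≫ g))
    {d₁ d₂ : D ⟶ X} (hD : IsPullback d₁ d₂ g g)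
    {m : PY ⟶ D} (hm₁ : m ≫ d₁ = pY ≫ a) (hm₂ : m ≫ d₂ = qY ≫ b)
    (x : Points D) (α : Points A) (β : Points B)
    (hα : Points.map a α = Points.map d₁ x) (hβ : Points.map b β = Points.map d₂ x) :
    x ∈ Set.range (Points.map m) := by
  obtain ⟨m₁, m₂, rfl, sq1, sq2, h21⟩ := prodMap_squares hPY hD hm₁ hm₂
  obtain ⟨ε, hε1, hε2⟩ :=
    Groth.Agent.Helper4.AlgSpPtsDesc.exists_point_of_isPullback sq2.flip β x hβ
  have h3 : Points.map (pullback.fst g (b ≫ g)) ε = Points.map a α := by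
    rw [hα, ← hε2, ← Points.map_comp, h21]
  obtain ⟨π, hπ1, hπ2⟩ :=
    Groth.Agent.Helper4.AlgSpPtsDesc.exists_point_of_isPullback sq1.flip α ε h3.symm
  exact ⟨π, by rw [Points.map_comp, hπ2, hε2]⟩

end Groth.Agent.Helper5.ElemSep
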