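import Groth.Agent.Helper5.ElemSep1
import Groth.Agent.Helper5.Decent2
import Groth.Agent.Helper5.AffDesc9
import Groth.Agent.Helper4.AlgSpSrc
import Groth.Agent.Helper4.AlgSpQC2
import Mathlib

/-!
# Helper5: immersions of algebraic spaces closed on points; graphs
-/

set_option autoImplicit false
universe u
open CategoryTheory CategoryTheory.Limits AlgebraicGeometry Opposite

namespace Groth.Agent.Helper5.ElemSep

open AlgSp Groth.Agent.Helper4.AlgSpPtsDesc Groth.Agent.Helper4.AlgSpQC2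

variable {S : Scheme.{u}}

/-- An immersion of sheaves which is closed on points is a closed immersion. -/
theorem repWith_closedImmersion_of_immersion {F G : Sp S} (c : F ⟶ G)
    (h : RepWith @IsImmersion c) (hcl : IsClosedMap (Points.map c)) :
    RepWith @IsClosedImmersion c := by
  refine ⟨h.rep, fun T E ξ fst e sq => ?_⟩
  have himm : IsImmersion e.left := h.property ξ fst e sq
  have hrange : Set.range e.left = Points.ofPt ξ ⁻¹' Set.range (Points.map c) := by
    ext t
    constructor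
    · rintro ⟨x, rfl⟩
      refine ⟨Points.ofPt fst x, ?_⟩
      rw [Points.map_ofPt, sq.w, ofPt_yon_map_comp]
    · rintro ⟨φ, hφ⟩
      have h' : Points.map c φ = Points.map ξ (Points.schemeHomeo T t) := by
        rw [hφ, ofPt_eq_map_schemeHomeo]
      obtain ⟨z, hz1, hz2⟩ := exists_point_of_isPullback sq φ _ h'
      obtain ⟨r, rfl⟩ := (Points.schemeHomeo E).surjective z
      rw [Points.map_yon_map_apply] at hz2
      exact ⟨r, (Points.schemeHomeo T).injective hz2⟩
  have hclosed : IsClosed (Set.range e.left) := by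
    rw [hrange]
    exact (hcl.isClosed_range).preimage (Points.continuous_ofPt ξ)
  exact IsClosedImmersion.of_isPreimmersion e.left hclosed

/-- For `j : U ⟶ X` an open immersion with `U ⟶ Y` separated, the canonical morphism
`U ×_X V ⟶ U ×_Y V` is an immersion (a graph followed by an open immersion). -/
theorem repWith_immersion_graph {U V X Y PX PY : Sp S} {j : U ⟶ X} {f : V ⟶ X} {g : X ⟶ Y}
    (hj : RepWith @IsOpenImmersion j)
    (hU : RepWith @IsClosedImmersion (pullback.diagonal (j ≫ g)))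
    {pX : PX ⟶ U} {qX : PX ⟶ V} (hPX : IsPullback pX qX j f)
    {pY : PY ⟶ U} {qY : PY ⟶ V} (hPY : IsPullback pY qY (j ≫ g) (f ≫ g))
    {c : PX ⟶ PY} (hc₁ : c ≫ pY = pX) (hc₂ : c ≫ qY = qX) :
    RepWith @IsImmersion c := by
  have i1 := repWith_isStableUnderBaseChange (S := S) @IsClosedImmersion
  have i2 := repWith_isStableUnderBaseChange (S := S) @IsOpenImmersion
  have h0 : pX ≫ j ≫ g = qX ≫ f ≫ g := by
    rw [← Category.assoc, hPX.w, Category.assoc]
  have hN : IsPullback (pullback.fst (j ≫ g) (pX ≫ j ≫ g)) (pullback.snd (j ≫ g) (pX ≫ j ≫ g))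
      (j ≫ g) (pX ≫ j ≫ g) := IsPullback.of_hasPullback _ _
  generalize pullback.fst (j ≫ g) (pX ≫ j ≫ g) = n₁ at hN
  generalize pullback.snd (j ≫ g) (pX ≫ j ≫ g) = n₂ at hN
  generalize pullback (j ≫ g) (pX ≫ j ≫ g) = N at n₁ n₂ hN
  -- the graph
  let Γ : PX ⟶ N := hN.lift pX (𝟙 PX) (by rw [Category.id_comp])
  have hΓ1 : Γ ≫ n₁ = pX := hN.lift_fst _ _ _
  have hΓ2 : Γ ≫ n₂ = 𝟙 PX := hN.lift_snd _ _ _
  have hD : IsPullback (pullback.fst (j ≫ g) (j ≫ g)) (pullback.snd (j ≫ g) (j ≫ g))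
      (j ≫ g) (j ≫ g) := IsPullback.of_hasPullback _ _
  let m : N ⟶ pullback (j ≫ g) (j ≫ g) :=
    pullback.lift n₁ (n₂ ≫ pX) (by rw [Category.assoc]; exact hN.w)
  have hm1 : m ≫ pullback.fst (j ≫ g) (j ≫ g) = n₁ ≫ 𝟙 U := by
    rw [Category.comp_id]; exact pullback.lift_fst _ _ _
  have hm2 : m ≫ pullback.snd (j ≫ g) (j ≫ g) = n₂ ≫ pX := pullback.lift_snd _ _ _
  have hPX' : IsPullback pX (𝟙 PX) (𝟙 U) pX := by
    have := (IsPullback.of_vert_isIso (fst := pX) (snd := 𝟙 PX) (f := 𝟙 U) (g := pX)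
      ⟨by rw [Category.comp_id, Category.id_comp]⟩)
    exact this
  have hN' : IsPullback n₁ n₂ (𝟙 U ≫ j ≫ g) (pX ≫ j ≫ g) := by
    rw [Category.id_comp]; exact hN
  have sqΓ : IsPullback (pX ≫ 𝟙 U) Γ (pullback.diagonal (j ≫ g)) m :=
    magic_sq hPX' hN' hΓ1 hΓ2 hD (pullback.diagonal_fst _) (pullback.diagonal_snd _) hm1 hm2
  have hΓ : RepWith @IsClosedImmersion Γ := MorphismProperty.of_isPullback sqΓ hU
  -- the open immersion
  let κ : N ⟶ PY := hPY.lift n₁ (n₂ ≫ qX) (by
    rw [Category.assoc, ← h0]; exact hN.w)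
  have hκ1 : κ ≫ pY = n₁ := hPY.lift_fst _ _ _
  have hκ2 : κ ≫ qY = n₂ ≫ qX := hPY.lift_snd _ _ _
  have sqκ : IsPullback κ n₂ qY qX := by
    refine IsPullback.of_right ?_ hκ2 hPY
    rw [hκ1, ← h0]
    exact hN
  have hqX : RepWith @IsOpenImmersion qX := MorphismProperty.of_isPullback hPX hj
  have hκ : RepWith @IsOpenImmersion κ := MorphismProperty.of_isPullback sqκ.flip hqX
  have hc : Γ ≫ κ = c := by
    apply hPY.hom_ext
    · rw [Category.assoc, hκ1, hΓ1, hc₁]
    · rw [Category.assoc, hκ2, ← Category.assoc, hΓ2, Category.id_comp, hc₂]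
  rw [← hc]
  exact Groth.Agent.Helper4.AlgSpSrc.repWith_comp @IsImmersion
    (Groth.Agent.Helper5.AffDesc.repWith_of_le
      (fun _ _ q (hq : IsClosedImmersion q) => (inferInstance : IsImmersion q)) hΓ)
    (Groth.Agent.Helper5.AffDesc.repWith_of_le
      (fun _ _ q (hq : IsOpenImmersion q) => (inferInstance : IsImmersion q)) hκ)

end Groth.Agent.Helper5.ElemSep
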