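import Groth.Agent.Helper5.ElemSep2
import Groth.Agent.Helper6.TauLib
import Groth.Agent.Helper4.AlgSpBasic
import Groth.Prelude.Def_AlgSpSub
import Mathlib

/-!
# Helper5: separatedness from an elementary distinguished square (S10698)
-/

set_option autoImplicit false
universe u
open CategoryTheory CategoryTheory.Limits AlgebraicGeometry Opposite

namespace Groth.Agent.Helper5.ElemSep

open AlgSp

variable {S : Scheme.{u}}

/-- index type of the four pieces -/
inductive Idx : Type u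
  | uu | uv | vu | vv

theorem points_cover_of_isElemDistSq {U V X : Sp S} {j : U ⟶ X} {f : V ⟶ X}
    (hsq : IsElemDistSq j f) (x : Points X) :
    x ∈ Set.range (Points.map j) ∨ x ∈ Set.range (Points.map f) := by
  obtain ⟨-, -, T, P, i, p₁, p₂, hi, sq, hiso⟩ := hsq
  by_cases hx : x ∈ Set.range (Points.map j)
  · exact Or.inl hx
  · right
    have hx' : x ∈ Set.range (Points.map i) := by
      rw [hi.2.1]; exact hx
    obtain ⟨τ, rfl⟩ := hx'
    refine ⟨Points.map p₂ (Points.map (inv p₁) τ), ?_⟩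
    rw [← Points.map_comp, ← Points.map_comp, ← sq.w, ← Category.assoc,
      IsIso.inv_hom_id, Category.id_comp]

set_option maxHeartbeats 800000 in
theorem isSeparatedMor_of_isElemDistSq {U V X Y PX PY QX QY : Sp S}
    (hUs : IsAlgSpace U) (hVs : IsAlgSpace V) (hXs : IsAlgSpace X) (hYs : IsAlgSpace Y)
    (hPXs : IsAlgSpace PX) (hPYs : IsAlgSpace PY) (hQXs : IsAlgSpace QX) (hQYs : IsAlgSpace QY)
    (g : X ⟶ Y) (j : U ⟶ X) (f : V ⟶ X) (hsq : IsElemDistSq j f)
    (hU : IsSeparatedMor (j ≫ g))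
    {pX : PX ⟶ U} {qX : PX ⟶ V} (hPX : IsPullback pX qX j f)
    {pY : PY ⟶ U} {qY : PY ⟶ V} (hPY : IsPullback pY qY (j ≫ g) (f ≫ g))
    {c : PX ⟶ PY} (hc₁ : c ≫ pY = pX) (hc₂ : c ≫ qY = qX) (hcl : IsClosedMor c)
    {rX₁ rX₂ : QX ⟶ V} (hQX : IsPullback rX₁ rX₂ f f)
    {rY₁ rY₂ : QY ⟶ V} (hQY : IsPullback rY₁ rY₂ (f ≫ g) (f ≫ g))
    {d : QX ⟶ QY} (hd₁ : d ≫ rY₁ = rX₁) (hd₂ : d ≫ rY₂ = rX₂)
    (hdcl : RepWith @IsClosedImmersion d) : IsSeparatedMor g := by
  have hj : RepWith @IsOpenImmersion j := hsq.1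
  have hfe : IsEtaleMor f := hsq.2.1
  have hje : IsEtaleMor j :=
    Groth.Agent.Helper6.TauLib.isEtaleMor_of_repWith j
      (Groth.Agent.Helper5.AffDesc.repWith_of_le
        (fun _ _ q (hq : IsOpenImmersion q) => (inferInstance : Etale q)) hj)
  have hjmono : Mono j :=
    Groth.Agent.Helper4.AlgSpBasic.mono_of_repWith
      (fun q (hq : IsOpenImmersion q) => (inferInstance : Mono q)) j hj
  -- the target of the diagonal
  have hD : IsPullback (pullback.fst g g) (pullback.snd g g) g g := IsPullback.of_hasPullback _ _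
  have hDs : IsAlgSpace (pullback g g) :=
    Groth.Agent.Helper4.AlgSpPB.isAlgSpace_of_isPullback hYs.diag hXs hXs g g _ _ hD
  have hΔ1 : pullback.diagonal g ≫ pullback.fst g g = 𝟙 X := pullback.diagonal_fst _
  have hΔ2 : pullback.diagonal g ≫ pullback.snd g g = 𝟙 X := pullback.diagonal_snd _
  -- piece UU
  have hUU : IsPullback (pullback.fst (j ≫ g) (j ≫ g)) (pullback.snd (j ≫ g) (j ≫ g))
      (j ≫ g) (j ≫ g) := IsPullback.of_hasPullback _ _
  have hUUs : IsAlgSpace (pullback (j ≫ g) (j ≫ g)) :=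
    Groth.Agent.Helper4.AlgSpPB.isAlgSpace_of_isPullback hYs.diag hUs hUs _ _ _ _ hUU
  let muu : pullback (j ≫ g) (j ≫ g) ⟶ pullback g g :=
    pullback.lift (pullback.fst (j ≫ g) (j ≫ g) ≫ j) (pullback.snd (j ≫ g) (j ≫ g) ≫ j) (by
      rw [Category.assoc, Category.assoc]; exact hUU.w)
  have hmuu1 : muu ≫ pullback.fst g g = pullback.fst (j ≫ g) (j ≫ g) ≫ j := pullback.lift_fst _ _ _
  have hmuu2 : muu ≫ pullback.snd g g = pullback.snd (j ≫ g) (j ≫ g) ≫ j := pullback.lift_snd _ _ _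
  have hPXuu : IsPullback (𝟙 U) (𝟙 U) j j := IsKernelPair.id_of_mono j
  have squu : IsPullback (𝟙 U ≫ j) (pullback.diagonal (j ≫ g)) (pullback.diagonal g) muu :=
    magic_sq hPXuu hUU (pullback.diagonal_fst _) (pullback.diagonal_snd _) hD hΔ1 hΔ2 hmuu1 hmuu2
  -- piece UV
  let muv : PY ⟶ pullback g g :=
    pullback.lift (pY ≫ j) (qY ≫ f) (by rw [Category.assoc, Category.assoc]; exact hPY.w)
  have hmuv1 : muv ≫ pullback.fst g g = pY ≫ j := pullback.lift_fst _ _ _
  have hmuv2 : muv ≫ pullback.snd g g = qY ≫ f := pullback.lift_snd _ _ _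
  have squv : IsPullback (pX ≫ j) c (pullback.diagonal g) muv :=
    magic_sq hPX hPY hc₁ hc₂ hD hΔ1 hΔ2 hmuv1 hmuv2
  -- piece VU
  let mvu : PY ⟶ pullback g g :=
    pullback.lift (qY ≫ f) (pY ≫ j) (by rw [Category.assoc, Category.assoc]; exact hPY.w.symm)
  have hmvu1 : mvu ≫ pullback.fst g g = qY ≫ f := pullback.lift_fst _ _ _
  have hmvu2 : mvu ≫ pullback.snd g g = pY ≫ j := pullback.lift_snd _ _ _
  have sqvu : IsPullback (qX ≫ f) c (pullback.diagonal g) mvu :=
    magic_sq hPX.flip hPY.flip hc₂ hc₁ hD hΔ1 hΔ2 hmvu1 hmvu2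
  -- piece VV
  let mvv : QY ⟶ pullback g g :=
    pullback.lift (rY₁ ≫ f) (rY₂ ≫ f) (by rw [Category.assoc, Category.assoc]; exact hQY.w)
  have hmvv1 : mvv ≫ pullback.fst g g = rY₁ ≫ f := pullback.lift_fst _ _ _
  have hmvv2 : mvv ≫ pullback.snd g g = rY₂ ≫ f := pullback.lift_snd _ _ _
  have sqvv : IsPullback (rX₁ ≫ f) d (pullback.diagonal g) mvv :=
    magic_sq hQX hQY hd₁ hd₂ hD hΔ1 hΔ2 hmvv1 hmvv2
  -- the closed immersion `c`
  have hcimm : RepWith @IsClosedImmersion c :=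
    repWith_closedImmersion_of_immersion c (repWith_immersion_graph hj hU hPX hPY hc₁ hc₂) hcl
  -- the families
  let Yi : Idx.{u} → Sp S := fun i => match i with
    | .uu => pullback (j ≫ g) (j ≫ g) | .uv => PY | .vu => PY | .vv => QY
  let gi : ∀ i, Yi i ⟶ pullback g g := fun i => match i with
    | .uu => muu | .uv => muv | .vu => mvu | .vv => mvv
  let Xi : Idx.{u} → Sp S := fun i => match i with
    | .uu => U | .uv => PX | .vu => PX | .vv => QX
  let pi : ∀ i, Xi i ⟶ Yi i := fun i => match i with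
    | .uu => pullback.diagonal (j ≫ g) | .uv => c | .vu => c | .vv => d
  let qi : ∀ i, Xi i ⟶ X := fun i => match i with
    | .uu => 𝟙 U ≫ j | .uv => pX ≫ j | .vu => qX ≫ f | .vv => rX₁ ≫ f
  have hYi : ∀ i, IsAlgSpace (Yi i) := by
    intro i; cases i
    · exact hUUs
    · exact hPYs
    · exact hPYs
    · exact hQYs
  have hXi : ∀ i, IsAlgSpace (Xi i) := by
    intro i; cases i
    · exact hUs
    · exact hPXs
    · exact hPXs
    · exact hQXs
  have hsqi : ∀ i, IsPullback (qi i) (pi i) (pullback.diagonal g) (gi i) := by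
    intro i; cases i
    · exact squu
    · exact squv
    · exact sqvu
    · exact sqvv
  have hgie : ∀ i, IsEtaleMor (gi i) := by
    intro i; cases i
    · exact isEtaleMor_prodMap hUs hUs hXs hYs hDs hje hje hUU hD hmuu1 hmuu2
    · exact isEtaleMor_prodMap hUs hVs hXs hYs hDs hje hfe hPY hD hmuv1 hmuv2
    · exact isEtaleMor_prodMap hVs hUs hXs hYs hDs hfe hje hPY.flip hD hmvu1 hmvu2
    · exact isEtaleMor_prodMap hVs hVs hXs hYs hDs hfe hfe hQY hD hmvv1 hmvv2
  have hcov : IsFppfCover Yi gi := by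
    refine ⟨fun i => ⟨?_, ?_⟩, fun x => ?_⟩
    · exact Groth.Agent.Helper5.AlgSpEt.locP_of_isEtaleMor @Flat
        (fun q (hq : Etale q) => (inferInstance : Flat q)) _ (hgie i)
    · exact Groth.Agent.Helper5.AlgSpEt.locP_of_isEtaleMor @LocallyOfFinitePresentation
        (fun q (hq : Etale q) => (inferInstance : LocallyOfFinitePresentation q)) _ (hgie i)
    · rcases points_cover_of_isElemDistSq hsq (Points.map (pullback.fst g g) x) with
        ⟨α, hα⟩ | ⟨α, hα⟩ <;>
      rcases points_cover_of_isElemDistSq hsq (Points.map (pullback.snd g g) x) with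
        ⟨β, hβ⟩ | ⟨β, hβ⟩
      · exact ⟨.uu, exists_point_prodMap hUU hD hmuu1 hmuu2 x α β hα hβ⟩
      · exact ⟨.uv, exists_point_prodMap hPY hD hmuv1 hmuv2 x α β hα hβ⟩
      · exact ⟨.vu, exists_point_prodMap hPY.flip hD hmvu1 hmvu2 x α β hα hβ⟩
      · exact ⟨.vv, exists_point_prodMap hQY hD hmvv1 hmvv2 x α β hα hβ⟩
  have key := (Groth.Agent.Helper6.LocalFppf.fppf_of_fpqc
    (Groth.Agent.Helper5.AffDescQ.s10534 (S := S))) Yi gi hDs hYi hcov (pullback.diagonal g) hXs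
      Xi pi qi hXi hsqi
  refine key.2 ?_
  intro i; cases i
  · exact hU
  · exact hcimm
  · exact hcimm
  · exact hdcl

end Groth.Agent.Helper5.ElemSep
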