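import Mathlib

/-!
# Epimorphisms out of an Artinian local ring are surjective
-/

set_option autoImplicit false
universe u

namespace Groth.Agent.Helper5.EpiArt

open TensorProduct

/-- Nakayama for a nilpotent ideal: `N ⊔ I • ⊤ = ⊤` implies `N = ⊤` -/
theorem eq_top_of_sup_smul_top {R M : Type*} [CommRing R] [AddCommGroup M] [Module R M]
    (I : Ideal R) (hI : IsNilpotent I) (N : Submodule R M)
    (h : (⊤ : Submodule R M) ≤ N ⊔ I • ⊤) : N = ⊤ := by
  have key : ∀ n : ℕ, (⊤ : Submodule R M) ≤ N ⊔ I ^ n • ⊤ := by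
    intro n
    induction n with
    | zero => simp
    | succ n ih =>
      refine h.trans (sup_le le_sup_left ?_)
      calc I • (⊤ : Submodule R M) ≤ I • (N ⊔ I ^ n • ⊤) := Submodule.smul_mono le_rfl ih
        _ = I • N ⊔ I • (I ^ n • ⊤) := Submodule.smul_sup _ _ _
        _ ≤ N ⊔ I ^ (n + 1) • ⊤ := by
          refine sup_le_sup Submodule.smul_le_right ?_
          rw [← Submodule.mul_smul, ← pow_succ']
  obtain ⟨n, hn⟩ := hI
  have := key n
  rw [hn, Submodule.zero_eq_bot, Submodule.bot_smul, sup_bot_eq] at this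
  exact eq_top_iff.2 this

variable (R A : Type u) [CommRing R] [CommRing A] [Algebra R A]

/-- an epimorphism out of an Artinian local ring is surjective -/
theorem surjective_of_isEpi [IsLocalRing R] [IsArtinianRing R] [Algebra.IsEpi R A] :
    Function.Surjective (algebraMap R A) := by
  letI : Field (R ⧸ IsLocalRing.maximalIdeal R) := Ideal.Quotient.field _
  let m := IsLocalRing.maximalIdeal R
  have hnil : IsNilpotent m := by
    have := IsArtinianRing.isNilpotent_jacobson_bot (R := R)
    rwa [IsLocalRing.jacobson_eq_maximalIdeal _ bot_ne_top] at this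
  let N : Submodule R A := LinearMap.range (Algebra.linearMap R A)
  suffices hN : N = ⊤ by
    intro a
    have : a ∈ N := hN ▸ Submodule.mem_top
    obtain ⟨r, hr⟩ := this
    exact ⟨r, hr⟩
  apply eq_top_of_sup_smul_top m hnil
  intro a _
  let Q := A ⧸ (m • ⊤ : Submodule R A)
  let q : A →ₗ[R] Q := Submodule.mkQ _
  by_cases h1 : q 1 = 0
  · -- then `m • ⊤ = ⊤`
    have h2 : (1 : A) ∈ (m • ⊤ : Submodule R A) := (Submodule.Quotient.mk_eq_zero _).1 h1
    rw [Ideal.smul_top_eq_map] at h2 ⊢
    have h3 : m.map (algebraMap R A) = ⊤ := (Ideal.eq_top_iff_one _).2 h2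
    rw [h3]
    exact Submodule.mem_sup_right Submodule.mem_top
  · obtain ⟨φ, hφ⟩ := Module.Projective.exists_dual_eq_one (R ⧸ m) h1
    -- the bilinear map `(a, b) ↦ φ(ā) • b̄`
    let β : A →ₗ[R] A →ₗ[R] Q := LinearMap.mk₂ R (fun x y => φ (q x) • q y)
      (fun x x' y => by simp only [map_add, add_smul])
      (fun r x y => by
        show φ (q (r • x)) • q y = r • (φ (q x) • q y)
        have h1 : q (r • x) = (Ideal.Quotient.mk m r) • q x := rfl
        have h2 : ∀ z : Q, r • z = (Ideal.Quotient.mk m r) • z := by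
          intro z
          obtain ⟨z, rfl⟩ := Submodule.Quotient.mk_surjective _ z
          rfl
        rw [h1, map_smul, h2, smul_eq_mul, mul_smul])
      (fun x y y' => by simp only [map_add, smul_add])
      (fun r x y => by
        show φ (q x) • q (r • y) = r • (φ (q x) • q y)
        rw [map_smul, smul_comm])
    have h4 := congrArg (TensorProduct.lift β)
      ((Algebra.isEpi_iff_forall_one_tmul_eq R A).1 inferInstance a)
    simp only [TensorProduct.lift.tmul, β, LinearMap.mk₂_apply, hφ, one_smul] at h4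
    -- `q a = φ (q a) • q 1`
    obtain ⟨r, hr⟩ := Ideal.Quotient.mk_surjective (φ (q a))
    have h5 : q a = q (r • (1 : A)) := by
      rw [h4, ← hr]
      rfl
    have h6 : a - r • (1 : A) ∈ (m • ⊤ : Submodule R A) := by
      rw [← Submodule.Quotient.mk_eq_zero, Submodule.Quotient.mk_sub]
      exact sub_eq_zero.2 h5
    have h7 : r • (1 : A) ∈ N := ⟨r, by simp [Algebra.algebraMap_eq_smul_one]⟩
    have : a = r • (1 : A) + (a - r • (1 : A)) := by ring
    rw [this]
    exact Submodule.add_mem_sup h7 h6

end Groth.Agent.Helper5.EpiArt
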