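import Mathlib
import Groth.Agent.Helper5.EpiArt1

/-!
# A monomorphism into the spectrum of an Artinian local ring is a closed immersion
-/

set_option autoImplicit false
universe u

namespace Groth.Agent.Helper5.EpiArt

open CategoryTheory CategoryTheory.Limits AlgebraicGeometry Opposite TopologicalSpace

theorem subsingleton_primeSpectrum (A : Type u) [CommRing A] [IsArtinianRing A] [IsLocalRing A] :
    Subsingleton (PrimeSpectrum A) := by
  refine ⟨fun p p' => PrimeSpectrum.ext ?_⟩
  have h1 := IsLocalRing.eq_maximalIdeal ((IsArtinianRing.isPrime_iff_isMaximal _).1 p.2)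
  have h2 := IsLocalRing.eq_maximalIdeal ((IsArtinianRing.isPrime_iff_isMaximal _).1 p'.2)
  rw [h1, h2]

/-- a scheme with at most one point is affine -/
theorem isAffine_of_subsingleton (Z : Scheme.{u}) [Subsingleton ↥Z] : IsAffine Z := by
  rcases isEmpty_or_nonempty ↥Z with h | ⟨⟨z⟩⟩
  · infer_instance
  · obtain ⟨_, ⟨(V : Z.Opens), hV, rfl⟩, hzV, -⟩ :=
      (Z.isBasis_affineOpens).exists_subset_of_mem_open (Set.mem_univ z) isOpen_univ
    have hVtop : V = ⊤ := by
      rw [eq_top_iff]
      intro y _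
      rw [Subsingleton.elim y z]
      exact hzV
    subst hVtop
    haveI : IsAffine (⊤ : Z.Opens).toScheme := hV
    exact IsAffine.of_isIso (Scheme.topIso Z).inv

/-- a monomorphism between affine schemes with Artinian local target is a closed immersion -/
theorem isClosedImmersion_of_mono_of_isAffine {Z Y : Scheme.{u}} [IsAffine Z] [IsAffine Y]
    [IsArtinianRing ↥Γ(Y, ⊤)] [IsLocalRing ↥Γ(Y, ⊤)] (g : Z ⟶ Y) [Mono g] :
    IsClosedImmersion g := by
  apply IsClosedImmersion.of_surjective_of_isAffine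
  have h1 : Mono (Spec.map g.appTop) :=
    ((MorphismProperty.monomorphisms Scheme.{u}).arrow_mk_iso_iff
      (arrowIsoSpecΓOfIsAffine g)).1 ‹Mono g›
  have h2 : Mono (g.appTop).op := Functor.mono_of_mono_map Scheme.Spec h1
  have h3 : Epi g.appTop := unop_epi_of_mono (g.appTop).op
  algebraize [g.appTop.hom]
  have h4 : Algebra.IsEpi ↥Γ(Y, ⊤) ↥Γ(Z, ⊤) := by
    exact (CommRingCat.epi_iff_epi (R := ↥Γ(Y, ⊤)) (S := ↥Γ(Z, ⊤))).1 h3
  exact surjective_of_isEpi _ _

end Groth.Agent.Helper5.EpiArt
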