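import Mathlib
import Groth.Agent.Helper5.MonoFld1
import Groth.Agent.Helper5.DegStr9
import Groth.Agent.Helper5.DegStr20
import Groth.Agent.Helper5.ProperImg1
import Groth.Agent.Helper5.AlgSpIso
import Groth.Agent.Helper5.ZarGlue8
import Groth.Agent.Helper5.Decent1
import Groth.Agent.Helper4.AlgSpPts
import Groth.Agent.Helper4.AlgSpPB
import Groth.Agent.Helper4.AlgSpQC2

/-!
# S10393: an algebraic space with a monomorphism to a scheme with discrete underlying space is a
scheme
-/

set_option autoImplicit false
universe u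

namespace Groth.Agent.Helper5.MonoDisc

open CategoryTheory CategoryTheory.Limits AlgebraicGeometry Opposite AlgSp TopologicalSpace
open Groth.Agent.Helper4.AlgSpPtsDesc Groth.Agent.Helper4.AlgSpQC2

variable {S : Scheme.{u}}

/-- the source of a monomorphism from an algebraic space to a scheme is decent -/
theorem isDecent_of_mono_to_scheme {X : Sp S} (hX : IsAlgSpace X) (Y : Over S)
    (f : X ⟶ (yon S).obj Y) [Mono f] : IsDecent X := by
  intro x
  let y : ↥Y.left := (Points.schemeHomeo Y).symm (Points.map f x)
  have hy : Points.schemeHomeo Y y = Points.map f x := Homeomorph.apply_symm_apply _ _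
  let ι₀ : Spec (CommRingCat.of (Y.left.residueField y)) ⟶ Y.left := Y.left.fromSpecResidueField y
  let str : Spec (CommRingCat.of (Y.left.residueField y)) ⟶ S := ι₀ ≫ Y.hom
  let K : Over S := Over.mk str
  let ιy : K ⟶ Y := Over.homMk ι₀ rfl
  have sq : IsPullback (pullback.fst f ((yon S).map ιy)) (pullback.snd f ((yon S).map ιy)) f
      ((yon S).map ιy) := IsPullback.of_hasPullback _ _
  have hP : IsAlgSpace (pullback f ((yon S).map ιy)) :=
    Groth.Agent.Helper4.AlgSpPB.isAlgSpace_of_isPullback (IsAlgSpace.yon_obj Y).diag hX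
      (IsAlgSpace.yon_obj K) f _ _ _ sq
  let k₀ : ↥K.left := (IsLocalRing.closedPoint (Y.left.residueField y) :
    PrimeSpectrum (Y.left.residueField y))
  have hk₀ : ιy.left k₀ = y := Scheme.fromSpecResidueField_apply _ _
  have hne : Nonempty (Points (pullback f ((yon S).map ιy))) := by
    obtain ⟨p, -, -⟩ := exists_point_of_isPullback sq x (Points.schemeHomeo K k₀) (by
      rw [ofPt_eq_map_schemeHomeo, ← hy, ← Category.comp_id ((yon S).map ιy),
        ofPt_yon_map_comp, hk₀, ← ofPt_eq_map_schemeHomeo, Points.map_id])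
    exact ⟨p⟩
  have hmono : Mono (pullback.snd f ((yon S).map ιy)) := pullback.snd_of_mono
  haveI hiso : IsIso (pullback.snd f ((yon S).map ιy)) :=
    @Groth.Agent.Helper5.MonoFld.isIso_of_mono_to_field _ _ hP _ _ str _ hmono hne
  let σ : (yon S).obj K ⟶ X := inv (pullback.snd f ((yon S).map ιy)) ≫ pullback.fst f _
  have hσ : σ ≫ f = (yon S).map ιy := by
    rw [Category.assoc, pullback.condition, IsIso.inv_hom_id_assoc]
  have hιmono : Mono ((yon S).map ιy) := by
    have h1 : Mono ιy := by
      have : Mono ((Over.forget S).map ιy) := by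
        show Mono (Y.left.fromSpecResidueField y)
        infer_instance
      exact (Over.forget S).mono_of_mono_map this
    exact @Groth.Agent.Helper4.AlgSpOpenImage.mono_yon_map _ _ _ _ h1
  haveI : Mono σ := by
    haveI : Mono (σ ≫ f) := by rw [hσ]; exact hιmono
    exact mono_of_mono σ f
  let p : FieldPt X := ⟨Y.left.residueField y, str, (J S).uliftYonedaEquiv σ⟩
  have hp : p.toHom = σ := (J S).uliftYonedaEquiv.symm_apply_apply σ
  refine ⟨p, ?_, ?_, ?_⟩
  · apply Groth.Agent.Helper5.ProperImg.points_injective_of_mono hX (IsAlgSpace.yon_obj Y) f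
    rw [← hy, ← Points.ofPt_toHom p k₀, Points.map_ofPt, hp, hσ,
      ← Category.comp_id ((yon S).map ιy), ofPt_yon_map_comp, hk₀, ← ofPt_eq_map_schemeHomeo,
      Points.map_id]
  · rw [hp]; infer_instance
  · rw [hp]
    have hq : RepWith @QuasiCompact ((yon S).map ιy) :=
      (repWith_yon_map_iff _ _).2 (Groth.Agent.Helper5.Decent1.quasiCompact_of_field _)
    have i3 := repWith_isStableUnderBaseChange (S := S) @QuasiCompact
    have h1 : RepWith @QuasiCompact (pullback.fst f ((yon S).map ιy)) :=
      MorphismProperty.of_isPullback sq.flip hq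
    exact ((RepWith (S := S) @QuasiCompact).cancel_left_of_respectsIso _ _).2 h1

end Groth.Agent.Helper5.MonoDisc
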