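import Mathlib
import Groth.Agent.Helper5.MonoDisc1

/-!
# S10393: an algebraic space with a monomorphism to a scheme with discrete underlying space is a
scheme
-/

set_option autoImplicit false
universe u

namespace Groth.Agent.Helper5.MonoDisc

open CategoryTheory CategoryTheory.Limits AlgebraicGeometry Opposite AlgSp TopologicalSpace
open Groth.Agent.Helper4.AlgSpPtsDesc Groth.Agent.Helper4.AlgSpQC2

variable {S : Scheme.{u}}

/-- a decent algebraic space with exactly one point is a scheme -/
theorem isRepresentable_of_subsingleton (X : Space S) (hX : IsDecent X.obj)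
    [Nonempty (Points X.obj)] [Subsingleton (Points X.obj)] : X.obj.obj.IsRepresentable := by
  obtain ⟨X', j, hj, hrep, hdense⟩ := Groth.Agent.Helper5.DegStr.s10337 X hX
  have hsurj : Function.Surjective (Points.map j.hom) := by
    intro y
    obtain ⟨z, w, hw⟩ := hdense.nonempty
    exact ⟨w, Subsingleton.elim _ _⟩
  have hs : RepWith @Surjective j.hom :=
    Groth.Agent.Helper4.AlgSpPts.repWith_surjective_of_isSurjectiveMor j.hom hj.rep hsurj
  haveI : IsIso j.hom := Groth.Agent.Helper5.AlgSpIso.isIso_of_openImmersion_surjective j.hom hj hs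
  obtain ⟨W, ⟨e⟩⟩ := hrep.has_representation
  let e' : (yon S).obj W ≅ X.obj := isoOfRepresentableBy e ≪≫ asIso j.hom
  exact ⟨⟨W, ⟨representableByOfIso e'⟩⟩⟩

/-- an algebraic space with a monomorphism to a scheme with discrete underlying space is a
scheme -/
theorem isRepresentable_of_mono_to_discrete {X₀ : Sp S} (hX₀ : IsAlgSpace X₀) (Y : Over S)
    [DiscreteTopology ↥Y.left] (f₀ : X₀ ⟶ (yon S).obj Y) [Mono f₀] : X₀.obj.IsRepresentable := by
  obtain ⟨X', j, hX', hj, hrep, hmax⟩ := Groth.Agent.Helper5.ZarGlue.s10197 hX₀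
  have hsurj : Function.Surjective (Points.map j) := by
    intro x
    let y : ↥Y.left := (Points.schemeHomeo Y).symm (Points.map f₀ x)
    have hy : Points.schemeHomeo Y y = Points.map f₀ x := Homeomorph.apply_symm_apply _ _
    let Uy : Y.left.Opens := ⟨{y}, isOpen_discrete _⟩
    let Yy : Over S := Over.mk (Uy.ι ≫ Y.hom)
    let jy : Yy ⟶ Y := Over.homMk Uy.ι rfl
    have sq : IsPullback (pullback.fst f₀ ((yon S).map jy)) (pullback.snd f₀ ((yon S).map jy))
        f₀ ((yon S).map jy) := IsPullback.of_hasPullback _ _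
    have hP : IsAlgSpace (pullback f₀ ((yon S).map jy)) :=
      Groth.Agent.Helper4.AlgSpPB.isAlgSpace_of_isPullback (IsAlgSpace.yon_obj Y).diag hX₀
        (IsAlgSpace.yon_obj Yy) f₀ _ _ _ sq
    have hoi : RepWith @IsOpenImmersion (pullback.fst f₀ ((yon S).map jy)) := by
      have hq : RepWith @IsOpenImmersion ((yon S).map jy) :=
        (repWith_yon_map_iff _ _).2 (inferInstance : IsOpenImmersion Uy.ι)
      have i3 := repWith_isStableUnderBaseChange (S := S) @IsOpenImmersion
      exact MorphismProperty.of_isPullback sq.flip hq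
    haveI hmono : Mono (pullback.snd f₀ ((yon S).map jy)) := pullback.snd_of_mono
    have hdec : IsDecent (pullback f₀ ((yon S).map jy)) :=
      isDecent_of_mono_to_scheme hP Yy (pullback.snd f₀ ((yon S).map jy))
    let y₀ : ↥Yy.left := (⟨y, rfl⟩ : ↥Uy.toScheme)
    obtain ⟨p, hp1, -⟩ := exists_point_of_isPullback sq x (Points.schemeHomeo Yy y₀) (by
      rw [ofPt_eq_map_schemeHomeo, ← hy, ← Category.comp_id ((yon S).map jy),
        ofPt_yon_map_comp, ← ofPt_eq_map_schemeHomeo, Points.map_id]
      rfl)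
    haveI : Nonempty (Points (pullback f₀ ((yon S).map jy))) := ⟨p⟩
    haveI : Subsingleton (Points (pullback f₀ ((yon S).map jy))) := by
      have hinj := Groth.Agent.Helper5.ProperImg.points_injective_of_mono hP (IsAlgSpace.yon_obj Yy)
        (pullback.snd f₀ ((yon S).map jy))
      haveI : Subsingleton ↥Yy.left :=
        ⟨fun a b => Subtype.ext ((Set.mem_singleton_iff.1 a.2).trans
          (Set.mem_singleton_iff.1 b.2).symm)⟩
      haveI : Subsingleton (Points ((yon S).obj Yy)) :=
        (Points.schemeHomeo Yy).symm.injective.subsingleton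
      exact hinj.subsingleton
    have hrepP : (pullback f₀ ((yon S).map jy)).obj.IsRepresentable :=
      isRepresentable_of_subsingleton ⟨_, hP⟩ hdec
    obtain ⟨k, hk⟩ := hmax _ _ hoi hrepP
    refine ⟨Points.map k p, ?_⟩
    rw [← Points.map_comp, hk, hp1]
  have hs : RepWith @Surjective j :=
    Groth.Agent.Helper4.AlgSpPts.repWith_surjective_of_isSurjectiveMor j hj.rep hsurj
  haveI : IsIso j := Groth.Agent.Helper5.AlgSpIso.isIso_of_openImmersion_surjective j hj hs
  obtain ⟨W, ⟨e⟩⟩ := hrep.has_representation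
  let e' : (yon S).obj W ≅ X₀ := isoOfRepresentableBy e ≪≫ asIso j
  exact ⟨⟨W, ⟨representableByOfIso e'⟩⟩⟩

/-- S10393 -/
theorem s10393 (Y : Over S) [DiscreteTopology ↥Y.left] (X : Space S)
    (f : X ⟶ (ofScheme S).obj Y) [Mono f.hom] : X.obj.obj.IsRepresentable := by
  have hm : Mono (show X.obj ⟶ (yon S).obj Y from f.hom) := ‹Mono f.hom›
  exact @isRepresentable_of_mono_to_discrete _ _ X.property Y _ (show X.obj ⟶ (yon S).obj Y from f.hom) hm

end Groth.Agent.Helper5.MonoDisc
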