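import Mathlib
import Groth.Agent.Helper5.DegStr13
import Groth.Agent.Helper5.DegStr18

/-!
# Quasi-separated schemes all of whose points are maximal (dimension zero): quasi-compact opens
are affine and the scheme is separated
-/

set_option autoImplicit false
universe u

namespace Groth.Agent.Helper5.ZeroDim

open CategoryTheory CategoryTheory.Limits AlgebraicGeometry Opposite TopologicalSpace
open Groth.Agent.Helper5.Codim0B Groth.Agent.Helper5.DegStr

variable {Z : Scheme.{u}}

theorem isAffine_of_isOpenImmersion_isClosed {A B : Scheme.{u}} [IsAffine B] (i : A ⟶ B)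
    [IsOpenImmersion i] (h : IsClosed (Set.range i)) : IsAffine A := by
  haveI : IsClosedImmersion i := IsClosedImmersion.of_isPreimmersion i h
  exact isAffine_of_isAffineHom i

/-- in a scheme all of whose points are maximal, a compact open contained in an affine open is
relatively closed -/
theorem isOpen_diff_of_isCompact (hmax : ∀ z : ↥Z, IsMaxPt z) (U : Z.Opens) (hU : IsAffineOpen U)
    (N : Set ↥Z) (hNo : IsOpen N) (hNc : IsCompact N) (hNU : N ⊆ (U : Set ↥Z)) :
    IsOpen ((U : Set ↥Z) \ N) := by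
  rw [isOpen_iff_forall_mem_open]
  rintro z ⟨hzU, hzN⟩
  haveI : IsAffine U.toScheme := hU
  let z' : ↥U.toScheme := ⟨z, hzU⟩
  have hz'max : IsMaxPt z' := isMaxPt_of_opens U z (hmax z) hzU
  have hN'c : IsCompact (U.ι ⁻¹' N) :=
    (U.ι.isOpenEmbedding.isInducing.isCompact_preimage_iff
      (by rw [Scheme.Opens.range_ι]; exact hNU)).2 hNc
  obtain ⟨O, hOo, hzO, hdisj⟩ := exists_open_disjoint_of_isMaxPt z' hz'max (U.ι ⁻¹' N)
    (hNo.preimage U.ι.continuous) hN'c hzN
  refine ⟨U.ι '' O, ?_, U.ι.isOpenEmbedding.isOpenMap O hOo, ⟨z', hzO, rfl⟩⟩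
  rintro _ ⟨o, ho, rfl⟩
  exact ⟨o.2, fun h => Set.disjoint_left.1 hdisj ho h⟩

/-- the union of two disjoint affine opens is affine -/
theorem isAffineOpen_sup_of_disjoint (U₁ U₂ : Z.Opens) (h₁ : IsAffineOpen U₁)
    (h₂ : IsAffineOpen U₂) (hd : Disjoint U₁ U₂) : IsAffineOpen (U₁ ⊔ U₂) := by
  let f := Z.homOfLE (le_sup_left : U₁ ≤ U₁ ⊔ U₂)
  let g := Z.homOfLE (le_sup_right : U₂ ≤ U₁ ⊔ U₂)
  have hc : IsCompl f.opensRange g.opensRange := by
    rw [Scheme.opensRange_homOfLE, Scheme.opensRange_homOfLE]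
    constructor
    · rw [disjoint_iff]
      ext x
      simp only [Opens.coe_inf, Opens.coe_bot, Set.mem_inter_iff, Set.mem_empty_iff_false,
        iff_false, not_and]
      intro hx1 hx2
      exact (Set.disjoint_left.1 ((Opens.coe_disjoint.2 hd)) hx1 hx2)
    · rw [codisjoint_iff]
      ext x
      simp only [Opens.coe_sup, Opens.coe_top, Set.mem_union, Set.mem_univ, iff_true]
      exact x.2
  obtain ⟨hcolim⟩ := nonempty_isColimit_binaryCofanMk_of_isCompl f g hc
  haveI : IsAffine U₁.toScheme := h₁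
  haveI : IsAffine U₂.toScheme := h₂
  let e : U₁.toScheme ⨿ U₂.toScheme ≅ (U₁ ⊔ U₂).toScheme :=
    (colimit.isColimit _).coconePointUniqueUpToIso hcolim
  exact IsAffine.of_isIso e.inv

/-- the union of two affine opens is affine -/
theorem isAffineOpen_sup (hmax : ∀ z : ↥Z, IsMaxPt z) [QuasiSeparatedSpace ↥Z] (U U' : Z.Opens)
    (hU : IsAffineOpen U) (hU' : IsAffineOpen U') : IsAffineOpen (U ⊔ U') := by
  let N : Set ↥Z := (U : Set ↥Z) ∩ U'
  have hNc : IsCompact N := QuasiSeparatedSpace.inter_isCompact _ _ U.isOpen hU.isCompact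
    U'.isOpen hU'.isCompact
  have hNo : IsOpen N := U.isOpen.inter U'.isOpen
  let U'' : Z.Opens := ⟨(U' : Set ↥Z) \ N,
    isOpen_diff_of_isCompact hmax U' hU' N hNo hNc Set.inter_subset_right⟩
  have hle : U'' ≤ U' := fun x hx => hx.1
  have hU''aff : IsAffineOpen U'' := by
    haveI : IsAffine U'.toScheme := hU'
    apply isAffine_of_isOpenImmersion_isClosed (Z.homOfLE hle)
    have hr : Set.range (Z.homOfLE hle) = (U'.ι ⁻¹' N)ᶜ := by
      have h1 : Set.range (Z.homOfLE hle) = ((Z.homOfLE hle).opensRange : Set ↥U'.toScheme) := rfl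
      rw [h1, Scheme.opensRange_homOfLE]
      ext x
      simp only [Scheme.Hom.coe_preimage, Set.mem_preimage, Set.mem_compl_iff]
      constructor
      · intro hx
        exact hx.2
      · intro hx
        exact ⟨x.2, hx⟩
    rw [hr]
    exact (hNo.preimage U'.ι.continuous).isClosed_compl
  have hsup : U ⊔ U' = U ⊔ U'' := by
    ext x
    simp only [Opens.coe_sup, Set.mem_union, SetLike.mem_coe]
    constructor
    · rintro (h | h)
      · exact Or.inl h
      · by_cases hx : x ∈ U
        · exact Or.inl hx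
        · exact Or.inr ⟨h, fun hN => hx hN.1⟩
    · rintro (h | h)
      · exact Or.inl h
      · exact Or.inr h.1
  have hdisj : Disjoint U U'' := by
    rw [← Opens.coe_disjoint, Set.disjoint_left]
    intro x hxU hxU''
    exact hxU''.2 ⟨hxU, hxU''.1⟩
  rw [hsup]
  exact isAffineOpen_sup_of_disjoint U U'' hU hU''aff hdisj

/-- every quasi-compact open is affine -/
theorem isAffineOpen_of_isCompact (hmax : ∀ z : ↥Z, IsMaxPt z) [QuasiSeparatedSpace ↥Z]
    (V : Z.Opens) (hV : IsCompact (V : Set ↥Z)) : IsAffineOpen V := by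
  classical
  obtain ⟨s, hs, rfl⟩ := isCompact_iff_finite_and_eq_biUnion_affineOpens.1 hV
  have key : ∀ t : Finset Z.affineOpens, IsAffineOpen (⨆ i ∈ t, (i : Z.Opens)) := by
    intro t
    induction t using Finset.induction_on with
    | empty =>
      simp only [Finset.notMem_empty, not_false_eq_true, iSup_neg, iSup_bot]
      exact isAffineOpen_bot Z
    | insert a t' ha ih =>
      rw [Finset.iSup_insert]
      exact isAffineOpen_sup hmax _ _ a.2 ih
  have := key hs.toFinset
  simpa using this

end Groth.Agent.Helper5.ZeroDim
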