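import Mathlib
import Groth.Agent.Helper5.ZeroDim1

/-!
# Quasi-separated schemes all of whose points are maximal are separated
-/

set_option autoImplicit false
universe u

namespace Groth.Agent.Helper5.ZeroDim

open CategoryTheory CategoryTheory.Limits AlgebraicGeometry Opposite TopologicalSpace
open Groth.Agent.Helper5.Codim0B Groth.Agent.Helper5.DegStr

variable {Z : Scheme.{u}}

theorem isDominant_spec_fractionRing (R K : Type u) [CommRing R] [IsDomain R] [Field K]
    [Algebra R K] [IsFractionRing R K] :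
    IsDominant (Spec.map (CommRingCat.ofHom (algebraMap R K))) := by
  constructor
  intro x
  let η : ↥(Spec (CommRingCat.of K)) := (IsLocalRing.closedPoint K : PrimeSpectrum K)
  let ζ : ↥(Spec (CommRingCat.of R)) := (⟨⊥, Ideal.isPrime_bot⟩ : PrimeSpectrum R)
  have h1 : Spec.map (CommRingCat.ofHom (algebraMap R K)) η = ζ := by
    apply PrimeSpectrum.ext
    show Ideal.comap (algebraMap R K) (IsLocalRing.maximalIdeal K) = ⊥
    rw [IsLocalRing.maximalIdeal_eq_bot]
    exact (RingHom.injective_iff_ker_eq_bot _).1 (IsFractionRing.injective R K)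
  have hsp : (show PrimeSpectrum R from ζ) ⤳ (show PrimeSpectrum R from x) :=
    (PrimeSpectrum.le_iff_specializes _ _).1 (show (⊥ : Ideal R) ≤ _ from bot_le)
  have h2 : x ∈ closure ({ζ} : Set ↥(Spec (CommRingCat.of R))) :=
    specializes_iff_mem_closure.1 hsp
  refine closure_mono ?_ h2
  rintro w (rfl : w = ζ)
  exact ⟨η, h1⟩

/-- a quasi-separated scheme all of whose points are maximal is separated -/
theorem isSeparated_of_isMaxPt (hmax : ∀ z : ↥Z, IsMaxPt z) [QuasiSeparatedSpace ↥Z] :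
    Z.IsSeparated := by
  constructor
  haveI : QuasiSeparated (terminal.from Z) :=
    (quasiSeparatedSpace_iff_quasiSeparated Z).1 inferInstance
  apply IsSeparated.of_valuativeCriterion
  intro Sq
  constructor
  intro l₁ l₂
  apply CommSq.LiftStruct.ext
  -- the image of the lifts is a single point
  let c : ↥(Spec (CommRingCat.of Sq.R)) := (IsLocalRing.closedPoint Sq.R : PrimeSpectrum Sq.R)
  let η : ↥(Spec (CommRingCat.of Sq.K)) := (IsLocalRing.closedPoint Sq.K : PrimeSpectrum Sq.K)
  have himg : ∀ (l : Spec (CommRingCat.of Sq.R) ⟶ Z) (p : ↥(Spec (CommRingCat.of Sq.R))),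
      l p = l c := by
    intro l p
    have hsp : p ⤳ c := IsLocalRing.specializes_closedPoint (R := Sq.R) p
    exact hmax (l c) (l p) (hsp.map l.continuous)
  let ι := Spec.map (CommRingCat.ofHom (algebraMap Sq.R Sq.K))
  have h1 : ι ≫ l₁.l = Sq.i₁ := l₁.fac_left
  have h2 : ι ≫ l₂.l = Sq.i₁ := l₂.fac_left
  have hz : l₁.l c = l₂.l c := by
    rw [← himg l₁.l (ι η), ← himg l₂.l (ι η), ← Scheme.Hom.comp_apply, ← Scheme.Hom.comp_apply,
      h1, h2]
  obtain ⟨_, ⟨(U : Z.Opens), hU, rfl⟩, hzU, -⟩ :=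
    (Z.isBasis_affineOpens).exists_subset_of_mem_open (Set.mem_univ (l₁.l c)) isOpen_univ
  have hr1 : Set.range l₁.l ⊆ Set.range U.ι := by
    rintro _ ⟨p, rfl⟩
    rw [Scheme.Opens.range_ι, himg l₁.l p]
    exact hzU
  have hr2 : Set.range l₂.l ⊆ Set.range U.ι := by
    rintro _ ⟨p, rfl⟩
    rw [Scheme.Opens.range_ι, himg l₂.l p, ← hz]
    exact hzU
  haveI : IsAffine U.toScheme := hU
  haveI : IsDominant ι := isDominant_spec_fractionRing Sq.R Sq.K
  have heq : IsOpenImmersion.lift U.ι l₁.l hr1 = IsOpenImmersion.lift U.ι l₂.l hr2 := by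
    apply ext_of_isDominant ι
    rw [← cancel_mono U.ι]
    simp only [Category.assoc, IsOpenImmersion.lift_fac]
    rw [h1, h2]
  rw [← IsOpenImmersion.lift_fac U.ι l₁.l hr1, ← IsOpenImmersion.lift_fac U.ι l₂.l hr2, heq]

end Groth.Agent.Helper5.ZeroDim
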