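import Mathlib
import Groth.Agent.Helper5.ZeroDim2
import Groth.Agent.Helper5.DimDec1
import Groth.Agent.Helper5.DegStr15
import Groth.Agent.Helper5.DiagBC
import Groth.Agent.Helper5.AlgSpIso
import Groth.Agent.Helper5.AlgSpOpen
import Groth.Agent.Helper5.ZarGlue8
import Groth.Agent.Helper4.AlgSpPts

/-!
# S10450: quasi-separated algebraic spaces of dimension zero are separated schemes whose
quasi-compact opens are affine
-/

set_option autoImplicit false
universe u

namespace Groth.Agent.Helper5.ZeroDim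

open CategoryTheory CategoryTheory.Limits AlgebraicGeometry Opposite TopologicalSpace AlgSp
open Groth.Agent.Helper5.Codim0B Groth.Agent.Helper5.DegStr

variable {S : Scheme.{u}}

/-- the points of a scheme etale over a space of dimension zero are maximal -/
theorem isMaxPt_of_dim_zero {X : Sp S} (hd : AlgSp.dim X ≤ 0) {U : Over S}
    (a : (yon S).obj U ⟶ X) (ha : RepWith @Etale a) (u : ↥U.left) : IsMaxPt u := by
  have h1 : topologicalKrullDim ↥U.left ≤ 0 := by
    refine le_trans ?_ hd
    unfold AlgSp.dim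
    exact le_iSup_of_le U (le_iSup_of_le a (le_iSup_of_le ha le_rfl))
  rw [← stalk_dim_zero_iff]
  apply le_antisymm
  · rw [ringKrullDim_stalk_eq_coheight u]
    refine le_trans ?_ h1
    rw [Groth.Agent.Helper5.DimDec.topologicalKrullDim_eq_krullDim ↥U.left]
    exact @Order.coheight_le_krullDim _ (specializationPreorder ↥U.left) u
  · exact ringKrullDim_nonneg_of_nontrivial

/-- an algebraic space all of whose points lie in open subspaces which are schemes is a scheme -/
theorem exists_iso_yon_of_forall {X : Sp S} (hX : IsAlgSpace X)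
    (H : ∀ x : Points X, ∃ (X'' : Sp S) (j'' : X'' ⟶ X), RepWith @IsOpenImmersion j'' ∧
      X''.obj.IsRepresentable ∧ x ∈ Set.range (Points.map j'')) :
    ∃ (W : Over S), Nonempty ((yon S).obj W ≅ X) := by
  obtain ⟨X', j, hX', hj, hrep, hmax⟩ := Groth.Agent.Helper5.ZarGlue.s10197 hX
  have hsurj : Function.Surjective (Points.map j) := by
    intro x
    obtain ⟨X'', j'', h1, h2, z, hz⟩ := H x
    obtain ⟨k, hk⟩ := hmax X'' j'' h1 h2
    refine ⟨Points.map k z, ?_⟩
    rw [← Points.map_comp, hk, hz]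
  have hs : RepWith @Surjective j :=
    Groth.Agent.Helper4.AlgSpPts.repWith_surjective_of_isSurjectiveMor j hj.rep hsurj
  haveI : IsIso j := Groth.Agent.Helper5.AlgSpIso.isIso_of_openImmersion_surjective j hj hs
  obtain ⟨W, ⟨e⟩⟩ := hrep.has_representation
  exact ⟨W, ⟨isoOfRepresentableBy e ≪≫ asIso j⟩⟩

/-- a scheme whose sheaf is quasi-separated over a quasi-separated base is quasi-separated -/
theorem quasiSeparatedSpace_of_isQuasiSeparatedSp [QuasiSeparatedSpace ↥S] {X : Sp S}
    (hqs : IsQuasiSeparatedSp X) (W : Over S) (e : (yon S).obj W ≅ X) :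
    QuasiSeparatedSpace ↥W.left := by
  haveI : Mono e.hom := inferInstance
  have hkp : IsPullback ((yon S).map (𝟙 W)) ((yon S).map (𝟙 W)) e.hom e.hom := by
    rw [(yon S).map_id]
    exact IsKernelPair.id_of_mono e.hom
  have h1 : QuasiCompact (Groth.Agent.Helper5.DiagBC.toProd (𝟙 W) (𝟙 W)).left :=
    Groth.Agent.Helper5.DiagBC.prop_toProd @QuasiCompact hqs e.hom e.hom (𝟙 W) (𝟙 W) hkp
  haveI : QuasiSeparated W.hom := ⟨h1⟩
  exact quasiSeparatedSpace_of_quasiSeparated W.hom

/-- S10450 -/
theorem s10450 [QuasiSeparatedSpace ↥S] (X : Space S) (hqs : IsQuasiSeparatedSp X.obj)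
    (hd : AlgSp.dim X.obj = 0) :
    ∃ (U : Over S) (_ : (yon S).obj U ≅ X.obj), U.left.IsSeparated ∧
      ∀ V : U.left.Opens, IsCompact (V : Set ↥U.left) → IsAffineOpen V := by
  have hall : ∀ x : Points X.obj, ∃ (X'' : Sp S) (j'' : X'' ⟶ X.obj),
      RepWith @IsOpenImmersion j'' ∧ X''.obj.IsRepresentable ∧
        x ∈ Set.range (Points.map j'') := by
    intro x
    obtain ⟨U, a, hae, has⟩ := X.property.atlas
    obtain ⟨u, rfl⟩ := Groth.Agent.Helper5.AlgSpOpen.ofPt_surjective_of_repWith a has x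
    have hu : IsMaxPt u := isMaxPt_of_dim_zero hd.le a hae u
    obtain ⟨X'', j'', -, h1, h2, h3⟩ :=
      exists_open_subscheme_of_codimZero_of_qs X.property hqs (Points.ofPt a u)
        ⟨U, a, u, hae, rfl, (stalk_dim_zero_iff _ _).2 hu⟩
    exact ⟨X'', j'', h1, h2, h3⟩
  obtain ⟨W, ⟨e⟩⟩ := exists_iso_yon_of_forall X.property hall
  have hee : RepWith @Etale e.hom := MorphismProperty.of_isIso (RepWith @Etale) e.hom
  have hmax : ∀ w : ↥W.left, IsMaxPt w := fun w => isMaxPt_of_dim_zero hd.le e.hom hee w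
  haveI := quasiSeparatedSpace_of_isQuasiSeparatedSp hqs W e
  exact ⟨W, e, isSeparated_of_isMaxPt hmax, fun V hV => isAffineOpen_of_isCompact hmax V hV⟩

end Groth.Agent.Helper5.ZeroDim
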