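import Mathlib
import Groth.Agent.Helper5.ZeroDim3
import Groth.Agent.Helper5.DegStr14
import Groth.Agent.Helper5.MonoQuot9

/-!
# S10451: algebraic spaces locally of finite type of dimension zero over a field are separated
schemes whose quasi-compact opens are affine
-/

set_option autoImplicit false
universe u

namespace Groth.Agent.Helper5.ZeroDim

open CategoryTheory CategoryTheory.Limits AlgebraicGeometry Opposite TopologicalSpace AlgSp
open Groth.Agent.Helper5.Codim0B Groth.Agent.Helper5.DegStr
open Groth.Agent.Helper4.AlgSpOpenImage Groth.Agent.Helper4.AlgSpPtsDesc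

variable {S : Scheme.{u}}

/-- a maximal point of an affine etale chart with quasi-compact relation lies in an open
subspace which is a scheme -/
theorem exists_open_subscheme_of_isMaxPt_of_qc {X : Sp S} (hX : IsAlgSpace X) {V R : Over S}
    [IsAffine V.left] (φ : (yon S).obj V ⟶ X) (hφ : RepWith @Etale φ) (s t : R ⟶ V)
    (hR : IsPullback ((yon S).map t) ((yon S).map s) φ φ) [Etale s.left] [QuasiCompact s.left]
    (v : ↥V.left) (hv : IsMaxPt v) :
    ∃ (X'' : Sp S) (j'' : X'' ⟶ X), RepWith @IsOpenImmersion j'' ∧ X''.obj.IsRepresentable ∧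
      Points.ofPt φ v ∈ Set.range (Points.map j'') := by
  obtain ⟨O', Z, hvO, ⟨e⟩⟩ := exists_scheme_open_image_of_isMaxPt hX φ hφ s t hR v hv
  let φO : (yon S).obj (Over.mk (O'.ι ≫ V.hom)) ⟶ X :=
    (yon S).map (Over.homMk O'.ι rfl : Over.mk (O'.ι ≫ V.hom) ⟶ V) ≫ φ
  have hφO : RepWith @Etale φO := Groth.Agent.Helper5.MonoQuot.repWith_etale_restrict φ hφ O'
  refine ⟨img φO, imgι φO, imgι_isOpenImmersion φO hφO, ⟨⟨Z, ⟨representableByOfIso e⟩⟩⟩, ?_⟩
  let o' : ↥(Over.mk (O'.ι ≫ V.hom)).left := (⟨v, hvO⟩ : ↥O'.toScheme)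
  refine ⟨Points.ofPt (toImg φO) o', ?_⟩
  rw [Points.map_ofPt, toImg_ι]
  show Points.ofPt ((yon S).map (Over.homMk O'.ι rfl : Over.mk (O'.ι ≫ V.hom) ⟶ V) ≫ φ) o' = _
  rw [ofPt_yon_map_comp]
  rfl

variable (k : Type u) [Field k]

/-- charts of a space locally of finite type over a field are locally of finite type -/
theorem locallyOfFiniteType_chart {X : Sp (Spec (CommRingCat.of k))}
    (p : X ⟶ (yon (Spec (CommRingCat.of k))).obj (Over.mk (𝟙 _)))
    (hp : LocP @LocallyOfFiniteType p) {U : Over (Spec (CommRingCat.of k))}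
    (a : (yon _).obj U ⟶ X) (ha : RepWith @Etale a) : LocallyOfFiniteType U.hom := by
  let h : U ⟶ Over.mk (𝟙 (Spec (CommRingCat.of k))) := Over.homMk U.hom (by simp)
  have hcomm : a ≫ p = (yon _).map h ≫ 𝟙 _ := by
    obtain ⟨g, hg⟩ := (yon (Spec (CommRingCat.of k))).map_surjective (a ≫ p)
    rw [Category.comp_id, ← hg]
    congr 1
    apply Over.OverMorphism.ext
    have := Over.w g
    simp only [Over.mk_hom, Category.comp_id] at this
    exact this
  exact hp a (𝟙 _) h ha (repWith_id _ _) hcomm

/-- schemes etale over a space of dimension zero locally of finite type over a field are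
discrete -/
theorem discreteTopology_chart {X : Sp (Spec (CommRingCat.of k))}
    (p : X ⟶ (yon (Spec (CommRingCat.of k))).obj (Over.mk (𝟙 _)))
    (hp : LocP @LocallyOfFiniteType p) (hd : AlgSp.dim X ≤ 0)
    {U : Over (Spec (CommRingCat.of k))}
    (a : (yon _).obj U ⟶ X) (ha : RepWith @Etale a) : DiscreteTopology ↥U.left := by
  haveI := locallyOfFiniteType_chart k p hp a ha
  haveI : IsLocallyNoetherian U.left := LocallyOfFiniteType.isLocallyNoetherian U.hom
  have h1 : topologicalKrullDim ↥U.left ≤ 0 := by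
    refine le_trans ?_ hd
    unfold AlgSp.dim
    exact le_iSup_of_le U (le_iSup_of_le a (le_iSup_of_le ha le_rfl))
  haveI := IsLocallyArtinian.of_topologicalKrullDim_le_zero h1
  infer_instance

/-- S10451 -/
theorem s10451 (X : Space (Spec (CommRingCat.of k)))
    (p : X.obj ⟶ (yon (Spec (CommRingCat.of k))).obj (Over.mk (𝟙 _)))
    (hp : LocP @LocallyOfFiniteType p) (hd : AlgSp.dim X.obj = 0) :
    ∃ (U : Over (Spec (CommRingCat.of k))) (_ : (yon (Spec (CommRingCat.of k))).obj U ≅ X.obj),
      U.left.IsSeparated ∧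
      ∀ V : U.left.Opens, IsCompact (V : Set ↥U.left) → IsAffineOpen V := by
  have hall : ∀ x : Points X.obj, ∃ (X'' : Sp (Spec (CommRingCat.of k))) (j'' : X'' ⟶ X.obj),
      RepWith @IsOpenImmersion j'' ∧ X''.obj.IsRepresentable ∧
        x ∈ Set.range (Points.map j'') := by
    intro x
    obtain ⟨U, a, hae, has⟩ := X.property.atlas
    obtain ⟨u, rfl⟩ := Groth.Agent.Helper5.AlgSpOpen.ofPt_surjective_of_repWith a has x
    obtain ⟨_, ⟨(V₀ : U.left.Opens), hV₀, rfl⟩, huV₀, -⟩ :=
      (U.left.isBasis_affineOpens).exists_subset_of_mem_open (Set.mem_univ u) isOpen_univ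
    let V : Over (Spec (CommRingCat.of k)) := Over.mk (V₀.ι ≫ U.hom)
    let φ : (yon _).obj V ⟶ X.obj := (yon _).map (Over.homMk V₀.ι rfl : V ⟶ U) ≫ a
    have hφ : RepWith @Etale φ := Groth.Agent.Helper5.MonoQuot.repWith_etale_restrict a hae V₀
    haveI hVaff : IsAffine V.left := hV₀
    obtain ⟨R, s, t, hR, hse, -⟩ := Groth.Agent.Helper5.MonoQuot.exists_relation φ hφ
    haveI := hse
    -- the chart is finite
    haveI hVd : DiscreteTopology ↥V.left := discreteTopology_chart k p hp hd.le φ hφ
    haveI hVfin : Finite ↥V.left := finite_of_compact_of_discrete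
    haveI hVlft : LocallyOfFiniteType V.hom := locallyOfFiniteType_chart k p hp φ hφ
    haveI : LocallyQuasiFinite V.hom :=
      LocallyQuasiFinite.of_finite_preimage_singleton V.hom (fun _ => Set.toFinite _)
    haveI : QuasiCompact V.hom := quasiCompact_of_compactSpace _
    haveI hPfin : Finite ↥(pullback V.hom V.hom) := by
      have h1 := Scheme.Hom.finite_preimage (pullback.fst V.hom V.hom) (Set.toFinite Set.univ)
      rw [Set.preimage_univ] at h1
      exact Set.finite_univ_iff.1 h1
    -- the relation is finite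
    let j : R.left ⟶ pullback V.hom V.hom :=
      pullback.lift t.left s.left (by rw [Over.w t, Over.w s])
    haveI : Mono j := ⟨fun a b hab => by
      apply Groth.Agent.Helper5.MonoQuot.kp_jm φ s t hR a b
      · have := congrArg (· ≫ pullback.snd V.hom V.hom) hab
        simpa only [Category.assoc, j, pullback.lift_snd] using this
      · have := congrArg (· ≫ pullback.fst V.hom V.hom) hab
        simpa only [Category.assoc, j, pullback.lift_fst] using this⟩
    haveI : Finite ↥R.left := Finite.of_injective _ j.injective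
    haveI : QuasiCompact s.left := Groth.Agent.Helper5.DegStr.quasiCompact_of_finite' _
    let v : ↥V.left := (⟨u, huV₀⟩ : ↥V₀.toScheme)
    have hv : IsMaxPt v := isMaxPt_of_dim_zero hd.le φ hφ v
    obtain ⟨X'', j'', h1, h2, h3⟩ :=
      exists_open_subscheme_of_isMaxPt_of_qc X.property φ hφ s t hR v hv
    refine ⟨X'', j'', h1, h2, ?_⟩
    have : Points.ofPt φ v = Points.ofPt a u := by
      show Points.ofPt ((yon _).map (Over.homMk V₀.ι rfl : V ⟶ U) ≫ a) v = _
      rw [ofPt_yon_map_comp]
      rfl
    rw [← this]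
    exact h3
  obtain ⟨W, ⟨e⟩⟩ := exists_iso_yon_of_forall X.property hall
  have hee : RepWith @Etale e.hom := MorphismProperty.of_isIso (RepWith @Etale) e.hom
  have hmax : ∀ w : ↥W.left, IsMaxPt w := fun w => isMaxPt_of_dim_zero hd.le e.hom hee w
  haveI : DiscreteTopology ↥W.left := discreteTopology_chart k p hp hd.le e.hom hee
  exact ⟨W, e, isSeparated_of_isMaxPt hmax, fun V hV => isAffineOpen_of_isCompact hmax V hV⟩

end Groth.Agent.Helper5.ZeroDim
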