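import Mathlib
import Groth.Agent.Helper5.ZeroDim4
import Groth.Agent.Helper4.SchLQF

/-!
# S10483: locally quasi-finite algebraic spaces over a field
-/

set_option autoImplicit false
universe u

namespace Groth.Agent.Helper5.ZeroDim

open CategoryTheory CategoryTheory.Limits AlgebraicGeometry Opposite TopologicalSpace AlgSp
open Groth.Agent.Helper5.Codim0B Groth.Agent.Helper5.DegStr
open Groth.Agent.Helper4.AlgSpOpenImage Groth.Agent.Helper4.AlgSpPtsDesc

variable (k : Type u) [Field k]

/-- variant of `s10451` with `dim ≤ 0` -/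
theorem s10451_le (X : Space (Spec (CommRingCat.of k)))
    (p : X.obj ⟶ (yon (Spec (CommRingCat.of k))).obj (Over.mk (𝟙 _)))
    (hp : LocP @LocallyOfFiniteType p) (hd : AlgSp.dim X.obj ≤ 0) :
    ∃ (U : Over (Spec (CommRingCat.of k))) (_ : (yon (Spec (CommRingCat.of k))).obj U ≅ X.obj),
      U.left.IsSeparated ∧
      ∀ V : U.left.Opens, IsCompact (V : Set ↥U.left) → IsAffineOpen V := by
  have hall : ∀ x : Points X.obj, ∃ (X'' : Sp (Spec (CommRingCat.of k))) (j'' : X'' ⟶ X.obj),
      RepWith @IsOpenImmersion j'' ∧ X''.obj.IsRepresentable ∧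
        x ∈ Set.range (Points.map j'') := by
    intro x
    obtain ⟨U, a, hae, has⟩ := X.property.atlas
    obtain ⟨u, rfl⟩ := Groth.Agent.Helper5.AlgSpOpen.ofPt_surjective_of_repWith a has x
    obtain ⟨_, ⟨(V₀ : U.left.Opens), hV₀, rfl⟩, huV₀, -⟩ :=
      (U.left.isBasis_affineOpens).exists_subset_of_mem_open (Set.mem_univ u) isOpen_univ
    let V : Over (Spec (CommRingCat.of k)) := Over.mk (V₀.ι ≫ U.hom)
    let φ : (yon _).obj V ⟶ X.obj := (yon _).map (Over.homMk V₀.ι rfl : V ⟶ U) ≫ a
    have hφ : RepWith @Etale φ := Groth.Agent.Helper5.MonoQuot.repWith_etale_restrict a hae V₀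
    haveI hVaff : IsAffine V.left := hV₀
    obtain ⟨R, s, t, hR, hse, -⟩ := Groth.Agent.Helper5.MonoQuot.exists_relation φ hφ
    haveI := hse
    haveI hVd : DiscreteTopology ↥V.left := discreteTopology_chart k p hp hd φ hφ
    haveI hVfin : Finite ↥V.left := finite_of_compact_of_discrete
    haveI hVlft : LocallyOfFiniteType V.hom := locallyOfFiniteType_chart k p hp φ hφ
    haveI : LocallyQuasiFinite V.hom :=
      LocallyQuasiFinite.of_finite_preimage_singleton V.hom (fun _ => Set.toFinite _)
    haveI : QuasiCompact V.hom := quasiCompact_of_compactSpace _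
    haveI hPfin : Finite ↥(pullback V.hom V.hom) := by
      have h1 := Scheme.Hom.finite_preimage (pullback.fst V.hom V.hom) (Set.toFinite Set.univ)
      rw [Set.preimage_univ] at h1
      exact Set.finite_univ_iff.1 h1
    let j : R.left ⟶ pullback V.hom V.hom :=
      pullback.lift t.left s.left (by rw [Over.w t, Over.w s])
    haveI : Mono j := ⟨fun a b hab => by
      apply Groth.Agent.Helper5.MonoQuot.kp_jm φ s t hR a b
      · have := congrArg (· ≫ pullback.snd V.hom V.hom) hab
        simpa only [Category.assoc, j, pullback.lift_snd] using this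
      · have := congrArg (· ≫ pullback.fst V.hom V.hom) hab
        simpa only [Category.assoc, j, pullback.lift_fst] using this⟩
    haveI : Finite ↥R.left := Finite.of_injective _ j.injective
    haveI : QuasiCompact s.left := Groth.Agent.Helper5.DegStr.quasiCompact_of_finite' _
    let v : ↥V.left := (⟨u, huV₀⟩ : ↥V₀.toScheme)
    have hv : IsMaxPt v := isMaxPt_of_dim_zero hd φ hφ v
    obtain ⟨X'', j'', h1, h2, h3⟩ :=
      exists_open_subscheme_of_isMaxPt_of_qc X.property φ hφ s t hR v hv
    refine ⟨X'', j'', h1, h2, ?_⟩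
    have : Points.ofPt φ v = Points.ofPt a u := by
      show Points.ofPt ((yon _).map (Over.homMk V₀.ι rfl : V ⟶ U) ≫ a) v = _
      rw [ofPt_yon_map_comp]
      rfl
    rw [← this]
    exact h3
  obtain ⟨W, ⟨e⟩⟩ := exists_iso_yon_of_forall X.property hall
  have hee : RepWith @Etale e.hom := MorphismProperty.of_isIso (RepWith @Etale) e.hom
  have hmax : ∀ w : ↥W.left, IsMaxPt w := fun w => isMaxPt_of_dim_zero hd e.hom hee w
  haveI : DiscreteTopology ↥W.left := discreteTopology_chart k p hp hd e.hom hee
  exact ⟨W, e, isSeparated_of_isMaxPt hmax, fun V hV => isAffineOpen_of_isCompact hmax V hV⟩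

/-- charts of a space locally quasi-finite over a field are locally quasi-finite -/
theorem lqf_chart {X : Sp (Spec (CommRingCat.of k))}
    (p : X ⟶ (yon (Spec (CommRingCat.of k))).obj (Over.mk (𝟙 _)))
    (hp : LocP (@LocallyQuasiFinite ⊓ @LocallyOfFiniteType : MorphismProperty Scheme.{u}) p)
    {U : Over (Spec (CommRingCat.of k))}
    (a : (yon _).obj U ⟶ X) (ha : RepWith @Etale a) :
    LocallyQuasiFinite U.hom ∧ LocallyOfFiniteType U.hom := by
  let h : U ⟶ Over.mk (𝟙 (Spec (CommRingCat.of k))) := Over.homMk U.hom (by simp)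
  have hcomm : a ≫ p = (yon _).map h ≫ 𝟙 _ := by
    obtain ⟨g, hg⟩ := (yon (Spec (CommRingCat.of k))).map_surjective (a ≫ p)
    rw [Category.comp_id, ← hg]
    congr 1
    apply Over.OverMorphism.ext
    have := Over.w g
    simp only [Over.mk_hom, Category.comp_id] at this
    exact this
  exact hp a (𝟙 _) h ha (repWith_id _ _) hcomm

theorem isLocallyArtinian_spec_field : IsLocallyArtinian (Spec (CommRingCat.of k)) := by
  rw [Scheme.isLocallyArtinianScheme_Spec]
  show IsArtinianRing k
  infer_instance

/-- a ring whose spectrum is a singleton is local -/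
theorem isLocalRing_of_subsingleton_primeSpectrum (A : Type u) [CommRing A] [Nontrivial A]
    [Subsingleton (PrimeSpectrum A)] : IsLocalRing A := by
  apply IsLocalRing.of_unique_max_ideal
  obtain ⟨m, hm⟩ := Ideal.exists_maximal A
  refine ⟨m, hm, fun m' hm' => ?_⟩
  have := Subsingleton.elim (⟨m, hm.isPrime⟩ : PrimeSpectrum A) ⟨m', hm'.isPrime⟩
  exact (congrArg PrimeSpectrum.asIdeal this).symm

/-- S10483 -/
theorem s10483 (X : AlgSp.Space (Spec (CommRingCat.of k)))
    (p : X.obj ⟶ (AlgSp.yon (Spec (CommRingCat.of k))).obj (Over.mk (𝟙 _))) :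
    AlgSp.LocP (@LocallyQuasiFinite ⊓ @LocallyOfFiniteType : MorphismProperty Scheme.{u}) p ↔
      ∃ (U : Over (Spec (CommRingCat.of k)))
        (_ : (AlgSp.yon (Spec (CommRingCat.of k))).obj U ≅ X.obj), ∀ u : ↥U.left,
        ∃ V : U.left.Opens,
        u ∈ V ∧ IsAffineOpen V ∧ IsArtinianRing ↥Γ(U.left, V) ∧ IsLocalRing ↥Γ(U.left, V) ∧
          IsFinite (V.ι ≫ U.hom) := by
  haveI := isLocallyArtinian_spec_field k
  constructor
  · intro hp
    have hlft : LocP @LocallyOfFiniteType p := fun _ _ a b h ha hb comm => (hp a b h ha hb comm).2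
    have hd : AlgSp.dim X.obj ≤ 0 := by
      unfold AlgSp.dim
      refine iSup_le fun U => iSup_le fun a => iSup_le fun ha => ?_
      obtain ⟨h1, h2⟩ := lqf_chart k p hp a ha
      haveI := h1
      haveI : IsLocallyArtinian U.left := IsLocallyArtinian.of_locallyQuasiFinite U.hom
      exact topologicalKrullDim_zero_of_discreteTopology ↥U.left
    obtain ⟨W, e, -, haff⟩ := s10451_le k X p hlft hd
    have hee : RepWith @Etale e.hom := MorphismProperty.of_isIso (RepWith @Etale) e.hom
    obtain ⟨h1, h2⟩ := lqf_chart k p hp e.hom hee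
    haveI := h1
    haveI : IsLocallyArtinian W.left := IsLocallyArtinian.of_locallyQuasiFinite W.hom
    refine ⟨W, e, fun w => ?_⟩
    let V : W.left.Opens := ⟨{w}, isOpen_discrete _⟩
    have hV : IsAffineOpen V := haff V isCompact_singleton
    have hwV : w ∈ V := Set.mem_singleton w
    refine ⟨V, hwV, hV, IsLocallyArtinian.isArtinianRing_presheaf_obj ⟨V, hV⟩, ?_, ?_⟩
    · haveI : Subsingleton (PrimeSpectrum ↥Γ(W.left, V)) := by
        have h3 : Subsingleton ↥V.toScheme := by
          refine ⟨fun a b => Subtype.ext ?_⟩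
          rw [Set.mem_singleton_iff.1 a.2, Set.mem_singleton_iff.1 b.2]
        exact hV.isoSpec.inv.homeomorph.injective.subsingleton
      haveI : Nontrivial ↥Γ(W.left, V) := by
        have : Nonempty (PrimeSpectrum ↥Γ(W.left, V)) :=
          ⟨hV.isoSpec.hom (⟨w, hwV⟩ : ↥V.toScheme)⟩
        exact (PrimeSpectrum.nonempty_iff_nontrivial).1 this
      exact isLocalRing_of_subsingleton_primeSpectrum _
    · haveI : CompactSpace ↥V.toScheme := isCompact_iff_compactSpace.1 isCompact_singleton
      haveI : QuasiCompact (V.ι ≫ W.hom) := quasiCompact_of_compactSpace _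
      exact IsFinite.of_locallyQuasiFinite (V.ι ≫ W.hom)
  · rintro ⟨U, e, hU⟩
    -- `U.hom` is locally quasi-finite and locally of finite type
    choose V hV using hU
    have hcov : ⨆ u, V u = ⊤ := by
      rw [eq_top_iff]
      intro u _
      exact Opens.mem_iSup.2 ⟨u, (hV u).1⟩
    have hlqf : LocallyQuasiFinite U.hom := by
      refine IsZariskiLocalAtSource.of_iSup_eq_top (P := @LocallyQuasiFinite) V hcov fun u => ?_
      haveI := (hV u).2.2.2.2
      infer_instance
    have hlft : LocallyOfFiniteType U.hom := by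
      refine IsZariskiLocalAtSource.of_iSup_eq_top (P := @LocallyOfFiniteType) V hcov fun u => ?_
      haveI := (hV u).2.2.2.2
      infer_instance
    intro U' V' a b h ha hb comm
    obtain ⟨a₀, ha₀⟩ := (yon _).map_surjective (a ≫ e.inv)
    have hae : RepWith @Etale (a ≫ e.inv) :=
      (RepWith @Etale).comp_mem _ _ ha (MorphismProperty.of_isIso (RepWith @Etale) e.inv)
    rw [← ha₀] at hae
    haveI ha₀e : Etale a₀.left := (repWith_yon_map_iff _ _).1 hae
    haveI : LocallyQuasiFinite a₀.left := Groth.Agent.Helper4.SchLQF.locallyQuasiFinite_of_etale _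
    have h1 : h.left ≫ V'.hom = a₀.left ≫ U.hom := by rw [Over.w h, Over.w a₀]
    constructor
    · haveI : LocallyQuasiFinite (h.left ≫ V'.hom) := by rw [h1]; infer_instance
      exact LocallyQuasiFinite.of_comp h.left V'.hom
    · haveI : LocallyOfFiniteType (h.left ≫ V'.hom) := by rw [h1]; infer_instance
      exact locallyOfFiniteType_of_comp h.left V'.hom

end Groth.Agent.Helper5.ZeroDim
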