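import Mathlib
import Groth.Agent.Helper5.EpiArt2
import Groth.Agent.Helper5.ZeroDim5
import Groth.Agent.Helper5.MonoDisc2

/-!
# S10484: a monomorphism into a locally quasi-finite space over a field
-/

set_option autoImplicit false
universe u

namespace Groth.Agent.Helper5.EpiArt

open CategoryTheory CategoryTheory.Limits AlgebraicGeometry Opposite TopologicalSpace AlgSp

variable (k : Type u) [Field k]

/-- a scheme locally quasi-finite and locally of finite type over a field -/
theorem locP_lqf_of_iso {X : Sp (Spec (CommRingCat.of k))}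
    (p : X ⟶ (yon (Spec (CommRingCat.of k))).obj (Over.mk (𝟙 _)))
    (U : Over (Spec (CommRingCat.of k))) (e : (yon _).obj U ≅ X)
    (hlqf : LocallyQuasiFinite U.hom) (hlft : LocallyOfFiniteType U.hom) :
    LocP (@LocallyQuasiFinite ⊓ @LocallyOfFiniteType : MorphismProperty Scheme.{u}) p := by
  intro U' V' a b h ha hb comm
  obtain ⟨a₀, ha₀⟩ := (yon _).map_surjective (a ≫ e.inv)
  have hae : RepWith @Etale (a ≫ e.inv) :=
    (RepWith @Etale).comp_mem _ _ ha (MorphismProperty.of_isIso (RepWith @Etale) e.inv)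
  rw [← ha₀] at hae
  haveI ha₀e : Etale a₀.left := (repWith_yon_map_iff _ _).1 hae
  haveI : LocallyQuasiFinite a₀.left := Groth.Agent.Helper4.SchLQF.locallyQuasiFinite_of_etale _
  have h1 : h.left ≫ V'.hom = a₀.left ≫ U.hom := by rw [Over.w h, Over.w a₀]
  constructor
  · haveI : LocallyQuasiFinite (h.left ≫ V'.hom) := by rw [h1]; infer_instance
    exact LocallyQuasiFinite.of_comp h.left V'.hom
  · haveI : LocallyOfFiniteType (h.left ≫ V'.hom) := by rw [h1]; infer_instance
    exact locallyOfFiniteType_of_comp h.left V'.hom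

/-- S10484 -/
theorem s10484 {X Y : AlgSp.Space (Spec (CommRingCat.of k))} (f : X ⟶ Y) [Mono f.hom]
    (q : Y.obj ⟶ (AlgSp.yon (Spec (CommRingCat.of k))).obj (Over.mk (𝟙 _)))
    (hq : AlgSp.LocP (@LocallyQuasiFinite ⊓ @LocallyOfFiniteType : MorphismProperty Scheme.{u}) q) :
    AlgSp.LocP (@LocallyQuasiFinite ⊓ @LocallyOfFiniteType : MorphismProperty Scheme.{u})
      (f.hom ≫ q) := by
  haveI := Groth.Agent.Helper5.ZeroDim.isLocallyArtinian_spec_field k
  obtain ⟨W, eY, hW⟩ := (Groth.Agent.Helper5.ZeroDim.s10483 k Y q).1 hq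
  have hee : RepWith @Etale eY.hom := MorphismProperty.of_isIso (RepWith @Etale) eY.hom
  obtain ⟨hWq, hWt⟩ := Groth.Agent.Helper5.ZeroDim.lqf_chart k q hq eY.hom hee
  haveI := hWq
  haveI := hWt
  haveI : IsLocallyArtinian W.left := IsLocallyArtinian.of_locallyQuasiFinite W.hom
  let f₀ : X.obj ⟶ (yon _).obj W := f.hom ≫ eY.inv
  haveI : Mono f₀ := mono_comp _ _
  obtain ⟨Z, ⟨r⟩⟩ :=
    (Groth.Agent.Helper5.MonoDisc.isRepresentable_of_mono_to_discrete X.property W f₀).has_representation
  let eX : (yon _).obj Z ≅ X.obj := isoOfRepresentableBy r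
  obtain ⟨g, hg⟩ := (yon _).map_surjective (eX.hom ≫ f₀)
  haveI : Mono ((yon (Spec (CommRingCat.of k))).map g) := by rw [hg]; infer_instance
  haveI : Mono g := Functor.mono_of_mono_map (yon (Spec (CommRingCat.of k))) ‹_›
  haveI : Mono g.left := inferInstance
  choose V hV using hW
  have hcov : ⨆ w, V w = ⊤ := by
    rw [eq_top_iff]
    intro w _
    exact Opens.mem_iSup.2 ⟨w, (hV w).1⟩
  haveI : IsClosedImmersion g.left := by
    refine IsZariskiLocalAtTarget.of_iSup_eq_top (P := @IsClosedImmersion) V hcov fun w => ?_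
    haveI : IsAffine (V w).toScheme := (hV w).2.1
    haveI := (hV w).2.2.1
    haveI := (hV w).2.2.2.1
    haveI : IsArtinianRing ↥Γ((V w).toScheme, ⊤) :=
      (V w).topIso.symm.commRingCatIsoToRingEquiv.isArtinianRing
    haveI : IsLocalRing ↥Γ((V w).toScheme, ⊤) :=
      (V w).topIso.symm.commRingCatIsoToRingEquiv.isLocalRing
    haveI : Mono (g.left ∣_ V w) := by
      haveI : Mono ((g.left ∣_ V w) ≫ (V w).ι) := by
        rw [(isPullback_morphismRestrict g.left (V w)).w]
        infer_instance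
      exact mono_of_mono (g.left ∣_ V w) (V w).ι
    haveI : Subsingleton ↥(V w).toScheme := by
      haveI : Subsingleton ↥(Spec Γ(W.left, V w)) :=
        subsingleton_primeSpectrum ↥Γ(W.left, V w)
      exact (hV w).2.1.isoSpec.hom.homeomorph.injective.subsingleton
    haveI : Subsingleton ↥(g.left ⁻¹ᵁ V w).toScheme :=
      (g.left ∣_ V w).injective.subsingleton
    haveI := isAffine_of_subsingleton (g.left ⁻¹ᵁ V w).toScheme
    exact isClosedImmersion_of_mono_of_isAffine _
  have hZ : Z.hom = g.left ≫ W.hom := (Over.w g).symm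
  refine locP_lqf_of_iso k (f.hom ≫ q) Z eX ?_ ?_
  · rw [hZ]; infer_instance
  · rw [hZ]; infer_instance

end Groth.Agent.Helper5.EpiArt
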