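import Mathlib
import Groth.Agent.Helper5.EqAt9
import Groth.Agent.Helper5.OpenAt3

set_option autoImplicit false
universe u
open AlgebraicGeometry CategoryTheory TopologicalSpace

namespace Groth.Agent.Helper5.EqAt

open Groth.Agent.Helper5.LocDE Groth.Agent.Helper5.VarDim Groth.Agent.Helper5.MaxPt
  Groth.Agent.Helper5.SubDim Groth.Agent.Helper5.StalkDict Groth.Agent.Helper5.OpenAt

set_option maxHeartbeats 1000000 in
/-- S14079: equidimensional components through the maximal points of the fibres give equidimensional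
components through all points. -/
theorem exists_equidim_component_of_max {X S : Scheme.{u}} (f : X ⟶ S) [LocallyOfFiniteType f]
    (h : ∀ x : X, (∀ x' : X, f.base x' = f.base x → x ∈ closure ({x'} : Set X) → x' = x) →
      ∃ W : TopologicalSpace.Closeds X, (W : Set X) ∈ irreducibleComponents (X : Type u) ∧
      ∃ w : ↥((Scheme.IdealSheafData.vanishingIdeal W).subscheme),
        (Scheme.IdealSheafData.vanishingIdeal W).subschemeι.base w = x ∧
        EGA43.IsEquidimAt ((Scheme.IdealSheafData.vanishingIdeal W).subschemeι ≫ f) w)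
    (x : X) :
    ∃ W : TopologicalSpace.Closeds X, (W : Set X) ∈ irreducibleComponents (X : Type u) ∧
      ∃ w : ↥((Scheme.IdealSheafData.vanishingIdeal W).subscheme),
        (Scheme.IdealSheafData.vanishingIdeal W).subschemeι.base w = x ∧
        EGA43.IsEquidimAt ((Scheme.IdealSheafData.vanishingIdeal W).subschemeι ≫ f) w := by
  obtain ⟨z, hfz, hzx, hzmax, hfd, -⟩ := exists_max_generization_fibreDimAt_eq f x
  obtain ⟨W, hW, wz, hwz, hEq⟩ := h z (fun x' hx' hcl =>
    hzmax x' (hx'.trans hfz) (specializes_iff_mem_closure.2 hcl))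
  refine ⟨W, hW, ?_⟩
  let I := Scheme.IdealSheafData.vanishingIdeal W
  let ι : I.subscheme ⟶ X := I.subschemeι
  let g : I.subscheme ⟶ S := ι ≫ f
  have hrange : Set.range ι = (W : Set X) := by
    rw [Scheme.IdealSheafData.range_subschemeι]; rfl
  subst hwz
  have hzW : ι wz ∈ (W : Set X) := by rw [← hrange]; exact ⟨wz, rfl⟩
  have hxW : x ∈ (W : Set X) := hzx.mem_closed W.2 hzW
  obtain ⟨wx, hwx⟩ : x ∈ Set.range ι := by rw [hrange]; exact hxW
  obtain ⟨ξ, hξ⟩ := QuasiSober.sober hW.1 W.2
  have hξdef : closure ({ξ} : Set X) = (W : Set X) := hξ.def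
  obtain ⟨ξT, hξT⟩ : ξ ∈ Set.range ι := by rw [hrange, ← hξdef]; exact subset_closure rfl
  have hξTgen : closure ({ξT} : Set ↥I.subscheme) = Set.univ := by
    rw [ι.isEmbedding.toIsInducing.closure_eq_preimage_closure_image, Set.image_singleton, hξT,
      hξdef]
    refine Set.eq_univ_of_forall fun t => ?_
    show ι t ∈ (W : Set X)
    rw [← hrange]; exact ⟨t, rfl⟩
  have hgen : ∀ t : ↥I.subscheme, ξT ⤳ t := fun t => by
    rw [specializes_iff_mem_closure, hξTgen]; trivial
  obtain ⟨e, U, hwzU, C1, C2⟩ := hEq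
  have hξU : ξT ∈ U := (hgen wz).mem_open U.2 hwzU
  have hξ0 : Order.coheight ξT = 0 := by
    rw [Order.coheight_eq_zero]
    intro b _
    exact Scheme.le_iff_specializes.2 (hgen b)
  have hξm : FlatMor.fibreDimAt g ξT = (e : WithBot ℕ∞) :=
    fibreDimAt_of_components g U e C2 ⟨ξT, hξU⟩
  have hzm : FlatMor.fibreDimAt g wz = (e : WithBot ℕ∞) :=
    fibreDimAt_of_components g U e C2 ⟨wz, hwzU⟩
  have hcomp : closure ({g ξT} : Set S) ∈ irreducibleComponents (S : Type u) := by
    have hmaxY : ∀ η : S, η ⤳ g ξT → η = g ξT := fun η hη =>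
      max_map_of_components g U (g wz) C1 ⟨ξT, hξU⟩ hξ0 η hη
    exact closure_singleton_mem_irreducibleComponents _ hmaxY
  -- fibre dimension of `f` at `z` equals that of `g` at `wz`
  have hmaxg : ∀ t : ↥I.subscheme, g t = g wz → t ⤳ wz → t = wz := by
    intro t ht hts
    have h1 : ι t ⤳ ι wz := hts.map ι.continuous
    have h2 := hzmax (ι t) (ht.trans hfz) h1
    exact ι.isEmbedding.injective h2
  obtain ⟨n, hn1, hn2⟩ := fibreDimAt_of_maximal f (ι wz) (coheight_asFiber_eq_zero f (ι wz)
    (fun t ht hts => hzmax t (ht.trans hfz) hts))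
  obtain ⟨n', hn'1, hn'2⟩ := fibreDimAt_of_maximal g wz (coheight_asFiber_eq_zero g wz hmaxg)
  have htr := trdeg_closedImmersion_comp ι f wz
  have hnn : n' = n := by
    rw [hn'1, hn1] at htr
    exact_mod_cast htr
  have hfz_eq : FlatMor.fibreDimAt f (ι wz) = (e : WithBot ℕ∞) := by
    rw [hn2, ← hnn, ← hn'2, hzm]
  have hwm : FlatMor.fibreDimAt g wx = (e : WithBot ℕ∞) := by
    apply le_antisymm
    · calc FlatMor.fibreDimAt g wx ≤ FlatMor.fibreDimAt f (ι wx) :=
            fibreDimAt_closedImmersion_le ι f wx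
        _ = FlatMor.fibreDimAt f x := by rw [hwx]
        _ = FlatMor.fibreDimAt f (ι wz) := hfd.symm
        _ = (e : WithBot ℕ∞) := hfz_eq
    · rw [← hξm]
      exact fibreDimAt_le_of_specializes g ξT wx (hgen wx)
  exact ⟨wx, hwx, isEquidimAt_of_generic' g wx ξT hξTgen e hcomp hξm hwm⟩

end Groth.Agent.Helper5.EqAt
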