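import Groth.Agent.Helper5.EqAt2

set_option autoImplicit false
universe u
open AlgebraicGeometry CategoryTheory TopologicalSpace

namespace Groth.Agent.Helper5.EqAt

open Groth.Agent.Helper5.LocDE Groth.Agent.Helper5.VarDim Groth.Agent.Helper5.MaxPt
  Groth.Agent.Helper5.SubDim Groth.Agent.Helper5.StalkDict

theorem equidim_congr (Y : Scheme.{u}) (y y' : Y) (h : y = y')
    (hc : EGA4.IsEquidim (Y.presheaf.stalk y)) : EGA4.IsEquidim (Y.presheaf.stalk y') := by
  subst h; exact hc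

/-- EGA IV 13.3.6 (S3438 form). -/
theorem dim_formula_of_isEquidimAt {X Y : Scheme.{u}} [IsLocallyNoetherian Y] (f : X ⟶ Y)
    [LocallyOfFiniteType f] (x : X) (hY : EGA4.IsEquidim (Y.presheaf.stalk (f x)))
    (hcat : CAlg.IsUniversallyCatenary (Y.presheaf.stalk (f x))) (h : EGA43.IsEquidimAt f x) :
    ringKrullDim (X.presheaf.stalk x) =
        ringKrullDim (Y.presheaf.stalk (f x)) +
          ringKrullDim ((f.fiber (f x)).presheaf.stalk (f.asFiber x)) := by
  have hX : IsLocallyNoetherian X := LocallyOfFiniteType.isLocallyNoetherian f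
  obtain ⟨e, U, hxU, C1, C2⟩ := h
  obtain ⟨z, hfz, hzx, hmaxz⟩ := exists_max_fibre_point f x
  have hzU : z ∈ U := hzx.mem_open U.2 hxU
  have hez : FlatMor.fibreDimAt f z = (e : WithBot ℕ∞) :=
    fibreDimAt_of_components f U e C2 ⟨z, hzU⟩
  have hex : FlatMor.fibreDimAt f x = (e : WithBot ℕ∞) :=
    fibreDimAt_of_components f U e C2 ⟨x, hxU⟩
  refine dim_formula_of_exists_max f x z hfz hzx hmaxz (hez.trans hex.symm) ?_
  obtain ⟨Nz, hNz1, hNz2⟩ := ringKrullDim_stalk_nat X z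
  obtain ⟨ξ, hzξ, hξ0⟩ := exists_max_above z (by rw [hNz2]; exact ENat.natCast_ne_top Nz)
  have hξz : ξ ⤳ z := Scheme.le_iff_specializes.1 hzξ
  have hξU : ξ ∈ U := hξz.mem_open U.2 hzU
  have hcatz := ucat_congr Y _ _ hfz.symm hcat
  obtain ⟨a, c, n, ha, hc, hn, hsum⟩ := icc_formula_of_equidim f U e C2 z ξ hzU hξz hξ0 hcatz
  have hmaxz' : ∀ w : X, f w = f z → w ⤳ z → w = z := fun w hw hwz => hmaxz w (hw.trans hfz) hwz
  have hc0 := coheight_asFiber_eq_zero f z hmaxz'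
  obtain ⟨tz, htz1, htz2⟩ := fibreDimAt_of_maximal f z hc0
  have q1 : tz = e := by
    rw [htz2] at hez
    exact_mod_cast hez
  have q2 : n = tz := by
    have := hn.symm.trans htz1
    exact_mod_cast this
  obtain ⟨D, hD1, hD2⟩ := ringKrullDim_stalk_nat Y (f z)
  have hfξmax : ∀ η : Y, η ⤳ f ξ → η = f ξ := fun η hη =>
    max_map_of_components f U (f x) C1 ⟨ξ, hξU⟩ hξ0 η hη
  have hYz : EGA4.IsEquidim (Y.presheaf.stalk (f z)) := equidim_congr Y _ _ hfz.symm hY
  have hcD := icc_base_eq_of_equidim Y (f z) (f ξ) (hξz.map f.continuous) hfξmax hYz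
  have q3 : c = D := by
    rw [hc, hD1] at hcD
    exact_mod_cast hcD
  have q4 : a ≤ Nz := by
    have h1 := krullDim_Icc_le_coheight z ξ
    rw [ha, hNz2] at h1
    exact_mod_cast h1
  have q5 : Nz ≤ D := by
    have h1 := Groth.Agent.Helper5.DimIneq.stalk_dim_le f z
    rw [hNz1, hD1, ringKrullDim_stalk_eq_coheight, hc0] at h1
    have h2 : (Nz : WithBot ℕ∞) ≤ ((D + 0 : ℕ) : WithBot ℕ∞) := by exact_mod_cast h1
    exact_mod_cast h2
  rw [hNz1, hD1]
  have : Nz = D := by omega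
  rw [this]

/-- EGA IV 13.3.6 (S3396 form). -/
theorem isEquidim_stalk_of_isEquidimAt {X Y : Scheme.{u}} [IsLocallyNoetherian Y] (f : X ⟶ Y)
    [LocallyOfFiniteType f] (x : X) (h : EGA43.IsEquidimAt f x)
    (hcat : CAlg.IsUniversallyCatenary (Y.presheaf.stalk (f x)))
    (hY : EGA4.IsEquidim (Y.presheaf.stalk (f x))) :
    EGA4.IsEquidim (X.presheaf.stalk x) := by
  intro 𝔭 h𝔭
  have hB := dim_formula_of_isEquidimAt f x hY hcat h
  obtain ⟨e, U, hxU, C1, C2⟩ := h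
  let p : ↥(Spec (X.presheaf.stalk x)) := ⟨𝔭, h𝔭.1.1⟩
  let ξ : X := X.fromSpecStalk x p
  have hξx : ξ ⤳ x := fromSpecStalk_specializes x p
  have hξ0 : Order.coheight ξ = 0 := coheight_of_mem_minimalPrimes x p h𝔭
  have hξU : ξ ∈ U := hξx.mem_open U.2 hxU
  obtain ⟨a, c, n, ha, hc, hn, hsum⟩ := icc_formula_of_equidim f U e C2 x ξ hxU hξx hξ0 hcat
  have hfξmax : ∀ η : Y, η ⤳ f ξ → η = f ξ := fun η hη =>
    max_map_of_components f U (f x) C1 ⟨ξ, hξU⟩ hξ0 η hη
  have hcD := icc_base_eq_of_equidim Y (f x) (f ξ) (hξx.map f.continuous) hfξmax hY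
  obtain ⟨D, hD1, hD2⟩ := ringKrullDim_stalk_nat Y (f x)
  obtain ⟨k, n', hk1, hk2, hn', hfd⟩ := fibreDimAt_eq f x
  have hex : FlatMor.fibreDimAt f x = (e : WithBot ℕ∞) :=
    fibreDimAt_of_components f U e C2 ⟨x, hxU⟩
  have q1 : e = k + n' := by
    rw [hfd] at hex
    exact_mod_cast hex.symm
  have q2 : n = n' := by
    have := hn.symm.trans hn'
    exact_mod_cast this
  have q3 : c = D := by
    rw [hc, hD1] at hcD
    exact_mod_cast hcD
  have h1 : ringKrullDim (X.presheaf.stalk x ⧸ 𝔭) = a := by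
    rw [← ha]; exact ringKrullDim_stalk_quotient x p
  rw [h1, hB, hD1, hk1]
  have : a = D + k := by omega
  rw [this]
  push_cast
  rfl

end Groth.Agent.Helper5.EqAt
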