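import Groth.Agent.Helper5.EqAt4

set_option autoImplicit false
universe u
open AlgebraicGeometry CategoryTheory TopologicalSpace

namespace Groth.Agent.Helper5.EqAt

open Groth.Agent.Helper5.LocDE Groth.Agent.Helper5.VarDim Groth.Agent.Helper5.MaxPt
  Groth.Agent.Helper5.SubDim Groth.Agent.Helper5.StalkDict

/-- EGA IV 13.3.8-type statement (S4943 form). -/
theorem codim_and_fibre_dim_of_isEquidimAt {X Y : Scheme.{u}} [IrreducibleSpace Y]
    [IsLocallyNoetherian Y] (f : X ⟶ Y) [LocallyOfFiniteType f] (x : X)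
    (hf : EGA43.IsEquidimAt f x)
    (X' : TopologicalSpace.Closeds X) (x' : X) (hx' : closure ({x'} : Set X) = (X' : Set X))
    (hx : x ∈ X') (n : ℕ)
    (hcodim : ringKrullDim (X.presheaf.stalk x') ≤ n)
    (hdim : FlatMor.localDim ↥((X' : Set X) ∩ f.base ⁻¹' {f.base x}) ⟨x, ⟨hx, rfl⟩⟩ + n ≤
      FlatMor.fibreDimAt f x) :
    ringKrullDim (X.presheaf.stalk x') = n ∧
      FlatMor.localDim ↥((X' : Set X) ∩ f.base ⁻¹' {f.base x}) ⟨x, ⟨hx, rfl⟩⟩ + n =
        FlatMor.fibreDimAt f x ∧
      ∀ w : ↥(Scheme.IdealSheafData.vanishingIdeal X').subscheme,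
        (Scheme.IdealSheafData.vanishingIdeal X').subschemeι.base w = x →
        EGA43.IsEquidimAt ((Scheme.IdealSheafData.vanishingIdeal X').subschemeι ≫ f) w := by
  obtain ⟨e, U, hxU, C1, C2⟩ := hf
  have hrange : Set.range (Scheme.IdealSheafData.vanishingIdeal X').subschemeι = (X' : Set X) := by
    rw [Scheme.IdealSheafData.range_subschemeι]; rfl
  obtain ⟨w, hw⟩ : x ∈ Set.range (Scheme.IdealSheafData.vanishingIdeal X').subschemeι := by
    rw [hrange]; exact hx
  obtain ⟨ξT, hξT⟩ : x' ∈ Set.range (Scheme.IdealSheafData.vanishingIdeal X').subschemeι := by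
    rw [hrange, ← hx']; exact subset_closure rfl
  have hξTgen : closure ({ξT} : Set ↥(Scheme.IdealSheafData.vanishingIdeal X').subscheme) =
      Set.univ := by
    rw [(Scheme.IdealSheafData.vanishingIdeal X').subschemeι.isEmbedding.toIsInducing.closure_eq_preimage_closure_image,
      Set.image_singleton, hξT, hx']
    refine Set.eq_univ_of_forall fun t => ?_
    show (Scheme.IdealSheafData.vanishingIdeal X').subschemeι t ∈ (X' : Set X)
    rw [← hrange]
    exact ⟨t, rfl⟩
  have he : FlatMor.fibreDimAt f x = (e : WithBot ℕ∞) :=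
    fibreDimAt_of_components f U e C2 ⟨x, hxU⟩
  subst hw
  have hmem : (Scheme.IdealSheafData.vanishingIdeal X').subschemeι w ∈
      Set.range (Scheme.IdealSheafData.vanishingIdeal X').subschemeι ∩
        f ⁻¹' {f ((Scheme.IdealSheafData.vanishingIdeal X').subschemeι w)} := ⟨⟨w, rfl⟩, rfl⟩
  have F1 := localDim_inter_fibre f (Scheme.IdealSheafData.vanishingIdeal X').subschemeι w hmem
  have F1' : FlatMor.localDim ↥((X' : Set X) ∩ f.base ⁻¹'
      {f.base ((Scheme.IdealSheafData.vanishingIdeal X').subschemeι w)})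
        ⟨(Scheme.IdealSheafData.vanishingIdeal X').subschemeι w, ⟨hx, rfl⟩⟩ =
      FlatMor.fibreDimAt ((Scheme.IdealSheafData.vanishingIdeal X').subschemeι ≫ f) w := by
    rw [← F1]
    exact localDim_congr_set _ _ (by rw [hrange]) _ _ _
  rw [F1', he] at hdim
  rw [← hξT] at hcodim
  obtain ⟨r1, r2, r3, m, r4, r5⟩ := codim_fibre_data f U e _ C1 C2
    (Scheme.IdealSheafData.vanishingIdeal X').subschemeι w ξT hxU hξTgen n hcodim hdim
  refine ⟨hξT ▸ r1, by rw [F1', he]; exact r2, ?_⟩
  intro w' hw'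
  have hww : w' = w :=
    (Scheme.IdealSheafData.vanishingIdeal X').subschemeι.isEmbedding.injective hw'
  subst hww
  exact isEquidimAt_of_generic _ w' ξT hξTgen m r3 r4 r5

end Groth.Agent.Helper5.EqAt
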