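import Groth.Agent.Helper5.OpenAt4

set_option autoImplicit false
universe u
open AlgebraicGeometry CategoryTheory TopologicalSpace

namespace Groth.Agent.Helper5.EqAt

open Groth.Agent.Helper5.LocDE Groth.Agent.Helper5.VarDim Groth.Agent.Helper5.MaxPt
  Groth.Agent.Helper5.SubDim Groth.Agent.Helper5.StalkDict

/-- (U1): near `x`, all maximal points of `X` are generisations of `x`. -/
theorem exists_open_max_specializes (X : Scheme.{u}) [IsLocallyNoetherian X] (x : X) :
    ∃ U : X.Opens, x ∈ U ∧ ∀ ξ : X, ξ ∈ U → Order.coheight ξ = 0 → ξ ⤳ x := by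
  obtain ⟨U, hUo, hxU, hU⟩ := LocDim.exists_good_open (Set.univ : Set X) x trivial
  refine ⟨⟨U, hUo⟩, hxU, ?_⟩
  intro ξ hξU hξ0
  by_contra hsp
  have hcomp : closure ({ξ} : Set X) ∈ irreducibleComponents X :=
    closure_singleton_mem_irreducibleComponents ξ (max_of_coheight_zero ξ hξ0)
  have hC := preimage_mem_irreducibleComponents hcomp
    (isOpen_univ (X := X)).isOpenEmbedding_subtypeVal
    ⟨ξ, subset_closure rfl, ⟨⟨ξ, trivial⟩, rfl⟩⟩
  have hx : (⟨x, trivial⟩ : ↥(Set.univ : Set X)) ∉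
      (Subtype.val ⁻¹' closure ({ξ} : Set X) : Set ↥(Set.univ : Set X)) := by
    intro h
    exact hsp (specializes_iff_mem_closure.2 h)
  have hdisj := hU _ hC hx
  exact Set.disjoint_left.1 hdisj (show (⟨ξ, trivial⟩ : ↥(Set.univ : Set X)) ∈ _ from hξU)
    (show (⟨ξ, trivial⟩ : ↥(Set.univ : Set X)) ∈ _ from subset_closure rfl)


/-- EGA IV 13.3.6 converse (S3397 form). -/
theorem isEquidimAt_of_isEquidim_stalk {X Y : Scheme.{u}} [IsLocallyNoetherian Y] (f : X ⟶ Y)
    [LocallyOfFiniteType f] (x : X) (hY : EGA4.IsEquidim (Y.presheaf.stalk (f x)))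
    (hX : EGA4.IsEquidim (X.presheaf.stalk x))
    (h : ringKrullDim (X.presheaf.stalk x) =
        ringKrullDim (Y.presheaf.stalk (f x)) +
          ringKrullDim ((f.fiber (f x)).presheaf.stalk (f.asFiber x))) :
    EGA43.IsEquidimAt f x := by
  have hXN : IsLocallyNoetherian X := LocallyOfFiniteType.isLocallyNoetherian f
  obtain ⟨D, hD1, hD2⟩ := ringKrullDim_stalk_nat Y (f x)
  obtain ⟨k, n, hk1, hk2, hn, hfd⟩ := fibreDimAt_eq f x
  obtain ⟨N, hN1, hN2⟩ := ringKrullDim_stalk_nat X x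
  have hN : N = D + k := by
    rw [hN1, hD1, hk1] at h
    exact_mod_cast h
  have key : ∀ ξ : X, ξ ⤳ x → Order.coheight ξ = 0 →
      FlatMor.fibreDimAt f ξ = ((k + n : ℕ) : WithBot ℕ∞) ∧ ∀ η : Y, η ⤳ f ξ → η = f ξ := by
    intro ξ hξx hξ0
    have ha := icc_base_eq_of_equidim X x ξ hξx (max_of_coheight_zero ξ hξ0) hX
    obtain ⟨a, c, n1, e1, ha1, hc1, hn1, he1, hineq⟩ := scheme_dimension_inequality_Icc f x ξ hξx
    obtain ⟨n0, hn0a, hn0b⟩ := fibreDimAt_of_maximal f ξ
      (coheight_asFiber_eq_zero f ξ (fun w _ hw => max_of_coheight_zero ξ hξ0 w hw))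
    have hchev := fibreDimAt_le_of_specializes f ξ x hξx
    have q1 : a = N := by
      rw [ha1, hN1] at ha
      exact_mod_cast ha
    have q2 : c ≤ D := by
      have h1 := krullDim_Icc_le_coheight (f x) (f ξ)
      rw [hc1, hD2] at h1
      exact_mod_cast h1
    have q3 : n1 = n := by
      have := hn1.symm.trans hn
      exact_mod_cast this
    have q4 : e1 = n0 := by
      have := he1.symm.trans hn0a
      exact_mod_cast this
    have q5 : n0 ≤ k + n := by
      rw [hn0b, hfd] at hchev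
      exact_mod_cast hchev
    have q6 : c = D := by omega
    have q7 : n0 = k + n := by omega
    refine ⟨by rw [hn0b, q7], ?_⟩
    intro η hη
    by_contra hne
    have hlt : f ξ < η := lt_of_le_not_ge (Scheme.le_iff_specializes.2 hη)
      (fun h => hne (hη.antisymm (Scheme.le_iff_specializes.1 h)).eq)
    have h1 := coheight_add_le_of_le_krullDim_Icc (f x) (f ξ) c (by rw [hc1])
    have h2 := Order.coheight_add_one_le hlt
    have h3 : (1 : ℕ∞) ≤ Order.coheight (f ξ) := le_trans le_add_self h2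
    have h4 : (1 : ℕ∞) + (c : ℕ∞) ≤ Order.coheight (f x) := le_trans (by gcongr) h1
    rw [hD2] at h4
    have h5 : 1 + c ≤ D := by exact_mod_cast h4
    omega
  obtain ⟨U1, hxU1, hU1⟩ := exists_open_max_specializes X x
  let U2 : X.Opens := ⟨{t | FlatMor.fibreDimAt f t ≤ ((k + n : ℕ) : WithBot ℕ∞)},
    Groth.Agent.Helper5.FibDim.isOpen_fibreDimAt_le f _⟩
  let U : X.Opens := U1 ⊓ U2
  refine ⟨k + n, U, ⟨hxU1, le_of_eq hfd⟩, ?_, ?_⟩
  · intro (Z : Set ↥(U : Scheme.{u})) (hZ : Z ∈ irreducibleComponents ↥(U : Scheme.{u}))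
    have hZcl : IsClosed Z := isClosed_of_mem_irreducibleComponents Z hZ
    obtain ⟨ξU, hξU⟩ := QuasiSober.sober hZ.1 hZcl
    have hξUdef : closure ({ξU} : Set ↥(U : Scheme.{u})) = Z := hξU.def
    have hmaxU : ∀ w : ↥(U : Scheme.{u}), w ⤳ ξU → w = ξU := fun w hw =>
      max_of_closure_mem_irreducibleComponents ξU (by rw [hξUdef]; exact hZ) w hw
    have hξ0 : Order.coheight (U.ι ξU) = 0 := by
      rw [Order.coheight_eq_zero]
      intro b hb
      have hbsp : b ⤳ U.ι ξU := Scheme.le_iff_specializes.1 hb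
      have hbU : b ∈ U := hbsp.mem_open U.2 ξU.2
      let bU : ↥(U : Scheme.{u}) := ⟨b, hbU⟩
      have hbb : U.ι bU = b := rfl
      have h1 : bU ⤳ ξU := by
        rw [← U.ι.isEmbedding.toIsInducing.specializes_iff, hbb]; exact hbsp
      have h2 := hmaxU _ h1
      have h3 : b = U.ι ξU := by rw [← h2, hbb]
      rw [h3]
    have hξx : U.ι ξU ⤳ x := hU1 _ ξU.2.1 hξ0
    obtain ⟨-, hmaxf⟩ := key _ hξx hξ0
    refine ⟨closure {f (U.ι ξU)}, closure_singleton_mem_irreducibleComponents _ hmaxf,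
      specializes_iff_mem_closure.1 (hξx.map f.continuous), ?_⟩
    rw [← hξUdef]
    apply subset_antisymm
    · refine closure_minimal ?_ isClosed_closure
      have := image_closure_subset_closure_image (s := ({ξU} : Set ↥(U : Scheme.{u})))
        (U.ι ≫ f).continuous
      rw [Set.image_singleton] at this
      exact this
    · refine closure_mono ?_
      rw [Set.singleton_subset_iff]
      exact ⟨ξU, subset_closure rfl, rfl⟩
  · intro x' Z hZ
    obtain ⟨t₀, -, hdimZ⟩ := dim_component_fibre_eq (U.ι ≫ f) _ Z hZ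
    rw [hdimZ, fibreDimAt_open_restrict f U t₀]
    apply le_antisymm
    · exact t₀.2.2
    · obtain ⟨Nt, -, hNt2⟩ := ringKrullDim_stalk_nat X (U.ι t₀)
      obtain ⟨ξ, htξ, hξ0⟩ := exists_max_above (U.ι t₀)
        (by rw [hNt2]; exact ENat.natCast_ne_top Nt)
      have hξt : ξ ⤳ U.ι t₀ := Scheme.le_iff_specializes.1 htξ
      have hξU1 : ξ ∈ U1 := hξt.mem_open U1.2 t₀.2.1
      obtain ⟨hfdξ, -⟩ := key ξ (hU1 ξ hξU1 hξ0) hξ0
      rw [← hfdξ]
      exact fibreDimAt_le_of_specializes f ξ _ hξt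

end Groth.Agent.Helper5.EqAt
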