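import Groth.Agent.Helper5.EqAt7

set_option autoImplicit false
universe u
open AlgebraicGeometry CategoryTheory TopologicalSpace

namespace Groth.Agent.Helper5.EqAt

open Groth.Agent.Helper5.LocDE Groth.Agent.Helper5.VarDim Groth.Agent.Helper5.MaxPt
  Groth.Agent.Helper5.SubDim Groth.Agent.Helper5.StalkDict Groth.Agent.Helper5.OpenAt

/-- (⇐) of the component criterion for equidimensionality (S3456). -/
theorem isEquidimAt_of_criterion {X Y : Scheme.{u}} [IsLocallyNoetherian Y] (f : X ⟶ Y)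
    [LocallyOfFiniteType f] (x : X) (e : ℕ)
    (hc : ∀ Xj ∈ irreducibleComponents (X : Type u), ∀ hx : x ∈ Xj,
        closure (f.base '' Xj) ∈ irreducibleComponents (Y : Type u) ∧
        (∀ η : Y, closure ({η} : Set Y) = closure (f.base '' Xj) →
          topologicalKrullDim ↥(Xj ∩ f.base ⁻¹' {η}) = e) ∧
        FlatMor.localDim ↥(Xj ∩ f.base ⁻¹' {f.base x})
          ⟨x, ⟨hx, Set.mem_singleton (f.base x)⟩⟩ = e) :
    EGA43.IsEquidimAt f x := by
  have hXN : IsLocallyNoetherian X := LocallyOfFiniteType.isLocallyNoetherian f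
  have hclo : ∀ ξ : X, closure (f.base '' closure ({ξ} : Set X)) = closure ({f ξ} : Set Y) := by
    intro ξ
    apply subset_antisymm
    · refine closure_minimal ?_ isClosed_closure
      have := image_closure_subset_closure_image (s := ({ξ} : Set X)) f.continuous
      rw [Set.image_singleton] at this
      exact this
    · refine closure_mono ?_
      rw [Set.singleton_subset_iff]
      exact ⟨ξ, subset_closure rfl, rfl⟩
  refine isEquidimAt_of_key f x e ?_ ?_
  · obtain ⟨z, hfz, hzx, hmaxz, hfdz, tz, htz1, htz2⟩ := exists_max_generization_fibreDimAt_eq f x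
    obtain ⟨Nz, -, hNz2⟩ := ringKrullDim_stalk_nat X z
    obtain ⟨ξ, hzξ, hξ0⟩ := exists_max_above z (by rw [hNz2]; exact ENat.natCast_ne_top Nz)
    have hξz : ξ ⤳ z := Scheme.le_iff_specializes.1 hzξ
    have hξx : ξ ⤳ x := hξz.trans hzx
    have hXj : closure ({ξ} : Set X) ∈ irreducibleComponents X :=
      closure_singleton_mem_irreducibleComponents ξ (max_of_coheight_zero ξ hξ0)
    obtain ⟨-, -, h3⟩ := hc _ hXj (specializes_iff_mem_closure.1 hξx)
    have hmaxz' : ∀ t : X, f t = f z → t ⤳ z → t = z :=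
      fun t ht hsp => hmaxz t (ht.trans hfz) hsp
    have hζ : z ∈ closure ({ξ} : Set X) ∩ f.base ⁻¹' {f z} :=
      ⟨specializes_iff_mem_closure.1 hξz, rfl⟩
    obtain ⟨n3, hn3a, hn3b⟩ := localDim_closure_inter_fibre_eq f ξ z hξz hmaxz' hζ
    have q1 : n3 = tz := by
      have := hn3a.symm.trans htz1
      exact_mod_cast this
    have hζ' : z ∈ closure ({ξ} : Set X) ∩ f.base ⁻¹' {f.base x} :=
      ⟨specializes_iff_mem_closure.1 hξz, hfz⟩
    have h4 : FlatMor.localDim ↥(closure ({ξ} : Set X) ∩ f.base ⁻¹' {f.base x}) ⟨z, hζ'⟩ =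
        (n3 : WithBot ℕ∞) := by
      rw [← hn3b]
      exact localDim_congr_set _ _ (by rw [hfz]) z _ _
    have hsp : (⟨z, hζ'⟩ : ↥(closure ({ξ} : Set X) ∩ f.base ⁻¹' {f.base x})) ⤳
        ⟨x, ⟨specializes_iff_mem_closure.1 hξx, Set.mem_singleton (f.base x)⟩⟩ := by
      rw [← Topology.IsInducing.subtypeVal.specializes_iff]
      exact hzx
    have h5 := localDim_mono_of_specializes hsp
    rw [h4, h3] at h5
    rw [← hfdz, htz2, ← q1]
    exact h5
  · intro ξ hξx hξ0
    have hXj : closure ({ξ} : Set X) ∈ irreducibleComponents X :=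
      closure_singleton_mem_irreducibleComponents ξ (max_of_coheight_zero ξ hξ0)
    obtain ⟨h1, h2, -⟩ := hc _ hXj (specializes_iff_mem_closure.1 hξx)
    rw [hclo ξ] at h1 h2
    have h4 := h2 (f ξ) rfl
    obtain ⟨n2, hn2a, hn2b⟩ := dim_closure_inter_fibre_eq_trdeg f ξ
    obtain ⟨n0, hn0a, hn0b⟩ := fibreDimAt_of_maximal f ξ
      (coheight_asFiber_eq_zero f ξ (fun w _ hw => max_of_coheight_zero ξ hξ0 w hw))
    have q2 : n2 = n0 := by
      have := hn2a.symm.trans hn0a
      exact_mod_cast this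
    refine ⟨?_, h1⟩
    rw [hn0b, ← q2, ← hn2b]
    exact h4

end Groth.Agent.Helper5.EqAt
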