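import Mathlib
import Groth.Prelude
import Groth.Agent.Helper5.EqDimA
import Groth.Agent.Helper5.FibTop8
import Groth.Agent.Helper5.KLem6
import Groth.Agent.Helper7.PC
import Groth.Agent.Helper2.LfpComp

/-!
# EqDimB: the fibrewise closure of a locally constructible set is locally constructible
-/

set_option autoImplicit false
set_option linter.unusedSectionVars false
set_option linter.unusedVariables false
set_option linter.style.haveILetI false
universe u
open AlgebraicGeometry CategoryTheory CategoryTheory.Limits TopologicalSpace Topology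

namespace Groth.Agent.Helper5.EqDim

open Groth.Agent.Helper5.FibTop

variable {X S : Scheme.{u}} (f : X ⟶ S)

/-- the fibrewise closure of a set -/
def fcl (T : Set X) : Set X := {x | x ∈ closure (T ∩ f.base ⁻¹' {f.base x})}

set_option maxHeartbeats 1600000 in
theorem fgen_eq_fcl (T : Set X) (hT : IsLocallyConstructible T) : fgen f T = fcl f T := by
  ext x
  constructor
  · rintro ⟨y, hyT, hyx, hf⟩
    have h1 : x ∈ closure ({y} : Set X) := specializes_iff_mem_closure.mp hyx
    refine closure_mono ?_ h1
    rintro _ rfl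
    exact ⟨hyT, hf⟩
  · intro hx
    by_contra hno
    have hno' : ∀ y : X, y ⤳ x → f.base y = f.base x → y ∉ T :=
      fun y h1 h2 hyT => hno ⟨y, hyT, h1, h2⟩
    set ι := f.fiberι (f.base x) with hι
    have hE : IsLocallyConstructible (ι.base ⁻¹' Tᶜ) :=
      Groth.Agent.Helper7.PC.lc_preimage ι
        (Groth.Agent.Helper5.KLem.isLocallyConstructible_compl hT)
    have hnhds : (ι.base ⁻¹' Tᶜ) ∈ nhds (f.asFiber x) := by
      refine Groth.Agent.Helper5.KLem.mem_nhds_of_isLocallyConstructible _ hE _ ?_
      intro t ht
      have h1 : ι.base t ⤳ x := by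
        have := ht.map ι.continuous
        rwa [f.fiberι_asFiber] at this
      have h2 : f.base (ι.base t) = f.base x := by
        have : ι.base t ∈ Set.range ι.base := ⟨t, rfl⟩
        rw [hι, Scheme.Hom.range_fiberι] at this
        exact this
      exact hno' _ h1 h2
    have hemb : Topology.IsEmbedding ι.base := ι.isEmbedding
    rw [hemb.toIsInducing.nhds_eq_comap, Filter.mem_comap] at hnhds
    obtain ⟨O, hO, hOsub⟩ := hnhds
    rw [f.fiberι_asFiber] at hO
    have hx' : x ∈ closure (T ∩ f.base ⁻¹' {f.base x}) := hx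
    rw [mem_closure_iff_nhds] at hx'
    obtain ⟨y, hyO, hyT, hyf⟩ := hx' O hO
    have hr : y ∈ Set.range ι.base := by
      rw [hι, Scheme.Hom.range_fiberι]; exact hyf
    obtain ⟨t, rfl⟩ := hr
    exact hOsub hyO hyT

set_option maxHeartbeats 1600000 in
/-- the diagonal trick -/
theorem fcl_eq_diag (T : Set X) :
    fcl f T = {x | Set.range (pullback.diagonal f).base ∩ (pullback.snd f f).base ⁻¹' {x} ⊆
      closure ((pullback.fst f f).base ⁻¹' T ∩ (pullback.snd f f).base ⁻¹' {x})} := by
  have sq : IsPullback (pullback.fst f f) (pullback.snd f f) f f := IsPullback.of_hasPullback f f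
  ext x
  set φ := fibreMap sq.w x with hφ
  have hφc := continuous_fibreMap sq.w x
  have hφo := isOpenMap_fibreMap sq x
  have hΔ1 : (pullback.fst f f).base ((pullback.diagonal f).base x) = x := by
    rw [← Scheme.Hom.comp_apply, pullback.diagonal_fst]; rfl
  have hΔ2 : (pullback.snd f f).base ((pullback.diagonal f).base x) = x := by
    rw [← Scheme.Hom.comp_apply, pullback.diagonal_snd]; rfl
  let d : ↥((pullback.snd f f).base ⁻¹' {x}) := ⟨(pullback.diagonal f).base x, hΔ2⟩
  have hφd : (φ d).1 = x := hΔ1
  -- the condition on the right only concerns the point `d`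
  have hR : (Set.range (pullback.diagonal f).base ∩ (pullback.snd f f).base ⁻¹' {x} ⊆
      closure ((pullback.fst f f).base ⁻¹' T ∩ (pullback.snd f f).base ⁻¹' {x})) ↔
      d.1 ∈ closure ((pullback.fst f f).base ⁻¹' T ∩ (pullback.snd f f).base ⁻¹' {x}) := by
    constructor
    · intro h
      exact h ⟨⟨x, rfl⟩, hΔ2⟩
    · rintro h _ ⟨⟨y, rfl⟩, hy⟩
      have hyx : y = x := by
        have h1 : (pullback.snd f f).base ((pullback.diagonal f).base y) = y := by
          rw [← Scheme.Hom.comp_apply, pullback.diagonal_snd]; rfl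
        rw [← h1]
        exact hy
      rw [hyx]
      exact h
  show x ∈ closure (T ∩ f.base ⁻¹' {f.base x}) ↔ _
  rw [Set.mem_ofPred_eq, hR,
    ← mem_closure_subtype_iff ((pullback.snd f f).base ⁻¹' {x}) ((pullback.fst f f).base ⁻¹' T) d]
  have hpre : (Subtype.val ⁻¹' ((pullback.fst f f).base ⁻¹' T) :
      Set ↥((pullback.snd f f).base ⁻¹' {x})) =
      φ ⁻¹' (Subtype.val ⁻¹' T : Set ↥(f.base ⁻¹' {f.base x})) := rfl
  rw [hpre, ← hφo.preimage_closure_eq_closure_preimage hφc, Set.mem_preimage,
    mem_closure_subtype_iff (f.base ⁻¹' {f.base x}) T (φ d), hφd]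

set_option maxHeartbeats 1600000 in
theorem isLocallyConstructible_fcl_qcqs [LocallyOfFinitePresentation f] [QuasiCompact f]
    [QuasiSeparated f] (T : Set X) (hT : IsLocallyConstructible T) :
    IsLocallyConstructible (fcl f T) := by
  rw [fcl_eq_diag]
  haveI : LocallyOfFinitePresentation (pullback.diagonal f) := by
    refine Groth.Agent.Helper2.LfpComp.locallyOfFinitePresentation_of_comp (pullback.diagonal f)
      (pullback.snd f f) ?_ inferInstance
    rw [pullback.diagonal_snd]
    infer_instance
  have hZ' : IsLocallyConstructible (Set.range (pullback.diagonal f).base) := by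
    have := (pullback.diagonal f).isLocallyConstructible_image IsLocallyConstructible.univ
    rwa [Set.image_univ] at this
  have hZ : IsLocallyConstructible ((pullback.fst f f).base ⁻¹' T) :=
    Groth.Agent.Helper7.PC.lc_preimage _ hT
  exact s3427 (pullback.snd f f) _ _ hZ hZ'

end Groth.Agent.Helper5.EqDim
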