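import Groth.Agent.Helper5.GenDim5
import Groth.Agent.Helper5.EqAt10
import Mathlib

set_option autoImplicit false
universe u
open CategoryTheory CategoryTheory.Limits AlgebraicGeometry TopologicalSpace

namespace Groth.Agent.Helper5.GenDim

open Groth.Agent.Helper5.VarDim Groth.Agent.Helper5.BCMin Groth.Agent.Helper5.MaxPt
  Groth.Agent.Helper5.SubDim Groth.Agent.Helper5.EqAt

/-- The residue transcendence degree grows under generisation inside a fibre. -/
theorem resTrdeg_le_of_specializes_fibre {X S : Scheme.{u}} (f : X ⟶ S) [LocallyOfFiniteType f]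
    (ξ γ : X) (h : ξ ⤳ γ) (hf : f ξ = f γ) : Dual3.resTrdeg f γ ≤ Dual3.resTrdeg f ξ := by
  obtain ⟨n, hn1, hn2⟩ := dim_fibre_closure_point f γ
  obtain ⟨m, hm1, hm2⟩ := dim_fibre_closure_point f ξ
  have hsub : f ⁻¹' {f γ} ∩ closure ({γ} : Set X) ⊆ f ⁻¹' {f ξ} ∩ closure ({ξ} : Set X) := by
    rintro z ⟨hz1, hz2⟩
    refine ⟨?_, ?_⟩
    · show f z = f ξ
      rw [hf]; exact hz1
    · exact closure_minimal (Set.singleton_subset_iff.2 h.mem_closure) isClosed_closure hz2
  have := Groth.Agent.Helper5.FibDim.dim_subset_le hsub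
  rw [hn2, hm2] at this
  rw [hn1, hm1]
  have hnm : n ≤ m := by exact_mod_cast this
  exact_mod_cast hnm

/-- For a universally open morphism locally of finite type, every point is a specialisation of a
maximal point of the source lying over a maximal point of the base with residue transcendence
degree at least as big. -/
theorem exists_generic_resTrdeg_ge {X S : Scheme.{u}} (f : X ⟶ S) [LocallyOfFiniteType f]
    [UniversallyOpen f] (t : X) :
    ∃ ξ : X, ξ ⤳ t ∧ (∀ y : X, y ⤳ ξ → y = ξ) ∧ (∀ η : S, η ⤳ f ξ → η = f ξ) ∧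
      Dual3.resTrdeg f t ≤ Dual3.resTrdeg f ξ := by
  obtain ⟨s', hs's, hs'max⟩ := exists_max_generization (f t)
  obtain ⟨V, _, _, _, c, hc1, hc2⟩ :=
    Groth.Agent.Lead.ValSpec.exists_valuationRing_of_specializes hs's
  let pX : pullback f c ⟶ X := pullback.fst f c
  let f' : pullback f c ⟶ Spec (CommRingCat.of V) := pullback.snd f c
  have hsq : IsPullback pX f' f c := IsPullback.of_hasPullback f c
  have hlft' : LocallyOfFiniteType f' := inferInstanceAs (LocallyOfFiniteType (pullback.snd f c))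
  have huo' : UniversallyOpen f' := inferInstanceAs (UniversallyOpen (pullback.snd f c))
  let o : ↥(Spec (CommRingCat.of V)) := IsLocalRing.closedPoint V
  let η : ↥(Spec (CommRingCat.of V)) := (⊥ : PrimeSpectrum V)
  have hco : c o = f t := hc1
  have hcη : c η = s' := hc2
  have hηo : η ⤳ o :=
    (PrimeSpectrum.le_iff_specializes (⊥ : PrimeSpectrum V) (IsLocalRing.closedPoint V)).1 bot_le
  obtain ⟨ζ', hζ'1, hζ'2, hζ'3⟩ := exists_resTrdeg_eq_of_isPullback f c pX f' hsq t o hco
  have hgen : GeneralizingMap f'.base := Groth.Agent.Helper5.OpenGen.main f' f'.isOpenMap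
  obtain ⟨γ, hγ1, hγ2⟩ := hgen (show η ⤳ f' ζ' from hζ'2 ▸ hηo)
  have hV := resTrdeg_le_of_specializes_valuation f' γ ζ' hγ1 hγ2
  have hF1 := resTrdeg_le_of_isPullback f c pX f' hsq γ
  have hcomm : ∀ z : ↥(pullback f c), f (pX z) = c (f' z) := by
    intro z
    exact congrArg (fun ψ : pullback f c ⟶ S => ψ z) hsq.w
  have hγ₀t : pX γ ⤳ t := by
    have := hγ1.map pX.continuous
    rwa [hζ'1] at this
  have hfγ₀ : f (pX γ) = s' := by
    rw [hcomm, show f' γ = η from hγ2]; exact hcη
  obtain ⟨ξ, hξγ₀, hξmax⟩ := exists_max_generization (pX γ)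
  have hfξ : f ξ = s' := by
    have h1 : f ξ ⤳ f (pX γ) := hξγ₀.map f.continuous
    rw [hfγ₀] at h1
    exact hs'max _ h1
  refine ⟨ξ, hξγ₀.trans hγ₀t, hξmax, ?_, ?_⟩
  · intro η' hη'
    rw [hfξ] at hη' ⊢
    exact hs'max _ hη'
  · have h4 := resTrdeg_le_of_specializes_fibre f ξ (pX γ) hξγ₀ (hfξ.trans hfγ₀.symm)
    calc Dual3.resTrdeg f t = Dual3.resTrdeg f' ζ' := hζ'3.symm
      _ ≤ Dual3.resTrdeg f' γ := hV
      _ ≤ Dual3.resTrdeg f (pX γ) := hF1
      _ ≤ Dual3.resTrdeg f ξ := h4

set_option maxHeartbeats 1000000 in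
/-- S14075. -/
theorem exists_equidim_component_of_universallyOpen {X S : Scheme.{u}} (f : X ⟶ S)
    [LocallyOfFiniteType f] [UniversallyOpen f] (x : X) :
    ∃ W : TopologicalSpace.Closeds X, (W : Set X) ∈ irreducibleComponents (X : Type u) ∧
      ∃ w : ↥((Scheme.IdealSheafData.vanishingIdeal W).subscheme),
        (Scheme.IdealSheafData.vanishingIdeal W).subschemeι.base w = x ∧
        EGA43.IsEquidimAt ((Scheme.IdealSheafData.vanishingIdeal W).subschemeι ≫ f) w := by
  refine exists_equidim_component_of_max f ?_ x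
  intro z hzmax
  have hzmax' : ∀ t : X, f t = f z → t ⤳ z → t = z := fun t ht hts =>
    hzmax t ht (specializes_iff_mem_closure.1 hts)
  obtain ⟨ξ, hξz, hξmax, hfξmax, hle⟩ := exists_generic_resTrdeg_ge f z
  let W : TopologicalSpace.Closeds X := ⟨closure {ξ}, isClosed_closure⟩
  have hW : (W : Set X) ∈ irreducibleComponents (X : Type u) :=
    closure_singleton_mem_irreducibleComponents ξ hξmax
  refine ⟨W, hW, ?_⟩
  let I := Scheme.IdealSheafData.vanishingIdeal W
  let ι : I.subscheme ⟶ X := I.subschemeι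
  let g : I.subscheme ⟶ S := ι ≫ f
  have hrange : Set.range ι = (W : Set X) := by
    rw [Scheme.IdealSheafData.range_subschemeι]; rfl
  obtain ⟨wz, hwz⟩ : z ∈ Set.range ι := by rw [hrange]; exact hξz.mem_closure
  obtain ⟨ξT, hξT⟩ : ξ ∈ Set.range ι := by rw [hrange]; exact subset_closure rfl
  have hgen : ∀ t : ↥I.subscheme, ξT ⤳ t := by
    intro t
    rw [← ι.isEmbedding.toIsInducing.specializes_iff, hξT]
    have : ι t ∈ (W : Set X) := hrange ▸ Set.mem_range_self t
    exact specializes_iff_mem_closure.2 this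
  have hξTgen : closure ({ξT} : Set ↥I.subscheme) = Set.univ :=
    Set.eq_univ_of_forall fun t => (hgen t).mem_closure
  have hcomp : closure ({g ξT} : Set S) ∈ irreducibleComponents (S : Type u) := by
    refine closure_singleton_mem_irreducibleComponents _ ?_
    intro η hη
    have e : g ξT = f ξ := by
      show f (ι ξT) = f ξ
      rw [hξT]
    rw [e] at hη ⊢
    exact hfξmax η hη
  have hmaxξT : ∀ t : ↥I.subscheme, g t = g ξT → t ⤳ ξT → t = ξT := fun t _ hts =>
    (hts.antisymm (hgen t)).eq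
  obtain ⟨n', hn'1, hn'2⟩ := fibreDimAt_of_maximal g ξT (coheight_asFiber_eq_zero g ξT hmaxξT)
  obtain ⟨n, hn1, hn2⟩ := fibreDimAt_of_maximal f z (coheight_asFiber_eq_zero f z hzmax')
  have htr := trdeg_closedImmersion_comp ι f ξT
  have hnn : n ≤ n' := by
    have h1 : Dual3.resTrdeg f z = (n : Cardinal.{u}) := hn1
    have h2 : Dual3.resTrdeg f (ι ξT) = (n' : Cardinal.{u}) := htr.symm.trans hn'1
    rw [hξT] at h2
    rw [h1, h2] at hle
    exact_mod_cast hle
  have hwm : FlatMor.fibreDimAt g wz = (n' : WithBot ℕ∞) := by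
    apply le_antisymm
    · calc FlatMor.fibreDimAt g wz ≤ FlatMor.fibreDimAt f (ι wz) :=
            fibreDimAt_closedImmersion_le ι f wz
        _ = FlatMor.fibreDimAt f z := by rw [hwz]
        _ = (n : WithBot ℕ∞) := hn2
        _ ≤ (n' : WithBot ℕ∞) := by exact_mod_cast hnn
    · rw [← hn'2]
      exact fibreDimAt_le_of_specializes g ξT wz (hgen wz)
  exact ⟨wz, hwz, isEquidimAt_of_generic' g wz ξT hξTgen n' hcomp hn'2 hwm⟩

end Groth.Agent.Helper5.GenDim
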