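import Groth.Agent.Helper5.SecComp1
import Groth.Agent.Helper5.BCMin6
import Groth.Prelude.Def_FDesc
import Mathlib

set_option autoImplicit false
universe u
open CategoryTheory CategoryTheory.Limits AlgebraicGeometry TopologicalSpace

namespace Groth.Agent.Helper5.SecComp

open Groth.Agent.Helper5.VarDim Groth.Agent.Helper5.BCMin

/-- Geometric irreducibility (for one extension) gives irreducibility. -/
theorem irreducible_of_bc {X Y : Scheme.{u}} (f : X ⟶ Y) (y : Y) (K : Type u) [Field K]
    [Algebra (IsLocalRing.ResidueField (Y.presheaf.stalk y)) K] (C : Set X) (hC : C ⊆ f ⁻¹' {y})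
    (h : IsIrreducible ((FBase.bcπ (f.fiberToSpecResidueField y) K ≫ f.fiberι y).base ⁻¹' C)) :
    IsIrreducible C := by
  let q := FBase.bcπ (f.fiberToSpecResidueField y) K ≫ f.fiberι y
  have hsurj : Function.Surjective (FBase.bcπ (f.fiberToSpecResidueField y) K) := by
    have h1 : Surjective (Spec.map (CommRingCat.ofHom
        (algebraMap (IsLocalRing.ResidueField (Y.presheaf.stalk y)) K))) :=
      surjective_SpecMap_field _ _ _
    have h2 : Surjective (pullback.fst (f.fiberToSpecResidueField y) (Spec.map (CommRingCat.ofHom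
        (algebraMap (IsLocalRing.ResidueField (Y.presheaf.stalk y)) K)))) := inferInstance
    exact h2.surj
  have hrange : Set.range q = f ⁻¹' {y} := by
    have : Set.range q = f.fiberι y '' Set.range (FBase.bcπ (f.fiberToSpecResidueField y) K) := by
      ext z
      constructor
      · rintro ⟨a, rfl⟩
        exact ⟨_, ⟨a, rfl⟩, rfl⟩
      · rintro ⟨_, ⟨a, rfl⟩, rfl⟩
        exact ⟨a, rfl⟩
    rw [this, hsurj.range_eq, Set.image_univ, Scheme.Hom.range_fiberι]
  have himg : q '' (q ⁻¹' C) = C := by
    rw [Set.image_preimage_eq_inter_range, hrange]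
    exact Set.inter_eq_left.2 hC
  rw [← himg]
  exact h.image q q.continuous.continuousOn

theorem s4954 {X Y : Scheme.{u}} (f : X ⟶ Y) [LocallyOfFiniteType f] (g : Y ⟶ X)
    (hg : g ≫ f = 𝟙 Y)
    (hirr : ∀ y : Y, (∀ (K : Type u) [Field K]
      [Algebra (IsLocalRing.ResidueField (Y.presheaf.stalk y)) K],
        IsIrreducible ((FBase.bcπ (f.fiberToSpecResidueField y) K ≫ f.fiberι y).base ⁻¹'
          connectedComponentIn (f.base ⁻¹' {y}) (g.base y)))) :
    UpperSemicontinuous (fun y : Y =>
      topologicalKrullDim ↥(connectedComponentIn (f.base ⁻¹' {y}) (g.base y))) := by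
  have hfg : ∀ y : Y, f (g y) = y := fun y => congrArg (fun ψ : Y ⟶ Y => ψ y) hg
  have hirr' : ∀ y : Y, IsIrreducible (connectedComponentIn (f ⁻¹' {y}) (g y)) := by
    intro y
    exact irreducible_of_bc f y (IsLocalRing.ResidueField (Y.presheaf.stalk y)) _
      (connectedComponentIn_subset _ _) (hirr y _)
  have heq : (fun y : Y =>
      topologicalKrullDim ↥(connectedComponentIn (f.base ⁻¹' {y}) (g.base y))) =
      fun y : Y => FlatMor.fibreDimAt f (g y) :=
    funext fun y => dim_component_eq_fibreDimAt f y (g y) (hfg y) (hirr' y)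
  rw [heq]
  exact upperSemicontinuous_fibreDimAt_comp f g g.continuous

end Groth.Agent.Helper5.SecComp
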