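import Mathlib
import Groth.Prelude.Def_EGA43
import Groth.Agent.Helper5.PtOpen4
import Groth.Agent.Helper5.PtOpen5
import Groth.Agent.Helper5.GenLift3
import Groth.Agent.Helper5.GenLift

set_option autoImplicit false
universe u

namespace Groth.Agent.Helper5.PtOpen

open CategoryTheory CategoryTheory.Limits AlgebraicGeometry TopologicalSpace Topology

/-- the spectrum of a discrete valuation ring has two points -/
lemma dvr_eq_bot_of_ne_closedPoint (A : Type u) [CommRing A] [IsDomain A]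
    [IsDiscreteValuationRing A] (z : PrimeSpectrum A) (h : z ≠ IsLocalRing.closedPoint A) :
    z = ⟨⊥, Ideal.isPrime_bot⟩ := by
  by_contra hne
  apply h
  have h1 : z.asIdeal ≠ ⊥ := fun h0 => hne (PrimeSpectrum.ext h0)
  have h2 : z.asIdeal.IsMaximal := z.isPrime.isMaximal h1
  exact PrimeSpectrum.ext (IsLocalRing.eq_maximalIdeal h2)

lemma dvr_bot_ne_closedPoint (A : Type u) [CommRing A] [IsDomain A]
    [IsDiscreteValuationRing A] :
    (⟨⊥, Ideal.isPrime_bot⟩ : PrimeSpectrum A) ≠ IsLocalRing.closedPoint A := by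
  intro h
  have := congrArg PrimeSpectrum.asIdeal h
  exact IsDiscreteValuationRing.not_a_field A this.symm

lemma dvr_bot_specializes (A : Type u) [CommRing A] [IsDomain A] (z : PrimeSpectrum A) :
    (⟨⊥, Ideal.isPrime_bot⟩ : PrimeSpectrum A) ⤳ z := by
  rw [← PrimeSpectrum.le_iff_specializes, ← PrimeSpectrum.asIdeal_le_asIdeal]
  exact bot_le

/-- the discrete valuation ring lifting property at `x` -/
def DvrAt {X Y : Scheme.{u}} (f : X ⟶ Y) (x : X) : Prop :=
  ∀ (A : Type u) [CommRing A] [IsDomain A] [IsDiscreteValuationRing A]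
    (g : Spec (CommRingCat.of A) ⟶ Y), g.base (IsLocalRing.closedPoint A) = f.base x →
    ∀ x' : ↥(pullback f g), (pullback.fst f g).base x' = x →
      (pullback.snd f g).base x' = IsLocalRing.closedPoint A →
      ∃ z' : ↥(pullback f g), z' ⤳ x' ∧ (pullback.snd f g).base z' ≠ IsLocalRing.closedPoint A

lemma dvrAt_of_isUnivOpenAt {X Y : Scheme.{u}} (f : X ⟶ Y) (x : X)
    (h : EGA43.IsUnivOpenAt f x) : DvrAt f x := by
  intro A _ _ _ g _ x' hx' _
  have h1 := h _ g x' hx'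
  obtain ⟨z', hz', hz'2⟩ := GenLift.exists_generization_of_isOpenAt (pullback.snd f g) x' h1
    ⟨⊥, Ideal.isPrime_bot⟩ (dvr_bot_specializes A _)
  refine ⟨z', hz', ?_⟩
  change pullback.snd f g z' ≠ _
  rw [hz'2]
  exact dvr_bot_ne_closedPoint A

theorem isUnivOpenAt_of_dvrAt {X Y : Scheme.{u}} [IsLocallyNoetherian Y] (f : X ⟶ Y)
    [LocallyOfFiniteType f] (x : X) (h : DvrAt f x) : EGA43.IsUnivOpenAt f x := by
  have : LocallyOfFinitePresentation f :=
    LocallyOfFinitePresentation.iff_locallyOfFiniteType.mpr inferInstance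
  refine isUnivOpenAt_of_hypAt f x fun n _ w hw => ?_
  refine isOpenAt_of_lifting _ w fun t₁ ht₁ => ?_
  by_cases heq : t₁ = pullback.snd f (𝔸(ULift.{u} (Fin n); Y) ↘ Y) w
  · exact ⟨w, specializes_rfl, heq.symm⟩
  have : IsLocallyNoetherian 𝔸(ULift.{u} (Fin n); Y) :=
    LocallyOfFiniteType.isLocallyNoetherian (𝔸(ULift.{u} (Fin n); Y) ↘ Y)
  obtain ⟨A, _, _, _, φ, hφ0, hφ1⟩ :=
    GenLift.exists_dvr_spec 𝔸(ULift.{u} (Fin n); Y) t₁ _ ht₁ heq
  let π := 𝔸(ULift.{u} (Fin n); Y) ↘ Y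
  let ρ : pullback f (φ ≫ π) ⟶ pullback f π :=
    pullback.lift (pullback.fst _ _) (pullback.snd _ _ ≫ φ)
      (by rw [pullback.condition, Category.assoc])
  have hρ1 : ρ ≫ pullback.fst f π = pullback.fst f (φ ≫ π) := pullback.lift_fst _ _ _
  have hρ2 : ρ ≫ pullback.snd f π = pullback.snd f (φ ≫ π) ≫ φ := pullback.lift_snd _ _ _
  have sq : IsPullback ρ (pullback.snd f (φ ≫ π)) (pullback.snd f π) φ := by
    refine IsPullback.of_right ?_ hρ2 (IsPullback.of_hasPullback f π)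
    rw [pullback.lift_fst]
    exact IsPullback.of_hasPullback f (φ ≫ π)
  obtain ⟨x', hx'1, hx'2⟩ :=
    Scheme.exists_preimage_of_isPullback sq w (IsLocalRing.closedPoint A) hφ0.symm
  have hx'3 : pullback.fst f (φ ≫ π) x' = x := by
    rw [← hw, ← hx'1]
    exact (congrArg (fun ψ : _ ⟶ X => ψ x') hρ1).symm
  have hg0 : (φ ≫ π) (IsLocalRing.closedPoint A) = f x := by
    rw [Scheme.Hom.comp_apply, hφ0, ← hw]
    exact (congrArg (fun ψ : _ ⟶ Y => ψ w) pullback.condition).symm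
  obtain ⟨z', hz', hz'2⟩ := h A (φ ≫ π) hg0 x' hx'3 hx'2
  have hz'3 := dvr_eq_bot_of_ne_closedPoint A _ hz'2
  refine ⟨ρ z', ?_, ?_⟩
  · rw [← hx'1]
    exact hz'.map ρ.continuous
  · have : pullback.snd f π (ρ z') = φ (pullback.snd f (φ ≫ π) z') :=
      congrArg (fun ψ : pullback f (φ ≫ π) ⟶ 𝔸(ULift.{u} (Fin n); Y) => ψ z') hρ2
    rw [this]
    change φ ((pullback.snd f (φ ≫ π)).base z') = t₁
    rw [hz'3, hφ1]

/-- S2587 -/
theorem s2587 {X Y : Scheme.{u}} [IsLocallyNoetherian Y] (f : X ⟶ Y)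
    [LocallyOfFiniteType f] (x : X) :
    EGA43.IsUnivOpenAt f x ↔ DvrAt f x :=
  ⟨dvrAt_of_isUnivOpenAt f x, isUnivOpenAt_of_dvrAt f x⟩

end Groth.Agent.Helper5.PtOpen
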