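import Mathlib
import Groth.Prelude.Def_FDesc

set_option autoImplicit false
universe u
open CategoryTheory CategoryTheory.Limits AlgebraicGeometry TopologicalSpace

namespace Groth.Agent.Helper5.SecUO

/-- Geometric irreducibility of a subset of a fibre gives irreducibility of its preimage in the
fibres of an arbitrary base change. -/
theorem irreducible_fibre_preimage {X S X' S' : Scheme.{u}} (f : X ⟶ S) (c : S' ⟶ S)
    (pX : X' ⟶ X) (f' : X' ⟶ S') (hsq : IsPullback pX f' f c) (t : S') (C : Set X)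
    (h : ∀ (K : Type u) [Field K] [Algebra (IsLocalRing.ResidueField (S.presheaf.stalk (c t))) K],
      IsIrreducible ((FBase.bcπ (f.fiberToSpecResidueField (c t)) K ≫ f.fiberι (c t)).base ⁻¹' C)) :
    IsIrreducible (f' ⁻¹' {t} ∩ pX ⁻¹' C) := by
  letI : Algebra (IsLocalRing.ResidueField (S.presheaf.stalk (c t))) (S'.residueField t) :=
    (c.residueFieldMap t).hom.toAlgebra
  have h0 := h (S'.residueField t)
  let ρ : f'.fiber t ⟶ f.fiber (c t) :=
    pullback.map _ _ _ _ pX (Spec.map (c.residueFieldMap t)) c hsq.w.symm (by simp)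
  have sqρ : IsPullback ρ (f'.fiberToSpecResidueField t) (f.fiberToSpecResidueField (c t))
      (Spec.map (c.residueFieldMap t)) := isPullback_fiberToSpecResidueField_of_isPullback hsq t
  have hρι : ρ ≫ f.fiberι (c t) = f'.fiberι t ≫ pX := pullback.lift_fst _ _ _
  have sq2 : IsPullback (FBase.bcπ (f.fiberToSpecResidueField (c t)) (S'.residueField t))
      (FBase.bcStr (f.fiberToSpecResidueField (c t)) (S'.residueField t))
      (f.fiberToSpecResidueField (c t)) (Spec.map (c.residueFieldMap t)) :=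
    IsPullback.of_hasPullback _ _
  let e := sqρ.isoIsPullback _ _ sq2
  have he : e.hom ≫ FBase.bcπ (f.fiberToSpecResidueField (c t)) (S'.residueField t) = ρ :=
    IsPullback.isoIsPullback_hom_fst _ _ sqρ sq2
  set q := FBase.bcπ (f.fiberToSpecResidueField (c t)) (S'.residueField t) ≫ f.fiberι (c t)
    with hq
  have hcomp : e.hom ≫ q = f'.fiberι t ≫ pX := by
    rw [hq, ← Category.assoc, he, hρι]
  -- image under e.inv
  have h1 : IsIrreducible (e.inv '' (q ⁻¹' C)) := h0.image _ e.inv.continuous.continuousOn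
  have h2 : e.inv '' (q ⁻¹' C) = (f'.fiberι t ≫ pX) ⁻¹' C := by
    ext z
    constructor
    · rintro ⟨w, hw, rfl⟩
      show (f'.fiberι t ≫ pX) (e.inv w) ∈ C
      rw [← hcomp, ← Scheme.Hom.comp_apply, Iso.inv_hom_id_assoc]
      exact hw
    · intro hz
      refine ⟨e.hom z, ?_, ?_⟩
      · show q (e.hom z) ∈ C
        rw [← Scheme.Hom.comp_apply, hcomp]
        exact hz
      · rw [← Scheme.Hom.comp_apply, Iso.hom_inv_id]; rfl
  rw [h2] at h1
  have h3 : IsIrreducible (f'.fiberι t '' ((f'.fiberι t ≫ pX) ⁻¹' C)) :=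
    h1.image _ (f'.fiberι t).continuous.continuousOn
  have h4 : f'.fiberι t '' ((f'.fiberι t ≫ pX) ⁻¹' C) = f' ⁻¹' {t} ∩ pX ⁻¹' C := by
    rw [← Scheme.Hom.range_fiberι]
    ext z
    constructor
    · rintro ⟨w, hw, rfl⟩
      exact ⟨⟨w, rfl⟩, hw⟩
    · rintro ⟨⟨w, rfl⟩, hz⟩
      exact ⟨w, hz, rfl⟩
  rw [h4] at h3
  exact h3

end Groth.Agent.Helper5.SecUO
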