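import Mathlib
import Groth.Prelude.Def_FDesc
import Groth.Prelude.Def_EGA43
import Groth.Agent.Helper5.SecUO1
import Groth.Agent.Helper5.SecComp4
import Groth.Agent.Helper5.SecCompC
import Groth.Agent.Helper5.SecNbE
import Groth.Agent.Helper5.BCMin13
import Groth.Agent.Helper5.PtOpen1
import Groth.Agent.Helper5.PtOpen6

set_option autoImplicit false
universe u
open CategoryTheory CategoryTheory.Limits AlgebraicGeometry TopologicalSpace

namespace Groth.Agent.Helper5.SecUO

open Groth.Agent.Helper5.SecComp Groth.Agent.Helper5.SecNb Groth.Agent.Helper5.BCMin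
  Groth.Agent.Helper5.PtOpen

/-- The hypothesis of geometric irreducibility of the section components. -/
def GeomIrr {X Y : Scheme.{u}} (f : X ⟶ Y) (g : Y ⟶ X) : Prop :=
  ∀ (y : Y) (K : Type u) [Field K] [Algebra (IsLocalRing.ResidueField (Y.presheaf.stalk y)) K],
    IsIrreducible ((FBase.bcπ (f.fiberToSpecResidueField y) K ≫ f.fiberι y).base ⁻¹'
      (connectedComponentIn (f.base ⁻¹' {y}) (g.base y)))

theorem GeomIrr.irreducible {X Y : Scheme.{u}} {f : X ⟶ Y} {g : Y ⟶ X} (h : GeomIrr f g) (y : Y) :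
    IsIrreducible (connectedComponentIn (f ⁻¹' {y}) (g y)) :=
  irreducible_of_bc f y (IsLocalRing.ResidueField (Y.presheaf.stalk y)) _
    (connectedComponentIn_subset _ _) (h y _)

section bc

variable {X Y T : Scheme.{u}} (f : X ⟶ Y) (g : Y ⟶ X) (hg : g ≫ f = 𝟙 Y) (c : T ⟶ Y)

/-- the base change of the section -/
noncomputable def bcSec : T ⟶ pullback f c :=
  pullback.lift (c ≫ g) (𝟙 T) (by rw [Category.assoc, hg, Category.comp_id, Category.id_comp])

theorem bcSec_snd : bcSec f g hg c ≫ pullback.snd f c = 𝟙 T := pullback.lift_snd _ _ _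

theorem bcSec_fst : bcSec f g hg c ≫ pullback.fst f c = c ≫ g := pullback.lift_fst _ _ _

theorem sectionComponents_bc :
    MoreMor.sectionComponents (pullback.snd f c) (bcSec f g hg c) =
      (pullback.fst f c) ⁻¹' MoreMor.sectionComponents f g :=
  s1324 f g hg (pullback.snd f c) (pullback.fst f c) c (IsPullback.of_hasPullback f c)
    (bcSec f g hg c) (bcSec_snd f g hg c) (bcSec_fst f g hg c)

theorem ccIn_bc (t : T) :
    connectedComponentIn ((pullback.snd f c) ⁻¹' {t}) (bcSec f g hg c t) =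
      (pullback.snd f c) ⁻¹' {t} ∩
        (pullback.fst f c) ⁻¹' connectedComponentIn (f ⁻¹' {c t}) (g (c t)) := by
  have hcomm : ∀ z : ↥(pullback f c), f (pullback.fst f c z) = c (pullback.snd f c z) := fun z =>
    congrArg (fun ψ : pullback f c ⟶ Y => ψ z) pullback.condition
  ext z
  constructor
  · intro hz
    have hzt : pullback.snd f c z = t := by
      have h0 : z ∈ (pullback.snd f c) ⁻¹' {t} := connectedComponentIn_subset _ _ hz
      exact h0
    refine ⟨hzt, ?_⟩
    have h1 : z ∈ MoreMor.sectionComponents (pullback.snd f c) (bcSec f g hg c) :=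
      (mem_sectionComponents_iff _ _ hzt).2 hz
    rw [sectionComponents_bc] at h1
    have h2 : f (pullback.fst f c z) = c t := by rw [hcomm, hzt]
    exact (mem_sectionComponents_iff f g h2).1 h1
  · rintro ⟨hzt, hz⟩
    have hzt' : pullback.snd f c z = t := hzt
    have h2 : f (pullback.fst f c z) = c t := by rw [hcomm, hzt']
    have h1 : z ∈ MoreMor.sectionComponents (pullback.snd f c) (bcSec f g hg c) := by
      rw [sectionComponents_bc]
      exact (mem_sectionComponents_iff f g h2).2 hz
    exact (mem_sectionComponents_iff _ _ hzt').1 h1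

theorem GeomIrr.irreducible_bc (h : GeomIrr f g) (t : T) :
    IsIrreducible (connectedComponentIn ((pullback.snd f c) ⁻¹' {t}) (bcSec f g hg c t)) := by
  rw [ccIn_bc]
  exact irreducible_fibre_preimage f c (pullback.fst f c) (pullback.snd f c)
    (IsPullback.of_hasPullback f c) t _ (fun K _ _ => h (c t) K)

theorem dim_ccIn_bc [LocallyOfFiniteType f] (h : GeomIrr f g) (t : T) :
    topologicalKrullDim ↥(connectedComponentIn ((pullback.snd f c) ⁻¹' {t}) (bcSec f g hg c t)) =
      topologicalKrullDim ↥(connectedComponentIn (f ⁻¹' {c t}) (g (c t))) := by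
  have hfg : ∀ y : Y, f (g y) = y := fun y => congrArg (fun ψ : Y ⟶ Y => ψ y) hg
  have hps : ∀ t : T, pullback.snd f c (bcSec f g hg c t) = t := fun t =>
    congrArg (fun ψ : T ⟶ T => ψ t) (bcSec_snd f g hg c)
  have hpf : ∀ t : T, pullback.fst f c (bcSec f g hg c t) = g (c t) := fun t =>
    congrArg (fun ψ : T ⟶ X => ψ t) (bcSec_fst f g hg c)
  rw [dim_component_eq_fibreDimAt (pullback.snd f c) t _ (hps t) (h.irreducible_bc f g hg c t),
    dim_component_eq_fibreDimAt f (c t) _ (hfg _) (h.irreducible (c t)),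
    fibreDimAt_of_isPullback f c (pullback.fst f c) (pullback.snd f c)
      (IsPullback.of_hasPullback f c), hpf]

include hg in
/-- The key lifting property: when the dimension of the section components is constant near `y`,
generizations lift to generizations of points of the section component, after any base change
whose points are all generizations of one point over `y`. -/
theorem exists_generization_bc [LocallyOfFiniteType f] (h : GeomIrr f g) (y : Y)
    (hc : ∃ V ∈ nhds y, ∀ z ∈ V,
      topologicalKrullDim ↥(connectedComponentIn (f ⁻¹' {z}) (g z)) =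
        topologicalKrullDim ↥(connectedComponentIn (f ⁻¹' {y}) (g y)))
    (t₀ : T) (ht₀ : c t₀ = y) (hgen : ∀ t : T, t ⤳ t₀)
    (x' : ↥(pullback f c)) (hx'1 : pullback.fst f c x' ∈ connectedComponentIn (f ⁻¹' {y}) (g y))
    (hx'2 : pullback.snd f c x' = t₀) (t₁ : T) :
    ∃ z' : ↥(pullback f c), z' ⤳ x' ∧ pullback.snd f c z' = t₁ := by
  obtain ⟨V, hV, hconst⟩ := hc
  have hcV : ∀ t : T, c t ∈ V := by
    intro t
    obtain ⟨U, hUV, hUo, hyU⟩ := mem_nhds_iff.1 hV
    apply hUV
    have : c t ⤳ y := ht₀ ▸ (hgen t).map c.continuous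
    exact this.mem_open hUo hyU
  have hdim : ∀ t : T,
      topologicalKrullDim ↥(connectedComponentIn ((pullback.snd f c) ⁻¹' {t}) (bcSec f g hg c t)) =
      topologicalKrullDim ↥(connectedComponentIn ((pullback.snd f c) ⁻¹' {t₀})
        (bcSec f g hg c t₀)) := by
    intro t
    rw [dim_ccIn_bc f g hg c h t, dim_ccIn_bc f g hg c h t₀, hconst _ (hcV t), hconst _ (hcV t₀)]
  have key := (s3419 (pullback.snd f c) (bcSec f g hg c) (bcSec_snd f g hg c)
    (fun t => h.irreducible_bc f g hg c t)).2 t₀ ⟨Set.univ, Filter.univ_mem, fun t _ => hdim t⟩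
    t₁ (hgen t₁)
  have hx'mem : x' ∈ connectedComponentIn ((pullback.snd f c) ⁻¹' {t₀}) (bcSec f g hg c t₀) := by
    rw [ccIn_bc]
    refine ⟨hx'2, ?_⟩
    rw [Set.mem_preimage, ht₀]
    exact hx'1
  obtain ⟨γ, -, hγ1, hγ2⟩ := exists_generic_in_closure' (pullback.snd f c) t₁
    (connectedComponentIn ((pullback.snd f c) ⁻¹' {t₁}) (bcSec f g hg c t₁))
    (connectedComponentIn_subset _ _) x' (key hx'mem)
  exact ⟨γ, hγ2, hγ1⟩

end bc

/-- S3458. -/
theorem s3458 {X Y : Scheme.{u}} [IsLocallyNoetherian Y]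
    (f : X ⟶ Y) [LocallyOfFiniteType f] (g : Y ⟶ X) (hg : g ≫ f = 𝟙 Y)
    (hgi : GeomIrr f g) (y : Y)
    (hc : ∃ V ∈ nhds y, ∀ z ∈ V,
      topologicalKrullDim ↥(connectedComponentIn (f.base ⁻¹' {z}) (g.base z)) =
        topologicalKrullDim ↥(connectedComponentIn (f.base ⁻¹' {y}) (g.base y))) :
    ∀ x ∈ connectedComponentIn (f.base ⁻¹' {y}) (g.base y), EGA43.IsUnivOpenAt f x := by
  intro x hx
  have hfx : f x = y := by
    have h0 : x ∈ f ⁻¹' {y} := connectedComponentIn_subset _ _ hx
    exact h0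
  apply isUnivOpenAt_of_dvrAt
  intro A _ _ _ c hc0 x' hx'1 hx'2
  let o : ↥(Spec (CommRingCat.of A)) := IsLocalRing.closedPoint A
  have hgen : ∀ t : ↥(Spec (CommRingCat.of A)), t ⤳ o := by
    intro t
    exact (PrimeSpectrum.le_iff_specializes (t : PrimeSpectrum A) (IsLocalRing.closedPoint A)).1
      (IsLocalRing.le_maximalIdeal (PrimeSpectrum.isPrime t).ne_top)
  obtain ⟨z', hz'1, hz'2⟩ := exists_generization_bc f g hg c hgi y hc o
    (hc0.trans hfx) hgen x' (by rw [show pullback.fst f c x' = x from hx'1]; exact hx) hx'2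
    ⟨⊥, Ideal.isPrime_bot⟩
  refine ⟨z', hz'1, ?_⟩
  rw [show (pullback.snd f c).base z' = _ from hz'2]
  exact dvr_bot_ne_closedPoint A

end Groth.Agent.Helper5.SecUO
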