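import Mathlib
import Groth.Agent.Helper5.SecUO2
import Groth.Agent.Helper5.SecComp2
import Groth.Agent.Helper5.ConsLc1
import Groth.Agent.Helper5.FibBound
import Groth.Agent.Helper5.OpenAt3
import Groth.Agent.Helper5.PtOpen2
import Groth.Agent.Helper5.SecNbI
import Groth.Agent.Lead.ProConsLib3

set_option autoImplicit false
universe u
open CategoryTheory CategoryTheory.Limits AlgebraicGeometry TopologicalSpace

namespace Groth.Agent.Helper5.SecUO

open Groth.Agent.Helper5.SecComp Groth.Agent.Helper5.SecNb Groth.Agent.Helper5.BCMin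
  Groth.Agent.Helper5.PtOpen

/-- closed subsets of a locally Noetherian scheme are locally constructible -/
theorem isLocallyConstructible_of_isClosed {Y : Scheme.{u}} [IsLocallyNoetherian Y] (Z : Set Y)
    (hZ : IsClosed Z) : Topology.IsLocallyConstructible Z := by
  intro x
  obtain ⟨_, ⟨W, hW, rfl⟩, hxW, -⟩ :=
    (Y.isBasis_affineOpens).exists_subset_of_mem_open (Set.mem_univ x) isOpen_univ
  haveI : IsNoetherianRing Γ(Y, W) := IsLocallyNoetherian.component_noetherian ⟨W, hW⟩
  haveI : NoetherianSpace ↥(W : Set Y) := noetherianSpace_of_isAffineOpen W hW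
  refine ⟨W, W.2.mem_nhds hxW, W.2, ?_⟩
  exact Groth.Agent.Helper5.ConsLc.isConstructible_of_isClosed_noeth
    (hZ.preimage continuous_subtype_val)

/-- a closed subset of a locally Noetherian scheme containing all generizations of a point is a
neighbourhood of that point -/
theorem mem_interior_of_isClosed {Y : Scheme.{u}} [IsLocallyNoetherian Y] (Z : Set Y)
    (hZ : IsClosed Z) (y : Y) (h : ∀ y' : Y, y' ⤳ y → y' ∈ Z) : y ∈ interior Z :=
  (Groth.Agent.Lead.ProConsLib.mem_interior_iff_of_ind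
    (Groth.Agent.Lead.ProConsLib.ind_of_isLocallyConstructible
      (isLocallyConstructible_of_isClosed Z hZ)) y).2 h

theorem dim_nat {X Y : Scheme.{u}} (f : X ⟶ Y) [LocallyOfFiniteType f] (g : Y ⟶ X)
    (hg : g ≫ f = 𝟙 Y) (hgi : GeomIrr f g) (y : Y) :
    ∃ m : ℕ, topologicalKrullDim ↥(connectedComponentIn (f ⁻¹' {y}) (g y)) = (m : WithBot ℕ∞) := by
  have hfg : ∀ y : Y, f (g y) = y := fun y => congrArg (fun ψ : Y ⟶ Y => ψ y) hg
  rw [dim_component_eq_fibreDimAt f y _ (hfg y) (hgi.irreducible y)]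
  exact Groth.Agent.Helper5.SubDim.fibreDimAt_nat f (g y)

/-- If the dimension of the section component does not drop under generization of `y₀`, it is
constant near `y₀` (locally Noetherian base). -/
theorem dim_const_of_ge {X Y : Scheme.{u}} [IsLocallyNoetherian Y] (f : X ⟶ Y)
    [LocallyOfFiniteType f] (g : Y ⟶ X) (hg : g ≫ f = 𝟙 Y) (hgi : GeomIrr f g) (y₀ : Y)
    (hge : ∀ y' : Y, y' ⤳ y₀ →
      topologicalKrullDim ↥(connectedComponentIn (f ⁻¹' {y₀}) (g y₀)) ≤
        topologicalKrullDim ↥(connectedComponentIn (f ⁻¹' {y'}) (g y'))) :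
    ∃ V ∈ nhds y₀, ∀ z ∈ V,
      topologicalKrullDim ↥(connectedComponentIn (f ⁻¹' {z}) (g z)) =
        topologicalKrullDim ↥(connectedComponentIn (f ⁻¹' {y₀}) (g y₀)) := by
  have husc := s4954 f g hg hgi
  rw [upperSemicontinuous_iff_isOpen_preimage] at husc
  obtain ⟨n, hn⟩ := dim_nat f g hg hgi y₀
  set F : Y → WithBot ℕ∞ := fun y =>
    topologicalKrullDim ↥(connectedComponentIn (f.base ⁻¹' {y}) (g.base y)) with hF
  have hn' : F y₀ = (n : WithBot ℕ∞) := hn
  have hN1 : IsOpen {y : Y | F y < ((n + 1 : ℕ) : WithBot ℕ∞)} := husc _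
  have hZc : IsClosed {y : Y | (n : WithBot ℕ∞) ≤ F y} := by
    rw [← isOpen_compl_iff]
    convert husc (n : WithBot ℕ∞) using 1
    ext y
    simp only [Set.mem_compl_iff, Set.mem_setOf_eq, not_le, Set.mem_preimage, Set.mem_Iio]
  have hint := mem_interior_of_isClosed _ hZc y₀ (fun y' hy' => by
    show (n : WithBot ℕ∞) ≤ F y'
    rw [← hn']
    exact hge y' hy')
  refine ⟨{y : Y | F y < ((n + 1 : ℕ) : WithBot ℕ∞)} ∩ interior {y : Y | (n : WithBot ℕ∞) ≤ F y},
    Filter.inter_mem (hN1.mem_nhds ?_) (isOpen_interior.mem_nhds hint), ?_⟩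
  · show F y₀ < _
    rw [hn']
    exact_mod_cast Nat.lt_succ_self n
  · rintro z ⟨hz1, hz2⟩
    have hz2' : z ∈ {y : Y | (n : WithBot ℕ∞) ≤ F y} := interior_subset hz2
    have hz2' : (n : WithBot ℕ∞) ≤ F z := hz2'
    have hz1' : F z < ((n + 1 : ℕ) : WithBot ℕ∞) := hz1
    obtain ⟨m, hm⟩ := dim_nat f g hg hgi z
    have hm' : F z = (m : WithBot ℕ∞) := hm
    show F z = F y₀
    rw [hn']
    rw [hm'] at hz1' hz2' ⊢
    have h1 : n ≤ m := by exact_mod_cast hz2'
    have h2 : m < n + 1 := by exact_mod_cast hz1'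
    have : m = n := by omega
    rw [this]

end Groth.Agent.Helper5.SecUO
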