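import Mathlib
import Groth.Agent.Helper5.SecUO3

set_option autoImplicit false
universe u
open CategoryTheory CategoryTheory.Limits AlgebraicGeometry TopologicalSpace

namespace Groth.Agent.Helper5.SecUO

open Groth.Agent.Helper5.SecComp Groth.Agent.Helper5.SecNb Groth.Agent.Helper5.BCMin
  Groth.Agent.Helper5.PtOpen

/-- the trace of the section components on a fibre -/
theorem sectionComponents_inter_fibre {X Y : Scheme.{u}} (f : X ⟶ Y) (g : Y ⟶ X) (y : Y) :
    MoreMor.sectionComponents f g ∩ f ⁻¹' {y} = connectedComponentIn (f ⁻¹' {y}) (g y) := by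
  ext z
  constructor
  · rintro ⟨hz1, hz2⟩
    exact (mem_sectionComponents_iff f g hz2).1 hz1
  · intro hz
    have hz2 : f z = y := by
      have h0 : z ∈ f ⁻¹' {y} := connectedComponentIn_subset _ _ hz
      exact h0
    exact ⟨(mem_sectionComponents_iff f g hz2).2 hz, hz2⟩

/-- Universal openness at the generic point of `X_{y₀}⁰` together with a neighbourhood of that
point inside `X⁰` bounds the dimension of the nearby section components from below. -/
theorem dim_le_of_isUnivOpenAt_generic {X Y : Scheme.{u}} (f : X ⟶ Y) [LocallyOfFiniteType f]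
    (g : Y ⟶ X) (hg : g ≫ f = 𝟙 Y) (hgi : GeomIrr f g) (y₀ : Y)
    (hUO : ∀ ξ ∈ connectedComponentIn (f ⁻¹' {y₀}) (g y₀),
      connectedComponentIn (f ⁻¹' {y₀}) (g y₀) ⊆ closure {ξ} → EGA43.IsUnivOpenAt f ξ)
    (U : X.Opens) (hU : (U : Set X) ⊆ MoreMor.sectionComponents f g)
    (hUm : ((U : Set X) ∩ connectedComponentIn (f ⁻¹' {y₀}) (g y₀)).Nonempty)
    (y' : Y) (hy' : y' ⤳ y₀) :
    topologicalKrullDim ↥(connectedComponentIn (f ⁻¹' {y₀}) (g y₀)) ≤
      topologicalKrullDim ↥(connectedComponentIn (f ⁻¹' {y'}) (g y')) := by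
  have hfg : ∀ y : Y, f (g y) = y := fun y => congrArg (fun ψ : Y ⟶ Y => ψ y) hg
  obtain ⟨z, hfz, hzx, hzmax, hfd, -⟩ :=
    Groth.Agent.Helper5.OpenAt.exists_max_generization_fibreDimAt_eq f (g y₀)
  have hz : f z = y₀ := hfz.trans (hfg y₀)
  have hzmax' : ∀ z' : X, f z' = y₀ → z' ⤳ z → z' = z := fun z' hz' hs =>
    hzmax z' (hz'.trans (hfg y₀).symm) hs
  have hCeq := component_eq_of_irreducible f y₀ (g y₀) z (hfg y₀) hz hzx hzmax' (hgi.irreducible y₀)
  have hzC : z ∈ connectedComponentIn (f ⁻¹' {y₀}) (g y₀) := by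
    rw [hCeq]; exact ⟨hz, subset_closure rfl⟩
  have hzU : z ∈ U := by
    obtain ⟨w, hwU, hwC⟩ := hUm
    rw [hCeq] at hwC
    have hzw : z ⤳ w := specializes_iff_mem_closure.2 hwC.2
    exact hzw.mem_open U.2 hwU
  have hsub : connectedComponentIn (f ⁻¹' {y₀}) (g y₀) ⊆ closure {z} := by
    rw [hCeq]; exact Set.inter_subset_right
  have h1 := le_dim_of_isUnivOpenAt f z (fun x' hx' hs => hzmax' x' (hx'.trans hz) hs)
    (hUO z hzC hsub) U hzU y' (hz ▸ hy')
  have h2 : topologicalKrullDim ↥((U : Set X) ∩ f ⁻¹' {y'}) ≤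
      topologicalKrullDim ↥(connectedComponentIn (f ⁻¹' {y'}) (g y')) := by
    apply Groth.Agent.Helper5.FibDim.dim_subset_le
    rw [← sectionComponents_inter_fibre]
    exact Set.inter_subset_inter_left _ hU
  rw [dim_component_eq_fibreDimAt f y₀ _ (hfg y₀) (hgi.irreducible y₀), ← hfd]
  exact h1.trans h2

/-- S4975. -/
theorem s4975 {X Y : Scheme.{u}}
    [IsLocallyNoetherian Y] (f : X ⟶ Y) [LocallyOfFiniteType f] (g : Y ⟶ X) (hg : g ≫ f = 𝟙 Y)
    (hint : ∀ y : Y, (∀ (K : Type u) [Field K] [Algebra (IsLocalRing.ResidueField (Y.presheaf.stalk y)) K],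
        IsIrreducible ((FBase.bcπ (f.fiberToSpecResidueField y) K ≫ f.fiberι y).base ⁻¹' connectedComponentIn (f.base ⁻¹' {y}) (g.base y)) ∧
        ∀ x' : ↥(FBase.bc (f.fiberToSpecResidueField y) K),
          (FBase.bcπ (f.fiberToSpecResidueField y) K ≫ f.fiberι y).base x' ∈ connectedComponentIn (f.base ⁻¹' {y}) (g.base y) →
          _root_.IsReduced ((FBase.bc (f.fiberToSpecResidueField y) K).presheaf.stalk x'))) :
    (IsLocallyConstant (fun y : Y => topologicalKrullDim ↥(connectedComponentIn (f.base ⁻¹' {y}) (g.base y))) ↔ ∀ x ∈ MoreMor.sectionComponents f g, EGA43.IsUnivOpenAt f x) ∧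
      (IsLocallyConstant (fun y : Y => topologicalKrullDim ↥(connectedComponentIn (f.base ⁻¹' {y}) (g.base y))) → IsOpen (MoreMor.sectionComponents f g)) := by
  have hfg : ∀ y : Y, f (g y) = y := fun y => congrArg (fun ψ : Y ⟶ Y => ψ y) hg
  have hgi : GeomIrr f g := fun y K _ _ => (hint y K).1
  have hred : ∀ x ∈ MoreMor.sectionComponents f g,
      FBase.IsGeomReducedAt (f.fiberToSpecResidueField (f x)) (f.asFiber x) := by
    intro x hx K _ _ x' hx'
    apply (hint (f x) K).2 x'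
    show (FBase.bcπ (f.fiberToSpecResidueField (f x)) K ≫ f.fiberι (f x)) x' ∈ _
    rw [Scheme.Hom.comp_apply, show (FBase.bcπ (f.fiberToSpecResidueField (f x)) K) x' = _ from hx',
      Scheme.Hom.fiberι_asFiber]
    exact hx
  have hLU : IsLocallyConstant (fun y : Y => topologicalKrullDim
      ↥(connectedComponentIn (f.base ⁻¹' {y}) (g.base y))) →
      ∀ x ∈ MoreMor.sectionComponents f g, EGA43.IsUnivOpenAt f x := by
    intro hlc x hx
    refine s3458 f g hg hgi (f x) ⟨_, (hlc.isOpen_fiber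
      (topologicalKrullDim ↥(connectedComponentIn (f.base ⁻¹' {f x}) (g.base (f x))))).mem_nhds rfl,
      fun z hz => hz⟩ x hx
  have hUopen : (∀ x ∈ MoreMor.sectionComponents f g, EGA43.IsUnivOpenAt f x) →
      IsOpen (MoreMor.sectionComponents f g) := by
    intro hUO
    rw [← interior_eq_iff_isOpen]
    apply Set.Subset.antisymm interior_subset
    intro x hx
    refine (s3420 f g hg).1 (f x) (fun x₁ hx₁ => ?_) hx
    have h1 : f x₁ = f x := by
      have h0 : x₁ ∈ f ⁻¹' {f x} := connectedComponentIn_subset _ _ hx₁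
      exact h0
    have hx₁' : x₁ ∈ MoreMor.sectionComponents f g := (mem_sectionComponents_iff f g h1).2 hx₁
    exact ⟨hUO x₁ hx₁', hred x₁ hx₁'⟩
  refine ⟨⟨hLU, ?_⟩, fun hlc => hUopen (hLU hlc)⟩
  intro hUO
  have hopen := hUopen hUO
  rw [IsLocallyConstant.iff_exists_open]
  intro y₀
  let U : X.Opens := ⟨MoreMor.sectionComponents f g, hopen⟩
  obtain ⟨V, hV, hconst⟩ := dim_const_of_ge f g hg hgi y₀ (fun y' hy' =>
    dim_le_of_isUnivOpenAt_generic f g hg hgi y₀
      (fun ξ hξ _ => hUO ξ ((mem_sectionComponents_iff f g (by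
        have h0 : ξ ∈ f ⁻¹' {y₀} := connectedComponentIn_subset _ _ hξ
        exact h0)).2 hξ))
      U (fun _ h => h)
      ⟨g y₀, (mem_sectionComponents_iff f g (hfg y₀)).2 (mem_connectedComponentIn (hfg y₀)),
        mem_connectedComponentIn (hfg y₀)⟩ y' hy')
  exact ⟨interior V, isOpen_interior, mem_interior_iff_mem_nhds.2 hV,
    fun z hz => hconst z (interior_subset hz)⟩

end Groth.Agent.Helper5.SecUO
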