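import Groth.Agent.Helper5.ValTr1
import Groth.Agent.Helper5.DimFormula8

set_option autoImplicit false
universe u
open CategoryTheory CategoryTheory.Limits AlgebraicGeometry TopologicalSpace

namespace Groth.Agent.Helper5.ValTr

/-- The order on primes of an affine open reflects specialisation. -/
theorem primeIdealOf_le {X : Scheme.{u}} {W : X.Opens} (hW : IsAffineOpen W) (a b : ↥W)
    (h : (a : X) ⤳ (b : X)) : (hW.primeIdealOf a).asIdeal ≤ (hW.primeIdealOf b).asIdeal := by
  have h1 : hW.fromSpec (hW.primeIdealOf a) ⤳ hW.fromSpec (hW.primeIdealOf b) := by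
    rw [hW.fromSpec_primeIdealOf, hW.fromSpec_primeIdealOf]; exact h
  have h2 : hW.primeIdealOf a ⤳ hW.primeIdealOf b :=
    hW.fromSpec.isEmbedding.toIsInducing.specializes_iff.1 h1
  exact (PrimeSpectrum.le_iff_specializes _ _).2 h2

/-- The generic point of an integral affine scheme corresponds to the zero ideal. -/
theorem primeIdealOf_generic_eq_bot {S : Scheme.{u}} [IrreducibleSpace S] {U : S.Opens}
    (hU : IsAffineOpen U) [IsDomain Γ(S, U)] (a : ↥U) (ha : (a : S) = genericPoint S) :
    (hU.primeIdealOf a).asIdeal = ⊥ := by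
  let b0 : PrimeSpectrum Γ(S, U) := ⟨⊥, Ideal.isPrime_bot⟩
  have hb0 : hU.fromSpec b0 ∈ U := by
    have : hU.fromSpec b0 ∈ Set.range hU.fromSpec := ⟨b0, rfl⟩
    rw [hU.range_fromSpec] at this
    exact this
  have h := primeIdealOf_le hU a ⟨hU.fromSpec b0, hb0⟩ (by
    show (a : S) ⤳ hU.fromSpec b0
    rw [ha]; exact genericPoint_specializes _)
  have h2 : hU.primeIdealOf ⟨hU.fromSpec b0, hb0⟩ = b0 := by
    apply hU.fromSpec.isEmbedding.injective
    rw [hU.fromSpec_primeIdealOf]
  rw [h2] at h
  exact le_bot_iff.1 h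


/-- A dominant morphism from an irreducible scheme maps the generic point to the generic point. -/
theorem map_genericPoint {X S : Scheme.{u}} [IrreducibleSpace X] [IrreducibleSpace S]
    (f : X ⟶ S) [IsDominant f] : f (genericPoint X) = genericPoint S := by
  have h1 : IsGenericPoint (f (genericPoint X)) (Set.univ : Set S) := by
    rw [isGenericPoint_def]
    have h2 : Set.range f ⊆ closure ({f (genericPoint X)} : Set S) := by
      rintro _ ⟨x, rfl⟩
      have : genericPoint X ⤳ x := genericPoint_specializes x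
      exact (specializes_iff_mem_closure.1 (this.map f.continuous))
    have h3 := f.denseRange.closure_eq
    exact Set.eq_univ_of_univ_subset (h3 ▸ closure_minimal h2 isClosed_closure)
  exact h1.eq (genericPoint_spec S)

/-- Over a valuation ring the transcendence degree of the residue field extension at any point is
at most that at the generic point. -/
theorem trdeg_le_generic {A : Type u} [CommRing A] [IsDomain A] [ValuationRing A]
    {X : Scheme.{u}} [IrreducibleSpace X] (f : X ⟶ Spec (CommRingCat.of A)) [IsDominant f]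
    (x : X) :
    @Algebra.trdeg ((Spec (CommRingCat.of A)).residueField (f x)) (X.residueField x) _ _
        (f.residueFieldMap x).hom.toAlgebra ≤
      @Algebra.trdeg ((Spec (CommRingCat.of A)).residueField (f (genericPoint X)))
        (X.residueField (genericPoint X)) _ _
        (f.residueFieldMap (genericPoint X)).hom.toAlgebra := by
  let S : Scheme.{u} := Spec (CommRingCat.of A)
  have hSirr : IrreducibleSpace ↥S := inferInstanceAs (IrreducibleSpace (PrimeSpectrum A))
  let U : S.Opens := ⊤
  have hU : IsAffineOpen U := isAffineOpen_top S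
  obtain ⟨W, hW, hx⟩ : ∃ W : X.Opens, IsAffineOpen W ∧ x ∈ W := by
    obtain ⟨_, ⟨W, hW, rfl⟩, hxW, -⟩ :=
      (X.isBasis_affineOpens).exists_subset_of_mem_open (Set.mem_univ x) isOpen_univ
    exact ⟨W, hW, hxW⟩
  let ξ := genericPoint X
  have hξW : ξ ∈ W :=
    ((genericPoint_spec X).mem_open_set_iff W.isOpen).2 ⟨x, trivial, hx⟩
  have e : W ≤ f ⁻¹ᵁ U := fun _ _ => trivial
  let eR : Γ(S, U) ≃+* A := (Scheme.ΓSpecIso (CommRingCat.of A)).commRingCatIsoToRingEquiv
  have hdom : IsDomain Γ(S, U) := eR.toMulEquiv.isDomain _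
  have hval : ValuationRing Γ(S, U) := by
    rw [ValuationRing.iff_dvd_total]
    refine ⟨fun a b => ?_⟩
    rcases ValuationRing.dvd_total (eR a) (eR b) with h | h
    · left
      have := map_dvd eR.symm h
      simpa using this
    · right
      have := map_dvd eR.symm h
      simpa using this
  let _ : Algebra Γ(S, U) Γ(X, W) := (f.appLE U W e).hom.toAlgebra
  let Q := hW.primeIdealOf ⟨x, hx⟩
  let Q₀ := hW.primeIdealOf ⟨ξ, hξW⟩
  let P := hU.primeIdealOf ⟨f x, e hx⟩
  let P₀ := hU.primeIdealOf ⟨f ξ, e hξW⟩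
  have hlo : Q.asIdeal.LiesOver P.asIdeal := by
    constructor
    rw [Ideal.under_def]
    exact (congrArg PrimeSpectrum.asIdeal
      (IsAffineOpen.comap_primeIdealOf_appLE U hU W hW e hx)).symm
  have hlo₀ : Q₀.asIdeal.LiesOver P₀.asIdeal := by
    constructor
    rw [Ideal.under_def]
    exact (congrArg PrimeSpectrum.asIdeal
      (IsAffineOpen.comap_primeIdealOf_appLE U hU W hW e hξW)).symm
  have hP₀ : P₀.asIdeal = ⊥ :=
    primeIdealOf_generic_eq_bot hU ⟨f ξ, e hξW⟩ (map_genericPoint f)
  have hlo₀' : Q₀.asIdeal.LiesOver (⊥ : Ideal Γ(S, U)) := hP₀ ▸ hlo₀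
  have hle : Q₀.asIdeal ≤ Q.asIdeal :=
    primeIdealOf_le hW ⟨ξ, hξW⟩ ⟨x, hx⟩ (genericPoint_specializes x)
  have hbot : (⊥ : Ideal Γ(S, U)).IsPrime := Ideal.isPrime_bot
  rw [Groth.Agent.Helper5.DimFormula.chart_trdeg f U hU W hW e x hx P.asIdeal Q.asIdeal rfl,
    Groth.Agent.Helper5.DimFormula.chart_trdeg f U hU W hW e ξ hξW (⊥ : Ideal Γ(S, U))
      Q₀.asIdeal rfl]
  exact trdeg_le_of_valuationRing Q₀.asIdeal Q.asIdeal hle P.asIdeal

end Groth.Agent.Helper5.ValTr
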