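import Groth.Agent.Helper5.GenDim2
import Groth.Agent.Helper5.ValTr2
import Groth.Agent.Helper5.EqAt1
import Mathlib

set_option autoImplicit false
universe u
open CategoryTheory CategoryTheory.Limits AlgebraicGeometry TopologicalSpace

namespace Groth.Agent.Helper5.GenDim

/-- (V) Over a valuation ring, the residue transcendence degree does not increase under
specialisation from a point over the generic point. -/
theorem resTrdeg_le_of_specializes_valuation {A : Type u} [CommRing A] [IsDomain A]
    [ValuationRing A] {X' : Scheme.{u}} (f' : X' ⟶ Spec (CommRingCat.of A)) (γ ζ' : X')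
    (h : γ ⤳ ζ') (hγ : f' γ = (⊥ : PrimeSpectrum A)) :
    Dual3.resTrdeg f' ζ' ≤ Dual3.resTrdeg f' γ := by
  let Zc : TopologicalSpace.Closeds ↥X' := ⟨closure {γ}, isClosed_closure⟩
  let I := Scheme.IdealSheafData.vanishingIdeal Zc
  let ι : I.subscheme ⟶ X' := I.subschemeι
  have hrange : Set.range ι = closure {γ} := by
    rw [Scheme.IdealSheafData.range_subschemeι]
    rfl
  obtain ⟨w₀, hw₀⟩ : γ ∈ Set.range ι := by rw [hrange]; exact subset_closure rfl
  obtain ⟨w, hw⟩ : ζ' ∈ Set.range ι := by rw [hrange]; exact h.mem_closure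
  have hgenw : ∀ w' : ↥I.subscheme, w₀ ⤳ w' := by
    intro w'
    rw [← ι.isEmbedding.toIsInducing.specializes_iff, hw₀]
    have : ι w' ∈ closure {γ} := hrange ▸ Set.mem_range_self w'
    exact specializes_iff_mem_closure.2 this
  have hcl : closure ({w₀} : Set ↥I.subscheme) = Set.univ :=
    Set.eq_univ_of_forall fun w' => (hgenw w').mem_closure
  have hirr : IrreducibleSpace ↥I.subscheme := by
    have h1 : IsIrreducible (closure ({w₀} : Set ↥I.subscheme)) := isIrreducible_singleton.closure
    rw [hcl] at h1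
    exact (irreducibleSpace_def _).2 h1
  have hgp : genericPoint ↥I.subscheme = w₀ := by
    have h1 : IsGenericPoint w₀ (Set.univ : Set ↥I.subscheme) := hcl
    exact (genericPoint_spec ↥I.subscheme).eq h1
  have hdom : IsDominant (ι ≫ f') := by
    refine ⟨?_⟩
    have hb : closure ({(⊥ : PrimeSpectrum A)} : Set (PrimeSpectrum A)) = Set.univ := by
      rw [PrimeSpectrum.closure_singleton]
      simp
    have hmem : (⊥ : PrimeSpectrum A) ∈ Set.range (ι ≫ f') := by
      refine ⟨w₀, ?_⟩
      show f' (ι w₀) = _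
      rw [hw₀, hγ]
    intro z
    have : z ∈ closure ({(⊥ : PrimeSpectrum A)} : Set (PrimeSpectrum A)) := hb ▸ Set.mem_univ z
    exact closure_mono (Set.singleton_subset_iff.2 hmem) this
  have h1 := Groth.Agent.Helper5.ValTr.trdeg_le_generic (ι ≫ f') w
  have h2 := Groth.Agent.Helper5.EqAt.trdeg_preimmersion_comp ι f' w
  have h3 := Groth.Agent.Helper5.EqAt.trdeg_preimmersion_comp ι f' (genericPoint ↥I.subscheme)
  have e2 : Dual3.resTrdeg f' (ι w) = Dual3.resTrdeg f' ζ' := by rw [hw]
  have e3 : Dual3.resTrdeg f' (ι (genericPoint ↥I.subscheme)) = Dual3.resTrdeg f' γ := by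
    rw [hgp, hw₀]
  rw [← e2, ← e3]
  unfold Dual3.resTrdeg
  rw [← h2, ← h3]
  exact h1

end Groth.Agent.Helper5.GenDim
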