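import Mathlib
import Groth.Prelude
import Groth.Agent.Helper5.SecNbC
import Groth.Agent.Helper5.SecNbG
import Groth.Agent.Helper5.SecComp1
import Groth.Agent.Helper5.GenDim3
import Groth.Agent.Helper5.GenDim2
import Groth.Agent.Helper5.GenLift
import Groth.Agent.Helper5.OpenAt3

set_option autoImplicit false
set_option linter.style.haveILetI false
universe u

namespace Groth.Agent.Helper5.SecUO

open AlgebraicGeometry CategoryTheory CategoryTheory.Limits TopologicalSpace Topology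
open Groth.Agent.Helper5.DvrFlat Groth.Agent.Helper5.SecNb Groth.Agent.Helper5.SecComp
  Groth.Agent.Helper5.GenDim

variable {R : Type u} [CommRing R] [IsDomain R] [IsDiscreteValuationRing R] {W : Scheme.{u}}
  (p : W ⟶ Spec (CommRingCat.of R))

set_option maxHeartbeats 1600000 in
/-- Over a discrete valuation ring: if the section component of the closed fibre is irreducible,
the morphism is open at its generic point and the closed fibre is reduced at the value of the
section, then the dimension of the section component of the closed fibre is at most that of the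
generic fibre. -/
theorem dvr_alpha [LocallyOfFiniteType p]
    (a : Spec (CommRingCat.of R) ⟶ W) (ha : a ≫ p = 𝟙 _)
    (s : ↥(Spec (CommRingCat.of R))) (hs : s = IsLocalRing.closedPoint R)
    (hirr : IsIrreducible (connectedComponentIn (p ⁻¹' {s}) (a s)))
    (hopen : ∀ ξ ∈ connectedComponentIn (p ⁻¹' {s}) (a s),
        connectedComponentIn (p ⁻¹' {s}) (a s) ⊆ closure {ξ} → EGA43.IsOpenAt p ξ)
    (hred : _root_.IsReduced ((p.fiber (p (a s))).presheaf.stalk (p.asFiber (a s)))) :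
    topologicalKrullDim ↥(connectedComponentIn (p ⁻¹' {s}) (a s)) ≤
    topologicalKrullDim ↥(connectedComponentIn (p ⁻¹' {gen R}) (a (gen R))) := by
  classical
  obtain ⟨t, ht⟩ := IsDiscreteValuationRing.exists_irreducible R
  haveI : IsLocallyNoetherian W := LocallyOfFiniteType.isLocallyNoetherian p
  have hpa : ∀ r, p (a r) = r := fun r => by
    rw [← Scheme.Hom.comp_apply, ha]; rfl
  -- the generic point of `Cs`
  obtain ⟨z, hfz, hzx, hzmax, -, -⟩ :=
    Groth.Agent.Helper5.OpenAt.exists_max_generization_fibreDimAt_eq p (a s)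
  have hz : p z = s := hfz.trans (hpa s)
  have hzmax' : ∀ z' : W, p z' = s → z' ⤳ z → z' = z := fun z' hz' hs =>
    hzmax z' (hz'.trans (hpa s).symm) hs
  have hCeq := component_eq_of_irreducible p s (a s) z (hpa s) hz hzx hzmax' hirr
  have hzC : z ∈ connectedComponentIn (p ⁻¹' {s}) (a s) := by rw [hCeq]; exact ⟨hz, subset_closure rfl⟩
  have hzopen : EGA43.IsOpenAt p z := hopen z hzC (by rw [hCeq]; exact Set.inter_subset_right)
  -- flatness at `a s`
  have hflat : (p.stalkMap (a s)).hom.Flat := by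
    apply s4948 p (a s) ((hpa s).trans hs) ?_ hred
    intro zf hzf hzfmax
    have hx_s : p (p.fiberι (p (a s)) zf) = s := by
      rw [Groth.Agent.Helper5.FibStalk.fiberι_apply, hpa]
    have hx_as : p.fiberι (p (a s)) zf ⤳ a s := by
      have h2 : zf ⤳ p.asFiber (a s) := specializes_iff_mem_closure.2 hzf
      have h3 := h2.map (p.fiberι (p (a s))).continuous
      rwa [Scheme.Hom.fiberι_asFiber] at h3
    have hxmax : ∀ w : W, p w = s → w ⤳ p.fiberι (p (a s)) zf → w = p.fiberι (p (a s)) zf := by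
      intro w hw hwx
      obtain ⟨w', rfl⟩ : w ∈ Set.range (p.fiberι (p (a s))) := by
        rw [Scheme.Hom.range_fiberι]
        show p w = p (a s)
        rw [hw, hpa]
      have h4 : w' ⤳ zf :=
        (p.fiberι (p (a s))).isEmbedding.toIsInducing.specializes_iff.1 hwx
      rw [hzfmax w' (specializes_iff_mem_closure.1 h4)]
    have hCeq' := component_eq_of_irreducible p s (a s) _ (hpa s) hx_s hx_as hxmax hirr
    apply hopen
    · rw [hCeq']; exact ⟨hx_s, subset_closure rfl⟩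
    · rw [hCeq']; exact Set.inter_subset_right
  -- an affine open neighbourhood of `a s`
  obtain ⟨W₁, hW₁, hasW₁⟩ : ∃ W₁ : W.Opens, IsAffineOpen W₁ ∧ a s ∈ W₁ := by
    obtain ⟨_, ⟨W₁, hW₁, rfl⟩, hasW₁, -⟩ :=
      (W.isBasis_affineOpens).exists_subset_of_mem_open (Set.mem_univ (a s)) isOpen_univ
    exact ⟨W₁, hW₁, hasW₁⟩
  haveI : IsAffine (W₁ : Scheme.{u}) := hW₁
  let p₁ : (W₁ : Scheme.{u}) ⟶ Spec (CommRingCat.of R) := W₁.ι ≫ p
  haveI : LocallyOfFiniteType p₁ := inferInstanceAs (LocallyOfFiniteType (W₁.ι ≫ p))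
  haveI : IsLocallyNoetherian (W₁ : Scheme.{u}) := LocallyOfFiniteType.isLocallyNoetherian p₁
  haveI : IsNoetherian (W₁ : Scheme.{u}) := { }
  let z₁ : ↥(W₁ : Scheme.{u}) := ⟨a s, hasW₁⟩
  have hιz₁ : W₁.ι z₁ = a s := rfl
  have hp₁z₁ : p₁ z₁ = s := by
    show (W₁.ι ≫ p) z₁ = s
    rw [Scheme.Hom.comp_apply, hιz₁, hpa]
  have hflat₁ : (p₁.stalkMap z₁).hom.Flat := by
    have h1 : p₁.stalkMap z₁ = p.stalkMap (W₁.ι z₁) ≫ W₁.ι.stalkMap z₁ :=
      Scheme.Hom.stalkMap_comp W₁.ι p z₁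
    have h2 : (p.stalkMap (W₁.ι z₁) ≫ W₁.ι.stalkMap z₁).hom.Flat := by
      rw [CommRingCat.hom_comp]
      refine RingHom.Flat.comp ?_ (RingHom.Flat.of_bijective
        (ConcreteCategory.bijective_of_isIso (W₁.ι.stalkMap z₁)))
      exact hflat
    rw [h1]
    exact h2
  have hred₁ : _root_.IsReduced ((p₁.fiber (p₁ z₁)).presheaf.stalk (p₁.asFiber z₁)) :=
    isReduced_fiber_stalk_of_isOpenImmersion W₁.ι p z₁ hred
  -- the generic fibre of `W₁` and the component of `a η`
  have haηW₁ : a (gen R) ∈ W₁ := by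
    have h1 : a (gen R) ⤳ a s := (gen_specializes s).map a.continuous
    exact h1.mem_open W₁.2 hasW₁
  let aη₁ : ↥(W₁ : Scheme.{u}) := ⟨a (gen R), haηW₁⟩
  let F : Set ↥(W₁ : Scheme.{u}) := p₁ ⁻¹' {gen R}
  have hF : IsOpen F := isOpen_gen.preimage p₁.continuous
  have haF : aη₁ ∈ F := by
    show (W₁.ι ≫ p) aη₁ = gen R
    rw [Scheme.Hom.comp_apply]
    exact hpa _
  let a₀ : ↥F := ⟨aη₁, haF⟩
  let K₀ : Set ↥F := connectedComponent a₀
  have hK₀op : IsOpen K₀ :=
    Groth.Agent.Helper1.FinCondTop.isOpen_connectedComponent_of_noetherian a₀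
  have hK₀cl : IsClosed K₀ := isClosed_connectedComponent
  let K : Set ↥(W₁ : Scheme.{u}) := Subtype.val '' K₀
  let K' : Set ↥(W₁ : Scheme.{u}) := Subtype.val '' K₀ᶜ
  have hK : IsOpen K := hF.isOpenMap_subtype_val K₀ hK₀op
  have hK' : IsOpen K' := hF.isOpenMap_subtype_val _ hK₀cl.isOpen_compl
  have hdisj : Disjoint K K' := by
    rw [Set.disjoint_iff]
    rintro _ ⟨⟨u, hu, rfl⟩, ⟨v, hv, huv⟩⟩
    have : v = u := Subtype.ext huv
    rw [this] at hv
    exact hv hu
  have hcov : p₁ ⁻¹' {gen R} = K ∪ K' := by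
    ext w
    constructor
    · intro hw
      by_cases h : (⟨w, hw⟩ : ↥F) ∈ K₀
      · exact Or.inl ⟨_, h, rfl⟩
      · exact Or.inr ⟨_, h, rfl⟩
    · rintro (⟨u, -, rfl⟩ | ⟨u, -, rfl⟩)
      · exact u.2
      · exact u.2
  have hspec₁ : ∀ u v : ↥(W₁ : Scheme.{u}), W₁.ι u ⤳ W₁.ι v → u ⤳ v := fun u v h =>
    W₁.ι.isEmbedding.toIsInducing.specializes_iff.1 h
  have hz₁K : z₁ ∈ closure K := by
    have h1 : aη₁ ⤳ z₁ := hspec₁ _ _ ((gen_specializes s).map a.continuous)
    exact h1.mem_closed isClosed_closure (subset_closure ⟨a₀, mem_connectedComponent, rfl⟩)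
  have hz₁K' : z₁ ∉ closure K' := fun h =>
    not_mem_closure_both p₁ ht z₁ (gmap_flat p₁ z₁ hflat₁) (sq_mem' p₁ ht z₁ (hp₁z₁.trans hs) hred₁) K K' hK hK'
      hdisj hcov hz₁K h
  -- the generization of `z` in the generic fibre
  obtain ⟨γ, hγz, hγη⟩ := Groth.Agent.Helper5.GenLift.exists_generization_of_isOpenAt p z hzopen
    (gen R) (hz ▸ gen_specializes s)
  have hzW₁ : z ∈ W₁ := hzx.mem_open W₁.2 hasW₁
  have hγW₁ : γ ∈ W₁ := hγz.mem_open W₁.2 hzW₁
  let γ₁ : ↥(W₁ : Scheme.{u}) := ⟨γ, hγW₁⟩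
  have hγ₁F : γ₁ ∈ F := by
    show (W₁.ι ≫ p) γ₁ = gen R
    rw [Scheme.Hom.comp_apply]
    exact hγη
  have hγ₁z₁ : γ₁ ⤳ z₁ := hspec₁ _ _ (hγz.trans hzx)
  have hγ₁K : γ₁ ∈ K := by
    have : γ₁ ∈ K ∪ K' := by rw [← hcov]; exact hγ₁F
    rcases this with h | h
    · exact h
    · exact absurd (hγ₁z₁.mem_closed isClosed_closure (subset_closure h)) hz₁K'
  have hγC : γ ∈ connectedComponentIn (p ⁻¹' {gen R}) (a (gen R)) := by
    obtain ⟨k, hk, hkγ⟩ := hγ₁K
    let j : ↥F → W := fun u => W₁.ι u.1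
    have hj : Continuous j := W₁.ι.continuous.comp continuous_subtype_val
    have hpre : _root_.IsPreconnected (j '' K₀) :=
      isPreconnected_connectedComponent.image j hj.continuousOn
    have hsub : j '' K₀ ⊆ p ⁻¹' {gen R} := by
      rintro _ ⟨u, -, rfl⟩
      have := u.2
      show p (W₁.ι u.1) = gen R
      rw [← Scheme.Hom.comp_apply]
      exact this
    have hmem : a (gen R) ∈ j '' K₀ := ⟨a₀, mem_connectedComponent, rfl⟩
    have := hpre.subset_connectedComponentIn hmem hsub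
    apply this
    refine ⟨k, hk, ?_⟩
    show W₁.ι k.1 = γ
    rw [hkγ]
    rfl
  -- dimensions
  obtain ⟨n, hn1, hn2⟩ := dim_fibre_closure_point p z
  obtain ⟨m, hm1, hm2⟩ := dim_fibre_closure_point p γ
  have hle := resTrdeg_le_of_specializes_valuation p γ z hγz hγη
  rw [hn1, hm1] at hle
  have hnm : n ≤ m := by exact_mod_cast hle
  have h1 : topologicalKrullDim ↥(connectedComponentIn (p ⁻¹' {s}) (a s)) = (n : WithBot ℕ∞) := by
    rw [hCeq, ← hz]; exact hn2
  have h2 : (m : WithBot ℕ∞) ≤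
      topologicalKrullDim ↥(connectedComponentIn (p ⁻¹' {gen R}) (a (gen R))) := by
    rw [← hm2]
    apply Groth.Agent.Helper5.FibDim.dim_subset_le
    rintro w ⟨hw1, hw2⟩
    rw [← inter_closure_component p (gen R) (a (gen R)) (hpa _)]
    refine ⟨?_, closure_mono (Set.singleton_subset_iff.2 hγC) hw2⟩
    show p w = gen R
    rw [show p w = p γ from hw1, hγη]
  rw [h1]
  exact le_trans (by exact_mod_cast hnm) h2

end Groth.Agent.Helper5.SecUO
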