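import Mathlib
import Groth.Agent.Helper5.SecUO4
import Groth.Agent.Helper5.SecUO5
import Groth.Agent.Helper5.SecNbD
import Groth.Agent.Helper5.GenDim6

set_option autoImplicit false
set_option linter.style.haveILetI false
universe u
open CategoryTheory CategoryTheory.Limits AlgebraicGeometry TopologicalSpace

namespace Groth.Agent.Helper5.SecUO

open Groth.Agent.Helper5.SecComp Groth.Agent.Helper5.SecNb Groth.Agent.Helper5.BCMin
  Groth.Agent.Helper5.PtOpen Groth.Agent.Helper5.GenDim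

set_option maxHeartbeats 800000 in
/-- case (α) -/
theorem dim_le_of_alpha {X Y : Scheme.{u}} [IsLocallyNoetherian Y] (f : X ⟶ Y)
    [LocallyOfFiniteType f] (g : Y ⟶ X) (hg : g ≫ f = 𝟙 Y) (hgi : GeomIrr f g) (y₀ : Y)
    (hopen : ∀ ξ ∈ connectedComponentIn (f ⁻¹' {y₀}) (g y₀),
      connectedComponentIn (f ⁻¹' {y₀}) (g y₀) ⊆ closure {ξ} → EGA43.IsUnivOpenAt f ξ)
    (hα : FBase.IsGeomReducedAt (f.fiberToSpecResidueField (f (g y₀))) (f.asFiber (g y₀)))
    (y' : Y) (hy' : y' ⤳ y₀) :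
    topologicalKrullDim ↥(connectedComponentIn (f ⁻¹' {y₀}) (g y₀)) ≤
      topologicalKrullDim ↥(connectedComponentIn (f ⁻¹' {y'}) (g y')) := by
  by_cases hne : y₀ = y'
  · subst hne; exact le_refl _
  obtain ⟨A, _, _, _, c, hc1, hc2⟩ := exists_dvr_through y₀ y' hy' hne
  subst hc1
  subst hc2
  let s : ↥(Spec (CommRingCat.of A)) := IsLocalRing.closedPoint A
  let p := pullback.snd f c
  let a := bcSec f g hg c
  have hpf : ∀ t, pullback.fst f c (a t) = g (c t) := fun t =>
    congrArg (fun ψ : Spec (CommRingCat.of A) ⟶ X => ψ t) (bcSec_fst f g hg c)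
  haveI : LocallyOfFiniteType p := inferInstanceAs (LocallyOfFiniteType (pullback.snd f c))
  have hcomm : ∀ z : ↥(pullback f c), f (pullback.fst f c z) = c (pullback.snd f c z) := fun z =>
    congrArg (fun ψ : pullback f c ⟶ Y => ψ z) pullback.condition
  have key := dvr_alpha p a (bcSec_snd f g hg c) s rfl (hgi.irreducible_bc f g hg c s) ?_ ?_
  · rw [dim_ccIn_bc f g hg c hgi s] at key
    have h2 := dim_ccIn_bc f g hg c hgi (gen A)
    rw [h2] at key
    exact key
  · intro ξ' hξ' hsub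
    have hξ'' := hξ'
    rw [ccIn_bc] at hξ''
    have h1 : pullback.fst f c ξ' ∈ connectedComponentIn (f ⁻¹' {c s}) (g (c s)) := hξ''.2
    have h2 : connectedComponentIn (f ⁻¹' {c s}) (g (c s)) ⊆ closure {pullback.fst f c ξ'} := by
      intro x hx
      have hfx : f x = c s := by
        have h0 : x ∈ f ⁻¹' {c s} := connectedComponentIn_subset _ _ hx
        exact h0
      obtain ⟨w, hw1, hw2⟩ := Scheme.exists_preimage_of_isPullback
        (IsPullback.of_hasPullback f c) x s hfx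
      have hwC : w ∈ connectedComponentIn (p ⁻¹' {s}) (a s) := by
        rw [ccIn_bc]
        refine ⟨hw2, ?_⟩
        rw [Set.mem_preimage]
        rw [show (pullback.fst f c) w = x from hw1]
        exact hx
      have h3 : ξ' ⤳ w := specializes_iff_mem_closure.2 (hsub hwC)
      have h4 := h3.map (pullback.fst f c).continuous
      rw [show (pullback.fst f c) w = x from hw1] at h4
      exact h4.mem_closure
    exact hopen _ h1 h2 _ c ξ' rfl
  · have h0 : FBase.IsGeomReducedAt (f.fiberToSpecResidueField (f (pullback.fst f c (a s))))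
        (f.asFiber (pullback.fst f c (a s))) := by
      rw [hpf s]
      exact hα
    exact isReduced_fiber_stalk_of_geomReducedAt f c (a s) h0

/-- upper semicontinuity along a specialization -/
theorem dim_le_of_specializes {X Y : Scheme.{u}} (f : X ⟶ Y) [LocallyOfFiniteType f] (g : Y ⟶ X)
    (hg : g ≫ f = 𝟙 Y) (hgi : GeomIrr f g) (y y' : Y) (h : y' ⤳ y) :
    topologicalKrullDim ↥(connectedComponentIn (f ⁻¹' {y'}) (g y')) ≤
      topologicalKrullDim ↥(connectedComponentIn (f ⁻¹' {y}) (g y)) := by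
  have husc := s4954 f g hg hgi
  rw [upperSemicontinuous_iff_isOpen_preimage] at husc
  by_contra hlt
  rw [not_le] at hlt
  have h1 := husc (topologicalKrullDim ↥(connectedComponentIn (f ⁻¹' {y'}) (g y')))
  have h2 : y' ∈ (fun y : Y => topologicalKrullDim
      ↥(connectedComponentIn (f.base ⁻¹' {y}) (g.base y))) ⁻¹'
      Set.Iio (topologicalKrullDim ↥(connectedComponentIn (f ⁻¹' {y'}) (g y'))) :=
    h.mem_open h1 hlt
  exact lt_irrefl _ (show topologicalKrullDim ↥(connectedComponentIn (f ⁻¹' {y'}) (g y')) <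
    topologicalKrullDim ↥(connectedComponentIn (f ⁻¹' {y'}) (g y')) from h2)

/-- case (β) -/
theorem dim_le_of_beta {X Y : Scheme.{u}} (f : X ⟶ Y)
    [LocallyOfFiniteType f] (g : Y ⟶ X) (hg : g ≫ f = 𝟙 Y) (hgi : GeomIrr f g) (y₀ : Y)
    (hopen : ∀ ξ ∈ connectedComponentIn (f ⁻¹' {y₀}) (g y₀),
      connectedComponentIn (f ⁻¹' {y₀}) (g y₀) ⊆ closure {ξ} → EGA43.IsUnivOpenAt f ξ)
    (hβ : ∀ y' : Y, y₀ ∈ closure {y'} → closure {y'} ∈ irreducibleComponents (Y : Type u) →
        topologicalKrullDim ↥(f.fiber y') =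
          topologicalKrullDim ↥(connectedComponentIn (f ⁻¹' {y'}) (g y')))
    (y'' : Y) (hy'' : y'' ⤳ y₀) :
    topologicalKrullDim ↥(connectedComponentIn (f ⁻¹' {y₀}) (g y₀)) ≤
      topologicalKrullDim ↥(connectedComponentIn (f ⁻¹' {y''}) (g y'')) := by
  have hfg : ∀ y : Y, f (g y) = y := fun y => congrArg (fun ψ : Y ⟶ Y => ψ y) hg
  obtain ⟨y', hy'y'', hy'max⟩ := Groth.Agent.Helper5.BCMin.exists_max_generization y''
  have hcomp : closure ({y'} : Set Y) ∈ irreducibleComponents (Y : Type u) :=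
    Groth.Agent.Helper5.EqAt.closure_singleton_mem_irreducibleComponents y' hy'max
  have hy'y₀ : y' ⤳ y₀ := hy'y''.trans hy''
  have h1 := hβ y' hy'y₀.mem_closure hcomp
  refine le_trans ?_ (dim_le_of_specializes f g hg hgi y'' y' hy'y'')
  rw [← h1]
  -- the generic point of the component over y₀
  obtain ⟨z, hfz, hzx, hzmax, hfd, -⟩ :=
    Groth.Agent.Helper5.OpenAt.exists_max_generization_fibreDimAt_eq f (g y₀)
  have hz : f z = y₀ := hfz.trans (hfg y₀)
  have hzmax' : ∀ z' : X, f z' = y₀ → z' ⤳ z → z' = z := fun z' hz' hs =>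
    hzmax z' (hz'.trans (hfg y₀).symm) hs
  have hCeq := component_eq_of_irreducible f y₀ (g y₀) z (hfg y₀) hz hzx hzmax' (hgi.irreducible y₀)
  have hzC : z ∈ connectedComponentIn (f ⁻¹' {y₀}) (g y₀) := by
    rw [hCeq]; exact ⟨hz, subset_closure rfl⟩
  have hsub : connectedComponentIn (f ⁻¹' {y₀}) (g y₀) ⊆ closure {z} := by
    rw [hCeq]; exact Set.inter_subset_right
  have h2 := le_dim_of_isUnivOpenAt f z (fun x' hx' hs => hzmax' x' (hx'.trans hz) hs)
    (hopen z hzC hsub) ⊤ trivial y' (hz ▸ hy'y₀)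
  rw [dim_component_eq_fibreDimAt f y₀ _ (hfg y₀) (hgi.irreducible y₀), ← hfd]
  refine h2.trans (le_of_eq ?_)
  have h3 : ((⊤ : X.Opens) : Set X) ∩ f ⁻¹' {y'} = f ⁻¹' {y'} := by
    rw [TopologicalSpace.Opens.coe_top, Set.univ_inter]
  rw [h3]
  exact (IsHomeomorph.topologicalKrullDim_eq _ (f.fiberHomeo y').isHomeomorph).symm

/-- S5927. -/
theorem s5927 {X Y : Scheme.{u}} [IsLocallyNoetherian Y] (f : X ⟶ Y)
    [LocallyOfFiniteType f] (g : Y ⟶ X) (hg : g ≫ f = 𝟙 Y)
    (hirr : GeomIrr f g)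
    (y₀ : Y) (hopen : ∀ ξ ∈ connectedComponentIn (f.base ⁻¹' {y₀}) (g.base y₀), connectedComponentIn (f.base ⁻¹' {y₀}) (g.base y₀) ⊆ closure {ξ} → EGA43.IsUnivOpenAt f ξ)
    (hαβ : FBase.IsGeomReducedAt (f.fiberToSpecResidueField (f.base (g.base y₀))) (f.asFiber (g.base y₀)) ∨
      (∀ y' : Y, y₀ ∈ closure {y'} → closure {y'} ∈ irreducibleComponents (Y : Type u) →
        topologicalKrullDim ↥(f.fiber y') = topologicalKrullDim ↥(connectedComponentIn (f.base ⁻¹' {y'}) (g.base y')))) :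
    (∃ V ∈ nhds y₀, ∀ z ∈ V, topologicalKrullDim ↥(connectedComponentIn (f.base ⁻¹' {z}) (g.base z)) = topologicalKrullDim ↥(connectedComponentIn (f.base ⁻¹' {y₀}) (g.base y₀))) := by
  apply dim_const_of_ge f g hg hirr y₀
  intro y' hy'
  rcases hαβ with hα | hβ
  · exact dim_le_of_alpha f g hg hirr y₀ hopen hα y' hy'
  · exact dim_le_of_beta f g hg hirr y₀ hopen hβ y' hy'

end Groth.Agent.Helper5.SecUO
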