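import Mathlib
import Groth.Agent.Helper5.SecUO6
import Groth.Agent.Helper5.ConsLc5
import Groth.Agent.Helper5.GenFib3
import Groth.Agent.Helper5.EqAt1
import Groth.Agent.Helper7.PC

set_option autoImplicit false
set_option linter.style.haveILetI false
universe u
open CategoryTheory CategoryTheory.Limits AlgebraicGeometry TopologicalSpace Topology

namespace Groth.Agent.Helper5.SecUO

open Groth.Agent.Helper5.SecComp Groth.Agent.Helper5.SecNb Groth.Agent.Helper5.BCMin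
  Groth.Agent.Helper5.PtOpen Groth.Agent.Helper5.GenDim

/-- the closed set of points of local fibre dimension at least `n` -/
theorem isClosed_le_fibreDimAt {X Y : Scheme.{u}} (f : X ⟶ Y) [LocallyOfFiniteType f] (n : ℕ) :
    IsClosed {x : X | (n : WithBot ℕ∞) ≤ FlatMor.fibreDimAt f x} := by
  rw [← isOpen_compl_iff]
  convert isOpen_fibreDimAt_lt f (n : WithBot ℕ∞) using 1
  ext x
  simp only [Set.mem_compl_iff, Set.mem_setOf_eq, not_le]

set_option maxHeartbeats 800000 in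
/-- For a morphism locally of finite presentation, the set of points of local fibre dimension at
least `n` is locally constructible. -/
theorem isLocallyConstructible_le_fibreDimAt {X Y : Scheme.{u}} (f : X ⟶ Y)
    [LocallyOfFinitePresentation f] (n : ℕ) :
    Topology.IsLocallyConstructible {x : X | (n : WithBot ℕ∞) ≤ FlatMor.fibreDimAt f x} := by
  intro x
  obtain ⟨V, hV, hfxV⟩ : ∃ V : Y.Opens, IsAffineOpen V ∧ f x ∈ V := by
    obtain ⟨_, ⟨V, hV, rfl⟩, hxV, -⟩ :=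
      (Y.isBasis_affineOpens).exists_subset_of_mem_open (Set.mem_univ (f x)) isOpen_univ
    exact ⟨V, hV, hxV⟩
  obtain ⟨U, hU, hxU, e⟩ : ∃ U : X.Opens, IsAffineOpen U ∧ x ∈ U ∧ U ≤ f ⁻¹ᵁ V := by
    obtain ⟨_, ⟨U, hU, rfl⟩, hxU, hsub⟩ :=
      (X.isBasis_affineOpens).exists_subset_of_mem_open
        (show x ∈ ((f ⁻¹ᵁ V : X.Opens) : Set X) from hfxV) (f ⁻¹ᵁ V).isOpen
    exact ⟨U, hU, hxU, hsub⟩
  refine ⟨U, U.2.mem_nhds hxU, U.2, ?_⟩
  haveI : IsAffine (U : Scheme.{u}) := hU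
  haveI : IsAffine (V : Scheme.{u}) := hV
  let fU : (U : Scheme.{u}) ⟶ (V : Scheme.{u}) := f.resLE V U e
  have hfU : fU ≫ V.ι = U.ι ≫ f := Scheme.Hom.resLE_comp_ι f e
  haveI : LocallyOfFinitePresentation fU := IsZariskiLocalAtSource.resLE e inferInstance
  haveI : LocallyOfFiniteType (fU ≫ V.ι) := by rw [hfU]; infer_instance
  obtain ⟨S₀, X₀, Y₀, u₀, v₀, π, qX, qY, hS₀, hu₀, hu₀qc, -, -, HX, -⟩ :=
    Groth.Agent.Helper5.ConsLc.exists_noeth_model_pair fU (𝟙 (V : Scheme.{u}))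
  haveI := hS₀
  haveI := hu₀
  haveI := hu₀qc
  haveI : IsLocallyNoetherian X₀ := LocallyOfFiniteType.isLocallyNoetherian u₀
  haveI : CompactSpace ↥X₀ := QuasiCompact.compactSpace_of_compactSpace u₀
  haveI : IsNoetherian X₀ := { }
  have hcons : IsConstructible {x₀ : X₀ | (n : WithBot ℕ∞) ≤ FlatMor.fibreDimAt u₀ x₀} :=
    Groth.Agent.Helper5.ConsLc.isConstructible_of_isClosed_noeth (isClosed_le_fibreDimAt u₀ n)
  have hpre := qX.isConstructible_preimage hcons
  change IsConstructible ({w : ↥(U : Scheme.{u}) |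
    (n : WithBot ℕ∞) ≤ FlatMor.fibreDimAt f (U.ι w)})
  have heq : {w : ↥(U : Scheme.{u}) | (n : WithBot ℕ∞) ≤ FlatMor.fibreDimAt f (U.ι w)} =
      qX ⁻¹' {x₀ : X₀ | (n : WithBot ℕ∞) ≤ FlatMor.fibreDimAt u₀ x₀} := by
    ext w
    show (n : WithBot ℕ∞) ≤ FlatMor.fibreDimAt f (U.ι w) ↔
      (n : WithBot ℕ∞) ≤ FlatMor.fibreDimAt u₀ (qX w)
    have h1 : FlatMor.fibreDimAt fU w = FlatMor.fibreDimAt u₀ (qX w) :=
      fibreDimAt_of_isPullback u₀ π qX fU HX w
    have h2 : FlatMor.fibreDimAt fU w = FlatMor.fibreDimAt (fU ≫ V.ι) w :=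
      Groth.Agent.Helper5.GenFib.fibreDimAt_comp_mono fU V.ι w
    have h3 : FlatMor.fibreDimAt (U.ι ≫ f) w = FlatMor.fibreDimAt f (U.ι w) :=
      Groth.Agent.Helper5.EqAt.fibreDimAt_open_restrict f U w
    have h4 : FlatMor.fibreDimAt (fU ≫ V.ι) w = FlatMor.fibreDimAt (U.ι ≫ f) w := by
      congr 1
    rw [← h1, h2, h4, h3]
  rw [heq]
  exact hpre

/-- If the dimension of the section component does not drop under generization of `y₀`, it is
constant near `y₀` (morphism locally of finite presentation, arbitrary base). -/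
theorem dim_const_of_ge' {X Y : Scheme.{u}} (f : X ⟶ Y)
    [LocallyOfFinitePresentation f] (g : Y ⟶ X) (hg : g ≫ f = 𝟙 Y) (hgi : GeomIrr f g) (y₀ : Y)
    (hge : ∀ y' : Y, y' ⤳ y₀ →
      topologicalKrullDim ↥(connectedComponentIn (f ⁻¹' {y₀}) (g y₀)) ≤
        topologicalKrullDim ↥(connectedComponentIn (f ⁻¹' {y'}) (g y'))) :
    ∃ V ∈ nhds y₀, ∀ z ∈ V,
      topologicalKrullDim ↥(connectedComponentIn (f ⁻¹' {z}) (g z)) =
        topologicalKrullDim ↥(connectedComponentIn (f ⁻¹' {y₀}) (g y₀)) := by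
  have hfg : ∀ y : Y, f (g y) = y := fun y => congrArg (fun ψ : Y ⟶ Y => ψ y) hg
  have husc := s4954 f g hg hgi
  rw [upperSemicontinuous_iff_isOpen_preimage] at husc
  obtain ⟨n, hn⟩ := dim_nat f g hg hgi y₀
  set F : Y → WithBot ℕ∞ := fun y =>
    topologicalKrullDim ↥(connectedComponentIn (f.base ⁻¹' {y}) (g.base y)) with hF
  have hFeq : ∀ y, F y = FlatMor.fibreDimAt f (g y) := fun y =>
    dim_component_eq_fibreDimAt f y _ (hfg y) (hgi.irreducible y)
  have hn' : F y₀ = (n : WithBot ℕ∞) := hn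
  have hN1 : IsOpen {y : Y | F y < ((n + 1 : ℕ) : WithBot ℕ∞)} := husc _
  have hind : ProCons.IsIndConstructible {y : Y | (n : WithBot ℕ∞) ≤ F y} := by
    have h1 := Groth.Agent.Helper7.PC.ind_preimage g _
      (Groth.Agent.Lead.ProConsLib.ind_of_isLocallyConstructible
        (isLocallyConstructible_le_fibreDimAt f n))
    convert h1 using 1
    ext y
    show (n : WithBot ℕ∞) ≤ F y ↔ (n : WithBot ℕ∞) ≤ FlatMor.fibreDimAt f (g y)
    rw [hFeq]
  have hint : y₀ ∈ interior {y : Y | (n : WithBot ℕ∞) ≤ F y} :=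
    (Groth.Agent.Lead.ProConsLib.mem_interior_iff_of_ind hind y₀).2 (fun y' hy' => by
      show (n : WithBot ℕ∞) ≤ F y'
      rw [← hn']
      exact hge y' hy')
  refine ⟨{y : Y | F y < ((n + 1 : ℕ) : WithBot ℕ∞)} ∩ interior {y : Y | (n : WithBot ℕ∞) ≤ F y},
    Filter.inter_mem (hN1.mem_nhds ?_) (isOpen_interior.mem_nhds hint), ?_⟩
  · show F y₀ < _
    rw [hn']
    exact_mod_cast Nat.lt_succ_self n
  · rintro z ⟨hz1, hz2⟩
    have hz2' : z ∈ {y : Y | (n : WithBot ℕ∞) ≤ F y} := interior_subset hz2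
    have hz2' : (n : WithBot ℕ∞) ≤ F z := hz2'
    have hz1' : F z < ((n + 1 : ℕ) : WithBot ℕ∞) := hz1
    obtain ⟨m, hm⟩ := dim_nat f g hg hgi z
    have hm' : F z = (m : WithBot ℕ∞) := hm
    show F z = F y₀
    rw [hn']
    rw [hm'] at hz1' hz2' ⊢
    have h1 : n ≤ m := by exact_mod_cast hz2'
    have h2 : m < n + 1 := by exact_mod_cast hz1'
    have : m = n := by omega
    rw [this]

end Groth.Agent.Helper5.SecUO
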