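import Mathlib
import Groth.Prelude
import Groth.Agent.Helper5.EqDimB
import Groth.Agent.Helper5.SecUO7
import Groth.Agent.Helper5.FibModX

/-!
# EqDimC: the locus where the fibres are equidimensional at the point is locally constructible
(S3451)
-/

set_option autoImplicit false
set_option linter.unusedSectionVars false
set_option linter.unusedVariables false
set_option linter.style.haveILetI false
universe u
open AlgebraicGeometry CategoryTheory CategoryTheory.Limits TopologicalSpace Topology

namespace Groth.Agent.Helper5.EqDim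

open Groth.Agent.Helper5.FibTop Groth.Agent.Helper5.SubDim

variable {X S : Scheme.{u}} (f : X ⟶ S)

set_option maxHeartbeats 1600000 in
/-- the fibrewise closure is local on the source and the target -/
theorem preimage_fcl_chart (T : Set X) (U : X.Opens) (V : S.Opens) (e : U ≤ f ⁻¹ᵁ V) :
    ((Subtype.val : ↥U → X) ⁻¹' fcl f T) =
      fcl (f.resLE V U e) ((Subtype.val : ↥U → X) ⁻¹' T) := by
  have hcomm : ∀ y : ↥U, ((f.resLE V U e).base y).1 = f.base y.1 := by
    intro y
    have := congrArg (fun ψ : (U : Scheme.{u}) ⟶ S => ψ.base y) (f.resLE_comp_ι e)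
    simp only [Scheme.Hom.comp_apply] at this
    exact this
  ext y
  show y.1 ∈ closure (T ∩ f.base ⁻¹' {f.base y.1}) ↔
    y ∈ closure (((Subtype.val : ↥U → X) ⁻¹' T) ∩
      (f.resLE V U e).base ⁻¹' {(f.resLE V U e).base y})
  rw [closure_subtype]
  have himg : (Subtype.val : ↥U → X) '' (((Subtype.val : ↥U → X) ⁻¹' T) ∩
      (f.resLE V U e).base ⁻¹' {(f.resLE V U e).base y}) =
      (T ∩ f.base ⁻¹' {f.base y.1}) ∩ (U : Set X) := by
    ext z
    constructor
    · rintro ⟨w, ⟨hwT, hw⟩, rfl⟩
      refine ⟨⟨hwT, ?_⟩, w.2⟩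
      show f.base w.1 = f.base y.1
      rw [← hcomm w, ← hcomm y]
      exact congrArg Subtype.val hw
    · rintro ⟨⟨hzT, hz⟩, hzU⟩
      refine ⟨⟨z, hzU⟩, ⟨hzT, ?_⟩, rfl⟩
      show (f.resLE V U e).base ⟨z, hzU⟩ = (f.resLE V U e).base y
      apply Subtype.ext
      rw [hcomm, hcomm]
      exact hz
  rw [himg]
  have hUn : (U : Set X) ∈ nhds y.1 := U.isOpen.mem_nhds y.2
  constructor
  · intro h
    rw [mem_closure_iff_nhds] at h ⊢
    intro t ht
    obtain ⟨z, hz1, hz2⟩ := h (t ∩ U) (Filter.inter_mem ht hUn)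
    exact ⟨z, hz1.1, hz2, hz1.2⟩
  · intro h
    exact closure_mono Set.inter_subset_left h

set_option maxHeartbeats 1600000 in
theorem isLocallyConstructible_fcl [LocallyOfFinitePresentation f] (T : Set X)
    (hT : IsLocallyConstructible T) : IsLocallyConstructible (fcl f T) := by
  let ι := {p : X.affineOpens × S.affineOpens // p.1.1 ≤ f ⁻¹ᵁ p.2.1}
  let U : ι → Opens X := fun i => i.1.1.1
  have hU : IsOpenCover U := by
    rw [IsOpenCover, eq_top_iff]
    intro x _
    obtain ⟨Vo, hVo, Uo, hUo, e, hxU, -⟩ :=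
      Groth.Agent.Helper5.FibMod.exists_chart f x Set.univ isOpen_univ (Set.mem_univ x)
    exact Opens.mem_iSup.mpr ⟨⟨⟨⟨Uo, hUo⟩, ⟨Vo, hVo⟩⟩, e⟩, hxU⟩
  refine IsLocallyConstructible.of_isOpenCover hU ?_
  rintro ⟨⟨⟨Uo, hUo⟩, ⟨Vo, hVo⟩⟩, e⟩
  show IsLocallyConstructible ((Subtype.val : ↥Uo → X) ⁻¹' fcl f T)
  rw [preimage_fcl_chart f T Uo Vo e]
  haveI : IsAffine (Uo : Scheme.{u}) := hUo
  haveI : IsAffine (Vo : Scheme.{u}) := hVo
  exact isLocallyConstructible_fcl_qcqs (f.resLE Vo Uo e) _
    (hT.preimage_of_isOpenEmbedding Uo.isOpenEmbedding')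

set_option maxHeartbeats 1600000 in
theorem isLocallyConstructible_eqSet [LocallyOfFinitePresentation f] :
    IsLocallyConstructible (eqSet f) := by
  -- the auxiliary sets
  have hT : ∀ m : ℕ, IsLocallyConstructible
      {y : X | FlatMor.fibreDimAt f y ≤ (m : WithBot ℕ∞)} := by
    intro m
    have h1 := Groth.Agent.Helper5.SecUO.isLocallyConstructible_le_fibreDimAt f (m + 1)
    have h2 := Groth.Agent.Helper5.KLem.isLocallyConstructible_compl h1
    convert h2 using 1
    ext y
    obtain ⟨k, hk⟩ := fibreDimAt_nat f y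
    simp only [Set.mem_ofPred_eq, Set.mem_compl_iff, hk]
    constructor
    · intro h h'
      have h3 : k ≤ m := by exact_mod_cast h
      have h4 : m + 1 ≤ k := by exact_mod_cast h'
      omega
    · intro h
      have h3 : ¬ (m + 1 ≤ k) := fun h' => h (by exact_mod_cast h')
      have : k ≤ m := by omega
      exact_mod_cast this
  have hA : ∀ m : ℕ, IsLocallyConstructible (setA f m) := by
    intro m
    rw [setA_eq, fgen_eq_fcl f _ (hT m)]
    exact isLocallyConstructible_fcl f _ (hT m)
  have hB : ∀ m : ℕ, IsLocallyConstructible (setB f m) := by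
    intro m
    have hG : IsLocallyConstructible
        ({y : X | ((m + 1 : ℕ) : WithBot ℕ∞) ≤ FlatMor.fibreDimAt f y} ∩ (setA f m)ᶜ) :=
      (Groth.Agent.Helper5.SecUO.isLocallyConstructible_le_fibreDimAt f (m + 1)).inter
        (Groth.Agent.Helper5.KLem.isLocallyConstructible_compl (hA m))
    rw [setB_eq, fgen_eq_fcl f _ hG]
    exact isLocallyConstructible_fcl f _ hG
  have hC : ∀ N : ℕ, IsLocallyConstructible
      ((Finset.range N).inf (fun m => (setA f m ∩ setB f m)ᶜ)) := by
    intro N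
    exact IsLocallyConstructible.finsetInf fun m _ =>
      Groth.Agent.Helper5.KLem.isLocallyConstructible_compl ((hA m).inter (hB m))
  -- the open cover by the loci where the local fibre dimension is bounded
  let U : ℕ → Opens X := fun N =>
    ⟨{y : X | FlatMor.fibreDimAt f y ≤ (N : WithBot ℕ∞)},
      Groth.Agent.Helper5.FibDim.isOpen_fibreDimAt_le f _⟩
  have hU : IsOpenCover U := by
    rw [IsOpenCover, eq_top_iff]
    intro x _
    obtain ⟨k, hk⟩ := fibreDimAt_nat f x
    exact Opens.mem_iSup.mpr ⟨k, le_of_eq hk⟩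
  refine IsLocallyConstructible.of_isOpenCover hU ?_
  intro N
  show IsLocallyConstructible ((Subtype.val : ↥(U N) → X) ⁻¹' eqSet f)
  have hEq : ((Subtype.val : ↥(U N) → X) ⁻¹' eqSet f) =
      ((Subtype.val : ↥(U N) → X) ⁻¹'
        ((Finset.range N).inf (fun m => (setA f m ∩ setB f m)ᶜ))) := by
    ext y
    show y.1 ∈ eqSet f ↔ y.1 ∈ (Finset.range N).inf (fun m => (setA f m ∩ setB f m)ᶜ)
    rw [Finset.inf_set_eq_iInter, Set.mem_iInter₂]
    exact mem_eqSet_iff_of_le f y.1 N y.2
  rw [hEq]
  exact (hC N).preimage_of_isOpenEmbedding (U N).isOpenEmbedding'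

theorem s3451 [LocallyOfFinitePresentation f] :
    Topology.IsLocallyConstructible {x : X | ∃ e : ℕ,
      ∀ Z ∈ irreducibleComponents (↥(f.fiber (f.base x)) : Type u), f.asFiber x ∈ Z →
        topologicalKrullDim (↥Z : Type u) = e} := by
  have h := isLocallyConstructible_eqSet f
  convert h using 1
  ext x
  exact equidim_iff f x

end Groth.Agent.Helper5.EqDim
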