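import Mathlib
import Groth.Agent.Helper5.BCMin13
import Groth.Agent.Helper5.VarDim11
import Groth.Prelude.Def_Cyc

set_option autoImplicit false
set_option linter.style.haveILetI false
set_option linter.unusedSectionVars false
universe u
open CategoryTheory CategoryTheory.Limits AlgebraicGeometry TopologicalSpace Topology

namespace Groth.Agent.Helper5.RelDimDesc

open Groth.Agent.Helper5.VarDim

/-- if all components of all fibres have dimension `d`, all local fibre dimensions are `d` -/
theorem fibreDimAt_of_hasRelDim {X Y : Scheme.{u}} (f : X ⟶ Y) [LocallyOfFiniteType f] (d : ℕ)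
    (h : Cyc.HasRelDim f d) (x : X) : FlatMor.fibreDimAt f x = (d : WithBot ℕ∞) := by
  haveI : LocallyOfFiniteType (f.fiberToSpecResidueField (f x)) :=
    inferInstanceAs (LocallyOfFiniteType (Limits.pullback.snd f (Y.fromSpecResidueField (f x))))
  exact localDim_eq_of_components (Y.residueField (f x)) (f.fiberToSpecResidueField (f x))
    (d : WithBot ℕ∞) (h (f x)) (f.asFiber x)

set_option maxHeartbeats 1000000 in
/-- S9857 -/
theorem s9857 {X Y X' Y' : Scheme.{u}} (f : X ⟶ Y) [LocallyOfFiniteType f] (g : Y' ⟶ Y)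
    [Surjective g] (g' : X' ⟶ X) (f' : X' ⟶ Y') (hsq : IsPullback g' f' f g)
    (d : ℕ) (h : Cyc.HasRelDim f' d) : Cyc.HasRelDim f d := by
  haveI : LocallyOfFiniteType f' := MorphismProperty.of_isPullback hsq inferInstance
  intro y T hT
  haveI : LocallyOfFiniteType (f.fiberToSpecResidueField y) :=
    inferInstanceAs (LocallyOfFiniteType (Limits.pullback.snd f (Y.fromSpecResidueField y)))
  obtain ⟨ζ, hζ1, hζ2⟩ := exists_generic_component (Y.residueField y)
    (f.fiberToSpecResidueField y) T hT
  let x : X := f.fiberι y ζ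
  have hx : f x = y := by
    have : x ∈ Set.range (f.fiberι y) := ⟨ζ, rfl⟩
    rwa [Scheme.Hom.range_fiberι] at this
  rw [← hζ2, localDim_fiber_eq_fibreDimAt f y ζ x rfl hx]
  obtain ⟨y', hy'⟩ := g.surjective y
  obtain ⟨z, hz1, hz2⟩ := Scheme.Pullback.exists_preimage_pullback (f := f) (g := g) x y'
    (hx.trans hy'.symm)
  let x' : X' := hsq.isoPullback.inv z
  have hx' : g' x' = x := by
    show g' (hsq.isoPullback.inv z) = x
    rw [← Scheme.Hom.comp_apply, hsq.isoPullback_inv_fst]
    exact hz1
  have h1 := Groth.Agent.Helper5.BCMin.fibreDimAt_of_isPullback f g g' f' hsq x'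
  rw [hx', fibreDimAt_of_hasRelDim f' d h x'] at h1
  exact h1.symm

end Groth.Agent.Helper5.RelDimDesc
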