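import Mathlib
import Groth.Agent.Helper5.BCMin13
import Groth.Agent.Helper5.FibCodim
import Groth.Agent.Helper5.FlatRelDim
import Groth.Agent.Helper5.RelDimDesc
import Groth.Agent.Helper5.VarDim15
import Groth.Agent.Helper5.MaxPt1
import Groth.Agent.Helper5.LocDim1

set_option autoImplicit false
universe u
open CategoryTheory CategoryTheory.Limits AlgebraicGeometry TopologicalSpace

namespace Groth.Agent.Helper5.EquiBC

open Groth.Agent.Helper5.VarDim Groth.Agent.Helper5.SubDim Groth.Agent.Helper5.FlatRelDim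

set_option maxHeartbeats 1000000 in
/-- For a flat morphism of schemes locally of finite type over a field the local dimensions add. -/
theorem localDim_eq_add_fibreDimAt (k : Type u) [Field k] {X Y : Scheme.{u}}
    (qY : Y ⟶ Spec (CommRingCat.of k)) [LocallyOfFiniteType qY] (f : X ⟶ Y)
    [LocallyOfFiniteType f] [Flat f] (x : X) :
    ∃ a b : ℕ, FlatMor.localDim Y (f x) = (a : WithBot ℕ∞) ∧
      FlatMor.fibreDimAt f x = (b : WithBot ℕ∞) ∧
      FlatMor.localDim X x = ((a + b : ℕ) : WithBot ℕ∞) := by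
  haveI : IsLocallyNoetherian Y := LocallyOfFiniteType.isLocallyNoetherian qY
  haveI : IsLocallyNoetherian X := LocallyOfFiniteType.isLocallyNoetherian f
  obtain ⟨a, ha1, ha2, -⟩ := localDim_formula k (f ≫ qY) x
  obtain ⟨b, hb1, hb2, -⟩ := localDim_formula k qY (f x)
  obtain ⟨kk, nn, hk, -, hn, hfd⟩ := fibreDimAt_eq f x
  have ht := trdeg_tower k f qY x
  rw [ha1, hb1, hn] at ht
  have ht' : a = b + nn := by exact_mod_cast ht
  have hflat := stalk_dim_eq_of_flat' f (f x) (f.asFiber x)
  rw [f.fiberι_asFiber] at hflat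
  obtain ⟨c, hc, -⟩ := ringKrullDim_stalk_nat Y (f x)
  rw [hc, hk] at hflat
  refine ⟨c + b, kk + nn, ?_, hfd, ?_⟩
  · rw [hb2, hc]; push_cast; rfl
  · rw [ha2, hflat, ht']
    push_cast
    abel

end Groth.Agent.Helper5.EquiBC
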