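import Mathlib
import Groth.Agent.Helper5.EquiBC1

set_option autoImplicit false
universe u
open CategoryTheory CategoryTheory.Limits AlgebraicGeometry TopologicalSpace

namespace Groth.Agent.Helper5.EquiBC

open Groth.Agent.Helper5.VarDim Groth.Agent.Helper5.SubDim Groth.Agent.Helper5.FlatRelDim

set_option maxHeartbeats 1000000 in
/-- A flat morphism from an equidimensional scheme of dimension `dim Y + n` to an irreducible
scheme `Y`, everything locally of finite type over a field, has relative dimension `n`. -/
theorem hasRelDim_of_flat_equidim (k : Type u) [Field k] {X Y : Scheme.{u}}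
    (qY : Y ⟶ Spec (CommRingCat.of k)) [LocallyOfFiniteType qY] [IrreducibleSpace ↥Y]
    (f : X ⟶ Y) [LocallyOfFiniteType f] [Flat f] (n : ℕ)
    (hX : ∀ Z : Set ↥X, Z ∈ irreducibleComponents ↥X →
      topologicalKrullDim ↥Z = topologicalKrullDim ↥Y + (n : WithBot ℕ∞)) :
    Cyc.HasRelDim f n := by
  intro y T hT
  haveI : LocallyOfFiniteType (f.fiberToSpecResidueField y) :=
    inferInstanceAs (LocallyOfFiniteType (Limits.pullback.snd f (Y.fromSpecResidueField y)))
  obtain ⟨ζ, hζ1, hζ2⟩ := exists_generic_component (Y.residueField y)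
    (f.fiberToSpecResidueField y) T hT
  let x : X := f.fiberι y ζ
  have hx : f x = y := by
    have : x ∈ Set.range (f.fiberι y) := ⟨ζ, rfl⟩
    rwa [Scheme.Hom.range_fiberι] at this
  rw [← hζ2, localDim_fiber_eq_fibreDimAt f y ζ x rfl hx]
  obtain ⟨a, b, ha, hb, hab⟩ := localDim_eq_add_fibreDimAt k qY f x
  have h2 : FlatMor.localDim X x = topologicalKrullDim ↥Y + (n : WithBot ℕ∞) :=
    localDim_eq_of_components k (f ≫ qY) _ hX x
  have h3 : FlatMor.localDim Y (f x) = topologicalKrullDim ↥Y :=
    localDim_eq_dim_of_irreducible k qY (f x)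
  rw [hb]
  rw [← h3, ha, hab] at h2
  have : a + b = a + n := by exact_mod_cast h2
  have hbn : b = n := by omega
  rw [hbn]

end Groth.Agent.Helper5.EquiBC
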