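import Mathlib
import Groth.Agent.Helper5.EquiBC2

set_option autoImplicit false
universe u
open CategoryTheory CategoryTheory.Limits AlgebraicGeometry TopologicalSpace

namespace Groth.Agent.Helper5.EquiBC

open Groth.Agent.Helper5.VarDim Groth.Agent.Helper5.SubDim Groth.Agent.Helper5.FlatRelDim

set_option maxHeartbeats 1000000 in
/-- For a flat morphism of relative dimension `n` between schemes locally of finite type over a
field, the irreducible components of the preimage of an irreducible closed subset `V` have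
dimension `dim V + n`. -/
theorem dim_component_preimage (k : Type u) [Field k] {X Y : Scheme.{u}}
    (qY : Y ⟶ Spec (CommRingCat.of k)) [LocallyOfFiniteType qY]
    (f : X ⟶ Y) [LocallyOfFiniteType f] [Flat f] (n : ℕ) (h : Cyc.HasRelDim f n)
    (V : Set ↥Y) (hV : IsClosed V) (hVirr : IsIrreducible V)
    (W : Set ↥(f ⁻¹' V)) (hW : W ∈ irreducibleComponents ↥(f ⁻¹' V)) :
    topologicalKrullDim ↥W = topologicalKrullDim ↥V + (n : WithBot ℕ∞) := by
  have hPcl : IsClosed (f ⁻¹' V) := hV.preimage f.continuous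
  have hWcl : IsClosed W := isClosed_of_mem_irreducibleComponents W hW
  have hWirr : IsIrreducible W := hW.1
  let W' : Set ↥X := Subtype.val '' W
  have hW'cl : IsClosed W' := hPcl.isClosedEmbedding_subtypeVal.isClosedMap W hWcl
  have hW'irr : IsIrreducible W' := hWirr.image _ continuous_subtype_val.continuousOn
  obtain ⟨w, hw⟩ := QuasiSober.sober hW'irr hW'cl
  have hwcl : closure ({w} : Set X) = W' := hw.def
  obtain ⟨v, hv⟩ := QuasiSober.sober hVirr hV
  have hvcl : closure ({v} : Set Y) = V := hv.def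
  have hwW' : w ∈ W' := by rw [← hwcl]; exact subset_closure rfl
  have hW'P : W' ⊆ f ⁻¹' V := by
    rintro _ ⟨p, -, rfl⟩
    exact p.2
  -- key: generizations of `w` inside the preimage are equal to `w`
  have key : ∀ w₃ : X, f w₃ ∈ V → w₃ ⤳ w → w₃ = w := by
    intro w₃ hw₃ hsp
    let p₃ : ↥(f ⁻¹' V) := ⟨w₃, hw₃⟩
    let C : Set ↥(f ⁻¹' V) := closure {p₃}
    have hCirr : IsIrreducible C := isIrreducible_singleton.closure
    have hCeq : C = Subtype.val ⁻¹' closure ({w₃} : Set X) := by
      show closure {p₃} = _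
      rw [Topology.IsInducing.subtypeVal.closure_eq_preimage_closure_image, Set.image_singleton]
    have hWC : W ⊆ C := by
      intro p hp
      rw [hCeq]
      show p.1 ∈ closure ({w₃} : Set X)
      have h1 : p.1 ∈ closure ({w} : Set X) := by
        rw [hwcl]; exact ⟨p, hp, rfl⟩
      exact (specializes_iff_closure_subset.1 hsp) h1
    have hCW : C ⊆ W := hW.2 hCirr hWC
    have hp₃ : p₃ ∈ W := hCW (subset_closure rfl)
    have h2 : w₃ ∈ closure ({w} : Set X) := by
      rw [hwcl]; exact ⟨p₃, hp₃, rfl⟩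
    have h3 : w ⤳ w₃ := specializes_iff_mem_closure.2 h2
    exact (hsp.antisymm h3).eq
  -- the generic point of `W` maps to the generic point of `V`
  have hfw : f w = v := by
    have h1 : f w ∈ V := hW'P hwW'
    have h2 : v ⤳ f w := by
      rw [specializes_iff_mem_closure, hvcl]; exact h1
    obtain ⟨w₂, hw₂, hfw₂⟩ := (Flat.generalizingMap f) h2
    have hvV : v ∈ V := by rw [← hvcl]; exact subset_closure rfl
    have := key w₂ (by rw [hfw₂]; exact hvV) hw₂
    rw [← this, hfw₂]
  -- `w` is maximal in its fibre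
  have hmax : ∀ w₃ : X, f w₃ = f w → w₃ ⤳ w → w₃ = w := by
    intro w₃ h1 h2
    exact key w₃ (by rw [h1]; exact hW'P hwW') h2
  obtain ⟨n', hn'1, hn'2⟩ := Groth.Agent.Helper5.MaxPt.fibreDimAt_of_maximal f w
    (Groth.Agent.Helper5.MaxPt.coheight_asFiber_eq_zero f w hmax)
  have hrel := Groth.Agent.Helper5.RelDimDesc.fibreDimAt_of_hasRelDim f n h w
  rw [hrel] at hn'2
  have hnn : n = n' := by exact_mod_cast hn'2
  -- dimension count
  have e1 : topologicalKrullDim ↥W = topologicalKrullDim ↥W' :=
    (Groth.Agent.Helper5.LocDim.dim_image_val (f ⁻¹' V) W).symm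
  obtain ⟨a, ha1, ha2⟩ := dim_closure_point k (f ≫ qY) w
  obtain ⟨b, hb1, hb2⟩ := dim_closure_point k qY (f w)
  have ht := trdeg_tower k f qY w
  rw [ha2, hb2, hn'1] at ht
  have ht' : a = b + n' := by exact_mod_cast ht
  rw [e1, ← hwcl, ha1, ← hvcl, ← hfw, hb1, ht', hnn]
  push_cast
  rfl

end Groth.Agent.Helper5.EquiBC
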