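import Groth.Agent.Helper5.EquiDim1

set_option autoImplicit false
universe u
open AlgebraicGeometry CategoryTheory TopologicalSpace

namespace Groth.Agent.Helper5.EquiDim

open Groth.Agent.Helper5.UCat Groth.Agent.Helper5.DimFormula

/-- Finite type algebras over universally catenary rings are universally catenary. -/
theorem isUniversallyCatenary_of_finiteType {A B : Type u} [CommRing A] [CommRing B] [Algebra A B]
    (hft : Algebra.FiniteType A B) (hA : CAlg.IsUniversallyCatenary A) :
    CAlg.IsUniversallyCatenary B := by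
  have hN : IsNoetherianRing A := hA.1
  refine ⟨Algebra.FiniteType.isNoetherianRing A B, ?_⟩
  intro C _ _ hC
  let _ : Algebra A C := ((algebraMap B C).comp (algebraMap A B)).toAlgebra
  have : IsScalarTower A B C := IsScalarTower.of_algebraMap_eq (fun _ => rfl)
  exact hA.2 C (Algebra.FiniteType.trans hft hC)

/-- The local rings of a scheme locally of finite type over a locally Noetherian scheme with
universally catenary local rings are universally catenary. -/
theorem stalk_isUniversallyCatenary {Y S : Scheme.{u}} [IsLocallyNoetherian S] (q : Y ⟶ S)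
    [LocallyOfFiniteType q] (h : ∀ s : S, CAlg.IsUniversallyCatenary (S.presheaf.stalk s)) (y : Y) :
    CAlg.IsUniversallyCatenary (Y.presheaf.stalk y) := by
  obtain ⟨U, hU, hfxU⟩ : ∃ U : S.Opens, IsAffineOpen U ∧ q y ∈ U := by
    obtain ⟨_, ⟨U, hU, rfl⟩, hxU, -⟩ :=
      (S.isBasis_affineOpens).exists_subset_of_mem_open (Set.mem_univ (q y)) isOpen_univ
    exact ⟨U, hU, hxU⟩
  obtain ⟨W, hW, hy, e⟩ : ∃ W : Y.Opens, IsAffineOpen W ∧ y ∈ W ∧ W ≤ q ⁻¹ᵁ U := by
    obtain ⟨_, ⟨W, hW, rfl⟩, hxW, hsub⟩ :=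
      (Y.isBasis_affineOpens).exists_subset_of_mem_open (show y ∈ ((q ⁻¹ᵁ U : Y.Opens) : Set Y)
        from hfxU) (q ⁻¹ᵁ U).isOpen
    exact ⟨W, hW, hxW, hsub⟩
  let A := Γ(S, U)
  let B := Γ(Y, W)
  letI : Algebra A B := (q.appLE U W e).hom.toAlgebra
  have hft : Algebra.FiniteType A B := q.finiteType_appLE hU hW e
  have hA : CAlg.IsUniversallyCatenary A := isUniversallyCatenary_of_isAffineOpen h U hU
  have hB : CAlg.IsUniversallyCatenary B := isUniversallyCatenary_of_finiteType hft hA
  let _ : Algebra B (Y.presheaf.stalk y) :=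
    TopCat.Presheaf.algebra_section_stalk Y.presheaf (⟨y, hy⟩ : W)
  have hloc : IsLocalization.AtPrime (Y.presheaf.stalk y) (hW.primeIdealOf ⟨y, hy⟩).asIdeal :=
    hW.isLocalization_stalk ⟨y, hy⟩
  exact isUniversallyCatenary_of_isLocalization (hW.primeIdealOf ⟨y, hy⟩).asIdeal.primeCompl hB

end Groth.Agent.Helper5.EquiDim
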