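import Groth.Agent.Helper5.EquiDim2
import Mathlib.RingTheory.Ideal.Quotient.PowTransition

set_option autoImplicit false
universe u
open AlgebraicGeometry CategoryTheory TopologicalSpace

namespace Groth.Agent.Helper5.EquiDim

open Groth.Agent.Helper5.UCat Groth.Agent.Helper5.DimFormula

/-- Additivity of codimension in a locally Noetherian scheme with universally catenary local
rings. -/
theorem krullDim_Icc_add {S : Scheme.{u}} [IsLocallyNoetherian S]
    (h : ∀ s : S, CAlg.IsUniversallyCatenary (S.presheaf.stalk s)) (x y z : S)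
    (hxy : y ⤳ x) (hyz : z ⤳ y) :
    Order.krullDim ↥(Set.Icc x z) =
      Order.krullDim ↥(Set.Icc x y) + Order.krullDim ↥(Set.Icc y z) := by
  obtain ⟨U, hU, hx⟩ : ∃ U : S.Opens, IsAffineOpen U ∧ x ∈ U := by
    obtain ⟨_, ⟨U, hU, rfl⟩, hxU, -⟩ :=
      (S.isBasis_affineOpens).exists_subset_of_mem_open (Set.mem_univ x) isOpen_univ
    exact ⟨U, hU, hxU⟩
  have hy : y ∈ U := hxy.mem_open U.2 hx
  have hz : z ∈ U := hyz.mem_open U.2 hy
  let A := Γ(S, U)
  have hA : CAlg.IsUniversallyCatenary A := isUniversallyCatenary_of_isAffineOpen h U hU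
  have hN : IsNoetherianRing A := hA.1
  let Px : Ideal A := (hU.primeIdealOf ⟨x, hx⟩).asIdeal
  let Py : Ideal A := (hU.primeIdealOf ⟨y, hy⟩).asIdeal
  let Pz : Ideal A := (hU.primeIdealOf ⟨z, hz⟩).asIdeal
  have hle : ∀ (a b : S) (ha : a ∈ U) (hb : b ∈ U), b ⤳ a →
      (hU.primeIdealOf ⟨b, hb⟩).asIdeal ≤ (hU.primeIdealOf ⟨a, ha⟩).asIdeal := by
    intro a b ha hb hab
    have h1 : hU.fromSpec (hU.primeIdealOf ⟨b, hb⟩) ⤳ hU.fromSpec (hU.primeIdealOf ⟨a, ha⟩) := by
      rw [hU.fromSpec_primeIdealOf ⟨b, hb⟩, hU.fromSpec_primeIdealOf ⟨a, ha⟩]; exact hab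
    rw [hU.fromSpec.isOpenEmbedding.isInducing.specializes_iff] at h1
    exact (PrimeSpectrum.le_iff_specializes _ _).2 h1
  have hzy : Pz ≤ Py := hle y z hy hz hyz
  have hyx : Py ≤ Px := hle x y hx hy hxy
  rw [krullDim_Icc_eq_height U hU x z hx hz (hyz.trans hxy),
    krullDim_Icc_eq_height U hU x y hx hy hxy, krullDim_Icc_eq_height U hU y z hy hz hyz]
  let π : A ⧸ Pz →+* A ⧸ Py := Ideal.Quotient.factor hzy
  have hπ : Function.Surjective π := Ideal.Quotient.factor_surjective hzy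
  have hcat : CAlg.IsCatenary (A ⧸ Pz) :=
    hA.2 (A ⧸ Pz) (Algebra.FiniteType.of_surjective (Algebra.ofId A (A ⧸ Pz))
      Ideal.Quotient.mk_surjective)
  have hq : (Px.map (Ideal.Quotient.mk Py)).IsPrime :=
    Ideal.map_isPrime_of_surjective Ideal.Quotient.mk_surjective (by rw [Ideal.mk_ker]; exact hyx)
  have key := height_add_height_ker_eq hcat π hπ (Px.map (Ideal.Quotient.mk Py))
  have hker : RingHom.ker π = Py.map (Ideal.Quotient.mk Pz) := Ideal.Quotient.factor_ker hzy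
  have hcomap : (Px.map (Ideal.Quotient.mk Py)).comap π = Px.map (Ideal.Quotient.mk Pz) := by
    ext a
    obtain ⟨a, rfl⟩ := Ideal.Quotient.mk_surjective a
    rw [Ideal.mem_comap]
    show Ideal.Quotient.mk Py a ∈ _ ↔ _
    rw [Ideal.mem_quotient_iff_mem hyx, Ideal.mem_quotient_iff_mem (hzy.trans hyx)]
  rw [hker, hcomap] at key
  rw [← key]
  push_cast
  rfl

end Groth.Agent.Helper5.EquiDim
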