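import Groth.Agent.Helper5.EquiDim3

set_option autoImplicit false
universe u
open AlgebraicGeometry CategoryTheory TopologicalSpace

namespace Groth.Agent.Helper5.EquiDim

/-- For an interval of the specialisation order of a scheme, the topological Krull dimension of the
subspace is the order-theoretic Krull dimension. -/
theorem topologicalKrullDim_Icc_eq {X : Scheme.{u}} (s ξ : X) :
    topologicalKrullDim ↥(Set.Icc s ξ) = Order.krullDim ↥(Set.Icc s ξ) := by
  let Z : Set X := Set.Icc s ξ
  apply le_antisymm
  · -- generic points
    have hgen : ∀ C : IrreducibleCloseds ↥Z,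
        ∃ γ : X, IsGenericPoint γ (closure (Subtype.val '' (C : Set ↥Z))) := by
      intro C
      exact QuasiSober.sober
        (C.isIrreducible.image Subtype.val continuous_subtype_val.continuousOn).closure
        isClosed_closure
    have hmemZ : ∀ C : IrreducibleCloseds ↥Z, (hgen C).choose ∈ Z := by
      intro C
      have hγ := (hgen C).choose_spec
      set γ := (hgen C).choose
      have hγD : closure ({γ} : Set X) = closure (Subtype.val '' (C : Set ↥Z)) := hγ.def
      constructor
      · obtain ⟨c, hc⟩ := C.isIrreducible.nonempty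
        have h1 : c.1 ∈ closure ({γ} : Set X) := by
          rw [hγD]; exact subset_closure ⟨c, hc, rfl⟩
        have h2 : γ ⤳ c.1 := specializes_iff_mem_closure.2 h1
        have h3 : c.1 ⤳ s := Scheme.le_iff_specializes.1 c.2.1
        exact Scheme.le_iff_specializes.2 (h2.trans h3)
      · have h1 : Subtype.val '' (C : Set ↥Z) ⊆ closure ({ξ} : Set X) := by
          rintro _ ⟨c, -, rfl⟩
          exact specializes_iff_mem_closure.1 (Scheme.le_iff_specializes.1 c.2.2)
        have h2 : closure (Subtype.val '' (C : Set ↥Z)) ⊆ closure ({ξ} : Set X) :=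
          closure_minimal h1 isClosed_closure
        have h3 : γ ∈ closure ({γ} : Set X) := subset_closure rfl
        rw [hγD] at h3
        exact Scheme.le_iff_specializes.2 (specializes_iff_mem_closure.2 (h2 h3))
    let g : IrreducibleCloseds ↥Z → ↥Z := fun C => ⟨(hgen C).choose, hmemZ C⟩
    have hpre : ∀ C : IrreducibleCloseds ↥Z,
        (C : Set ↥Z) = Subtype.val ⁻¹' closure (Subtype.val '' (C : Set ↥Z)) := by
      intro C
      rw [← Topology.IsInducing.subtypeVal.closure_eq_preimage_closure_image, C.isClosed.closure_eq]
    refine Order.krullDim_le_of_strictMono g ?_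
    intro C1 C2 h12
    have hD1 : closure ({(g C1).1} : Set X) = closure (Subtype.val '' (C1 : Set ↥Z)) :=
      (hgen C1).choose_spec.def
    have hD2 : closure ({(g C2).1} : Set X) = closure (Subtype.val '' (C2 : Set ↥Z)) :=
      (hgen C2).choose_spec.def
    have hsub : (C1 : Set ↥Z) ⊆ C2 := h12.le
    refine lt_of_le_not_ge ?_ ?_
    · show (g C1).1 ≤ (g C2).1
      rw [Scheme.le_iff_specializes, specializes_iff_closure_subset, hD1, hD2]
      exact closure_mono (Set.image_mono hsub)
    · intro hge
      have hge' : (g C2).1 ≤ (g C1).1 := hge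
      rw [Scheme.le_iff_specializes, specializes_iff_closure_subset, hD1, hD2] at hge'
      have : (C2 : Set ↥Z) ⊆ C1 := by
        rw [hpre C2, hpre C1]
        exact Set.preimage_mono hge'
      exact h12.not_ge this
  · refine le_trans ?_ (krullDim_specialization_le ↥Z)
    refine @Order.krullDim_le_of_strictMono ↥Z ↥Z _ (specializationPreorder ↥Z) id ?_
    intro a b hab
    have h1 : b.1 ⤳ a.1 := Scheme.le_iff_specializes.1 hab.le
    have h2 : ¬ a.1 ⤳ b.1 := fun h' => hab.not_ge (Scheme.le_iff_specializes.2 h')
    letI := specializationPreorder ↥Z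
    refine lt_of_le_not_ge ?_ ?_
    · show b ⤳ a
      exact (subtype_specializes_iff _ _).2 h1
    · intro h'
      have : a ⤳ b := h'
      exact h2 ((subtype_specializes_iff _ _).1 this)

end Groth.Agent.Helper5.EquiDim
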