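import Mathlib
import Groth.Agent.Helper5.QfSch12
import Groth.Agent.Helper4.AlgSpLocPChart

/-!
# Helper5: a sheaf with a representable étale surjective chart has representable diagonal
-/

set_option autoImplicit false
set_option linter.style.haveILetI false
universe u
open CategoryTheory CategoryTheory.Limits AlgebraicGeometry Opposite

namespace Groth.Agent.Helper5.EtBoot

open AlgSp

variable {S : Scheme.{u}}

set_option backward.isDefEq.respectTransparency false in
theorem isImmersion_equalizer_ι_left {X Y : Over S} (f g : X ⟶ Y) :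
    IsImmersion (equalizer.ι f g).left := by
  refine MorphismProperty.of_isPullback
    ((Limits.isPullback_equalizer_prod f g).map (Over.forget _)).flip ?_
  rw [← MorphismProperty.cancel_right_of_respectsIso @IsImmersion _
    (Over.prodLeftIsoPullback Y Y).hom]
  convert! (inferInstance : IsImmersion (pullback.diagonal Y.hom))
  ext1 <;> simp [← Over.comp_left]

/-- `yon` preserves equalizers: factorization -/
theorem exists_lift_yon_equalizer {X Y : Over S} (f g : X ⟶ Y) {G : Sp S}
    (y : G ⟶ (yon S).obj X) (hy : y ≫ (yon S).map f = y ≫ (yon S).map g) :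
    ∃ z : G ⟶ (yon S).obj (equalizer f g), z ≫ (yon S).map (equalizer.ι f g) = y := by
  have hl := isLimitForkMapOfIsLimit (yon S) (equalizer.condition f g)
    (equalizerIsEqualizer f g)
  obtain ⟨z, hz⟩ := Fork.IsLimit.lift' hl y hy
  exact ⟨z, hz⟩

theorem mono_yon_equalizer_ι {X Y : Over S} (f g : X ⟶ Y) :
    Mono ((yon S).map (equalizer.ι f g)) := by
  have hl := isLimitForkMapOfIsLimit (yon S) (equalizer.condition f g)
    (equalizerIsEqualizer f g)
  exact mono_of_isLimit_fork hl

set_option backward.isDefEq.respectTransparency.types false in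
set_option maxHeartbeats 1600000 in
/-- the equalizer of two sections of a sheaf with a representable étale surjective chart is
representable -/
theorem isRepresentable_equalizer {F : Sp S} {U : Over S} (q : (yon S).obj U ⟶ F)
    (hqe : RepWith @Etale q) (hqs : RepWith @Surjective q) {Z : Over S}
    (a b : (yon S).obj Z ⟶ F) : (equalizer a b).obj.IsRepresentable := by
  have hq := hqe.rep
  -- lift `a` étale locally
  obtain ⟨Ua, ea, α', sqa⟩ : ∃ (Ua : Over S) (ea : Ua ⟶ Z) (α' : (yon S).obj Ua ⟶ (yon S).obj U),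
      IsPullback α' ((yon S).map ea) q a := ⟨_, _, _, hq.isPullback a⟩
  have hea : Etale ea.left := hqe.property a _ _ sqa
  have heas : Surjective ea.left := hqs.property a _ _ sqa
  obtain ⟨α, hα⟩ := (yon S).map_surjective α'
  obtain ⟨bW, hbW⟩ : ∃ bW : (yon S).obj Ua ⟶ F, bW = (yon S).map ea ≫ b := ⟨_, rfl⟩
  obtain ⟨U', e', β'', sq'⟩ : ∃ (U' : Over S) (e' : U' ⟶ Ua)
      (β'' : (yon S).obj U' ⟶ (yon S).obj U), IsPullback β'' ((yon S).map e') q bW :=
    ⟨_, _, _, hq.isPullback bW⟩
  have he' : Etale e'.left := hqe.property bW _ _ sq'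
  obtain ⟨β, hβ⟩ := (yon S).map_surjective β''
  -- the equalizer scheme
  let Es : Over S := equalizer β (e' ≫ α)
  let ιs : Es ⟶ U' := equalizer.ι β (e' ≫ α)
  have hιs : ιs ≫ β = ιs ≫ e' ≫ α := equalizer.condition _ _
  haveI : Mono ((yon S).map ιs) := mono_yon_equalizer_ι _ _
  -- the sheaf equalizer
  let P : Sp S := equalizer a b
  let m : P ⟶ (yon S).obj Z := equalizer.ι a b
  have hm : m ≫ a = m ≫ b := equalizer.condition a b
  have hcond : (yon S).map (ιs ≫ e' ≫ ea) ≫ a = (yon S).map (ιs ≫ e' ≫ ea) ≫ b := by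
    calc (yon S).map (ιs ≫ e' ≫ ea) ≫ a
        = (yon S).map (ιs ≫ e') ≫ ((yon S).map ea ≫ a) := by
          simp only [Functor.map_comp, Category.assoc]
      _ = (yon S).map (ιs ≫ e') ≫ (α' ≫ q) := by rw [sqa.w]
      _ = (yon S).map (ιs ≫ e' ≫ α) ≫ q := by
          rw [← hα]; simp only [Functor.map_comp, Category.assoc]
      _ = (yon S).map (ιs ≫ β) ≫ q := by rw [hιs]
      _ = (yon S).map ιs ≫ (β'' ≫ q) := by
          rw [← hβ]; simp only [Functor.map_comp, Category.assoc]
      _ = (yon S).map ιs ≫ ((yon S).map e' ≫ bW) := by rw [sq'.w]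
      _ = (yon S).map (ιs ≫ e' ≫ ea) ≫ b := by
          rw [hbW]; simp only [Functor.map_comp, Category.assoc]
  obtain ⟨c, hc⟩ : ∃ c : (yon S).obj Es ⟶ P, c ≫ m = (yon S).map (ιs ≫ e' ≫ ea) :=
    ⟨equalizer.lift _ hcond, equalizer.lift_ι _ _⟩
  -- the chart square
  have key : ∀ s : PullbackCone m ((yon S).map ea), (s.snd ≫ α') ≫ q = s.snd ≫ bW := by
    intro s
    calc (s.snd ≫ α') ≫ q = s.snd ≫ ((yon S).map ea ≫ a) := by rw [Category.assoc, sqa.w]
      _ = (s.fst ≫ m) ≫ a := by rw [s.condition, Category.assoc]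
      _ = (s.fst ≫ m) ≫ b := by rw [Category.assoc, hm, Category.assoc]
      _ = s.snd ≫ bW := by rw [s.condition, Category.assoc, hbW]
  have hex : ∀ s : PullbackCone m ((yon S).map ea), ∃ z : s.pt ⟶ (yon S).obj Es,
      z ≫ (yon S).map ιs = sq'.lift (s.snd ≫ α') s.snd (key s) := by
    intro s
    apply exists_lift_yon_equalizer β (e' ≫ α)
    rw [hβ, sq'.lift_fst, Functor.map_comp, ← Category.assoc, sq'.lift_snd, hα]
  choose zf hzf using hex
  have sqc : IsPullback c ((yon S).map (ιs ≫ e')) m ((yon S).map ea) := by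
    refine ⟨⟨by rw [hc, ← Functor.map_comp, Category.assoc]⟩,
      ⟨PullbackCone.IsLimit.mk _ zf ?_ ?_ ?_⟩⟩
    · intro s
      apply (cancel_mono m).1
      rw [Category.assoc, hc, Functor.map_comp, ← Category.assoc, hzf, Functor.map_comp,
        ← Category.assoc, sq'.lift_snd, s.condition]
    · intro s
      rw [Functor.map_comp, ← Category.assoc, hzf, sq'.lift_snd]
    · intro s z hz1 hz2
      apply (cancel_mono ((yon S).map ιs)).1
      rw [hzf]
      apply sq'.hom_ext
      · rw [sq'.lift_fst, Category.assoc, ← hβ, ← Functor.map_comp, hιs, Functor.map_comp,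
          Functor.map_comp, hα, ← Category.assoc, ← Category.assoc, ← hz2]
        simp only [Functor.map_comp, Category.assoc]
      · rw [sq'.lift_snd, ← hz2, Functor.map_comp, Category.assoc]
  have hce : RepWith @Etale c :=
    (repWith_isStableUnderBaseChange (S := S) @Etale).of_isPullback sqc.flip
      ((repWith_yon_map_iff _ _).2 hea)
  have hcs : RepWith @Surjective c :=
    (repWith_isStableUnderBaseChange (S := S) @Surjective).of_isPullback sqc.flip
      ((repWith_yon_map_iff _ _).2 heas)
  -- `P` is an algebraic space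
  have hP : IsAlgSpace P :=
    { diag := MorphismProperty.of_isPullback
        (Groth.Agent.Helper4.AlgSpOpenImage.isPullback_diag_of_mono m) (IsAlgSpace.yon_obj Z).diag
      atlas := ⟨Es, c, hce, hcs⟩ }
  -- the inclusion is separated and locally quasi-finite
  have hsep : IsSeparatedMor m := Groth.Agent.Helper5.GpdSep.isSeparatedMor_of_mono m
  have hG := Groth.Agent.Helper4.SDClasses.good_lqf.{u}
  have hh : (@LocallyQuasiFinite ⊓ @LocallyOfFiniteType : MorphismProperty Scheme.{u})
      (ιs ≫ e').left := by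
    haveI := hG.comp
    haveI : IsImmersion ιs.left := isImmersion_equalizer_ι_left _ _
    have h1 : (@LocallyQuasiFinite ⊓ @LocallyOfFiniteType : MorphismProperty Scheme.{u})
        ιs.left := ⟨inferInstance, inferInstance⟩
    have h2 : (@LocallyQuasiFinite ⊓ @LocallyOfFiniteType : MorphismProperty Scheme.{u})
        e'.left := hG.etale_le _ he'
    exact MorphismProperty.comp_mem _ _ _ h1 h2
  have hqf : LocP (@LocallyQuasiFinite ⊓ @LocallyOfFiniteType) m :=
    Groth.Agent.Helper4.AlgSpLocPChart.locP_of_one_chart _ hG m c ((yon S).map ea) (ιs ≫ e')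
      hce hcs ((repWith_yon_map_iff _ _).2 hea) (by
        rw [hc, ← Functor.map_comp, Category.assoc]) hh
  exact Groth.Agent.Helper5.QfSch.isRepresentable_of_separated_lqf hP m hqf hsep

end Groth.Agent.Helper5.EtBoot
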