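import Mathlib
import Groth.Agent.Helper5.EtBoot1

/-!
# Helper5: an algebraic space with a jointly monic pair of maps to two schemes, one of them
locally quasi-finite, is a scheme
-/

set_option autoImplicit false
set_option linter.style.haveILetI false
universe u
open CategoryTheory CategoryTheory.Limits AlgebraicGeometry Opposite

namespace Groth.Agent.Helper5.EtBoot

open AlgSp

variable {S : Scheme.{u}}

set_option backward.isDefEq.respectTransparency.types false in
set_option maxHeartbeats 800000 in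
theorem isRepresentable_of_jointly_mono {P : Sp S} (hP : IsAlgSpace P) {X T : Over S}
    (fst : P ⟶ (yon S).obj X) (snd : P ⟶ (yon S).obj T)
    (hmono : ∀ ⦃G : Sp S⦄ (x y : G ⟶ P), x ≫ fst = y ≫ fst → x ≫ snd = y ≫ snd → x = y)
    (hsnd : LocP (@LocallyQuasiFinite ⊓ @LocallyOfFiniteType) snd) :
    P.obj.IsRepresentable := by
  let Z : Over S := X ⨯ T
  let κ : (yon S).obj Z ≅ (yon S).obj X ⨯ (yon S).obj T := PreservesLimitPair.iso (yon S) X T
  obtain ⟨g, hgdef⟩ : ∃ g : P ⟶ (yon S).obj Z, g = prod.lift fst snd ≫ κ.inv := ⟨_, rfl⟩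
  have hκ1 : κ.inv ≫ (yon S).map (prod.fst : Z ⟶ X) = prod.fst := by
    rw [Iso.inv_comp_eq]
    exact (prodComparison_fst (yon S) X T).symm
  have hκ2 : κ.inv ≫ (yon S).map (prod.snd : Z ⟶ T) = prod.snd := by
    rw [Iso.inv_comp_eq]
    exact (prodComparison_snd (yon S) X T).symm
  have hg1 : g ≫ (yon S).map (prod.fst : Z ⟶ X) = fst := by
    rw [hgdef, Category.assoc, hκ1, prod.lift_fst]
  have hg2 : g ≫ (yon S).map (prod.snd : Z ⟶ T) = snd := by
    rw [hgdef, Category.assoc, hκ2, prod.lift_snd]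
  haveI : Mono g := ⟨fun x y h => hmono x y
    (by rw [← hg1, ← Category.assoc, h, Category.assoc])
    (by rw [← hg2, ← Category.assoc, h, Category.assoc])⟩
  have hsep : IsSeparatedMor g := Groth.Agent.Helper5.GpdSep.isSeparatedMor_of_mono g
  have hG := Groth.Agent.Helper4.SDClasses.good_lqf.{u}
  obtain ⟨A, c, hce, hcs⟩ := hP.atlas
  obtain ⟨h, hh⟩ := (yon S).map_surjective (c ≫ g)
  have h1 : (@LocallyQuasiFinite ⊓ @LocallyOfFiniteType : MorphismProperty Scheme.{u})
      (h ≫ (prod.snd : Z ⟶ T)).left :=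
    hsnd c (𝟙 _) (h ≫ prod.snd) hce (repWith_id (@Etale.{u}) T) (by
      rw [Category.comp_id, Functor.map_comp, hh, Category.assoc, hg2])
  have h2 : (@LocallyQuasiFinite ⊓ @LocallyOfFiniteType : MorphismProperty Scheme.{u}) h.left := by
    have e : (h ≫ (prod.snd : Z ⟶ T)).left = h.left ≫ (prod.snd : Z ⟶ T).left := rfl
    rw [e] at h1
    haveI : LocallyQuasiFinite (h.left ≫ (prod.snd : Z ⟶ T).left) := h1.1
    haveI : LocallyOfFiniteType (h.left ≫ (prod.snd : Z ⟶ T).left) := h1.2
    exact ⟨LocallyQuasiFinite.of_comp h.left (prod.snd : Z ⟶ T).left,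
      locallyOfFiniteType_of_comp h.left (prod.snd : Z ⟶ T).left⟩
  have hqf : LocP (@LocallyQuasiFinite ⊓ @LocallyOfFiniteType) g :=
    Groth.Agent.Helper4.AlgSpLocPChart.locP_of_one_chart _ hG g c (𝟙 _) h hce hcs
      (repWith_id (@Etale.{u}) Z) (by rw [Category.comp_id, hh]) h2
  exact Groth.Agent.Helper5.QfSch.isRepresentable_of_separated_lqf hP g hqf hsep

end Groth.Agent.Helper5.EtBoot
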