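import Mathlib
import Groth.Agent.Helper5.EtBoot2

/-!
# Helper5: bootstrapping, a surjective étale map representable by algebraic spaces from a scheme
chart is representable by schemes
-/

set_option autoImplicit false
set_option linter.style.haveILetI false
universe u
open CategoryTheory CategoryTheory.Limits AlgebraicGeometry Opposite

namespace Groth.Agent.Helper5.EtBoot

open AlgSp

variable {S : Scheme.{u}}

set_option backward.isDefEq.respectTransparency.types false in
set_option maxHeartbeats 800000 in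
theorem exists_scheme_pullback {F X XT UT : Sp S} (hX : IsAlgSpace X) {U T : Over S}
    (c : (yon S).obj U ⟶ X) (hce : RepWith @Etale c) (hcs : RepWith @Surjective c)
    (p : X ⟶ F) (ξ : (yon S).obj T ⟶ F) (fstX : XT ⟶ X) (sndX : XT ⟶ (yon S).obj T)
    (sqX : IsPullback fstX sndX p ξ) (hXT : IsAlgSpace XT) (hsurj : IsSurjectiveMor sndX)
    (het : IsEtaleMor sndX) (a' : UT ⟶ (yon S).obj U) (c' : UT ⟶ XT)
    (sqU : IsPullback a' c' c fstX) :
    ∃ (W : Over S) (a : (yon S).obj W ⟶ (yon S).obj U) (b : W ⟶ T),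
      IsPullback a ((yon S).map b) (c ≫ p) ξ ∧ Etale b.left ∧ Surjective b.left := by
  have hG := Groth.Agent.Helper4.SDClasses.good_lqf.{u}
  have hUT : IsAlgSpace UT :=
    Groth.Agent.Helper4.AlgSpPB.isAlgSpace_of_isPullback hX.diag
      (IsAlgSpace.yon_obj U) hXT c fstX a' c' sqU
  have hc'e : RepWith @Etale c' :=
    (repWith_isStableUnderBaseChange (S := S) @Etale).of_isPullback sqU hce
  have hc's : RepWith @Surjective c' :=
    (repWith_isStableUnderBaseChange (S := S) @Surjective).of_isPullback sqU hcs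
  obtain ⟨V, d, hde, hds⟩ := hUT.atlas
  have h1 : RepWith @Etale ((d ≫ c') ≫ sndX) :=
    het (d ≫ c') (Groth.Agent.Helper4.AlgSpSrc.repWith_comp _ hde hc'e)
  obtain ⟨h, hh⟩ := (yon S).map_surjective ((d ≫ c') ≫ sndX)
  rw [← hh] at h1
  have h2 : Etale h.left := (repWith_yon_map_iff _ h).1 h1
  haveI := h2
  haveI : LocallyQuasiFinite h.left := Groth.Agent.Helper4.SchLQF.locallyQuasiFinite_of_etale _
  have hqf : LocP (@LocallyQuasiFinite ⊓ @LocallyOfFiniteType) (c' ≫ sndX) :=
    Groth.Agent.Helper4.AlgSpLocPChart.locP_of_one_chart _ hG (c' ≫ sndX) d (𝟙 _) h hde hds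
      (repWith_id (@Etale.{u}) T) (by rw [Category.comp_id, hh, Category.assoc])
      ⟨inferInstance, inferInstance⟩
  have hrep := isRepresentable_of_jointly_mono hUT a' (c' ≫ sndX)
    (fun G x y e1 e2 => by
      apply sqU.hom_ext e1
      apply sqX.hom_ext
      · rw [Category.assoc, Category.assoc, ← sqU.w, ← Category.assoc, e1, Category.assoc]
      · simpa using e2) hqf
  obtain ⟨W, ⟨r⟩⟩ := hrep.has_representation
  let e : (yon S).obj W ≅ UT := isoOfRepresentableBy r
  obtain ⟨b, hb⟩ := (yon S).map_surjective (e.hom ≫ c' ≫ sndX)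
  have h3 : RepWith @Etale ((e.hom ≫ c') ≫ sndX) :=
    het (e.hom ≫ c') ((MorphismProperty.cancel_left_of_respectsIso _ e.hom c').2 hc'e)
  rw [Category.assoc, ← hb] at h3
  have hbs : IsSurjectiveMor ((yon S).map b) := by
    rw [hb]
    intro t
    obtain ⟨x, hx⟩ := hsurj t
    obtain ⟨y, hy⟩ := Groth.Agent.Helper4.AlgSpPts.isSurjectiveMor_of_repWith c' hc's x
    refine ⟨Points.map e.inv y, ?_⟩
    rw [← Points.map_comp, Iso.inv_hom_id_assoc, Points.map_comp, hy, hx]
  refine ⟨W, e.hom ≫ a', b, ?_, (repWith_yon_map_iff _ b).1 h3, ⟨fun t => ?_⟩⟩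
  · rw [hb]
    have big : IsPullback a' (c' ≫ sndX) (c ≫ p) ξ := (sqU.flip.paste_horiz sqX.flip).flip
    exact IsPullback.of_iso big e.symm (Iso.refl _) (Iso.refl _) (Iso.refl _)
      (by simp) (by simp) (by simp) (by simp)
  · obtain ⟨x, hx⟩ := hbs (Points.schemeHomeo T t)
    obtain ⟨w, rfl⟩ := (Points.schemeHomeo W).surjective x
    rw [Points.map_yon_map_apply] at hx
    exact ⟨w, (Points.schemeHomeo T).injective hx⟩

set_option backward.isDefEq.respectTransparency.types false in
theorem repWith_etale_surj_of_forall {F : Sp S} {U : Over S} (q : (yon S).obj U ⟶ F)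
    (key : ∀ ⦃T : Over S⦄ (ξ : (yon S).obj T ⟶ F),
      ∃ (W : Over S) (a : (yon S).obj W ⟶ (yon S).obj U) (b : W ⟶ T),
        IsPullback a ((yon S).map b) q ξ ∧ Etale b.left ∧ Surjective b.left) :
    RepWith @Etale q ∧ RepWith @Surjective q := by
  constructor
  · exact MorphismProperty.relative.of_exists (fun T ξ => by
      obtain ⟨W, a, b, sq, hbe, -⟩ := key ξ
      exact ⟨W, a, b, sq, hbe⟩)
  · exact MorphismProperty.relative.of_exists (fun T ξ => by
      obtain ⟨W, a, b, sq, -, hbs⟩ := key ξ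
      exact ⟨W, a, b, sq, hbs⟩)

end Groth.Agent.Helper5.EtBoot
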