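import Mathlib

/-! Algebra behind: schematic density of an open (in the strong sense) is preserved by passing to an
open of a finite free cover. -/

set_option autoImplicit false
open Polynomial

namespace Groth.Agent.Helper5.EtDense

/-- `𝒯`-torsion freeness of all the localisations `A_a` -/
def TorsFree (A : Type*) [CommRing A] (𝒯 : Set A) : Prop :=
  ∀ a x : A, (∀ t ∈ 𝒯, ∃ n : ℕ, (a * t) ^ n * x = 0) → ∃ n : ℕ, a ^ n * x = 0

variable {A C : Type*} [CommRing A] [CommRing C] [Algebra A C]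

theorem torsFree_module [Module.Free A C] [Module.Finite A C] (𝒯 : Set A) (H : TorsFree A 𝒯)
    (a : A) (c : C) (hc : ∀ t ∈ 𝒯, ∃ n : ℕ, (a * t) ^ n • c = 0) : ∃ n : ℕ, a ^ n • c = 0 := by
  classical
  let b := Module.Free.chooseBasis A C
  haveI : Fintype (Module.Free.ChooseBasisIndex A C) := Module.Free.ChooseBasisIndex.fintype A C
  have h1 : ∀ i, ∃ n : ℕ, a ^ n * b.repr c i = 0 := by
    intro i
    apply H
    intro t ht
    obtain ⟨n, hn⟩ := hc t ht
    refine ⟨n, ?_⟩
    have := congrArg (fun y => b.repr y i) hn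
    simpa using this
  choose n hn using h1
  refine ⟨∑ i, n i, ?_⟩
  apply b.repr.injective
  ext i
  have hle : n i ≤ ∑ i, n i := Finset.single_le_sum (fun _ _ => Nat.zero_le _) (Finset.mem_univ i)
  rw [map_smul, Finsupp.smul_apply, smul_eq_mul, map_zero, Finsupp.zero_apply,
    ← Nat.sub_add_cancel hle, pow_add, mul_assoc, hn i, mul_zero]

/-- the inductive step -/
theorem step [Module.Free A C] [Module.Finite A C] (𝒯 : Set A) (H : TorsFree A 𝒯) (h c : C)
    (hc : ∀ t ∈ 𝒯, ∃ n : ℕ, (h * algebraMap A C t) ^ n * c = 0)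
    (a : A) (ρ q₁ : C) (m : ℕ) (hρ : ρ + h ^ m * (algebraMap A C a + h * q₁) = 0)
    (N₂ N : ℕ) (hρc : ρ ^ N₂ * (h ^ N * c) = 0) :
    ∃ n : ℕ, (h * algebraMap A C a) ^ n * c = 0 := by
  set α := algebraMap A C a with hα
  -- expand the power
  obtain ⟨k, hk⟩ : ∃ k : C, (α + h * q₁) ^ N₂ = α ^ N₂ + h * k := by
    obtain ⟨k, hk⟩ := sub_dvd_pow_sub_pow (α + h * q₁) α N₂
    refine ⟨q₁ * k, ?_⟩
    have : (α + h * q₁) ^ N₂ - α ^ N₂ = h * q₁ * k := by rw [hk]; ring
    rw [sub_eq_iff_eq_add] at this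
    rw [this]; ring
  set c'' := h ^ (m * N₂ + N) * c with hc''
  have h1 : α ^ N₂ * c'' = h * (-k) * c'' := by
    have e : ρ = -(h ^ m * (α + h * q₁)) := eq_neg_of_add_eq_zero_left hρ
    have e2 : ρ ^ N₂ * (h ^ N * c) = (-1) ^ N₂ * ((α ^ N₂ + h * k) * c'') := by
      rw [e, neg_pow, mul_pow, hk, hc'', ← pow_mul]; ring
    rw [e2] at hρc
    have hu : IsUnit ((-1 : C) ^ N₂) := (isUnit_one.neg).pow N₂
    have := hu.mul_right_eq_zero.1 hρc
    have e3 : α ^ N₂ * c'' = (α ^ N₂ + h * k) * c'' - h * k * c'' := by ring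
    rw [e3, this]; ring
  have h2 : ∀ K : ℕ, (α ^ N₂) ^ K * c'' = (h * (-k)) ^ K * c'' := by
    intro K
    induction K with
    | zero => simp
    | succ K ih =>
      rw [pow_succ, mul_assoc, h1, ← mul_assoc, mul_comm ((α ^ N₂) ^ K), mul_assoc, ih]; ring
  have h3 : ∀ t ∈ 𝒯, ∃ n : ℕ, (a ^ N₂ * t) ^ n • c'' = 0 := by
    intro t ht
    obtain ⟨K, hK⟩ := hc t ht
    refine ⟨K, ?_⟩
    rw [Algebra.smul_def, map_pow, map_mul, map_pow, mul_pow, mul_assoc,
      mul_comm (algebraMap A C t ^ K), ← mul_assoc, ← hα, h2 K]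
    have : (h * -k) ^ K * c'' * algebraMap A C t ^ K =
        (-k) ^ K * h ^ (m * N₂ + N) * ((h * algebraMap A C t) ^ K * c) := by
      rw [hc'']; ring
    rw [this, hK, mul_zero]
  obtain ⟨n, hn⟩ := torsFree_module 𝒯 H (a ^ N₂) c'' h3
  rw [Algebra.smul_def, map_pow, map_pow, ← hα, hc''] at hn
  refine ⟨N₂ * n + (m * N₂ + N), ?_⟩
  have : (h * α) ^ (N₂ * n + (m * N₂ + N)) * c =
      h ^ (N₂ * n) * α ^ (m * N₂ + N) * ((α ^ N₂) ^ n * (h ^ (m * N₂ + N) * c)) := by
    rw [← pow_mul]; ring
  rw [this, hn, mul_zero]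

/-- the main algebraic statement: `𝒯`-torsion freeness passes to all localisations `C_h` of a finite free
`A`-algebra `C`. -/
theorem main [Module.Free A C] [Module.Finite A C] (𝒯 : Set A) (H : TorsFree A 𝒯) (h c : C)
    (hc : ∀ t ∈ 𝒯, ∃ n : ℕ, (h * algebraMap A C t) ^ n * c = 0) : ∃ n : ℕ, h ^ n * c = 0 := by
  set χ := (Algebra.lmul A C h).charpoly with hχ
  have hmonic : χ.Monic := LinearMap.charpoly_monic _
  have hCH : aeval h χ = 0 := Algebra.aeval_self_charpoly_lmul h
  set d := χ.natDegree with hd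
  have key : ∀ m, m ≤ d → ∃ n : ℕ, (h * algebraMap A C (χ.coeff m)) ^ n * c = 0 := by
    intro m
    induction m using Nat.strong_induction_on with
    | _ m ih =>
      intro hm
      have hex : ∀ i ∈ Finset.range m, ∃ n : ℕ, (h * algebraMap A C (χ.coeff i)) ^ n * c = 0 :=
        fun i hi => ih i (Finset.mem_range.1 hi) ((Finset.mem_range.1 hi).le.trans hm)
      choose! n hn using hex
      let N := ∑ i ∈ Finset.range m, n i
      have hN : ∀ i ∈ Finset.range m, (h * algebraMap A C (χ.coeff i)) ^ N * c = 0 := by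
        intro i hi
        have hle : n i ≤ N := Finset.single_le_sum (fun _ _ => Nat.zero_le _) hi
        rw [← Nat.sub_add_cancel hle, pow_add, mul_assoc, hn i hi, mul_zero]
      let ρ : C := ∑ i ∈ Finset.range m, algebraMap A C (χ.coeff i) * h ^ i
      let q₁ : C := ∑ i ∈ Finset.range (d - m), algebraMap A C (χ.coeff (m + 1 + i)) * h ^ i
      have hρ : ρ + h ^ m * (algebraMap A C (χ.coeff m) + h * q₁) = 0 := by
        rw [aeval_eq_sum_range] at hCH
        have e1 : χ.natDegree + 1 = m + ((d - m) + 1) := by omega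
        rw [e1, Finset.sum_range_add, Finset.sum_range_succ'] at hCH
        rw [← hCH]
        congr 1
        · exact Finset.sum_congr rfl fun i _ => (Algebra.smul_def _ _).symm
        · rw [mul_add, add_comm, Finset.mul_sum, Finset.mul_sum]
          congr 1
          · apply Finset.sum_congr rfl
            intro i _
            have e2 : m + (i + 1) = m + 1 + i := by omega
            rw [e2, Algebra.smul_def]; ring
          · rw [Algebra.smul_def, add_zero]; ring
      apply step 𝒯 H h c hc (χ.coeff m) ρ q₁ m hρ (m * N + 1) N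
      have hmem := Ideal.sum_pow_mem_span_pow (Finset.range m)
        (fun i => algebraMap A C (χ.coeff i) * h ^ i) N
      rw [Finset.card_range] at hmem
      let Ann : Ideal C := LinearMap.ker (LinearMap.toSpanSingleton C C (h ^ N * c))
      have hle : Ideal.span ((fun i => (algebraMap A C (χ.coeff i) * h ^ i) ^ (N + 1)) ''
          (Finset.range m : Set ℕ)) ≤ Ann := by
        rw [Ideal.span_le]
        rintro _ ⟨i, hi, rfl⟩
        show LinearMap.toSpanSingleton C C (h ^ N * c) _ = 0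
        rw [LinearMap.toSpanSingleton_apply, smul_eq_mul]
        have : (algebraMap A C (χ.coeff i) * h ^ i) ^ (N + 1) * (h ^ N * c) =
            algebraMap A C (χ.coeff i) * (h ^ i) ^ (N + 1) *
              ((h * algebraMap A C (χ.coeff i)) ^ N * c) := by ring
        rw [this, hN i hi, mul_zero]
      have := hle hmem
      change LinearMap.toSpanSingleton C C (h ^ N * c) _ = 0 at this
      rwa [LinearMap.toSpanSingleton_apply, smul_eq_mul] at this
  obtain ⟨n, hn⟩ := key d le_rfl
  have : χ.coeff d = 1 := hmonic.coeff_natDegree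
  rw [this, map_one, mul_one] at hn
  exact ⟨n, hn⟩

end Groth.Agent.Helper5.EtDense
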