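import Groth.Agent.Helper5.EtDense1
import Mathlib

set_option autoImplicit false
open Polynomial

namespace Groth.Agent.Helper5.EtDense

/-- `𝒯`-torsion freeness passes to a standard étale algebra. -/
theorem eq_zero_of_isStandardEtale {A B : Type*} [CommRing A] [CommRing B] [Algebra A B]
    [Algebra.IsStandardEtale A B] (𝒯 : Set A) (H : TorsFree A 𝒯) (b : B)
    (hb : ∀ t ∈ 𝒯, ∃ n : ℕ, t ^ n • b = 0) : b = 0 := by
  let P : StandardEtalePresentation A B :=
    Algebra.IsStandardEtale.nonempty_standardEtalePresentation.some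
  let C := AdjoinRoot P.f
  let h : C := AdjoinRoot.mk P.f P.g
  haveI : Module.Free A C := P.monic_f.free_adjoinRoot
  haveI : Module.Finite A C := P.monic_f.finite_adjoinRoot
  let L := Localization.Away h
  let e : B ≃ₐ[A] L := P.equivRing.trans P.equivAwayAdjoinRoot
  obtain ⟨⟨c, ⟨_, n, rfl⟩⟩, hc⟩ := IsLocalization.surj (Submonoid.powers h) (e b)
  replace hc : e b * algebraMap C L (h ^ n) = algebraMap C L c := hc
  have hc' : ∀ t ∈ 𝒯, ∃ n : ℕ, (h * algebraMap A C t) ^ n * c = 0 := by
    intro t ht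
    obtain ⟨k, hk⟩ := hb t ht
    have h1 : algebraMap C L (algebraMap A C t ^ k * c) = 0 := by
      rw [map_mul, ← hc, ← mul_assoc, map_pow, ← IsScalarTower.algebraMap_apply, ← map_pow,
        ← Algebra.smul_def, ← map_smul, hk, map_zero, zero_mul]
    rw [IsLocalization.map_eq_zero_iff (Submonoid.powers h)] at h1
    obtain ⟨⟨_, m, rfl⟩, hm⟩ := h1
    refine ⟨m + k, ?_⟩
    have : (h * algebraMap A C t) ^ (m + k) * c =
        h ^ k * algebraMap A C t ^ m * (h ^ m * (algebraMap A C t ^ k * c)) := by ring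
    rw [this, hm, mul_zero]
  obtain ⟨N, hN⟩ := main 𝒯 H h c hc'
  have h2 : algebraMap C L c = 0 := by
    rw [IsLocalization.map_eq_zero_iff (Submonoid.powers h)]
    exact ⟨⟨h ^ N, N, rfl⟩, hN⟩
  rw [h2] at hc
  have hu : IsUnit (algebraMap C L (h ^ n)) :=
    IsLocalization.map_units L (⟨h ^ n, n, rfl⟩ : Submonoid.powers h)
  have h3 : e b = 0 := hu.mul_left_eq_zero.1 hc
  exact (map_eq_zero_iff e e.injective).1 h3

end Groth.Agent.Helper5.EtDense
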