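import Groth.Agent.Helper5.EtDense2
import Groth.Agent.Helper3.SchDense
import Mathlib

/-! Schematic density (in the strong sense of the prelude) is preserved by étale pullback and descends
along étale surjective morphisms. -/

set_option autoImplicit false
universe u
open AlgebraicGeometry CategoryTheory CategoryTheory.Limits TopologicalSpace Opposite

namespace Groth.Agent.Helper5.EtDense

open Groth Groth.Agent.Helper3.SchDense

/-- the torsion freeness of the rings of an affine open coming from schematic density -/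
theorem torsFree_of_isSchematicallyDense {V : Scheme.{u}} (W : V.Opens)
    (hW : CInt.IsSchematicallyDense W) {U : V.Opens} (hU : IsAffineOpen U) :
    TorsFree Γ(V, U) {t | V.basicOpen t ≤ W} := by
  intro a x hx
  apply exists_pow_mul_eq_zero hU a x
  apply (injective_iff_map_eq_zero _).1 (hW (V.basicOpen a))
  apply eq_zero_of_germ
  intro y hy
  have hyU : y ∈ U := V.basicOpen_le a hy.1
  obtain ⟨t, htW, hyt⟩ := hU.exists_basicOpen_le (V := W) ⟨y, hy.2⟩ hyU
  obtain ⟨n, hn⟩ := hx t htW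
  have e1 : V.presheaf.germ (V.basicOpen a ⊓ W) y hy
      (V.presheaf.map (homOfLE (inf_le_left : V.basicOpen a ⊓ W ≤ V.basicOpen a)).op
        (V.presheaf.map (homOfLE (V.basicOpen_le a)).op x)) = V.presheaf.germ U y hyU x := by
    rw [TopCat.Presheaf.germ_res_apply, TopCat.Presheaf.germ_res_apply]
  rw [e1]
  have hua : IsUnit (V.presheaf.germ U y hyU a) := (Scheme.mem_basicOpen V a y hyU).mp hy.1
  have hut : IsUnit (V.presheaf.germ U y hyU t) := (Scheme.mem_basicOpen V t y hyU).mp hyt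
  have h2 : V.presheaf.germ U y hyU ((a * t) ^ n * x) = 0 := by rw [hn, map_zero]
  rw [map_mul, map_pow, map_mul] at h2
  exact ((hua.mul hut).pow n).mul_right_eq_zero.mp h2

set_option maxHeartbeats 800000 in
/-- étale pullback of a schematically dense open -/
theorem isSchematicallyDense_preimage_of_etale {P V : Scheme.{u}} (g : P ⟶ V) [Etale g]
    (W : V.Opens) (hW : CInt.IsSchematicallyDense W) : CInt.IsSchematicallyDense (g ⁻¹ᵁ W) := by
  intro V''
  rw [injective_iff_map_eq_zero]
  intro b hb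
  apply eq_zero_of_germ
  intro p hp
  obtain ⟨_, ⟨UA, hUA, rfl⟩, hpUA, -⟩ := V.isBasis_affineOpens.exists_subset_of_mem_open
    (Set.mem_univ (g p)) isOpen_univ
  replace hUA : IsAffineOpen UA := hUA
  have hp2 : p ∈ V'' ⊓ g ⁻¹ᵁ UA := ⟨hp, hpUA⟩
  obtain ⟨_, ⟨UB, hUB, rfl⟩, hpUB, hUBle : UB ≤ V'' ⊓ g ⁻¹ᵁ UA⟩ :=
    P.isBasis_affineOpens.exists_subset_of_mem_open hp2 (V'' ⊓ g ⁻¹ᵁ UA).2
  replace hUB : IsAffineOpen UB := hUB
  have e : UB ≤ g ⁻¹ᵁ UA := hUBle.trans inf_le_right
  have hUBV : UB ≤ V'' := hUBle.trans inf_le_left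
  have hφ : (g.appLE UA UB e).hom.Etale := g.etale_appLE hUA hUB e
  letI : Algebra Γ(V, UA) Γ(P, UB) := (g.appLE UA UB e).hom.toAlgebra
  haveI : Algebra.Etale Γ(V, UA) Γ(P, UB) := hφ
  let bB : Γ(P, UB) := P.presheaf.map (homOfLE hUBV).op b
  let Q : Ideal Γ(P, UB) := (IsLocalRing.maximalIdeal (P.presheaf.stalk p)).comap
    (P.presheaf.germ UB p hpUB).hom
  haveI : Q.IsPrime := Ideal.comap_isPrime _ _
  haveI : Algebra.FormallyEtale Γ(P, UB) (Localization.AtPrime Q) :=
    Algebra.FormallyEtale.of_isLocalization Q.primeCompl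
  haveI : Algebra.IsEtaleAt Γ(V, UA) Q := Algebra.FormallyEtale.comp Γ(V, UA) Γ(P, UB) _
  obtain ⟨f', hf'Q, hstd⟩ := Algebra.IsEtaleAt.exists_isStandardEtale (R := Γ(V, UA)) Q
  have key : algebraMap Γ(P, UB) (Localization.Away f') bB = 0 := by
    apply eq_zero_of_isStandardEtale (A := Γ(V, UA)) {t | V.basicOpen t ≤ W}
      (torsFree_of_isSchematicallyDense W hW hUA)
    intro t ht
    have h1 : ∃ n : ℕ, (g.appLE UA UB e t) ^ n * bB = 0 := by
      apply exists_pow_mul_eq_zero hUB
      have hle : P.basicOpen (g.appLE UA UB e t) ≤ V'' ⊓ g ⁻¹ᵁ W := by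
        rw [Scheme.basicOpen_appLE]
        intro y hy
        exact ⟨hUBV hy.1, ht hy.2⟩
      have : P.presheaf.map (homOfLE (P.basicOpen_le (g.appLE UA UB e t))).op bB =
          P.presheaf.map (homOfLE hle).op
            (P.presheaf.map (homOfLE (inf_le_left : V'' ⊓ g ⁻¹ᵁ W ≤ V'')).op b) := by
        show (P.presheaf.map (homOfLE hUBV).op ≫
            P.presheaf.map (homOfLE (P.basicOpen_le (g.appLE UA UB e t))).op) b =
          (P.presheaf.map (homOfLE (inf_le_left : V'' ⊓ g ⁻¹ᵁ W ≤ V'')).op ≫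
            P.presheaf.map (homOfLE hle).op) b
        rw [← Functor.map_comp, ← Functor.map_comp]
        rfl
      rw [this, hb, map_zero]
    obtain ⟨n, hn⟩ := h1
    refine ⟨n, ?_⟩
    rw [Algebra.smul_def, map_pow,
      IsScalarTower.algebraMap_apply Γ(V, UA) Γ(P, UB) (Localization.Away f'), ← map_pow, ← map_mul]
    have : algebraMap Γ(V, UA) Γ(P, UB) t = g.appLE UA UB e t := rfl
    rw [this, hn, map_zero]
  rw [IsLocalization.map_eq_zero_iff (Submonoid.powers f')] at key
  obtain ⟨⟨_, m, rfl⟩, hm⟩ := key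
  have hu : IsUnit (P.presheaf.germ UB p hpUB f') := by
    by_contra hnu
    exact hf'Q ((IsLocalRing.mem_maximalIdeal _).2 hnu)
  have e2 : P.presheaf.germ UB p hpUB bB = P.presheaf.germ V'' p hp b :=
    TopCat.Presheaf.germ_res_apply _ _ _ _ _
  rw [← e2]
  have h2 : P.presheaf.germ UB p hpUB (f' ^ m * bB) = 0 := by rw [hm, map_zero]
  rw [map_mul, map_pow] at h2
  exact (hu.pow m).mul_right_eq_zero.mp h2

theorem stalkMap_injective {X Y : Scheme.{u}} (f : X ⟶ Y) [Flat f] (x : X) :
    Function.Injective (f.stalkMap x) := by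
  algebraize [(f.stalkMap x).hom]
  have : Module.FaithfullyFlat (Y.presheaf.stalk (f x)) (X.presheaf.stalk x) :=
    @Module.FaithfullyFlat.of_flat_of_isLocalHom _ _ _ _ _ _ _
      (Flat.stalkMap f x) (f.toLRSHom.prop x)
  exact ‹RingHom.FaithfullyFlat _›.injective

/-- sections inject along a flat surjective morphism -/
theorem app_injective_of_flat_of_surjective {P V : Scheme.{u}} (g : P ⟶ V) [Flat g] [Surjective g]
    (V' : V.Opens) : Function.Injective (g.app V') := by
  rw [injective_iff_map_eq_zero]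
  intro a ha
  apply eq_zero_of_germ
  intro y hy
  obtain ⟨p, rfl⟩ := ‹Surjective g›.surj y
  apply stalkMap_injective g p
  rw [Scheme.Hom.germ_stalkMap_apply, ha, map_zero, map_zero]

/-- schematic density descends along flat surjective morphisms -/
theorem isSchematicallyDense_of_preimage {P V : Scheme.{u}} (g : P ⟶ V) [Flat g] [Surjective g]
    (W : V.Opens) (h : CInt.IsSchematicallyDense (g ⁻¹ᵁ W)) : CInt.IsSchematicallyDense W := by
  intro V'
  rw [injective_iff_map_eq_zero]
  intro a ha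
  apply app_injective_of_flat_of_surjective g V'
  rw [map_zero]
  apply (injective_iff_map_eq_zero _).1 (h (g ⁻¹ᵁ V'))
  have nat := g.naturality (homOfLE (inf_le_left : V' ⊓ W ≤ V')).op
  have : P.presheaf.map (homOfLE (inf_le_left : g ⁻¹ᵁ V' ⊓ g ⁻¹ᵁ W ≤ g ⁻¹ᵁ V')).op (g.app V' a) =
      g.app (V' ⊓ W) (V.presheaf.map (homOfLE (inf_le_left : V' ⊓ W ≤ V')).op a) := by
    have := congrArg (fun φ => φ a) (congrArg CommRingCat.Hom.hom nat)
    exact this.symm
  rw [this, ha, map_zero]
  rfl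

end Groth.Agent.Helper5.EtDense
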