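import Groth.Prelude.Def_AlgSpDec
import Groth.Agent.Helper5.EtDim
import Groth.Agent.Helper5.HasAtChart
import Groth.Agent.Helper5.GeomRed2
import Mathlib

set_option autoImplicit false
universe u
open CategoryTheory CategoryTheory.Limits AlgebraicGeometry Opposite

namespace Groth.Agent.Helper5.EtDim

open AlgSp Groth.Agent.Helper5.HasAtChart Groth.Agent.Helper5.GeomRed

variable {S : Scheme.{u}}

/-- Transfer of étale-invariant pointwise properties along étale morphisms of algebraic spaces. -/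
theorem hasAt_iff_of_isEtaleMor (Q : ∀ U : Scheme.{u}, ↥U → Prop)
    (hQ : ∀ {A B : Scheme.{u}} (g : A ⟶ B) [Etale g] (x : ↥A), Q A x ↔ Q B (g x))
    {X Y : Sp S} (hX : IsAlgSpace X) (f : X ⟶ Y) (hf : IsEtaleMor f) (x : Points X) :
    HasAt Q X x ↔ HasAt Q Y (Points.map f x) := by
  obtain ⟨U, a, u, ha, rfl⟩ := exists_chart_point hX x
  rw [hasAt_iff_chart Q hQ a ha u, ← ofPt_comp, hasAt_iff_chart Q hQ (a ≫ f) (hf a ha) u]

theorem hasAt_iff_forall_chart (Q : ∀ U : Scheme.{u}, ↥U → Prop)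
    (hQ : ∀ {A B : Scheme.{u}} (g : A ⟶ B) [Etale g] (x : ↥A), Q A x ↔ Q B (g x))
    {X : Sp S} (hX : IsAlgSpace X) (x : Points X) :
    HasAt Q X x ↔ ∀ (U : Over S) (a : (yon S).obj U ⟶ X) (u : ↥U.left),
        RepWith @Etale a → Points.ofPt a u = x → Q U.left u := by
  constructor
  · rintro h U a u ha rfl
    exact (hasAt_iff_chart Q hQ a ha u).1 h
  · intro h
    obtain ⟨U, a, u, ha, hu⟩ := exists_chart_point hX x
    exact ⟨U, a, u, ha, hu, h U a u ha hu⟩

theorem dim_eq_of_etale_surjective {X Y : Sp S} (hX : IsAlgSpace X) (f : X ⟶ Y)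
    (hf : IsEtaleMor f) (hs : IsSurjectiveMor f) : AlgSp.dim X = AlgSp.dim Y := by
  unfold AlgSp.dim
  apply le_antisymm
  · refine iSup_le fun U => iSup_le fun a => iSup_le fun ha => ?_
    exact le_iSup_of_le U (le_iSup_of_le (a ≫ f) (le_iSup_of_le (hf a ha) le_rfl))
  · refine iSup_le fun V => iSup_le fun b => iSup_le fun hb => ?_
    rw [topologicalKrullDim_eq_iSup_coheight]
    refine iSup_le fun v => ?_
    obtain ⟨x, hx⟩ := hs (Points.ofPt b v)
    obtain ⟨U, a, u, ha, rfl⟩ := exists_chart_point hX x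
    rw [← ofPt_comp] at hx
    have h1 : Order.coheight v = Order.coheight u := by
      have := chart_indep (fun W w => Order.coheight w = Order.coheight u)
        (fun g _ w => by rw [coheight_eq_of_etale g w]) (a ≫ f) b (hf a ha) hb u v hx rfl
      exact this
    rw [h1]
    refine le_iSup_of_le U (le_iSup_of_le a (le_iSup_of_le ha ?_))
    rw [topologicalKrullDim_eq_iSup_coheight]
    exact le_iSup (fun w : ↥U.left => ((Order.coheight w : ℕ∞) : WithBot ℕ∞)) u

end Groth.Agent.Helper5.EtDim
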