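import Groth.Prelude.Def_AlgSpDec
import Groth.Agent.Helper5.EtDim2
import Groth.Agent.Helper5.SrcEt
import Mathlib

set_option autoImplicit false
universe u
open CategoryTheory CategoryTheory.Limits AlgebraicGeometry Opposite

namespace Groth.Agent.Helper5.EtDim

open AlgSp Groth.Agent.Helper5.HasAtChart Groth.Agent.Helper5.GeomRed

variable {S : Scheme.{u}}

theorem coheight_le_of_lqf {A B : Scheme.{u}} (g : A ⟶ B) [LocallyQuasiFinite g] (a : ↥A) :
    Order.coheight a ≤ Order.coheight (g a) :=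
  Order.coheight_le_coheight_apply_of_strictMono (fun a : ↥A => g a) (strictMono_of_lqf g) a

/-- For a locally quasi-finite morphism, each chart point of the source has codimension at most
that of some chart point over its image. -/
theorem exists_chart_coheight_le {X Y : Sp S} (hX : IsAlgSpace X) (hY : IsAlgSpace Y) (f : X ⟶ Y)
    (hf : LocP (@LocallyQuasiFinite ⊓ @LocallyOfFiniteType) f)
    {U : Over S} (a : (yon S).obj U ⟶ X) (ha : RepWith @Etale a) (u : ↥U.left) :
    ∃ (V : Over S) (b : (yon S).obj V ⟶ Y) (v : ↥V.left), RepWith @Etale b ∧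
      Points.ofPt b v = Points.map f (Points.ofPt a u) ∧ Order.coheight u ≤ Order.coheight v := by
  obtain ⟨U', V', a', b', h, u', ha', hb', hcomm, hu'⟩ :=
    Groth.Agent.Helper5.SrcEt.exists_chart_at hX hY f (Points.ofPt a u)
  have hlqf : LocallyQuasiFinite h.left := (hf a' b' h ha' hb' hcomm).1
  refine ⟨V', b', h.left u', hb', ?_, ?_⟩
  · rw [← Groth.Agent.Helper4.AlgSpPtsDesc.ofPt_yon_map_comp, ← hcomm, ofPt_comp, hu']
  · have h1 : Order.coheight u = Order.coheight u' := by
      have := chart_indep (fun W w => Order.coheight w = Order.coheight u')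
        (fun g _ w => by rw [coheight_eq_of_etale g w]) a' a ha' ha u' u hu' rfl
      exact this
    rw [h1]
    exact coheight_le_of_lqf h.left u'

theorem dim_le_of_lqf {X Y : Sp S} (hX : IsAlgSpace X) (hY : IsAlgSpace Y) (f : X ⟶ Y)
    (hf : LocP (@LocallyQuasiFinite ⊓ @LocallyOfFiniteType) f) : AlgSp.dim X ≤ AlgSp.dim Y := by
  unfold AlgSp.dim
  refine iSup_le fun U => iSup_le fun a => iSup_le fun ha => ?_
  rw [topologicalKrullDim_eq_iSup_coheight]
  refine iSup_le fun u => ?_
  obtain ⟨V, b, v, hb, -, hle⟩ := exists_chart_coheight_le hX hY f hf a ha u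
  refine le_iSup_of_le V (le_iSup_of_le b (le_iSup_of_le hb ?_))
  rw [topologicalKrullDim_eq_iSup_coheight]
  refine le_trans ?_ (le_iSup (fun w : ↥V.left => ((Order.coheight w : ℕ∞) : WithBot ℕ∞)) v)
  exact_mod_cast hle

theorem stalk_dim_le_of_lqf {X Y : Sp S} (hX : IsAlgSpace X) (hY : IsAlgSpace Y) (f : X ⟶ Y)
    (hf : LocP (@LocallyQuasiFinite ⊓ @LocallyOfFiniteType) f) (x : Points X)
    (d e : WithBot ℕ∞)
    (hx : HasAt (fun U u => ringKrullDim ↥(U.presheaf.stalk u) = d) X x)
    (hy : HasAt (fun V v => ringKrullDim ↥(V.presheaf.stalk v) = e) Y (Points.map f x)) :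
    d ≤ e := by
  obtain ⟨U, a, u, ha, rfl, hd⟩ := hx
  obtain ⟨V, b, v, hb, hv, hle⟩ := exists_chart_coheight_le hX hY f hf a ha u
  have he : ringKrullDim ↥(V.left.presheaf.stalk v) = e := by
    rw [← hv] at hy
    exact (hasAt_iff_chart (fun V v => ringKrullDim ↥(V.presheaf.stalk v) = e)
      (fun g _ w => by rw [ringKrullDim_stalk_eq_of_etale g w]) b hb v).1 hy
  rw [← hd, ← he, ringKrullDim_stalk_eq_coheight, ringKrullDim_stalk_eq_coheight]
  exact_mod_cast hle

end Groth.Agent.Helper5.EtDim
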