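import Groth.Agent.Helper5.EtGlue1
import Mathlib

set_option autoImplicit false
universe u
open CategoryTheory CategoryTheory.Limits AlgebraicGeometry Opposite

namespace Groth.Agent.Helper5.EtGlue

open AlgSp

variable {S : Scheme.{u}}

/-- two morphisms from a scheme to a sheaf that agree on a covering family are equal -/
theorem hom_ext_of_cover (T : Sp S) {Z : Over S} {κ : Type u} (Zk : κ → Over S)
    (e : ∀ k, Zk k ⟶ Z) (hcov : Sieve.ofArrows Zk e ∈ J S Z) (c₁ c₂ : (yon S).obj Z ⟶ T)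
    (h : ∀ k, (yon S).map (e k) ≫ c₁ = (yon S).map (e k) ≫ c₂) : c₁ = c₂ := by
  refine (existsUnique_of_cover T Zk e hcov (fun k => (yon S).map (e k) ≫ c₁) ?_).unique
    (fun k => rfl) (fun k => (h k).symm)
  intro k l R r₁ r₂ hcomm
  rw [← Category.assoc, ← Category.assoc, ← Functor.map_comp, ← Functor.map_comp, hcomm]

/-- two-chart version of `existsUnique_desc` -/
theorem existsUnique_desc₂ {W T : Sp S} (A₁ A₂ : Over S)
    (g₁ : (yon S).obj A₁ ⟶ W) (g₂ : (yon S).obj A₂ ⟶ W)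
    (hg₁ : RepWith @Etale g₁) (hg₂ : RepWith @Etale g₂)
    (hsurj : ∀ w : Points W, w ∈ Set.range (Points.map g₁) ∨ w ∈ Set.range (Points.map g₂))
    (t₁ : (yon S).obj A₁ ⟶ T) (t₂ : (yon S).obj A₂ ⟶ T)
    (h11 : ∀ (R : Over S) (r₁ r₂ : R ⟶ A₁), (yon S).map r₁ ≫ g₁ = (yon S).map r₂ ≫ g₁ →
      (yon S).map r₁ ≫ t₁ = (yon S).map r₂ ≫ t₁)
    (h12 : ∀ (R : Over S) (r₁ : R ⟶ A₁) (r₂ : R ⟶ A₂),
      (yon S).map r₁ ≫ g₁ = (yon S).map r₂ ≫ g₂ → (yon S).map r₁ ≫ t₁ = (yon S).map r₂ ≫ t₂)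
    (h22 : ∀ (R : Over S) (r₁ r₂ : R ⟶ A₂), (yon S).map r₁ ≫ g₂ = (yon S).map r₂ ≫ g₂ →
      (yon S).map r₁ ≫ t₂ = (yon S).map r₂ ≫ t₂) :
    ∃! c : W ⟶ T, g₁ ≫ c = t₁ ∧ g₂ ≫ c = t₂ := by
  let A : ULift.{u} Bool → Over S := fun k => match k with
    | ⟨true⟩ => A₁
    | ⟨false⟩ => A₂
  let g : ∀ k, (yon S).obj (A k) ⟶ W := fun k => match k with
    | ⟨true⟩ => g₁
    | ⟨false⟩ => g₂
  let t : ∀ k, (yon S).obj (A k) ⟶ T := fun k => match k with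
    | ⟨true⟩ => t₁
    | ⟨false⟩ => t₂
  have hg : ∀ k, RepWith @Etale (g k) := fun k => match k with
    | ⟨true⟩ => hg₁
    | ⟨false⟩ => hg₂
  have hs : ∀ w : Points W, ∃ k, w ∈ Set.range (Points.map (g k)) := by
    intro w
    rcases hsurj w with h | h
    · exact ⟨⟨true⟩, h⟩
    · exact ⟨⟨false⟩, h⟩
  have hcomp : ∀ (k l : ULift.{u} Bool) (R : Over S) (r₁ : R ⟶ A k) (r₂ : R ⟶ A l),
      (yon S).map r₁ ≫ g k = (yon S).map r₂ ≫ g l →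
        (yon S).map r₁ ≫ t k = (yon S).map r₂ ≫ t l := by
    rintro ⟨_ | _⟩ ⟨_ | _⟩ R r₁ r₂ h
    · exact h22 R r₁ r₂ h
    · exact (h12 R r₂ r₁ h.symm).symm
    · exact h12 R r₁ r₂ h
    · exact h11 R r₁ r₂ h
  obtain ⟨c, hc, huniq⟩ := existsUnique_desc A g hg hs t hcomp
  refine ⟨c, ⟨hc ⟨true⟩, hc ⟨false⟩⟩, fun c' hc' => huniq c' ?_⟩
  rintro ⟨_ | _⟩
  · exact hc'.2
  · exact hc'.1

end Groth.Agent.Helper5.EtGlue
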