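import Mathlib

set_option autoImplicit false
universe u
open CategoryTheory CategoryTheory.Limits AlgebraicGeometry Opposite

namespace Groth.Agent.Helper5.EtImg

/-- a morphism of schemes which becomes etale after base change along flat, locally finitely
presented morphisms whose images cover the target is etale -/
theorem etale_of_pointwise_fppf {V T : Scheme.{u}} (f : V ⟶ T)
    (h : ∀ t : ↥T, ∃ (T' : Scheme.{u}) (g : T' ⟶ T), t ∈ Set.range g ∧ Flat g ∧
      LocallyOfFinitePresentation g ∧ Etale (pullback.snd f g)) : Etale f := by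
  choose T' g ht hfl hlfp het using h
  have hopen : ∀ t, IsOpen (Set.range (g t)) := fun t => by
    haveI := hfl t
    haveI := hlfp t
    exact (g t).isOpenMap.isOpen_range
  let O : ↥T → T.Opens := fun t => ⟨Set.range (g t), hopen t⟩
  have hO : iSup O = ⊤ := by
    rw [eq_top_iff]
    intro t _
    exact TopologicalSpace.Opens.mem_iSup.2 ⟨t, ht t⟩
  apply IsZariskiLocalAtTarget.of_iSup_eq_top (P := @Etale) O hO
  intro t
  haveI := hfl t
  haveI := hlfp t
  haveI := het t
  have hr : Set.range (g t) ⊆ Set.range (O t).ι := by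
    rw [Scheme.Opens.range_ι]
    exact fun _ h => h
  let g'' := IsOpenImmersion.lift (O t).ι (g t) hr
  have hg'' : g'' ≫ (O t).ι = g t := IsOpenImmersion.lift_fac _ _ _
  have sqg : IsPullback (𝟙 (T' t)) g'' (g t) (O t).ι := by
    refine ⟨⟨by rw [Category.id_comp, hg'']⟩, ⟨PullbackCone.IsLimit.mk _ (fun c => c.fst) ?_ ?_ ?_⟩⟩
    · intro c; exact Category.comp_id _
    · intro c
      rw [← cancel_mono (O t).ι, Category.assoc, hg'']
      exact c.condition
    · intro c m h1 _
      rw [← h1, Category.comp_id]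
  have hfl'' : Flat g'' := MorphismProperty.of_isPullback (P := @Flat) sqg (hfl t)
  have hlfp'' : LocallyOfFinitePresentation g'' :=
    MorphismProperty.of_isPullback (P := @LocallyOfFinitePresentation) sqg (hlfp t)
  have hsurj : Surjective g'' := by
    refine ⟨fun o => ?_⟩
    obtain ⟨x, hx⟩ : (O t).ι o ∈ Set.range (g t) := o.2
    refine ⟨x, ?_⟩
    apply (O t).ι.isOpenEmbedding.injective
    have : (g'' ≫ (O t).ι) x = g t x := by rw [hg'']
    exact this.trans hx
  have R := isPullback_morphismRestrict f (O t)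
  let k := R.lift (pullback.snd f (g t) ≫ g'') (pullback.fst f (g t)) (by
    rw [Category.assoc, hg'', pullback.condition])
  have hk1 : k ≫ (f ∣_ O t) = pullback.snd f (g t) ≫ g'' := R.lift_fst _ _ _
  have hk2 : k ≫ (f ⁻¹ᵁ O t).ι = pullback.fst f (g t) := R.lift_snd _ _ _
  have sq' : IsPullback (pullback.snd f (g t)) k g'' (f ∣_ O t) := by
    refine IsPullback.of_bot ?_ hk1.symm R
    rw [hk2, hg'']
    exact (IsPullback.of_hasPullback f (g t)).flip
  exact MorphismProperty.of_isPullback_of_descendsAlong (P := @Etale)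
    (Q := (@Surjective ⊓ @Flat ⊓ @LocallyOfFinitePresentation)) sq' ⟨⟨hsurj, hfl''⟩, hlfp''⟩ (het t)

end Groth.Agent.Helper5.EtImg
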