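import Groth.Agent.Helper5.EtImg2
import Groth.Agent.Helper5.MonoQuot20
import Groth.Agent.Helper5.AlgSpOpen
import Groth.Agent.Helper4.AlgSpLocP
import Groth.Agent.Helper4.AlgSpPts
import Mathlib

set_option autoImplicit false
universe u
open CategoryTheory CategoryTheory.Limits AlgebraicGeometry Opposite

namespace Groth.Agent.Helper5.EtImg

open AlgSp Groth.Agent.Helper4.AlgSpOpenImage Groth.Agent.Helper4.AlgSpPtsDesc
  Groth.Agent.Helper4.AlgSpQC2

variable {S : Scheme.{u}}

/-- the kernel pair of the field point defined by a point of an etale chart is etale over the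
point -/
theorem etale_kernelPair_ofPt {X : Sp S} {U : Over S} (a : (yon S).obj U ⟶ X)
    (ha : RepWith @Etale a) (u : ↥U.left) {R : Over S} (p₁ p₂ : R ⟶ (FieldPt.ofPt a u).pt)
    (sqR : IsPullback ((yon S).map p₁) ((yon S).map p₂) (FieldPt.ofPt a u).toHom
      (FieldPt.ofPt a u).toHom) : Etale p₂.left := by
  let ιu : (FieldPt.ofPt a u).pt ⟶ U := Over.homMk (U.left.fromSpecResidueField u) rfl
  have hm : (FieldPt.ofPt a u).toHom = (yon S).map ιu ≫ a := FieldPt.toHom_ofPt a u
  generalize (FieldPt.ofPt a u).toHom = m at sqR hm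
  have sqE := ha.rep.isPullback m
  obtain ⟨e, he⟩ := (yon S).map_surjective (ha.rep.fst m)
  rw [← he] at sqE
  have het : Etale (ha.rep.snd m).left := ha.property m _ _ sqE
  clear he
  generalize ha.rep.snd m = sndE at sqE het
  generalize ha.rep.pullback m = E at e sndE sqE het
  have hcomm : ((yon S).map p₁ ≫ (yon S).map ιu) ≫ a = (yon S).map p₂ ≫ m := by
    rw [Category.assoc, ← hm]
    exact sqR.w
  obtain ⟨r, hr⟩ := (yon S).map_surjective (sqE.lift _ _ hcomm)
  have hr1 : (yon S).map r ≫ (yon S).map e = (yon S).map p₁ ≫ (yon S).map ιu := by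
    rw [hr]; exact sqE.lift_fst _ _ _
  have hr2 : (yon S).map r ≫ (yon S).map sndE = (yon S).map p₂ := by
    rw [hr]; exact sqE.lift_snd _ _ _
  have sqL : IsPullback ((yon S).map r) ((yon S).map p₁) ((yon S).map e) ((yon S).map ιu) := by
    refine IsPullback.of_right ?_ hr1 sqE.flip
    rw [hr2, ← hm]
    exact sqR.flip
  have sqS : IsPullback r.left p₁.left e.left ιu.left :=
    Groth.Agent.Helper4.UB1.isPullback_left (Groth.Agent.Helper4.UB1.isPullback_of_yon_map sqL)
  haveI : Mono ιu.left := by
    show Mono (U.left.fromSpecResidueField u)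
    infer_instance
  haveI : Mono r.left := sqS.mono_fst_of_mono
  haveI : DiscreteTopology ↥E.left :=
    @Groth.Agent.Helper5.MonoQuot.discreteTopology_of_etale_field E.left
      (↥(U.left.residueField u)) _ sndE.left het
  haveI : IsReduced E.left :=
    @Groth.Agent.Helper5.MonoQuot.isReduced_of_etale_field E.left
      (↥(U.left.residueField u)) _ sndE.left het
  haveI : IsOpenImmersion r.left := Groth.Agent.Helper5.MonoQuot.isOpenImmersion_of_mono_discrete _
  have h2 : p₂ = r ≫ sndE := by
    apply (yon S).map_injective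
    rw [Functor.map_comp, hr2]
  rw [h2, Over.comp_left]
  infer_instance

/-- S10370 -/
theorem s10370 (X : Space S) (x : Points X.obj) :
    ∃ (Z : Space S) (i : Z ⟶ X), Mono i.hom ∧ Set.range (Points.map i.hom) = {x} ∧
      ∃ (k : Type u) (_ : Field k) (str : Spec (CommRingCat.of k) ⟶ S)
        (p : (yon S).obj (Over.mk str) ⟶ Z.obj),
        LocP @LocallyOfFinitePresentation p ∧ LocP @Flat p ∧ IsSurjectiveMor p := by
  obtain ⟨U, a, hae, has⟩ := X.property.atlas
  obtain ⟨u, hu⟩ := Groth.Agent.Helper5.AlgSpOpen.ofPt_surjective_of_repWith a has x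
  let q : FieldPt X.obj := FieldPt.ofPt a u
  have hq : Points.mk q = x := hu
  have hrep : Representable q.toHom :=
    Functor.relativelyRepresentable.of_diag X.property.diag q.toHom
  have sqR : IsPullback ((yon S).map (hrep.fst' q.toHom)) ((yon S).map (hrep.snd q.toHom))
      q.toHom q.toHom := hrep.isPullback' q.toHom
  have hp₂ : Etale (hrep.snd q.toHom).left := etale_kernelPair_ofPt a hae u _ _ sqR
  have hZ : IsAlgSpace (img q.toHom) :=
    isAlgSpace_img_of_kernelPair q.toHom X.property.diag _ _ sqR hp₂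
  have hte := toImg_etale_of_kernelPair q.toHom X.property.diag _ _ sqR hp₂
  have hts := toImg_surjective_of_kernelPair q.toHom X.property.diag _ _ sqR hp₂
  refine ⟨⟨img q.toHom, hZ⟩, ObjectProperty.homMk (imgι q.toHom), inferInstanceAs (Mono (imgι q.toHom)),
    ?_, q.K, inferInstance, q.str, toImg q.toHom, ?_, ?_, ?_⟩
  · show Set.range (Points.map (imgι q.toHom)) = {x}
    ext y
    constructor
    · rintro ⟨z, rfl⟩
      obtain ⟨w, rfl⟩ := Groth.Agent.Helper5.AlgSpOpen.ofPt_surjective_of_repWith _ hts z
      rw [Points.map_ofPt, toImg_ι, Points.ofPt_toHom]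
      exact hq
    · rintro rfl
      let s₀ : ↥q.pt.left := (IsLocalRing.closedPoint q.K : ↥(Spec (CommRingCat.of q.K)))
      refine ⟨Points.ofPt (toImg q.toHom) s₀, ?_⟩
      rw [Points.map_ofPt, toImg_ι, Points.ofPt_toHom]
      exact hq
  · exact Groth.Agent.Helper4.AlgSpLocP.locP_of_repWith @LocallyOfFinitePresentation @Etale
      (fun g hg => by haveI : Etale g := hg; infer_instance)
      (fun g hg => by haveI : Etale g := hg; infer_instance) _ hte
  · exact Groth.Agent.Helper4.AlgSpLocP.locP_of_repWith @Flat @Etale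
      (fun g hg => by haveI : Etale g := hg; infer_instance)
      (fun g hg => by haveI : Etale g := hg; infer_instance) _ hte
  · exact Groth.Agent.Helper4.AlgSpPts.isSurjectiveMor_of_repWith _ hts

end Groth.Agent.Helper5.EtImg
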