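import Groth.Agent.Helper5.EtImg2
import Groth.Agent.Helper5.AlgSpOpen
import Groth.Agent.Helper4.AlgSpSrc
import Mathlib

set_option autoImplicit false
universe u
open CategoryTheory CategoryTheory.Limits AlgebraicGeometry Opposite

namespace Groth.Agent.Helper5.EtImg

open AlgSp Groth.Agent.Helper4.AlgSpOpenImage Groth.Agent.Helper4.AlgSpPtsDesc

variable {S : Scheme.{u}}

theorem exists_preimage_of_isPullback {P A B D : Scheme.{u}} {fst : P ⟶ A} {snd : P ⟶ B}
    {f : A ⟶ D} {g : B ⟶ D} (sq : IsPullback fst snd f g) (a : ↥A) (b : ↥B) (h : f a = g b) :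
    ∃ p : ↥P, fst p = a ∧ snd p = b := by
  obtain ⟨z, hz1, hz2⟩ := Scheme.Pullback.exists_preimage_pullback (f := f) (g := g) a b h
  refine ⟨sq.isoPullback.inv z, ?_, ?_⟩
  · rw [← hz1]
    have : sq.isoPullback.inv ≫ fst = pullback.fst f g := sq.isoPullback_inv_fst
    rw [← this]; rfl
  · rw [← hz2]
    have : sq.isoPullback.inv ≫ snd = pullback.snd f g := sq.isoPullback_inv_snd
    rw [← this]; rfl

/-- if the kernel pair of an etale chart is quasi-compact over the chart, the corestriction of the
chart to its image is quasi-compact -/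
theorem toImg_quasiCompact {X : Sp S} {W : Over S} (m : (yon S).obj W ⟶ X) (hm : RepWith @Etale m)
    {R : Over S} (p₁ p₂ : R ⟶ W)
    (sqR : IsPullback ((yon S).map p₁) ((yon S).map p₂) m m) (hqc : QuasiCompact p₂.left) :
    RepWith @QuasiCompact (toImg m) := by
  have hte := toImg_etale m hm
  have hts := toImg_surjective m hm
  have sqR' : IsPullback ((yon S).map p₁) ((yon S).map p₂) (toImg m) (toImg m) := by
    apply isPullback_of_comp_mono (imgι m)
    rw [toImg_ι]
    exact sqR
  refine ⟨hte.rep, ?_⟩
  intro T V ξ fst snd sq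
  show QuasiCompact snd.left
  have hse : Etale snd.left := hte.property ξ fst snd sq
  have hss : Surjective snd.left := hts.property ξ fst snd sq
  refine ⟨fun O hO hOc => ?_⟩
  obtain ⟨K, hKc, hKO⟩ : ∃ K : V.left.Opens, IsCompact (K : Set ↥V.left) ∧
      snd.left '' (K : Set ↥V.left) = O :=
    snd.left.isOpenMap.exists_opens_image_eq_of_prespectralSpace
      snd.left.continuous (fun t _ => snd.left.surjective t) hO hOc
  let V₀ : Over S := Over.mk (K.ι ≫ V.hom)
  let ιK : V₀ ⟶ V := Over.homMk K.ι rfl
  let g' : V₀ ⟶ T := ιK ≫ snd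
  have hh : ((yon S).map ιK ≫ fst) ≫ toImg m = (yon S).map g' ≫ ξ := by
    rw [Category.assoc, sq.w, Functor.map_comp, Category.assoc]
  have hE' : IsPullback (pullback.fst snd g') (pullback.snd snd g') snd g' :=
    IsPullback.of_hasPullback _ _
  obtain ⟨m', hm'⟩ := Groth.Agent.Helper4.AlgSpDesc.cube sqR' sq hh hE'
  obtain ⟨m₀, rfl⟩ := (yon S).map_surjective m'
  obtain ⟨h₀, hh₀⟩ := (yon S).map_surjective ((yon S).map ιK ≫ fst)
  rw [← hh₀] at hm'
  have hsch : IsPullback m₀.left (pullback.snd snd g').left p₂.left h₀.left :=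
    Groth.Agent.Helper4.UB1.isPullback_left (Groth.Agent.Helper4.UB1.isPullback_of_yon_map hm')
  have hqc' : QuasiCompact (pullback.snd snd g').left :=
    MorphismProperty.of_isPullback (P := @QuasiCompact) hsch hqc
  haveI : CompactSpace ↥V₀.left := isCompact_iff_compactSpace.1 hKc
  haveI : CompactSpace ↥(pullback snd g').left :=
    QuasiCompact.compactSpace_of_compactSpace (pullback.snd snd g').left
  have hEs : IsPullback (pullback.fst snd g').left (pullback.snd snd g').left snd.left g'.left :=
    Groth.Agent.Helper4.UB1.isPullback_left hE'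
  have hrange : snd.left ⁻¹' O = Set.range (pullback.fst snd g').left := by
    ext v
    constructor
    · intro hv
      have hv' : snd.left v ∈ snd.left '' (K : Set ↥V.left) := by rw [hKO]; exact hv
      obtain ⟨k, hk, hkv⟩ := hv'
      obtain ⟨p, hp1, -⟩ := exists_preimage_of_isPullback hEs v (⟨k, hk⟩ : ↥K) hkv.symm
      exact ⟨p, hp1⟩
    · rintro ⟨p, rfl⟩
      show snd.left ((pullback.fst snd g').left p) ∈ O
      have e1 : snd.left ((pullback.fst snd g').left p) = g'.left ((pullback.snd snd g').left p) := by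
        have := hEs.w
        exact congrArg (fun φ => φ p) this
      rw [e1, ← hKO]
      exact ⟨_, ((pullback.snd snd g').left p).2, rfl⟩
  rw [hrange]
  exact isCompact_range (pullback.fst snd g').left.continuous

end Groth.Agent.Helper5.EtImg
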