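import Groth.Agent.Helper5.EtImg4
import Groth.Agent.Helper4.AlgSpBasic
import Mathlib

set_option autoImplicit false
universe u
open CategoryTheory CategoryTheory.Limits AlgebraicGeometry Opposite

namespace Groth.Agent.Helper5.EtImg

open AlgSp Groth.Agent.Helper4.AlgSpOpenImage Groth.Agent.Helper4.AlgSpPtsDesc

variable {S : Scheme.{u}}

/-- S10412 -/
theorem s10412 (X : Space S) :
    (∃ (ι : Type u) (Xi : ι → Space S) (j : ∀ i, Xi i ⟶ X) (U : ι → Over S)
        (a : ∀ i, (yon S).obj (U i) ⟶ (Xi i).obj),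
        IsZarCover (fun i => (Xi i).obj) (fun i => (j i).hom) ∧
          ∀ i, RepWith @Etale (a i) ∧ RepWith @Surjective (a i) ∧ RepWith @QuasiCompact (a i)) ↔
      ∃ (ι : Type u) (U : ι → Over S) (φ : ∀ i, (yon S).obj (U i) ⟶ X.obj),
        (∀ i, RepWith @Etale (φ i)) ∧
          (∀ x : Points X.obj, ∃ (i : ι) (v : ↥(U i).left), Points.ofPt (φ i) v = x) ∧
          ∀ (i : ι) (R : Over S) (s t : R ⟶ U i),
            IsPullback ((yon S).map t) ((yon S).map s) (φ i) (φ i) →
            QuasiCompact s.left ∧ QuasiCompact t.left := by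
  constructor
  · rintro ⟨ι, Xi, j, U, a, ⟨hjo, hjs⟩, ha⟩
    refine ⟨ι, U, fun i => a i ≫ (j i).hom, ?_, ?_, ?_⟩
    · intro i
      exact Groth.Agent.Helper4.AlgSpSrc.repWith_comp @Etale (ha i).1
        (Groth.Agent.Helper4.AlgSpSrc.repWith_mono (fun g hg => by
          have : IsOpenImmersion g := hg
          exact (inferInstance : Etale g)) (hjo i))
    · intro x
      obtain ⟨i, z, hz⟩ := hjs x
      obtain ⟨v, hv⟩ := Groth.Agent.Helper5.AlgSpOpen.ofPt_surjective_of_repWith (a i) (ha i).2.1 z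
      refine ⟨i, v, ?_⟩
      rw [← Points.map_ofPt, hv, hz]
    · intro i R s t sq
      haveI : Mono (j i).hom := Groth.Agent.Helper4.AlgSpBasic.mono_of_repWith
        (P := @IsOpenImmersion) (fun g hg => by
          have : IsOpenImmersion g := hg
          infer_instance) (j i).hom (hjo i)
      have sq' : IsPullback ((yon S).map t) ((yon S).map s) (a i) (a i) :=
        isPullback_of_comp_mono (j i).hom sq
      exact ⟨(ha i).2.2.property (a i) _ s sq', (ha i).2.2.property (a i) _ t sq'.flip⟩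
  · rintro ⟨ι, U, φ, hφ, hsurj, hqc⟩
    refine ⟨ι, fun i => ⟨img (φ i), isAlgSpace_img (φ i) X.property.diag (hφ i)⟩,
      fun i => ObjectProperty.homMk (imgι (φ i)), U, fun i => toImg (φ i), ⟨?_, ?_⟩, ?_⟩
    · intro i
      exact imgι_isOpenImmersion (φ i) (hφ i)
    · intro x
      obtain ⟨i, v, hv⟩ := hsurj x
      refine ⟨i, Points.ofPt (toImg (φ i)) v, ?_⟩
      show Points.map (imgι (φ i)) (Points.ofPt (toImg (φ i)) v) = x
      rw [Points.map_ofPt, toImg_ι]
      exact hv
    · intro i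
      refine ⟨toImg_etale (φ i) (hφ i), toImg_surjective (φ i) (hφ i), ?_⟩
      have sqR := (hφ i).rep.isPullback (φ i)
      obtain ⟨p₁, hp₁⟩ := (yon S).map_surjective ((hφ i).rep.fst (φ i))
      rw [← hp₁] at sqR
      exact toImg_quasiCompact (φ i) (hφ i) p₁ _ sqR (hqc i _ _ _ sqR).1

end Groth.Agent.Helper5.EtImg
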