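import Groth.Prelude.Def_AlgSpOX3
import Groth.Agent.Helper5.AlgSpGeomLift
import Groth.Agent.Helper4.AlgSpSrc
import Groth.Agent.Helper4.AlgSpQC2
import Mathlib

set_option autoImplicit false
universe u
open CategoryTheory CategoryTheory.Limits AlgebraicGeometry Opposite

namespace Groth.Agent.Helper5.EtPt

open AlgSp Groth.Agent.Helper4 Groth.Agent.Helper4.AlgSpQC2

variable {S : Scheme.{u}}

set_option backward.isDefEq.respectTransparency false

theorem nonempty_etNbhd (X : Space S) (p : FieldPt X.obj) (hp : p.IsGeometric) :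
    Nonempty (EtNbhd p) := by
  obtain ⟨A, a, hae, has⟩ := X.property.atlas
  have : IsAlgClosed p.K := hp
  obtain ⟨t₀⟩ : Nonempty ↥(Over.mk p.str).left :=
    (inferInstance : Nonempty ↥(Spec (CommRingCat.of p.K)))
  obtain ⟨r, hr⟩ := AlgSpPts.isSurjectiveMor_of_repWith a has (Points.ofPt p.toHom t₀)
  obtain ⟨t, rfl⟩ := (Points.schemeHomeo A).surjective r
  obtain ⟨c, hc1, hc2⟩ := Groth.Agent.Helper5.AlgSpGeomLift.exists_lift_through_chart a hae p.K
    p.str p.toHom t₀ t (by rw [← hr, ofPt_eq_map_schemeHomeo])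
  exact ⟨⟨EtOver.mk a hae, ⟨c, hc1⟩⟩⟩

theorem cone_objs (X : Space S) (p : FieldPt X.obj) (N₁ N₂ : EtNbhd p) :
    ∃ (W : EtNbhd p) (_ : W ⟶ N₁) (_ : W ⟶ N₂), True := by
  obtain ⟨E₁, u₁⟩ := N₁
  obtain ⟨E₂, u₂⟩ := N₂
  have hr := E₂.property.1
  have sq : IsPullback (hr.fst E₁.obj.hom) ((yon S).map (hr.snd E₁.obj.hom)) E₂.obj.hom E₁.obj.hom :=
    hr.isPullback _
  obtain ⟨d, hd⟩ := (yon S).map_surjective (hr.fst E₁.obj.hom)
  rw [← hd] at sq
  clear hd
  have he : Etale (hr.snd E₁.obj.hom).left := E₂.property.2 _ _ _ sq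
  generalize hr.snd E₁.obj.hom = e at sq he
  generalize hr.pullback E₁.obj.hom = W₀ at d e sq he
  let W : EtOver X.obj := EtOver.mk ((yon S).map e ≫ E₁.obj.hom)
    (AlgSpSrc.repWith_comp _ ((repWith_yon_map_iff _ _).2 he) E₁.property)
  obtain ⟨w, hw⟩ := (yon S).map_surjective
    (sq.lift ((yon S).map u₂.1) ((yon S).map u₁.1) (by rw [u₂.2, u₁.2]))
  have hw1 : w ≫ d = u₂.1 := (yon S).map_injective (by
    rw [Functor.map_comp, hw]; exact sq.lift_fst _ _ _)
  have hw2 : w ≫ e = u₁.1 := (yon S).map_injective (by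
    rw [Functor.map_comp, hw]; exact sq.lift_snd _ _ _)
  let wl : (FieldPt.liftsTo p).obj W := ⟨w, by
    show (yon S).map w ≫ (yon S).map e ≫ E₁.obj.hom = p.toHom
    rw [← Category.assoc, ← Functor.map_comp, hw2]; exact u₁.2⟩
  let g₁ : W ⟶ E₁ := EtOver.homMk e rfl
  let g₂ : W ⟶ E₂ := EtOver.homMk d sq.w
  refine ⟨⟨W, wl⟩, ⟨g₁, ?_⟩, ⟨g₂, ?_⟩, trivial⟩
  · exact Subtype.ext hw2
  · exact Subtype.ext hw1

theorem cone_maps (X : Space S) (p : FieldPt X.obj) (N₁ N₂ : EtNbhd p) (f g : N₁ ⟶ N₂) :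
    ∃ (W : EtNbhd p) (h : W ⟶ N₁), h ≫ f = h ≫ g := by
  obtain ⟨E₁, u₁⟩ := N₁
  obtain ⟨E₂, u₂⟩ := N₂
  obtain ⟨g₁, hg₁⟩ := f
  obtain ⟨g₂, hg₂⟩ := g
  have hg₁' : u₁.1 ≫ g₁.hom.left = u₂.1 := congrArg Subtype.val hg₁
  have hg₂' : u₁.1 ≫ g₂.hom.left = u₂.1 := congrArg Subtype.val hg₂
  have hr := E₂.property.1
  have sq : IsPullback (hr.fst E₂.obj.hom) ((yon S).map (hr.snd E₂.obj.hom)) E₂.obj.hom E₂.obj.hom :=
    hr.isPullback _
  obtain ⟨pr₁, hpr₁⟩ := (yon S).map_surjective (hr.fst E₂.obj.hom)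
  rw [← hpr₁] at sq
  clear hpr₁
  have he : Etale (hr.snd E₂.obj.hom).left := E₂.property.2 _ _ _ sq
  generalize hr.snd E₂.obj.hom = pr₂ at sq he
  generalize hr.pullback E₂.obj.hom = R at pr₁ pr₂ sq he
  obtain ⟨δ, hδ⟩ := (yon S).map_surjective (sq.lift (𝟙 _) (𝟙 _) rfl)
  have hδ1 : δ ≫ pr₁ = 𝟙 _ := (yon S).map_injective (by
    rw [Functor.map_comp, hδ, CategoryTheory.Functor.map_id]; exact sq.lift_fst _ _ _)
  have hδ2 : δ ≫ pr₂ = 𝟙 _ := (yon S).map_injective (by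
    rw [Functor.map_comp, hδ, CategoryTheory.Functor.map_id]; exact sq.lift_snd _ _ _)
  obtain ⟨γ, hγ⟩ := (yon S).map_surjective
    (sq.lift ((yon S).map g₁.hom.left) ((yon S).map g₂.hom.left)
      (by rw [EtOver.w g₁, EtOver.w g₂]))
  have hγ1 : γ ≫ pr₁ = g₁.hom.left := (yon S).map_injective (by
    rw [Functor.map_comp, hγ]; exact sq.lift_fst _ _ _)
  have hγ2 : γ ≫ pr₂ = g₂.hom.left := (yon S).map_injective (by
    rw [Functor.map_comp, hγ]; exact sq.lift_snd _ _ _)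
  have hδe : Etale δ.left := by
    refine MorphismProperty.HasOfPostcompProperty.of_postcomp (W := @Etale) δ.left pr₂.left he ?_
    rw [← Over.comp_left, hδ2, Over.id_left]
    infer_instance
  let W₀ : Over S := Over.mk (pullback.fst γ.left δ.left ≫ E₁.obj.left.hom)
  let ι : W₀ ⟶ E₁.obj.left := Over.homMk (pullback.fst γ.left δ.left) rfl
  have hιe : Etale ι.left := by
    show Etale (pullback.fst γ.left δ.left)
    infer_instance
  let κ : W₀ ⟶ E₂.obj.left := Over.homMk (pullback.snd γ.left δ.left) (by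
    show pullback.snd γ.left δ.left ≫ E₂.obj.left.hom = pullback.fst γ.left δ.left ≫ E₁.obj.left.hom
    rw [← Over.w δ, ← Over.w γ, ← Category.assoc, ← Category.assoc, pullback.condition])
  have hικ : ι ≫ γ = κ ≫ δ := Over.OverMorphism.ext pullback.condition
  have h1 : ι ≫ g₁.hom.left = κ := by
    rw [← hγ1, ← Category.assoc, hικ, Category.assoc, hδ1, Category.comp_id]
  have h2 : ι ≫ g₂.hom.left = κ := by
    rw [← hγ2, ← Category.assoc, hικ, Category.assoc, hδ2, Category.comp_id]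
  let W : EtOver X.obj := EtOver.mk ((yon S).map ι ≫ E₁.obj.hom)
    (AlgSpSrc.repWith_comp _ ((repWith_yon_map_iff _ _).2 hιe) E₁.property)
  have hu : u₁.1 ≫ γ = u₂.1 ≫ δ := by
    apply (yon S).map_injective
    apply sq.hom_ext
    · rw [← Functor.map_comp, ← Functor.map_comp, Category.assoc, Category.assoc, hγ1, hδ1, hg₁',
        Category.comp_id]
    · rw [← Functor.map_comp, ← Functor.map_comp, Category.assoc, Category.assoc, hγ2, hδ2, hg₂',
        Category.comp_id]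
  let w₀ : p.pt ⟶ W₀ := Over.homMk
    (pullback.lift u₁.1.left u₂.1.left (congrArg (fun m => m.left) hu)) (by
      show pullback.lift u₁.1.left u₂.1.left _ ≫ pullback.fst γ.left δ.left ≫ E₁.obj.left.hom = _
      rw [← Category.assoc, pullback.lift_fst]
      exact Over.w u₁.1)
  have hw₀ : w₀ ≫ ι = u₁.1 := Over.OverMorphism.ext (pullback.lift_fst _ _ _)
  let wl : (FieldPt.liftsTo p).obj W := ⟨w₀, by
    show (yon S).map w₀ ≫ (yon S).map ι ≫ E₁.obj.hom = p.toHom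
    rw [← Category.assoc, ← Functor.map_comp, hw₀]; exact u₁.2⟩
  let j : W ⟶ E₁ := EtOver.homMk ι rfl
  refine ⟨⟨W, wl⟩, ⟨j, Subtype.ext hw₀⟩, ?_⟩
  apply Subtype.ext
  apply EtOver.hom_ext
  show ι ≫ g₁.hom.left = ι ≫ g₂.hom.left
  rw [h1, h2]

theorem isCofiltered_etNbhd (X : Space S) (p : FieldPt X.obj) (hp : p.IsGeometric) :
    IsCofiltered (EtNbhd p) :=
  { cone_objs := fun N₁ N₂ => cone_objs X p N₁ N₂
    cone_maps := fun N₁ N₂ f g => cone_maps X p N₁ N₂ f g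
    nonempty := nonempty_etNbhd X p hp }

theorem exists_lift_of_mem_range (X : Space S) (p : FieldPt X.obj) (hp : p.IsGeometric)
    {E E' : EtOver X.obj} (g : E' ⟶ E) (x : (FieldPt.liftsTo p).obj E) (y : ↥E'.obj.left.left)
    (hy : g.hom.left.left y = x.1.left (default : ↥(Spec (CommRingCat.of p.K)))) :
    ∃ x' : (FieldPt.liftsTo p).obj E', (FieldPt.liftsTo p).map g x' = x := by
  have : IsAlgClosed p.K := hp
  have he : Etale g.hom.left.left := EtOver.etale_left g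
  obtain ⟨l, hl1, hl2⟩ := Scheme.exists_fac_of_etale_of_isSepClosed (Ω := p.K) g.hom.left.left
    x.1.left y hy
  have hlw : l ≫ E'.obj.left.hom = p.pt.hom := by
    rw [← Over.w g.hom.left, ← Category.assoc, hl1]
    exact Over.w x.1
  let l' : p.pt ⟶ E'.obj.left := Over.homMk l hlw
  have hl' : l' ≫ g.hom.left = x.1 := Over.OverMorphism.ext hl1
  refine ⟨⟨l', ?_⟩, Subtype.ext hl'⟩
  rw [← EtOver.w g, ← Category.assoc, ← Functor.map_comp, hl']
  exact x.2

theorem exists_lift_of_mem_etPre (X : Space S) (p : FieldPt X.obj) (hp : p.IsGeometric)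
    (N : EtNbhd p) {ι : Type u} (Ui : ι → EtOver X.obj) (g : ∀ i, Ui i ⟶ N.1)
    (hcov : Presieve.ofArrows Ui g ∈ etPre X.obj N.1) :
    ∃ (i : ι) (ui : (FieldPt.liftsTo p).obj (Ui i)), (FieldPt.liftsTo p).map (g i) ui = N.2 := by
  rw [ofArrows_mem_etPre_iff] at hcov
  obtain ⟨i, y, hy⟩ := hcov (N.2.1.left (default : ↥(Spec (CommRingCat.of p.K))))
  obtain ⟨x', hx'⟩ := exists_lift_of_mem_range X p hp (g i) N.2 y hy
  exact ⟨i, x', hx'⟩

end Groth.Agent.Helper5.EtPt
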