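import Groth.Agent.Helper5.EtPt9
import Mathlib

set_option autoImplicit false
universe u
open CategoryTheory CategoryTheory.Limits AlgebraicGeometry Opposite

namespace Groth.Agent.Helper5.EtPt

open AlgSp Groth.Agent.Helper4

variable {S : Scheme.{u}}

set_option backward.isDefEq.respectTransparency false

/-- covering sieves of the small étale site are those hitting every lift of every geometric point -/
theorem mem_etTop_iff (X : Space S) {U : EtOver X.obj} (R : Sieve U) :
    R ∈ etTop X.obj U ↔ ∀ (p : FieldPt X.obj) (_ : p.IsGeometric) (l : (FieldPt.liftsTo p).obj U),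
      ∃ (V : EtOver X.obj) (f : V ⟶ U) (_ : R f) (v : (FieldPt.liftsTo p).obj V),
        (FieldPt.liftsTo p).map f v = l :=
  ⟨fun h p hp l => jointly_surjective_aux X p hp R h l, mem_etTop_of_forall_geomPt X R⟩

section Postcomp

variable {X Y : Sp S} (f : X ⟶ Y) (hf : IsEtaleMor f)

/-- the image under `postcomp` of the fibre product cone is a limit cone -/
noncomputable def postcompPullbackIsLimit {E₁ E₂ E₀ : EtOver X} (g₁ : E₁ ⟶ E₀) (g₂ : E₂ ⟶ E₀) :
    IsLimit (PullbackCone.mk ((EtOver.postcomp f hf).map (EtOver.pullbackFst g₁ g₂))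
      ((EtOver.postcomp f hf).map (EtOver.pullbackSnd g₁ g₂))
      (by rw [← Functor.map_comp, ← Functor.map_comp, EtOver.pullback_condition])) :=
  PullbackCone.IsLimit.mk _
    (fun s => EtOver.homMk (pullback.lift s.fst.hom.left s.snd.hom.left
        (congrArg (fun k => k.hom.left) s.condition)) (by
      change (yon S).map _ ≫ ((yon S).map (pullback.fst g₁.hom.left g₂.hom.left) ≫ E₁.obj.hom) ≫ f =
        s.pt.obj.hom
      rw [Category.assoc, ← Category.assoc, ← Functor.map_comp, pullback.lift_fst]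
      exact EtOver.w s.fst))
    (fun s => EtOver.hom_ext _ _ (pullback.lift_fst _ _ _))
    (fun s => EtOver.hom_ext _ _ (pullback.lift_snd _ _ _))
    (fun s m h₁ h₂ => EtOver.hom_ext _ _ (pullback.hom_ext
      ((congrArg (fun k => k.hom.left) h₁).trans (pullback.lift_fst _ _ _).symm)
      ((congrArg (fun k => k.hom.left) h₂).trans (pullback.lift_snd _ _ _).symm)))

instance preservesLimit_cospan_postcomp {E₁ E₂ E₀ : EtOver X} (g₁ : E₁ ⟶ E₀) (g₂ : E₂ ⟶ E₀) :
    PreservesLimit (cospan g₁ g₂) (EtOver.postcomp f hf) :=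
  preservesLimit_of_preserves_limit_cone (EtOver.pullbackIsLimit g₁ g₂)
    ((isLimitMapConePullbackConeEquiv _ _).symm (postcompPullbackIsLimit f hf g₁ g₂))

instance preservesPullbacks_postcomp :
    PreservesLimitsOfShape WalkingCospan (EtOver.postcomp f hf) where
  preservesLimit {K} := preservesLimit_of_iso_diagram _ (diagramIsoCospan K).symm

end Postcomp

theorem etPre_hasPullbacks (X : Sp S) : (etPre X).HasPullbacks where
  hasPullbacks_of_mem {_ _} _ _ _ := ⟨fun {_ _} _ => inferInstance⟩

theorem postcomp_isContinuous {X Y : Sp S} (f : X ⟶ Y) (hf : IsEtaleMor f) :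
    (EtOver.postcomp f hf).IsContinuous (etTop X) (etTop Y) := by
  have := etPre_hasPullbacks X
  have := etPre_hasPullbacks Y
  unfold etTop
  refine Functor.isContinuous_toGrothendieck_of_pullbacksPreservedBy (EtOver.postcomp f hf)
    (etPre X) (etPre Y) ?_
  unfold etPre
  rw [← Precoverage.comap_comp]
  exact le_rfl

theorem postcomp_isCocontinuous {X Y : Space S} (f : X ⟶ Y) (hf : IsEtaleMor f.hom) :
    (EtOver.postcomp f.hom hf).IsCocontinuous (etTop X.obj) (etTop Y.obj) where
  cover_lift {U R} hR := by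
    rw [mem_etTop_iff]
    intro p hp l
    let l' : (FieldPt.liftsTo (p.map f.hom)).obj ((EtOver.postcomp f.hom hf).obj U) := ⟨l.1, by
      show (yon S).map l.1 ≫ U.obj.hom ≫ f.hom = (p.map f.hom).toHom
      rw [FieldPt.toHom_map, ← Category.assoc, l.2]⟩
    obtain ⟨V', φ', hφ', v', hv'⟩ := jointly_surjective_aux Y (p.map f.hom) hp R hR l'
    have hφe : Etale φ'.hom.left.left := EtOver.etale_left φ'
    let V : EtOver X.obj := EtOver.mk ((yon S).map φ'.hom.left ≫ U.obj.hom)
      (AlgSpSrc.repWith_comp _ ((repWith_yon_map_iff _ _).2 hφe) U.property)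
    let g : V ⟶ U := EtOver.homMk φ'.hom.left rfl
    let m : (EtOver.postcomp f.hom hf).obj V ⟶ V' := EtOver.homMk (𝟙 _) (by
      show (yon S).map (𝟙 _) ≫ V'.obj.hom = ((yon S).map φ'.hom.left ≫ U.obj.hom) ≫ f.hom
      rw [CategoryTheory.Functor.map_id, Category.id_comp, Category.assoc]
      exact (EtOver.w φ').symm)
    have hjg : (EtOver.postcomp f.hom hf).map g = m ≫ φ' := by
      apply EtOver.hom_ext
      show φ'.hom.left = 𝟙 _ ≫ φ'.hom.left
      rw [Category.id_comp]
    have hv'' : v'.1 ≫ φ'.hom.left = l.1 := congrArg Subtype.val hv'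
    refine ⟨V, g, ?_, ⟨v'.1, ?_⟩, Subtype.ext hv''⟩
    · show R ((EtOver.postcomp f.hom hf).map g)
      rw [hjg]
      exact R.downward_closed hφ' m
    · show (yon S).map v'.1 ≫ (yon S).map φ'.hom.left ≫ U.obj.hom = p.toHom
      rw [← Category.assoc, ← Functor.map_comp, hv'']
      exact l.2

end Groth.Agent.Helper5.EtPt
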