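import Groth.Agent.Helper5.EtPt10
import Groth.Agent.Helper5.Decent3
import Mathlib

set_option autoImplicit false
universe u
open CategoryTheory CategoryTheory.Limits AlgebraicGeometry Opposite

namespace Groth.Agent.Helper5.EtPt

open AlgSp Groth.Agent.Helper4 Groth.Agent.Helper4.AlgSpQC2

variable {S : Scheme.{u}}

set_option backward.isDefEq.respectTransparency false

/-- the open of `|X|` attached to a subsheaf of the final object -/
def subterminalSet {X : Sp S} (F : EtSh X (Type (u + 1))) : Set (Points X) :=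
  ⋃ (E : EtOver X) (_ : Nonempty (F.obj.obj (op E))), Set.range (Points.ofPt E.obj.hom)

theorem isOpen_subterminalSet (X : Space S) (F : EtSh X.obj (Type (u + 1))) :
    IsOpen (subterminalSet F) := by
  refine isOpen_iUnion fun E => isOpen_iUnion fun _ => ?_
  exact (Groth.Agent.Helper5.Decent3.isOpenMap_ofPt X.property E.obj.hom E.property).isOpen_range

theorem nonempty_iff_subset_subterminalSet (X : Space S) (F : EtSh X.obj (Type (u + 1)))
    (hF : ∀ E : EtOver X.obj, Subsingleton (F.obj.obj (op E))) (E : EtOver X.obj) :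
    Nonempty (F.obj.obj (op E)) ↔ Set.range (Points.ofPt E.obj.hom) ⊆ subterminalSet F := by
  constructor
  · intro h x hx
    exact Set.mem_iUnion.2 ⟨E, Set.mem_iUnion.2 ⟨h, hx⟩⟩
  · intro h
    -- the sieve of all `V ⟶ E` with `F(V)` nonempty
    let R : Sieve E :=
      { arrows := fun V _ => Nonempty (F.obj.obj (op V))
        downward_closed := fun {V W} g hg k => hg.map (F.obj.map k.op) }
    have hR : R ∈ etTop X.obj E := by
      rw [mem_etTop_iff]
      intro p hp l
      have hmem : Points.ofPt E.obj.hom (l.1.left (default : ↥(Spec (CommRingCat.of p.K)))) ∈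
          subterminalSet F := h ⟨_, rfl⟩
      obtain ⟨E', hE'⟩ := Set.mem_iUnion.1 hmem
      obtain ⟨hne, e', he'⟩ := Set.mem_iUnion.1 hE'
      have : IsAlgClosed p.K := hp
      obtain ⟨c, hc1, hc2⟩ := Groth.Agent.Helper5.AlgSpGeomLift.exists_lift_through_chart
        E'.obj.hom E'.property p.K p.str p.toHom (default : ↥(Spec (CommRingCat.of p.K))) e'
        (by rw [he', ofPt_lift, Points.ofPt_toHom])
      obtain ⟨⟨W, w⟩, ⟨g₁, hg₁⟩, ⟨g₂, hg₂⟩, -⟩ := cone_objs X p ⟨E, l⟩ ⟨E', ⟨c, hc1⟩⟩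
      exact ⟨W, g₁, hne.map (F.obj.map g₂.op), w, hg₁⟩
    have hsh : Presieve.IsSheafFor F.obj R.arrows :=
      ((isSheaf_iff_isSheaf_of_type _ _).1 F.2) R hR
    let x : Presieve.FamilyOfElements F.obj R.arrows := fun V g hg => hg.some
    have hx : x.Compatible := fun _ _ _ _ _ _ _ _ _ _ => Subsingleton.elim (h := hF _) _ _
    obtain ⟨t, -, -⟩ := hsh x hx
    exact ⟨t⟩

/-- étale scheme charts with image inside a given open form a basis -/
theorem exists_etOver_range_subset (X : Space S) (W : Set (Points X.obj)) (hW : IsOpen W)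
    (x : Points X.obj) (hx : x ∈ W) :
    ∃ E : EtOver X.obj, x ∈ Set.range (Points.ofPt E.obj.hom) ∧
      Set.range (Points.ofPt E.obj.hom) ⊆ W := by
  obtain ⟨A, a, hae, has⟩ := X.property.atlas
  obtain ⟨r, hr⟩ := AlgSpPts.isSurjectiveMor_of_repWith a has x
  obtain ⟨t, rfl⟩ := (Points.schemeHomeo A).surjective r
  rw [ofPt_eq_map_schemeHomeo] at hr
  let Ω : A.left.Opens := ⟨Points.ofPt a ⁻¹' W, hW.preimage (Points.continuous_ofPt a)⟩
  let A' : Over S := Over.mk (Ω.ι ≫ A.hom)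
  let i : A' ⟶ A := Over.homMk Ω.ι rfl
  have hie : Etale i.left := by
    show Etale Ω.ι
    infer_instance
  let E : EtOver X.obj := EtOver.mk ((yon S).map i ≫ a)
    (AlgSpSrc.repWith_comp _ ((repWith_yon_map_iff _ _).2 hie) hae)
  have key : ∀ s : ↥A'.left, Points.ofPt E.obj.hom s = Points.ofPt a (Ω.ι s) :=
    fun s => AlgSpPtsDesc.ofPt_yon_map_comp i a s
  refine ⟨E, ⟨(⟨t, by show Points.ofPt a t ∈ W; rw [hr]; exact hx⟩ : Ω), ?_⟩, ?_⟩
  · rw [key]
    exact hr
  · rintro _ ⟨s, rfl⟩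
    rw [key]
    exact (show (Ω.ι s) ∈ Ω from by simp)

theorem existsUnique_open_of_subsingleton (X : Space S) (F : EtSh X.obj (Type (u + 1)))
    (hF : ∀ E : EtOver X.obj, Subsingleton (F.obj.obj (op E))) :
    ∃! W : Set (Points X.obj), IsOpen W ∧
      ∀ E : EtOver X.obj, Nonempty (F.obj.obj (op E)) ↔
        Set.range (Points.ofPt E.obj.hom) ⊆ W := by
  refine ⟨subterminalSet F, ⟨isOpen_subterminalSet X F,
    nonempty_iff_subset_subterminalSet X F hF⟩, ?_⟩
  rintro W' ⟨hW'o, hW'⟩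
  apply Set.Subset.antisymm
  · intro x hx
    obtain ⟨E, hxE, hEW⟩ := exists_etOver_range_subset X W' hW'o x hx
    exact Set.mem_iUnion.2 ⟨E, Set.mem_iUnion.2 ⟨(hW' E).2 hEW, hxE⟩⟩
  · intro x hx
    obtain ⟨E, hE⟩ := Set.mem_iUnion.1 hx
    obtain ⟨hne, hxE⟩ := Set.mem_iUnion.1 hE
    exact (hW' E).1 hne hxE

end Groth.Agent.Helper5.EtPt
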