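import Groth.Agent.Helper5.EtPt10
import Groth.Prelude.Def_ModSite
import Mathlib

set_option autoImplicit false
universe u
open CategoryTheory CategoryTheory.Limits AlgebraicGeometry Opposite

namespace Groth.Agent.Helper5.EtPt

open AlgSp Groth.Agent.Helper4

variable {S : Scheme.{u}}

set_option backward.isDefEq.respectTransparency false

theorem isUnit_of_basicOpen_eq_top {Y : Scheme.{u}} (s : Γ(Y, ⊤)) (h : Y.basicOpen s = ⊤) :
    IsUnit s :=
  Y.toRingedSpace.isUnit_of_isUnit_germ ⊤ s
    (fun x _ => (Y.mem_basicOpen_top s x).1 (by rw [h]; trivial))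

theorem isUnit_appTop_basicOpen_ι {Y : Scheme.{u}} (r : Γ(Y, ⊤)) :
    IsUnit ((Y.basicOpen r).ι.appTop r) := by
  apply isUnit_of_basicOpen_eq_top
  rw [← Scheme.preimage_basicOpen_top]
  exact Scheme.Opens.ι_preimage_self _

/-- the object of the small étale site given by an open subscheme of an object -/
noncomputable def openObj {X : Sp S} (U : EtOver X) (Ω : U.obj.left.left.Opens) : EtOver X :=
  EtOver.mk ((yon S).map (Over.homMk Ω.ι rfl : Over.mk (Ω.ι ≫ U.obj.left.hom) ⟶ U.obj.left) ≫
    U.obj.hom)
    (AlgSpSrc.repWith_comp _ ((repWith_yon_map_iff _ _).2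
      (show Etale Ω.ι from inferInstance)) U.property)

noncomputable def openObjι {X : Sp S} (U : EtOver X) (Ω : U.obj.left.left.Opens) :
    openObj U Ω ⟶ U :=
  EtOver.homMk (Over.homMk Ω.ι rfl) rfl

theorem openObjι_left {X : Sp S} (U : EtOver X) (Ω : U.obj.left.left.Opens) :
    (openObjι U Ω).hom.left.left = Ω.ι := rfl

theorem isUnit_up {R : Type u} [CommRing R] {a : R} (h : IsUnit a) :
    IsUnit (ULift.up.{u + 1} a) :=
  h.map (ULift.ringEquiv.{u, u + 1} (R := R)).symm

theorem isLocallyRinged_OEt (X : Space S) :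
    ModSite.IsLocallyRinged (etTop X.obj) (OEt X.obj) := by
  constructor
  · intro U f
    let r : Γ(U.obj.left.left, ⊤) := (show ULift.{u + 1} Γ(U.obj.left.left, ⊤) from f).down
    let Ω : Bool → U.obj.left.left.Opens :=
      fun b => cond b (U.obj.left.left.basicOpen r) (U.obj.left.left.basicOpen (1 - r))
    refine ⟨Sieve.ofArrows (fun b => openObj U (Ω b)) (fun b => openObjι U (Ω b)),
      ofArrows_mem_etTop _ _ ?_, ?_⟩
    · intro x
      have h1 : U.obj.left.left.basicOpen (r + (1 - r)) ≤
          U.obj.left.left.basicOpen r ⊔ U.obj.left.left.basicOpen (1 - r) :=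
        Scheme.basicOpen_add_le _ _ _
      have h2 : x ∈ U.obj.left.left.basicOpen (r + (1 - r)) := by
        rw [add_sub_cancel, Scheme.basicOpen_one]; trivial
      rcases h1 h2 with h3 | h3
      · exact ⟨true, ⟨x, h3⟩, rfl⟩
      · exact ⟨false, ⟨x, h3⟩, rfl⟩
    · rintro V g ⟨W, h, _, ⟨b⟩, rfl⟩
      have key : ∀ s : ↥((OEt X.obj).obj.obj (op U)),
          IsUnit ((Ω b).ι.appTop.hom (show ULift.{u + 1} Γ(U.obj.left.left, ⊤) from s).down) →
          IsUnit (((OEt X.obj).obj.map (h ≫ openObjι U (Ω b)).op).hom s) := by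
        intro s hs
        have e : ((OEt X.obj).obj.map (h ≫ openObjι U (Ω b)).op).hom s =
            ((OEt X.obj).obj.map h.op).hom (((OEt X.obj).obj.map (openObjι U (Ω b)).op).hom s) := by
          rw [op_comp, Functor.map_comp]; rfl
        rw [e]
        exact (isUnit_up hs).map ((OEt X.obj).obj.map h.op).hom
      cases b
      · right
        apply key
        show IsUnit ((U.obj.left.left.basicOpen (1 - r)).ι.appTop.hom (1 - r))
        exact isUnit_appTop_basicOpen_ι (1 - r)
      · left
        apply key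
        exact isUnit_appTop_basicOpen_ι r
  · intro U h01
    have h01' : (0 : Γ(U.obj.left.left, ⊤)) = 1 := congrArg ULift.down h01
    have hemp : IsEmpty ↥U.obj.left.left := by
      constructor
      intro x
      have h1 : x ∈ U.obj.left.left.basicOpen (1 : Γ(U.obj.left.left, ⊤)) := by
        rw [Scheme.basicOpen_one]; trivial
      rw [← h01', Scheme.basicOpen_zero] at h1
      exact h1
    apply mem_etTop_of_forall_geomPt
    intro p hp l
    exact (hemp.false (l.1.left (default : ↥(Spec (CommRingCat.of p.K))))).elim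

end Groth.Agent.Helper5.EtPt
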