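import Groth.Agent.Helper5.EtPt10
import Groth.Agent.Helper5.HasAtChart
import Mathlib

set_option autoImplicit false
universe u
open CategoryTheory CategoryTheory.Limits AlgebraicGeometry Opposite

namespace Groth.Agent.Helper5.EtPt

open AlgSp Groth.Agent.Helper4

variable {S : Scheme.{u}}

set_option backward.isDefEq.respectTransparency false

theorem isReduced_of_isReducedSp (X : Space S) (hX : IsReducedSp X.obj) (E : EtOver X.obj) :
    IsReduced E.obj.left.left := by
  have h := (Groth.Agent.Helper5.HasAtChart.isReducedSp_iff X.property).1 hX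
  have : ∀ x : ↥E.obj.left.left, _root_.IsReduced (E.obj.left.left.presheaf.stalk x) := fun x =>
    (Groth.Agent.Helper5.HasAtChart.hasAt_iff_chart
      (fun U u => _root_.IsReduced ↥(U.presheaf.stalk u))
      (fun g _ x => Groth.Agent.Helper5.HasAtChart.isReduced_stalk_iff_of_etale g x)
      E.obj.hom E.property x).1 (h _)
  exact isReduced_of_isReduced_stalk E.obj.left.left

theorem gsect_ext (X : Space S) (f g : ↥(gsectEt (OEt X.obj)))
    (h : ∀ E : EtOver X.obj, (limit.π (OEt X.obj).obj (op E)) f = (limit.π (OEt X.obj).obj (op E)) g) :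
    f = g := by
  apply Concrete.limit_ext
  rintro ⟨E⟩
  exact h E

theorem isReduced_gsectEt (X : Space S) (hX : IsReducedSp X.obj) :
    _root_.IsReduced ↥(gsectEt (OEt X.obj)) ∧
      ∀ f : ↥(gsectEt (OEt X.obj)),
        (∀ E : EtOver X.obj,
            E.obj.left.left.basicOpen ((limit.π (OEt X.obj).obj (op E)) f).down = ⊥) →
          f = 0 := by
  constructor
  · constructor
    rintro f ⟨n, hn⟩
    apply gsect_ext
    intro E
    have : IsReduced E.obj.left.left := isReduced_of_isReducedSp X hX E
    rw [map_zero]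
    have h1 : ((limit.π (OEt X.obj).obj (op E)) f) ^ n = 0 := by
      rw [← map_pow, hn, map_zero]
    have h2 : ((((limit.π (OEt X.obj).obj (op E)) f).down : Γ(E.obj.left.left, ⊤))) ^ n = 0 := by
      have := congrArg ULift.down h1
      exact this
    have h3 : (((limit.π (OEt X.obj).obj (op E)) f).down : Γ(E.obj.left.left, ⊤)) = 0 :=
      IsNilpotent.eq_zero (R := Γ(E.obj.left.left, ⊤)) ⟨n, h2⟩
    exact ULift.ext _ _ h3
  · intro f hf
    apply gsect_ext
    intro E
    have : IsReduced E.obj.left.left := isReduced_of_isReducedSp X hX E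
    rw [map_zero]
    have h3 : (((limit.π (OEt X.obj).obj (op E)) f).down : Γ(E.obj.left.left, ⊤)) = 0 :=
      (basicOpen_eq_bot_iff (X := E.obj.left.left) _).1 (hf E)
    exact ULift.ext _ _ h3

end Groth.Agent.Helper5.EtPt
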