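import Groth.Agent.Helper5.EtPt1
import Mathlib

set_option autoImplicit false
universe u
open CategoryTheory CategoryTheory.Limits AlgebraicGeometry Opposite

namespace Groth.Agent.Helper5.EtPt

open AlgSp Groth.Agent.Helper4 Groth.Agent.Helper4.AlgSpQC2

variable {S : Scheme.{u}}

set_option backward.isDefEq.respectTransparency false

/-- fibre products over an object of the small étale site, with lifts -/
theorem exists_pullback_lift (X : Space S) (p : FieldPt X.obj) {E Z Y : EtOver X.obj}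
    (g : Z ⟶ E) (f : Y ⟶ E) (z : (FieldPt.liftsTo p).obj Z) (y : (FieldPt.liftsTo p).obj Y)
    (hzy : (FieldPt.liftsTo p).map g z = (FieldPt.liftsTo p).map f y) :
    ∃ (W : EtOver X.obj) (h : W ⟶ Y) (h' : W ⟶ Z) (w : (FieldPt.liftsTo p).obj W),
      h ≫ f = h' ≫ g ∧ (FieldPt.liftsTo p).map h w = y := by
  have hge : Etale g.hom.left.left := EtOver.etale_left g
  let W₀ : Over S := Over.mk (pullback.snd g.hom.left.left f.hom.left.left ≫ Y.obj.left.hom)
  let h₀ : W₀ ⟶ Y.obj.left := Over.homMk (pullback.snd g.hom.left.left f.hom.left.left) rfl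
  let h₀' : W₀ ⟶ Z.obj.left := Over.homMk (pullback.fst g.hom.left.left f.hom.left.left) (by
    show pullback.fst g.hom.left.left f.hom.left.left ≫ Z.obj.left.hom =
      pullback.snd g.hom.left.left f.hom.left.left ≫ Y.obj.left.hom
    rw [← Over.w g.hom.left, ← Over.w f.hom.left, ← Category.assoc, ← Category.assoc,
      pullback.condition])
  have hcond : h₀' ≫ g.hom.left = h₀ ≫ f.hom.left := Over.OverMorphism.ext pullback.condition
  have h₀e : Etale h₀.left := by
    show Etale (pullback.snd g.hom.left.left f.hom.left.left)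
    infer_instance
  let W : EtOver X.obj := EtOver.mk ((yon S).map h₀ ≫ Y.obj.hom)
    (AlgSpSrc.repWith_comp _ ((repWith_yon_map_iff _ _).2 h₀e) Y.property)
  let h : W ⟶ Y := EtOver.homMk h₀ rfl
  let h' : W ⟶ Z := EtOver.homMk h₀' (by
    show (yon S).map h₀' ≫ Z.obj.hom = (yon S).map h₀ ≫ Y.obj.hom
    rw [← EtOver.w g, ← EtOver.w f, ← Category.assoc, ← Category.assoc, ← Functor.map_comp,
      ← Functor.map_comp, hcond])
  have hzy' : z.1 ≫ g.hom.left = y.1 ≫ f.hom.left := congrArg Subtype.val hzy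
  let w₀ : p.pt ⟶ W₀ := Over.homMk
    (pullback.lift z.1.left y.1.left (congrArg (fun m => m.left) hzy')) (by
      show pullback.lift z.1.left y.1.left _ ≫
        pullback.snd g.hom.left.left f.hom.left.left ≫ Y.obj.left.hom = _
      rw [← Category.assoc, pullback.lift_snd]
      exact Over.w y.1)
  have hw₀ : w₀ ≫ h₀ = y.1 := Over.OverMorphism.ext (pullback.lift_snd _ _ _)
  let w : (FieldPt.liftsTo p).obj W := ⟨w₀, by
    show (yon S).map w₀ ≫ (yon S).map h₀ ≫ Y.obj.hom = p.toHom
    rw [← Category.assoc, ← Functor.map_comp, hw₀]; exact y.2⟩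
  refine ⟨W, h, h', w, ?_, Subtype.ext hw₀⟩
  apply EtOver.hom_ext
  show h₀ ≫ f.hom.left = h₀' ≫ g.hom.left
  exact hcond.symm

theorem jointly_surjective_aux (X : Space S) (p : FieldPt X.obj) (hp : p.IsGeometric)
    {E : EtOver X.obj} (R : Sieve E) (h : (etPre X.obj).Saturate E R) :
    ∀ x : (FieldPt.liftsTo p).obj E,
      ∃ (Y : EtOver X.obj) (f : Y ⟶ E) (_ : R f) (y : (FieldPt.liftsTo p).obj Y),
        (FieldPt.liftsTo p).map f y = x := by
  induction h with
  | of E R₀ hR₀ =>
    intro x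
    have h1 := (Precoverage.mem_comap_iff).1 hR₀
    have h2 := h1.1
    rw [Presieve.mem_comap_jointlySurjectivePrecoverage_iff] at h2
    obtain ⟨Y', g', hg', y, hy⟩ := h2 (x.1.left (default : ↥(Spec (CommRingCat.of p.K))))
    obtain ⟨hg⟩ := hg'
    obtain ⟨x', hx'⟩ := exists_lift_of_mem_range X p hp _ x y hy
    exact ⟨_, _, Sieve.le_generate R₀ _ _ hg, x', hx'⟩
  | top E =>
    intro x
    exact ⟨E, 𝟙 E, trivial, x, by simp⟩
  | pullback E R hR Y f ih =>
    intro y
    obtain ⟨Z, g, hg, z, hz⟩ := ih ((FieldPt.liftsTo p).map f y)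
    obtain ⟨W, h, h', w, hcomm, hw⟩ := exists_pullback_lift X p g f z y hz
    refine ⟨W, h, ?_, w, hw⟩
    show R (h ≫ f)
    rw [hcomm]
    exact R.downward_closed hg h'
  | transitive E R T hR hT ih1 ih2 =>
    intro x
    obtain ⟨Z, g, hg, z, hz⟩ := ih1 x
    obtain ⟨W, h, hh, w, hw⟩ := ih2 hg z
    refine ⟨W, h ≫ g, hh, w, ?_⟩
    rw [Functor.map_comp]
    show (FieldPt.liftsTo p).map g ((FieldPt.liftsTo p).map h w) = x
    rw [hw, hz]

end Groth.Agent.Helper5.EtPt
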