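import Groth.Agent.Helper5.EtPt2
import Mathlib

set_option autoImplicit false
universe u
open CategoryTheory CategoryTheory.Limits AlgebraicGeometry Opposite

namespace Groth.Agent.Helper5.EtPt

open AlgSp Groth.Agent.Helper4 Groth.Agent.Helper4.AlgSpQC2

variable {S : Scheme.{u}}

set_option backward.isDefEq.respectTransparency false

/-- structure map of an affine étale object over the atlas scheme, as a morphism over `S` -/
noncomputable def affStr {A : Over S} (W : A.left.AffineEtale) :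
    (Over.mk ((W.hom : Scheme.Spec.obj W.left ⟶ A.left) ≫ A.hom) : Over S) ⟶ A :=
  Over.homMk (W.hom : Scheme.Spec.obj W.left ⟶ A.left) rfl

theorem affStr_etale {A : Over S} (W : A.left.AffineEtale) : Etale (affStr W).left := W.prop

noncomputable def affEtObj {A : Over S} {X : Sp S} (a₀ : (yon S).obj A ⟶ X)
    (hae : RepWith @Etale a₀) (W : A.left.AffineEtale) : EtOver X :=
  EtOver.mk ((yon S).map (affStr W) ≫ a₀)
    (AlgSpSrc.repWith_comp _ ((repWith_yon_map_iff _ _).2 (affStr_etale W)) hae)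

theorem aff_w {A : Over S} {W₁ W₂ : A.left.AffineEtale} (φ : W₁ ⟶ W₂) :
    Scheme.Spec.map φ.left ≫ (W₂.hom : Scheme.Spec.obj W₂.left ⟶ A.left) =
      (W₁.hom : Scheme.Spec.obj W₁.left ⟶ A.left) := by
  have := φ.w
  simpa using this

noncomputable def affMapOver {A : Over S} {W₁ W₂ : A.left.AffineEtale} (φ : W₁ ⟶ W₂) :
    (Over.mk ((W₁.hom : Scheme.Spec.obj W₁.left ⟶ A.left) ≫ A.hom) : Over S) ⟶
      Over.mk ((W₂.hom : Scheme.Spec.obj W₂.left ⟶ A.left) ≫ A.hom) :=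
  Over.homMk (Scheme.Spec.map φ.left) (by
    show Scheme.Spec.map φ.left ≫ (W₂.hom : Scheme.Spec.obj W₂.left ⟶ A.left) ≫ A.hom = _
    rw [← Category.assoc, aff_w]; rfl)

theorem affMapOver_comp_affStr {A : Over S} {W₁ W₂ : A.left.AffineEtale} (φ : W₁ ⟶ W₂) :
    affMapOver φ ≫ affStr W₂ = affStr W₁ :=
  Over.OverMorphism.ext (aff_w φ)

theorem affMapOver_id {A : Over S} (W : A.left.AffineEtale) :
    affMapOver (𝟙 W) = 𝟙 _ := by
  apply Over.OverMorphism.ext
  show Scheme.Spec.map (𝟙 W : W ⟶ W).left = 𝟙 _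
  have : (𝟙 W : W ⟶ W).left = 𝟙 W.left := rfl
  rw [this, CategoryTheory.Functor.map_id]

theorem affMapOver_comp {A : Over S} {W₁ W₂ W₃ : A.left.AffineEtale} (φ : W₁ ⟶ W₂)
    (ψ : W₂ ⟶ W₃) :
    affMapOver (φ ≫ ψ) = affMapOver φ ≫ affMapOver ψ := by
  apply Over.OverMorphism.ext
  show Scheme.Spec.map (φ ≫ ψ : W₁ ⟶ W₃).left = Scheme.Spec.map φ.left ≫ Scheme.Spec.map ψ.left
  have : (φ ≫ ψ : W₁ ⟶ W₃).left = φ.left ≫ ψ.left := rfl
  rw [this, Functor.map_comp]

noncomputable def affEtFunctor {A : Over S} {X : Sp S} (a₀ : (yon S).obj A ⟶ X)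
    (hae : RepWith @Etale a₀) : A.left.AffineEtale ⥤ EtOver X where
  obj W := affEtObj a₀ hae W
  map {W₁ W₂} φ := EtOver.homMk (affMapOver φ) (by
    show (yon S).map (affMapOver φ) ≫ (yon S).map (affStr W₂) ≫ a₀ = (yon S).map (affStr W₁) ≫ a₀
    rw [← Category.assoc, ← Functor.map_comp, affMapOver_comp_affStr])
  map_id W := by
    apply EtOver.hom_ext
    exact affMapOver_id W
  map_comp φ ψ := by
    apply EtOver.hom_ext
    exact affMapOver_comp φ ψ

theorem exists_atlas_lift (X : Space S) (p : FieldPt X.obj) (hp : p.IsGeometric)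
    {A : Over S} (a : (yon S).obj A ⟶ X.obj) (hae : RepWith @Etale a)
    (has : RepWith @Surjective a) :
    Nonempty ((FieldPt.liftsTo p).obj (EtOver.mk a hae)) := by
  have : IsAlgClosed p.K := hp
  obtain ⟨t₀⟩ : Nonempty ↥(Over.mk p.str).left :=
    (inferInstance : Nonempty ↥(Spec (CommRingCat.of p.K)))
  obtain ⟨r, hr⟩ := AlgSpPts.isSurjectiveMor_of_repWith a has (Points.ofPt p.toHom t₀)
  obtain ⟨t, rfl⟩ := (Points.schemeHomeo A).surjective r
  obtain ⟨c, hc1, hc2⟩ := Groth.Agent.Helper5.AlgSpGeomLift.exists_lift_through_chart a hae p.K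
    p.str p.toHom t₀ t (by rw [← hr, ofPt_eq_map_schemeHomeo])
  exact ⟨⟨c, hc1⟩⟩

theorem initiallySmall_etNbhd (X : Space S) (p : FieldPt X.obj) (hp : p.IsGeometric) :
    InitiallySmall.{u} (EtNbhd p) := by
  haveI := isCofiltered_etNbhd X p hp
  obtain ⟨A, a, hae, has⟩ := X.property.atlas
  obtain ⟨c⟩ := exists_atlas_lift X p hp a hae has
  refine initiallySmall_of_essentiallySmall_weakly_initial_objectProperty
    (Functor.Elements.precomp (affEtFunctor a hae) (FieldPt.liftsTo p)).essImage ?_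
  intro N
  obtain ⟨W, f₁, k, -⟩ := cone_objs X p N ⟨EtOver.mk a hae, c⟩
  obtain ⟨E', u'⟩ := W
  have hk : u'.1 ≫ k.1.hom.left = c.1 := congrArg Subtype.val k.2
  have hke : Etale k.1.hom.left.left := EtOver.etale_left k.1
  obtain ⟨R, j, hj, y', hy'⟩ : ∃ (R : CommRingCat.{u}) (j : Spec R ⟶ E'.obj.left.left)
      (_ : IsOpenImmersion j) (y' : Spec (CommRingCat.of p.K) ⟶ Spec R), y' ≫ j = u'.1.left := by
    obtain ⟨R, j, _, hj, _⟩ := Scheme.exists_affine_mem_range_and_range_subset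
      (x := u'.1.left (default : ↥(Spec (CommRingCat.of p.K)))) (U := ⊤) (by simp)
    refine ⟨R, j, inferInstance, _, IsOpenImmersion.lift_fac j u'.1.left ?_⟩
    rintro _ ⟨b, rfl⟩
    have hb : b = (default : ↥(Spec (CommRingCat.of p.K))) :=
      Subsingleton.elim (α := ↥(Spec (CommRingCat.of p.K))) b default
    rw [hb]; exact hj
  haveI : Etale (j ≫ k.1.hom.left.left) := inferInstance
  let Wa : A.left.AffineEtale := Scheme.AffineEtale.mk (j ≫ k.1.hom.left.left)
  have hy'c : y' ≫ (j ≫ k.1.hom.left.left) = c.1.left := by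
    rw [← Category.assoc, hy', ← Over.comp_left, hk]
  let e₀ : p.pt ⟶ ((affEtFunctor a hae).obj Wa).obj.left := Over.homMk y' (by
    show y' ≫ ((j ≫ k.1.hom.left.left) ≫ A.hom) = p.pt.hom
    rw [← Category.assoc, hy'c]; exact Over.w c.1)
  have he₀ : e₀ ≫ affStr Wa = c.1 := Over.OverMorphism.ext hy'c
  let e : (affEtFunctor a hae ⋙ FieldPt.liftsTo p).obj Wa := ⟨e₀, by
    show (yon S).map e₀ ≫ (yon S).map (affStr Wa) ≫ a = p.toHom
    rw [← Category.assoc, ← Functor.map_comp, he₀]; exact c.2⟩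
  let m₀ : ((affEtFunctor a hae).obj Wa).obj.left ⟶ E'.obj.left := Over.homMk j (by
    show j ≫ E'.obj.left.hom = (j ≫ k.1.hom.left.left) ≫ A.hom
    rw [Category.assoc]
    congr 1
    exact (Over.w k.1.hom.left).symm)
  have hm₀ : m₀ ≫ k.1.hom.left = affStr Wa := Over.OverMorphism.ext rfl
  let m : (affEtFunctor a hae).obj Wa ⟶ E' := EtOver.homMk m₀ (by
    show (yon S).map m₀ ≫ E'.obj.hom = (yon S).map (affStr Wa) ≫ a
    rw [← EtOver.w k.1, ← Category.assoc, ← Functor.map_comp, hm₀]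
    rfl)
  have hm : e₀ ≫ m₀ = u'.1 := Over.OverMorphism.ext hy'
  refine ⟨(Functor.Elements.precomp (affEtFunctor a hae) (FieldPt.liftsTo p)).obj ⟨Wa, e⟩,
    ⟨⟨Wa, e⟩, ⟨Iso.refl _⟩⟩, ⟨?_ ≫ f₁⟩⟩
  exact ⟨m, Subtype.ext hm⟩

end Groth.Agent.Helper5.EtPt
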