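import Groth.Agent.Helper5.EtPt3
import Mathlib

set_option autoImplicit false
universe u
open CategoryTheory CategoryTheory.Limits AlgebraicGeometry Opposite

namespace Groth.Agent.Helper5.EtPt

open AlgSp Groth.Agent.Helper4 Groth.Agent.Helper4.AlgSpQC2

variable {S : Scheme.{u}}

set_option backward.isDefEq.respectTransparency false

/-- the point of the small étale site of `X` given by a geometric point -/
noncomputable def etPoint (X : Space S) (p : FieldPt X.obj) (hp : p.IsGeometric) :
    GrothendieckTopology.Point.{u} (etTop X.obj) where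
  fiber := FieldPt.liftsTo p
  isCofiltered := isCofiltered_etNbhd X p hp
  initiallySmall := initiallySmall_etNbhd X p hp
  jointly_surjective R h x := jointly_surjective_aux X p hp R h x

theorem etPoint_fiber (X : Space S) (p : FieldPt X.obj) (hp : p.IsGeometric) :
    (etPoint X p hp).fiber = FieldPt.liftsTo p := rfl

theorem presheafFiber_eq (X : Space S) (p : FieldPt X.obj) (hp : p.IsGeometric)
    (A : Type*) [Category A] [HasColimitsOfSize.{u, u} A]
    [HasColimitsOfShape (EtNbhd p)ᵒᵖ A] :
    (etPoint X p hp).presheafFiber (A := A) = stalkEtPshFunctor A p := by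
  unfold GrothendieckTopology.Point.presheafFiber stalkEtPshFunctor
  rfl

theorem sheafFiber_eq (X : Space S) (p : FieldPt X.obj) (hp : p.IsGeometric)
    (A : Type*) [Category A] [HasColimitsOfSize.{u, u} A]
    [HasColimitsOfShape (EtNbhd p)ᵒᵖ A] :
    (etPoint X p hp).sheafFiber (A := A) = stalkEtFunctor A p := by
  unfold GrothendieckTopology.Point.sheafFiber stalkEtFunctor
  rw [presheafFiber_eq]


theorem ab5_type : AB5OfSize.{u, u} (Type (u + 1)) := AB5OfSize_shrink.{u, u, u + 1, u + 1} _

theorem ab5_ab : AB5OfSize.{u, u} AddCommGrpCat.{u + 1} := AB5OfSize_shrink.{u, u, u + 1, u + 1} _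

theorem stalkEtFunctor_type_exact (X : Space S) (p : FieldPt X.obj) (hp : p.IsGeometric) :
    PreservesFiniteLimits (stalkEtFunctor (Type (u + 1)) p) ∧
      PreservesFiniteColimits (stalkEtFunctor (Type (u + 1)) p) := by
  have := ab5_type.{u}
  rw [← sheafFiber_eq X p hp]
  exact ⟨inferInstance, inferInstance⟩

theorem stalkEtFunctor_ab_exact (X : Space S) (p : FieldPt X.obj) (hp : p.IsGeometric) :
    PreservesFiniteLimits (stalkEtFunctor AddCommGrpCat.{u + 1} p) ∧
      PreservesFiniteColimits (stalkEtFunctor AddCommGrpCat.{u + 1} p) := by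
  have := ab5_ab.{u}
  rw [← sheafFiber_eq X p hp]
  exact ⟨inferInstance, inferInstance⟩

theorem stalkEtPshFunctor_ab_exact (X : Space S) (p : FieldPt X.obj) (hp : p.IsGeometric) :
    PreservesFiniteLimits (stalkEtPshFunctor AddCommGrpCat.{u + 1} p) ∧
      PreservesFiniteColimits (stalkEtPshFunctor AddCommGrpCat.{u + 1} p) := by
  have := ab5_ab.{u}
  rw [← presheafFiber_eq X p hp]
  refine ⟨inferInstance, ?_⟩
  have : PreservesColimitsOfSize.{u, u}
    ((etPoint X p hp).presheafFiber (A := AddCommGrpCat.{u + 1})) := inferInstance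
  exact PreservesColimitsOfSize.preservesFiniteColimits _

theorem stalkEtPshFunctor_type_exact (X : Space S) (p : FieldPt X.obj) (hp : p.IsGeometric) :
    PreservesFiniteLimits (stalkEtPshFunctor (Type (u + 1)) p) ∧
      PreservesFiniteColimits (stalkEtPshFunctor (Type (u + 1)) p) := by
  have := ab5_type.{u}
  rw [← presheafFiber_eq X p hp]
  refine ⟨inferInstance, ?_⟩
  have : PreservesColimitsOfSize.{u, u}
    ((etPoint X p hp).presheafFiber (A := Type (u + 1))) := inferInstance
  exact PreservesColimitsOfSize.preservesFiniteColimits _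

theorem isIso_stalkEtPsh_toSheafify (X : Space S) (p : FieldPt X.obj) (hp : p.IsGeometric)
    (P : (EtOver X.obj)ᵒᵖ ⥤ Type (u + 1)) :
    IsIso ((stalkEtPshFunctor (Type (u + 1)) p).map (toSheafify (etTop X.obj) P)) := by
  rw [← presheafFiber_eq X p hp]
  infer_instance

end Groth.Agent.Helper5.EtPt
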