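import Groth.Agent.Helper5.EtPt4
import Mathlib

set_option autoImplicit false
universe u
open CategoryTheory CategoryTheory.Limits AlgebraicGeometry Opposite

namespace Groth.Agent.Helper5.EtPt

open AlgSp Groth.Agent.Helper4 Groth.Agent.Helper4.AlgSpQC2

variable {S : Scheme.{u}}

set_option backward.isDefEq.respectTransparency false

/-- the field-valued point of `F` given by a morphism from the spectrum of a field to a chart -/
noncomputable def fieldPtOfHom {F : Sp S} {T : Over S} (g : (yon S).obj T ⟶ F) {K : Type u} [Field K]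
    (str : Spec (CommRingCat.of K) ⟶ S) (m : Over.mk str ⟶ T) : FieldPt F :=
  ⟨K, str, g.hom.app (op (Over.mk str)) ⟨m⟩⟩

theorem toHom_fieldPtOfHom {F : Sp S} {T : Over S} (g : (yon S).obj T ⟶ F) {K : Type u} [Field K]
    (str : Spec (CommRingCat.of K) ⟶ S) (m : Over.mk str ⟶ T) :
    (fieldPtOfHom g str m).toHom = (yon S).map m ≫ g := by
  apply (J S).uliftYonedaEquiv.injective
  rw [FieldPt.uliftYonedaEquiv_toHom, GrothendieckTopology.uliftYonedaEquiv_comp,
    GrothendieckTopology.uliftYonedaEquiv_uliftYoneda_map]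
  rfl

/-- every point of an object of the small étale site lies under a geometric point with a lift -/
theorem exists_geomPt_over {X : Sp S} (U : EtOver X) (x : ↥U.obj.left.left) :
    ∃ (p : FieldPt X) (_ : p.IsGeometric) (l : (FieldPt.liftsTo p).obj U),
      l.1.left (default : ↥(Spec (CommRingCat.of p.K))) = x := by
  let κ := U.obj.left.left.residueField x
  let K := AlgebraicClosure κ
  let m₀ : Spec (CommRingCat.of K) ⟶ U.obj.left.left :=
    Spec.map (CommRingCat.ofHom (algebraMap κ K)) ≫ U.obj.left.left.fromSpecResidueField x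
  let str : Spec (CommRingCat.of K) ⟶ S := m₀ ≫ U.obj.left.hom
  let m : Over.mk str ⟶ U.obj.left := Over.homMk m₀ rfl
  refine ⟨fieldPtOfHom U.obj.hom str m, ?_, ⟨m, (toHom_fieldPtOfHom U.obj.hom str m).symm⟩, ?_⟩
  · show IsAlgClosed K
    infer_instance
  · show m₀ _ = x
    rw [Scheme.Hom.comp_apply]
    exact Scheme.fromSpecResidueField_apply _ _

/-- a sieve is covering if it contains, for every lift of every geometric point, a morphism of étale
neighbourhoods -/
theorem mem_etTop_of_forall_geomPt (X : Space S) {U : EtOver X.obj} (R : Sieve U)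
    (h : ∀ (p : FieldPt X.obj) (_ : p.IsGeometric) (l : (FieldPt.liftsTo p).obj U),
      ∃ (V : EtOver X.obj) (f : V ⟶ U) (_ : R f) (v : (FieldPt.liftsTo p).obj V),
        (FieldPt.liftsTo p).map f v = l) :
    R ∈ etTop X.obj U := by
  have h' : ∀ x : ↥U.obj.left.left, ∃ (V : EtOver X.obj) (f : V ⟶ U) (_ : R f),
      x ∈ Set.range (fun v => f.hom.left.left v) := by
    intro x
    obtain ⟨p, hp, l, hl⟩ := exists_geomPt_over U x
    obtain ⟨V, f, hf, v, hv⟩ := h p hp l
    refine ⟨V, f, hf, v.1.left (default : ↥(Spec (CommRingCat.of p.K))), ?_⟩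
    show f.hom.left.left (v.1.left _) = x
    rw [← hl, ← hv]
    rfl
  choose V f hf hx using h'
  refine (etTop X.obj).superset_covering ?_ (ofArrows_mem_etTop V f ?_)
  · rw [Sieve.generate_le_iff]
    rintro _ _ ⟨x⟩
    exact hf x
  · intro x
    obtain ⟨v, hv⟩ := hx x
    exact ⟨x, v, hv⟩

section Concrete

variable {A : Type*} [Category A] [HasColimitsOfSize.{u, u} A]
  {FC : A → A → Type*} {CC : A → Type*}
  [∀ X Y : A, FunLike (FC X Y) (CC X) (CC Y)] [ConcreteCategory A FC]
  [PreservesFilteredColimitsOfSize.{u, u} (forget A)]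

theorem isLocallyInjective_of_stalk (X : Space S) {P Q : (EtOver X.obj)ᵒᵖ ⥤ A} (a : P ⟶ Q)
    (h : ∀ (p : FieldPt X.obj) (hp : p.IsGeometric),
      Function.Injective ((etPoint X p hp).presheafFiber.map a)) :
    Presheaf.IsLocallyInjective (etTop X.obj) a where
  equalizerSieve_mem {U} x y hxy := by
    apply mem_etTop_of_forall_geomPt
    intro p hp l
    have h1 : (etPoint X p hp).toPresheafFiber U.unop l P x =
        (etPoint X p hp).toPresheafFiber U.unop l P y := by
      apply h p hp
      rw [GrothendieckTopology.Point.toPresheafFiber_naturality_apply,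
        GrothendieckTopology.Point.toPresheafFiber_naturality_apply, hxy]
    obtain ⟨V, f, v, hv, hf⟩ := ((etPoint X p hp).toPresheafFiber_eq_iff' U.unop l x y).1 h1
    exact ⟨V, f, hf, v, hv⟩

theorem isLocallySurjective_of_stalk (X : Space S) {P Q : (EtOver X.obj)ᵒᵖ ⥤ A} (a : P ⟶ Q)
    (h : ∀ (p : FieldPt X.obj) (hp : p.IsGeometric),
      Function.Surjective ((etPoint X p hp).presheafFiber.map a)) :
    Presheaf.IsLocallySurjective (etTop X.obj) a where
  imageSieve_mem {U} t := by
    apply mem_etTop_of_forall_geomPt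
    intro p hp l
    obtain ⟨z, hz⟩ := h p hp ((etPoint X p hp).toPresheafFiber U l Q t)
    obtain ⟨V, v, s, rfl⟩ := (etPoint X p hp).toPresheafFiber_jointly_surjective z
    rw [GrothendieckTopology.Point.toPresheafFiber_naturality_apply] at hz
    obtain ⟨⟨W, w⟩, ⟨g₁, hg₁⟩, ⟨g₂, hg₂⟩, -⟩ := cone_objs X p ⟨V, v⟩ ⟨U, l⟩
    have hg₁' : (FieldPt.liftsTo p).map g₁ w = v := hg₁
    have hg₂' : (FieldPt.liftsTo p).map g₂ w = l := hg₂
    have h2 : (etPoint X p hp).toPresheafFiber W w Q (Q.map g₁.op (a.app _ s)) =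
        (etPoint X p hp).toPresheafFiber W w Q (Q.map g₂.op t) := by
      have e1 := (etPoint X p hp).toPresheafFiber_w_apply g₁ w Q (a.app _ s)
      have e2 := (etPoint X p hp).toPresheafFiber_w_apply g₂ w Q t
      rw [e1, e2]
      show (etPoint X p hp).toPresheafFiber V ((FieldPt.liftsTo p).map g₁ w) Q _ =
        (etPoint X p hp).toPresheafFiber U ((FieldPt.liftsTo p).map g₂ w) Q _
      rw [hg₁', hg₂', hz]
    obtain ⟨Y, f, y, hy, hf⟩ := ((etPoint X p hp).toPresheafFiber_eq_iff' W w _ _).1 h2
    refine ⟨Y, f ≫ g₂, ⟨P.map (f ≫ g₁).op s, ?_⟩, y, ?_⟩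
    · rw [NatTrans.naturality_apply, op_comp, Functor.map_comp, op_comp, Functor.map_comp,
        ConcreteCategory.comp_apply, ConcreteCategory.comp_apply]
      exact hf
    · rw [Functor.map_comp]
      show (FieldPt.liftsTo p).map g₂ ((FieldPt.liftsTo p).map f y) = l
      have hy' : (FieldPt.liftsTo p).map f y = w := hy
      rw [hy', hg₂']

end Concrete

end Groth.Agent.Helper5.EtPt
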