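import Groth.Agent.Helper5.EtPt5
import Mathlib

set_option autoImplicit false
universe u
open CategoryTheory CategoryTheory.Limits AlgebraicGeometry Opposite

namespace Groth.Agent.Helper5.EtPt

open AlgSp

variable {S : Scheme.{u}}

set_option backward.isDefEq.respectTransparency false

theorem preservesFilteredColimits_forget_ab :
    PreservesFilteredColimitsOfSize.{u, u} (forget AddCommGrpCat.{u + 1}) :=
  preservesFilteredColimitsOfSize_shrink.{u, u + 1, u, u + 1} _

/-- an abelian sheaf on the small étale site all of whose stalks at geometric points vanish is zero -/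
theorem isZero_of_stalks_isZero (X : Space S) (H : AbEt X.obj)
    (h : ∀ (p : FieldPt X.obj), p.IsGeometric →
      IsZero ((stalkEtFunctor AddCommGrpCat.{u + 1} p).obj H)) : IsZero H := by
  have := preservesFilteredColimits_forget_ab.{u}
  have : Presheaf.IsLocallyInjective (etTop X.obj) (0 : H ⟶ H).hom := by
    apply isLocallyInjective_of_stalk
    intro p hp
    have hz : IsZero ((etPoint X p hp).presheafFiber.obj H.obj) := h p hp
    have : Subsingleton ↑((etPoint X p hp).presheafFiber.obj H.obj) :=
      AddCommGrpCat.subsingleton_of_isZero hz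
    exact Function.injective_of_subsingleton _
  have : Mono (0 : H ⟶ H) := Sheaf.mono_of_isLocallyInjective _
  exact IsZero.of_mono_zero H H

/-- exactness of a short complex of abelian sheaves is tested on stalks -/
theorem exact_iff_stalks (X : Space S) (C : ShortComplex (AbEt X.obj)) :
    C.Exact ↔ ∀ p : FieldPt X.obj, p.IsGeometric →
      ∀ y : ↥((stalkEtFunctor AddCommGrpCat.{u + 1} p).obj C.X₂),
        ((stalkEtFunctor AddCommGrpCat.{u + 1} p).map C.g) y = 0 →
          ∃ x : ↥((stalkEtFunctor AddCommGrpCat.{u + 1} p).obj C.X₁),
            ((stalkEtFunctor AddCommGrpCat.{u + 1} p).map C.f) x = y := by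
  constructor
  · intro hC p hp
    have h1 := (stalkEtFunctor_ab_exact X p hp).1
    have h2 := (stalkEtFunctor_ab_exact X p hp).2
    have : (stalkEtFunctor AddCommGrpCat.{u + 1} p).PreservesZeroMorphisms := inferInstance
    have hE : (C.map (stalkEtFunctor AddCommGrpCat.{u + 1} p)).Exact := hC.map _
    exact (ShortComplex.ab_exact_iff _).1 hE
  · intro h
    rw [C.leftHomologyData.exact_iff]
    apply isZero_of_stalks_isZero
    intro p hp
    have h1 := (stalkEtFunctor_ab_exact X p hp).1
    have h2 := (stalkEtFunctor_ab_exact X p hp).2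
    have : (stalkEtFunctor AddCommGrpCat.{u + 1} p).PreservesZeroMorphisms := inferInstance
    rw [← C.leftHomologyData.exact_map_iff (stalkEtFunctor AddCommGrpCat.{u + 1} p)]
    exact (ShortComplex.ab_exact_iff _).2 (h p hp)

end Groth.Agent.Helper5.EtPt
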