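import Groth.Agent.Helper5.EtPt6
import Mathlib

set_option autoImplicit false
universe u
open CategoryTheory CategoryTheory.Limits AlgebraicGeometry Opposite

namespace Groth.Agent.Helper5.EtPt

open AlgSp

variable {S : Scheme.{u}}

set_option backward.isDefEq.respectTransparency false

/-- the locus where a section of an abelian sheaf vanishes étale-locally -/
def vanishingSet {X : Sp S} (F : AbEt X) (U : EtOver X) (σ : ↥(F.obj.obj (op U))) :
    Set ↥U.obj.left.left :=
  {x | ∃ (V : EtOver X) (φ : V ⟶ U), (F.obj.map φ.op).hom σ = 0 ∧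
    x ∈ Set.range (fun v => φ.hom.left.left v)}

theorem isOpen_vanishingSet {X : Sp S} (F : AbEt X) (U : EtOver X) (σ : ↥(F.obj.obj (op U))) :
    IsOpen (vanishingSet F U σ) := by
  have : vanishingSet F U σ = ⋃ (V : EtOver X) (φ : V ⟶ U) (_ : (F.obj.map φ.op).hom σ = 0),
      Set.range (fun v => φ.hom.left.left v) := by
    ext x
    simp only [vanishingSet, Set.mem_ofPred_eq, Set.mem_iUnion, exists_prop]
  rw [this]
  refine isOpen_iUnion fun V => isOpen_iUnion fun φ => isOpen_iUnion fun _ => ?_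
  have : Etale φ.hom.left.left := EtOver.etale_left φ
  exact φ.hom.left.left.isOpenMap.isOpen_range

theorem germ_eq_zero_iff (X : Space S) (F : AbEt X.obj) (U : EtOver X.obj)
    (σ : ↥(F.obj.obj (op U))) (p : FieldPt X.obj) (hp : p.IsGeometric)
    (l : (FieldPt.liftsTo p).obj U) :
    (stalkEtι p F ⟨U, l⟩).hom σ = 0 ↔
      l.1.left (default : ↥(Spec (CommRingCat.of p.K))) ∈ vanishingSet F U σ := by
  have := preservesFilteredColimits_forget_ab.{u}
  have key : (stalkEtι p F ⟨U, l⟩).hom σ = 0 ↔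
      (etPoint X p hp).toPresheafFiber U l F.obj σ = (etPoint X p hp).toPresheafFiber U l F.obj 0 := by
    rw [map_zero]
    rfl
  rw [key, (etPoint X p hp).toPresheafFiber_eq_iff' U l σ 0]
  constructor
  · rintro ⟨V, f, v, hv, hf⟩
    refine ⟨V, f, ?_, v.1.left (default : ↥(Spec (CommRingCat.of p.K))), ?_⟩
    · rw [map_zero] at hf
      exact hf
    · show f.hom.left.left (v.1.left _) = l.1.left _
      have hv' : (FieldPt.liftsTo p).map f v = l := hv
      rw [← hv']
      rfl
  · rintro ⟨V, φ, hφ, y, hy⟩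
    obtain ⟨x', hx'⟩ := exists_lift_of_mem_range X p hp φ l y hy
    refine ⟨V, φ, x', hx', ?_⟩
    rw [map_zero]
    exact hφ

/-- separatedness: a section of an abelian sheaf vanishing on a covering sieve is zero -/
theorem eq_zero_of_equalizerSieve_mem {X : Sp S} (F : AbEt X) (V : EtOver X)
    (τ : ↥(F.obj.obj (op V)))
    (h : Presheaf.equalizerSieve (F := F.obj) (X := op V) τ 0 ∈ etTop X V) : τ = 0 := by
  have hF : Presieve.IsSheaf (etTop X) (F.obj ⋙ forget AddCommGrpCat.{u + 1}) := by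
    rw [← isSheaf_iff_isSheaf_of_type]
    exact ((sheafCompose (etTop X) (forget AddCommGrpCat.{u + 1})).obj F).2
  exact (hF.isSeparated _ h).ext (fun Y f hf => hf)

theorem restrict_eq_zero_iff (X : Space S) (F : AbEt X.obj) (U : EtOver X.obj)
    (σ : ↥(F.obj.obj (op U))) (V : EtOver X.obj) (φ : V ⟶ U) :
    (F.obj.map φ.op).hom σ = 0 ↔
      Set.range (fun v => φ.hom.left.left v) ⊆ vanishingSet F U σ := by
  constructor
  · rintro h _ ⟨v, rfl⟩
    exact ⟨V, φ, h, v, rfl⟩
  · intro h
    apply eq_zero_of_equalizerSieve_mem F V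
    apply mem_etTop_of_forall_geomPt
    intro p hp l
    have hl : ((FieldPt.liftsTo p).map φ l).1.left (default : ↥(Spec (CommRingCat.of p.K))) ∈
        vanishingSet F U σ :=
      h ⟨l.1.left (default : ↥(Spec (CommRingCat.of p.K))), rfl⟩
    obtain ⟨V', φ', hφ', y, hy⟩ := hl
    obtain ⟨l', hl'⟩ := exists_lift_of_mem_range X p hp φ' ((FieldPt.liftsTo p).map φ l) y hy
    obtain ⟨W, k, k', w, hcomm, hw⟩ := exists_pullback_lift X p φ' φ l' l hl'
    refine ⟨W, k, ?_, w, hw⟩
    show (F.obj.map k.op) ((F.obj.map φ.op).hom σ) = (F.obj.map k.op) 0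
    rw [map_zero]
    have e1 : (F.obj.map k.op) ((F.obj.map φ.op).hom σ) = (F.obj.map (k ≫ φ).op).hom σ := by
      rw [op_comp, Functor.map_comp]; rfl
    have e2 : (F.obj.map k'.op) ((F.obj.map φ'.op).hom σ) = (F.obj.map (k' ≫ φ').op).hom σ := by
      rw [op_comp, Functor.map_comp]; rfl
    rw [e1, hcomm, ← e2, hφ', map_zero]

end Groth.Agent.Helper5.EtPt
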