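import Groth.Agent.Helper5.EtPt7
import Mathlib

set_option autoImplicit false
universe u
open CategoryTheory CategoryTheory.Limits AlgebraicGeometry Opposite

namespace Groth.Agent.Helper5.EtPt

open AlgSp

variable {S : Scheme.{u}}

set_option backward.isDefEq.respectTransparency false

theorem ofPt_lift {X : Sp S} (p : FieldPt X) (U : EtOver X) (l : (FieldPt.liftsTo p).obj U)
    (s : ↥(Spec (CommRingCat.of p.K))) :
    Points.ofPt U.obj.hom (l.1.left s) = Points.mk p := by
  have h1 := Groth.Agent.Helper4.AlgSpPtsDesc.ofPt_yon_map_comp l.1 U.obj.hom s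
  rw [l.2] at h1
  rw [← h1]
  exact Points.ofPt_toHom p s

theorem support_iff (X : Space S) (F : AbEt X.obj) (x : Points X.obj) :
    (∃ p : FieldPt X.obj, p.IsGeometric ∧ Points.mk p = x ∧ ¬ IsZero (stalkEt p F)) ↔
      ∃ (U : EtOver X.obj) (σ : ↥(F.obj.obj (op U))) (u : ↥U.obj.left.left),
        Points.ofPt U.obj.hom u = x ∧
          ∀ (V : EtOver X.obj) (φ : V ⟶ U), (F.obj.map φ.op).hom σ = 0 →
            u ∉ Set.range (fun v => φ.hom.left.left v) := by
  have := preservesFilteredColimits_forget_ab.{u}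
  constructor
  · rintro ⟨p, hp, hx, hz⟩
    have hne : ∃ z : ↥(stalkEt p F), z ≠ 0 := by
      by_contra hcon
      push Not at hcon
      have : Subsingleton ↥(stalkEt p F) := ⟨fun a b => by rw [hcon a, hcon b]⟩
      exact hz (AddCommGrpCat.isZero_of_subsingleton _)
    obtain ⟨z, hz0⟩ := hne
    obtain ⟨U, l, σ, hσ⟩ := (etPoint X p hp).toPresheafFiber_jointly_surjective (P := F.obj) z
    refine ⟨U, σ, l.1.left (default : ↥(Spec (CommRingCat.of p.K))), ?_, ?_⟩
    · rw [ofPt_lift, hx]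
    · intro V φ hφ hmem
      apply hz0
      rw [← hσ]
      exact (germ_eq_zero_iff X F U σ p hp l).2 ⟨V, φ, hφ, hmem⟩
  · rintro ⟨U, σ, u, hu, hcond⟩
    obtain ⟨p, hp, l, hl⟩ := exists_geomPt_over U u
    refine ⟨p, hp, ?_, ?_⟩
    · rw [← hu, ← hl, ofPt_lift]
    · intro hz
      have : Subsingleton ↥(stalkEt p F) := AddCommGrpCat.subsingleton_of_isZero hz
      have h0 : (stalkEtι p F ⟨U, l⟩).hom σ = 0 := Subsingleton.elim _ _
      obtain ⟨V, φ, hφ, hmem⟩ := (germ_eq_zero_iff X F U σ p hp l).1 h0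
      rw [hl] at hmem
      exact hcond V φ hφ hmem

end Groth.Agent.Helper5.EtPt
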