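import Groth.Agent.Helper5.EtPt8
import Mathlib

set_option autoImplicit false
universe u
open CategoryTheory CategoryTheory.Limits AlgebraicGeometry Opposite

namespace Groth.Agent.Helper5.EtPt

open AlgSp Groth.Agent.Helper4 Groth.Agent.Helper4.AlgSpQC2

variable {S : Scheme.{u}}

set_option backward.isDefEq.respectTransparency false

theorem preservesFilteredColimits_forget_commRing :
    PreservesFilteredColimitsOfSize.{u, u} (forget CommRingCat.{u + 1}) :=
  preservesFilteredColimitsOfSize_shrink.{u, u + 1, u, u + 1} _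

theorem hasColimits_commRing : HasColimitsOfSize.{u, u} CommRingCat.{u + 1} :=
  hasColimitsOfSizeShrink.{u, u, u + 1, u + 1} _

/-- the locus where a sheaf of rings is étale-locally the zero ring -/
def trivSet {X : Sp S} (O' : EtSh X CommRingCat.{u + 1}) (U : EtOver X) : Set ↥U.obj.left.left :=
  {x | ∃ (V : EtOver X) (φ : V ⟶ U), Subsingleton ↥(O'.obj.obj (op V)) ∧
    x ∈ Set.range (fun v => φ.hom.left.left v)}

theorem isOpen_trivSet {X : Sp S} (O' : EtSh X CommRingCat.{u + 1}) (U : EtOver X) :
    IsOpen (trivSet O' U) := by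
  have : trivSet O' U = ⋃ (V : EtOver X) (φ : V ⟶ U) (_ : Subsingleton ↥(O'.obj.obj (op V))),
      Set.range (fun v => φ.hom.left.left v) := by
    ext x
    simp only [trivSet, Set.mem_ofPred_eq, Set.mem_iUnion, exists_prop]
  rw [this]
  refine isOpen_iUnion fun V => isOpen_iUnion fun φ => isOpen_iUnion fun _ => ?_
  have : Etale φ.hom.left.left := EtOver.etale_left φ
  exact φ.hom.left.left.isOpenMap.isOpen_range

theorem stalk_subsingleton_iff (X : Space S) (O' : EtSh X.obj CommRingCat.{u + 1})
    (U : EtOver X.obj) (p : FieldPt X.obj) (hp : p.IsGeometric)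
    (l : (FieldPt.liftsTo p).obj U) :
    Subsingleton ↥(stalkEt p O') ↔
      l.1.left (default : ↥(Spec (CommRingCat.of p.K))) ∈ trivSet O' U := by
  have := preservesFilteredColimits_forget_commRing.{u}
  have := hasColimits_commRing.{u}
  constructor
  · intro hs
    have h1 : (etPoint X p hp).toPresheafFiber U l O'.obj (1 : ↥(O'.obj.obj (op U))) =
        (etPoint X p hp).toPresheafFiber U l O'.obj 0 := Subsingleton.elim (α := ↥(stalkEt p O')) _ _
    obtain ⟨V, f, v, hv, hf⟩ := ((etPoint X p hp).toPresheafFiber_eq_iff' U l _ _).1 h1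
    refine ⟨V, f, ?_, v.1.left (default : ↥(Spec (CommRingCat.of p.K))), ?_⟩
    · have hf' : (O'.obj.map f.op).hom 1 = (O'.obj.map f.op).hom 0 := hf
      rw [map_one, map_zero] at hf'
      exact subsingleton_of_zero_eq_one hf'.symm
    · show f.hom.left.left (v.1.left _) = l.1.left _
      have hv' : (FieldPt.liftsTo p).map f v = l := hv
      rw [← hv']
      rfl
  · rintro ⟨V, φ, hV, y, hy⟩
    obtain ⟨l', hl'⟩ := exists_lift_of_mem_range X p hp φ l y hy
    have h1 : ((etPoint X p hp).toPresheafFiber V l' O'.obj).hom (1 : ↥(O'.obj.obj (op V))) =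
        ((etPoint X p hp).toPresheafFiber V l' O'.obj).hom 0 := by
      rw [Subsingleton.elim (1 : ↥(O'.obj.obj (op V))) 0]
    rw [map_one, map_zero] at h1
    exact subsingleton_of_zero_eq_one (M₀ := ↥(stalkEt p O')) h1.symm

theorem isClosed_support (X : Space S) (O' : EtSh X.obj CommRingCat.{u + 1}) :
    IsClosed {x : Points X.obj |
      ∃ p : FieldPt X.obj, p.IsGeometric ∧ Points.mk p = x ∧ Nontrivial ↥(stalkEt p O')} := by
  rw [← isOpen_compl_iff]
  obtain ⟨A, a, hae, has⟩ := X.property.atlas
  apply AlgSpPtsDesc.isOpen_of_isOpen_preimage a hae has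
  rw [← (Points.schemeHomeo A).isOpen_preimage]
  have hset : (Points.schemeHomeo A) ⁻¹' (Points.map a ⁻¹' {x : Points X.obj |
      ∃ p : FieldPt X.obj, p.IsGeometric ∧ Points.mk p = x ∧ Nontrivial ↥(stalkEt p O')}ᶜ) =
      trivSet O' (EtOver.mk a hae) := by
    ext t
    simp only [Set.mem_preimage, Set.mem_compl_iff, Set.mem_ofPred_eq]
    rw [ofPt_eq_map_schemeHomeo]
    constructor
    · intro hN
      obtain ⟨p, hp, l, hl⟩ := exists_geomPt_over (EtOver.mk a hae) t
      have hmk : Points.mk p = Points.ofPt a t := by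
        rw [← hl]; exact (ofPt_lift p (EtOver.mk a hae) l _).symm
      have hsub : Subsingleton ↥(stalkEt p O') := by
        rw [← not_nontrivial_iff_subsingleton]
        exact fun hnt => hN ⟨p, hp, hmk, hnt⟩
      have := (stalk_subsingleton_iff X O' (EtOver.mk a hae) p hp l).1 hsub
      rw [hl] at this
      exact this
    · rintro ht ⟨p, hp, hmk, hnt⟩
      have : IsAlgClosed p.K := hp
      obtain ⟨c, hc1, hc2⟩ := Groth.Agent.Helper5.AlgSpGeomLift.exists_lift_through_chart a hae p.K
        p.str p.toHom (default : ↥(Spec (CommRingCat.of p.K))) t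
        (by rw [Points.ofPt_toHom, hmk])
      have hsub := (stalk_subsingleton_iff X O' (EtOver.mk a hae) p hp ⟨c, hc1⟩).2
        (by show c.left _ ∈ _; rw [hc2]; exact ht)
      exact not_subsingleton _ hsub
  rw [hset]
  exact isOpen_trivSet O' _

end Groth.Agent.Helper5.EtPt
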