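import Groth.Prelude.Def_AlgSpRep
import Mathlib

/-!
# Helper5: étale sheaves on schemes over `S`; comparison of quotients
-/

set_option autoImplicit false
universe u v₁ u₁
open CategoryTheory CategoryTheory.Limits AlgebraicGeometry Opposite

namespace Groth.Agent.Helper5.EtQuot

open AlgSp

section Abstract

variable {C : Type u₁} [Category.{v₁} C]

/-- two effective epimorphisms with the same kernel pair have isomorphic targets -/
theorem exists_iso_of_kernelPair {A B₁ B₂ K : C} (e₁ : A ⟶ B₁) (e₂ : A ⟶ B₂) [EffectiveEpi e₁]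
    [EffectiveEpi e₂] (k₁ k₂ : K ⟶ A) (h₁ : IsPullback k₁ k₂ e₁ e₁) (h₂ : IsPullback k₁ k₂ e₂ e₂) :
    ∃ φ : B₁ ≅ B₂, e₁ ≫ φ.hom = e₂ := by
  have c12 : ∀ {Z : C} (g₁ g₂ : Z ⟶ A), g₁ ≫ e₁ = g₂ ≫ e₁ → g₁ ≫ e₂ = g₂ ≫ e₂ := by
    intro Z g₁ g₂ hg
    obtain ⟨l, e1, e2⟩ : ∃ l : Z ⟶ K, l ≫ k₁ = g₁ ∧ l ≫ k₂ = g₂ :=
      ⟨h₁.lift g₁ g₂ hg, h₁.lift_fst _ _ _, h₁.lift_snd _ _ _⟩
    rw [← e1, ← e2, Category.assoc, Category.assoc, h₂.w]
  have c21 : ∀ {Z : C} (g₁ g₂ : Z ⟶ A), g₁ ≫ e₂ = g₂ ≫ e₂ → g₁ ≫ e₁ = g₂ ≫ e₁ := by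
    intro Z g₁ g₂ hg
    obtain ⟨l, e1, e2⟩ : ∃ l : Z ⟶ K, l ≫ k₁ = g₁ ∧ l ≫ k₂ = g₂ :=
      ⟨h₂.lift g₁ g₂ hg, h₂.lift_fst _ _ _, h₂.lift_snd _ _ _⟩
    rw [← e1, ← e2, Category.assoc, Category.assoc, h₁.w]
  let f : B₁ ⟶ B₂ := EffectiveEpi.desc e₁ e₂ c12
  let g : B₂ ⟶ B₁ := EffectiveEpi.desc e₂ e₁ c21
  have hf : e₁ ≫ f = e₂ := EffectiveEpi.fac e₁ e₂ c12
  have hg : e₂ ≫ g = e₁ := EffectiveEpi.fac e₂ e₁ c21
  haveI : Epi e₁ := inferInstance
  haveI : Epi e₂ := inferInstance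
  refine ⟨⟨f, g, ?_, ?_⟩, hf⟩
  · rw [← cancel_epi e₁, ← Category.assoc, hf, hg, Category.comp_id]
  · rw [← cancel_epi e₂, ← Category.assoc, hg, hf, Category.comp_id]

end Abstract

variable (S : Scheme.{u})

/-- the big étale topology on schemes over `S` -/
abbrev Jet : GrothendieckTopology (Over S) := QuotSh.J Scheme.etalePrecoverage S

/-- étale sheaves of sets on schemes over `S` -/
abbrev ShEt : Type (u + 2) := Sheaf (Jet S) (Type (u + 1))

variable {S}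

theorem etale_le_fppf : Scheme.etalePrecoverage.{u} ≤ Scheme.fppfPrecoverage := by
  unfold Scheme.etalePrecoverage Scheme.fppfPrecoverage
  exact Scheme.precoverage_mono fun _ _ f hf => by
    haveI : Etale f := hf
    exact ⟨inferInstance, inferInstance⟩

theorem Jet_le : Jet S ≤ J S := by
  intro T R hR
  rw [GrothendieckTopology.mem_over_iff] at hR ⊢
  exact Precoverage.toGrothendieck_mono etale_le_fppf _ hR

/-- an étale surjective morphism over `S` generates a covering sieve for the étale topology -/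
theorem ofArrows_mem_Jet {T W : Over S} (w : W ⟶ T) (hwe : Etale w.left)
    (hws : Surjective w.left) :
    Sieve.ofArrows (fun _ : PUnit.{u + 1} => W) (fun _ => w) ∈ Jet S T := by
  rw [GrothendieckTopology.mem_over_iff, Sieve.overEquiv_ofArrows]
  refine Precoverage.generate_mem_toGrothendieck ?_
  unfold Scheme.etalePrecoverage
  rw [Scheme.ofArrows_mem_precoverage_iff]
  exact ⟨fun z => ⟨PUnit.unit, hws.surj z⟩, fun _ => hwe⟩

/-- an fppf sheaf as an étale sheaf -/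
def toEt (G : Sp S) : ShEt S := ⟨G.obj, (isSheaf_iff_isSheaf_of_type _ _).2
  (Presieve.isSheaf_of_le _ Jet_le ((isSheaf_iff_isSheaf_of_type _ _).1 G.property))⟩

/-- a morphism of fppf sheaves as a morphism of étale sheaves -/
def toEtMap {G H : Sp S} (f : G ⟶ H) : toEt G ⟶ toEt H := ⟨f.hom⟩

/-- a morphism of étale sheaves along which sections lift étale locally is an epimorphism -/
theorem epi_of_etale_lift {A B : ShEt S} (q : A ⟶ B)
    (h : ∀ (T : Over S) (x : B.obj.obj (op T)), ∃ (W : Over S) (w : W ⟶ T), Etale w.left ∧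
      Surjective w.left ∧ ∃ y : A.obj.obj (op W), q.hom.app (op W) y = B.obj.map w.op x) :
    Epi q := by
  apply (Sheaf.isLocallySurjective_iff_epi' (Type (u + 1)) q).1
  refine ⟨fun {T} x => ?_⟩
  obtain ⟨W, w, hwe, hws, y, hy⟩ := h T x
  refine (Jet S).superset_covering ?_ (ofArrows_mem_Jet w hwe hws)
  rintro V γ ⟨Z, b, _, ⟨_⟩, rfl⟩
  refine ⟨A.obj.map b.op y, ?_⟩
  rw [NatTrans.naturality_apply, hy]
  simp

instance : IsRegularEpiCategory (ShEt S) :=
  inferInstanceAs (IsRegularEpiCategory (Sheaf (Jet S) (Type (u + 1))))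

theorem effectiveEpi_of_epi {A B : ShEt S} (q : A ⟶ B) [Epi q] : EffectiveEpi q := by
  rw [← isRegularEpi_iff_effectiveEpi]
  exact IsRegularEpiCategory.regularEpiOfEpi q

end Groth.Agent.Helper5.EtQuot
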