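import Groth.Agent.Helper5.SchDesc11
import Groth.Agent.Helper5.QuotPres1
import Mathlib

set_option autoImplicit false
universe u
open CategoryTheory CategoryTheory.Limits AlgebraicGeometry Opposite

namespace Groth.Agent.Helper5.SchDesc

open AlgSp Groth.Agent.Helper4

variable {S : Scheme.{u}}

set_option backward.isDefEq.respectTransparency.types false in
set_option maxHeartbeats 800000 in
/-- the fppf quotient of a scheme by an étale equivalence relation is an algebraic space -/
theorem s9868 {R U : Over S} (s t : R ⟶ U) (h : IsEtaleEqvRel s t) :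
    IsAlgSpace (QuotSh.quot Scheme.fppfPrecoverage s t) := by
  have hpb := Groth.Agent.Helper5.QuotPres.isPullback_p s t h.toIsEqvRel
  obtain ⟨p, hp⟩ : ∃ p : (yon S).obj U ⟶ QuotSh.quot Scheme.fppfPrecoverage s t,
      p = Groth.Agent.Helper5.QuotPres.p s t := ⟨_, rfl⟩
  rw [← hp] at hpb
  haveI : Epi p := by rw [hp]; infer_instance
  let X : Space S := ⟨(yon S).obj U, IsAlgSpace.yon_obj U⟩
  have hG := SDClasses.good_lft.{u}
  have hdiag : Representable (Limits.diag (QuotSh.quot Scheme.fppfPrecoverage s t)) := by
    refine representable_diag_of X p (fun T ξ => exists_fppf_cover_lift p ξ) ?_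
    intro T' x₁
    obtain ⟨x₀, rfl⟩ := (yon S).map_surjective x₁
    have sqM : IsPullback (pullback.fst x₀ t) (pullback.snd x₀ t) x₀ t :=
      IsPullback.of_hasPullback _ _
    have sqMY := sqM.map (yon S)
    have big := sqMY.paste_vert hpb
    haveI := h.etale_right
    have hfe : Etale (pullback.fst x₀ t).left :=
      MorphismProperty.of_isPullback (P := @Etale) (sqM.map (Over.forget S)).flip h.etale_right
    refine ⟨_, _, _, big, IsAlgSpace.yon_obj _, ?_⟩
    haveI := hG.comp
    exact AlgSpLocP.locP_of_repWith @LocallyOfFiniteType @Etale (fun g hg => hG.etale_le g hg)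
      (fun g hg => hG.etale_le g hg) _ ((repWith_yon_map_iff _ _).2 hfe)
  have hrep : Representable p := Functor.relativelyRepresentable.of_diag hdiag p
  haveI : Sheaf.IsLocallySurjective p :=
    (Sheaf.isLocallySurjective_iff_epi' (Type (u + 1)) p).2 inferInstance
  have := FppfLocT.etale_fppf.{u}
  have := FppfLocT.surjective_fppf.{u}
  have hpe : RepWith @Etale p :=
    Groth.Agent.S9884.result S _ _ _ p hrep p _ _ _ hpb @Etale
      ((repWith_yon_map_iff _ _).2 h.etale_left)
  have hps : RepWith @Surjective p :=
    Groth.Agent.S9884.result S _ _ _ p hrep p _ _ _ hpb @Surjective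
      ((repWith_yon_map_iff _ _).2
        (Groth.Agent.Helper5.QuotPres.surjective_of_isEqvRel s t h.toIsEqvRel))
  exact ⟨hdiag, ⟨U, p, hpe, hps⟩⟩

end Groth.Agent.Helper5.SchDesc
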