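import Groth.Agent.Helper5.EtQuot1
import Groth.Agent.S9868
import Groth.Agent.S9869
import Mathlib

set_option autoImplicit false
universe u
open CategoryTheory CategoryTheory.Limits AlgebraicGeometry Opposite

namespace Groth.Agent.Helper5.EtQuot

open AlgSp

variable {S : Scheme.{u}}

set_option backward.isDefEq.respectTransparency.types false in
set_option maxHeartbeats 1600000 in
/-- An étale sheaf with a chart from a scheme whose base changes to schemes are schemes, étale
and surjective over the base, is an algebraic space. -/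
theorem isAlgSpaceP_of_etale_chart (F : PSp S) (h1 : Presheaf.IsSheaf (Jet S) F) (U : Over S)
    (p : (pyon S).obj U ⟶ F)
    (hp : ∀ ⦃T : Over S⦄ (ξ : (pyon S).obj T ⟶ F), ∃ (W : Over S) (w : W ⟶ T)
      (fst : (pyon S).obj W ⟶ (pyon S).obj U), IsPullback fst ((pyon S).map w) p ξ ∧
        Etale w.left ∧ Surjective w.left) :
    IsAlgSpaceP F := by
  -- the relation
  obtain ⟨R, s, t', sqR, hse, hss⟩ := hp p
  obtain ⟨t, rfl⟩ := (pyon S).map_surjective t'
  -- the swap
  have hte : Etale t.left := by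
    let σ' := sqR.flip.isoIsPullback _ _ sqR
    have h1 : σ'.hom ≫ (pyon S).map s = (pyon S).map t :=
      IsPullback.isoIsPullback_hom_snd _ _ sqR.flip sqR
    obtain ⟨σ, hσ⟩ := (pyon S).map_surjective σ'.hom
    haveI : IsIso ((pyon S).map σ) := by rw [hσ]; infer_instance
    haveI : IsIso σ := isIso_of_fully_faithful (pyon S) σ
    have h2 : σ ≫ s = t := by
      apply (pyon S).map_injective
      rw [Functor.map_comp, hσ, h1]
    haveI : IsIso σ.left := (Over.forget S).map_isIso σ
    have h3 : t.left = σ.left ≫ s.left := by rw [← h2]; rfl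
    rw [h3]
    infer_instance
  have rel_iff : ∀ (T : Over S) (a b : T ⟶ U), (∃ r : T ⟶ R, r ≫ t = a ∧ r ≫ s = b) ↔
      (pyon S).map a ≫ p = (pyon S).map b ≫ p := by
    intro T a b
    constructor
    · rintro ⟨r, rfl, rfl⟩
      rw [Functor.map_comp, Functor.map_comp, Category.assoc, Category.assoc, sqR.w]
    · intro h
      obtain ⟨r, hr⟩ := (pyon S).map_surjective (sqR.lift _ _ h)
      refine ⟨r, ?_, ?_⟩
      · apply (pyon S).map_injective
        rw [Functor.map_comp, hr, sqR.lift_fst]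
      · apply (pyon S).map_injective
        rw [Functor.map_comp, hr, sqR.lift_snd]
  have hE : IsEtaleEqvRel s t :=
    { injective := fun T r r' e1 e2 => by
        apply (pyon S).map_injective
        apply sqR.hom_ext
        · rw [← Functor.map_comp, ← Functor.map_comp, e1]
        · rw [← Functor.map_comp, ← Functor.map_comp, e2]
      equivalence := fun T =>
        ⟨fun a => (rel_iff T a a).2 rfl, fun {a b} h => (rel_iff T b a).2 ((rel_iff T a b).1 h).symm,
          fun {a b c} h h' => (rel_iff T a c).2 (((rel_iff T a b).1 h).trans ((rel_iff T b c).1 h'))⟩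
      etale_left := hse
      etale_right := hte }
  have hQ := Groth.Agent.S9868.result S s t hE
  have pres := Groth.Agent.S9869.result S s t hE hQ
  obtain ⟨πQ, hπQ⟩ : ∃ πQ : (yon S).obj U ⟶ QuotSh.quot Scheme.fppfPrecoverage s t,
      πQ = (QuotSh.repIsoUliftYoneda Scheme.fppfPrecoverage U).inv ≫
        QuotSh.quotπ Scheme.fppfPrecoverage s t := ⟨_, rfl⟩
  rw [← hπQ] at pres
  have hpbQ := pres.isPullback
  -- étale sheaves
  let A : ShEt S := toEt ((yon S).obj U)
  let K : ShEt S := toEt ((yon S).obj R)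
  let Fet : ShEt S := ⟨F, h1⟩
  let Qet : ShEt S := toEt (QuotSh.quot Scheme.fppfPrecoverage s t)
  let e₁ : A ⟶ Fet := ⟨p⟩
  let e₂ : A ⟶ Qet := toEtMap πQ
  let k₁ : K ⟶ A := toEtMap ((yon S).map t)
  let k₂ : K ⟶ A := toEtMap ((yon S).map s)
  have hk₁ : IsPullback k₁ k₂ e₁ e₁ := by
    refine IsPullback.of_map (sheafToPresheaf (Jet S) (Type (u + 1))) ?_ sqR
    apply Sheaf.hom_ext
    exact sqR.w
  have hk₂ : IsPullback k₁ k₂ e₂ e₂ := by
    refine IsPullback.of_map (sheafToPresheaf (Jet S) (Type (u + 1))) ?_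
      (hpbQ.map (sheafToPresheaf (J S) (Type (u + 1))))
    apply Sheaf.hom_ext
    exact congrArg (fun k => k.hom) hpbQ.w
  haveI : Epi e₁ := by
    apply epi_of_etale_lift
    intro T x
    obtain ⟨ξ, hξ⟩ : ∃ ξ : (pyon S).obj T ⟶ F, uliftYonedaEquiv.{u + 1} ξ = x :=
      ⟨uliftYonedaEquiv.{u + 1}.symm x, Equiv.apply_symm_apply _ _⟩
    obtain ⟨W, w, fst, sq, hwe, hws⟩ := hp ξ
    refine ⟨W, w, hwe, hws, uliftYonedaEquiv.{u + 1} fst, ?_⟩
    have h2 := congrArg uliftYonedaEquiv.{u + 1} sq.w
    rw [uliftYonedaEquiv_comp] at h2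
    have h3 := uliftYonedaEquiv_naturality.{u + 1} ξ w.op
    rw [hξ] at h3
    show p.app (op W) (uliftYonedaEquiv.{u + 1} fst) = F.map w.op x
    exact h2.trans h3.symm
  haveI : Epi e₂ := by
    apply epi_of_etale_lift
    intro T x
    have hrep := pres.etale.rep
    have sq := hrep.isPullback ((J S).uliftYonedaEquiv.symm x)
    refine ⟨_, hrep.snd _, pres.etale.property _ _ _ sq, pres.surjective.property _ _ _ sq,
      (J S).uliftYonedaEquiv (hrep.fst _), ?_⟩
    have h2 := congrArg (J S).uliftYonedaEquiv sq.w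
    rw [GrothendieckTopology.uliftYonedaEquiv_comp,
      ← GrothendieckTopology.uliftYonedaEquiv_naturality, Equiv.apply_symm_apply] at h2
    exact h2
  haveI := effectiveEpi_of_epi e₁
  haveI := effectiveEpi_of_epi e₂
  obtain ⟨φ, -⟩ := exists_iso_of_kernelPair e₁ e₂ k₁ k₂ hk₁ hk₂
  exact IsAlgSpaceP.of_iso ((isAlgSpaceP_obj_iff _).2 hQ)
    ((sheafToPresheaf (Jet S) (Type (u + 1))).mapIso φ).symm

end Groth.Agent.Helper5.EtQuot
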