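import Groth.Agent.Helper5.SmST
import Groth.Agent.Helper5.AlgSpEt
import Groth.Agent.Helper5.SrcEt
import Groth.Agent.Helper4.AlgSpPB
import Mathlib

set_option autoImplicit false
universe u
open CategoryTheory CategoryTheory.Limits AlgebraicGeometry Opposite

namespace Groth.Agent.Helper5.EtSmST

open AlgSp Groth.Agent.Helper4.SDClasses Groth.Agent.Helper5.SmST
open Groth.Agent.Helper4.AlgSpPtsDesc

variable {S : Scheme.{u}}

theorem locP_smooth_of_isEtaleMor {X Y : Sp S} (f : X ⟶ Y) (hf : IsEtaleMor f) :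
    LocP @Smooth f :=
  Groth.Agent.Helper5.SrcEt.locP_mono (fun g hg => by
    have : Etale g := hg
    infer_instance) f (Groth.Agent.Helper5.AlgSpEt.locP_etale_of_isEtaleMor f hf)

theorem local_source {P : MorphismProperty (Sp S)} (hP : IsEtaleSmoothLocalST P) :
    IsLocalOnSource (IsEtCover (S := S)) P := by
  intro ι X Xi g hX hXi hcov Y f hY
  constructor
  · intro hf i
    exact hP.precomp (hXi i) hX hY (g i) f (hcov.1 i) hf
  · intro h
    refine (hP.locality hX hY f).2 fun x => ?_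
    obtain ⟨i, xi, hxi⟩ := hcov.2 x
    refine ⟨Y, X, Xi i, 𝟙 Y, 𝟙 X, f, g i, xi, hY, hX, hXi i, locP_smooth_id Y,
      IsPullback.of_id_fst, hcov.1 i, ?_, h i⟩
    rw [Category.comp_id]
    exact hxi

theorem local_base {P : MorphismProperty (Sp S)} (hP : IsEtaleSmoothLocalST P) :
    IsLocalOnBase (IsSmCover (S := S)) P := by
  intro ι Y Yi g hY hYi hcov X f hX Xi p q hXi sq
  constructor
  · intro hf i
    exact hP.baseChange hX hY (hXi i) (hYi i) f (g i) (p i) (q i) (sq i) (hcov.1 i) hf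
  · intro h
    refine (hP.locality hX hY f).2 fun x => ?_
    obtain ⟨i, yi, hyi⟩ := hcov.2 (Points.map f x)
    obtain ⟨z, hz1, hz2⟩ := exists_point_of_isPullback (sq i) x yi hyi.symm
    refine ⟨Yi i, Xi i, Xi i, g i, q i, p i, 𝟙 _, z, hYi i, hXi i, hXi i, hcov.1 i, sq i,
      isEtaleMor_id _, ?_, ?_⟩
    · rw [Category.id_comp]; exact hz1
    · rw [Category.id_comp]; exact h i

/-- the graph section `X ⟶ X ×_Z Y` of an étale base change is étale -/
theorem graph_etale {X Y Z : Sp S} (hX : IsAlgSpace X) (hY : IsAlgSpace Y) (hZ : IsAlgSpace Z)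
    (f : X ⟶ Y) (g : Y ⟶ Z) (hg : IsEtaleMor g) :
    IsAlgSpace (pullback (f ≫ g) g) ∧
    IsEtaleMor (pullback.lift (𝟙 X) f (by simp) : X ⟶ pullback (f ≫ g) g) := by
  have sq : IsPullback (pullback.fst (f ≫ g) g) (pullback.snd (f ≫ g) g) (f ≫ g) g :=
    IsPullback.of_hasPullback _ _
  have hW : IsAlgSpace (pullback (f ≫ g) g) :=
    Groth.Agent.Helper4.AlgSpPB.isAlgSpace_of_isPullback hZ.diag hX hY (f ≫ g) g _ _ sq
  refine ⟨hW, ?_⟩
  have hp : IsEtaleMor (pullback.fst (f ≫ g) g) :=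
    Groth.Agent.Helper5.AlgSpEt.isEtaleMor_of_isPullback hY hX sq hg
  refine Groth.Agent.Helper5.AlgSpEt.isEtaleMor_of_comp hW _ (pullback.fst (f ≫ g) g) ?_ hp
  rw [pullback.lift_fst]
  exact isEtaleMor_id X

theorem post {P : MorphismProperty (Sp S)} (hP : IsEtaleSmoothLocalST P) :
    Post IsEtaleMor P := by
  intro X Y Z hX hY hZ f g hf hg
  refine (hP.locality hX hZ (f ≫ g)).2 fun x => ?_
  obtain ⟨hW, he⟩ := graph_etale hX hY hZ f g hg
  refine ⟨Y, pullback (f ≫ g) g, X, g, pullback.fst _ _, pullback.snd _ _,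
    pullback.lift (𝟙 X) f (by simp), x, hY, hW, hX, locP_smooth_of_isEtaleMor g hg,
    IsPullback.of_hasPullback _ _, he, ?_, ?_⟩
  · rw [pullback.lift_fst]; exact Points.map_id x
  · rw [pullback.lift_snd]; exact hf

theorem cancel {P : MorphismProperty (Sp S)} (hP : IsEtaleSmoothLocalST P)
    {X Y Z : Sp S} (hX : IsAlgSpace X) (hY : IsAlgSpace Y) (hZ : IsAlgSpace Z)
    (f : X ⟶ Y) (g : Y ⟶ Z) (hg : IsEtaleMor g) (hfg : P (f ≫ g)) : P f := by
  obtain ⟨hW, he⟩ := graph_etale hX hY hZ f g hg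
  have hq : P (pullback.snd (f ≫ g) g) :=
    hP.baseChange hX hZ hW hY (f ≫ g) g _ _ (IsPullback.of_hasPullback _ _)
      (locP_smooth_of_isEtaleMor g hg) hfg
  have := hP.precomp hX hW hY _ _ he hq
  rwa [pullback.lift_snd] at this

theorem iff_conditions {P : MorphismProperty (Sp S)}
    (hP : IsEtaleSmoothLocalST P) {X Y : Space S} (f : X ⟶ Y) :
    (P f.hom ↔ ∃ (U V W : Space S) (b : V ⟶ Y) (p : W ⟶ X) (q : W ⟶ V) (e : U ⟶ W),
      LocP @Smooth b.hom ∧ IsPullback p.hom q.hom f.hom b.hom ∧ IsEtaleMor e.hom ∧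
      IsSurjectiveMor (e ≫ p).hom ∧ P (e ≫ q).hom) ∧
    (P f.hom ↔ ∀ (U V W : Space S) (b : V ⟶ Y) (p : W ⟶ X) (q : W ⟶ V) (e : U ⟶ W),
      LocP @Smooth b.hom → IsPullback p.hom q.hom f.hom b.hom → IsEtaleMor e.hom →
      P (e ≫ q).hom) ∧
    (P f.hom ↔ ∃ (ι : Type u) (Yi Xi : ι → Space S) (g : ∀ i, Yi i ⟶ Y) (p : ∀ i, Xi i ⟶ Yi i)
      (q : ∀ i, Xi i ⟶ X), IsSmCover (fun i => (Yi i).obj) (fun i => (g i).hom) ∧
      (∀ i, IsPullback (q i).hom (p i).hom f.hom (g i).hom) ∧ ∀ i, P (p i).hom) ∧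
    (P f.hom ↔ ∃ (ι : Type u) (Xi : ι → Space S) (g : ∀ i, Xi i ⟶ X),
      IsEtCover (fun i => (Xi i).obj) (fun i => (g i).hom) ∧ ∀ i, P (g i ≫ f).hom) := by
  refine ⟨⟨fun hf => ?_, ?_⟩, ⟨fun hf => ?_, fun H => ?_⟩, ⟨fun hf => ?_, ?_⟩, ⟨fun hf => ?_, ?_⟩⟩
  · refine ⟨X, Y, X, 𝟙 Y, 𝟙 X, f, 𝟙 X, locP_smooth_id _, IsPullback.of_id_fst,
      isEtaleMor_id _, fun x => ⟨x, ?_⟩, by simpa using hf⟩
    simp
  · rintro ⟨U, V, W, b, p, q, e, hb, sq, he, hs, hPh⟩
    refine (hP.locality X.property Y.property f.hom).2 fun x => ?_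
    obtain ⟨v, hv⟩ := hs x
    exact ⟨V.obj, W.obj, U.obj, b.hom, p.hom, q.hom, e.hom, v, V.property, W.property,
      U.property, hb, sq, he, hv, hPh⟩
  · intro U V W b p q e hb sq he
    have hq : P q.hom :=
      hP.baseChange X.property Y.property W.property V.property f.hom b.hom q.hom p.hom sq hb hf
    exact hP.precomp U.property W.property V.property e.hom q.hom he hq
  · have := H X Y X (𝟙 Y) (𝟙 X) f (𝟙 X) (locP_smooth_id _) IsPullback.of_id_fst
      (isEtaleMor_id _)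
    simpa using this
  · exact ⟨PUnit.{u + 1}, fun _ => Y, fun _ => X, fun _ => 𝟙 Y, fun _ => f, fun _ => 𝟙 X,
      ⟨fun _ => locP_smooth_id _, fun x => ⟨⟨⟩, x, Points.map_id x⟩⟩,
      fun _ => IsPullback.of_id_fst, fun _ => hf⟩
  · rintro ⟨ι, Yi, Xi, g, p, q, hcov, sq, hp⟩
    exact (local_base hP (fun i => (Yi i).obj) (fun i => (g i).hom) Y.property
      (fun i => (Yi i).property) hcov f.hom X.property (fun i => (Xi i).obj)
      (fun i => (p i).hom) (fun i => (q i).hom) (fun i => (Xi i).property) sq).2 hp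
  · exact ⟨PUnit.{u + 1}, fun _ => X, fun _ => 𝟙 X,
      ⟨fun _ => isEtaleMor_id _, fun x => ⟨⟨⟩, x, Points.map_id x⟩⟩, fun _ => by simpa using hf⟩
  · rintro ⟨ι, Xi, g, hcov, hp⟩
    exact (local_source hP (fun i => (Xi i).obj) (fun i => (g i).hom) X.property
      (fun i => (Xi i).property) hcov f.hom Y.property).2 hp

end Groth.Agent.Helper5.EtSmST
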