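import Groth.Agent.Helper5.EtPt12
import Mathlib

set_option autoImplicit false
universe u
open CategoryTheory CategoryTheory.Limits AlgebraicGeometry Opposite

namespace Groth.Agent.Helper5.EtSt

open AlgSp Groth.Agent.Helper4 Groth.Agent.Helper5.EtPt

variable {S : Scheme.{u}}

set_option backward.isDefEq.respectTransparency false

/-- the value in `K` of a function on `U` at a `K`-point -/
noncomputable def evSch {K : Type u} [Field K] {Y : Scheme.{u}} (l : Spec (CommRingCat.of K) ⟶ Y) :
    Γ(Y, ⊤) →+* K :=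
  (Scheme.ΓSpecIso (CommRingCat.of K)).hom.hom.comp l.appTop.hom

theorem evSch_comp {K : Type u} [Field K] {Y Z : Scheme.{u}} (l : Spec (CommRingCat.of K) ⟶ Y)
    (g : Y ⟶ Z) (s : Γ(Z, ⊤)) : evSch (l ≫ g) s = evSch l (g.appTop.hom s) := by
  unfold evSch
  rw [Scheme.Hom.comp_appTop]
  rfl

/-- if the value of `s` at the `K`-point is nonzero, the point factors through `D(s)` -/
theorem range_subset_basicOpen {K : Type u} [Field K] {Y : Scheme.{u}}
    (l : Spec (CommRingCat.of K) ⟶ Y) (s : Γ(Y, ⊤)) (h : evSch l s ≠ 0) :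
    Set.range l ⊆ (Y.basicOpen s : Set ↥Y) := by
  have hu : IsUnit (l.appTop.hom s) := by
    have h1 : IsUnit (evSch l s) := isUnit_iff_ne_zero.2 h
    have h2 : IsUnit ((Scheme.ΓSpecIso (CommRingCat.of K)).inv.hom (evSch l s)) :=
      h1.map (Scheme.ΓSpecIso (CommRingCat.of K)).inv.hom
    have h3 : (Scheme.ΓSpecIso (CommRingCat.of K)).inv.hom (evSch l s) = l.appTop.hom s := by
      unfold evSch
      show ((Scheme.ΓSpecIso (CommRingCat.of K)).hom ≫
        (Scheme.ΓSpecIso (CommRingCat.of K)).inv).hom (l.appTop.hom s) = _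
      rw [Iso.hom_inv_id]
      rfl
    rwa [h3] at h2
  rintro _ ⟨x, rfl⟩
  have h4 : l ⁻¹ᵁ Y.basicOpen s = ⊤ := by
    rw [Scheme.preimage_basicOpen_top]
    exact Scheme.basicOpen_of_isUnit _ hu
  have : x ∈ l ⁻¹ᵁ Y.basicOpen s := by rw [h4]; trivial
  exact this

instance instHasColimitsCommRing : HasColimitsOfSize.{u, u} CommRingCat.{u + 1} :=
  hasColimits_commRing.{u}

instance instPreservesFilteredCommRing :
    PreservesFilteredColimitsOfSize.{u, u} (forget CommRingCat.{u + 1}) :=
  preservesFilteredColimits_forget_commRing.{u}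

section Stalk

variable (X : Space S) (p : FieldPt X.obj) (hp : p.IsGeometric)

/-- the étale local ring, as the fibre of the structure sheaf at the point of the site -/
noncomputable abbrev St : CommRingCat.{u + 1} :=
  (etPoint X p hp).presheafFiber.obj (OEt X.obj).obj

/-- the germ maps -/
noncomputable abbrev germ (U : EtOver X.obj) (l : (FieldPt.liftsTo p).obj U) :
    (OEt X.obj).obj.obj (op U) ⟶ St X p hp :=
  (etPoint X p hp).toPresheafFiber U l (OEt X.obj).obj

/-- evaluation of functions on `U` at a lift, valued in `ULift K` -/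
noncomputable def evObj (U : EtOver X.obj) (l : (FieldPt.liftsTo p).obj U) :
    (OEt X.obj).obj.obj (op U) ⟶ CommRingCat.of (ULift.{u + 1} p.K) :=
  CommRingCat.ofHom ((ULift.ringEquiv.{u, u + 1} (R := p.K)).symm.toRingHom.comp
    ((evSch l.1.left).comp
      (ULift.ringEquiv.{u, u + 1} (R := Γ(U.obj.left.left, ⊤))).toRingHom))

theorem evObj_apply (U : EtOver X.obj) (l : (FieldPt.liftsTo p).obj U)
    (s : ↥((OEt X.obj).obj.obj (op U))) :
    ((evObj X p U l).hom s).down = evSch l.1.left s.down := rfl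

theorem evObj_compat {V U : EtOver X.obj} (f : V ⟶ U) (v : (FieldPt.liftsTo p).obj V) :
    (OEt X.obj).obj.map f.op ≫ evObj X p V v = evObj X p U ((FieldPt.liftsTo p).map f v) := by
  ext s
  show evSch v.1.left (f.hom.left.left.appTop.hom s.down) = evSch (v.1 ≫ f.hom.left).left s.down
  rw [Over.comp_left, evSch_comp]

/-- evaluation at the geometric point: `O_{X,x̄} → K` -/
noncomputable def ev : ↥(St X p hp) →+* p.K :=
  (ULift.ringEquiv.{u, u + 1} (R := p.K)).toRingHom.comp
    ((etPoint X p hp).presheafFiberDesc (P := (OEt X.obj).obj) (fun U l => evObj X p U l)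
      (fun _ _ f v => evObj_compat X p f v)).hom

theorem ev_germ (U : EtOver X.obj) (l : (FieldPt.liftsTo p).obj U)
    (s : ↥((OEt X.obj).obj.obj (op U))) :
    ev X p hp ((germ X p hp U l).hom s) = evSch l.1.left s.down := by
  unfold ev
  have h := (etPoint X p hp).toPresheafFiber_presheafFiberDesc (P := (OEt X.obj).obj)
    (fun U l => evObj X p U l) (fun _ _ f v => evObj_compat X p f v) U l
  have h2 := congrArg (fun m => (m.hom s).down) h
  exact h2

end Stalk

section Local

variable (X : Space S) (p : FieldPt X.obj) (hp : p.IsGeometric)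

/-- a `K`-point of `U` landing in an open `Ω` lifts to the open subobject -/
theorem exists_lift_openObj (U : EtOver X.obj) (l : (FieldPt.liftsTo p).obj U)
    (Ω : U.obj.left.left.Opens) (h : Set.range l.1.left ⊆ (Ω : Set ↥U.obj.left.left)) :
    ∃ l' : (FieldPt.liftsTo p).obj (openObj U Ω),
      (FieldPt.liftsTo p).map (openObjι U Ω) l' = l := by
  have hr : Set.range l.1.left ⊆ Set.range Ω.ι := by rw [Scheme.Opens.range_ι]; exact h
  let l₀ : Spec (CommRingCat.of p.K) ⟶ Ω.toScheme := IsOpenImmersion.lift Ω.ι l.1.left hr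
  have hl₀ : l₀ ≫ Ω.ι = l.1.left := IsOpenImmersion.lift_fac _ _ _
  let m : p.pt ⟶ (openObj U Ω).obj.left := Over.homMk l₀ (by
    show l₀ ≫ Ω.ι ≫ U.obj.left.hom = p.pt.hom
    rw [← Category.assoc, hl₀]; exact Over.w l.1)
  have hm : m ≫ (openObjι U Ω).hom.left = l.1 := Over.OverMorphism.ext hl₀
  refine ⟨⟨m, ?_⟩, Subtype.ext hm⟩
  rw [← EtOver.w (openObjι U Ω), ← Category.assoc, ← Functor.map_comp, hm]
  exact l.2

theorem isUnit_of_ev_ne_zero (a : ↥(St X p hp)) (h : ev X p hp a ≠ 0) : IsUnit a := by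
  obtain ⟨U, l, s, rfl⟩ := (etPoint X p hp).toPresheafFiber_jointly_surjective
    (P := (OEt X.obj).obj) a
  have h' : evSch l.1.left (show ULift.{u + 1} Γ(U.obj.left.left, ⊤) from s).down ≠ 0 := by
    rw [← ev_germ X p hp U l s]; exact h
  obtain ⟨l', hl'⟩ := exists_lift_openObj X p U l _ (range_subset_basicOpen l.1.left _ h')
  have hw := (etPoint X p hp).toPresheafFiber_w_apply (openObjι U
    (U.obj.left.left.basicOpen (show ULift.{u + 1} Γ(U.obj.left.left, ⊤) from s).down)) l'
    (OEt X.obj).obj s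
  have hl'' : (etPoint X p hp).fiber.map (openObjι U
    (U.obj.left.left.basicOpen (show ULift.{u + 1} Γ(U.obj.left.left, ⊤) from s).down)) l' = l := hl'
  rw [hl''] at hw
  rw [← hw]
  exact (isUnit_up (isUnit_appTop_basicOpen_ι _)).map ((etPoint X p hp).toPresheafFiber _ l'
    (OEt X.obj).obj).hom

theorem isUnit_iff_ev_ne_zero (a : ↥(St X p hp)) : IsUnit a ↔ ev X p hp a ≠ 0 :=
  ⟨fun h => (h.map (ev X p hp)).ne_zero, isUnit_of_ev_ne_zero X p hp a⟩

theorem isLocalRing_St : IsLocalRing ↥(St X p hp) := by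
  have : Nontrivial ↥(St X p hp) := (ev X p hp).domain_nontrivial
  refine IsLocalRing.of_isUnit_or_isUnit_one_sub_self fun a => ?_
  by_cases h : ev X p hp a = 0
  · right
    apply isUnit_of_ev_ne_zero
    rw [map_sub, map_one, h, sub_zero]
    exact one_ne_zero
  · left
    exact isUnit_of_ev_ne_zero X p hp a h

theorem mem_maximalIdeal_iff (a : ↥(St X p hp)) :
    haveI := isLocalRing_St X p hp
    a ∈ IsLocalRing.maximalIdeal ↥(St X p hp) ↔ ev X p hp a = 0 := by
  haveI := isLocalRing_St X p hp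
  rw [IsLocalRing.mem_maximalIdeal, mem_nonunits_iff, isUnit_iff_ev_ne_zero, not_not]

end Local

end Groth.Agent.Helper5.EtSt
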