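import Groth.Agent.Helper5.EtSt1
import Mathlib

set_option autoImplicit false
universe u
open CategoryTheory CategoryTheory.Limits AlgebraicGeometry Opposite

namespace Groth.Agent.Helper5.EtSt

open AlgSp Groth.Agent.Helper4 Groth.Agent.Helper5.EtPt

variable {S : Scheme.{u}}

set_option backward.isDefEq.respectTransparency false

variable (X : Space S) (p : FieldPt X.obj) (hp : p.IsGeometric)

theorem germ_map {W U : EtOver X.obj} (g : W ⟶ U) (w : (FieldPt.liftsTo p).obj W)
    (l : (FieldPt.liftsTo p).obj U) (hg : (FieldPt.liftsTo p).map g w = l)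
    (s : ↥((OEt X.obj).obj.obj (op U))) :
    (germ X p hp W w).hom (((OEt X.obj).obj.map g.op).hom s) = (germ X p hp U l).hom s := by
  have hw := (etPoint X p hp).toPresheafFiber_w_apply g w (OEt X.obj).obj s
  have hg' : (etPoint X p hp).fiber.map g w = l := hg
  rw [hg'] at hw
  exact hw

theorem range_germ_mono {W U : EtOver X.obj} (g : W ⟶ U) (w : (FieldPt.liftsTo p).obj W)
    (l : (FieldPt.liftsTo p).obj U) (hg : (FieldPt.liftsTo p).map g w = l) :
    Set.range (germ X p hp U l).hom ⊆ Set.range (germ X p hp W w).hom := by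
  rintro _ ⟨s, rfl⟩
  exact ⟨_, germ_map X p hp g w l hg s⟩

/-- finitely many elements of the stalk are germs on a common neighbourhood -/
theorem exists_nbhd_of_finset (T : Finset ↥(St X p hp)) :
    ∃ (U : EtOver X.obj) (l : (FieldPt.liftsTo p).obj U),
      (T : Set ↥(St X p hp)) ⊆ Set.range (germ X p hp U l).hom := by
  classical
  induction T using Finset.induction_on with
  | empty =>
    obtain ⟨⟨U, l⟩⟩ := nonempty_etNbhd X p hp
    exact ⟨U, l, by simp⟩
  | insert r T _ ih =>
    obtain ⟨U, l, hT⟩ := ih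
    obtain ⟨U', l', s', hs'⟩ := (etPoint X p hp).toPresheafFiber_jointly_surjective
      (P := (OEt X.obj).obj) r
    obtain ⟨⟨W, w⟩, ⟨g₁, hg₁⟩, ⟨g₂, hg₂⟩, -⟩ := cone_objs X p ⟨U, l⟩ ⟨U', l'⟩
    refine ⟨W, w, ?_⟩
    rw [Finset.coe_insert, Set.insert_subset_iff]
    constructor
    · exact range_germ_mono X p hp g₂ w l' hg₂ ⟨s', hs'⟩
    · exact hT.trans (range_germ_mono X p hp g₁ w l hg₁)

/-- every neighbourhood is refined by an affine one -/
theorem exists_affine_refinement (U : EtOver X.obj) (l : (FieldPt.liftsTo p).obj U) :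
    ∃ (W : EtOver X.obj) (w : (FieldPt.liftsTo p).obj W) (g : W ⟶ U),
      (FieldPt.liftsTo p).map g w = l ∧ IsAffine W.obj.left.left := by
  obtain ⟨_, ⟨Ω, hΩ, rfl⟩, hmem, -⟩ :=
    U.obj.left.left.isBasis_affineOpens.exists_subset_of_mem_open
    (Set.mem_univ (l.1.left (default : ↥(Spec (CommRingCat.of p.K))))) isOpen_univ
  have hr : Set.range l.1.left ⊆ (Ω : Set ↥U.obj.left.left) := by
    rintro _ ⟨x, rfl⟩
    have hx : x = (default : ↥(Spec (CommRingCat.of p.K))) :=
      Subsingleton.elim (α := ↥(Spec (CommRingCat.of p.K))) x default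
    rw [hx]; exact hmem
  obtain ⟨l', hl'⟩ := exists_lift_openObj X p U l Ω hr
  exact ⟨openObj U Ω, l', openObjι U Ω, hl', hΩ⟩

end Groth.Agent.Helper5.EtSt
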