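import Groth.Agent.Helper5.EtSt2
import Mathlib

set_option autoImplicit false
universe u
open CategoryTheory CategoryTheory.Limits AlgebraicGeometry Opposite Polynomial

namespace Groth.Agent.Helper5.EtSt

open AlgSp Groth.Agent.Helper4 Groth.Agent.Helper5.EtPt

variable {S : Scheme.{u}}

set_option backward.isDefEq.respectTransparency false

/-- scheme-level Hensel step: a simple root in `K` of a monic polynomial over an affine scheme
spreads out to a function on a standard étale neighbourhood -/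
theorem exists_etale_root {K : Type u} [Field K] {Y : Scheme.{u}} [IsAffine Y]
    (l : Spec (CommRingCat.of K) ⟶ Y) (F₁ : Γ(Y, ⊤)[X]) (hF : F₁.Monic) (x₀ : K)
    (h0 : F₁.eval₂ (evSch l) x₀ = 0) (h1 : (derivative F₁).eval₂ (evSch l) x₀ ≠ 0) :
    ∃ (V₀ : Scheme.{u}) (π : V₀ ⟶ Y) (_ : Etale π) (v₀ : Spec (CommRingCat.of K) ⟶ V₀)
      (t : Γ(V₀, ⊤)), v₀ ≫ π = l ∧ F₁.eval₂ π.appTop.hom t = 0 ∧ evSch v₀ t = x₀ := by
  let P : StandardEtalePair Γ(Y, ⊤) := ⟨F₁, hF, derivative F₁, ⟨1, 0, 1, by simp⟩⟩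
  letI : Algebra Γ(Y, ⊤) K := (evSch l).toAlgebra
  have hmap : P.HasMap x₀ := ⟨h0, isUnit_iff_ne_zero.2 h1⟩
  let β : P.Ring →ₐ[Γ(Y, ⊤)] K := P.lift x₀ hmap
  let α : Γ(Y, ⊤) ⟶ CommRingCat.of P.Ring := CommRingCat.ofHom (algebraMap Γ(Y, ⊤) P.Ring)
  let β' : CommRingCat.of P.Ring ⟶ CommRingCat.of K := CommRingCat.ofHom β.toRingHom
  have hαβ : α ≫ β' = l.appTop ≫ (Scheme.ΓSpecIso (CommRingCat.of K)).hom := by
    ext r
    show β (algebraMap Γ(Y, ⊤) P.Ring r) = evSch l r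
    rw [β.commutes]
    rfl
  let π : Spec (CommRingCat.of P.Ring) ⟶ Y := Spec.map α ≫ Y.isoSpec.inv
  have hπe : Etale π := by
    have : Etale (Spec.map α) :=
      (HasRingHomProperty.Spec_iff (P := @Etale)).2 (RingHom.etale_algebraMap.2 inferInstance)
    infer_instance
  have hπ : π.appTop = α ≫ (Scheme.ΓSpecIso (CommRingCat.of P.Ring)).inv := by
    show (Spec.map α ≫ Y.isoSpec.inv).appTop = _
    rw [Scheme.Hom.comp_appTop]
    have : Y.isoSpec.inv.appTop = (Scheme.ΓSpecIso Γ(Y, ⊤)).inv := by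
      rw [← cancel_epi Y.isoSpec.hom.appTop, ← Scheme.Hom.comp_appTop, Iso.inv_hom_id]
      rw [Scheme.isoSpec_hom, Scheme.toSpecΓ_appTop, Iso.hom_inv_id]
      rfl
    rw [this, Scheme.ΓSpecIso_inv_naturality]
  let v₀ : Spec (CommRingCat.of K) ⟶ Spec (CommRingCat.of P.Ring) := Spec.map β'
  have hv₀ : (Scheme.ΓSpecIso (CommRingCat.of P.Ring)).inv ≫ v₀.appTop =
      β' ≫ (Scheme.ΓSpecIso (CommRingCat.of K)).inv :=
    (Scheme.ΓSpecIso_inv_naturality β').symm
  refine ⟨Spec (CommRingCat.of P.Ring), π, hπe, v₀,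
    (Scheme.ΓSpecIso (CommRingCat.of P.Ring)).inv.hom P.X, ?_, ?_, ?_⟩
  · apply ext_of_isAffine
    rw [Scheme.Hom.comp_appTop, hπ, Category.assoc, hv₀, ← Category.assoc, hαβ, Category.assoc,
      Iso.hom_inv_id, Category.comp_id]
  · rw [hπ]
    have : (α ≫ (Scheme.ΓSpecIso (CommRingCat.of P.Ring)).inv).hom =
        (Scheme.ΓSpecIso (CommRingCat.of P.Ring)).inv.hom.comp (algebraMap Γ(Y, ⊤) P.Ring) := rfl
    rw [this, ← Polynomial.hom_eval₂]
    have h3 : F₁.eval₂ (algebraMap Γ(Y, ⊤) P.Ring) P.X = 0 := P.hasMap_X.1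
    rw [h3, map_zero]
  · show (Scheme.ΓSpecIso (CommRingCat.of K)).hom.hom (v₀.appTop.hom
      ((Scheme.ΓSpecIso (CommRingCat.of P.Ring)).inv.hom P.X)) = x₀
    have h4 := congrArg (fun m => m.hom P.X) hv₀
    have h5 : v₀.appTop.hom ((Scheme.ΓSpecIso (CommRingCat.of P.Ring)).inv.hom P.X) =
        (Scheme.ΓSpecIso (CommRingCat.of K)).inv.hom (β P.X) := h4
    rw [h5]
    have h6 : (Scheme.ΓSpecIso (CommRingCat.of K)).hom.hom
        ((Scheme.ΓSpecIso (CommRingCat.of K)).inv.hom (β P.X)) = β P.X := by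
      show ((Scheme.ΓSpecIso (CommRingCat.of K)).inv ≫
        (Scheme.ΓSpecIso (CommRingCat.of K)).hom).hom (β P.X) = _
      rw [Iso.inv_hom_id]; rfl
    rw [h6]
    exact P.lift_X x₀ hmap

section Obj

variable {X : Sp S}

/-- the object of the small étale site given by an étale scheme over an object -/
noncomputable def etObj (U : EtOver X) {V₀ : Scheme.{u}} (π : V₀ ⟶ U.obj.left.left)
    (hπ : Etale π) : EtOver X :=
  EtOver.mk ((yon S).map (Over.homMk π rfl : Over.mk (π ≫ U.obj.left.hom) ⟶ U.obj.left) ≫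
    U.obj.hom)
    (AlgSpSrc.repWith_comp _ ((repWith_yon_map_iff _ _).2 (show Etale π from hπ)) U.property)

noncomputable def etObjHom (U : EtOver X) {V₀ : Scheme.{u}} (π : V₀ ⟶ U.obj.left.left)
    (hπ : Etale π) : etObj U π hπ ⟶ U :=
  EtOver.homMk (Over.homMk π rfl) rfl

theorem exists_lift_etObj (p : FieldPt X) (U : EtOver X) (l : (FieldPt.liftsTo p).obj U)
    {V₀ : Scheme.{u}} (π : V₀ ⟶ U.obj.left.left) (hπ : Etale π)
    (v₀ : Spec (CommRingCat.of p.K) ⟶ V₀) (h : v₀ ≫ π = l.1.left) :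
    ∃ v : (FieldPt.liftsTo p).obj (etObj U π hπ),
      (FieldPt.liftsTo p).map (etObjHom U π hπ) v = l ∧ v.1.left = v₀ := by
  let m : p.pt ⟶ (etObj U π hπ).obj.left := Over.homMk v₀ (by
    show v₀ ≫ π ≫ U.obj.left.hom = p.pt.hom
    rw [← Category.assoc, h]; exact Over.w l.1)
  have hm : m ≫ (etObjHom U π hπ).hom.left = l.1 := Over.OverMorphism.ext h
  refine ⟨⟨m, ?_⟩, Subtype.ext hm, rfl⟩
  rw [← EtOver.w (etObjHom U π hπ), ← Category.assoc, ← Functor.map_comp, hm]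
  exact l.2

end Obj

variable (X : Space S) (p : FieldPt X.obj) (hp : p.IsGeometric)

/-- Hensel's lemma for the étale local ring at a geometric point, in `K`-valued form -/
theorem exists_root_of_simple_root (f : (↥(St X p hp))[X]) (hf : f.Monic) (x₀ : p.K)
    (h0 : f.eval₂ (ev X p hp) x₀ = 0) (h1 : (derivative f).eval₂ (ev X p hp) x₀ ≠ 0) :
    ∃ a : ↥(St X p hp), f.eval a = 0 ∧ ev X p hp a = x₀ := by
  classical
  obtain ⟨U₀, l₀, hT⟩ := exists_nbhd_of_finset X p hp f.coeffs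
  obtain ⟨U, l, g₀, hg₀, hU⟩ := exists_affine_refinement X p U₀ l₀
  have hT' : (f.coeffs : Set ↥(St X p hp)) ⊆ Set.range (germ X p hp U l).hom :=
    hT.trans (range_germ_mono X p hp g₀ l l₀ hg₀)
  have hlifts : f ∈ Polynomial.lifts (germ X p hp U l).hom :=
    (Polynomial.lifts_iff_coeffs_subset_range _).2 hT'
  obtain ⟨F, hFf, -, hFm⟩ := Polynomial.lifts_and_natDegree_eq_and_monic hlifts hf
  let dn : ↥((OEt X.obj).obj.obj (op U)) →+* Γ(U.obj.left.left, ⊤) :=
    (ULift.ringEquiv.{u, u + 1} (R := Γ(U.obj.left.left, ⊤))).toRingHom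
  let F₁ : Γ(U.obj.left.left, ⊤)[X] := F.map dn
  have hcomp : (ev X p hp).comp (germ X p hp U l).hom = (evSch l.1.left).comp dn :=
    RingHom.ext fun s => ev_germ X p hp U l s
  have e0 : F₁.eval₂ (evSch l.1.left) x₀ = 0 := by
    rw [Polynomial.eval₂_map, ← hcomp, ← Polynomial.eval₂_map, hFf]; exact h0
  have e1 : (derivative F₁).eval₂ (evSch l.1.left) x₀ ≠ 0 := by
    rw [Polynomial.derivative_map, Polynomial.eval₂_map, ← hcomp, ← Polynomial.eval₂_map,
      ← Polynomial.derivative_map, hFf]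
    exact h1
  obtain ⟨V₀, π, hπ, v₀, t, hvπ, ht0, htx⟩ :=
    exists_etale_root l.1.left F₁ (hFm.map dn) x₀ e0 e1
  obtain ⟨v, hv, hv₀⟩ := exists_lift_etObj p U l π hπ v₀ hvπ
  let s : ↥((OEt X.obj).obj.obj (op (etObj U π hπ))) := ULift.up t
  refine ⟨(germ X p hp _ v).hom s, ?_, ?_⟩
  · have hgerm : (germ X p hp U l).hom =
        (germ X p hp _ v).hom.comp ((OEt X.obj).obj.map (etObjHom U π hπ).op).hom :=
      RingHom.ext fun r => (germ_map X p hp (etObjHom U π hπ) v l hv r).symm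
    rw [← hFf, Polynomial.eval_map, hgerm, ← Polynomial.hom_eval₂]
    have hz : F.eval₂ ((OEt X.obj).obj.map (etObjHom U π hπ).op).hom s = 0 := by
      apply ULift.ext
      let dn' : ↥((OEt X.obj).obj.obj (op (etObj U π hπ))) →+* Γ(V₀, ⊤) :=
        (ULift.ringEquiv.{u, u + 1} (R := Γ(V₀, ⊤))).toRingHom
      show dn' (F.eval₂ ((OEt X.obj).obj.map (etObjHom U π hπ).op).hom s) = 0
      rw [Polynomial.hom_eval₂]
      have hc : dn'.comp ((OEt X.obj).obj.map (etObjHom U π hπ).op).hom = π.appTop.hom.comp dn :=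
        RingHom.ext fun r => rfl
      rw [hc, ← Polynomial.eval₂_map]
      exact ht0
    rw [hz, map_zero]
  · rw [ev_germ, hv₀]
    exact htx

end Groth.Agent.Helper5.EtSt
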