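import Groth.Agent.Helper5.EtSt3
import Groth.Prelude.Def_EtBase
import Mathlib

set_option autoImplicit false
universe u
open CategoryTheory CategoryTheory.Limits AlgebraicGeometry Opposite Polynomial

namespace Groth.Agent.Helper5.EtSt

open AlgSp Groth.Agent.Helper4 Groth.Agent.Helper5.EtPt

variable {S : Scheme.{u}}

set_option backward.isDefEq.respectTransparency false

variable (X : Space S) (p : FieldPt X.obj) (hp : p.IsGeometric)

theorem henselian_St : HenselianLocalRing ↥(St X p hp) := by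
  have hloc := isLocalRing_St X p hp
  refine { toIsLocalRing := hloc, is_henselian := ?_ }
  intro f hf a₀ h0 h1
  have e0 : f.eval₂ (ev X p hp) (ev X p hp a₀) = 0 := by
    rw [Polynomial.eval₂_at_apply]
    exact (mem_maximalIdeal_iff X p hp _).1 h0
  have e1 : (derivative f).eval₂ (ev X p hp) (ev X p hp a₀) ≠ 0 := by
    rw [Polynomial.eval₂_at_apply]
    exact (isUnit_iff_ev_ne_zero X p hp _).1 h1
  obtain ⟨a, ha0, hax⟩ := exists_root_of_simple_root X p hp f hf _ e0 e1
  refine ⟨a, ha0, ?_⟩
  rw [mem_maximalIdeal_iff, map_sub, hax, sub_self]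

theorem isSepClosed_residueField_St :
    haveI := isLocalRing_St X p hp
    IsSepClosed (IsLocalRing.ResidueField ↥(St X p hp)) := by
  haveI := isLocalRing_St X p hp
  have : IsAlgClosed p.K := hp
  haveI : IsLocalHom (ev X p hp) :=
    ⟨fun a ha => isUnit_of_ev_ne_zero X p hp a ha.ne_zero⟩
  let ι : IsLocalRing.ResidueField ↥(St X p hp) →+* p.K := IsLocalRing.ResidueField.lift (ev X p hp)
  have hι : ι.comp (IsLocalRing.residue ↥(St X p hp)) = ev X p hp :=
    IsLocalRing.ResidueField.lift_comp_residue _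
  apply IsSepClosed.of_exists_root
  intro q hqm hqi hqs
  have hlifts : q ∈ Polynomial.lifts (IsLocalRing.residue ↥(St X p hp)) :=
    (Polynomial.mem_lifts q).2
      (Polynomial.map_surjective _ IsLocalRing.residue_surjective q)
  obtain ⟨f, hfq, -, hfm⟩ := Polynomial.lifts_and_natDegree_eq_and_monic hlifts hqm
  have hdeg : (q.map ι).degree ≠ 0 := by
    rw [Polynomial.degree_map]
    exact (Polynomial.degree_pos_of_irreducible hqi).ne'
  obtain ⟨x₀, hx₀⟩ := IsAlgClosed.exists_root (q.map ι) hdeg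
  have e0 : f.eval₂ (ev X p hp) x₀ = 0 := by
    rw [← hι, ← Polynomial.eval₂_map, hfq, Polynomial.eval₂_eq_eval_map]
    exact hx₀
  have e1 : (derivative f).eval₂ (ev X p hp) x₀ ≠ 0 := by
    rw [← hι, ← Polynomial.eval₂_map, ← Polynomial.derivative_map, hfq]
    apply hqs.eval₂_derivative_ne_zero
    rw [Polynomial.eval₂_eq_eval_map]
    exact hx₀
  obtain ⟨a, ha0, -⟩ := exists_root_of_simple_root X p hp f hfm x₀ e0 e1
  refine ⟨IsLocalRing.residue _ a, ?_⟩
  rw [← hfq, Polynomial.eval_map, Polynomial.eval₂_at_apply, ha0, map_zero]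

theorem strictlyHenselian_St :
    IsLocalRing ↥(St X p hp) ∧ EtCoh.IsStrictlyHenselianLocalRing ↥(St X p hp) :=
  ⟨isLocalRing_St X p hp, henselian_St X p hp, isSepClosed_residueField_St X p hp⟩

include hp in
theorem strictlyHenselian_OEtStalk :
    IsLocalRing ↥(OEtStalk p) ∧ EtCoh.IsStrictlyHenselianLocalRing ↥(OEtStalk p) :=
  strictlyHenselian_St X p hp

end Groth.Agent.Helper5.EtSt
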