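import Mathlib
import Groth.Agent.Helper1.EssEtHensel

/-!
# Universe-polymorphic Hensel lifting from étale algebras
-/

set_option autoImplicit false

namespace Groth.Agent.Helper5.EtStH

open TensorProduct IsLocalRing Polynomial

universe u v

/-- Core Hensel lifting, with the henselian target in an arbitrary universe. -/
theorem exists_lift_of_etale' {A C : Type u} {B : Type v} [CommRing A] [CommRing C] [Algebra A C]
    [Algebra.Etale A C] [CommRing B] [HenselianLocalRing B] [Algebra A B]
    (β : C →ₐ[A] ResidueField B) :
    ∃ χ : C →ₐ[A] B, ∀ c, residue B (χ c) = β c := by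
  classical
  let q : Ideal C := RingHom.ker β.toRingHom
  haveI : q.IsPrime := RingHom.ker_isPrime _
  haveI : Algebra.FormallyEtale C (Localization.AtPrime q) :=
    Algebra.FormallyEtale.of_isLocalization q.primeCompl
  haveI : Algebra.IsEtaleAt A q := Algebra.FormallyEtale.comp A C _
  obtain ⟨f, hfq, hstd⟩ := Algebra.IsEtaleAt.exists_isStandardEtale (R := A) q
  obtain ⟨P⟩ := hstd.nonempty_standardEtalePresentation
  have hβf : IsUnit (β f) := by
    rw [isUnit_iff_ne_zero]
    exact hfq
  let βf : Localization.Away f →ₐ[A] ResidueField B :=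
    IsLocalization.Away.liftAlgHom f (f := β) hβf
  have hβf' : ∀ c, βf (algebraMap C _ c) = β c := fun c => by
    simp [βf, IsLocalization.Away.liftAlgHom_apply]
  let xb : ResidueField B := βf P.x
  have hxb : P.HasMap xb := P.hasMap.map βf
  obtain ⟨x₀, hx₀⟩ := residue_surjective xb
  -- Hensel
  have hHens := (HenselianLocalRing.TFAE B).out 0 1
  have hB := hHens.1 inferInstance
  have hmonic : (P.f.map (algebraMap A B)).Monic := P.monic_f.map _
  have h1 : aeval xb (P.f.map (algebraMap A B)) = 0 := by
    rw [aeval_map_algebraMap]; exact hxb.1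
  have h2 : aeval xb (derivative (P.f.map (algebraMap A B))) ≠ 0 := by
    rw [derivative_map, aeval_map_algebraMap]
    exact hxb.isUnit_derivative_f.ne_zero
  obtain ⟨x₁, hroot, hres⟩ := hB _ hmonic xb h1 h2
  have hx₁ : P.HasMap x₁ := by
    refine ⟨?_, ?_⟩
    · have := hroot
      rw [IsRoot, eval_map_algebraMap] at this
      exact this
    · have h3 : residue B (aeval x₁ P.g) = aeval xb P.g := by
        rw [← hres]
        exact (Polynomial.aeval_algHom_apply (IsScalarTower.toAlgHom A B (ResidueField B)) x₁ P.g).symm
      have h4 : IsUnit (residue B (aeval x₁ P.g)) := h3 ▸ hxb.2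
      by_contra hnu
      have h5 : aeval x₁ P.g ∈ maximalIdeal B := (mem_maximalIdeal _).2 hnu
      rw [← residue_eq_zero_iff] at h5
      rw [h5] at h4
      exact not_isUnit_zero h4
  let χf : Localization.Away f →ₐ[A] B := (P.lift x₁ hx₁).comp P.equivRing.toAlgHom
  have hχf : (IsScalarTower.toAlgHom A B (ResidueField B)).comp χf = βf := by
    apply P.hom_ext
    show residue B ((P.lift x₁ hx₁) (P.equivRing P.x)) = βf P.x
    rw [P.equivRing_x, StandardEtalePair.lift_X]
    exact hres
  refine ⟨χf.comp (IsScalarTower.toAlgHom A C _), fun c => ?_⟩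
  have := congr($hχf (algebraMap C _ c))
  rw [hβf'] at this
  exact this

end Groth.Agent.Helper5.EtStH
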