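import Groth.Agent.Helper5.EtStH9
import Groth.Agent.Helper1.HensRed
import Groth.Agent.Helper1.HensDim
import Groth.Agent.Helper1.HensStrictNoeth
import Groth.Agent.Helper1.HensStrictReg
import Groth.Agent.Helper2.BrnchE
import Groth.Agent.Helper2.BrnchB
import Mathlib

set_option autoImplicit false
set_option linter.style.haveILetI false
universe u
open CategoryTheory CategoryTheory.Limits AlgebraicGeometry Opposite

namespace Groth.Agent.Helper5.EtStH

open AlgSp Groth.Agent.Helper4 IsLocalRing Groth.Agent.Helper1.Hens

variable {S : Scheme.{u}}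

/-- comparison of the local ring of an étale chart with the étale local ring at a geometric
point over the same point -/
theorem chart_props (X : Space S) (p : FieldPt X.obj) (hp : p.IsGeometric)
    {U : Over S} (a : (yon S).obj U ⟶ X.obj) (hae : RepWith @Etale a) (u : ↥U.left)
    (hu : Points.ofPt a u = Points.mk p) :
    (IsReduced ↥(U.left.presheaf.stalk u) ↔ IsReduced ↥(OEtStalk p)) ∧
    (ringKrullDim ↥(OEtStalk p) = ringKrullDim ↥(U.left.presheaf.stalk u)) ∧
    (IsNoetherianRing ↥(U.left.presheaf.stalk u) ↔ IsNoetherianRing ↥(OEtStalk p)) ∧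
    (IsRegularLocalRing ↥(U.left.presheaf.stalk u) ↔ IsRegularLocalRing ↥(OEtStalk p)) ∧
    ((minimalPrimes ↥(OEtStalk p)).encard = _root_.Brnch.numGeomBranchesAt U.left u) := by
  obtain ⟨H, _, _, _, _, _, ⟨eq⟩⟩ := exists_strictHenselization_chart X p hp a hae u hu
  haveI := faithfullyFlat_of_isStrictHenselization ↥(U.left.presheaf.stalk u) H
  have hN : IsNoetherianRing ↥(U.left.presheaf.stalk u) ↔ IsNoetherianRing ↥(OEtStalk p) := by
    constructor
    · intro h
      haveI := isNoetherianRing_of_isStrictHenselization ↥(U.left.presheaf.stalk u) H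
      exact isNoetherianRing_of_ringEquiv H eq.symm
    · intro h
      haveI : IsNoetherianRing H := isNoetherianRing_of_ringEquiv _ eq
      exact isNoetherianRing_of_faithfullyFlat ↥(U.left.presheaf.stalk u) H
  refine ⟨?_, ?_, hN, ?_, ?_⟩
  · rw [isReduced_iff_of_isStrictHenselization ↥(U.left.presheaf.stalk u) H]
    constructor
    · intro h
      exact isReduced_of_injective (eq : ↥(OEtStalk p) →+* H) eq.injective
    · intro h
      exact isReduced_of_injective (eq.symm : H →+* ↥(OEtStalk p)) eq.symm.injective
  · rw [ringKrullDim_eq_of_ringEquiv eq]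
    exact ringKrullDim_of_isStrictHenselization ↥(U.left.presheaf.stalk u) H
  · constructor
    · intro h
      haveI : IsNoetherianRing ↥(U.left.presheaf.stalk u) := inferInstance
      haveI : IsRegularLocalRing H :=
        (isRegularLocalRing_iff_of_isStrictHenselization ↥(U.left.presheaf.stalk u) H).1 h
      exact IsRegularLocalRing.of_ringEquiv eq.symm
    · intro h
      haveI : IsRegularLocalRing H := IsRegularLocalRing.of_ringEquiv eq
      haveI : IsNoetherianRing ↥(U.left.presheaf.stalk u) :=
        isNoetherianRing_of_faithfullyFlat ↥(U.left.presheaf.stalk u) H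
      exact (isRegularLocalRing_iff_of_isStrictHenselization ↥(U.left.presheaf.stalk u) H).2
        inferInstance
  · rw [Groth.Agent.Helper2.Brnch.encard_minimalPrimes_of_ringEquiv eq]
    exact Groth.Agent.Helper2.Brnch.s9238 ↥(U.left.presheaf.stalk u) H

end Groth.Agent.Helper5.EtStH
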