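import Groth.Agent.Helper5.EtStH10
import Groth.Agent.Helper5.EtPt5
import Groth.Agent.Helper5.EtPt8
import Groth.Agent.Helper5.GeomRed
import Groth.Agent.Helper2.BrSchG
import Groth.Agent.Helper2.BrSchC
import Mathlib

set_option autoImplicit false
set_option linter.style.haveILetI false
universe u
open CategoryTheory CategoryTheory.Limits AlgebraicGeometry Opposite

namespace Groth.Agent.Helper5.EtStH

open AlgSp Groth.Agent.Helper4 IsLocalRing Groth.Agent.Helper2.BrSch

variable {S : Scheme.{u}}

/-- every point of a chart lies under a geometric point -/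
theorem exists_geomPt_chart {X : Sp S} {U : Over S} (a : (yon S).obj U ⟶ X)
    (hae : RepWith @Etale a) (u : ↥U.left) :
    ∃ p : FieldPt X, p.IsGeometric ∧ Points.mk p = Points.ofPt a u := by
  obtain ⟨p, hp, l, hl⟩ := Groth.Agent.Helper5.EtPt.exists_geomPt_over (EtOver.mk a hae) u
  refine ⟨p, hp, ?_⟩
  have h1 := Groth.Agent.Helper5.EtPt.ofPt_lift p (EtOver.mk a hae) l
    (default : ↥(Spec (CommRingCat.of p.K)))
  rw [hl] at h1
  exact h1.symm

/-- every point of an algebraic space lies under a geometric point -/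
theorem exists_geomPt (X : Space S) (x : Points X.obj) :
    ∃ p : FieldPt X.obj, p.IsGeometric ∧ Points.mk p = x := by
  obtain ⟨U, a, u, hae, hu⟩ := Groth.Agent.Helper5.GeomRed.exists_chart_point X.property x
  obtain ⟨p, hp, hpx⟩ := exists_geomPt_chart a hae u
  exact ⟨p, hp, hpx.trans hu⟩

theorem encard_minimalPrimes_le_numGeomBranchesAt (U : Scheme.{u}) (u : ↥U) :
    (minimalPrimes ↥(U.presheaf.stalk u)).encard ≤ _root_.Brnch.numGeomBranchesAt U u := by
  rw [← encard_components_eq_minimalPrimes]
  exact le_numGeomBranchesAt (𝟙 U) u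

/-- a chart with many geometric branches is refined by a chart with many minimal primes -/
theorem exists_chart_le {X : Sp S} {U : Over S} (a : (yon S).obj U ⟶ X)
    (hae : RepWith @Etale a) (u : ↥U.left) (n : ℕ)
    (hn : (n : ℕ∞) ≤ _root_.Brnch.numGeomBranchesAt U.left u) :
    ∃ (W : Over S) (b : (yon S).obj W ⟶ X) (w : ↥W.left), RepWith @Etale b ∧
      Points.ofPt b w = Points.ofPt a u ∧
      (n : ℕ∞) ≤ (minimalPrimes ↥(W.left.presheaf.stalk w)).encard := by
  obtain ⟨W₀, g, w, ⟨hg, hgw⟩, hle⟩ := exists_nbhd_geom u n hn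
  let g' : Over.mk (g ≫ U.hom) ⟶ U := Over.homMk g rfl
  refine ⟨Over.mk (g ≫ U.hom), (yon S).map g' ≫ a, w, ?_, ?_, ?_⟩
  · exact AlgSpSrc.repWith_comp _ ((repWith_yon_map_iff _ _).2 hg) hae
  · rw [AlgSpPtsDesc.ofPt_yon_map_comp]
    show Points.ofPt a (g w) = _
    rw [hgw]
  · rw [← encard_components_eq_minimalPrimes]
    exact hle

section core

variable (X : Space S) (x : Points X.obj) (p : FieldPt X.obj) (hp : p.IsGeometric)
  (hpx : Points.mk p = x)

include hp hpx in
theorem numGeomBranchesAt_eq {U : Over S} (a : (yon S).obj U ⟶ X.obj) (hae : RepWith @Etale a)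
    (u : ↥U.left) (hu : Points.ofPt a u = x) :
    _root_.Brnch.numGeomBranchesAt U.left u = (minimalPrimes ↥(OEtStalk p)).encard :=
  ((chart_props X p hp a hae u (hu.trans hpx.symm)).2.2.2.2).symm

include hp hpx in
theorem geomBranches_cond_iff (n : ℕ) :
    (∀ (U : Over S) (a : (yon S).obj U ⟶ X.obj) (u : ↥U.left),
        RepWith @Etale a → Points.ofPt a u = x → _root_.Brnch.numGeomBranchesAt U.left u = n) ↔
      (minimalPrimes ↥(OEtStalk p)).encard = n := by
  constructor
  · intro h
    obtain ⟨U, a, u, hae, hu⟩ := Groth.Agent.Helper5.GeomRed.exists_chart_point X.property x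
    rw [← numGeomBranchesAt_eq X x p hp hpx a hae u hu]
    exact h U a u hae hu
  · intro h U a u hae hu
    rw [numGeomBranchesAt_eq X x p hp hpx a hae u hu]
    exact h

include hp hpx in
theorem minimalPrimes_cond_iff (n : ℕ) :
    ((∀ (U : Over S) (a : (yon S).obj U ⟶ X.obj) (u : ↥U.left),
        RepWith @Etale a → Points.ofPt a u = x →
          (minimalPrimes ↥(U.left.presheaf.stalk u)).encard ≤ n) ∧
      HasAt (fun U u => (minimalPrimes ↥(U.presheaf.stalk u)).encard = n) X.obj x) ↔
      (minimalPrimes ↥(OEtStalk p)).encard = n := by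
  constructor
  · rintro ⟨hall, U, a, u, hae, hu, heq⟩
    apply le_antisymm
    · by_contra hlt
      rw [not_le] at hlt
      have h1 : ((n + 1 : ℕ) : ℕ∞) ≤ (minimalPrimes ↥(OEtStalk p)).encard := by
        rw [Nat.cast_add, Nat.cast_one]
        exact Order.add_one_le_of_lt hlt
      rw [← numGeomBranchesAt_eq X x p hp hpx a hae u hu] at h1
      obtain ⟨W, b, w, hbe, hbw, hle⟩ := exists_chart_le a hae u (n + 1) h1
      have h2 := hle.trans (hall W b w hbe (hbw.trans hu))
      rw [Nat.cast_le] at h2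
      omega
    · rw [← heq, ← numGeomBranchesAt_eq X x p hp hpx a hae u hu]
      exact encard_minimalPrimes_le_numGeomBranchesAt U.left u
  · intro hN
    constructor
    · intro U a u hae hu
      rw [← hN, ← numGeomBranchesAt_eq X x p hp hpx a hae u hu]
      exact encard_minimalPrimes_le_numGeomBranchesAt U.left u
    · obtain ⟨U, a, u, hae, hu⟩ := Groth.Agent.Helper5.GeomRed.exists_chart_point X.property x
      have h1 : ((n : ℕ) : ℕ∞) ≤ _root_.Brnch.numGeomBranchesAt U.left u := by
        rw [numGeomBranchesAt_eq X x p hp hpx a hae u hu, hN]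
      obtain ⟨W, b, w, hbe, hbw, hle⟩ := exists_chart_le a hae u n h1
      refine ⟨W, b, w, hbe, hbw.trans hu, le_antisymm ?_ hle⟩
      rw [← hN, ← numGeomBranchesAt_eq X x p hp hpx b hbe w (hbw.trans hu)]
      exact encard_minimalPrimes_le_numGeomBranchesAt W.left w

end core

end Groth.Agent.Helper5.EtStH
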