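import Mathlib
import Groth.Agent.Helper1.HensUniv
import Groth.Agent.Helper5.EtStH1

/-!
# The universal property of `Hens R Ω` with target in an arbitrary universe
-/

set_option autoImplicit false
set_option linter.dupNamespace false

universe u v

noncomputable section

namespace Groth.Agent.Helper5.EtStH

open IsLocalRing TensorProduct Polynomial Groth.Agent.Helper1.Hens Groth.Agent.Helper1

variable {R : Type u} [CommRing R] {Ω : Type u} [Field Ω] [Algebra R Ω]
variable {T : Type v} [CommRing T] [HenselianLocalRing T] [Algebra R T]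
  (τ : Ω →+* ResidueField T) (hτ : ∀ r, τ (algebraMap R Ω r) = residue T (algebraMap R T r))

section

variable {C : Type u} [CommRing C] [Algebra R C] [Algebra.Etale R C] (γ : C →ₐ[R] Ω)

include hτ in
theorem exists_liftLoc' :
    ∃ χ : Loc γ →ₐ[R] T, ∀ x, residue T (χ x) = τ (γLoc γ x) := by
  let β : C →ₐ[R] ResidueField T :=
    { τ.comp γ.toRingHom with
      commutes' := fun r => by
        show τ (γ (algebraMap R C r)) = _
        rw [γ.commutes, hτ]
        rfl }
  have hβ : ∀ c, β c = τ (γ c) := fun _ => rfl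
  obtain ⟨χ, hχ⟩ := exists_lift_of_etale' β
  have hunit : ∀ y : (pt γ).primeCompl, IsUnit (χ (y : C)) := by
    intro y
    by_contra hnu
    have h2 : χ (y : C) ∈ maximalIdeal T := (mem_maximalIdeal _).2 hnu
    rw [← residue_eq_zero_iff, hχ, hβ, map_eq_zero] at h2
    exact y.2 h2
  let χq : Loc γ →ₐ[R] T := IsLocalization.liftAlgHom (M := (pt γ).primeCompl) (f := χ) hunit
  have hχq : ∀ c, χq (algebraMap C _ c) = χ c := fun c => by simp [χq]
  refine ⟨χq, ?_⟩
  have : ((residue T).comp χq.toRingHom) = τ.comp (γLoc γ).toRingHom := by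
    apply IsLocalization.ringHom_ext (pt γ).primeCompl
    ext c
    simp only [RingHom.comp_apply, AlgHom.toRingHom_eq_coe, RingHom.coe_coe]
    rw [hχq, hχ, hβ, γLoc_algebraMap]
  intro x
  exact congr($this x)

/-- The lift of a local ring of a pointed étale algebra to a henselian local ring. -/
def liftLoc' : Loc γ →ₐ[R] T := (exists_liftLoc' τ hτ γ).choose

lemma residue_liftLoc' (x : Loc γ) : residue T (liftLoc' τ hτ γ x) = τ (γLoc γ x) :=
  (exists_liftLoc' τ hτ γ).choose_spec x

lemma liftLoc_unique' (ψ : Loc γ →ₐ[R] T) (hψ : ∀ x, residue T (ψ x) = τ (γLoc γ x)) :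
    ψ = liftLoc' τ hτ γ :=
  EssEt.algHom_eq_of_residue_eq _ _ (fun x => by rw [hψ, residue_liftLoc'])

end

/-- The lift of `Hens R Ω` to a henselian local ring, as a ring hom. -/
def liftRing' : Hens R Ω →+* T :=
  Ring.DirectLimit.lift (fun i : Idx R Ω => i.L) (fun _ _ h => (Idx.trans h : _ → _)) T
    (fun i => (liftLoc' τ hτ i.γ).toRingHom) (fun i j h x => by
      have : (liftLoc' τ hτ j.γ).comp (Idx.trans h) = liftLoc' τ hτ i.γ :=
        liftLoc_unique' τ hτ i.γ _ (fun x => by
          rw [AlgHom.comp_apply, residue_liftLoc', Idx.γLoc_trans])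
      exact congr($this x))

lemma liftRing_of' (i : Idx R Ω) (x : i.L) :
    liftRing' τ hτ (Hens.of i x) = liftLoc' τ hτ i.γ x :=
  Ring.DirectLimit.lift_of (G := fun i : Idx R Ω => i.L)
    (f := fun _ _ h => (Idx.trans h : _ → _)) T _ _ i x

/-- The lift of `Hens R Ω` to a henselian local ring. -/
def lift' : Hens R Ω →ₐ[R] T :=
  { liftRing' τ hτ with
    commutes' := fun r => by
      rw [Hens.algebraMap_eq (Classical.arbitrary _) r]
      show liftRing' τ hτ (Hens.of _ _) = _
      rw [liftRing_of', AlgHom.commutes] }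

lemma lift_of' (i : Idx R Ω) (x : i.L) :
    lift' τ hτ (Hens.of i x) = liftLoc' τ hτ i.γ x :=
  liftRing_of' τ hτ i x

lemma residue_lift' (z : Hens R Ω) : residue T (lift' τ hτ z) = τ (Hens.γ z) := by
  obtain ⟨i, x, rfl⟩ := Hens.exists_of z
  rw [lift_of', residue_liftLoc', Hens.γ_of]

end Groth.Agent.Helper5.EtStH
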