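import Mathlib

/-!
# Values of étale algebras in field extensions are separable
-/

set_option autoImplicit false

namespace Groth.Agent.Helper5.EtStH

open TensorProduct

/-- the values of an étale `R`-algebra in a field extension `Ω` of a field `k` over `R` are
separable over `k` -/
theorem isSeparable_of_etale {R C k Ω : Type*} [CommRing R] [CommRing C] [Algebra R C]
    [Algebra.Etale R C] [Field k] [Field Ω] [Algebra R k] [Algebra k Ω] [Algebra R Ω]
    [IsScalarTower R k Ω] (β : C →ₐ[R] Ω) (c : C) : IsSeparable k (β c) := by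
  let β' : k ⊗[R] C →ₐ[k] Ω :=
    Algebra.TensorProduct.lift (Algebra.ofId k Ω) β (fun _ _ => Commute.all _ _)
  have hβ' : β' (1 ⊗ₜ c) = β c := by
    show Algebra.TensorProduct.lift (Algebra.ofId k Ω) β _ (1 ⊗ₜ c) = β c
    rw [Algebra.TensorProduct.lift_tmul, map_one, one_mul]
  haveI : (RingHom.ker β').IsPrime := RingHom.ker_isPrime _
  have hinj : Function.Injective (Ideal.kerLiftAlg β') := Ideal.kerLiftAlg_injective β'
  have h1 : IsSeparable k (Ideal.Quotient.mk (RingHom.ker β') ((1 : k) ⊗ₜ[R] c)) :=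
    Algebra.IsSeparable.isSeparable k _
  have h2 : Ideal.kerLiftAlg β' (Ideal.Quotient.mk (RingHom.ker β') ((1 : k) ⊗ₜ[R] c)) = β c := by
    rw [Ideal.kerLiftAlg_mk, hβ']
  rw [← h2]
  unfold IsSeparable at h1 ⊢
  rw [minpoly.algHom_eq _ hinj]
  exact h1

end Groth.Agent.Helper5.EtStH
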