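import Mathlib

/-!
# Flatness of a ring exhausted by flat stages
-/

set_option autoImplicit false

namespace Groth.Agent.Helper5.EtStH

universe u v w

/-- a ring which is the "filtered union" of the images of flat algebras (with relations already
witnessed at a later stage) is flat -/
theorem flat_of_stages {R : Type u} {T : Type v} [CommRing R] [CommRing T] [Algebra R T]
    {J : Type w} (C : J → Type u) [∀ j, CommRing (C j)] [∀ j, Algebra R (C j)]
    [∀ j, Module.Flat R (C j)] (g : ∀ j, C j →ₐ[R] T)
    (h1 : ∀ s : Finset T, ∃ j, (s : Set T) ⊆ Set.range (g j))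
    (h2 : ∀ j (c : C j), g j c = 0 →
      ∃ (j' : J) (t : C j →ₐ[R] C j'), (∀ x, g j' (t x) = g j x) ∧ t c = 0) :
    Module.Flat R T := by
  classical
  apply Module.Flat.of_forall_isTrivialRelation
  intro l f x hx
  obtain ⟨j, hj⟩ := h1 (Finset.univ.image x)
  have hmem : ∀ i, x i ∈ Set.range (g j) := fun i =>
    hj (Finset.mem_coe.2 (Finset.mem_image_of_mem x (Finset.mem_univ i)))
  choose c hc using hmem
  have h0 : g j (∑ i, f i • c i) = 0 := by
    rw [map_sum, ← hx]
    refine Finset.sum_congr rfl fun i _ => ?_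
    rw [map_smul, hc]
  obtain ⟨j', t, ht, ht0⟩ := h2 j _ h0
  have hrel : ∑ i, f i • t (c i) = 0 := by
    rw [← ht0, map_sum]
    refine Finset.sum_congr rfl fun i _ => ?_
    rw [map_smul]
  obtain ⟨k, a, y, hy1, hy2⟩ := Module.Flat.isTrivialRelation_of_sum_smul_eq_zero
    (R := R) (M := C j') (f := f) (x := fun i => t (c i)) hrel
  refine ⟨k, a, fun m => g j' (y m), ?_, hy2⟩
  intro i
  have hy1i : t (c i) = ∑ m, a i m • y m := hy1 i
  rw [← hc i, ← ht, hy1i, map_sum]
  refine Finset.sum_congr rfl fun m _ => ?_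
  rw [map_smul]

end Groth.Agent.Helper5.EtStH
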