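import Mathlib
import Groth.Prelude.Def_Hensel
import Groth.Agent.Helper1.HensStrict
import Groth.Agent.Helper1.FlatUnram
import Groth.Agent.Helper5.EtStH2
import Groth.Agent.Helper5.EtStH3
import Groth.Agent.Helper5.EtStH4

/-!
# A strictly henselian local ring exhausted by étale stages is a strict henselization
-/

set_option autoImplicit false
set_option linter.dupNamespace false
set_option linter.style.haveILetI false

universe u v w

namespace Groth.Agent.Helper5.EtStH

open IsLocalRing Groth.Agent.Helper1.Hens Groth.Agent.Helper1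

set_option maxHeartbeats 800000 in
theorem exists_strictHenselization_equiv
    {R : Type u} [CommRing R] (𝔭 : Ideal R) [𝔭.IsPrime]
    (A : Type u) [CommRing A] [IsLocalRing A] [Algebra R A] [IsLocalization.AtPrime A 𝔭]
    (St : Type v) [CommRing St] [HenselianLocalRing St] [IsSepClosed (ResidueField St)]
    [Small.{u} (ResidueField St)]
    (ρ : R →+* St) (hρ : ∀ r, IsUnit (ρ r) ↔ r ∉ 𝔭)
    {J : Type w} (C : J → Type u) [∀ j, CommRing (C j)] [∀ j, Algebra R (C j)]
    [∀ j, Algebra.Etale R (C j)]
    (g : ∀ j, C j →+* St) (hg : ∀ j r, g j (algebraMap R (C j) r) = ρ r)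
    (h1 : ∀ s : Finset St, ∃ j, (s : Set St) ⊆ Set.range (g j))
    (h2 : ∀ j (c : C j), g j c = 0 →
      ∃ (j' : J) (t : C j →ₐ[R] C j'), (∀ x, g j' (t x) = g j x) ∧ t c = 0) :
    ∃ (H : Type u) (_ : CommRing H) (_ : IsLocalRing H) (_ : Algebra A H)
      (_ : IsLocalHom (algebraMap A H)) (_ : Hensel.IsStrictHenselization A H),
      Nonempty (St ≃+* H) := by
  classical
  -- Step 1: the map `A → St`
  have hunit : ∀ y : 𝔭.primeCompl, IsUnit (ρ y) := fun y => (hρ y).2 y.2
  let ιA : A →+* St := IsLocalization.lift (M := 𝔭.primeCompl) (g := ρ) hunit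
  have hιA : ∀ r, ιA (algebraMap R A r) = ρ r := fun r => IsLocalization.lift_eq _ r
  haveI hloc : IsLocalHom ιA := by
    constructor
    intro a ha
    obtain ⟨⟨r, s⟩, hrs⟩ := IsLocalization.surj 𝔭.primeCompl a
    have hs : IsUnit (ιA (algebraMap R A s)) := by rw [hιA]; exact hunit s
    have h3 : IsUnit (ρ r) := by
      rw [← hιA, ← hrs, map_mul]
      exact ha.mul hs
    have hr : r ∉ 𝔭 := (hρ r).1 h3
    have h4 : IsUnit (algebraMap R A r) :=
      IsLocalization.map_units A (⟨r, hr⟩ : 𝔭.primeCompl)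
    rw [← hrs] at h4
    exact isUnit_of_mul_isUnit_left h4
  -- Step 2: the residue field
  obtain ⟨Ω, _, ⟨eΩ⟩⟩ : ∃ (Ω : Type u) (_ : Field Ω), Nonempty (Ω ≃+* ResidueField St) :=
    ⟨Shrink.{u} (ResidueField St), inferInstance, ⟨Shrink.ringEquiv _⟩⟩
  letI algASt : Algebra A St := ιA.toAlgebra
  letI algRSt : Algebra R St := ρ.toAlgebra
  haveI towRASt : IsScalarTower R A St := IsScalarTower.of_algebraMap_eq (fun r => (hιA r).symm)
  letI algAΩ : Algebra A Ω := (eΩ.symm.toRingHom.comp ((residue St).comp ιA)).toAlgebra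
  letI algκΩ : Algebra (ResidueField A) Ω :=
    (eΩ.symm.toRingHom.comp (ResidueField.map ιA)).toAlgebra
  haveI towAκΩ : IsScalarTower A (ResidueField A) Ω := IsScalarTower.of_algebraMap_eq (fun a => by
    show eΩ.symm (residue St (ιA a)) = eΩ.symm (ResidueField.map ιA (residue A a))
    rw [ResidueField.map_residue])
  letI algRΩ : Algebra R Ω := ((algebraMap A Ω).comp (algebraMap R A)).toAlgebra
  haveI towRAΩ : IsScalarTower R A Ω := IsScalarTower.of_algebraMap_eq (fun r => rfl)
  haveI towRκΩ : IsScalarTower R (ResidueField A) Ω := IsScalarTower.of_algebraMap_eq (fun r => by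
    show algebraMap A Ω (algebraMap R A r) = algebraMap (ResidueField A) Ω
      (algebraMap R (ResidueField A) r)
    rw [IsScalarTower.algebraMap_apply A (ResidueField A) Ω]
    rfl)
  haveI sepΩ : IsSepClosed Ω := isSepClosed_of_ringEquiv eΩ.symm
  -- the residue maps of the stages
  have hβcomm : ∀ j r, eΩ.symm (residue St (g j (algebraMap R (C j) r))) = algebraMap R Ω r := by
    intro j r
    rw [hg]
    show _ = eΩ.symm (residue St (ιA (algebraMap R A r)))
    rw [hιA]
  let β : ∀ j, C j →ₐ[R] Ω := fun j =>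
    { eΩ.symm.toRingHom.comp ((residue St).comp (g j)) with
      commutes' := hβcomm j }
  have hβ : ∀ j c, β j c = eΩ.symm (residue St (g j c)) := fun j c => rfl
  have hex : ∀ b : St, ∃ j c, g j c = b := by
    intro b
    obtain ⟨j, hj⟩ := h1 {b}
    obtain ⟨c, hc⟩ := hj (show b ∈ ((({b} : Finset St)) : Set St) by simp)
    exact ⟨j, c, hc⟩
  -- Step 3: separability
  haveI sepκ : Algebra.IsSeparable (ResidueField A) Ω := by
    constructor
    intro ω
    obtain ⟨b, hb⟩ := residue_surjective (eΩ ω)
    obtain ⟨j, c, hc⟩ := hex b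
    have h := isSeparable_of_etale (k := ResidueField A) (β j) c
    rw [hβ, hc, hb, RingEquiv.symm_apply_apply] at h
    exact h
  haveI : IsSepClosure (ResidueField A) Ω := ⟨sepΩ, sepκ⟩
  -- Step 4: the comparison map
  let τ : Ω →+* ResidueField St := eΩ.toRingHom
  have hτ : ∀ a, τ (algebraMap A Ω a) = residue St (algebraMap A St a) := by
    intro a
    show eΩ (eΩ.symm (residue St (ιA a))) = residue St (ιA a)
    rw [RingEquiv.apply_symm_apply]
  let ψ : Hens A Ω →ₐ[A] St := lift' τ hτ
  have hψres : ∀ z, residue St (ψ z) = eΩ (Hens.γ z) := fun z => residue_lift' τ hτ z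
  -- Step 5: surjectivity
  letI algRH : Algebra R (Hens A Ω) := ((algebraMap A (Hens A Ω)).comp (algebraMap R A)).toAlgebra
  haveI towRAH : IsScalarTower R A (Hens A Ω) := IsScalarTower.of_algebraMap_eq (fun r => rfl)
  have hsurj : Function.Surjective ψ := by
    intro b
    obtain ⟨j, c, hc⟩ := hex b
    let βH₀ : C j →+* ResidueField (Hens A Ω) :=
      ((Hens.resEquiv A Ω).symm : Ω →+* ResidueField (Hens A Ω)).comp (β j : C j →+* Ω)
    have hβH₀ : ∀ x, Hens.resEquiv A Ω (βH₀ x) = β j x := fun x =>
      (Hens.resEquiv A Ω).apply_symm_apply _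
    let βH : C j →ₐ[R] ResidueField (Hens A Ω) :=
      { βH₀ with
        commutes' := by
          intro r
          apply (Hens.resEquiv A Ω).injective
          show Hens.resEquiv A Ω (βH₀ (algebraMap R (C j) r)) = _
          rw [hβH₀, (β j).commutes]
          show _ = Hens.resEquiv A Ω (residue _ (algebraMap A (Hens A Ω) (algebraMap R A r)))
          rw [Hens.resEquiv_residue, Hens.γ_algebraMap]
          rfl }
    obtain ⟨χ, hχ⟩ := EssEt.exists_lift_of_etale βH
    have hχγ : ∀ x, Hens.γ (χ x) = β j x := by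
      intro x
      rw [← Hens.resEquiv_residue, hχ]
      exact hβH₀ x
    let Φ₁ : C j →ₐ[R] St := (ψ.restrictScalars R).comp χ
    let Φ₂ : C j →ₐ[R] St := { g j with commutes' := hg j }
    have hΦ : Φ₁ = Φ₂ := by
      apply EssEt.algHom_eq_of_residue_eq
      intro x
      show residue St (ψ (χ x)) = residue St (g j x)
      rw [hψres, hχγ, hβ, RingEquiv.apply_symm_apply]
    refine ⟨χ c, ?_⟩
    have := congr($hΦ c)
    rw [← hc]
    exact this
  -- Step 6: flatness
  haveI flatR : Module.Flat R St :=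
    flat_of_stages C (fun j => ({ g j with commutes' := hg j } : C j →ₐ[R] St)) h1 h2
  haveI flatA : Module.Flat A St := (Module.flat_iff_of_isLocalization A 𝔭.primeCompl St).2 flatR
  -- Step 7: injectivity
  have hinj : Function.Injective ψ := by
    rw [injective_iff_map_eq_zero]
    intro z hz
    obtain ⟨i, x, rfl⟩ := Hens.exists_of z
    let ψi : i.L →ₐ[A] St := ψ.comp (Hens.ofAlg i)
    letI : Algebra i.L St := ψi.toRingHom.toAlgebra
    haveI : Module.Flat i.L St := FlatUnram.flat_of_algHom ψi
    haveI : IsLocalHom (algebraMap i.L St) := by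
      constructor
      intro y hy
      have h5 : IsUnit (residue St (ψ (Hens.of i y))) := hy.map (residue St)
      rw [hψres, Hens.γ_of, isUnit_iff_ne_zero, Ne, map_eq_zero] at h5
      exact (isUnit_iff_γLoc_ne_zero i.γ y).2 h5
    haveI : Module.FaithfullyFlat i.L St := Module.FaithfullyFlat.of_flat_of_isLocalHom
    have h6 : algebraMap i.L St x = 0 := hz
    have h7 : x = 0 := by
      apply FaithfulSMul.algebraMap_injective i.L St
      rw [h6, map_zero]
    rw [h7, map_zero]
  exact ⟨Hens A Ω, inferInstance, inferInstance, inferInstance, inferInstance, inferInstance,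
    ⟨(RingEquiv.ofBijective ψ ⟨hinj, hsurj⟩).symm⟩⟩

end Groth.Agent.Helper5.EtStH
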