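import Groth.Agent.Helper5.EtSt4
import Groth.Agent.Helper5.EtStH5
import Mathlib

set_option autoImplicit false
set_option linter.style.haveILetI false
universe u
open CategoryTheory CategoryTheory.Limits AlgebraicGeometry Opposite

namespace Groth.Agent.Helper5.EtStH

open AlgSp Groth.Agent.Helper4 Groth.Agent.Helper5.EtPt Groth.Agent.Helper5.EtSt

variable {S : Scheme.{u}}

set_option backward.isDefEq.respectTransparency false

/-- the value of a function at a `K`-point is nonzero iff the point lies in the basic open -/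
theorem evSch_ne_zero_iff {K : Type u} [Field K] {Y : Scheme.{u}}
    (l : Spec (CommRingCat.of K) ⟶ Y) (s : Γ(Y, ⊤)) :
    evSch l s ≠ 0 ↔ l (default : ↥(Spec (CommRingCat.of K))) ∈ Y.basicOpen s := by
  constructor
  · intro h
    exact range_subset_basicOpen l s h ⟨_, rfl⟩
  · intro h h0
    have h1 : l.appTop.hom s = 0 := by
      have : (Scheme.ΓSpecIso (CommRingCat.of K)).hom.hom (l.appTop.hom s) = 0 := h0
      have h2 := congrArg (Scheme.ΓSpecIso (CommRingCat.of K)).inv.hom this
      rw [map_zero] at h2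
      have h3 : (Scheme.ΓSpecIso (CommRingCat.of K)).inv.hom
          ((Scheme.ΓSpecIso (CommRingCat.of K)).hom.hom (l.appTop.hom s)) = l.appTop.hom s := by
        show ((Scheme.ΓSpecIso (CommRingCat.of K)).hom ≫
          (Scheme.ΓSpecIso (CommRingCat.of K)).inv).hom (l.appTop.hom s) = _
        rw [Iso.hom_inv_id]
        rfl
      rw [h3] at h2
      exact h2
    have h4 : (default : ↥(Spec (CommRingCat.of K))) ∈ l ⁻¹ᵁ Y.basicOpen s := h
    rw [Scheme.preimage_basicOpen_top] at h4
    have h5 : (Spec (CommRingCat.of K)).basicOpen (l.appTop.hom s) = ⊥ := by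
      rw [h1]
      exact Scheme.basicOpen_zero _ _
    rw [h5] at h4
    exact h4

variable (X : Space S) (p : FieldPt X.obj) (hp : p.IsGeometric)

/-- sections over an object of the small étale site, as elements of the étale local ring -/
noncomputable def gm (U : EtOver X.obj) (l : (FieldPt.liftsTo p).obj U) :
    Γ(U.obj.left.left, ⊤) →+* ↥(St X p hp) :=
  (germ X p hp U l).hom.comp
    (ULift.ringEquiv.{u, u + 1} (R := Γ(U.obj.left.left, ⊤))).symm.toRingHom

theorem ev_gm (U : EtOver X.obj) (l : (FieldPt.liftsTo p).obj U) (s : Γ(U.obj.left.left, ⊤)) :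
    ev X p hp (gm X p hp U l s) = evSch l.1.left s :=
  ev_germ X p hp U l _

theorem gm_map {W U : EtOver X.obj} (g : W ⟶ U) (w : (FieldPt.liftsTo p).obj W)
    (l : (FieldPt.liftsTo p).obj U) (hg : (FieldPt.liftsTo p).map g w = l)
    (s : Γ(U.obj.left.left, ⊤)) :
    gm X p hp W w (g.hom.left.left.appTop.hom s) = gm X p hp U l s :=
  germ_map X p hp g w l hg (ULift.up s)

theorem exists_gm_eq (a : ↥(St X p hp)) :
    ∃ (U : EtOver X.obj) (l : (FieldPt.liftsTo p).obj U) (s : Γ(U.obj.left.left, ⊤)),
      gm X p hp U l s = a := by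
  obtain ⟨U, l, s, rfl⟩ := (etPoint X p hp).toPresheafFiber_jointly_surjective
    (P := (OEt X.obj).obj) a
  exact ⟨U, l, (show ULift.{u + 1} Γ(U.obj.left.left, ⊤) from s).down, rfl⟩

theorem gm_eq_zero (U : EtOver X.obj) (l : (FieldPt.liftsTo p).obj U)
    (s : Γ(U.obj.left.left, ⊤)) (h : gm X p hp U l s = 0) :
    ∃ (W : EtOver X.obj) (g : W ⟶ U) (w : (FieldPt.liftsTo p).obj W),
      (FieldPt.liftsTo p).map g w = l ∧ g.hom.left.left.appTop.hom s = 0 := by
  have h0 : (etPoint X p hp).toPresheafFiber U l (OEt X.obj).obj (ULift.up s) =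
      (etPoint X p hp).toPresheafFiber U l (OEt X.obj).obj (ULift.up 0) := by
    have e1 : (etPoint X p hp).toPresheafFiber U l (OEt X.obj).obj (ULift.up s) =
        gm X p hp U l s := rfl
    have e2 : (etPoint X p hp).toPresheafFiber U l (OEt X.obj).obj (ULift.up 0) =
        gm X p hp U l 0 := rfl
    rw [e1, e2, h, map_zero]
  rw [(etPoint X p hp).toPresheafFiber_eq_iff'] at h0
  obtain ⟨W, g, w, hw, hres⟩ := h0
  refine ⟨W, g, w, hw, ?_⟩
  have := congrArg ULift.down hres
  exact this.trans (map_zero g.hom.left.left.appTop.hom)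

end Groth.Agent.Helper5.EtStH
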