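import Groth.Agent.Helper5.EtStH6
import Mathlib

set_option autoImplicit false
set_option linter.style.haveILetI false
universe u
open CategoryTheory CategoryTheory.Limits AlgebraicGeometry Opposite

namespace Groth.Agent.Helper5.EtStH

open AlgSp Groth.Agent.Helper4 Groth.Agent.Helper5.EtPt Groth.Agent.Helper5.EtSt IsLocalRing

variable {S : Scheme.{u}}

set_option backward.isDefEq.respectTransparency false

variable (X : Space S) (p : FieldPt X.obj) (hp : p.IsGeometric)

/-- affine refinements of an étale neighbourhood of the geometric point -/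
structure AffRef (E : EtOver X.obj) (l : (FieldPt.liftsTo p).obj E) where
  W : EtOver X.obj
  w : (FieldPt.liftsTo p).obj W
  g : W ⟶ E
  hg : (FieldPt.liftsTo p).map g w = l
  hW : IsAffine W.obj.left.left

variable {X p}

/-- the image of the geometric point in a neighbourhood -/
noncomputable abbrev basePt (E : EtOver X.obj) (l : (FieldPt.liftsTo p).obj E) :
    ↥E.obj.left.left :=
  l.1.left (default : ↥(Spec (CommRingCat.of p.K)))

/-- the same, as a point of the open `⊤` -/
noncomputable abbrev basePtTop (E : EtOver X.obj) (l : (FieldPt.liftsTo p).obj E) :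
    ↥(⊤ : E.obj.left.left.Opens) :=
  ⟨basePt E l, trivial⟩

theorem range_gm (U : EtOver X.obj) (l : (FieldPt.liftsTo p).obj U) :
    Set.range (gm X p hp U l) = Set.range (germ X p hp U l).hom := by
  ext a
  constructor
  · rintro ⟨s, rfl⟩
    exact ⟨ULift.up s, rfl⟩
  · rintro ⟨s, rfl⟩
    exact ⟨(show ULift.{u + 1} Γ(U.obj.left.left, ⊤) from s).down, rfl⟩

/-- every neighbourhood is dominated by an affine refinement of a given one -/
theorem exists_affRef (E : EtOver X.obj) (l : (FieldPt.liftsTo p).obj E)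
    (U' : EtOver X.obj) (l' : (FieldPt.liftsTo p).obj U') :
    ∃ (j : AffRef X p E l) (h : j.W ⟶ U'), (FieldPt.liftsTo p).map h j.w = l' := by
  obtain ⟨⟨W₁, w₁⟩, ⟨f₁, hf₁⟩, ⟨f₂, hf₂⟩, -⟩ := cone_objs X p ⟨U', l'⟩ ⟨E, l⟩
  obtain ⟨W, w, g₀, hg₀, hW⟩ := exists_affine_refinement X p W₁ w₁
  have hf₁' : (FieldPt.liftsTo p).map f₁ w₁ = l' := hf₁
  have hf₂' : (FieldPt.liftsTo p).map f₂ w₁ = l := hf₂
  refine ⟨⟨W, w, g₀ ≫ f₂, ?_, hW⟩, g₀ ≫ f₁, ?_⟩
  · rw [FunctorToTypes.map_comp_apply, hg₀, hf₂']
  · show (FieldPt.liftsTo p).map (g₀ ≫ f₁) w = l'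
    rw [FunctorToTypes.map_comp_apply, hg₀, hf₁']

theorem small_residueField_St :
    haveI := isLocalRing_St X p hp
    Small.{u} (ResidueField ↥(St X p hp)) := by
  haveI := isLocalRing_St X p hp
  haveI : IsLocalHom (ev X p hp) :=
    ⟨fun a ha => isUnit_of_ev_ne_zero X p hp a ha.ne_zero⟩
  let ι : ResidueField ↥(St X p hp) →+* p.K := ResidueField.lift (ev X p hp)
  exact small_of_injective ι.injective

set_option maxHeartbeats 800000 in
/-- the étale local ring at a geometric point is a strict henselization of the local ring of any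
affine étale neighbourhood -/
theorem exists_strictHenselization_affine (E : EtOver X.obj) (l : (FieldPt.liftsTo p).obj E)
    [IsAffine E.obj.left.left] :
    ∃ (H : Type u) (_ : CommRing H) (_ : IsLocalRing H)
      (_ : Algebra ↥(E.obj.left.left.presheaf.stalk (basePt E l)) H)
      (_ : IsLocalHom (algebraMap ↥(E.obj.left.left.presheaf.stalk (basePt E l)) H))
      (_ : Hensel.IsStrictHenselization ↥(E.obj.left.left.presheaf.stalk (basePt E l)) H),
      Nonempty (↥(St X p hp) ≃+* H) := by
  classical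
  have hE : IsAffineOpen (⊤ : E.obj.left.left.Opens) := isAffineOpen_top E.obj.left.left
  letI algRA : Algebra Γ(E.obj.left.left, ⊤) ↥(E.obj.left.left.presheaf.stalk (basePt E l)) :=
    E.obj.left.left.presheaf.algebra_section_stalk
      (basePtTop E l)
  haveI hlocz : IsLocalization.AtPrime ↥(E.obj.left.left.presheaf.stalk (basePt E l))
      (hE.primeIdealOf (basePtTop E l)).asIdeal :=
    hE.isLocalization_stalk (basePtTop E l)
  haveI := henselian_St X p hp
  haveI := isSepClosed_residueField_St X p hp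
  haveI := small_residueField_St (X := X) (p := p) hp
  have hρ : ∀ r : Γ(E.obj.left.left, ⊤), IsUnit (gm X p hp E l r) ↔
      r ∉ (hE.primeIdealOf (basePtTop E l)).asIdeal := by
    intro r
    rw [isUnit_iff_ev_ne_zero, ev_gm, evSch_ne_zero_iff, Scheme.mem_basicOpen_top]
    exact IsLocalization.AtPrime.isUnit_to_map_iff _
      (hE.primeIdealOf (basePtTop E l)).asIdeal r
  letI algs : ∀ j : AffRef X p E l, Algebra Γ(E.obj.left.left, ⊤) Γ(j.W.obj.left.left, ⊤) :=
    fun j => j.g.hom.left.left.appTop.hom.toAlgebra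
  haveI ets : ∀ j : AffRef X p E l, Algebra.Etale Γ(E.obj.left.left, ⊤) Γ(j.W.obj.left.left, ⊤) := by
    intro j
    haveI := j.hW
    haveI : Etale j.g.hom.left.left := EtOver.etale_left j.g
    exact HasRingHomProperty.appTop (P := @Etale) j.g.hom.left.left inferInstance
  refine exists_strictHenselization_equiv
    (hE.primeIdealOf (basePtTop E l)).asIdeal
    ↥(E.obj.left.left.presheaf.stalk (basePt E l))
    ↥(St X p hp) (gm X p hp E l) hρ (J := AffRef X p E l)
    (fun j => Γ(j.W.obj.left.left, ⊤)) (fun j => gm X p hp j.W j.w) ?_ ?_ ?_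
  · intro j r
    exact gm_map X p hp j.g j.w l j.hg r
  · intro T
    obtain ⟨U', l', hT⟩ := exists_nbhd_of_finset X p hp T
    obtain ⟨j, h, hh⟩ := exists_affRef E l U' l'
    refine ⟨j, ?_⟩
    rw [range_gm]
    exact hT.trans (range_germ_mono X p hp h j.w l' hh)
  · intro j c hc
    obtain ⟨W', g', w', hw', hres⟩ := gm_eq_zero X p hp j.W j.w c hc
    obtain ⟨W'', w'', g₀, hg₀, hW''⟩ := exists_affine_refinement X p W' w'
    have hlift : (FieldPt.liftsTo p).map (g₀ ≫ g') w'' = j.w := by
      rw [FunctorToTypes.map_comp_apply, hg₀, hw']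
    have hlift' : (FieldPt.liftsTo p).map ((g₀ ≫ g') ≫ j.g) w'' = l := by
      rw [FunctorToTypes.map_comp_apply, hlift, j.hg]
    let j' : AffRef X p E l := ⟨W'', w'', (g₀ ≫ g') ≫ j.g, hlift', hW''⟩
    let t : Γ(j.W.obj.left.left, ⊤) →ₐ[Γ(E.obj.left.left, ⊤)] Γ(j'.W.obj.left.left, ⊤) :=
      { (g₀ ≫ g').hom.left.left.appTop.hom with
        commutes' := by
          intro r
          show (g₀ ≫ g').hom.left.left.appTop.hom (j.g.hom.left.left.appTop.hom r) =
            ((g₀ ≫ g') ≫ j.g).hom.left.left.appTop.hom r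
          have : ((g₀ ≫ g') ≫ j.g).hom.left.left =
              (g₀ ≫ g').hom.left.left ≫ j.g.hom.left.left := rfl
          rw [this, Scheme.Hom.comp_appTop]
          rfl }
    refine ⟨j', t, ?_, ?_⟩
    · intro x
      exact gm_map X p hp (g₀ ≫ g') w'' j.w hlift x
    · show (g₀ ≫ g').hom.left.left.appTop.hom c = 0
      have : (g₀ ≫ g').hom.left.left = g₀.hom.left.left ≫ g'.hom.left.left := rfl
      rw [this, Scheme.Hom.comp_appTop]
      show g₀.hom.left.left.appTop.hom (g'.hom.left.left.appTop.hom c) = 0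
      rw [hres, map_zero]

end Groth.Agent.Helper5.EtStH
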