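import Mathlib
import Groth.Prelude.Def_Hensel

/-!
# Transport of strict henselizations along an isomorphism of the base
-/

set_option autoImplicit false
set_option linter.style.haveILetI false

universe u

namespace Groth.Agent.Helper5.EtStH

open IsLocalRing

/-- a strict henselization of `A'` is a strict henselization of any ring isomorphic to `A'` -/
theorem isStrictHenselization_of_ringEquiv {A A' H : Type u} [CommRing A] [IsLocalRing A]
    [CommRing A'] [IsLocalRing A'] [CommRing H] [IsLocalRing H] [Algebra A' H]
    [IsLocalHom (algebraMap A' H)] [hH : Hensel.IsStrictHenselization A' H] (e : A ≃+* A') :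
    ∃ (_ : Algebra A H) (_ : IsLocalHom (algebraMap A H)), Hensel.IsStrictHenselization A H := by
  letI algAH : Algebra A H := ((algebraMap A' H).comp e.toRingHom).toAlgebra
  have halg : ∀ a, algebraMap A H a = algebraMap A' H (e a) := fun a => rfl
  haveI locAH : IsLocalHom (algebraMap A H) := by
    constructor
    intro a ha
    rw [halg] at ha
    have h1 : IsUnit (e a) := isUnit_of_map_unit (algebraMap A' H) _ ha
    exact (isUnit_map_iff e a).1 h1
  refine ⟨algAH, locAH, ?_⟩
  haveI : IsLocalHom (e : A →+* A') := ⟨fun a ha => (isUnit_map_iff e a).1 ha⟩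
  haveI : IsLocalHom (e.symm : A' →+* A) := ⟨fun a ha => (isUnit_map_iff e.symm a).1 ha⟩
  have hsc := hH.isSepClosure
  refine ⟨hH.henselian, ⟨hsc.sep_closed, ?_⟩, ?_⟩
  · haveI := hsc.separable
    refine Algebra.IsSeparable.of_equiv_equiv (A₁ := ResidueField A') (B₁ := ResidueField H)
      (ResidueField.mapEquiv e.symm) (RingEquiv.refl _) ?_
    ext x
    obtain ⟨a', rfl⟩ := residue_surjective x
    show algebraMap (ResidueField A) (ResidueField H) (ResidueField.mapEquiv e.symm (residue A' a')) =
      algebraMap (ResidueField A') (ResidueField H) (residue A' a')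
    have h1 : ResidueField.mapEquiv e.symm (residue A' a') = residue A (e.symm a') := rfl
    rw [h1, ResidueField.algebraMap_residue, ResidueField.algebraMap_residue, halg,
      RingEquiv.apply_symm_apply]
  · intro T _ _ f hf τ hτ
    let f' : A' →+* T := f.comp (e.symm : A' →+* A)
    haveI : IsLocalHom f' := by
      constructor
      intro a' ha'
      have h1 : IsUnit (e.symm a') := isUnit_of_map_unit f _ ha'
      exact (isUnit_map_iff e.symm a').1 h1
    have hτ' : τ.comp (ResidueField.map (algebraMap A' H)) = ResidueField.map f' := by
      ext x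
      obtain ⟨a', rfl⟩ := residue_surjective x
      have h1 := congrArg (fun m => m (residue A (e.symm a'))) hτ
      simp only [RingHom.comp_apply, ResidueField.map_residue] at h1 ⊢
      rw [halg, RingEquiv.apply_symm_apply] at h1
      exact h1
    obtain ⟨g, ⟨hg1, hg2⟩, hguniq⟩ := hH.universal T f' τ hτ'
    refine ⟨g, ⟨?_, hg2⟩, ?_⟩
    · ext a
      have h1 := congrArg (fun m => m (e a)) hg1
      simp only [RingHom.comp_apply] at h1
      show g (algebraMap A H a) = f a
      rw [halg, h1]
      show f (e.symm (e a)) = f a
      rw [RingEquiv.symm_apply_apply]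
    · rintro g' ⟨hg'1, hg'2⟩
      apply hguniq
      refine ⟨?_, hg'2⟩
      ext a'
      have h1 := congrArg (fun m => m (e.symm a')) hg'1
      simp only [RingHom.comp_apply] at h1
      rw [halg, RingEquiv.apply_symm_apply] at h1
      exact h1

end Groth.Agent.Helper5.EtStH
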