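import Groth.Agent.Helper5.EtStH7
import Groth.Agent.Helper5.EtStH8
import Groth.Agent.Helper5.AlgSpGeomLift
import Mathlib

set_option autoImplicit false
set_option linter.style.haveILetI false
universe u
open CategoryTheory CategoryTheory.Limits AlgebraicGeometry Opposite

namespace Groth.Agent.Helper5.EtStH

open AlgSp Groth.Agent.Helper4 Groth.Agent.Helper5.EtPt Groth.Agent.Helper5.EtSt IsLocalRing

variable {S : Scheme.{u}}

set_option backward.isDefEq.respectTransparency false

set_option maxHeartbeats 800000 in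
/-- the étale local ring at a geometric point is a strict henselization of the local ring of any
étale chart at a point over it -/
theorem exists_strictHenselization_chart (X : Space S) (p : FieldPt X.obj) (hp : p.IsGeometric)
    {U : Over S} (a : (yon S).obj U ⟶ X.obj) (hae : RepWith @Etale a) (u : ↥U.left)
    (hu : Points.ofPt a u = Points.mk p) :
    ∃ (H : Type u) (_ : CommRing H) (_ : IsLocalRing H)
      (_ : Algebra ↥(U.left.presheaf.stalk u) H)
      (_ : IsLocalHom (algebraMap ↥(U.left.presheaf.stalk u) H))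
      (_ : Hensel.IsStrictHenselization ↥(U.left.presheaf.stalk u) H),
      Nonempty (↥(OEtStalk p) ≃+* H) := by
  haveI : IsAlgClosed p.K := hp
  obtain ⟨c, hc1, hc2⟩ := Groth.Agent.Helper5.AlgSpGeomLift.exists_lift_through_chart a hae p.K
    p.str p.toHom (default : ↥(Spec (CommRingCat.of p.K))) u
    (by rw [hu, Points.ofPt_toHom])
  let l₀ : (FieldPt.liftsTo p).obj (EtOver.mk a hae) := ⟨c, hc1⟩
  obtain ⟨V, hV, hmem⟩ : ∃ V : U.left.Opens, IsAffineOpen V ∧ u ∈ V := by
    obtain ⟨_, ⟨V, hV, rfl⟩, hmem, -⟩ :=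
      U.left.isBasis_affineOpens.exists_subset_of_mem_open (Set.mem_univ u) isOpen_univ
    exact ⟨V, hV, hmem⟩
  have hr : Set.range l₀.1.left ⊆ (V : Set ↥U.left) := by
    rintro _ ⟨x, rfl⟩
    have hx : x = (default : ↥(Spec (CommRingCat.of p.K))) :=
      Subsingleton.elim (α := ↥(Spec (CommRingCat.of p.K))) x default
    rw [hx]
    show c.left (default : ↥(Spec (CommRingCat.of p.K))) ∈ V
    rw [hc2]
    exact hmem
  obtain ⟨lV, hlV⟩ := exists_lift_openObj X p (EtOver.mk a hae) l₀ V hr
  haveI hVaff : IsAffine (openObj (EtOver.mk a hae) V).obj.left.left := hV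
  obtain ⟨H, i1, i2, i3, i4, i5, ⟨eq⟩⟩ :=
    exists_strictHenselization_affine (X := X) (p := p) hp (openObj (EtOver.mk a hae) V) lV
  have hpt : V.ι (basePt (openObj (EtOver.mk a hae) V) lV) = u := by
    have h1 := congrArg (fun m => m.1.left (default : ↥(Spec (CommRingCat.of p.K)))) hlV
    exact h1.trans hc2
  subst hpt
  let es : ↥(U.left.presheaf.stalk (V.ι (basePt (openObj (EtOver.mk a hae) V) lV))) ≃+*
      ↥((openObj (EtOver.mk a hae) V).obj.left.left.presheaf.stalk
        (basePt (openObj (EtOver.mk a hae) V) lV)) :=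
    (asIso (V.ι.stalkMap (basePt (openObj (EtOver.mk a hae) V) lV))).commRingCatIsoToRingEquiv
  obtain ⟨j1, j2, j3⟩ := isStrictHenselization_of_ringEquiv (H := H) es
  exact ⟨H, i1, i2, j1, j2, j3, ⟨eq⟩⟩

end Groth.Agent.Helper5.EtStH
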