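import Groth.Agent.Helper5.TraceAdd

set_option autoImplicit false
open LinearMap IsLocalRing Module

namespace Groth.Agent.Helper5.TraceAdd

section exact
variable {k : Type*} [Field k] {V' V V'' : Type*} [AddCommGroup V'] [Module k V'] [AddCommGroup V]
  [Module k V] [AddCommGroup V''] [Module k V''] [FiniteDimensional k V]

/-- additivity of the trace in a short exact sequence of endomorphisms -/
theorem trace_eq_add_of_exact (i : V' →ₗ[k] V) (π : V →ₗ[k] V'')
    (hi : Function.Injective i) (hπ : Function.Surjective π) (hex : Function.Exact i π)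
    (f' : V' →ₗ[k] V') (f : V →ₗ[k] V) (f'' : V'' →ₗ[k] V'')
    (h1 : i ∘ₗ f' = f ∘ₗ i) (h2 : π ∘ₗ f = f'' ∘ₗ π) :
    trace k V f = trace k V' f' + trace k V'' f'' := by
  have hW : LinearMap.range i ≤ (LinearMap.range i).comap f := by
    rintro _ ⟨x, rfl⟩
    exact ⟨f' x, LinearMap.congr_fun h1 x⟩
  rw [trace_eq_restrict_add_mapQ f (LinearMap.range i) hW]
  congr 1
  · let e : V' ≃ₗ[k] LinearMap.range i := LinearEquiv.ofInjective i hi
    rw [← trace_conj' f' e]
    congr 1
    ext ⟨_, x, rfl⟩
    simp only [LinearEquiv.conj_apply, coe_comp, LinearEquiv.coe_coe, Function.comp_apply,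
      coe_restrict_apply]
    have : e.symm ⟨i x, ⟨x, rfl⟩⟩ = x := by
      rw [LinearEquiv.symm_apply_eq]; rfl
    rw [this]
    exact (LinearMap.congr_fun h1 x).symm
  · have hker : LinearMap.ker π = LinearMap.range i := (LinearMap.exact_iff.1 hex)
    let e : (V ⧸ LinearMap.range i) ≃ₗ[k] V'' :=
      (Submodule.quotEquivOfEq _ _ hker.symm).trans (π.quotKerEquivOfSurjective hπ)
    rw [← trace_conj' _ e]
    congr 1
    apply LinearMap.ext
    intro y
    obtain ⟨x, rfl⟩ := hπ y
    have hx : e.symm (π x) = Submodule.Quotient.mk x := by
      rw [LinearEquiv.symm_apply_eq]; rfl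
    simp only [LinearEquiv.conj_apply, coe_comp, LinearEquiv.coe_coe, Function.comp_apply, hx,
      Submodule.mapQ_apply]
    exact LinearMap.congr_fun h2 x

end exact

section local_ring
variable (k : Type*) [Field k] (C : Type*) [CommRing C] [Algebra k C] [IsLocalRing C]
  {M : Type*} [AddCommGroup M] [Module C M] [Module k M] [IsScalarTower k C M]

/-- multiplication by `c` as a `k`-linear endomorphism of a `C`-submodule -/
abbrev mulOn (c : C) (p : Submodule C M) : p →ₗ[k] p := Algebra.lsmul k k p c

variable {k C}

theorem trace_mulOn_residueField (c : C) :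
    trace k (ResidueField C) (Algebra.lsmul k k (ResidueField C) c) =
      Algebra.trace k (ResidueField C) (residue C c) := by
  rw [Algebra.trace_apply]
  congr 1

theorem CovBy.trace_mulOn [FiniteDimensional k M] (c : C) {p q : Submodule C M} (h : p ⋖ q) :
    trace k q (mulOn k C c q) =
      trace k p (mulOn k C c p) + Algebra.trace k (ResidueField C) (residue C c) := by
  let f : p →ₗ[C] q := Submodule.inclusion h.le
  have key : IsSimpleModule C (q ⧸ LinearMap.range f) := by
    rwa [Submodule.range_inclusion, ← covBy_iff_quot_is_simple h.le]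
  obtain ⟨m, hm, ⟨e⟩⟩ := isSimpleModule_iff_quot_maximal.mp key
  rw [eq_maximalIdeal hm] at e
  let g : q →ₗ[C] ResidueField C := e.toLinearMap.comp (LinearMap.range f).mkQ
  have hf : Function.Injective f := Submodule.inclusion_injective _
  have hg : Function.Surjective g := e.surjective.comp (LinearMap.range f).mkQ_surjective
  have hex : Function.Exact f g :=
    LinearMap.exact_iff.mpr ((e.ker_comp (LinearMap.range f).mkQ).trans (LinearMap.range f).ker_mkQ)
  rw [← trace_mulOn_residueField]
  have : FiniteDimensional k q :=
    FiniteDimensional.of_injective (q.subtype.restrictScalars k) Subtype.val_injective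
  refine trace_eq_add_of_exact (f.restrictScalars k) (g.restrictScalars k) hf hg hex _ _ _ ?_ ?_
  · ext x
    simp
  · ext x
    simp

variable (k) in
/-- The trace over `k` of multiplication by `c` on a module of finite length over a local
`k`-algebra is the length times the trace of the residue class. -/
theorem trace_lsmul_eq_length_smul [FiniteDimensional k M] (c : C) :
    trace k M (Algebra.lsmul k k M c) =
      (Module.length C M).toNat • Algebra.trace k (ResidueField C) (residue C c) := by
  have hfl : IsFiniteLength C M := by
    rw [isFiniteLength_iff_isNoetherian_isArtinian]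
    exact ⟨isNoetherian_of_tower k inferInstance, isArtinian_of_tower k inferInstance⟩
  obtain ⟨s, hs_bot, hs_top⟩ := isFiniteLength_iff_exists_compositionSeries.mp hfl
  rw [← Module.length_compositionSeries s hs_bot hs_top]
  have key : ∀ i : Fin (s.length + 1), trace k (s i) (mulOn k C c (s i)) =
      (i : ℕ) • Algebra.trace k (ResidueField C) (residue C c) := by
    intro i
    induction i using Fin.induction with
    | zero =>
      have h0 : s 0 = ⊥ := hs_bot
      have : Subsingleton (s 0) := by rw [h0]; infer_instance
      have hz : mulOn k C c (s 0) = 0 := Subsingleton.elim _ _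
      rw [hz, map_zero]; simp
    | succ i hi =>
      rw [CovBy.trace_mulOn c (s.step i), hi]
      simp [add_smul]
  have hlast := key (Fin.last s.length)
  have htop : s (Fin.last s.length) = ⊤ := hs_top
  simp only [Fin.val_last] at hlast
  rw [ENat.toNat_natCast, ← hlast]
  -- transport along `⊤ ≃ M`
  have gen : ∀ p : Submodule C M, p = ⊤ →
      trace k M (Algebra.lsmul k k M c) = trace k p (mulOn k C c p) := by
    rintro p rfl
    let e : (⊤ : Submodule C M) ≃ₗ[k] M := (Submodule.topEquiv (R := C) (M := M)).restrictScalars k
    rw [← trace_conj' (mulOn k C c ⊤) e]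
    congr 1
  exact gen _ htop

end local_ring

end Groth.Agent.Helper5.TraceAdd
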