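import Groth.Agent.Helper5.InfStd4
import Mathlib

set_option autoImplicit false
set_option linter.style.haveILetI false
set_option linter.unusedSectionVars false
set_option linter.unusedVariables false
universe u
open CategoryTheory CategoryTheory.Limits AlgebraicGeometry Opposite TopologicalSpace

namespace Groth.Agent.Helper5.FEt

open AlgSp Groth.Agent.Helper4 Groth.Agent.Helper5.InfStd

/-- the pullback of an ideal sheaf of square zero along a morphism of affine schemes has square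
zero -/
theorem comap_mul_self_eq_bot {V V₁ : Scheme.{u}} [IsAffine V] [IsAffine V₁] (ρ : V₁ ⟶ V)
    (K : V.IdealSheafData) (hK : K * K = ⊥) : K.comap ρ * K.comap ρ = ⊥ := by
  let φ : Γ(V, ⊤) →+* Γ(V₁, ⊤) := ρ.appTop.hom
  let K' : V₁.IdealSheafData :=
    Scheme.IdealSheafData.ofIdealTop ((K.ideal ⟨⊤, isAffineOpen_top V⟩).map φ)
  have hK'top : K'.ideal ⟨⊤, isAffineOpen_top V₁⟩ = (K.ideal ⟨⊤, isAffineOpen_top V⟩).map φ := by
    have := (Scheme.IdealSheafData.equivOfIsAffine (X := V₁)).right_inv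
      ((K.ideal ⟨⊤, isAffineOpen_top V⟩).map φ)
    exact this
  have h1 : K ≤ K'.map ρ := by
    apply Scheme.IdealSheafData.le_of_isAffine
    rw [Scheme.IdealSheafData.ideal_map K' ρ ⟨⊤, isAffineOpen_top V⟩ (isAffineOpen_top V₁)]
    intro x hx
    rw [Ideal.mem_comap]
    have : (ρ.app ⊤).hom x ∈ (K.ideal ⟨⊤, isAffineOpen_top V⟩).map φ := Ideal.mem_map_of_mem φ hx
    rw [← hK'top] at this
    exact this
  have h2 : K.comap ρ ≤ K' := Scheme.IdealSheafData.le_map_iff_comap_le.mp h1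
  have h3 : K' * K' = ⊥ := by
    apply Scheme.IdealSheafData.ext_of_isAffine
    rw [Scheme.IdealSheafData.ideal_mul, Pi.mul_apply, hK'top, ← Ideal.map_mul]
    have : K.ideal ⟨⊤, isAffineOpen_top V⟩ * K.ideal ⟨⊤, isAffineOpen_top V⟩ = ⊥ := by
      have h4 := congrArg (fun L : V.IdealSheafData => L.ideal ⟨⊤, isAffineOpen_top V⟩) hK
      simpa using h4
    rw [this, Ideal.map_bot]
    rfl
  have h4 : K.comap ρ * K.comap ρ ≤ K' * K' := mul_le_mul h2 h2 bot_le bot_le
  rw [h3] at h4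
  exact le_bot_iff.mp h4

/-- square-zero closed immersions are stable under base change between affine schemes -/
theorem sqZero_of_isPullback {W V W₁ V₁ : Scheme.{u}} (snd : W ⟶ V) (ρ : V₁ ⟶ V)
    (fst₁ : W₁ ⟶ W) (snd₁ : W₁ ⟶ V₁) (sq : IsPullback fst₁ snd₁ snd ρ) [IsClosedImmersion snd]
    [IsAffine V] [IsAffine V₁] (h : sqZero snd) : sqZero snd₁ := by
  have e1 : sq.flip.isoPullback.hom ≫ pullback.fst ρ snd = snd₁ := sq.flip.isoPullback_hom_fst
  have e2 : snd₁.ker = snd.ker.comap ρ := by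
    rw [← e1, Scheme.Hom.ker_comp_of_isIso, Scheme.IdealSheafData.ker_fst_of_isClosedImmersion]
  show snd₁.ker * snd₁.ker = ⊥
  rw [e2]
  exact comap_mul_self_eq_bot ρ snd.ker h

end Groth.Agent.Helper5.FEt
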