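import Groth.Agent.Helper5.FEt9
import Mathlib

set_option autoImplicit false
set_option linter.style.haveILetI false
set_option linter.unusedSectionVars false
set_option linter.unusedVariables false
universe u
open CategoryTheory CategoryTheory.Limits AlgebraicGeometry Opposite TopologicalSpace

namespace Groth.Agent.Helper5.FEt

open AlgSp Groth.Agent.Helper4 Groth.Agent.Helper5.InfStd

variable {S : Scheme.{u}}

set_option backward.isDefEq.respectTransparency.types false in
/-- a formally unramified morphism of schemes over `S` induces a formally unramified morphism of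
sheaves -/
theorem isFormallyUnramifiedMor_yon_map_of_hom {U V : Over S} (h : U ⟶ V)
    (hh : FormallyUnramified h.left) : IsFormallyUnramifiedMor ((yon S).map h) := by
  intro sq l l' h1 h2 h3 h4
  obtain ⟨l₀, rfl⟩ := (yon S).map_surjective l
  obtain ⟨l'₀, rfl⟩ := (yon S).map_surjective l'
  have e1 : sq.j ≫ l₀ = sq.j ≫ l'₀ := (yon S).map_injective (by
    rw [Functor.map_comp, Functor.map_comp, h1, h3])
  have e2 : l₀ ≫ h = l'₀ ≫ h := (yon S).map_injective (by
    rw [Functor.map_comp, Functor.map_comp, h2, h4])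
  haveI : IsClosedImmersion sq.j.left := (thick_j sq).1
  have hnil : IsNilpotent sq.j.left.ker := ⟨2, by rw [pow_two]; exact sqZero_j sq⟩
  have : l₀.left = l'₀.left :=
    FormallyUnramified.hom_ext sq.j.left hnil h.left
      (by rw [← Over.comp_left, ← Over.comp_left, e1])
      (by rw [← Over.comp_left, ← Over.comp_left, e2])
  congr 1
  ext
  exact this

set_option backward.isDefEq.respectTransparency.types false in
theorem formallyUnramified_of_yon_map {U V : Over S} (h : U ⟶ V)
    (hh : IsFormallyUnramifiedMor ((yon S).map h)) : FormallyUnramified h.left := by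
  refine FormallyUnramified.of_hom_ext h.left ?_
  intro R R' φ hφ hker g₁ g₂ hg hgf
  obtain ⟨A, instA, rfl⟩ : ∃ (A : Type u) (i : CommRing A), R = @CommRingCat.of A i :=
    ⟨R, inferInstance, rfl⟩
  -- reduce to the standard quotient
  let I : Ideal A := RingHom.ker φ.hom
  let ψ : A ⧸ I ≃+* R' := RingHom.quotientKerEquivOfSurjective hφ
  have hφψ : φ = CommRingCat.ofHom (Ideal.Quotient.mk I) ≫ CommRingCat.ofHom ψ.toRingHom := by
    apply CommRingCat.hom_ext
    ext x
    rfl
  have hepi : Epi (Spec.map (CommRingCat.ofHom ψ.toRingHom)) := by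
    haveI : IsIso (CommRingCat.ofHom ψ.toRingHom) :=
      ⟨⟨CommRingCat.ofHom ψ.symm.toRingHom, by
        apply CommRingCat.hom_ext; ext x; exact ψ.symm_apply_apply x, by
        apply CommRingCat.hom_ext; ext x; exact ψ.apply_symm_apply x⟩⟩
    infer_instance
  have hg' : Spec.map (CommRingCat.ofHom (Ideal.Quotient.mk I)) ≫ g₁ =
      Spec.map (CommRingCat.ofHom (Ideal.Quotient.mk I)) ≫ g₂ := by
    rw [hφψ, Spec.map_comp, Category.assoc, Category.assoc] at hg
    exact (cancel_epi _).mp hg
  let str : Spec (CommRingCat.of A) ⟶ S := g₁ ≫ U.hom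
  have hstr : g₂ ≫ U.hom = str := by
    show g₂ ≫ U.hom = g₁ ≫ U.hom
    rw [← CategoryTheory.Over.w h, ← Category.assoc, ← Category.assoc, hgf]
  let l₁ : Over.mk str ⟶ U := Over.homMk g₁ rfl
  let l₂ : Over.mk str ⟶ U := Over.homMk g₂ hstr
  let sq : InfSq ((yon S).map h) :=
    { A := A
      I := I
      sq_zero := hker
      str := str
      top := (yon S).map ((Over.homMk (Spec.map (CommRingCat.ofHom (Ideal.Quotient.mk I))) rfl :
        Over.mk (Spec.map (CommRingCat.ofHom (Ideal.Quotient.mk I)) ≫ str) ⟶ Over.mk str) ≫ l₁)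
      bot := (yon S).map (l₁ ≫ h)
      comm := by
        rw [← Functor.map_comp, ← Functor.map_comp, Category.assoc] }
  have key : (yon S).map l₁ = (yon S).map l₂ := by
    refine hh sq ((yon S).map l₁) ((yon S).map l₂) ?_ ?_ ?_ ?_
    · exact ((yon S).map_comp _ _).symm
    · exact ((yon S).map_comp _ _).symm
    · show (yon S).map sq.j ≫ (yon S).map l₂ = (yon S).map (sq.j ≫ l₁)
      rw [← Functor.map_comp]
      congr 1
      ext
      exact hg'.symm
    · show (yon S).map l₂ ≫ (yon S).map h = (yon S).map (l₁ ≫ h)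
      rw [← Functor.map_comp]
      congr 1
      ext
      exact hgf.symm
  have := congrArg (fun m => m.left) ((yon S).map_injective key)
  exact this

theorem unramified_comp' {F G H : Sp S} (a : F ⟶ G) (b : G ⟶ H)
    (ha : IsFormallyUnramifiedMor a) (hb : IsFormallyUnramifiedMor b) :
    IsFormallyUnramifiedMor (a ≫ b) := by
  intro sq l l' h1 h2 h3 h4
  have e : l ≫ a = l' ≫ a := by
    refine hb (sqRight a b sq) (l ≫ a) (l' ≫ a) ?_ ?_ ?_ ?_
    · rw [← Category.assoc]; exact congrArg (· ≫ a) h1
    · rw [Category.assoc]; exact h2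
    · rw [← Category.assoc]; exact congrArg (· ≫ a) h3
    · rw [Category.assoc]; exact h4
  have hl : (yon S).map sq.j ≫ (l ≫ a) = sq.top ≫ a := by
    rw [← Category.assoc]; exact congrArg (· ≫ a) h1
  exact ha (sqLeft a b sq (l ≫ a) hl) l l' h1 rfl h3 e.symm

/-- the one-diagram criterion for formal unramifiedness -/
theorem unramified_of_one_diagram {X Y : Sp S} (f : X ⟶ Y) {U V : Over S}
    (a : (yon S).obj U ⟶ X) (b : (yon S).obj V ⟶ Y) (h : U ⟶ V)
    (ha : RepWith @Etale a) (ha' : RepWith @Surjective a) (hb : RepWith @Etale b)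
    (comm : a ≫ f = (yon S).map h ≫ b) (hh : FormallyUnramified h.left) :
    IsFormallyUnramifiedMor f := by
  have h1 := isFormallyUnramifiedMor_yon_map_of_hom h hh
  have h2 := unramified_comp' ((yon S).map h) b h1
    (unramified_of_etale b (isFormallyEtaleMor_of_repWith_etale b hb))
  rw [← comm] at h2
  exact unramified_of_comp a f ha ha' h2

theorem locP_of_unramified {X Y : Sp S} (f : X ⟶ Y) (hf : IsFormallyUnramifiedMor f) :
    LocP @FormallyUnramified f := by
  intro U V a b h ha hb comm
  apply formallyUnramified_of_yon_map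
  exact unramified_of_charts f a b ((yon S).map h) comm.symm hf
    (unramified_of_etale a (isFormallyEtaleMor_of_repWith_etale a ha))

theorem s10621 {X Y : AlgSp.Space S} (f : X ⟶ Y) :
    (AlgSp.IsFormallyUnramifiedMor f.hom ↔ AlgSp.LocP @FormallyUnramified f.hom) ∧
    (∀ (U V : Over S) (a : (AlgSp.yon S).obj U ⟶ X.obj) (b : (AlgSp.yon S).obj V ⟶ Y.obj) (h : U ⟶ V),
      AlgSp.RepWith @Etale a → AlgSp.RepWith @Surjective a → AlgSp.RepWith @Etale b →
      AlgSp.RepWith @Surjective b →
      a ≫ f.hom = (AlgSp.yon S).map h ≫ b → FormallyUnramified h.left →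
        AlgSp.IsFormallyUnramifiedMor f.hom) := by
  refine ⟨⟨locP_of_unramified f.hom, fun hloc => ?_⟩, ?_⟩
  · obtain ⟨U, V, a, b, h, hae, has, hbe, hbs, comm⟩ :=
      exists_surj_diagram X.property Y.property f.hom
    exact unramified_of_one_diagram f.hom a b h hae has hbe comm (hloc a b h hae hbe comm)
  · intro U V a b h hae has hbe hbs comm hh
    exact unramified_of_one_diagram f.hom a b h hae has hbe comm hh

end Groth.Agent.Helper5.FEt
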