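import Groth.Agent.Helper5.FEt1
import Groth.Agent.Lead.EtThick
import Mathlib

set_option autoImplicit false
set_option linter.style.haveILetI false
set_option linter.unusedSectionVars false
set_option linter.unusedVariables false
universe u
open CategoryTheory CategoryTheory.Limits AlgebraicGeometry Opposite TopologicalSpace

namespace Groth.Agent.Helper5.FEt

open AlgSp Groth.Agent.Helper4 Groth.Agent.Helper5.InfStd

variable {S : Scheme.{u}}

/-- thickenings of square zero are stable under base change between affine schemes over `S` -/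
theorem thick_sqZero_of_isPullback {W V W₁ V₁ : Over S} (snd : W ⟶ V) (ρ : V₁ ⟶ V)
    (fst₁ : W₁ ⟶ W) (snd₁ : W₁ ⟶ V₁) (sq : IsPullback fst₁ snd₁ snd ρ)
    (hV : IsAffine V.left) (hV₁ : IsAffine V₁.left) (h1 : thick snd.left) (h2 : sqZero snd.left) :
    thick snd₁.left ∧ sqZero snd₁.left := by
  have sql : IsPullback fst₁.left snd₁.left snd.left ρ.left := sq.map (Over.forget S)
  haveI : IsClosedImmersion snd.left := h1.1
  exact ⟨MorphismProperty.of_isPullback (P := thick) sql h1,
    sqZero_of_isPullback snd.left ρ.left fst₁.left snd₁.left sql h2⟩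

set_option backward.isDefEq.respectTransparency.types false in
/-- a representable etale morphism of sheaves has exactly one lift along every thickening of
schemes -/
theorem existsUnique_lift_of_repWith_etale {F G : Sp S} (a : F ⟶ G) (ha : RepWith @Etale a)
    {V' W : Over S} (snd : W ⟶ V') (h1 : thick snd.left) (top' : (yon S).obj W ⟶ F)
    (bot' : (yon S).obj V' ⟶ G) (comm : top' ≫ a = (yon S).map snd ≫ bot') :
    ∃! l : (yon S).obj V' ⟶ F, (yon S).map snd ≫ l = top' ∧ l ≫ a = bot' := by
  have hrep := ha.rep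
  have sqP := hrep.isPullback bot'
  haveI hE : Etale (hrep.snd bot').left := ha.property _ _ _ sqP
  generalize hrep.fst bot' = fstP at sqP
  generalize hrep.snd bot' = sndP at sqP hE
  generalize hrep.pullback bot' = P at fstP sndP sqP hE
  haveI : IsClosedImmersion snd.left := h1.1
  haveI : Surjective snd.left := h1.2
  obtain ⟨σ₀, hσ₀⟩ := (yon S).map_surjective (sqP.lift top' ((yon S).map snd) comm)
  have hσ1 : (yon S).map σ₀ ≫ fstP = top' := by rw [hσ₀, sqP.lift_fst]
  have hσ2 : σ₀ ≫ sndP = snd := (yon S).map_injective (by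
    rw [Functor.map_comp, hσ₀, sqP.lift_snd])
  have hσ2l : σ₀.left ≫ sndP.left = snd.left := by rw [← Over.comp_left, hσ2]
  -- sections of `sndP` restricting to `σ₀`
  have key : ∀ l : (yon S).obj V' ⟶ F, ((yon S).map snd ≫ l = top' ∧ l ≫ a = bot') →
      ∃ s : V' ⟶ P, (yon S).map s ≫ fstP = l ∧ s ≫ sndP = 𝟙 _ ∧ snd ≫ s = σ₀ := by
    rintro l ⟨hl1, hl2⟩
    obtain ⟨s, hs⟩ := (yon S).map_surjective (sqP.lift l (𝟙 _) (by rw [hl2, Category.id_comp]))
    have hs1 : (yon S).map s ≫ fstP = l := by rw [hs, sqP.lift_fst]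
    have hs2 : (yon S).map s ≫ (yon S).map sndP = 𝟙 _ := by rw [hs, sqP.lift_snd]
    refine ⟨s, hs1, (yon S).map_injective (by
      rw [Functor.map_comp, hs2, CategoryTheory.Functor.map_id]), ?_⟩
    apply (yon S).map_injective
    apply sqP.hom_ext
    · rw [Functor.map_comp, Category.assoc, hs1, hl1, hσ1]
    · rw [Functor.map_comp, Category.assoc, hs2, Category.comp_id, ← Functor.map_comp, hσ2]
  -- existence
  have hex : ∃ l : (yon S).obj V' ⟶ F, (yon S).map snd ≫ l = top' ∧ l ≫ a = bot' := by
    obtain ⟨s₀, hs1, hs2⟩ := Groth.Agent.Lead.EtThick.exists_lift snd.left sndP.left (𝟙 V'.left)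
      (pullback.snd (𝟙 V'.left) snd.left ≫ σ₀.left) (by rw [Category.assoc, hσ2l])
    have hcond : pullback.fst (𝟙 V'.left) snd.left = pullback.snd (𝟙 V'.left) snd.left ≫ snd.left := by
      have := pullback.condition (f := 𝟙 V'.left) (g := snd.left)
      rw [Category.comp_id] at this
      exact this
    have hs3 : snd.left ≫ s₀ = σ₀.left := by
      rw [hcond, Category.assoc] at hs2
      exact (cancel_epi (pullback.snd (𝟙 V'.left) snd.left)).mp hs2
    let s : V' ⟶ P := Over.homMk s₀ (by
      rw [← CategoryTheory.Over.w sndP, ← Category.assoc, hs1, Category.id_comp])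
    have hss : s ≫ sndP = 𝟙 _ := by
      ext
      exact hs1
    have hss2 : snd ≫ s = σ₀ := by
      ext
      exact hs3
    refine ⟨(yon S).map s ≫ fstP, ?_, ?_⟩
    · rw [← Category.assoc, ← Functor.map_comp, hss2, hσ1]
    · rw [Category.assoc, sqP.w, ← Category.assoc, ← Functor.map_comp, hss,
        CategoryTheory.Functor.map_id, Category.id_comp]
  obtain ⟨l, hl⟩ := hex
  refine ⟨l, hl, fun l' hl' => ?_⟩
  obtain ⟨s, hs1, hs2, hs3⟩ := key l hl
  obtain ⟨s', hs1', hs2', hs3'⟩ := key l' hl'
  have : s'.left = s.left := by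
    refine Groth.Agent.Lead.EtThick.hom_ext_of_surjective snd.left sndP.left s'.left s.left ?_ ?_
    · rw [← Over.comp_left, ← Over.comp_left, hs3, hs3']
    · rw [← Over.comp_left, ← Over.comp_left, hs2, hs2']
  have hss : s' = s := by
    ext
    exact this
  rw [← hs1', ← hs1, hss]

end Groth.Agent.Helper5.FEt
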