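import Groth.Agent.Helper5.FEt3
import Groth.Agent.Helper4.EtaleLift
import Mathlib

set_option autoImplicit false
set_option linter.style.haveILetI false
set_option linter.unusedSectionVars false
set_option linter.unusedVariables false
universe u
open CategoryTheory CategoryTheory.Limits AlgebraicGeometry Opposite TopologicalSpace
open scoped TensorProduct

namespace Groth.Agent.Helper5.FEt

open AlgSp Groth.Agent.Helper4 Groth.Agent.Helper5.InfStd

variable {S : Scheme.{u}}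

set_option backward.isDefEq.respectTransparency.types false in
set_option maxHeartbeats 800000 in
/-- chart lifting: for a representable surjective etale `a : F ⟶ G` and an infinitesimal square
for `b : G ⟶ H`, every point of `T'` has an affine etale neighbourhood `U'` such that the top arrow
lifts to `F` on the pulled back thickening. -/
theorem exists_chart {F G H : Sp S} (a : F ⟶ G) {b : G ⟶ H} (ha : RepWith @Etale a)
    (ha' : RepWith @Surjective a) (sq : InfSq b) (t : ↥sq.ptT'.left) :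
    ∃ (U' W₁ : Over S) (g : U' ⟶ sq.ptT') (fst₁ : W₁ ⟶ sq.ptT) (snd₁ : W₁ ⟶ U')
      (top₁ : (yon S).obj W₁ ⟶ F),
      IsAffine U'.left ∧ Etale g.left ∧ (∃ u : ↥U'.left, g.left u = t) ∧
      IsPullback fst₁ snd₁ sq.j g ∧ top₁ ≫ a = (yon S).map fst₁ ≫ sq.top := by
  have hrep := ha.rep
  have sqQ := hrep.isPullback sq.top
  have hE : Etale (hrep.snd sq.top).left := ha.property _ _ _ sqQ
  have hSj : Surjective (hrep.snd sq.top).left := ha'.property _ _ _ sqQ
  generalize hrep.fst sq.top = fstQ at sqQ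
  generalize hrep.snd sq.top = sndQ at sqQ hE hSj
  generalize hrep.pullback sq.top = Q at fstQ sndQ sqQ hE hSj
  obtain ⟨t₀, ht₀⟩ := (thick_j sq).2.surj t
  obtain ⟨q, hq⟩ := hSj.surj t₀
  obtain ⟨Q₁, hQ₁, hqQ₁, -⟩ := (Opens.isBasis_iff_nbhd.mp Q.left.isBasis_affineOpens)
    (show q ∈ (⊤ : Q.left.Opens) from trivial)
  have hQ₁ : IsAffineOpen Q₁ := hQ₁
  let φ' : Spec Γ(Q.left, Q₁) ⟶ Spec (CommRingCat.of (sq.A ⧸ sq.I)) := hQ₁.fromSpec ≫ sndQ.left
  let φb : CommRingCat.of (sq.A ⧸ sq.I) ⟶ Γ(Q.left, Q₁) := Spec.preimage φ'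
  have hφb : Spec.map φb = hQ₁.fromSpec ≫ sndQ.left := Spec.map_preimage φ'
  have hφbe : Etale (Spec.map φb) := by
    rw [hφb]
    haveI := hE
    infer_instance
  have hφbet : φb.hom.Etale := (HasRingHomProperty.Spec_iff (P := @Etale)).mp hφbe
  letI : Algebra (sq.A ⧸ sq.I) Γ(Q.left, Q₁) := φb.hom.toAlgebra
  haveI : Algebra.Etale (sq.A ⧸ sq.I) Γ(Q.left, Q₁) := RingHom.etale_algebraMap.mp hφbet
  obtain ⟨B, _, _, hB, ⟨e⟩⟩ :=
    Groth.Agent.Helper4.EtaleLift.exists_etale_lift sq.A sq.I Γ(Q.left, Q₁)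
  let ιB : CommRingCat.of sq.A ⟶ CommRingCat.of B := CommRingCat.ofHom (algebraMap sq.A B)
  let inl : CommRingCat.of (sq.A ⧸ sq.I) ⟶ CommRingCat.of ((sq.A ⧸ sq.I) ⊗[sq.A] B) :=
    CommRingCat.ofHom Algebra.TensorProduct.includeLeftRingHom
  let inr : CommRingCat.of B ⟶ CommRingCat.of ((sq.A ⧸ sq.I) ⊗[sq.A] B) :=
    CommRingCat.ofHom (Algebra.TensorProduct.includeRight (R := sq.A) (A := sq.A ⧸ sq.I)
      (B := B)).toRingHom
  have hpb : IsPullback (Spec.map inl) (Spec.map inr)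
      (Spec.map (CommRingCat.ofHom (Ideal.Quotient.mk sq.I))) (Spec.map ιB) :=
    isPullback_SpecMap_of_isPushout _ _ _ _
      (CommRingCat.isPushout_tensorProduct sq.A (sq.A ⧸ sq.I) B)
  let esym : Γ(Q.left, Q₁) ⟶ CommRingCat.of ((sq.A ⧸ sq.I) ⊗[sq.A] B) :=
    CommRingCat.ofHom (e.symm : Γ(Q.left, Q₁) →+* (sq.A ⧸ sq.I) ⊗[sq.A] B)
  let efw : CommRingCat.of ((sq.A ⧸ sq.I) ⊗[sq.A] B) ⟶ Γ(Q.left, Q₁) :=
    CommRingCat.ofHom (e : (sq.A ⧸ sq.I) ⊗[sq.A] B →+* Γ(Q.left, Q₁))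
  have hee : esym ≫ efw = 𝟙 _ := by
    apply CommRingCat.hom_ext
    ext x
    show e (e.symm x) = x
    exact e.apply_symm_apply x
  have hinl : φb ≫ esym = inl := by
    apply CommRingCat.hom_ext
    ext x
    show e.symm (algebraMap (sq.A ⧸ sq.I) Γ(Q.left, Q₁) x) = _
    rw [e.symm.commutes]
    rfl
  have hκl : (Spec.map esym ≫ hQ₁.fromSpec) ≫ sndQ.left = Spec.map inl := by
    rw [Category.assoc, ← hφb, ← Spec.map_comp, hinl]
  let U' : Over S := Over.mk (Spec.map ιB ≫ sq.str)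
  let g : U' ⟶ sq.ptT' := Over.homMk (Spec.map ιB) rfl
  let W₁ : Over S := Over.mk (Spec.map inl ≫ sq.ptT.hom)
  let fst₁ : W₁ ⟶ sq.ptT := Over.homMk (Spec.map inl) rfl
  let snd₁ : W₁ ⟶ U' := Over.homMk (Spec.map inr) (by
    show Spec.map inr ≫ Spec.map ιB ≫ sq.str =
      Spec.map inl ≫ Spec.map (CommRingCat.ofHom (Ideal.Quotient.mk sq.I)) ≫ sq.str
    rw [← Category.assoc, ← hpb.w, Category.assoc])
  have hw : fst₁ ≫ sq.j = snd₁ ≫ g := by
    ext
    exact hpb.w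
  have hpbO : IsPullback fst₁ snd₁ sq.j g :=
    IsPullback.of_map (Over.forget S) hw hpb
  let κ : W₁ ⟶ Q := Over.homMk (Spec.map esym ≫ hQ₁.fromSpec) (by
    rw [← CategoryTheory.Over.w sndQ, ← Category.assoc, hκl]
    rfl)
  have hκ : κ ≫ sndQ = fst₁ := by
    ext
    exact hκl
  refine ⟨U', W₁, g, fst₁, snd₁, (yon S).map κ ≫ fstQ, ?_, ?_, ?_, hpbO, ?_⟩
  · show IsAffine (Spec (CommRingCat.of B))
    infer_instance
  · show Etale (Spec.map ιB)
    exact (HasRingHomProperty.Spec_iff (P := @Etale)).mpr (RingHom.etale_algebraMap.mpr hB)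
  · have hq' : q ∈ Set.range hQ₁.fromSpec := by
      rw [hQ₁.range_fromSpec]
      exact hqQ₁
    obtain ⟨qb, hqb⟩ := hq'
    let w : ↥(Spec (CommRingCat.of ((sq.A ⧸ sq.I) ⊗[sq.A] B))) := (Spec.map efw) qb
    have hw1 : (Spec.map esym) w = qb := by
      show (Spec.map esym) ((Spec.map efw) qb) = qb
      rw [← Scheme.Hom.comp_apply, ← Spec.map_comp, hee, Spec.map_id]
      rfl
    refine ⟨(Spec.map inr) w, ?_⟩
    show (Spec.map ιB) ((Spec.map inr) w) = t
    rw [← Scheme.Hom.comp_apply, ← hpb.w, Scheme.Hom.comp_apply, ← hκl, Scheme.Hom.comp_apply,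
      Scheme.Hom.comp_apply, hw1, hqb, hq]
    exact ht₀
  · rw [Category.assoc, sqQ.w, ← Category.assoc, ← Functor.map_comp, hκ]

end Groth.Agent.Helper5.FEt
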