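import Groth.Agent.Helper5.FEt4
import Mathlib

set_option autoImplicit false
set_option linter.style.haveILetI false
set_option linter.unusedSectionVars false
set_option linter.unusedVariables false
universe u
open CategoryTheory CategoryTheory.Limits AlgebraicGeometry Opposite TopologicalSpace

namespace Groth.Agent.Helper5.FEt

open AlgSp Groth.Agent.Helper4 Groth.Agent.Helper5.InfStd

variable {S : Scheme.{u}}

theorem exists_point_of_isPullback_scheme {P X Y Z : Scheme.{u}} {fst : P ⟶ X} {snd : P ⟶ Y}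
    {f : X ⟶ Z} {g : Y ⟶ Z} (sq : IsPullback fst snd f g) (x : ↥X) (y : ↥Y) (h : f x = g y) :
    ∃ p : ↥P, fst p = x ∧ snd p = y := by
  obtain ⟨z, hz1, hz2⟩ := Scheme.Pullback.exists_preimage_pullback x y h
  refine ⟨sq.isoPullback.inv z, ?_, ?_⟩
  · rw [← Scheme.Hom.comp_apply, sq.isoPullback_inv_fst, hz1]
  · rw [← Scheme.Hom.comp_apply, sq.isoPullback_inv_snd, hz2]

section

variable {G H : Sp S} {b : G ⟶ H} (sq : InfSq b)

/-- `n` is a lift of the square `sq` over the scheme `ρ : V ⟶ T'` -/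
def IsLiftAt {V : Over S} (ρ : V ⟶ sq.ptT') (n : (yon S).obj V ⟶ G) : Prop :=
  n ≫ b = (yon S).map ρ ≫ sq.bot ∧
    ∀ (W : Over S) (p : W ⟶ sq.ptT) (q : W ⟶ V), p ≫ sq.j = q ≫ ρ →
      (yon S).map q ≫ n = (yon S).map p ≫ sq.top

variable {sq}

theorem IsLiftAt.restrict {V V₂ : Over S} {ρ : V ⟶ sq.ptT'} {n : (yon S).obj V ⟶ G}
    (h : IsLiftAt sq ρ n) (r : V₂ ⟶ V) : IsLiftAt sq (r ≫ ρ) ((yon S).map r ≫ n) := by
  refine ⟨?_, ?_⟩
  · rw [Category.assoc, h.1, Functor.map_comp, Category.assoc]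
  · intro W p q hc
    rw [← Category.assoc, ← Functor.map_comp]
    exact h.2 W p (q ≫ r) (by rw [hc, Category.assoc])

theorem isLiftAt_of_isPullback {V W₀ : Over S} {ρ : V ⟶ sq.ptT'} {p₀ : W₀ ⟶ sq.ptT}
    {q₀ : W₀ ⟶ V} (sqp : IsPullback p₀ q₀ sq.j ρ) {n : (yon S).obj V ⟶ G}
    (h1 : n ≫ b = (yon S).map ρ ≫ sq.bot)
    (h2 : (yon S).map q₀ ≫ n = (yon S).map p₀ ≫ sq.top) : IsLiftAt sq ρ n := by
  refine ⟨h1, ?_⟩
  intro W p q hc
  have e1 : sqp.lift p q hc ≫ p₀ = p := sqp.lift_fst _ _ _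
  have e2 : sqp.lift p q hc ≫ q₀ = q := sqp.lift_snd _ _ _
  rw [← e2, Functor.map_comp, Category.assoc, h2, ← Category.assoc, ← Functor.map_comp, e1]

theorem isLiftAt_id_iff (l : (yon S).obj sq.ptT' ⟶ G) :
    IsLiftAt sq (𝟙 _) l ↔ ((yon S).map sq.j ≫ l = sq.top ∧ l ≫ b = sq.bot) := by
  constructor
  · rintro ⟨h1, h2⟩
    refine ⟨?_, ?_⟩
    · have := h2 sq.ptT (𝟙 _) sq.j (by rw [Category.id_comp, Category.comp_id])
      rw [CategoryTheory.Functor.map_id, Category.id_comp] at this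
      exact this
    · rw [h1, CategoryTheory.Functor.map_id, Category.id_comp]
  · rintro ⟨h1, h2⟩
    have sqp : IsPullback (𝟙 sq.ptT) sq.j sq.j (𝟙 sq.ptT') :=
      IsPullback.of_horiz_isIso ⟨by rw [Category.id_comp, Category.comp_id]⟩
    refine isLiftAt_of_isPullback sqp ?_ ?_
    · rw [h2, CategoryTheory.Functor.map_id, Category.id_comp]
    · rw [h1, CategoryTheory.Functor.map_id, Category.id_comp]

set_option backward.isDefEq.respectTransparency.types false in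
/-- uniqueness of lifts over arbitrary schemes over `T'`, for a formally unramified morphism -/
theorem IsLiftAt.unique (hb : IsFormallyUnramifiedMor b) {V : Over S} {ρ : V ⟶ sq.ptT'}
    {n n' : (yon S).obj V ⟶ G} (h : IsLiftAt sq ρ n) (h' : IsLiftAt sq ρ n') : n = n' := by
  let 𝒰 := V.left.affineCover
  let Vk : 𝒰.I₀ → Over S := fun i => Over.mk (𝒰.f i ≫ V.hom)
  let e : ∀ i, Vk i ⟶ V := fun i => Over.homMk (𝒰.f i) rfl
  have hcov : Sieve.ofArrows Vk e ∈ J S V := by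
    refine Groth.Agent.Helper5.FppfLift.ofArrows_mem_J Vk e (fun i => ?_) (fun i => ?_)
      (fun z => ?_)
    · show Flat (𝒰.f i)
      infer_instance
    · show LocallyOfFinitePresentation (𝒰.f i)
      infer_instance
    · obtain ⟨i, y, hy⟩ := 𝒰.exists_eq z
      exact ⟨i, y, hy⟩
  refine Groth.Agent.Helper5.EtGlue.hom_ext_of_cover G Vk e hcov n n' (fun k => ?_)
  have hk := h.restrict (e k)
  have hk' := h'.restrict (e k)
  have hj : RepWith thick ((yon S).map sq.j) := (repWith_yon_map_iff thick _).2 (thick_j sq)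
  have hrepj := hj.rep
  have sq₀ := hrepj.isPullback ((yon S).map (e k ≫ ρ))
  obtain ⟨p₀, hp₀⟩ := (yon S).map_surjective (hrepj.fst ((yon S).map (e k ≫ ρ)))
  rw [← hp₀] at sq₀
  have pb : IsPullback p₀ (hrepj.snd ((yon S).map (e k ≫ ρ))) sq.j (e k ≫ ρ) :=
    Groth.Agent.Helper5.GeomFibSp.isPullback_of_yon_map sq₀
  haveI hAffk : IsAffine (Vk k).left := by
    show IsAffine (𝒰.X k)
    infer_instance
  have hAffT : IsAffine sq.ptT'.left := by
    show IsAffine (Spec _)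
    infer_instance
  obtain ⟨t1, t2⟩ := thick_sqZero_of_isPullback sq.j (e k ≫ ρ) p₀ _ pb hAffT hAffk (thick_j sq)
    (sqZero_j sq)
  exact hasUniq_chart b hb _ t1 t2 ((yon S).map p₀ ≫ sq.top) ((yon S).map (e k ≫ ρ) ≫ sq.bot)
    _ _ (hk.2 _ p₀ _ pb.w) hk.1 (hk'.2 _ p₀ _ pb.w) hk'.1

end

end Groth.Agent.Helper5.FEt
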