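import Groth.Agent.Helper5.FEt5
import Mathlib

set_option autoImplicit false
set_option linter.style.haveILetI false
set_option linter.unusedSectionVars false
set_option linter.unusedVariables false
universe u
open CategoryTheory CategoryTheory.Limits AlgebraicGeometry Opposite TopologicalSpace

namespace Groth.Agent.Helper5.FEt

open AlgSp Groth.Agent.Helper4 Groth.Agent.Helper5.InfStd

variable {S : Scheme.{u}}

section

variable {F G H : Sp S} (a : F ⟶ G) (b : G ⟶ H) (ha : RepWith @Etale a)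
  (ha' : RepWith @Surjective a)

include ha ha' in
/-- packaged chart data -/
theorem exists_chart' (sq : InfSq b) (t : ↥sq.ptT'.left) :
    ∃ (U' W₁ : Over S) (g : U' ⟶ sq.ptT') (fst₁ : W₁ ⟶ sq.ptT) (snd₁ : W₁ ⟶ U')
      (top₁ : (yon S).obj W₁ ⟶ F),
      IsAffine U'.left ∧ Etale g.left ∧ (∃ u : ↥U'.left, g.left u = t) ∧
      IsPullback fst₁ snd₁ sq.j g ∧ top₁ ≫ a = (yon S).map fst₁ ≫ sq.top ∧
      thick snd₁.left ∧ sqZero snd₁.left := by
  obtain ⟨U', W₁, g, fst₁, snd₁, top₁, h1, h2, h3, h4, h5⟩ := exists_chart a ha ha' sq t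
  have hAffT : IsAffine sq.ptT'.left := by
    show IsAffine (Spec _)
    infer_instance
  obtain ⟨t1, t2⟩ := thick_sqZero_of_isPullback sq.j g fst₁ snd₁ h4 hAffT h1 (thick_j sq)
    (sqZero_j sq)
  exact ⟨U', W₁, g, fst₁, snd₁, top₁, h1, h2, h3, h4, h5, t1, t2⟩

theorem cover_of_charts {T : Over S} {κ : Type u} (U : κ → Over S) (g : ∀ k, U k ⟶ T)
    (hg : ∀ k, Etale (g k).left) (hs : ∀ z : ↥T.left, ∃ k, ∃ u : ↥(U k).left, (g k).left u = z) :
    Sieve.ofArrows U g ∈ J S T := by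
  refine Groth.Agent.Helper5.FppfLift.ofArrows_mem_J U g (fun k => ?_) (fun k => ?_) (fun z => ?_)
  · haveI := hg k
    infer_instance
  · haveI := hg k
    infer_instance
  · obtain ⟨k, u, hu⟩ := hs z
    exact ⟨k, u, hu⟩

include ha ha' in
set_option backward.isDefEq.respectTransparency.types false in
theorem unramified_of_comp (hab : IsFormallyUnramifiedMor (a ≫ b)) :
    IsFormallyUnramifiedMor b := by
  intro sq l l' h1 h2 h3 h4
  choose U' W₁ g fst₁ snd₁ top₁ hAff hEt hpt hpb htop hthick hsq using exists_chart' a b ha ha' sq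
  have hcov : Sieve.ofArrows U' g ∈ J S sq.ptT' :=
    cover_of_charts U' g hEt (fun z => ⟨z, hpt z⟩)
  refine Groth.Agent.Helper5.EtGlue.hom_ext_of_cover G U' g hcov l l' (fun t => ?_)
  haveI := hAff t
  have hw : fst₁ t ≫ sq.j = snd₁ t ≫ g t := (hpb t).w
  have comm₁ : top₁ t ≫ a = (yon S).map (snd₁ t) ≫ ((yon S).map (g t) ≫ l) := by
    rw [htop t, ← h1, ← Category.assoc, ← Functor.map_comp, hw, Functor.map_comp, Category.assoc]
  have comm₂ : top₁ t ≫ a = (yon S).map (snd₁ t) ≫ ((yon S).map (g t) ≫ l') := by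
    rw [htop t, ← h3, ← Category.assoc, ← Functor.map_comp, hw, Functor.map_comp, Category.assoc]
  obtain ⟨m, ⟨hm1, hm2⟩, -⟩ := existsUnique_lift_of_repWith_etale a ha (snd₁ t) (hthick t)
    (top₁ t) ((yon S).map (g t) ≫ l) comm₁
  obtain ⟨m', ⟨hm1', hm2'⟩, -⟩ := existsUnique_lift_of_repWith_etale a ha (snd₁ t) (hthick t)
    (top₁ t) ((yon S).map (g t) ≫ l') comm₂
  have hmm : m = m' := by
    refine hasUniq_chart (a ≫ b) hab (snd₁ t) (hthick t) (hsq t) (top₁ t)
      ((yon S).map (g t) ≫ sq.bot) m m' hm1 ?_ hm1' ?_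
    · rw [← Category.assoc, hm2, Category.assoc, h2]
    · rw [← Category.assoc, hm2', Category.assoc, h4]
  rw [← hm2, ← hm2', hmm]

include ha ha' in
set_option backward.isDefEq.respectTransparency.types false in
/-- local lifts on charts, for a formally smooth composite -/
theorem exists_local_lift (hab : IsFormallySmoothMor (a ≫ b)) (sq : InfSq b)
    (t : ↥sq.ptT'.left) :
    ∃ (U' : Over S) (g : U' ⟶ sq.ptT') (l : (yon S).obj U' ⟶ G),
      IsAffine U'.left ∧ Etale g.left ∧ (∃ u : ↥U'.left, g.left u = t) ∧ IsLiftAt sq g l := by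
  obtain ⟨U', W₁, g, fst₁, snd₁, top₁, hAff, hEt, hpt, hpb, htop, hthick, hsq⟩ :=
    exists_chart' a b ha ha' sq t
  haveI := hAff
  have hw : fst₁ ≫ sq.j = snd₁ ≫ g := hpb.w
  have comm' : top₁ ≫ (a ≫ b) = (yon S).map snd₁ ≫ ((yon S).map g ≫ sq.bot) := by
    rw [← Category.assoc, htop, Category.assoc, sq.comm, ← Category.assoc, ← Functor.map_comp, hw,
      Functor.map_comp, Category.assoc]
  obtain ⟨m, hm1, hm2⟩ := exists_lift_chart (a ≫ b) hab snd₁ hthick hsq top₁
    ((yon S).map g ≫ sq.bot) comm'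
  refine ⟨U', g, m ≫ a, hAff, hEt, hpt, isLiftAt_of_isPullback hpb ?_ ?_⟩
  · rw [Category.assoc]; exact hm2
  · rw [← Category.assoc, hm1, htop]

include ha ha' in
set_option backward.isDefEq.respectTransparency.types false in
theorem etale_of_comp (hab : IsFormallyEtaleMor (a ≫ b)) : IsFormallyEtaleMor b := by
  have hbu : IsFormallyUnramifiedMor b :=
    unramified_of_comp a b ha ha' (unramified_of_etale _ hab)
  intro sq
  have hsm : IsFormallySmoothMor (a ≫ b) := fun sq' => (hab sq').exists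
  choose U' g n hAff hEt hpt hn using exists_local_lift a b ha ha' hsm sq
  have hcov : Sieve.ofArrows U' g ∈ J S sq.ptT' :=
    cover_of_charts U' g hEt (fun z => ⟨z, hpt z⟩)
  obtain ⟨c, hc, -⟩ := Groth.Agent.Helper5.EtGlue.existsUnique_of_cover G U' g hcov n (by
    intro k l R r₁ r₂ hcomm
    have e1 := (hn k).restrict r₁
    have e2 := (hn l).restrict r₂
    rw [← hcomm] at e2
    exact e1.unique hbu e2)
  have hcb : c ≫ b = sq.bot := by
    refine Groth.Agent.Helper5.EtGlue.hom_ext_of_cover H U' g hcov _ _ (fun t => ?_)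
    rw [← Category.assoc, hc t, (hn t).1]
  -- the cover of `T`
  have hrepj : RepWith thick ((yon S).map sq.j) := (repWith_yon_map_iff thick _).2 (thick_j sq)
  have hrj := hrepj.rep
  have hcj : (yon S).map sq.j ≫ c = sq.top := by
    have sqt : ∀ t, IsPullback (hrj.fst ((yon S).map (g t))) ((yon S).map (hrj.snd ((yon S).map (g t))))
        ((yon S).map sq.j) ((yon S).map (g t)) := fun t => hrj.isPullback _
    choose p₀ hp₀ using fun t => (yon S).map_surjective (hrj.fst ((yon S).map (g t)))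
    have pb : ∀ t, IsPullback (p₀ t) (hrj.snd ((yon S).map (g t))) sq.j (g t) := by
      intro t
      have := sqt t
      rw [← hp₀ t] at this
      exact Groth.Agent.Helper5.GeomFibSp.isPullback_of_yon_map this
    have pbl : ∀ t, IsPullback (p₀ t).left (hrj.snd ((yon S).map (g t))).left sq.j.left (g t).left :=
      fun t => (pb t).map (Over.forget S)
    have hcov' : Sieve.ofArrows (fun t => hrj.pullback ((yon S).map (g t))) p₀ ∈ J S sq.ptT := by
      refine cover_of_charts _ p₀ (fun t => ?_) (fun z => ?_)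
      · exact MorphismProperty.of_isPullback (P := @Etale) (pbl t).flip (hEt t)
      · obtain ⟨u, hu⟩ := hpt (sq.j.left z)
        obtain ⟨w, hw1, -⟩ := exists_point_of_isPullback_scheme (pbl (sq.j.left z)) z u hu.symm
        exact ⟨sq.j.left z, w, hw1⟩
    refine Groth.Agent.Helper5.EtGlue.hom_ext_of_cover G _ p₀ hcov' _ _ (fun t => ?_)
    rw [← Category.assoc, ← Functor.map_comp, (pb t).w, Functor.map_comp, Category.assoc, hc t]
    exact (hn t).2 _ (p₀ t) _ (pb t).w
  refine ⟨c, ⟨hcj, hcb⟩, fun c' hc' => ?_⟩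
  exact hbu sq c' c hc'.1 hc'.2 hcj hcb

end

theorem s10617 {F G H : AlgSp.Sp S} (a : F ⟶ G) (b : G ⟶ H)
    (ha : AlgSp.RepWith @Etale a) (ha' : AlgSp.RepWith @Surjective a) :
    (AlgSp.IsFormallySmoothMor b → AlgSp.IsFormallySmoothMor (a ≫ b)) ∧
    (AlgSp.IsFormallyEtaleMor b → AlgSp.IsFormallyEtaleMor (a ≫ b)) ∧
    (AlgSp.IsFormallyUnramifiedMor b → AlgSp.IsFormallyUnramifiedMor (a ≫ b)) ∧
    (AlgSp.IsFormallyUnramifiedMor (a ≫ b) → AlgSp.IsFormallyUnramifiedMor b) ∧
    (AlgSp.IsFormallyEtaleMor (a ≫ b) → AlgSp.IsFormallyEtaleMor b) := by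
  have hae := isFormallyEtaleMor_of_repWith_etale a ha
  exact ⟨smooth_comp a b hae, etale_comp a b hae, unramified_comp a b hae,
    unramified_of_comp a b ha ha', etale_of_comp a b ha ha'⟩

theorem s12195 {F G H : AlgSp.Sp S} (a : F ⟶ G)
    (b : G ⟶ H) (ha : AlgSp.RepWith @Etale a) (ha' : AlgSp.RepWith @Surjective a)
    (hab : AlgSp.IsFormallySmoothMor (a ≫ b)) (sq : AlgSp.InfSq b) (t : ↥sq.ptT'.left) :
    ∃ (U' : Over S) (g : U' ⟶ sq.ptT') (l : (AlgSp.yon S).obj U' ⟶ G),
      IsAffine U'.left ∧ Etale g.left ∧ (∃ u : ↥U'.left, g.left u = t) ∧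
        l ≫ b = (AlgSp.yon S).map g ≫ sq.bot ∧
          ∀ (V : Over S) (p : V ⟶ sq.ptT) (q : V ⟶ U'), p ≫ sq.j = q ≫ g →
            (AlgSp.yon S).map q ≫ l = (AlgSp.yon S).map p ≫ sq.top := by
  obtain ⟨U', g, l, h1, h2, h3, h4, h5⟩ := exists_local_lift a b ha ha' hab sq t
  exact ⟨U', g, l, h1, h2, h3, h4, h5⟩

end Groth.Agent.Helper5.FEt
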