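import Groth.Agent.Helper5.FEt6
import Mathlib

set_option autoImplicit false
set_option linter.style.haveILetI false
set_option linter.unusedSectionVars false
set_option linter.unusedVariables false
universe u
open CategoryTheory CategoryTheory.Limits AlgebraicGeometry Opposite TopologicalSpace

namespace Groth.Agent.Helper5.FEt

open AlgSp Groth.Agent.Helper4 Groth.Agent.Helper5.InfStd

variable {S : Scheme.{u}}

/-- an etale morphism out of an algebraic space is formally etale -/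
theorem isFormallyEtaleMor_of_isEtaleMor {X Y : Sp S} (hX : IsAlgSpace X) (f : X ⟶ Y)
    (hf : IsEtaleMor f) : IsFormallyEtaleMor f := by
  obtain ⟨V, c, hce, hcs⟩ := hX.atlas
  exact etale_of_comp c f hce hcs (isFormallyEtaleMor_of_repWith_etale _ (hf c hce))

set_option backward.isDefEq.respectTransparency.types false in
theorem s10628 {X Y U V : AlgSp.Space S} (f : X ⟶ Y)
    (hf : AlgSp.IsFormallySmoothMor f.hom) (p : U ⟶ X) (q : V ⟶ Y) (hp : AlgSp.IsEtaleMor p.hom)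
    (hq : AlgSp.IsEtaleMor q.hom) (ψ : U ⟶ V) (w : ψ ≫ q = p ≫ f) :
    AlgSp.IsFormallySmoothMor ψ.hom := by
  have hpe := isFormallyEtaleMor_of_isEtaleMor U.property p.hom hp
  have hqe := unramified_of_etale _ (isFormallyEtaleMor_of_isEtaleMor V.property q.hom hq)
  have w' : ψ.hom ≫ q.hom = p.hom ≫ f.hom := congrArg (fun m => m.hom) w
  intro sq
  let sqf : InfSq f.hom :=
    { A := sq.A
      I := sq.I
      sq_zero := sq.sq_zero
      str := sq.str
      top := sq.top ≫ p.hom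
      bot := sq.bot ≫ q.hom
      comm := by
        rw [Category.assoc, ← w', ← Category.assoc, sq.comm, Category.assoc] }
  obtain ⟨l₁, hl1, hl2⟩ : ∃ l : (yon S).obj sq.ptT' ⟶ X.obj,
      (yon S).map sq.j ≫ l = sq.top ≫ p.hom ∧ l ≫ f.hom = sq.bot ≫ q.hom := hf sqf
  let sqp : InfSq p.hom :=
    { A := sq.A
      I := sq.I
      sq_zero := sq.sq_zero
      str := sq.str
      top := sq.top
      bot := l₁
      comm := hl1.symm }
  obtain ⟨m, ⟨hm1, hm2⟩, -⟩ : ∃! m : (yon S).obj sq.ptT' ⟶ U.obj,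
      (yon S).map sq.j ≫ m = sq.top ∧ m ≫ p.hom = l₁ := hpe sqp
  let sqq : InfSq q.hom :=
    { A := sq.A
      I := sq.I
      sq_zero := sq.sq_zero
      str := sq.str
      top := sq.top ≫ ψ.hom
      bot := sq.bot ≫ q.hom
      comm := by rw [Category.assoc, ← Category.assoc, sq.comm, Category.assoc] }
  have key : m ≫ ψ.hom = sq.bot := by
    refine hqe sqq (m ≫ ψ.hom) sq.bot ?_ ?_ ?_ ?_
    · show (yon S).map sq.j ≫ m ≫ ψ.hom = sq.top ≫ ψ.hom
      rw [← Category.assoc, hm1]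
    · show (m ≫ ψ.hom) ≫ q.hom = sq.bot ≫ q.hom
      rw [Category.assoc, w', ← Category.assoc, hm2, hl2]
    · show (yon S).map sq.j ≫ sq.bot = sq.top ≫ ψ.hom
      exact sq.comm.symm
    · rfl
  exact ⟨m, hm1, key⟩

set_option backward.isDefEq.respectTransparency.types false in
theorem s10632 {Z Y Y' Z' X : AlgSp.Space S} (e : Z ⟶ Y)
    (he : AlgSp.IsEtaleMor e.hom) (hY : Y ⟶ X) (iY : Y ⟶ Y') (hY' : Y' ⟶ X)
    (HU : AlgSp.IsUnivFOThick hY.hom iY.hom hY'.hom) (iZ : Z ⟶ Z') (e' : Z' ⟶ Y')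
    (he' : AlgSp.IsEtaleMor e'.hom) (sq : IsPullback e.hom iZ.hom iY.hom e'.hom) :
    AlgSp.IsUnivFOThick (e ≫ hY).hom iZ.hom (e' ≫ hY').hom := by
  obtain ⟨hiY, hw, huniv⟩ := HU
  have he'f := isFormallyEtaleMor_of_isEtaleMor Z'.property e'.hom he'
  have iE := repWith_isStableUnderBaseChange (S := S) thick
  refine ⟨⟨MorphismProperty.of_isPullback (P := RepWith thick) sq hiY.1, ?_⟩, ?_, ?_⟩
  · intro V W b fst snd hV hb sqV
    exact hiY.2 (b ≫ e'.hom) (fst ≫ e.hom) snd hV (he' b hb) (sqV.paste_horiz sq)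
  · show iZ.hom ≫ e'.hom ≫ hY'.hom = e.hom ≫ hY.hom
    rw [← Category.assoc, ← sq.w, Category.assoc, hw]
  · intro T T' hT hT' j a b hj hcomm
    let Ts : AlgSp.Space S := ⟨T, hT⟩
    let Ts' : AlgSp.Space S := ⟨T', hT'⟩
    let js : Ts ⟶ Ts' := ObjectProperty.homMk j
    have hcomm' : j ≫ b = (a ≫ e.hom) ≫ hY.hom := by rw [hcomm, Category.assoc]; rfl
    obtain ⟨c, ⟨hc1, hc2⟩, hcu⟩ := huniv hT hT' j (a ≫ e.hom) b hj hcomm'
    have hw2 : (a ≫ iZ.hom) ≫ e'.hom = j ≫ c := by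
      rw [Category.assoc, ← sq.w, hc1, Category.assoc]
    obtain ⟨l, ⟨hl1, hl2⟩, hlu⟩ :=
      Groth.Agent.Helper5.InfStd.s10625 e' he'f js hj
        (ObjectProperty.homMk (a ≫ iZ.hom) : Ts ⟶ Z') (ObjectProperty.homMk c : Ts' ⟶ Y')
        (ObjectProperty.hom_ext _ hw2)
    have hl1' : j ≫ l.hom = a ≫ iZ.hom := congrArg (fun m => m.hom) hl1
    have hl2' : l.hom ≫ e'.hom = c := congrArg (fun m => m.hom) hl2
    refine ⟨l.hom, ⟨hl1', ?_⟩, ?_⟩
    · show l.hom ≫ e'.hom ≫ hY'.hom = b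
      rw [← Category.assoc, hl2', hc2]
    · rintro l'' ⟨h1, h2⟩
      have h2' : (l'' ≫ e'.hom) ≫ hY'.hom = b := by rw [Category.assoc]; exact h2
      have hc'' : l'' ≫ e'.hom = c := by
        apply hcu
        refine ⟨?_, h2'⟩
        rw [← Category.assoc, h1, Category.assoc, ← sq.w, Category.assoc]
      have : (ObjectProperty.homMk l'' : Ts' ⟶ Z') = l := by
        apply hlu
        exact ⟨ObjectProperty.hom_ext _ h1, ObjectProperty.hom_ext _ hc''⟩
      rw [← this]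
      rfl

end Groth.Agent.Helper5.FEt
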