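import Groth.Agent.Helper5.FEt7
import Groth.Agent.Helper5.GorSp6
import Groth.Agent.Helper5.AlgSpEt2
import Groth.Agent.S9771
import Groth.Agent.S1489
import Mathlib

set_option autoImplicit false
set_option linter.style.haveILetI false
set_option linter.unusedSectionVars false
set_option linter.unusedVariables false
universe u
open CategoryTheory CategoryTheory.Limits AlgebraicGeometry Opposite TopologicalSpace

namespace Groth.Agent.Helper5.FEt

open AlgSp Groth.Agent.Helper4 Groth.Agent.Helper5.InfStd

variable {S : Scheme.{u}}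

section charts

variable {X Y U V : Sp S} (f : X ⟶ Y) (p : U ⟶ X) (q : V ⟶ Y) (ψ : U ⟶ V)
  (w : ψ ≫ q = p ≫ f)

include w in
theorem smooth_of_charts (hf : IsFormallySmoothMor f) (hp : IsFormallyEtaleMor p)
    (hq : IsFormallyUnramifiedMor q) : IsFormallySmoothMor ψ := by
  intro sq
  let sqf : InfSq f :=
    { A := sq.A
      I := sq.I
      sq_zero := sq.sq_zero
      str := sq.str
      top := sq.top ≫ p
      bot := sq.bot ≫ q
      comm := by
        rw [Category.assoc, ← w, ← Category.assoc, sq.comm, Category.assoc] }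
  obtain ⟨l₁, hl1, hl2⟩ : ∃ l : (yon S).obj sq.ptT' ⟶ X,
      (yon S).map sq.j ≫ l = sq.top ≫ p ∧ l ≫ f = sq.bot ≫ q := hf sqf
  let sqp : InfSq p :=
    { A := sq.A
      I := sq.I
      sq_zero := sq.sq_zero
      str := sq.str
      top := sq.top
      bot := l₁
      comm := hl1.symm }
  obtain ⟨m, ⟨hm1, hm2⟩, -⟩ : ∃! m : (yon S).obj sq.ptT' ⟶ U,
      (yon S).map sq.j ≫ m = sq.top ∧ m ≫ p = l₁ := hp sqp
  let sqq : InfSq q :=
    { A := sq.A
      I := sq.I
      sq_zero := sq.sq_zero
      str := sq.str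
      top := sq.top ≫ ψ
      bot := sq.bot ≫ q
      comm := by rw [Category.assoc, ← Category.assoc, sq.comm, Category.assoc] }
  have key : m ≫ ψ = sq.bot := by
    refine hq sqq (m ≫ ψ) sq.bot ?_ ?_ ?_ ?_
    · show (yon S).map sq.j ≫ m ≫ ψ = sq.top ≫ ψ
      rw [← Category.assoc, hm1]
    · show (m ≫ ψ) ≫ q = sq.bot ≫ q
      rw [Category.assoc, w, ← Category.assoc, hm2, hl2]
    · show (yon S).map sq.j ≫ sq.bot = sq.top ≫ ψ
      exact sq.comm.symm
    · rfl
  exact ⟨m, hm1, key⟩

include w in
theorem unramified_of_charts (hf : IsFormallyUnramifiedMor f) (hp : IsFormallyUnramifiedMor p) :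
    IsFormallyUnramifiedMor ψ := by
  intro sq m m' h1 h2 h3 h4
  let sqf : InfSq f :=
    { A := sq.A
      I := sq.I
      sq_zero := sq.sq_zero
      str := sq.str
      top := sq.top ≫ p
      bot := sq.bot ≫ q
      comm := by
        rw [Category.assoc, ← w, ← Category.assoc, sq.comm, Category.assoc] }
  have e : m ≫ p = m' ≫ p := by
    refine hf sqf (m ≫ p) (m' ≫ p) ?_ ?_ ?_ ?_
    · show (yon S).map sq.j ≫ m ≫ p = sq.top ≫ p
      rw [← Category.assoc, h1]
    · show (m ≫ p) ≫ f = sq.bot ≫ q
      rw [Category.assoc, ← w, ← Category.assoc, h2]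
    · show (yon S).map sq.j ≫ m' ≫ p = sq.top ≫ p
      rw [← Category.assoc, h3]
    · show (m' ≫ p) ≫ f = sq.bot ≫ q
      rw [Category.assoc, ← w, ← Category.assoc, h4]
  let sqp : InfSq p :=
    { A := sq.A
      I := sq.I
      sq_zero := sq.sq_zero
      str := sq.str
      top := sq.top
      bot := m ≫ p
      comm := by rw [← Category.assoc, h1] }
  exact hp sqp m m' h1 rfl h3 e.symm

include w in
theorem etale_of_charts (hf : IsFormallyEtaleMor f) (hp : IsFormallyEtaleMor p)
    (hq : IsFormallyUnramifiedMor q) : IsFormallyEtaleMor ψ := by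
  intro sq
  obtain ⟨l, hl⟩ := smooth_of_charts f p q ψ w (fun sq' => (hf sq').exists) hp hq sq
  refine ⟨l, hl, fun l' hl' => ?_⟩
  exact unramified_of_charts f p q ψ w (unramified_of_etale f hf) (unramified_of_etale p hp) sq l' l
    hl'.1 hl'.2 hl.1 hl.2

end charts

set_option backward.isDefEq.respectTransparency.types false in
/-- a formally etale morphism of schemes over `S` induces a formally etale morphism of sheaves -/
theorem isFormallyEtaleMor_yon_map_of_hom {U V : Over S} (h : U ⟶ V)
    (hh : MoreMor.IsFormallyEtaleHom h.left) : IsFormallyEtaleMor ((yon S).map h) := by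
  intro sq
  obtain ⟨top₀, htop₀⟩ := (yon S).map_surjective sq.top
  obtain ⟨bot₀, hbot₀⟩ := (yon S).map_surjective sq.bot
  have hc : top₀ ≫ h = sq.j ≫ bot₀ := (yon S).map_injective (by
    rw [Functor.map_comp, Functor.map_comp, htop₀, hbot₀]; exact sq.comm)
  have hcl : Spec.map (CommRingCat.ofHom (Ideal.Quotient.mk sq.I)) ≫ bot₀.left =
      top₀.left ≫ h.left := by
    have := congrArg (fun m => m.left) hc
    exact this.symm
  obtain ⟨l, ⟨hl1, hl2⟩, hlu⟩ := hh sq.A sq.I sq.sq_zero top₀.left bot₀.left hcl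
  let l₀ : sq.ptT' ⟶ U := Over.homMk l (by
    rw [← CategoryTheory.Over.w h, ← Category.assoc, hl2]
    exact CategoryTheory.Over.w bot₀)
  have e1 : sq.j ≫ l₀ = top₀ := by
    ext
    exact hl1
  have e2 : l₀ ≫ h = bot₀ := by
    ext
    exact hl2
  refine ⟨(yon S).map l₀, ⟨?_, ?_⟩, ?_⟩
  · rw [← Functor.map_comp, e1, htop₀]
  · rw [← Functor.map_comp, e2, hbot₀]
  · rintro l' ⟨h1, h2⟩
    obtain ⟨l'₀, rfl⟩ := (yon S).map_surjective l'
    have e1' : sq.j ≫ l'₀ = top₀ := (yon S).map_injective (by
      rw [Functor.map_comp, h1, htop₀])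
    have e2' : l'₀ ≫ h = bot₀ := (yon S).map_injective (by
      rw [Functor.map_comp, h2, hbot₀])
    have : l'₀.left = l := hlu l'₀.left ⟨by
      have := congrArg (fun m => m.left) e1'
      exact this, by
      have := congrArg (fun m => m.left) e2'
      exact this⟩
    congr 1
    ext
    exact this

set_option backward.isDefEq.respectTransparency.types false in
theorem isFormallyEtaleHom_of_yon_map {U V : Over S} (h : U ⟶ V)
    (hh : IsFormallyEtaleMor ((yon S).map h)) : MoreMor.IsFormallyEtaleHom h.left := by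
  intro A _ I hI a' b' wab
  let str : Spec (CommRingCat.of A) ⟶ S := b' ≫ V.hom
  let top₀ : Over.mk (Spec.map (CommRingCat.ofHom (Ideal.Quotient.mk I)) ≫ str) ⟶ U :=
    Over.homMk a' (by
      show a' ≫ U.hom = Spec.map (CommRingCat.ofHom (Ideal.Quotient.mk I)) ≫ b' ≫ V.hom
      rw [← CategoryTheory.Over.w h, ← Category.assoc, ← wab, Category.assoc])
  let bot₀ : Over.mk str ⟶ V := Over.homMk b' rfl
  let sq : InfSq ((yon S).map h) :=
    { A := A
      I := I
      sq_zero := hI
      str := str
      top := (yon S).map top₀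
      bot := (yon S).map bot₀
      comm := by
        rw [← Functor.map_comp, ← Functor.map_comp]
        congr 1
        ext
        exact wab.symm }
  obtain ⟨l, ⟨hl1, hl2⟩, hlu⟩ : ∃! l : (yon S).obj (Over.mk str) ⟶ (yon S).obj U,
      (yon S).map sq.j ≫ l = (yon S).map top₀ ∧ l ≫ (yon S).map h = (yon S).map bot₀ := hh sq
  obtain ⟨l₀, rfl⟩ := (yon S).map_surjective l
  have e1 : sq.j ≫ l₀ = top₀ := (yon S).map_injective (by rw [Functor.map_comp, hl1])
  have e2 : l₀ ≫ h = bot₀ := (yon S).map_injective (by rw [Functor.map_comp, hl2])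
  refine ⟨l₀.left, ⟨?_, ?_⟩, ?_⟩
  · have := congrArg (fun m => m.left) e1
    exact this
  · have := congrArg (fun m => m.left) e2
    exact this
  · rintro l' ⟨h1, h2⟩
    let l'₀ : Over.mk str ⟶ U := Over.homMk l' (by
      show l' ≫ U.hom = b' ≫ V.hom
      rw [← CategoryTheory.Over.w h, ← Category.assoc, h2])
    have : (yon S).map l'₀ = (yon S).map l₀ := by
      apply hlu
      refine ⟨?_, ?_⟩
      · rw [← Functor.map_comp]
        congr 1
        ext
        exact h1
      · rw [← Functor.map_comp]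
        congr 1
        ext
        exact h2
    have h3 := (yon S).map_injective this
    have := congrArg (fun m => m.left) h3
    exact this

end Groth.Agent.Helper5.FEt
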