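import Groth.Agent.Helper5.FEt8
import Mathlib

set_option autoImplicit false
set_option linter.style.haveILetI false
set_option linter.unusedSectionVars false
set_option linter.unusedVariables false
universe u
open CategoryTheory CategoryTheory.Limits AlgebraicGeometry Opposite TopologicalSpace

namespace Groth.Agent.Helper5.FEt

open AlgSp Groth.Agent.Helper4 Groth.Agent.Helper5.InfStd

variable {S : Scheme.{u}}

/-- the one-diagram criterion for formal etaleness -/
theorem etale_of_one_diagram {X Y : Sp S} (f : X ⟶ Y) {U V : Over S}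
    (a : (yon S).obj U ⟶ X) (b : (yon S).obj V ⟶ Y) (h : U ⟶ V)
    (ha : RepWith @Etale a) (ha' : RepWith @Surjective a) (hb : RepWith @Etale b)
    (comm : a ≫ f = (yon S).map h ≫ b) (hh : MoreMor.IsFormallyEtaleHom h.left) :
    IsFormallyEtaleMor f := by
  have h1 := isFormallyEtaleMor_yon_map_of_hom h hh
  have h2 := etale_comp ((yon S).map h) b h1 (isFormallyEtaleMor_of_repWith_etale b hb)
  rw [← comm] at h2
  exact etale_of_comp a f ha ha' h2

/-- a diagram with surjective charts -/
theorem exists_surj_diagram {X Y : Sp S} (hX : IsAlgSpace X) (hY : IsAlgSpace Y) (f : X ⟶ Y) :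
    ∃ (U V : Over S) (a : (yon S).obj U ⟶ X) (b : (yon S).obj V ⟶ Y) (h : U ⟶ V),
      RepWith @Etale a ∧ RepWith @Surjective a ∧ RepWith @Etale b ∧ RepWith @Surjective b ∧
        a ≫ f = (yon S).map h ≫ b := by
  obtain ⟨V, b, hbe, hbs⟩ := hY.atlas
  obtain ⟨U, a, h, comm, hae, -, -, hs⟩ := Groth.Agent.Helper5.GorSp.exists_chart_over hX f b hbe
  exact ⟨U, V, a, b, h, hae, hs hbs, hbe, hbs, comm⟩

theorem locP_of_etale {X Y : Sp S} (f : X ⟶ Y) (hf : IsFormallyEtaleMor f) :
    LocP @MoreMor.IsFormallyEtaleHom f := by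
  intro U V a b h ha hb comm
  apply isFormallyEtaleHom_of_yon_map
  exact etale_of_charts f a b ((yon S).map h) comm.symm hf
    (isFormallyEtaleMor_of_repWith_etale a ha)
    (unramified_of_etale b (isFormallyEtaleMor_of_repWith_etale b hb))

theorem s10622 {X Y : AlgSp.Space S} (f : X ⟶ Y) :
    (AlgSp.IsFormallyEtaleMor f.hom ↔ AlgSp.LocP @MoreMor.IsFormallyEtaleHom f.hom) ∧
    (∀ (U V : Over S) (a : (AlgSp.yon S).obj U ⟶ X.obj) (b : (AlgSp.yon S).obj V ⟶ Y.obj) (h : U ⟶ V),
      AlgSp.RepWith @Etale a → AlgSp.RepWith @Surjective a → AlgSp.RepWith @Etale b →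
      AlgSp.RepWith @Surjective b →
      a ≫ f.hom = (AlgSp.yon S).map h ≫ b → MoreMor.IsFormallyEtaleHom h.left →
        AlgSp.IsFormallyEtaleMor f.hom) := by
  refine ⟨⟨locP_of_etale f.hom, fun hloc => ?_⟩, ?_⟩
  · obtain ⟨U, V, a, b, h, hae, has, hbe, hbs, comm⟩ :=
      exists_surj_diagram X.property Y.property f.hom
    exact etale_of_one_diagram f.hom a b h hae has hbe comm (hloc a b h hae hbe comm)
  · intro U V a b h hae has hbe hbs comm hh
    exact etale_of_one_diagram f.hom a b h hae has hbe comm hh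

theorem s10626 {X Y : AlgSp.Space S} (f : X ⟶ Y)
    (h1 : AlgSp.LocP (@LocallyOfFiniteType ⊓ @FormallyUnramified) f.hom)
    (h2 : AlgSp.LocP @Flat f.hom) :
    AlgSp.IsFormallyEtaleMor f.hom := by
  obtain ⟨U, V, a, b, h, hae, has, hbe, hbs, comm⟩ :=
    exists_surj_diagram X.property Y.property f.hom
  obtain ⟨k1, k2⟩ := h1 a b h hae hbe comm
  have k3 : Flat h.left := h2 a b h hae hbe comm
  haveI : LocallyOfFiniteType h.left := k1
  haveI : FormallyUnramified h.left := k2
  haveI : Flat h.left := k3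
  exact etale_of_one_diagram f.hom a b h hae has hbe comm (Groth.Agent.S9771.result h.left)

theorem s10627 {X Y : AlgSp.Space S} (f : X ⟶ Y) :
    AlgSp.IsEtaleMor f.hom ↔
      AlgSp.LocP @LocallyOfFinitePresentation f.hom ∧ AlgSp.IsFormallyEtaleMor f.hom := by
  constructor
  · intro hf
    refine ⟨?_, isFormallyEtaleMor_of_isEtaleMor X.property f.hom hf⟩
    intro U V a b h ha hb comm
    haveI : Etale h.left :=
      Groth.Agent.Helper5.AlgSpEt.locP_etale_of_isEtaleMor f.hom hf a b h ha hb comm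
    infer_instance
  · rintro ⟨h1, h2⟩
    apply Groth.Agent.Helper5.AlgSpEt.isEtaleMor_of_locP_etale X.property Y.property f.hom
    intro U V a b h ha hb comm
    exact (Groth.Agent.S1489.result h.left).mpr
      ⟨h1 a b h ha hb comm, locP_of_etale f.hom h2 a b h ha hb comm⟩

end Groth.Agent.Helper5.FEt
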