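import Groth.Agent.Helper5.ZarGlue10
import Groth.Agent.Helper5.AffDesc13
import Groth.Agent.Helper5.SpCoprod1
import Mathlib

set_option autoImplicit false
set_option linter.style.haveILetI false
set_option linter.unusedSectionVars false
set_option linter.unusedVariables false
universe u
open CategoryTheory CategoryTheory.Limits AlgebraicGeometry Opposite

namespace Groth.Agent.Helper5.FEtColim

open AlgSp Groth.Agent.Helper5.SpCoprod Groth.Agent.Helper5.YonCoprod

variable {X : Scheme.{u}}

/-- the structure map of an `X`-scheme as a morphism to the terminal object -/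
def strMap (T : Over X) : T ⟶ Over.mk (𝟙 X) := Over.homMk T.hom

theorem yon_map_strMap (T : Over X) : (yon X).map (strMap T) = toOne ((yon X).obj T) :=
  isTerminalYon.hom_ext _ _

/-- **Core lemma**: a sheaf which is fppf-locally representable by `P`-schemes (with `P` affine,
Zariski-local and descending along fpqc covers) is representable by a `P`-scheme. -/
theorem exists_rep_of_fppf_family (P : MorphismProperty Scheme.{u}) [P.IsStableUnderBaseChange]
    [IsZariskiLocalAtTarget P] [P.DescendsAlong (@Surjective ⊓ @Flat ⊓ @QuasiCompact)]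
    (hPaff : P ≤ @IsAffineHom) (G : Sp X) {ι : Type u} (T : ι → Over X)
    (hfl : ∀ i, Flat (T i).hom) (hlfp : ∀ i, LocallyOfFinitePresentation (T i).hom)
    (hcov : ∀ x : X, ∃ i, x ∈ Set.range (T i).hom)
    (V : ι → Over X) (v : ∀ i, V i ⟶ T i) (hv : ∀ i, P (v i).left)
    (a : ∀ i, (yon X).obj (V i) ⟶ G)
    (sq : ∀ i, IsPullback (a i) ((yon X).map (v i)) (toOne G) (toOne ((yon X).obj (T i)))) :
    ∃ W : Over X, P W.hom ∧ Nonempty ((yon X).obj W ≅ G) := by
  have hPiso : P.RespectsIso := MorphismProperty.IsStableUnderBaseChange.respectsIso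
  let Ttot : Over X := sigmaOver T
  let c : Ttot ⟶ Over.mk (𝟙 X) := strMap Ttot
  let P₀ : Sp X := pullback (toOne G) ((yon X).map c)
  let fst : P₀ ⟶ G := pullback.fst _ _
  let snd : P₀ ⟶ (yon X).obj Ttot := pullback.snd _ _
  have sq0 : IsPullback fst snd (toOne G) ((yon X).map c) := IsPullback.of_hasPullback _ _
  -- the local charts
  have hw : ∀ i, a i ≫ toOne G = ((yon X).map (v i ≫ sigmaι T i)) ≫ (yon X).map c :=
    fun i => isTerminalYon.hom_ext _ _
  let f : ∀ i, (yon X).obj (V i) ⟶ P₀ := fun i => pullback.lift (a i) _ (hw i)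
  have hf1 : ∀ i, f i ≫ fst = a i := fun i => pullback.lift_fst _ _ _
  have hf2 : ∀ i, f i ≫ snd = (yon X).map (v i) ≫ (yon X).map (sigmaι T i) := fun i => by
    rw [← Functor.map_comp]; exact pullback.lift_snd _ _ _
  have sqi : ∀ i, IsPullback (f i) ((yon X).map (v i)) snd ((yon X).map (sigmaι T i)) := by
    intro i
    refine IsPullback.of_right ?_ (hf2 i) sq0
    rw [hf1 i]
    have : (yon X).map (sigmaι T i) ≫ (yon X).map c = toOne ((yon X).obj (T i)) :=
      isTerminalYon.hom_ext _ _
    rw [this]
    exact sq i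
  obtain ⟨W₀, e, w₀, k, he, hk, hpb, hoi, hcv⟩ := ZarGlue.exists_glue_rel' snd T (sigmaι T)
    (fun i => by
      have : IsOpenImmersion (Sigma.ι (fun j => (T j).left) i) := inferInstance
      exact this)
    (fun x => by
      obtain ⟨y, hy⟩ := (sigmaOpenCover (fun j => (T j).left)).covers x
      exact ⟨_, y, hy⟩)
    V v f sqi
  have hPw : P w₀.left := by
    refine (IsZariskiLocalAtTarget.iff_of_openCover (P := P) (f := w₀.left)
      (sigmaOpenCover (fun j => (T j).left))).2 ?_
    intro i
    have h1 : IsPullback (k i).left (v i).left w₀.left (Sigma.ι (fun j => (T j).left) i) :=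
      (hpb i).map (Over.forget X)
    have h2 : h1.isoPullback.hom ≫ pullback.snd _ _ = (v i).left := h1.isoPullback_hom_snd
    show P (pullback.snd w₀.left (Sigma.ι (fun j => (T j).left) i))
    rw [← P.cancel_left_of_respectsIso h1.isoPullback.hom, h2]
    exact hv i
  have hsnd : RepWith P snd := by
    have h1 : RepWith P ((yon X).map w₀) := (repWith_yon_map_iff P w₀).2 hPw
    rw [← he] at h1
    exact ((RepWith P).cancel_left_of_respectsIso e.hom snd).1 h1
  have hcl : c.left = Sigma.desc (fun j => (T j).hom) := rfl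
  have hcfl : RepWith @Flat ((yon X).map c) := by
    rw [repWith_yon_map_iff, hcl]
    exact IsZariskiLocalAtSource.sigmaDesc (fun i => hfl i)
  have hclfp : RepWith @LocallyOfFinitePresentation ((yon X).map c) := by
    rw [repWith_yon_map_iff, hcl]
    exact IsZariskiLocalAtSource.sigmaDesc (fun i => hlfp i)
  have hcs : RepWith @Surjective ((yon X).map c) := by
    rw [repWith_yon_map_iff, hcl]
    apply Surjective.sigmaDesc_of_union_range_eq_univ
    rw [Set.eq_univ_iff_forall]
    intro x
    obtain ⟨i, hi⟩ := hcov x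
    exact Set.mem_iUnion.2 ⟨i, hi⟩
  have hG := AffDesc13.repWith_of_fppf_chart P hPaff (toOne G) Ttot ((yon X).map c) hcfl hclfp hcs
    fst snd sq0 hsnd
  obtain ⟨W, i, fst', sq'⟩ := hG.1 (𝟙 ((yon X).obj (Over.mk (𝟙 X))))
  have hPi : P i.left := hG.2 _ fst' i sq'
  have : IsIso fst' := sq'.isIso_fst_of_isIso
  refine ⟨W, ?_, ⟨asIso fst'⟩⟩
  have := Over.w i
  have h2 : W.hom = i.left := by
    rw [← this]; exact Category.comp_id _
  rw [h2]
  exact hPi

end Groth.Agent.Helper5.FEtColim
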