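import Groth.Agent.Helper5.JInv2
import Mathlib

set_option autoImplicit false
set_option linter.style.haveILetI false
set_option linter.unusedSectionVars false
set_option linter.unusedVariables false
universe u
open CategoryTheory CategoryTheory.Limits AlgebraicGeometry Opposite

namespace Groth.Agent.Helper5.JInv

open AlgSp

variable {S S' : Scheme.{u}} (g : S ⟶ S')

theorem representable_map {A' B' : Sp S'} (a : A' ⟶ B') (ha : Representable a) :
    Representable ((Φ g).map a) := by
  intro T ξ
  obtain ⟨V', v, fst', sq⟩ := ha ((transp g T B').symm ξ)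
  have := isPullback_transp g a _ v fst' sq
  rw [Equiv.apply_symm_apply] at this
  exact ⟨VS g v, vS g v, fstS g v fst', this⟩

theorem repWith_map (P : MorphismProperty Scheme.{u}) [P.IsStableUnderBaseChange]
    {A' B' : Sp S'} (a : A' ⟶ B') (ha : RepWith P a) : RepWith P ((Φ g).map a) := by
  haveI : P.RespectsIso := MorphismProperty.IsStableUnderBaseChange.respectsIso
  obtain ⟨ha1, ha2⟩ := (repWith_iff P a).1 ha
  apply Groth.Agent.Helper5.ZarGlue.repWith_of_exists
  intro T ξ
  obtain ⟨V', v, fst', sq⟩ := ha1 ((transp g T B').symm ξ)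
  have := isPullback_transp g a _ v fst' sq
  rw [Equiv.apply_symm_apply] at this
  exact ⟨VS g v, vS g v, fstS g v fst', this, ha2 _ _ _ sq⟩

instance : PreservesLimitsOfShape (Discrete WalkingPair) (Φ g) := inferInstance

theorem diag_map (F' : Sp S') :
    Limits.diag ((Φ g).obj F') = (Φ g).map (Limits.diag F') ≫ prodComparison (Φ g) F' F' := by
  simp only [Limits.diag, prodComparison, prod.comp_lift, ← Functor.map_comp, prod.lift_fst,
    prod.lift_snd]
  erw [(Φ g).map_id F']

/-- `j⁻¹ h_{X'}` is represented by `X' ×_{S'} S` -/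
noncomputable def repBy (X' : Over S') :
    ((Φ g).obj ((yon S').obj X')).obj.RepresentableBy (Over.mk (pullback.snd X'.hom g)) where
  homEquiv {T} := ((Over.mapPullbackAdj g).homEquiv T X').symm.trans Equiv.ulift.symm
  homEquiv_comp {T T₁} f t := by
    apply ULift.ext
    show ((Over.mapPullbackAdj g).homEquiv T X').symm (f ≫ t) =
      (Over.map g).map f ≫ ((Over.mapPullbackAdj g).homEquiv T₁ X').symm t
    exact (Over.mapPullbackAdj g).homEquiv_naturality_left_symm f t

/-- the induced isomorphism of sheaves -/
noncomputable def isoYon (X' : Over S') :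
    (yon S).obj (Over.mk (pullback.snd X'.hom g)) ≅ (Φ g).obj ((yon S').obj X') :=
  (fullyFaithfulSheafToPresheaf _ _).preimageIso
    ((Functor.RepresentableBy.equivUliftYonedaIso _ _) (repBy g X'))

end Groth.Agent.Helper5.JInv
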