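import Groth.Agent.Helper5.FEtColim9
import Groth.Agent.Helper5.JInv3
import Mathlib

set_option autoImplicit false
set_option linter.style.haveILetI false
set_option linter.unusedSectionVars false
set_option linter.unusedVariables false
universe u
open CategoryTheory CategoryTheory.Limits AlgebraicGeometry Opposite

namespace Groth.Agent.Helper5.FEtColim

open AlgSp Groth.Agent.Helper5.JInv

section

variable {S S' : Scheme.{u}} (g : S ⟶ S')

theorem isoYon_hom_app (X' : Over S') (T : Over S) (t : T ⟶ Over.mk (pullback.snd X'.hom g)) :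
    (isoYon g X').hom.hom.app (op T) ⟨t⟩ = ⟨((Over.mapPullbackAdj g).homEquiv T X').symm t⟩ := by
  rfl

theorem isoYon_natural {A' B' : Over S'} (φ : A' ⟶ B') :
    (yon S).map ((Over.pullback g).map φ) ≫ (isoYon g B').hom =
      (isoYon g A').hom ≫ (Φ g).map ((yon S').map φ) := by
  apply (J S).uliftYonedaEquiv.injective
  rw [GrothendieckTopology.uliftYonedaEquiv_apply, GrothendieckTopology.uliftYonedaEquiv_apply]
  show (isoYon g B').hom.hom.app _ (((yon S).map ((Over.pullback g).map φ)).hom.app _ ⟨𝟙 _⟩) =
    ((Φ g).map ((yon S').map φ)).hom.app _ ((isoYon g A').hom.hom.app _ ⟨𝟙 _⟩)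
  rw [yon_map_app_apply, isoYon_hom_app, isoYon_hom_app]
  show _ = ((yon S').map φ).hom.app _ _
  rw [yon_map_app_apply]
  congr 1
  rw [Category.id_comp]
  have := (Over.mapPullbackAdj g).homEquiv_naturality_right_symm (𝟙 _) φ
  rw [Category.id_comp] at this
  exact this

/-- restriction of sheaves along `g` preserves colimits -/
instance : PreservesColimitsOfSize.{0, 0} (Φ g) :=
  ((Over.map g).sheafAdjunctionCocontinuous (Type (u + 1)) (J S) (J S')).leftAdjoint_preservesColimits

end

variable {X Y : Scheme.{u}} (f : X ⟶ Y)

/-- base change of finite étale covers corresponds to restriction of sheaves -/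
noncomputable def restrictIso : FEt.restrict f ⋙ yF X ≅ yF Y ⋙ Φ f :=
  NatIso.ofComponents (fun A => isoYon f ((fF Y).obj A))
    (fun φ => isoYon_natural f ((fF Y).map φ))

theorem preservesFiniteColimits_restrict : PreservesFiniteColimits (FEt.restrict f) := by
  have h1 : PreservesFiniteColimits (yF Y ⋙ Φ f) := inferInstance
  have h2 : PreservesFiniteColimits (FEt.restrict f ⋙ yF X) :=
    preservesFiniteColimits_of_natIso (restrictIso f).symm
  exact ⟨fun J _ _ => preservesColimitsOfShape_of_reflects_of_preserves (FEt.restrict f) (yF X)⟩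

end Groth.Agent.Helper5.FEtColim
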