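import Mathlib

set_option autoImplicit false
set_option linter.style.haveILetI false
set_option linter.unusedSectionVars false
set_option linter.unusedVariables false
universe u
open CategoryTheory CategoryTheory.Limits

namespace Groth.Agent.Helper5.FEtColim

section Abstract

variable {C : Type*} [Category C]

/-- abstract computation of a coequalizer of two maps into a finite copower, given charts of
the source on which both maps are "constant". -/
theorem exists_isColimit_cofork_of_charts {ι κ J : Type*} (q : ι → κ)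
    (hq : Function.Surjective q)
    {A PY : C} (c₁ : Cofan (fun _ : ι => A)) (hc₁ : IsColimit c₁)
    (c₂ : Cofan (fun _ : κ => A)) (hc₂ : IsColimit c₂) (α β : PY ⟶ c₁.pt)
    (B : J → C) (u : ∀ j, B j ⟶ PY) (b : ∀ j, B j ⟶ A) (src tgt : J → ι)
    (hα : ∀ j, u j ≫ α = b j ≫ c₁.inj (src j)) (hβ : ∀ j, u j ≫ β = b j ≫ c₁.inj (tgt j))
    (hepi : ∀ {F : C} (σ τ : PY ⟶ F), (∀ j, u j ≫ σ = u j ≫ τ) → σ = τ)
    (hb : ∀ j, Epi (b j))
    (hq1 : ∀ j, q (src j) = q (tgt j))
    (hq2 : ∀ i i', q i = q i' →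
      Relation.EqvGen (fun a a' => ∃ j, src j = a ∧ tgt j = a') i i') :
    ∃ (π : c₁.pt ⟶ c₂.pt) (w : α ≫ π = β ≫ π),
      (∀ i, c₁.inj i ≫ π = c₂.inj (q i)) ∧ Nonempty (IsColimit (Cofork.ofπ π w)) := by
  let π : c₁.pt ⟶ c₂.pt := Cofan.IsColimit.desc hc₁ (fun i => c₂.inj (q i))
  have hπ : ∀ i, c₁.inj i ≫ π = c₂.inj (q i) := fun i => Cofan.IsColimit.fac hc₁ _ i
  have w : α ≫ π = β ≫ π := by
    apply hepi
    intro j
    rw [← Category.assoc, hα, Category.assoc, hπ, ← Category.assoc, hβ, Category.assoc, hπ, hq1]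
  refine ⟨π, w, hπ, ⟨Cofork.IsColimit.mk' _ (fun s => ?_)⟩⟩
  have hs : α ≫ s.π = β ≫ s.π := s.condition
  let t : ι → (A ⟶ s.pt) := fun i => c₁.inj i ≫ s.π
  have ht0 : ∀ i i', Relation.EqvGen (fun a a' => ∃ j, src j = a ∧ tgt j = a') i i' →
      t i = t i' := by
    intro i i' h2
    induction h2 with
    | rel a a' hr =>
      obtain ⟨j, rfl, rfl⟩ := hr
      haveI := hb j
      rw [← cancel_epi (b j)]
      show b j ≫ c₁.inj (src j) ≫ s.π = b j ≫ c₁.inj (tgt j) ≫ s.π
      rw [← Category.assoc, ← hα, ← Category.assoc, ← hβ, Category.assoc, Category.assoc, hs]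
    | refl a => rfl
    | symm a a' _ ih => exact ih.symm
    | trans a a' a'' _ _ ih1 ih2 => exact ih1.trans ih2
  have ht : ∀ i i', q i = q i' → t i = t i' := fun i i' h => ht0 i i' (hq2 i i' h)
  let l : c₂.pt ⟶ s.pt := Cofan.IsColimit.desc hc₂ (fun k => t (Function.surjInv hq k))
  have hl : ∀ i, c₂.inj (q i) ≫ l = t i := by
    intro i
    have h1 : c₂.inj (q i) ≫ l = t (Function.surjInv hq (q i)) := Cofan.IsColimit.fac hc₂ _ _
    rw [h1]
    exact ht _ _ (Function.surjInv_eq hq (q i))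
  refine ⟨l, ?_, ?_⟩
  · apply Cofan.IsColimit.hom_ext hc₁
    intro i
    show c₁.inj i ≫ π ≫ l = c₁.inj i ≫ s.π
    rw [← Category.assoc, hπ, hl]
  · intro m hm
    apply Cofan.IsColimit.hom_ext hc₂
    intro k
    obtain ⟨i, rfl⟩ := hq k
    rw [hl, ← hπ, Category.assoc]
    show c₁.inj i ≫ π ≫ m = c₁.inj i ≫ s.π
    have hm' : π ≫ m = s.π := hm
    rw [hm']

/-- the section squares of a product are cartesian -/
theorem isPullback_lift_id [HasBinaryProducts C] {A' A Z : C} (τ : A' ⟶ A) (z : A ⟶ Z) :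
    IsPullback (prod.lift (𝟙 A') (τ ≫ z)) τ (prod.map τ (𝟙 Z)) (prod.lift (𝟙 A) z) := by
  refine ⟨⟨?_⟩, ⟨PullbackCone.IsLimit.mk _ (fun s => s.fst ≫ prod.fst) ?_ ?_ ?_⟩⟩
  · ext <;> simp
  · intro s
    have h1 := s.condition =≫ prod.fst
    have h2 := s.condition =≫ prod.snd
    simp only [Category.assoc, prod.map_fst, prod.map_snd, prod.lift_fst, prod.lift_snd,
      Category.comp_id] at h1 h2
    ext
    · simp only [Category.assoc, prod.comp_lift, Category.comp_id]
      exact prod.lift_fst _ _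
    · simp only [Category.assoc, prod.comp_lift, prod.lift_snd, Category.comp_id]
      rw [h2, ← h1]
      simp only [Category.assoc]
  · intro s
    have h1 := s.condition =≫ prod.fst
    simp only [Category.assoc, prod.map_fst, prod.lift_fst, Category.comp_id] at h1
    rw [Category.assoc]
    exact h1
  · intro s m h1 h2
    rw [← h1]
    simp only [prod.comp_lift, Category.comp_id]
    exact (prod.lift_fst _ _).symm

end Abstract

end Groth.Agent.Helper5.FEtColim
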