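import Groth.Agent.Helper5.FEtColim1
import Groth.Agent.Helper5.FEtColim2
import Mathlib

set_option autoImplicit false
set_option linter.style.haveILetI false
set_option linter.unusedSectionVars false
set_option linter.unusedVariables false
universe u
open CategoryTheory CategoryTheory.Limits AlgebraicGeometry Opposite

namespace Groth.Agent.Helper5.FEtColim

open AlgSp Groth.Agent.Helper5.SpCoprod Groth.Agent.Helper5.YonCoprod

variable {X : Scheme.{u}}

section Closed

noncomputable local instance instMCPsh :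
    MonoidalClosed ((Over X)ᵒᵖ ⥤ Type (u + 1)) := FunctorToTypes.monoidalClosed.{u + 1, u, u + 1}

/-- products with a fixed sheaf preserve colimits (the topos of sheaves is cartesian closed) -/
theorem preservesColimits_prod (A : Sp X) :
    PreservesColimitsOfSize.{0, 0} (prod.functor.obj A : Sp X ⥤ Sp X) := by
  letI mc := instMonoidalClosedSheafOfHasSheafifyOfFunctorOpposite
    (QuotSh.J Scheme.fppfPrecoverage X) (Type (u + 1))
  have h2 : PreservesColimitsOfSize.{0, 0} (MonoidalCategory.tensorLeft A) :=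
    (ihom.adjunction A).leftAdjoint_preservesColimits
  exact @preservesColimits_of_natIso _ _ _ _ _ _ (CartesianMonoidalCategory.tensorLeftIsoProd A) h2

end Closed

/-- products with a fixed sheaf preserve coequalizers -/
theorem isColimit_cofork_prod (A : Sp X) {P Q G : Sp X} (α β : P ⟶ Q) (π : Q ⟶ G)
    (w : α ≫ π = β ≫ π) (h : IsColimit (Cofork.ofπ π w)) :
    Nonempty (IsColimit (Cofork.ofπ (f := prod.map (𝟙 A) α) (g := prod.map (𝟙 A) β)
      (prod.map (𝟙 A) π) (by rw [prod.map_map, prod.map_map, w]))) := by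
  have := preservesColimits_prod A
  have h1 := isColimitOfPreserves (prod.functor.obj A) h
  exact ⟨(isColimitMapCoconeCoforkEquiv (prod.functor.obj A) w) h1⟩

/-- maps out of `h_W` are determined on an fppf covering family -/
theorem hom_ext_of_cover {W : Over X} {κ : Type u} (B : κ → Over X) (w : ∀ k, B k ⟶ W)
    (hfl : ∀ k, Flat (w k).left) (hlfp : ∀ k, LocallyOfFinitePresentation (w k).left)
    (hs : ∀ p : W.left, ∃ k, p ∈ Set.range (w k).left) {F : Sp X}
    (σ τ : (yon X).obj W ⟶ F) (h : ∀ k, (yon X).map (w k) ≫ σ = (yon X).map (w k) ≫ τ) :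
    σ = τ := by
  have hmem := Groth.Agent.Helper5.FppfLift.ofArrows_mem_J B w hfl hlfp hs
  have hsh : Presieve.IsSheaf (J X) F.obj := (isSheaf_iff_isSheaf_of_type _ _).1 F.property
  apply (J X).uliftYonedaEquiv.injective
  refine (hsh _ hmem).isSeparatedFor.ext ?_
  rintro V γ ⟨Z, a, _, ⟨k⟩, rfl⟩
  rw [GrothendieckTopology.uliftYonedaEquiv_naturality,
    GrothendieckTopology.uliftYonedaEquiv_naturality]
  congr 1
  show (yon X).map (a ≫ w k) ≫ σ = (yon X).map (a ≫ w k) ≫ τ
  rw [Functor.map_comp, Category.assoc, Category.assoc, h k]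

/-- an fppf cover induces an epimorphism of sheaves -/
theorem epi_yon_map {B T : Over X} (b : B ⟶ T) (hfl : Flat b.left)
    (hlfp : LocallyOfFinitePresentation b.left) (hs : Function.Surjective b.left) :
    Epi ((yon X).map b) := by
  refine ⟨fun {F} σ τ h => ?_⟩
  exact hom_ext_of_cover (κ := PUnit.{u + 1}) (fun _ => B) (fun _ => b) (fun _ => hfl)
    (fun _ => hlfp) (fun p => ⟨PUnit.unit, hs p⟩) σ τ (fun _ => h)

/-- the coproduct of schemes over `X` is a coproduct in `Over X` -/
noncomputable def isColimitSigmaOver {ι : Type u} (W : ι → Over X) :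
    IsColimit (Cofan.mk (sigmaOver W) (sigmaι W)) := by
  refine Cofan.IsColimit.mk _
    (fun s => Over.homMk (Limits.Sigma.desc (fun i => (s.inj i).left)) ?_) ?_ ?_
  · show Limits.Sigma.desc _ ≫ s.pt.hom = Limits.Sigma.desc (fun j => (W j).hom)
    apply Limits.Sigma.hom_ext
    intro i
    rw [Limits.Sigma.ι_desc_assoc, Limits.Sigma.ι_desc]
    exact Over.w (s.inj i)
  · intro s i
    ext
    show Limits.Sigma.ι (fun j => (W j).left) i ≫ Limits.Sigma.desc (fun i => (s.inj i).left) = _
    exact Limits.Sigma.ι_desc _ _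
  · intro s m hm
    ext
    show m.left = Limits.Sigma.desc (fun i => (s.inj i).left)
    apply Limits.Sigma.hom_ext
    intro i
    rw [Limits.Sigma.ι_desc, ← hm i]
    rfl

/-- `yon` preserves coproducts (indexed by a type in `Type u`) -/
theorem isColimit_yon_cofan {ι : Type u} {W : ι → Over X} (c : Cofan W) (hc : IsColimit c) :
    Nonempty (IsColimit (Cofan.mk ((yon X).obj c.pt) (fun i => (yon X).map (c.inj i)))) := by
  let e : sigmaOver W ≅ c.pt := (isColimitSigmaOver W).coconePointUniqueUpToIso hc
  have he : ∀ i, sigmaι W i ≫ e.hom = c.inj i := fun i =>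
    (isColimitSigmaOver W).comp_coconePointUniqueUpToIso_hom hc ⟨i⟩
  refine ⟨IsColimit.ofIsoColimit (isColimitCofan W) (Cofan.ext ((yon X).mapIso e) (fun i => ?_))⟩
  show (yon X).map (sigmaι W i) ≫ (yon X).map e.hom = (yon X).map (c.inj i)
  rw [← Functor.map_comp, he]

end Groth.Agent.Helper5.FEtColim
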