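import Groth.Agent.Helper5.SpCoprod1
import Mathlib

set_option autoImplicit false
set_option linter.style.haveILetI false
set_option linter.unusedSectionVars false
set_option linter.unusedVariables false
universe u
open CategoryTheory CategoryTheory.Limits AlgebraicGeometry Opposite

namespace Groth.Agent.Helper5.SpCoprod

open AlgSp Groth.Agent.Helper5.ZarGlue

variable {S : Scheme.{u}}

/-- the range of a coproduct inclusion of schemes is closed -/
theorem isClosed_range_sigmaι {ι : Type u} (g : ι → Scheme.{u}) (i : ι) :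
    IsClosed (Set.range (Sigma.ι g i)) := by
  rw [← isOpen_compl_iff]
  have e : (Set.range (Sigma.ι g i))ᶜ = ⋃ j ∈ {j | j ≠ i}, Set.range (Sigma.ι g j) := by
    ext x
    simp only [Set.mem_compl_iff, Set.mem_iUnion, Set.mem_ofPred_eq, exists_prop]
    constructor
    · intro hx
      obtain ⟨y, hy⟩ := (sigmaOpenCover g).covers x
      refine ⟨(sigmaOpenCover g).idx x, ?_, y, hy⟩
      rintro h
      apply hx
      exact ⟨h ▸ y, by subst h; exact hy⟩
    · rintro ⟨j, hj, y, rfl⟩ ⟨z, hz⟩
      exact hj ((Sigma.mk.inj_iff.1 ((sigmaι_eq_iff g i j z y).1 hz)).1.symm)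
  rw [e]
  exact isOpen_biUnion fun j _ => (Sigma.ι g j).opensRange.2

/-- the bottom sieve covers an empty scheme -/
theorem bot_mem_of_isEmpty (T : Over S) [IsEmpty T.left] : (⊥ : Sieve T) ∈ J S T := by
  rw [GrothendieckTopology.mem_over_iff]
  have h1 : (⊥ : Presieve T.left) ∈ Scheme.fppfPrecoverage T.left := by
    unfold Scheme.fppfPrecoverage
    exact Scheme.bot_mem_precoverage _ T.left
  have h2 := Precoverage.generate_mem_toGrothendieck h1
  convert h2 using 1
  ext Y f
  simp only [Sieve.overEquiv_iff, Sieve.generate_apply]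
  constructor
  · intro h; exact h.elim
  · rintro ⟨Z, a, b, hb, -⟩; exact hb.elim

/-- a sheaf has exactly one section over an empty scheme -/
theorem existsUnique_hom_of_isEmpty (G : Sp S) (V : Over S) [IsEmpty V.left] :
    ∃ a : (yon S).obj V ⟶ G, ∀ b : (yon S).obj V ⟶ G, b = a := by
  have hG : Presieve.IsSheaf (J S) G.obj := (isSheaf_iff_isSheaf_of_type _ _).1 G.property
  let x : Presieve.FamilyOfElements G.obj (⊥ : Sieve V).arrows := fun _ _ h => h.elim
  have hx : x.Compatible := fun _ _ _ _ _ _ _ h => h.elim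
  refine ⟨(J S).uliftYonedaEquiv.symm ((hG _ (bot_mem_of_isEmpty V)).amalgamate x hx), ?_⟩
  intro b
  apply (J S).uliftYonedaEquiv.injective
  exact (Groth.Agent.Helper5.YonCoprod.subsingleton_of_isEmpty G V).elim _ _

end Groth.Agent.Helper5.SpCoprod
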