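import Groth.Agent.Helper5.SpCoprod6
import Mathlib

set_option autoImplicit false
set_option linter.style.haveILetI false
set_option linter.unusedSectionVars false
set_option linter.unusedVariables false
universe u
open CategoryTheory CategoryTheory.Limits AlgebraicGeometry Opposite

namespace Groth.Agent.Helper5.SpCoprod

open AlgSp Groth.Agent.Helper5.ZarGlue Functor.relativelyRepresentable

variable {S : Scheme.{u}}

theorem range_of_isPullback {X Y Z P : Scheme.{u}} {fst : P ⟶ X} {snd : P ⟶ Y} {f : X ⟶ Z}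
    {g : Y ⟶ Z} (sq : IsPullback fst snd f g) : Set.range fst = f ⁻¹' Set.range g := by
  rw [← Scheme.Pullback.range_fst f g]
  have e : fst = sq.isoPullback.hom ≫ pullback.fst f g := sq.isoPullback_hom_fst.symm
  rw [e, Scheme.Hom.comp_base, TopCat.coe_comp, Set.range_comp]
  have hs : Function.Surjective sq.isoPullback.hom := by
    intro y
    refine ⟨sq.isoPullback.inv y, ?_⟩
    rw [← Scheme.Hom.comp_apply, Iso.inv_hom_id]
    rfl
  rw [hs.range_eq, Set.image_univ]

/-- a scheme over a coproduct is the coproduct of the preimages of the summands -/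
theorem isColimit_of_pullback_sigma {ι : Type u} {X : Scheme.{u}} (Y : ι → Scheme.{u})
    (τ : X ⟶ ∐ Y) (X' : ι → Scheme.{u}) (x : ∀ i, X' i ⟶ X) (v : ∀ i, X' i ⟶ Y i)
    (sq : ∀ i, IsPullback (x i) (v i) τ (Sigma.ι Y i)) :
    Nonempty (IsColimit (Cofan.mk X x)) := by
  have hoi : ∀ i, IsOpenImmersion (x i) := fun i =>
    MorphismProperty.of_isPullback (P := @IsOpenImmersion) (sq i).flip inferInstance
  have hcov : ∀ p : X, ∃ i, p ∈ Set.range (x i) := by
    intro p
    obtain ⟨y, hy⟩ := (sigmaOpenCover Y).covers (τ p)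
    refine ⟨(sigmaOpenCover Y).idx (τ p), ?_⟩
    rw [range_of_isPullback (sq _)]
    exact ⟨y, hy⟩
  let 𝒰 : X.OpenCover :=
    { I₀ := ι
      X := X'
      f := x
      mem₀ := by
        rw [Scheme.ofArrows_mem_precoverage_iff]
        exact ⟨hcov, hoi⟩ }
  have hcompat : ∀ (s : Cofan X') (i j : ι),
      pullback.fst (x i) (x j) ≫ s.inj i = pullback.snd (x i) (x j) ≫ s.inj j := by
    intro s i j
    by_cases hij : i = j
    · subst hij
      haveI := hoi i
      have : pullback.fst (x i) (x i) = pullback.snd (x i) (x i) := by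
        rw [← cancel_mono (x i), pullback.condition]
      rw [this]
    · haveI : IsEmpty ↥(pullback (x i) (x j)) := by
        refine isEmpty_of_commSq_sigmaι_of_ne (g := Y) (i := i) (j := j)
          (a := pullback.fst (x i) (x j) ≫ v i) (b := pullback.snd (x i) (x j) ≫ v j) ⟨?_⟩ hij
        rw [Category.assoc, Category.assoc, ← (sq i).w, ← (sq j).w, ← Category.assoc,
          pullback.condition, Category.assoc]
      exact (isInitialOfIsEmpty (X := pullback (x i) (x j))).hom_ext _ _
  refine ⟨Cofan.IsColimit.mk _ (fun s => 𝒰.glueMorphisms (fun i => s.inj i) (hcompat s)) ?_ ?_⟩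
  · intro s i
    exact 𝒰.ι_glueMorphisms _ _ i
  · intro s m hm
    apply 𝒰.hom_ext
    intro i
    rw [𝒰.ι_glueMorphisms]
    exact hm i

section Cofan

variable {ι : Type u} {F : ι → Sp S} (c : Cofan F) (hc : IsColimit c)

include hc in
/-- S9879 -/
theorem s9879 (U : Over S) (e : c.pt ≅ (yon S).obj U) :
    ∃ (V : ι → Over S) (g : ∀ i, V i ⟶ U) (ei : ∀ i, (yon S).obj (V i) ≅ F i),
      (∀ i, IsOpenImmersion (g i).left ∧ IsClosedImmersion (g i).left) ∧
      (∀ i, (ei i).hom ≫ c.inj i ≫ e.hom = (yon S).map (g i)) ∧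
      Nonempty (IsColimit (Cofan.mk U.left (fun i => (g i).left))) := by
  obtain ⟨τ, hτ⟩ := (yon S).map_surjective (e.inv ≫ chi c hc)
  have hp : ∀ i, ∃ (Ti : Over S) (ti : Ti ⟶ U) (gi : (yon S).obj Ti ⟶ F i),
      IsPullback gi ((yon S).map ti) (c.inj i) e.inv ∧ IsOpenImmersion ti.left ∧
      IsClosedImmersion ti.left ∧
      ∃ (vi : Ti ⟶ Over.mk (𝟙 S)), IsPullback ti vi τ (idxι i) := by
    intro i
    obtain ⟨Ti, ti, gi, sq, h1, h2, τ', vi, hτ', sq'⟩ := exists_piece c hc e.inv i
    have : τ' = τ := (yon S).map_injective (hτ'.trans hτ.symm)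
    subst this
    exact ⟨Ti, ti, gi, sq, h1, h2, vi, sq'⟩
  choose V g gi sq hoi hci vi sqv using hp
  have hiso : ∀ i, IsIso (gi i) := fun i => (sq i).isIso_fst_of_isIso
  refine ⟨V, g, fun i => @asIso _ _ _ _ (gi i) (hiso i), fun i => ⟨hoi i, hci i⟩, fun i => ?_, ?_⟩
  · show gi i ≫ c.inj i ≫ e.hom = (yon S).map (g i)
    rw [← Category.assoc, (sq i).w, Category.assoc, Iso.inv_hom_id, Category.comp_id]
  · exact isColimit_of_pullback_sigma (fun _ : ι => S) τ.left (fun i => (V i).left)
      (fun i => (g i).left) (fun i => (vi i).left)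
      (fun i => Groth.Agent.Helper5.GeomFibSp.isPullback_left (sqv i))

end Cofan

end Groth.Agent.Helper5.SpCoprod
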