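import Groth.Agent.Helper5.FEtColim3
import Groth.Agent.Helper5.SpCoprod2
import Groth.Agent.Helper5.SpCoprod7
import Mathlib

set_option autoImplicit false
set_option linter.style.haveILetI false
set_option linter.unusedSectionVars false
set_option linter.unusedVariables false
universe u
open CategoryTheory CategoryTheory.Limits AlgebraicGeometry Opposite

namespace Groth.Agent.Helper5.FEtColim

open AlgSp Groth.Agent.Helper5.SpCoprod Groth.Agent.Helper5.YonCoprod

variable {X : Scheme.{u}}

/-- a property stable under base change holds for the projection `T × Y ⟶ T` in `Over X` -/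
theorem prop_prod_fst_left (P : MorphismProperty Scheme.{u}) [P.IsStableUnderBaseChange]
    (T Y : Over X) (hY : P Y.hom) : P (prod.fst : T ⨯ Y ⟶ T).left := by
  have : P.RespectsIso := MorphismProperty.IsStableUnderBaseChange.respectsIso
  rw [← Over.prodLeftIsoPullback_hom_fst]
  exact (P.cancel_left_of_respectsIso _ _).2 (P.pullback_fst _ _ hY)

/-- injections of a colimit cofan of schemes -/
theorem cofan_scheme_facts {ι : Type u} {W : ι → Scheme.{u}} (c : Cofan W) (hc : IsColimit c) :
    (∀ i, IsOpenImmersion (c.inj i)) ∧ (∀ p : c.pt, ∃ i, p ∈ Set.range (c.inj i)) ∧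
      (∀ i, IsClosed (Set.range (c.inj i))) := by
  let e : ∐ W ≅ c.pt := (coproductIsCoproduct W).coconePointUniqueUpToIso hc
  have he : ∀ i, Limits.Sigma.ι W i ≫ e.hom = c.inj i := fun i =>
    (coproductIsCoproduct W).comp_coconePointUniqueUpToIso_hom hc ⟨i⟩
  refine ⟨fun i => ?_, fun p => ?_, fun i => ?_⟩
  · rw [← he]; infer_instance
  · obtain ⟨y, hy⟩ := (sigmaOpenCover W).covers (e.inv p)
    refine ⟨_, y, ?_⟩
    rw [← he, Scheme.Hom.comp_apply]
    have : (sigmaOpenCover W).f ((sigmaOpenCover W).idx (e.inv p)) y = e.inv p := hy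
    erw [this]
    rw [← Scheme.Hom.comp_apply, e.inv_hom_id]
    rfl
  · rw [← he, Scheme.Hom.comp_base, TopCat.coe_comp, Set.range_comp]
    exact e.hom.homeomorph.isClosedMap _ (isClosed_range_sigmaι W i)

section Charts

variable {T Y Z : Over X} (f g : Y ⟶ Z) {ι : Type u} (z : ι → (T ⟶ Z))

/-- the sections of `T × Z ⟶ T` -/
noncomputable def sec (i : ι) : T ⟶ T ⨯ Z := prod.lift (𝟙 T) (z i)

@[reassoc (attr := simp)]
theorem sec_fst (i : ι) : sec z i ≫ prod.fst = 𝟙 T := prod.lift_fst _ _

@[reassoc (attr := simp)]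
theorem sec_snd (i : ι) : sec z i ≫ prod.snd = z i := prod.lift_snd _ _

/-- geometric consequences of the splitting hypothesis -/
structure SplitHyp : Prop where
  oi : ∀ i, IsOpenImmersion (sec z i).left
  cover : ∀ p : (T ⨯ Z).left, ∃ i, p ∈ Set.range (sec z i).left
  closed : ∀ i, IsClosed (Set.range (sec z i).left)

theorem splitHyp_of_isColimit (hc : IsColimit (Cofan.mk (T ⨯ Z) (sec z))) : SplitHyp z := by
  have h1 : IsColimit ((Over.forget X).mapCocone (Cofan.mk (T ⨯ Z) (sec z))) :=
    isColimitOfPreserves (Over.forget X) hc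
  have h2 := (isColimitMapCoconeCofanMkEquiv (Over.forget X) _ _) h1
  obtain ⟨a, b, c⟩ := cofan_scheme_facts _ h2
  exact ⟨a, b, c⟩

/-- the chart on which `f` lands in the `i`-th sheet and `g` in the `j`-th -/
def chartSet (i j : ι) : Set (T ⨯ Y).left :=
  (prod.map (𝟙 T) f).left ⁻¹' Set.range (sec z i).left ∩
    (prod.map (𝟙 T) g).left ⁻¹' Set.range (sec z j).left

/-- its image in `T` -/
def chartImage (i j : ι) : Set T.left :=
  (prod.fst : T ⨯ Y ⟶ T).left '' chartSet f g z i j

variable {f g z}

theorem isOpen_chartSet (h : SplitHyp z) (i j : ι) : IsOpen (chartSet f g z i j) := by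
  haveI := h.oi i
  haveI := h.oi j
  exact ((sec z i).left.isOpenEmbedding.isOpen_range.preimage (prod.map (𝟙 T) f).left.continuous).inter
    ((sec z j).left.isOpenEmbedding.isOpen_range.preimage (prod.map (𝟙 T) g).left.continuous)

theorem isClosed_chartSet (h : SplitHyp z) (i j : ι) : IsClosed (chartSet f g z i j) :=
  ((h.closed i).preimage (prod.map (𝟙 T) f).left.continuous).inter
    ((h.closed j).preimage (prod.map (𝟙 T) g).left.continuous)

theorem exists_mem_chartSet (h : SplitHyp z) (p : (T ⨯ Y).left) : ∃ i j, p ∈ chartSet f g z i j := by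
  obtain ⟨i, hi⟩ := h.cover ((prod.map (𝟙 T) f).left p)
  obtain ⟨j, hj⟩ := h.cover ((prod.map (𝟙 T) g).left p)
  exact ⟨i, j, hi, hj⟩

section ChartObj

variable (f g) (h : SplitHyp z) (i j : ι)

/-- the chart as an open subscheme of `T × Y` -/
def chartOpens : (T ⨯ Y).left.Opens := ⟨chartSet f g z i j, isOpen_chartSet h i j⟩

/-- the chart as a scheme over `X` -/
noncomputable def chartObj : Over X := Over.mk ((chartOpens f g h i j).ι ≫ (T ⨯ Y).hom)

/-- the inclusion of the chart -/
noncomputable def chartIncl : chartObj f g h i j ⟶ T ⨯ Y :=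
  Over.homMk (chartOpens f g h i j).ι rfl

/-- the projection of the chart to `T` -/
noncomputable def chartProj : chartObj f g h i j ⟶ T := chartIncl f g h i j ≫ prod.fst

theorem range_chartIncl : Set.range (chartIncl f g h i j).left = chartSet f g z i j :=
  Scheme.Opens.range_ι (chartOpens f g h i j)

theorem range_chartProj : Set.range (chartProj f g h i j).left = chartImage f g z i j := by
  show Set.range ((chartIncl f g h i j).left ≫ (prod.fst : T ⨯ Y ⟶ T).left) = _
  rw [Scheme.Hom.comp_base, TopCat.coe_comp, Set.range_comp, range_chartIncl]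
  rfl

/-- a morphism to `T × Y` landing in the `i`-th sheet factors through the `i`-th section -/
theorem eq_comp_sec_of_range_subset (h : SplitHyp z) {W : Over X} (a : W ⟶ T ⨯ Z) (i : ι)
    (ha : Set.range a.left ⊆ Set.range (sec z i).left) : a = (a ≫ prod.fst) ≫ sec z i := by
  haveI := h.oi i
  let l : W.left ⟶ T.left := IsOpenImmersion.lift (sec z i).left a.left ha
  have hl : l ≫ (sec z i).left = a.left := IsOpenImmersion.lift_fac _ _ _
  have h1 : (sec z i).left ≫ (prod.fst : T ⨯ Z ⟶ T).left = 𝟙 _ := by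
    rw [← Over.comp_left, sec_fst]; rfl
  have h2 : l = a.left ≫ (prod.fst : T ⨯ Z ⟶ T).left := by
    rw [← hl, Category.assoc, h1, Category.comp_id]
  apply Over.OverMorphism.ext
  rw [Over.comp_left, Over.comp_left, ← h2, hl]

theorem chartIncl_map_f :
    chartIncl f g h i j ≫ prod.map (𝟙 T) f = chartProj f g h i j ≫ sec z i := by
  have h1 := eq_comp_sec_of_range_subset h (chartIncl f g h i j ≫ prod.map (𝟙 T) f) i (by
    rintro _ ⟨x, rfl⟩
    have hx : (chartIncl f g h i j).left x ∈ chartSet f g z i j := by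
      rw [← range_chartIncl f g h i j]; exact ⟨x, rfl⟩
    exact hx.1)
  rw [h1]
  congr 1
  rw [Category.assoc, prod.map_fst, Category.comp_id]
  rfl

theorem chartIncl_map_g :
    chartIncl f g h i j ≫ prod.map (𝟙 T) g = chartProj f g h i j ≫ sec z j := by
  have h1 := eq_comp_sec_of_range_subset h (chartIncl f g h i j ≫ prod.map (𝟙 T) g) j (by
    rintro _ ⟨x, rfl⟩
    have hx : (chartIncl f g h i j).left x ∈ chartSet f g z i j := by
      rw [← range_chartIncl f g h i j]; exact ⟨x, rfl⟩
    exact hx.2)
  rw [h1]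
  congr 1
  rw [Category.assoc, prod.map_fst, Category.comp_id]
  rfl

instance : IsOpenImmersion (chartIncl f g h i j).left :=
  inferInstanceAs (IsOpenImmersion (chartOpens f g h i j).ι)

end ChartObj

end Charts

end Groth.Agent.Helper5.FEtColim
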