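import Groth.Agent.Helper5.FEtColim4
import Groth.Agent.Helper3.FSplit3
import Groth.Prelude.Def_FEt
import Mathlib

set_option autoImplicit false
set_option linter.style.haveILetI false
set_option linter.unusedSectionVars false
set_option linter.unusedVariables false
universe u
open CategoryTheory CategoryTheory.Limits AlgebraicGeometry Opposite

namespace Groth.Agent.Helper5.FEtColim

open AlgSp Groth.Agent.Helper5.SpCoprod Groth.Agent.Helper5.YonCoprod

variable {X : Scheme.{u}}

/-- comparison isomorphism `h_{T × Z} ≅ h_T × h_Z` -/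
noncomputable def kap (T Z : Over X) :
    (yon X).obj (T ⨯ Z) ≅ (yon X).obj T ⨯ (yon X).obj Z := PreservesLimitPair.iso (yon X) T Z

@[reassoc]
theorem kap_hom_fst (T Z : Over X) : (kap T Z).hom ≫ prod.fst = (yon X).map prod.fst := by
  simp [kap]

@[reassoc]
theorem kap_hom_snd (T Z : Over X) : (kap T Z).hom ≫ prod.snd = (yon X).map prod.snd := by
  simp [kap]

theorem yon_sec_kap {T Z : Over X} (z : T ⟶ Z) :
    (yon X).map (prod.lift (𝟙 T) z) ≫ (kap T Z).hom = prod.lift (𝟙 _) ((yon X).map z) := by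
  apply prod.hom_ext
  · rw [Category.assoc, kap_hom_fst, ← Functor.map_comp, prod.lift_fst, prod.lift_fst]
    exact (yon X).map_id T
  · rw [Category.assoc, kap_hom_snd, ← Functor.map_comp, prod.lift_snd, prod.lift_snd]

theorem yon_map_kap {T Y Z : Over X} (f : Y ⟶ Z) :
    (yon X).map (prod.map (𝟙 T) f) ≫ (kap T Z).hom =
      (kap T Y).hom ≫ prod.map (𝟙 _) ((yon X).map f) := by
  apply prod.hom_ext
  · rw [Category.assoc, kap_hom_fst, ← Functor.map_comp, prod.map_fst, Category.assoc,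
      prod.map_fst, Category.comp_id, Category.comp_id, kap_hom_fst]
  · rw [Category.assoc, kap_hom_snd, ← Functor.map_comp, prod.map_snd, Category.assoc,
      prod.map_snd, kap_hom_snd_assoc, Functor.map_comp]

theorem isFinite_sigmaDesc_finite {κ : Type u} [Finite κ] {Y : Scheme.{u}} (W : κ → Scheme.{u})
    (f : ∀ k, W k ⟶ Y) [∀ k, IsFinite (f k)] : IsFinite (Limits.Sigma.desc f) := by
  obtain ⟨n, ⟨e⟩⟩ := Finite.exists_equiv_fin κ
  let d : (∐ (W ∘ e.symm)) ⟶ Y := Limits.Sigma.desc (fun i : Fin n => f (e.symm i))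
  have h1 : IsFinite d :=
    Groth.Agent.Helper3.FSplit.isFinite_sigmaDesc_fin n (W ∘ e.symm) (fun i => f (e.symm i))
  have h2 : Limits.Sigma.desc f = (Limits.Sigma.reindex e.symm W).inv ≫ d := by
    rw [Iso.eq_inv_comp]
    apply Limits.Sigma.hom_ext
    intro i
    rw [Limits.Sigma.ι_reindex_hom_assoc e.symm W i, Limits.Sigma.ι_desc]
    exact (Limits.Sigma.ι_desc (f := W ∘ e.symm) (fun i : Fin n => f (e.symm i)) i).symm
  rw [h2]
  infer_instance

/-- **Local lemma**: over a base `T` on which `Z` is split and the incidence of `f, g` with the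
sheets is constant, the coequalizer sheaf is represented by a finite copower of `T`. -/
theorem exists_local_rep {Y Z : Over X} (hYfl : Flat Y.hom)
    (hYlfp : LocallyOfFinitePresentation Y.hom) (f g : Y ⟶ Z) {G : Sp X}
    (π : (yon X).obj Z ⟶ G) (w : (yon X).map f ≫ π = (yon X).map g ≫ π)
    (hπ : IsColimit (Cofork.ofπ π w)) {T : Over X} {ι : Type u} [Finite ι] (z : ι → (T ⟶ Z))
    (hc : IsColimit (Cofan.mk (T ⨯ Z) (sec z)))
    (hR : ∀ i j, chartImage f g z i j = ∅ ∨ chartImage f g z i j = Set.univ) :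
    ∃ (V : Over X) (v : V ⟶ T) (a : (yon X).obj V ⟶ G), FEt.prop v.left ∧
      IsPullback a ((yon X).map v) (toOne G) (toOne ((yon X).obj T)) := by
  have h := splitHyp_of_isColimit z hc
  let A := (yon X).obj T
  obtain ⟨hc1⟩ := isColimit_yon_cofan _ hc
  let c₁ : Cofan (fun _ : ι => A) :=
    Cofan.mk (A ⨯ (yon X).obj Z) (fun i => prod.lift (𝟙 A) ((yon X).map (z i)))
  have hc₁ : IsColimit c₁ :=
    IsColimit.ofIsoColimit hc1 (Cofan.ext (kap T Z) (fun i => yon_sec_kap (z i)))
  let α : A ⨯ (yon X).obj Y ⟶ c₁.pt := prod.map (𝟙 A) ((yon X).map f)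
  let β : A ⨯ (yon X).obj Y ⟶ c₁.pt := prod.map (𝟙 A) ((yon X).map g)
  let J : Type u := {p : ι × ι // (chartImage f g z p.1 p.2).Nonempty}
  let B : J → Sp X := fun p => (yon X).obj (chartObj f g h p.1.1 p.1.2)
  let uu : ∀ p : J, B p ⟶ A ⨯ (yon X).obj Y := fun p =>
    (yon X).map (chartIncl f g h p.1.1 p.1.2) ≫ (kap T Y).hom
  let bb : ∀ p : J, B p ⟶ A := fun p => (yon X).map (chartProj f g h p.1.1 p.1.2)
  have hα : ∀ p, uu p ≫ α = bb p ≫ c₁.inj p.1.1 := by
    intro p
    show ((yon X).map _ ≫ (kap T Y).hom) ≫ prod.map (𝟙 A) ((yon X).map f) =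
      (yon X).map _ ≫ prod.lift (𝟙 A) ((yon X).map (z p.1.1))
    rw [Category.assoc, ← yon_map_kap, ← Category.assoc, ← Functor.map_comp, chartIncl_map_f,
      Functor.map_comp, Category.assoc]
    congr 1
    exact yon_sec_kap _
  have hβ : ∀ p, uu p ≫ β = bb p ≫ c₁.inj p.1.2 := by
    intro p
    show ((yon X).map _ ≫ (kap T Y).hom) ≫ prod.map (𝟙 A) ((yon X).map g) =
      (yon X).map _ ≫ prod.lift (𝟙 A) ((yon X).map (z p.1.2))
    rw [Category.assoc, ← yon_map_kap, ← Category.assoc, ← Functor.map_comp, chartIncl_map_g,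
      Functor.map_comp, Category.assoc]
    congr 1
    exact yon_sec_kap _
  have hepi : ∀ {F : Sp X} (σ τ : A ⨯ (yon X).obj Y ⟶ F),
      (∀ p, uu p ≫ σ = uu p ≫ τ) → σ = τ := by
    intro F σ τ hστ
    rw [← cancel_epi (kap T Y).hom]
    refine hom_ext_of_cover (κ := J) (fun p => chartObj f g h p.1.1 p.1.2)
      (fun p => chartIncl f g h p.1.1 p.1.2) (fun p => inferInstance) (fun p => inferInstance)
      ?_ _ _ (fun p => ?_)
    · intro p
      obtain ⟨i, j, hp⟩ := exists_mem_chartSet (f := f) (g := g) h p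
      refine ⟨⟨(i, j), ⟨_, ⟨p, hp, rfl⟩⟩⟩, ?_⟩
      rw [range_chartIncl]
      exact hp
    · have := hστ p
      simp only [uu, Category.assoc] at this
      exact this
  have hfstfl : Flat (prod.fst : T ⨯ Y ⟶ T).left := prop_prod_fst_left @Flat T Y hYfl
  have hfstlfp : LocallyOfFinitePresentation (prod.fst : T ⨯ Y ⟶ T).left :=
    prop_prod_fst_left @LocallyOfFinitePresentation T Y hYlfp
  have hb : ∀ p, Epi (bb p) := by
    intro p
    apply epi_yon_map
    · show Flat ((chartIncl f g h p.1.1 p.1.2).left ≫ (prod.fst : T ⨯ Y ⟶ T).left)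
      infer_instance
    · show LocallyOfFinitePresentation
        ((chartIncl f g h p.1.1 p.1.2).left ≫ (prod.fst : T ⨯ Y ⟶ T).left)
      infer_instance
    · rw [← Set.range_eq_univ, range_chartProj]
      exact (hR _ _).resolve_left p.2.ne_empty
  let r : ι → ι → Prop := fun a a' => ∃ p : J, p.1.1 = a ∧ p.1.2 = a'
  let K : Type u := Quot r
  let q : ι → K := Quot.mk r
  have hq : Function.Surjective q := fun k => Quot.exists_rep k
  have hq1 : ∀ p : J, q p.1.1 = q p.1.2 := fun p => Quot.sound ⟨p, rfl, rfl⟩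
  have hq2 : ∀ i i', q i = q i' → Relation.EqvGen r i i' := fun i i' h => Quot.eqvGen_exact h
  let Vf : K → Over X := fun _ => T
  let V : Over X := sigmaOver Vf
  let c₂ : Cofan (fun _ : K => A) :=
    Cofan.mk ((yon X).obj V) (fun k => (yon X).map (sigmaι Vf k))
  have hc₂ : IsColimit c₂ := isColimitCofan Vf
  obtain ⟨π', w', hπ', ⟨hcol⟩⟩ := exists_isColimit_cofork_of_charts q hq c₁ hc₁ c₂ hc₂ α β B uu bb
    (fun p => p.1.1) (fun p => p.1.2) hα hβ hepi hb hq1 hq2
  obtain ⟨hprod⟩ := isColimit_cofork_prod A ((yon X).map f) ((yon X).map g) π w hπ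
  let e : (yon X).obj V ≅ A ⨯ G := hcol.coconePointUniqueUpToIso hprod
  have he : π' ≫ e.hom = prod.map (𝟙 A) π :=
    hcol.comp_coconePointUniqueUpToIso_hom hprod WalkingParallelPair.one
  let v : V ⟶ T := Over.homMk (Limits.Sigma.desc (fun _ : K => 𝟙 T.left)) (by
    show Limits.Sigma.desc _ ≫ T.hom = Limits.Sigma.desc (fun k => (Vf k).hom)
    apply Limits.Sigma.hom_ext
    intro k
    rw [Limits.Sigma.ι_desc_assoc, Limits.Sigma.ι_desc, Category.id_comp])
  have hv : ∀ k, sigmaι Vf k ≫ v = 𝟙 T := by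
    intro k
    apply Over.OverMorphism.ext
    show Limits.Sigma.ι (fun k => (Vf k).left) k ≫ Limits.Sigma.desc (fun _ : K => 𝟙 T.left) = 𝟙 _
    exact Limits.Sigma.ι_desc _ _
  have hfst : e.hom ≫ prod.fst = (yon X).map v := by
    haveI : Epi π' := epi_of_isColimit_cofork hcol
    rw [← cancel_epi π', ← Category.assoc, he, prod.map_fst, Category.comp_id]
    apply Cofan.IsColimit.hom_ext hc₁
    intro i
    show prod.lift (𝟙 A) _ ≫ prod.fst = c₁.inj i ≫ π' ≫ (yon X).map v
    rw [prod.lift_fst, ← Category.assoc, hπ']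
    show 𝟙 A = (yon X).map (sigmaι Vf (q i)) ≫ (yon X).map v
    rw [← Functor.map_comp, hv]
    exact ((yon X).map_id T).symm
  refine ⟨V, v, e.hom ≫ prod.snd, ⟨?_, ?_⟩, ?_⟩
  · show IsFinite (Limits.Sigma.desc (fun _ : K => 𝟙 T.left))
    exact isFinite_sigmaDesc_finite _ _
  · show Etale (Limits.Sigma.desc (fun _ : K => 𝟙 T.left))
    exact IsZariskiLocalAtSource.sigmaDesc (fun _ => inferInstance)
  · have h0 : IsPullback (prod.snd : A ⨯ G ⟶ G) (prod.fst : A ⨯ G ⟶ A) (toOne G) (toOne A) :=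
      (IsPullback.of_is_product' (prodIsProd A G) isTerminalYon).flip
    refine IsPullback.of_iso h0 e.symm (Iso.refl _) (Iso.refl _) (Iso.refl _) ?_ ?_ ?_ ?_
    · simp
    · simp only [Iso.refl_hom, Category.comp_id, Iso.symm_hom]
      rw [← hfst, Iso.inv_hom_id_assoc]
    · simp
    · simp only [Iso.refl_hom, Category.comp_id, Category.id_comp]
      rfl

end Groth.Agent.Helper5.FEtColim
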