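import Groth.Agent.Helper5.FEtColim5
import Mathlib

set_option autoImplicit false
set_option linter.style.haveILetI false
set_option linter.unusedSectionVars false
set_option linter.unusedVariables false
universe u
open CategoryTheory CategoryTheory.Limits AlgebraicGeometry Opposite

namespace Groth.Agent.Helper5.FEtColim

open AlgSp Groth.Agent.Helper5.SpCoprod Groth.Agent.Helper5.YonCoprod

variable {X : Scheme.{u}}

noncomputable instance instFinitaryExtensiveOver : FinitaryExtensive (Over X) :=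
  finitaryExtensive_of_preserves_and_reflects_isomorphism (Over.forget X)

section Abstract

variable {C : Type*} [Category C] [HasBinaryProducts C]

/-- base change of the first projection -/
theorem isPullback_prod_fst {A' A Y : C} (τ : A' ⟶ A) :
    IsPullback (prod.fst : A' ⨯ Y ⟶ A') (prod.map τ (𝟙 Y)) τ (prod.fst : A ⨯ Y ⟶ A) := by
  refine ⟨⟨by simp⟩, ⟨PullbackCone.IsLimit.mk _ (fun s => prod.lift s.fst (s.snd ≫ prod.snd))
    ?_ ?_ ?_⟩⟩
  · intro s
    exact prod.lift_fst _ _
  · intro s
    apply prod.hom_ext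
    · rw [Category.assoc, prod.map_fst, prod.lift_fst_assoc]
      exact s.condition
    · rw [Category.assoc, prod.map_snd, prod.lift_snd_assoc, Category.comp_id]
  · intro s m h1 h2
    apply prod.hom_ext
    · rw [prod.lift_fst]; exact h1
    · rw [prod.lift_snd, ← h2, Category.assoc, prod.map_snd, Category.comp_id]

end Abstract

/-- a pullback square of schemes over `X` gives a product in `Over X` -/
noncomputable def isLimitBinaryFanOfIsPullback {P T Z : Over X} (a : P ⟶ T) (b : P ⟶ Z)
    (h : IsPullback a.left b.left T.hom Z.hom) : IsLimit (BinaryFan.mk a b) :=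
  BinaryFan.IsLimit.mk _
    (fun {W} u v => Over.homMk (h.lift u.left v.left (by rw [Over.w u, Over.w v])) (by
      show _ ≫ P.hom = W.hom
      rw [← Over.w a, ← Category.assoc, h.lift_fst, Over.w u]))
    (fun {W} u v => by
      apply Over.OverMorphism.ext
      exact h.lift_fst _ _ _)
    (fun {W} u v => by
      apply Over.OverMorphism.ext
      exact h.lift_snd _ _ _)
    (fun {W} u v m h1 h2 => by
      apply Over.OverMorphism.ext
      apply h.hom_ext
      · show m.left ≫ a.left = h.lift _ _ _ ≫ a.left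
        rw [h.lift_fst, ← h1]
        rfl
      · show m.left ≫ b.left = h.lift _ _ _ ≫ b.left
        rw [h.lift_snd, ← h2]
        rfl)

/-- transport of a split product to the chosen product -/
theorem isColimit_sec_of_product {P T Z : Over X} (a : P ⟶ T) (b : P ⟶ Z)
    (hP : IsLimit (BinaryFan.mk a b)) {ι : Type u} (s : ι → (T ⟶ P)) (hs : ∀ i, s i ≫ a = 𝟙 T)
    (hc : IsColimit (Cofan.mk P s)) :
    Nonempty (IsColimit (Cofan.mk (T ⨯ Z) (sec (fun i => s i ≫ b)))) := by
  have hQ : IsLimit (BinaryFan.mk (prod.fst : T ⨯ Z ⟶ T) prod.snd) := prodIsProd T Z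
  let e := hP.conePointUniqueUpToIso hQ
  have he1 : e.hom ≫ prod.fst = a :=
    hP.conePointUniqueUpToIso_hom_comp hQ ⟨WalkingPair.left⟩
  have he2 : e.hom ≫ prod.snd = b :=
    hP.conePointUniqueUpToIso_hom_comp hQ ⟨WalkingPair.right⟩
  refine ⟨IsColimit.ofIsoColimit hc (Cofan.ext e (fun i => ?_))⟩
  show s i ≫ e.hom = prod.lift (𝟙 T) (s i ≫ b)
  apply prod.hom_ext
  · rw [Category.assoc, he1, hs, prod.lift_fst]
  · rw [Category.assoc, he2, prod.lift_snd]

section Restrict

variable {T' T Y Z : Over X} (f g : Y ⟶ Z) {ι : Type u} (z : ι → (T ⟶ Z)) (τ : T' ⟶ T)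

/-- the splitting restricts along any `T' ⟶ T` -/
theorem isColimit_sec_restrict [Finite ι] (hc : IsColimit (Cofan.mk (T ⨯ Z) (sec z))) :
    Nonempty (IsColimit (Cofan.mk (T' ⨯ Z) (sec (fun i => τ ≫ z i)))) := by
  have hu := FinitaryPreExtensive.isUniversal_finiteCoproducts hc
  refine hu (Cofan.mk (T' ⨯ Z) (sec (fun i => τ ≫ z i)))
    (Discrete.natTrans (fun _ => τ)) (prod.map τ (𝟙 Z)) ?_ (NatTrans.Equifibered.of_discrete _) ?_
  · ext ⟨i⟩ : 2
    exact (isPullback_lift_id τ (z i)).w.symm
  · rintro ⟨i⟩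
    exact isPullback_lift_id τ (z i)

/-- surjectivity on points for a pullback square of schemes -/
theorem exists_preimage_of_isPullback {P A B C : Scheme.{u}} {fst : P ⟶ A} {snd : P ⟶ B}
    {f' : A ⟶ C} {g' : B ⟶ C} (sq : IsPullback fst snd f' g') (a : A) (b : B)
    (hab : f' a = g' b) : ∃ p : P, fst p = a ∧ snd p = b := by
  obtain ⟨p, hp1, hp2⟩ := Scheme.Pullback.exists_preimage_pullback a b hab
  refine ⟨sq.isoPullback.inv p, ?_, ?_⟩
  · rw [← Scheme.Hom.comp_apply, sq.isoPullback_inv_fst]; exact hp1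
  · rw [← Scheme.Hom.comp_apply, sq.isoPullback_inv_snd]; exact hp2

theorem chartSet_restrict (i j : ι) :
    chartSet f g (fun i => τ ≫ z i) i j =
      (prod.map τ (𝟙 Y)).left ⁻¹' chartSet f g z i j := by
  have hsec : ∀ i, Set.range (sec (fun i => τ ≫ z i) i).left =
      (prod.map τ (𝟙 Z)).left ⁻¹' Set.range (sec z i).left := fun i =>
    range_of_isPullback ((isPullback_lift_id τ (z i)).map (Over.forget X))
  have hmap : ∀ (k : Y ⟶ Z), prod.map (𝟙 T') k ≫ prod.map τ (𝟙 Z) =
      prod.map τ (𝟙 Y) ≫ prod.map (𝟙 T) k := by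
    intro k
    rw [prod.map_map, prod.map_map, Category.id_comp, Category.comp_id, Category.id_comp,
      Category.comp_id]
  have e1 : ∀ (k : Y ⟶ Z) (p : (T' ⨯ Y).left),
      (prod.map τ (𝟙 Z)).left ((prod.map (𝟙 T') k).left p) =
        (prod.map (𝟙 T) k).left ((prod.map τ (𝟙 Y)).left p) := by
    intro k p
    rw [← Scheme.Hom.comp_apply, ← Scheme.Hom.comp_apply, ← Over.comp_left, ← Over.comp_left,
      hmap]
  ext p
  simp only [chartSet, Set.mem_inter_iff, Set.mem_preimage, hsec]
  rw [e1 f, e1 g]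

theorem chartImage_restrict (i j : ι) :
    chartImage f g (fun i => τ ≫ z i) i j = τ.left ⁻¹' chartImage f g z i j := by
  have hsq : IsPullback (prod.fst : T' ⨯ Y ⟶ T').left (prod.map τ (𝟙 Y)).left τ.left
      (prod.fst : T ⨯ Y ⟶ T).left := (isPullback_prod_fst (Y := Y) τ).map (Over.forget X)
  ext t'
  rw [chartImage, chartSet_restrict]
  constructor
  · rintro ⟨p', hp', rfl⟩
    refine ⟨(prod.map τ (𝟙 Y)).left p', hp', ?_⟩
    rw [← Scheme.Hom.comp_apply, ← Scheme.Hom.comp_apply, hsq.w]
  · rintro ⟨p, hp, hpt⟩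
    obtain ⟨p', hp1, hp2⟩ := exists_preimage_of_isPullback hsq t' p hpt.symm
    exact ⟨p', by rw [Set.mem_preimage, hp2]; exact hp, hp1⟩

variable {f g z}

theorem isClopen_chartImage (hYf : IsFinite Y.hom) (hYe : Etale Y.hom) (h : SplitHyp z)
    (i j : ι) : IsClopen (chartImage f g z i j) := by
  have h1 : IsFinite (prod.fst : T ⨯ Y ⟶ T).left := prop_prod_fst_left @IsFinite T Y hYf
  have h2 : Etale (prod.fst : T ⨯ Y ⟶ T).left := prop_prod_fst_left @Etale T Y hYe
  exact ⟨(prod.fst : T ⨯ Y ⟶ T).left.isClosedMap _ (isClosed_chartSet h i j),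
    (prod.fst : T ⨯ Y ⟶ T).left.isOpenMap _ (isOpen_chartSet h i j)⟩

variable (f g z)

/-- around every point of a split base there is an open on which the incidence is constant -/
theorem exists_open_constant [Finite ι] (hYf : IsFinite Y.hom) (hYe : Etale Y.hom)
    (hc : IsColimit (Cofan.mk (T ⨯ Z) (sec z))) (t : T.left) :
    ∃ (T' : Over X) (τ : T' ⟶ T), IsOpenImmersion τ.left ∧ t ∈ Set.range τ.left ∧
      ∀ i j, chartImage f g (fun i => τ ≫ z i) i j = ∅ ∨
        chartImage f g (fun i => τ ≫ z i) i j = Set.univ := by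
  classical
  have h := splitHyp_of_isColimit z hc
  let R : ι × ι → Set T.left := fun p => chartImage f g z p.1 p.2
  have hR : ∀ p, IsClopen (R p) := fun p => isClopen_chartImage hYf hYe h p.1 p.2
  let S : ι × ι → Set T.left := fun p => if t ∈ R p then R p else (R p)ᶜ
  have hSo : ∀ p, IsOpen (S p) := by
    intro p
    by_cases hp : t ∈ R p
    · simp only [S, if_pos hp]; exact (hR p).isOpen
    · simp only [S, if_neg hp]; exact (hR p).compl.isOpen
  have hSt : ∀ p, t ∈ S p := by
    intro p
    by_cases hp : t ∈ R p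
    · simp only [S, if_pos hp]; exact hp
    · simp only [S, if_neg hp]; exact hp
  let O : T.left.Opens := ⟨⋂ p, S p, isOpen_iInter_of_finite hSo⟩
  let T' : Over X := Over.mk (O.ι ≫ T.hom)
  let τ : T' ⟶ T := Over.homMk O.ι rfl
  have hτ : ∀ t' : T'.left, τ.left t' ∈ ⋂ p, S p := by
    intro t'
    have : τ.left t' ∈ Set.range O.ι := ⟨t', rfl⟩
    rw [Scheme.Opens.range_ι] at this
    exact this
  refine ⟨T', τ, inferInstanceAs (IsOpenImmersion O.ι), ?_, ?_⟩
  · show t ∈ Set.range O.ι
    rw [Scheme.Opens.range_ι]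
    exact Set.mem_iInter.2 hSt
  · intro i j
    rw [chartImage_restrict]
    by_cases hp : t ∈ R (i, j)
    · right
      rw [Set.eq_univ_iff_forall]
      intro t'
      have h1 := Set.mem_iInter.1 (hτ t') (i, j)
      simp only [S, if_pos hp] at h1
      exact h1
    · left
      rw [Set.eq_empty_iff_forall_notMem]
      intro t' ht'
      have h1 := Set.mem_iInter.1 (hτ t') (i, j)
      simp only [S, if_neg hp] at h1
      exact h1 ht'

end Restrict

end Groth.Agent.Helper5.FEtColim
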