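import Groth.Agent.Helper5.FEtColim6
import Groth.Agent.Helper3.FRank2
import Mathlib

set_option autoImplicit false
set_option linter.style.haveILetI false
set_option linter.unusedSectionVars false
set_option linter.unusedVariables false
universe u
open CategoryTheory CategoryTheory.Limits AlgebraicGeometry Opposite

namespace Groth.Agent.Helper5.FEtColim

open AlgSp Groth.Agent.Helper5.SpCoprod Groth.Agent.Helper5.YonCoprod

variable {X : Scheme.{u}}

/-- a finite étale `X`-scheme is split by an fppf neighbourhood of any given point -/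
theorem exists_split_cover (Z : Over X) [IsFinite Z.hom] [Etale Z.hom] (x : X) :
    ∃ (T : Over X) (n : ℕ) (z : ULift.{u} (Fin n) → (T ⟶ Z)), Flat T.hom ∧
      LocallyOfFinitePresentation T.hom ∧ x ∈ Set.range T.hom ∧
      Nonempty (IsColimit (Cofan.mk (T ⨯ Z) (sec z))) := by
  have hflat : Flat Z.hom := inferInstance
  let n := Z.hom.finrank x
  have hlc := Scheme.Hom.isLocallyConstant_finrank Z.hom
  let U : X.Opens := ⟨Z.hom.finrank ⁻¹' {n}, hlc.isOpen_fiber n⟩
  let φ := pullback.snd Z.hom U.ι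
  have hrank : ∀ s, φ.finrank s = n := by
    intro s
    have h1 : U.ι s ∈ Set.range U.ι := ⟨s, rfl⟩
    rw [Scheme.Opens.range_ι] at h1
    exact (Scheme.Hom.finrank_pullback_snd Z.hom U.ι s).trans h1
  obtain ⟨Y₂, ψ, hψf, hψe, hψs, -, inj, hinj, ⟨hcol⟩⟩ :=
    Groth.Agent.Helper3.FSplit.splitDeg n φ hrank
  let T : Over X := Over.mk (ψ ≫ U.ι)
  let P : Over X := Over.mk (pullback.snd φ ψ ≫ T.hom)
  let a : P ⟶ T := Over.homMk (pullback.snd φ ψ) rfl
  have hb : (pullback.fst φ ψ ≫ pullback.fst Z.hom U.ι) ≫ Z.hom = pullback.snd φ ψ ≫ ψ ≫ U.ι := by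
    rw [Category.assoc, pullback.condition, ← Category.assoc, ← Category.assoc]
    congr 1
    exact pullback.condition
  let b : P ⟶ Z := Over.homMk (pullback.fst φ ψ ≫ pullback.fst Z.hom U.ι) hb
  have hpb : IsPullback a.left b.left T.hom Z.hom :=
    (IsPullback.of_hasPullback φ ψ).flip.paste_vert (IsPullback.of_hasPullback Z.hom U.ι).flip
  have hP := isLimitBinaryFanOfIsPullback a b hpb
  let s : Fin n → (T ⟶ P) := fun i => Over.homMk (inj i) (by
    show inj i ≫ pullback.snd φ ψ ≫ T.hom = T.hom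
    rw [← Category.assoc, hinj, Category.id_comp])
  have hs : ∀ i, s i ≫ a = 𝟙 T := by
    intro i
    apply Over.OverMorphism.ext
    exact hinj i
  have h1 : IsColimit ((Over.forget X).mapCocone (Cofan.mk P s)) :=
    (isColimitMapCoconeCofanMkEquiv (Over.forget X) (fun _ : Fin n => T) s).symm hcol
  have hcolP : IsColimit (Cofan.mk P s) := isColimitOfReflects (Over.forget X) h1
  have hcolP' := (Cofan.isColimitEquivOfEquiv (Equiv.ulift.{u} (α := Fin n)) (Cofan.mk P s)) hcolP
  have hTfl : Flat (ψ ≫ U.ι) := inferInstance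
  have hTlfp : LocallyOfFinitePresentation (ψ ≫ U.ι) := inferInstance
  refine ⟨T, n, fun i => s i.down ≫ b, hTfl, hTlfp, ?_,
    isColimit_sec_of_product a b hP (fun i : ULift.{u} (Fin n) => s i.down) (fun i => hs i.down)
      hcolP'⟩
  have hxU : x ∈ U := rfl
  obtain ⟨y, hy⟩ := hψs.surj ⟨x, hxU⟩
  refine ⟨y, ?_⟩
  show (ψ ≫ U.ι) y = x
  rw [Scheme.Hom.comp_apply, hy]
  rfl

end Groth.Agent.Helper5.FEtColim
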