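import Groth.Agent.Helper5.FEtColim7
import Groth.Agent.S0084
import Mathlib

set_option autoImplicit false
set_option linter.style.haveILetI false
set_option linter.unusedSectionVars false
set_option linter.unusedVariables false
universe u
open CategoryTheory CategoryTheory.Limits AlgebraicGeometry Opposite

namespace Groth.Agent.Helper5.FEtColim

open AlgSp Groth.Agent.Helper5.SpCoprod Groth.Agent.Helper5.YonCoprod

variable {X : Scheme.{u}}

set_option backward.isDefEq.respectTransparency.types false in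
instance : IsZariskiLocalAtTarget FEt.prop.{u} :=
  inferInstanceAs (IsZariskiLocalAtTarget (@IsFinite ⊓ @Etale : MorphismProperty Scheme.{u}))

instance : FEt.prop.{u}.DescendsAlong (@Surjective ⊓ @Flat ⊓ @QuasiCompact) := by
  have := Groth.Agent.S0084.result.{u}
  exact MorphismProperty.DescendsAlong.inf

theorem fetProp_le_isAffineHom : FEt.prop.{u} ≤ @IsAffineHom := fun _ _ f hf => by
  have : IsFinite f := hf.1
  infer_instance

/-- the coequalizer sheaf of two maps between finite étale `X`-schemes is representable by a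
finite étale `X`-scheme -/
theorem exists_rep_coequalizer {Y Z : Over X} (hYf : IsFinite Y.hom) (hYe : Etale Y.hom)
    (hZf : IsFinite Z.hom) (hZe : Etale Z.hom) (f g : Y ⟶ Z) {G : Sp X}
    (π : (yon X).obj Z ⟶ G) (w : (yon X).map f ≫ π = (yon X).map g ≫ π)
    (hπ : IsColimit (Cofork.ofπ π w)) :
    ∃ W : Over X, FEt.prop W.hom ∧ Nonempty ((yon X).obj W ≅ G) := by
  have hloc : ∀ x : X, ∃ (T : Over X) (V : Over X) (v : V ⟶ T) (a : (yon X).obj V ⟶ G),
      Flat T.hom ∧ LocallyOfFinitePresentation T.hom ∧ x ∈ Set.range T.hom ∧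
      FEt.prop v.left ∧ IsPullback a ((yon X).map v) (toOne G) (toOne ((yon X).obj T)) := by
    intro x
    obtain ⟨T₂, n, z, hfl, hlfp, ⟨t, ht⟩, ⟨hc⟩⟩ := exists_split_cover Z x
    obtain ⟨T', τ, hoi, ⟨t', ht'⟩, hR⟩ := exists_open_constant f g z hYf hYe hc t
    obtain ⟨hc'⟩ := isColimit_sec_restrict z τ hc
    obtain ⟨V, v, a, hv, sq⟩ := exists_local_rep (inferInstance : Flat Y.hom)
      (inferInstance : LocallyOfFinitePresentation Y.hom) f g π w hπ (fun i => τ ≫ z i) hc' hR
    have hT' : T'.hom = τ.left ≫ T₂.hom := (Over.w τ).symm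
    refine ⟨T', V, v, a, ?_, ?_, ⟨t', ?_⟩, hv, sq⟩
    · rw [hT']; infer_instance
    · rw [hT']; infer_instance
    · rw [hT', Scheme.Hom.comp_apply, ht', ht]
  choose T V v a hfl hlfp hx hv sq using hloc
  exact exists_rep_of_fppf_family FEt.prop fetProp_le_isAffineHom G T hfl hlfp
    (fun x => ⟨x, hx x⟩) V v hv a sq

end Groth.Agent.Helper5.FEtColim
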