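import Groth.Agent.Helper5.FEtColim8
import Mathlib

set_option autoImplicit false
set_option linter.style.haveILetI false
set_option linter.unusedSectionVars false
set_option linter.unusedVariables false
universe u
open CategoryTheory CategoryTheory.Limits AlgebraicGeometry Opposite

namespace Groth.Agent.Helper5.FEtColim

open AlgSp Groth.Agent.Helper5.SpCoprod Groth.Agent.Helper5.YonCoprod

instance fetPostcomp : FEt.prop.{u}.HasOfPostcompProperty FEt.prop.{u} where
  of_postcomp f g hg hfg := by
    have h1 : IsFinite g := hg.1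
    have h2 : IsSeparated g := inferInstance
    exact ⟨MorphismProperty.of_postcomp @IsFinite f g h2 hfg.1,
      MorphismProperty.of_postcomp @Etale f g hg.2 hfg.2⟩

variable (X : Scheme.{u})

/-- the forgetful functor from finite étale covers to schemes over `X` -/
noncomputable abbrev fF : FEt.Cat X ⥤ Over X := MorphismProperty.Over.forget FEt.prop ⊤ X

/-- the fully faithful embedding of finite étale covers into fppf sheaves -/
noncomputable abbrev yF : FEt.Cat X ⥤ Sp X := fF X ⋙ yon X

instance : (yF X).Full := inferInstance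
instance : (yF X).Faithful := inferInstance

variable {X}

theorem fF_hom_isFinite (A : FEt.Cat X) : IsFinite ((fF X).obj A).hom := A.prop.1
theorem fF_hom_etale (A : FEt.Cat X) : Etale ((fF X).obj A).hom := A.prop.2

/-- coequalizers in `FEt.Cat X`, computed in sheaves -/
theorem exists_coequalizer {A B : FEt.Cat X} (f g : A ⟶ B) :
    ∃ (W : FEt.Cat X) (p : B ⟶ W) (w : f ≫ p = g ≫ p),
      Nonempty (IsColimit (Cofork.ofπ p w)) ∧
      Nonempty (IsColimit ((yF X).mapCocone (Cofork.ofπ p w))) := by
  let f' := (yF X).map f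
  let g' := (yF X).map g
  let G : Sp X := coequalizer f' g'
  let π : (yF X).obj B ⟶ G := coequalizer.π f' g'
  have w : f' ≫ π = g' ≫ π := coequalizer.condition f' g'
  have hπ : IsColimit (Cofork.ofπ π w) := coequalizerIsCoequalizer f' g'
  obtain ⟨W, hW, ⟨e⟩⟩ := exists_rep_coequalizer (fF_hom_isFinite A) (fF_hom_etale A)
    (fF_hom_isFinite B) (fF_hom_etale B) ((fF X).map f) ((fF X).map g) π w hπ
  let W' : FEt.Cat X := MorphismProperty.Over.mk ⊤ W.hom hW
  have hW' : (yF X).obj W' = (yon X).obj W := rfl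
  let p : B ⟶ W' := (yF X).preimage (π ≫ e.inv)
  have hp : (yF X).map p = π ≫ e.inv := (yF X).map_preimage _
  have wp : f ≫ p = g ≫ p := by
    apply (yF X).map_injective
    rw [Functor.map_comp, Functor.map_comp, hp]
    show f' ≫ π ≫ e.inv = g' ≫ π ≫ e.inv
    rw [← Category.assoc, w, Category.assoc]
  have h1 : IsColimit (Cofork.ofπ (f := f') (g := g') ((yF X).map p) (by
      rw [← Functor.map_comp, ← Functor.map_comp, wp])) :=
    IsColimit.ofIsoColimit hπ (Cofork.ext e.symm (by
      show π ≫ e.inv = (yF X).map p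
      exact hp.symm))
  have h2 : IsColimit ((yF X).mapCocone (Cofork.ofπ p wp)) :=
    (isColimitMapCoconeCoforkEquiv (yF X) wp).symm h1
  exact ⟨W', p, wp, ⟨isColimitOfReflects (yF X) h2⟩, ⟨h2⟩⟩

/-- finite coproducts in `FEt.Cat X`, computed in sheaves -/
theorem exists_coproduct {n : ℕ} (F : Fin n → FEt.Cat X) :
    ∃ c : Cofan F, Nonempty (IsColimit c) ∧ Nonempty (IsColimit ((yF X).mapCocone c)) := by
  let W' : ULift.{u} (Fin n) → Over X := fun j => (fF X).obj (F j.down)
  let Wt : Over X := sigmaOver W'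
  have hWt : FEt.prop Wt.hom := by
    constructor
    · show IsFinite (Limits.Sigma.desc (fun j => (W' j).hom))
      haveI : ∀ j, IsFinite (W' j).hom := fun j => fF_hom_isFinite _
      exact isFinite_sigmaDesc_finite _ _
    · show Etale (Limits.Sigma.desc (fun j => (W' j).hom))
      exact IsZariskiLocalAtSource.sigmaDesc (fun j => fF_hom_etale _)
  let C : FEt.Cat X := MorphismProperty.Over.mk ⊤ Wt.hom hWt
  let inj : ∀ i, F i ⟶ C := fun i =>
    MorphismProperty.Over.homMk (Limits.Sigma.ι (fun j => (W' j).left) ⟨i⟩)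
      (Limits.Sigma.ι_desc _ _) trivial
  have h0 := isColimitCofan W'
  have h1 := (Cofan.isColimitEquivOfEquiv (Equiv.ulift.{u}.symm : Fin n ≃ ULift.{u} (Fin n)) _) h0
  have h2 : IsColimit ((yF X).mapCocone (Cofan.mk C inj)) :=
    (isColimitMapCoconeCofanMkEquiv (yF X) F inj).symm h1
  exact ⟨Cofan.mk C inj, ⟨isColimitOfReflects (yF X) h2⟩, ⟨h2⟩⟩

instance hasCoequalizers_fet : HasCoequalizers (FEt.Cat X) := by
  haveI : ∀ {A B : FEt.Cat X} (f g : A ⟶ B), HasColimit (parallelPair f g) := fun f g => by
    obtain ⟨W, p, w, ⟨h⟩, _⟩ := exists_coequalizer f g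
    exact ⟨⟨⟨_, h⟩⟩⟩
  exact hasCoequalizers_of_hasColimit_parallelPair _

instance hasFiniteCoproducts_fet : HasFiniteCoproducts (FEt.Cat X) := ⟨fun n => ⟨fun K => by
  obtain ⟨c, ⟨h⟩, _⟩ := exists_coproduct (K.obj ∘ Discrete.mk)
  have : HasColimit (Discrete.functor (K.obj ∘ Discrete.mk)) := ⟨⟨⟨c, h⟩⟩⟩
  exact hasColimit_of_iso Discrete.natIsoFunctor⟩⟩

instance hasFiniteColimits_fet : HasFiniteColimits (FEt.Cat X) :=
  hasFiniteColimits_of_hasCoequalizers_and_finite_coproducts

instance preservesCoequalizers_yF : PreservesColimitsOfShape WalkingParallelPair (yF X) :=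
  ⟨fun {K} => by
    have : PreservesColimit (parallelPair (K.map WalkingParallelPairHom.left)
        (K.map WalkingParallelPairHom.right)) (yF X) := by
      obtain ⟨W, p, w, ⟨h⟩, ⟨h2⟩⟩ := exists_coequalizer (K.map WalkingParallelPairHom.left)
        (K.map WalkingParallelPairHom.right)
      exact preservesColimit_of_preserves_colimit_cocone h h2
    exact preservesColimit_of_iso_diagram _ (diagramIsoParallelPair K).symm⟩

instance preservesFiniteCoproducts_yF : PreservesFiniteCoproducts (yF X) := ⟨fun n => ⟨fun {K} => by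
  have : PreservesColimit (Discrete.functor (K.obj ∘ Discrete.mk)) (yF X) := by
    obtain ⟨c, ⟨h⟩, ⟨h2⟩⟩ := exists_coproduct (K.obj ∘ Discrete.mk)
    exact preservesColimit_of_preserves_colimit_cocone h h2
  exact preservesColimit_of_iso_diagram _ Discrete.natIsoFunctor.symm⟩⟩

instance preservesFiniteColimits_yF : PreservesFiniteColimits (yF X) :=
  preservesFiniteColimits_of_preservesCoequalizers_and_finiteCoproducts _

end Groth.Agent.Helper5.FEtColim
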