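import Mathlib

set_option autoImplicit false
set_option linter.style.haveILetI false
set_option linter.unusedSectionVars false
set_option linter.unusedVariables false
universe u

namespace Groth.Agent.Helper5.FEtFld

open IntermediateField

variable {K L : Type*} [Field K] [Field L] [Algebra K L]

/-- an automorphism fixing a `q`-power of `x` fixes `x` -/
theorem algEquiv_fix_of_fix_pow (q : ℕ) [ExpChar L q] (σ : L ≃ₐ[K] L) (x : L) (n : ℕ)
    (h : σ (x ^ q ^ n) = x ^ q ^ n) : σ x = x := by
  have h1 : (σ x) ^ q ^ n = x ^ q ^ n := by rw [← map_pow]; exact h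
  have h2 := iterateFrobenius_inj L q n
  apply h2
  rw [iterateFrobenius_def, iterateFrobenius_def]
  exact h1

/-- an automorphism of an algebraic extension fixing all separable elements is the identity -/
theorem eq_one_of_fix_separable [Algebra.IsAlgebraic K L] (σ : L ≃ₐ[K] L)
    (h : ∀ x ∈ separableClosure K L, σ x = x) : σ = 1 := by
  obtain ⟨q, hq⟩ := ExpChar.exists K
  haveI : ExpChar (separableClosure K L) q := expChar_of_injective_algebraMap
    (algebraMap K (separableClosure K L)).injective q
  haveI : ExpChar L q := expChar_of_injective_algebraMap (algebraMap K L).injective q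
  ext x
  obtain ⟨n, y, hy⟩ := IsPurelyInseparable.pow_mem (separableClosure K L) q x
  apply algEquiv_fix_of_fix_pow q σ x n
  rw [← hy]
  exact h _ y.2

open scoped Topology in
/-- the Galois group of a normal (not necessarily separable) extension is compact -/
theorem compactSpace_gal [Normal K L] : CompactSpace (L ≃ₐ[K] L) := by
  obtain ⟨q, hq⟩ := ExpChar.exists K
  haveI : ExpChar (separableClosure K L) q := expChar_of_injective_algebraMap
    (algebraMap K (separableClosure K L)).injective q
  haveI : ExpChar L q := expChar_of_injective_algebraMap (algebraMap K L).injective q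
  let Ks := separableClosure K L
  haveI : IsGalois K Ks := separableClosure.isGalois K L
  let r : (L ≃ₐ[K] L) →* (Ks ≃ₐ[K] Ks) := AlgEquiv.restrictNormalHom Ks
  have hrc : Continuous r := InfiniteGalois.restrictNormalHom_continuous Ks
  have hrs : Function.Surjective r := AlgEquiv.restrictNormalHom_surjective L
  have hr : ∀ (σ : L ≃ₐ[K] L) (y : Ks), ((r σ) y : L) = σ y :=
    fun σ y => AlgEquiv.restrictNormalHom_apply Ks σ y
  have hri : Function.Injective r := by
    rw [injective_iff_map_eq_one]
    intro σ hσ
    apply eq_one_of_fix_separable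
    intro x hx
    have := hr σ ⟨x, hx⟩
    rw [hσ] at this
    exact this.symm
  have hopen : IsOpenMap r := by
    rw [IsTopologicalGroup.isOpenMap_iff_nhds_one]
    intro N hN
    rw [Filter.mem_map, krullTopology_mem_nhds_one_iff] at hN
    obtain ⟨E, hE, hEN⟩ := hN
    obtain ⟨s, hs⟩ := Module.finite_def.1 hE
    have hy : ∀ x : E, ∃ (n : ℕ) (y : Ks), (y : L) = (x : L) ^ q ^ n := fun x => by
      obtain ⟨n, y, hy⟩ := IsPurelyInseparable.pow_mem Ks q (x : L)
      exact ⟨n, y, hy⟩
    choose n y hy using hy
    let E' : IntermediateField K Ks := IntermediateField.adjoin K (y '' (s : Set E))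
    haveI : Finite (y '' (s : Set E)) := (s.finite_toSet.image y).to_subtype
    haveI : FiniteDimensional K E' :=
      IntermediateField.finiteDimensional_adjoin (fun z _ => Algebra.IsIntegral.isIntegral z)
    rw [krullTopology_mem_nhds_one_iff]
    refine ⟨E', inferInstance, ?_⟩
    intro τ hτ
    obtain ⟨σ, rfl⟩ := hrs τ
    apply hEN
    rw [SetLike.mem_coe, IntermediateField.mem_fixingSubgroup_iff]
    rw [SetLike.mem_coe, IntermediateField.mem_fixingSubgroup_iff] at hτ
    intro x hx
    have hmem : (⟨x, hx⟩ : E) ∈ Submodule.span K (s : Set E) := by rw [hs]; trivial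
    have key : ∀ z : E, z ∈ Submodule.span K (s : Set E) → σ (z : L) = z := by
      intro z hz
      induction hz using Submodule.span_induction with
      | mem z hz =>
        apply algEquiv_fix_of_fix_pow q σ (z : L) (n z)
        rw [← hy z, ← hr σ (y z)]
        congr 1
        exact hτ (y z) (IntermediateField.subset_adjoin K _ ⟨z, hz, rfl⟩)
      | zero => simp
      | add a b _ _ ha hb =>
        show σ ((a : L) + (b : L)) = (a : L) + (b : L)
        rw [map_add, ha, hb]
      | smul c a _ ha =>
        show σ (c • (a : L)) = c • (a : L)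
        rw [map_smul, ha]
    exact key ⟨x, hx⟩ hmem
  let e : (L ≃ₐ[K] L) ≃ₜ (Ks ≃ₐ[K] Ks) :=
    (Equiv.ofBijective r ⟨hri, hrs⟩).toHomeomorphOfContinuousOpen hrc hopen
  exact e.symm.compactSpace

/-- the Galois group of a normal extension acts transitively on the embeddings of any field
extension -/
theorem exists_algEquiv_comp_eq {M : Type*} [Field M] [Algebra K M] [Normal K L]
    (f g : M →ₐ[K] L) : ∃ σ : L ≃ₐ[K] L, ∀ x, σ (f x) = g x := by
  let χ : f.fieldRange ≃ₐ[K] g.fieldRange :=
    (AlgEquiv.ofInjectiveField f).symm.trans (AlgEquiv.ofInjectiveField g)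
  refine ⟨χ.liftNormal L, fun x => ?_⟩
  have h1 := χ.liftNormal_commutes L (AlgEquiv.ofInjectiveField f x)
  have h2 : χ (AlgEquiv.ofInjectiveField f x) = AlgEquiv.ofInjectiveField g x := by
    show (AlgEquiv.ofInjectiveField g) ((AlgEquiv.ofInjectiveField f).symm
      (AlgEquiv.ofInjectiveField f x)) = _
    rw [AlgEquiv.symm_apply_apply]
  rw [h2] at h1
  exact h1

end Groth.Agent.Helper5.FEtFld
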