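import Groth.Agent.Helper5.FEtGal9
import Groth.Agent.Helper5.FEtFld1
import Mathlib

set_option autoImplicit false
set_option linter.style.haveILetI false
set_option linter.unusedSectionVars false
set_option linter.unusedVariables false
universe u
open CategoryTheory CategoryTheory.Limits AlgebraicGeometry Opposite

namespace Groth.Agent.Helper5.FEtFld

open Groth.Agent.Helper5.FEtGal

/-- the spectrum of a field -/
noncomputable abbrev SK (K : Type u) [Field K] : Scheme.{u} := Spec (CommRingCat.of K)

variable {K : Type u} [Field K] (Y : FEt.Cat (SK K))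

/-- the structure morphism, with its codomain written out -/
def hm : Y.left ⟶ SK K := Y.hom

instance isAffine_left : IsAffine Y.left := by
  haveI : IsFinite (hm Y) := Y.prop.1
  exact isAffine_of_isAffineHom (hm Y)

/-- the coordinate ring -/
noncomputable abbrev A : CommRingCat.{u} := Γ(Y.left, ⊤)

/-- the structure map `K ⟶ A` -/
noncomputable def str : CommRingCat.of K ⟶ A Y :=
  (Scheme.ΓSpecIso (CommRingCat.of K)).inv ≫ (hm Y).appTop

theorem hom_eq : hm Y = Y.left.isoSpec.hom ≫ Spec.map (str Y) := by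
  have h1 := Scheme.toSpecΓ_naturality (hm Y)
  have h2 := toSpecΓ_SpecMap_ΓSpecIso_inv (CommRingCat.of K)
  calc hm Y = hm Y ≫ (SK K).toSpecΓ ≫ Spec.map (Scheme.ΓSpecIso _).inv := by
        rw [h2, Category.comp_id]
    _ = Y.left.toSpecΓ ≫ Spec.map (hm Y).appTop ≫ Spec.map (Scheme.ΓSpecIso _).inv := by
        rw [← Category.assoc, h1, Category.assoc]
    _ = _ := by
        rw [← Spec.map_comp]
        rfl

theorem isoSpec_inv_hom : Y.left.isoSpec.inv ≫ hm Y = Spec.map (str Y) := by
  rw [hom_eq Y, Iso.inv_hom_id_assoc]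

theorem finite_str : (str Y).hom.Finite := by
  have h : IsFinite (hm Y) := Y.prop.1
  rw [hom_eq Y] at h
  have h2 : IsFinite (Spec.map (str Y)) :=
    (MorphismProperty.cancel_left_of_respectsIso @IsFinite _ _).1 h
  exact (IsFinite.SpecMap_iff _).1 h2

theorem etale_str : (str Y).hom.Etale := by
  have h : Etale (hm Y) := Y.prop.2
  rw [hom_eq Y] at h
  have h2 : Etale (Spec.map (str Y)) :=
    (MorphismProperty.cancel_left_of_respectsIso @Etale _ _).1 h
  exact (HasRingHomProperty.Spec_iff (P := @Etale)).1 h2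

variable {Y} {Ω : Type u} [Field Ω] [Algebra K Ω]

variable (K Ω) in
/-- the geometric point -/
noncomputable abbrev xi : SΩ Ω ⟶ SK K := Spec.map (CommRingCat.ofHom (algebraMap K Ω))

/-- the ring map attached to an `Ω`-point -/
noncomputable def flat (s : SΩ Ω ⟶ Y.left) : A Y ⟶ CommRingCat.of Ω :=
  s.appTop ≫ (Scheme.ΓSpecIso (CommRingCat.of Ω)).hom

theorem flat_injective : Function.Injective (flat (Y := Y) (Ω := Ω)) := by
  intro s t h
  apply ext_of_isAffine
  have := congrArg (· ≫ (Scheme.ΓSpecIso (CommRingCat.of Ω)).inv) h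
  simpa [flat] using this

theorem str_flat (s : SΩ Ω ⟶ Y.left) (hs : s ≫ hm Y = xi K Ω) :
    str Y ≫ flat s = CommRingCat.ofHom (algebraMap K Ω) := by
  have h1 : (hm Y).appTop ≫ s.appTop = (xi K Ω).appTop := by
    rw [← Scheme.Hom.comp_appTop, hs]
  have h2 := Scheme.ΓSpecIso_naturality (CommRingCat.ofHom (algebraMap K Ω))
  unfold str flat
  rw [Category.assoc, ← Category.assoc (hm Y).appTop, h1, h2, Iso.inv_hom_id_assoc]

theorem flat_comp (τ : CommRingCat.of Ω ⟶ CommRingCat.of Ω) (s : SΩ Ω ⟶ Y.left) :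
    flat (Spec.map τ ≫ s) = flat s ≫ τ := by
  unfold flat
  rw [Scheme.Hom.comp_appTop, Category.assoc, Scheme.ΓSpecIso_naturality, Category.assoc]

end Groth.Agent.Helper5.FEtFld
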