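import Groth.Agent.Helper5.FEtFld2
import Mathlib

set_option autoImplicit false
set_option linter.style.haveILetI false
set_option linter.unusedSectionVars false
set_option linter.unusedVariables false
universe u w
open CategoryTheory CategoryTheory.Limits AlgebraicGeometry Opposite

namespace Groth.Agent.Helper5.FEtFld

open Groth.Agent.Helper5.FEtGal PreGaloisCategory

/-- fibre functors are stable under isomorphism -/
theorem fiberFunctor_of_iso {C : Type*} [Category C] [PreGaloisCategory C]
    {F F' : C ⥤ FintypeCat.{w}} (e : F ≅ F') (h : FiberFunctor F) : FiberFunctor F' where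
  preservesTerminalObjects := preservesLimitsOfShape_of_natIso e
  preservesPullbacks := preservesLimitsOfShape_of_natIso e
  preservesFiniteCoproducts := ⟨fun n => preservesColimitsOfShape_of_natIso e⟩
  preservesEpis := Functor.PreservesEpimorphisms.of_iso e
  preservesQuotientsByFiniteGroups G _ _ := preservesColimitsOfShape_of_natIso e
  reflectsIsos := reflectsIsomorphisms_of_iso e

section General

variable {X : Scheme.{u}} {Ω : Type u} [Field Ω] [IsAlgClosed Ω] (ξ : SΩ Ω ⟶ X)

theorem finite_fiberObj (Y : FEt.Cat X) : Finite (FEt.fiberObj ξ Y) :=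
  Finite.of_equiv ((fibFin ξ).obj Y) ((fibFinIso ξ).app Y).toEquiv

/-- the fibre functor with values in finite sets, with underlying sets `FEt.fiberObj` -/
noncomputable def fibF : FEt.Cat X ⥤ FintypeCat.{u} :=
  ObjectProperty.lift _ (FEt.fiber ξ) (finite_fiberObj ξ)

/-- it is isomorphic to the one obtained from base change -/
noncomputable def fibFIso : fibF ξ ≅ fibFin ξ :=
  Functor.fullyFaithfulCancelRight FintypeCat.incl
    (ObjectProperty.liftCompιIso _ (FEt.fiber ξ) (finite_fiberObj ξ) ≪≫ (fibFinIso ξ).symm)

theorem fiberFunctor_fibF [ConnectedSpace X] :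
    letI := preGaloisCategory_fet X
    FiberFunctor (fibF ξ) := by
  letI := preGaloisCategory_fet X
  exact fiberFunctor_of_iso (fibFIso ξ).symm (fiberFunctor_fibFin ξ)

/-- the fundamental group is the automorphism group of `fibF` -/
noncomputable def autFibFEquiv : Aut (fibF ξ) ≃* FEt.piOne X ξ :=
  (Functor.FullyFaithful.whiskeringRight (Functor.FullyFaithful.ofFullyFaithful FintypeCat.incl)
    (FEt.Cat X)).autMulEquivOfFullyFaithful (fibF ξ)

end General

end Groth.Agent.Helper5.FEtFld
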