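import Groth.Agent.Helper5.FEtFld3
import Mathlib

set_option autoImplicit false
set_option linter.style.haveILetI false
set_option linter.unusedSectionVars false
set_option linter.unusedVariables false
universe u w
open CategoryTheory CategoryTheory.Limits AlgebraicGeometry Opposite

namespace Groth.Agent.Helper5.FEtFld

open Groth.Agent.Helper5.FEtGal PreGaloisCategory

variable {K : Type u} [Field K] {Ω : Type u} [Field Ω] [Algebra K Ω]

/-- the action of an automorphism on `Spec Ω` -/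
noncomputable def aS (σ : Ω ≃ₐ[K] Ω) : SΩ Ω ⟶ SΩ Ω :=
  Spec.map (CommRingCat.ofHom (σ : Ω →+* Ω))

theorem aS_xi (σ : Ω ≃ₐ[K] Ω) : aS σ ≫ xi K Ω = xi K Ω := by
  unfold aS xi
  rw [← Spec.map_comp]
  congr 1
  ext x
  exact σ.commutes x

theorem aS_one : aS (1 : Ω ≃ₐ[K] Ω) = 𝟙 _ := Spec.map_id _

theorem aS_mul (σ τ : Ω ≃ₐ[K] Ω) : aS (σ * τ) = aS σ ≫ aS τ := by
  unfold aS
  rw [← Spec.map_comp]
  rfl

/-- the action on the geometric fibres -/
noncomputable def gsmul (σ : Ω ≃ₐ[K] Ω) {Y : FEt.Cat (SK K)} (s : FEt.fiberObj (xi K Ω) Y) :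
    FEt.fiberObj (xi K Ω) Y :=
  ⟨aS σ ≫ fiberObj.val _ s, by
    rw [Category.assoc, fiberObj.prop, aS_xi]⟩

theorem val_gsmul (σ : Ω ≃ₐ[K] Ω) {Y : FEt.Cat (SK K)} (s : FEt.fiberObj (xi K Ω) Y) :
    fiberObj.val _ (gsmul σ s) = aS σ ≫ fiberObj.val _ s := rfl

theorem fiberObj_ext {Y : FEt.Cat (SK K)} {s t : FEt.fiberObj (xi K Ω) Y}
    (h : fiberObj.val _ s = fiberObj.val _ t) : s = t := Subtype.ext h

/-- the action on the geometric fibres -/
noncomputable def fiberAction (Y : FEt.Cat (SK K)) :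
    MulAction (Ω ≃ₐ[K] Ω) (FEt.fiberObj (xi K Ω) Y) where
  smul σ s := gsmul σ s
  one_smul s := fiberObj_ext (by
    show aS 1 ≫ fiberObj.val _ s = _
    rw [aS_one, Category.id_comp])
  mul_smul σ τ s := fiberObj_ext (by
    show aS (σ * τ) ≫ fiberObj.val _ s = aS σ ≫ aS τ ≫ fiberObj.val _ s
    rw [aS_mul, Category.assoc])

/-- the ring map of a point of the fibre -/
noncomputable def fl {Y : FEt.Cat (SK K)} (s : FEt.fiberObj (xi K Ω) Y) :
    A Y ⟶ CommRingCat.of Ω := flat (fiberObj.val _ s)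

theorem fl_injective {Y : FEt.Cat (SK K)} : Function.Injective (fl (Ω := Ω) (Y := Y)) :=
  fun s t h => fiberObj_ext (flat_injective h)

theorem str_fl {Y : FEt.Cat (SK K)} (s : FEt.fiberObj (xi K Ω) Y) :
    str Y ≫ fl s = CommRingCat.ofHom (algebraMap K Ω) :=
  str_flat _ (fiberObj.prop _ s)

theorem fl_gsmul (σ : Ω ≃ₐ[K] Ω) {Y : FEt.Cat (SK K)} (s : FEt.fiberObj (xi K Ω) Y) :
    fl (gsmul σ s) = fl s ≫ CommRingCat.ofHom (σ : Ω →+* Ω) :=
  flat_comp _ _

theorem fl_gsmul_apply (σ : Ω ≃ₐ[K] Ω) {Y : FEt.Cat (SK K)} (s : FEt.fiberObj (xi K Ω) Y)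
    (a : A Y) : (fl (gsmul σ s)).hom a = σ ((fl s).hom a) := by
  rw [fl_gsmul]
  rfl

theorem str_fl_apply {Y : FEt.Cat (SK K)} (s : FEt.fiberObj (xi K Ω) Y) (c : K) :
    (fl s).hom ((str Y).hom c) = algebraMap K Ω c := by
  have := str_fl s
  exact congrArg (fun f => f.hom c) this

end Groth.Agent.Helper5.FEtFld
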