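import Groth.Agent.Helper5.FEtFld4
import Mathlib

set_option autoImplicit false
set_option linter.style.haveILetI false
set_option linter.unusedSectionVars false
set_option linter.unusedVariables false
universe u w
open CategoryTheory CategoryTheory.Limits AlgebraicGeometry Opposite

namespace Groth.Agent.Helper5.FEtFld

open Groth.Agent.Helper5.FEtGal PreGaloisCategory

variable {K : Type u} [Field K]

/-- the residue field of a finite étale `K`-scheme at a maximal ideal, as a finite étale
`K`-scheme with a monomorphism to the original one -/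
theorem exists_mono_of_maximal (Y : FEt.Cat (SK K)) (m : Ideal (A Y)) [hmax : m.IsMaximal] :
    ∃ (Z : FEt.Cat (SK K)) (i : Z ⟶ Y) (t : Z.left ≅ Spec (CommRingCat.of (A Y ⧸ m))),
      Mono i ∧ i.left = t.hom ≫ Spec.map (CommRingCat.ofHom (Ideal.Quotient.mk m)) ≫
        Y.left.isoSpec.inv ∧
      t.inv ≫ hm Z = Spec.map (str Y ≫ CommRingCat.ofHom (Ideal.Quotient.mk m)) := by
  let B : CommRingCat.{u} := CommRingCat.of (A Y ⧸ m)
  let q : A Y ⟶ B := CommRingCat.ofHom (Ideal.Quotient.mk m)
  let φ' : CommRingCat.of K ⟶ B := str Y ≫ q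
  have hf : φ'.hom.Finite :=
    (RingHom.Finite.of_surjective _ Ideal.Quotient.mk_surjective).comp (finite_str Y)
  have he : φ'.hom.Etale := by
    letI : Algebra K (A Y) := (str Y).hom.toAlgebra
    haveI : Algebra.Etale K (A Y) := etale_str Y
    haveI : Module.Finite K (A Y) := finite_str Y
    haveI : Algebra.IsSeparable K (A Y ⧸ m) := inferInstance
    letI := Ideal.Quotient.field m
    haveI : Algebra.FormallyEtale K (A Y ⧸ m) := Algebra.FormallyEtale.of_isSeparable K _
    haveI : Algebra.Etale K (A Y ⧸ m) :=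
      ⟨inferInstance, Algebra.FinitePresentation.of_finiteType.mp inferInstance⟩
    show (algebraMap K (A Y ⧸ m)).Etale
    rw [RingHom.etale_algebraMap]
    infer_instance
  let Z : FEt.Cat (SK K) := MorphismProperty.Over.mk ⊤ (Spec.map φ')
    ⟨(IsFinite.SpecMap_iff _).2 hf, (HasRingHomProperty.Spec_iff (P := @Etale)).2 he⟩
  have hw : (Spec.map q ≫ Y.left.isoSpec.inv) ≫ hm Y = Spec.map φ' := by
    rw [Category.assoc, isoSpec_inv_hom, ← Spec.map_comp]
  let i : Z ⟶ Y := MorphismProperty.Over.homMk (Spec.map q ≫ Y.left.isoSpec.inv) hw trivial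
  refine ⟨Z, i, Iso.refl _, ?_, ?_, ?_⟩
  · haveI : IsClosedImmersion (Spec.map q) :=
      IsClosedImmersion.spec_of_surjective q Ideal.Quotient.mk_surjective
    have h1 : Mono (Spec.map q ≫ Y.left.isoSpec.inv) := inferInstance
    have h2 : Mono ((MorphismProperty.Over.forget FEt.prop ⊤ (SK K) ⋙ Over.forget (SK K)).map i) :=
      h1
    exact Functor.mono_of_mono_map _ h2
  · show Spec.map q ≫ Y.left.isoSpec.inv = 𝟙 _ ≫ _
    rw [Category.id_comp]
  · show 𝟙 _ ≫ Spec.map φ' = _
    rw [Category.id_comp]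

/-- the coordinate ring of a connected finite étale `K`-scheme is a field -/
theorem isField_A_of_isConnected (Y : FEt.Cat (SK K)) (hY : IsConnected Y) : IsField (A Y) := by
  let Ω := AlgebraicClosure K
  letI := preGaloisCategory_fet (SK K)
  letI := galoisCategory_fet (xi K Ω)
  letI : FiberFunctor (fibF (xi K Ω)) := fiberFunctor_fibF _
  obtain ⟨s⟩ := nonempty_fiber_of_isConnected (fibF (xi K Ω)) Y
  have s' : FEt.fiberObj (xi K Ω) Y := s
  haveI : Nontrivial (A Y) := (fl s').hom.domain_nontrivial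
  obtain ⟨m, hmax⟩ := Ideal.exists_maximal (A Y)
  obtain ⟨Z, i, t, hmono, hi, ht⟩ := exists_mono_of_maximal Y m
  have hZ : IsInitial Z → False := by
    rw [not_initial_iff_fiber_nonempty (fibF (xi K Ω))]
    letI : Algebra K (A Y) := (str Y).hom.toAlgebra
    haveI : Module.Finite K (A Y) := finite_str Y
    letI := Ideal.Quotient.field m
    let l : (A Y ⧸ m) →ₐ[K] Ω := IsAlgClosed.lift
    have hl : (Spec.map (CommRingCat.ofHom (l : (A Y ⧸ m) →+* Ω)) ≫ t.inv) ≫ hm Z = xi K Ω := by
      rw [Category.assoc, ht, ← Spec.map_comp]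
      congr 1
      ext c
      exact l.commutes c
    exact ⟨(⟨Spec.map (CommRingCat.ofHom (l : (A Y ⧸ m) →+* Ω)) ≫ t.inv, hl⟩ :
      FEt.fiberObj (xi K Ω) Z)⟩
  haveI := hmono
  have hiso : IsIso i := hY.noTrivialComponent Z i hZ
  have h1 : IsIso ((MorphismProperty.Over.forget FEt.prop ⊤ (SK K) ⋙ Over.forget (SK K)).map i) :=
    inferInstance
  have h1' : IsIso i.left := h1
  have h2 : IsIso (Spec.map (CommRingCat.ofHom (Ideal.Quotient.mk m))) := by
    have h3 : Spec.map (CommRingCat.ofHom (Ideal.Quotient.mk m)) =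
        t.inv ≫ i.left ≫ Y.left.isoSpec.hom := by
      rw [hi]
      simp
    rw [h3]
    infer_instance
  have h4 := isIso_SpecMap_iff.1 h2
  letI := Ideal.Quotient.field m
  exact MulEquiv.isField (Field.toIsField (A Y ⧸ m)) (RingEquiv.ofBijective _ h4).toMulEquiv

end Groth.Agent.Helper5.FEtFld
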