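import Groth.Agent.Helper5.FEtFld5
import Mathlib

set_option autoImplicit false
set_option linter.style.haveILetI false
set_option linter.unusedSectionVars false
set_option linter.unusedVariables false
universe u w
open CategoryTheory CategoryTheory.Limits AlgebraicGeometry Opposite

namespace Groth.Agent.Helper5.FEtFld

open Groth.Agent.Helper5.FEtGal PreGaloisCategory

variable {K : Type u} [Field K] {Ω : Type u} [Field Ω] [Algebra K Ω]

/-- the `K`-algebra map of a point of the fibre -/
noncomputable def flAlg {Y : FEt.Cat (SK K)} (s : FEt.fiberObj (xi K Ω) Y) :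
    letI : Algebra K (A Y) := (str Y).hom.toAlgebra
    A Y →ₐ[K] Ω :=
  letI : Algebra K (A Y) := (str Y).hom.toAlgebra
  { (fl s).hom with commutes' := str_fl_apply s }

/-- transitivity on the fibres of connected objects -/
theorem exists_gsmul_eq [IsAlgClosed Ω] [Algebra.IsAlgebraic K Ω] (Y : FEt.Cat (SK K))
    (hY : IsConnected Y) (s t : FEt.fiberObj (xi K Ω) Y) :
    ∃ σ : Ω ≃ₐ[K] Ω, gsmul σ s = t := by
  letI : Field (A Y) := (isField_A_of_isConnected Y hY).toField
  letI : Algebra K (A Y) := (str Y).hom.toAlgebra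
  haveI : IsAlgClosure K Ω := ⟨inferInstance, inferInstance⟩
  haveI : Normal K Ω := IsAlgClosure.normal K Ω
  obtain ⟨σ, hσ⟩ := exists_algEquiv_comp_eq (flAlg s) (flAlg t)
  refine ⟨σ, fl_injective ?_⟩
  ext a
  rw [fl_gsmul_apply]
  exact hσ a

/-- stabilizers are open -/
theorem isOpen_stabilizer [Algebra.IsAlgebraic K Ω] (Y : FEt.Cat (SK K))
    (s : FEt.fiberObj (xi K Ω) Y) :
    letI := fiberAction (Ω := Ω) Y
    IsOpen (MulAction.stabilizer (Ω ≃ₐ[K] Ω) s : Set (Ω ≃ₐ[K] Ω)) := by
  letI := fiberAction (Ω := Ω) Y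
  letI : Algebra K (A Y) := (str Y).hom.toAlgebra
  haveI hfin : Module.Finite K (A Y) := finite_str Y
  obtain ⟨S, hS⟩ := Module.finite_def.1 hfin
  let T : Set Ω := (flAlg s) '' (S : Set (A Y))
  let E : IntermediateField K Ω := IntermediateField.adjoin K T
  haveI : Finite T := (S.finite_toSet.image _).to_subtype
  haveI : FiniteDimensional K E :=
    IntermediateField.finiteDimensional_adjoin (fun z _ => Algebra.IsIntegral.isIntegral z)
  refine Subgroup.isOpen_mono (H₁ := E.fixingSubgroup) ?_ E.fixingSubgroup_isOpen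
  intro σ hσ
  rw [IntermediateField.mem_fixingSubgroup_iff] at hσ
  rw [MulAction.mem_stabilizer_iff]
  show gsmul σ s = s
  apply fl_injective
  have h1 : ((σ : Ω →ₐ[K] Ω).comp (flAlg s)).toLinearMap = (flAlg s).toLinearMap := by
    apply LinearMap.ext_on hS
    intro a ha
    exact hσ _ (IntermediateField.subset_adjoin K T ⟨a, ha, rfl⟩)
  ext a
  rw [fl_gsmul_apply]
  exact LinearMap.congr_fun h1 a

end Groth.Agent.Helper5.FEtFld
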