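import Groth.Agent.Helper5.FEtFld6
import Mathlib

set_option autoImplicit false
set_option linter.style.haveILetI false
set_option linter.unusedSectionVars false
set_option linter.unusedVariables false
universe u w
open CategoryTheory CategoryTheory.Limits AlgebraicGeometry Opposite

namespace Groth.Agent.Helper5.FEtFld

open Groth.Agent.Helper5.FEtGal PreGaloisCategory

variable {K : Type u} [Field K] {Ω : Type u} [Field Ω] [Algebra K Ω]

/-- only the identity acts trivially on all fibres -/
theorem eq_one_of_forall_gsmul [Algebra.IsAlgebraic K Ω] (σ : Ω ≃ₐ[K] Ω)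
    (h : ∀ (Y : FEt.Cat (SK K)) (s : FEt.fiberObj (xi K Ω) Y), gsmul σ s = s) : σ = 1 := by
  apply eq_one_of_fix_separable
  intro x hx
  let L : IntermediateField K Ω := IntermediateField.adjoin K {x}
  have hxs : IsSeparable K x := mem_separableClosure_iff.1 hx
  haveI : FiniteDimensional K L := IntermediateField.adjoin.finiteDimensional hxs.isIntegral
  haveI : Algebra.IsSeparable K L :=
    (IntermediateField.isSeparable_adjoin_simple_iff_isSeparable K Ω).2 hxs
  let φ : CommRingCat.of K ⟶ CommRingCat.of L := CommRingCat.ofHom (algebraMap K L)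
  have hf : φ.hom.Finite := RingHom.finite_algebraMap.2 inferInstance
  have he : φ.hom.Etale := by
    show (algebraMap K L).Etale
    rw [RingHom.etale_algebraMap]
    haveI : Algebra.FormallyEtale K L := Algebra.FormallyEtale.of_isSeparable K L
    exact ⟨inferInstance, Algebra.FinitePresentation.of_finiteType.mp inferInstance⟩
  let Y : FEt.Cat (SK K) := MorphismProperty.Over.mk ⊤ (Spec.map φ)
    ⟨(IsFinite.SpecMap_iff _).2 hf, (HasRingHomProperty.Spec_iff (P := @Etale)).2 he⟩
  let ι : CommRingCat.of L ⟶ CommRingCat.of Ω := CommRingCat.ofHom (algebraMap L Ω)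
  have hs : Spec.map ι ≫ Spec.map φ = xi K Ω := by
    rw [← Spec.map_comp]
    rfl
  let s : FEt.fiberObj (xi K Ω) Y := ⟨Spec.map ι, hs⟩
  have h1 := congrArg (fiberObj.val _) (h Y s)
  have h2 : Spec.map (ι ≫ CommRingCat.ofHom (σ : Ω →+* Ω)) = Spec.map ι := by
    rw [Spec.map_comp]
    exact h1
  have h3 := Spec.map_injective h2
  have h4 := congrArg (fun f => f.hom ⟨x, IntermediateField.mem_adjoin_simple_self K x⟩) h3
  exact h4

end Groth.Agent.Helper5.FEtFld
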