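import Groth.Agent.Helper5.FEtFld7
import Mathlib

set_option autoImplicit false
set_option linter.style.haveILetI false
set_option linter.unusedSectionVars false
set_option linter.unusedVariables false
universe u w
open CategoryTheory CategoryTheory.Limits AlgebraicGeometry Opposite

namespace Groth.Agent.Helper5.FEtFld

open Groth.Agent.Helper5.FEtGal PreGaloisCategory
open scoped FintypeCatDiscrete

variable (K : Type u) [Field K] (Ω : Type u) [Field Ω] [Algebra K Ω] [IsAlgClosed Ω]
  [Algebra.IsAlgebraic K Ω]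

/-- Grothendieck's Galois theory for a field: the fundamental group of `Spec K` is the Galois group
of an algebraic closure, and finite étale `K`-schemes are finite continuous Galois sets. -/
theorem main :
    Nonempty ((Ω ≃ₐ[K] Ω) ≃* FEt.piOne (SK K) (xi K Ω)) ∧
      Nonempty (FEt.Cat (SK K) ≌ ContAction FintypeCat.{u} (Ω ≃ₐ[K] Ω)) := by
  letI := preGaloisCategory_fet (SK K)
  letI := galoisCategory_fet (xi K Ω)
  letI : FiberFunctor (fibF (xi K Ω)) := fiberFunctor_fibF _
  letI : ∀ Y, MulAction (Ω ≃ₐ[K] Ω) ((fibF (xi K Ω)).obj Y) := fun Y => fiberAction Y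
  haveI : IsAlgClosure K Ω := ⟨inferInstance, inferInstance⟩
  haveI : Normal K Ω := IsAlgClosure.normal K Ω
  haveI := compactSpace_gal (K := K) (L := Ω)
  haveI : IsFundamentalGroup (fibF (xi K Ω)) (Ω ≃ₐ[K] Ω) :=
    { naturality := fun g Y Y' f x => fiberObj_ext (Category.assoc _ _ _)
      transitive_of_isGalois := fun Y _ => ⟨fun s t => exists_gsmul_eq Y inferInstance s t⟩
      continuous_smul := fun Y => by
        rw [continuousSMul_iff_stabilizer_isOpen]
        exact fun s => isOpen_stabilizer Y s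
      non_trivial' := fun g hg => eq_one_of_forall_gsmul g (fun Y s => hg Y s) }
  refine ⟨⟨(toAutMulEquiv (fibF (xi K Ω)) (Ω ≃ₐ[K] Ω)).trans (autFibFEquiv _)⟩, ?_⟩
  have hh := toAut_isHomeomorph (fibF (xi K Ω)) (Ω ≃ₐ[K] Ω)
  let e0 := (toAutMulEquiv (fibF (xi K Ω)) (Ω ≃ₐ[K] Ω))
  let e : (Ω ≃ₐ[K] Ω) ≃ₜ* Aut (fibF (xi K Ω)) :=
    { e0 with
      continuous_toFun := hh.continuous
      continuous_invFun :=
        (e0.toEquiv.toHomeomorphOfContinuousOpen hh.continuous hh.isOpenMap).symm.continuous }
  exact ⟨(functorToContAction (fibF (xi K Ω))).asEquivalence.trans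
    (ContAction.resEquiv FintypeCat e)⟩

end Groth.Agent.Helper5.FEtFld
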