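import Groth.Agent.Helper5.FEtColim10
import Mathlib

set_option autoImplicit false
set_option linter.style.haveILetI false
set_option linter.unusedSectionVars false
set_option linter.unusedVariables false
universe u
open CategoryTheory CategoryTheory.Limits AlgebraicGeometry Opposite

namespace Groth.Agent.Helper5.FEtGal

open AlgSp Groth.Agent.Helper5.FEtColim

variable {X : Scheme.{u}}

/-- a finite étale `X`-scheme of constant rank is split by a finite étale surjective cover -/
theorem split_of_const_rank (Z : Over X) [IsFinite Z.hom] [Etale Z.hom] (n : ℕ)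
    (hrank : ∀ x, Z.hom.finrank x = n) :
    ∃ (T : Over X) (z : ULift.{u} (Fin n) → (T ⟶ Z)), IsFinite T.hom ∧ Etale T.hom ∧
      Surjective T.hom ∧ Nonempty (IsColimit (Cofan.mk (T ⨯ Z) (sec z))) := by
  obtain ⟨Y₂, ψ, hψf, hψe, hψs, -, inj, hinj, ⟨hcol⟩⟩ :=
    Groth.Agent.Helper3.FSplit.splitDeg n Z.hom hrank
  let T : Over X := Over.mk ψ
  let P : Over X := Over.mk (pullback.snd Z.hom ψ ≫ T.hom)
  let a : P ⟶ T := Over.homMk (pullback.snd Z.hom ψ) rfl
  let b : P ⟶ Z := Over.homMk (pullback.fst Z.hom ψ) pullback.condition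
  have hpb : IsPullback a.left b.left T.hom Z.hom := (IsPullback.of_hasPullback Z.hom ψ).flip
  have hP := isLimitBinaryFanOfIsPullback a b hpb
  let s : Fin n → (T ⟶ P) := fun i => Over.homMk (inj i) (by
    show inj i ≫ pullback.snd Z.hom ψ ≫ T.hom = T.hom
    rw [← Category.assoc, hinj, Category.id_comp])
  have hs : ∀ i, s i ≫ a = 𝟙 T := by
    intro i
    apply Over.OverMorphism.ext
    exact hinj i
  have h1 : IsColimit ((Over.forget X).mapCocone (Cofan.mk P s)) :=
    (isColimitMapCoconeCofanMkEquiv (Over.forget X) (fun _ : Fin n => T) s).symm hcol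
  have hcolP : IsColimit (Cofan.mk P s) := isColimitOfReflects (Over.forget X) h1
  have hcolP' := (Cofan.isColimitEquivOfEquiv (Equiv.ulift.{u} (α := Fin n)) (Cofan.mk P s)) hcolP
  exact ⟨T, fun i => s i.down ≫ b, hψf, hψe, hψs,
    isColimit_sec_of_product a b hP (fun i : ULift.{u} (Fin n) => s i.down) (fun i => hs i.down)
      hcolP'⟩

/-- a nonempty finite scheme over an algebraically closed field has a rational point -/
theorem exists_section_of_finite {Ω : Type u} [Field Ω] [IsAlgClosed Ω] {Y : Scheme.{u}}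
    (ψ : Y ⟶ Spec (CommRingCat.of Ω)) [IsFinite ψ] [Nonempty Y] :
    ∃ t : Spec (CommRingCat.of Ω) ⟶ Y, t ≫ ψ = 𝟙 _ := by
  haveI : IsAffine Y := isAffine_of_isAffineHom ψ
  let e := Y.isoSpec
  obtain ⟨ρ, hρ⟩ := Spec.map_surjective (e.inv ≫ ψ)
  have hfin : ρ.hom.Finite := by
    rw [← IsFinite.SpecMap_iff, hρ]
    infer_instance
  let B := Γ(Y, ⊤)
  haveI : Nontrivial B := by
    have : Nonempty (Spec B) := ⟨e.hom (Classical.arbitrary Y)⟩
    exact (PrimeSpectrum.nonempty_iff_nontrivial).1 this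
  obtain ⟨m, hm⟩ := Ideal.exists_maximal B
  letI : Field (B ⧸ m) := Ideal.Quotient.field m
  let q : Ω →+* (B ⧸ m) := (Ideal.Quotient.mk m).comp ρ.hom
  have hq : q.Finite := RingHom.Finite.comp
    (RingHom.Finite.of_surjective _ Ideal.Quotient.mk_surjective) hfin
  letI : Algebra Ω (B ⧸ m) := q.toAlgebra
  haveI : Algebra.IsIntegral Ω (B ⧸ m) := by
    haveI : Module.Finite Ω (B ⧸ m) := hq
    infer_instance
  have hbij : Function.Bijective (algebraMap Ω (B ⧸ m)) :=
    IsAlgClosed.algebraMap_bijective_of_isIntegral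
  let eq : Ω ≃+* (B ⧸ m) := RingEquiv.ofBijective (algebraMap Ω (B ⧸ m)) hbij
  let σ : B →+* Ω := eq.symm.toRingHom.comp (Ideal.Quotient.mk m)
  have hσ : σ.comp ρ.hom = RingHom.id Ω := by
    ext x
    show eq.symm (Ideal.Quotient.mk m (ρ.hom x)) = x
    have : Ideal.Quotient.mk m (ρ.hom x) = eq x := rfl
    rw [this, RingEquiv.symm_apply_apply]
  refine ⟨Spec.map (CommRingCat.ofHom σ) ≫ e.inv, ?_⟩
  rw [Category.assoc, ← hρ, ← Spec.map_comp]
  have : ρ ≫ CommRingCat.ofHom σ = 𝟙 _ := by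
    ext x
    exact congrFun (congrArg DFunLike.coe hσ) x
  rw [this, Spec.map_id]

end Groth.Agent.Helper5.FEtGal
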