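import Groth.Agent.Helper5.FEtGal1
import Mathlib

set_option autoImplicit false
set_option linter.style.haveILetI false
set_option linter.unusedSectionVars false
set_option linter.unusedVariables false
universe u
open CategoryTheory CategoryTheory.Limits AlgebraicGeometry Opposite

namespace Groth.Agent.Helper5.FEtGal

open AlgSp Groth.Agent.Helper5.FEtColim

/-- the terminal finite étale cover -/
noncomputable def one (S : Scheme.{u}) : FEt.Cat S :=
  MorphismProperty.Over.mk ⊤ (𝟙 S) (FEt.prop.id_mem S)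

/-- it is terminal -/
noncomputable def oneIsTerminal (S : Scheme.{u}) : IsTerminal (one S) :=
  MorphismProperty.Over.mkIdTerminal FEt.prop S

variable {Ω : Type u} [Field Ω] [IsAlgClosed Ω]

instance : Subsingleton ↥(Spec (CommRingCat.of Ω)) :=
  inferInstanceAs (Subsingleton (PrimeSpectrum Ω))

instance : Nonempty ↥(Spec (CommRingCat.of Ω)) :=
  inferInstanceAs (Nonempty (PrimeSpectrum Ω))

/-- **structure theorem**: a finite étale cover of the spectrum of an algebraically closed field
is a finite copower of the terminal cover -/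
theorem exists_copower (Z : FEt.Cat (Spec (CommRingCat.of Ω))) :
    ∃ (n : ℕ) (s : Fin n → (one _ ⟶ Z)), Nonempty (IsColimit (Cofan.mk Z s)) := by
  let S := Spec (CommRingCat.of Ω)
  let Z' : Over S := (fF S).obj Z
  haveI : IsFinite Z'.hom := fF_hom_isFinite Z
  haveI : Etale Z'.hom := fF_hom_etale Z
  let pt : S := Classical.arbitrary _
  let n := Z'.hom.finrank pt
  have hrank : ∀ x, Z'.hom.finrank x = n := fun x => by rw [Subsingleton.elim x pt]
  obtain ⟨T, z, hTf, hTe, hTs, ⟨hc⟩⟩ := split_of_const_rank Z' n hrank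
  haveI : Nonempty T.left := by
    obtain ⟨y, _⟩ := hTs.surj pt
    exact ⟨y⟩
  obtain ⟨t, ht⟩ := exists_section_of_finite T.hom
  let I : Over S := Over.mk (𝟙 S)
  let τ : I ⟶ T := Over.homMk t ht
  obtain ⟨hc'⟩ := isColimit_sec_restrict z τ hc
  -- `I × Z' ≅ Z'`
  have hI : IsTerminal I := Over.mkIdTerminal
  let e : I ⨯ Z' ≅ Z' :=
    { hom := prod.snd
      inv := prod.lift (hI.from Z') (𝟙 Z')
      hom_inv_id := by
        apply prod.hom_ext
        · exact hI.hom_ext _ _
        · rw [Category.assoc, prod.lift_snd, Category.comp_id, Category.id_comp]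
      inv_hom_id := prod.lift_snd _ _ }
  have hc2 : IsColimit (Cofan.mk Z' (fun i : ULift.{u} (Fin n) => τ ≫ z i)) :=
    IsColimit.ofIsoColimit hc' (Cofan.ext e (fun i => by
      show sec (fun i => τ ≫ z i) i ≫ prod.snd = τ ≫ z i
      exact sec_snd _ i))
  have hc3 := (Cofan.isColimitEquivOfEquiv (Equiv.ulift.{u}.symm : Fin n ≃ ULift.{u} (Fin n)) _) hc2
  let s : Fin n → (one S ⟶ Z) := fun i =>
    MorphismProperty.Over.Hom.mk (τ ≫ z ⟨i⟩) trivial
  have h4 : IsColimit ((fF S).mapCocone (Cofan.mk Z s)) :=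
    (isColimitMapCoconeCofanMkEquiv (fF S) (fun _ : Fin n => one S) s).symm hc3
  exact ⟨n, s, ⟨isColimitOfReflects (fF S) h4⟩⟩

end Groth.Agent.Helper5.FEtGal
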