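import Groth.Agent.Helper5.FEtGal2
import Mathlib

set_option autoImplicit false
set_option linter.style.haveILetI false
set_option linter.unusedSectionVars false
set_option linter.unusedVariables false
universe u
open CategoryTheory CategoryTheory.Limits AlgebraicGeometry Opposite

namespace Groth.Agent.Helper5.FEtGal

open AlgSp Groth.Agent.Helper5.FEtColim

variable {X : Scheme.{u}}

instance preservesFiniteColimits_fF : PreservesFiniteColimits (fF X) :=
  ⟨fun J _ _ => preservesColimitsOfShape_of_reflects_of_preserves (fF X) (yon X)⟩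

/-- distinct injections of a coproduct of schemes have disjoint ranges -/
theorem cofan_scheme_disjoint {ι : Type u} {W : ι → Scheme.{u}} (c : Cofan W) (hc : IsColimit c)
    {i j : ι} (hij : i ≠ j) (x : W i) (y : W j) : c.inj i x ≠ c.inj j y := by
  intro hxy
  obtain ⟨p, -, -⟩ := Scheme.Pullback.exists_preimage_pullback x y hxy
  have : IsEmpty ↥(pullback (c.inj i) (c.inj j)) := by
    let e : ∐ W ≅ c.pt := (coproductIsCoproduct W).coconePointUniqueUpToIso hc
    have he : ∀ i, Limits.Sigma.ι W i ≫ e.hom = c.inj i := fun i =>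
      (coproductIsCoproduct W).comp_coconePointUniqueUpToIso_hom hc ⟨i⟩
    refine isEmpty_of_commSq_sigmaι_of_ne (g := W) (i := i) (j := j)
      (a := pullback.fst (c.inj i) (c.inj j)) (b := pullback.snd (c.inj i) (c.inj j)) ⟨?_⟩ hij
    rw [← cancel_mono e.hom, Category.assoc, Category.assoc, he, he]
    exact pullback.condition
  exact this.false p

/-- the underlying cofan of schemes of a coproduct in `FEt.Cat X` -/
theorem isColimit_left_of_isColimit {n : ℕ} {F : Fin n → FEt.Cat X} {Z : FEt.Cat X}
    (s : ∀ i, F i ⟶ Z) (hc : IsColimit (Cofan.mk Z s)) :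
    Nonempty (IsColimit (Cofan.mk Z.left (fun i : ULift.{u} (Fin n) => (s i.down).left))) := by
  have h1 := isColimitOfPreserves (fF X ⋙ Over.forget X) hc
  have h2 := (isColimitMapCoconeCofanMkEquiv (fF X ⋙ Over.forget X) F s) h1
  exact ⟨(Cofan.isColimitEquivOfEquiv (Equiv.ulift.{u} (α := Fin n)) _) h2⟩

section Point

variable {S : Scheme.{u}} [Subsingleton S] [Nonempty S] {Z : FEt.Cat S} {n : ℕ}
  (s : Fin n → (one S ⟶ Z)) (hc : IsColimit (Cofan.mk Z s))

include hc

theorem exists_eq_inj (a : one S ⟶ Z) : ∃ i, a = s i := by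
  obtain ⟨h1⟩ := isColimit_left_of_isColimit s hc
  obtain ⟨hoi, hcov, -⟩ := cofan_scheme_facts _ h1
  let pt : S := Classical.arbitrary _
  let al : S ⟶ Z.left := a.left
  obtain ⟨i, hi⟩ := hcov (al pt)
  let si : S ⟶ Z.left := (s i.down).left
  haveI : IsOpenImmersion si := hoi i
  have hsub : Set.range al ⊆ Set.range si := by
    rintro _ ⟨x, rfl⟩
    rw [Subsingleton.elim x pt]
    exact hi
  let l : S ⟶ S := IsOpenImmersion.lift si al hsub
  have hl : l ≫ si = al := IsOpenImmersion.lift_fac _ _ _
  have h2 : si ≫ Z.hom = 𝟙 S := MorphismProperty.Over.w (s i.down)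
  have h3 : al ≫ Z.hom = 𝟙 S := MorphismProperty.Over.w a
  have h4 : l = 𝟙 S := by
    rw [← h3, ← hl, Category.assoc, h2, Category.comp_id]
  refine ⟨i.down, ?_⟩
  apply MorphismProperty.Over.Hom.ext
  show al = si
  rw [← hl, h4, Category.id_comp]

theorem injective_inj : Function.Injective s := by
  intro i j hij
  by_contra hne
  obtain ⟨h1⟩ := isColimit_left_of_isColimit s hc
  let pt : S := Classical.arbitrary _
  have hne' : (⟨i⟩ : ULift.{u} (Fin n)) ≠ ⟨j⟩ := fun h => hne (congrArg ULift.down h)
  refine cofan_scheme_disjoint _ h1 hne' pt pt ?_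
  show (s i).left pt = (s j).left pt
  rw [hij]

end Point

end Groth.Agent.Helper5.FEtGal
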