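import Groth.Agent.Helper5.FEtColim10
import Mathlib

set_option autoImplicit false
set_option linter.style.haveILetI false
set_option linter.unusedSectionVars false
set_option linter.unusedVariables false
universe u
open CategoryTheory CategoryTheory.Limits AlgebraicGeometry Opposite

namespace Groth.Agent.Helper5.FEtHom

open AlgSp Groth.Agent.Helper5.SpCoprod Groth.Agent.Helper5.YonCoprod Groth.Agent.Helper5.FEtColim

variable {X : Scheme.{u}}

/-- a morphism of sheaves is an isomorphism if it induces bijections on `h_S`-points -/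
theorem isIso_of_yon_bijective {P Q : Sp X} (φ : P ⟶ Q)
    (h : ∀ S : Over X, Function.Bijective (fun σ : (yon X).obj S ⟶ P => σ ≫ φ)) : IsIso φ := by
  have h1 : IsIso ((sheafToPresheaf (J X) (Type (u + 1))).map φ) := by
    rw [NatTrans.isIso_iff_isIso_app]
    intro S
    rw [isIso_iff_bijective]
    have e : ∀ σ : (yon X).obj S.unop ⟶ P,
        φ.hom.app S ((GrothendieckTopology.uliftYonedaEquiv.{u + 1} (J X)) σ) = (GrothendieckTopology.uliftYonedaEquiv.{u + 1} (J X)) (σ ≫ φ) :=
      fun σ => (GrothendieckTopology.uliftYonedaEquiv_comp.{u + 1} (J X) σ φ).symm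
    constructor
    · intro a b hab
      obtain ⟨σ, rfl⟩ := (GrothendieckTopology.uliftYonedaEquiv.{u + 1} (J X)).surjective a
      obtain ⟨τ, rfl⟩ := (GrothendieckTopology.uliftYonedaEquiv.{u + 1} (J X)).surjective b
      have hab' : φ.hom.app S ((GrothendieckTopology.uliftYonedaEquiv.{u + 1} (J X)) σ) = φ.hom.app S ((GrothendieckTopology.uliftYonedaEquiv.{u + 1} (J X)) τ) :=
        hab
      rw [e, e] at hab'
      congr 1
      exact (h S.unop).1 ((GrothendieckTopology.uliftYonedaEquiv.{u + 1} (J X)).injective hab')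
    · intro b
      obtain ⟨τ, rfl⟩ := (GrothendieckTopology.uliftYonedaEquiv.{u + 1} (J X)).surjective b
      obtain ⟨σ, hσ⟩ := (h S.unop).2 τ
      refine ⟨(GrothendieckTopology.uliftYonedaEquiv.{u + 1} (J X)) σ, ?_⟩
      show φ.hom.app S ((GrothendieckTopology.uliftYonedaEquiv.{u + 1} (J X)) σ) = _
      rw [e]
      congr 1
  exact isIso_of_reflects_iso φ (sheafToPresheaf _ _)

section Closed

noncomputable local instance instMCPsh :
    MonoidalClosed ((Over X)ᵒᵖ ⥤ Type (u + 1)) := FunctorToTypes.monoidalClosed.{u + 1, u, u + 1}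

/-- every sheaf is exponentiable -/
theorem exists_rightAdjoint_prod (A : Sp X) :
    ∃ R : Sp X ⥤ Sp X, Nonempty ((prod.functor.obj A : Sp X ⥤ Sp X) ⊣ R) := by
  letI mc := instMonoidalClosedSheafOfHasSheafifyOfFunctorOpposite
    (QuotSh.J Scheme.fppfPrecoverage X) (Type (u + 1))
  exact ⟨ihom A, ⟨(ihom.adjunction A).ofNatIsoLeft (CartesianMonoidalCategory.tensorLeftIsoProd A)⟩⟩

end Closed

/-- the comparison isomorphism `h_{S × U} ≅ h_U × h_S` -/
noncomputable def theta (S U : Over X) : (yon X).obj (S ⨯ U) ≅ (yon X).obj U ⨯ (yon X).obj S :=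
  kap S U ≪≫ prod.braiding _ _

@[reassoc]
theorem theta_hom_fst (S U : Over X) : (theta S U).hom ≫ prod.fst = (yon X).map prod.snd := by
  show ((kap S U).hom ≫ (prod.braiding _ _).hom) ≫ prod.fst = _
  rw [Category.assoc, prod.braiding_hom, prod.lift_fst, kap_hom_snd]

@[reassoc]
theorem theta_hom_snd (S U : Over X) : (theta S U).hom ≫ prod.snd = (yon X).map prod.fst := by
  show ((kap S U).hom ≫ (prod.braiding _ _).hom) ≫ prod.snd = _
  rw [Category.assoc, prod.braiding_hom, prod.lift_snd, kap_hom_fst]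

theorem theta_natural {S' S : Over X} (U : Over X) (m : S' ⟶ S) :
    (theta S' U).hom ≫ prod.map (𝟙 _) ((yon X).map m) =
      (yon X).map (prod.map m (𝟙 U)) ≫ (theta S U).hom := by
  apply prod.hom_ext
  · rw [Category.assoc, prod.map_fst, Category.comp_id, Category.assoc, theta_hom_fst,
      theta_hom_fst, ← Functor.map_comp, prod.map_snd, Category.comp_id]
  · rw [Category.assoc, prod.map_snd, Category.assoc, theta_hom_snd, theta_hom_snd_assoc,
      ← Functor.map_comp, ← Functor.map_comp, prod.map_fst]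

variable {U V : Over X} {R : Sp X ⥤ Sp X}
  (adj : (prod.functor.obj ((yon X).obj U) : Sp X ⥤ Sp X) ⊣ R)

/-- the adjunction bijection, with the product written out -/
noncomputable def hE (B C : Sp X) : ((yon X).obj U ⨯ B ⟶ C) ≃ (B ⟶ R.obj C) := adj.homEquiv B C

theorem hE_symm_natural {B' B : Sp X} (C : Sp X) (f : B' ⟶ B) (g : B ⟶ R.obj C) :
    (hE adj B' C).symm (f ≫ g) = prod.map (𝟙 _) f ≫ (hE adj B C).symm g :=
  adj.homEquiv_naturality_left_symm f g

/-- `h_S`-points of the internal Hom are maps `S × U ⟶ V` -/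
noncomputable def evEquiv (S : Over X) :
    ((yon X).obj S ⟶ R.obj ((yon X).obj V)) ≃ (S ⨯ U ⟶ V) where
  toFun p := (yon X).preimage ((theta S U).hom ≫ (hE adj _ _).symm p)
  invFun ψ := hE adj _ _ ((theta S U).inv ≫ (yon X).map ψ)
  left_inv p := by
    beta_reduce
    rw [Functor.map_preimage, Iso.inv_hom_id_assoc, Equiv.apply_symm_apply]
  right_inv ψ := by
    beta_reduce
    rw [Equiv.symm_apply_apply, Iso.hom_inv_id_assoc, Functor.preimage_map]

theorem yon_map_evEquiv (S : Over X) (p : (yon X).obj S ⟶ R.obj ((yon X).obj V)) :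
    (yon X).map (evEquiv adj S p) = (theta S U).hom ≫ (hE adj _ _).symm p :=
  (yon X).map_preimage _

theorem evEquiv_natural {S' S : Over X} (m : S' ⟶ S)
    (p : (yon X).obj S ⟶ R.obj ((yon X).obj V)) :
    evEquiv adj S' ((yon X).map m ≫ p) = prod.map m (𝟙 U) ≫ evEquiv adj S p := by
  apply (yon X).map_injective
  rw [yon_map_evEquiv, Functor.map_comp, yon_map_evEquiv, hE_symm_natural,
    ← Category.assoc, theta_natural, Category.assoc]

end Groth.Agent.Helper5.FEtHom
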