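import Groth.Agent.Helper5.FEtHom1
import Mathlib

set_option autoImplicit false
set_option linter.style.haveILetI false
set_option linter.unusedSectionVars false
set_option linter.unusedVariables false
universe u
open CategoryTheory CategoryTheory.Limits AlgebraicGeometry Opposite

namespace Groth.Agent.Helper5.FEtHom

open AlgSp Groth.Agent.Helper5.SpCoprod Groth.Agent.Helper5.YonCoprod Groth.Agent.Helper5.FEtColim

variable {X : Scheme.{u}}

theorem sec_comp_prod_map {U S W : Over X} (m : S ⟶ W) {ι : Type u} (y : ι → (W ⟶ U)) (i : ι) :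
    sec (fun i => m ≫ y i) i ≫ prod.map m (𝟙 U) = m ≫ sec y i := by
  apply prod.hom_ext
  · rw [Category.assoc, prod.map_fst, sec_fst_assoc, Category.assoc, sec_fst, Category.comp_id]
  · rw [Category.assoc, prod.map_snd, Category.comp_id, sec_snd, Category.assoc, sec_snd]

variable {U V : Over X} {R : Sp X ⥤ Sp X}

/-- **Local lemma**: over a base `T` on which `U` is split with `ι` sheets, the internal Hom sheaf
`Hom(U, V)` is represented by `T × V^ι`. -/
theorem exists_local_rep_hom
    (adj : (prod.functor.obj ((yon X).obj U) : Sp X ⥤ Sp X) ⊣ R) (Vn : Over X) {ι : Type u} [Finite ι] (pr : ι → (Vn ⟶ V))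
    (hVn : IsLimit (Fan.mk Vn pr)) {T : Over X} (z : ι → (T ⟶ U))
    (hc : IsColimit (Cofan.mk (T ⨯ U) (sec z))) :
    ∃ (a : (yon X).obj (T ⨯ Vn) ⟶ R.obj ((yon X).obj V)),
      IsPullback a ((yon X).map (prod.fst : T ⨯ Vn ⟶ T)) (toOne _) (toOne _) := by
  let W : Over X := T ⨯ Vn
  let v : W ⟶ T := prod.fst
  let y : ι → (W ⟶ U) := fun i => v ≫ z i
  obtain ⟨hcW⟩ := isColimit_sec_restrict z v hc
  let ev : W ⨯ U ⟶ V := Cofan.IsColimit.desc hcW (fun i => prod.snd ≫ pr i)
  have hev : ∀ i, sec y i ≫ ev = prod.snd ≫ pr i := fun i => Cofan.IsColimit.fac hcW _ i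
  let a := (evEquiv adj W).symm ev
  have ha : evEquiv adj W a = ev := Equiv.apply_symm_apply _ _
  let A := (yon X).obj T
  let G := R.obj ((yon X).obj V)
  let φ : (yon X).obj W ⟶ A ⨯ G := prod.lift ((yon X).map v) a
  have key : ∀ (S : Over X) (m : S ⟶ W) (i : ι),
      sec (fun i => m ≫ y i) i ≫ evEquiv adj S ((yon X).map m ≫ a) = m ≫ prod.snd ≫ pr i := by
    intro S m i
    rw [evEquiv_natural, ha, ← Category.assoc, sec_comp_prod_map, Category.assoc, hev]
  have hiso : IsIso φ := by
    apply isIso_of_yon_bijective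
    intro S
    constructor
    · intro σ σ' h
      have h' : σ ≫ φ = σ' ≫ φ := h
      obtain ⟨m, rfl⟩ := (yon X).map_surjective σ
      obtain ⟨m', rfl⟩ := (yon X).map_surjective σ'
      have h1 : m ≫ v = m' ≫ v := by
        apply (yon X).map_injective
        have := congrArg (· ≫ prod.fst) h'
        simpa only [φ, Category.assoc, prod.lift_fst, ← Functor.map_comp] using this
      have h2 : (yon X).map m ≫ a = (yon X).map m' ≫ a := by
        have := congrArg (· ≫ prod.snd) h'
        simpa only [φ, Category.assoc, prod.lift_snd] using this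
      have h3 : (fun i => m ≫ y i) = (fun i => m' ≫ y i) := by
        funext i
        show m ≫ v ≫ z i = m' ≫ v ≫ z i
        rw [← Category.assoc, h1, Category.assoc]
      congr 1
      apply prod.hom_ext
      · exact h1
      · apply Fan.IsLimit.hom_ext hVn
        intro i
        show (m ≫ prod.snd) ≫ pr i = (m' ≫ prod.snd) ≫ pr i
        rw [Category.assoc, Category.assoc, ← key S m i, ← key S m' i, h2, h3]
    · intro τ
      let s : S ⟶ T := (yon X).preimage (τ ≫ prod.fst)
      let ψ : S ⨯ U ⟶ V := evEquiv adj S (τ ≫ prod.snd)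
      obtain ⟨hcS⟩ := isColimit_sec_restrict z s hc
      let m : S ⟶ W := prod.lift s (Fan.IsLimit.lift hVn (fun i => sec (fun i => s ≫ z i) i ≫ ψ))
      have hm : m ≫ v = s := prod.lift_fst _ _
      have hmy : (fun i => m ≫ y i) = (fun i => s ≫ z i) := by
        funext i
        show m ≫ v ≫ z i = s ≫ z i
        rw [← Category.assoc, hm]
      refine ⟨(yon X).map m, ?_⟩
      show (yon X).map m ≫ φ = τ
      apply prod.hom_ext
      · rw [Category.assoc, prod.lift_fst, ← Functor.map_comp, hm, Functor.map_preimage]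
      · rw [Category.assoc, prod.lift_snd]
        apply (evEquiv adj S).injective
        apply Cofan.IsColimit.hom_ext hcS
        intro i
        show sec (fun i => s ≫ z i) i ≫ _ = sec (fun i => s ≫ z i) i ≫ ψ
        have h4 := key S m i
        rw [hmy] at h4
        rw [h4, ← Category.assoc, prod.lift_snd]
        exact Fan.IsLimit.fac hVn _ i
  let e : (yon X).obj W ≅ A ⨯ G := asIso φ
  have h0 : IsPullback (prod.snd : A ⨯ G ⟶ G) (prod.fst : A ⨯ G ⟶ A) (toOne G) (toOne A) :=
    (IsPullback.of_is_product' (prodIsProd A G) isTerminalYon).flip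
  refine ⟨a, IsPullback.of_iso h0 e.symm (Iso.refl _) (Iso.refl _) (Iso.refl _) ?_ ?_ ?_ ?_⟩
  · rw [Iso.refl_hom, Category.comp_id]
    show prod.snd = inv φ ≫ a
    rw [IsIso.eq_inv_comp]
    exact prod.lift_snd _ _
  · rw [Iso.refl_hom, Category.comp_id]
    show prod.fst = inv φ ≫ (yon X).map v
    rw [IsIso.eq_inv_comp]
    exact prod.lift_fst _ _
  · simp only [Iso.refl_hom, Category.comp_id, Category.id_comp]
    rfl
  · simp only [Iso.refl_hom, Category.comp_id, Category.id_comp]
    rfl

end Groth.Agent.Helper5.FEtHom
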