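import Groth.Agent.Helper5.FEtHom2
import Mathlib

set_option autoImplicit false
set_option linter.style.haveILetI false
set_option linter.unusedSectionVars false
set_option linter.unusedVariables false
universe u
open CategoryTheory CategoryTheory.Limits AlgebraicGeometry Opposite

namespace Groth.Agent.Helper5.FEtHom

open AlgSp Groth.Agent.Helper5.SpCoprod Groth.Agent.Helper5.YonCoprod Groth.Agent.Helper5.FEtColim

variable {X : Scheme.{u}}

/-- the internal Hom sheaf of two finite étale `X`-schemes is representable by a finite étale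
`X`-scheme -/
theorem exists_rep_hom (U V : FEt.Cat X) {R : Sp X ⥤ Sp X}
    (adj : (prod.functor.obj ((yF X).obj U) : Sp X ⥤ Sp X) ⊣ R) :
    ∃ W : Over X, FEt.prop W.hom ∧ Nonempty ((yon X).obj W ≅ R.obj ((yF X).obj V)) := by
  let G : Sp X := R.obj ((yF X).obj V)
  have hloc : ∀ x : X, ∃ (T : Over X) (Vl : Over X) (v : Vl ⟶ T) (a : (yon X).obj Vl ⟶ G),
      Flat T.hom ∧ LocallyOfFinitePresentation T.hom ∧ x ∈ Set.range T.hom ∧
      FEt.prop v.left ∧ IsPullback a ((yon X).map v) (toOne G) (toOne ((yon X).obj T)) := by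
    intro x
    haveI := fF_hom_isFinite U
    haveI := fF_hom_etale U
    obtain ⟨T, n, z, hfl, hlfp, hx, ⟨hc⟩⟩ := exists_split_cover ((fF X).obj U) x
    let ι := ULift.{u} (Fin n)
    let VnF : FEt.Cat X := ∏ᶜ (fun _ : ι => V)
    let Vn : Over X := (fF X).obj VnF
    let pr : ι → (Vn ⟶ (fF X).obj V) := fun i => (fF X).map (Pi.π (fun _ : ι => V) i)
    have hVn : IsLimit (Fan.mk Vn pr) :=
      (isLimitMapConeFanMkEquiv (fF X) (fun _ : ι => V) (Pi.π (fun _ : ι => V)))
        (isLimitOfPreserves (fF X) (productIsProduct (fun _ : ι => V)))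
    obtain ⟨a, sq⟩ := exists_local_rep_hom adj Vn pr hVn z hc
    exact ⟨T, T ⨯ Vn, prod.fst, a, hfl, hlfp, hx, prop_prod_fst_left FEt.prop T Vn VnF.prop, sq⟩
  choose T Vl v a hfl hlfp hx hv sq using hloc
  exact exists_rep_of_fppf_family FEt.prop fetProp_le_isAffineHom G T hfl hlfp
    (fun x => ⟨x, hx x⟩) Vl v hv a sq

end Groth.Agent.Helper5.FEtHom
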