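import Groth.Agent.Helper5.FEtHom3
import Mathlib

set_option autoImplicit false
set_option linter.style.haveILetI false
set_option linter.unusedSectionVars false
set_option linter.unusedVariables false
universe u
open CategoryTheory CategoryTheory.Limits AlgebraicGeometry Opposite

namespace Groth.Agent.Helper5.FEtHom

open AlgSp Groth.Agent.Helper5.SpCoprod Groth.Agent.Helper5.YonCoprod Groth.Agent.Helper5.FEtColim

variable {X : Scheme.{u}} (U V : FEt.Cat X) {T : Scheme.{u}} (g : T ⟶ X)

/-- the fibre product `U ×_X T` as an object over `X` -/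
noncomputable def Pg : Over X := Over.mk (pullback.snd U.hom g ≫ g)

noncomputable def pgFst : Pg U g ⟶ Over.mk g := Over.homMk (pullback.snd U.hom g) rfl

noncomputable def pgSnd : Pg U g ⟶ (fF X).obj U := Over.homMk (pullback.fst U.hom g) (by
  show pullback.fst U.hom g ≫ U.hom = pullback.snd U.hom g ≫ g
  exact pullback.condition)

noncomputable def pgIsLimit : IsLimit (BinaryFan.mk (pgFst U g) (pgSnd U g)) :=
  isLimitBinaryFanOfIsPullback _ _ (IsPullback.of_hasPullback U.hom g).flip

noncomputable def pgIso : Pg U g ≅ Over.mk g ⨯ (fF X).obj U :=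
  (pgIsLimit U g).conePointUniqueUpToIso (limit.isLimit _)

variable {U V}

/-- the underlying map of a morphism between base changes -/
def resLeft (ψ : (FEt.restrict g).obj U ⟶ (FEt.restrict g).obj V) :
    pullback U.hom g ⟶ pullback V.hom g := ψ.left

theorem resLeft_snd (ψ : (FEt.restrict g).obj U ⟶ (FEt.restrict g).obj V) :
    resLeft g ψ ≫ pullback.snd V.hom g = pullback.snd U.hom g := MorphismProperty.Over.w ψ

variable (U V)

/-- maps `U ×_X T ⟶ V` over `X` are maps `U_T ⟶ V_T` over `T` -/
noncomputable def restrictHomEquiv :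
    (Pg U g ⟶ (fF X).obj V) ≃ ((FEt.restrict g).obj U ⟶ (FEt.restrict g).obj V) where
  toFun φ := MorphismProperty.Over.homMk
    (pullback.lift φ.left (pullback.snd U.hom g) (Over.w φ) : pullback U.hom g ⟶ pullback V.hom g)
    (by
      show pullback.lift _ _ _ ≫ pullback.snd V.hom g = pullback.snd U.hom g
      exact pullback.lift_snd _ _ _) trivial
  invFun ψ := Over.homMk (resLeft g ψ ≫ pullback.fst V.hom g) (by
    show (resLeft g ψ ≫ pullback.fst V.hom g) ≫ V.hom = pullback.snd U.hom g ≫ g
    rw [Category.assoc, pullback.condition, ← Category.assoc, resLeft_snd])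
  left_inv φ := by
    apply Over.OverMorphism.ext
    exact pullback.lift_fst _ _ _
  right_inv ψ := by
    apply MorphismProperty.Over.Hom.ext
    show pullback.lift (resLeft g ψ ≫ pullback.fst V.hom g) (pullback.snd U.hom g) _ = resLeft g ψ
    apply pullback.hom_ext
    · exact pullback.lift_fst _ _ _
    · exact (pullback.lift_snd _ _ _).trans (resLeft_snd g ψ).symm

/-- sections of `W` over `g` are maps in `Over X` -/
def sectionEquiv (W : Over X) : {s : T ⟶ W.left // s ≫ W.hom = g} ≃ (Over.mk g ⟶ W) where
  toFun s := Over.homMk s.1 s.2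
  invFun m := ⟨m.left, Over.w m⟩
  left_inv s := rfl
  right_inv m := rfl

/-- **Internal Hom** of finite étale covers: `Hom_X(U, V)` is representable by a finite étale
`X`-scheme. -/
theorem exists_internalHom :
    ∃ W : FEt.Cat X, ∀ (T : Scheme.{u}) (g : T ⟶ X),
      Nonempty ({s : T ⟶ W.left // s ≫ W.hom = g} ≃
        ((FEt.restrict g).obj U ⟶ (FEt.restrict g).obj V)) := by
  obtain ⟨R, ⟨adj⟩⟩ := exists_rightAdjoint_prod ((yF X).obj U)
  obtain ⟨W₀, hW, ⟨e⟩⟩ := exists_rep_hom U V adj
  refine ⟨MorphismProperty.Over.mk ⊤ W₀.hom hW, fun T g => ⟨?_⟩⟩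
  exact (sectionEquiv g W₀).trans
    (((Functor.FullyFaithful.ofFullyFaithful (yon X)).homEquiv).trans
      ((Iso.homCongr (Iso.refl _) e).trans
        ((evEquiv (U := (fF X).obj U) (V := (fF X).obj V) adj (Over.mk g)).trans
          ((Iso.homCongr (pgIso U g).symm (Iso.refl _)).trans (restrictHomEquiv U V g)))))

end Groth.Agent.Helper5.FEtHom
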