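import Mathlib
import Groth.Agent.Helper5.FFLLS
set_option autoImplicit false
open FunFld Polynomial
open scoped IntermediateField

namespace Groth.Agent.Helper5.FF

variable {k : Type*} [Field k]

theorem chain_weight_ge [IsAlgClosed k]
    (n : ℕ) (U : Fin (n + 1) → Type*) [∀ l, Field (U l)] [∀ l, Algebra k (U l)]
    (hU : ∀ l, IsFunctionField k (U l))
    (d r : ℕ) (D : ∀ l, Divisor k (U l)) (hD : ∀ l, (D l).deg = d)
    (V : ∀ l, Submodule k (U l)) (hV : ∀ l, V l ≤ L (D l))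
    (hVr : ∀ l, Module.finrank k ↥(V l) = r + 1)
    (A B : ∀ l, Place k (U l))
    (hAB : ∀ l : Fin (n + 1), 0 < (l : ℕ) → (l : ℕ) < n → A l ≠ B l)
    (hcomp : ∀ (l : Fin n) (m : ℕ), m ≤ d + 1 →
      Module.finrank k ↥((V l.castSucc) ⊓ L ((D l.castSucc) - Finsupp.single (B l.castSucc) ((m : ℤ)))) +
        Module.finrank k ↥((V l.succ) ⊓ L ((D l.succ) - Finsupp.single (A l.succ) ((d : ℤ) + 1 - m))) = r + 1)
    (c : ℕ) (hc : vsum (V 0) (D 0) (B 0) d + c + r * (r + 1) ≤ (r + 1) * d + r * (r + 1) / 2)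
    (l : Fin (n + 1)) (hl : 0 < (l : ℕ)) :
    c + r * (r + 1) / 2 ≤ vsum (V l) (D l) (A l) d := by
  have F1 : ∀ l : Fin n, vsum (V l.castSucc) (D l.castSucc) (B l.castSucc) d +
      vsum (V l.succ) (D l.succ) (A l.succ) d = (r + 1) * d :=
    fun l => vsum_add_vsum_eq_of_compat d r _ _ _ _ _ _ (hcomp l)
  have F2 : ∀ l : Fin (n + 1), 0 < (l : ℕ) → (l : ℕ) < n →
      vsum (V l) (D l) (A l) d + vsum (V l) (D l) (B l) d ≤ (r + 1) * d := by
    intro l h0 hn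
    have := vsum_add_vsum_le (hU l) d (D l) (hD l) (V l) (hV l) (A l) (B l) (hAB l h0 hn)
    rwa [hVr l] at this
  have key : ∀ (m : ℕ) (hm : m + 1 < n + 1),
      c + r * (r + 1) / 2 ≤ vsum (V ⟨m + 1, hm⟩) (D ⟨m + 1, hm⟩) (A ⟨m + 1, hm⟩) d := by
    intro m
    induction m with
    | zero =>
      intro hm
      have h1 := F1 ⟨0, by omega⟩
      have e0 : Fin.castSucc (⟨0, by omega⟩ : Fin n) = (0 : Fin (n + 1)) := by
        apply Fin.ext; simp
      rw [e0] at h1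
      have h2 : vsum (V (Fin.succ (⟨0, by omega⟩ : Fin n))) (D (Fin.succ ⟨0, by omega⟩))
          (A (Fin.succ ⟨0, by omega⟩)) d =
          vsum (V ⟨0 + 1, hm⟩) (D ⟨0 + 1, hm⟩) (A ⟨0 + 1, hm⟩) d := rfl
      rw [h2] at h1
      omega
    | succ m ih =>
      intro hm
      have h0 := ih (by omega)
      have h1 := F1 ⟨m + 1, by omega⟩
      have h2 := F2 ⟨m + 1, by omega⟩ (by simp) (by simp; omega)
      have h3 : vsum (V (Fin.castSucc (⟨m + 1, by omega⟩ : Fin n))) (D (Fin.castSucc ⟨m + 1, by omega⟩))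
          (B (Fin.castSucc ⟨m + 1, by omega⟩)) d =
          vsum (V ⟨m + 1, by omega⟩) (D ⟨m + 1, by omega⟩) (B ⟨m + 1, by omega⟩) d := rfl
      have h4 : vsum (V (Fin.succ (⟨m + 1, by omega⟩ : Fin n))) (D (Fin.succ ⟨m + 1, by omega⟩))
          (A (Fin.succ ⟨m + 1, by omega⟩)) d =
          vsum (V ⟨m + 1 + 1, hm⟩) (D ⟨m + 1 + 1, hm⟩) (A ⟨m + 1 + 1, hm⟩) d := rfl
      rw [h3, h4] at h1
      omega
  obtain ⟨m, hm⟩ : ∃ m : ℕ, (l : ℕ) = m + 1 := ⟨(l : ℕ) - 1, by omega⟩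
  have hl' : l = ⟨m + 1, by rw [← hm]; exact l.2⟩ := Fin.ext hm
  rw [hl']
  exact key m _

end Groth.Agent.Helper5.FF
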