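import Mathlib
set_option autoImplicit false
open Polynomial Matrix Finset

namespace Groth.Agent.Helper5.PW

variable {k : Type*} [Field k] {n : ℕ}

theorem coeff_prod_of_natDegree_le' {ι : Type*} (s : Finset ι) (f : ι → k[X]) (d : ι → ℕ)
    (h : ∀ i ∈ s, (f i).natDegree ≤ d i) :
    (∏ i ∈ s, f i).natDegree ≤ ∑ i ∈ s, d i ∧
      (∏ i ∈ s, f i).coeff (∑ i ∈ s, d i) = ∏ i ∈ s, (f i).coeff (d i) := by
  classical
  induction s using Finset.induction_on with
  | empty => simp
  | insert a s ha ih =>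
    have h1 := ih (fun i hi => h i (Finset.mem_insert_of_mem hi))
    have h2 := h a (Finset.mem_insert_self a s)
    rw [Finset.prod_insert ha, Finset.sum_insert ha, Finset.prod_insert ha]
    refine ⟨natDegree_mul_le_of_le h2 h1.1, ?_⟩
    rw [coeff_mul_add_eq_of_natDegree_le h2 h1.1, h1.2]

/-- the Wronskian determinant of a family of polynomials -/
noncomputable def wr (g : Fin n → k[X]) : k[X] :=
  Matrix.det (Matrix.of fun i j : Fin n => derivative^[(i : ℕ)] (g j))

theorem wr_eq_sum (g : Fin n → k[X]) :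
    wr g = ∑ σ : Equiv.Perm (Fin n), ((Equiv.Perm.sign σ : ℤ) : k[X]) *
      ∏ i, derivative^[((σ i : Fin n) : ℕ)] (g i) := by
  unfold wr
  rw [Matrix.det_apply']
  rfl

theorem wr_baseChange (M : Matrix (Fin n) (Fin n) k) (g : Fin n → k[X]) :
    wr (fun j => ∑ l, C (M j l) * g l) = C M.det * wr g := by
  unfold wr
  have h : (Matrix.of fun i j : Fin n => derivative^[(i : ℕ)] (∑ l, C (M j l) * g l)) =
      (Matrix.of fun i l : Fin n => derivative^[(i : ℕ)] (g l)) * (M.map C)ᵀ := by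
    apply Matrix.ext
    intro i j
    rw [Matrix.mul_apply, Matrix.of_apply, Polynomial.iterate_derivative_sum]
    apply Finset.sum_congr rfl
    intro l _
    rw [Polynomial.iterate_derivative_C_mul, Matrix.of_apply, Matrix.transpose_apply,
      Matrix.map_apply, mul_comm]
  rw [h, Matrix.det_mul, Matrix.det_transpose, mul_comm]
  congr 1
  exact (RingHom.map_det C M).symm

theorem sum_tsub_le_sum_tsub {ι : Type*} (s : Finset ι) (a b : ι → ℕ) :
    ∑ i ∈ s, a i - ∑ i ∈ s, b i ≤ ∑ i ∈ s, (a i - b i) := by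
  rw [Nat.sub_le_iff_le_add, ← Finset.sum_add_distrib]
  apply Finset.sum_le_sum
  intro i _
  omega

theorem sum_perm_val (σ : Equiv.Perm (Fin n)) : ∑ i, ((σ i : Fin n) : ℕ) = ∑ i : Fin n, (i : ℕ) :=
  Equiv.sum_comp σ (fun i : Fin n => (i : ℕ))

theorem dvd_wr (a : k) (g : Fin n → k[X]) (m : Fin n → ℕ) (hm : ∀ i, (X - C a) ^ m i ∣ g i) :
    (X - C a) ^ ((∑ i, m i) - ∑ i : Fin n, (i : ℕ)) ∣ wr g := by
  rw [wr_eq_sum]
  apply Finset.dvd_sum
  intro σ _
  apply Dvd.dvd.mul_left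
  have h1 : ∏ i, (X - C a) ^ (m i - ((σ i : Fin n) : ℕ)) ∣
      ∏ i, derivative^[((σ i : Fin n) : ℕ)] (g i) :=
    Finset.prod_dvd_prod_of_dvd _ _ fun i _ =>
      Polynomial.pow_sub_dvd_iterate_derivative_of_pow_dvd _ (hm i)
  rw [Finset.prod_pow_eq_pow_sum] at h1
  refine (pow_dvd_pow _ ?_).trans h1
  have := sum_tsub_le_sum_tsub Finset.univ m (fun i => ((σ i : Fin n) : ℕ))
  rwa [sum_perm_val] at this

/-- analysis of a single term of the Wronskian -/
theorem term_analysis (g : Fin n → k[X]) (e : Fin n → ℕ) (he : ∀ i, (g i).natDegree ≤ e i)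
    (hsum : ∑ i : Fin n, (i : ℕ) ≤ ∑ i, e i) (σ : Equiv.Perm (Fin n)) :
    (∏ i, derivative^[((σ i : Fin n) : ℕ)] (g i)).natDegree ≤ (∑ i, e i) - ∑ i : Fin n, (i : ℕ) ∧
    (∏ i, derivative^[((σ i : Fin n) : ℕ)] (g i)).coeff ((∑ i, e i) - ∑ i : Fin n, (i : ℕ)) =
      ∏ i, (((e i).descFactorial ((σ i : Fin n) : ℕ) : ℕ) : k) * (g i).coeff (e i) := by
  by_cases hA : ∀ i, ((σ i : Fin n) : ℕ) ≤ e i
  · have hd : ∀ i ∈ (Finset.univ : Finset (Fin n)),
        (derivative^[((σ i : Fin n) : ℕ)] (g i)).natDegree ≤ e i - ((σ i : Fin n) : ℕ) :=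
      fun i _ => (natDegree_iterate_derivative _ _).trans (Nat.sub_le_sub_right (he i) _)
    have h1 := coeff_prod_of_natDegree_le' Finset.univ
      (fun i => derivative^[((σ i : Fin n) : ℕ)] (g i)) (fun i => e i - ((σ i : Fin n) : ℕ)) hd
    have hN : ∑ i, (e i - ((σ i : Fin n) : ℕ)) = (∑ i, e i) - ∑ i : Fin n, (i : ℕ) := by
      rw [Finset.sum_tsub_distrib _ (fun i _ => hA i), sum_perm_val]
    rw [hN] at h1
    refine ⟨h1.1, ?_⟩
    rw [h1.2]
    apply Finset.prod_congr rfl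
    intro i _
    rw [coeff_iterate_derivative, Nat.sub_add_cancel (hA i), nsmul_eq_mul]
  · push Not at hA
    obtain ⟨i₀, hi₀⟩ := hA
    have hz : derivative^[((σ i₀ : Fin n) : ℕ)] (g i₀) = 0 :=
      iterate_derivative_eq_zero (lt_of_le_of_lt (he i₀) hi₀)
    have hprod : ∏ i, derivative^[((σ i : Fin n) : ℕ)] (g i) = 0 :=
      Finset.prod_eq_zero (Finset.mem_univ i₀) hz
    rw [hprod]
    refine ⟨by simp, ?_⟩
    rw [coeff_zero]
    symm
    apply Finset.prod_eq_zero (Finset.mem_univ i₀)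
    rw [Nat.descFactorial_of_lt hi₀]
    simp

theorem natDegree_sign_mul_le (σ : Equiv.Perm (Fin n)) (p : k[X]) :
    (((Equiv.Perm.sign σ : ℤ) : k[X]) * p).natDegree ≤ p.natDegree := by
  rcases Int.units_eq_one_or (Equiv.Perm.sign σ) with h | h <;> rw [h] <;> simp

theorem natDegree_wr_le (g : Fin n → k[X]) (e : Fin n → ℕ) (he : ∀ i, (g i).natDegree ≤ e i)
    (hsum : ∑ i : Fin n, (i : ℕ) ≤ ∑ i, e i) :
    (wr g).natDegree ≤ (∑ i, e i) - ∑ i : Fin n, (i : ℕ) := by
  rw [wr_eq_sum]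
  apply natDegree_sum_le_of_forall_le
  intro σ _
  exact (natDegree_sign_mul_le σ _).trans (term_analysis g e he hsum σ).1

theorem coeff_sign_mul (σ : Equiv.Perm (Fin n)) (p : k[X]) (N : ℕ) :
    (((Equiv.Perm.sign σ : ℤ) : k[X]) * p).coeff N = ((Equiv.Perm.sign σ : ℤ) : k) * p.coeff N := by
  rcases Int.units_eq_one_or (Equiv.Perm.sign σ) with h | h <;> rw [h] <;> simp

theorem coeff_wr (g : Fin n → k[X]) (e : Fin n → ℕ) (he : ∀ i, (g i).natDegree ≤ e i)
    (hsum : ∑ i : Fin n, (i : ℕ) ≤ ∑ i, e i) :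
    (wr g).coeff ((∑ i, e i) - ∑ i : Fin n, (i : ℕ)) =
      (∏ i, (g i).coeff (e i)) *
        Matrix.det (Matrix.of fun i j : Fin n => (((e j).descFactorial (i : ℕ) : ℕ) : k)) := by
  rw [wr_eq_sum, Polynomial.finsetSum_coeff, Matrix.det_apply', Finset.mul_sum]
  apply Finset.sum_congr rfl
  intro σ _
  rw [coeff_sign_mul, (term_analysis g e he hsum σ).2, Finset.prod_mul_distrib]
  simp only [Matrix.of_apply]
  ring

theorem det_descFactorial [CharZero k] (e : Fin n → ℕ) (he : Function.Injective e) :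
    Matrix.det (Matrix.of fun i j : Fin n => (((e j).descFactorial (i : ℕ) : ℕ) : k)) ≠ 0 := by
  have h1 := Matrix.det_eval_matrixOfPolynomials_eq_det_vandermonde (fun i : Fin n => ((e i : ℕ) : k))
    (fun j : Fin n => descPochhammer k (j : ℕ)) (fun i => descPochhammer_natDegree k _)
    (fun i => monic_descPochhammer k _)
  have h2 : (Matrix.of fun i j : Fin n => (((e j).descFactorial (i : ℕ) : ℕ) : k)) =
      (Matrix.of fun i j : Fin n =>
        (descPochhammer k (j : ℕ)).eval ((e i : ℕ) : k))ᵀ := by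
    ext i j
    rw [Matrix.transpose_apply, Matrix.of_apply, Matrix.of_apply,
      descPochhammer_eval_eq_descFactorial]
  rw [h2, Matrix.det_transpose, ← h1, Matrix.det_vandermonde]
  apply Finset.prod_ne_zero_iff.mpr
  intro i _
  apply Finset.prod_ne_zero_iff.mpr
  intro j hj
  rw [Finset.mem_Ioi] at hj
  rw [sub_ne_zero]
  intro h
  have := he (Nat.cast_injective h)
  exact absurd this (ne_of_gt hj)

theorem sum_id_le_sum_of_injective (e : Fin n → ℕ) (he : Function.Injective e) :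
    ∑ i : Fin n, (i : ℕ) ≤ ∑ i, e i := by
  classical
  have h1 := Finset.sum_range_le_sum (s := (Finset.univ.image fun i => (e i : ℤ))) (c := 0)
    (fun x hx => by
      rw [Finset.mem_image] at hx
      obtain ⟨i, -, rfl⟩ := hx
      exact Int.natCast_nonneg _)
  have hinj : Function.Injective fun i : Fin n => (e i : ℤ) := fun i j h => he (Int.natCast_inj.mp h)
  rw [Finset.card_image_of_injective _ hinj, Finset.card_univ, Fintype.card_fin,
    Finset.sum_image (fun i _ j _ h => hinj h)] at h1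
  simp only [zero_add] at h1
  have h2 : ((∑ i : Fin n, (i : ℕ) : ℕ) : ℤ) ≤ ((∑ i, e i : ℕ) : ℤ) := by
    push_cast
    rw [Fin.sum_univ_eq_sum_range (fun i => (i : ℤ)) n]
    exact h1
  exact_mod_cast h2

theorem wr_ne_zero [CharZero k] (g : Fin n → k[X]) (hg0 : ∀ i, g i ≠ 0)
    (hinj : Function.Injective fun i => (g i).natDegree) : wr g ≠ 0 := by
  intro h0
  have hsum := sum_id_le_sum_of_injective (fun i => (g i).natDegree) hinj
  have h1 := coeff_wr g (fun i => (g i).natDegree) (fun i => le_rfl) hsum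
  rw [h0, coeff_zero] at h1
  have h2 : (∏ i, (g i).coeff (g i).natDegree) ≠ 0 :=
    Finset.prod_ne_zero_iff.mpr fun i _ => leadingCoeff_ne_zero.mpr (hg0 i)
  exact mul_ne_zero h2 (det_descFactorial _ hinj) h1.symm

theorem plucker_poly [CharZero k] (g : Fin n → k[X]) (hg0 : ∀ i, g i ≠ 0)
    (hinj : Function.Injective fun i => (g i).natDegree)
    (S : Finset k) (w : k → ℕ) (hw : ∀ a ∈ S, (X - C a) ^ (w a) ∣ wr g) :
    ∑ a ∈ S, w a ≤ (∑ i, (g i).natDegree) - ∑ i : Fin n, (i : ℕ) := by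
  classical
  have hne := wr_ne_zero g hg0 hinj
  have hsum := sum_id_le_sum_of_injective (fun i => (g i).natDegree) hinj
  have hdeg := natDegree_wr_le g (fun i => (g i).natDegree) (fun i => le_rfl) hsum
  have hdvd : ∏ a ∈ S, (X - C a) ^ (w a) ∣ wr g := by
    apply Finset.prod_dvd_of_coprime
    · intro a _ b _ hab
      apply IsCoprime.pow
      apply Polynomial.isCoprime_X_sub_C_of_isUnit_sub
      exact (sub_ne_zero.mpr hab).isUnit
    · exact hw
  have h1 := Polynomial.natDegree_le_of_dvd hdvd hne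
  rw [Polynomial.natDegree_prod _ _ (fun a _ => pow_ne_zero _ (X_sub_C_ne_zero a))] at h1
  simp only [natDegree_pow, natDegree_X_sub_C, mul_one] at h1
  exact h1.trans hdeg

theorem plucker_poly' [CharZero k] {ι : Type*} (g : Fin n → k[X]) (hg0 : ∀ i, g i ≠ 0)
    (hinj : Function.Injective fun i => (g i).natDegree)
    (S : Finset ι) (a : ι → k) (ha : Set.InjOn a (S : Set ι)) (w : ι → ℕ)
    (hw : ∀ P ∈ S, (X - C (a P)) ^ (w P) ∣ wr g) :
    ∑ P ∈ S, w P ≤ (∑ i, (g i).natDegree) - ∑ i : Fin n, (i : ℕ) := by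
  classical
  have hne := wr_ne_zero g hg0 hinj
  have hsum := sum_id_le_sum_of_injective (fun i => (g i).natDegree) hinj
  have hdeg := natDegree_wr_le g (fun i => (g i).natDegree) (fun i => le_rfl) hsum
  have hdvd : ∏ P ∈ S, (X - C (a P)) ^ (w P) ∣ wr g := by
    apply Finset.prod_dvd_of_coprime
    · intro P hP Q hQ hPQ
      apply IsCoprime.pow
      apply Polynomial.isCoprime_X_sub_C_of_isUnit_sub
      exact (sub_ne_zero.mpr (fun h => hPQ (ha hP hQ h))).isUnit
    · exact hw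
  have h1 := Polynomial.natDegree_le_of_dvd hdvd hne
  rw [Polynomial.natDegree_prod _ _ (fun P _ => pow_ne_zero _ (X_sub_C_ne_zero (a P)))] at h1
  simp only [natDegree_pow, natDegree_X_sub_C, mul_one] at h1
  exact h1.trans hdeg

end Groth.Agent.Helper5.PW
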