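import Mathlib
import Groth.Agent.Helper5.FFCoord0
import Groth.Agent.Helper5.PolyWronskian
import Groth.Agent.Helper5.FFExist
set_option autoImplicit false
open FunFld Polynomial
open scoped IntermediateField

namespace Groth.Agent.Helper5.FF

variable {k K : Type*} [Field k] [Field K] [Algebra k K]

theorem sum_fin_id (r : ℕ) : ∑ i : Fin (r + 1), (i : ℕ) = r * (r + 1) / 2 := by
  rw [Fin.sum_univ_eq_sum_range (fun i => i) (r + 1), Finset.sum_range_id, mul_comm]
  rfl

/-- Plücker's inequality on a curve of genus zero: the total ramification weight of a linear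
series `V ⊆ L(D)` of dimension `r + 1` and degree `d` at finitely many places is at most
`(r + 1)(d - r)` -/
theorem plucker_genus_zero [IsAlgClosed k] [CharZero k] (hK : IsFunctionField k K)
    (hg0 : genus k K = 0) (d r : ℕ) (D : Divisor k K) (hD : D.deg = d)
    (V : Submodule k K) (hV : V ≤ L D) (hVr : Module.finrank k ↥V = r + 1)
    (S : Finset (Place k K)) :
    ∑ P ∈ S, vsum V D P d + r * (r + 1) ≤ (r + 1) * d + S.card * (r * (r + 1) / 2) := by
  classical
  obtain ⟨x₀, hx₀tr, -⟩ := hK.1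
  obtain ⟨P₀, -⟩ := exists_place_val_lt_one hK hx₀tr
  obtain ⟨x, hx⟩ := (genus_zero_iff hK).mp ⟨hg0, P₀, deg_eq_one_of_isAlgClosed hK P₀⟩
  have htr := transcendental_of_adjoin_eq_top hK hx
  have hx0 : x ≠ 0 := by rintro rfl; exact htr isAlgebraic_zero
  have h1 : Module.finrank k⟮x⟯ K = 1 := IntermediateField.finrank_eq_one_iff_eq_top.mpr hx
  obtain ⟨Pinf, hPinf, hordinf, hreg⟩ := exists_simple_pole hK htr h1
  have hpinf : Pinf.1 x = WithZero.exp (1 : ℤ) := by
    rw [val_eq_exp_neg_ord Pinf hx0, hordinf]; rfl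
  obtain ⟨u, hu0, hu⟩ := exists_div_eq_sub hK hg0 Pinf hPinf d D hD
  haveI := finiteDimensional_L hK D
  haveI hVfd : FiniteDimensional k ↥V := Submodule.finiteDimensional_of_le hV
  have hdeg1 : ∀ P : Place k K, P.deg = 1 := deg_eq_one_of_isAlgClosed hK
  have hech : ∀ P : Place k K, ∃ (b : Fin (r + 1) → K) (o : Fin (r + 1) → ℕ),
      (∀ i, b i ∈ V) ∧ LinearIndependent k b ∧ Submodule.span k (Set.range b) = V ∧
      (Function.Injective fun i => P.1 (b i)) ∧ (∀ i, ((o i : ℕ) : ℤ) = P.ord (b i) + D P) ∧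
      (∀ i, o i ≤ d) ∧ vsum V D P d = ∑ i, o i := by
    intro P
    obtain ⟨b, hbV, hli, hspan, hinj⟩ := exists_echelon P (hdeg1 P) D (r + 1) V hV hVfd hVr
    obtain ⟨o, ho1, ho2, ho3⟩ := vsum_eq_sum_ord hK P (hdeg1 P) d D hD V hV b hbV hli hspan hinj
    exact ⟨b, o, hbV, hli, hspan, hinj, ho1, ho2, ho3⟩
  choose b o hbV hli hspan hinj ho1 ho2 ho3 using hech
  have hb0 : ∀ P i, b P i ≠ 0 := fun P i => (hli P).ne_zero i
  have hoinj : ∀ P, Function.Injective (o P) := by
    intro P i j hij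
    apply hinj P
    show P.1 (b P i) = P.1 (b P j)
    rw [val_eq_exp_neg_ord P (hb0 P i), val_eq_exp_neg_ord P (hb0 P j)]
    have e1 := ho1 P i
    have e2 := ho1 P j
    rw [hij] at e1
    congr 1
    omega
  -- order of `u`
  have hordu : ∀ Q : Place k K, Q.ord u = D Q - (Finsupp.single Pinf (d : ℤ) : Divisor k K) Q := by
    intro Q
    have h2 := congrArg (fun E : Divisor k K => E Q) hu
    simpa only [Finsupp.sub_apply, div_apply hK] using h2
  have hordub : ∀ (P Q : Place k K) (i : Fin (r + 1)), Q.ord (u * b P i) =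
      Q.ord (b P i) + D Q - (Finsupp.single Pinf (d : ℤ) : Divisor k K) Q := by
    intro P Q i
    rw [ord_mul Q hu0 (hb0 P i), hordu Q]; ring
  have hpoly : ∀ (P : Place k K) (i : Fin (r + 1)),
      ∃ g : k[X], g.natDegree ≤ d ∧ aeval x g = u * b P i := by
    intro P i
    apply exists_poly_of_mem_L hK hx Pinf hPinf hordinf hreg d
    intro Q
    rw [val_le_exp_iff Q (mul_ne_zero hu0 (hb0 P i)), hordub P Q i]
    have h1 := (mem_L_iff_ord D (hb0 P i)).mp (hV (hbV P i)) Q
    omega
  choose g hgdeg hgeval using hpoly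
  have hg0' : ∀ P i, g P i ≠ 0 := by
    intro P i h0
    have := hgeval P i
    rw [h0, map_zero] at this
    exact mul_ne_zero hu0 (hb0 P i) this.symm
  -- degrees at infinity
  have hnatdeg : ∀ i, (g Pinf i).natDegree + o Pinf i = d := by
    intro i
    have hval := val_aeval_of_pole Pinf (x := x) (by
      rw [hpinf, ← WithZero.exp_zero, WithZero.exp_lt_exp]; norm_num) (hg0' Pinf i)
    rw [hgeval, hpinf, ← WithZero.exp_nsmul,
      val_eq_exp_neg_ord Pinf (mul_ne_zero hu0 (hb0 Pinf i)), hordub Pinf Pinf i,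
      Finsupp.single_eq_same] at hval
    have h3 := WithZero.exp_injective hval
    have e1 := ho1 Pinf i
    simp only [nsmul_eq_mul, mul_one] at h3
    omega
  have hdeginj : Function.Injective fun i => (g Pinf i).natDegree := by
    intro i j hij
    apply hoinj Pinf
    have e1 := hnatdeg i
    have e2 := hnatdeg j
    simp only at hij
    omega
  -- finite places
  have hfin : ∀ P : Place k K, P ≠ Pinf → ∃ a : k, P.1 (x - algebraMap k K a) < 1 := by
    intro P hP
    exact exists_const_of_deg_one P (hdeg1 P) ((ord_nonneg_iff P hx0).mp (hreg P hP))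
  obtain ⟨a, ha⟩ : ∃ a : Place k K → k, ∀ P : Place k K, P ≠ Pinf →
      P.1 (x - algebraMap k K (a P)) < 1 := by
    refine ⟨fun P => if h : P ≠ Pinf then (hfin P h).choose else 0, fun P hP => ?_⟩
    simp only [dif_pos hP]
    exact (hfin P hP).choose_spec
  have hainj : Set.InjOn a ((S.erase Pinf : Finset (Place k K)) : Set (Place k K)) := by
    intro P hP Q hQ hPQ
    rw [Finset.mem_coe, Finset.mem_erase] at hP hQ
    obtain ⟨Pa, -, -, huniq⟩ := simple_zero hK hx (a P)
    have e1 := huniq P (ha P hP.1)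
    have e2 := huniq Q (by rw [hPQ]; exact ha Q hQ.1)
    rw [e1, e2]
  -- local divisibility
  have hdvd : ∀ P ∈ S.erase Pinf,
      (X - C (a P)) ^ (∑ i, o P i - ∑ i : Fin (r + 1), (i : ℕ)) ∣ PW.wr (g Pinf) := by
    intro P hP
    rw [Finset.mem_erase] at hP
    have hPne := hP.1
    -- each `g P i` is divisible by `(X - a)^(o P i)`
    have hloc : ∀ i, (X - C (a P)) ^ (o P i) ∣ g P i := by
      intro i
      obtain ⟨Pa, -, hPaval, huniq⟩ := simple_zero hK hx (a P)
      have hPPa : P = Pa := huniq P (ha P hPne)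
      have hval := val_aeval_of_zero P (x := x) (a P) (ha P hPne) (hg0' P i)
      rw [hgeval, val_eq_exp_neg_ord P (mul_ne_zero hu0 (hb0 P i)), hordub P P i,
        Finsupp.single_eq_of_ne hPne] at hval
      have hPaval' : P.1 (x - algebraMap k K (a P)) = WithZero.exp (-1 : ℤ) := by
        have h5 := hPaval
        rwa [← hPPa] at h5
      rw [hPaval', ← WithZero.exp_nsmul] at hval
      have h3 := WithZero.exp_injective hval
      have e1 := ho1 P i
      simp only [nsmul_eq_mul, mul_neg, mul_one, sub_zero] at h3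
      have : o P i = (g P i).rootMultiplicity (a P) := by omega
      rw [this]
      exact pow_rootMultiplicity_dvd _ _
    have h2 := PW.dvd_wr (a P) (g P) (o P) hloc
    -- base change
    have hM : ∀ i, ∃ c : Fin (r + 1) → k, ∑ l, c l • b P l = b Pinf i := by
      intro i
      have : b Pinf i ∈ Submodule.span k (Set.range (b P)) := by
        rw [hspan P]; exact hbV Pinf i
      exact (Submodule.mem_span_range_iff_exists_fun k).mp this
    choose M hMeq using hM
    have hgM : g Pinf = fun i => ∑ l, C (M i l) * g P l := by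
      funext i
      apply (transcendental_iff_injective.mp htr)
      rw [hgeval, map_sum, ← hMeq i, Finset.mul_sum]
      apply Finset.sum_congr rfl
      intro l _
      rw [map_mul, aeval_C, hgeval, Algebra.smul_def]
      ring
    have hbc := PW.wr_baseChange (Matrix.of M) (g P)
    simp only [Matrix.of_apply] at hbc
    rw [hgM, hbc]
    exact Dvd.dvd.mul_left h2 _
  have hmain := PW.plucker_poly' (g Pinf) (hg0' Pinf) hdeginj (S.erase Pinf) a hainj
    (fun P => ∑ i, o P i - ∑ i : Fin (r + 1), (i : ℕ)) hdvd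
  -- arithmetic
  rw [sum_fin_id] at hmain
  obtain ⟨c, hc⟩ : ∃ c : ℕ, c = r * (r + 1) / 2 := ⟨_, rfl⟩
  have hc2 : r * (r + 1) = 2 * c := by
    rw [hc]; exact (Nat.two_mul_div_two_of_even (Nat.even_mul_succ_self r)).symm
  rw [← hc] at hmain ⊢
  have hmain' : ∑ P ∈ S.erase Pinf, (∑ i, o P i - c) ≤ ∑ i, (g Pinf i).natDegree - c := hmain
  have hGc : c ≤ ∑ i, (g Pinf i).natDegree := by
    rw [hc, ← sum_fin_id]
    exact PW.sum_id_le_sum_of_injective _ hdeginj
  have hvge : ∀ P : Place k K, c ≤ vsum V D P d := by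
    intro P
    rw [ho3 P, hc, ← sum_fin_id]
    exact PW.sum_id_le_sum_of_injective (o P) (hoinj P)
  have hsumdeg : ∑ i, (g Pinf i).natDegree + vsum V D Pinf d = (r + 1) * d := by
    rw [ho3 Pinf, ← Finset.sum_add_distrib, Finset.sum_congr rfl (fun i _ => hnatdeg i)]
    simp
  have hsub : ∑ P ∈ S.erase Pinf, (∑ i, o P i - c) + (S.erase Pinf).card * c =
      ∑ P ∈ S.erase Pinf, vsum V D P d := by
    rw [← smul_eq_mul, ← Finset.sum_const, ← Finset.sum_add_distrib]
    apply Finset.sum_congr rfl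
    intro P _
    rw [← ho3 P]
    exact Nat.sub_add_cancel (hvge P)
  have hcinf := hvge Pinf
  obtain ⟨A, hA⟩ : ∃ A : ℕ, A = ∑ P ∈ S.erase Pinf, (∑ i, o P i - c) := ⟨_, rfl⟩
  obtain ⟨B, hB⟩ : ∃ B : ℕ, B = ∑ P ∈ S.erase Pinf, vsum V D P d := ⟨_, rfl⟩
  obtain ⟨G, hG⟩ : ∃ G : ℕ, G = ∑ i, (g Pinf i).natDegree := ⟨_, rfl⟩
  obtain ⟨N, hN⟩ : ∃ N : ℕ, N = (S.erase Pinf).card * c := ⟨_, rfl⟩
  obtain ⟨T, hT⟩ : ∃ T : ℕ, T = (r + 1) * d := ⟨_, rfl⟩
  rw [← hA, ← hG] at hmain'
  rw [← hA, ← hN, ← hB] at hsub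
  rw [← hG, ← hT] at hsumdeg
  rw [← hG] at hGc
  rw [hc2, ← hT]
  by_cases hmem : Pinf ∈ S
  · have hS : ∑ P ∈ S, vsum V D P d = B + vsum V D Pinf d := by
      rw [hB, Finset.sum_erase_add _ _ hmem]
    have hcard : S.card * c = N + c := by
      rw [hN, ← Finset.card_erase_add_one hmem]; ring
    rw [hS, hcard]
    omega
  · have hS : S.erase Pinf = S := Finset.erase_eq_of_notMem hmem
    rw [hS] at hB hN
    rw [← hB, ← hN]
    omega

end Groth.Agent.Helper5.FF
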