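import Mathlib
import Groth.Agent.Helper5.FFPlucker0
set_option autoImplicit false
open FunFld Polynomial
open scoped IntermediateField

namespace Groth.Agent.Helper5.FF

variable {k K : Type*} [Field k] [Field K] [Algebra k K]

/-- the vanishing orders of a linear series at a place -/
theorem exists_orders [IsAlgClosed k] (hK : IsFunctionField k K) (d r : ℕ) (D : Divisor k K)
    (hD : D.deg = d) (V : Submodule k K) (hV : V ≤ L D) (hVr : Module.finrank k ↥V = r + 1)
    (P : Place k K) :
    ∃ o : Fin (r + 1) → ℕ, Function.Injective o ∧ (∀ i, o i ≤ d) ∧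
      (∀ n : ℕ, Module.finrank k ↥(V ⊓ L (D - Finsupp.single P (n : ℤ))) =
        (Finset.univ.filter fun i => n ≤ o i).card) ∧
      vsum V D P d = ∑ i, o i := by
  classical
  haveI := finiteDimensional_L hK D
  haveI hVfd : FiniteDimensional k ↥V := Submodule.finiteDimensional_of_le hV
  have hP := deg_eq_one_of_isAlgClosed hK P
  obtain ⟨b, hbV, hli, hspan, hinj⟩ := exists_echelon P hP D (r + 1) V hV hVfd hVr
  obtain ⟨o, ho1, ho2, ho3⟩ := vsum_eq_sum_ord hK P hP d D hD V hV b hbV hli hspan hinj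
  have hb0 : ∀ i, b i ≠ 0 := fun i => hli.ne_zero i
  refine ⟨o, ?_, ho2, ?_, ho3⟩
  · intro i j hij
    apply hinj
    show P.1 (b i) = P.1 (b j)
    rw [val_eq_exp_neg_ord P (hb0 i), val_eq_exp_neg_ord P (hb0 j)]
    have e1 := ho1 i
    have e2 := ho1 j
    rw [hij] at e1
    congr 1
    omega
  · intro n
    rw [inf_L_sub_single D V hV, finrank_inf_leSub P V b hli hspan hinj]
    congr 1
    ext i
    simp only [Finset.mem_filter, Finset.mem_univ, true_and]
    rw [val_le_exp_iff P (hb0 i)]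
    have e1 := ho1 i
    omega

theorem sum_fin_id' (r : ℕ) : ∑ i : Fin (r + 1), (i : ℕ) = r * (r + 1) / 2 := sum_fin_id r

/-- every weight is nonnegative -/
theorem vsum_ge [IsAlgClosed k] (hK : IsFunctionField k K) (d r : ℕ) (D : Divisor k K)
    (hD : D.deg = d) (V : Submodule k K) (hV : V ≤ L D) (hVr : Module.finrank k ↥V = r + 1)
    (P : Place k K) : r * (r + 1) / 2 ≤ vsum V D P d := by
  obtain ⟨o, hoinj, -, -, ho3⟩ := exists_orders hK d r D hD V hV hVr P
  rw [ho3, ← sum_fin_id]
  exact PW.sum_id_le_sum_of_injective o hoinj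

/-- a cusp has weight at least `r` -/
theorem cusp_weight [IsAlgClosed k] (hK : IsFunctionField k K) (d r : ℕ) (D : Divisor k K)
    (hD : D.deg = d) (V : Submodule k K) (hV : V ≤ L D) (hVr : Module.finrank k ↥V = r + 1)
    (Q : Place k K)
    (hcusp : r ≤ Module.finrank k ↥(V ⊓ L (D - Finsupp.single Q (2 : ℤ)))) :
    r + r * (r + 1) / 2 ≤ vsum V D Q d := by
  classical
  obtain ⟨o, hoinj, -, hcount, ho3⟩ := exists_orders hK d r D hD V hV hVr Q
  have h2 := hcount 2
  have e : ((2 : ℕ) : ℤ) = 2 := rfl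
  rw [e] at h2
  rw [h2] at hcusp
  rw [ho3]
  -- all but at most one index have order at least two
  obtain ⟨T, hT⟩ : ∃ T : Finset (Fin (r + 1)), T = Finset.univ.filter fun i => 2 ≤ o i := ⟨_, rfl⟩
  rw [← hT] at hcusp
  have hTle : T.card ≤ r + 1 := by
    have := Finset.card_le_univ T
    rwa [Fintype.card_fin] at this
  -- shift the orders on `T` down by two
  have hsumT : ∑ i ∈ T, o i ≤ ∑ i, o i :=
    Finset.sum_le_sum_of_subset (Finset.subset_univ T)
  have h3 := Finset.sum_range_le_sum (s := (T.image fun i => (o i : ℤ))) (c := 2)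
    (fun x hx => by
      rw [Finset.mem_image] at hx
      obtain ⟨i, hi, rfl⟩ := hx
      rw [hT, Finset.mem_filter] at hi
      exact_mod_cast hi.2)
  have hinj' : Function.Injective fun i : Fin (r + 1) => (o i : ℤ) :=
    fun i j h => hoinj (Int.natCast_inj.mp h)
  rw [Finset.card_image_of_injective _ hinj', Finset.sum_image (fun i _ j _ h => hinj' h)] at h3
  have h4 : ∑ n ∈ Finset.range r, ((2 : ℤ) + n) ≤ ∑ n ∈ Finset.range T.card, ((2 : ℤ) + n) := by
    apply Finset.sum_le_sum_of_subset_of_nonneg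
    · exact Finset.range_subset_range.mpr hcusp
    · intro n _ _; positivity
  have h5 : ∑ n ∈ Finset.range r, ((2 : ℤ) + n) = ((r + (r - 1) * r / 2 + r : ℕ) : ℤ) := by
    rw [Finset.sum_add_distrib, Finset.sum_const, Finset.card_range, ← Nat.cast_sum,
      Finset.sum_range_id]
    push_cast
    ring_nf
  have h6 : ((r + (r - 1) * r / 2 + r : ℕ) : ℤ) ≤ ((∑ i, o i : ℕ) : ℤ) := by
    rw [← h5]
    refine h4.trans (h3.trans ?_)
    push_cast
    exact_mod_cast hsumT
  have h7 : r + (r - 1) * r / 2 + r ≤ ∑ i, o i := by exact_mod_cast h6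
  have h8 : r * (r + 1) / 2 = (r - 1) * r / 2 + r := by
    rcases Nat.eq_zero_or_pos r with h0 | hpos
    · subst h0; rfl
    · have e1 : r * (r + 1) = (r - 1) * r + 2 * r := by
        obtain ⟨s, rfl⟩ : ∃ s, r = s + 1 := ⟨r - 1, by omega⟩
        simp only [Nat.add_sub_cancel]
        ring
      rw [e1, Nat.add_mul_div_left _ _ (by norm_num : 0 < 2)]
  omega

end Groth.Agent.Helper5.FF
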