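import Mathlib
import Groth.Agent.Helper5.FFPlucker1
import Groth.Agent.Helper5.FFLLS2
set_option autoImplicit false
open FunFld Polynomial
open scoped IntermediateField

namespace Groth.Agent.Helper5.FF

section one
variable {k K : Type*} [Field k] [Field K] [Algebra k K]

theorem plucker1 [IsAlgClosed k] [CharZero k] (hK : IsFunctionField k K)
    (hg0 : genus k K = 0) (d r : ℕ) (D : Divisor k K) (hD : D.deg = d)
    (V : Submodule k K) (hV : V ≤ L D) (hVr : Module.finrank k ↥V = r + 1) (A : Place k K) :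
    vsum V D A d + r * (r + 1) ≤ (r + 1) * d + r * (r + 1) / 2 := by
  classical
  have := plucker_genus_zero hK hg0 d r D hD V hV hVr {A}
  simpa using this

theorem plucker2 [IsAlgClosed k] [CharZero k] (hK : IsFunctionField k K)
    (hg0 : genus k K = 0) (d r : ℕ) (D : Divisor k K) (hD : D.deg = d)
    (V : Submodule k K) (hV : V ≤ L D) (hVr : Module.finrank k ↥V = r + 1) (A B : Place k K)
    (hAB : A ≠ B) :
    vsum V D A d + vsum V D B d + r * (r + 1) ≤ (r + 1) * d + 2 * (r * (r + 1) / 2) := by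
  classical
  have := plucker_genus_zero hK hg0 d r D hD V hV hVr {A, B}
  rw [Finset.sum_pair hAB, Finset.card_pair hAB] at this
  exact this

theorem plucker3 [IsAlgClosed k] [CharZero k] (hK : IsFunctionField k K)
    (hg0 : genus k K = 0) (d r : ℕ) (D : Divisor k K) (hD : D.deg = d)
    (V : Submodule k K) (hV : V ≤ L D) (hVr : Module.finrank k ↥V = r + 1) (A B Q : Place k K)
    (hAB : A ≠ B) (hAQ : A ≠ Q) (hBQ : B ≠ Q) :
    vsum V D A d + vsum V D B d + vsum V D Q d + r * (r + 1) ≤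
      (r + 1) * d + 3 * (r * (r + 1) / 2) := by
  classical
  have := plucker_genus_zero hK hg0 d r D hD V hV hVr {A, B, Q}
  have hA : A ∉ ({B, Q} : Finset (Place k K)) := by
    rw [Finset.mem_insert, Finset.mem_singleton]; tauto
  rw [Finset.sum_insert hA, Finset.sum_pair hBQ, Finset.card_insert_of_notMem hA,
    Finset.card_pair hBQ] at this
  omega

theorem plucker4 [IsAlgClosed k] [CharZero k] (hK : IsFunctionField k K)
    (hg0 : genus k K = 0) (d r : ℕ) (D : Divisor k K) (hD : D.deg = d)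
    (V : Submodule k K) (hV : V ≤ L D) (hVr : Module.finrank k ↥V = r + 1)
    (A B Q Q' : Place k K)
    (hAB : A ≠ B) (hAQ : A ≠ Q) (hBQ : B ≠ Q) (hAQ' : A ≠ Q') (hBQ' : B ≠ Q') (hQQ' : Q ≠ Q') :
    vsum V D A d + vsum V D B d + vsum V D Q d + vsum V D Q' d + r * (r + 1) ≤
      (r + 1) * d + 4 * (r * (r + 1) / 2) := by
  classical
  have := plucker_genus_zero hK hg0 d r D hD V hV hVr {A, B, Q, Q'}
  have hA : A ∉ ({B, Q, Q'} : Finset (Place k K)) := by
    simp only [Finset.mem_insert, Finset.mem_singleton]; tauto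
  have hB : B ∉ ({Q, Q'} : Finset (Place k K)) := by
    simp only [Finset.mem_insert, Finset.mem_singleton]; tauto
  rw [Finset.sum_insert hA, Finset.sum_insert hB, Finset.sum_pair hQQ',
    Finset.card_insert_of_notMem hA, Finset.card_insert_of_notMem hB, Finset.card_pair hQQ'] at this
  omega

end one

section counting
variable {N : ℕ}

theorem card_filter_lt_succ (T : Finset (Fin (N + 1))) (i j : Fin (N + 1))
    (hij : (j : ℕ) = (i : ℕ) + 1) :
    (T.filter fun t => t < j).card = (T.filter fun t => t < i).card + (if i ∈ T then 1 else 0) := by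
  classical
  have h1 : (T.filter fun t => t < j) = (T.filter fun t => t < i) ∪ (T.filter fun t => t = i) := by
    rw [← Finset.filter_or]
    apply Finset.filter_congr
    intro t _
    rw [Fin.lt_def, Fin.lt_def, Fin.ext_iff]
    omega
  rw [h1, Finset.card_union_of_disjoint, Finset.filter_eq']
  · split_ifs <;> simp
  · rw [Finset.disjoint_filter]
    intro t _ h2 h3
    rw [h3] at h2
    exact lt_irrefl _ h2

theorem card_filter_gt_succ (T : Finset (Fin (N + 1))) (i j : Fin (N + 1))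
    (hij : (j : ℕ) = (i : ℕ) + 1) :
    (T.filter fun t => i < t).card = (T.filter fun t => j < t).card + (if j ∈ T then 1 else 0) := by
  classical
  have h1 : (T.filter fun t => i < t) = (T.filter fun t => j < t) ∪ (T.filter fun t => t = j) := by
    rw [← Finset.filter_or]
    apply Finset.filter_congr
    intro t _
    rw [Fin.lt_def, Fin.lt_def, Fin.ext_iff]
    omega
  rw [h1, Finset.card_union_of_disjoint, Finset.filter_eq']
  · split_ifs <;> simp
  · rw [Finset.disjoint_filter]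
    intro t _ h2 h3
    rw [h3] at h2
    exact lt_irrefl _ h2

theorem card_filter_lt_zero (T : Finset (Fin (N + 1))) (i : Fin (N + 1)) (hi : (i : ℕ) = 0) :
    (T.filter fun t => t < i).card = 0 := by
  rw [Finset.card_eq_zero, Finset.filter_eq_empty_iff]
  intro t _
  rw [Fin.lt_def]
  omega

theorem card_filter_gt_last (T : Finset (Fin (N + 1))) (i : Fin (N + 1)) (hi : (i : ℕ) = N) :
    (T.filter fun t => i < t).card = 0 := by
  rw [Finset.card_eq_zero, Finset.filter_eq_empty_iff]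
  intro t _
  rw [Fin.lt_def]
  have := t.2
  omega

theorem card_erase_eq (T : Finset (Fin (N + 1))) (i : Fin (N + 1)) :
    (T.erase i).card = (T.filter fun t => t < i).card + (T.filter fun t => i < t).card := by
  classical
  have h1 : T.erase i = (T.filter fun t => t < i) ∪ (T.filter fun t => i < t) := by
    rw [← Finset.filter_or]
    ext t
    rw [Finset.mem_erase, Finset.mem_filter]
    constructor
    · rintro ⟨h1, h2⟩
      exact ⟨h2, lt_or_gt_of_ne h1⟩
    · rintro ⟨h1, h2⟩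
      refine ⟨?_, h1⟩
      rcases h2 with h2 | h2
      · exact ne_of_lt h2
      · exact ne_of_gt h2
  rw [h1, Finset.card_union_of_disjoint]
  rw [Finset.disjoint_filter]
  intro t _ h2 h3
  exact lt_asymm h2 h3

theorem card_eq_erase_add (T : Finset (Fin (N + 1))) (i : Fin (N + 1)) :
    T.card = (T.erase i).card + (if i ∈ T then 1 else 0) := by
  classical
  split_ifs with h
  · rw [Finset.card_erase_add_one h]
  · rw [Finset.erase_eq_of_notMem h, add_zero]

end counting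

section chain
variable {k : Type*} [Field k]

/-- one rational component with two nodes and possibly a cusp -/
theorem comp_two_nodes {K : Type*} [Field K] [Algebra k K] [IsAlgClosed k] [CharZero k]
    (hK : IsFunctionField k K) (hg0 : genus k K = 0) (d r : ℕ) (D : Divisor k K) (hD : D.deg = d)
    (V : Submodule k K) (hV : V ≤ L D) (hVr : Module.finrank k ↥V = r + 1) (A B Q : Place k K)
    (hAB : A ≠ B) (ε : ℕ)
    (hε : ε = 0 ∨ (ε = 1 ∧ Q ≠ A ∧ Q ≠ B ∧
      r ≤ Module.finrank k ↥(V ⊓ L (D - Finsupp.single Q (2 : ℤ))))) :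
    vsum V D A d + vsum V D B d + r * ε ≤ (r + 1) * d := by
  rcases hε with h | ⟨h, hQA, hQB, hcusp⟩
  · rw [h, mul_zero, add_zero]
    have := vsum_add_vsum_le hK d D hD V hV A B hAB
    rwa [hVr] at this
  · have h1 := plucker3 hK hg0 d r D hD V hV hVr A B Q hAB hQA.symm hQB.symm
    have h2 := cusp_weight hK d r D hD V hV hVr Q hcusp
    have he : 2 * (r * (r + 1) / 2) = r * (r + 1) :=
      Nat.two_mul_div_two_of_even (Nat.even_mul_succ_self r)
    rw [h, mul_one]
    omega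

/-- one rational component with one node and possibly a cusp -/
theorem comp_one_node {K : Type*} [Field K] [Algebra k K] [IsAlgClosed k] [CharZero k]
    (hK : IsFunctionField k K) (hg0 : genus k K = 0) (d r : ℕ) (D : Divisor k K) (hD : D.deg = d)
    (V : Submodule k K) (hV : V ≤ L D) (hVr : Module.finrank k ↥V = r + 1) (B Q : Place k K)
    (ε : ℕ)
    (hε : ε = 0 ∨ (ε = 1 ∧ Q ≠ B ∧
      r ≤ Module.finrank k ↥(V ⊓ L (D - Finsupp.single Q (2 : ℤ))))) :
    vsum V D B d + r * (r + 1) / 2 + r * ε ≤ (r + 1) * d := by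
  have he : 2 * (r * (r + 1) / 2) = r * (r + 1) :=
    Nat.two_mul_div_two_of_even (Nat.even_mul_succ_self r)
  rcases hε with h | ⟨h, hQB, hcusp⟩
  · rw [h, mul_zero, add_zero]
    have := plucker1 hK hg0 d r D hD V hV hVr B
    omega
  · have h1 := plucker2 hK hg0 d r D hD V hV hVr B Q hQB.symm
    have h2 := cusp_weight hK d r D hD V hV hVr Q hcusp
    rw [h, mul_one]
    omega

theorem chain_left [IsAlgClosed k] [CharZero k]
    (N : ℕ) (Z : Fin (N + 1) → Type*) [∀ i, Field (Z i)] [∀ i, Algebra k (Z i)]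
    (hZ : ∀ i, IsFunctionField k (Z i)) (hrat : ∀ i, genus k (Z i) = 0)
    (d r : ℕ) (D : ∀ i, Divisor k (Z i)) (hD : ∀ i, (D i).deg = d)
    (V : ∀ i, Submodule k (Z i)) (hV : ∀ i, V i ≤ L (D i))
    (hVr : ∀ i, Module.finrank k ↥(V i) = r + 1)
    (A B : ∀ i, Place k (Z i))
    (hAB : ∀ i : Fin (N + 1), 0 < (i : ℕ) → (i : ℕ) < N → A i ≠ B i)
    (hcomp : ∀ (l : Fin N) (m : ℕ), m ≤ d + 1 →
      Module.finrank k ↥((V l.castSucc) ⊓ L ((D l.castSucc) - Finsupp.single (B l.castSucc) ((m : ℤ)))) +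
        Module.finrank k ↥((V l.succ) ⊓ L ((D l.succ) - Finsupp.single (A l.succ) ((d : ℤ) + 1 - m))) = r + 1)
    (T : Finset (Fin (N + 1))) (Q : ∀ i, Place k (Z i))
    (hQA : ∀ i ∈ T, 0 < (i : ℕ) → Q i ≠ A i) (hQB : ∀ i ∈ T, (i : ℕ) < N → Q i ≠ B i)
    (hcusp : ∀ i ∈ T, r ≤ Module.finrank k ↥((V i) ⊓ L ((D i) - Finsupp.single (Q i) ((2 : ℤ)))))
    (i : Fin (N + 1)) (hi : 0 < (i : ℕ)) :
    r * (r + 1) / 2 + r * (T.filter fun t => t < i).card ≤ vsum (V i) (D i) (A i) d := by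
  classical
  have F1 : ∀ l : Fin N, vsum (V l.castSucc) (D l.castSucc) (B l.castSucc) d +
      vsum (V l.succ) (D l.succ) (A l.succ) d = (r + 1) * d :=
    fun l => vsum_add_vsum_eq_of_compat d r _ _ _ _ _ _ (hcomp l)
  have key : ∀ (m : ℕ) (hm : m + 1 < N + 1),
      r * (r + 1) / 2 + r * (T.filter fun t => t < (⟨m + 1, hm⟩ : Fin (N + 1))).card ≤
        vsum (V ⟨m + 1, hm⟩) (D ⟨m + 1, hm⟩) (A ⟨m + 1, hm⟩) d := by
    intro m
    induction m with
    | zero =>
      intro hm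
      have h1 := F1 ⟨0, by omega⟩
      have h2 : vsum (V (Fin.succ (⟨0, by omega⟩ : Fin N))) (D (Fin.succ ⟨0, by omega⟩))
          (A (Fin.succ ⟨0, by omega⟩)) d =
          vsum (V ⟨0 + 1, hm⟩) (D ⟨0 + 1, hm⟩) (A ⟨0 + 1, hm⟩) d := rfl
      have h3 : vsum (V (Fin.castSucc (⟨0, by omega⟩ : Fin N))) (D (Fin.castSucc ⟨0, by omega⟩))
          (B (Fin.castSucc ⟨0, by omega⟩)) d =
          vsum (V ⟨0, by omega⟩) (D ⟨0, by omega⟩) (B ⟨0, by omega⟩) d := rfl
      rw [h2, h3] at h1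
      rw [card_filter_lt_succ T ⟨0, by omega⟩ ⟨0 + 1, hm⟩ rfl,
        card_filter_lt_zero T ⟨0, by omega⟩ rfl, zero_add]
      have h4 := comp_one_node (hZ ⟨0, by omega⟩) (hrat _) d r (D _) (hD _) (V _) (hV _) (hVr _)
        (B ⟨0, by omega⟩) (Q ⟨0, by omega⟩) (if (⟨0, by omega⟩ : Fin (N + 1)) ∈ T then 1 else 0) (by
          split_ifs with hT
          · exact Or.inr ⟨rfl, hQB _ hT (by simp only; omega), hcusp _ hT⟩
          · exact Or.inl rfl)
      omega
    | succ m ih =>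
      intro hm
      have h0 := ih (by omega)
      have h1 := F1 ⟨m + 1, by omega⟩
      have h3 : vsum (V (Fin.castSucc (⟨m + 1, by omega⟩ : Fin N))) (D (Fin.castSucc ⟨m + 1, by omega⟩))
          (B (Fin.castSucc ⟨m + 1, by omega⟩)) d =
          vsum (V ⟨m + 1, by omega⟩) (D ⟨m + 1, by omega⟩) (B ⟨m + 1, by omega⟩) d := rfl
      have h2 : vsum (V (Fin.succ (⟨m + 1, by omega⟩ : Fin N))) (D (Fin.succ ⟨m + 1, by omega⟩))
          (A (Fin.succ ⟨m + 1, by omega⟩)) d =
          vsum (V ⟨m + 1 + 1, hm⟩) (D ⟨m + 1 + 1, hm⟩) (A ⟨m + 1 + 1, hm⟩) d := rfl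
      rw [h2, h3] at h1
      rw [card_filter_lt_succ T ⟨m + 1, by omega⟩ ⟨m + 1 + 1, hm⟩ rfl,
        mul_add r (T.filter fun t => t < (⟨m + 1, by omega⟩ : Fin (N + 1))).card]
      have h4 := comp_two_nodes (hZ ⟨m + 1, by omega⟩) (hrat _) d r (D _) (hD _) (V _) (hV _)
        (hVr _) (A ⟨m + 1, by omega⟩) (B ⟨m + 1, by omega⟩) (Q ⟨m + 1, by omega⟩)
        (hAB _ (by simp only; omega) (by simp only; omega))
        (if (⟨m + 1, by omega⟩ : Fin (N + 1)) ∈ T then 1 else 0) (by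
          split_ifs with hT
          · exact Or.inr ⟨rfl, hQA _ hT (by simp only; omega), hQB _ hT (by simp only; omega),
              hcusp _ hT⟩
          · exact Or.inl rfl)
      omega
  obtain ⟨m, hm⟩ : ∃ m : ℕ, (i : ℕ) = m + 1 := ⟨(i : ℕ) - 1, by omega⟩
  have hi' : i = ⟨m + 1, by rw [← hm]; exact i.2⟩ := Fin.ext hm
  rw [hi']
  exact key m _


theorem chain_right [IsAlgClosed k] [CharZero k]
    (N : ℕ) (Z : Fin (N + 1) → Type*) [∀ i, Field (Z i)] [∀ i, Algebra k (Z i)]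
    (hZ : ∀ i, IsFunctionField k (Z i)) (hrat : ∀ i, genus k (Z i) = 0)
    (d r : ℕ) (D : ∀ i, Divisor k (Z i)) (hD : ∀ i, (D i).deg = d)
    (V : ∀ i, Submodule k (Z i)) (hV : ∀ i, V i ≤ L (D i))
    (hVr : ∀ i, Module.finrank k ↥(V i) = r + 1)
    (A B : ∀ i, Place k (Z i))
    (hAB : ∀ i : Fin (N + 1), 0 < (i : ℕ) → (i : ℕ) < N → A i ≠ B i)
    (hcomp : ∀ (l : Fin N) (m : ℕ), m ≤ d + 1 →
      Module.finrank k ↥((V l.castSucc) ⊓ L ((D l.castSucc) - Finsupp.single (B l.castSucc) ((m : ℤ)))) +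
        Module.finrank k ↥((V l.succ) ⊓ L ((D l.succ) - Finsupp.single (A l.succ) ((d : ℤ) + 1 - m))) = r + 1)
    (T : Finset (Fin (N + 1))) (Q : ∀ i, Place k (Z i))
    (hQA : ∀ i ∈ T, 0 < (i : ℕ) → Q i ≠ A i) (hQB : ∀ i ∈ T, (i : ℕ) < N → Q i ≠ B i)
    (hcusp : ∀ i ∈ T, r ≤ Module.finrank k ↥((V i) ⊓ L ((D i) - Finsupp.single (Q i) ((2 : ℤ)))))
    (i : Fin (N + 1)) (hi : (i : ℕ) < N) :
    r * (r + 1) / 2 + r * (T.filter fun t => i < t).card ≤ vsum (V i) (D i) (B i) d := by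
  classical
  have F1 : ∀ l : Fin N, vsum (V l.castSucc) (D l.castSucc) (B l.castSucc) d +
      vsum (V l.succ) (D l.succ) (A l.succ) d = (r + 1) * d :=
    fun l => vsum_add_vsum_eq_of_compat d r _ _ _ _ _ _ (hcomp l)
  have key : ∀ (j m : ℕ) (hm : m < N), m + j + 1 = N →
      r * (r + 1) / 2 + r * (T.filter fun t => (⟨m, by omega⟩ : Fin (N + 1)) < t).card ≤
        vsum (V ⟨m, by omega⟩) (D ⟨m, by omega⟩) (B ⟨m, by omega⟩) d := by
    intro j
    induction j with
    | zero =>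
      intro m hm hmN
      have h1 := F1 ⟨m, hm⟩
      have h2 : vsum (V (Fin.succ (⟨m, hm⟩ : Fin N))) (D (Fin.succ ⟨m, hm⟩))
          (A (Fin.succ ⟨m, hm⟩)) d =
          vsum (V ⟨m + 1, by omega⟩) (D ⟨m + 1, by omega⟩) (A ⟨m + 1, by omega⟩) d := rfl
      have h3 : vsum (V (Fin.castSucc (⟨m, hm⟩ : Fin N))) (D (Fin.castSucc ⟨m, hm⟩))
          (B (Fin.castSucc ⟨m, hm⟩)) d =
          vsum (V ⟨m, by omega⟩) (D ⟨m, by omega⟩) (B ⟨m, by omega⟩) d := rfl
      rw [h2, h3] at h1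
      rw [card_filter_gt_succ T ⟨m, by omega⟩ ⟨m + 1, by omega⟩ rfl,
        card_filter_gt_last T ⟨m + 1, by omega⟩ (by simp only; omega), zero_add]
      have h4 := comp_one_node (hZ ⟨m + 1, by omega⟩) (hrat _) d r (D _) (hD _) (V _) (hV _) (hVr _)
        (A ⟨m + 1, by omega⟩) (Q ⟨m + 1, by omega⟩)
        (if (⟨m + 1, by omega⟩ : Fin (N + 1)) ∈ T then 1 else 0) (by
          split_ifs with hT
          · exact Or.inr ⟨rfl, hQA _ hT (by simp only; omega), hcusp _ hT⟩
          · exact Or.inl rfl)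
      omega
    | succ j ih =>
      intro m hm hmN
      have h0 := ih (m + 1) (by omega) (by omega)
      have h1 := F1 ⟨m, hm⟩
      have h2 : vsum (V (Fin.succ (⟨m, hm⟩ : Fin N))) (D (Fin.succ ⟨m, hm⟩))
          (A (Fin.succ ⟨m, hm⟩)) d =
          vsum (V ⟨m + 1, by omega⟩) (D ⟨m + 1, by omega⟩) (A ⟨m + 1, by omega⟩) d := rfl
      have h3 : vsum (V (Fin.castSucc (⟨m, hm⟩ : Fin N))) (D (Fin.castSucc ⟨m, hm⟩))
          (B (Fin.castSucc ⟨m, hm⟩)) d =
          vsum (V ⟨m, by omega⟩) (D ⟨m, by omega⟩) (B ⟨m, by omega⟩) d := rfl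
      rw [h2, h3] at h1
      rw [card_filter_gt_succ T ⟨m, by omega⟩ ⟨m + 1, by omega⟩ rfl,
        mul_add r (T.filter fun t => (⟨m + 1, by omega⟩ : Fin (N + 1)) < t).card]
      have h4 := comp_two_nodes (hZ ⟨m + 1, by omega⟩) (hrat _) d r (D _) (hD _) (V _) (hV _)
        (hVr _) (A ⟨m + 1, by omega⟩) (B ⟨m + 1, by omega⟩) (Q ⟨m + 1, by omega⟩)
        (hAB _ (by simp only; omega) (by simp only; omega))
        (if (⟨m + 1, by omega⟩ : Fin (N + 1)) ∈ T then 1 else 0) (by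
          split_ifs with hT
          · exact Or.inr ⟨rfl, hQA _ hT (by simp only; omega), hQB _ hT (by simp only; omega),
              hcusp _ hT⟩
          · exact Or.inl rfl)
      omega
  have := key (N - 1 - (i : ℕ)) (i : ℕ) hi (by omega)
  exact this

end chain

end Groth.Agent.Helper5.FF
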