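import Mathlib
import Groth.Agent.Helper5.FFChain
set_option autoImplicit false
open FunFld Polynomial
open scoped IntermediateField

namespace Groth.Agent.Helper5.FF

variable {k : Type*} [Field k]

/-- along a chain ending in a curve of positive genus, every aspect has a cusp at its lower node -/
theorem chain_cusp [IsAlgClosed k]
    (n : ℕ) (U : Fin (n + 1) → Type*) [∀ l, Field (U l)] [∀ l, Algebra k (U l)]
    (hU : ∀ l, IsFunctionField k (U l))
    (d r : ℕ) (hd1 : 1 ≤ d) (D : ∀ l, Divisor k (U l)) (hD : ∀ l, (D l).deg = d)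
    (V : ∀ l, Submodule k (U l)) (hV : ∀ l, V l ≤ L (D l))
    (hVr : ∀ l, Module.finrank k ↥(V l) = r + 1)
    (A B : ∀ l, Place k (U l))
    (hAB : ∀ l : Fin (n + 1), 0 < (l : ℕ) → (l : ℕ) < n → A l ≠ B l)
    (hcomp : ∀ (l : Fin n) (m : ℕ), m ≤ d + 1 →
      Module.finrank k ↥((V l.castSucc) ⊓ L ((D l.castSucc) - Finsupp.single (B l.castSucc) ((m : ℤ)))) +
        Module.finrank k ↥((V l.succ) ⊓ L ((D l.succ) - Finsupp.single (A l.succ) ((d : ℤ) + 1 - m))) = r + 1)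
    (hpos : 0 < genus k (U (Fin.last n)))
    (l : Fin (n + 1)) (hln : (l : ℕ) < n) :
    r ≤ Module.finrank k ↥((V l) ⊓ L ((D l) - Finsupp.single (B l) (2 : ℤ))) := by
  have key : ∀ (j m : ℕ) (hm : m < n), m + j + 1 = n →
      r ≤ Module.finrank k ↥((V ⟨m, Nat.lt_succ_of_lt hm⟩) ⊓
        L ((D ⟨m, Nat.lt_succ_of_lt hm⟩) - Finsupp.single (B ⟨m, Nat.lt_succ_of_lt hm⟩) (2 : ℤ))) := by
    intro j
    induction j with
    | zero =>
      intro m hm hmn
      have e : (⟨m + 1, by omega⟩ : Fin (n + 1)) = Fin.last n := Fin.ext (by simp only [Fin.val_last]; omega)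
      rw [← e] at hpos
      have h1 := finrank_inf_le_one_of_genus_pos (hU ⟨m + 1, by omega⟩) hpos d hd1 (D _) (hD _)
        (V ⟨m + 1, by omega⟩) (A ⟨m + 1, by omega⟩)
      exact cusp_step d r hd1 (D ⟨m, by omega⟩) (V ⟨m, by omega⟩) (B ⟨m, by omega⟩)
        (D ⟨m + 1, by omega⟩) (V ⟨m + 1, by omega⟩) (A ⟨m + 1, by omega⟩) (hcomp ⟨m, hm⟩) h1
    | succ j ih =>
      intro m hm hmn
      have h0 := ih (m + 1) (by omega) (by omega)
      have h1 := finrank_inf_le_one_of_cusp (hU ⟨m + 1, by omega⟩) d r (D _) (hD _) hd1 (V _)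
        (hV _) (hVr _) (A ⟨m + 1, by omega⟩) (B ⟨m + 1, by omega⟩)
        (hAB _ (by simp only; omega) (by simp only; omega)) h0
      exact cusp_step d r hd1 (D ⟨m, by omega⟩) (V ⟨m, by omega⟩) (B ⟨m, by omega⟩)
        (D ⟨m + 1, by omega⟩) (V ⟨m + 1, by omega⟩) (A ⟨m + 1, by omega⟩) (hcomp ⟨m, hm⟩) h1
  exact key (n - 1 - (l : ℕ)) (l : ℕ) hln (by omega)

end Groth.Agent.Helper5.FF
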