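import Mathlib
import Groth.Agent.Helper5.FFEmb3
set_option autoImplicit false
open FunFld Polynomial
open scoped IntermediateField

namespace Groth.Agent.Helper5.FF

variable {k K : Type*} [Field k] [Field K] [Algebra k K]

/-- reduction of nonsingularity of a complete linear system to the normalized divisor -/
theorem isNonsingularAt_of_core (hK : IsFunctionField k K) (D : Divisor k K) {n : ℕ}
    (φ : Fin (n + 1) → K) (hφ : LinearIndependent k φ)
    (hspan : Submodule.span k (Set.range φ) = L D) (P : Place k K)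
    (hbpf : ∃ x ∈ L D, x ≠ 0 ∧ P.ord x = -D P)
    (hcore : ∀ E : Divisor k K, 0 ≤ E → E P = 0 → E.deg = D.deg →
      (∀ F : Divisor k K, ell (D + F) = ell (E + F)) →
      ∀ z : K, P.1 z ≤ 1 →
      ∃ u ∈ Algebra.adjoin k (L E : Set K), ∃ w ∈ Algebra.adjoin k (L E : Set K),
        P.1 w = 1 ∧ z * w = u) :
    IsNonsingularAt φ P := by
  classical
  intro z hz
  obtain ⟨j, -, hj⟩ := Finset.exists_max_image Finset.univ (fun i => P.1 (φ i)) Finset.univ_nonempty
  have hφj0 : φ j ≠ 0 := hφ.ne_zero j
  have hφjL : φ j ∈ L D := by rw [← hspan]; exact Submodule.subset_span ⟨j, rfl⟩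
  set E : Divisor k K := D + FunFld.div k (φ j) with hE_def
  have hE0 : 0 ≤ E := by
    intro Q
    have := (mem_L_iff_ord D hφj0).mp hφjL Q
    rw [hE_def, Finsupp.add_apply, div_apply hK, Finsupp.zero_apply]
    omega
  have hEP : E P = 0 := by
    obtain ⟨x, hxL, hx0, hxord⟩ := hbpf
    rw [← hspan] at hxL
    obtain ⟨c, hc⟩ := (Submodule.mem_span_range_iff_exists_fun k).mp hxL
    have h1 : P.1 x ≤ P.1 (φ j) := by
      rw [← hc]
      apply Valuation.map_sum_le
      intro i _
      rw [Algebra.smul_def, map_mul]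
      calc P.1 (algebraMap k K (c i)) * P.1 (φ i) ≤ 1 * P.1 (φ j) :=
            mul_le_mul' (P.2.1 _) (hj i (Finset.mem_univ i))
        _ = _ := one_mul _
    have h2 := (mem_L_iff_ord D hφj0).mp hφjL P
    rw [val_eq_exp_neg_ord P hx0, val_eq_exp_neg_ord P hφj0, WithZero.exp_le_exp] at h1
    rw [hE_def, Finsupp.add_apply, div_apply hK]
    omega
  have hEdeg : E.deg = D.deg := by rw [hE_def, deg_add, deg_div hK, add_zero]
  have hLE : ∀ (F : Divisor k K) (x : K), x ∈ L (E + F) ↔ φ j * x ∈ L (D + F) := by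
    intro F x
    rw [mul_mem_L_iff hK (D + F) (φ j) x hφj0, hE_def]
    have : D + F + FunFld.div k (φ j) = D + FunFld.div k (φ j) + F := by abel
    rw [this]
  have hell : ∀ F : Divisor k K, ell (D + F) = ell (E + F) := by
    intro F
    unfold ell
    symm
    let e : L (E + F) ≃ₗ[k] L (D + F) :=
      { toFun := fun x => ⟨φ j * x.1, (hLE F x.1).mp x.2⟩
        invFun := fun y => ⟨(φ j)⁻¹ * y.1, (hLE F _).mpr (by
          rw [mul_inv_cancel_left₀ hφj0]; exact y.2)⟩
        map_add' := fun x y => Subtype.ext (mul_add _ _ _)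
        map_smul' := fun c x => Subtype.ext (mul_smul_comm c (φ j) x.1)
        left_inv := fun x => Subtype.ext (inv_mul_cancel_left₀ hφj0 x.1)
        right_inv := fun y => Subtype.ext (mul_inv_cancel_left₀ hφj0 y.1) }
    exact e.finrank_eq
  obtain ⟨u, hu, w, hw, hwP, hzw⟩ := hcore E hE0 hEP hEdeg hell z hz
  have hle : Algebra.adjoin k (L E : Set K) ≤ Algebra.adjoin k (Set.range fun i => φ i / φ j) := by
    apply Algebra.adjoin_le
    intro x hx
    have hx' : φ j * x ∈ L D := by
      have := (hLE 0 x).mp (by rwa [add_zero])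
      rwa [add_zero] at this
    rw [← hspan] at hx'
    obtain ⟨c, hc⟩ := (Submodule.mem_span_range_iff_exists_fun k).mp hx'
    have hx_eq : x = ∑ i, c i • (φ i / φ j) := by
      have : φ j * x = φ j * ∑ i, c i • (φ i / φ j) := by
        rw [← hc, Finset.mul_sum]
        apply Finset.sum_congr rfl
        intro i _
        rw [mul_smul_comm, mul_div_cancel₀ _ hφj0]
      exact mul_left_cancel₀ hφj0 this
    rw [hx_eq]
    refine Subalgebra.sum_mem _ fun i _ => Subalgebra.smul_mem _ ?_ _
    exact Algebra.subset_adjoin (Set.mem_range_self i)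
  exact ⟨j, hφj0, fun i => hj i (Finset.mem_univ i), u, hle hu, w, hle hw, hwP, hzw⟩

theorem isNonsingularAt_of_deg_ge [IsAlgClosed k] (hK : IsFunctionField k K) (D : Divisor k K)
    (hD : 2 * (genus k K : ℤ) + 1 ≤ D.deg) {n : ℕ} (φ : Fin (n + 1) → K)
    (hφ : LinearIndependent k φ) (hspan : Submodule.span k (Set.range φ) = L D)
    (P : Place k K) : IsNonsingularAt φ P := by
  haveI : Infinite k := IsAlgClosed.instInfinite
  apply isNonsingularAt_of_core hK D φ hφ hspan P
  · have h1 := ell_eq_of_deg_ge hK D (by omega)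
    have hpos : 0 < ell D := by
      have : (0 : ℤ) < ell D := by
        have := Nat.cast_nonneg (α := ℤ) (genus k K)
        omega
      exact_mod_cast this
    obtain ⟨x, hx, hx0, hxord⟩ := exists_generic hK D {P} hpos
      (fun Q _ => ell_step_lt hK D Q (by omega))
    exact ⟨x, hx, hx0, hxord P (Finset.mem_singleton_self P)⟩
  · intro E hE0 hEP hEdeg _ z hz
    exact inLocRing_of_deg_ge hK P E hE0 hEP (by rw [hEdeg]; exact hD) z hz

end Groth.Agent.Helper5.FF
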