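import Mathlib
import Groth.Agent.Helper5.FFEmb4
set_option autoImplicit false
open FunFld Polynomial
open scoped IntermediateField

namespace Groth.Agent.Helper5.FF

variable {k K : Type*} [Field k] [Field K] [Algebra k K]

theorem inLocRing_of_numerics [IsAlgClosed k] (hK : IsFunctionField k K) (P : Place k K)
    (E : Divisor k K) (hE : 0 ≤ E) (hEP : E P = 0) (m₀ : ℕ) (hm₀1 : 1 ≤ m₀)
    (hd1 : 1 ≤ E.deg)
    (hnum1 : 2 * (genus k K : ℤ) - 1 ≤ ((m₀ : ℤ) - 1) * E.deg)
    (hnum2 : 2 * (genus k K : ℤ) ≤ (m₀ : ℤ) * E.deg)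
    (hA1 : 0 < ell E ∧ ∀ Q : Place k K, ell (E - Finsupp.single Q 1) < ell E)
    (hA2 : 0 < ell (E - Finsupp.single P 1) ∧ ∀ Q : Place k K,
      ell (E - Finsupp.single P 1 - Finsupp.single Q 1) < ell (E - Finsupp.single P 1))
    (z : K) (hz : P.1 z ≤ 1) :
    ∃ u ∈ Algebra.adjoin k (L E : Set K), ∃ w ∈ Algebra.adjoin k (L E : Set K),
      P.1 w = 1 ∧ z * w = u := by
  classical
  haveI : Infinite k := IsAlgClosed.instInfinite
  have hdegP : P.deg = 1 := deg_eq_one_of_isAlgClosed hK P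
  have hdegQ : ∀ Q : Place k K, (Q.deg : ℤ) = 1 := fun Q => by
    exact_mod_cast deg_eq_one_of_isAlgClosed hK Q
  obtain ⟨g, hg⟩ : ∃ g : ℤ, g = genus k K := ⟨_, rfl⟩
  have hg0 : 0 ≤ g := by rw [hg]; exact Nat.cast_nonneg _
  obtain ⟨d, hd⟩ : ∃ d : ℤ, d = E.deg := ⟨_, rfl⟩
  rw [← hg, ← hd] at hnum1 hnum2
  rw [← hd] at hd1
  obtain ⟨M₀, hM₀⟩ : ∃ M₀ : ℤ, M₀ = (m₀ : ℤ) := ⟨_, rfl⟩
  rw [← hM₀] at hnum1 hnum2
  have hM₀1 : 1 ≤ M₀ := by rw [hM₀]; exact_mod_cast hm₀1
  have hell : ∀ F : Divisor k K, 2 * g - 1 ≤ F.deg → (ell F : ℤ) = F.deg + 1 - g := by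
    intro F hF
    rw [hg] at hF ⊢
    exact ell_eq_of_deg_ge hK F hF
  have hpos : ∀ F : Divisor k K, 2 * g ≤ F.deg → 0 < ell F := by
    intro F hF
    have := hell F (by omega)
    have : (0 : ℤ) < ell F := by omega
    exact_mod_cast this
  -- the element `s`
  obtain ⟨s, hsL, hs0, hsord⟩ := exists_generic hK E E.support hA1.1 (fun Q _ => hA1.2 Q)
  -- the element `t`
  set EP : Divisor k K := E - Finsupp.single P 1 with hEP_def
  have hEPdeg : EP.deg = d - 1 := by rw [hEP_def, deg_sub, deg_single, hdegQ, ← hd]; ring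
  have hEPP : EP P = -1 := by rw [hEP_def, Finsupp.sub_apply, hEP, Finsupp.single_eq_same]; ring
  have hEPQ : ∀ Q, Q ≠ P → EP Q = E Q := by
    intro Q hQ
    rw [hEP_def, Finsupp.sub_apply, Finsupp.single_eq_of_ne hQ, sub_zero]
  have hEPle : EP ≤ E := by
    rw [hEP_def]; exact sub_le_self _ (Finsupp.single_nonneg.mpr zero_le_one)
  obtain ⟨t, htL, ht0, htord⟩ := exists_generic hK EP (insert P E.support) hA2.1
    (fun Q _ => hA2.2 Q)
  set Z : Divisor k K := FunFld.div k t + EP with hZ_def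
  have hZ0 : 0 ≤ Z := by
    intro Q
    have := (mem_L_iff_ord EP ht0).mp htL Q
    rw [hZ_def, Finsupp.add_apply, div_apply hK, Finsupp.zero_apply]
    omega
  have hZT : ∀ Q ∈ insert P E.support, Z Q = 0 := by
    intro Q hQ
    rw [hZ_def, Finsupp.add_apply, div_apply hK, htord Q hQ]; ring
  have hZdeg : Z.deg = d - 1 := by rw [hZ_def, deg_add, deg_div hK, hEPdeg]; ring
  -- the element `t₂`
  obtain ⟨t₂, ht₂L, ht₂0, ht₂ord⟩ := exists_generic hK EP (E.support ∪ Z.support) hA2.1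
    (fun Q _ => hA2.2 Q)
  have htP : P.1 t < 1 := by
    have := htL P
    rw [hEPP] at this
    exact this.trans_lt exp_neg_one_lt_one
  have ht₂P : P.1 t₂ < 1 := by
    have := ht₂L P
    rw [hEPP] at this
    exact this.trans_lt exp_neg_one_lt_one
  have hdeg_nsmul : ∀ m : ℕ, (m • E).deg = m * d := fun m => by rw [deg_nsmul, hd]
  -- H2
  have H2 : ∀ m, m₀ ≤ m → ∀ b ∈ L ((m + 1) • E), ∃ b₁ ∈ L (m • E), ∃ b₂ ∈ L (m • E),
      b = b₁ + s * b₂ := by
    intro m hm b hb
    have hm' : M₀ ≤ m := by rw [hM₀]; exact_mod_cast hm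
    have hmd : 2 * g - 1 ≤ (m : ℤ) * d - d := by nlinarith
    have := pencil hK (m • E) ((m + 1) • E) E 1 s one_ne_zero
      (fun a ha => by
        rw [one_mul]
        refine L_mono ?_ ha
        rw [add_smul, one_smul]
        exact le_add_of_nonneg_right hE)
      (fun a ha => by
        have := mul_mem_L_add hsL ha
        rwa [add_comm, ← succ_nsmul] at this)
      (fun b hb hsb => by
        by_cases hb0 : b = 0
        · rw [hb0]; exact Submodule.zero_mem _
        rw [div_one] at hsb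
        rw [mem_L_iff_ord _ hb0]
        intro Q
        have h1 := (mem_L_iff_ord _ hb0).mp hb Q
        have h2 := (mem_L_iff_ord _ (mul_ne_zero hs0 hb0)).mp hsb Q
        rw [ord_mul Q hs0 hb0] at h2
        rw [Finsupp.sub_apply]
        by_cases hQ : Q ∈ E.support
        · rw [hsord Q hQ] at h2
          omega
        · rw [Finsupp.notMem_support_iff.mp hQ, sub_zero]
          exact h1)
      (by
        have e1 := hell ((m + 1) • E) (by rw [hdeg_nsmul]; push_cast; nlinarith)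
        have e2 := hell (m • E - E) (by rw [deg_sub, hdeg_nsmul, ← hd]; omega)
        have e3 := hell (m • E) (by rw [hdeg_nsmul]; nlinarith)
        rw [hdeg_nsmul] at e1 e3
        rw [deg_sub, hdeg_nsmul, ← hd] at e2
        push_cast at e1
        have : (ell ((m + 1) • E) : ℤ) + ell (m • E - E) ≤ 2 * ell (m • E) := by
          rw [e1, e2, e3]; ring_nf; rfl
        exact_mod_cast this) b hb
    obtain ⟨b₁, hb₁, b₂, hb₂, hbb⟩ := this
    exact ⟨b₁, hb₁, b₂, hb₂, by rw [hbb, one_mul]⟩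
  -- H3
  have H3 : ∀ b ∈ L (m₀ • E), P.1 b < 1 → ∃ b₁ ∈ L (m₀ • E), ∃ b₂ ∈ L (m₀ • E),
      b = t * b₁ + t₂ * b₂ := by
    intro b hb hbP
    set F₂ : Divisor k K := EP + m₀ • E with hF₂
    have hbF₂ : b ∈ L F₂ := by
      intro Q
      by_cases hQ : Q = P
      · subst hQ
        rw [hF₂, Finsupp.add_apply, hEPP, nsmul_apply', hEP, mul_zero, add_zero]
        exact (lt_one_iff_le_exp_neg_one _).mp hbP
      · refine (hb Q).trans ?_
        rw [WithZero.exp_le_exp, hF₂, Finsupp.add_apply, hEPQ Q hQ]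
        have := hE Q
        rw [Finsupp.zero_apply] at this
        omega
    have hF₂deg : F₂.deg = (M₀ + 1) * d - 1 := by
      rw [hF₂, deg_add, hEPdeg, hdeg_nsmul, hM₀]; ring
    exact pencil hK (m₀ • E) F₂ Z t t₂ ht0
      (fun a ha => mul_mem_L_add htL ha)
      (fun a ha => mul_mem_L_add ht₂L ha)
      (fun b hb htb => by
        by_cases hb0 : b = 0
        · rw [hb0]; exact Submodule.zero_mem _
        rw [mem_L_iff_ord _ hb0]
        intro Q
        have h1 := (mem_L_iff_ord _ hb0).mp hb Q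
        have h2 := (mem_L_iff_ord _ (mul_ne_zero (div_ne_zero ht₂0 ht0) hb0)).mp htb Q
        rw [ord_mul Q (div_ne_zero ht₂0 ht0) hb0, div_eq_mul_inv,
          ord_mul Q ht₂0 (inv_ne_zero ht0), ord_inv] at h2
        rw [Finsupp.sub_apply]
        by_cases hZQ : Z Q = 0
        · rw [hZQ, sub_zero]; exact h1
        · have hQZ : Q ∈ Z.support := Finsupp.mem_support_iff.mpr hZQ
          have hQT : Q ∉ insert P E.support := fun h => hZQ (hZT Q h)
          rw [Finset.mem_insert, not_or] at hQT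
          have hEQ : E Q = 0 := Finsupp.notMem_support_iff.mp hQT.2
          have h3 := ht₂ord Q (Finset.mem_union_right _ hQZ)
          have h4 : Q.ord t = Z Q - EP Q := by
            rw [hZ_def, Finsupp.add_apply, div_apply hK]; ring
          rw [hEPQ Q hQT.1, hEQ] at h3 h4
          rw [h3, h4, nsmul_apply', hEQ] at h2
          rw [nsmul_apply', hEQ]
          omega)
      (by
        have e1 := hell F₂ (by rw [hF₂deg]; nlinarith)
        have e2 := hell (m₀ • E - Z) (by rw [deg_sub, hdeg_nsmul, hZdeg, ← hM₀]; nlinarith)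
        have e3 := hell (m₀ • E) (by rw [hdeg_nsmul, ← hM₀]; nlinarith)
        rw [hF₂deg] at e1
        rw [deg_sub, hdeg_nsmul, hZdeg, ← hM₀] at e2
        rw [hdeg_nsmul, ← hM₀] at e3
        have : (ell F₂ : ℤ) + ell (m₀ • E - Z) ≤ 2 * ell (m₀ • E) := by
          rw [e1, e2, e3]; ring_nf; rfl
        exact_mod_cast this) b hbF₂
  -- H5
  have H5 : ∀ G : Divisor k K, 0 ≤ G → G P = 0 →
      ∃ m, m₀ ≤ m ∧ ∃ w₁ ∈ L (m • E - G), P.1 w₁ = 1 := by
    intro G hG hGP
    have hGdeg := deg_nonneg hG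
    obtain ⟨n, hn⟩ : ∃ n : ℕ, (n : ℤ) = G.deg := ⟨G.deg.toNat, Int.toNat_of_nonneg hGdeg⟩
    refine ⟨m₀ + n, by omega, ?_⟩
    have hFdeg : ((m₀ + n) • E - G).deg = (M₀ + n) * d - n := by
      rw [deg_sub, hdeg_nsmul, ← hn, hM₀]; push_cast; ring
    have hFge : 2 * g ≤ ((m₀ + n) • E - G).deg := by
      rw [hFdeg]
      have hn0 : (0 : ℤ) ≤ n := Nat.cast_nonneg n
      nlinarith
    obtain ⟨w₁, hw₁L, hw₁0, hw₁ord⟩ := exists_generic hK ((m₀ + n) • E - G) {P}
      (hpos _ hFge)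
      (fun Q _ => ell_step_lt hK _ Q (by rw [← hg]; exact hFge))
    refine ⟨w₁, hw₁L, ?_⟩
    have := hw₁ord P (Finset.mem_singleton_self P)
    rw [Finsupp.sub_apply, nsmul_apply', hEP, hGP] at this
    rw [val_eq_exp_neg_ord P hw₁0, this]
    simp
  exact inLocRing_core hK P hdegP E hE hEP m₀ s t t₂ hsL (L_mono hEPle htL) (L_mono hEPle ht₂L)
    htP ht₂P H2 H3 H5 z hz

end Groth.Agent.Helper5.FF
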