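import Mathlib
import Groth.Agent.Helper5.FFEmb5
set_option autoImplicit false
open FunFld Polynomial
open scoped IntermediateField

namespace Groth.Agent.Helper5.FF

variable {k K : Type*} [Field k] [Field K] [Algebra k K]

/-- if every nonconstant function has degree `> 2`, then `ℓ(A) = 1` for effective `A` of degree `≤ 2` -/
theorem ell_eq_one_of_deg_le_two (hK : IsFunctionField k K)
    (h2 : ∀ x : K, Transcendental k x → 2 < Module.finrank k⟮x⟯ K)
    (A : Divisor k K) (hA : 0 ≤ A) (hdeg : A.deg ≤ 2) : ell A = 1 := by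
  haveI := finiteDimensional_L hK A
  have h1 : 1 ≤ ell A := by
    have := Submodule.finrank_mono (L_mono hA)
    have h0 := ell_zero hK
    unfold ell at h0 ⊢
    omega
  by_contra hne
  have h2' : 2 ≤ ell A := by omega
  obtain ⟨x, hxL, hx⟩ := exists_nonconstant_of_two_le_ell hK h2'
  have htr := transcendental_of_not_mem_range hK hx
  have hx0 : x ≠ 0 := by rintro rfl; exact htr isAlgebraic_zero
  have hle : (-(FunFld.div k x)) ⊔ 0 ≤ A := by
    apply sup_le _ hA
    intro Q
    have := (mem_L_iff_ord A hx0).mp hxL Q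
    rw [Finsupp.neg_apply, div_apply hK]
    omega
  have h3 := deg_mono hle
  rw [deg_poles_eq hK htr] at h3
  have h4 := h2 x htr
  have : (2 : ℤ) < Module.finrank k⟮x⟯ K := by exact_mod_cast h4
  omega

theorem isNonsingularAt_canonical [IsAlgClosed k] (hK : IsFunctionField k K)
    (h2 : ∀ x : K, Transcendental k x → 2 < Module.finrank k⟮x⟯ K)
    (D : Divisor k K) (hD : IsCanonical k K D) {n : ℕ} (φ : Fin (n + 1) → K)
    (hφ : LinearIndependent k φ) (hspan : Submodule.span k (Set.range φ) = L D)
    (P : Place k K) : IsNonsingularAt φ P := by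
  haveI : Infinite k := IsAlgClosed.instInfinite
  have hdegQ : ∀ Q : Place k K, (Q.deg : ℤ) = 1 := fun Q => by
    exact_mod_cast deg_eq_one_of_isAlgClosed hK Q
  obtain ⟨hellD, hdegD⟩ := ell_canonical hK hD
  obtain ⟨g, hg⟩ : ∃ g : ℤ, g = genus k K := ⟨_, rfl⟩
  rw [← hg] at hdegD
  have hellD' : (ell D : ℤ) = g := by rw [hellD, hg]
  -- `ℓ(Q) = 1`, `ℓ(P + Q) = 1`
  have h1Q : ∀ Q : Place k K, (ell (Finsupp.single Q 1 : Divisor k K) : ℤ) = 1 := by
    intro Q
    have := ell_eq_one_of_deg_le_two hK h2 (Finsupp.single Q 1)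
      (Finsupp.single_nonneg.mpr zero_le_one) (by rw [deg_single, hdegQ]; norm_num)
    exact_mod_cast this
  have h1PQ : ∀ Q₁ Q₂ : Place k K,
      (ell (Finsupp.single Q₁ 1 + Finsupp.single Q₂ 1 : Divisor k K) : ℤ) = 1 := by
    intro Q₁ Q₂
    have := ell_eq_one_of_deg_le_two hK h2 (Finsupp.single Q₁ 1 + Finsupp.single Q₂ 1)
      (add_nonneg (Finsupp.single_nonneg.mpr zero_le_one) (Finsupp.single_nonneg.mpr zero_le_one))
      (by rw [deg_add, deg_single, deg_single, hdegQ, hdegQ]; norm_num)
    exact_mod_cast this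
  -- genus at least two
  have hg2 : 2 ≤ g := by
    have := (riemann_inequality hK).1 (Finsupp.single P 1 + Finsupp.single P 1)
    rw [h1PQ P P, deg_add, deg_single, hdegQ, ← hg] at this
    omega
  -- dimensions
  have hDQ : ∀ Q : Place k K, (ell (D - Finsupp.single Q 1) : ℤ) = g - 1 := by
    intro Q
    have := riemann_roch hK D hD (D - Finsupp.single Q 1)
    rw [sub_sub_cancel, h1Q Q, deg_sub, deg_single, hdegQ, hdegD, ← hg] at this
    omega
  have hDPQ : ∀ Q₁ Q₂ : Place k K,
      (ell (D - Finsupp.single Q₁ 1 - Finsupp.single Q₂ 1) : ℤ) = g - 2 := by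
    intro Q₁ Q₂
    have := riemann_roch hK D hD (D - Finsupp.single Q₁ 1 - Finsupp.single Q₂ 1)
    have hsub : D - (D - Finsupp.single Q₁ 1 - Finsupp.single Q₂ 1) =
        Finsupp.single Q₁ 1 + Finsupp.single Q₂ 1 := by abel
    rw [hsub, h1PQ Q₁ Q₂, deg_sub, deg_sub, deg_single, deg_single, hdegQ, hdegQ, hdegD, ← hg] at this
    omega
  apply isNonsingularAt_of_core hK D φ hφ hspan P
  · have hpos : 0 < ell D := by
      have : (0 : ℤ) < ell D := by omega
      exact_mod_cast this
    obtain ⟨x, hx, hx0, hxord⟩ := exists_generic hK D {P} hpos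
      (fun Q _ => by
        have : (ell (D - Finsupp.single Q 1) : ℤ) < ell D := by rw [hDQ, hellD']; omega
        exact_mod_cast this)
    exact ⟨x, hx, hx0, hxord P (Finset.mem_singleton_self P)⟩
  · intro E hE0 hEP hEdeg hell z hz
    have hE1 : ell E = ell D := by
      have := hell 0
      rw [add_zero, add_zero] at this
      exact this.symm
    have hEQ : ∀ Q : Place k K, ell (E - Finsupp.single Q 1) = ell (D - Finsupp.single Q 1) := by
      intro Q
      rw [sub_eq_add_neg, sub_eq_add_neg]
      exact (hell _).symm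
    have hEPQ : ∀ Q : Place k K, ell (E - Finsupp.single P 1 - Finsupp.single Q 1) =
        ell (D - Finsupp.single P 1 - Finsupp.single Q 1) := by
      intro Q
      have h1 : E - Finsupp.single P 1 - Finsupp.single Q 1 =
          E + (-(Finsupp.single P 1) - Finsupp.single Q 1) := by abel
      have h2' : D - Finsupp.single P 1 - Finsupp.single Q 1 =
          D + (-(Finsupp.single P 1) - Finsupp.single Q 1) := by abel
      rw [h1, h2']
      exact (hell _).symm
    refine inLocRing_of_numerics hK P E hE0 hEP 3 (by norm_num) ?_ ?_ ?_ ⟨?_, ?_⟩ ⟨?_, ?_⟩ z hz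
    · rw [hEdeg, hdegD]; omega
    · rw [hEdeg, hdegD, ← hg]; push_cast; omega
    · rw [hEdeg, hdegD, ← hg]; push_cast; omega
    · rw [hE1]
      have : (0 : ℤ) < ell D := by omega
      exact_mod_cast this
    · intro Q
      rw [hE1, hEQ]
      have : (ell (D - Finsupp.single Q 1) : ℤ) < ell D := by rw [hDQ, hellD']; omega
      exact_mod_cast this
    · rw [hEQ]
      have : (0 : ℤ) < ell (D - Finsupp.single P 1) := by rw [hDQ]; omega
      exact_mod_cast this
    · intro Q
      rw [hEPQ, hEQ]
      have : (ell (D - Finsupp.single P 1 - Finsupp.single Q 1) : ℤ) <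
          ell (D - Finsupp.single P 1) := by rw [hDPQ, hDQ]; omega
      exact_mod_cast this

end Groth.Agent.Helper5.FF
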