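import Mathlib
import Groth.Agent.Helper5.FFChain
set_option autoImplicit false
open FunFld Polynomial
open scoped IntermediateField

namespace Groth.Agent.Helper5.FF

variable {k K : Type*} [Field k] [Field K] [Algebra k K]

/-- lower bound for the sum of the two vanishing orders of a pencil -/
theorem vsum_pencil_ge [IsAlgClosed k] (hK : IsFunctionField k K) (d : ℕ) (D : Divisor k K)
    (hD : D.deg = d) (W : Submodule k K) (hW : W ≤ L D) (hWr : Module.finrank k ↥W = 1 + 1)
    (P : Place k K) (m M : ℕ) (h1 : W ≤ L (D - Finsupp.single P (m : ℤ)))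
    (h2 : ∃ h ∈ W, h ≠ 0 ∧ h ∈ L (D - Finsupp.single P (M : ℤ))) :
    m + M ≤ vsum W D P d := by
  classical
  obtain ⟨o, hoinj, -, hcount, ho3⟩ := exists_orders hK d 1 D hD W hW hWr P
  rw [ho3, Fin.sum_univ_two]
  haveI := finiteDimensional_L hK D
  haveI hWfd : FiniteDimensional k ↥W := Submodule.finiteDimensional_of_le hW
  have hm : ∀ i, m ≤ o i := by
    have h3 := hcount m
    rw [inf_eq_left.mpr h1, hWr] at h3
    intro i
    by_contra hlt
    have hsub : (Finset.univ.filter fun i => m ≤ o i) ⊆ Finset.univ.erase i := by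
      intro j hj
      rw [Finset.mem_filter] at hj
      rw [Finset.mem_erase]
      refine ⟨fun hji => hlt (hji ▸ hj.2), Finset.mem_univ _⟩
    have := Finset.card_le_card hsub
    rw [← h3, Finset.card_erase_of_mem (Finset.mem_univ i), Finset.card_univ, Fintype.card_fin] at this
    omega
  have hM : ∃ i, M ≤ o i := by
    obtain ⟨h, hhW, hh0, hhL⟩ := h2
    have h3 := hcount M
    have hne : W ⊓ L (D - Finsupp.single P (M : ℤ)) ≠ ⊥ := by
      intro hbot
      have : h ∈ W ⊓ L (D - Finsupp.single P (M : ℤ)) := ⟨hhW, hhL⟩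
      rw [hbot] at this
      exact hh0 this
    haveI : FiniteDimensional k ↥(W ⊓ L (D - Finsupp.single P (M : ℤ))) :=
      Submodule.finiteDimensional_of_le inf_le_left
    have hpos : 0 < Module.finrank k ↥(W ⊓ L (D - Finsupp.single P (M : ℤ))) := by
      rw [Module.finrank_pos_iff]
      exact (Submodule.nontrivial_iff_ne_bot).mpr hne
    rw [h3, Finset.card_pos] at hpos
    obtain ⟨i, hi⟩ := hpos
    rw [Finset.mem_filter] at hi
    exact ⟨i, hi.2⟩
  obtain ⟨i, hi⟩ := hM
  have h0 := hm 0
  have h1' := hm 1
  have hne : o 0 ≠ o 1 := fun h => by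
    have := hoinj h
    exact absurd this (by decide)
  fin_cases i
  · simp only [Fin.zero_eta] at hi; omega
  · simp only [Fin.mk_one] at hi; omega

theorem mem_L_sub_single_of_ord (D : Divisor k K) (P : Place k K) {f : K} (hf0 : f ≠ 0)
    (hf : f ∈ L D) (a : ℕ) (ha : (a : ℤ) ≤ P.ord f + D P) :
    f ∈ L (D - Finsupp.single P (a : ℤ)) := by
  intro R
  by_cases hR : R = P
  · subst hR
    rw [Finsupp.sub_apply, Finsupp.single_eq_same, val_le_exp_iff R hf0]
    omega
  · rw [Finsupp.sub_apply, Finsupp.single_eq_of_ne hR, sub_zero]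
    exact hf R

/-- on a rational curve, a linear series with a cusp at `Q` has at most one member (up to
scalars) vanishing only at two given points other than `Q` -/
theorem unique_member_of_cusp [IsAlgClosed k] [CharZero k] (hK : IsFunctionField k K)
    (hg0 : genus k K = 0) (d r : ℕ) (D : Divisor k K) (hD : D.deg = d)
    (V : Submodule k K) (hV : V ≤ L D) (hVr : Module.finrank k ↥V = r + 1)
    (Q : Place k K) (hcusp : r ≤ Module.finrank k ↥(V ⊓ L (D - Finsupp.single Q ((2 : ℤ)))))
    (P P' : Place k K) (hP : P ≠ Q) (hP' : P' ≠ Q)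
    (f g : K) (hf : f ∈ V) (hg : g ∈ V) (hf0 : f ≠ 0) (hg0' : g ≠ 0)
    (hfs : ∀ R : Place k K, R ≠ P → R ≠ P' → (FunFld.div k f + D) R = 0)
    (hgs : ∀ R : Place k K, R ≠ P → R ≠ P' → (FunFld.div k g + D) R = 0) :
    ∃ c : k, g = c • f := by
  classical
  by_contra hcon
  push Not at hcon
  have hdeg1 : ∀ R : Place k K, (R.deg : ℤ) = 1 := fun R => by
    exact_mod_cast deg_eq_one_of_isAlgClosed hK R
  -- the effective divisors of `f` and `g`
  have hnn : ∀ h : K, h ≠ 0 → h ∈ V → ∀ R : Place k K, 0 ≤ R.ord h + D R := by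
    intro h hh0 hhV R
    have := (mem_L_iff_ord D hh0).mp (hV hhV) R
    omega
  have hE : ∀ h : K, h ≠ 0 → ∀ R : Place k K, (FunFld.div k h + D) R = R.ord h + D R := by
    intro h _ R
    rw [Finsupp.add_apply, div_apply hK]
  have hdegE : ∀ h : K, (FunFld.div k h + D).deg = d := by
    intro h
    rw [deg_add, deg_div hK, hD, zero_add]
  have hordeq : (∀ R : Place k K, R.ord g = R.ord f) → False := by
    intro h
    obtain ⟨c, hc⟩ := exists_eq_smul_of_ord_eq hK g f hg0' hf0 h
    exact hcon c hc
  by_cases hPP' : P = P'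
  · subst hPP'
    -- both divisors equal `d P`
    have hsingle : ∀ h : K, h ≠ 0 → (∀ R : Place k K, R ≠ P → R ≠ P → (FunFld.div k h + D) R = 0) →
        P.ord h + D P = d := by
      intro h hh0 hhs
      have h1 : FunFld.div k h + D = Finsupp.single P (P.ord h + D P) := by
        ext R
        by_cases hR : R = P
        · subst hR; rw [Finsupp.single_eq_same, hE h hh0]
        · rw [Finsupp.single_eq_of_ne hR, hhs R hR hR]
      have h2 := hdegE h
      rw [h1, deg_single, hdeg1] at h2
      omega
    apply hordeq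
    intro R
    by_cases hR : R = P
    · subst hR
      have := hsingle f hf0 hfs
      have := hsingle g hg0' hgs
      omega
    · have h1 := hfs R hR hR
      have h2 := hgs R hR hR
      rw [hE f hf0] at h1
      rw [hE g hg0'] at h2
      omega
  · have hpair : ∀ h : K, h ≠ 0 →
        (∀ R : Place k K, R ≠ P → R ≠ P' → (FunFld.div k h + D) R = 0) →
        (P.ord h + D P) + (P'.ord h + D P') = d := by
      intro h hh0 hhs
      have h1 : FunFld.div k h + D =
          Finsupp.single P (P.ord h + D P) + Finsupp.single P' (P'.ord h + D P') := by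
        ext R
        rw [Finsupp.add_apply (g₁ := Finsupp.single P (P.ord h + D P))]
        by_cases hR : R = P
        · subst hR
          rw [Finsupp.single_eq_same, Finsupp.single_eq_of_ne hPP', add_zero, hE h hh0]
        · by_cases hR' : R = P'
          · subst hR'
            rw [Finsupp.single_eq_same, Finsupp.single_eq_of_ne hR, zero_add, hE h hh0]
          · rw [Finsupp.single_eq_of_ne hR, Finsupp.single_eq_of_ne hR', hhs R hR hR', add_zero]
      have h2 := hdegE h
      rw [h1, deg_add, deg_single, deg_single, hdeg1, hdeg1] at h2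
      omega
    have hf2 := hpair f hf0 hfs
    have hg2 := hpair g hg0' hgs
    have hfP := hnn f hf0 hf P
    have hfP' := hnn f hf0 hf P'
    have hgP := hnn g hg0' hg P
    have hgP' := hnn g hg0' hg P'
    by_cases haa : P.ord f + D P = P.ord g + D P
    · apply hordeq
      intro R
      by_cases hR : R = P
      · subst hR; omega
      · by_cases hR' : R = P'
        · subst hR'; omega
        · have h1 := hfs R hR hR'
          have h2 := hgs R hR hR'
          rw [hE f hf0] at h1
          rw [hE g hg0'] at h2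
          omega
    · -- the pencil spanned by `f` and `g`
      have hli : LinearIndependent k ![f, g] :=
        (LinearIndependent.pair_iff' hf0).mpr fun a h => hcon a h.symm
      obtain ⟨W, hW_def⟩ : ∃ W : Submodule k K, W = Submodule.span k (Set.range ![f, g]) := ⟨_, rfl⟩
      have hfW : f ∈ W := by
        rw [hW_def]; exact Submodule.subset_span ⟨0, rfl⟩
      have hgW : g ∈ W := by
        rw [hW_def]; exact Submodule.subset_span ⟨1, rfl⟩
      have hWV : W ≤ V := by
        rw [hW_def, Submodule.span_le]
        rintro x ⟨i, rfl⟩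
        fin_cases i
        · exact hf
        · exact hg
      have hWL : W ≤ L D := hWV.trans hV
      have hWr : Module.finrank k ↥W = 1 + 1 := by
        rw [hW_def, finrank_span_eq_card hli, Fintype.card_fin]
      -- lower bounds at `P` and `P'`
      have hbound : ∀ R : Place k K, 0 ≤ R.ord f + D R → 0 ≤ R.ord g + D R →
          (R.ord f + D R) + (R.ord g + D R) ≤ (vsum W D R d : ℤ) := by
        intro R hfR hgR
        obtain ⟨af, haf⟩ : ∃ af : ℕ, (af : ℤ) = R.ord f + D R := ⟨_, Int.toNat_of_nonneg hfR⟩
        obtain ⟨ag, hag⟩ : ∃ ag : ℕ, (ag : ℤ) = R.ord g + D R := ⟨_, Int.toNat_of_nonneg hgR⟩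
        have hfL : ∀ a : ℕ, a ≤ af → f ∈ L (D - Finsupp.single R (a : ℤ)) := fun a ha =>
          mem_L_sub_single_of_ord D R hf0 (hWL hfW) a (by omega)
        have hgL : ∀ a : ℕ, a ≤ ag → g ∈ L (D - Finsupp.single R (a : ℤ)) := fun a ha =>
          mem_L_sub_single_of_ord D R hg0' (hWL hgW) a (by omega)
        have h1 : W ≤ L (D - Finsupp.single R ((min af ag : ℕ) : ℤ)) := by
          rw [hW_def, Submodule.span_le]
          rintro x ⟨i, rfl⟩
          fin_cases i
          · exact hfL _ (min_le_left _ _)
          · exact hgL _ (min_le_right _ _)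
        have h2 : ∃ h ∈ W, h ≠ 0 ∧ h ∈ L (D - Finsupp.single R ((max af ag : ℕ) : ℤ)) := by
          by_cases hle : af ≤ ag
          · exact ⟨g, hgW, hg0', by rw [max_eq_right hle]; exact hgL _ le_rfl⟩
          · rw [not_le] at hle
            exact ⟨f, hfW, hf0, by rw [max_eq_left hle.le]; exact hfL _ le_rfl⟩
        have h3 := vsum_pencil_ge hK d D hD W hWL hWr R (min af ag) (max af ag) h1 h2
        have h4 : min af ag + max af ag = af + ag := min_add_max af ag
        rw [← haf, ← hag]
        have : ((af + ag : ℕ) : ℤ) ≤ (vsum W D R d : ℤ) := by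
          rw [← h4]; exact_mod_cast h3
        push_cast at this
        exact this
      have hbP := hbound P hfP hgP
      have hbP' := hbound P' hfP' hgP'
      -- lower bound at `Q`
      have hbQ : 2 ≤ vsum W D Q d := by
        haveI := finiteDimensional_L hK D
        haveI hVfd : FiniteDimensional k ↥V := Submodule.finiteDimensional_of_le hV
        haveI hWfd : FiniteDimensional k ↥W := Submodule.finiteDimensional_of_le hWL
        haveI hYfd : FiniteDimensional k ↥(V ⊓ L (D - Finsupp.single Q ((2 : ℤ)))) :=
          Submodule.finiteDimensional_of_le (inf_le_left.trans hV)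
        have h5 := Submodule.finrank_sup_add_finrank_inf_eq W (V ⊓ L (D - Finsupp.single Q ((2 : ℤ))))
        have h6 : Module.finrank k ↥(W ⊔ (V ⊓ L (D - Finsupp.single Q ((2 : ℤ))))) ≤
            Module.finrank k ↥V := Submodule.finrank_mono (sup_le hWV inf_le_left)
        have h7 : 0 < Module.finrank k ↥(W ⊓ (V ⊓ L (D - Finsupp.single Q ((2 : ℤ))))) := by
          omega
        haveI : FiniteDimensional k ↥(W ⊓ (V ⊓ L (D - Finsupp.single Q ((2 : ℤ))))) :=
          Submodule.finiteDimensional_of_le (inf_le_left.trans hWV)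
        rw [Module.finrank_pos_iff, Submodule.nontrivial_iff_ne_bot] at h7
        obtain ⟨h, hh, hh0⟩ := Submodule.exists_mem_ne_zero_of_ne_bot h7
        have h8 := vsum_pencil_ge hK d D hD W hWL hWr Q 0 2 (by
          simpa using hWL) ⟨h, hh.1, hh0, hh.2.2⟩
        omega
      have h9 := plucker3 hK hg0 d 1 D hD W hWL hWr P P' Q hPP' hP hP'
      have : (vsum W D P d : ℤ) + vsum W D P' d + vsum W D Q d + 2 ≤ 2 * d + 3 := by
        have : vsum W D P d + vsum W D P' d + vsum W D Q d + 1 * (1 + 1) ≤
            (1 + 1) * d + 3 * (1 * (1 + 1) / 2) := h9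
        omega
      have hbQ' : (2 : ℤ) ≤ vsum W D Q d := by exact_mod_cast hbQ
      omega

end Groth.Agent.Helper5.FF
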