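import Mathlib
import Groth.Agent.Helper5.FFPencil
set_option autoImplicit false
open FunFld Polynomial
open scoped IntermediateField

namespace Groth.Agent.Helper5.FF

variable {k K : Type*} [Field k] [Field K] [Algebra k K]

/-- if the vanishing conditions `a P` and `b Q` with `a + b = deg D` overlap in `V`, there is a
member of `V` with divisor exactly `a P + b Q` -/
theorem exists_member_exact [IsAlgClosed k] (hK : IsFunctionField k K) (d : ℕ) (D : Divisor k K)
    (hD : D.deg = d) (V : Submodule k K) (hV : V ≤ L D) (P Q : Place k K) (hPQ : P ≠ Q)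
    (a b : ℕ) (hab : a + b = d)
    (hdim : Module.finrank k ↥V + 1 ≤ Module.finrank k ↥(V ⊓ L (D - Finsupp.single P (a : ℤ))) +
      Module.finrank k ↥(V ⊓ L (D - Finsupp.single Q (b : ℤ)))) :
    ∃ h ∈ V, h ≠ 0 ∧ FunFld.div k h + D = Finsupp.single P (a : ℤ) + Finsupp.single Q (b : ℤ) := by
  haveI := finiteDimensional_L hK D
  haveI hVfd : FiniteDimensional k ↥V := Submodule.finiteDimensional_of_le hV
  haveI : FiniteDimensional k ↥(V ⊓ L (D - Finsupp.single P (a : ℤ))) :=
    Submodule.finiteDimensional_of_le inf_le_left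
  haveI : FiniteDimensional k ↥(V ⊓ L (D - Finsupp.single Q (b : ℤ))) :=
    Submodule.finiteDimensional_of_le inf_le_left
  have h1 := Submodule.finrank_sup_add_finrank_inf_eq (V ⊓ L (D - Finsupp.single P (a : ℤ)))
    (V ⊓ L (D - Finsupp.single Q (b : ℤ)))
  have h2 : Module.finrank k ↥((V ⊓ L (D - Finsupp.single P (a : ℤ))) ⊔
      (V ⊓ L (D - Finsupp.single Q (b : ℤ)))) ≤ Module.finrank k ↥V :=
    Submodule.finrank_mono (sup_le inf_le_left inf_le_left)
  have h3 : 0 < Module.finrank k ↥((V ⊓ L (D - Finsupp.single P (a : ℤ))) ⊓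
      (V ⊓ L (D - Finsupp.single Q (b : ℤ)))) := by omega
  haveI : FiniteDimensional k ↥((V ⊓ L (D - Finsupp.single P (a : ℤ))) ⊓
      (V ⊓ L (D - Finsupp.single Q (b : ℤ)))) :=
    Submodule.finiteDimensional_of_le (inf_le_left.trans inf_le_left)
  rw [Module.finrank_pos_iff, Submodule.nontrivial_iff_ne_bot] at h3
  obtain ⟨h, hh, hh0⟩ := Submodule.exists_mem_ne_zero_of_ne_bot h3
  refine ⟨h, hh.1.1, hh0, ?_⟩
  have hx1 : h ∈ L (D - Finsupp.single P (a : ℤ)) := hh.1.2
  have hx2 : h ∈ L (D - Finsupp.single Q (b : ℤ)) := hh.2.2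
  have hmem : h ∈ L (D - Finsupp.single P (a : ℤ) - Finsupp.single Q (b : ℤ)) := by
    intro R
    by_cases hR : R = P
    · subst hR
      have := hx1 R
      rw [Finsupp.sub_apply, Finsupp.sub_apply, Finsupp.single_eq_of_ne hPQ, sub_zero]
      exact this
    · have := hx2 R
      rw [Finsupp.sub_apply, Finsupp.sub_apply, Finsupp.single_eq_of_ne hR, sub_zero]
      exact this
  have hE : 0 ≤ D - Finsupp.single P (a : ℤ) - Finsupp.single Q (b : ℤ) + FunFld.div k h := by
    intro R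
    rw [Finsupp.add_apply, Finsupp.zero_apply, div_apply hK]
    have := (mem_L_iff_ord _ hh0).mp hmem R
    omega
  have hdeg0 : (D - Finsupp.single P (a : ℤ) - Finsupp.single Q (b : ℤ) + FunFld.div k h).deg = 0 := by
    rw [deg_add, deg_sub, deg_sub, deg_single, deg_single, deg_div hK,
      deg_eq_one_of_isAlgClosed hK P, deg_eq_one_of_isAlgClosed hK Q, hD]
    push_cast
    omega
  have hzero : D - Finsupp.single P (a : ℤ) - Finsupp.single Q (b : ℤ) + FunFld.div k h = 0 := by
    by_contra hne'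
    have := deg_pos_of_pos hK hE hne'
    omega
  have : FunFld.div k h = -(D - Finsupp.single P (a : ℤ) - Finsupp.single Q (b : ℤ)) :=
    eq_neg_of_add_eq_zero_right hzero
  rw [this]; abel

theorem finrank_inf_L_zero (D : Divisor k K) (V : Submodule k K) (hV : V ≤ L D) (P : Place k K) :
    Module.finrank k ↥(V ⊓ L (D - Finsupp.single P ((0 : ℕ) : ℤ))) = Module.finrank k ↥V := by
  have : D - Finsupp.single P ((0 : ℕ) : ℤ) = D := by simp
  rw [this, inf_eq_left.mpr hV]

/-- one more vanishing condition at a point costs at most one dimension -/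
theorem finrank_inf_L_step [IsAlgClosed k] (hK : IsFunctionField k K) (d r : ℕ) (D : Divisor k K)
    (hD : D.deg = d) (V : Submodule k K) (hV : V ≤ L D) (hVr : Module.finrank k ↥V = r + 1)
    (P : Place k K) (n : ℕ) :
    Module.finrank k ↥(V ⊓ L (D - Finsupp.single P (n : ℤ))) ≤
      Module.finrank k ↥(V ⊓ L (D - Finsupp.single P ((n + 1 : ℕ) : ℤ))) + 1 := by
  classical
  obtain ⟨o, hoinj, -, hcount, -⟩ := exists_orders hK d r D hD V hV hVr P
  rw [hcount n, hcount (n + 1)]
  have hsub : (Finset.univ.filter fun i => n ≤ o i) ⊆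
      (Finset.univ.filter fun i => n + 1 ≤ o i) ∪ (Finset.univ.filter fun i => o i = n) := by
    intro i hi
    rw [Finset.mem_filter] at hi
    rw [Finset.mem_union, Finset.mem_filter, Finset.mem_filter]
    by_cases h : o i = n
    · exact Or.inr ⟨Finset.mem_univ _, h⟩
    · exact Or.inl ⟨Finset.mem_univ _, by omega⟩
  have h1 : (Finset.univ.filter fun i => o i = n).card ≤ 1 := by
    rw [Finset.card_le_one]
    intro i hi j hj
    rw [Finset.mem_filter] at hi hj
    exact hoinj (hi.2.trans hj.2.symm)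
  have := (Finset.card_le_card hsub).trans (Finset.card_union_le _ _)
  omega

theorem exists_torsion_of_large_weights [IsAlgClosed k] (hK : IsFunctionField k K) (d r : ℕ)
    (D : Divisor k K) (hD : D.deg = d) (V : Submodule k K) (hV : V ≤ L D)
    (hVr : Module.finrank k ↥V = r + 1) (P Q : Place k K) (hPQ : P ≠ Q)
    (hw : (r + 1) * d + 1 ≤ vsum V D P d + vsum V D Q d + r) :
    ∃ m : ℕ, 1 ≤ m ∧ m ≤ d ∧ ∃ h : K, h ≠ 0 ∧
      FunFld.div k h = Finsupp.single Q (m : ℤ) - Finsupp.single P (m : ℤ) := by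
  classical
  obtain ⟨p, hp⟩ : ∃ p : ℕ → ℕ, p = fun n : ℕ =>
      Module.finrank k ↥(V ⊓ L (D - Finsupp.single P (n : ℤ))) := ⟨_, rfl⟩
  obtain ⟨q, hq⟩ : ∃ q : ℕ → ℕ, q = fun n : ℕ =>
      Module.finrank k ↥(V ⊓ L (D - Finsupp.single Q (n : ℤ))) := ⟨_, rfl⟩
  have hp0 : p 0 = r + 1 := by rw [hp]; simp only; rw [finrank_inf_L_zero D V hV P, hVr]
  have hq0 : q 0 = r + 1 := by rw [hq]; simp only; rw [finrank_inf_L_zero D V hV Q, hVr]
  have hpsum : ∑ a ∈ Finset.range (d + 1), p a = (r + 1) + vsum V D P d := by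
    rw [Finset.sum_range_succ', hp0, add_comm]
    congr 1
    unfold vsum
    apply Finset.sum_congr rfl
    intro n _
    rw [hp]
    simp only
    congr 4
  have hqsum : ∑ a ∈ Finset.range (d + 1), q (d - a) = (r + 1) + vsum V D Q d := by
    have h1 : ∑ a ∈ Finset.range (d + 1), q (d - a) = ∑ a ∈ Finset.range (d + 1), q a := by
      have := Finset.sum_range_reflect q (d + 1)
      rw [← this]
      apply Finset.sum_congr rfl
      intro a _
      congr 1
    rw [h1, Finset.sum_range_succ', hq0, add_comm]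
    congr 1
    unfold vsum
    apply Finset.sum_congr rfl
    intro n _
    rw [hq]
    simp only
    congr 4
  have htwo : ∀ a ∈ Finset.range (d + 1), p a + q (d - a) ≤ r + 2 := by
    intro a ha
    rw [Finset.mem_range] at ha
    have h1 := finrank_inf_add_le hK D V hV P Q hPQ (a : ℤ) (((d - a : ℕ) : ℤ) + 1)
      (by omega) (by omega) (by rw [hD]; omega)
    have h2 := finrank_inf_L_step hK d r D hD V hV hVr Q (d - a)
    rw [hVr] at h1
    have e : (((d - a : ℕ) : ℤ) + 1) = ((d - a + 1 : ℕ) : ℤ) := by push_cast; ring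
    rw [e] at h1
    rw [hp, hq]
    simp only
    omega
  obtain ⟨G, hG⟩ : ∃ G : Finset ℕ, G = (Finset.range (d + 1)).filter
      fun a => r + 2 ≤ p a + q (d - a) := ⟨_, rfl⟩
  have hGcard : 2 ≤ G.card := by
    have h1 : ∑ a ∈ Finset.range (d + 1), (p a + q (d - a)) ≤
        ∑ a ∈ Finset.range (d + 1), ((r + 1) + if r + 2 ≤ p a + q (d - a) then 1 else 0) := by
      apply Finset.sum_le_sum
      intro a ha
      have := htwo a ha
      split_ifs with h
      · omega
      · omega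
    rw [Finset.sum_add_distrib, hpsum, hqsum, Finset.sum_add_distrib, Finset.sum_const,
      Finset.card_range, ← Finset.card_filter, ← hG, smul_eq_mul] at h1
    have : (d + 1) * (r + 1) = (r + 1) * d + (r + 1) := by ring
    omega
  obtain ⟨a₁, ha₁, a₂, ha₂, hne⟩ := Finset.one_lt_card.mp hGcard
  have hmember : ∀ a ∈ G, ∃ h ∈ V, h ≠ 0 ∧
      FunFld.div k h + D = Finsupp.single P (a : ℤ) + Finsupp.single Q ((d - a : ℕ) : ℤ) := by
    intro a ha
    rw [hG, Finset.mem_filter, Finset.mem_range] at ha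
    apply exists_member_exact hK d D hD V hV P Q hPQ a (d - a) (by omega)
    rw [hVr]
    have := ha.2
    rw [hp, hq] at this
    simp only at this
    exact this
  have hmain : ∀ a₁ ∈ G, ∀ a₂ ∈ G, a₁ < a₂ → ∃ m : ℕ, 1 ≤ m ∧ m ≤ d ∧ ∃ h : K, h ≠ 0 ∧
      FunFld.div k h = Finsupp.single Q (m : ℤ) - Finsupp.single P (m : ℤ) := by
    intro a₁ ha₁ a₂ ha₂ hlt
    obtain ⟨h₁, -, h₁0, hd₁⟩ := hmember a₁ ha₁
    obtain ⟨h₂, -, h₂0, hd₂⟩ := hmember a₂ ha₂
    have ha₂d : a₂ ≤ d := by
      rw [hG, Finset.mem_filter, Finset.mem_range] at ha₂; omega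
    refine ⟨a₂ - a₁, by omega, by omega, h₁ * h₂⁻¹, mul_ne_zero h₁0 (inv_ne_zero h₂0), ?_⟩
    rw [div_mul hK h₁0 (inv_ne_zero h₂0), div_inv hK]
    have e1 : FunFld.div k h₁ =
        Finsupp.single P (a₁ : ℤ) + Finsupp.single Q ((d - a₁ : ℕ) : ℤ) - D := by
      rw [← hd₁]; abel
    have e2 : FunFld.div k h₂ =
        Finsupp.single P (a₂ : ℤ) + Finsupp.single Q ((d - a₂ : ℕ) : ℤ) - D := by
      rw [← hd₂]; abel
    rw [e1, e2]
    have c1 : ((a₂ - a₁ : ℕ) : ℤ) = (a₂ : ℤ) - a₁ := by omega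
    have c2 : ((d - a₁ : ℕ) : ℤ) = (d : ℤ) - a₁ := by omega
    have c3 : ((d - a₂ : ℕ) : ℤ) = (d : ℤ) - a₂ := by omega
    rw [c1, c2, c3]
    ext R
    simp only [Finsupp.sub_apply, Finsupp.add_apply, Finsupp.neg_apply]
    by_cases hRP : R = P
    · subst hRP
      simp only [Finsupp.single_eq_same, Finsupp.single_eq_of_ne hPQ]
      ring
    · by_cases hRQ : R = Q
      · subst hRQ
        simp only [Finsupp.single_eq_same, Finsupp.single_eq_of_ne hRP]
        ring
      · simp only [Finsupp.single_eq_of_ne hRP, Finsupp.single_eq_of_ne hRQ]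
        ring
  rcases lt_or_gt_of_ne hne with h | h
  · exact hmain a₁ ha₁ a₂ ha₂ h
  · exact hmain a₂ ha₂ a₁ ha₁ h

end Groth.Agent.Helper5.FF
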