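import Mathlib
import Groth.Agent.Helper5.FFExact
set_option autoImplicit false
open FunFld Polynomial
open scoped IntermediateField

namespace Groth.Agent.Helper5.FF

variable {k : Type*} [Field k]

theorem subsingleton_equal_orders [IsAlgClosed k] [CharZero k]
    (KY : Type*) [Field KY] [Algebra k KY] (hKY : IsFunctionField k KY) (hg0 : genus k KY = 0)
    (KZ : Type*) [Field KZ] [Algebra k KZ]
    (d r : ℕ) (DY : Divisor k KY) (hDY : DY.deg = d) (DZ : Divisor k KZ)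
    (VY : Submodule k KY) (hVY : VY ≤ L DY) (hVYr : Module.finrank k ↥VY = r + 1)
    (VZ : Submodule k KZ)
    (QY : Place k KY) (hcusp : r ≤ Module.finrank k ↥(VY ⊓ L (DY - Finsupp.single QY ((2 : ℤ)))))
    (P : Place k KY) (hP : P ≠ QY) (Q : Place k KZ)
    (hcomp : ∀ n : ℕ, n ≤ d + 1 →
      Module.finrank k ↥(VY ⊓ L (DY - Finsupp.single P ((n : ℤ)))) +
        Module.finrank k ↥(VZ ⊓ L (DZ - Finsupp.single Q ((d : ℤ) + 1 - n))) = r + 1)
    (P' : Place k KY) (hP'P : P' ≠ P) (hP'Q : P' ≠ QY) :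
    {i : ℕ | i ≤ r ∧ ∃ m : ℕ,
        Module.finrank k ↥(VY ⊓ L (DY - Finsupp.single P' ((m : ℤ)))) = r + 1 - i ∧
        Module.finrank k ↥(VY ⊓ L (DY - Finsupp.single P' ((m : ℤ) + 1))) = r - i ∧
        Module.finrank k ↥(VZ ⊓ L (DZ - Finsupp.single Q ((m : ℤ)))) = r + 1 - i ∧
        Module.finrank k ↥(VZ ⊓ L (DZ - Finsupp.single Q ((m : ℤ) + 1))) = r - i}.Subsingleton := by
  classical
  have key : ∀ i : ℕ, i ≤ r → ∀ m : ℕ,
      Module.finrank k ↥(VY ⊓ L (DY - Finsupp.single P' ((m : ℤ)))) = r + 1 - i →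
      Module.finrank k ↥(VZ ⊓ L (DZ - Finsupp.single Q ((m : ℤ) + 1))) = r - i →
      ∃ h ∈ VY, h ≠ 0 ∧ FunFld.div k h + DY =
        Finsupp.single P ((d - m : ℕ) : ℤ) + Finsupp.single P' (m : ℤ) := by
    intro i hi m h1 h4
    have hmd : m ≤ d := by
      by_contra hlt
      rw [not_le] at hlt
      have hdeg : (DY - Finsupp.single P' (m : ℤ)).deg < 0 := by
        rw [deg_sub, deg_single, deg_eq_one_of_isAlgClosed hKY P', hDY]
        push_cast
        omega
      rw [L_eq_bot_of_deg_neg hKY _ hdeg, inf_bot_eq, finrank_bot] at h1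
      omega
    have h5 := hcomp (d - m) (by omega)
    have e : (d : ℤ) + 1 - ((d - m : ℕ) : ℤ) = (m : ℤ) + 1 := by omega
    rw [e, h4] at h5
    apply exists_member_exact hKY d DY hDY VY hVY P P' hP'P.symm (d - m) m (by omega)
    rw [hVYr, h1]
    omega
  intro i₁ hi₁ i₂ hi₂
  obtain ⟨hi₁r, m₁, h11, -, -, h14⟩ := hi₁
  obtain ⟨hi₂r, m₂, h21, -, -, h24⟩ := hi₂
  obtain ⟨f, hfV, hf0, hfd⟩ := key i₁ hi₁r m₁ h11 h14
  obtain ⟨g, hgV, hgne, hgd⟩ := key i₂ hi₂r m₂ h21 h24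
  have hsupp : ∀ (h : KY) (m : ℕ), FunFld.div k h + DY =
      Finsupp.single P ((d - m : ℕ) : ℤ) + Finsupp.single P' (m : ℤ) →
      ∀ R : Place k KY, R ≠ P → R ≠ P' → (FunFld.div k h + DY) R = 0 := by
    intro h m hh R hRP hRP'
    rw [hh, Finsupp.add_apply, Finsupp.single_eq_of_ne hRP, Finsupp.single_eq_of_ne hRP', add_zero]
  obtain ⟨c, hc⟩ := unique_member_of_cusp hKY hg0 d r DY hDY VY hVY hVYr QY hcusp P P' hP hP'Q
    f g hfV hgV hf0 hgne (hsupp f m₁ hfd) (hsupp g m₂ hgd)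
  have hc0 : c ≠ 0 := by
    rintro rfl
    rw [zero_smul] at hc
    exact hgne hc
  have hord : P'.ord g = P'.ord f := by
    rw [hc]
    unfold Place.ord
    rw [val_smul P' hc0]
  have e1 := congrArg (fun E : Divisor k KY => E P') hfd
  have e2 := congrArg (fun E : Divisor k KY => E P') hgd
  simp only [Finsupp.add_apply, div_apply hKY, Finsupp.single_eq_same,
    Finsupp.single_eq_of_ne hP'P, zero_add] at e1 e2
  have hm : m₁ = m₂ := by omega
  subst hm
  omega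

end Groth.Agent.Helper5.FF
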