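import Groth.Agent.Helper5.FFWeier
import Groth.Agent.Helper5.FFApprox

set_option autoImplicit false

namespace Groth.Agent.Helper5.Ex
open FunFld

variable {k K : Type*} [Field k] [Field K] [Algebra k K] (P : Place k K) (t : K)

open Classical in
/-- the constant congruent to `y` modulo the maximal ideal (junk if none) -/
noncomputable def cst (y : K) : k :=
  if h : ∃ c : k, P.1 (y - algebraMap k K c) < 1 then h.choose else 0

theorem cst_spec (hP : P.deg = 1) {y : K} (hy : P.1 y ≤ 1) :
    P.1 (y - algebraMap k K (cst P y)) < 1 := by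
  have h := FF.exists_const_of_deg_one P hP hy
  simp only [cst, dif_pos h]
  exact h.choose_spec

/-- the remainders of the `t`-adic expansion -/
noncomputable def rem (y : K) : ℕ → K
  | 0 => y
  | n + 1 => (rem y n - algebraMap k K (cst P (rem y n))) / t

/-- the digits of the `t`-adic expansion -/
noncomputable def dig (y : K) (n : ℕ) : k := cst P (rem P t y n)

/-- the `t`-adic expansion of `y` as a power series -/
noncomputable def Φ₀ (y : K) : PowerSeries k := PowerSeries.mk (dig P t y)

/-- evaluation at `t` of the truncation of a power series -/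
noncomputable def ev (N : ℕ) (f : PowerSeries k) : K :=
  Polynomial.aeval t (PowerSeries.trunc N f)

theorem ev_eq_sum (N : ℕ) (f : PowerSeries k) :
    ev t N f = ∑ i ∈ Finset.range N, algebraMap k K (PowerSeries.coeff i f) * t ^ i := by
  rw [ev, Polynomial.aeval_def, PowerSeries.eval₂_trunc_eq_sum_range]

theorem ev_succ (N : ℕ) (f : PowerSeries k) :
    ev t (N + 1) f = ev t N f + algebraMap k K (PowerSeries.coeff N f) * t ^ N := by
  rw [ev_eq_sum, ev_eq_sum, Finset.sum_range_succ]

theorem ev_zero (f : PowerSeries k) : ev t 0 f = 0 := by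
  rw [ev_eq_sum]; simp

theorem ev_add (N : ℕ) (f g : PowerSeries k) : ev t N (f + g) = ev t N f + ev t N g := by
  simp only [ev_eq_sum, map_add, add_mul, Finset.sum_add_distrib]

variable {t}

theorem val_aeval_le_one (ht : P.1 t ≤ 1) (p : Polynomial k) : P.1 (Polynomial.aeval t p) ≤ 1 := by
  rw [Polynomial.aeval_eq_sum_range]
  apply Valuation.map_sum_le
  intro i _
  rw [Algebra.smul_def, map_mul, map_pow]
  calc P.1 (algebraMap k K (p.coeff i)) * P.1 t ^ i ≤ 1 * 1 :=
        mul_le_mul' (P.2.1 _) (pow_le_one' ht i)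
    _ = 1 := one_mul 1

theorem val_t_pow (ht : P.1 t = WithZero.exp (-1 : ℤ)) (N : ℕ) :
    P.1 (t ^ N) = WithZero.exp (-(N : ℤ)) := by
  rw [map_pow, ht, ← WithZero.exp_nsmul]
  simp

theorem rem_le (hP : P.deg = 1) (ht : P.1 t = WithZero.exp (-1 : ℤ)) {y : K} (hy : P.1 y ≤ 1) :
    ∀ n, P.1 (rem P t y n) ≤ 1 := by
  intro n
  induction n with
  | zero => exact hy
  | succ n ih =>
    show P.1 ((rem P t y n - algebraMap k K (cst P (rem P t y n))) / t) ≤ 1
    rw [map_div₀, ht]
    have h1 := FF.le_exp_neg_one_of_lt_one (cst_spec P hP ih)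
    rw [div_le_iff₀ (by simp)]
    simpa using h1

theorem expand (ht0 : t ≠ 0) (y : K) (N : ℕ) :
    y = ev t N (Φ₀ P t y) + t ^ N * rem P t y N := by
  induction N with
  | zero => simp [ev_zero, rem]
  | succ N ih =>
    rw [ev_succ]
    have h1 : rem P t y (N + 1) = (rem P t y N - algebraMap k K (cst P (rem P t y N))) / t := rfl
    have h2 : PowerSeries.coeff N (Φ₀ P t y) = cst P (rem P t y N) := by
      simp [Φ₀, dig]
    rw [h1, h2]
    conv_lhs => rw [ih]
    field_simp
    ring

/-- `f` is the `t`-adic expansion of `y` -/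
def IsExp (y : K) (f : PowerSeries k) : Prop :=
  ∀ N : ℕ, P.1 (y - ev t N f) ≤ WithZero.exp (-(N : ℤ))

theorem isExp_Φ₀ (hP : P.deg = 1) (ht : P.1 t = WithZero.exp (-1 : ℤ)) {y : K} (hy : P.1 y ≤ 1) :
    IsExp P (t := t) y (Φ₀ P t y) := by
  intro N
  have ht0 : t ≠ 0 := by
    rintro rfl
    rw [map_zero] at ht
    exact WithZero.exp_ne_zero ht.symm
  have h1 : y - ev t N (Φ₀ P t y) = t ^ N * rem P t y N :=
    sub_eq_of_eq_add' (expand P ht0 y N)
  rw [h1, map_mul, val_t_pow P ht]
  calc WithZero.exp (-(N : ℤ)) * P.1 (rem P t y N) ≤ WithZero.exp (-(N : ℤ)) * 1 :=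
        mul_le_mul' le_rfl (rem_le P hP ht hy N)
    _ = _ := mul_one _

theorem isExp_unique (ht : P.1 t = WithZero.exp (-1 : ℤ)) {y : K} {f g : PowerSeries k}
    (hf : IsExp P (t := t) y f) (hg : IsExp P (t := t) y g) : f = g := by
  by_contra hne
  have hex : ∃ m, PowerSeries.coeff m f ≠ PowerSeries.coeff m g := by
    by_contra h
    push Not at h
    exact hne (PowerSeries.ext h)
  classical
  set m := Nat.find hex with hm
  have hmne : PowerSeries.coeff m f ≠ PowerSeries.coeff m g := Nat.find_spec hex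
  have hmin : ∀ i, i < m → PowerSeries.coeff i f = PowerSeries.coeff i g := by
    intro i hi
    by_contra h
    exact Nat.find_min hex hi h
  have h1 : ev t (m + 1) f - ev t (m + 1) g =
      algebraMap k K (PowerSeries.coeff m f - PowerSeries.coeff m g) * t ^ m := by
    rw [ev_succ, ev_succ]
    have : ev t m f = ev t m g := by
      rw [ev_eq_sum, ev_eq_sum]
      apply Finset.sum_congr rfl
      intro i hi
      rw [hmin i (Finset.mem_range.mp hi)]
    rw [this, map_sub]
    ring
  have h2 : P.1 (ev t (m + 1) f - ev t (m + 1) g) = WithZero.exp (-(m : ℤ)) := by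
    rw [h1, map_mul, val_t_pow P ht, FF.val_algebraMap P (sub_ne_zero.mpr hmne), one_mul]
  have h3 : ev t (m + 1) f - ev t (m + 1) g = (y - ev t (m + 1) g) - (y - ev t (m + 1) f) := by ring
  have h4 : P.1 (ev t (m + 1) f - ev t (m + 1) g) ≤ WithZero.exp (-((m + 1 : ℕ) : ℤ)) := by
    rw [h3]
    exact (Valuation.map_sub _ _ _).trans (max_le (hg (m + 1)) (hf (m + 1)))
  rw [h2, WithZero.exp_le_exp] at h4
  push_cast at h4
  omega

theorem isExp_add {y z : K} {f g : PowerSeries k}
    (hf : IsExp P (t := t) y f) (hg : IsExp P (t := t) z g) : IsExp P (t := t) (y + z) (f + g) := by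
  intro N
  have : y + z - ev t N (f + g) = (y - ev t N f) + (z - ev t N g) := by
    rw [ev_add]; ring
  rw [this]
  exact (Valuation.map_add _ _ _).trans (max_le (hf N) (hg N))

theorem ev_mul_sub (ht : P.1 t = WithZero.exp (-1 : ℤ)) (N : ℕ) (f g : PowerSeries k) :
    P.1 (ev t N f * ev t N g - ev t N (f * g)) ≤ WithZero.exp (-(N : ℤ)) := by
  have ht1 : P.1 t ≤ 1 := by rw [ht]; exact (WithZero.exp_le_exp.mpr (by norm_num)).trans_eq WithZero.exp_zero
  set q : Polynomial k := PowerSeries.trunc N f * PowerSeries.trunc N g - PowerSeries.trunc N (f * g)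
    with hq
  have h1 : ev t N f * ev t N g - ev t N (f * g) = Polynomial.aeval t q := by
    simp only [ev, hq, map_sub, map_mul]
  have h2 : Polynomial.X ^ N ∣ q := by
    rw [Polynomial.X_pow_dvd_iff]
    intro d hd
    rw [hq, Polynomial.coeff_sub, PowerSeries.coeff_trunc, if_pos hd,
      PowerSeries.coeff_mul_eq_coeff_trunc_mul_trunc f g hd, ← Polynomial.coe_mul,
      Polynomial.coeff_coe, sub_self]
  obtain ⟨q', hq'⟩ := h2
  rw [h1, hq', map_mul, map_pow, Polynomial.aeval_X, map_mul, val_t_pow P ht]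
  calc WithZero.exp (-(N : ℤ)) * P.1 (Polynomial.aeval t q') ≤ WithZero.exp (-(N : ℤ)) * 1 :=
        mul_le_mul' le_rfl (val_aeval_le_one P ht1 q')
    _ = _ := mul_one _

theorem isExp_mul (ht : P.1 t = WithZero.exp (-1 : ℤ)) {y z : K} {f g : PowerSeries k}
    (hz : P.1 z ≤ 1)
    (hf : IsExp P (t := t) y f) (hg : IsExp P (t := t) z g) : IsExp P (t := t) (y * z) (f * g) := by
  intro N
  have ht1 : P.1 t ≤ 1 := by rw [ht]; exact (WithZero.exp_le_exp.mpr (by norm_num)).trans_eq WithZero.exp_zero
  have e : y * z - ev t N (f * g) =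
      ((y - ev t N f) * z + ev t N f * (z - ev t N g)) + (ev t N f * ev t N g - ev t N (f * g)) := by
    ring
  rw [e]
  refine (Valuation.map_add _ _ _).trans (max_le ((Valuation.map_add _ _ _).trans (max_le ?_ ?_))
    (ev_mul_sub P ht N f g))
  · rw [map_mul]
    calc P.1 (y - ev t N f) * P.1 z ≤ WithZero.exp (-(N : ℤ)) * 1 := mul_le_mul' (hf N) hz
      _ = _ := mul_one _
  · rw [map_mul]
    calc P.1 (ev t N f) * P.1 (z - ev t N g) ≤ 1 * WithZero.exp (-(N : ℤ)) :=
          mul_le_mul' (val_aeval_le_one P ht1 _) (hg N)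
      _ = _ := one_mul _

theorem isExp_algebraMap (c : k) : IsExp P (t := t) (algebraMap k K c) (PowerSeries.C c) := by
  intro N
  cases N with
  | zero =>
    rw [ev_zero, sub_zero]
    simpa using P.2.1 c
  | succ N =>
    have : ev t (N + 1) (PowerSeries.C c : PowerSeries k) = algebraMap k K c := by
      rw [ev, PowerSeries.trunc_C, Polynomial.aeval_C]
    rw [this, sub_self, map_zero]
    exact zero_le

theorem isExp_t (ht : P.1 t = WithZero.exp (-1 : ℤ)) : IsExp P (t := t) t (PowerSeries.X : PowerSeries k) := by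
  intro N
  rcases Nat.lt_or_ge N 2 with h | h
  · interval_cases N
    · rw [ev_zero, sub_zero, ht]
      exact WithZero.exp_le_exp.mpr (by norm_num)
    · rw [ev_eq_sum]
      simp [ht]
  · have : ev t N (PowerSeries.X : PowerSeries k) = t := by
      rw [ev, PowerSeries.trunc_X_of h, Polynomial.aeval_X]
    rw [this, sub_self, map_zero]
    exact zero_le

end Groth.Agent.Helper5.Ex
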