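import Mathlib
import Groth.Agent.Helper5.FFBasic
set_option autoImplicit false
open FunFld Polynomial
open scoped IntermediateField

namespace Groth.Agent.Helper5.FF

variable {k K : Type*} [Field k] [Field K] [Algebra k K]

/-- a squarefree polynomial of positive degree is not a constant times a square in `k(X)` -/
theorem ratFunc_sq_mul_ne (f : k[X]) (hf : Squarefree f) (hd : 1 ≤ f.natDegree) (b : RatFunc k)
    (c : k) (h : b ^ 2 * algebraMap k[X] (RatFunc k) f = RatFunc.C c) : b = 0 := by
  by_contra hb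
  have hf0 : f ≠ 0 := by rintro rfl; simp at hd
  have hd0 : b.denom ≠ 0 := RatFunc.denom_ne_zero b
  have hn0 : b.num ≠ 0 := RatFunc.num_ne_zero hb
  have hdK : algebraMap k[X] (RatFunc k) b.denom ≠ 0 := by
    rwa [Ne, map_eq_zero_iff _ (RatFunc.algebraMap_injective k)]
  -- n^2 f = c d^2
  have hpoly : b.num ^ 2 * f = Polynomial.C c * b.denom ^ 2 := by
    apply RatFunc.algebraMap_injective k
    rw [map_mul, map_mul, map_pow, map_pow]
    have hb' := RatFunc.num_div_denom b
    have h1 : algebraMap k[X] (RatFunc k) b.num = b * algebraMap k[X] (RatFunc k) b.denom := by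
      exact ((div_eq_iff hdK).mp hb')
    rw [h1, mul_pow, mul_assoc, mul_comm (algebraMap k[X] (RatFunc k) b.denom ^ 2), ← mul_assoc, h]
    rfl
  have hc0 : c ≠ 0 := by
    rintro rfl
    rw [map_zero, zero_mul] at hpoly
    exact mul_ne_zero (pow_ne_zero 2 hn0) hf0 hpoly
  have hcop : IsCoprime b.num b.denom := RatFunc.isCoprime_num_denom b
  have hdvd : b.num ∣ Polynomial.C c * b.denom ^ 2 := ⟨b.num * f, by rw [← hpoly]; ring⟩
  have hdvd2 : b.num ∣ Polynomial.C c := (hcop.pow_right (n := 2)).dvd_of_dvd_mul_right hdvd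
  have hunit : IsUnit b.num := isUnit_of_dvd_unit hdvd2 (Polynomial.isUnit_C.mpr (isUnit_iff_ne_zero.mpr hc0))
  obtain ⟨u, hu⟩ := hunit
  have hf_eq : f = Polynomial.C c * ((↑u⁻¹ : k[X]) ^ 2) * (b.denom * b.denom) := by
    have : (↑u : k[X]) ^ 2 * f = Polynomial.C c * b.denom ^ 2 := by rw [hu]; exact hpoly
    calc f = ((↑u⁻¹ : k[X]) ^ 2 * (↑u : k[X]) ^ 2) * f := by
          rw [← mul_pow, Units.inv_mul, one_pow, one_mul]
      _ = (↑u⁻¹ : k[X]) ^ 2 * ((↑u : k[X]) ^ 2 * f) := by ring
      _ = _ := by rw [this]; ring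
  have hsq : b.denom * b.denom ∣ f := ⟨Polynomial.C c * ((↑u⁻¹ : k[X]) ^ 2), by rw [hf_eq]; ring⟩
  have hdu : IsUnit b.denom := hf _ hsq
  have hdeg_d : b.denom.natDegree = 0 := Polynomial.natDegree_eq_zero_of_isUnit hdu
  have hdeg_f : f.natDegree = 0 := by
    rw [hf_eq]
    have h1 : (Polynomial.C c * ((↑u⁻¹ : k[X]) ^ 2)).natDegree = 0 := by
      apply Polynomial.natDegree_eq_zero_of_isUnit
      exact (Polynomial.isUnit_C.mpr (isUnit_iff_ne_zero.mpr hc0)).mul ((Units.isUnit _).pow 2)
    have := Polynomial.natDegree_mul_le (p := Polynomial.C c * ((↑u⁻¹ : k[X]) ^ 2)) (q := b.denom * b.denom)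
    have h2 := Polynomial.natDegree_mul_le (p := b.denom) (q := b.denom)
    omega
  omega

theorem isFunctionField_hyperelliptic (h2 : ringChar k ≠ 2) (x y : K) (hx : Transcendental k x)
    (hxy : IntermediateField.adjoin k ({x, y} : Set K) = ⊤)
    (f : k[X]) (hf : Squarefree f) (hd : 1 ≤ f.natDegree) (heq : y ^ 2 = aeval x f) :
    IsFunctionField k K := by
  set F : IntermediateField k K := k⟮x⟯ with hF
  let e : RatFunc k ≃ₐ[k] F := RatFunc.algEquivOfTranscendental x hx
  set φF : F := aeval (IntermediateField.AdjoinSimple.gen k x) f with hφF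
  have hφK : (φF : K) = aeval x f := IntermediateField.AdjoinSimple.coe_aeval_gen_apply k x f
  have h20 : (2 : k) ≠ 0 := Ring.two_ne_zero h2
  -- `k` is algebraically closed in `F`
  have hclosed : ∀ w : F, IsAlgebraic k w → ∃ c : k, w = algebraMap k F c := by
    intro w hw
    have hw' : IsAlgebraic k (e.symm w) :=
      (isAlgebraic_algHom_iff (e.symm : F →ₐ[k] RatFunc k) e.symm.injective).mpr hw
    by_contra hcon
    have hne : ¬ ∃ c, e.symm w = RatFunc.C c := by
      rintro ⟨c, hc⟩
      apply hcon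
      refine ⟨c, ?_⟩
      have := congrArg e hc
      rw [e.apply_symm_apply] at this
      rw [this]
      exact e.commutes c
    exact RatFunc.transcendental_of_ne_C _ hne hw'
  have hclosedK : ∀ w : F, IsAlgebraic k (w : K) → ∃ c : k, (w : K) = algebraMap k K c := by
    intro w hw
    have hw' : IsAlgebraic k w :=
      (isAlgebraic_algHom_iff F.val F.val.injective).mp hw
    obtain ⟨c, hc⟩ := hclosed w hw'
    exact ⟨c, by rw [hc]; rfl⟩
  -- `K = F(y)`
  have htop : F⟮y⟯ = ⊤ := by
    have h1 := IntermediateField.adjoin_adjoin_left k ({x} : Set K) ({y} : Set K)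
    have h3 : ({x} ∪ {y} : Set K) = {x, y} := rfl
    rw [h3, hxy] at h1
    rw [eq_top_iff]
    intro z _
    have : z ∈ (⊤ : IntermediateField k K) := trivial
    rw [← h1] at this
    exact this
  have hyint : IsIntegral F y := by
    refine ⟨X ^ 2 - C φF, monic_X_pow_sub_C _ (by norm_num), ?_⟩
    rw [eval₂_sub, eval₂_pow, eval₂_X, eval₂_C, heq, ← hφK]
    exact sub_self _
  have hyy : y * y = (φF : K) := by rw [← sq, heq, hφK]
  have hrep : ∀ z : K, ∃ a b : F, z = (a : K) + (b : K) * y := by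
    intro z
    have hz : z ∈ F⟮y⟯.toSubalgebra := by rw [htop]; trivial
    rw [IntermediateField.adjoin_simple_toSubalgebra_of_isAlgebraic hyint.isAlgebraic] at hz
    induction hz using Algebra.adjoin_induction with
    | mem u hu =>
      rw [Set.mem_singleton_iff] at hu
      subst hu
      exact ⟨0, 1, by simp⟩
    | algebraMap r => exact ⟨r, 0, by simp⟩
    | add u v _ _ hu hv =>
      obtain ⟨a, b, rfl⟩ := hu
      obtain ⟨c, d, rfl⟩ := hv
      exact ⟨a + c, b + d, by push_cast; ring⟩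
    | mul u v _ _ hu hv =>
      obtain ⟨a, b, rfl⟩ := hu
      obtain ⟨c, d, rfl⟩ := hv
      refine ⟨a * c + b * d * φF, a * d + b * c, ?_⟩
      push_cast
      linear_combination (b : K) * d * hyy
  have hfdF : FiniteDimensional F K := by
    have h1 : FiniteDimensional F F⟮y⟯ := IntermediateField.adjoin.finiteDimensional hyint
    rw [htop] at h1
    exact (IntermediateField.topEquiv (F := F) (E := K)).toLinearEquiv.finiteDimensional
  refine ⟨⟨x, hx, hfdF⟩, fun z hz => ?_⟩
  obtain ⟨a, b, hzab⟩ := hrep z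
  by_cases hb : b = 0
  · rw [hb] at hzab
    simp only [ZeroMemClass.coe_zero, zero_mul, add_zero] at hzab
    rw [hzab] at hz ⊢
    obtain ⟨c, hc⟩ := hclosedK a hz
    exact ⟨c, hc.symm⟩
  by_cases hyF : y ∈ F
  · have : z = ((a + b * ⟨y, hyF⟩ : F) : K) := by rw [hzab]; rfl
    rw [this] at hz ⊢
    obtain ⟨c, hc⟩ := hclosedK _ hz
    exact ⟨c, hc.symm⟩
  exfalso
  have hbK : (b : K) ≠ 0 := fun h => hb (Subtype.ext h)
  have hzF : z ∉ (algebraMap F K).range := by
    rintro ⟨w, hw⟩
    apply hyF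
    have : y = ((w - a) / b : F) := by
      push_cast
      rw [eq_div_iff hbK]
      have : (w : K) = z := hw
      rw [this, hzab]; ring
    rw [this]
    exact SetLike.coe_mem _
  have hzint : IsIntegral k z := hz.isIntegral
  have hzintF : IsIntegral F z := hzint.tower_top
  set p : F[X] := X ^ 2 - C (algebraMap k F 2 * a) * X + C (a ^ 2 - b ^ 2 * φF) with hp
  have hpmonic : p.Monic := by
    rw [hp]
    have : p = X ^ 2 + (-(C (algebraMap k F 2 * a) * X) + C (a ^ 2 - b ^ 2 * φF)) := by rw [hp]; ring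
    rw [← hp, this]
    apply Polynomial.monic_X_pow_add
    rw [show (2 : ℕ) = 1 + 1 from rfl]
    refine lt_of_le_of_lt (degree_add_le _ _) (max_lt ?_ ?_)
    · rw [degree_neg]
      exact lt_of_le_of_lt (degree_C_mul_X_le _) (by norm_num)
    · exact lt_of_le_of_lt degree_C_le (by norm_num)
  have hpdeg : p.natDegree = 2 := by
    have : p = X ^ 2 + (-(C (algebraMap k F 2 * a) * X) + C (a ^ 2 - b ^ 2 * φF)) := by rw [hp]; ring
    rw [this, natDegree_add_eq_left_of_degree_lt, natDegree_X_pow]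
    rw [degree_X_pow]
    refine lt_of_le_of_lt (degree_add_le _ _) (max_lt ?_ ?_)
    · rw [degree_neg]
      exact lt_of_le_of_lt (degree_C_mul_X_le _) (by norm_num)
    · exact lt_of_le_of_lt degree_C_le (by norm_num)
  have hpz : aeval z p = 0 := by
    rw [hp]
    simp only [map_add, map_sub, map_mul, map_pow, aeval_X, aeval_C]
    have hcoe : ∀ w : F, algebraMap F K w = (w : K) := fun _ => rfl
    simp only [hcoe]
    push_cast
    have h2K : algebraMap k K 2 = 2 := map_ofNat _ 2
    rw [h2K, hzab]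
    linear_combination (b : K) ^ 2 * hyy
  have hq : minpoly F z = p := by
    have hdvd : minpoly F z ∣ p := minpoly.dvd F z hpz
    have hdeg : 2 ≤ (minpoly F z).natDegree := (minpoly.two_le_natDegree_iff hzintF).mpr hzF
    exact (Polynomial.eq_of_monic_of_dvd_of_natDegree_le (minpoly.monic hzintF) hpmonic hdvd
      (by rw [hpdeg]; exact hdeg)).symm
  have hlift := integralClosure.mem_lifts_of_monic_of_dvd_map F (f := minpoly k z)
    (minpoly.monic hzint) (g := minpoly F z) (minpoly.monic hzintF)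
    (minpoly.dvd_map_of_isScalarTower k F z)
  rw [lifts_iff_coeff_lifts] at hlift
  have hcoeff : ∀ n, ∃ c : k, (minpoly F z).coeff n = algebraMap k F c := by
    intro n
    obtain ⟨w, hw⟩ := hlift n
    have hwint : IsIntegral k (w : F) := w.2
    rw [← hw]
    exact hclosed _ hwint.isAlgebraic
  rw [hq] at hcoeff
  obtain ⟨c1, hc1⟩ := hcoeff 1
  obtain ⟨c0, hc0⟩ := hcoeff 0
  have hp1 : p.coeff 1 = -(algebraMap k F 2 * a) := by
    rw [hp, coeff_add, coeff_sub, coeff_X_pow, coeff_C_mul_X, coeff_C]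
    norm_num
  have hp0 : p.coeff 0 = a ^ 2 - b ^ 2 * φF := by
    rw [hp, coeff_add, coeff_sub, coeff_X_pow, coeff_C_mul_X, coeff_C]
    norm_num
  rw [hp1] at hc1
  rw [hp0] at hc0
  have h2F : algebraMap k F 2 ≠ 0 := (map_ne_zero (algebraMap k F)).mpr h20
  have ha : a = algebraMap k F (-c1 / 2) := by
    rw [map_div₀, map_neg, ← hc1, eq_div_iff h2F]
    ring
  have hbφ : b ^ 2 * φF = algebraMap k F ((-c1 / 2) ^ 2 - c0) := by
    rw [map_sub, ← hc0, map_pow, ← ha]; ring
  -- transport to `RatFunc k`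
  have h3 := congrArg e.symm hbφ
  rw [map_mul, map_pow, hφF, RatFunc.algEquivOfTranscendental_symm_aeval, AlgEquiv.commutes] at h3
  have hb' := ratFunc_sq_mul_ne f hf hd (e.symm b) _ h3
  exact hb ((map_eq_zero_iff _ e.symm.injective).mp hb')

end Groth.Agent.Helper5.FF
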