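import Mathlib
import Groth.Agent.Helper5.FFRational
set_option autoImplicit false
open FunFld Polynomial
open scoped IntermediateField

namespace Groth.Agent.Helper5.FF

variable {k K : Type*} [Field k] [Field K] [Algebra k K]

/-- for `deg A ≥ 2g - 1`, the leading-coefficient map `L(A+P) → F_P` is surjective -/
theorem stepMap_surjective (hK : IsFunctionField k K) (A : Divisor k K)
    (hA : 2 * (genus k K : ℤ) - 1 ≤ A.deg) (P : Place k K) (t : K)
    (ht : P.1 t = WithZero.exp (-1 : ℤ)) :
    Function.Surjective (stepMap A P t ht) := by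
  have hFP := finiteDimensional_residueField hK P
  haveI := finiteDimensional_L hK A
  haveI := finiteDimensional_L hK (A + Finsupp.single P 1)
  set φ := stepMap A P t ht with hφ
  let ι : LinearMap.ker φ →ₗ[k] L A :=
    { toFun := fun x => ⟨x.1.1, (mem_ker_stepMap A P t ht x.1).mp x.2⟩
      map_add' := fun x y => rfl
      map_smul' := fun c x => rfl }
  have hι : Function.Injective ι := by
    intro x y h
    apply Subtype.ext; apply Subtype.ext
    exact congrArg (fun z : L A => z.1) h
  have h1 := LinearMap.finrank_range_add_finrank_ker φ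
  have h2 : Module.finrank k (LinearMap.ker φ) ≤ Module.finrank k (L A) :=
    LinearMap.finrank_le_finrank_of_injective hι
  have hd1 : (1 : ℤ) ≤ P.deg := by exact_mod_cast deg_pos_place hK P
  have e1 := ell_eq_of_deg_ge hK A hA
  have e2 := ell_eq_of_deg_ge hK (A + Finsupp.single P 1) (by
    rw [deg_add, deg_single]; omega)
  rw [deg_add, deg_single] at e2
  unfold ell at e1 e2
  have h3 : P.deg ≤ Module.finrank k (LinearMap.range φ) := by
    have : (P.deg : ℤ) ≤ Module.finrank k (LinearMap.range φ) := by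
      have h1' : (Module.finrank k (LinearMap.range φ) : ℤ) + Module.finrank k (LinearMap.ker φ) =
          Module.finrank k (L (A + Finsupp.single P 1)) := by exact_mod_cast h1
      have h2' : (Module.finrank k (LinearMap.ker φ) : ℤ) ≤ Module.finrank k (L A) := by
        exact_mod_cast h2
      omega
    exact_mod_cast this
  have h4 : LinearMap.range φ = ⊤ := by
    apply Submodule.eq_top_of_finrank_eq
    apply le_antisymm (Submodule.finrank_le _)
    exact h3
  exact LinearMap.range_eq_top.mp h4

theorem exists_sqrt_residue [PerfectField k] (h2 : ringChar k = 2) (hK : IsFunctionField k K)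
    (P : Place k K) (c : IsLocalRing.ResidueField P.O) :
    ∃ a : IsLocalRing.ResidueField P.O, a ^ 2 = c := by
  have hFP := finiteDimensional_residueField hK P
  have hFP' : @Module.Finite k (IsLocalRing.ResidueField P.O) _ _ (Algebra.toModule) := hFP
  haveI : Algebra.IsAlgebraic k (IsLocalRing.ResidueField P.O) := Algebra.IsAlgebraic.of_finite k _
  haveI : PerfectField (IsLocalRing.ResidueField P.O) := Algebra.IsAlgebraic.perfectField (K := k)
  haveI : CharP k 2 := ringChar.of_eq h2
  haveI : CharP (IsLocalRing.ResidueField P.O) 2 :=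
    charP_of_injective_algebraMap (algebraMap k (IsLocalRing.ResidueField P.O)).injective 2
  haveI : PerfectRing (IsLocalRing.ResidueField P.O) 2 := PerfectField.toPerfectRing 2
  obtain ⟨a, ha⟩ := surjective_frobenius (IsLocalRing.ResidueField P.O) 2 c
  exact ⟨a, ha⟩

/-- in characteristic two over a perfect constant field and in genus zero, a pole of even
order of `f` can be lowered by an Artin–Schreier substitution with no other poles -/
theorem exists_reduce_even_pole [PerfectField k] (h2 : ringChar k = 2) (hK : IsFunctionField k K)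
    (hg : genus k K = 0) (f : K) (P : Place k K) (m : ℕ) (hm : 1 ≤ m)
    (hf : P.1 f = WithZero.exp ((2 * m : ℕ) : ℤ)) :
    ∃ u : K, (∀ Q : Place k K, Q ≠ P → Q.1 u ≤ 1) ∧
      P.1 (f + u ^ 2 + u) < WithZero.exp ((2 * m : ℕ) : ℤ) := by
  classical
  haveI : CharP k 2 := ringChar.of_eq h2
  haveI : CharP K 2 := charP_of_injective_algebraMap (algebraMap k K).injective 2
  obtain ⟨t, ht⟩ := exists_uniformizer P
  have ht0 : t ≠ 0 := ne_zero_of_val_eq_exp P ht
  obtain ⟨A, hA_def⟩ : ∃ A : Divisor k K, A = Finsupp.single P ((m : ℤ) - 1) := ⟨_, rfl⟩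
  have hAP : A P + 1 = m := by rw [hA_def, Finsupp.single_eq_same]; ring
  have hAdeg : 2 * (genus k K : ℤ) - 1 ≤ A.deg := by
    rw [hg, hA_def, deg_single]
    have h1 : (0 : ℤ) ≤ (m : ℤ) - 1 := by
      have : (1 : ℤ) ≤ m := by exact_mod_cast hm
      omega
    have h2' : (0 : ℤ) ≤ ((m : ℤ) - 1) * P.deg := mul_nonneg h1 (Int.natCast_nonneg _)
    simp only [Nat.cast_zero, mul_zero, zero_sub]
    omega
  -- the leading coefficient of `f`
  have hcval : P.1 (t ^ (2 * m) * f) = 1 := by
    rw [map_mul, map_pow, ht, hf, ← WithZero.exp_nsmul, ← WithZero.exp_add, ← WithZero.exp_zero]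
    congr 1
    simp
  obtain ⟨a, ha⟩ := exists_sqrt_residue h2 hK P
    (IsLocalRing.residue P.O ⟨t ^ (2 * m) * f, le_of_eq hcval⟩)
  obtain ⟨u, hu⟩ := stepMap_surjective hK A hAdeg P t ht a
  have hu' : IsLocalRing.residue P.O ⟨t ^ (A P + 1) * u.1, step_val_le A P t ht u.1 u.2⟩ = a := hu
  have hres : IsLocalRing.residue P.O
      (⟨t ^ (A P + 1) * u.1, step_val_le A P t ht u.1 u.2⟩ ^ 2 -
        ⟨t ^ (2 * m) * f, le_of_eq hcval⟩) = 0 := by
    rw [map_sub, map_pow, hu', ha, sub_self]
  rw [residue_eq_zero_iff] at hres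
  have hcoe : ((⟨t ^ (A P + 1) * u.1, step_val_le A P t ht u.1 u.2⟩ ^ 2 -
        ⟨t ^ (2 * m) * f, le_of_eq hcval⟩ : P.O) : K) = t ^ (2 * m) * (u.1 ^ 2 + f) := by
    show (t ^ (A P + 1) * u.1) ^ 2 - t ^ (2 * m) * f = _
    rw [hAP, zpow_natCast, CharTwo.sub_eq_add]
    ring
  rw [hcoe, map_mul, map_pow, ht, ← WithZero.exp_nsmul] at hres
  have h1 : P.1 (u.1 ^ 2 + f) < WithZero.exp ((2 * m : ℕ) : ℤ) := by
    have h3 : (WithZero.exp ((2 * m) • (-1 : ℤ)) : WithZero (Multiplicative ℤ)) =
        (WithZero.exp ((2 * m : ℕ) : ℤ))⁻¹ := by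
      rw [← WithZero.exp_neg]; congr 1; simp
    rw [h3, inv_mul_lt_iff₀ WithZero.exp_pos, mul_one] at hres
    exact hres
  have hum := u.2 P
  rw [Finsupp.add_apply, Finsupp.single_eq_same, hAP] at hum
  have h4 : P.1 u.1 < WithZero.exp ((2 * m : ℕ) : ℤ) := by
    refine lt_of_le_of_lt hum ?_
    rw [WithZero.exp_lt_exp]
    push_cast
    have : (1 : ℤ) ≤ m := by exact_mod_cast hm
    omega
  refine ⟨u.1, fun Q hQ => ?_, ?_⟩
  · have hAQ : A Q = 0 := by rw [hA_def, Finsupp.single_eq_of_ne hQ]
    have := u.2 Q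
    rw [Finsupp.add_apply, hAQ, Finsupp.single_eq_of_ne hQ,
      add_zero, WithZero.exp_zero] at this
    exact this
  · have : f + u.1 ^ 2 + u.1 = (u.1 ^ 2 + f) + u.1 := by ring
    rw [this]
    exact lt_of_le_of_lt (P.1.map_add _ _) (max_lt h1 h4)

/-- the pole order of `f` at `Q` -/
noncomputable def pol (f : K) (Q : Place k K) : ℕ := (-(Q.ord f)).toNat

theorem pol_eq_zero_of_le {f : K} {Q : Place k K} (h : Q.1 f ≤ 1) : pol f Q = 0 := by
  unfold pol
  by_cases hf : f = 0
  · rw [hf, ord_zero]; rfl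
  · have := (ord_nonneg_iff Q hf).mpr h
    omega

theorem pol_congr {f f' : K} {Q : Place k K} (h : Q.1 f = Q.1 f') : pol f Q = pol f' Q := by
  unfold pol Place.ord
  rw [h]

theorem pol_lt {f f' : K} {Q : Place k K} (h1 : 1 < Q.1 f) (h2 : Q.1 f' < Q.1 f) :
    pol f' Q < pol f Q := by
  have hf : f ≠ 0 := by
    rintro rfl
    rw [map_zero] at h1
    exact not_lt_zero h1
  have hneg : Q.ord f < 0 := (ord_neg_iff Q hf).mpr h1
  by_cases hle : Q.1 f' ≤ 1
  · rw [pol_eq_zero_of_le hle]
    unfold pol
    omega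
  · rw [not_le] at hle
    have hf' : f' ≠ 0 := by
      rintro rfl
      rw [map_zero] at hle
      exact not_lt_zero hle
    rw [val_eq_exp_neg_ord Q hf, val_eq_exp_neg_ord Q hf', WithZero.exp_lt_exp] at h2
    unfold pol
    omega

variable (k) in
noncomputable def polSum (f : K) : ℕ := ∑ Q ∈ (FunFld.div k f).support, pol f Q

theorem polSum_eq (hK : IsFunctionField k K) (f : K) (S : Finset (Place k K))
    (hS : (FunFld.div k f).support ⊆ S) : polSum k f = ∑ Q ∈ S, pol f Q := by
  unfold polSum
  apply Finset.sum_subset hS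
  intro Q _ hQ
  rw [Finsupp.notMem_support_iff, div_apply hK] at hQ
  unfold pol
  rw [hQ]
  rfl

theorem exists_odd_poles [PerfectField k] (h2 : ringChar k = 2) (hK : IsFunctionField k K)
    (hg : genus k K = 0) (f : K) :
    ∃ u : K, ∀ P : Place k K, P.ord (f + u ^ 2 + u) < 0 → Odd (P.ord (f + u ^ 2 + u)) := by
  classical
  haveI : CharP k 2 := ringChar.of_eq h2
  haveI : CharP K 2 := charP_of_injective_algebraMap (algebraMap k K).injective 2
  induction hn : polSum k f using Nat.strong_induction_on generalizing f with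
  | _ n ih =>
    by_cases hall : ∀ P : Place k K, P.ord f < 0 → Odd (P.ord f)
    · refine ⟨0, fun P hP => ?_⟩
      have : f + 0 ^ 2 + 0 = f := by ring
      rw [this] at hP ⊢
      exact hall P hP
    · push_neg at hall
      obtain ⟨P, hPneg, hPodd⟩ := hall
      rw [Int.not_odd_iff_even] at hPodd
      obtain ⟨r, hr⟩ := hPodd
      have hf0 : f ≠ 0 := by
        rintro rfl
        rw [ord_zero] at hPneg
        exact lt_irrefl _ hPneg
      obtain ⟨m, hm⟩ : ∃ m : ℕ, (m : ℤ) = -r := ⟨(-r).toNat, by omega⟩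
      have hm1 : 1 ≤ m := by omega
      have hfval : P.1 f = WithZero.exp ((2 * m : ℕ) : ℤ) := by
        rw [val_eq_exp_neg_ord P hf0]
        congr 1
        push_cast
        omega
      obtain ⟨u₁, hu₁, hu₁P⟩ := exists_reduce_even_pole h2 hK hg f P m hm1 hfval
      have hlt : polSum k (f + u₁ ^ 2 + u₁) < polSum k f := by
        rw [polSum_eq hK f _ Finset.subset_union_left,
          polSum_eq hK (f + u₁ ^ 2 + u₁) _
            (Finset.subset_union_right (s₁ := (FunFld.div k f).support))]
        have h1P : 1 < P.1 f := (ord_neg_iff P hf0).mp hPneg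
        apply Finset.sum_lt_sum
        · intro Q _
          by_cases hQP : Q = P
          · subst hQP
            rw [← hfval] at hu₁P
            exact (pol_lt h1P hu₁P).le
          · have hu1 : Q.1 (u₁ ^ 2 + u₁) ≤ 1 := by
              refine (Q.1.map_add _ _).trans (max_le ?_ (hu₁ Q hQP))
              rw [map_pow]
              exact pow_le_one₀ zero_le (hu₁ Q hQP)
            have hsplit : f + u₁ ^ 2 + u₁ = f + (u₁ ^ 2 + u₁) := by ring
            by_cases hQf : Q.1 f ≤ 1
            · have : Q.1 (f + u₁ ^ 2 + u₁) ≤ 1 := by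
                rw [hsplit]
                exact (Q.1.map_add _ _).trans (max_le hQf hu1)
              rw [pol_eq_zero_of_le this]
              exact Nat.zero_le _
            · rw [not_le] at hQf
              have : Q.1 (f + u₁ ^ 2 + u₁) = Q.1 f := by
                rw [hsplit]
                exact Valuation.map_add_eq_of_lt_left _ (lt_of_le_of_lt hu1 hQf)
              rw [pol_congr this]
        · refine ⟨P, ?_, ?_⟩
          · apply Finset.mem_union_left
            rw [Finsupp.mem_support_iff, div_apply hK]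
            omega
          · rw [← hfval] at hu₁P
            exact pol_lt h1P hu₁P
      obtain ⟨u₂, hu₂⟩ := ih _ (hn ▸ hlt) (f + u₁ ^ 2 + u₁) rfl
      refine ⟨u₁ + u₂, ?_⟩
      have : f + (u₁ + u₂) ^ 2 + (u₁ + u₂) = f + u₁ ^ 2 + u₁ + u₂ ^ 2 + u₂ := by
        rw [CharTwo.add_sq]; ring
      rw [this]
      exact hu₂

end Groth.Agent.Helper5.FF
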