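import Mathlib
import Groth.Agent.Helper5.FFOrd
set_option autoImplicit false
open FunFld Polynomial
open scoped IntermediateField

namespace Groth.Agent.Helper5.FF

variable {k : Type*} [Field k]

theorem isFunctionField_ratFunc : IsFunctionField k (RatFunc k) := by
  have hX : Transcendental k (RatFunc.X : RatFunc k) := by
    apply RatFunc.transcendental_of_ne_C
    rintro ⟨c, hc⟩
    have h1 := congrArg RatFunc.num hc
    rw [RatFunc.num_X, RatFunc.num_C] at h1
    have h2 := congrArg Polynomial.natDegree h1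
    simp at h2
  refine ⟨⟨RatFunc.X, hX, ?_⟩, ?_⟩
  · apply Module.finite_of_finrank_pos
    rw [RatFunc.adjoin_X, IntermediateField.finrank_top]
    exact one_pos
  · intro y hy
    by_contra hcon
    apply RatFunc.transcendental_of_ne_C y _ hy
    rintro ⟨c, rfl⟩
    exact hcon ⟨c, by rw [RatFunc.algebraMap_eq_C]⟩

/-- at a place where the irreducible polynomial `p` vanishes, every polynomial is integral -/
theorem val_polynomial_le_one (P : Place k (RatFunc k)) {p : k[X]} (hp0 : p ≠ 0)
    (hp : P.1 (algebraMap k[X] (RatFunc k) p) < 1) (g : k[X]) :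
    P.1 (algebraMap k[X] (RatFunc k) g) ≤ 1 := by
  have hX : P.1 (RatFunc.X : RatFunc k) ≤ 1 := by
    by_contra hlt
    rw [not_le] at hlt
    -- then `p(X)⁻¹ ...`; use that `X⁻¹` has valuation `< 1`
    have hXinv : P.1 (RatFunc.X : RatFunc k)⁻¹ < 1 := by
      rw [map_inv₀]
      exact inv_lt_one_of_one_lt₀ hlt
    -- p(X) / X^n = reverse p evaluated at X⁻¹, which has valuation 1
    set n := p.natDegree with hn
    have hrev : algebraMap k[X] (RatFunc k) p = RatFunc.X ^ n * aeval (RatFunc.X : RatFunc k)⁻¹ p.reverse := by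
      have hX0 : (RatFunc.X : RatFunc k) ≠ 0 := RatFunc.X_ne_zero
      letI := invertibleOfNonzero hX0
      have h1 := Polynomial.eval₂_reverse_mul_pow (algebraMap k (RatFunc k))
        (RatFunc.X : RatFunc k) p
      rw [invOf_eq_inv] at h1
      have h2 : algebraMap k[X] (RatFunc k) p = eval₂ (algebraMap k (RatFunc k)) RatFunc.X p := by
        rw [← RatFunc.algebraMap_X, ← aeval_def, aeval_algebraMap_apply, aeval_X_left_apply]
      rw [h2, ← h1, aeval_def, mul_comm]
    have hcoeff : p.reverse.coeff 0 ≠ 0 := by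
      rw [Polynomial.coeff_zero_reverse]
      exact leadingCoeff_ne_zero.mpr hp0
    have hval : P.1 (aeval (RatFunc.X : RatFunc k)⁻¹ p.reverse) = 1 :=
      val_aeval_eq_one P hXinv hcoeff
    rw [hrev, map_mul, map_pow, hval, mul_one] at hp
    exact absurd hp (not_lt.mpr (one_le_pow₀ hlt.le))
  have : algebraMap k[X] (RatFunc k) g = aeval (RatFunc.X : RatFunc k) g := by
    rw [← RatFunc.algebraMap_X, aeval_algebraMap_apply, aeval_X_left_apply]
  rw [this]
  exact val_aeval_le P hX g

theorem val_eq_one_of_isCoprime (P : Place k (RatFunc k)) {p : k[X]} (hp0 : p ≠ 0)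
    (hp : P.1 (algebraMap k[X] (RatFunc k) p) < 1) {h : k[X]} (hc : IsCoprime p h) :
    P.1 (algebraMap k[X] (RatFunc k) h) = 1 := by
  obtain ⟨a, b, hab⟩ := hc
  have h1 : P.1 (algebraMap k[X] (RatFunc k) (a * p)) < 1 := by
    rw [map_mul, map_mul]
    calc P.1 (algebraMap k[X] (RatFunc k) a) * P.1 (algebraMap k[X] (RatFunc k) p)
        ≤ 1 * P.1 (algebraMap k[X] (RatFunc k) p) :=
          mul_le_mul' (val_polynomial_le_one P hp0 hp a) le_rfl
      _ < 1 := by rw [one_mul]; exact hp
  have h2 : P.1 (algebraMap k[X] (RatFunc k) (b * h)) = 1 := by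
    have : algebraMap k[X] (RatFunc k) (b * h) = 1 - algebraMap k[X] (RatFunc k) (a * p) := by
      rw [← map_one (algebraMap k[X] (RatFunc k)), ← hab, map_add]; ring
    rw [this, Valuation.map_sub_eq_of_lt_left _ (by rwa [map_one]), map_one]
  rw [map_mul, map_mul] at h2
  apply le_antisymm (val_polynomial_le_one P hp0 hp h)
  by_contra hlt
  rw [not_le] at hlt
  have : P.1 (algebraMap k[X] (RatFunc k) b) * P.1 (algebraMap k[X] (RatFunc k) h) < 1 := by
    calc P.1 (algebraMap k[X] (RatFunc k) b) * P.1 (algebraMap k[X] (RatFunc k) h)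
        ≤ 1 * P.1 (algebraMap k[X] (RatFunc k) h) :=
          mul_le_mul' (val_polynomial_le_one P hp0 hp b) le_rfl
      _ < 1 := by rw [one_mul]; exact hlt
  rw [h2] at this
  exact lt_irrefl _ this

theorem val_irreducible_eq (P : Place k (RatFunc k)) {p : k[X]} (hirr : Irreducible p)
    (hp : P.1 (algebraMap k[X] (RatFunc k) p) < 1) :
    P.1 (algebraMap k[X] (RatFunc k) p) = WithZero.exp (-1 : ℤ) := by
  have hp0 : p ≠ 0 := hirr.ne_zero
  have hpK : algebraMap k[X] (RatFunc k) p ≠ 0 := by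
    rwa [Ne, map_eq_zero_iff _ (RatFunc.algebraMap_injective k)]
  obtain ⟨c, hc_def⟩ : ∃ c : ℤ, c = P.ord (algebraMap k[X] (RatFunc k) p) := ⟨_, rfl⟩
  have hc : 0 < c := by rw [hc_def]; exact (ord_pos_iff P hpK).mpr hp
  have hpoly : ∀ g : k[X], g ≠ 0 → c ∣ P.ord (algebraMap k[X] (RatFunc k) g) := by
    intro g hg
    obtain ⟨n, u, hu, rfl⟩ := WfDvdMonoid.max_power_factor hg hirr
    have hcop : IsCoprime p u := (Irreducible.coprime_iff_not_dvd hirr).mpr hu
    have hu1 := val_eq_one_of_isCoprime P hp0 hp hcop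
    have hu0 : algebraMap k[X] (RatFunc k) u ≠ 0 := by
      intro h0; rw [h0, map_zero] at hu1; exact zero_ne_one hu1
    rw [map_mul, map_pow, ord_mul P (pow_ne_zero n hpK) hu0, ord_pow, ← hc_def,
      ord_eq_of_val_eq P (n := 0) (by rw [hu1, WithZero.exp_zero])]
    simp
  obtain ⟨t, ht⟩ := exists_uniformizer P
  have ht0 : t ≠ 0 := ne_zero_of_val_eq_exp P ht
  have hnum0 : t.num ≠ 0 := RatFunc.num_ne_zero ht0
  have hden0 : t.denom ≠ 0 := RatFunc.denom_ne_zero t
  have hnumK : algebraMap k[X] (RatFunc k) t.num ≠ 0 := by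
    rwa [Ne, map_eq_zero_iff _ (RatFunc.algebraMap_injective k)]
  have hdenK : algebraMap k[X] (RatFunc k) t.denom ≠ 0 := by
    rwa [Ne, map_eq_zero_iff _ (RatFunc.algebraMap_injective k)]
  have h1 : P.ord t = 1 := by rw [ord_eq_of_val_eq P ht]; norm_num
  have h2 : P.ord t = P.ord (algebraMap k[X] (RatFunc k) t.num) -
      P.ord (algebraMap k[X] (RatFunc k) t.denom) := by
    conv_lhs => rw [← RatFunc.num_div_denom t]
    rw [div_eq_mul_inv, ord_mul P hnumK (inv_ne_zero hdenK), ord_inv]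
    ring
  have h3 : c ∣ 1 := by
    rw [← h1, h2]
    exact dvd_sub (hpoly _ hnum0) (hpoly _ hden0)
  have hc1 : c = 1 := by
    rcases Int.isUnit_iff.mp (isUnit_of_dvd_one h3) with h | h
    · exact h
    · omega
  rw [val_eq_exp_neg_ord P hpK, ← hc_def, hc1]

end Groth.Agent.Helper5.FF
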