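import Mathlib
import Groth.Agent.Helper5.FFKp2
set_option autoImplicit false
open FunFld Polynomial
open scoped IntermediateField

namespace Groth.Agent.Helper5.FF

universe u v
variable {k : Type u} {K : Type v} [Field k] [Field K] [Algebra k K]

theorem exists_separating_mem (hK : IsFunctionField k K) (hg : IsGeometric k K) (W : Submodule k K)
    (hW : IntermediateField.adjoin k (W : Set K) = ⊤) :
    ∃ x ∈ W, Algebra.IsSeparable (IntermediateField.adjoin k ({x} : Set K)) K := by
  by_contra hcon
  push Not at hcon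
  have hD : ∀ x ∈ W, KaehlerDifferential.D k K x = 0 := by
    intro x hx
    by_contra hne
    exact hcon x hx (isSeparable_of_D_ne_zero hK hg hne)
  have hle : IntermediateField.adjoin k (W : Set K) ≤ constField k K := by
    rw [IntermediateField.adjoin_le_iff]
    intro x hx
    exact hD x hx
  rw [hW] at hle
  have hall : ∀ z : K, KaehlerDifferential.D k K z = 0 := fun z => hle trivial
  have hspan := KaehlerDifferential.span_range_derivation k K
  have hbot : (⊤ : Submodule K (Ω[K⁄k])) = ⊥ := by
    rw [← hspan, Submodule.span_eq_bot]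
    rintro _ ⟨z, rfl⟩
    exact hall z
  have h1 := finrank_kaehler_eq_one hK hg
  have h2 : Module.finrank K (Ω[K⁄k]) = 0 := by
    rw [← finrank_top K (Ω[K⁄k]), hbot, finrank_bot]
  omega

theorem exists_generator_mem [Infinite k] (W : Submodule k K) [FiniteDimensional k W]
    (hW : IntermediateField.adjoin k (W : Set K) = ⊤) (x : K)
    (hfd : FiniteDimensional (IntermediateField.adjoin k ({x} : Set K)) K)
    (hsep : Algebra.IsSeparable (IntermediateField.adjoin k ({x} : Set K)) K) :
    ∃ y ∈ W, IntermediateField.adjoin k ({x, y} : Set K) = ⊤ := by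
  classical
  have hprim := Field.exists_primitive_element k⟮x⟯ K
  haveI hfin : Finite (IntermediateField k⟮x⟯ K) :=
    Field.finite_intermediateField_of_exists_primitive_element k⟮x⟯ K hprim
  haveI : Fintype (IntermediateField k⟮x⟯ K) := Fintype.ofFinite _
  let p : IntermediateField k⟮x⟯ K → Submodule k W := fun E =>
    Submodule.comap W.subtype (Subalgebra.toSubmodule (E.restrictScalars k).toSubalgebra)
  let s : Finset (Submodule k W) := (Finset.univ.filter fun E : IntermediateField k⟮x⟯ K => E ≠ ⊤).image p
  have hs : (⊤ : Submodule k W) ∉ s := by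
    intro hmem
    obtain ⟨E, hE, hpE⟩ := Finset.mem_image.mp hmem
    have hEne : E ≠ ⊤ := (Finset.mem_filter.mp hE).2
    apply hEne
    have hWE : (W : Set K) ⊆ (E.restrictScalars k : Set K) := by
      intro w hw
      have : (⟨w, hw⟩ : W) ∈ p E := by rw [hpE]; trivial
      exact this
    have h1 : IntermediateField.adjoin k (W : Set K) ≤ E.restrictScalars k :=
      IntermediateField.adjoin_le_iff.mpr hWE
    rw [hW] at h1
    rw [eq_top_iff]
    intro z _
    exact h1 trivial
  have hne := Subspace.biUnion_ne_univ_of_top_notMem hs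
  obtain ⟨w, hw⟩ : ∃ w : W, w ∉ ⋃ q ∈ s, (q : Set W) := by
    by_contra hcon
    push Not at hcon
    exact hne (Set.eq_univ_of_forall hcon)
  refine ⟨w.1, w.2, ?_⟩
  have htop : (k⟮x⟯)⟮(w : K)⟯ = ⊤ := by
    by_contra hEne
    apply hw
    simp only [Set.mem_iUnion, SetLike.mem_coe, exists_prop]
    refine ⟨p ((k⟮x⟯)⟮(w : K)⟯), Finset.mem_image.mpr ⟨_, Finset.mem_filter.mpr ⟨Finset.mem_univ _, hEne⟩, rfl⟩, ?_⟩
    show (w : K) ∈ (k⟮x⟯)⟮(w : K)⟯
    exact IntermediateField.mem_adjoin_simple_self _ _
  have h2 := IntermediateField.adjoin_adjoin_left k ({x} : Set K) ({(w : K)} : Set K)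
  rw [htop] at h2
  rw [eq_top_iff]
  intro z _
  have : z ∈ (⊤ : IntermediateField k⟮x⟯ K).restrictScalars k := trivial
  rw [h2] at this
  convert this using 2
  ext a
  simp [or_comm]

end Groth.Agent.Helper5.FF
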