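import Mathlib
import Groth.Agent.Helper5.FFRR
set_option autoImplicit false
open FunFld Polynomial
open scoped IntermediateField

namespace Groth.Agent.Helper5.FF

variable {k K : Type*} [Field k] [Field K] [Algebra k K]

theorem strong_approx_le (hK : IsFunctionField k K) (Pinf : Place k K) (n : ℕ)
    (P : Fin n → Place k K) (hP : Function.Injective P)
    (hinf : Pinf ∉ Set.range P) (x : Fin n → K) (r : Fin n → ℤ) :
    ∃ z : K, (∀ i, (P i).1 (z - x i) ≤ WithZero.exp (-(r i))) ∧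
      ∀ Q : Place k K, Q ≠ Pinf → Q ∉ Set.range P → Q.1 z ≤ 1 := by
  classical
  obtain ⟨-, N, hN⟩ := riemann_inequality hK
  have hPinf : (1 : ℤ) ≤ Pinf.deg := by exact_mod_cast deg_pos_place hK Pinf
  obtain ⟨S, hS⟩ : ∃ S : Divisor k K, S = ∑ j, Finsupp.single (P j) (r j) := ⟨_, rfl⟩
  obtain ⟨M, hM⟩ : ∃ M : ℕ, (M : ℤ) = max 0 (N + S.deg) :=
    ⟨(max 0 (N + S.deg)).toNat, Int.toNat_of_nonneg (le_max_left _ _)⟩
  obtain ⟨D, hD_def⟩ : ∃ D : Divisor k K, D = Finsupp.single Pinf (M : ℤ) - S := ⟨_, rfl⟩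
  have hDdeg : N ≤ D.deg := by
    rw [hD_def, deg_sub, deg_single]
    have : (M : ℤ) * 1 ≤ (M : ℤ) * Pinf.deg := mul_le_mul_of_nonneg_left hPinf (by omega)
    have := le_max_right 0 (N + S.deg)
    omega
  have hdelta : delta D = genus k K := hN D hDdeg
  have hSP : ∀ i, S (P i) = r i := by
    intro i
    rw [hS, Finsupp.finsetSum_apply, Finset.sum_eq_single i]
    · rw [Finsupp.single_eq_same]
    · intro j _ hji
      exact Finsupp.single_eq_of_ne (fun h => hji (hP h).symm)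
    · intro h; exact absurd (Finset.mem_univ i) h
  have hSQ : ∀ Q : Place k K, Q ∉ Set.range P → S Q = 0 := by
    intro Q hQ
    rw [hS, Finsupp.finsetSum_apply]
    apply Finset.sum_eq_zero
    intro j _
    exact Finsupp.single_eq_of_ne (fun h => hQ ⟨j, h.symm⟩)
  have hDP : ∀ i, D (P i) = -(r i) := by
    intro i
    rw [hD_def, Finsupp.sub_apply, hSP,
      Finsupp.single_eq_of_ne (fun h => hinf ⟨i, h⟩)]
    ring
  have hDQ : ∀ Q : Place k K, Q ≠ Pinf → Q ∉ Set.range P → D Q = 0 := by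
    intro Q hQ1 hQ2
    rw [hD_def, Finsupp.sub_apply, hSQ Q hQ2, Finsupp.single_eq_of_ne hQ1]
    ring
  -- the adele
  let a : Place k K → K := fun Q => if h : ∃ i, P i = Q then x h.choose else 0
  have haP : ∀ i, a (P i) = x i := by
    intro i
    have h : ∃ j, P j = P i := ⟨i, rfl⟩
    simp only [a, dif_pos h]
    congr 1
    exact hP h.choose_spec
  have haQ : ∀ Q : Place k K, Q ∉ Set.range P → a Q = 0 := by
    intro Q hQ
    have h : ¬ ∃ j, P j = Q := fun ⟨j, hj⟩ => hQ ⟨j, hj⟩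
    simp only [a, dif_neg h]
  have ha : a ∈ adele k K := by
    rw [mem_adele_iff]
    apply (Set.finite_range P).subset
    intro Q hQ
    by_contra hQr
    apply hQ
    rw [haQ Q hQr, map_zero]
    exact zero_le
  rw [adele_eq hK hdelta] at ha
  obtain ⟨b, hb, c, ⟨z, rfl⟩, hbc⟩ := Submodule.mem_sup.mp ha
  have hbz : ∀ Q, b Q = a Q - z := by
    intro Q
    have := congrFun hbc Q
    rw [Pi.add_apply, diag_apply] at this
    rw [← this]; ring
  refine ⟨z, fun i => ?_, fun Q hQ1 hQ2 => ?_⟩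
  · have := hb (P i)
    rw [hbz, haP, hDP] at this
    rwa [Valuation.map_sub_swap]
  · have := hb Q
    rw [hbz, haQ Q hQ2, hDQ Q hQ1 hQ2, zero_sub, Valuation.map_neg, WithZero.exp_zero] at this
    exact this

theorem strong_approximation (hK : IsFunctionField k K) (Pinf : Place k K) (n : ℕ)
    (P : Fin n → Place k K) (hP : Function.Injective P)
    (hinf : Pinf ∉ Set.range P) (x : Fin n → K) (m : Fin n → ℤ) :
    ∃ y : K, (∀ i, (P i).1 (y - x i) = WithZero.exp (-(m i))) ∧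
      ∀ Q : Place k K, Q ≠ Pinf → Q ∉ Set.range P → Q.1 y ≤ 1 := by
  choose y₀ hy₀ using fun i => exists_val_eq (P i) (-(m i))
  obtain ⟨z₁, hz₁, hz₁'⟩ := strong_approx_le hK Pinf n P hP hinf x (fun i => m i + 1)
  obtain ⟨z₂, hz₂, hz₂'⟩ := strong_approx_le hK Pinf n P hP hinf y₀ (fun i => m i + 1)
  have hlt : ∀ i, (WithZero.exp (-(m i + 1)) : WithZero (Multiplicative ℤ)) < WithZero.exp (-(m i)) := by
    intro i; rw [WithZero.exp_lt_exp]; omega
  have hz₂v : ∀ i, (P i).1 z₂ = WithZero.exp (-(m i)) := by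
    intro i
    have : z₂ = y₀ i + (z₂ - y₀ i) := by ring
    rw [this, Valuation.map_add_eq_of_lt_left _ (by rw [hy₀]; exact (hz₂ i).trans_lt (hlt i)), hy₀]
  refine ⟨z₁ + z₂, fun i => ?_, fun Q hQ1 hQ2 => ?_⟩
  · have : z₁ + z₂ - x i = (z₁ - x i) + z₂ := by ring
    rw [this, Valuation.map_add_eq_of_lt_right _ (by rw [hz₂v]; exact (hz₁ i).trans_lt (hlt i)), hz₂v]
  · exact Valuation.map_add_le _ (hz₁' Q hQ1 hQ2) (hz₂' Q hQ1 hQ2)

end Groth.Agent.Helper5.FF
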