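import Mathlib
import Groth.Agent.Helper5.FFProj6
set_option autoImplicit false
open FunFld
open scoped IntermediateField

namespace Groth.Agent.Helper5.FF

variable {k K : Type*} [Field k] [Field K] [Algebra k K]

/-- first order Taylor expansion modulo `m_P ^ 2` -/
theorem taylor_one {σ : Type*} [Fintype σ] (P : Place k K) (α : σ → k) (v : σ → K)
    (hv : ∀ i, P.1 (v i) ≤ WithZero.exp (-1 : ℤ)) (g : MvPolynomial σ k) :
    P.1 (MvPolynomial.aeval (fun i => algebraMap k K (α i) + v i) g
      - algebraMap k K (MvPolynomial.eval α g)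
      - ∑ i, algebraMap k K (MvPolynomial.eval α (MvPolynomial.pderiv i g)) * v i)
      ≤ WithZero.exp (-2 : ℤ) := by
  classical
  have hk : ∀ c : k, P.1 (algebraMap k K c) ≤ 1 := P.2.1
  have hv1 : ∀ i, P.1 (v i) ≤ 1 := fun i => (hv i).trans exp_neg_one_lt_one.le
  induction g using MvPolynomial.induction_on with
  | C a => simp
  | add p q hp hq =>
    have : MvPolynomial.aeval (fun i => algebraMap k K (α i) + v i) (p + q)
      - algebraMap k K (MvPolynomial.eval α (p + q))
      - ∑ i, algebraMap k K (MvPolynomial.eval α (MvPolynomial.pderiv i (p + q))) * v i =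
      (MvPolynomial.aeval (fun i => algebraMap k K (α i) + v i) p
      - algebraMap k K (MvPolynomial.eval α p)
      - ∑ i, algebraMap k K (MvPolynomial.eval α (MvPolynomial.pderiv i p)) * v i) +
      (MvPolynomial.aeval (fun i => algebraMap k K (α i) + v i) q
      - algebraMap k K (MvPolynomial.eval α q)
      - ∑ i, algebraMap k K (MvPolynomial.eval α (MvPolynomial.pderiv i q)) * v i) := by
      simp only [map_add, add_mul, Finset.sum_add_distrib]
      ring
    rw [this]
    exact (P.1.map_add _ _).trans (max_le hp hq)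
  | mul_X p n hp =>
    set A := MvPolynomial.aeval (fun i => algebraMap k K (α i) + v i) p with hA
    set B := algebraMap k K (MvPolynomial.eval α p) with hB
    set S := ∑ i, algebraMap k K (MvPolynomial.eval α (MvPolynomial.pderiv i p)) * v i with hS
    have hSv : P.1 S ≤ WithZero.exp (-1 : ℤ) := by
      apply Valuation.map_sum_le
      intro i _
      rw [map_mul]
      calc P.1 (algebraMap k K _) * P.1 (v i) ≤ 1 * WithZero.exp (-1 : ℤ) :=
            mul_le_mul' (hk _) (hv i)
        _ = _ := one_mul _
    have hsum : ∑ i, algebraMap k K (MvPolynomial.eval α (MvPolynomial.pderiv i (p * MvPolynomial.X n))) * v i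
        = S * algebraMap k K (α n) + B * v n := by
      have h1 : ∀ i, algebraMap k K (MvPolynomial.eval α (MvPolynomial.pderiv i (p * MvPolynomial.X n))) * v i
          = (algebraMap k K (MvPolynomial.eval α (MvPolynomial.pderiv i p)) * v i) * algebraMap k K (α n)
            + (if i = n then B * v n else 0) := by
        intro i
        rw [Derivation.leibniz, MvPolynomial.pderiv_X]
        by_cases hin : i = n
        · subst hin
          simp [hB]
          ring
        · simp [hin]
          ring
      simp_rw [h1]
      rw [Finset.sum_add_distrib, ← Finset.sum_mul, Finset.sum_ite_eq' Finset.univ n, ← hS]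
      simp
    have key : MvPolynomial.aeval (fun i => algebraMap k K (α i) + v i) (p * MvPolynomial.X n)
      - algebraMap k K (MvPolynomial.eval α (p * MvPolynomial.X n))
      - ∑ i, algebraMap k K (MvPolynomial.eval α (MvPolynomial.pderiv i (p * MvPolynomial.X n))) * v i
      = (A - B - S) * (algebraMap k K (α n) + v n) + S * v n := by
      rw [hsum]
      simp only [map_mul, MvPolynomial.aeval_X, MvPolynomial.eval_X]
      ring
    rw [key]
    refine (P.1.map_add _ _).trans (max_le ?_ ?_)
    · rw [map_mul]
      calc P.1 (A - B - S) * P.1 (algebraMap k K (α n) + v n) ≤ WithZero.exp (-2 : ℤ) * 1 := by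
            apply mul_le_mul' hp
            exact (P.1.map_add _ _).trans (max_le (hk _) (hv1 n))
        _ = _ := mul_one _
    · rw [map_mul, exp_neg_two_eq]
      exact mul_le_mul' hSv (hv n)

theorem tangent_line [IsAlgClosed k] (hK : IsFunctionField k K) (φ : Fin 3 → K)
    (hφ : LinearIndependent k φ)
    (f : MvPolynomial (Fin 3) k) (hhom : f.IsHomogeneous f.totalDegree)
    (hfφ : MvPolynomial.aeval φ f = 0) (P : Place k K) (j : Fin 3)
    (hj : ∀ i, P.1 (φ i) ≤ P.1 (φ j)) (a : Fin 3 → P.O)
    (ha : ∀ i, ((a i : P.O) : K) = φ i / φ j) (c : Fin 3 → k)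
    (hc : ∀ i, algebraMap k (IsLocalRing.ResidueField P.O) (c i) =
      MvPolynomial.aeval (fun l => IsLocalRing.residue P.O (a l)) (MvPolynomial.pderiv i f)) :
    P.1 (∑ i, c i • (φ i / φ j)) ≤ WithZero.exp (-2 : ℤ) := by
  have hφj : φ j ≠ 0 := hφ.ne_zero j
  have hu : ∀ i, P.1 (φ i / φ j) ≤ 1 := fun i => by rw [← ha i]; exact (a i).2
  have hfu : MvPolynomial.aeval (fun i => φ i / φ j) f = 0 := by
    have h := aeval_smul_of_isHomogeneous hhom φ (φ j)⁻¹
    rw [hfφ, mul_zero] at h
    rw [← h]
    congr 2
    funext i
    rw [div_eq_inv_mul]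
  have hdeg := deg_eq_one_of_isAlgClosed hK P
  choose α hα using fun i => exists_const_of_deg_one P hdeg (hu i)
  set v : Fin 3 → K := fun i => φ i / φ j - algebraMap k K (α i) with hv_def
  have hv : ∀ i, P.1 (v i) ≤ WithZero.exp (-1 : ℤ) := fun i =>
    (lt_one_iff_le_exp_neg_one _).mp (hα i)
  have huv : (fun i => φ i / φ j) = fun i => algebraMap k K (α i) + v i := by
    funext i; simp [hv_def]
  have hres : ∀ l, IsLocalRing.residue P.O (a l) =
      algebraMap k (IsLocalRing.ResidueField P.O) (α l) := by
    intro l
    rw [algebraMap_residueField, ← sub_eq_zero, ← map_sub, residue_eq_zero_iff]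
    show P.1 (((a l : P.O) : K) - algebraMap k K (α l)) < 1
    rw [ha l]
    exact hα l
  have hev : ∀ g : MvPolynomial (Fin 3) k,
      MvPolynomial.aeval (fun l => IsLocalRing.residue P.O (a l)) g =
        algebraMap k (IsLocalRing.ResidueField P.O) (MvPolynomial.eval α g) := by
    intro g
    simp_rw [hres]
    rw [MvPolynomial.aeval_def]
    have := MvPolynomial.eval₂_comp_left (algebraMap k (IsLocalRing.ResidueField P.O)) (RingHom.id k) α g
    rw [RingHom.comp_id] at this
    exact this.symm
  have hci : ∀ i, c i = MvPolynomial.eval α (MvPolynomial.pderiv i f) := by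
    intro i
    apply (algebraMap k (IsLocalRing.ResidueField P.O)).injective
    rw [hc i, hev]
  have ht := taylor_one P α v hv f
  rw [← huv, hfu, zero_sub] at ht
  have hS : P.1 (∑ i, algebraMap k K (MvPolynomial.eval α (MvPolynomial.pderiv i f)) * v i)
      ≤ WithZero.exp (-1 : ℤ) := by
    apply Valuation.map_sum_le
    intro i _
    rw [map_mul]
    calc P.1 (algebraMap k K _) * P.1 (v i) ≤ 1 * WithZero.exp (-1 : ℤ) :=
          mul_le_mul' (P.2.1 _) (hv i)
      _ = _ := one_mul _
  have hf0 : MvPolynomial.eval α f = 0 := by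
    by_contra hne
    have h1 : P.1 (algebraMap k K (MvPolynomial.eval α f)) = 1 := val_algebraMap P hne
    have h2 : P.1 (algebraMap k K (MvPolynomial.eval α f)) < 1 := by
      have : algebraMap k K (MvPolynomial.eval α f) =
          -(-algebraMap k K (MvPolynomial.eval α f)
            - ∑ i, algebraMap k K (MvPolynomial.eval α (MvPolynomial.pderiv i f)) * v i)
          - ∑ i, algebraMap k K (MvPolynomial.eval α (MvPolynomial.pderiv i f)) * v i := by ring
      rw [this]
      refine lt_of_le_of_lt (P.1.map_sub _ _) (max_lt ?_ ?_)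
      · rw [Valuation.map_neg]
        exact ht.trans_lt (exp_neg_two_lt.trans exp_neg_one_lt_one)
      · exact hS.trans_lt exp_neg_one_lt_one
    exact h2.ne h1
  have heuler : ∑ i, α i * MvPolynomial.eval α (MvPolynomial.pderiv i f) = 0 := by
    have h := congrArg (MvPolynomial.eval α) hhom.sum_X_mul_pderiv
    rw [map_sum, map_nsmul, hf0, smul_zero] at h
    simpa using h
  rw [hf0, map_zero, neg_zero, zero_sub, Valuation.map_neg] at ht
  have hfinal : ∑ i, c i • (φ i / φ j) =
      ∑ i, algebraMap k K (MvPolynomial.eval α (MvPolynomial.pderiv i f)) * v i := by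
    have h1 : ∀ i, c i • (φ i / φ j) =
        algebraMap k K (α i * MvPolynomial.eval α (MvPolynomial.pderiv i f)) +
        algebraMap k K (MvPolynomial.eval α (MvPolynomial.pderiv i f)) * v i := by
      intro i
      rw [Algebra.smul_def, hci i, map_mul]
      simp only [hv_def]
      ring
    simp_rw [h1]
    rw [Finset.sum_add_distrib, ← map_sum, heuler, map_zero, zero_add]
  rw [hfinal]
  exact ht

end Groth.Agent.Helper5.FF
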