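import Mathlib
import Groth.Agent.Helper5.FFKp2
import Groth.Agent.Helper5.FFOrd
set_option autoImplicit false
set_option linter.style.haveILetI false
open FunFld Polynomial TensorProduct
open scoped IntermediateField

namespace Groth.Agent.Helper5.FF

universe u v

section
variable {k : Type u} {K : Type v} [Field k] [Field K] [Algebra k K]

/-- the residue map as a `k`-linear map -/
noncomputable def resLin (P : Place k K) : P.O →ₗ[k] IsLocalRing.ResidueField P.O where
  toFun := IsLocalRing.residue P.O
  map_add' := map_add _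
  map_smul' c x := by
    show IsLocalRing.residue P.O (c • x) = c • IsLocalRing.residue P.O x
    rw [Algebra.smul_def, map_mul, Algebra.smul_def]
    rfl

/-- the inclusion `O_P → K` as a `k`-linear map -/
def valLin (P : Place k K) : P.O →ₗ[k] K where
  toFun x := (x : K)
  map_add' _ _ := rfl
  map_smul' c x := by
    show ((c • x : P.O) : K) = c • (x : K)
    rw [Algebra.smul_def, Algebra.smul_def]
    rfl

theorem lt_one_iff_le_exp_neg_one' (a : WithZero (Multiplicative ℤ)) :
    a < 1 ↔ a ≤ WithZero.exp (-1 : ℤ) := by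
  have h := WithZero.lt_mul_exp_iff_le (x := a) (y := WithZero.exp (-1 : ℤ)) WithZero.exp_ne_zero
  rw [← WithZero.exp_add] at h
  simpa using h

/-- span of `p`-th powers of elements of order `≥ r` -/
def powSpan (P : Place k K) (p : ℕ) (r : ℤ) : Submodule k K :=
  Submodule.span k {x | ∃ y : K, P.1 y ≤ WithZero.exp (-r) ∧ x = y ^ p}

theorem val_le_of_mem_powSpan (P : Place k K) (p : ℕ) (r : ℤ) {z : K} (hz : z ∈ powSpan P p r) :
    P.1 z ≤ WithZero.exp (-((p : ℤ) * r)) := by
  induction hz using Submodule.span_induction with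
  | mem x hx =>
    obtain ⟨y, hy, rfl⟩ := hx
    rw [map_pow]
    calc P.1 y ^ p ≤ WithZero.exp (-r) ^ p := pow_le_pow_left₀ zero_le hy p
      _ = _ := by rw [← WithZero.exp_nsmul]; congr 1; simp
  | zero => simp
  | add x y _ _ hx hy => exact (P.1.map_add x y).trans (max_le hx hy)
  | smul c x _ hx =>
    rw [Algebra.smul_def, map_mul]; exact (mul_le_mul' (P.2.1 c) hx).trans_eq (one_mul _)

theorem powSpan_anti (P : Place k K) (p : ℕ) {r r' : ℤ} (h : r ≤ r') :
    powSpan P p r' ≤ powSpan P p r := by
  apply Submodule.span_mono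
  rintro x ⟨y, hy, rfl⟩
  exact ⟨y, hy.trans (by rw [WithZero.exp_le_exp]; omega), rfl⟩

theorem exists_mem_powSpan (P : Place k K) (p : ℕ) {z : K}
    (hz : z ∈ Submodule.span k (Set.range fun y : K => y ^ p)) : ∃ r, z ∈ powSpan P p r := by
  induction hz using Submodule.span_induction with
  | mem x hx =>
    obtain ⟨y, rfl⟩ := hx
    by_cases hy : y = 0
    · exact ⟨0, Submodule.subset_span ⟨y, by rw [hy]; simp, rfl⟩⟩
    · exact ⟨P.ord y, Submodule.subset_span ⟨y, (val_eq_exp_neg_ord P hy).le, rfl⟩⟩
  | zero => exact ⟨0, Submodule.zero_mem _⟩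
  | add x y _ _ hx hy =>
    obtain ⟨r1, h1⟩ := hx
    obtain ⟨r2, h2⟩ := hy
    exact ⟨min r1 r2, Submodule.add_mem _ (powSpan_anti P p (min_le_left _ _) h1)
      (powSpan_anti P p (min_le_right _ _) h2)⟩
  | smul c x _ hx =>
    obtain ⟨r, h⟩ := hx
    exact ⟨r, Submodule.smul_mem _ c h⟩

theorem powSpan_step (P : Place k K) (p : ℕ) [hp : Fact p.Prime] [CharP K p] {t : K}
    (ht : P.1 t = WithZero.exp (-1 : ℤ))
    {ι : Type*} (bbar : Module.Basis ι k (IsLocalRing.ResidueField P.O)) (b : ι → P.O)
    (hb : ∀ j, IsLocalRing.residue P.O (b j) = bbar j) (r : ℤ) {z : K}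
    (hz : z ∈ powSpan P p r) :
    ∃ w ∈ Submodule.span k (Set.range fun j => ((b j : K)) ^ p),
      z - t ^ ((p : ℤ) * r) * w ∈ powSpan P p (r + 1) := by
  have ht0 : t ≠ 0 := ne_zero_of_val_eq_exp P ht
  induction hz using Submodule.span_induction with
  | mem x hx =>
    obtain ⟨y, hy, rfl⟩ := hx
    have htr : P.1 (t ^ r) = WithZero.exp (-r) := by
      rw [map_zpow₀, ht, ← WithZero.exp_zsmul]; congr 1; simp
    have hu : P.1 (y / t ^ r) ≤ 1 := by
      rw [map_div₀, htr]
      exact div_le_one_of_le₀ hy zero_le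
    set u : P.O := ⟨y / t ^ r, hu⟩ with hu_def
    set c := bbar.repr (IsLocalRing.residue P.O u) with hc_def
    set s : P.O := c.sum fun j a => a • b j with hs_def
    have hres : IsLocalRing.residue P.O s = IsLocalRing.residue P.O u := by
      have h1 : resLin P s = c.sum fun j a => a • bbar j := by
        rw [hs_def, map_finsuppSum]
        refine Finsupp.sum_congr fun j _ => ?_
        rw [map_smul]
        congr 1
        exact hb j
      have h2 : (c.sum fun j a => a • bbar j) = IsLocalRing.residue P.O u := by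
        have h3 := bbar.linearCombination_repr (IsLocalRing.residue P.O u)
        rw [Finsupp.linearCombination_apply] at h3
        exact h3
      exact h1.trans h2
    have hlt : P.1 ((u : K) - (s : K)) < 1 := by
      have : IsLocalRing.residue P.O (u - s) = 0 := by rw [map_sub, hres, sub_self]
      rw [residue_eq_zero_iff] at this
      exact this
    have hy' : P.1 (t ^ r * ((u : K) - (s : K))) ≤ WithZero.exp (-(r + 1)) := by
      rw [map_mul, htr, neg_add, WithZero.exp_add]
      exact mul_le_mul' le_rfl ((lt_one_iff_le_exp_neg_one' _).mp hlt)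
    have hsK : (s : K) = c.sum fun j a => a • (b j : K) := by
      have : valLin P s = c.sum fun j a => a • (b j : K) := by
        rw [hs_def, map_finsuppSum]
        refine Finsupp.sum_congr fun j _ => ?_
        rw [map_smul]
        rfl
      exact this
    have hsp : (s : K) ^ p = c.sum fun j a => a ^ p • (b j : K) ^ p := by
      rw [hsK, Finsupp.sum, sum_pow_char]
      refine Finset.sum_congr rfl fun j _ => ?_
      simp only [Algebra.smul_def, mul_pow, map_pow]
    refine ⟨(s : K) ^ p, ?_, ?_⟩
    · rw [hsp]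
      refine Submodule.sum_mem _ fun j _ => Submodule.smul_mem _ _ (Submodule.subset_span ⟨j, rfl⟩)
    · have hy_eq : y = t ^ r * (s : K) + t ^ r * ((u : K) - (s : K)) := by
        have : (u : K) = y / t ^ r := rfl
        rw [← mul_add, add_sub_cancel, this, mul_div_cancel₀ _ (zpow_ne_zero r ht0)]
      have hpow : t ^ ((p : ℤ) * r) = (t ^ r) ^ p := by
        rw [mul_comm, zpow_mul, zpow_natCast]
      have : y ^ p - t ^ ((p : ℤ) * r) * (s : K) ^ p = (t ^ r * ((u : K) - (s : K))) ^ p := by
        rw [hpow, ← mul_pow]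
        conv_lhs => rw [hy_eq, add_pow_char]
        ring
      rw [this]
      exact Submodule.subset_span ⟨_, hy', rfl⟩
  | zero => exact ⟨0, Submodule.zero_mem _, by simp⟩
  | add x y _ _ hx hy =>
    obtain ⟨w1, hw1, h1⟩ := hx
    obtain ⟨w2, hw2, h2⟩ := hy
    refine ⟨w1 + w2, Submodule.add_mem _ hw1 hw2, ?_⟩
    have : x + y - t ^ ((p : ℤ) * r) * (w1 + w2) =
        (x - t ^ ((p : ℤ) * r) * w1) + (y - t ^ ((p : ℤ) * r) * w2) := by ring
    rw [this]
    exact Submodule.add_mem _ h1 h2
  | smul c x _ hx =>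
    obtain ⟨w, hw, h⟩ := hx
    refine ⟨c • w, Submodule.smul_mem _ c hw, ?_⟩
    have : c • x - t ^ ((p : ℤ) * r) * (c • w) = c • (x - t ^ ((p : ℤ) * r) * w) := by
      rw [mul_smul_comm, smul_sub]
    rw [this]
    exact Submodule.smul_mem _ c h

theorem val_eq_one_of_mem_span_pow (P : Place k K) (p : ℕ) [hp : Fact p.Prime] [CharP k p]
    [Algebra.IsSeparable k (IsLocalRing.ResidueField P.O)]
    {ι : Type*} (bbar : Module.Basis ι k (IsLocalRing.ResidueField P.O)) (b : ι → P.O)
    (hb : ∀ j, IsLocalRing.residue P.O (b j) = bbar j) {w : K}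
    (hw : w ∈ Submodule.span k (Set.range fun j => ((b j : K)) ^ p)) (hw0 : w ≠ 0) :
    P.1 w = 1 := by
  haveI : ExpChar k p := ExpChar.prime hp.out
  obtain ⟨c, rfl⟩ := (Finsupp.mem_span_range_iff_exists_finsupp).mp hw
  set w' : P.O := c.sum fun j a => a • (b j) ^ p with hw'_def
  have hwK : (w' : K) = c.sum fun j a => a • (b j : K) ^ p := by
    have : valLin P w' = c.sum fun j a => a • (b j : K) ^ p := by
      rw [hw'_def, map_finsuppSum]
      refine Finsupp.sum_congr fun j _ => ?_
      rw [map_smul]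
      rfl
    exact this
  rw [← hwK] at hw0 ⊢
  have hle : P.1 (w' : K) ≤ 1 := w'.2
  refine le_antisymm hle (not_lt.mp fun hlt => hw0 ?_)
  have hres0 : IsLocalRing.residue P.O w' = 0 := (residue_eq_zero_iff P w').mpr hlt
  have hli : LinearIndependent k (fun j => bbar j ^ p) := by
    have := bbar.linearIndependent.map_pow_expChar_pow_of_isSeparable p 1
    simp only [pow_one] at this
    exact this
  have h1 : resLin P w' = c.sum fun j a => a • (bbar j) ^ p := by
    rw [hw'_def, map_finsuppSum]
    refine Finsupp.sum_congr fun j _ => ?_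
    rw [map_smul]
    congr 1
    show IsLocalRing.residue P.O ((b j) ^ p) = _
    rw [map_pow, hb j]
  have hc : c = 0 := by
    apply linearIndependent_iff.mp hli c
    rw [Finsupp.linearCombination_apply]
    exact h1.symm.trans hres0
  rw [hwK, hc, Finsupp.sum_zero_index]

theorem dvd_ord_of_mem_span_pow (P : Place k K) (p : ℕ) [hp : Fact p.Prime] [CharP k p] [CharP K p]
    [Algebra.IsSeparable k (IsLocalRing.ResidueField P.O)] {z : K}
    (hz : z ∈ Submodule.span k (Set.range fun y : K => y ^ p)) (hz0 : z ≠ 0) :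
    (p : ℤ) ∣ P.ord z := by
  obtain ⟨t, ht⟩ := P.2.2 (WithZero.exp (-1 : ℤ))
  have ht0 : t ≠ 0 := ne_zero_of_val_eq_exp P ht
  set bbar := Module.Basis.ofVectorSpace k (IsLocalRing.ResidueField P.O)
  have hsurj : ∀ j, ∃ s : P.O, IsLocalRing.residue P.O s = bbar j :=
    fun j => IsLocalRing.residue_surjective _
  choose b hb using hsurj
  have hp1 : (1 : ℤ) ≤ p := by exact_mod_cast hp.out.one_lt.le
  obtain ⟨r, hr, hmax⟩ := Int.exists_greatest_of_bdd (P := fun r => z ∈ powSpan P p r)
    ⟨|P.ord z|, fun r hr => by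
      have h1 := val_le_of_mem_powSpan P p r hr
      rw [val_le_exp_iff P hz0, neg_neg] at h1
      rcases le_or_gt r 0 with h | h
      · exact h.trans (abs_nonneg _)
      · calc r = 1 * r := (one_mul r).symm
          _ ≤ p * r := by gcongr
          _ ≤ P.ord z := h1
          _ ≤ _ := le_abs_self _⟩
    (exists_mem_powSpan P p hz)
  obtain ⟨w, hw, hstep⟩ := powSpan_step P p ht bbar b hb r hr
  have hw0 : w ≠ 0 := by
    rintro rfl
    rw [mul_zero, sub_zero] at hstep
    have := hmax (r + 1) hstep
    omega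
  have hw1 := val_eq_one_of_mem_span_pow P p bbar b hb hw hw0
  have h2 := val_le_of_mem_powSpan P p (r + 1) hstep
  have h3 : P.1 (t ^ ((p : ℤ) * r) * w) = WithZero.exp (-((p : ℤ) * r)) := by
    rw [map_mul, hw1, mul_one, map_zpow₀, ht, ← WithZero.exp_zsmul]; congr 1; simp
  have h4 : P.1 (z - t ^ ((p : ℤ) * r) * w) < P.1 (t ^ ((p : ℤ) * r) * w) := by
    rw [h3]
    refine h2.trans_lt ?_
    rw [WithZero.exp_lt_exp]
    nlinarith
  have h5 : P.1 z = WithZero.exp (-((p : ℤ) * r)) := by
    have : z = (z - t ^ ((p : ℤ) * r) * w) + t ^ ((p : ℤ) * r) * w := by ring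
    rw [this, Valuation.map_add_eq_of_lt_right _ h4, h3]
  rw [ord_eq_of_val_eq P h5, neg_neg]
  exact dvd_mul_right _ _

theorem D_uniformizer_ne_zero (hK : IsFunctionField k K) (hg : IsGeometric k K) (P : Place k K)
    [Algebra.IsSeparable k (IsLocalRing.ResidueField P.O)] (t : K)
    (ht : P.1 t = WithZero.exp (-1 : ℤ)) : KaehlerDifferential.D k K t ≠ 0 := by
  have ht0 : t ≠ 0 := ne_zero_of_val_eq_exp P ht
  have ht1 : P.1 t ≠ 1 := by
    rw [ht, ← WithZero.exp_zero]
    intro h
    have := WithZero.exp_injective h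
    omega
  have htr : Transcendental k t := transcendental_of_val_ne_one hK P ht0 ht1
  have hfd := finiteDimensional_adjoin hK htr
  rcases CharP.exists' k with h0 | ⟨p, hp, hcp⟩
  · haveI : CharZero k⟮t⟯ := charZero_of_injective_algebraMap (algebraMap k k⟮t⟯).injective
    have hsep : Algebra.IsSeparable k⟮t⟯ K := Algebra.IsSeparable.of_integral _ _
    exact (finrank_kaehler_of_separating htr hsep).2
  · haveI : CharP K p := charP_of_injective_algebraMap (algebraMap k K).injective p
    intro hD
    have hmem := ((mem_adjoin_pow_char_iff p hK hg t).1).mpr hD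
    obtain ⟨a, ha, b, hb, hab⟩ := IntermediateField.mem_adjoin_iff_div.mp hmem
    have hspan : Subalgebra.toSubmodule (Algebra.adjoin k (Set.range fun y : K => y ^ p)) =
        Submodule.span k (Set.range fun y : K => y ^ p) := by
      apply Algebra.adjoin_eq_span_of_subset
      have : (Set.range fun y : K => y ^ p) = ((MonoidHom.mrange (powMonoidHom p : K →* K)) : Set K) := by
        ext x; simp
      rw [this, Submonoid.closure_eq]
      exact Submodule.subset_span
    have ha' : a ∈ Submodule.span k (Set.range fun y : K => y ^ p) := by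
      rw [← hspan]; exact ha
    have hb' : b ∈ Submodule.span k (Set.range fun y : K => y ^ p) := by
      rw [← hspan]; exact hb
    have hb0 : b ≠ 0 := by
      rintro rfl
      rw [div_zero] at hab
      exact ht0 hab
    have ha0 : a ≠ 0 := by
      rintro rfl
      rw [zero_div] at hab
      exact ht0 hab
    have h1 := dvd_ord_of_mem_span_pow P p ha' ha0
    have h2 := dvd_ord_of_mem_span_pow P p hb' hb0
    have h3 : P.ord t = P.ord a - P.ord b := by
      rw [hab, div_eq_mul_inv, ord_mul P ha0 (inv_ne_zero hb0), ord_inv]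
      ring
    have h4 : P.ord t = 1 := by rw [ord_eq_of_val_eq P ht]; norm_num
    rw [h4] at h3
    have h5 : (p : ℤ) ∣ 1 := by rw [h3]; exact dvd_sub h1 h2
    have h6 : p ∣ 1 := by exact_mod_cast h5
    exact hp.out.one_lt.ne' (Nat.dvd_one.mp h6)

end
end Groth.Agent.Helper5.FF
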