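import Mathlib
import Groth.Agent.Helper5.FGExt3
import Groth.Agent.Helper5.FFRatPlace
set_option autoImplicit false
open FunFld Polynomial
open scoped IntermediateField

namespace Groth.Agent.Helper5.FG

theorem hyperelliptic_ramified {k K : Type*} [Field k] [Field K] [Algebra k K]
    [Algebra (RatFunc k) K] [IsScalarTower k (RatFunc k) K]
    (hdeg : Module.finrank (RatFunc k) K = 2) (y : K) (f : k[X]) (hf : Squarefree f)
    (heq : y ^ 2 = algebraMap (RatFunc k) K (algebraMap k[X] (RatFunc k) f))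
    (p : k[X]) (hp : Irreducible p) (hpf : p ∣ f)
    (P₀ : Place k (RatFunc k)) (hP₀ : P₀.1 (algebraMap k[X] (RatFunc k) p) < 1) :
    (∃! P : Place k K, IsOver P P₀) ∧
    ∀ P : Place k K, IsOver P P₀ → IsOverWith P P₀ 2 ∧ P.deg = P₀.deg := by
  classical
  have hK₀ : IsFunctionField k (RatFunc k) := FF.isFunctionField_ratFunc
  haveI hfd : FiniteDimensional (RatFunc k) K :=
    Module.finite_of_finrank_pos (by rw [hdeg]; norm_num)
  have hK' : IsFF k K := isFF_of_finite hK₀.1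
  obtain ⟨hfin, hsum⟩ := finite_isOver_and_sum (K' := K) hK₀ P₀
  have hp0 : p ≠ 0 := hp.ne_zero
  -- valuation of f
  obtain ⟨h, rfl⟩ := hpf
  have hcop : IsCoprime p h := by
    apply (Irreducible.coprime_iff_not_dvd hp).mpr
    rintro ⟨h', rfl⟩
    exact hp.not_isUnit (hf p ⟨h', by ring⟩)
  have hvf : P₀.1 (algebraMap k[X] (RatFunc k) (p * h)) = WithZero.exp (-1 : ℤ) := by
    rw [map_mul, map_mul, FF.val_irreducible_eq P₀ hp hP₀,
      FF.val_eq_one_of_isCoprime P₀ hp0 hP₀ hcop, mul_one]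
  have hy0 : y ≠ 0 := by
    rintro rfl
    rw [zero_pow two_ne_zero] at heq
    have h1 := congrArg P₀.1 ((map_eq_zero_iff _ (algebraMap (RatFunc k) K).injective).mp heq.symm)
    rw [hvf, map_zero] at h1
    exact WithZero.exp_ne_zero h1
  have heven : ∀ (Q : Place k K) (e : ℕ), IsOverWith Q P₀ e → 2 ≤ e := by
    intro Q e he
    have h1 : Q.1 y ^ 2 = WithZero.exp (-(e : ℤ)) := by
      rw [← map_pow, heq, he, hvf, ← WithZero.exp_nsmul]
      simp
    rw [val_eq_exp_neg_ord Q hy0, ← WithZero.exp_nsmul] at h1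
    have h2 := WithZero.exp_injective h1
    have he0 := isOverWith_pos he
    simp only [nsmul_eq_mul, Nat.cast_ofNat, mul_neg, neg_inj] at h2
    omega
  have hd1 : 1 ≤ P₀.deg := FF.deg_pos_place hK₀ P₀
  have h1 := hsum hfin.toFinset (fun Q' => by rw [Set.Finite.mem_toFinset]; rfl)
  rw [hdeg] at h1
  have hterm : ∀ Q ∈ hfin.toFinset, 2 * P₀.deg ≤ ramIdx Q P₀ * Q.deg := by
    intro Q hQ
    rw [Set.Finite.mem_toFinset] at hQ
    obtain ⟨e, he⟩ := hQ
    rw [ramIdx_eq he]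
    exact Nat.mul_le_mul (heven Q e he) (deg_le_of_isOverWith hK' he)
  have hcard := Finset.card_nsmul_le_sum hfin.toFinset _ _ hterm
  rw [h1, smul_eq_mul] at hcard
  have hcard1 : hfin.toFinset.card = 1 := by
    have hle : hfin.toFinset.card ≤ 1 := by
      by_contra hgt
      rw [not_le] at hgt
      have : 2 * (2 * P₀.deg) ≤ hfin.toFinset.card * (2 * P₀.deg) := Nat.mul_le_mul_right _ hgt
      omega
    have hpos : 0 < hfin.toFinset.card := by
      rw [Finset.card_pos]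
      by_contra hempty
      rw [Finset.not_nonempty_iff_eq_empty] at hempty
      rw [hempty, Finset.sum_empty] at h1
      omega
    omega
  obtain ⟨Q₁, hQ₁⟩ := Finset.card_eq_one.mp hcard1
  have hmem : ∀ Q : Place k K, IsOver Q P₀ ↔ Q = Q₁ := by
    intro Q
    have : Q ∈ hfin.toFinset ↔ IsOver Q P₀ := by rw [Set.Finite.mem_toFinset]; rfl
    rw [← this, hQ₁, Finset.mem_singleton]
  refine ⟨⟨Q₁, (hmem Q₁).mpr rfl, fun Q hQ => (hmem Q).mp hQ⟩, fun Q hQ => ?_⟩
  have hQQ := (hmem Q).mp hQ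
  subst hQQ
  obtain ⟨e, he⟩ := hQ
  rw [hQ₁, Finset.sum_singleton, ramIdx_eq he] at h1
  have he2 := heven Q e he
  have hdQ := deg_le_of_isOverWith hK' he
  have hdeq : Q.deg = P₀.deg ∧ e = 2 := by
    have h3 : 2 * Q.deg ≤ e * Q.deg := Nat.mul_le_mul_right _ he2
    have h4 : Q.deg = P₀.deg := by omega
    refine ⟨h4, ?_⟩
    rw [h4] at h1
    have : e * P₀.deg = 2 * P₀.deg := h1
    exact Nat.eq_of_mul_eq_mul_right hd1 this
  rw [hdeq.2] at he
  exact ⟨he, hdeq.1⟩

end Groth.Agent.Helper5.FG
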