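import Mathlib
import Groth.Agent.Helper5.FGHyper
set_option autoImplicit false
open FunFld Polynomial
open scoped IntermediateField

namespace Groth.Agent.Helper5.FG

section
variable {k : Type*} [Field k]

theorem val_C_eq_one (P : Place k (RatFunc k)) {c : k} (hc : c ≠ 0) :
    P.1 (algebraMap k[X] (RatFunc k) (C c)) = 1 := by
  have : algebraMap k[X] (RatFunc k) (C c) = algebraMap k (RatFunc k) c := by
    rw [IsScalarTower.algebraMap_apply k k[X] (RatFunc k)]
    rfl
  rw [this]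
  exact gval_algebraMap P.1 P.2.1 hc

theorem exists_irreducible_factor_val_lt_one (P : Place k (RatFunc k)) (f : k[X]) (hf0 : f ≠ 0)
    (hf : P.1 (algebraMap k[X] (RatFunc k) f) < 1) :
    ∃ p : k[X], Irreducible p ∧ p ∣ f ∧ P.1 (algebraMap k[X] (RatFunc k) p) < 1 := by
  induction hn : f.natDegree using Nat.strong_induction_on generalizing f with
  | _ n ih =>
    have hnu : ¬ IsUnit f := by
      intro hu
      obtain ⟨c, hc, rfl⟩ := Polynomial.isUnit_iff.mp hu
      rw [val_C_eq_one P hc.ne_zero] at hf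
      exact lt_irrefl _ hf
    obtain ⟨p, hp, g, rfl⟩ := WfDvdMonoid.exists_irreducible_factor hnu hf0
    by_cases hpv : P.1 (algebraMap k[X] (RatFunc k) p) < 1
    · exact ⟨p, hp, dvd_mul_right _ _, hpv⟩
    · have hp1 : P.1 (algebraMap k[X] (RatFunc k) p) = 1 :=
        le_antisymm (FF.val_polynomial_le_one P hf0 hf p) (not_lt.mp hpv)
      have hg0 : g ≠ 0 := right_ne_zero_of_mul hf0
      have hgv : P.1 (algebraMap k[X] (RatFunc k) g) < 1 := by
        rw [map_mul, map_mul, hp1, one_mul] at hf; exact hf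
      have hdeg : g.natDegree < n := by
        rw [← hn, Polynomial.natDegree_mul hp.ne_zero hg0]
        have := hp.natDegree_pos
        omega
      obtain ⟨q, hq, hqg, hqv⟩ := ih g.natDegree hdeg g hg0 hgv rfl
      exact ⟨q, hq, hqg.mul_left _, hqv⟩

end

theorem hyperelliptic_ord_y {k K : Type*} [Field k] [Field K] [Algebra k K]
    [Algebra (RatFunc k) K] [IsScalarTower k (RatFunc k) K]
    (hdeg : Module.finrank (RatFunc k) K = 2) (y : K) (f : Polynomial k) (hf : Squarefree f)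
    (heq : y ^ 2 = algebraMap (RatFunc k) K (algebraMap (Polynomial k) (RatFunc k) f))
    (P : Place k K) :
    (0 < P.ord y → P.ord y = 1) ∧
    (0 < P.ord y ↔ ∃ P₀ : Place k (RatFunc k), IsOver P P₀ ∧ 0 ≤ P₀.ord (RatFunc.X : RatFunc k) ∧
      0 < P₀.ord (algebraMap (Polynomial k) (RatFunc k) f)) := by
  classical
  have hK₀ : IsFunctionField k (RatFunc k) := FF.isFunctionField_ratFunc
  haveI hfd : FiniteDimensional (RatFunc k) K :=
    Module.finite_of_finrank_pos (by rw [hdeg]; norm_num)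
  have hf0 : f ≠ 0 := hf.ne_zero
  have hfF0 : algebraMap k[X] (RatFunc k) f ≠ 0 := by
    rwa [Ne, map_eq_zero_iff _ (RatFunc.algebraMap_injective k)]
  have hfK0 : algebraMap (RatFunc k) K (algebraMap k[X] (RatFunc k) f) ≠ 0 := by
    rwa [Ne, map_eq_zero]
  have hy0 : y ≠ 0 := by
    rintro rfl
    rw [zero_pow (by norm_num)] at heq
    exact hfK0 heq.symm
  have hX0 : (RatFunc.X : RatFunc k) ≠ 0 := RatFunc.X_ne_zero
  have hsq : ∀ P : Place k K, P.1 y < 1 ↔
      P.1 (algebraMap (RatFunc k) K (algebraMap k[X] (RatFunc k) f)) < 1 := by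
    intro P
    rw [← heq, map_pow]
    exact (pow_lt_one_iff_of_nonneg zero_le (by norm_num)).symm
  have hdown : ∀ (P₀ : Place k (RatFunc k)) (e : ℕ), IsOverWith P P₀ e →
      (P.1 (algebraMap (RatFunc k) K (algebraMap k[X] (RatFunc k) f)) < 1 ↔
        P₀.1 (algebraMap k[X] (RatFunc k) f) < 1) := by
    intro P₀ e he
    rw [he]
    exact pow_lt_one_iff_of_nonneg zero_le (isOverWith_pos he)
  obtain ⟨P₀, e, he⟩ := exists_isOverWith hK₀.1 P
  constructor
  · intro hpos
    have hy1 : P.1 y < 1 := (ord_pos_iff P hy0).mp hpos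
    have hfv : P₀.1 (algebraMap k[X] (RatFunc k) f) < 1 := (hdown P₀ e he).mp ((hsq P).mp hy1)
    obtain ⟨p, hp, hpf, hpv⟩ := exists_irreducible_factor_val_lt_one P₀ f hf0 hfv
    obtain ⟨-, hall⟩ := hyperelliptic_ramified hdeg y f hf heq p hp hpf P₀ hpv
    have he2 : IsOverWith P P₀ 2 := (hall P ⟨e, he⟩).1
    have hpval := FF.val_irreducible_eq P₀ hp hpv
    obtain ⟨f', rfl⟩ := hpf
    have hcop : IsCoprime p f' := by
      rw [hp.coprime_iff_not_dvd]
      intro hdvd
      obtain ⟨f'', rfl⟩ := hdvd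
      have : p * p ∣ p * (p * f'') := ⟨f'', by ring⟩
      exact hp.not_isUnit (hf p this)
    have hf'val := FF.val_eq_one_of_isCoprime P₀ hp.ne_zero hpv hcop
    have h1 : P.1 y ^ 2 = WithZero.exp (-2 : ℤ) := by
      rw [← map_pow, heq, he2, map_mul, map_mul, hpval, hf'val, mul_one, ← WithZero.exp_nsmul]
      rfl
    rw [val_eq_exp_neg_ord P hy0, ← WithZero.exp_nsmul] at h1
    have h2 := WithZero.exp_injective h1
    simp only [nsmul_eq_mul, Nat.cast_ofNat] at h2
    omega
  · constructor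
    · intro hpos
      have hy1 : P.1 y < 1 := (ord_pos_iff P hy0).mp hpos
      have hfv : P₀.1 (algebraMap k[X] (RatFunc k) f) < 1 := (hdown P₀ e he).mp ((hsq P).mp hy1)
      refine ⟨P₀, ⟨e, he⟩, ?_, (ord_pos_iff P₀ hfF0).mpr hfv⟩
      rw [ord_nonneg_iff P₀ hX0]
      have := FF.val_polynomial_le_one P₀ hf0 hfv (X : k[X])
      rwa [RatFunc.algebraMap_X] at this
    · rintro ⟨P₁, ⟨e₁, he₁⟩, -, hpos⟩
      have hfv : P₁.1 (algebraMap k[X] (RatFunc k) f) < 1 := (ord_pos_iff P₁ hfF0).mp hpos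
      exact (ord_pos_iff P hy0).mpr ((hsq P).mpr ((hdown P₁ e₁ he₁).mpr hfv))

end Groth.Agent.Helper5.FG
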