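import Mathlib
import Groth.Agent.Helper5.FGHyper2
import Groth.Agent.Helper5.FGUnram3
import Groth.Agent.Helper5.FGConorm
set_option autoImplicit false
open FunFld Polynomial
open scoped IntermediateField

namespace Groth.Agent.Helper5.FG

section
variable {k : Type*} [Field k]

theorem transcendental_X : Transcendental k (RatFunc.X : RatFunc k) := by
  apply RatFunc.transcendental_of_ne_C
  rintro ⟨c, hc⟩
  have h1 := congrArg RatFunc.num hc
  rw [RatFunc.num_X, RatFunc.num_C] at h1
  have h2 := congrArg Polynomial.natDegree h1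
  simp at h2

/-- the infinite place of `k(X)` has `ord X = -1` and degree one -/
theorem ord_X_inf (P : Place k (RatFunc k)) (hinf : P.ord (RatFunc.X : RatFunc k) < 0) :
    P.ord (RatFunc.X : RatFunc k) = -1 ∧ P.deg = 1 := by
  classical
  have hK₀ : IsFunctionField k (RatFunc k) := FF.isFunctionField_ratFunc
  have hX : Transcendental k (RatFunc.X : RatFunc k) := transcendental_X
  have h1 := FF.deg_poles_eq hK₀ hX
  rw [RatFunc.adjoin_X, IntermediateField.finrank_top, FF.deg_posPart_eq] at h1
  have hd1 : 1 ≤ P.deg := FF.deg_pos_place hK₀ P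
  have hmem : P ∈ (-(FunFld.div k (RatFunc.X : RatFunc k))).support.filter
      (fun P' => 0 < (-(FunFld.div k (RatFunc.X : RatFunc k))) P') := by
    simp only [Finset.mem_filter, Finsupp.mem_support_iff, Finsupp.neg_apply, FF.div_apply hK₀]
    constructor <;> omega
  have hnn : ∀ P' ∈ (-(FunFld.div k (RatFunc.X : RatFunc k))).support.filter
      (fun P' => 0 < (-(FunFld.div k (RatFunc.X : RatFunc k))) P'),
      0 ≤ (-(FunFld.div k (RatFunc.X : RatFunc k))) P' * (P'.deg : ℤ) := by
    intro P' hP'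
    rw [Finset.mem_filter] at hP'
    exact mul_nonneg hP'.2.le (Int.natCast_nonneg _)
  have h2 := Finset.single_le_sum hnn hmem
  rw [h1, Finsupp.neg_apply, FF.div_apply hK₀] at h2
  have hd1' : (1 : ℤ) ≤ P.deg := by exact_mod_cast hd1
  have h3 : (-(P.ord (RatFunc.X : RatFunc k))) * 1 ≤ (-(P.ord (RatFunc.X : RatFunc k))) * (P.deg : ℤ) :=
    mul_le_mul_of_nonneg_left hd1' (by omega)
  have h4 : P.ord (RatFunc.X : RatFunc k) = -1 := by omega
  refine ⟨h4, ?_⟩
  rw [h4] at h2
  have : (P.deg : ℤ) ≤ 1 := by simpa using h2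
  have : P.deg ≤ 1 := by exact_mod_cast this
  omega

theorem algebraMap_eq_X_pow_mul_reverse (p : k[X]) :
    algebraMap k[X] (RatFunc k) p =
      RatFunc.X ^ p.natDegree * aeval (RatFunc.X : RatFunc k)⁻¹ p.reverse := by
  have hX0 : (RatFunc.X : RatFunc k) ≠ 0 := RatFunc.X_ne_zero
  letI := invertibleOfNonzero hX0
  have h1 := Polynomial.eval₂_reverse_mul_pow (algebraMap k (RatFunc k))
    (RatFunc.X : RatFunc k) p
  rw [invOf_eq_inv] at h1
  have h2 : algebraMap k[X] (RatFunc k) p = eval₂ (algebraMap k (RatFunc k)) RatFunc.X p := by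
    rw [← RatFunc.algebraMap_X, ← aeval_def, aeval_algebraMap_apply, aeval_X_left_apply]
  rw [h2, ← h1, aeval_def, mul_comm]

theorem val_reverse_inf (P : Place k (RatFunc k)) (hinf : P.ord (RatFunc.X : RatFunc k) < 0)
    {p : k[X]} (hp0 : p ≠ 0) :
    P.1 (aeval (RatFunc.X : RatFunc k)⁻¹ p.reverse) = 1 := by
  have hX0 : (RatFunc.X : RatFunc k) ≠ 0 := RatFunc.X_ne_zero
  have hlt : 1 < P.1 (RatFunc.X : RatFunc k) := (ord_neg_iff P hX0).mp hinf
  have hXinv : P.1 (RatFunc.X : RatFunc k)⁻¹ < 1 := by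
    rw [map_inv₀]
    exact inv_lt_one_of_one_lt₀ hlt
  have hcoeff : p.reverse.coeff 0 ≠ 0 := by
    rw [Polynomial.coeff_zero_reverse]
    exact leadingCoeff_ne_zero.mpr hp0
  exact val_aeval_eq_one P hXinv hcoeff

theorem val_polynomial_inf (P : Place k (RatFunc k)) (hinf : P.ord (RatFunc.X : RatFunc k) < 0)
    {p : k[X]} (hp0 : p ≠ 0) :
    P.1 (algebraMap k[X] (RatFunc k) p) = WithZero.exp (p.natDegree : ℤ) := by
  have hX0 : (RatFunc.X : RatFunc k) ≠ 0 := RatFunc.X_ne_zero
  have hX : P.1 (RatFunc.X : RatFunc k) = WithZero.exp (1 : ℤ) := by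
    rw [val_eq_exp_neg_ord P hX0, (ord_X_inf P hinf).1]; rfl
  rw [algebraMap_eq_X_pow_mul_reverse, map_mul, map_pow, val_reverse_inf P hinf hp0, mul_one, hX,
    ← WithZero.exp_nsmul]
  simp

end

section
variable {k K K' : Type*} [Field k] [Field K] [Field K'] [Algebra k K] [Algebra k K'] [Algebra K K']
  [IsScalarTower k K K']

theorem totally_ramified_of_two_le [FiniteDimensional K K'] (hK : IsFunctionField k K)
    (hdeg : Module.finrank K K' = 2) (P₀ : Place k K)
    (heven : ∀ (Q : Place k K') (e : ℕ), IsOverWith Q P₀ e → 2 ≤ e) :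
    (∃! P : Place k K', IsOver P P₀) ∧
    ∀ P : Place k K', IsOver P P₀ → IsOverWith P P₀ 2 ∧ P.deg = P₀.deg := by
  classical
  have hK' : IsFF k K' := isFF_of_finite hK.1
  obtain ⟨hfin, hsum⟩ := finite_isOver_and_sum (K' := K') hK P₀
  have hd1 : 1 ≤ P₀.deg := FF.deg_pos_place hK P₀
  have h1 := hsum hfin.toFinset (fun Q' => by rw [Set.Finite.mem_toFinset]; rfl)
  rw [hdeg] at h1
  have hterm : ∀ Q ∈ hfin.toFinset, 2 * P₀.deg ≤ ramIdx Q P₀ * Q.deg := by
    intro Q hQ
    rw [Set.Finite.mem_toFinset] at hQ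
    obtain ⟨e, he⟩ := hQ
    rw [ramIdx_eq he]
    exact Nat.mul_le_mul (heven Q e he) (deg_le_of_isOverWith hK' he)
  have hcard := Finset.card_nsmul_le_sum hfin.toFinset _ _ hterm
  rw [h1, smul_eq_mul] at hcard
  have hcard1 : hfin.toFinset.card = 1 := by
    have hle : hfin.toFinset.card ≤ 1 := by
      by_contra hgt
      rw [not_le] at hgt
      have : 2 * (2 * P₀.deg) ≤ hfin.toFinset.card * (2 * P₀.deg) := Nat.mul_le_mul_right _ hgt
      omega
    have hpos : 0 < hfin.toFinset.card := by
      rw [Finset.card_pos]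
      by_contra hempty
      rw [Finset.not_nonempty_iff_eq_empty] at hempty
      rw [hempty, Finset.sum_empty] at h1
      omega
    omega
  obtain ⟨Q₁, hQ₁⟩ := Finset.card_eq_one.mp hcard1
  have hmem : ∀ Q : Place k K', IsOver Q P₀ ↔ Q = Q₁ := by
    intro Q
    have : Q ∈ hfin.toFinset ↔ IsOver Q P₀ := by rw [Set.Finite.mem_toFinset]; rfl
    rw [← this, hQ₁, Finset.mem_singleton]
  refine ⟨⟨Q₁, (hmem Q₁).mpr rfl, fun Q hQ => (hmem Q).mp hQ⟩, fun Q hQ => ?_⟩
  have hQQ := (hmem Q).mp hQ
  subst hQQ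
  obtain ⟨e, he⟩ := hQ
  rw [hQ₁, Finset.sum_singleton, ramIdx_eq he] at h1
  have he2 := heven Q e he
  have hdQ := deg_le_of_isOverWith hK' he
  have hdeq : Q.deg = P₀.deg ∧ e = 2 := by
    have h3 : 2 * Q.deg ≤ e * Q.deg := Nat.mul_le_mul_right _ he2
    have h4 : Q.deg = P₀.deg := by omega
    refine ⟨h4, ?_⟩
    rw [h4] at h1
    have : e * P₀.deg = 2 * P₀.deg := h1
    exact Nat.eq_of_mul_eq_mul_right hd1 this
  rw [hdeq.2] at he
  exact ⟨he, hdeq.1⟩

end

theorem hyperelliptic_infinite {k K : Type*} [Field k] [Field K] (h2 : ringChar k ≠ 2) [Algebra k K]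
    [Algebra (RatFunc k) K] [IsScalarTower k (RatFunc k) K]
    (hdeg : Module.finrank (RatFunc k) K = 2) (y : K) (f : k[X]) (hf : Squarefree f)
    (hd : 1 ≤ f.natDegree)
    (heq : y ^ 2 = algebraMap (RatFunc k) K (algebraMap k[X] (RatFunc k) f))
    (Pinf : Place k (RatFunc k)) (hinf : Pinf.ord (RatFunc.X : RatFunc k) < 0) :
    (Odd f.natDegree → (∃! P : Place k K, IsOver P Pinf) ∧
      ∀ P : Place k K, IsOver P Pinf → IsOverWith P Pinf 2 ∧ P.deg = 1) ∧
    (Even f.natDegree → (conorm K (Finsupp.single Pinf 1)).deg = 2 ∧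
      ∀ P : Place k K, IsOver P Pinf → IsOverWith P Pinf 1) := by
  classical
  have hK₀ : IsFunctionField k (RatFunc k) := FF.isFunctionField_ratFunc
  haveI hfd : FiniteDimensional (RatFunc k) K :=
    Module.finite_of_finrank_pos (by rw [hdeg]; norm_num)
  have hK' : IsFF k K := isFF_of_finite hK₀.1
  have hf0 : f ≠ 0 := by rintro rfl; simp at hd
  obtain ⟨hordX, hdeginf⟩ := ord_X_inf Pinf hinf
  have hvf := val_polynomial_inf Pinf hinf hf0
  have hfF0 : algebraMap k[X] (RatFunc k) f ≠ 0 := by
    rwa [Ne, map_eq_zero_iff _ (RatFunc.algebraMap_injective k)]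
  have hfK0 : algebraMap (RatFunc k) K (algebraMap k[X] (RatFunc k) f) ≠ 0 := by
    rwa [Ne, map_eq_zero]
  have hy0 : y ≠ 0 := by
    rintro rfl
    rw [zero_pow (by norm_num)] at heq
    exact hfK0 heq.symm
  constructor
  · intro hodd
    have heven : ∀ (Q : Place k K) (e : ℕ), IsOverWith Q Pinf e → 2 ≤ e := by
      intro Q e he
      have h1 : Q.1 y ^ 2 = WithZero.exp ((e : ℤ) * f.natDegree) := by
        rw [← map_pow, heq, he, hvf, ← WithZero.exp_nsmul]
        simp
      rw [val_eq_exp_neg_ord Q hy0, ← WithZero.exp_nsmul] at h1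
      have h2' := WithZero.exp_injective h1
      have he0 := isOverWith_pos he
      simp only [nsmul_eq_mul, Nat.cast_ofNat] at h2'
      have h3 : Even ((e : ℤ) * f.natDegree) := ⟨-(Q.ord y), by rw [← h2']; ring⟩
      rw [Int.even_mul] at h3
      rcases h3 with h3 | h3
      · have h4 : Even e := by exact_mod_cast h3
        obtain ⟨r, hr⟩ := h4
        omega
      · have h4 : Even f.natDegree := by exact_mod_cast h3
        exact absurd h4 (Nat.not_even_iff_odd.mpr hodd)
    obtain ⟨hu, hall⟩ := totally_ramified_of_two_le hK₀ hdeg Pinf heven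
    refine ⟨hu, fun P hP => ?_⟩
    obtain ⟨h1, h2'⟩ := hall P hP
    exact ⟨h1, by rw [h2', hdeginf]⟩
  · intro hev
    constructor
    · rw [conorm_deg hK₀, hdeg, FF.deg_single, hdeginf]
      norm_num
    · obtain ⟨m, hm⟩ := hev
      have hX0 : (RatFunc.X : RatFunc k) ≠ 0 := RatFunc.X_ne_zero
      have hX'0 : algebraMap (RatFunc k) K RatFunc.X ≠ 0 := (_root_.map_ne_zero _).mpr hX0
      obtain ⟨g, hg⟩ : ∃ g : RatFunc k, g = aeval (RatFunc.X : RatFunc k)⁻¹ f.reverse := ⟨_, rfl⟩
      have hgval : Pinf.1 g = 1 := by rw [hg]; exact val_reverse_inf Pinf hinf hf0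
      have hg0 : g ≠ 0 := by
        intro h; rw [h, map_zero] at hgval; exact zero_ne_one hgval
      have hfg : algebraMap k[X] (RatFunc k) f = RatFunc.X ^ (m + m) * g := by
        rw [← hm, hg]; exact algebraMap_eq_X_pow_mul_reverse f
      obtain ⟨y', hy'⟩ : ∃ y' : K, y' = y / (algebraMap (RatFunc k) K RatFunc.X) ^ m := ⟨_, rfl⟩
      have hy'2 : y' ^ 2 = algebraMap (RatFunc k) K g := by
        rw [hy', div_pow, heq, hfg, map_mul, map_pow, pow_add, ← pow_two]
        field_simp
      have hy'not : y' ∉ Set.range (algebraMap (RatFunc k) K) := by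
        rintro ⟨z, hz⟩
        have hyw : y = algebraMap (RatFunc k) K (z * RatFunc.X ^ m) := by
          rw [map_mul, map_pow, hz, hy']
          field_simp
        have hw2 : (z * RatFunc.X ^ m) ^ 2 = algebraMap k[X] (RatFunc k) f := by
          apply (algebraMap (RatFunc k) K).injective
          rw [map_pow, ← hyw, heq]
        have hwint : IsIntegral k[X] (z * RatFunc.X ^ m) :=
          ⟨X ^ 2 - C f, monic_X_pow_sub_C _ two_ne_zero, by simp [hw2]⟩
        obtain ⟨q, hq⟩ := IsIntegrallyClosed.isIntegral_iff.mp hwint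
        have hq2 : q ^ 2 = f := by
          apply RatFunc.algebraMap_injective k
          rw [map_pow, hq, hw2]
        have hunit : IsUnit q := hf q ⟨1, by rw [← hq2]; ring⟩
        have : f.natDegree = 0 := by
          rw [← hq2, natDegree_pow, natDegree_eq_zero_of_isUnit hunit]
        omega
      have hprime : Nat.Prime (Module.finrank (RatFunc k) K) := by rw [hdeg]; exact Nat.prime_two
      haveI := IntermediateField.isSimpleOrder_of_finrank_prime (RatFunc k) K hprime
      have htop : (RatFunc k)⟮y'⟯ = ⊤ := (eq_bot_or_eq_top _).resolve_left (by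
        rw [IntermediateField.adjoin_simple_eq_bot_iff]
        exact fun h => hy'not (IntermediateField.mem_bot.mp h))
      have hint : IsIntegral (RatFunc k) y' := Algebra.IsIntegral.isIntegral y'
      have hmin : minpoly (RatFunc k) y' = X ^ 2 - C g := by
        have hmonic : (X ^ 2 - C g : (RatFunc k)[X]).Monic := monic_X_pow_sub_C g two_ne_zero
        have hroot : aeval y' (X ^ 2 - C g : (RatFunc k)[X]) = 0 := by simp [hy'2]
        have hdvd := minpoly.dvd (RatFunc k) y' hroot
        have hdeg2 : 2 ≤ (minpoly (RatFunc k) y').natDegree :=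
          (minpoly.two_le_natDegree_iff hint).mpr hy'not
        exact (Polynomial.eq_of_monic_of_dvd_of_natDegree_le (minpoly.monic hint) hmonic hdvd
          (by rw [natDegree_X_pow_sub_C]; exact hdeg2)).symm
      have h2k : (2 : k) ≠ 0 := by
        intro h0
        have : ringChar k ∣ 2 := by rw [← ringChar.spec k 2]; exact_mod_cast h0
        rcases (Nat.dvd_prime Nat.prime_two).mp this with h1 | h1
        · haveI := ringChar.charP k
          exact CharP.ringChar_ne_one h1
        · exact h2 h1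
      have h2F : (2 : RatFunc k) ≠ 0 := by
        rw [← map_ofNat (algebraMap k (RatFunc k)) 2]; exact (_root_.map_ne_zero _).mpr h2k
      have hv2 : Pinf.1 (2 : RatFunc k) = 1 := by
        rw [← map_ofNat (algebraMap k (RatFunc k)) 2]; exact gval_algebraMap Pinf.1 Pinf.2.1 h2k
      have hder : derivative (X ^ 2 - C g : (RatFunc k)[X]) = C 2 * X := by
        rw [derivative_sub, derivative_C, sub_zero, derivative_X_pow]
        simp
      have hab : C (-g⁻¹) * (X ^ 2 - C g : (RatFunc k)[X]) +
          (C ((2 * g)⁻¹) * X) * derivative (X ^ 2 - C g : (RatFunc k)[X]) = 1 := by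
        rw [hder]
        have e1 : (C ((2 * g)⁻¹) * C 2 : (RatFunc k)[X]) = C g⁻¹ := by
          rw [← C_mul]; congr 1; field_simp
        have e2 : (C g⁻¹ * C g : (RatFunc k)[X]) = 1 := by
          rw [← C_mul, inv_mul_cancel₀ hg0, C_1]
        rw [C_neg]
        linear_combination e2 + X ^ 2 * e1
      have hsep_y : IsSeparable (RatFunc k) y' := by
        unfold IsSeparable; rw [hmin]; exact ⟨_, _, hab⟩
      haveI hsep : Algebra.IsSeparable (RatFunc k) K := by
        haveI h1 : Algebra.IsSeparable (RatFunc k) (RatFunc k)⟮y'⟯ :=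
          (IntermediateField.isSeparable_adjoin_simple_iff_isSeparable (RatFunc k) K).mpr hsep_y
        exact AlgEquiv.Algebra.isSeparable
          ((IntermediateField.equivOfEq htop).trans IntermediateField.topEquiv)
      let B : PowerBasis (RatFunc k) K := (IntermediateField.adjoin.powerBasis hint).map
        ((IntermediateField.equivOfEq htop).trans IntermediateField.topEquiv)
      have hBgen : B.gen = y' := by simp [B]
      have hBdim : B.dim = 2 := by rw [← B.finrank, hdeg]
      have hdiscr : Algebra.discr (RatFunc k) B.basis = 4 * g := by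
        rw [Algebra.discr_powerBasis_eq_norm, hdeg]
        have h1 : aeval B.gen (derivative (minpoly (RatFunc k) B.gen)) =
            algebraMap (RatFunc k) K 2 * B.gen := by
          rw [hBgen, hmin, hder]; simp
        rw [h1, map_mul, Algebra.norm_algebraMap, hdeg, Algebra.PowerBasis.norm_gen_eq_coeff_zero_minpoly,
          hBdim, hBgen, hmin]
        have hc0 : (X ^ 2 - C g : (RatFunc k)[X]).coeff 0 = -g := by simp
        rw [hc0]
        norm_num
      have hvd : Pinf.1 (Algebra.discr (RatFunc k) B.basis) = 1 := by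
        rw [hdiscr, show (4 : RatFunc k) = 2 * 2 by norm_num, map_mul, map_mul, hv2, hgval]
        simp
      have hcoef : ∀ n, Pinf.1 ((minpoly (RatFunc k) B.gen).coeff n) ≤ 1 := by
        intro n
        rw [hBgen, hmin, coeff_sub, coeff_X_pow, coeff_C]
        by_cases hn2 : n = 2
        · subst hn2; simp
        · by_cases hn0 : n = 0
          · subst hn0; simp [hgval]
          · simp [hn2, hn0]
      have ha : ∀ n, Pinf.1 ((C (-g⁻¹) : (RatFunc k)[X]).coeff n) ≤ 1 := by
        intro n
        rw [coeff_C]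
        split_ifs
        · rw [Valuation.map_neg, map_inv₀, hgval, inv_one]
        · simp
      have hb : ∀ n, Pinf.1 ((C ((2 * g)⁻¹) * X : (RatFunc k)[X]).coeff n) ≤ 1 := by
        intro n
        rw [coeff_C_mul_X]
        split_ifs
        · rw [map_inv₀, map_mul, hv2, hgval, one_mul, inv_one]
        · simp
      intro Q hQ
      refine isOverWith_one_of_good hK₀ Pinf B hcoef (C (-g⁻¹)) (C ((2 * g)⁻¹) * X) ?_ ha hb hvd Q hQ
      rw [hBgen, hmin]
      exact hab

end Groth.Agent.Helper5.FG
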