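import Mathlib
import Groth.Agent.Helper5.FGHyperInf
set_option autoImplicit false
open FunFld Polynomial
open scoped IntermediateField

namespace Groth.Agent.Helper5.FG

theorem artin_schreier_ramification {k K : Type*} [Field k] [Field K] (h2 : ringChar k = 2)
    [Algebra k K] [Algebra (RatFunc k) K] [IsScalarTower k (RatFunc k) K]
    (hdeg : Module.finrank (RatFunc k) K = 2)
    (y : K) (hy : y ∉ Set.range (algebraMap (RatFunc k) K))
    (f : RatFunc k) (heq : y ^ 2 + y = algebraMap (RatFunc k) K f)
    (P₀ : Place k (RatFunc k)) :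
    ((P₀.ord f < 0 ∧ Odd (P₀.ord f)) → (∃! P : Place k K, IsOver P P₀) ∧
      ∀ P : Place k K, IsOver P P₀ → IsOverWith P P₀ 2 ∧ P.deg = P₀.deg) ∧
    (0 ≤ P₀.ord f → ∀ P : Place k K, IsOver P P₀ → IsOverWith P P₀ 1) := by
  classical
  have hK₀ : IsFunctionField k (RatFunc k) := FF.isFunctionField_ratFunc
  haveI hfd : FiniteDimensional (RatFunc k) K :=
    Module.finite_of_finrank_pos (by rw [hdeg]; norm_num)
  have hK' : IsFF k K := isFF_of_finite hK₀.1
  have hy0 : y ≠ 0 := by
    rintro rfl
    exact hy ⟨0, map_zero _⟩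
  constructor
  · rintro ⟨hneg, hodd⟩
    have hf0 : f ≠ 0 := by
      rintro rfl
      rw [FF.ord_zero] at hneg
      exact lt_irrefl _ hneg
    have heven : ∀ (Q : Place k K) (e : ℕ), IsOverWith Q P₀ e → 2 ≤ e := by
      intro Q e he
      have he0 := isOverWith_pos he
      have hfv : P₀.1 f = WithZero.exp (-(P₀.ord f)) := val_eq_exp_neg_ord P₀ hf0
      have h1 : Q.1 (y ^ 2 + y) = WithZero.exp ((e : ℤ) * (-(P₀.ord f))) := by
        rw [heq, he, hfv, ← WithZero.exp_nsmul]
        simp
      have hgt : 1 < Q.1 (y ^ 2 + y) := by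
        rw [h1, ← WithZero.exp_zero, WithZero.exp_lt_exp]
        have : (0 : ℤ) < e := by exact_mod_cast Nat.pos_of_ne_zero he0
        exact mul_pos this (by omega)
      have hy1 : 1 < Q.1 y := by
        by_contra hle
        rw [not_lt] at hle
        have : Q.1 (y ^ 2 + y) ≤ 1 := by
          refine (Q.1.map_add _ _).trans (max_le ?_ hle)
          rw [map_pow]
          exact pow_le_one₀ zero_le hle
        exact absurd hgt (not_lt.mpr this)
      have hlt : Q.1 y < Q.1 (y ^ 2) := by
        rw [map_pow, pow_two]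
        calc Q.1 y = 1 * Q.1 y := (one_mul _).symm
          _ < Q.1 y * Q.1 y := by
            apply mul_lt_mul_of_pos_right hy1
            exact lt_trans zero_lt_one hy1
      have h3 : Q.1 (y ^ 2 + y) = Q.1 (y ^ 2) := Valuation.map_add_eq_of_lt_left _ hlt
      rw [h3, map_pow, val_eq_exp_neg_ord Q hy0, ← WithZero.exp_nsmul] at h1
      have h4 := WithZero.exp_injective h1
      simp only [nsmul_eq_mul, Nat.cast_ofNat] at h4
      have h5 : Even ((e : ℤ) * (-(P₀.ord f))) := ⟨-(Q.ord y), by rw [← h4]; ring⟩
      rw [Int.even_mul] at h5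
      rcases h5 with h5 | h5
      · have h6 : Even e := by exact_mod_cast h5
        obtain ⟨r, hr⟩ := h6
        omega
      · rw [even_neg] at h5
        exact absurd h5 (Int.not_even_iff_odd.mpr hodd)
    exact totally_ramified_of_two_le hK₀ hdeg P₀ heven
  · intro hnn
    have h2k : (2 : k) = 0 := by
      have := ringChar.spec k 2
      have h3 : ((2 : ℕ) : k) = 0 := this.mpr (by rw [h2])
      exact_mod_cast h3
    have h2F : (2 : RatFunc k) = 0 := by
      rw [← map_ofNat (algebraMap k (RatFunc k)) 2, h2k, map_zero]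
    have hfval : P₀.1 f ≤ 1 := by
      by_cases hf0 : f = 0
      · rw [hf0, map_zero]; exact zero_le
      · exact (ord_nonneg_iff P₀ hf0).mp hnn
    have hprime : Nat.Prime (Module.finrank (RatFunc k) K) := by rw [hdeg]; exact Nat.prime_two
    haveI := IntermediateField.isSimpleOrder_of_finrank_prime (RatFunc k) K hprime
    have htop : (RatFunc k)⟮y⟯ = ⊤ := (eq_bot_or_eq_top _).resolve_left (by
      rw [IntermediateField.adjoin_simple_eq_bot_iff]
      exact fun h => hy (IntermediateField.mem_bot.mp h))
    have hint : IsIntegral (RatFunc k) y := Algebra.IsIntegral.isIntegral y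
    have hnatdeg : (X ^ 2 + X - C f : (RatFunc k)[X]).natDegree = 2 := by
      compute_degree!
    have hmonic : (X ^ 2 + X - C f : (RatFunc k)[X]).Monic := by
      monicity!
    have hmin : minpoly (RatFunc k) y = X ^ 2 + X - C f := by
      have hroot : aeval y (X ^ 2 + X - C f : (RatFunc k)[X]) = 0 := by simp [heq]
      have hdvd := minpoly.dvd (RatFunc k) y hroot
      have hdeg2 : 2 ≤ (minpoly (RatFunc k) y).natDegree :=
        (minpoly.two_le_natDegree_iff hint).mpr hy
      exact (Polynomial.eq_of_monic_of_dvd_of_natDegree_le (minpoly.monic hint) hmonic hdvd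
        (by rw [hnatdeg]; exact hdeg2)).symm
    have hder : derivative (X ^ 2 + X - C f : (RatFunc k)[X]) = 1 := by
      rw [derivative_sub, derivative_C, sub_zero, derivative_add, derivative_X_pow, derivative_X]
      simp [h2F]
    have hab : (0 : (RatFunc k)[X]) * (X ^ 2 + X - C f : (RatFunc k)[X]) +
        1 * derivative (X ^ 2 + X - C f : (RatFunc k)[X]) = 1 := by
      rw [hder]; ring
    have hsep_y : IsSeparable (RatFunc k) y := by
      unfold IsSeparable; rw [hmin]; exact ⟨_, _, hab⟩
    haveI hsep : Algebra.IsSeparable (RatFunc k) K := by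
      haveI h1 : Algebra.IsSeparable (RatFunc k) (RatFunc k)⟮y⟯ :=
        (IntermediateField.isSeparable_adjoin_simple_iff_isSeparable (RatFunc k) K).mpr hsep_y
      exact AlgEquiv.Algebra.isSeparable
        ((IntermediateField.equivOfEq htop).trans IntermediateField.topEquiv)
    let B : PowerBasis (RatFunc k) K := (IntermediateField.adjoin.powerBasis hint).map
      ((IntermediateField.equivOfEq htop).trans IntermediateField.topEquiv)
    have hBgen : B.gen = y := by simp [B]
    have hdiscr : Algebra.discr (RatFunc k) B.basis = -1 := by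
      rw [Algebra.discr_powerBasis_eq_norm, hdeg, hBgen, hmin, hder]
      simp
    have hvd : P₀.1 (Algebra.discr (RatFunc k) B.basis) = 1 := by
      rw [hdiscr, Valuation.map_neg, map_one]
    have hcoef : ∀ n, P₀.1 ((minpoly (RatFunc k) B.gen).coeff n) ≤ 1 := by
      intro n
      rw [hBgen, hmin, coeff_sub, coeff_add, coeff_X_pow, coeff_X, coeff_C]
      by_cases hn2 : n = 2
      · subst hn2; simp
      · by_cases hn1 : n = 1
        · subst hn1; simp
        · by_cases hn0 : n = 0
          · subst hn0; simpa using hfval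
          · have : ¬ (1 = n) := fun h => hn1 h.symm
            simp [hn2, hn0, this]
    have ha : ∀ n, P₀.1 ((0 : (RatFunc k)[X]).coeff n) ≤ 1 := by
      intro n; simp
    have hb : ∀ n, P₀.1 ((1 : (RatFunc k)[X]).coeff n) ≤ 1 := by
      intro n
      rw [coeff_one]
      split_ifs <;> simp
    intro Q hQ
    refine isOverWith_one_of_good hK₀ P₀ B hcoef 0 1 ?_ ha hb hvd Q hQ
    rw [hBgen, hmin]
    exact hab

end Groth.Agent.Helper5.FG
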