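import Mathlib
set_option autoImplicit false
open Polynomial
open scoped IntermediateField

namespace Groth.Agent.Helper5.FG

theorem exists_artin_schreier {k K : Type*} [Field k] [Field K]
    (h2 : ringChar k = 2) [Algebra (RatFunc k) K] (hdeg : Module.finrank (RatFunc k) K = 2)
    [Algebra.IsSeparable (RatFunc k) K] :
    ∃ (y : K) (f : RatFunc k), y ^ 2 + y = algebraMap (RatFunc k) K f ∧
      IntermediateField.adjoin (RatFunc k) ({y} : Set K) = ⊤ := by
  classical
  haveI : FiniteDimensional (RatFunc k) K := Module.finite_of_finrank_pos (by omega)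
  have hprime : Nat.Prime (Module.finrank (RatFunc k) K) := by rw [hdeg]; exact Nat.prime_two
  haveI := IntermediateField.isSimpleOrder_of_finrank_prime (RatFunc k) K hprime
  have h2F : (2 : RatFunc k) = 0 := by
    have h2k : (2 : k) = 0 := by
      have := ringChar.spec k 2
      have h3 : ((2 : ℕ) : k) = 0 := this.mpr (by rw [h2])
      exact_mod_cast h3
    rw [← map_ofNat (algebraMap k (RatFunc k)) 2, h2k, map_zero]
  have hne : (⊥ : IntermediateField (RatFunc k) K) ≠ ⊤ := by
    intro h
    rw [IntermediateField.bot_eq_top_iff_finrank_eq_one] at h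
    omega
  obtain ⟨z, -, hz⟩ := SetLike.exists_of_lt (lt_of_le_of_ne bot_le hne)
  have hzint : IsIntegral (RatFunc k) z := Algebra.IsIntegral.isIntegral z
  have hz' : z ∉ Set.range (algebraMap (RatFunc k) K) := by
    intro h
    exact hz (IntermediateField.mem_bot.mpr h)
  have hdeg2 : (minpoly (RatFunc k) z).natDegree = 2 := by
    apply le_antisymm
    · rw [← hdeg]; exact minpoly.natDegree_le z
    · exact (minpoly.two_le_natDegree_iff hzint).mpr hz'
  set b := (minpoly (RatFunc k) z).coeff 1 with hb
  set c := (minpoly (RatFunc k) z).coeff 0 with hc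
  have hlead : (minpoly (RatFunc k) z).coeff 2 = 1 := by
    have := (minpoly.monic hzint).coeff_natDegree
    rwa [hdeg2] at this
  have hrel : z ^ 2 + algebraMap _ K b * z + algebraMap _ K c = 0 := by
    have h1 := minpoly.aeval (RatFunc k) z
    rw [Polynomial.aeval_eq_sum_range, hdeg2] at h1
    simp only [Finset.sum_range_succ, Finset.range_zero, Finset.sum_empty, zero_add, pow_zero,
      pow_one] at h1
    rw [hlead, one_smul, Algebra.smul_def, Algebra.smul_def, mul_one] at h1
    rw [← h1]; ring
  have hsep : (minpoly (RatFunc k) z).Separable := Algebra.IsSeparable.isSeparable (RatFunc k) z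
  have hb0 : b ≠ 0 := by
    intro hb0
    have hder : derivative (minpoly (RatFunc k) z) = 0 := by
      ext n
      rw [Polynomial.coeff_derivative, Polynomial.coeff_zero]
      rcases n with _ | _ | n
      · simp [← hb, hb0]
      · rw [hlead]
        have : ((1 : ℕ) : RatFunc k) + 1 = 2 := by norm_num
        rw [one_mul, this, h2F]
      · rw [Polynomial.coeff_eq_zero_of_natDegree_lt (by omega), zero_mul]
    have := hsep
    unfold Polynomial.Separable at this
    rw [hder, isCoprime_zero_right] at this
    exact (minpoly.not_isUnit (RatFunc k) z) this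
  have hb0' : algebraMap (RatFunc k) K b ≠ 0 := by rwa [Ne, map_eq_zero]
  refine ⟨z / algebraMap _ K b, -c / b ^ 2, ?_, ?_⟩
  · rw [map_div₀, map_neg, map_pow]
    have : z ^ 2 = - (algebraMap _ K b * z) - algebraMap _ K c := by
      rw [← sub_eq_zero, ← hrel]; ring
    field_simp
    rw [← sub_eq_zero, ← hrel]; ring
  · rcases eq_bot_or_eq_top ((RatFunc k)⟮z / algebraMap _ K b⟯) with h | h
    · exfalso
      rw [IntermediateField.adjoin_simple_eq_bot_iff, IntermediateField.mem_bot] at h
      obtain ⟨w, hw⟩ := h
      apply hz'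
      refine ⟨w * b, ?_⟩
      rw [map_mul, hw]
      field_simp
    · exact h

end Groth.Agent.Helper5.FG
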