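import Mathlib
import Groth.Agent.Helper5.FFPolePart
import Groth.Agent.Helper5.FGQuad2
import Groth.Agent.Helper5.FGHyperInf
set_option autoImplicit false
open FunFld Polynomial
open scoped IntermediateField

namespace Groth.Agent.Helper5.FG

theorem genus_ratFunc {k : Type*} [Field k] : genus k (RatFunc k) = 0 := by
  apply FF.genus_eq_zero_of_finrank_one FF.isFunctionField_ratFunc transcendental_X
  rw [RatFunc.adjoin_X, IntermediateField.finrank_top]

theorem exists_artin_schreier_odd_poles {k K : Type*} [Field k] [Field K] [PerfectField k]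
    (h2 : ringChar k = 2)
    [Algebra k K] [Algebra (RatFunc k) K] [IsScalarTower k (RatFunc k) K]
    (hdeg : Module.finrank (RatFunc k) K = 2) [Algebra.IsSeparable (RatFunc k) K] :
    ∃ (y : K) (f : RatFunc k), y ^ 2 + y = algebraMap (RatFunc k) K f ∧
      IntermediateField.adjoin (RatFunc k) ({y} : Set K) = ⊤ ∧
      ∀ P : Place k (RatFunc k), P.ord f < 0 → Odd (P.ord f) := by
  classical
  obtain ⟨y, f, heq, htop⟩ := exists_artin_schreier h2 hdeg
  have hK₀ : IsFunctionField k (RatFunc k) := FF.isFunctionField_ratFunc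
  obtain ⟨u, hu⟩ := FF.exists_odd_poles h2 hK₀ genus_ratFunc f
  haveI : CharP k 2 := ringChar.of_eq h2
  haveI : CharP K 2 := charP_of_injective_algebraMap (algebraMap k K).injective 2
  haveI : FiniteDimensional (RatFunc k) K := Module.finite_of_finrank_pos (by omega)
  have hprime : Nat.Prime (Module.finrank (RatFunc k) K) := by rw [hdeg]; exact Nat.prime_two
  haveI := IntermediateField.isSimpleOrder_of_finrank_prime (RatFunc k) K hprime
  refine ⟨y + algebraMap (RatFunc k) K u, f + u ^ 2 + u, ?_, ?_, hu⟩
  · rw [CharTwo.add_sq, map_add, map_add, map_pow, ← heq]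
    ring
  · refine (eq_bot_or_eq_top _).resolve_left ?_
    rw [IntermediateField.adjoin_simple_eq_bot_iff]
    intro h
    have hy : y ∈ (⊥ : IntermediateField (RatFunc k) K) := by
      have h1 := sub_mem h (IntermediateField.algebraMap_mem ⊥ u)
      rwa [add_sub_cancel_right] at h1
    have hbot : (RatFunc k)⟮y⟯ = ⊥ := IntermediateField.adjoin_simple_eq_bot_iff.mpr hy
    rw [htop] at hbot
    have := IntermediateField.bot_eq_top_iff_finrank_eq_one.mp hbot.symm
    omega

end Groth.Agent.Helper5.FG
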