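import Mathlib
import Groth.Agent.Helper5.FGConst4
set_option autoImplicit false
set_option linter.style.haveILetI false
open FunFld Polynomial TensorProduct
open scoped IntermediateField

namespace Groth.Agent.Helper5.FG

universe u v

section
variable {k K : Type*} [Field k] [Field K] [Algebra k K]

theorem exists_finite_complement (hK : IsFF k K) (P : Place k K) (N : ℕ) :
    ∃ S : Finset K, ∀ c : K, P.1 c ≤ WithZero.exp (N : ℤ) →
      ∃ w ∈ Submodule.span k (S : Set K), P.1 (c - w) ≤ 1 := by
  classical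
  obtain ⟨t, ht⟩ := exists_uniformizer P
  have ht0 : t ≠ 0 := ne_zero_of_val_eq_exp P ht
  have hfd := finiteDimensional_residueField hK P
  obtain ⟨n, sbar, hsbar⟩ := Module.Finite.exists_fin (R := k) (M := IsLocalRing.ResidueField P.O)
  choose s hs using fun j => IsLocalRing.residue_surjective (R := P.O) (sbar j)
  induction N with
  | zero =>
    refine ⟨∅, fun c hc => ⟨0, Submodule.zero_mem _, ?_⟩⟩
    rw [sub_zero]
    simpa using hc
  | succ N ih =>
    obtain ⟨S, hS⟩ := ih
    refine ⟨S ∪ Finset.image (fun j => (t ^ (N + 1))⁻¹ * (s j : K)) Finset.univ, ?_⟩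
    intro c hc
    have hc' : P.1 (c * t ^ (N + 1)) ≤ 1 := by
      rw [map_mul, map_pow, ht, ← WithZero.exp_nsmul]
      calc P.1 c * WithZero.exp ((N + 1) • (-1 : ℤ))
          ≤ WithZero.exp ((N + 1 : ℕ) : ℤ) * WithZero.exp ((N + 1) • (-1 : ℤ)) := by gcongr
        _ = 1 := by rw [← WithZero.exp_add, ← WithZero.exp_zero]; congr 1; simp
    have hmem : IsLocalRing.residue P.O ⟨c * t ^ (N + 1), hc'⟩ ∈
        Submodule.span k (Set.range sbar) := by rw [hsbar]; trivial
    obtain ⟨lam, hlam⟩ := (Submodule.mem_span_range_iff_exists_fun k).mp hmem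
    obtain ⟨σ, hσ_def⟩ : ∃ σ : P.O, σ = ∑ j, algebraMap k P.O (lam j) * s j := ⟨_, rfl⟩
    have hσres : IsLocalRing.residue P.O (⟨c * t ^ (N + 1), hc'⟩ - σ) = 0 := by
      rw [map_sub, ← hlam, hσ_def, map_sum, sub_eq_zero]
      apply Finset.sum_congr rfl
      intro j _
      rw [map_mul, hs]
      exact Algebra.smul_def (lam j) (sbar j)
    have hlt : P.1 (c * t ^ (N + 1) - (σ : K)) < 1 := (residue_eq_zero_iff P _).mp hσres
    have hσK : (σ : K) = ∑ j, algebraMap k K (lam j) * (s j : K) := by
      rw [hσ_def, AddSubmonoidClass.coe_finsetSum]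
      rfl
    obtain ⟨w₁, hw₁_def⟩ : ∃ w₁ : K, w₁ = (t ^ (N + 1))⁻¹ * (σ : K) := ⟨_, rfl⟩
    have hw₁mem : w₁ ∈ Submodule.span k
        ((S ∪ Finset.image (fun j => (t ^ (N + 1))⁻¹ * (s j : K)) Finset.univ : Finset K) : Set K) := by
      rw [hw₁_def, hσK, Finset.mul_sum]
      apply Submodule.sum_mem
      intro j _
      have : (t ^ (N + 1))⁻¹ * (algebraMap k K (lam j) * (s j : K)) =
          lam j • ((t ^ (N + 1))⁻¹ * (s j : K)) := by
        rw [Algebra.smul_def]; ring
      rw [this]
      apply Submodule.smul_mem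
      apply Submodule.subset_span
      rw [Finset.coe_union]
      right
      rw [Finset.coe_image]
      exact ⟨j, Finset.mem_coe.mpr (Finset.mem_univ _), rfl⟩
    have hcw₁ : P.1 (c - w₁) ≤ WithZero.exp (N : ℤ) := by
      have : c - w₁ = (t ^ (N + 1))⁻¹ * (c * t ^ (N + 1) - (σ : K)) := by
        rw [hw₁_def]; field_simp
      rw [this, map_mul, map_inv₀, map_pow, ht, ← WithZero.exp_nsmul, ← WithZero.exp_neg]
      calc WithZero.exp (-((N + 1) • (-1 : ℤ))) * P.1 (c * t ^ (N + 1) - (σ : K))
          ≤ WithZero.exp (-((N + 1) • (-1 : ℤ))) * WithZero.exp (-1 : ℤ) := by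
            gcongr; exact le_exp_neg_one_of_lt_one hlt
        _ = WithZero.exp (N : ℤ) := by rw [← WithZero.exp_add]; congr 1; simp
    obtain ⟨w₂, hw₂mem, hw₂⟩ := hS (c - w₁) hcw₁
    refine ⟨w₁ + w₂, Submodule.add_mem _ hw₁mem ?_, ?_⟩
    · refine Submodule.span_mono ?_ hw₂mem
      rw [Finset.coe_union]
      exact Set.subset_union_left
    · have : c - (w₁ + w₂) = c - w₁ - w₂ := by ring
      rw [this]; exact hw₂

end
end Groth.Agent.Helper5.FG

namespace Groth.Agent.Helper5.FG

universe u v

section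
variable {k k' : Type u} {K K' : Type v} [Field k] [Field k'] [Field K] [Field K']
    [Algebra k k'] [Algebra k K] [Algebra K K'] [Algebra k' K'] [Algebra k K']
    [IsScalarTower k k' K'] [IsScalarTower k K K']

theorem mem_adjoin_of_coords (P : Place k K) [Algebra P.O K'] [IsScalarTower P.O K K']
    {ι : Type*} [Fintype ι] (β : ι → k') (c : ι → K) (hc : ∀ i, P.1 (c i) ≤ 1) :
    ∑ i, algebraMap K K' (c i) * algebraMap k' K' (β i) ∈
      Algebra.adjoin P.O (Set.range (algebraMap k' K')) := by
  apply Subalgebra.sum_mem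
  intro i _
  apply Subalgebra.mul_mem
  · have : algebraMap K K' (c i) = algebraMap P.O K' ⟨c i, hc i⟩ := by
      rw [algebraMap_O_apply]
    rw [this]
    exact Subalgebra.algebraMap_mem _ _
  · exact Algebra.subset_adjoin ⟨_, rfl⟩

theorem conductor_and_finite_quotient [FiniteDimensional k k']
    (h : Function.Bijective (Algebra.TensorProduct.productMap
      (IsScalarTower.toAlgHom k k' K') (IsScalarTower.toAlgHom k K K')))
    (hK : IsFunctionField k K) (P : Place k K) [Algebra P.O K'] [IsScalarTower P.O K K'] :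
    (∃ V : Submodule k K', FiniteDimensional k V ∧ ∀ r ∈ integralClosure P.O K',
        ∃ s ∈ Algebra.adjoin P.O (Set.range (algebraMap k' K')), r - s ∈ V) ∧
    (∃ c ∈ integralClosure P.O K', c ≠ 0 ∧ ∀ r ∈ integralClosure P.O K',
        c * r ∈ Algebra.adjoin P.O (Set.range (algebraMap k' K'))) := by
  classical
  haveI : FiniteDimensional K K' := FF.finite_of_baseChange h
  let β := Module.finBasis k k'
  obtain ⟨B', hB'⟩ := exists_basis_baseChange h β
  have hrepr : ∀ y : K', y = ∑ i, algebraMap K K' (B'.repr y i) * algebraMap k' K' (β i) := by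
    intro y
    conv_lhs => rw [← B'.sum_repr y]
    apply Finset.sum_congr rfl
    intro i _
    rw [hB', Algebra.smul_def]
  obtain ⟨d, hd0, hd⟩ := exists_conductor hK P B'
  obtain ⟨d', hd'0, hd'1, hd'⟩ : ∃ d' : K, d' ≠ 0 ∧ P.1 d' ≤ 1 ∧
      ∀ y : K', IsIntegral P.O y → ∀ i, P.1 (d' * B'.repr y i) ≤ 1 := by
    by_cases h1 : P.1 d ≤ 1
    · exact ⟨d, hd0, h1, hd⟩
    · refine ⟨1, one_ne_zero, by simp, fun y hy i => ?_⟩
      push Not at h1
      have h2 := hd y hy i
      rw [map_mul] at h2
      rw [one_mul]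
      by_contra hx
      push Not at hx
      have : 1 < P.1 d * P.1 (B'.repr y i) := by
        calc (1 : WithZero (Multiplicative ℤ)) = 1 * 1 := (one_mul 1).symm
          _ < P.1 d * P.1 (B'.repr y i) := mul_lt_mul'' h1 hx zero_le zero_le
      exact absurd h2 (not_le.mpr this)
  constructor
  · -- the finite-dimensional complement
    obtain ⟨N, hN_def⟩ : ∃ N : ℕ, N = (P.ord d').toNat := ⟨_, rfl⟩
    have hordnn : 0 ≤ P.ord d' := (ord_nonneg_iff P hd'0).mpr hd'1
    have hdinv : P.1 d'⁻¹ = WithZero.exp (N : ℤ) := by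
      rw [map_inv₀, val_eq_exp_neg_ord P hd'0, ← WithZero.exp_neg, neg_neg, hN_def,
        Int.toNat_of_nonneg hordnn]
    obtain ⟨S, hS⟩ := exists_finite_complement hK.1 P N
    let gen : Set K' := ⋃ i : Fin (Module.finrank k k'),
      (fun w : K => algebraMap K K' w * algebraMap k' K' (β i)) '' (S : Set K)
    have hgenfin : gen.Finite :=
      Set.finite_iUnion (fun i => (S.finite_toSet).image _)
    refine ⟨Submodule.span k gen, FiniteDimensional.span_of_finite k hgenfin, ?_⟩
    intro r hr
    have hcoef : ∀ i, P.1 (B'.repr r i) ≤ WithZero.exp (N : ℤ) := by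
      intro i
      have h1 := hd' r hr i
      have : B'.repr r i = d'⁻¹ * (d' * B'.repr r i) := by field_simp
      rw [this, map_mul, hdinv]
      calc WithZero.exp (N : ℤ) * P.1 (d' * B'.repr r i) ≤ WithZero.exp (N : ℤ) * 1 := by gcongr
        _ = WithZero.exp (N : ℤ) := mul_one _
    choose w hwmem hw using fun i => hS (B'.repr r i) (hcoef i)
    refine ⟨∑ i, algebraMap K K' (B'.repr r i - w i) * algebraMap k' K' (β i),
      mem_adjoin_of_coords P β _ hw, ?_⟩
    have e : ∑ i, algebraMap K K' (B'.repr r i - w i) * algebraMap k' K' (β i) +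
        ∑ i, algebraMap K K' (w i) * algebraMap k' K' (β i) = r := by
      rw [← Finset.sum_add_distrib]
      conv_rhs => rw [hrepr r]
      apply Finset.sum_congr rfl
      intro i _
      rw [map_sub]; ring
    have : r - ∑ i, algebraMap K K' (B'.repr r i - w i) * algebraMap k' K' (β i) =
        ∑ i, algebraMap K K' (w i) * algebraMap k' K' (β i) := by
      rw [sub_eq_iff_eq_add']; exact e.symm
    rw [this]
    apply Submodule.sum_mem
    intro i _
    let Li : K →ₗ[k] K' :=
      (LinearMap.mulRight k (algebraMap k' K' (β i))) ∘ₗ (IsScalarTower.toAlgHom k K K').toLinearMap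
    have h1 : Li (w i) ∈ Submodule.span k (Li '' (S : Set K)) :=
      Submodule.apply_mem_span_image_of_mem_span Li (hwmem i)
    have h2 : Submodule.span k (Li '' (S : Set K)) ≤ Submodule.span k gen := by
      apply Submodule.span_mono
      intro x hx
      exact Set.mem_iUnion.mpr ⟨i, hx⟩
    exact h2 h1
  · refine ⟨algebraMap K K' d', ?_, ?_, ?_⟩
    · have : algebraMap K K' d' = algebraMap P.O K' ⟨d', hd'1⟩ := by rw [algebraMap_O_apply]
      rw [this]
      exact isIntegral_algebraMap
    · rwa [Ne, map_eq_zero]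
    · intro r hr
      have : algebraMap K K' d' * r =
          ∑ i, algebraMap K K' (d' * B'.repr r i) * algebraMap k' K' (β i) := by
        conv_lhs => rw [hrepr r, Finset.mul_sum]
        apply Finset.sum_congr rfl
        intro i _
        rw [map_mul]; ring
      rw [this]
      exact mem_adjoin_of_coords P β _ (hd' r hr)

end
end Groth.Agent.Helper5.FG
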