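import Mathlib
set_option autoImplicit false
open Polynomial
open scoped IntermediateField

namespace Groth.Agent.Helper5.FG

theorem exists_sq_mul_squarefree {k : Type*} [Field k] (g : k[X]) (hg : g ≠ 0) :
    ∃ s f : k[X], g = s ^ 2 * f ∧ Squarefree f ∧ s ≠ 0 := by
  induction hn : g.natDegree using Nat.strong_induction_on generalizing g with
  | _ n ih =>
    by_cases hsq : Squarefree g
    · exact ⟨1, g, by ring, hsq, one_ne_zero⟩
    · unfold Squarefree at hsq
      push Not at hsq
      obtain ⟨h, ⟨g', hg'⟩, hunit⟩ := hsq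
      have hh0 : h ≠ 0 := by rintro rfl; apply hg; rw [hg']; ring
      have hg'0 : g' ≠ 0 := by rintro rfl; apply hg; rw [hg']; ring
      have hdeg : 0 < h.natDegree := by
        rw [Nat.pos_iff_ne_zero]
        intro h0
        have : h = C (h.coeff 0) := Polynomial.eq_C_of_natDegree_eq_zero h0
        apply hunit
        rw [this]
        apply Polynomial.isUnit_C.mpr
        rw [isUnit_iff_ne_zero]
        intro hc
        rw [hc, C_0] at this
        exact hh0 this
      have hlt : g'.natDegree < n := by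
        rw [← hn, hg', Polynomial.natDegree_mul (mul_ne_zero hh0 hh0) hg'0,
          Polynomial.natDegree_mul hh0 hh0]
        omega
      obtain ⟨s', f, hs'f, hf, hs'0⟩ := ih g'.natDegree hlt g' hg'0 rfl
      exact ⟨h * s', f, by rw [hg', hs'f]; ring, hf, mul_ne_zero hh0 hs'0⟩

theorem exists_sq_eq_squarefree {k K : Type*} [Field k] [Field K] (h2 : ringChar k ≠ 2)
    [Algebra (RatFunc k) K] (hdeg : Module.finrank (RatFunc k) K = 2) :
    ∃ (y : K) (f : Polynomial k), Squarefree f ∧
      y ^ 2 = algebraMap (RatFunc k) K (algebraMap (Polynomial k) (RatFunc k) f) ∧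
      IntermediateField.adjoin (RatFunc k) ({y} : Set K) = ⊤ := by
  classical
  haveI : FiniteDimensional (RatFunc k) K := Module.finite_of_finrank_pos (by omega)
  have hprime : Nat.Prime (Module.finrank (RatFunc k) K) := by rw [hdeg]; exact Nat.prime_two
  haveI := IntermediateField.isSimpleOrder_of_finrank_prime (RatFunc k) K hprime
  -- 2 ≠ 0
  have h2F : (2 : RatFunc k) ≠ 0 := by
    have h2k : (2 : k) ≠ 0 := by
      intro h0
      apply h2
      have : (ringChar k) ∣ 2 := by
        rw [← ringChar.spec k 2]; exact_mod_cast h0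
      rcases (Nat.dvd_prime Nat.prime_two).mp this with h1 | h1
      · exfalso
        haveI := ringChar.charP k
        exact CharP.ringChar_ne_one h1
      · exact h1
    have : (2 : RatFunc k) = algebraMap k (RatFunc k) 2 := (map_ofNat (algebraMap k (RatFunc k)) 2).symm
    rw [this, Ne, map_eq_zero]
    exact h2k
  -- a non-rational element
  have hne : (⊥ : IntermediateField (RatFunc k) K) ≠ ⊤ := by
    intro h
    rw [IntermediateField.bot_eq_top_iff_finrank_eq_one] at h
    omega
  obtain ⟨z, -, hz⟩ := SetLike.exists_of_lt (lt_of_le_of_ne bot_le hne)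
  have hzint : IsIntegral (RatFunc k) z := Algebra.IsIntegral.isIntegral z
  have hz' : z ∉ Set.range (algebraMap (RatFunc k) K) := by
    intro h
    exact hz (IntermediateField.mem_bot.mpr h)
  have hdeg2 : (minpoly (RatFunc k) z).natDegree = 2 := by
    apply le_antisymm
    · rw [← hdeg]; exact minpoly.natDegree_le z
    · exact (minpoly.two_le_natDegree_iff hzint).mpr hz'
  set b := (minpoly (RatFunc k) z).coeff 1 with hb
  set c := (minpoly (RatFunc k) z).coeff 0 with hc
  have hrel : z ^ 2 + algebraMap _ K b * z + algebraMap _ K c = 0 := by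
    have h1 := minpoly.aeval (RatFunc k) z
    rw [Polynomial.aeval_eq_sum_range, hdeg2] at h1
    simp only [Finset.sum_range_succ, Finset.range_zero, Finset.sum_empty, zero_add, pow_zero,
      pow_one] at h1
    have hlead : (minpoly (RatFunc k) z).coeff 2 = 1 := by
      have := (minpoly.monic hzint).coeff_natDegree
      rwa [hdeg2] at this
    rw [hlead, one_smul, Algebra.smul_def, Algebra.smul_def, mul_one] at h1
    rw [← h1]; ring
  obtain ⟨u, hu_def⟩ : ∃ u : RatFunc k, u = b ^ 2 / 4 - c := ⟨_, rfl⟩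
  obtain ⟨y₀, hy₀_def⟩ : ∃ y₀ : K, y₀ = z + algebraMap _ K (b / 2) := ⟨_, rfl⟩
  have h4F : (4 : RatFunc k) ≠ 0 := by
    have : (4 : RatFunc k) = 2 * 2 := by norm_num
    rw [this]; exact mul_ne_zero h2F h2F
  have hy₀sq : y₀ ^ 2 = algebraMap _ K u := by
    have e1 : algebraMap (RatFunc k) K (b / 2) * 2 = algebraMap _ K b := by
      rw [show (2 : K) = algebraMap (RatFunc k) K 2 from (map_ofNat (algebraMap (RatFunc k) K) 2).symm, ← map_mul]
      congr 1; field_simp
    have e2 : algebraMap (RatFunc k) K (b / 2) ^ 2 = algebraMap _ K (b ^ 2 / 4) := by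
      rw [← map_pow]; congr 1; field_simp; norm_num
    rw [hy₀_def, hu_def, map_sub, ← e2]
    have : z ^ 2 = - (algebraMap _ K b * z) - algebraMap _ K c := by
      rw [← sub_eq_zero, ← hrel]; ring
    rw [add_sq, this, ← e1]; ring
  have hy₀ : y₀ ∉ Set.range (algebraMap (RatFunc k) K) := by
    rintro ⟨w, hw⟩
    apply hz'
    refine ⟨w - b / 2, ?_⟩
    rw [map_sub, hw, hy₀_def]; ring
  set p := u.num with hp
  set q := u.denom with hq
  have hq0 : q ≠ 0 := RatFunc.denom_ne_zero u
  have hq0' : algebraMap k[X] (RatFunc k) q ≠ 0 := by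
    rw [Ne, map_eq_zero_iff _ (IsFractionRing.injective k[X] (RatFunc k))]; exact hq0
  have hu : u = algebraMap k[X] (RatFunc k) p / algebraMap k[X] (RatFunc k) q :=
    (RatFunc.num_div_denom u).symm
  obtain ⟨y₁, hy₁_def⟩ : ∃ y₁ : K, y₁ = algebraMap _ K (algebraMap k[X] (RatFunc k) q) * y₀ := ⟨_, rfl⟩
  have hy₁sq : y₁ ^ 2 = algebraMap _ K (algebraMap k[X] (RatFunc k) (p * q)) := by
    rw [hy₁_def, mul_pow, hy₀sq, ← map_pow, ← map_mul]
    congr 1
    rw [hu, map_mul]
    field_simp
  have hg0 : p * q ≠ 0 := by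
    intro h0
    rw [h0, map_zero, map_zero] at hy₁sq
    have : y₁ = 0 := by simpa using hy₁sq
    rw [hy₁_def] at this
    rcases mul_eq_zero.mp this with h1 | h1
    · rw [map_eq_zero] at h1; exact hq0' h1
    · apply hy₀; exact ⟨0, by rw [map_zero, h1]⟩
  obtain ⟨s, f, hsf, hf, hs0⟩ := exists_sq_mul_squarefree (p * q) hg0
  have hs0' : algebraMap (RatFunc k) K (algebraMap k[X] (RatFunc k) s) ≠ 0 := by
    rw [Ne, map_eq_zero, map_eq_zero_iff _ (IsFractionRing.injective k[X] (RatFunc k))]; exact hs0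
  refine ⟨y₁ / algebraMap _ K (algebraMap k[X] (RatFunc k) s), f, hf, ?_, ?_⟩
  · rw [div_pow, hy₁sq, hsf, map_mul, map_mul, map_pow, map_pow]
    field_simp
  · rcases eq_bot_or_eq_top ((RatFunc k)⟮y₁ / algebraMap _ K (algebraMap k[X] (RatFunc k) s)⟯) with h | h
    · exfalso
      rw [IntermediateField.adjoin_simple_eq_bot_iff, IntermediateField.mem_bot] at h
      obtain ⟨w, hw⟩ := h
      apply hy₀
      refine ⟨w * algebraMap k[X] (RatFunc k) s / algebraMap k[X] (RatFunc k) q, ?_⟩
      rw [map_div₀, map_mul, hw, hy₁_def]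
      have hq0'' : algebraMap (RatFunc k) K (algebraMap k[X] (RatFunc k) q) ≠ 0 := by
        rw [Ne, map_eq_zero]; exact hq0'
      field_simp
    · exact h

end Groth.Agent.Helper5.FG
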