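import Mathlib
import Groth.Agent.Helper5.FGRam1
set_option autoImplicit false
set_option linter.style.haveILetI false
open FunFld Polynomial
open scoped IntermediateField

namespace Groth.Agent.Helper5.FG

section
variable {k K : Type*} [Field k] [Field K] [Algebra k K]

theorem exp_neg_le_exp_neg {a b : ℕ} (h : a ≤ b) :
    WithZero.exp (-(b : ℤ)) ≤ (WithZero.exp (-(a : ℤ)) : WithZero (Multiplicative ℤ)) := by
  rw [WithZero.exp_le_exp]; omega

theorem ramification_criterion (Q : Place k K) {F : Type*} [Field F] [Algebra k F]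
    [FiniteDimensional k F] [Algebra.IsSeparable k F] (res : Q.O →ₐ[k] F)
    (hsurj : Function.Surjective res) (hres : ∀ a : Q.O, res a = 0 ↔ Q.1 (a : K) < 1)
    (σ : K →ₐ[k] K) (hσ : ∀ x : K, Q.1 x ≤ 1 → Q.1 (σ x - x) ≤ WithZero.exp (-(1 : ℤ)))
    (t : K) (ht : Q.1 t = WithZero.exp (-1 : ℤ)) (j : ℕ) (hj : 1 ≤ j)
    (hjt : Q.1 (σ t - t) ≤ WithZero.exp (-(j : ℤ))) :
    ∀ x : K, Q.1 x ≤ 1 → Q.1 (σ x - x) ≤ WithZero.exp (-(j : ℤ)) := by
  classical
  have ht0 : t ≠ 0 := ne_zero_of_val_eq_exp Q ht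
  have hexp1 : WithZero.exp (-1 : ℤ) ≤ (1 : WithZero (Multiplicative ℤ)) := by
    rw [← WithZero.exp_zero, WithZero.exp_le_exp]; omega
  have hσO : ∀ x : K, Q.1 x ≤ 1 → Q.1 (σ x) ≤ 1 := by
    intro x hx
    have : σ x = (σ x - x) + x := by ring
    rw [this]
    exact Valuation.map_add_le _ ((hσ x hx).trans hexp1) hx
  have hσt : Q.1 (σ t) ≤ WithZero.exp (-1 : ℤ) := by
    have : σ t = (σ t - t) + t := by ring
    rw [this]
    refine Valuation.map_add_le _ (hjt.trans ?_) ht.le
    rw [WithZero.exp_le_exp]; omega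
  -- residue field data
  obtain ⟨α', hα'⟩ := Field.exists_primitive_element k F
  obtain ⟨α, hα⟩ := hsurj α'
  have hαint : IsIntegral k α' := Algebra.IsIntegral.isIntegral α'
  have hpoly : ∀ y : F, ∃ p : k[X], aeval α' p = y := by
    intro y
    have h1 : y ∈ (k⟮α'⟯).toSubalgebra := by rw [hα']; trivial
    rw [IntermediateField.adjoin_simple_toSubalgebra_of_isAlgebraic hαint.isAlgebraic,
      Algebra.adjoin_singleton_eq_range_aeval] at h1
    obtain ⟨p, hp⟩ := h1
    exact ⟨p, hp⟩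
  set g := minpoly k α' with hg_def
  have hgsep : g.Separable := Algebra.IsSeparable.isSeparable k α'
  have hg'ne : aeval α' (derivative g) ≠ 0 :=
    hgsep.aeval_derivative_ne_zero (minpoly.aeval k α')
  have hres_aeval : ∀ (a : Q.O) (p : k[X]), res (aeval a p) = aeval (res a) p := fun a p =>
    (Polynomial.aeval_algHom_apply res a p).symm
  have hαO : Q.1 (α : K) ≤ 1 := α.2
  have hσαO : Q.1 (σ (α : K)) ≤ 1 := hσO _ hαO
  -- the unit `g'(α)`
  have hg'unit : Q.1 (aeval (α : K) (derivative g)) = 1 := by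
    have h1 : res (aeval α (derivative g)) ≠ 0 := by rw [hres_aeval, hα]; exact hg'ne
    have h2 : ¬ Q.1 ((aeval α (derivative g) : Q.O) : K) < 1 := fun h => h1 ((hres _).mpr h)
    rw [coe_aeval_O] at h2
    apply le_antisymm _ (not_lt.mp h2)
    rw [← coe_aeval_O]; exact (aeval α (derivative g)).2
  -- `g(α)` lies in the maximal ideal
  have hγ : Q.1 (aeval (α : K) g) < 1 := by
    have h1 : res (aeval α g) = 0 := by rw [hres_aeval, hα]; exact minpoly.aeval k α'
    have := (hres _).mp h1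
    rwa [coe_aeval_O] at this
  -- key decomposition: for `y` in the maximal ideal, the bound improves
  have hstep : ∀ m : ℕ, m + 1 ≤ j →
      (∀ x : K, Q.1 x ≤ 1 → Q.1 (σ x - x) ≤ WithZero.exp (-(m : ℤ))) →
      ∀ y : K, Q.1 y < 1 → Q.1 (σ y - y) ≤ WithZero.exp (-((m + 1 : ℕ) : ℤ)) := by
    intro m hm hC y hy
    obtain ⟨y₁, hy₁_def⟩ : ∃ y₁, y₁ = y / t := ⟨_, rfl⟩
    have hy₁ : Q.1 y₁ ≤ 1 := by
      rw [hy₁_def, map_div₀, ht, div_le_one₀ (by exact WithZero.exp_pos)]
      exact le_exp_neg_one_of_lt_one hy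
    have hyt : y = t * y₁ := by rw [hy₁_def]; field_simp
    have : σ y - y = σ t * (σ y₁ - y₁) + (σ t - t) * y₁ := by
      rw [hyt, map_mul]; ring
    rw [this]
    apply Valuation.map_add_le
    · rw [map_mul]
      calc Q.1 (σ t) * Q.1 (σ y₁ - y₁) ≤ WithZero.exp (-1 : ℤ) * WithZero.exp (-(m : ℤ)) := by
            gcongr
            exact hC y₁ hy₁
        _ = WithZero.exp (-((m + 1 : ℕ) : ℤ)) := by
            rw [← WithZero.exp_add]; congr 1; push_cast; ring
    · rw [map_mul]
      calc Q.1 (σ t - t) * Q.1 y₁ ≤ WithZero.exp (-(j : ℤ)) * 1 := by gcongr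
        _ = WithZero.exp (-(j : ℤ)) := mul_one _
        _ ≤ WithZero.exp (-((m + 1 : ℕ) : ℤ)) := exp_neg_le_exp_neg hm
  have hind : ∀ m : ℕ, 1 ≤ m → m ≤ j →
      ∀ x : K, Q.1 x ≤ 1 → Q.1 (σ x - x) ≤ WithZero.exp (-(m : ℤ)) := by
    intro m hm1
    induction m, hm1 using Nat.le_induction with
    | base => intro _ x hx; exact hσ x hx
    | succ m hm1 ih =>
      intro hmj x hx
      have hC := ih (by omega)
      -- the element `α`
      have hδ : Q.1 (σ (α : K) - α) ≤ WithZero.exp (-((m + 1 : ℕ) : ℤ)) := by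
        obtain ⟨c, hc, hT⟩ := exists_taylor Q g hαO hσαO
        have h1 : σ (aeval (α : K) g) - aeval (α : K) g =
            (σ (α : K) - α) * (aeval (α : K) (derivative g) + c * (σ (α : K) - α)) := by
          rw [← Polynomial.aeval_algHom_apply, hT]; ring
        have h2 := hstep m hmj hC _ hγ
        rw [h1, map_mul] at h2
        have hd1 : Q.1 (σ (α : K) - α) ≤ WithZero.exp (-(1 : ℤ)) := hσ _ hαO
        have h3 : Q.1 (aeval (α : K) (derivative g) + c * (σ (α : K) - α)) = 1 := by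
          refine (Valuation.map_add_eq_of_lt_left Q.1 ?_).trans hg'unit
          rw [hg'unit, map_mul]
          calc Q.1 c * Q.1 (σ (α : K) - α) ≤ 1 * WithZero.exp (-(1 : ℤ)) := by gcongr
            _ = WithZero.exp (-(1 : ℤ)) := one_mul _
            _ < 1 := by rw [← WithZero.exp_zero, WithZero.exp_lt_exp]; omega
        rwa [h3, mul_one] at h2
      -- general `x`
      obtain ⟨p, hp⟩ := hpoly (res ⟨x, hx⟩)
      have hxy : Q.1 (x - aeval (α : K) p) < 1 := by
        have h1 : res (⟨x, hx⟩ - aeval α p) = 0 := by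
          rw [map_sub, hres_aeval, hα, hp, sub_self]
        have := (hres _).mp h1
        have h2 : ((⟨x, hx⟩ - aeval α p : Q.O) : K) = x - aeval (α : K) p := by
          rw [← coe_aeval_O]; rfl
        rwa [h2] at this
      have h4 := hstep m hmj hC _ hxy
      have h5 : Q.1 (σ (aeval (α : K) p) - aeval (α : K) p) ≤ WithZero.exp (-((m + 1 : ℕ) : ℤ)) := by
        rw [← Polynomial.aeval_algHom_apply]
        exact (val_aeval_sub_le Q p hαO hσαO).trans hδ
      have : σ x - x = (σ (x - aeval (α : K) p) - (x - aeval (α : K) p)) +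
          (σ (aeval (α : K) p) - aeval (α : K) p) := by
        rw [map_sub]; ring
      rw [this]
      exact Valuation.map_add_le _ h4 h5
  exact hind j hj le_rfl

end
end Groth.Agent.Helper5.FG
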