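import Mathlib
import Groth.Agent.Helper5.FGRam2
import Groth.Agent.Helper5.FGExt
set_option autoImplicit false
set_option linter.style.haveILetI false
open FunFld Polynomial
open scoped IntermediateField

namespace Groth.Agent.Helper5.FG

section
variable {k K : Type*} [Field k] [Field K] [Algebra k K]

/-- the residue map as a `k`-algebra map -/
noncomputable def resAlg (Q : Place k K) : Q.O →ₐ[k] IsLocalRing.ResidueField Q.O :=
  { IsLocalRing.residue Q.O with commutes' := fun _ => rfl }

theorem resAlg_apply (Q : Place k K) (a : Q.O) : resAlg Q a = IsLocalRing.residue Q.O a := rfl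

theorem ramification_criterion_place (hK : IsFF k K) (Q : Place k K)
    [Algebra.IsSeparable k (IsLocalRing.ResidueField Q.O)]
    (σ : K →ₐ[k] K) (hσ : ∀ x : K, Q.1 x ≤ 1 → Q.1 (σ x - x) ≤ WithZero.exp (-(1 : ℤ)))
    (t : K) (ht : Q.1 t = WithZero.exp (-1 : ℤ)) (j : ℕ) (hj : 1 ≤ j)
    (hjt : Q.1 (σ t - t) ≤ WithZero.exp (-(j : ℤ))) :
    ∀ x : K, Q.1 x ≤ 1 → Q.1 (σ x - x) ≤ WithZero.exp (-(j : ℤ)) := by
  have hfd := finiteDimensional_residueField hK Q
  exact @ramification_criterion k K _ _ _ Q (IsLocalRing.ResidueField Q.O) _ _ hfd _ (resAlg Q)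
    IsLocalRing.residue_surjective (residue_eq_zero_iff Q) σ hσ t ht j hj hjt

end
end Groth.Agent.Helper5.FG
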