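import Mathlib
import Groth.Agent.Helper5.FGRam3
import Groth.Agent.Helper5.FFGal
set_option autoImplicit false
set_option linter.style.haveILetI false
open FunFld Polynomial
open scoped IntermediateField

namespace Groth.Agent.Helper5.FG

section
variable {k K K' : Type*} [Field k] [Field K] [Field K'] [Algebra k K] [Algebra K K']
  [Algebra k K'] [IsScalarTower k K K']

theorem val_map_of_mem_G1 (Q : Place k K') (σ : K' ≃ₐ[K] K')
    (hσ : ∀ x : K', Q.1 x ≤ 1 → Q.1 (σ x - x) ≤ WithZero.exp (-(1 : ℤ))) (x : K') :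
    Q.1 (σ x) = Q.1 x := by
  have hexp1 : WithZero.exp (-1 : ℤ) ≤ (1 : WithZero (Multiplicative ℤ)) := by
    rw [← WithZero.exp_zero, WithZero.exp_le_exp]; omega
  have h : Q = FF.galPlace σ Q := eq_of_O_le (fun y hy => by
    show Q.1 (σ y) ≤ 1
    have : σ y = (σ y - y) + y := by ring
    rw [this]
    exact Valuation.map_add_le _ ((hσ y hy).trans hexp1) hy)
  have := congrArg (fun P : Place k K' => P.1 x) h
  exact this.symm

/-- the group of automorphisms acting trivially on the residue field -/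
def G1 (Q : Place k K') : Subgroup (K' ≃ₐ[K] K') where
  carrier := {σ | ∀ x : K', Q.1 x ≤ 1 → Q.1 (σ x - x) ≤ WithZero.exp (-(1 : ℤ))}
  one_mem' := by
    intro x _
    simp
  mul_mem' := by
    intro σ τ hσ hτ x hx
    have : (σ * τ) x - x = σ (τ x - x) + (σ x - x) := by
      rw [AlgEquiv.mul_apply, map_sub]; ring
    rw [this]
    apply Valuation.map_add_le
    · rw [val_map_of_mem_G1 Q σ hσ]; exact hτ x hx
    · exact hσ x hx
  inv_mem' := by
    intro σ hσ x hx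
    have hσx : σ (σ⁻¹ x) = x := by
      rw [← AlgEquiv.mul_apply, mul_inv_cancel, AlgEquiv.one_apply]
    have hy : Q.1 (σ⁻¹ x) ≤ 1 := by
      rw [← val_map_of_mem_G1 Q σ hσ (σ⁻¹ x), hσx]; exact hx
    have := hσ (σ⁻¹ x) hy
    rw [hσx] at this
    rwa [← Valuation.map_neg, neg_sub]

theorem mem_G1 (Q : Place k K') (σ : K' ≃ₐ[K] K') :
    σ ∈ G1 (K := K) Q ↔ ∀ x : K', Q.1 x ≤ 1 → Q.1 (σ x - x) ≤ WithZero.exp (-(1 : ℤ)) := Iff.rfl

/-- `σ(t)/t` as an element of the valuation ring -/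
noncomputable def thetaO (Q : Place k K') (t : K') (σ : G1 (K := K) Q) : Q.O :=
  ⟨σ.1 t / t, by
    show Q.1 _ ≤ 1
    rw [map_div₀, val_map_of_mem_G1 Q σ.1 σ.2]
    exact div_self_le_one _⟩

noncomputable def theta (Q : Place k K') (t : K') (ht : Q.1 t = WithZero.exp (-1 : ℤ)) :
    G1 (K := K) Q →* IsLocalRing.ResidueField Q.O where
  toFun σ := IsLocalRing.residue Q.O (thetaO Q t σ)
  map_one' := by
    have ht0 : t ≠ 0 := ne_zero_of_val_eq_exp Q ht
    have : thetaO (K := K) Q t 1 = 1 := by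
      apply Subtype.ext
      show (1 : K' ≃ₐ[K] K') t / t = 1
      rw [AlgEquiv.one_apply, div_self ht0]
    rw [this, map_one]
  map_mul' := by
    intro σ τ
    have ht0 : t ≠ 0 := ne_zero_of_val_eq_exp Q ht
    rw [← map_mul, ← sub_eq_zero, ← map_sub, residue_eq_zero_iff]
    have hu : Q.1 (τ.1 t / t) ≤ 1 := (thetaO Q t τ).2
    have : ((thetaO Q t (σ * τ) - thetaO Q t σ * thetaO Q t τ : Q.O) : K') =
        (σ.1 t / t) * (σ.1 (τ.1 t / t) - τ.1 t / t) := by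
      show (σ.1 * τ.1) t / t - σ.1 t / t * (τ.1 t / t) = _
      rw [AlgEquiv.mul_apply, map_div₀]
      have : σ.1 t ≠ 0 := by
        rw [Ne, map_eq_zero_iff _ σ.1.injective]; exact ht0
      field_simp
    rw [this, map_mul]
    have h1 : Q.1 (σ.1 t / t) ≤ 1 := (thetaO Q t σ).2
    calc Q.1 (σ.1 t / t) * Q.1 (σ.1 (τ.1 t / t) - τ.1 t / t)
        ≤ 1 * WithZero.exp (-(1 : ℤ)) := by
          gcongr
          exact σ.2 _ hu
      _ = WithZero.exp (-(1 : ℤ)) := one_mul _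
      _ < 1 := by rw [← WithZero.exp_zero, WithZero.exp_lt_exp]; omega

theorem G1_G2_cyclic [FiniteDimensional K K'] (hK' : IsFF k K') (Q : Place k K')
    [Algebra.IsSeparable k (IsLocalRing.ResidueField Q.O)] :
    ∃ σ₀ : K' ≃ₐ[K] K', (∀ x : K', Q.1 x ≤ 1 → Q.1 (σ₀ x - x) ≤ WithZero.exp (-(1 : ℤ))) ∧
      ∀ σ : K' ≃ₐ[K] K', (∀ x : K', Q.1 x ≤ 1 → Q.1 (σ x - x) ≤ WithZero.exp (-(1 : ℤ))) →
        ∃ n : ℕ, (∀ x : K', Q.1 x ≤ 1 →
          Q.1 (((σ₀ ^ n)⁻¹ * σ) x - x) ≤ WithZero.exp (-(2 : ℤ))) := by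
  classical
  obtain ⟨t, ht⟩ := exists_uniformizer Q
  have ht0 : t ≠ 0 := ne_zero_of_val_eq_exp Q ht
  let θ := (theta (K := K) Q t ht).toHomUnits
  haveI : IsCyclic (G1 (K := K) Q ⧸ θ.ker) :=
    isCyclic_of_injective_ringHom ((Units.coeHom _).comp (QuotientGroup.kerLift θ))
      (Units.val_injective.comp (QuotientGroup.kerLift_injective θ))
  obtain ⟨g, hg⟩ := IsCyclic.exists_monoid_generator (α := G1 (K := K) Q ⧸ θ.ker)
  obtain ⟨σ₀, rfl⟩ := QuotientGroup.mk_surjective g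
  refine ⟨σ₀.1, σ₀.2, ?_⟩
  intro σ hσ
  obtain ⟨n, hn⟩ := hg (QuotientGroup.mk (⟨σ, hσ⟩ : G1 (K := K) Q))
  refine ⟨n, ?_⟩
  have hker : (σ₀ ^ n)⁻¹ * (⟨σ, hσ⟩ : G1 (K := K) Q) ∈ θ.ker := by
    rw [← QuotientGroup.eq]
    simpa using hn
  obtain ⟨τ, hτ_def⟩ : ∃ τ : G1 (K := K) Q, τ = (σ₀ ^ n)⁻¹ * ⟨σ, hσ⟩ := ⟨_, rfl⟩
  rw [← hτ_def] at hker
  have hτval : (τ : K' ≃ₐ[K] K') = (σ₀.1 ^ n)⁻¹ * σ := by rw [hτ_def]; rfl
  rw [← hτval]
  have h1 : θ τ = 1 := hker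
  have h1' : theta (K := K) Q t ht τ = 1 := by
    have := congrArg Units.val h1
    rwa [MonoidHom.coe_toHomUnits, Units.val_one] at this
  have h2 : Q.1 (τ.1 t / t - 1) < 1 := by
    have : IsLocalRing.residue Q.O (thetaO Q t τ - 1) = 0 := by
      rw [map_sub, map_one, sub_eq_zero]; exact h1'
    exact (residue_eq_zero_iff Q _).mp this
  have h3 : Q.1 (τ.1 t - t) ≤ WithZero.exp (-((2 : ℕ) : ℤ)) := by
    have : τ.1 t - t = t * (τ.1 t / t - 1) := by field_simp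
    rw [this, map_mul, ht]
    calc WithZero.exp (-1 : ℤ) * Q.1 (τ.1 t / t - 1)
        ≤ WithZero.exp (-1 : ℤ) * WithZero.exp (-1 : ℤ) := by
          gcongr; exact le_exp_neg_one_of_lt_one h2
      _ = WithZero.exp (-((2 : ℕ) : ℤ)) := by rw [← WithZero.exp_add]; rfl
  have := ramification_criterion_place hK' Q ((AlgEquiv.restrictScalars k τ.1).toAlgHom) τ.2 t ht 2
    (by omega) h3
  exact this

end
end Groth.Agent.Helper5.FG
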