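import Groth.Agent.Helper5.GrpLoc1
import Groth.Agent.Helper5.AlgSpIso
import Groth.Agent.Helper5.FpqcIso
import Groth.Agent.Helper5.RelDim1
import Mathlib

set_option autoImplicit false
set_option linter.style.haveILetI false
set_option linter.unusedSectionVars false
set_option linter.unusedVariables false
universe u
open CategoryTheory CategoryTheory.Limits AlgebraicGeometry Opposite
open MonoidalCategory CartesianMonoidalCategory MonObj

namespace Groth.Agent.Helper5.GrpLoc

open AlgSp Groth.Agent.Helper4 Groth.Agent.Helper5.PtLoc Groth.Agent.Helper5.RelDimSp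
  Groth.Agent.Helper5.UnrLoc

variable {S : Scheme.{u}}

/-- an open subspace of an algebraic space is an algebraic space -/
theorem isAlgSpace_of_openImmersion {W B : Sp S} (w : W ⟶ B) (hw : RepWith @IsOpenImmersion w)
    (hB : IsAlgSpace B) : IsAlgSpace W := by
  have hwe : RepWith @Etale w :=
    Groth.Agent.Helper4.AlgSpSrc.repWith_mono (fun g hg => by haveI := hg; infer_instance) hw
  have hO : IsOpen (Set.range (Points.map w)) :=
    (Groth.Agent.Helper4.AlgSpQC2.isOpenMor_of_repWith_etale hB w hwe).isOpen_range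
  obtain ⟨W₀, j, hW₀, hj, hrange⟩ := Groth.Agent.Helper5.AlgSpOpen.exists_open_subspace hB _ hO
  obtain ⟨k, hk⟩ := Groth.Agent.Helper5.AlgSpIso.exists_factor_open j hj w (by rw [hrange])
  obtain ⟨k', hk'⟩ := Groth.Agent.Helper5.AlgSpIso.exists_factor_open w hw j (by rw [hrange])
  haveI := Groth.Agent.Helper5.FpqcIso.mono_of_repWith_openImmersion w hw
  haveI := Groth.Agent.Helper5.FpqcIso.mono_of_repWith_openImmersion j hj
  have e1 : k ≫ k' = 𝟙 _ := by
    rw [← cancel_mono w, Category.assoc, hk', hk, Category.id_comp]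
  have e2 : k' ≫ k = 𝟙 _ := by
    rw [← cancel_mono j, Category.assoc, hk, hk', Category.id_comp]
  exact hW₀.of_iso ⟨k', k, e2, e1⟩

/-- the neighbourhood form of "unramified at a point" -/
abbrev QnU : ∀ (U V : Scheme.{u}), (U ⟶ V) → ↥U → Prop :=
  fun U _ h u => ∃ W : U.Opens, u ∈ W ∧ LocallyOfFiniteType (W.ι ≫ h) ∧ FormallyUnramified (W.ι ≫ h)

/-- the neighbourhood form of "quasi-finite at a point" -/
abbrev QnQ : ∀ (U V : Scheme.{u}), (U ⟶ V) → ↥U → Prop :=
  fun U _ h u => ∃ W : U.Opens, u ∈ W ∧ LocallyQuasiFinite (W.ι ≫ h) ∧ LocallyOfFiniteType (W.ι ≫ h)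

theorem unram_bc {X Y X' Y' : AlgSp.Space S} (f : X ⟶ Y) (hf : LocP @LocallyOfFiniteType f.hom)
    (g : Y' ⟶ Y) (g' : X' ⟶ X) (f' : X' ⟶ Y') (sq : IsPullback g'.hom f'.hom f.hom g.hom)
    (x' : Points X'.obj) :
    HasAtMor QnU f'.hom x' ↔ HasAtMor QnU f.hom (Points.map g'.hom x') := by
  have hf' := locP_lft_of_isPullback f g g' f' sq hf
  rw [hasAtMor_nbhd_iff f'.hom hf' x', hasAtMor_nbhd_iff f.hom hf _]
  have := locus_baseChange etLocal_QU @LocallyOfFiniteType (fun s g g' s' sq hs x' => by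
    haveI := hs
    exact unramAt_baseChange_iff s g g' s' sq x') f hf g g' f' sq
  exact Set.ext_iff.1 this x'

theorem lqf_bc {X Y X' Y' : AlgSp.Space S} (f : X ⟶ Y) (hf : LocP @LocallyOfFiniteType f.hom)
    (g : Y' ⟶ Y) (g' : X' ⟶ X) (f' : X' ⟶ Y') (sq : IsPullback g'.hom f'.hom f.hom g.hom)
    (x' : Points X'.obj) :
    HasAtMor QnQ f'.hom x' ↔ HasAtMor QnQ f.hom (Points.map g'.hom x') := by
  have hf' := locP_lft_of_isPullback f g g' f' sq hf
  rw [hasAtMor_nbhd_lqf_iff f'.hom hf' x', hasAtMor_nbhd_lqf_iff f.hom hf _]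
  exact Set.ext_iff.1 (qd_locus_baseChange (fun r => r = 0) f g g' f' sq hf) x'

theorem unram_open {X Y : AlgSp.Space S} (f : X ⟶ Y) (hf : LocP @LocallyOfFiniteType f.hom) :
    IsOpen {x : Points X.obj | HasAtMor QnU f.hom x} := by
  have e1 : {x : Points X.obj | HasAtMor QnU f.hom x} = {x | HasAtMor QU f.hom x} := by
    ext x; exact hasAtMor_nbhd_iff f.hom hf x
  rw [e1]
  exact isOpen_locus etLocal_QU @LocallyOfFiniteType
    (fun s hs => by haveI := hs; exact isOpen_unramAt s) f hf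

theorem lqf_open {X Y : AlgSp.Space S} (f : X ⟶ Y) (hf : LocP @LocallyOfFiniteType f.hom) :
    IsOpen {x : Points X.obj | HasAtMor QnQ f.hom x} := by
  have e1 : {x : Points X.obj | HasAtMor QnQ f.hom x} =
      {x | HasAtMor (QD fun r => r = 0) f.hom x} := by
    ext x; exact hasAtMor_nbhd_lqf_iff f.hom hf x
  rw [e1]
  exact isOpen_locus_on (etLocalOn_QD _)
    (fun s hs => by haveI := hs; exact isOpen_fibreDimAt_eq_zero s) f hf

theorem unram_all {X Y : AlgSp.Space S} (f : X ⟶ Y) (hf : LocP @LocallyOfFiniteType f.hom) :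
    LocP (@LocallyOfFiniteType ⊓ @FormallyUnramified) f.hom ↔
      ∀ x : Points X.obj, HasAtMor QnU f.hom x := by
  rw [locP_unram_iff_forall f hf, Set.eq_univ_iff_forall]
  exact forall_congr' fun x => (hasAtMor_nbhd_iff f.hom hf x).symm

theorem lqf_all {X Y : AlgSp.Space S} (f : X ⟶ Y) (hf : LocP @LocallyOfFiniteType f.hom) :
    LocP (@LocallyQuasiFinite ⊓ @LocallyOfFiniteType) f.hom ↔
      ∀ x : Points X.obj, HasAtMor QnQ f.hom x := by
  have h1 : (∀ x : Points X.obj, HasAtMor QnQ f.hom x) ↔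
      ∀ x : Points X.obj, HasAtMor (QD fun r => r = 0) f.hom x :=
    forall_congr' fun x => hasAtMor_nbhd_lqf_iff f.hom hf x
  rw [h1, forall_hasAtMor_iff_on (etLocalOn_QD _) f hf]
  constructor
  · intro H U V a b h ha hb comm u
    haveI : LocallyQuasiFinite h.left := (H a b h ha hb comm).1
    haveI : LocallyOfFiniteType h.left := (H a b h ha hb comm).2
    exact Groth.Agent.Helper5.RelDim.fibreDimAt_eq_zero_of_lqf h.left u
  · intro H U V a b h ha hb comm
    haveI : LocallyOfFiniteType h.left := hf a b h ha hb comm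
    exact ⟨Groth.Agent.Helper5.RelDim.locallyQuasiFinite_of_fibreDimAt_eq_zero h.left
      (H a b h ha hb comm), inferInstance⟩

end Groth.Agent.Helper5.GrpLoc
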