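import Groth.Agent.Helper5.SchImg3
import Groth.Agent.Helper5.GrpLoc2
import Groth.Agent.Helper4.AlgSpLocPComp
import Groth.Agent.Helper4.AlgSpLocPBC
import Groth.Agent.Helper4.AlgSpPts
import Groth.Agent.Helper4.AlgSpPtsDesc
import Groth.Agent.S9972
import Mathlib

/-! Factoring a morphism through a flat surjective morphism locally of finite presentation when it
factors over a scheme theoretically dense open. -/

set_option autoImplicit false
universe u
open CategoryTheory CategoryTheory.Limits AlgebraicGeometry Opposite MorphismProperty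

namespace Groth.Agent.Helper5.FactorDense

open AlgSp Groth.Agent.Helper4.SDClasses

variable {S : Scheme.{u}}

set_option backward.isDefEq.respectTransparency.types false in
/-- a surjective flat morphism locally of finite presentation of algebraic spaces is an epimorphism of
fppf sheaves -/
theorem epi_of_fppf {X Z : Sp S} (hX : IsAlgSpace X) (hZ : IsAlgSpace Z) (g : X ⟶ Z)
    (hgs : IsSurjectiveMor g) (hgf : LocP @Flat g) (hgp : LocP @LocallyOfFinitePresentation g) :
    Epi g := by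
  obtain ⟨UZ, pZ, hpZ, hpZs⟩ := hZ.atlas
  obtain ⟨UX, pX, hpX, hpXs⟩ := hX.atlas
  obtain ⟨W, t, γ', sqW⟩ := hpZ.1 (pX ≫ g)
  have hte : Etale t.left := hpZ.2 _ _ _ sqW
  obtain ⟨γ, rfl⟩ := (yon S).map_surjective γ'
  let u : (yon S).obj W ⟶ X := (yon S).map t ≫ pX
  have hu : RepWith @Etale u :=
    Groth.Agent.Helper4.AlgSpSrc.repWith_comp @Etale ((repWith_yon_map_iff _ t).2 hte) hpX
  have hug : u ≫ g = (yon S).map γ ≫ pZ := by
    show ((yon S).map t ≫ pX) ≫ g = _
    rw [Category.assoc, sqW.w]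
  haveI hγf : Flat γ.left := hgf u pZ γ hu hpZ hug
  haveI hγp : LocallyOfFinitePresentation γ.left := hgp u pZ γ hu hpZ hug
  haveI hγs : Surjective γ.left := by
    refine ⟨fun z₀ => ?_⟩
    let y : Points ((yon S).obj UZ) := Points.schemeHomeo UZ z₀
    obtain ⟨x, hx⟩ := hgs (Points.map pZ y)
    obtain ⟨x₀, hx₀⟩ := Groth.Agent.Helper4.AlgSpPts.isSurjectiveMor_of_repWith pX hpXs x
    have h1 : Points.map pZ y = Points.map (pX ≫ g) x₀ := by
      rw [Points.map_comp, hx₀, hx]
    obtain ⟨p, hp1, -⟩ :=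
      Groth.Agent.Helper4.AlgSpPtsDesc.exists_point_of_isPullback sqW y x₀ h1
    obtain ⟨w₀, rfl⟩ := (Points.schemeHomeo W).surjective p
    rw [Points.map_yon_map_apply] at hp1
    exact ⟨w₀, (Points.schemeHomeo UZ).injective hp1⟩
  haveI : Epi ((yon S).map γ) := Groth.Agent.Helper5.AffDesc.epi_yon_map_of_fppf γ
  haveI : Epi pZ := Groth.Agent.Helper5.SchImg.epi_of_etale_surjective pZ hpZ hpZs
  haveI : Epi (u ≫ g) := by
    rw [hug]
    infer_instance
  exact epi_of_epi u g

set_option backward.isDefEq.respectTransparency.types false in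
/-- S10129 -/
theorem s10129 (B : Sp S) (hB : IsAlgSpace B) (X Y Z : Space S) (pX : X.obj ⟶ B)
    (pY : Y.obj ⟶ B) (pZ : Z.obj ⟶ B) (f : X.obj ⟶ Y.obj) (g : X.obj ⟶ Z.obj)
    (hf : f ≫ pY = pX) (hg : g ≫ pZ = pX) (hY : IsSeparatedMor pY)
    (hgs : IsSurjectiveMor g) (hgf : LocP @Flat g) (hgp : LocP @LocallyOfFinitePresentation g)
    (V : Sp S) (v : V ⟶ Z.obj) (hv : IsSchDense v) (hvq : IsQuasiCompactMor v)
    (hfac : ∃ φ : V ⟶ Y.obj, pullback.fst g v ≫ f = pullback.snd g v ≫ φ) :
    ∃ h : Z.obj ⟶ Y.obj, g ≫ h = f := by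
  obtain ⟨φ, hφ⟩ := hfac
  haveI : Epi g := epi_of_fppf X.property Z.property g hgs hgf hgp
  have sqX₂ : IsPullback (pullback.fst g g) (pullback.snd g g) g g := IsPullback.of_hasPullback g g
  have hX₂ : IsAlgSpace (pullback g g) :=
    Groth.Agent.Helper4.AlgSpPB.isAlgSpace_of_isPullback Z.property.diag X.property X.property
      g g _ _ sqX₂
  have := good_flat.{u}.bc
  have := good_flat.{u}.comp
  have hπ₂ : LocP @Flat (pullback.snd g g) :=
    Groth.Agent.Helper4.AlgSpLocPBC.locP_of_isPullback @Flat good_flat.etale_le good_flat.sd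
      X.property Z.property g g (pullback.fst g g) (pullback.snd g g) sqX₂ hgf
  have hw : LocP @Flat (pullback.snd g g ≫ g) :=
    Groth.Agent.Helper4.AlgSpLocPComp.locP_comp @Flat good_flat X.property _ g hπ₂ hgf
  have sqU : IsPullback (pullback.snd (pullback.snd g g ≫ g) v)
      (pullback.fst (pullback.snd g g ≫ g) v) v (pullback.snd g g ≫ g) :=
    (IsPullback.of_hasPullback (pullback.snd g g ≫ g) v).flip
  have hj₂d : IsSchDense (pullback.fst (pullback.snd g g ≫ g) v) :=
    Groth.Agent.Helper5.SchDenseSp.s9973 hX₂ Z.property (pullback.snd g g ≫ g) hw v hv hvq _ _ sqU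
  have hj₂cl : IsSchImage (pullback.fst (pullback.snd g g ≫ g) v) (𝟙 _) :=
    Groth.Agent.Helper5.SchImg.isSchImage_id_of_isSchDense _ hj₂d
  have hU₂ : IsAlgSpace (pullback (pullback.snd g g ≫ g) v) :=
    Groth.Agent.Helper5.GrpLoc.isAlgSpace_of_openImmersion _ hj₂d.1 hX₂
  have hpb : pullback.fst g g ≫ g = pullback.snd g g ≫ g := pullback.condition
  have hagreeB : (pullback.fst g g ≫ f) ≫ pY = (pullback.snd g g ≫ f) ≫ pY := by
    rw [Category.assoc, hf, ← hg, ← Category.assoc, hpb, Category.assoc, hg, Category.assoc, hf]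
  have key : ∀ (π : pullback g g ⟶ X.obj), π ≫ g = pullback.snd g g ≫ g →
      pullback.fst (pullback.snd g g ≫ g) v ≫ π ≫ f =
        pullback.snd (pullback.snd g g ≫ g) v ≫ φ := by
    intro π hπ
    have hc : (pullback.fst (pullback.snd g g ≫ g) v ≫ π) ≫ g =
        pullback.snd (pullback.snd g g ≫ g) v ≫ v := by
      rw [Category.assoc, hπ]
      exact pullback.condition
    calc pullback.fst (pullback.snd g g ≫ g) v ≫ π ≫ f
        = (pullback.lift _ _ hc ≫ pullback.fst g v) ≫ f := by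
          rw [pullback.lift_fst, Category.assoc]
      _ = pullback.lift _ _ hc ≫ pullback.snd g v ≫ φ := by rw [Category.assoc, hφ]
      _ = pullback.snd (pullback.snd g g ≫ g) v ≫ φ := by
          rw [← Category.assoc, pullback.lift_snd]
  have hagreeU : pullback.fst (pullback.snd g g ≫ g) v ≫ pullback.fst g g ≫ f =
      pullback.fst (pullback.snd g g ≫ g) v ≫ pullback.snd g g ≫ f := by
    rw [key _ hpb, key _ rfl]
  have heq : pullback.fst g g ≫ f = pullback.snd g g ≫ f := by
    have := Groth.Agent.S9972.result (S := S) (U := ⟨_, hU₂⟩) (X := ⟨_, hX₂⟩) (Y := Y)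
      (B := ⟨B, hB⟩) (ObjectProperty.homMk pY) hY (ObjectProperty.homMk (pullback.fst g g ≫ f))
      (ObjectProperty.homMk (pullback.snd g g ≫ f)) (ObjectProperty.hom_ext _ hagreeB)
      (ObjectProperty.homMk (pullback.fst (pullback.snd g g ≫ g) v)) hj₂d.1 hj₂cl
      (ObjectProperty.hom_ext _ hagreeU)
    exact congrArg (fun k => k.hom) this
  have := IsRegularEpiCategory.regularEpiOfEpi g
  haveI : EffectiveEpi g := inferInstance
  have hdesc : ∀ {T : Sp S} (g₁ g₂ : T ⟶ X.obj), g₁ ≫ g = g₂ ≫ g → g₁ ≫ f = g₂ ≫ f := by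
    intro T g₁ g₂ h12
    have e1 : g₁ = pullback.lift g₁ g₂ h12 ≫ pullback.fst g g := (pullback.lift_fst _ _ _).symm
    have e2 : g₂ = pullback.lift g₁ g₂ h12 ≫ pullback.snd g g := (pullback.lift_snd _ _ _).symm
    rw [e1, Category.assoc, heq, ← Category.assoc, ← e2]
  exact ⟨EffectiveEpi.desc g f hdesc, EffectiveEpi.fac g f hdesc⟩

end Groth.Agent.Helper5.FactorDense
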