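import Mathlib
import Groth.Agent.Helper5.BCMin13
import Groth.Agent.Helper5.FibCodim
import Groth.Agent.Helper5.VarDim15

set_option autoImplicit false
universe u
open CategoryTheory CategoryTheory.Limits AlgebraicGeometry TensorProduct

namespace Groth.Agent.Helper5.FibBC

open Groth.Agent.Helper5.VarDim Groth.Agent.Helper5.BCMin

open IsLocalRing in
/-- A flat local homomorphism of local rings does not lower the Krull dimension. -/
theorem ringKrullDim_le_of_flat_of_isLocalHom {A B : Type*} [CommRing A] [CommRing B]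
    [IsLocalRing A] [IsLocalRing B] [Algebra A B] [Module.Flat A B]
    [IsLocalHom (algebraMap A B)] : ringKrullDim A ≤ ringKrullDim B := by
  have hlo : (maximalIdeal B).LiesOver (maximalIdeal A) := by
    constructor
    rw [Ideal.under_def]
    exact (IsLocalRing.maximalIdeal_comap (algebraMap A B)).symm
  unfold ringKrullDim Order.krullDim
  apply iSup_le
  intro l
  obtain ⟨l', hl', hlast⟩ : ∃ l' : LTSeries (PrimeSpectrum A), l.length ≤ l'.length ∧
      l'.last = closedPoint A := by
    by_cases h : l.last = closedPoint A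
    · exact ⟨l, le_rfl, h⟩
    · have hlt : l.last < closedPoint A := lt_of_le_of_ne (le_maximalIdeal l.last.2.ne_top) h
      exact ⟨l.snoc (closedPoint A) hlt, by simp, by simp⟩
  have : (maximalIdeal B).LiesOver l'.last.asIdeal := by
    rw [hlast]; exact hlo
  obtain ⟨L, hL, -, -⟩ := Ideal.exists_ltSeries_of_hasGoingDown l' (maximalIdeal B)
  calc ((l.length : ℕ) : WithBot ℕ∞) ≤ (l'.length : ℕ) := by exact_mod_cast hl'
    _ = (L.length : ℕ) := by rw [hL]
    _ ≤ _ := le_iSup (fun p : LTSeries (PrimeSpectrum B) => ((p.length : ℕ) : WithBot ℕ∞)) L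

/-- The dimension of the local ring of a fibre at a point does not depend on the way the point is
presented. -/
theorem stalkDim_transport {X Y : Scheme.{u}} (f : X ⟶ Y) (y : Y) (ζ : ↥(f.fiber y)) (x : X)
    (hx : f.fiberι y ζ = x) (hy : f x = y) :
    ringKrullDim ↥((f.fiber y).presheaf.stalk ζ) =
      ringKrullDim ↥((f.fiber (f x)).presheaf.stalk (f.asFiber x)) := by
  subst hy
  have : ζ = f.asFiber x := by
    apply (f.fiberι (f x)).isEmbedding.injective
    rw [hx, f.fiberι_asFiber]
  rw [this]

instance flat_SpecMap_residueFieldMap {S S' : Scheme.{u}} (g : S' ⟶ S) (s' : S') :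
    Flat (Spec.map (g.residueFieldMap s')) :=
  flat_SpecMap_field (S.residueField (g s')) (S'.residueField s') (g.residueFieldMap s').hom

set_option maxHeartbeats 1000000 in
/-- The local ring of the fibre can only grow in dimension under base change. -/
theorem stalkDim_le_of_isPullback {X S X' S' : Scheme.{u}} (f : X ⟶ S)
    (g : S' ⟶ S) (g' : X' ⟶ X) (f' : X' ⟶ S') (hsq : IsPullback g' f' f g) (x' : X') :
    ringKrullDim ↥((f.fiber (f (g' x'))).presheaf.stalk (f.asFiber (g' x'))) ≤
      ringKrullDim ↥((f'.fiber (f' x')).presheaf.stalk (f'.asFiber x')) := by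
  let s' : S' := f' x'
  have H := isPullback_fiberToSpecResidueField_of_isPullback hsq s'
  obtain ⟨φ, hφ⟩ : ∃ φ : f'.fiber s' ⟶ f.fiber (g s'), φ = pullback.map _ _ _ _ g'
    (Spec.map (g.residueFieldMap s')) g hsq.w.symm (by simp) := ⟨_, rfl⟩
  rw [← hφ] at H
  have hφι : φ ≫ f.fiberι (g s') = f'.fiberι s' ≫ g' := by
    rw [hφ]; exact pullback.lift_fst _ _ _
  have hflat : Flat φ := MorphismProperty.of_isPullback (P := @Flat) H.flip inferInstance
  let x'F : ↥(f'.fiber s') := f'.asFiber x'
  let ζ : ↥(f.fiber (g s')) := φ x'F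
  have hζ : f.fiberι (g s') ζ = g' x' := by
    have h2 := congrArg (fun ψ : f'.fiber s' ⟶ X => ψ x'F) hφι
    simp only [Scheme.Hom.comp_apply] at h2
    rw [f'.fiberι_asFiber] at h2
    exact h2
  have hy : f (g' x') = g s' := by
    have := congrArg (fun ψ : X' ⟶ S => ψ x') hsq.w
    simpa using this
  rw [← stalkDim_transport f (g s') ζ (g' x') hζ hy]
  let ψ := (φ.stalkMap x'F).hom
  letI : Algebra ↥((f.fiber (g s')).presheaf.stalk ζ) ↥((f'.fiber s').presheaf.stalk x'F) :=
    ψ.toAlgebra
  haveI : Module.Flat ↥((f.fiber (g s')).presheaf.stalk ζ) ↥((f'.fiber s').presheaf.stalk x'F) :=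
    Flat.stalkMap φ x'F
  haveI : IsLocalHom (algebraMap ↥((f.fiber (g s')).presheaf.stalk ζ)
      ↥((f'.fiber s').presheaf.stalk x'F)) :=
    inferInstanceAs (IsLocalHom (φ.stalkMap x'F).hom)
  exact ringKrullDim_le_of_flat_of_isLocalHom

end Groth.Agent.Helper5.FibBC
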