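import Mathlib
import Groth.Agent.Helper5.FibBC1

set_option autoImplicit false
universe u
open CategoryTheory CategoryTheory.Limits AlgebraicGeometry TensorProduct TopologicalSpace

namespace Groth.Agent.Helper5.FibBC

open Groth.Agent.Helper5.VarDim Groth.Agent.Helper5.BCMin

set_option maxHeartbeats 1000000 in
/-- Over a field extension, every point lifts to a point whose residue field has the same
transcendence degree over the new base field. -/
theorem exists_lift_trdeg_eq {T : Scheme.{u}} (k K : Type u) [Field k] [Field K] (φ : k →+* K)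
    (h : T ⟶ Spec (CommRingCat.of k)) [LocallyOfFiniteType h] (ζ : T) :
    ∃ z' : ↥(pullback h (Spec.map (CommRingCat.ofHom φ))),
      pullback.fst h (Spec.map (CommRingCat.ofHom φ)) z' = ζ ∧
      @Algebra.trdeg K ((pullback h (Spec.map (CommRingCat.ofHom φ))).residueField z') _ _
        (resHom K (pullback.snd h (Spec.map (CommRingCat.ofHom φ))) z').toAlgebra =
      @Algebra.trdeg k (T.residueField ζ) _ _ (resHom k h ζ).toAlgebra := by
  let g := Spec.map (CommRingCat.ofHom φ)
  let Z : Closeds T := ⟨closure {ζ}, isClosed_closure⟩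
  let I := Scheme.IdealSheafData.vanishingIdeal Z
  let Tz := I.subscheme
  let ι : Tz ⟶ T := I.subschemeι
  have hrange : Set.range ι = closure {ζ} := by
    rw [Scheme.IdealSheafData.range_subschemeι]
    rfl
  have hζ : ζ ∈ Set.range ι := by rw [hrange]; exact subset_closure rfl
  obtain ⟨t, ht⟩ := hζ
  have ht' : closure ({t} : Set Tz) = Set.univ := by
    rw [ι.isEmbedding.isInducing.closure_eq_preimage_closure_image, Set.image_singleton, ht,
      ← hrange]
    exact Set.preimage_range _
  have htmax : ∀ y : Tz, y ⤳ t → y = t := by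
    intro y hy
    have h1 : t ⤳ y := by rw [specializes_iff_mem_closure, ht']; trivial
    exact (hy.antisymm h1).eq
  obtain ⟨t', hfst, hmax'⟩ := exists_max_over k K φ (ι ≫ h) t htmax
  have hdim := dim_closure_bc k K φ (ι ≫ h) t' hmax'
  rw [hfst] at hdim
  obtain ⟨ι', hι'⟩ : ∃ ι' : pullback (ι ≫ h) g ⟶ pullback h g,
      ι' = pullback.map (ι ≫ h) g h g ι (𝟙 _) (𝟙 _) (by simp) (by simp) := ⟨_, rfl⟩
  have hι'1 : ι' ≫ pullback.fst h g = pullback.fst (ι ≫ h) g ≫ ι := by
    rw [hι']; exact pullback.lift_fst _ _ _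
  have hι'2 : ι' ≫ pullback.snd h g = pullback.snd (ι ≫ h) g := by
    rw [hι']
    exact (pullback.lift_snd _ _ _).trans (Category.comp_id _)
  have hsq : IsPullback ι' (pullback.fst (ι ≫ h) g) (pullback.fst h g) ι := by
    refine IsPullback.of_right ?_ hι'1 (IsPullback.of_hasPullback h g).flip
    rw [hι'2]
    exact (IsPullback.of_hasPullback (ι ≫ h) g).flip
  have hci : IsClosedImmersion ι' :=
    MorphismProperty.of_isPullback (P := @IsClosedImmersion) hsq.flip inferInstance
  refine ⟨ι' t', ?_, ?_⟩
  · have := congrArg (fun ψ : pullback (ι ≫ h) g ⟶ T => ψ t') hι'1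
    simp only [Scheme.Hom.comp_apply] at this
    rw [this, hfst, ht]
  · have hA := trdeg_resHom_of_bijective K ι' (pullback.snd h g) t'
      (residueFieldMap_bijective_of_surjectiveOnStalks ι' t')
    rw [hι'2] at hA
    obtain ⟨n', hn'1, hn'2⟩ := dim_closure_point K (pullback.snd (ι ≫ h) g) t'
    obtain ⟨n, hn1, hn2⟩ := dim_closure_point k (ι ≫ h) t
    have hD := trdeg_resHom_of_bijective k ι h t
      (residueFieldMap_bijective_of_surjectiveOnStalks ι t)
    have hE := trdeg_resHom_congr k h ht
    rw [hn'1, hn1] at hdim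
    have hnn : n' = n := by exact_mod_cast hdim
    rw [hA, hn'2, ← hE, hD, hn2, hnn]

set_option maxHeartbeats 1000000 in
/-- Variant of `exists_lift_trdeg_eq` for an arbitrary cartesian square. -/
theorem exists_lift_trdeg_eq' {T T' : Scheme.{u}} (k K : Type u) [Field k] [Field K] (φ : k →+* K)
    (h : T ⟶ Spec (CommRingCat.of k)) [LocallyOfFiniteType h] (p : T' ⟶ T)
    (h' : T' ⟶ Spec (CommRingCat.of K))
    (H : IsPullback p h' h (Spec.map (CommRingCat.ofHom φ))) (ζ : T) :
    ∃ z' : T', p z' = ζ ∧
      @Algebra.trdeg K (T'.residueField z') _ _ (resHom K h' z').toAlgebra =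
      @Algebra.trdeg k (T.residueField ζ) _ _ (resHom k h ζ).toAlgebra := by
  obtain ⟨z'', hz1, hz2⟩ := exists_lift_trdeg_eq k K φ h ζ
  refine ⟨H.isoPullback.inv z'', ?_, ?_⟩
  · rw [← Scheme.Hom.comp_apply, H.isoPullback_inv_fst]
    exact hz1
  · have h1 := trdeg_resHom_of_isOpenImmersion K H.isoPullback.inv h' z''
    rw [h1, ← hz2]
    congr 2
    rw [H.isoPullback_inv_snd]

end Groth.Agent.Helper5.FibBC
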