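import Mathlib
import Groth.Agent.Helper5.FibBC2
import Groth.Agent.Helper5.RelDimSp1

set_option autoImplicit false
universe u
open CategoryTheory CategoryTheory.Limits AlgebraicGeometry TensorProduct TopologicalSpace

namespace Groth.Agent.Helper5.FibBC

open Groth.Agent.Helper5.VarDim Groth.Agent.Helper5.BCMin Groth.Agent.Helper5.SubDim

theorem resTrdeg_eq {X S : Scheme.{u}} (f : X ⟶ S) (x : X) :
    Dual3.resTrdeg f x = @Algebra.trdeg (S.residueField (f x)) (X.residueField x) _ _
      (f.residueFieldMap x).hom.toAlgebra := rfl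

set_option maxHeartbeats 1000000 in
/-- In a cartesian square with `f` locally of finite type, a point of `X` and a point of `S'` over
the same point of `S` are the images of a point of `X'` with the same residue transcendence
degree as the point of `X`. -/
theorem exists_lift_resTrdeg_eq {X S X' S' : Scheme.{u}} (f : X ⟶ S) [LocallyOfFiniteType f]
    (g : S' ⟶ S) (g' : X' ⟶ X) (f' : X' ⟶ S') (hsq : IsPullback g' f' f g) (u : X) (s' : S')
    (hu : f u = g s') :
    ∃ x' : X', g' x' = u ∧ f' x' = s' ∧ Dual3.resTrdeg f' x' = Dual3.resTrdeg f u := by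
  let y : S := g s'
  have H := isPullback_fiberToSpecResidueField_of_isPullback hsq s'
  obtain ⟨φ, hφ⟩ : ∃ φ : f'.fiber s' ⟶ f.fiber (g s'), φ = pullback.map _ _ _ _ g'
    (Spec.map (g.residueFieldMap s')) g hsq.w.symm (by simp) := ⟨_, rfl⟩
  rw [← hφ] at H
  have hφι : φ ≫ f.fiberι (g s') = f'.fiberι s' ≫ g' := by
    rw [hφ]; exact pullback.lift_fst _ _ _
  let h : f.fiber y ⟶ Spec (S.residueField y) := f.fiberToSpecResidueField y
  have hlft : LocallyOfFiniteType h :=
    inferInstanceAs (LocallyOfFiniteType (Limits.pullback.snd f (S.fromSpecResidueField y)))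
  let ζ : ↥(f.fiber y) := (f.fiberHomeo y).symm ⟨u, hu⟩
  have hζ : f.fiberι y ζ = u := f.fiberι_fiberHomeo_symm y ⟨u, hu⟩
  obtain ⟨z', hz1, hz2⟩ := @exists_lift_trdeg_eq' (f.fiber y) (f'.fiber s') (S.residueField y)
    (S'.residueField s') _ _ (g.residueFieldMap s').hom h hlft φ (f'.fiberToSpecResidueField s')
    H ζ
  have hs' : f' (f'.fiberι s' z') = s' := by
    have : f'.fiberι s' z' ∈ Set.range (f'.fiberι s') := ⟨z', rfl⟩
    rw [f'.range_fiberι] at this
    exact this
  refine ⟨f'.fiberι s' z', ?_, hs', ?_⟩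
  · have h2 := congrArg (fun ψ : f'.fiber s' ⟶ X => ψ z') hφι
    simp only [Scheme.Hom.comp_apply] at h2
    rw [← h2, hz1, hζ]
  · rw [resTrdeg_eq, resTrdeg_eq, ← trdeg_fiber' f' s' z' _ rfl hs', ← trdeg_fiber' f y ζ u hζ hu]
    exact hz2

set_option maxHeartbeats 1000000 in
/-- Base change of the numerical invariants of a point of a fibre. -/
theorem invariants_of_isPullback {X S X' S' : Scheme.{u}} (f : X ⟶ S) [LocallyOfFiniteType f]
    (g : S' ⟶ S) (g' : X' ⟶ X) (f' : X' ⟶ S') (hsq : IsPullback g' f' f g) (x' : X') :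
    ∃ k n k' n' : ℕ,
      ringKrullDim ↥((f.fiber (f (g' x'))).presheaf.stalk (f.asFiber (g' x'))) = (k : WithBot ℕ∞) ∧
      Dual3.resTrdeg f (g' x') = (n : Cardinal.{u}) ∧
      ringKrullDim ↥((f'.fiber (f' x')).presheaf.stalk (f'.asFiber x')) = (k' : WithBot ℕ∞) ∧
      Dual3.resTrdeg f' x' = (n' : Cardinal.{u}) ∧ k' + n' = k + n ∧ k ≤ k' := by
  haveI : LocallyOfFiniteType f' :=
    MorphismProperty.of_isPullback (P := @LocallyOfFiniteType) hsq inferInstance
  obtain ⟨k, n, hk, -, hn, hfd⟩ := fibreDimAt_eq f (g' x')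
  obtain ⟨k', n', hk', -, hn', hfd'⟩ := fibreDimAt_eq f' x'
  have h1 := Groth.Agent.Helper5.RelDimSp.fibreDimAt_of_isPullback f g g' f' hsq x'
  rw [hfd, hfd'] at h1
  have h2 := stalkDim_le_of_isPullback f g g' f' hsq x'
  rw [hk, hk'] at h2
  refine ⟨k, n, k', n', hk, hn, hk', hn', ?_, ?_⟩
  · exact_mod_cast h1
  · exact_mod_cast h2

end Groth.Agent.Helper5.FibBC
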