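import Groth.Prelude.Def_AlgSpDec
import Groth.Agent.Helper5.RelDim1
import Groth.Agent.Helper5.ResTr2
import Mathlib

set_option autoImplicit false
universe u
open CategoryTheory CategoryTheory.Limits AlgebraicGeometry Opposite

namespace Groth.Agent.Helper5.RelDim

open AlgSp Groth.Agent.Helper5.AtMor Groth.Agent.Helper5.EqAt Groth.Agent.Helper5.SubDim
  Groth.Agent.Helper5.ResTr

variable {S : Scheme.{u}}

/-- The dimension of the local ring of the fibre is étale local on source and target. -/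
theorem elstft_fibreStalkDim (e : WithBot ℕ∞) :
    ELSTft (fun _ _ h u => ringKrullDim ↥((h.fiber (h u)).presheaf.stalk (h.asFiber u)) = e) := by
  intro U' V' U V h' h p q _ _ hlft hcomm u'
  have hlft' : LocallyOfFiniteType h' := by
    have : LocallyOfFiniteType (h' ≫ q) := by rw [hcomm]; infer_instance
    exact locallyOfFiniteType_of_comp h' q
  obtain ⟨k', n', hk', -, hn', hfd'⟩ := fibreDimAt_eq h' u'
  obtain ⟨k, n, hk, -, hn, hfd⟩ := fibreDimAt_eq h (p u')
  have h1 := Groth.Agent.Helper5.EtFib.fibreDimAt_etale_square h h' p q hcomm u'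
  have h2 := Groth.Agent.Helper5.EtTrdeg.trdeg_etale_square h h' p q hcomm u'
  rw [hfd, hfd'] at h1
  rw [hn, hn'] at h2
  have h3 : k + n = k' + n' := by exact_mod_cast h1
  have h4 : n = n' := by exact_mod_cast h2
  have h5 : k = k' := by omega
  show ringKrullDim ↥((h'.fiber (h' u')).presheaf.stalk (h'.asFiber u')) = e ↔
    ringKrullDim ↥((h.fiber (h (p u'))).presheaf.stalk (h.asFiber (p u'))) = e
  rw [hk', hk, h5]

/-- S10320. -/
theorem relDim_eq_fibreLocalRingDim_add_trdeg {X Y : Sp S} (hX : IsAlgSpace X) (hY : IsAlgSpace Y)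
    (f : X ⟶ Y) (hf : LocP @LocallyOfFiniteType f) (x : Points X) (d e : WithBot ℕ∞)
    (r : Cardinal.{u})
    (hd : HasAtMor (fun _ _ h u => FlatMor.fibreDimAt h u = d) f x)
    (he : HasAtMor (fun _ _ h u =>
      ringKrullDim ↥((h.fiber (h u)).presheaf.stalk (h.asFiber u)) = e) f x)
    (hr : HasAtMor (fun _ _ h u => Dual3.resTrdeg h u = r) f x) :
    d = e + ((Cardinal.toENat r : ℕ∞) : WithBot ℕ∞) := by
  obtain ⟨U, V, a, b, h, u, ha, hb, hcomm, hu⟩ :=
    Groth.Agent.Helper5.SrcEt.exists_chart_at hX hY f x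
  subst hu
  have hlft : LocallyOfFiniteType h.left := hf a b h ha hb hcomm
  have e1 : FlatMor.fibreDimAt h.left u = d :=
    (hasAtMor_iff_chart_ft _ (elstft_fibreDimAt (fun t => t = d)) f hf a b h ha hb hcomm u).1 hd
  have e2 : ringKrullDim ↥((h.left.fiber (h.left u)).presheaf.stalk (h.left.asFiber u)) = e :=
    (hasAtMor_iff_chart_ft _ (elstft_fibreStalkDim e) f hf a b h ha hb hcomm u).1 he
  have e3 : Dual3.resTrdeg h.left u = r :=
    (hasAtMor_iff_chart _ (elst_resTrdeg r) f a b h ha hb hcomm u).1 hr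
  obtain ⟨k, n, hk, -, hn, hfd⟩ := fibreDimAt_eq h.left u
  have e3' : (n : Cardinal.{u}) = r := by
    rw [← e3, ← hn]; rfl
  rw [← e1, ← e2, ← e3', hfd, hk]
  simp

end Groth.Agent.Helper5.RelDim
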