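import Mathlib
import Groth.Agent.Helper5.FibBC3
import Groth.Agent.Helper5.RelDim2
import Groth.Agent.Helper5.PtLoc4

set_option autoImplicit false
set_option linter.unusedVariables false
universe u
open CategoryTheory CategoryTheory.Limits AlgebraicGeometry Opposite

namespace Groth.Agent.Helper5.FibBC

open AlgSp Groth.Agent.Helper4 Groth.Agent.Helper5.PtLoc Groth.Agent.Helper5.AtMor Groth.Agent.Helper5.GorSp Groth.Agent.Helper5.FlatBC
  Groth.Agent.Helper5.RelDim Groth.Agent.Helper5.ResTr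

variable {S : Scheme.{u}}

set_option maxHeartbeats 1000000 in
set_option backward.isDefEq.respectTransparency.types false in
theorem s10335 {X Y Y' X' : AlgSp.Space S} (f : X ⟶ Y) (g : Y' ⟶ Y)
    (g' : X' ⟶ X) (f' : X' ⟶ Y') (sq : IsPullback g'.hom f'.hom f.hom g.hom)
    (hf : AlgSp.LocP @LocallyOfFiniteType f.hom) :
    (∀ (x' : AlgSp.Points X'.obj) (e e' : WithBot ℕ∞) (r r' : Cardinal.{u}),
      AlgSp.HasAtMor (fun _ _ h u => ringKrullDim ↥((h.fiber (h u)).presheaf.stalk (h.asFiber u)) = e) f.hom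
          (AlgSp.Points.map g'.hom x') →
      AlgSp.HasAtMor (fun _ _ h u => Dual3.resTrdeg h u = r) f.hom (AlgSp.Points.map g'.hom x') →
      AlgSp.HasAtMor (fun _ _ h u => ringKrullDim ↥((h.fiber (h u)).presheaf.stalk (h.asFiber u)) = e') f'.hom x' →
      AlgSp.HasAtMor (fun _ _ h u => Dual3.resTrdeg h u = r') f'.hom x' →
        e' + ((Cardinal.toENat r' : ℕ∞) : WithBot ℕ∞) = e + ((Cardinal.toENat r : ℕ∞) : WithBot ℕ∞) ∧ e ≤ e') ∧
    (∀ (x : AlgSp.Points X.obj) (y' : AlgSp.Points Y'.obj) (e : WithBot ℕ∞),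
      AlgSp.Points.map f.hom x = AlgSp.Points.map g.hom y' →
      AlgSp.HasAtMor (fun _ _ h u => ringKrullDim ↥((h.fiber (h u)).presheaf.stalk (h.asFiber u)) = e) f.hom x →
        ∃ x' : AlgSp.Points X'.obj, AlgSp.Points.map g'.hom x' = x ∧ AlgSp.Points.map f'.hom x' = y' ∧
          AlgSp.HasAtMor (fun _ _ h u => ringKrullDim ↥((h.fiber (h u)).presheaf.stalk (h.asFiber u)) = e)
            f'.hom x') := by
  have hf' : AlgSp.LocP @LocallyOfFiniteType f'.hom :=
    Groth.Agent.Helper5.RelDimSp.locP_lft_of_isPullback f g g' f' sq hf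
  obtain ⟨V, b, hbe, hbs⟩ := Y.property.atlas
  obtain ⟨V', b', g₀, hb'e, hb's, cc⟩ := exists_chart_surj Y'.property g.hom b hbe hbs
  obtain ⟨U, U', a, a', s, r₁, r₂, hae, ha'e, ha's, c1, sqU, ha'1, ha'2, -⟩ :=
    exists_cube_over X.property sq b b' g₀ hbe hb'e hb's cc
  have sqU' := sqU.map (Over.forget S)
  haveI hlft : LocallyOfFiniteType s.left := hf a b s hae hbe c1
  have hpt1 : ∀ u' : ↥U'.left, Points.ofPt a (r₁.left u') = Points.map g'.hom (Points.ofPt a' u') := by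
    intro u'
    rw [Points.map_ofPt, ha'1, Groth.Agent.Helper4.AlgSpPtsDesc.ofPt_yon_map_comp]
  have hpt2 : ∀ u' : ↥U'.left, Points.ofPt b' (r₂.left u') = Points.map f'.hom (Points.ofPt a' u') := by
    intro u'
    rw [Points.map_ofPt, ha'2, Groth.Agent.Helper4.AlgSpPtsDesc.ofPt_yon_map_comp]
  refine ⟨?_, ?_⟩
  · intro x' e e' r r' he hr he' hr'
    obtain ⟨u', hu'⟩ := Groth.Agent.Helper5.AlgSpOpen.ofPt_surjective_of_repWith a' ha's x'
    subst hu'
    rw [← hpt1 u'] at he hr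
    have e1 := (hasAtMor_iff_chart_ft _ (elstft_fibreStalkDim e) f.hom hf a b s hae hbe c1
      (r₁.left u')).1 he
    have e2 := (hasAtMor_iff_chart _ (elst_resTrdeg r) f.hom a b s hae hbe c1 (r₁.left u')).1 hr
    have e3 := (hasAtMor_iff_chart_ft _ (elstft_fibreStalkDim e') f'.hom hf' a' b' r₂ ha'e hb'e ha'2
      u').1 he'
    have e4 := (hasAtMor_iff_chart _ (elst_resTrdeg r') f'.hom a' b' r₂ ha'e hb'e ha'2 u').1 hr'
    obtain ⟨k, n, k', n', hk, hn, hk', hn', hsum, hle⟩ :=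
      invariants_of_isPullback s.left g₀.left r₁.left r₂.left sqU' u'
    have E1 : e = (k : WithBot ℕ∞) := e1.symm.trans hk
    have E2 : r = (n : Cardinal.{u}) := e2.symm.trans hn
    have E3 : e' = (k' : WithBot ℕ∞) := e3.symm.trans hk'
    have E4 : r' = (n' : Cardinal.{u}) := e4.symm.trans hn'
    rw [E1, E2, E3, E4]
    simp only [Cardinal.toENat_nat]
    refine ⟨?_, ?_⟩
    · exact_mod_cast hsum
    · exact_mod_cast hle
  · intro x y' e hxy he
    obtain ⟨x'₀, hx1, hx2⟩ := Groth.Agent.Helper4.AlgSpPtsDesc.exists_point_of_isPullback sq x y' hxy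
    obtain ⟨u'₀, hu'₀⟩ := Groth.Agent.Helper5.AlgSpOpen.ofPt_surjective_of_repWith a' ha's x'₀
    have hw : s.left (r₁.left u'₀) = g₀.left (r₂.left u'₀) := by
      have := congrArg (fun ψ : U'.left ⟶ V.left => ψ u'₀) sqU'.w
      simpa using this
    obtain ⟨u', hu1, hu2, hu3⟩ := exists_lift_resTrdeg_eq s.left g₀.left r₁.left r₂.left sqU'
      (r₁.left u'₀) (r₂.left u'₀) hw
    refine ⟨Points.ofPt a' u', ?_, ?_, ?_⟩
    · rw [← hpt1 u', hu1, hpt1 u'₀, hu'₀, hx1]
    · rw [← hpt2 u', hu2, hpt2 u'₀, hu'₀, hx2]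
    · have hx : Points.ofPt a (r₁.left u') = x := by
        rw [hu1, hpt1 u'₀, hu'₀, hx1]
      rw [← hx] at he
      have e1 := (hasAtMor_iff_chart_ft _ (elstft_fibreStalkDim e) f.hom hf a b s hae hbe c1
        (r₁.left u')).1 he
      obtain ⟨k, n, k', n', hk, hn, hk', hn', hsum, hle⟩ :=
        invariants_of_isPullback s.left g₀.left r₁.left r₂.left sqU' u'
      rw [hu1] at hn
      rw [hu3, hn] at hn'
      have hnn : n = n' := by exact_mod_cast hn'
      have hkk : k' = k := by omega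
      refine (hasAtMor_iff_chart_ft _ (elstft_fibreStalkDim e) f'.hom hf' a' b' r₂ ha'e hb'e ha'2
        u').2 ?_
      show ringKrullDim _ = e
      rw [hk', hkk, ← hk]
      exact e1

end Groth.Agent.Helper5.FibBC
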