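import Groth.Agent.Helper5.FibCodim

set_option autoImplicit false
universe u
open AlgebraicGeometry CategoryTheory TopologicalSpace

namespace Groth.Agent.Helper5.SubDim

open Groth.Agent.Helper5.LocDE Groth.Agent.Helper5.VarDim Groth.Agent.Helper5.MaxPt

/-- Restrict a strict series to a subset containing all its terms. -/
def ltSeriesSubtype {α : Type*} [Preorder α] (l : LTSeries α) (S : Set α) (h : ∀ i, l i ∈ S) :
    LTSeries ↥S :=
  { length := l.length, toFun := fun i => ⟨l i, h i⟩, step := fun i => l.step i }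

theorem le_krullDim_of_series {α : Type*} [Preorder α] (l : LTSeries α) (S : Set α)
    (h : ∀ i, l i ∈ S) : (l.length : WithBot ℕ∞) ≤ Order.krullDim ↥S :=
  Order.LTSeries.length_le_krullDim (ltSeriesSubtype l S h)

theorem stalk_dim_congr (Y : Scheme.{u}) (y y' : Y) (h : y = y') :
    ringKrullDim (Y.presheaf.stalk y) = ringKrullDim (Y.presheaf.stalk y') := by
  subst h; rfl

theorem ucat_congr (Y : Scheme.{u}) (y y' : Y) (h : y = y')
    (hc : CAlg.IsUniversallyCatenary (Y.presheaf.stalk y)) :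
    CAlg.IsUniversallyCatenary (Y.presheaf.stalk y') := by
  subst h; exact hc

/-- A chain of the given length in the fibre through `w`, with top `z`. -/
theorem exists_fibre_top {T Y : Scheme.{u}} (g : T ⟶ Y) (w : T) (k : ℕ)
    (hk : (k : ℕ∞) ≤ Order.coheight (g.asFiber w)) :
    ∃ z : T, g z = g w ∧ z ⤳ w ∧ (k : WithBot ℕ∞) ≤ Order.krullDim ↥(FibIcc g w z) := by
  obtain ⟨l, hhead, hlen⟩ := Order.exists_series_of_le_coheight (g.asFiber w) hk
  let j := g.fiberι (g w)
  have hemb : Topology.IsEmbedding j := j.isEmbedding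
  have hle : ∀ a b : ↥(g.fiber (g w)), a ≤ b ↔ j a ≤ j b := by
    intro a b
    rw [Scheme.le_iff_specializes, Scheme.le_iff_specializes, hemb.toIsInducing.specializes_iff]
  have hlt : ∀ a b : ↥(g.fiber (g w)), a < b ↔ j a < j b := by
    intro a b
    rw [lt_iff_le_not_ge, lt_iff_le_not_ge, hle a b, hle b a]
  let l' : LTSeries T := l.map j (fun a b h => (hlt a b).1 h)
  have hjw : j (g.asFiber w) = w := g.fiberι_asFiber w
  refine ⟨j l.last, apply_fiberι g (g w) l.last, ?_, ?_⟩
  · have h1 : g.asFiber w ≤ l.last := hhead ▸ l.head_le_last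
    have h2 := (hle _ _).1 h1
    rw [hjw] at h2
    exact Scheme.le_iff_specializes.1 h2
  · have h1 := le_krullDim_of_series l' (FibIcc g w (j l.last)) (by
      intro i
      refine ⟨apply_fiberι g (g w) (l i), ?_, ?_⟩
      · have h1 : g.asFiber w ≤ l i := hhead ▸ l.head_le i
        have h2 := (hle _ _).1 h1
        rw [hjw] at h2
        exact h2
      · exact (hle _ _).1 (l.monotone (Fin.le_last i)))
    have h2 : l'.length = k := hlen
    rw [h2] at h1
    exact h1


theorem max_of_coheight_asFiber {X Y : Scheme.{u}} (f : X ⟶ Y) (z : X)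
    (h0 : Order.coheight (f.asFiber z) = 0) :
    ∀ z' : X, f z' = f z → z' ⤳ z → z' = z := by
  intro z' hfz' hsp
  have hmax : IsMax (f.asFiber z) := Order.coheight_eq_zero.1 h0
  have hr : z' ∈ Set.range (f.fiberι (f z)) := by
    rw [Scheme.Hom.range_fiberι]; exact hfz'
  obtain ⟨ζ', hζ'⟩ := hr
  have hemb : Topology.IsEmbedding (f.fiberι (f z)) := (f.fiberι (f z)).isEmbedding
  have h1 : ζ' ⤳ f.asFiber z := by
    rw [← hemb.toIsInducing.specializes_iff, hζ', f.fiberι_asFiber]
    exact hsp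
  have h2 : f.asFiber z ≤ ζ' := Scheme.le_iff_specializes.2 h1
  have h3 : ζ' ≤ f.asFiber z := hmax h2
  have h4 : ζ' = f.asFiber z := by
    have h5 : f.asFiber z ⤳ ζ' := Scheme.le_iff_specializes.1 h3
    exact (h1.antisymm h5).eq
  rw [← hζ', h4, f.fiberι_asFiber]

/-- (⇒) of EGA IV 5.6.6-type statement. -/
theorem exists_max_of_dim_formula {X Y : Scheme.{u}} [IsLocallyNoetherian Y]
    (f : X ⟶ Y) [LocallyOfFiniteType f] (x : X)
    (hcat : CAlg.IsUniversallyCatenary (Y.presheaf.stalk (f x)))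
    (hdim : ringKrullDim (X.presheaf.stalk x) =
        ringKrullDim (Y.presheaf.stalk (f x)) +
          ringKrullDim ((f.fiber (f x)).presheaf.stalk (f.asFiber x))) :
    ∃ z : X, f z = f x ∧ z ⤳ x ∧ (∀ z' : X, f z' = f x → z' ⤳ z → z' = z) ∧
        FlatMor.fibreDimAt f z = FlatMor.fibreDimAt f x ∧
        ringKrullDim (X.presheaf.stalk z) = ringKrullDim (Y.presheaf.stalk (f z)) := by
  have hX : IsLocallyNoetherian X := LocallyOfFiniteType.isLocallyNoetherian f
  obtain ⟨D, hD1, hD2⟩ := ringKrullDim_stalk_nat Y (f x)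
  obtain ⟨k, n, hk1, hk2, hn, hfd⟩ := fibreDimAt_eq f x
  obtain ⟨N, hN1, hN2⟩ := ringKrullDim_stalk_nat X x
  have hN : N = D + k := by
    rw [hN1, hD1, hk1] at hdim
    exact_mod_cast hdim
  -- the top of a maximal chain
  obtain ⟨l, hlh, hll⟩ := Order.exists_series_of_coheight_eq_coe x hN2
  set ξ := l.last with hξdef
  have hxξ : x ≤ ξ := hlh ▸ l.head_le_last
  have hsp : ξ ⤳ x := Scheme.le_iff_specializes.1 hxξ
  have ha : Order.krullDim ↥(Set.Icc x ξ) = (N : WithBot ℕ∞) := by
    apply le_antisymm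
    · have h1 := krullDim_Icc_le_coheight x ξ
      rw [hN2] at h1
      exact_mod_cast h1
    · have h1 := le_krullDim_of_series l (Set.Icc x ξ)
        (fun i => ⟨hlh ▸ l.head_le i, l.monotone (Fin.le_last i)⟩)
      rw [hll] at h1
      exact h1
  -- the closed subscheme
  let X' : TopologicalSpace.Closeds X := ⟨closure {ξ}, isClosed_closure⟩
  let ιX := (Scheme.IdealSheafData.vanishingIdeal X').subschemeι
  have hrange : Set.range ιX = closure {ξ} := by
    rw [Scheme.IdealSheafData.range_subschemeι]; rfl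
  obtain ⟨w, hw⟩ : x ∈ Set.range ιX := by
    rw [hrange]; exact specializes_iff_mem_closure.1 hsp
  let g := ιX ≫ f
  have hT : IsLocallyNoetherian (Scheme.IdealSheafData.vanishingIdeal X').subscheme :=
    LocallyOfFiniteType.isLocallyNoetherian g
  obtain ⟨aT, haT1, haT2⟩ := ringKrullDim_stalk_nat _ w
  have haTN : aT = N := by
    have h1 := coheight_eq_krullDim_of_isEmbedding ιX ιX.isEmbedding w
    rw [haT2] at h1
    have hset : {t : X | t ∈ Set.range ιX ∧ ιX w ≤ t} = Set.Icc x ξ := by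
      ext t
      rw [hrange, hw]
      constructor
      · rintro ⟨h1, h2⟩
        exact ⟨h2, Scheme.le_iff_specializes.2 (specializes_iff_mem_closure.2 h1)⟩
      · rintro ⟨h1, h2⟩
        exact ⟨specializes_iff_mem_closure.1 (Scheme.le_iff_specializes.1 h2), h1⟩
    rw [hset, ha] at h1
    exact_mod_cast h1
  obtain ⟨k', n', hk'1, hk'2, -, -⟩ := fibreDimAt_eq g w
  have hgw : g w = f x := by
    show f (ιX w) = f x
    rw [hw]
  have hkk' : k ≤ k' := by
    have h1 := Groth.Agent.Helper5.DimIneq.stalk_dim_le g w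
    rw [haT1, hk'1, stalk_dim_congr Y _ _ hgw, hD1, haTN] at h1
    have h2 : N ≤ D + k' := by exact_mod_cast h1
    omega
  obtain ⟨zT, hzT1, hzT2, hzT3⟩ := exists_fibre_top g w k (by rw [hk'2]; exact_mod_cast hkk')
  let z := ιX zT
  have hfz : f z = f x := by
    show g zT = f x
    rw [hzT1, hgw]
  have hzx : z ⤳ x := by
    rw [← hw]; exact hzT2.map ιX.continuous
  have hξz : ξ ⤳ z := by
    rw [specializes_iff_mem_closure, ← hrange]; exact ⟨zT, rfl⟩
  have hle : ∀ a b : ↥(Scheme.IdealSheafData.vanishingIdeal X').subscheme, a ≤ b ↔ ιX a ≤ ιX b := by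
    intro a b
    rw [Scheme.le_iff_specializes, Scheme.le_iff_specializes,
      ιX.isEmbedding.toIsInducing.specializes_iff]
  have hlt : ∀ a b : ↥(Scheme.IdealSheafData.vanishingIdeal X').subscheme, a < b ↔ ιX a < ιX b := by
    intro a b
    rw [lt_iff_le_not_ge, lt_iff_le_not_ge, hle a b, hle b a]
  have hFib : (k : WithBot ℕ∞) ≤ Order.krullDim ↥(FibIcc f x z) := by
    refine hzT3.trans ?_
    refine Order.krullDim_le_of_strictMono (fun t : ↥(FibIcc g w zT) =>
      (⟨ιX t.1, ?_, ?_, ?_⟩ : ↥(FibIcc f x z))) ?_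
    · show g t.1 = f x
      rw [t.2.1, hgw]
    · rw [← hw]; exact (hle _ _).1 t.2.2.1
    · exact (hle _ _).1 t.2.2.2
    · intro s t hst
      exact (hlt s.1 t.1).1 hst
  obtain ⟨a'', tx, tz, ha'', htx, htz, hsum⟩ := fibre_codim' f x z hfz hzx
  obtain ⟨kz, nz, hkz1, hkz2, hnz, hfdz⟩ := fibreDimAt_eq f z
  have hchev := fibreDimAt_le_of_specializes f z x hzx
  have h_tx : tx = n := by
    have := htx.symm.trans hn
    exact_mod_cast this
  have h_tz : nz = tz := by
    have := hnz.symm.trans htz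
    exact_mod_cast this
  have hka : k ≤ a'' := by
    rw [ha''] at hFib
    exact_mod_cast hFib
  have hle2 : kz + nz ≤ k + n := by
    rw [hfdz, hfd] at hchev
    exact_mod_cast hchev
  have hkz0 : kz = 0 := by omega
  have htzk : tz = k + n := by omega
  have hmaxz : ∀ z' : X, f z' = f x → z' ⤳ z → z' = z := by
    intro z' hz' hsp'
    exact max_of_coheight_asFiber f z (by rw [hkz2, hkz0]; rfl) z' (hz'.trans hfz.symm) hsp'
  refine ⟨z, hfz, hzx, hmaxz, ?_, ?_⟩
  · rw [hfdz, hfd, hkz0, h_tz, htzk]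
    simp
  · obtain ⟨Nz, hNz1, hNz2⟩ := ringKrullDim_stalk_nat X z
    rw [hNz1, stalk_dim_congr Y _ _ hfz, hD1]
    have hle3 : Nz ≤ D := by
      have h1 := Groth.Agent.Helper5.DimIneq.stalk_dim_le f z
      rw [hNz1, hkz1, hkz0, stalk_dim_congr Y _ _ hfz, hD1] at h1
      have h2 : (Nz : WithBot ℕ∞) ≤ ((D + 0 : ℕ) : WithBot ℕ∞) := by exact_mod_cast h1
      exact_mod_cast h2
    have hge : D ≤ Nz := by
      obtain ⟨a1, c1, n1, e1, ha1, hc1, hn1, he1, hs1⟩ :=
        scheme_dimension_equality_local f x ξ hcat hsp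
      obtain ⟨a2, c2, n2, e2, ha2, hc2, hn2, he2, hs2⟩ :=
        scheme_dimension_equality_local f z ξ (ucat_congr Y _ _ hfz.symm hcat) hξz
      have q1 : a1 = N := by
        rw [ha] at ha1
        exact_mod_cast ha1.symm
      have q2 : c2 = c1 := by
        rw [hfz, hc1] at hc2
        exact_mod_cast hc2.symm
      have q3 : e2 = e1 := by
        have := he2.symm.trans he1
        exact_mod_cast this
      have q4 : n1 = n := by
        have := hn1.symm.trans hn
        exact_mod_cast this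
      have q5 : n2 = tz := by
        have := hn2.symm.trans htz
        exact_mod_cast this
      have q6 : a2 ≤ Nz := by
        have h1 := krullDim_Icc_le_coheight z ξ
        rw [ha2, hNz2] at h1
        exact_mod_cast h1
      omega
    have : Nz = D := le_antisymm hle3 hge
    rw [this]


/-- (⇐): a maximal point of the fibre above `x` with the right fibre dimension and
`dim O_{X,z} = dim O_{Y,y}` forces the dimension formula at `x`. -/
theorem dim_formula_of_exists_max {X Y : Scheme.{u}} [IsLocallyNoetherian Y]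
    (f : X ⟶ Y) [LocallyOfFiniteType f] (x z : X) (hfz : f z = f x) (hzx : z ⤳ x)
    (hmax : ∀ z' : X, f z' = f x → z' ⤳ z → z' = z)
    (hfdeq : FlatMor.fibreDimAt f z = FlatMor.fibreDimAt f x)
    (hdimz : ringKrullDim (X.presheaf.stalk z) = ringKrullDim (Y.presheaf.stalk (f z))) :
    ringKrullDim (X.presheaf.stalk x) =
        ringKrullDim (Y.presheaf.stalk (f x)) +
          ringKrullDim ((f.fiber (f x)).presheaf.stalk (f.asFiber x)) := by
  have hX : IsLocallyNoetherian X := LocallyOfFiniteType.isLocallyNoetherian f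
  apply le_antisymm (Groth.Agent.Helper5.DimIneq.stalk_dim_le f x)
  obtain ⟨D, hD1, hD2⟩ := ringKrullDim_stalk_nat Y (f x)
  obtain ⟨k, n, hk1, hk2, hn, hfd⟩ := fibreDimAt_eq f x
  obtain ⟨N, hN1, hN2⟩ := ringKrullDim_stalk_nat X x
  obtain ⟨Nz, hNz1, hNz2⟩ := ringKrullDim_stalk_nat X z
  have hmax' : ∀ w : X, f w = f z → w ⤳ z → w = z := fun w hw hwz => hmax w (hw.trans hfz) hwz
  obtain ⟨tz, htz1, htz2⟩ := fibreDimAt_of_maximal f z (coheight_asFiber_eq_zero f z hmax')
  obtain ⟨a, tx, tz', ha, htx, htz', hsum⟩ := fibre_codim' f x z hfz hzx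
  have q1 : tx = n := by
    have := htx.symm.trans hn
    exact_mod_cast this
  have q2 : tz' = tz := by
    have := htz'.symm.trans htz1
    exact_mod_cast this
  have q3 : tz = k + n := by
    rw [htz2, hfd] at hfdeq
    exact_mod_cast hfdeq
  have q4 : Nz = D := by
    rw [hNz1, stalk_dim_congr Y _ _ hfz, hD1] at hdimz
    exact_mod_cast hdimz
  have q5 : Nz + a ≤ N := by
    have h1 : (a : WithBot ℕ∞) ≤ Order.krullDim ↥(Set.Icc x z) := by
      rw [← ha]
      exact krullDim_mono_set (fun s hs => ⟨hs.2.1, hs.2.2⟩)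
    have h2 := coheight_add_le_of_le_krullDim_Icc x z a h1
    rw [hNz2, hN2] at h2
    exact_mod_cast h2
  rw [hN1, hD1, hk1]
  have : D + k ≤ N := by omega
  exact_mod_cast this

end Groth.Agent.Helper5.SubDim
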