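import Groth.Agent.Helper5.FtDim3

set_option autoImplicit false
universe u
open TensorProduct

namespace Groth.Agent.Helper5.FibDim

/-- Noether normalisation of a fibre ring with generators coming from the total ring. -/
theorem exists_finite_fiber_mvPolynomial {R A : Type u} [CommRing R] [CommRing A] [Algebra R A]
    [Algebra.FiniteType R A] (p : Ideal R) [p.IsPrime] [Nontrivial (p.Fiber A)] :
    ∃ (e : ℕ) (a : Fin e → A), (e : WithBot ℕ∞) = ringKrullDim (p.Fiber A) ∧
      (MvPolynomial.aeval (R := p.ResidueField)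
        (fun i => (1 : p.ResidueField) ⊗ₜ[R] a i) :
          MvPolynomial (Fin e) p.ResidueField →ₐ[p.ResidueField] p.Fiber A).Finite := by
  obtain ⟨e, φ, hinj, hfin⟩ := exists_finite_inj_algHom_of_fg p.ResidueField (p.Fiber A)
  have hint : φ.toRingHom.IsIntegral := RingHom.IsIntegral.of_finite hfin
  have hdim : ringKrullDim (p.Fiber A) = e := by
    rw [Groth.Agent.Helper2.Dim.dim_eq_of_integral_injective φ.toRingHom hint hinj,
      Groth.Agent.Helper5.DimBC.dim_mvPolynomial]
  choose r hr s hs using fun i : Fin e => Ideal.Fiber.exists_smul_eq_one_tmul p (φ (MvPolynomial.X i))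
  refine ⟨e, s, hdim.symm, ?_⟩
  let c : Fin e → p.ResidueField := fun i => (algebraMap R p.ResidueField (r i))⁻¹
  have hc : ∀ i, algebraMap R p.ResidueField (r i) ≠ 0 := by
    intro i h
    exact hr i ((Ideal.algebraMap_residueField_eq_zero).1 h)
  let σ : MvPolynomial (Fin e) p.ResidueField →ₐ[p.ResidueField]
      MvPolynomial (Fin e) p.ResidueField :=
    MvPolynomial.aeval (fun i => MvPolynomial.C (c i) * MvPolynomial.X i)
  let φ' : MvPolynomial (Fin e) p.ResidueField →ₐ[p.ResidueField] p.Fiber A :=
    MvPolynomial.aeval (R := p.ResidueField) (fun i => (1 : p.ResidueField) ⊗ₜ[R] s i)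
  have hcomp : φ'.comp σ = φ := by
    apply MvPolynomial.algHom_ext
    intro i
    simp only [AlgHom.comp_apply, σ, φ', MvPolynomial.aeval_X, map_mul, MvPolynomial.aeval_C]
    rw [← hs i, ← Algebra.smul_def, ← algebraMap_smul p.ResidueField (r i), smul_smul,
      inv_mul_cancel₀ (hc i), one_smul]
  have h2 : (φ'.toRingHom.comp σ.toRingHom).Finite := by
    have : φ'.toRingHom.comp σ.toRingHom = φ.toRingHom := by
      rw [← hcomp]; rfl
    rw [this]
    exact hfin
  exact RingHom.Finite.of_comp_finite h2

end Groth.Agent.Helper5.FibDim
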