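import Groth.Agent.Helper5.FibDim

set_option autoImplicit false
universe u
open TensorProduct PrimeSpectrum

namespace Groth.Agent.Helper5.FibDim

/-- `Spec κ(p)[T] → Spec R[T]` is injective. -/
theorem comap_map_residueField_injective {R : Type u} [CommRing R] (p : Ideal R) [p.IsPrime]
    (σ : Type) :
    Function.Injective (PrimeSpectrum.comap
      (MvPolynomial.map (algebraMap R p.ResidueField) :
        MvPolynomial σ R →+* MvPolynomial σ p.ResidueField)) := by
  intro P1 P2 h
  let eT := MvPolynomial.algebraTensorAlgEquiv (σ := σ) R p.ResidueField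
  let ps : PrimeSpectrum R := ⟨p, inferInstance⟩
  have hcomp : (eT : p.ResidueField ⊗[R] MvPolynomial σ R →+* MvPolynomial σ p.ResidueField).comp
      (Algebra.TensorProduct.includeRight :
        MvPolynomial σ R →ₐ[R] p.ResidueField ⊗[R] MvPolynomial σ R).toRingHom =
      MvPolynomial.map (algebraMap R p.ResidueField) := by
    ext x
    · simp [eT, MvPolynomial.algebraTensorAlgEquiv_tmul]
    · simp [eT, MvPolynomial.algebraTensorAlgEquiv_tmul]
  let Q1 : PrimeSpectrum (p.Fiber (MvPolynomial σ R)) := P1.comap (eT : _ →+* _)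
  let Q2 : PrimeSpectrum (p.Fiber (MvPolynomial σ R)) := P2.comap (eT : _ →+* _)
  have hQ : Q1 = Q2 := by
    apply (PrimeSpectrum.preimageEquivFiber R (MvPolynomial σ R) ps).symm.injective
    apply Subtype.ext
    show Q1.comap Algebra.TensorProduct.includeRight.toRingHom =
      Q2.comap Algebra.TensorProduct.includeRight.toRingHom
    simp only [Q1, Q2, ← PrimeSpectrum.comap_comp_apply, hcomp]
    exact h
  have hsurj : Function.Surjective (eT : p.ResidueField ⊗[R] MvPolynomial σ R →+*
      MvPolynomial σ p.ResidueField) := eT.surjective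
  exact PrimeSpectrum.comap_injective_of_surjective _ hsurj hQ

set_option maxHeartbeats 800000 in
/-- If the fibre ring at `p` is finite over `κ(p)[T]` via `T_i ↦ a_i`, then `A` is quasi-finite over
`R[T]` at every prime over `p`. -/
theorem quasiFiniteAt_of_finite_fiber {R A : Type u} [CommRing R] [CommRing A] [Algebra R A]
    [Algebra.FiniteType R A] (p : Ideal R) [p.IsPrime] (e : ℕ) (a : Fin e → A)
    (hfin : (MvPolynomial.aeval (R := p.ResidueField)
        (fun i => (1 : p.ResidueField) ⊗ₜ[R] a i) :
          MvPolynomial (Fin e) p.ResidueField →ₐ[p.ResidueField] p.Fiber A).Finite)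
    [Algebra (MvPolynomial (Fin e) R) A] [IsScalarTower R (MvPolynomial (Fin e) R) A]
    (hX : ∀ i, algebraMap (MvPolynomial (Fin e) R) A (MvPolynomial.X i) = a i)
    (q : Ideal A) [q.IsPrime] (hq : q.under R = p) :
    Algebra.QuasiFiniteAt (MvPolynomial (Fin e) R) q := by
  have hft : Algebra.FiniteType (MvPolynomial (Fin e) R) A :=
    .of_restrictScalars_finiteType R _ _
  let qs : PrimeSpectrum A := ⟨q, inferInstance⟩
  refine Algebra.QuasiFiniteAt.of_isOpen_singleton_fiber qs ?_
  let φ' : MvPolynomial (Fin e) p.ResidueField →ₐ[p.ResidueField] p.Fiber A :=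
    MvPolynomial.aeval (R := p.ResidueField) (fun i => (1 : p.ResidueField) ⊗ₜ[R] a i)
  let _ : Algebra (MvPolynomial (Fin e) p.ResidueField) (p.Fiber A) := φ'.toRingHom.toAlgebra
  have hfin' : Module.Finite (MvPolynomial (Fin e) p.ResidueField) (p.Fiber A) := hfin
  let ps : PrimeSpectrum R := ⟨p, inferInstance⟩
  let j : PrimeSpectrum (p.Fiber A) → PrimeSpectrum A :=
    fun Q => Q.comap (Algebra.TensorProduct.includeRight : A →ₐ[R] p.Fiber A).toRingHom
  have hj : Topology.IsInducing j := by
    have : j = Subtype.val ∘ (PrimeSpectrum.preimageHomeomorphFiber R A ps).symm := by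
      ext1 Q
      rfl
    rw [this]
    exact Topology.IsInducing.subtypeVal.comp
      (PrimeSpectrum.preimageHomeomorphFiber R A ps).symm.isInducing
  -- compatibility of the two squares
  have hsq : (algebraMap (MvPolynomial (Fin e) p.ResidueField) (p.Fiber A)).comp
      (MvPolynomial.map (algebraMap R p.ResidueField)) =
      (Algebra.TensorProduct.includeRight : A →ₐ[R] p.Fiber A).toRingHom.comp
        (algebraMap (MvPolynomial (Fin e) R) A) := by
    apply MvPolynomial.ringHom_ext
    · intro r
      simp only [RingHom.comp_apply, MvPolynomial.map_C]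
      rw [show (MvPolynomial.C r : MvPolynomial (Fin e) R) =
        algebraMap R (MvPolynomial (Fin e) R) r from rfl,
        ← IsScalarTower.algebraMap_apply R (MvPolynomial (Fin e) R) A]
      show φ' (MvPolynomial.C (algebraMap R p.ResidueField r)) = _
      simp only [φ', MvPolynomial.aeval_C]
      rw [← IsScalarTower.algebraMap_apply R p.ResidueField (p.Fiber A)]
      exact ((Algebra.TensorProduct.includeRight : A →ₐ[R] p.Fiber A).commutes r).symm
    · intro i
      simp only [RingHom.comp_apply, MvPolynomial.map_X, hX]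
      show φ' (MvPolynomial.X i) = _
      simp [φ']
  let Q0 : PrimeSpectrum (p.Fiber A) :=
    PrimeSpectrum.preimageHomeomorphFiber R A ps ⟨qs, PrimeSpectrum.ext hq⟩
  let Pt : PrimeSpectrum (MvPolynomial (Fin e) p.ResidueField) :=
    Q0.comap (algebraMap (MvPolynomial (Fin e) p.ResidueField) (p.Fiber A))
  have hdisc := Algebra.QuasiFinite.isDiscrete_comap_preimage_singleton
    (R := MvPolynomial (Fin e) p.ResidueField) (S := p.Fiber A) Pt
  have hdisc2 := (hdisc.image hj)
  have hsub : (PrimeSpectrum.comap (algebraMap (MvPolynomial (Fin e) R) A) ⁻¹'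
      {qs.comap (algebraMap (MvPolynomial (Fin e) R) A)}) ⊆
      j '' (PrimeSpectrum.comap (algebraMap (MvPolynomial (Fin e) p.ResidueField) (p.Fiber A)) ⁻¹'
        {Pt}) := by
    intro x hx
    have hx' : x.comap (algebraMap (MvPolynomial (Fin e) R) A) =
        qs.comap (algebraMap (MvPolynomial (Fin e) R) A) := hx
    have hxp : x ∈ PrimeSpectrum.comap (algebraMap R A) ⁻¹' {ps} := by
      show x.comap (algebraMap R A) = ps
      rw [IsScalarTower.algebraMap_eq R (MvPolynomial (Fin e) R) A,
        PrimeSpectrum.comap_comp_apply, hx', ← PrimeSpectrum.comap_comp_apply,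
        ← IsScalarTower.algebraMap_eq]
      exact PrimeSpectrum.ext hq
    let Qx : PrimeSpectrum (p.Fiber A) := PrimeSpectrum.preimageHomeomorphFiber R A ps ⟨x, hxp⟩
    have hjQx : j Qx = x :=
      congrArg Subtype.val ((PrimeSpectrum.preimageHomeomorphFiber R A ps).symm_apply_apply ⟨x, hxp⟩)
    have hjQ0 : j Q0 = qs :=
      congrArg Subtype.val ((PrimeSpectrum.preimageHomeomorphFiber R A ps).symm_apply_apply
        ⟨qs, PrimeSpectrum.ext hq⟩)
    refine ⟨Qx, ?_, hjQx⟩
    show Qx.comap (algebraMap (MvPolynomial (Fin e) p.ResidueField) (p.Fiber A)) = Pt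
    apply comap_map_residueField_injective p (Fin e)
    simp only [Pt, ← PrimeSpectrum.comap_comp_apply, hsq]
    rw [PrimeSpectrum.comap_comp_apply, PrimeSpectrum.comap_comp_apply]
    show (j Qx).comap _ = (j Q0).comap _
    rw [hjQx, hjQ0, hx']
  have hdisc3 := hdisc2.mono hsub
  have := hdisc3.to_subtype
  exact isOpen_discrete _

end Groth.Agent.Helper5.FibDim
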