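import Groth.Agent.Helper5.FibDim2

set_option autoImplicit false
universe u
open TensorProduct PrimeSpectrum

namespace Groth.Agent.Helper5.FibDim

/-- Fibre dimensions do not increase along a quasi-finite algebra. -/
theorem fiber_dim_le_of_quasiFinite {R R' S : Type*} [CommRing R] [CommRing R'] [CommRing S]
    [Algebra R R'] [Algebra R' S] [Algebra R S] [IsScalarTower R R' S] [Algebra.QuasiFinite R' S]
    (p : Ideal R) [p.IsPrime] :
    ringKrullDim (p.Fiber S) ≤ ringKrullDim (p.Fiber R') := by
  let ps : PrimeSpectrum R := ⟨p, inferInstance⟩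
  rw [ringKrullDim, ringKrullDim,
    ← Order.krullDim_eq_of_orderIso (PrimeSpectrum.preimageOrderIsoFiber R S ps),
    ← Order.krullDim_eq_of_orderIso (PrimeSpectrum.preimageOrderIsoFiber R R' ps)]
  let Θ : (PrimeSpectrum.comap (algebraMap R S) ⁻¹' {ps}) →
      (PrimeSpectrum.comap (algebraMap R R') ⁻¹' {ps}) :=
    fun x => ⟨x.1.comap (algebraMap R' S), by
      have h := x.2
      show (x.1.comap (algebraMap R' S)).comap (algebraMap R R') = ps
      rw [← PrimeSpectrum.comap_comp_apply, ← IsScalarTower.algebraMap_eq]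
      exact h⟩
  refine Order.krullDim_le_of_strictMono Θ ?_
  intro x y hxy
  have hle : x.1.asIdeal ≤ y.1.asIdeal := hxy.le
  refine lt_of_le_of_ne ?_ ?_
  · show (x.1.comap (algebraMap R' S)).asIdeal ≤ (y.1.comap (algebraMap R' S)).asIdeal
    exact Ideal.comap_mono hle
  · intro h
    have h1 : x.1.asIdeal.under R' = y.1.asIdeal.under R' :=
      congrArg (fun z : (PrimeSpectrum.comap (algebraMap R R') ⁻¹' {ps}) => z.1.asIdeal) h
    have h2 := Algebra.QuasiFinite.eq_of_le_of_under_eq (R := R') x.1.asIdeal y.1.asIdeal hle h1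
    exact hxy.ne (Subtype.ext (PrimeSpectrum.ext h2))

/-- The fibre rings of a polynomial algebra. -/
theorem fiber_dim_mvPolynomial {R : Type u} [CommRing R] (p : Ideal R) [p.IsPrime] (e : ℕ) :
    ringKrullDim (p.Fiber (MvPolynomial (Fin e) R)) = e := by
  rw [ringKrullDim_eq_of_ringEquiv
    (MvPolynomial.algebraTensorAlgEquiv (σ := Fin e) R p.ResidueField).toRingEquiv,
    Groth.Agent.Helper5.DimBC.dim_mvPolynomial]

set_option maxHeartbeats 800000 in
/-- Key local statement: near a prime `q` over `p`, all fibre rings have dimension at most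
`dim (p.Fiber A)`. -/
theorem exists_away_fiber_dim_le {R A : Type u} [CommRing R] [CommRing A] [Algebra R A]
    [Algebra.FiniteType R A] (p : Ideal R) [p.IsPrime] (d : WithBot ℕ∞)
    (hd : ringKrullDim (p.Fiber A) ≤ d)
    (q : Ideal A) [q.IsPrime] (hq : q.under R = p) :
    ∃ r : A, r ∉ q ∧ ∀ (p' : Ideal R) [p'.IsPrime],
      ringKrullDim (p'.Fiber (Localization.Away r)) ≤ d := by
  let ps : PrimeSpectrum R := ⟨p, inferInstance⟩
  let qs : PrimeSpectrum A := ⟨q, inferInstance⟩
  have hnt : Nontrivial (p.Fiber A) := by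
    have : Nonempty (PrimeSpectrum (p.Fiber A)) :=
      ⟨PrimeSpectrum.preimageEquivFiber R A ps ⟨qs, PrimeSpectrum.ext hq⟩⟩
    exact (PrimeSpectrum.nonempty_iff_nontrivial).1 this
  obtain ⟨e, a, he, hfin⟩ := exists_finite_fiber_mvPolynomial (R := R) (A := A) p
  let ψ : MvPolynomial (Fin e) R →ₐ[R] A := MvPolynomial.aeval a
  let _ : Algebra (MvPolynomial (Fin e) R) A := ψ.toRingHom.toAlgebra
  have htower : IsScalarTower R (MvPolynomial (Fin e) R) A :=
    IsScalarTower.of_algebraMap_eq' ψ.comp_algebraMap.symm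
  have hX : ∀ i, algebraMap (MvPolynomial (Fin e) R) A (MvPolynomial.X i) = a i := by
    intro i
    show ψ (MvPolynomial.X i) = a i
    simp [ψ]
  have hft : Algebra.FiniteType (MvPolynomial (Fin e) R) A :=
    .of_restrictScalars_finiteType R _ _
  have hqf : Algebra.QuasiFiniteAt (MvPolynomial (Fin e) R) q :=
    quasiFiniteAt_of_finite_fiber p e a hfin hX q hq
  obtain ⟨S', hS', r, hrq, H⟩ :=
    Algebra.QuasiFiniteAt.exists_fg_and_exists_notMem_and_awayMap_bijective
      (R := MvPolynomial (Fin e) R) q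
  have hfinS' : Module.Finite (MvPolynomial (Fin e) R) S' := ⟨(Submodule.fg_top _).mpr hS'⟩
  have hqf1 : Algebra.QuasiFinite (MvPolynomial (Fin e) R) (Localization.Away r) :=
    .trans _ S' _
  have hqf2 : Algebra.QuasiFinite (MvPolynomial (Fin e) R) (Localization.Away r.1) :=
    Algebra.QuasiFinite.of_surjective_algHom (R := MvPolynomial (Fin e) R)
      (S := Localization.Away r) (T := Localization.Away r.1)
      (Localization.awayMapₐ S'.val r) H.2
  refine ⟨r.1, hrq, fun p' _ => ?_⟩
  have h1 := fiber_dim_le_of_quasiFinite (R := R) (R' := MvPolynomial (Fin e) R)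
    (S := Localization.Away r.1) p'
  rw [fiber_dim_mvPolynomial] at h1
  exact h1.trans (he.le.trans hd)

end Groth.Agent.Helper5.FibDim
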