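import Groth.Agent.Helper5.FibDim3

set_option autoImplicit false
universe u
open TensorProduct PrimeSpectrum

namespace Groth.Agent.Helper5.FibDim

/-- Transport of subspace dimension along an embedding. -/
theorem dim_range_inter_eq {X' X : Type*} [TopologicalSpace X'] [TopologicalSpace X]
    (ι : X' → X) (hι : Topology.IsEmbedding ι) (T : Set X) :
    topologicalKrullDim ↥(Set.range ι ∩ T) = topologicalKrullDim ↥(ι ⁻¹' T) := by
  let k : ↥(ι ⁻¹' T) → ↥(Set.range ι ∩ T) := fun z => ⟨ι z.1, ⟨⟨z.1, rfl⟩, z.2⟩⟩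
  have hkc : Continuous k := (hι.continuous.comp continuous_subtype_val).subtype_mk _
  have hk : Topology.IsEmbedding k := by
    refine Topology.IsEmbedding.of_comp hkc continuous_subtype_val ?_
    exact hι.comp Topology.IsEmbedding.subtypeVal
  have hsurj : Function.Surjective k := by
    rintro ⟨x, ⟨z, rfl⟩, hT⟩
    exact ⟨⟨z, hT⟩, rfl⟩
  exact ((hk.toHomeomorphOfSurjective hsurj).isHomeomorph.topologicalKrullDim_eq).symm

/-- Affine (prime spectrum) form of the key local statement. -/
theorem primeSpectrum_key {R A : Type u} [CommRing R] [CommRing A] [Algebra R A]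
    [Algebra.FiniteType R A] (q : PrimeSpectrum A) (d : WithBot ℕ∞)
    (hd : topologicalKrullDim ↥(PrimeSpectrum.comap (algebraMap R A) ⁻¹'
      {q.comap (algebraMap R A)}) ≤ d) :
    ∃ W : Set (PrimeSpectrum A), IsOpen W ∧ q ∈ W ∧ ∀ p' : PrimeSpectrum R,
      topologicalKrullDim ↥(W ∩ PrimeSpectrum.comap (algebraMap R A) ⁻¹' {p'}) ≤ d := by
  let p : PrimeSpectrum R := q.comap (algebraMap R A)
  have h1 : ringKrullDim (p.asIdeal.Fiber A) ≤ d := by
    rw [← PrimeSpectrum.topologicalKrullDim_eq_ringKrullDim,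
      ← (PrimeSpectrum.preimageHomeomorphFiber R A p).isHomeomorph.topologicalKrullDim_eq]
    exact hd
  obtain ⟨r, hrq, hr⟩ := exists_away_fiber_dim_le p.asIdeal d h1 q.asIdeal rfl
  refine ⟨PrimeSpectrum.basicOpen r, (PrimeSpectrum.basicOpen r).isOpen, hrq, fun p' => ?_⟩
  let ι : PrimeSpectrum (Localization.Away r) → PrimeSpectrum A :=
    PrimeSpectrum.comap (algebraMap A (Localization.Away r))
  have hι : Topology.IsOpenEmbedding ι := PrimeSpectrum.localization_away_isOpenEmbedding _ r
  have hrange : Set.range ι = (PrimeSpectrum.basicOpen r : Set (PrimeSpectrum A)) :=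
    PrimeSpectrum.localization_away_comap_range _ r
  rw [← hrange, dim_range_inter_eq ι hι.isEmbedding]
  have hpre : ι ⁻¹' (PrimeSpectrum.comap (algebraMap R A) ⁻¹' {p'}) =
      PrimeSpectrum.comap (algebraMap R (Localization.Away r)) ⁻¹' {p'} := by
    ext z
    simp only [Set.mem_preimage, Set.mem_singleton_iff, ι]
    rw [← PrimeSpectrum.comap_comp_apply, ← IsScalarTower.algebraMap_eq]
  rw [hpre, (PrimeSpectrum.preimageHomeomorphFiber R (Localization.Away r) p').isHomeomorph.topologicalKrullDim_eq,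
    PrimeSpectrum.topologicalKrullDim_eq_ringKrullDim]
  exact hr p'.asIdeal

end Groth.Agent.Helper5.FibDim
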