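import Mathlib
import Groth.Prelude
import Groth.Agent.Helper5.FibModF
import Groth.Agent.Helper5.RSF1
import Groth.Agent.Helper6.SkQuot

/-!
# FibMod2B: `(S_k)` and equidimensionality as properties of pairs invariant under semilinear
isomorphisms
-/

set_option autoImplicit false
set_option linter.style.haveILetI false
set_option linter.unusedSectionVars false
set_option linter.unusedVariables false
universe u

namespace Groth.Agent.Helper5.FibMod

open TensorProduct IsLocalRing

section Iso

variable (R R' : Type u) [CommRing R] [CommRing R'] [IsLocalRing R] [IsLocalRing R']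
  (N N' : Type u) [AddCommGroup N] [AddCommGroup N'] [Module R N] [Module R' N']
  (e : R ≃+* R') (eN : N ≃+ N') (h : ∀ (r : R) (n : N), eN (r • n) = e r • eN n)

include h in
/-- `(S_k)` is invariant under semilinear isomorphisms -/
theorem hasSk_iso [IsNoetherianRing R] [Module.Finite R N] (k : ℕ) (hS : LocCoh.HasSk k R N) :
    LocCoh.HasSk k R' N' := by
  haveI hN' : IsNoetherianRing R' := isNoetherianRing_of_ringEquiv R e
  letI algRR' : Algebra R R' := e.toRingHom.toAlgebra
  letI modRN' : Module R N' := Module.compHom N' e.toRingHom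
  haveI : IsScalarTower R R' N' := IsScalarTower.of_algebraMap_smul fun r m => rfl
  let eL : N ≃ₗ[R] N' := { eN with map_smul' := fun r n => h r n }
  haveI : Module.Finite R N' := Module.Finite.equiv eL
  have h1 : LocCoh.HasSk k R N' := Groth.Agent.Helper6.SkQuot.hasSk_of_equiv k eL hS
  exact Groth.Agent.Helper5.RSD.hasSk_up (A := R) (B := R') N' k h1

include h in
/-- equidimensionality is invariant under semilinear isomorphisms -/
theorem equidim_iso [IsNoetherianRing R] [Module.Finite R N]
    (hE : EGA4.IsEquidimModule R N) : EGA4.IsEquidimModule R' N' := by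
  obtain ⟨h1, h2, h3, h4⟩ := pair_iso R R' N N' e eN h
  intro p' hp'
  have hann : Module.annihilator R N = (Module.annihilator R' N').comap e.toRingHom := by
    ext r
    rw [Ideal.mem_comap, Module.mem_annihilator, Module.mem_annihilator]
    constructor
    · intro hr n'
      obtain ⟨n, rfl⟩ := eN.surjective n'
      show e r • eN n = 0
      rw [← h, hr, map_zero]
    · intro hr n
      apply eN.injective
      rw [h, map_zero]
      exact hr (eN n)
  have hp : p'.comap e.toRingHom ∈ (Module.annihilator R N).minimalPrimes := by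
    rw [hann]
    exact Ideal.minimalPrimes_comap_of_surjective e.surjective hp'
  have hdim := hE _ hp
  rw [h3, ← hdim]
  have hmap : p' = (p'.comap e.toRingHom).map e.toRingHom :=
    (Ideal.map_comap_of_surjective _ e.surjective p').symm
  exact (ringKrullDim_eq_of_ringEquiv (Ideal.quotientEquiv _ _ e hmap)).symm

end Iso

/-- the pair property `(S_k)` -/
noncomputable def skIso (k : ℕ) : LocModIso.{u} where
  P R _ _ N _ _ := IsNoetherianRing R ∧ Module.Finite R N ∧ LocCoh.HasSk k R N
  iso R R' _ _ _ _ N N' _ _ _ _ e eN h hP := by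
    obtain ⟨hN, hF, hS⟩ := hP
    haveI := hN
    haveI := hF
    obtain ⟨h1, h2, h3, h4⟩ := pair_iso R R' N N' e eN h
    exact ⟨h1, h2, hasSk_iso R R' N N' e eN h k hS⟩

/-- the pair property "equidimensional" -/
noncomputable def eqIso : LocModIso.{u} where
  P R _ _ N _ _ := IsNoetherianRing R ∧ Module.Finite R N ∧ EGA4.IsEquidimModule R N
  iso R R' _ _ _ _ N N' _ _ _ _ e eN h hP := by
    obtain ⟨hN, hF, hS⟩ := hP
    haveI := hN
    haveI := hF
    obtain ⟨h1, h2, h3, h4⟩ := pair_iso R R' N N' e eN h
    exact ⟨h1, h2, equidim_iso R R' N N' e eN h hS⟩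

end Groth.Agent.Helper5.FibMod
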