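import Mathlib
import Groth.Prelude
import Groth.Agent.Helper5.FtDim4
import Groth.Agent.Helper5.RSD1

/-!
# FibMod2C: equidimensionality of a localization of a finite module over a finite type algebra
over a field, in terms of the coheights of the minimal points of the support
-/

set_option autoImplicit false
set_option linter.style.haveILetI false
universe u
open Order

namespace Groth.Agent.Helper5.FibMod

theorem dim_quot_loc_add (κ C : Type u) [Field κ] [CommRing C] [Algebra κ C]
    [Algebra.FiniteType κ C] (Q' Q : PrimeSpectrum C) (hle : Q' ≤ Q) :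
    ringKrullDim (Localization.AtPrime Q.asIdeal ⧸
        Q'.asIdeal.map (algebraMap C (Localization.AtPrime Q.asIdeal))) +
      ((Order.coheight Q : ℕ∞) : WithBot ℕ∞) = ((Order.coheight Q' : ℕ∞) : WithBot ℕ∞) := by
  haveI := Q.2
  haveI := Q'.2
  have hle' : Q'.asIdeal ≤ Q.asIdeal := hle
  set Qbar : Ideal (C ⧸ Q'.asIdeal) := Q.asIdeal.map (Ideal.Quotient.mk Q'.asIdeal) with hQbar
  haveI hprime : Qbar.IsPrime := by
    apply Ideal.map_isPrime_of_surjective Ideal.Quotient.mk_surjective
    rw [Ideal.mk_ker]
    exact hle'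
  have hsub : Algebra.algebraMapSubmonoid (C ⧸ Q'.asIdeal) Q.asIdeal.primeCompl =
      Qbar.primeCompl := by
    ext x
    obtain ⟨y, rfl⟩ := Ideal.Quotient.mk_surjective x
    constructor
    · rintro ⟨z, hz, hzy⟩
      intro hmem
      have hmem' : Ideal.Quotient.mk Q'.asIdeal y ∈ Qbar := hmem
      rw [hQbar, Ideal.mem_map_iff_of_surjective _ Ideal.Quotient.mk_surjective] at hmem'
      replace hmem := hmem'
      obtain ⟨w, hw, hwy⟩ := hmem
      have h1 : z - w ∈ Q'.asIdeal := by
        rw [← Ideal.Quotient.eq]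
        exact hzy.trans hwy.symm
      have h2 : z ∈ Q.asIdeal := by
        have := Q.asIdeal.add_mem (hle' h1) hw
        simpa using this
      exact hz h2
    · intro hy
      refine ⟨y, ?_, rfl⟩
      intro hyQ
      exact hy (Ideal.mem_map_of_mem _ hyQ)
  haveI hloc : IsLocalization.AtPrime (Localization.AtPrime Q.asIdeal ⧸
      Q'.asIdeal.map (algebraMap C (Localization.AtPrime Q.asIdeal))) Qbar := by
    show IsLocalization Qbar.primeCompl _
    rw [← hsub]
    infer_instance
  have h1 := IsLocalization.AtPrime.ringKrullDim_eq_height Qbar (Localization.AtPrime Q.asIdeal ⧸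
      Q'.asIdeal.map (algebraMap C (Localization.AtPrime Q.asIdeal)))
  have h2 := Groth.Agent.Helper5.FtDim.height_add_dim_quotient κ (C ⧸ Q'.asIdeal) Qbar
  have h3 : ringKrullDim ((C ⧸ Q'.asIdeal) ⧸ Qbar) = ringKrullDim (C ⧸ Q.asIdeal) :=
    ringKrullDim_eq_of_ringEquiv (DoubleQuot.quotQuotEquivQuotOfLE hle')
  rw [h1, ← Groth.Agent.Helper5.FtDim.ringKrullDim_quotient_eq_coheight Q,
    ← Groth.Agent.Helper5.FtDim.ringKrullDim_quotient_eq_coheight Q', ← h3]
  exact h2

set_option maxHeartbeats 1600000 in
/-- equidimensionality of a localized module, in terms of the minimal points of the support -/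
theorem equidim_loc_iff (κ C : Type u) [Field κ] [CommRing C] [Algebra κ C]
    [Algebra.FiniteType κ C] (N : Type u) [AddCommGroup N] [Module C N] [Module.Finite C N]
    (Q : PrimeSpectrum C) (c : ℕ) (hc : Order.coheight Q = (c : ℕ∞)) :
    EGA4.IsEquidimModule (Localization.AtPrime Q.asIdeal)
        (LocalizedModule Q.asIdeal.primeCompl N) ↔
      ∀ Q' : PrimeSpectrum C, Q' ≤ Q → Q' ∈ Module.support C N →
        (∀ Q'' ∈ Module.support C N, Q'' ≤ Q' → Q'' = Q') →
        ((Order.coheight Q' : ℕ∞) : WithBot ℕ∞) =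
          Module.supportDim (Localization.AtPrime Q.asIdeal)
            (LocalizedModule Q.asIdeal.primeCompl N) + (c : WithBot ℕ∞) := by
  haveI := Q.2
  set S := Q.asIdeal.primeCompl with hS
  set A := Localization.AtPrime Q.asIdeal with hA
  haveI : Module.Finite A (LocalizedModule S N) :=
    Module.Finite.of_isLocalizedModule S (LocalizedModule.mkLinearMap S N)
  have hdisj : ∀ Q' : PrimeSpectrum C, Q' ≤ Q → Disjoint (S : Set C) (Q'.asIdeal : Set C) := by
    intro Q' hle
    rw [Set.disjoint_left]
    intro x hx hxq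
    exact hx (hle hxq)
  have hsupp : ∀ P : Ideal A, ∀ hP : P.IsPrime,
      (Module.annihilator A (LocalizedModule S N) ≤ P ↔
        (⟨P.comap (algebraMap C A), Ideal.comap_isPrime _ _⟩ : PrimeSpectrum C) ∈
          Module.support C N) := by
    intro P hP
    exact (Module.mem_support_iff_of_finite (p := (⟨P, hP⟩ : PrimeSpectrum A))).symm.trans
      (Groth.Agent.Helper5.RSD.mem_support_localized_iff N Q.asIdeal ⟨P, hP⟩)
  have hcQ : ((Order.coheight Q : ℕ∞) : WithBot ℕ∞) = (c : WithBot ℕ∞) := by
    rw [hc]; rfl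
  constructor
  · intro hE Q' hle hQ'Z hmin
    haveI := Q'.2
    have hPprime : (Q'.asIdeal.map (algebraMap C A)).IsPrime :=
      IsLocalization.isPrime_of_isPrime_disjoint S A Q'.asIdeal Q'.2 (hdisj Q' hle)
    have hPc : (Q'.asIdeal.map (algebraMap C A)).comap (algebraMap C A) = Q'.asIdeal :=
      IsLocalization.under_map_of_isPrime_disjoint S A Q'.2 (hdisj Q' hle)
    have hPmin : Q'.asIdeal.map (algebraMap C A) ∈
        (Module.annihilator A (LocalizedModule S N)).minimalPrimes := by
      refine ⟨⟨hPprime, ?_⟩, ?_⟩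
      · rw [hsupp _ hPprime]
        convert hQ'Z
      · rintro P₁ ⟨hP₁, hann⟩ hP₁le
        rw [hsupp _ hP₁] at hann
        have hle₁ : (⟨P₁.comap (algebraMap C A), Ideal.comap_isPrime _ _⟩ : PrimeSpectrum C) ≤
            Q' := by
          show P₁.comap (algebraMap C A) ≤ Q'.asIdeal
          rw [← hPc]
          exact Ideal.comap_mono hP₁le
        have heq := hmin _ hann hle₁
        have h1 : Ideal.under C P₁ = Q'.asIdeal := congrArg PrimeSpectrum.asIdeal heq
        rw [← IsLocalization.map_under S A P₁, h1]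
    have h1 := hE _ hPmin
    have h2 := dim_quot_loc_add κ C Q' Q hle
    rw [h1, hcQ] at h2
    exact h2.symm
  · intro H P hP
    have hPprime : P.IsPrime := hP.1.1
    set Q' : PrimeSpectrum C := ⟨P.comap (algebraMap C A), Ideal.comap_isPrime _ _⟩ with hQ'
    have hle : Q' ≤ Q := by
      show P.comap (algebraMap C A) ≤ Q.asIdeal
      have h1 : P ≤ IsLocalRing.maximalIdeal A := IsLocalRing.le_maximalIdeal hPprime.ne_top
      have h2 := Ideal.comap_mono (f := algebraMap C A) h1
      have h3 : Ideal.comap (algebraMap C A) (IsLocalRing.maximalIdeal A) = Q.asIdeal :=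
        IsLocalization.AtPrime.under_maximalIdeal A Q.asIdeal
      rwa [h3] at h2
    have hQ'Z : Q' ∈ Module.support C N := (hsupp P hPprime).mp hP.1.2
    have hPmap : Q'.asIdeal.map (algebraMap C A) = P := IsLocalization.map_under S A P
    have hmin : ∀ Q'' ∈ Module.support C N, Q'' ≤ Q' → Q'' = Q' := by
      intro Q'' hQ''Z hle''
      have hle2 : Q'' ≤ Q := hle''.trans hle
      have hP''prime : (Q''.asIdeal.map (algebraMap C A)).IsPrime :=
        IsLocalization.isPrime_of_isPrime_disjoint S A Q''.asIdeal Q''.2 (hdisj Q'' hle2)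
      have hP''c : (Q''.asIdeal.map (algebraMap C A)).comap (algebraMap C A) = Q''.asIdeal :=
        IsLocalization.under_map_of_isPrime_disjoint S A Q''.2 (hdisj Q'' hle2)
      have hann : Module.annihilator A (LocalizedModule S N) ≤ Q''.asIdeal.map (algebraMap C A) := by
        rw [hsupp _ hP''prime]
        convert hQ''Z
      have hle3 : Q''.asIdeal.map (algebraMap C A) ≤ P := by
        rw [← hPmap]
        exact Ideal.map_mono hle''
      have hge := hP.2 ⟨hP''prime, hann⟩ hle3
      have heq : Q''.asIdeal.map (algebraMap C A) = P := le_antisymm hle3 hge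
      apply PrimeSpectrum.ext
      show Q''.asIdeal = P.comap (algebraMap C A)
      rw [← heq, hP''c]
    have h1 := H Q' hle hQ'Z hmin
    have h2 := dim_quot_loc_add κ C Q' Q hle
    rw [hPmap, hcQ, h1] at h2
    exact ENat.WithBot.add_natCast_cancel.mp h2

end Groth.Agent.Helper5.FibMod
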