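import Mathlib
import Groth.Prelude
import Groth.Agent.Helper5.FibModZ
import Groth.Agent.Helper5.FibMod2B
import Groth.Agent.Helper5.FibMod2C
import Groth.Agent.Helper7.CodepthB

/-!
# FibMod2D: `(S_k)` and equidimensionality of the fibre module at a prime, in terms of the depths
and the dimensions at the generizations in the fibre
-/

set_option autoImplicit false
set_option linter.unusedSectionVars false
set_option linter.unusedVariables false
set_option linter.style.haveILetI false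
universe u
open CategoryTheory TensorProduct IsLocalRing AlgebraicGeometry

namespace Groth.Agent.Helper5.FibMod

open Groth.Agent.Helper1 Groth.Agent.Helper2 Groth.Agent.Helper5.FibPd

attribute [local instance] Algebra.TensorProduct.rightAlgebra

section Trans

variable (A B : Type u) [CommRing A] [CommRing B] [Algebra A B]

theorem fibPt_le (p : PrimeSpectrum A) (Q' Q : PrimeSpectrum (p.asIdeal.Fiber B)) (h : Q' ≤ Q) :
    fibPt A B p Q' ≤ fibPt A B p Q := Ideal.comap_mono h

theorem exists_fibPt_le (p : PrimeSpectrum A) (Q : PrimeSpectrum (p.asIdeal.Fiber B))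
    (q' : PrimeSpectrum B) (hle : q' ≤ fibPt A B p Q)
    (hc : PrimeSpectrum.comap (algebraMap A B) q' =
      PrimeSpectrum.comap (algebraMap A B) (fibPt A B p Q)) :
    ∃ Q' : PrimeSpectrum (p.asIdeal.Fiber B), Q' ≤ Q ∧ fibPt A B p Q' = q' := by
  rw [fibPt_base] at hc
  let e := PrimeSpectrum.preimageOrderIsoFiber A B p
  have hQ' : fibPt A B p (e ⟨q', hc⟩) = q' :=
    congrArg Subtype.val (e.symm_apply_apply ⟨q', hc⟩)
  have hQ₀ : e ⟨fibPt A B p Q, fibPt_base A B p Q⟩ = Q := by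
    apply fibPt_injective A B p
    exact congrArg Subtype.val (e.symm_apply_apply ⟨fibPt A B p Q, fibPt_base A B p Q⟩)
  refine ⟨e ⟨q', hc⟩, ?_, hQ'⟩
  rw [← hQ₀]
  exact e.monotone hle

end Trans

section Mod

variable (A B : Type u) [CommRing A] [CommRing B] [Algebra A B] [Algebra.FiniteType A B]
  (M : Type u) [AddCommGroup M] [Module B M] [Module.Finite B M]

/-- the dimension of the fibre module at a prime -/
noncomputable def sdB (q : PrimeSpectrum B) : WithBot ℕ∞ :=
  Module.supportDim (EGA4.FibLocRing A B q.asIdeal) ((EGA4.FibLocRing A B q.asIdeal) ⊗[B] M)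

set_option maxHeartbeats 1600000 in
theorem depth_fibre_eq (p : PrimeSpectrum A) (Qb : PrimeSpectrum (p.asIdeal.Fiber B)) :
    LocCoh.depth (Localization.AtPrime Qb.asIdeal)
        (LocalizedModule Qb.asIdeal.primeCompl ((p.asIdeal.Fiber B) ⊗[B] M)) =
      depthB A B M (fibPt A B p Qb) := by
  haveI := p.2
  haveI := Qb.2
  haveI hNF : IsNoetherianRing (p.asIdeal.Fiber B) :=
    Algebra.FiniteType.isNoetherianRing p.asIdeal.ResidueField _
  have h2 := (fibre_form_iff (depthIs (LocCoh.depth (Localization.AtPrime Qb.asIdeal)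
      (LocalizedModule Qb.asIdeal.primeCompl ((p.asIdeal.Fiber B) ⊗[B] M)))) A B M p Qb).mpr ⟨
    IsLocalization.isNoetherianRing Qb.asIdeal.primeCompl _ inferInstance,
    Module.Finite.of_isLocalizedModule Qb.asIdeal.primeCompl
      (LocalizedModule.mkLinearMap Qb.asIdeal.primeCompl ((p.asIdeal.Fiber B) ⊗[B] M)), rfl⟩
  have h3 := (fibLocMod_iff (depthIs _) A B (fibPt A B p Qb).asIdeal M).mpr h2
  exact h3.2.2.symm

set_option maxHeartbeats 1600000 in
theorem sd_fibre_eq (p : PrimeSpectrum A) (Qb : PrimeSpectrum (p.asIdeal.Fiber B)) :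
    Module.supportDim (Localization.AtPrime Qb.asIdeal)
        (LocalizedModule Qb.asIdeal.primeCompl ((p.asIdeal.Fiber B) ⊗[B] M)) =
      sdB A B M (fibPt A B p Qb) := by
  haveI := p.2
  haveI := Qb.2
  haveI hNF : IsNoetherianRing (p.asIdeal.Fiber B) :=
    Algebra.FiniteType.isNoetherianRing p.asIdeal.ResidueField _
  have h2 := (fibre_form_iff (sdEq (Module.supportDim (Localization.AtPrime Qb.asIdeal)
      (LocalizedModule Qb.asIdeal.primeCompl ((p.asIdeal.Fiber B) ⊗[B] M)))) A B M p Qb).mpr ⟨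
    IsLocalization.isNoetherianRing Qb.asIdeal.primeCompl _ inferInstance,
    Module.Finite.of_isLocalizedModule Qb.asIdeal.primeCompl
      (LocalizedModule.mkLinearMap Qb.asIdeal.primeCompl ((p.asIdeal.Fiber B) ⊗[B] M)), rfl⟩
  have h3 := (fibLocMod_iff (sdEq _) A B (fibPt A B p Qb).asIdeal M).mpr h2
  exact h3.2.2.symm

set_option maxHeartbeats 1600000 in
/-- `(S_k)` for the fibre module at a prime -/
theorem hasSk_fibre_iff (k : ℕ) (q : PrimeSpectrum B) :
    (skIso k).P (EGA4.FibLocRing A B q.asIdeal) ((EGA4.FibLocRing A B q.asIdeal) ⊗[B] M) ↔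
      ∀ q' : PrimeSpectrum B, q' ≤ q →
        PrimeSpectrum.comap (algebraMap A B) q' = PrimeSpectrum.comap (algebraMap A B) q →
        min (k : WithBot ℕ∞) (sdB A B M q') ≤ ((depthB A B M q' : ℕ∞) : WithBot ℕ∞) := by
  obtain ⟨p, Qb, hQ⟩ := exists_fibre_prime' A B q
  obtain rfl : fibPt A B p Qb = q := PrimeSpectrum.ext hQ
  haveI := p.2
  haveI := Qb.2
  haveI hNF : IsNoetherianRing (p.asIdeal.Fiber B) :=
    Algebra.FiniteType.isNoetherianRing p.asIdeal.ResidueField _
  rw [fibLocMod_iff (skIso k), fibre_form_iff (skIso k)]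
  constructor
  · rintro ⟨-, -, hS⟩ q' hle hc
    obtain ⟨Q', hQ'le, rfl⟩ := exists_fibPt_le A B p Qb q' hle hc
    have hS' : EGA4.HasSkAt k (p.asIdeal.Fiber B) ((p.asIdeal.Fiber B) ⊗[B] M) Qb.asIdeal := hS
    have := (Groth.Agent.Helper7.Codepth.hasSkAt_iff ((p.asIdeal.Fiber B) ⊗[B] M) k Qb).mp hS'
      Q' hQ'le
    unfold Groth.Agent.Helper7.Codepth.Good at this
    rw [sd_fibre_eq, depth_fibre_eq] at this
    exact this
  · intro H
    refine ⟨IsLocalization.isNoetherianRing Qb.asIdeal.primeCompl _ inferInstance,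
      Module.Finite.of_isLocalizedModule Qb.asIdeal.primeCompl
        (LocalizedModule.mkLinearMap Qb.asIdeal.primeCompl ((p.asIdeal.Fiber B) ⊗[B] M)), ?_⟩
    show EGA4.HasSkAt k (p.asIdeal.Fiber B) ((p.asIdeal.Fiber B) ⊗[B] M) Qb.asIdeal
    apply (Groth.Agent.Helper7.Codepth.hasSkAt_iff ((p.asIdeal.Fiber B) ⊗[B] M) k Qb).mpr
    intro Q' hQ'le
    have := H (fibPt A B p Q') (fibPt_le A B p Q' Qb hQ'le) (by rw [fibPt_base, fibPt_base])
    unfold Groth.Agent.Helper7.Codepth.Good
    rw [sd_fibre_eq, depth_fibre_eq]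
    exact this

set_option maxHeartbeats 1600000 in
/-- equidimensionality of the fibre module at a prime -/
theorem equidim_fibre_iff (q : PrimeSpectrum B) (c : ℕ) (hc : cB A B q = (c : ℕ∞)) :
    eqIso.P (EGA4.FibLocRing A B q.asIdeal) ((EGA4.FibLocRing A B q.asIdeal) ⊗[B] M) ↔
      ∀ q' : PrimeSpectrum B, q' ≤ q →
        PrimeSpectrum.comap (algebraMap A B) q' = PrimeSpectrum.comap (algebraMap A B) q →
        q' ∈ Module.support B M →
        (∀ q'' : PrimeSpectrum B, q'' ≤ q' →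
          PrimeSpectrum.comap (algebraMap A B) q'' = PrimeSpectrum.comap (algebraMap A B) q' →
          q'' ∈ Module.support B M → q'' = q') →
        ((cB A B q' : ℕ∞) : WithBot ℕ∞) = sdB A B M q + (c : WithBot ℕ∞) := by
  obtain ⟨p, Qb, hQ⟩ := exists_fibre_prime' A B q
  obtain rfl : fibPt A B p Qb = q := PrimeSpectrum.ext hQ
  haveI := p.2
  haveI := Qb.2
  haveI hNF : IsNoetherianRing (p.asIdeal.Fiber B) :=
    Algebra.FiniteType.isNoetherianRing p.asIdeal.ResidueField _
  rw [cB_fibPt] at hc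
  have key := equidim_loc_iff p.asIdeal.ResidueField (p.asIdeal.Fiber B)
    ((p.asIdeal.Fiber B) ⊗[B] M) Qb c hc
  rw [sd_fibre_eq] at key
  rw [fibLocMod_iff eqIso, fibre_form_iff eqIso]
  constructor
  · rintro ⟨-, -, hE⟩ q' hle hcm hq' hmin
    obtain ⟨Q', hQ'le, rfl⟩ := exists_fibPt_le A B p Qb q' hle hcm
    have h1 := key.mp hE Q' hQ'le ((mem_fibre_support_iff' A B M p Q').mpr hq') ?_
    · rw [cB_fibPt]
      exact h1
    · intro Q'' hQ''Z hle''
      have := hmin (fibPt A B p Q'') (fibPt_le A B p Q'' Q' hle'')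
        (by rw [fibPt_base, fibPt_base]) ((mem_fibre_support_iff' A B M p Q'').mp hQ''Z)
      exact fibPt_injective A B p this
  · intro H
    refine ⟨IsLocalization.isNoetherianRing Qb.asIdeal.primeCompl _ inferInstance,
      Module.Finite.of_isLocalizedModule Qb.asIdeal.primeCompl
        (LocalizedModule.mkLinearMap Qb.asIdeal.primeCompl ((p.asIdeal.Fiber B) ⊗[B] M)), ?_⟩
    apply key.mpr
    intro Q' hQ'le hQ'Z hmin
    have h1 := H (fibPt A B p Q') (fibPt_le A B p Q' Qb hQ'le) (by rw [fibPt_base, fibPt_base])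
      ((mem_fibre_support_iff' A B M p Q').mp hQ'Z) ?_
    · rw [cB_fibPt] at h1
      exact h1
    · intro q'' hle'' hc'' hq''
      obtain ⟨Q'', hQ''le, rfl⟩ := exists_fibPt_le A B p Q' q'' hle'' hc''
      rw [hmin Q'' ((mem_fibre_support_iff' A B M p Q'').mpr hq'') hQ''le]

set_option maxHeartbeats 1600000 in
/-- membership in the Chevalley set of the support, via the local dimension of the support of
the fibre (no Noetherian hypothesis) -/
theorem mem_chevSet_iff₂ (p : PrimeSpectrum A) (Qb : PrimeSpectrum (p.asIdeal.Fiber B))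
    (hmem : Qb ∈ Module.support (p.asIdeal.Fiber B) ((p.asIdeal.Fiber B) ⊗[B] M)) (m : ℕ) :
    fibPt A B p Qb ∈ chevSet A B (Module.annihilator B M) m ↔
      (m : ℕ∞) ≤ Order.height (⟨Qb, hmem⟩ :
        Module.support (p.asIdeal.Fiber B) ((p.asIdeal.Fiber B) ⊗[B] M)) + Order.coheight Qb := by
  haveI := p.2
  have hZ : ∀ x ∈ Module.support (p.asIdeal.Fiber B) ((p.asIdeal.Fiber B) ⊗[B] M),
      ∀ y : PrimeSpectrum (p.asIdeal.Fiber B), x ≤ y →
        y ∈ Module.support (p.asIdeal.Fiber B) ((p.asIdeal.Fiber B) ⊗[B] M) := by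
    intro x hx y hxy
    exact Module.mem_support_mono hxy hx
  have hchar := coheight_char (p.asIdeal.Fiber B)
    (Module.support (p.asIdeal.Fiber B) ((p.asIdeal.Fiber B) ⊗[B] M)) hZ p.asIdeal.ResidueField
    ⟨Qb, hmem⟩ m
  rw [hchar]
  constructor
  · rintro ⟨p', Q, Q', hQ, hle, hI, hm⟩
    obtain ⟨hp, hQQ⟩ := fibPt_eq_iff A B p p' Qb Q hQ
    subst hp
    subst hQQ
    exact ⟨Q', (mem_fibre_support_iff A B M p' Q').mpr hI, hle, hm⟩
  · rintro ⟨Q', hQ'Z, hle, hm⟩
    exact ⟨p, Qb, Q', rfl, hle, (mem_fibre_support_iff A B M p Q').mp hQ'Z, hm⟩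

set_option maxHeartbeats 1600000 in
/-- the local dimension of the support of the fibre, via the dimensions of the closures of the
generizations -/
theorem le_sdB_add_cB_iff (q : PrimeSpectrum B) (hq : q ∈ Module.support B M) (m : ℕ) :
    (m : WithBot ℕ∞) ≤ sdB A B M q + ((cB A B q : ℕ∞) : WithBot ℕ∞) ↔
      ∃ q' : PrimeSpectrum B, q' ≤ q ∧
        PrimeSpectrum.comap (algebraMap A B) q' = PrimeSpectrum.comap (algebraMap A B) q ∧
        q' ∈ Module.support B M ∧ (m : ℕ∞) ≤ cB A B q' := by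
  obtain ⟨p, Qb, hQ⟩ := exists_fibre_prime' A B q
  obtain rfl : fibPt A B p Qb = q := PrimeSpectrum.ext hQ
  have hmem := (mem_fibre_support_iff' A B M p Qb).mpr hq
  obtain ⟨-, -, hsd⟩ := supportDim_fibTensor A B M p Qb hmem
  have h1 := mem_chevSet_iff₂ A B M p Qb hmem m
  have h2 := mem_chevSet_iff' A B (Module.annihilator B M) m (fibPt A B p Qb)
  unfold sdB
  rw [hsd, cB_fibPt]
  have h3 : (m : WithBot ℕ∞) ≤ ((Order.height (⟨Qb, hmem⟩ :
      Module.support (p.asIdeal.Fiber B) ((p.asIdeal.Fiber B) ⊗[B] M)) : ℕ∞) : WithBot ℕ∞) +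
      ((Order.coheight Qb : ℕ∞) : WithBot ℕ∞) ↔ (m : ℕ∞) ≤ Order.height (⟨Qb, hmem⟩ :
      Module.support (p.asIdeal.Fiber B) ((p.asIdeal.Fiber B) ⊗[B] M)) + Order.coheight Qb := by
    rw [← WithBot.coe_add]
    exact_mod_cast Iff.rfl
  rw [h3, ← h1, h2]
  refine exists_congr fun q' => and_congr_right fun _ => and_congr_right fun _ =>
    and_congr_left fun _ => ?_
  exact (Module.mem_support_iff_of_finite).symm

end Mod

end Groth.Agent.Helper5.FibMod
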