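import Mathlib
import Groth.Prelude
import Groth.Agent.Helper5.FibMod2D

/-!
# FibMod2E: equidimensionality and `(S_k)` (`k ≥ 1`) of the fibre module at a prime: the numerical
criterion
-/

set_option autoImplicit false
set_option linter.unusedSectionVars false
set_option linter.unusedVariables false
set_option linter.style.haveILetI false
universe u
open CategoryTheory TensorProduct IsLocalRing AlgebraicGeometry

namespace Groth.Agent.Helper5.FibMod

open Groth.Agent.Helper1 Groth.Agent.Helper2 Groth.Agent.Helper5.FibPd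

attribute [local instance] Algebra.TensorProduct.rightAlgebra

theorem arith1 (h c D k : ℕ) (d : ℕ∞) (hD : h + c = D) :
    min (k : WithBot ℕ∞) (h : WithBot ℕ∞) ≤ ((d : ℕ∞) : WithBot ℕ∞) ↔
      min ((k : ℕ∞) + c) (D : ℕ∞) ≤ d + c := by
  have h1 : min (k : WithBot ℕ∞) (h : WithBot ℕ∞) =
      ((min (k : ℕ∞) (h : ℕ∞) : ℕ∞) : WithBot ℕ∞) := by
    rw [WithBot.coe_min]
    rfl
  rw [h1, WithBot.coe_le_coe]
  have h2 : min ((k : ℕ∞) + c) (D : ℕ∞) = min (k : ℕ∞) (h : ℕ∞) + c := by
    rw [← hD]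
    push_cast
    rw [min_add_add_right]
  rw [h2]
  exact (WithTop.add_le_add_iff_right (ENat.natCast_ne_top c)).symm

section Core

variable (A B : Type u) [CommRing A] [CommRing B] [Algebra A B] [Algebra.FiniteType A B]
  (M : Type u) [AddCommGroup M] [Module B M] [Module.Finite B M]

/-- the numerical condition -/
def eskCond (k D : ℕ) (q : PrimeSpectrum B) : Prop :=
  (∀ q' : PrimeSpectrum B, q' ≤ q →
    PrimeSpectrum.comap (algebraMap A B) q' = PrimeSpectrum.comap (algebraMap A B) q →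
    depthB A B M q' = 0 → cB A B q' = (D : ℕ∞)) ∧
  (∀ q' : PrimeSpectrum B, q' ≤ q →
    PrimeSpectrum.comap (algebraMap A B) q' = PrimeSpectrum.comap (algebraMap A B) q →
    q' ∈ Module.support B M →
    min ((k : ℕ∞) + cB A B q') (D : ℕ∞) ≤ depthB A B M q' + cB A B q')

theorem exists_cB_nat (q : PrimeSpectrum B) : ∃ c : ℕ, cB A B q = (c : ℕ∞) := by
  obtain ⟨N, hN⟩ := exists_cB_le A B
  obtain ⟨c, hc⟩ := ENat.ne_top_iff_exists.mp
    (ne_top_of_le_ne_top (ENat.natCast_ne_top N) (hN q))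
  exact ⟨c, hc.symm⟩

theorem exists_sdB_nat (q : PrimeSpectrum B) (hq : q ∈ Module.support B M) :
    ∃ h : ℕ, sdB A B M q = (h : WithBot ℕ∞) := by
  haveI := q.2
  haveI : IsNoetherianRing (EGA4.FibLocRing A B q.asIdeal) := noeth_fibLocRing_ft A B q.asIdeal
  haveI : Nontrivial ((EGA4.FibLocRing A B q.asIdeal) ⊗[B] M) :=
    (nontrivial_fibTensor_iff A B M q).mpr hq
  haveI : Module.Finite (EGA4.FibLocRing A B q.asIdeal)
      ((EGA4.FibLocRing A B q.asIdeal) ⊗[B] M) :=
    Module.Finite.equiv (fibTensorEquiv A B q.asIdeal M).symm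
  obtain ⟨a, d, ha, -, -⟩ := exists_dim_depth_mod (EGA4.FibLocRing A B q.asIdeal)
    ((EGA4.FibLocRing A B q.asIdeal) ⊗[B] M)
  exact ⟨a, ha⟩

theorem mem_support_of_depthB_zero (q : PrimeSpectrum B) (h : depthB A B M q = 0) :
    q ∈ Module.support B M := by
  haveI := q.2
  rw [← nontrivial_fibTensor_iff A B M q]
  by_contra hc
  rw [not_nontrivial_iff_subsingleton] at hc
  haveI := hc
  unfold depthB at h
  rw [Groth.Agent.Helper2.DepthLoc.depth_eq_top_of_subsingleton] at h
  exact ENat.top_ne_zero h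

theorem cB_anti (q'' q' : PrimeSpectrum B) (hle : q'' ≤ q')
    (hc : PrimeSpectrum.comap (algebraMap A B) q'' = PrimeSpectrum.comap (algebraMap A B) q') :
    cB A B q' ≤ cB A B q'' := by
  rcases eq_or_lt_of_le hle with rfl | hlt
  · exact le_rfl
  · exact le_trans le_self_add (cB_add_one_le A B q'' q' hlt hc)

/-- a minimal point of the support of a fibre has depth zero -/
theorem depthB_of_minimal (q₀ : PrimeSpectrum B) (hq₀ : q₀ ∈ Module.support B M)
    (hmin : ∀ q'' : PrimeSpectrum B, q'' ≤ q₀ →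
      PrimeSpectrum.comap (algebraMap A B) q'' = PrimeSpectrum.comap (algebraMap A B) q₀ →
      q'' ∈ Module.support B M → q'' = q₀) : depthB A B M q₀ = 0 := by
  obtain ⟨q₁, hle, hc, hs, hd, -⟩ := exists_minimal_in_fibre A B M q₀ hq₀
  rw [← hmin q₁ hle hc hs]
  exact hd

set_option maxHeartbeats 1600000 in
/-- if all the minimal points of the support of the fibre below `q` have closure of dimension `D`,
the same holds for the local dimension of the support at all generizations -/
theorem sdB_add_cB_eq (q : PrimeSpectrum B) (D : ℕ)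
    (H : ∀ q₀ : PrimeSpectrum B, q₀ ≤ q →
      PrimeSpectrum.comap (algebraMap A B) q₀ = PrimeSpectrum.comap (algebraMap A B) q →
      q₀ ∈ Module.support B M →
      (∀ q'' : PrimeSpectrum B, q'' ≤ q₀ →
        PrimeSpectrum.comap (algebraMap A B) q'' = PrimeSpectrum.comap (algebraMap A B) q₀ →
        q'' ∈ Module.support B M → q'' = q₀) → cB A B q₀ = (D : ℕ∞))
    (q' : PrimeSpectrum B) (hle : q' ≤ q)
    (hc : PrimeSpectrum.comap (algebraMap A B) q' = PrimeSpectrum.comap (algebraMap A B) q)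
    (hq' : q' ∈ Module.support B M) (h c : ℕ) (hh : sdB A B M q' = (h : WithBot ℕ∞))
    (hcc : cB A B q' = (c : ℕ∞)) : h + c = D := by
  have hsum : sdB A B M q' + ((cB A B q' : ℕ∞) : WithBot ℕ∞) = ((h + c : ℕ) : WithBot ℕ∞) := by
    rw [hh, hcc]
    push_cast
    rfl
  apply le_antisymm
  · have h1 := (le_sdB_add_cB_iff A B M q' hq' (h + c)).mp (by rw [hsum])
    obtain ⟨q'', hle'', hc'', hq'', hm⟩ := h1
    obtain ⟨q₀, hle₀, hc₀, hs₀, -, hmin₀⟩ := exists_minimal_in_fibre A B M q'' hq''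
    have h2 := cB_anti A B q₀ q'' hle₀ hc₀
    have h3 := H q₀ (hle₀.trans (hle''.trans hle)) (hc₀.trans (hc''.trans hc)) hs₀
      (fun q3 hle3 hc3 hs3 => hmin₀ q3 hle3 hc3 hs3)
    rw [h3] at h2
    have h4 : ((h + c : ℕ) : ℕ∞) ≤ (D : ℕ∞) := hm.trans h2
    exact_mod_cast h4
  · obtain ⟨q₀, hle₀, hc₀, hs₀, -, hmin₀⟩ := exists_minimal_in_fibre A B M q' hq'
    have h3 := H q₀ (hle₀.trans hle) (hc₀.trans hc) hs₀
      (fun q3 hle3 hc3 hs3 => hmin₀ q3 hle3 hc3 hs3)
    have h1 := (le_sdB_add_cB_iff A B M q' hq' D).mpr ⟨q₀, hle₀, hc₀, hs₀, by rw [h3]⟩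
    rw [hsum] at h1
    exact_mod_cast h1

set_option maxHeartbeats 1600000 in
/-- **the numerical criterion** -/
theorem esk_iff (k : ℕ) (hk : 1 ≤ k) (q : PrimeSpectrum B) (hq : q ∈ Module.support B M) :
    (eqIso.P (EGA4.FibLocRing A B q.asIdeal) ((EGA4.FibLocRing A B q.asIdeal) ⊗[B] M) ∧
      (skIso k).P (EGA4.FibLocRing A B q.asIdeal) ((EGA4.FibLocRing A B q.asIdeal) ⊗[B] M)) ↔
      ∃ D : ℕ, eskCond A B M k D q := by
  obtain ⟨cq, hcq⟩ := exists_cB_nat A B q
  obtain ⟨hq', hhq⟩ := exists_sdB_nat A B M q hq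
  constructor
  · rintro ⟨hE, hS⟩
    rw [equidim_fibre_iff A B M q cq hcq] at hE
    rw [hasSk_fibre_iff A B M k q] at hS
    have Hmin : ∀ q₀ : PrimeSpectrum B, q₀ ≤ q →
        PrimeSpectrum.comap (algebraMap A B) q₀ = PrimeSpectrum.comap (algebraMap A B) q →
        q₀ ∈ Module.support B M →
        (∀ q'' : PrimeSpectrum B, q'' ≤ q₀ →
          PrimeSpectrum.comap (algebraMap A B) q'' = PrimeSpectrum.comap (algebraMap A B) q₀ →
          q'' ∈ Module.support B M → q'' = q₀) → cB A B q₀ = ((hq' + cq : ℕ) : ℕ∞) := by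
      intro q₀ hle₀ hc₀ hs₀ hmin₀
      have h1 := hE q₀ hle₀ hc₀ hs₀ hmin₀
      rw [hhq] at h1
      have h2 : ((cB A B q₀ : ℕ∞) : WithBot ℕ∞) = (((hq' + cq : ℕ) : ℕ∞) : WithBot ℕ∞) := by
        rw [h1]
        push_cast
        rfl
      exact WithBot.coe_injective h2
    refine ⟨hq' + cq, ?_, ?_⟩
    · intro q' hle hc hd
      have hs := mem_support_of_depthB_zero A B M q' hd
      obtain ⟨c', hc'⟩ := exists_cB_nat A B q'
      obtain ⟨h', hh'⟩ := exists_sdB_nat A B M q' hs
      have hsum := sdB_add_cB_eq A B M q (hq' + cq) Hmin q' hle hc hs h' c' hh' hc'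
      have h1 := hS q' hle hc
      rw [hh', hd] at h1
      have h2 : min (k : ℕ) h' ≤ 0 := by
        have : ((min (k : ℕ) h' : ℕ) : WithBot ℕ∞) ≤ ((0 : ℕ) : WithBot ℕ∞) := by
          push_cast
          exact h1
        exact_mod_cast this
      have h3 : h' = 0 := by
        rcases Nat.le_zero.mp h2 |> min_eq_iff.mp with ⟨h4, -⟩ | ⟨h4, -⟩
        · omega
        · exact h4
      rw [hc']
      have : c' = hq' + cq := by omega
      rw [this]
    · intro q' hle hc hs
      obtain ⟨c', hc'⟩ := exists_cB_nat A B q'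
      obtain ⟨h', hh'⟩ := exists_sdB_nat A B M q' hs
      have hsum := sdB_add_cB_eq A B M q (hq' + cq) Hmin q' hle hc hs h' c' hh' hc'
      have h1 := hS q' hle hc
      rw [hh'] at h1
      rw [hc']
      exact (arith1 h' c' (hq' + cq) k (depthB A B M q') hsum).mp h1
  · rintro ⟨D, ha, hb⟩
    have Hmin : ∀ q₀ : PrimeSpectrum B, q₀ ≤ q →
        PrimeSpectrum.comap (algebraMap A B) q₀ = PrimeSpectrum.comap (algebraMap A B) q →
        q₀ ∈ Module.support B M →
        (∀ q'' : PrimeSpectrum B, q'' ≤ q₀ →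
          PrimeSpectrum.comap (algebraMap A B) q'' = PrimeSpectrum.comap (algebraMap A B) q₀ →
          q'' ∈ Module.support B M → q'' = q₀) → cB A B q₀ = (D : ℕ∞) := by
      intro q₀ hle₀ hc₀ hs₀ hmin₀
      exact ha q₀ hle₀ hc₀ (depthB_of_minimal A B M q₀ hs₀ hmin₀)
    have hsumq := sdB_add_cB_eq A B M q D Hmin q le_rfl rfl hq hq' cq hhq hcq
    constructor
    · rw [equidim_fibre_iff A B M q cq hcq]
      intro q₀ hle₀ hc₀ hs₀ hmin₀
      rw [Hmin q₀ hle₀ hc₀ hs₀ hmin₀, hhq, ← hsumq]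
      push_cast
      rfl
    · rw [hasSk_fibre_iff A B M k q]
      intro q' hle hc
      by_cases hs : q' ∈ Module.support B M
      · obtain ⟨c', hc'⟩ := exists_cB_nat A B q'
        obtain ⟨h', hh'⟩ := exists_sdB_nat A B M q' hs
        have hsum := sdB_add_cB_eq A B M q D Hmin q' hle hc hs h' c' hh' hc'
        have h1 := hb q' hle hc hs
        rw [hc'] at h1
        rw [hh']
        exact (arith1 h' c' D k (depthB A B M q') hsum).mpr h1
      · haveI := q'.2
        have hsub : Subsingleton ((EGA4.FibLocRing A B q'.asIdeal) ⊗[B] M) := by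
          rw [← not_nontrivial_iff_subsingleton, nontrivial_fibTensor_iff A B M q']
          exact hs
        haveI := hsub
        have : depthB A B M q' = ⊤ := by
          unfold depthB
          exact Groth.Agent.Helper2.DepthLoc.depth_eq_top_of_subsingleton _ _
        rw [this]
        exact le_top

end Core

end Groth.Agent.Helper5.FibMod
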