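import Mathlib
import Groth.Prelude
import Groth.Agent.Helper5.FibMod2E

/-!
# FibMod2F: openness of the locus where the fibre module is equidimensional and `(S_k)`, `k ≥ 1`
(ring level)
-/

set_option autoImplicit false
set_option linter.unusedSectionVars false
set_option linter.unusedVariables false
set_option linter.style.haveILetI false
universe u
open CategoryTheory TensorProduct IsLocalRing AlgebraicGeometry

namespace Groth.Agent.Helper5.FibMod

open Groth.Agent.Helper1 Groth.Agent.Helper2 Groth.Agent.Helper5.FibPd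

attribute [local instance] Algebra.TensorProduct.rightAlgebra

section Gen

variable (A B : Type u) [CommRing A] [CommRing B] [Algebra A B]

theorem mem_chevSet_closed_iff (W : Set (PrimeSpectrum B)) (hW : IsClosed W) (m : ℕ)
    (q : PrimeSpectrum B) :
    q ∈ chevSet A B (PrimeSpectrum.vanishingIdeal W) m ↔ ∃ q' : PrimeSpectrum B, q' ≤ q ∧
      PrimeSpectrum.comap (algebraMap A B) q' = PrimeSpectrum.comap (algebraMap A B) q ∧
      q' ∈ W ∧ (m : ℕ∞) ≤ cB A B q' := by
  rw [mem_chevSet_iff']
  refine exists_congr fun q' => and_congr_right fun hle => and_congr_right fun hc =>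
    and_congr_left fun hm => ?_
  have h1 : (PrimeSpectrum.vanishingIdeal W ≤ q'.asIdeal) ↔
      q' ∈ PrimeSpectrum.zeroLocus ((PrimeSpectrum.vanishingIdeal W : Ideal B) : Set B) := by
    rw [PrimeSpectrum.mem_zeroLocus]
    exact Iff.rfl
  rw [h1, PrimeSpectrum.zeroLocus_vanishingIdeal_eq_closure, hW.closure_eq]

variable [Algebra.FiniteType A B] (M : Type u) [AddCommGroup M] [Module B M] [Module.Finite B M]

theorem depthB_eq_top_of_notMem (q : PrimeSpectrum B) (hs : q ∉ Module.support B M) :
    depthB A B M q = ⊤ := by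
  haveI := q.2
  have hsub : Subsingleton ((EGA4.FibLocRing A B q.asIdeal) ⊗[B] M) := by
    rw [← not_nontrivial_iff_subsingleton, nontrivial_fibTensor_iff A B M q]
    exact hs
  haveI := hsub
  unfold depthB
  exact Groth.Agent.Helper2.DepthLoc.depth_eq_top_of_subsingleton _ _

/-- outside the support, the pair is trivially equidimensional and `(S_k)` -/
theorem esk_of_notMem (k : ℕ) (q : PrimeSpectrum B) (hq : q ∉ Module.support B M) :
    eqIso.P (EGA4.FibLocRing A B q.asIdeal) ((EGA4.FibLocRing A B q.asIdeal) ⊗[B] M) ∧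
      (skIso k).P (EGA4.FibLocRing A B q.asIdeal) ((EGA4.FibLocRing A B q.asIdeal) ⊗[B] M) := by
  obtain ⟨c, hc⟩ := exists_cB_nat A B q
  constructor
  · rw [equidim_fibre_iff A B M q c hc]
    intro q' hle _ hs
    exact absurd (Module.mem_support_mono hle hs) hq
  · rw [hasSk_fibre_iff A B M k q]
    intro q' hle _
    have hs : q' ∉ Module.support B M := fun hs => hq (Module.mem_support_mono hle hs)
    rw [depthB_eq_top_of_notMem A B M q' hs]
    exact le_top

end Gen

section Open

variable (A B : Type u) [CommRing A] [CommRing B] [Algebra A B]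
  [Algebra.FinitePresentation A B] (M : Type u) [AddCommGroup M] [Module B M] [Module A M]
  [IsScalarTower A B M] [Module.FinitePresentation B M] [Module.Flat A M]

set_option maxHeartbeats 1600000 in
theorem isOpen_skCond (k D : ℕ) :
    IsOpen {q : PrimeSpectrum B | ∀ q' : PrimeSpectrum B, q' ≤ q →
      PrimeSpectrum.comap (algebraMap A B) q' = PrimeSpectrum.comap (algebraMap A B) q →
      q' ∈ Module.support B M →
      min ((k : ℕ∞) + cB A B q') (D : ℕ∞) ≤ depthB A B M q' + cB A B q'} := by
  haveI : Algebra.FiniteType A B := inferInstance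
  obtain ⟨N, hN⟩ := exists_cB_le A B
  have hEq : {q : PrimeSpectrum B | ∀ q' : PrimeSpectrum B, q' ≤ q →
      PrimeSpectrum.comap (algebraMap A B) q' = PrimeSpectrum.comap (algebraMap A B) q →
      q' ∈ Module.support B M →
      min ((k : ℕ∞) + cB A B q') (D : ℕ∞) ≤ depthB A B M q' + cB A B q'} =
      (⋃ m ∈ (Finset.range (N + 1)).filter (fun m => 1 ≤ min (k + m) D),
        chevSet A B (PrimeSpectrum.vanishingIdeal (wSet A B M (min (k + m) D - 1))) m)ᶜ := by
    ext q
    simp only [Set.mem_ofPred_eq, Set.mem_compl_iff, Set.mem_iUnion, Finset.mem_filter,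
      Finset.mem_range, exists_prop, not_exists, not_and]
    constructor
    · intro h m hm hmem
      rw [mem_chevSet_closed_iff A B _ (isClosed_wSet A B M _)] at hmem
      obtain ⟨q', hle, hc, hw, hmc⟩ := hmem
      have hw' : rectB A B M q' ≤ ((min (k + m) D - 1 : ℕ) : WithBot ℕ∞) := hw
      rw [rectB_eq] at hw'
      have hw'' : depthB A B M q' + cB A B q' ≤ ((min (k + m) D - 1 : ℕ) : ℕ∞) := by
        rw [← WithBot.coe_add] at hw'
        exact WithBot.coe_le_coe.mp hw'
      have hs : q' ∈ Module.support B M := by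
        by_contra hs
        rw [depthB_eq_top_of_notMem A B M q' hs, top_add] at hw''
        exact absurd hw'' (by simp)
      have h1 := h q' hle hc hs
      have h2 : ((min (k + m) D : ℕ) : ℕ∞) ≤ min ((k : ℕ∞) + cB A B q') (D : ℕ∞) := by
        refine le_min ?_ ?_
        · refine le_trans ?_ (add_le_add_right hmc _)
          exact_mod_cast min_le_left _ _
        · exact_mod_cast min_le_right _ _
      have h3 : ((min (k + m) D : ℕ) : ℕ∞) ≤ ((min (k + m) D - 1 : ℕ) : ℕ∞) :=
        h2.trans (h1.trans hw'')
      have h4 : min (k + m) D ≤ min (k + m) D - 1 := by exact_mod_cast h3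
      omega
    · intro h q' hle hc hs
      by_contra hcon
      rw [not_le] at hcon
      obtain ⟨c', hc'⟩ := exists_cB_nat A B q'
      have hcN : c' ≤ N := by
        have := hN q'
        rw [hc'] at this
        exact_mod_cast this
      rw [hc'] at hcon
      have hJ : min ((k : ℕ∞) + c') (D : ℕ∞) = ((min (k + c') D : ℕ) : ℕ∞) := by
        rfl
      rw [hJ] at hcon
      have hpos : 1 ≤ min (k + c') D := by
        by_contra hz
        have hz' : min (k + c') D = 0 := by omega
        rw [hz'] at hcon
        exact absurd hcon (by simp)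
      have hle' : depthB A B M q' + (c' : ℕ∞) ≤ ((min (k + c') D - 1 : ℕ) : ℕ∞) := by
        have h1 : ((min (k + c') D : ℕ) : ℕ∞) = ((min (k + c') D - 1 : ℕ) : ℕ∞) + 1 := by
          have : min (k + c') D = (min (k + c') D - 1) + 1 := by omega
          conv_lhs => rw [this]
          push_cast
          rfl
        rw [h1] at hcon
        exact (ENat.lt_add_one_iff (ENat.natCast_ne_top _)).mp hcon
      refine h c' ⟨by omega, hpos⟩ ?_
      rw [mem_chevSet_closed_iff A B _ (isClosed_wSet A B M _)]
      refine ⟨q', hle, hc, ?_, by rw [hc']⟩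
      show rectB A B M q' ≤ _
      rw [rectB_eq, hc', ← WithBot.coe_add]
      exact WithBot.coe_le_coe.mpr hle'
  rw [hEq]
  refine (isClosed_biUnion_finset fun m _ => ?_).isOpen_compl
  exact isClosed_chevSet A B _ _

set_option maxHeartbeats 1600000 in
/-- **ring version of S4984** -/
theorem isOpen_esk (k : ℕ) (hk : 1 ≤ k) :
    IsOpen {q : PrimeSpectrum B |
      eqIso.P (EGA4.FibLocRing A B q.asIdeal) ((EGA4.FibLocRing A B q.asIdeal) ⊗[B] M) ∧
      (skIso k).P (EGA4.FibLocRing A B q.asIdeal) ((EGA4.FibLocRing A B q.asIdeal) ⊗[B] M)} := by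
  haveI : Algebra.FiniteType A B := inferInstance
  have hEq : {q : PrimeSpectrum B |
      eqIso.P (EGA4.FibLocRing A B q.asIdeal) ((EGA4.FibLocRing A B q.asIdeal) ⊗[B] M) ∧
      (skIso k).P (EGA4.FibLocRing A B q.asIdeal) ((EGA4.FibLocRing A B q.asIdeal) ⊗[B] M)} =
      (Module.support B M)ᶜ ∪ ⋃ D : ℕ, {q | eskCond A B M k D q} := by
    ext q
    simp only [Set.mem_ofPred_eq, Set.mem_union, Set.mem_compl_iff, Set.mem_iUnion]
    by_cases hq : q ∈ Module.support B M
    · rw [esk_iff A B M k hk q hq]
      constructor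
      · intro h
        exact Or.inr h
      · rintro (h | h)
        · exact absurd hq h
        · exact h
    · constructor
      · intro _
        exact Or.inl hq
      · intro _
        exact esk_of_notMem A B M k q hq
  rw [hEq]
  refine (Module.isClosed_support.isOpen_compl).union (isOpen_iUnion fun D => ?_)
  have h1 := isOpen_assDims A B M {D}
  have h2 := isOpen_skCond A B M k D
  have hEq2 : {q | eskCond A B M k D q} =
      {q : PrimeSpectrum B | ∀ q' : PrimeSpectrum B, q' ≤ q →
        PrimeSpectrum.comap (algebraMap A B) q' = PrimeSpectrum.comap (algebraMap A B) q →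
        depthB A B M q' = 0 → ∃ n ∈ ({D} : Finset ℕ), cB A B q' = (n : ℕ∞)} ∩
      {q : PrimeSpectrum B | ∀ q' : PrimeSpectrum B, q' ≤ q →
        PrimeSpectrum.comap (algebraMap A B) q' = PrimeSpectrum.comap (algebraMap A B) q →
        q' ∈ Module.support B M →
        min ((k : ℕ∞) + cB A B q') (D : ℕ∞) ≤ depthB A B M q' + cB A B q'} := by
    ext q
    simp only [eskCond, Set.mem_ofPred_eq, Set.mem_inter_iff, Finset.mem_singleton,
      exists_eq_left]
  rw [hEq2]
  exact h1.inter h2

end Open

end Groth.Agent.Helper5.FibMod
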