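import Mathlib
import Groth.Prelude
import Groth.Agent.Helper5.FibModO
import Groth.Agent.Helper5.ConsLc1
import Groth.Agent.Helper8.GenFree11
import Groth.Agent.Lead.FD8
import Groth.Agent.Lead.FD21
import Groth.Agent.Helper5.FibMod2F

/-!
# FibMod2H: constructibility of the loci defined by the rectified depth of the fibres of a
finitely presented module (no flatness), ring level
-/

set_option autoImplicit false
set_option linter.unusedSectionVars false
set_option linter.unusedVariables false
set_option linter.style.haveILetI false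
universe u
open CategoryTheory CategoryTheory.Limits AlgebraicGeometry TopologicalSpace TensorProduct
open IsLocalRing Topology

namespace Groth.Agent.Helper5.FibMod

open Groth.Agent.Helper1 Groth.Agent.Helper2 Groth.Agent.Helper5.FibPd

attribute [local instance] Algebra.TensorProduct.rightAlgebra

section BC

variable (A B : Type u) [CommRing A] [CommRing B] [Algebra A B] [Algebra.FiniteType A B]
  (M : Type u) [AddCommGroup M] [Module B M] [Module.Finite B M]
  (A' : Type u) [CommRing A'] [Algebra A A']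

/-- base change invariance of the rectified depth, for the tensor product model -/
theorem rect_bc_tensor (q' : PrimeSpectrum (A' ⊗[A] B)) :
    rectB A' (A' ⊗[A] B) ((A' ⊗[A] B) ⊗[B] M) q' =
      rectB A B M (PrimeSpectrum.comap (algebraMap B (A' ⊗[A] B)) q') :=
  rect_bc A B A' (A' ⊗[A] B) M q'

/-- lifting of points to the tensor product model -/
theorem exists_point_tensor (q : PrimeSpectrum B) (p' : PrimeSpectrum A')
    (h : PrimeSpectrum.comap (algebraMap A A') p' = PrimeSpectrum.comap (algebraMap A B) q) :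
    ∃ q' : PrimeSpectrum (A' ⊗[A] B),
      PrimeSpectrum.comap (algebraMap B (A' ⊗[A] B)) q' = q ∧
      PrimeSpectrum.comap (algebraMap A' (A' ⊗[A] B)) q' = p' := by
  obtain ⟨z, hz1, hz⟩ := Groth.Agent.Lead.FD8.exists_prime_tensor A B A' q p' h
  exact ⟨z, hz, hz1⟩

end BC

section Gen

set_option maxHeartbeats 1600000 in
/-- generic openness: over a Noetherian domain, after inverting one nonzero element, the loci of
the rectified depth are open -/
theorem gen_open (A B : Type u) [CommRing A] [IsDomain A] [IsNoetherianRing A] [CommRing B]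
    [Algebra A B] [Algebra.FiniteType A B] (M : Type u) [AddCommGroup M] [Module B M]
    [Module.Finite B M] :
    ∃ f : A, f ≠ 0 ∧ ∀ n : ℕ, IsOpen {q : PrimeSpectrum (Localization.Away f ⊗[A] B) |
      (n : WithBot ℕ∞) ≤ rectB (Localization.Away f) (Localization.Away f ⊗[A] B)
        ((Localization.Away f ⊗[A] B) ⊗[B] M) q} := by
  letI : Module A M := Module.compHom M (algebraMap A B)
  haveI : IsScalarTower A B M := IsScalarTower.of_algebraMap_smul fun r m => rfl
  obtain ⟨f, hf, hfree, -, -, -⟩ := Groth.Agent.Helper8.GenFree.s0389 (R := A) (S := B) (M := M)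
  refine ⟨f, hf, fun n => ?_⟩
  haveI : IsNoetherianRing (Localization.Away f) :=
    IsLocalization.isNoetherianRing (Submonoid.powers f) _ inferInstance
  haveI : Algebra.FiniteType (Localization.Away f) (Localization.Away f ⊗[A] B) := inferInstance
  haveI : Algebra.FinitePresentation (Localization.Away f) (Localization.Away f ⊗[A] B) :=
    Algebra.FinitePresentation.of_finiteType.mp inferInstance
  haveI : IsNoetherianRing (Localization.Away f ⊗[A] B) :=
    Algebra.FiniteType.isNoetherianRing (Localization.Away f) _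
  haveI : Module.FinitePresentation (Localization.Away f ⊗[A] B)
      ((Localization.Away f ⊗[A] B) ⊗[B] M) := by
    haveI : IsNoetherianRing B := Algebra.FiniteType.isNoetherianRing A B
    haveI : Module.FinitePresentation B M := Module.finitePresentation_of_finite B M
    infer_instance
  haveI : Module.Flat (Localization.Away f) ((Localization.Away f ⊗[A] B) ⊗[B] M) := by
    haveI : Module.Flat (Localization.Away f) (Localization.Away f ⊗[A] M) := inferInstance
    exact Module.Flat.of_linearEquiv
      (Algebra.IsPushout.cancelBaseChange A (Localization.Away f) B (Localization.Away f ⊗[A] B) M)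
  exact isOpen_rect_ring (Localization.Away f) (Localization.Away f ⊗[A] B)
    ((Localization.Away f ⊗[A] B) ⊗[B] M) n

end Gen

section Key

variable (A B : Type u) [CommRing A] [CommRing B] [Algebra A B] [Algebra.FiniteType A B]
  (M : Type u) [AddCommGroup M] [Module B M] [Module.Finite B M]
  (A' : Type u) [CommRing A'] [Algebra A A']

set_option maxHeartbeats 3200000 in
/-- the generic decision on an irreducible closed subset, abstract form -/
theorem key_abstract (hsurj : Function.Surjective (algebraMap A A')) (f : A') (g : A)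
    (hg : algebraMap A A' g = f) (n : ℕ) (q₀ : PrimeSpectrum B)
    (hker : RingHom.ker (algebraMap A A') = (PrimeSpectrum.comap (algebraMap A B) q₀).asIdeal)
    (hf : f ≠ 0)
    (hopen : IsOpen {q : PrimeSpectrum (Localization.Away f ⊗[A'] (A' ⊗[A] B)) |
      (n : WithBot ℕ∞) ≤ rectB (Localization.Away f) (Localization.Away f ⊗[A'] (A' ⊗[A] B))
        ((Localization.Away f ⊗[A'] (A' ⊗[A] B)) ⊗[A' ⊗[A] B] ((A' ⊗[A] B) ⊗[B] M)) q}) :
    ∃ O : Set (PrimeSpectrum B), IsOpen O ∧ q₀ ∈ O ∧
      ((closure {q₀} ∩ O ⊆ {q | (n : WithBot ℕ∞) ≤ rectB A B M q}) ∨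
       (closure {q₀} ∩ O ⊆ {q | (n : WithBot ℕ∞) ≤ rectB A B M q}ᶜ)) := by
  -- the maps
  set ψ₁ : B →+* A' ⊗[A] B := algebraMap B (A' ⊗[A] B) with hψ₁
  set ψ₂ : A' ⊗[A] B →+* Localization.Away f ⊗[A'] (A' ⊗[A] B) :=
    algebraMap (A' ⊗[A] B) (Localization.Away f ⊗[A'] (A' ⊗[A] B)) with hψ₂
  set φ : PrimeSpectrum (Localization.Away f ⊗[A'] (A' ⊗[A] B)) → PrimeSpectrum B :=
    fun q'' => PrimeSpectrum.comap ψ₁ (PrimeSpectrum.comap ψ₂ q'') with hφ
  have hrect : ∀ q'', rectB (Localization.Away f) (Localization.Away f ⊗[A'] (A' ⊗[A] B))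
      ((Localization.Away f ⊗[A'] (A' ⊗[A] B)) ⊗[A' ⊗[A] B] ((A' ⊗[A] B) ⊗[B] M)) q'' =
        rectB A B M (φ q'') := by
    intro q''
    rw [rect_bc_tensor A' (A' ⊗[A] B) ((A' ⊗[A] B) ⊗[B] M) (Localization.Away f) q'']
    rw [rect_bc_tensor A B M A']
  have hind : IsInducing φ := by
    have h1 : IsInducing (PrimeSpectrum.comap ψ₁) := by
      apply PrimeSpectrum.comap_isInducing_of_surjective
      exact Algebra.TensorProduct.includeRight_surjective B hsurj
    have h2 : IsInducing (PrimeSpectrum.comap ψ₂) :=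
      PrimeSpectrum.localization_comap_isInducing _
        (Algebra.algebraMapSubmonoid (A' ⊗[A] B) (Submonoid.powers f))
    exact h1.comp h2
  have hlift : ∀ q ∈ closure ({q₀} : Set (PrimeSpectrum B)), algebraMap A B g ∉ q.asIdeal →
      ∃ q'', φ q'' = q := by
    intro q hq hgq
    have hle : q₀.asIdeal ≤ q.asIdeal := by
      have : q₀ ≤ q := (PrimeSpectrum.le_iff_specializes q₀ q).mpr
        (specializes_iff_mem_closure.mpr hq)
      exact this
    have hmem : PrimeSpectrum.comap (algebraMap A B) q ∈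
        Set.range (PrimeSpectrum.comap (algebraMap A A')) := by
      rw [_root_.range_comap_of_surjective _ _ hsurj, hker, PrimeSpectrum.mem_zeroLocus]
      intro a ha
      exact hle ha
    obtain ⟨p', hp'⟩ := hmem
    obtain ⟨q', hq'1, hq'2⟩ := exists_point_tensor A B A' q p' hp'
    have hfp' : f ∉ p'.asIdeal := by
      intro hfp
      apply hgq
      have : g ∈ (PrimeSpectrum.comap (algebraMap A A') p').asIdeal := by
        show algebraMap A A' g ∈ p'.asIdeal
        rw [hg]
        exact hfp
      rw [hp'] at this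
      exact this
    have hmem2 : p' ∈ Set.range (PrimeSpectrum.comap (algebraMap A' (Localization.Away f))) := by
      rw [PrimeSpectrum.localization_away_comap_range (Localization.Away f) f]
      exact hfp'
    obtain ⟨p'', hp''⟩ := hmem2
    obtain ⟨q'', hq''1, -⟩ := exists_point_tensor A' (A' ⊗[A] B)
      (Localization.Away f) q' p'' (by rw [hp'', hq'2])
    refine ⟨q'', ?_⟩
    show PrimeSpectrum.comap ψ₁ (PrimeSpectrum.comap ψ₂ q'') = q
    rw [hψ₂, hq''1, hψ₁, hq'1]
  have hgq₀ : algebraMap A B g ∉ q₀.asIdeal := by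
    intro hmem
    apply hf
    rw [← hg]
    have : g ∈ RingHom.ker (algebraMap A A') := by
      rw [hker]
      exact hmem
    exact this
  -- the open set
  have hE'' : IsOpen (φ ⁻¹' {q | (n : WithBot ℕ∞) ≤ rectB A B M q}) := by
    convert hopen using 1
    ext q''
    simp only [Set.mem_preimage, Set.mem_ofPred_eq]
    rw [hrect q'']
  obtain ⟨O₁, hO₁, hO₁E⟩ := hind.isOpen_iff.mp hE''
  have hkey : ∀ q ∈ closure ({q₀} : Set (PrimeSpectrum B)), algebraMap A B g ∉ q.asIdeal →
      (q ∈ O₁ ↔ (n : WithBot ℕ∞) ≤ rectB A B M q) := by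
    intro q hq hgq
    obtain ⟨q'', rfl⟩ := hlift q hq hgq
    have : q'' ∈ φ ⁻¹' O₁ ↔ q'' ∈ φ ⁻¹' {q | (n : WithBot ℕ∞) ≤ rectB A B M q} := by rw [hO₁E]
    exact this
  by_cases h0 : q₀ ∈ O₁
  · refine ⟨O₁ ∩ (PrimeSpectrum.basicOpen (algebraMap A B g) : Set (PrimeSpectrum B)),
      hO₁.inter (PrimeSpectrum.basicOpen _).isOpen, ⟨h0, hgq₀⟩, Or.inl ?_⟩
    rintro q ⟨hq, hqO, hqg⟩
    exact (hkey q hq hqg).mp hqO
  · refine ⟨(PrimeSpectrum.basicOpen (algebraMap A B g) : Set (PrimeSpectrum B)),
      (PrimeSpectrum.basicOpen _).isOpen, hgq₀, Or.inr ?_⟩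
    rintro q ⟨hq, hqg⟩ hqE
    apply h0
    have hqO : q ∈ O₁ := (hkey q hq hqg).mpr hqE
    have hsp : q₀ ⤳ q := specializes_iff_mem_closure.mpr hq
    exact hsp.mem_open hO₁ hqO

end Key

section Noeth

variable (A B : Type u) [CommRing A] [IsNoetherianRing A] [CommRing B] [Algebra A B]
  [Algebra.FiniteType A B] (M : Type u) [AddCommGroup M] [Module B M] [Module.Finite B M]

set_option maxHeartbeats 3200000 in
/-- the generic decision on an irreducible closed subset -/
theorem key_noeth (n : ℕ) (q₀ : PrimeSpectrum B) :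
    ∃ O : Set (PrimeSpectrum B), IsOpen O ∧ q₀ ∈ O ∧
      ((closure {q₀} ∩ O ⊆ {q | (n : WithBot ℕ∞) ≤ rectB A B M q}) ∨
       (closure {q₀} ∩ O ⊆ {q | (n : WithBot ℕ∞) ≤ rectB A B M q}ᶜ)) := by
  set p₀ := PrimeSpectrum.comap (algebraMap A B) q₀ with hp₀
  haveI := p₀.2
  obtain ⟨f, hf, hopen⟩ := gen_open (A ⧸ p₀.asIdeal) ((A ⧸ p₀.asIdeal) ⊗[A] B)
    (((A ⧸ p₀.asIdeal) ⊗[A] B) ⊗[B] M)
  obtain ⟨g, hg⟩ := Ideal.Quotient.mk_surjective f
  exact key_abstract A B M (A ⧸ p₀.asIdeal) Ideal.Quotient.mk_surjective f g hg n q₀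
    (Ideal.mk_ker) hf (hopen n)

/-- constructibility of the loci of the rectified depth, Noetherian base -/
theorem constr_ge_noeth (n : ℕ) :
    IsConstructible {q : PrimeSpectrum B | (n : WithBot ℕ∞) ≤ rectB A B M q} := by
  haveI : IsNoetherianRing B := Algebra.FiniteType.isNoetherianRing A B
  refine Groth.Agent.Helper5.ConsLc.isConstructible_of_noeth _ ?_
  intro Z hZc hZi
  obtain ⟨q₀, hq₀⟩ := QuasiSober.sober hZi hZc
  obtain ⟨O, hO, hq₀O, h⟩ := key_noeth A B M n q₀
  rw [hq₀.def] at h
  refine ⟨O, hO, ⟨q₀, hq₀.mem, hq₀O⟩, h⟩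

/-- the rectified depth is infinite exactly outside the support -/
theorem rectB_eq_top_iff (q : PrimeSpectrum B) :
    rectB A B M q = ((⊤ : ℕ∞) : WithBot ℕ∞) ↔ q ∉ Module.support B M := by
  haveI := q.2
  obtain ⟨c, hc⟩ := exists_cB_nat A B q
  rw [rectB_eq, hc]
  constructor
  · intro h hq
    haveI : IsNoetherianRing (EGA4.FibLocRing A B q.asIdeal) := noeth_fibLocRing_ft A B q.asIdeal
    haveI : Nontrivial ((EGA4.FibLocRing A B q.asIdeal) ⊗[B] M) :=
      (nontrivial_fibTensor_iff A B M q).mpr hq
    haveI : Module.Finite (EGA4.FibLocRing A B q.asIdeal)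
        ((EGA4.FibLocRing A B q.asIdeal) ⊗[B] M) :=
      Module.Finite.equiv (fibTensorEquiv A B q.asIdeal M).symm
    obtain ⟨a, d, -, hd, -⟩ := exists_dim_depth_mod (EGA4.FibLocRing A B q.asIdeal)
      ((EGA4.FibLocRing A B q.asIdeal) ⊗[B] M)
    have hd' : depthB A B M q = (d : ℕ∞) := hd
    rw [hd'] at h
    have h2 : (((d + c : ℕ) : ℕ∞) : WithBot ℕ∞) = ((⊤ : ℕ∞) : WithBot ℕ∞) := by
      rw [← h]; push_cast; rfl
    have h3 : ((d + c : ℕ) : ℕ∞) = ⊤ := by exact_mod_cast h2
    exact ENat.natCast_ne_top _ h3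
  · intro hq
    rw [depthB_eq_top_of_notMem A B M q hq, ← WithBot.coe_add, top_add]

/-- the rectified depth is never `⊥` -/
theorem rectB_ne_bot (q : PrimeSpectrum B) : rectB A B M q ≠ ⊥ := by
  rw [rectB_eq, ← WithBot.coe_add]
  exact WithBot.coe_ne_bot

/-- constructibility of the level sets of the rectified depth, Noetherian base -/
theorem constr_eq_noeth (t : WithBot ℕ∞) :
    IsConstructible {q : PrimeSpectrum B | rectB A B M q = t} := by
  haveI : IsNoetherianRing B := Algebra.FiniteType.isNoetherianRing A B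
  induction t using WithBot.recBotCoe with
  | bot =>
    have : {q : PrimeSpectrum B | rectB A B M q = ⊥} = ∅ := by
      ext q
      simp only [Set.mem_ofPred_eq, Set.mem_empty_iff_false, iff_false]
      exact rectB_ne_bot A B M q
    rw [this]
    exact IsConstructible.empty
  | coe t =>
    induction t using ENat.recTopCoe with
    | top =>
      have : {q : PrimeSpectrum B | rectB A B M q = ((⊤ : ℕ∞) : WithBot ℕ∞)} =
          (Module.support B M)ᶜ := by
        ext q
        simp only [Set.mem_ofPred_eq, Set.mem_compl_iff]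
        exact rectB_eq_top_iff A B M q
      rw [this]
      exact Groth.Agent.Helper5.ConsLc.isConstructible_of_isOpen_noeth
        (Module.isClosed_support (R := B) (M := M)).isOpen_compl
    | coe n =>
      have : {q : PrimeSpectrum B | rectB A B M q = ((n : ℕ∞) : WithBot ℕ∞)} =
          {q | (n : WithBot ℕ∞) ≤ rectB A B M q} \
            {q | ((n + 1 : ℕ) : WithBot ℕ∞) ≤ rectB A B M q} := by
        ext q
        simp only [Set.mem_ofPred_eq, Set.mem_sdiff, not_le]
        have h1 : rectB A B M q < ((n + 1 : ℕ) : WithBot ℕ∞) ↔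
            rectB A B M q ≤ (n : WithBot ℕ∞) := by
          rw [← ENat.WithBot.lt_add_one_iff]
          push_cast
          rfl
        rw [h1]
        constructor
        · intro h
          rw [h]
          exact ⟨le_rfl, le_rfl⟩
        · rintro ⟨h2, h3⟩
          exact le_antisymm h3 h2
      rw [this]
      exact (constr_ge_noeth A B M n).sdiff (constr_ge_noeth A B M (n + 1))

end Noeth

section FP

variable (A B : Type u) [CommRing A] [CommRing B] [Algebra A B] [Algebra.FinitePresentation A B]
  (M : Type u) [AddCommGroup M] [Module B M] [Module.FinitePresentation B M]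

set_option maxHeartbeats 1600000 in
/-- **constructibility of the level sets of the rectified depth**, finitely presented case -/
theorem constr_eq (t : WithBot ℕ∞) :
    IsConstructible {q : PrimeSpectrum B | rectB A B M q = t} := by
  letI : Module A M := Module.compHom M (algebraMap A B)
  haveI : IsScalarTower A B M := IsScalarTower.of_algebraMap_smul fun r m => rfl
  obtain ⟨C₀, D₀, _, _, _, α, β, M₀, _, _, _, _, hpo, hft, hφft, hfin, ⟨eN⟩, -⟩ :=
    Groth.Agent.Lead.FD21.exists_noeth_model_module (A := A) (B := B) M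
  haveI := hφft
  haveI := hfin
  haveI : IsNoetherianRing C₀ := Algebra.FiniteType.isNoetherianRing ℤ C₀
  letI algCA : Algebra C₀ A := α.toAlgebra
  letI algDB : Algebra D₀ B := β.toAlgebra
  letI algCB : Algebra C₀ B := ((algebraMap A B).comp α).toAlgebra
  haveI : IsScalarTower C₀ A B := IsScalarTower.of_algebraMap_eq (fun _ => rfl)
  haveI : IsScalarTower C₀ D₀ B := by
    refine IsScalarTower.of_algebraMap_eq (fun c => ?_)
    have := congrArg (fun φ => φ.hom c) hpo.w
    exact this.symm
  haveI : Algebra.IsPushout C₀ D₀ A B := CommRingCat.isPushout_iff_isPushout.mp hpo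
  have h0 := constr_eq_noeth C₀ D₀ M₀ t
  have hEq : {q : PrimeSpectrum B | rectB A B M q = t} =
      (Spec.map (CommRingCat.ofHom (algebraMap D₀ B))) ⁻¹'
        {q : PrimeSpectrum D₀ | rectB C₀ D₀ M₀ q = t} := by
    ext q
    simp only [Set.mem_ofPred_eq]
    rw [rectB_congr A B M (B ⊗[D₀] M₀) eN q, rect_bc C₀ D₀ A B M₀ q]
    rfl
  rw [hEq]
  exact (Spec.map (CommRingCat.ofHom (algebraMap D₀ B))).isConstructible_preimage h0

end FP

end Groth.Agent.Helper5.FibMod
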