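import Mathlib
import Groth.Prelude
import Groth.Agent.Helper5.FibDpA
import Groth.Agent.Helper5.FibMod2H
import Groth.Agent.Helper5.SecUO7
import Groth.Agent.Helper4.NApx60

/-!
# FibDpB: constructibility of the loci of low fibrewise depth along a closed subset (ring level)
-/

set_option autoImplicit false
set_option linter.unusedSectionVars false
set_option linter.unusedVariables false
set_option linter.style.haveILetI false
universe u
open CategoryTheory CategoryTheory.Limits AlgebraicGeometry TopologicalSpace Topology TensorProduct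
open IsLocalRing

namespace Groth.Agent.Helper5.FibDp

open Groth.Agent.Helper1 Groth.Agent.Helper2 Groth.Agent.Helper5.FibPd Groth.Agent.Helper5.FibMod

section Chev

variable (A B : Type u) [CommRing A] [CommRing B] [Algebra A B]

theorem chevSet_congr (I I' : Ideal B)
    (h : PrimeSpectrum.zeroLocus (I : Set B) = PrimeSpectrum.zeroLocus (I' : Set B)) (m : ℕ) :
    chevSet A B I m = chevSet A B I' m := by
  ext q
  rw [mem_chevSet_iff', mem_chevSet_iff']
  refine exists_congr fun q' => and_congr_right fun hle => and_congr_right fun hc => ?_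
  refine and_congr_left fun hm => ?_
  have h1 : ∀ J : Ideal B, (J ≤ q'.asIdeal) ↔ q' ∈ PrimeSpectrum.zeroLocus (J : Set B) := by
    intro J
    rw [PrimeSpectrum.mem_zeroLocus]
    exact Iff.rfl
  rw [h1 I, h1 I', h]

variable [Algebra.FinitePresentation A B]

set_option maxHeartbeats 1600000 in
theorem isConstructible_chevSet_of_fg (I : Ideal B) (hI : I.FG) (m : ℕ) :
    IsConstructible (chevSet A B I m) := by
  haveI : Algebra.FiniteType A B := inferInstance
  haveI : Algebra.FinitePresentation A (B ⧸ I) := Algebra.FinitePresentation.quotient hI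
  rw [chevSet_eq]
  set g := Spec.map (CommRingCat.ofHom (algebraMap A (B ⧸ I))) with hg
  haveI : LocallyOfFinitePresentation g := by
    rw [hg, HasRingHomProperty.Spec_iff (P := @LocallyOfFinitePresentation)]
    exact RingHom.finitePresentation_algebraMap.2 inferInstance
  have h1 := Groth.Agent.Helper5.SecUO.isLocallyConstructible_le_fibreDimAt g m
  have h2 : IsConstructible {x : PrimeSpectrum (B ⧸ I) | (m : WithBot ℕ∞) ≤
      FlatMor.fibreDimAt g x} := by
    haveI : QuasiSeparatedSpace (PrimeSpectrum (B ⧸ I)) :=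
      inferInstanceAs (QuasiSeparatedSpace ↥(Spec (CommRingCat.of (B ⧸ I))))
    haveI : PrespectralSpace (PrimeSpectrum (B ⧸ I)) :=
      inferInstanceAs (PrespectralSpace ↥(Spec (CommRingCat.of (B ⧸ I))))
    exact IsLocallyConstructible.isConstructible h1
  refine PrimeSpectrum.isConstructible_comap_image ?_ h2
  refine RingHom.FinitePresentation.of_surjective _ Ideal.Quotient.mk_surjective ?_
  rw [Ideal.mk_ker]
  exact hI

theorem exists_fg_zeroLocus (T : Set (PrimeSpectrum B)) (hc : IsClosed T)
    (hT : IsConstructible T) :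
    ∃ I : Ideal B, I.FG ∧ PrimeSpectrum.zeroLocus (I : Set B) = T := by
  have h1 : IsCompact Tᶜ := Groth.Agent.Helper4.NApx60.isCompact_of_isConstructible hT.compl
  obtain ⟨I, hI, hIe⟩ := PrimeSpectrum.isCompact_isOpen_iff_ideal.mp ⟨h1, hc.isOpen_compl⟩
  exact ⟨I, hI, compl_injective hIe⟩

theorem isConstructible_chevSet_vanishing (T : Set (PrimeSpectrum B)) (hc : IsClosed T)
    (hT : IsConstructible T) (m : ℕ) :
    IsConstructible (chevSet A B (PrimeSpectrum.vanishingIdeal T) m) := by
  obtain ⟨I, hI, hIe⟩ := exists_fg_zeroLocus B T hc hT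
  rw [chevSet_congr A B (PrimeSpectrum.vanishingIdeal T) I ?_ m]
  · exact isConstructible_chevSet_of_fg A B I hI m
  · rw [PrimeSpectrum.zeroLocus_vanishingIdeal_eq_closure, hc.closure_eq, hIe]

end Chev

section Ring

variable (A B : Type u) [CommRing A] [CommRing B] [Algebra A B]
  [Algebra.FinitePresentation A B] (M : Type u) [AddCommGroup M] [Module B M] [Module A M]
  [IsScalarTower A B M] [Module.FinitePresentation B M] [Module.Flat A M]

theorem isConstructible_wSet (m : ℕ) : IsConstructible (wSet A B M m) := by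
  have hEq : wSet A B M m = ⋃ t ∈ Finset.range (m + 1),
      {q : PrimeSpectrum B | rectB A B M q = ((t : ℕ) : WithBot ℕ∞)} := by
    ext q
    simp only [wSet, Set.mem_ofPred_eq, Set.mem_iUnion, Finset.mem_range, exists_prop]
    constructor
    · intro h
      rw [rectB_eq] at h ⊢
      have h' : depthB A B M q + cB A B q ≤ (m : ℕ∞) := by exact_mod_cast h
      obtain ⟨t, ht⟩ := ENat.ne_top_iff_exists.mp
        (ne_top_of_le_ne_top (ENat.natCast_ne_top m) h')
      rw [← ht] at h'
      have htm : t ≤ m := by exact_mod_cast h'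
      refine ⟨t, by omega, ?_⟩
      have : ((depthB A B M q + cB A B q : ℕ∞) : WithBot ℕ∞) = ((t : ℕ∞) : WithBot ℕ∞) := by
        rw [← ht]
      exact_mod_cast this
    · rintro ⟨t, ht, h⟩
      rw [h]
      have : t ≤ m := by omega
      exact_mod_cast this
  rw [hEq]
  refine IsConstructible.biUnion (Finset.finite_toSet _) fun t _ => ?_
  exact constr_eq A B M _

theorem isConstructible_depSet (Yc : Set (PrimeSpectrum B)) (hYc : IsClosed Yc)
    (hYcc : IsConstructible Yc) (k m : ℕ) : IsConstructible (depSet A B M Yc k m) := by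
  unfold depSet
  exact isConstructible_chevSet_vanishing A B _ ((isClosed_wSet A B M (k + m)).inter hYc)
    ((isConstructible_wSet A B M (k + m)).inter hYcc) m

set_option maxHeartbeats 1600000 in
theorem lowSet_eq (Yc : Set (PrimeSpectrum B)) (hYc : IsClosed Yc) (k : ℕ) :
    ∃ N : ℕ, lowSet A B M Yc k = ⋃ m ∈ Finset.range (N + 1), depSet A B M Yc k m := by
  haveI : Algebra.FiniteType A B := inferInstance
  obtain ⟨N, φ, hφ⟩ := (Algebra.FiniteType.iff_quotient_mvPolynomial'' (R := A) (S := B)).mp
    inferInstance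
  letI : Algebra (MvPolynomial (Fin N) A) B := φ.toRingHom.toAlgebra
  haveI : IsScalarTower A (MvPolynomial (Fin N) A) B :=
    IsScalarTower.of_algebraMap_eq (fun a => (φ.commutes a).symm)
  have hs : Function.Surjective (algebraMap (MvPolynomial (Fin N) A) B) := hφ
  refine ⟨N, ?_⟩
  ext q
  simp only [lowSet, Set.mem_ofPred_eq, Set.mem_iUnion, Finset.mem_range, exists_prop]
  constructor
  · rintro ⟨q', hle, hc, hy, hd⟩
    have hb := cB_le A B N hs q'
    obtain ⟨m, hm⟩ := ENat.ne_top_iff_exists.mp
      (ne_top_of_le_ne_top (ENat.natCast_ne_top N) hb)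
    rw [← hm] at hb
    have hmN : m ≤ N := by exact_mod_cast hb
    refine ⟨m, by omega, ?_⟩
    rw [mem_depSet_iff A B M Yc hYc]
    refine ⟨q', hle, hc, hy, ?_, hm.le⟩
    rw [rectB_eq, ← hm]
    have : depthB A B M q' + (m : ℕ∞) ≤ ((k + m : ℕ) : ℕ∞) := by
      push_cast
      exact add_le_add_left hd _
    exact_mod_cast this
  · rintro ⟨m, hm, hmem⟩
    rw [mem_depSet_iff A B M Yc hYc] at hmem
    obtain ⟨q', hle, hc, hy, hr, hcm⟩ := hmem
    refine ⟨q', hle, hc, hy, ?_⟩
    rw [rectB_eq] at hr
    have hr' : depthB A B M q' + cB A B q' ≤ ((k + m : ℕ) : ℕ∞) := by exact_mod_cast hr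
    have hb := cB_le A B N hs q'
    obtain ⟨c, hc'⟩ := ENat.ne_top_iff_exists.mp
      (ne_top_of_le_ne_top (ENat.natCast_ne_top N) hb)
    rw [← hc'] at hr' hcm
    have hd : depthB A B M q' ≠ ⊤ := by
      intro htop
      rw [htop, top_add] at hr'
      exact absurd hr' (by simp)
    obtain ⟨d, hd'⟩ := ENat.ne_top_iff_exists.mp hd
    rw [← hd'] at hr' ⊢
    have h1 : d + c ≤ k + m := by exact_mod_cast hr'
    have h2 : m ≤ c := by exact_mod_cast hcm
    have : d ≤ k := by omega
    exact_mod_cast this

theorem isConstructible_lowSet (Yc : Set (PrimeSpectrum B)) (hYc : IsClosed Yc)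
    (hYcc : IsConstructible Yc) (k : ℕ) : IsConstructible (lowSet A B M Yc k) := by
  obtain ⟨N, hN⟩ := lowSet_eq A B M Yc hYc k
  rw [hN]
  exact IsConstructible.biUnion (Finset.finite_toSet _) fun m _ =>
    isConstructible_depSet A B M Yc hYc hYcc k m

end Ring

end Groth.Agent.Helper5.FibDp
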