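import Mathlib
import Groth.Prelude
import Groth.Agent.Helper5.FibDpB
import Groth.Agent.Helper5.FibBound
import Groth.Agent.Helper5.FibModU

/-!
# FibDpC: a bound for the finite values of the fibrewise depth (ring level)
-/

set_option autoImplicit false
set_option linter.unusedSectionVars false
set_option linter.unusedVariables false
set_option linter.style.haveILetI false
universe u
open CategoryTheory CategoryTheory.Limits AlgebraicGeometry TopologicalSpace Topology TensorProduct
open IsLocalRing

namespace Groth.Agent.Helper5.FibDp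

open Groth.Agent.Helper1 Groth.Agent.Helper2 Groth.Agent.Helper5.FibPd Groth.Agent.Helper5.FibMod

attribute [local instance] Algebra.TensorProduct.rightAlgebra

section Bound

variable (A B : Type u) [CommRing A] [CommRing B] [Algebra A B] [Algebra.FiniteType A B]
  (M : Type u) [AddCommGroup M] [Module B M] [Module.Finite B M]

theorem exists_fibreDimAt_bound : ∃ N₁ : ℕ, ∀ q : PrimeSpectrum B,
    FlatMor.fibreDimAt (Spec.map (CommRingCat.ofHom (algebraMap A B))) q ≤
      (N₁ : WithBot ℕ∞) := by
  set g := Spec.map (CommRingCat.ofHom (algebraMap A B)) with hg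
  haveI : LocallyOfFiniteType g := by
    rw [hg, HasRingHomProperty.Spec_iff (P := @LocallyOfFiniteType)]
    exact RingHom.finiteType_algebraMap.2 inferInstance
  let U : ℕ → Set (PrimeSpectrum B) :=
    fun m => {x : PrimeSpectrum B | FlatMor.fibreDimAt g x ≤ (m : WithBot ℕ∞)}
  have hUo : ∀ m, IsOpen (U m) := fun m => Groth.Agent.Helper5.FibDim.isOpen_fibreDimAt_le g _
  have hUcov : (Set.univ : Set (PrimeSpectrum B)) ⊆ ⋃ m, U m := by
    intro x _
    obtain ⟨m, hm⟩ := Groth.Agent.Helper5.SubDim.fibreDimAt_nat g x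
    exact Set.mem_iUnion.2 ⟨m, le_of_eq hm⟩
  have hdir : Directed (· ⊆ ·) U := by
    intro a b
    refine ⟨max a b, ?_, ?_⟩
    · intro x hx
      have hx' : FlatMor.fibreDimAt g x ≤ (a : WithBot ℕ∞) := hx
      have h2 : (a : WithBot ℕ∞) ≤ ((max a b : ℕ) : WithBot ℕ∞) := by
        exact_mod_cast le_max_left a b
      exact le_trans hx' h2
    · intro x hx
      have hx' : FlatMor.fibreDimAt g x ≤ (b : WithBot ℕ∞) := hx
      have h2 : (b : WithBot ℕ∞) ≤ ((max a b : ℕ) : WithBot ℕ∞) := by
        exact_mod_cast le_max_right a b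
      exact le_trans hx' h2
  obtain ⟨N, hN⟩ := isCompact_univ.elim_directed_cover U hUo hUcov hdir
  exact ⟨N, fun q => hN (Set.mem_univ q)⟩

set_option maxHeartbeats 1600000 in
theorem depthB_eq_top_or_le (q : PrimeSpectrum B) :
    depthB A B M q = ⊤ ∨ ((depthB A B M q : ℕ∞) : WithBot ℕ∞) ≤
      FlatMor.fibreDimAt (Spec.map (CommRingCat.ofHom (algebraMap A B))) q := by
  by_cases hq : q ∈ Module.support B M
  · right
    obtain ⟨p, Qb, hQ⟩ := exists_fibre_prime' A B q
    obtain rfl : fibPt A B p Qb = q := PrimeSpectrum.ext hQ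
    have hmem := (mem_fibre_support_iff' A B M p Qb).mpr hq
    obtain ⟨hN, hF, hsd⟩ := supportDim_fibTensor A B M p Qb hmem
    haveI := hN
    haveI := hF
    haveI : Nontrivial ((EGA4.FibLocRing A B (fibPt A B p Qb).asIdeal) ⊗[B] M) :=
      (nontrivial_fibTensor_iff A B M (fibPt A B p Qb)).mpr hq
    have h1 := Groth.Agent.Helper2.DepthCM4.depth_le_supportDim
      (A := EGA4.FibLocRing A B (fibPt A B p Qb).asIdeal)
      ((EGA4.FibLocRing A B (fibPt A B p Qb).asIdeal) ⊗[B] M)
    have h2 := Module.supportDim_le_ringKrullDim (EGA4.FibLocRing A B (fibPt A B p Qb).asIdeal)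
      ((EGA4.FibLocRing A B (fibPt A B p Qb).asIdeal) ⊗[B] M)
    rw [fibreDimAt_eq_dim_add A B (fibPt A B p Qb)]
    refine (h1.trans h2).trans ?_
    refine le_add_of_nonneg_right ?_
    exact_mod_cast bot_le (a := cB A B (fibPt A B p Qb))
  · left
    have hns : ¬ Nontrivial ((EGA4.FibLocRing A B q.asIdeal) ⊗[B] M) :=
      fun h => hq ((nontrivial_fibTensor_iff A B M q).mp h)
    rw [not_nontrivial_iff_subsingleton] at hns
    haveI := hns
    unfold depthB LocCoh.depth LocCoh.idealDepth
    rw [if_pos (Subsingleton.elim _ _)]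

theorem exists_depthB_bound : ∃ N₁ : ℕ, ∀ q : PrimeSpectrum B,
    depthB A B M q = ⊤ ∨ depthB A B M q ≤ (N₁ : ℕ∞) := by
  obtain ⟨N₁, hN₁⟩ := exists_fibreDimAt_bound A B
  refine ⟨N₁, fun q => ?_⟩
  rcases depthB_eq_top_or_le A B M q with h | h
  · exact Or.inl h
  · right
    have := h.trans (hN₁ q)
    exact_mod_cast this

end Bound

end Groth.Agent.Helper5.FibDp
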