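import Mathlib
import Groth.Prelude
import Groth.Agent.Helper5.FibDpC

/-!
# FibDpD: local constructibility of the fibrewise depth along a closed subset (S5986, S19986)
-/

set_option autoImplicit false
set_option linter.unusedSectionVars false
set_option linter.unusedVariables false
set_option linter.style.haveILetI false
universe u
open CategoryTheory CategoryTheory.Limits AlgebraicGeometry TopologicalSpace Topology TensorProduct
open IsLocalRing

namespace Groth.Agent.Helper5.FibDp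

open Groth.Agent.Helper1 Groth.Agent.Helper2 Groth.Agent.Helper5.FibPd Groth.Agent.Helper5.FibMod

section Retro

/-- on a scheme, locally constructible sets are retrocompact -/
theorem isRetrocompact_of_isLocallyConstructible {X : Scheme.{u}} (s : Set X)
    (hs : IsLocallyConstructible s) : IsRetrocompact s := by
  intro K hKc hKo
  have hloc : ∀ x ∈ K, ∃ U : X.Opens, IsAffineOpen U ∧ x ∈ U ∧ (U : Set X) ⊆ K := by
    intro x hx
    obtain ⟨_, ⟨U, hU, rfl⟩, hxU, hUK⟩ :=
      X.isBasis_affineOpens.exists_subset_of_mem_open hx hKo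
    exact ⟨U, hU, hxU, hUK⟩
  choose! U hU hxU hUK using hloc
  obtain ⟨σ, hσ⟩ := hKc.elim_nhds_subcover' (fun x hx => (U x : Set X))
    (fun x hx => (U x).isOpen.mem_nhds (hxU x hx))
  have hEq : s ∩ K = ⋃ x ∈ σ, s ∩ (U x.1 : Set X) := by
    ext y
    simp only [Set.mem_inter_iff, Set.mem_iUnion, exists_prop]
    constructor
    · rintro ⟨hys, hyK⟩
      have := hσ hyK
      simp only [Set.mem_iUnion, exists_prop] at this
      obtain ⟨x, hx, hy⟩ := this
      exact ⟨x, hx, hys, hy⟩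
    · rintro ⟨x, hx, hys, hy⟩
      exact ⟨hys, hUK x.1 x.2 hy⟩
  rw [hEq]
  refine σ.isCompact_biUnion fun x _ => ?_
  have hUx := hU x.1 x.2
  haveI : CompactSpace ↥(U x.1) := isCompact_iff_compactSpace.1 hUx.isCompact
  haveI : IsAffine ((U x.1 : X.Opens) : Scheme.{u}) := hUx
  haveI : QuasiSeparatedSpace ↥(U x.1) :=
    inferInstanceAs (QuasiSeparatedSpace ↥((U x.1 : X.Opens) : Scheme.{u}))
  haveI : PrespectralSpace ↥(U x.1) :=
    inferInstanceAs (PrespectralSpace ↥((U x.1 : X.Opens) : Scheme.{u}))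
  have h1 : IsConstructible ((Subtype.val : ↥(U x.1) → X) ⁻¹' s) :=
    (hs.preimage_of_isOpenEmbedding (U x.1).isOpenEmbedding').isConstructible
  have h2 := Groth.Agent.Helper4.NApx60.isCompact_of_isConstructible h1
  have h3 := h2.image continuous_subtype_val
  have h4 : (Subtype.val : ↥(U x.1) → X) '' ((Subtype.val : ↥(U x.1) → X) ⁻¹' s) =
      s ∩ (U x.1 : Set X) := by
    ext y
    constructor
    · rintro ⟨z, hz, rfl⟩
      exact ⟨hz, z.2⟩
    · rintro ⟨hys, hyU⟩
      exact ⟨⟨y, hyU⟩, hys, rfl⟩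
  rw [← h4]
  exact h3

end Retro

section LC

variable {X Y : Scheme.{u}} (f : X ⟶ Y) (F : X.Modules)

set_option maxHeartbeats 1600000 in
theorem isLocallyConstructible_badSet [LocallyOfFinitePresentation f] (hF : CohB1.IsFP F)
    (hflat : FlatMod.IsFlatOver f F) (Z : Set X) (hZ : IsClosed Z)
    (hZc : IsLocallyConstructible Z) (k : ℕ) :
    IsLocallyConstructible (badSet f F Z k) := by
  haveI : SheafOfModules.IsFinitePresentation (R := X.ringCatSheaf) F := hF
  haveI : F.IsQuasicoherent := inferInstance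
  intro x
  obtain ⟨Vo, hVo, Uo, hUo, e, hxU, -⟩ := exists_chart f x Set.univ isOpen_univ (Set.mem_univ x)
  letI algAB : Algebra Γ(Y, Vo) Γ(X, Uo) := (f.appLE Vo Uo e).hom.toAlgebra
  haveI : Algebra.FinitePresentation Γ(Y, Vo) Γ(X, Uo) :=
    RingHom.finitePresentation_algebraMap.1 <|
      HasRingHomProperty.appLE (P := @LocallyOfFinitePresentation) f inferInstance ⟨Vo, hVo⟩
        ⟨Uo, hUo⟩ e
  haveI : Module.FinitePresentation Γ(X, Uo) Γ(F, Uo) :=
    Groth.Agent.Helper4.FPGlue.fp_sections F hF hUo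
  letI modAF : Module Γ(Y, Vo) Γ(F, Uo) := Module.compHom _ (f.appLE Vo Uo e).hom
  haveI : IsScalarTower Γ(Y, Vo) Γ(X, Uo) Γ(F, Uo) :=
    IsScalarTower.of_algebraMap_smul fun r m => rfl
  haveI : Module.Flat Γ(Y, Vo) Γ(F, Uo) :=
    (Groth.Agent.Helper5.AffFlat.flat_sections_iff f F hVo hUo e).mp (fun x hx => hflat x)
  have hZcl : IsClosed ((hUo.fromSpec : ↥(Spec Γ(X, Uo)) → X) ⁻¹' Z) :=
    hZ.preimage hUo.fromSpec.continuous
  have hZcc : IsConstructible ((hUo.fromSpec : ↥(Spec Γ(X, Uo)) → X) ⁻¹' Z) :=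
    (hZc.preimage_of_isOpenEmbedding hUo.fromSpec.isOpenEmbedding).isConstructible
  have hT := isConstructible_lowSet Γ(Y, Vo) Γ(X, Uo) Γ(F, Uo) _ hZcl hZcc k
  refine ⟨(Uo : Set X), Uo.isOpen.mem_nhds hxU, Uo.isOpen, ?_⟩
  have hEq : ((Subtype.val : ↥(Uo : Set X) → X) ⁻¹' (badSet f F Z k)) =
      (fun y : Uo => hUo.primeIdealOf y) ⁻¹'
        (lowSet Γ(Y, Vo) Γ(X, Uo) Γ(F, Uo) ((hUo.fromSpec : ↥(Spec Γ(X, Uo)) → X) ⁻¹' Z) k) := by
    ext y
    simp only [Set.mem_preimage]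
    rw [chart_bad f F hUo hVo e hF Z k y.1 y.2]
    rfl
  rw [hEq]
  have hfun : (fun y : Uo => hUo.primeIdealOf y) = hUo.isoSpec.hom := rfl
  rw [hfun]
  exact hT.preimage_of_isOpenEmbedding hUo.isoSpec.hom.isOpenEmbedding

end LC

section Main

variable {X S : Scheme.{u}} (f : X ⟶ S) (F : X.Modules)

theorem levelSet_eq (Y : Set X) (n : ℕ) :
    {y : X | y ∈ Y ∧ (n : ℕ∞) ≤ CInt.fiberDepthAlong f F Y y} =
      match n with
      | 0 => Y
      | k + 1 => Y ∩ (badSet f F Y k)ᶜ := by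
  rcases n with _ | k
  · ext y
    simp
  · ext y
    simp only [Set.mem_ofPred_eq, Set.mem_inter_iff, Set.mem_compl_iff]
    rw [le_fiberDepthAlong_iff]

theorem s5986 [LocallyOfFinitePresentation f] (Y : Closeds ↥X)
    (hY : IsLocallyConstructible (Y : Set ↥X)) (hfp : CohB1.IsFP F)
    (hfl : FlatMod.IsFlatOver f F) (n : ℕ) :
    IsRetrocompact {y : ↥X | y ∈ Y ∧ (n : ℕ∞) ≤ CInt.fiberDepthAlong f F (Y : Set ↥X) y} := by
  apply isRetrocompact_of_isLocallyConstructible
  have h := levelSet_eq f F (Y : Set ↥X) n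
  rcases n with _ | k
  · simp only at h
    have h' : {y : ↥X | y ∈ Y ∧ ((0 : ℕ) : ℕ∞) ≤ CInt.fiberDepthAlong f F (Y : Set ↥X) y} =
        (Y : Set ↥X) := h
    rw [h']
    exact hY
  · have h' : {y : ↥X | y ∈ Y ∧ ((k + 1 : ℕ) : ℕ∞) ≤ CInt.fiberDepthAlong f F (Y : Set ↥X) y} =
        (Y : Set ↥X) ∩ (badSet f F (Y : Set ↥X) k)ᶜ := h
    rw [h']
    exact hY.inter (Groth.Agent.Helper5.KLem.isLocallyConstructible_compl
      (isLocallyConstructible_badSet f F hfp hfl _ Y.isClosed hY k))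

end Main

end Groth.Agent.Helper5.FibDp
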