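import Mathlib
import Groth.Prelude
import Groth.Agent.Helper5.FibDpD

/-!
# FibDpE: the fibrewise depth along a closed subset is a locally constructible function (S19986)
-/

set_option autoImplicit false
set_option linter.unusedSectionVars false
set_option linter.unusedVariables false
set_option linter.style.haveILetI false
universe u
open CategoryTheory CategoryTheory.Limits AlgebraicGeometry TopologicalSpace Topology TensorProduct
open IsLocalRing

namespace Groth.Agent.Helper5.FibDp

open Groth.Agent.Helper1 Groth.Agent.Helper2 Groth.Agent.Helper5.FibPd Groth.Agent.Helper5.FibMod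

section Top

variable {X : Scheme.{u}}

/-- the trace on `Y` of an open subset of `X` -/
def subOpen (Y : Set X) (Uo : X.Opens) : Opens ↥Y :=
  ⟨Subtype.val ⁻¹' (Uo : Set X), Uo.isOpen.preimage continuous_subtype_val⟩

/-- the inclusion of `Y ∩ Uo` into `Uo` -/
def subIncl (Y : Set X) (Uo : X.Opens) : ↥(subOpen Y Uo) → ↥Uo := fun v => ⟨v.1.1, v.2⟩

theorem isClosedEmbedding_subIncl (Y : Set X) (hY : IsClosed Y) (Uo : X.Opens) :
    IsClosedEmbedding (subIncl Y Uo) := by
  have hcont : Continuous (subIncl Y Uo) :=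
    Continuous.subtype_mk (continuous_subtype_val.comp continuous_subtype_val) _
  have hemb : IsEmbedding (subIncl Y Uo) := by
    refine IsEmbedding.of_comp hcont continuous_subtype_val ?_
    have : (Subtype.val : ↥Uo → X) ∘ subIncl Y Uo =
        (Subtype.val : ↥Y → X) ∘ (Subtype.val : ↥(subOpen Y Uo) → ↥Y) := rfl
    rw [this]
    exact IsEmbedding.subtypeVal.comp IsEmbedding.subtypeVal
  have hrange : Set.range (subIncl Y Uo) = (Subtype.val : ↥Uo → X) ⁻¹' Y := by
    ext u
    constructor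
    · rintro ⟨v, rfl⟩
      exact v.1.2
    · intro hu
      exact ⟨⟨⟨u.1, hu⟩, u.2⟩, rfl⟩
  refine ⟨hemb, ?_⟩
  rw [hrange]
  exact hY.preimage continuous_subtype_val

theorem range_subIncl (Y : Set X) (Uo : X.Opens) :
    Set.range (subIncl Y Uo) = (Subtype.val : ↥Uo → X) ⁻¹' Y := by
  ext u
  constructor
  · rintro ⟨v, rfl⟩
    exact v.1.2
  · intro hu
    exact ⟨⟨⟨u.1, hu⟩, u.2⟩, rfl⟩

theorem isConstructible_sub (Y : Set X) (hYcl : IsClosed Y) (hY : IsLocallyConstructible Y)
    (Uo : X.Opens) (hUo : IsAffineOpen Uo) (s : Set X) (hs : IsLocallyConstructible s) :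
    IsConstructible {v : ↥(subOpen Y Uo) | v.1.1 ∈ s} := by
  haveI : CompactSpace ↥Uo := isCompact_iff_compactSpace.1 hUo.isCompact
  haveI : IsAffine ((Uo : X.Opens) : Scheme.{u}) := hUo
  haveI : QuasiSeparatedSpace ↥Uo :=
    inferInstanceAs (QuasiSeparatedSpace ↥((Uo : X.Opens) : Scheme.{u}))
  haveI : PrespectralSpace ↥Uo :=
    inferInstanceAs (PrespectralSpace ↥((Uo : X.Opens) : Scheme.{u}))
  have h1 : IsConstructible ((Subtype.val : ↥Uo → X) ⁻¹' s) :=
    (hs.preimage_of_isOpenEmbedding Uo.isOpenEmbedding').isConstructible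
  have h2 : IsConstructible ((Subtype.val : ↥Uo → X) ⁻¹' Y) :=
    (hY.preimage_of_isOpenEmbedding Uo.isOpenEmbedding').isConstructible
  have h3 : IsCompact (Set.range (subIncl Y Uo))ᶜ := by
    rw [range_subIncl]
    exact Groth.Agent.Helper4.NApx60.isCompact_of_isConstructible h2.compl
  have h4 := IsConstructible.preimage_of_isClosedEmbedding
    (isClosedEmbedding_subIncl Y hYcl Uo) h3 h1
  exact h4

end Top

section Main

variable {X S : Scheme.{u}} (f : X ⟶ S) (F : X.Modules)

set_option maxHeartbeats 1600000 in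
/-- on an affine chart, the finite values of the fibrewise depth are bounded -/
theorem exists_depthAt_bound [LocallyOfFinitePresentation f] (hF : CohB1.IsFP F)
    {Uo : X.Opens} (hUo : IsAffineOpen Uo) {Vo : S.Opens} (hVo : IsAffineOpen Vo)
    (e : Uo ≤ f ⁻¹ᵁ Vo) :
    ∃ N₁ : ℕ, ∀ z : X, z ∈ Uo → depthAt f F z = ⊤ ∨ depthAt f F z ≤ (N₁ : ℕ∞) := by
  haveI : SheafOfModules.IsFinitePresentation (R := X.ringCatSheaf) F := hF
  haveI : F.IsQuasicoherent := inferInstance
  letI algAB : Algebra Γ(S, Vo) Γ(X, Uo) := (f.appLE Vo Uo e).hom.toAlgebra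
  haveI : Algebra.FinitePresentation Γ(S, Vo) Γ(X, Uo) :=
    RingHom.finitePresentation_algebraMap.1 <|
      HasRingHomProperty.appLE (P := @LocallyOfFinitePresentation) f inferInstance ⟨Vo, hVo⟩
        ⟨Uo, hUo⟩ e
  haveI : Algebra.FiniteType Γ(S, Vo) Γ(X, Uo) := inferInstance
  haveI : Module.FinitePresentation Γ(X, Uo) Γ(F, Uo) :=
    Groth.Agent.Helper4.FPGlue.fp_sections F hF hUo
  haveI : Module.Finite Γ(X, Uo) Γ(F, Uo) := inferInstance
  obtain ⟨N₁, hN₁⟩ := exists_depthB_bound Γ(S, Vo) Γ(X, Uo) Γ(F, Uo)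
  refine ⟨N₁, fun z hz => ?_⟩
  rw [depthAt_eq f F hUo hVo e hF z hz]
  exact hN₁ _

theorem fiberDepthAlong_top_or_le (Z : Set X) (Uo : X.Opens) (N₁ : ℕ)
    (hN₁ : ∀ z : X, z ∈ Uo → depthAt f F z = ⊤ ∨ depthAt f F z ≤ (N₁ : ℕ∞)) (y : X)
    (hy : y ∈ Uo) :
    CInt.fiberDepthAlong f F Z y = ⊤ ∨ CInt.fiberDepthAlong f F Z y ≤ (N₁ : ℕ∞) := by
  unfold CInt.fiberDepthAlong
  by_cases h : ∃ z : {z : X // z ∈ Z ∧ z ⤳ y ∧ f.base z = f.base y},
      CInt.fiberDepth f F z.1 ≠ ⊤
  · obtain ⟨z, hz⟩ := h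
    right
    refine (iInf_le _ z).trans ?_
    have hzU : z.1 ∈ Uo := z.2.2.1.mem_open Uo.2 hy
    rcases hN₁ z.1 hzU with h1 | h1
    · exact absurd h1 hz
    · exact h1
  · left
    push Not at h
    rw [iInf_eq_top]
    exact h

set_option maxHeartbeats 1600000 in
theorem s19986 [LocallyOfFinitePresentation f] (Y : Closeds ↥X)
    (hY : IsLocallyConstructible (Y : Set ↥X)) (hfp : CohB1.IsFP F)
    (hfl : FlatMod.IsFlatOver f F) (y₀ : ↥(Y : Set ↥X)) :
    ∃ V : Opens ↥(Y : Set ↥X), y₀ ∈ V ∧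
      ((fun y : ↥(Y : Set ↥X) => CInt.fiberDepthAlong f F (Y : Set ↥X) y.1) ''
        (V : Set ↥(Y : Set ↥X))).Finite ∧
      ∀ t : ℕ∞, IsConstructible
        {v : ↥V | CInt.fiberDepthAlong f F (Y : Set ↥X) v.1.1 = t} := by
  obtain ⟨Vo, hVo, Uo, hUo, e, hxU, -⟩ :=
    exists_chart f y₀.1 Set.univ isOpen_univ (Set.mem_univ _)
  obtain ⟨N₁, hN₁⟩ := exists_depthAt_bound f F hfp hUo hVo e
  have hbd := fiberDepthAlong_top_or_le f F (Y : Set ↥X) Uo N₁ hN₁
  refine ⟨subOpen (Y : Set ↥X) Uo, hxU, ?_, ?_⟩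
  · refine Set.Finite.subset (((Finset.range (N₁ + 1)).image
      (fun m : ℕ => (m : ℕ∞))).finite_toSet.union (Set.finite_singleton ⊤)) ?_
    rintro _ ⟨y, hyV, rfl⟩
    have hyU : y.1 ∈ Uo := hyV
    rcases hbd y.1 hyU with h | h
    · right
      exact h
    · left
      obtain ⟨m, hm⟩ := ENat.ne_top_iff_exists.mp
        (ne_top_of_le_ne_top (ENat.natCast_ne_top N₁) h)
      show CInt.fiberDepthAlong f F (Y : Set ↥X) y.1 ∈ _
      rw [← hm] at h ⊢
      have h2 : m ≤ N₁ := by exact_mod_cast h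
      simp only [Finset.coe_image, Finset.coe_range, Set.mem_image, Set.mem_Iio]
      exact ⟨m, by omega, rfl⟩
  · -- the level sets
    have hG : ∀ n : ℕ, IsConstructible {v : ↥(subOpen (Y : Set ↥X) Uo) |
        (n : ℕ∞) ≤ CInt.fiberDepthAlong f F (Y : Set ↥X) v.1.1} := by
      intro n
      rcases n with _ | k
      · have : {v : ↥(subOpen (Y : Set ↥X) Uo) |
            ((0 : ℕ) : ℕ∞) ≤ CInt.fiberDepthAlong f F (Y : Set ↥X) v.1.1} = Set.univ := by
          ext v
          simp
        rw [this]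
        exact IsConstructible.univ
      · have : {v : ↥(subOpen (Y : Set ↥X) Uo) |
            ((k + 1 : ℕ) : ℕ∞) ≤ CInt.fiberDepthAlong f F (Y : Set ↥X) v.1.1} =
            {v : ↥(subOpen (Y : Set ↥X) Uo) | v.1.1 ∈ (badSet f F (Y : Set ↥X) k)ᶜ} := by
          ext v
          simp only [Set.mem_ofPred_eq, Set.mem_compl_iff]
          rw [le_fiberDepthAlong_iff]
        rw [this]
        exact isConstructible_sub (Y : Set ↥X) Y.isClosed hY Uo hUo _
          (Groth.Agent.Helper5.KLem.isLocallyConstructible_compl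
            (isLocallyConstructible_badSet f F hfp hfl _ Y.isClosed hY k))
    intro t
    by_cases ht : t = ⊤
    · subst ht
      have : {v : ↥(subOpen (Y : Set ↥X) Uo) |
          CInt.fiberDepthAlong f F (Y : Set ↥X) v.1.1 = ⊤} =
          {v : ↥(subOpen (Y : Set ↥X) Uo) |
            ((N₁ + 1 : ℕ) : ℕ∞) ≤ CInt.fiberDepthAlong f F (Y : Set ↥X) v.1.1} := by
        ext v
        simp only [Set.mem_ofPred_eq]
        constructor
        · intro h
          rw [h]
          exact le_top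
        · intro h
          rcases hbd v.1.1 v.2 with h1 | h1
          · exact h1
          · exfalso
            have h2 := h.trans h1
            have : N₁ + 1 ≤ N₁ := by exact_mod_cast h2
            omega
      rw [this]
      exact hG _
    · obtain ⟨m, rfl⟩ := ENat.ne_top_iff_exists.mp ht
      have : {v : ↥(subOpen (Y : Set ↥X) Uo) |
          CInt.fiberDepthAlong f F (Y : Set ↥X) v.1.1 = (m : ℕ∞)} =
          {v : ↥(subOpen (Y : Set ↥X) Uo) |
            (m : ℕ∞) ≤ CInt.fiberDepthAlong f F (Y : Set ↥X) v.1.1} \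
          {v : ↥(subOpen (Y : Set ↥X) Uo) |
            ((m + 1 : ℕ) : ℕ∞) ≤ CInt.fiberDepthAlong f F (Y : Set ↥X) v.1.1} := by
        ext v
        simp only [Set.mem_ofPred_eq, Set.mem_sdiff]
        constructor
        · intro h
          rw [h]
          refine ⟨le_rfl, ?_⟩
          intro h2
          have : m + 1 ≤ m := by exact_mod_cast h2
          omega
        · rintro ⟨h1, h2⟩
          refine le_antisymm ?_ h1
          by_contra h3
          rw [not_le] at h3
          apply h2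
          push_cast
          exact (ENat.add_one_le_iff (ENat.natCast_ne_top m)).mpr h3
      rw [this]
      exact (hG m).sdiff (hG (m + 1))

end Main

end Groth.Agent.Helper5.FibDp
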