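import Mathlib
import Groth.Prelude
import Groth.Agent.Helper5.Homog2
import Groth.Agent.Helper2.FiberSmooth2

set_option autoImplicit false
set_option linter.unusedSectionVars false
set_option linter.style.haveILetI false
universe u

open AlgebraicGeometry CategoryTheory CategoryTheory.Limits TopologicalSpace
open MonoidalCategory CartesianMonoidalCategory MonObj GrpObj

namespace Groth.Agent.Helper5.FibGrp

open Groth.Agent.Helper5.Homog

variable {S : Scheme.{u}} (G H : Over S) [GrpObj G] [GrpObj H] (u : G ⟶ H) [IsMonHom u]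

/-- homogeneity on the fibre over `s` -/
theorem fb_of_ploc (P : MorphismProperty Scheme.{u}) [P.IsStableUnderBaseChange]
    [IsZariskiLocalAtSource P] [P.DescendsAlong (@Surjective ⊓ @Flat ⊓ @QuasiCompact)]
    (s : S) (hlft : LocallyOfFiniteType (pullback.snd G.hom (S.fromSpecResidueField s)))
    (h : (ploc P (fb G H u s)).Nonempty) : P (fb G H u s) := by
  let j := S.fromSpecResidueField s
  let G' : Over (Spec (CommRingCat.of ↑(S.residueField s))) := Red.bc j G
  let H' : Over (Spec (CommRingCat.of ↑(S.residueField s))) := Red.bc j H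
  let f' : G' ⟶ H' := (Over.pullback j).map u
  haveI : IsMonHom f' := inferInstance
  haveI : LocallyOfFiniteType G'.hom := hlft
  exact homog (k := S.residueField s) G' H' f' P h

/-- if `u` has the property `P` near `x` then the fibre `u_s` has the property `P` -/
theorem fb_of_mem_ploc (P : MorphismProperty Scheme.{u}) [P.IsStableUnderBaseChange]
    [IsZariskiLocalAtSource P] [P.DescendsAlong (@Surjective ⊓ @Flat ⊓ @QuasiCompact)]
    (x : G.left)
    (hlft : LocallyOfFiniteType (pullback.snd G.hom (S.fromSpecResidueField (G.hom x))))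
    (h : x ∈ ploc P u.left) : P (fb G H u (G.hom x)) := by
  obtain ⟨x', hx'⟩ := exists_fibre_point G x
  refine fb_of_ploc G H u P (G.hom x) hlft ⟨x', ?_⟩
  refine ploc_of_isPullback P (isPullback_bc G H u (G.hom x)) x' ?_
  rw [hx']
  exact h

theorem smoothAt_iff_fb [Flat G.hom] [LocallyOfFinitePresentation G.hom]
    [LocallyOfFiniteType H.hom] (x : G.left) :
    (∃ W : G.left.Opens, x ∈ W ∧ Smooth (W.ι ≫ u.left)) ↔ Smooth (fb G H u (G.hom x)) := by
  haveI := lfp_hom G H u
  constructor
  · intro h
    exact fb_of_mem_ploc G H u @Smooth x inferInstance h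
  · intro h
    rw [Groth.Agent.Helper2.PtDesc.smooth_nbhd_iff, ← Scheme.Hom.mem_smoothLocus]
    haveI : LocallyOfFinitePresentation (u.left.fiberToSpecResidueField (u.left x)) :=
      inferInstanceAs (LocallyOfFinitePresentation
        (pullback.snd u.left (H.left.fromSpecResidueField (u.left x))))
    rw [Groth.Agent.Helper2.FiberSmooth2.mem_smoothLocus_iff_flat_and_fiber]
    refine ⟨(flatAt_iff_flat_fb G H u x).2 inferInstance, ?_⟩
    have h2 : Smooth (fb G H u (H.hom (u.left x))) := by
      rw [hom_apply G H u x]; exact h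
    haveI : Smooth (u.left.fiberToSpecResidueField (u.left x)) :=
      Groth.Agent.Helper5.FibFlat.of_fibreMap @Smooth u.left H.hom (u.left x)
        (fibreMap_of_bc G H u @Smooth _ h2)
    rw [Scheme.Hom.smoothLocus_eq_top]
    trivial

theorem s5313 [Flat G.hom] [LocallyOfFinitePresentation G.hom] [LocallyOfFiniteType H.hom] :
    IsOpen {s : S | Smooth ((Over.pullback (S.fromSpecResidueField s)).map u).left} ∧
    {x : G.left | ∃ W : G.left.Opens, x ∈ W ∧ Smooth (W.ι ≫ u.left)} =
      G.hom.base ⁻¹' {s : S | Smooth ((Over.pullback (S.fromSpecResidueField s)).map u).left} := by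
  have hb : {x : G.left | ∃ W : G.left.Opens, x ∈ W ∧ Smooth (W.ι ≫ u.left)} =
      G.hom.base ⁻¹' {s : S | Smooth
        ((Over.pullback (S.fromSpecResidueField s)).map u).left} := by
    ext x
    exact smoothAt_iff_fb G H u x
  exact ⟨isOpen_of_preimage G _ _ (isOpen_nbhd_locus _) hb, hb⟩

end Groth.Agent.Helper5.FibGrp
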