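import Mathlib
import Groth.Prelude
import Groth.Agent.Helper5.FibGrp12
import Groth.Agent.Helper2.ArtSch
import Groth.Agent.Lead.FD14

set_option autoImplicit false
set_option linter.unusedSectionVars false
set_option linter.style.haveILetI false
universe u

open AlgebraicGeometry CategoryTheory CategoryTheory.Limits TopologicalSpace
open MonoidalCategory CartesianMonoidalCategory MonObj GrpObj

namespace Groth.Agent.Helper5.LfpOrbit

open Groth.Agent.Helper5.FlatOrbit Groth.Agent.Helper5.GrpDense

variable {S : Scheme.{u}} {G X : Over S} [GrpObj G]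

/-- the action morphism has every base-change-stable property of `G → S` -/
theorem act_of (P : MorphismProperty Scheme.{u}) [P.IsStableUnderBaseChange]
    (a : AlgGrp.Action G X) (h : P G.hom) : P a.act.left := by
  have e : a.act.left = (shear a).left ≫ (snd G X).left := by
    rw [← Over.comp_left, shear_snd]
  rw [e]
  have h1 : P (snd G X).left := by
    change P (pullback.snd G.hom X.hom)
    exact P.pullback_snd _ _ h
  have : IsIso (shear a).left := (Over.forget S).map_isIso (shear a)
  exact (P.cancel_left_of_respectsIso _ _).2 h1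

/-- homogeneity of "locally of finite presentation" over a local artinian base -/
theorem lfp_of_open (A : Type u) [CommRing A] [IsArtinianRing A] [IsLocalRing A]
    (G H : Over (Spec (CommRingCat.of A))) [GrpObj G] [GrpObj H]
    [Flat G.hom] [LocallyOfFinitePresentation G.hom] (u : G ⟶ H) [IsMonHom u]
    (W : G.left.Opens) (hW : (W : Set G.left).Nonempty)
    (h : LocallyOfFinitePresentation (W.ι ≫ u.left)) : LocallyOfFinitePresentation u.left := by
  haveI : Subsingleton (Spec (CommRingCat.of A)) := by
    show Subsingleton (PrimeSpectrum A)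
    infer_instance
  let Wo : Over (Spec (CommRingCat.of A)) := Over.mk (W.ι ≫ G.hom)
  let jW : Wo ⟶ G := Over.homMk W.ι rfl
  let ν : G ⊗ Wo ⟶ G := (G ◁ jW) ≫ μ[G]
  haveI hj1 : Flat jW.left := inferInstanceAs (Flat W.ι)
  haveI hj2 : LocallyOfFinitePresentation jW.left :=
    inferInstanceAs (LocallyOfFinitePresentation W.ι)
  haveI : Flat (G ◁ jW).left :=
    MorphismProperty.of_isPullback (P := @Flat) (isPullback_whiskerLeft G jW).flip hj1
  haveI : LocallyOfFinitePresentation (G ◁ jW).left :=
    MorphismProperty.of_isPullback (P := @LocallyOfFinitePresentation)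
      (isPullback_whiskerLeft G jW).flip hj2
  haveI : Flat (μ[G]).left := flat_act (regular G)
  haveI : LocallyOfFinitePresentation (μ[G]).left :=
    act_of @LocallyOfFinitePresentation (regular G) inferInstance
  haveI : Flat ν.left := by
    show Flat ((G ◁ jW) ≫ μ[G]).left
    rw [Over.comp_left]; infer_instance
  haveI : LocallyOfFinitePresentation ν.left := by
    show LocallyOfFinitePresentation ((G ◁ jW) ≫ μ[G]).left
    rw [Over.comp_left]; infer_instance
  haveI : Surjective ν.left := by
    refine ⟨fun y => ?_⟩
    obtain ⟨w, hw⟩ := hW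
    obtain ⟨z, hz1, hz2⟩ := exists_shear_point w y (Subsingleton.elim _ _)
    have hzr : z ∈ Set.range (G ◁ jW).left := by
      rw [range_whiskerLeft G jW]
      show (snd G G).left z ∈ Set.range jW.left
      rw [hz1]
      exact ⟨⟨w, hw⟩, rfl⟩
    obtain ⟨z', hz'⟩ := hzr
    refine ⟨z', ?_⟩
    show ((G ◁ jW) ≫ μ[G]).left z' = y
    rw [Over.comp_left, Scheme.Hom.comp_apply, hz', hz2]
  haveI : LocallyOfFinitePresentation (ν.left ≫ u.left) := by
    have heq : (G ◁ u) ≫ (homAction u).act = μ[G] ≫ u := by
      have := whiskerLeft_orbitMap_act (homAction u) η[H]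
      rwa [orbitMap_homAction] at this
    have e : ν ≫ u = (G ◁ (jW ≫ u)) ≫ (homAction u).act := by
      simp only [ν, Category.assoc, ← heq, MonoidalCategory.whiskerLeft_comp]
    rw [← Over.comp_left, e, Over.comp_left]
    have h3 : LocallyOfFinitePresentation (jW ≫ u).left := h
    haveI : LocallyOfFinitePresentation (G ◁ (jW ≫ u)).left :=
      MorphismProperty.of_isPullback (P := @LocallyOfFinitePresentation)
        (isPullback_whiskerLeft G (jW ≫ u)).flip h3
    haveI : LocallyOfFinitePresentation (homAction u).act.left :=
      act_of @LocallyOfFinitePresentation (homAction u) inferInstance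
    infer_instance
  exact Groth.Agent.Lead.FD14.locallyOfFinitePresentation_of_fppf_comp ν.left u.left

end Groth.Agent.Helper5.LfpOrbit
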