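import Mathlib
import Groth.Prelude
import Groth.Agent.Helper5.LfpOrbit

set_option autoImplicit false
set_option linter.unusedSectionVars false
set_option linter.style.haveILetI false
universe u

open AlgebraicGeometry CategoryTheory CategoryTheory.Limits TopologicalSpace
open MonoidalCategory CartesianMonoidalCategory MonObj GrpObj

namespace Groth.Agent.Helper5.FibGrp

open Groth.Agent.Helper5.Homog

variable {S : Scheme.{u}} (G H : Over S) [GrpObj G] [GrpObj H] (u : G ⟶ H) [IsMonHom u]

/-- fibrewise smooth + flat at `x` ⇒ smooth at `x` -/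
theorem mem_smoothLocus_of_fb [LocallyOfFinitePresentation u.left] (x : G.left)
    (hfl : (u.left.stalkMap x).hom.Flat) (h : Smooth (fb G H u (G.hom x))) :
    x ∈ u.left.smoothLocus := by
  haveI : LocallyOfFinitePresentation (u.left.fiberToSpecResidueField (u.left x)) :=
    inferInstanceAs (LocallyOfFinitePresentation
      (pullback.snd u.left (H.left.fromSpecResidueField (u.left x))))
  rw [Groth.Agent.Helper2.FiberSmooth2.mem_smoothLocus_iff_flat_and_fiber]
  refine ⟨hfl, ?_⟩
  have h2 : Smooth (fb G H u (H.hom (u.left x))) := by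
    rw [hom_apply G H u x]; exact h
  haveI : Smooth (u.left.fiberToSpecResidueField (u.left x)) :=
    Groth.Agent.Helper5.FibFlat.of_fibreMap @Smooth u.left H.hom (u.left x)
      (fibreMap_of_bc G H u @Smooth _ h2)
  rw [Scheme.Hom.smoothLocus_eq_top]
  trivial

theorem s5337 (A : Type u) [CommRing A] [IsArtinianRing A] [IsLocalRing A]
    (G H : Over (Spec (CommRingCat.of A))) [GrpObj G] [GrpObj H]
    [Flat G.hom] [LocallyOfFiniteType G.hom] (u : G ⟶ H) [IsMonHom u] (W : G.left.Opens)
    (hW : (W : Set G.left).Nonempty) :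
    (LocallyQuasiFinite (W.ι ≫ u.left) → LocallyQuasiFinite u.left) ∧
    (FormallyUnramified (W.ι ≫ u.left) → LocallyOfFinitePresentation (W.ι ≫ u.left) →
      FormallyUnramified u.left ∧ LocallyOfFinitePresentation u.left) ∧
    (Smooth (W.ι ≫ u.left) → Smooth u.left) ∧ (Etale (W.ι ≫ u.left) → Etale u.left) := by
  haveI : Subsingleton (Spec (CommRingCat.of A)) := by
    show Subsingleton (PrimeSpectrum A)
    infer_instance
  haveI : LocallyOfFinitePresentation G.hom := Groth.Agent.Helper2.ArtSch.lfp_of_lft_noeth G.hom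
  haveI lftu : LocallyOfFiniteType u.left := by
    haveI : LocallyOfFiniteType (u.left ≫ H.hom) := by rw [Over.w u]; infer_instance
    exact locallyOfFiniteType_of_comp u.left H.hom
  obtain ⟨w, hw⟩ := hW
  have hs : ∀ x : G.left, G.hom x = G.hom w := fun x => Subsingleton.elim _ _
  have hlft : ∀ s, LocallyOfFiniteType
      (pullback.snd G.hom ((Spec (CommRingCat.of A)).fromSpecResidueField s)) :=
    fun s => inferInstance
  -- unramified
  have hunr : FormallyUnramified (W.ι ≫ u.left) → FormallyUnramified u.left := by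
    intro h
    rw [formallyUnramified_iff_forall_unrAt]
    intro x
    rw [unrAt_iff_fb, hs x, ← unrAt_iff_fb]
    unfold UnrAt
    rw [← Groth.Agent.Helper3.StalkNbhd.stalkMap_ι_comp_iff
      RingHom.FormallyUnramified.respectsIso u.left W w hw]
    exact FormallyUnramified.stalkMap (W.ι ≫ u.left) ⟨w, hw⟩
  have hflat : Flat (W.ι ≫ u.left) → Flat u.left := by
    intro h
    refine Groth.Agent.Helper5.FlatOrbit.s5336 A G H u ⟨w, ?_⟩
    rw [← Groth.Agent.Helper3.StalkNbhd.stalkMap_ι_comp_iff
      RingHom.Flat.respectsIso u.left W w hw]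
    exact Flat.stalkMap (W.ι ≫ u.left) ⟨w, hw⟩
  have hlfp : LocallyOfFinitePresentation (W.ι ≫ u.left) → LocallyOfFinitePresentation u.left :=
    Groth.Agent.Helper5.LfpOrbit.lfp_of_open A G H u W ⟨w, hw⟩
  refine ⟨?_, fun h1 h2 => ⟨hunr h1, hlfp h2⟩, ?_, ?_⟩
  · intro h
    obtain ⟨K, i, hK⟩ := exists_kernel G H u
    rw [← Scheme.Hom.quasiFiniteLocus_eq_top_iff]
    ext x
    simp only [Scheme.Hom.mem_quasiFiniteLocus, TopologicalSpace.Opens.coe_top, Set.mem_univ,
      iff_true, SetLike.mem_coe]
    rw [quasiFiniteAt_iff G H u K i hK, hs x, ← quasiFiniteAt_iff G H u K i hK]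
    have := (W.ι ≫ u.left).quasiFiniteAt ⟨w, hw⟩
    rwa [Scheme.Hom.quasiFiniteAt_comp_iff_of_isOpenImmersion] at this
  · intro h
    haveI := hlfp inferInstance
    haveI := hflat inferInstance
    rw [← Scheme.Hom.smoothLocus_eq_top_iff]
    ext x
    simp only [TopologicalSpace.Opens.coe_top, Set.mem_univ, iff_true, SetLike.mem_coe]
    refine mem_smoothLocus_of_fb G H u x (Flat.stalkMap _ x) ?_
    rw [hs x]
    exact fb_of_mem_ploc G H u @Smooth w (hlft _) ⟨W, hw, h⟩
  · intro h
    haveI := hlfp inferInstance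
    haveI := hflat inferInstance
    haveI := hunr inferInstance
    exact Etale.of_formallyUnramified_of_flat u.left

end Groth.Agent.Helper5.FibGrp
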