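import Mathlib
import Groth.Prelude.Def_ega3
import Groth.Agent.Helper5.FibIso3

set_option autoImplicit false
universe u

open TensorProduct CategoryTheory CategoryTheory.Limits AlgebraicGeometry

namespace Groth.Agent.Helper5.FibIso

variable {X Y Z : Scheme.{u}}

theorem ker_fg_of_lfp (f : X ⟶ Y) (h : Y ⟶ Z) [LocallyOfFinitePresentation h]
    [LocallyOfFinitePresentation (f ≫ h)] (V : Z.Opens) (W₀ : Y.Opens) (hV : IsAffineOpen V)
    (hW₀ : IsAffineOpen W₀) (hle : W₀ ≤ h ⁻¹ᵁ V) (hci : IsClosedImmersion (f ∣_ W₀)) :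
    (RingHom.ker (f ∣_ W₀).appTop.hom).FG := by
  have : IsAffine W₀.toScheme := hW₀
  have : IsAffine (f ⁻¹ᵁ W₀).toScheme := isAffine_of_isAffineHom (f ∣_ W₀)
  let φ := (f ∣_ W₀).appTop
  have hφ : Function.Surjective φ.hom :=
    (IsClosedImmersion.isAffine_surjective_of_isAffine (f ∣_ W₀)).2
  let h₀ : W₀.toScheme ⟶ Z := W₀.ι ≫ h
  have hle1 : (⊤ : W₀.toScheme.Opens) ≤ h₀ ⁻¹ᵁ V := by
    rintro ⟨x, hx⟩ -
    exact hle hx
  let α : Γ(Z, V) ⟶ Γ(W₀.toScheme, ⊤) := h₀.appLE V ⊤ hle1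
  have e2 : (f ∣_ W₀) ≫ h₀ = (f ⁻¹ᵁ W₀).ι ≫ f ≫ h := by
    rw [← morphismRestrict_ι_assoc]
  have hle2 : (⊤ : (f ⁻¹ᵁ W₀).toScheme.Opens) ≤ ((f ∣_ W₀) ≫ h₀) ⁻¹ᵁ V := by
    intro x _
    change ((f ∣_ W₀) ≫ h₀) x ∈ V
    rw [e2, Scheme.Hom.comp_apply, Scheme.Hom.comp_apply]
    exact hle x.2
  have e1 : α ≫ φ = ((f ∣_ W₀) ≫ h₀).appLE V ⊤ hle2 := by
    have : φ = (f ∣_ W₀).appLE ⊤ ⊤ le_top := Scheme.Hom.app_eq_appLE (f ∣_ W₀)
    rw [this, Scheme.Hom.appLE_comp_appLE]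
  have hα : α.hom.FinitePresentation :=
    HasRingHomProperty.appLE (P := @LocallyOfFinitePresentation) _ (inferInstance)
      ⟨V, hV⟩ ⟨⊤, isAffineOpen_top _⟩ _
  have : LocallyOfFinitePresentation ((f ∣_ W₀) ≫ h₀) := by rw [e2]; infer_instance
  have hαφ : (α ≫ φ).hom.FinitePresentation := by
    rw [e1]
    exact HasRingHomProperty.appLE (P := @LocallyOfFinitePresentation) _ this
      ⟨V, hV⟩ ⟨⊤, isAffineOpen_top _⟩ _
  letI : Algebra Γ(Z, V) Γ(W₀.toScheme, ⊤) := α.hom.toAlgebra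
  letI : Algebra Γ(Z, V) Γ((f ⁻¹ᵁ W₀).toScheme, ⊤) := (α ≫ φ).hom.toAlgebra
  haveI : Algebra.FinitePresentation Γ(Z, V) Γ(W₀.toScheme, ⊤) := hα
  haveI : Algebra.FinitePresentation Γ(Z, V) Γ((f ⁻¹ᵁ W₀).toScheme, ⊤) := hαφ
  let ψ : Γ(W₀.toScheme, ⊤) →ₐ[Γ(Z, V)] Γ((f ⁻¹ᵁ W₀).toScheme, ⊤) :=
    { φ.hom with commutes' := fun _ => rfl }
  exact Algebra.FinitePresentation.ker_fG_of_surjective ψ hφ

end Groth.Agent.Helper5.FibIso

namespace Groth.Agent.Helper5.FibIso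

variable {X Y Z : Scheme.{u}}

theorem main_fp (f : X ⟶ Y) (g : X ⟶ Z) (h : Y ⟶ Z) (w : f ≫ h = g)
    [IsProper g] [LocallyOfFinitePresentation g] [Flat g] [IsProper h]
    [LocallyOfFinitePresentation h] (z : Z)
    [IsIso (CohIII.fiberMapOver f g h w z)] :
    ∃ U : Z.Opens, z ∈ U ∧ IsIso (f ∣_ (h ⁻¹ᵁ U)) := by
  have : Flat (f ≫ h) := by rw [w]; infer_instance
  have : LocallyOfFinitePresentation (f ≫ h) := by rw [w]; infer_instance
  obtain ⟨U₁, hzU₁, hU₁⟩ := (FibCI.main f g h w z).2 inferInstance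
  let T : Y.Opens := ⨆ W : {W : Y.Opens // MorphismProperty.isomorphisms Scheme (f ∣_ W)}, W.1
  have hT : MorphismProperty.isomorphisms Scheme (f ∣_ T) :=
    FibCI.restrict_iSup (MorphismProperty.isomorphisms Scheme) f _ fun W => W.2
  obtain ⟨U, hzU, hU⟩ := FibCI.exists_open_of_fiber_subset h z T (by
    intro y hy
    obtain rfl : h y = z := hy
    obtain ⟨W, hyW, hW⟩ := exists_isIso_restrict f h (h ⁻¹ᵁ U₁) hU₁ (by
        intro V W₀ hV hW₀ hle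
        exact ker_fg_of_lfp f h V W₀ hV hW₀ (hle.trans inf_le_right)
          (FibCI.restrict_mono @IsClosedImmersion f (hle.trans inf_le_left) hU₁)) y hzU₁
      (isIso_pullback_snd_of_isIso_fiberMapOver f g h w (h y))
    exact (le_iSup (fun W : {W : Y.Opens // MorphismProperty.isomorphisms Scheme (f ∣_ W)} =>
      W.1) ⟨W, hW⟩) hyW)
  exact ⟨U, hzU, FibCI.restrict_mono (MorphismProperty.isomorphisms Scheme) f hU hT⟩

theorem fiberMapOver_comp_fiberι (f : X ⟶ Y) (g : X ⟶ Z) (h : Y ⟶ Z) (w : f ≫ h = g) (z : Z) :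
    CohIII.fiberMapOver f g h w z ≫ h.fiberι z = g.fiberι z ≫ f :=
  (FibCI.isPullback_fiberMapOver f g h w z).w.symm

theorem s10888 (g : X ⟶ Z) (h : Y ⟶ Z)
    [IsProper g] [LocallyOfFinitePresentation g] [Flat g] [IsProper h]
    [LocallyOfFinitePresentation h]
    (f : X ⟶ Y) (w : f ≫ h = g) :
    ∃ U : Z.Opens, (∀ s : Z, s ∈ U ↔
        ∃ e : g.fiber s ≅ h.fiber s, e.hom ≫ h.fiberι s = g.fiberι s ≫ f) ∧
      IsIso (f ∣_ (h ⁻¹ᵁ U)) := by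
  let U : Z.Opens := ⨆ W : {W : Z.Opens // MorphismProperty.isomorphisms Scheme (f ∣_ (h ⁻¹ᵁ W))}, W.1
  have hU : MorphismProperty.isomorphisms Scheme (f ∣_ (h ⁻¹ᵁ U)) := by
    have e : h ⁻¹ᵁ U = ⨆ W : {W : Z.Opens //
        MorphismProperty.isomorphisms Scheme (f ∣_ (h ⁻¹ᵁ W))}, h ⁻¹ᵁ W.1 := by
      ext y
      simp [U]
    rw [e]
    exact FibCI.restrict_iSup (MorphismProperty.isomorphisms Scheme) f _ fun W => W.2
  refine ⟨U, fun s => ⟨fun hs => ?_, ?_⟩, hU⟩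
  · -- the fibre map is a base change of the isomorphism `f ∣_ h⁻¹U`
    have sqF := FibCI.isPullback_fiberMapOver f g h w s
    have hrange : Set.range (h.fiberι s) ⊆ Set.range (h ⁻¹ᵁ U).ι := by
      rintro _ ⟨y', rfl⟩
      rw [Scheme.Opens.range_ι]
      change h (h.fiberι s y') ∈ U
      have : h.fiberι s y' ∈ Set.range (h.fiberι s) := ⟨y', rfl⟩
      rw [h.range_fiberι] at this
      rw [this]
      exact hs
    let l : h.fiber s ⟶ (h ⁻¹ᵁ U).toScheme := IsOpenImmersion.lift (h ⁻¹ᵁ U).ι (h.fiberι s) hrange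
    have hl : l ≫ (h ⁻¹ᵁ U).ι = h.fiberι s := IsOpenImmersion.lift_fac _ _ _
    have sqR := (isPullback_morphismRestrict f (h ⁻¹ᵁ U)).flip
    have hw : g.fiberι s ≫ f = (CohIII.fiberMapOver f g h w s ≫ l) ≫ (h ⁻¹ᵁ U).ι := by
      rw [Category.assoc, hl]; exact sqF.w
    have big : IsPullback (sqR.lift (g.fiberι s) (CohIII.fiberMapOver f g h w s ≫ l) hw ≫
        (f ⁻¹ᵁ h ⁻¹ᵁ U).ι) (CohIII.fiberMapOver f g h w s) f (l ≫ (h ⁻¹ᵁ U).ι) := by
      rw [sqR.lift_fst, hl]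
      exact sqF
    have left := IsPullback.of_right big (sqR.lift_snd _ _ hw) sqR
    have : IsIso (f ∣_ (h ⁻¹ᵁ U)) := hU
    have : IsIso (CohIII.fiberMapOver f g h w s) := left.isIso_snd_of_isIso
    exact ⟨asIso (CohIII.fiberMapOver f g h w s), fiberMapOver_comp_fiberι f g h w s⟩
  · rintro ⟨e, he⟩
    have : e.hom = CohIII.fiberMapOver f g h w s := by
      rw [← cancel_mono (h.fiberι s), he, fiberMapOver_comp_fiberι]
    have : IsIso (CohIII.fiberMapOver f g h w s) := this ▸ inferInstance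
    obtain ⟨U', hsU', hU'⟩ := main_fp f g h w s
    exact (le_iSup (fun W : {W : Z.Opens //
      MorphismProperty.isomorphisms Scheme (f ∣_ (h ⁻¹ᵁ W))} => W.1) ⟨U', hU'⟩) hsU'

end Groth.Agent.Helper5.FibIso
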