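import Groth.Agent.Helper5.FibUsc1
import Groth.Agent.Helper5.LscDim5
import Groth.Agent.Helper5.GorSp6
import Groth.Agent.Helper5.Decent3
import Mathlib

/-!
# Lower semicontinuity of the fibre dimension for flat morphisms locally of finite presentation
of algebraic spaces
-/

set_option autoImplicit false
universe u
open CategoryTheory CategoryTheory.Limits AlgebraicGeometry Opposite

namespace Groth.Agent.Helper5.FibLsc

open AlgSp Groth.Agent.Helper5.RelDimSp Groth.Agent.Helper5.PtLoc Groth.Agent.Helper5.FibUsc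

variable {S : Scheme.{u}}

/-- the set of points of the target over which the fibre has dimension `> d` -/
def Tgt {X Y : AlgSp.Space S} (f : X ⟶ Y) (d : WithBot ℕ∞) : Set (Points Y.obj) :=
  {y : AlgSp.Points Y.obj | ∀ (k : AlgSp.FieldPt Y.obj), AlgSp.Points.mk k = y →
      ∀ (Xk : AlgSp.Sp S) (fst : Xk ⟶ X.obj) (snd : Xk ⟶ (AlgSp.yon S).obj k.pt),
        IsPullback fst snd f.hom k.toHom → d < AlgSp.dim Xk}

theorem locP_mono {P Q : MorphismProperty Scheme.{u}} (hPQ : P ≤ Q) {F G : Sp S} (f : F ⟶ G)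
    (h : LocP P f) : LocP Q f :=
  fun _ _ a b s ha hb c => hPQ _ (h a b s ha hb c)

/-- around the image of a point `x`, every point has a preimage at which the local fibre
dimension is at least that at `x` -/
theorem key_nhd {X Y : AlgSp.Space S} (f : X ⟶ Y) (hfl : LocP @Flat f.hom)
    (hfp : LocP @LocallyOfFinitePresentation f.hom) (x : Points X.obj) :
    ∃ O : Set (Points Y.obj), IsOpen O ∧ Points.map f.hom x ∈ O ∧ ∀ y' ∈ O,
      ∃ x' : Points X.obj, Points.map f.hom x' = y' ∧ ∀ d : ℕ,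
        HasAtMor (QD fun r => r ≤ (d : WithBot ℕ∞)) f.hom x' →
          HasAtMor (QD fun r => r ≤ (d : WithBot ℕ∞)) f.hom x := by
  have hft : LocP @LocallyOfFiniteType f.hom :=
    locP_mono (fun _ _ g hg => by
      haveI : LocallyOfFinitePresentation g := hg
      exact (inferInstance : LocallyOfFiniteType g)) f.hom hfp
  obtain ⟨V, b, hbe, hbs⟩ := Y.property.atlas
  obtain ⟨U, a, s, c1, hae, -, -, has⟩ :=
    Groth.Agent.Helper5.GorSp.exists_chart_over X.property f.hom b hbe
  obtain ⟨u, rfl⟩ := Groth.Agent.Helper5.AlgSpOpen.ofPt_surjective_of_repWith a (has hbs) x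
  haveI : Flat s.left := hfl a b s hae hbe c1
  haveI : LocallyOfFinitePresentation s.left := hfp a b s hae hbe c1
  obtain ⟨N, hN, h⟩ := Groth.Agent.Helper5.LscDim.exists_nhd s.left u
  have hmap : ∀ u' : ↥U.left, Points.map f.hom (Points.ofPt a u') = Points.ofPt b (s.left u') := by
    intro u'
    rw [Points.map_ofPt, c1, Groth.Agent.Helper4.AlgSpPtsDesc.ofPt_yon_map_comp]
  refine ⟨Points.ofPt b '' (N : Set ↥V.left), ?_, ?_, ?_⟩
  · exact Groth.Agent.Helper5.Decent3.isOpenMap_ofPt Y.property b hbe _ N.2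
  · exact ⟨s.left u, hN, (hmap u).symm⟩
  · rintro _ ⟨v', hv', rfl⟩
    obtain ⟨u', hu'1, hu'2⟩ := h v' hv'
    refine ⟨Points.ofPt a u', by rw [hmap, hu'1], fun d hd => ?_⟩
    rw [hasAtMor_iff_chart_on (etLocalOn_QD _) f.hom hft a b s hae hbe c1] at hd ⊢
    exact le_trans hu'2 hd

end Groth.Agent.Helper5.FibLsc
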