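import Groth.Agent.Helper5.FibLsc1
import Mathlib

/-!
# Lower semicontinuity of the fibre dimension (S10679)
-/

set_option autoImplicit false
universe u
open CategoryTheory CategoryTheory.Limits AlgebraicGeometry Opposite

namespace Groth.Agent.Helper5.FibLsc

open AlgSp Groth.Agent.Helper5.RelDimSp Groth.Agent.Helper5.PtLoc Groth.Agent.Helper5.FibUsc

variable {S : Scheme.{u}}

theorem s10679 {X Y : AlgSp.Space S} (f : X ⟶ Y)
    (hf1 : AlgSp.LocP @Flat f.hom) (hf2 : AlgSp.IsFinitePresentationMor f.hom) (d : WithBot ℕ∞) :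
    IsOpen (Tgt f d) := by
  obtain ⟨hfp, hqc, -⟩ := hf2
  have hft : IsFiniteTypeMor f.hom :=
    ⟨locP_mono (fun _ _ g hg => by
      haveI : LocallyOfFinitePresentation g := hg
      exact (inferInstance : LocallyOfFiniteType g)) f.hom hfp, hqc⟩
  have key := fun y k hk Xk fst snd h => s10678 f hft y k hk Xk fst snd h
  have hsq : ∀ k : FieldPt Y.obj,
      IsPullback (pullback.fst f.hom k.toHom) (pullback.snd f.hom k.toHom) f.hom k.toHom :=
    fun k => IsPullback.of_hasPullback _ _
  induction d with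
  | bot =>
    rw [isOpen_iff_forall_mem_open]
    intro y hy
    obtain ⟨k, hk⟩ := Points.mk_surjective y
    have h1 : ⊥ < AlgSp.dim (pullback f.hom k.toHom) := hy k hk _ _ _ (hsq k)
    have h2 : y ∈ Set.range (Points.map f.hom) := by
      by_contra hcon
      exact (ne_of_gt h1) ((key y k hk _ _ _ (hsq k)).1.2 hcon)
    obtain ⟨x, rfl⟩ := h2
    obtain ⟨O, hO, hxO, h⟩ := key_nhd f hf1 hfp x
    refine ⟨O, ?_, hO, hxO⟩
    intro y' hy' k' hk' Xk fst snd sq
    obtain ⟨x', hx', -⟩ := h y' hy'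
    rw [bot_lt_iff_ne_bot]
    intro hbot
    exact (key y' k' hk' Xk fst snd sq).1.1 hbot ⟨x', hx'⟩
  | coe e =>
    induction e with
    | top =>
      convert isOpen_empty using 1
      ext y
      simp only [Tgt, Set.mem_ofPred_eq, Set.mem_empty_iff_false, iff_false]
      intro hy
      obtain ⟨k, hk⟩ := Points.mk_surjective y
      exact absurd (hy k hk _ _ _ (hsq k)) (not_lt.2 le_top)
    | coe n =>
      rw [isOpen_iff_forall_mem_open]
      intro y hy
      obtain ⟨k, hk⟩ := Points.mk_surjective y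
      have h1 : ((n : ℕ∞) : WithBot ℕ∞) < AlgSp.dim (pullback f.hom k.toHom) :=
        hy k hk _ _ _ (hsq k)
      have h2 : ¬ ∀ x : AlgSp.Points X.obj, AlgSp.Points.map f.hom x = y →
          AlgSp.HasAtMor (fun _ _ h u => FlatMor.fibreDimAt h u ≤ (n : WithBot ℕ∞)) f.hom x := by
        intro hall
        exact (not_le.2 h1) (((key y k hk _ _ _ (hsq k)).2 n).2 hall)
      push_neg at h2
      obtain ⟨x, rfl, hx⟩ := h2
      obtain ⟨O, hO, hxO, h⟩ := key_nhd f hf1 hfp x
      refine ⟨O, ?_, hO, hxO⟩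
      intro y' hy' k' hk' Xk fst snd sq
      obtain ⟨x', hx', hd⟩ := h y' hy'
      rw [← not_le]
      intro hle
      exact hx (hd n (((key y' k' hk' Xk fst snd sq).2 n).1 hle x' hx'))

end Groth.Agent.Helper5.FibLsc
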