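import Groth.Agent.Helper5.FibLsc2
import Groth.Agent.Helper5.FibCodim
import Groth.Agent.Helper4.AlgSpQC2
import Mathlib

/-!
# Fibres of morphisms of finite type are finite dimensional; local constancy of the fibre
dimension for proper flat morphisms of finite presentation (S10692)
-/

set_option autoImplicit false
universe u
open CategoryTheory CategoryTheory.Limits AlgebraicGeometry Opposite

namespace Groth.Agent.Helper5.FibLsc

open AlgSp Groth.Agent.Helper5.RelDimSp Groth.Agent.Helper5.PtLoc Groth.Agent.Helper5.FibUsc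

variable {S : Scheme.{u}}

/-- every point of the source has finite local fibre dimension -/
theorem exists_hasAtMor_le {X Y : AlgSp.Space S} (f : X ⟶ Y)
    (hft : LocP @LocallyOfFiniteType f.hom) (x : Points X.obj) :
    ∃ n : ℕ, HasAtMor (QD fun r => r ≤ (n : WithBot ℕ∞)) f.hom x := by
  obtain ⟨V, b, hbe, hbs⟩ := Y.property.atlas
  obtain ⟨U, a, s, c1, hae, -, -, has⟩ :=
    Groth.Agent.Helper5.GorSp.exists_chart_over X.property f.hom b hbe
  obtain ⟨u, rfl⟩ := Groth.Agent.Helper5.AlgSpOpen.ofPt_surjective_of_repWith a (has hbs) x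
  haveI : LocallyOfFiniteType s.left := hft a b s hae hbe c1
  obtain ⟨k, n, -, -, -, h⟩ := Groth.Agent.Helper5.SubDim.fibreDimAt_eq s.left u
  refine ⟨k + n, ?_⟩
  rw [hasAtMor_iff_chart_on (etLocalOn_QD _) f.hom hft a b s hae hbe c1]
  show FlatMor.fibreDimAt s.left u ≤ _
  rw [h]

set_option backward.isDefEq.respectTransparency.types false in
/-- the fibres of a morphism of finite type are finite dimensional -/
theorem exists_dim_le {X Y : AlgSp.Space S} (f : X ⟶ Y) (hf : AlgSp.IsFiniteTypeMor f.hom)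
    (y : AlgSp.Points Y.obj) (k : AlgSp.FieldPt Y.obj) (hk : AlgSp.Points.mk k = y)
    (Xk : AlgSp.Sp S) (fst : Xk ⟶ X.obj) (snd : Xk ⟶ (AlgSp.yon S).obj k.pt)
    (h : IsPullback fst snd f.hom k.toHom) : ∃ n : ℕ, AlgSp.dim Xk ≤ (n : WithBot ℕ∞) := by
  obtain ⟨hft, hqc⟩ := hf
  let W : ℕ → Set (Points X.obj) := fun n =>
    {x | HasAtMor (QD fun r => r ≤ (n : WithBot ℕ∞)) f.hom x}
  have hWo : ∀ n, IsOpen (W n) := fun n =>
    isOpen_locus_on (etLocalOn_QD _)
      (fun s hs => by
        haveI := hs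
        exact Groth.Agent.Helper5.FibDim.isOpen_fibreDimAt_le s _) f hft
  have hWmono : Monotone W := by
    intro m n hmn x hx
    obtain ⟨U', V', a', b', h', u', ha', hb', comm', hu', hG⟩ := hx
    refine ⟨U', V', a', b', h', u', ha', hb', comm', hu', ?_⟩
    exact le_trans hG (by exact_mod_cast hmn)
  haveI : CompactSpace k.pt.left := by
    show CompactSpace ↥(Spec (CommRingCat.of k.K))
    infer_instance
  have hXkqc : IsQuasiCompactSp Xk :=
    hqc (IsAlgSpace.yon_obj _) (Groth.Agent.Helper4.AlgSpQC2.isQuasiCompactSp_yon k.pt) k.toHom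
      fst snd h
  haveI := Groth.Agent.Helper4.AlgSpQC2.compactSpace_points_of_isQuasiCompactSp hXkqc
  have hK : IsCompact (Set.range (Points.map fst)) :=
    isCompact_range (Points.continuous_map fst)
  have hcov : Set.range (Points.map fst) ⊆ ⋃ n, W n := by
    rintro _ ⟨z, rfl⟩
    obtain ⟨n, hn⟩ := exists_hasAtMor_le f hft (Points.map fst z)
    exact Set.mem_iUnion.2 ⟨n, hn⟩
  obtain ⟨n, hn⟩ := hK.elim_directed_cover W hWo hcov (directed_of_isDirected_le hWmono)
  refine ⟨n, ?_⟩
  refine ((s10678 f ⟨hft, hqc⟩ y k hk Xk fst snd h).2 n).2 ?_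
  intro x hx
  obtain ⟨t, -⟩ : ∃ t : Points ((yon S).obj k.pt), True := ⟨Groth.Agent.Helper5.UnivInj.ptOf (𝟙 _), trivial⟩
  obtain ⟨z, hz, -⟩ := Groth.Agent.Helper4.AlgSpPtsDesc.exists_point_of_isPullback h x t
    (by rw [hx, map_toHom_eq, hk])
  exact hn ⟨z, hz⟩

end Groth.Agent.Helper5.FibLsc
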