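import Groth.Agent.Helper5.FibLsc3
import Mathlib

/-!
# Local constancy of the fibre dimension for proper flat morphisms of finite presentation (S10692)
-/

set_option autoImplicit false
universe u
open CategoryTheory CategoryTheory.Limits AlgebraicGeometry Opposite

namespace Groth.Agent.Helper5.FibLsc

open AlgSp Groth.Agent.Helper5.RelDimSp Groth.Agent.Helper5.PtLoc Groth.Agent.Helper5.FibUsc

variable {S : Scheme.{u}}

theorem eq_zero_iff (a : WithBot ℕ∞) :
    a = ((0 : ℕ) : WithBot ℕ∞) ↔ a < ((0 + 1 : ℕ) : WithBot ℕ∞) ∧ ⊥ < a := by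
  rw [lt_succ_iff]
  induction a with
  | bot => simp
  | coe a =>
    induction a with
    | top =>
      constructor
      · intro h
        have : (⊤ : ℕ∞) = 0 := by exact_mod_cast h
        simp at this
      · rintro ⟨h, -⟩
        exact absurd h (not_le.mpr (by exact_mod_cast ENat.natCast_lt_top 0))
    | coe m =>
      constructor
      · intro h
        have : m = 0 := by exact_mod_cast h
        subst this
        exact ⟨le_rfl, WithBot.bot_lt_coe _⟩
      · rintro ⟨h, -⟩
        have : m ≤ 0 := by exact_mod_cast h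
        have : m = 0 := Nat.le_zero.1 this
        subst this
        rfl

theorem eq_succ_iff (a : WithBot ℕ∞) (m : ℕ) :
    a = ((m + 1 : ℕ) : WithBot ℕ∞) ↔
      a < ((m + 1 + 1 : ℕ) : WithBot ℕ∞) ∧ ((m : ℕ) : WithBot ℕ∞) < a := by
  rw [lt_succ_iff]
  induction a with
  | bot =>
    constructor
    · intro h
      exact absurd h.symm (WithBot.coe_ne_bot)
    · rintro ⟨-, h⟩
      exact absurd h (not_lt_bot)
  | coe a =>
    induction a with
    | top =>
      constructor
      · intro h
        have : (⊤ : ℕ∞) = ((m + 1 : ℕ) : ℕ∞) := by exact_mod_cast h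
        exact absurd this (ENat.top_ne_natCast _)
      · rintro ⟨h, -⟩
        exact absurd h (not_le.mpr (by exact_mod_cast ENat.natCast_lt_top (m + 1)))
    | coe j =>
      constructor
      · intro h
        have : j = m + 1 := by exact_mod_cast h
        subst this
        refine ⟨le_rfl, ?_⟩
        exact_mod_cast Nat.lt_succ_self m
      · rintro ⟨h1, h2⟩
        have h1' : j ≤ m + 1 := by exact_mod_cast h1
        have h2' : m < j := by exact_mod_cast h2
        have : j = m + 1 := by omega
        subst this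
        rfl

theorem s10692 {X Y : AlgSp.Space S} (f : X ⟶ Y) (hf1 : AlgSp.IsProperMor f.hom)
    (hf2 : AlgSp.LocP @Flat f.hom) (hf3 : AlgSp.IsFinitePresentationMor f.hom) (d : WithBot ℕ∞) :
    IsOpen {y : AlgSp.Points Y.obj | ∀ (k : AlgSp.FieldPt Y.obj), AlgSp.Points.mk k = y →
      ∀ (Xk : AlgSp.Sp S) (fst : Xk ⟶ X.obj) (snd : Xk ⟶ (AlgSp.yon S).obj k.pt),
        IsPullback fst snd f.hom k.toHom → AlgSp.dim Xk = d} := by
  have hU := fun e => s10680 f hf1 e
  have hL := fun e => s10679 f hf2 hf3 e
  have hsq : ∀ k : FieldPt Y.obj,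
      IsPullback (pullback.fst f.hom k.toHom) (pullback.snd f.hom k.toHom) f.hom k.toHom :=
    fun k => IsPullback.of_hasPullback _ _
  induction d with
  | bot =>
    convert hU ((0 : ℕ) : WithBot ℕ∞) using 1
    ext y
    simp only [T, Set.mem_ofPred_eq]
    constructor
    · intro hy k hk Xk fst snd sq
      rw [lt_zero_iff]
      exact hy k hk Xk fst snd sq
    · intro hy k hk Xk fst snd sq
      exact (lt_zero_iff _).1 (hy k hk Xk fst snd sq)
  | coe e =>
    induction e with
    | top =>
      convert isOpen_empty using 1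
      ext y
      simp only [Set.mem_ofPred_eq, Set.mem_empty_iff_false, iff_false]
      intro hy
      obtain ⟨k, hk⟩ := Points.mk_surjective y
      obtain ⟨n, hn⟩ := exists_dim_le f hf1.2.1 y k hk _ _ _ (hsq k)
      rw [hy k hk _ _ _ (hsq k)] at hn
      exact absurd hn (not_le.mpr (by exact_mod_cast ENat.natCast_lt_top n))
    | coe n =>
      cases n with
      | zero =>
        convert (hU ((0 + 1 : ℕ) : WithBot ℕ∞)).inter (hL ⊥) using 1
        ext y
        simp only [T, Tgt, Set.mem_ofPred_eq, Set.mem_inter_iff]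
        constructor
        · intro hy
          exact ⟨fun k hk Xk fst snd sq => ((eq_zero_iff _).1 (hy k hk Xk fst snd sq)).1,
            fun k hk Xk fst snd sq => ((eq_zero_iff _).1 (hy k hk Xk fst snd sq)).2⟩
        · rintro ⟨h1, h2⟩ k hk Xk fst snd sq
          exact (eq_zero_iff _).2 ⟨h1 k hk Xk fst snd sq, h2 k hk Xk fst snd sq⟩
      | succ m =>
        convert (hU ((m + 1 + 1 : ℕ) : WithBot ℕ∞)).inter (hL ((m : ℕ) : WithBot ℕ∞)) using 1
        ext y
        simp only [T, Tgt, Set.mem_ofPred_eq, Set.mem_inter_iff]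
        constructor
        · intro hy
          exact ⟨fun k hk Xk fst snd sq => ((eq_succ_iff _ m).1 (hy k hk Xk fst snd sq)).1,
            fun k hk Xk fst snd sq => ((eq_succ_iff _ m).1 (hy k hk Xk fst snd sq)).2⟩
        · rintro ⟨h1, h2⟩ k hk Xk fst snd sq
          exact (eq_succ_iff _ m).2 ⟨h1 k hk Xk fst snd sq, h2 k hk Xk fst snd sq⟩

end Groth.Agent.Helper5.FibLsc
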