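import Mathlib
import Groth.Prelude
import Groth.Agent.Helper5.FibMod2F

/-!
# FibMod2G: the locus where the restriction of a flat module to the fibres is equidimensional and
`(S_k)`, `k ≥ 1`, is open (S4984, S5919)
-/

set_option autoImplicit false
set_option linter.unusedSectionVars false
set_option linter.unusedVariables false
set_option linter.style.haveILetI false
universe u
open CategoryTheory CategoryTheory.Limits AlgebraicGeometry TopologicalSpace Topology TensorProduct
open IsLocalRing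

namespace Groth.Agent.Helper5.FibMod

open Groth.Agent.Helper1 Groth.Agent.Helper2 Groth.Agent.Helper5.FibPd

section Final

variable {X Y : Scheme.{u}} (f : X ⟶ Y) (F : X.Modules)

/-- the set of S4984, in terms of the framework -/
def setEsk (k : ℕ) : Set X := {x | FibModAt eqIso f F x ∧ FibModAt (skIso k) f F x}

set_option maxHeartbeats 1600000 in
theorem isOpen_setEsk [LocallyOfFinitePresentation f] (hF : CohB1.IsFP F)
    (hflat : FlatMod.IsFlatOver f F) (k : ℕ) (hk : 1 ≤ k) : IsOpen (setEsk f F k) := by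
  haveI : SheafOfModules.IsFinitePresentation (R := X.ringCatSheaf) F := hF
  haveI : F.IsQuasicoherent := inferInstance
  rw [isOpen_iff_forall_mem_open]
  intro x hx
  obtain ⟨Vo, hVo, Uo, hUo, e, hxU, -⟩ := exists_chart f x Set.univ isOpen_univ (Set.mem_univ x)
  letI algAB : Algebra Γ(Y, Vo) Γ(X, Uo) := (f.appLE Vo Uo e).hom.toAlgebra
  haveI : Algebra.FinitePresentation Γ(Y, Vo) Γ(X, Uo) :=
    RingHom.finitePresentation_algebraMap.1 <|
      HasRingHomProperty.appLE (P := @LocallyOfFinitePresentation) f inferInstance ⟨Vo, hVo⟩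
        ⟨Uo, hUo⟩ e
  haveI : Module.FinitePresentation Γ(X, Uo) Γ(F, Uo) :=
    Groth.Agent.Helper4.FPGlue.fp_sections F hF hUo
  letI modAF : Module Γ(Y, Vo) Γ(F, Uo) := Module.compHom _ (f.appLE Vo Uo e).hom
  haveI : IsScalarTower Γ(Y, Vo) Γ(X, Uo) Γ(F, Uo) :=
    IsScalarTower.of_algebraMap_smul fun r m => rfl
  haveI : Module.Flat Γ(Y, Vo) Γ(F, Uo) :=
    (Groth.Agent.Helper5.AffFlat.flat_sections_iff f F hVo hUo e).mp (fun x _ => hflat x)
  have hT := isOpen_esk Γ(Y, Vo) Γ(X, Uo) Γ(F, Uo) k hk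
  set T : Set (PrimeSpectrum Γ(X, Uo)) := {q |
      eqIso.P (EGA4.FibLocRing Γ(Y, Vo) Γ(X, Uo) q.asIdeal)
        ((EGA4.FibLocRing Γ(Y, Vo) Γ(X, Uo) q.asIdeal) ⊗[Γ(X, Uo)] Γ(F, Uo)) ∧
      (skIso k).P (EGA4.FibLocRing Γ(Y, Vo) Γ(X, Uo) q.asIdeal)
        ((EGA4.FibLocRing Γ(Y, Vo) Γ(X, Uo) q.asIdeal) ⊗[Γ(X, Uo)] Γ(F, Uo))} with hTdef
  have hchart : ∀ (y : X) (hy : y ∈ Uo), y ∈ setEsk f F k ↔ hUo.primeIdealOf ⟨y, hy⟩ ∈ T := by
    intro y hy
    exact and_congr (fibModAt_iff eqIso f F hUo hVo e y hy)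
      (fibModAt_iff (skIso k) f F hUo hVo e y hy)
  refine ⟨Subtype.val '' ((fun y : Uo => hUo.primeIdealOf y) ⁻¹' T), ?_, ?_, ?_⟩
  · rintro _ ⟨y, hy, rfl⟩
    exact (hchart y.1 y.2).mpr hy
  · exact Uo.isOpen.isOpenMap_subtype_val _ (hT.preimage (continuous_primeIdealOf hUo))
  · exact ⟨⟨x, hxU⟩, (hchart x hxU).mp hx, rfl⟩

/-- the condition of S4984 at a point of a fibre, in terms of the framework -/
theorem esk_stalk_iff [LocallyOfFiniteType f] (hF : CohB1.IsFP F) (k : ℕ) (s : Y)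
    (z : ↥(f.fiber s)) :
    (EGA4.IsEquidimModule ((f.fiber s).presheaf.stalk z)
        (((Scheme.Modules.pullback (f.fiberι s)).obj F).presheaf.stalk z) ∧
      LocCoh.HasSk k ((f.fiber s).presheaf.stalk z)
        (((Scheme.Modules.pullback (f.fiberι s)).obj F).presheaf.stalk z)) ↔
      f.fiberι s z ∈ setEsk f F k := by
  haveI : SheafOfModules.IsFinitePresentation (R := X.ringCatSheaf) F := hF
  haveI : F.IsQuasicoherent := inferInstance
  obtain ⟨h1, h2⟩ := nf_fibre_pair f F hF s z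
  unfold setEsk
  rw [Set.mem_ofPred_eq, ← fibre_pair_stalk_iff f F eqIso s z,
    ← fibre_pair_stalk_iff f F (skIso k) s z]
  constructor
  · rintro ⟨hE, hS⟩
    exact ⟨⟨h1, h2, hE⟩, ⟨h1, h2, hS⟩⟩
  · rintro ⟨⟨-, -, hE⟩, ⟨-, -, hS⟩⟩
    exact ⟨hE, hS⟩

/-- S4984 -/
theorem s4984 [LocallyOfFinitePresentation f] (hF : CohB1.IsFP F)
    (hflat : FlatMod.IsFlatOver f F) (k : ℕ) (hk : 1 ≤ k) :
    IsOpen {x : X | EGA4.IsEquidimModule ((f.fiber (f.base x)).presheaf.stalk (f.asFiber x)) (((Scheme.Modules.pullback (f.fiberι (f.base x))).obj F).presheaf.stalk (f.asFiber x)) ∧ LocCoh.HasSk k ((f.fiber (f.base x)).presheaf.stalk (f.asFiber x)) (((Scheme.Modules.pullback (f.fiberι (f.base x))).obj F).presheaf.stalk (f.asFiber x))} := by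
  have hEq : {x : X | EGA4.IsEquidimModule ((f.fiber (f.base x)).presheaf.stalk (f.asFiber x)) (((Scheme.Modules.pullback (f.fiberι (f.base x))).obj F).presheaf.stalk (f.asFiber x)) ∧ LocCoh.HasSk k ((f.fiber (f.base x)).presheaf.stalk (f.asFiber x)) (((Scheme.Modules.pullback (f.fiberι (f.base x))).obj F).presheaf.stalk (f.asFiber x))} = setEsk f F k := by
    ext x
    have h := esk_stalk_iff f F hF k (f.base x) (f.asFiber x)
    rw [f.fiberι_asFiber x] at h
    exact h
  rw [hEq]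
  exact isOpen_setEsk f F hF hflat k hk

/-- S5919 -/
theorem s5919 [IsProper f] [LocallyOfFinitePresentation f] (hF : CohB1.IsFP F)
    (hflat : FlatMod.IsFlatOver f F) (k : ℕ) (hk : 1 ≤ k) :
    IsOpen {y : Y | ∀ x : ↥(f.fiber y),
      EGA4.IsEquidimModule ((f.fiber y).presheaf.stalk x) (((Scheme.Modules.pullback (f.fiberι y)).obj F).presheaf.stalk x) ∧
        LocCoh.HasSk k ((f.fiber y).presheaf.stalk x) (((Scheme.Modules.pullback (f.fiberι y)).obj F).presheaf.stalk x)} := by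
  have hopen := isOpen_setEsk f F hF hflat k hk
  have hEq : {y : Y | ∀ x : ↥(f.fiber y),
      EGA4.IsEquidimModule ((f.fiber y).presheaf.stalk x) (((Scheme.Modules.pullback (f.fiberι y)).obj F).presheaf.stalk x) ∧
        LocCoh.HasSk k ((f.fiber y).presheaf.stalk x) (((Scheme.Modules.pullback (f.fiberι y)).obj F).presheaf.stalk x)} =
      (f.base '' (setEsk f F k)ᶜ)ᶜ := by
    ext y
    simp only [Set.mem_ofPred_eq, Set.mem_compl_iff, Set.mem_image, not_exists, not_and]
    constructor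
    · intro h x hx hfx
      apply hx
      obtain ⟨z, rfl⟩ := exists_fibre_point f y x hfx
      exact (esk_stalk_iff f F hF k y z).mp (h z)
    · intro h z
      rw [esk_stalk_iff f F hF k y z]
      by_contra hc
      exact h (f.fiberι y z) hc (apply_fiberι' f y z)
  rw [hEq]
  exact isOpen_compl_iff.mpr ((Scheme.Hom.isClosedMap f) _ (isClosed_compl_iff.mpr hopen))

end Final

end Groth.Agent.Helper5.FibMod
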