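import Mathlib
import Groth.Prelude
import Groth.Agent.Helper5.FibMod2H
import Groth.Agent.Helper5.FibModP
import Groth.Agent.Helper5.FibModX

/-!
# FibMod2I: local constructibility of the rectified depth of the fibres of a finitely presented
module (S5914)
-/

set_option autoImplicit false
set_option linter.unusedSectionVars false
set_option linter.unusedVariables false
set_option linter.style.haveILetI false
universe u
open CategoryTheory CategoryTheory.Limits AlgebraicGeometry TopologicalSpace Topology TensorProduct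
open IsLocalRing

namespace Groth.Agent.Helper5.FibMod

open Groth.Agent.Helper1 Groth.Agent.Helper2 Groth.Agent.Helper5.FibPd

section Geom

variable {X Y : Scheme.{u}} (f : X ⟶ Y) (F : X.Modules)

set_option maxHeartbeats 1600000 in
/-- **local constructibility of the level sets of the rectified depth** -/
theorem lc_rectAt [LocallyOfFinitePresentation f] [Coh.IsQCoh F] (hF : CohB1.IsFP F)
    (t : WithBot ℕ∞) : IsLocallyConstructible {x : X | rectAt f F x = t} := by
  haveI : SheafOfModules.IsFinitePresentation (R := X.ringCatSheaf) F := hF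
  haveI : F.IsQuasicoherent := inferInstance
  intro x
  obtain ⟨Vo, hVo, Uo, hUo, e, hxU, -⟩ := exists_chart f x Set.univ isOpen_univ (Set.mem_univ x)
  letI algAB : Algebra Γ(Y, Vo) Γ(X, Uo) := (f.appLE Vo Uo e).hom.toAlgebra
  haveI : Algebra.FinitePresentation Γ(Y, Vo) Γ(X, Uo) :=
    RingHom.finitePresentation_algebraMap.1 <|
      HasRingHomProperty.appLE (P := @LocallyOfFinitePresentation) f inferInstance ⟨Vo, hVo⟩
        ⟨Uo, hUo⟩ e
  haveI : Module.FinitePresentation Γ(X, Uo) Γ(F, Uo) :=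
    Groth.Agent.Helper4.FPGlue.fp_sections F hF hUo
  have hT := constr_eq Γ(Y, Vo) Γ(X, Uo) Γ(F, Uo) t
  refine ⟨(Uo : Set X), Uo.isOpen.mem_nhds hxU, Uo.isOpen, ?_⟩
  have hEq : ((Subtype.val : ↥(Uo : Set X) → X) ⁻¹' {x : X | rectAt f F x = t}) =
      (fun y : Uo => hUo.primeIdealOf y) ⁻¹'
        {q : PrimeSpectrum Γ(X, Uo) | rectB Γ(Y, Vo) Γ(X, Uo) Γ(F, Uo) q = t} := by
    ext y
    simp only [Set.mem_preimage, Set.mem_ofPred_eq]
    rw [rectAt_eq f F hF hUo hVo e y.1 y.2]
    exact Iff.rfl
  rw [hEq]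
  have hfun : (fun y : Uo => hUo.primeIdealOf y) = hUo.isoSpec.hom := rfl
  rw [hfun]
  exact hT.preimage_of_isOpenEmbedding hUo.isoSpec.hom.isOpenEmbedding

/-- S5914 -/
theorem s5914 [LocallyOfFinitePresentation f] [Coh.IsQCoh F] (hF : CohB1.IsFP F) (n : ℕ∞) :
    IsLocallyConstructible {x : X |
      ((CInt.fiberDepth f F x : ℕ∞) : WithBot ℕ∞) +
          topologicalKrullDim ↥(closure ({f.asFiber x} : Set ↥(f.fiber (f.base x)))) =
        ((n : ℕ∞) : WithBot ℕ∞)} :=
  lc_rectAt f F hF ((n : ℕ∞) : WithBot ℕ∞)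

end Geom

end Groth.Agent.Helper5.FibMod
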