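import Mathlib
import Groth.Prelude
import Groth.Agent.Helper5.FibPropC
import Groth.Agent.Helper5.CMSrc4

/-!
# FibPropG: local constructibility of fibrewise properties (no flatness assumed)

Generic version of the argument of `CMSrc2`–`CMSrc4`.
-/

set_option autoImplicit false
set_option linter.style.haveILetI false
set_option linter.unusedSectionVars false
set_option linter.unusedVariables false
universe u

namespace Groth.Agent.Helper5.FibProp

open CategoryTheory CategoryTheory.Limits AlgebraicGeometry TopologicalSpace Topology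
open Groth.Agent.Helper5.CMFib Groth.Agent.Helper5.CMAff Groth.Agent.Helper5.ConsPr
  Groth.Agent.Helper5.ConsLc Groth.Agent.Helper5.FlatCons Groth.Agent.Helper5.CMCons
  Groth.Agent.Helper5.SmCons

variable (Pr : LocProp.{u})

/-- the relation "the target has the property at all points of the image" -/
abbrev PSrc : ∀ ⦃X Y T : Scheme.{u}⦄, (X ⟶ Y) → (Y ⟶ T) → Prop :=
  fun X Y _ f _ => ∀ x : X, Pr.P (Y.presheaf.stalk (f x))

/-- over a one-point integral base the fibre is the whole scheme -/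
theorem fibAt_iff_of_onePoint {Y T : Scheme.{u}} (g : Y ⟶ T) [IsIntegral T] [Subsingleton T]
    (y : Y) : FibAt Pr g y ↔ Pr.P (Y.presheaf.stalk y) := by
  obtain ⟨e⟩ := fibre_stalk_equiv' g y
  have hI : Ideal.map (g.stalkMap y).hom (IsLocalRing.maximalIdeal (T.presheaf.stalk (g y))) = ⊥ := by
    rw [maximalIdeal_stalk_of_onePoint T (g y), Ideal.map_bot]
  let e0 : (Y.presheaf.stalk y ⧸ Ideal.map (g.stalkMap y).hom
      (IsLocalRing.maximalIdeal (T.presheaf.stalk (g y)))) ≃+* Y.presheaf.stalk y :=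
    (Ideal.quotEquivOfEq hI).trans (RingEquiv.quotientBot _)
  haveI : IsLocalRing (Y.presheaf.stalk y ⧸ Ideal.map (g.stalkMap y).hom
      (IsLocalRing.maximalIdeal (T.presheaf.stalk (g y)))) := e0.symm.isLocalRing
  exact (Pr.iso_iff _ _ e.symm).trans (Pr.iso_iff _ _ e0)

theorem P_stalk_congr {Y : Scheme.{u}} {y y' : Y} (h : y = y') :
    Pr.P (Y.presheaf.stalk y) ↔ Pr.P (Y.presheaf.stalk y') := by
  subst h
  exact Iff.rfl

theorem isFieldStableMor_PSrc : ConsProp.IsFieldStableMor (PSrc Pr) := by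
  intro X X' Y Y' T T' f g f' g' eX eY h _ _ _ _ _ _ _ _ sqY sqX
  have hcomm : ∀ x' : X', eY (f' x') = f (eX x') := by
    intro x'
    have h2 := congrArg (fun φ : X' ⟶ Y => φ x') sqX.w
    simp only [Scheme.Hom.comp_apply] at h2
    exact h2.symm
  constructor
  · intro H x'
    rw [← fibAt_iff_of_onePoint Pr g' (f' x'), fibAt_baseChange_iff Pr g g' eY h sqY (f' x'),
      fibAt_iff_of_onePoint Pr g (eY (f' x'))]
    exact (P_stalk_congr Pr (hcomm x')).mpr (H _)
  · intro H x
    haveI : Surjective h := surjective_of_subsingleton h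
    haveI : Surjective eY := MorphismProperty.of_isPullback sqY.flip inferInstance
    haveI : Surjective eX := MorphismProperty.of_isPullback sqX.flip inferInstance
    obtain ⟨x', rfl⟩ := eX.surjective x
    refine (P_stalk_congr Pr (hcomm x')).mp ?_
    rw [← fibAt_iff_of_onePoint Pr g (eY (f' x')),
      ← fibAt_baseChange_iff Pr g g' eY h sqY (f' x'), fibAt_iff_of_onePoint Pr g' (f' x')]
    exact H _

/-- membership in the locus, in terms of points of the source -/
theorem mem_locusMor_PSrc_iff {X Y S : Scheme.{u}} (f : X ⟶ Y) (g : Y ⟶ S) (s : S) :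
    s ∈ ConsProp.locusMor (PSrc Pr) f g ↔ ∀ x : X, g (f x) = s → FibAt Pr g (f x) := by
  constructor
  · rintro hs x rfl
    have h1 := hs ((f ≫ g).asFiber x)
    have h2 : MoreMor.fiberMap f g (g (f x)) ((f ≫ g).asFiber x) = g.asFiber (f x) :=
      fiberMap_asFiber f g x
    exact (P_stalk_congr Pr h2).mp h1
  · intro H x'
    let x : X := (f ≫ g).fiberι s x'
    have hxs : g (f x) = s := by
      have : x ∈ Set.range ((f ≫ g).fiberι s) := ⟨x', rfl⟩
      rw [Scheme.Hom.range_fiberι] at this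
      exact this
    have h1 := Groth.Agent.Helper2.FibFlatDict.fiberMap_fst f g s
    have h2 := congrArg (fun ψ : (f ≫ g).fiber s ⟶ Y => ψ x') h1
    simp only [Scheme.Hom.comp_apply] at h2
    show Pr.P _
    rw [fibre_stalk_iff Pr g s (MoreMor.fiberMap f g s x') (f x) h2]
    exact H x hxs

/-- for a flat `g` the locus is the complement of the image of the preimage of the bad locus -/
theorem locusMor_PSrc_eq {X Y S : Scheme.{u}} (f : X ⟶ Y) (g : Y ⟶ S) [Flat g] :
    ConsProp.locusMor (PSrc Pr) f g =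
      (⇑(f ≫ g) '' (⇑f ⁻¹' {y : Y | (g.stalkMap y).hom.Flat ∧ FibAt Pr g y}ᶜ))ᶜ := by
  ext s
  rw [mem_locusMor_PSrc_iff]
  constructor
  · rintro hs ⟨x, hx, rfl⟩
    exact hx ⟨Flat.stalkMap g (f x), hs x rfl⟩
  · intro hs x hx
    have h1 : (g.stalkMap (f x)).hom.Flat ∧ FibAt Pr g (f x) := by
      by_contra hcon
      exact hs ⟨x, hcon, hx⟩
    exact h1.2

theorem decided_of_flat (hN : RingOpen Pr) {X Y S : Scheme.{u}} (f : X ⟶ Y) (g : Y ⟶ S)
    [IsIntegral S]
    [IsNoetherian S] [LocallyOfFiniteType g] [QuasiCompact g] [LocallyOfFiniteType (f ≫ g)]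
    [QuasiCompact (f ≫ g)] [Flat g] : Decided (PSrc Pr) f g := by
  have hXN1 : IsLocallyNoetherian X := LocallyOfFiniteType.isLocallyNoetherian (f ≫ g)
  have hXN2 : CompactSpace X := QuasiCompact.compactSpace_of_compactSpace (f ≫ g)
  have hXN : IsNoetherian X := {}
  haveI : LocallyOfFinitePresentation g :=
    LocallyOfFinitePresentation.iff_locallyOfFiniteType.mpr inferInstance
  haveI : LocallyOfFinitePresentation (f ≫ g) :=
    LocallyOfFinitePresentation.iff_locallyOfFiniteType.mpr inferInstance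
  apply cons_decide
  rw [locusMor_PSrc_eq Pr f g]
  apply Groth.Agent.Helper5.KLem.isLocallyConstructible_compl
  apply (f ≫ g).isLocallyConstructible_image
  refine (isConstructible_of_isClosed_noeth ?_).isLocallyConstructible
  exact ((isOpen_flat_inter_fibAt Pr hN g).isClosed_compl).preimage f.continuous

theorem isConsMor_PSrc (hN : RingOpen Pr) : ConsProp.IsConsMor (PSrc Pr) := by
  refine ⟨isFieldStableMor_PSrc Pr, ?_⟩
  intro X Y S f g _ _ _ _ _ _
  obtain ⟨U, hUd, hUflat, hUfp⟩ := Groth.Agent.Helper3.RedGF6.main g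
  show Decided (PSrc Pr) f g
  apply decided_of_restrict f g (isFieldStableMor_PSrc Pr) U
  obtain ⟨h1, h2, h3, h4, h5, h6⟩ := restrict_props f g U hUd.nonempty
  exact decided_of_flat Pr hN (f ∣_ (g ⁻¹ᵁ U)) (g ∣_ U)

set_option maxHeartbeats 1000000 in
/-- the quasi-compact quasi-separated case, by the diagonal trick -/
theorem lc_qcqs (hN : RingOpen Pr) {A B : Scheme.{u}} (h : A ⟶ B) [LocallyOfFinitePresentation h]
    [QuasiCompact h] [QuasiSeparated h] :
    IsLocallyConstructible {a : A | FibAt Pr h a} := by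
  let p₁ : pullback h h ⟶ A := pullback.fst h h
  let p₂ : pullback h h ⟶ A := pullback.snd h h
  let δ : A ⟶ pullback h h := pullback.diagonal h
  have hδ2 : δ ≫ p₂ = 𝟙 A := pullback.diagonal_snd h
  have hδ1 : δ ≫ p₁ = 𝟙 A := pullback.diagonal_fst h
  haveI : LocallyOfFinitePresentation p₂ := MorphismProperty.pullback_snd _ _ inferInstance
  haveI : QuasiCompact p₂ := MorphismProperty.pullback_snd _ _ inferInstance
  haveI : QuasiSeparated p₂ := MorphismProperty.pullback_snd _ _ inferInstance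
  haveI : LocallyOfFinitePresentation (δ ≫ p₂) := by rw [hδ2]; infer_instance
  haveI : QuasiCompact (δ ≫ p₂) := by rw [hδ2]; infer_instance
  haveI : QuasiSeparated (δ ≫ p₂) := by rw [hδ2]; infer_instance
  have key := s5880 δ p₂ (isConsMor_PSrc Pr hN)
  have hpt2 : ∀ x : A, p₂ (δ x) = x := by
    intro x
    have h2 := congrArg (fun φ : A ⟶ A => φ x) hδ2
    exact (by simpa only [Scheme.Hom.comp_apply] using h2 : p₂ (δ x) = (𝟙 A :) x)
  have hpt1 : ∀ x : A, p₁ (δ x) = x := by
    intro x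
    have h2 := congrArg (fun φ : A ⟶ A => φ x) hδ1
    exact (by simpa only [Scheme.Hom.comp_apply] using h2 : p₁ (δ x) = (𝟙 A :) x)
  have sq : IsPullback p₁ p₂ h h := IsPullback.of_hasPullback h h
  have hiff : ∀ x : A, FibAt Pr p₂ (δ x) ↔ FibAt Pr h x := by
    intro x
    rw [fibAt_baseChange_iff Pr h p₂ p₁ h sq (δ x), hpt1]
  convert key using 1
  ext a
  rw [mem_locusMor_PSrc_iff]
  constructor
  · intro H x hx
    rw [hpt2] at hx
    subst hx
    exact (hiff x).mpr H
  · intro H
    exact (hiff a).mp (H a (hpt2 a))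

set_option maxHeartbeats 1000000 in
/-- **local constructibility of a fibrewise property** for morphisms locally of finite
presentation -/
theorem lc_fibAt (hN : RingOpen Pr) {X S : Scheme.{u}} (f : X ⟶ S) [LocallyOfFinitePresentation f] :
    IsLocallyConstructible {x : X | FibAt Pr f x} := by
  apply IsLocallyConstructible.of_isOpenCover
    (U := fun i : {p : X.affineOpens × S.affineOpens // p.1.1 ≤ f ⁻¹ᵁ p.2.1} => i.1.1.1)
  · apply IsOpenCover.mk
    rw [eq_top_iff]
    rintro x -
    obtain ⟨_, ⟨V, hV, rfl⟩, hxV, -⟩ :=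
      S.isBasis_affineOpens.exists_subset_of_mem_open (Set.mem_univ (f x)) isOpen_univ
    obtain ⟨_, ⟨U, hU, rfl⟩, hxU, hUV⟩ :=
      X.isBasis_affineOpens.exists_subset_of_mem_open (show x ∈ (f ⁻¹ᵁ V : Set X) from hxV)
        (f ⁻¹ᵁ V).2
    exact Opens.mem_iSup.mpr ⟨⟨(⟨U, hU⟩, ⟨V, hV⟩), hUV⟩, hxU⟩
  · rintro ⟨⟨U, V⟩, hUV⟩
    haveI : IsAffine (U.1 : Scheme.{u}) := U.2
    haveI : IsAffine (V.1 : Scheme.{u}) := V.2
    let h : (U.1 : Scheme.{u}) ⟶ (V.1 : Scheme.{u}) := f.resLE V.1 U.1 hUV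
    have hw : h ≫ V.1.ι = U.1.ι ≫ f := f.resLE_comp_ι hUV
    haveI : LocallyOfFinitePresentation h := IsZariskiLocalAtSource.resLE hUV inferInstance
    have key := lc_qcqs Pr hN h
    have sq : IsPullback (𝟙 (U.1 : Scheme.{u})) h (U.1.ι ≫ f) V.1.ι :=
      IsPullback.of_horiz_isIso_mono ⟨by rw [Category.id_comp, hw]⟩
    have heq : ((U.1.ι : (U.1 : Scheme.{u}) → X) ⁻¹' {x : X | FibAt Pr f x}) =
        {a : (U.1 : Scheme.{u}) | FibAt Pr h a} := by
      ext w
      show FibAt Pr f (U.1.ι w) ↔ FibAt Pr h w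
      rw [fibAt_baseChange_iff Pr (U.1.ι ≫ f) h (𝟙 _) V.1.ι sq w]
      exact (fibAt_openImmersion_comp Pr U.1.ι f w).symm
    rw [← heq] at key
    exact key

end Groth.Agent.Helper5.FibProp
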