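import Mathlib
import Groth.Prelude
import Groth.Agent.Helper5.FibPropE
import Groth.Agent.Helper5.FibPropG

/-!
# FibPropH: local constructibility of the fibrewise codepth and `(S_k)` loci (S3453, S3422)
-/

set_option autoImplicit false
set_option linter.style.haveILetI false
set_option linter.unusedSectionVars false
set_option linter.unusedVariables false
universe u

namespace Groth.Agent.Helper5.FibProp

open CategoryTheory CategoryTheory.Limits AlgebraicGeometry TopologicalSpace Topology
open IsLocalRing

/-- S3422 -/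
theorem s3422 {X S : Scheme.{u}} (f : X ⟶ S)
    [LocallyOfFinitePresentation f] (k : ℕ) :
    Topology.IsLocallyConstructible {x : X |
      LocCoh.HasSk k ((f.fiber (f.base x)).presheaf.stalk (f.asFiber x))
        ((f.fiber (f.base x)).presheaf.stalk (f.asFiber x))} := by
  have h := lc_fibAt (skProp.{u} k) (ringOpen_skProp k) f
  have hEq : {x : X | LocCoh.HasSk k ((f.fiber (f.base x)).presheaf.stalk (f.asFiber x))
      ((f.fiber (f.base x)).presheaf.stalk (f.asFiber x))} =
      {x : X | FibAt (skProp.{u} k) f x} := by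
    ext x
    exact (fibAt_skProp_iff f k x).symm
  rw [hEq]
  exact h

theorem fibAt_codLE_iff {X Y : Scheme.{u}} (f : X ⟶ Y) [LocallyOfFiniteType f] (n : ℕ) (x : X) :
    FibAt (codLE.{u} n) f x ↔
      ringKrullDim ((f.fiber (f.base x)).presheaf.stalk (f.asFiber x)) ≤
        ((LocCoh.depth ((f.fiber (f.base x)).presheaf.stalk (f.asFiber x))
          ((f.fiber (f.base x)).presheaf.stalk (f.asFiber x)) : ℕ∞) : WithBot ℕ∞) + n := by
  show CodLE n ((f.fiber (f.base x)).presheaf.stalk (f.asFiber x)) ↔ _
  unfold CodLE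
  constructor
  · exact fun h => h.2
  · exact fun h => ⟨noeth_fibre_stalk f _ _, h⟩

/-- S3453 -/
theorem s3453 {X S : Scheme.{u}} (f : X ⟶ S)
    [LocallyOfFinitePresentation f] (n : ℕ) :
    Topology.IsLocallyConstructible {x : X |
      ringKrullDim ((f.fiber (f.base x)).presheaf.stalk (f.asFiber x)) =
        ((LocCoh.depth ((f.fiber (f.base x)).presheaf.stalk (f.asFiber x)) ((f.fiber (f.base x)).presheaf.stalk (f.asFiber x)) : ℕ∞) : WithBot ℕ∞) + n} := by
  have key : ∀ x : X, ∃ a d : ℕ,
      ringKrullDim ((f.fiber (f.base x)).presheaf.stalk (f.asFiber x)) = (a : WithBot ℕ∞) ∧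
      LocCoh.depth ((f.fiber (f.base x)).presheaf.stalk (f.asFiber x))
        ((f.fiber (f.base x)).presheaf.stalk (f.asFiber x)) = (d : ℕ∞) ∧ d ≤ a := by
    intro x
    haveI := noeth_fibre_stalk f (f.base x) (f.asFiber x)
    exact exists_dim_depth _
  rcases n with _ | m
  · have h := lc_fibAt (codLE.{u} 0) (ringOpen_codLE 0) f
    have hEq : {x : X | ringKrullDim ((f.fiber (f.base x)).presheaf.stalk (f.asFiber x)) =
        ((LocCoh.depth ((f.fiber (f.base x)).presheaf.stalk (f.asFiber x)) ((f.fiber (f.base x)).presheaf.stalk (f.asFiber x)) : ℕ∞) : WithBot ℕ∞) + (0 : ℕ)} =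
        {x : X | FibAt (codLE.{u} 0) f x} := by
      ext x
      rw [Set.mem_ofPred_eq, Set.mem_ofPred_eq, fibAt_codLE_iff]
      obtain ⟨a, d, ha, hd, hda⟩ := key x
      rw [ha, hd]
      constructor
      · intro h1
        have : a = d + 0 := by exact_mod_cast h1
        have h2 : a ≤ d + 0 := by omega
        exact_mod_cast h2
      · intro h1
        have : a ≤ d + 0 := by exact_mod_cast h1
        have h2 : a = d + 0 := by omega
        exact_mod_cast h2
    rw [hEq]
    exact h
  · have h1 := lc_fibAt (codLE.{u} (m + 1)) (ringOpen_codLE (m + 1)) f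
    have h2 := lc_fibAt (codLE.{u} m) (ringOpen_codLE m) f
    have hEq : {x : X | ringKrullDim ((f.fiber (f.base x)).presheaf.stalk (f.asFiber x)) =
        ((LocCoh.depth ((f.fiber (f.base x)).presheaf.stalk (f.asFiber x)) ((f.fiber (f.base x)).presheaf.stalk (f.asFiber x)) : ℕ∞) : WithBot ℕ∞) + ((m + 1 : ℕ))} =
        {x : X | FibAt (codLE.{u} (m + 1)) f x} ∩ {x : X | FibAt (codLE.{u} m) f x}ᶜ := by
      ext x
      rw [Set.mem_inter_iff, Set.mem_compl_iff, Set.mem_ofPred_eq, Set.mem_ofPred_eq,
        Set.mem_ofPred_eq, fibAt_codLE_iff, fibAt_codLE_iff]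
      obtain ⟨a, d, ha, hd, hda⟩ := key x
      rw [ha, hd]
      constructor
      · intro h3
        have : a = d + (m + 1) := by exact_mod_cast h3
        refine ⟨?_, ?_⟩
        · have h4 : a ≤ d + (m + 1) := by omega
          exact_mod_cast h4
        · intro h5
          have h6 : a ≤ d + m := by exact_mod_cast h5
          omega
      · rintro ⟨h3, h4⟩
        have h5 : a ≤ d + (m + 1) := by exact_mod_cast h3
        have h6 : ¬ a ≤ d + m := by
          intro h7
          apply h4
          exact_mod_cast h7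
        have h8 : a = d + (m + 1) := by omega
        exact_mod_cast h8
    rw [hEq]
    exact h1.inter (Groth.Agent.Helper5.KLem.isLocallyConstructible_compl h2)

end Groth.Agent.Helper5.FibProp
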