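import Mathlib
import Groth.Prelude.Def_FlatCA
import Groth.Agent.Helper3.SuppBC
import Groth.Agent.Helper5.FibAss1

set_option autoImplicit false
universe u
open TensorProduct

namespace Groth.Agent.Helper5.FibSupp

attribute [local instance] Algebra.TensorProduct.rightAlgebra

variable {A B : Type u} [CommRing A] [CommRing B] [Algebra A B]

/-- in a Noetherian target, the extension of an ideal is the extension of a finitely generated
subideal. -/
theorem exists_fg_le_map_eq {B F : Type u} [CommRing B] [CommRing F] [IsNoetherianRing F]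
    (φ : B →+* F) (I : Ideal B) : ∃ J : Ideal B, J.FG ∧ J ≤ I ∧ J.map φ = I.map φ := by
  classical
  have hfg : (Ideal.span (φ '' (I : Set B))).FG := IsNoetherian.noetherian _
  obtain ⟨s', hs', hspan⟩ := (Submodule.fg_span_iff_fg_span_finset_subset _).mp hfg
  obtain ⟨T, hT, hTs⟩ := Finset.subset_set_image_iff.mp hs'
  refine ⟨Ideal.span (T : Set B), ⟨T, rfl⟩, Ideal.span_le.mpr hT, ?_⟩
  rw [Ideal.map_span, Ideal.map]
  show _ = Submodule.span F (φ '' (I : Set B))
  rw [hspan, ← hTs, Finset.coe_image]

theorem s1276 [Algebra.FiniteType A B]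
    (N : Type u) [AddCommGroup N] [Module B N] [Module A N] [IsScalarTower A B N] [Module.Finite B N] (p : Ideal A) [p.IsPrime] :
    ∃ J : Ideal B, J.FG ∧ J ≤ Module.annihilator B N ∧
      ∀ x : PrimeSpectrum (p.Fiber B), FlatCA.fiberIdeal p J ≤ x.asIdeal ↔ x ∈ Module.support (p.Fiber B) (FlatCA.fiberMod p B N) := by
  haveI : IsNoetherianRing (p.Fiber B) := FibAss.isNoetherianRing_fiber p
  obtain ⟨J, hJfg, hJle, hJmap⟩ := exists_fg_le_map_eq
    (Algebra.TensorProduct.includeRight (R := A) (A := p.ResidueField) (B := B)).toRingHom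
    (Module.annihilator B N)
  refine ⟨J, hJfg, hJle, fun x => ?_⟩
  have h1 : x ∈ Module.support (p.Fiber B) (FlatCA.fiberMod p B N) ↔
      x.comap (algebraMap B (p.Fiber B)) ∈ Module.support B N :=
    Helper3.SuppBC.mem_support_baseChange_iff (A := B) (B := p.Fiber B) (M := N) x
  rw [h1, Module.support_eq_zeroLocus, PrimeSpectrum.mem_zeroLocus]
  unfold FlatCA.fiberIdeal
  rw [hJmap, Ideal.map_le_iff_le_comap]
  rfl

end Groth.Agent.Helper5.FibSupp
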