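import Mathlib
import Groth.Prelude
import Groth.Agent.Helper5.FibMod2D

/-!
# RelAssR1: associated points of the fibres of a module, ring level
-/

set_option autoImplicit false
set_option linter.unusedSectionVars false
set_option linter.unusedVariables false
set_option linter.style.haveILetI false
universe u
open CategoryTheory TensorProduct IsLocalRing AlgebraicGeometry

namespace Groth.Agent.Helper5.RelAssR

open Groth.Agent.Helper5.FibMod Groth.Agent.Helper5.FibPd

attribute [local instance] Algebra.TensorProduct.rightAlgebra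

/-- the property "the maximal ideal is an associated prime" -/
noncomputable def assP : LocModIso.{u} where
  P R _ _ N _ _ := IsAssociatedPrime (maximalIdeal R) N
  iso R R' _ _ _ _ N N' _ _ _ _ e eN h hP := by
    obtain ⟨hp, x, hx⟩ := hP
    refine ⟨inferInstance, eN x, ?_⟩
    ext r'
    obtain ⟨r, rfl⟩ := e.surjective r'
    have h1 : e r ∈ maximalIdeal R' ↔ r ∈ maximalIdeal R := by
      rw [mem_maximalIdeal, mem_maximalIdeal, mem_nonunits_iff, mem_nonunits_iff]
      exact not_congr (isUnit_map_iff e r)
    rw [h1, hx, Ideal.mem_radical_iff, Ideal.mem_radical_iff]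
    refine exists_congr fun n => ?_
    rw [Submodule.mem_colon_singleton, Submodule.mem_colon_singleton, Submodule.mem_bot,
      Submodule.mem_bot, ← map_pow, ← h, map_eq_zero_iff eN eN.injective]

/-- associated primes and localization at the prime -/
theorem max_mem_ass_loc_iff (R : Type u) [CommRing R] [IsNoetherianRing R] (Q : Ideal R)
    [Q.IsPrime] (N : Type u) [AddCommGroup N] [Module R N] :
    IsAssociatedPrime (maximalIdeal (Localization.AtPrime Q)) (LocalizedModule Q.primeCompl N) ↔
      Q ∈ associatedPrimes R N := by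
  have h := Module.associatedPrimes.preimage_comap_associatedPrimes_eq_associatedPrimes_of_isLocalizedModule
    Q.primeCompl (Localization.AtPrime Q) (LocalizedModule.mkLinearMap Q.primeCompl N)
  show maximalIdeal (Localization.AtPrime Q) ∈ associatedPrimes _ _ ↔ _
  rw [← h, Set.mem_preimage]
  have h2 : Ideal.comap (algebraMap R (Localization.AtPrime Q))
      (maximalIdeal (Localization.AtPrime Q)) = Q := Localization.AtPrime.under_maximalIdeal
  rw [h2]

section Ring

variable (A B : Type u) [CommRing A] [CommRing B] [Algebra A B]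
  (M : Type u) [AddCommGroup M] [Module B M]

/-- `q` is an associated point of the fibre module through `q` -/
def assAt (q : PrimeSpectrum B) : Prop :=
  assP.P (EGA4.FibLocRing A B q.asIdeal) ((EGA4.FibLocRing A B q.asIdeal) ⊗[B] M)

variable [Algebra.FiniteType A B]

set_option maxHeartbeats 1600000 in
/-- associated points of the fibre, in terms of the fibre ring -/
theorem assAt_fibPt_iff (p : PrimeSpectrum A) (Q : PrimeSpectrum (p.asIdeal.Fiber B)) :
    assAt A B M (fibPt A B p Q) ↔
      Q.asIdeal ∈ associatedPrimes (p.asIdeal.Fiber B) ((p.asIdeal.Fiber B) ⊗[B] M) := by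
  haveI := p.2
  haveI := Q.2
  haveI : IsNoetherianRing (p.asIdeal.Fiber B) :=
    Algebra.FiniteType.isNoetherianRing p.asIdeal.ResidueField _
  unfold assAt
  rw [← assP.tensor_algEquiv B (Localization.AtPrime Q.asIdeal) _
    (fibLocAlgEquiv A B p.asIdeal Q.asIdeal (fibPt A B p Q).asIdeal rfl) M]
  rw [← locTensor_iff assP B (p.asIdeal.Fiber B) Q.asIdeal M]
  exact max_mem_ass_loc_iff (p.asIdeal.Fiber B) Q.asIdeal ((p.asIdeal.Fiber B) ⊗[B] M)

set_option maxHeartbeats 1600000 in
/-- existence of an associated point of the fibre over `p` in `V(J)`, in terms of elements of the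
fibre module killed by `J` -/
theorem exists_ass_iff (J : Ideal B) (p : PrimeSpectrum A) :
    (∃ q : PrimeSpectrum B, PrimeSpectrum.comap (algebraMap A B) q = p ∧ J ≤ q.asIdeal ∧
      assAt A B M q) ↔
    ∃ n : (p.asIdeal.Fiber B) ⊗[B] M, n ≠ 0 ∧ ∀ g ∈ J, g • n = 0 := by
  haveI := p.2
  haveI : IsNoetherianRing (p.asIdeal.Fiber B) :=
    Algebra.FiniteType.isNoetherianRing p.asIdeal.ResidueField _
  constructor
  · rintro ⟨q, rfl, hJ, hass⟩
    rw [← fibPt_fibQ A B q, assAt_fibPt_iff] at hass
    obtain ⟨hprime, x, hx⟩ := (isAssociatedPrime_iff).mp hass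
    refine ⟨x, ?_, fun g hg => ?_⟩
    · rintro rfl
      apply hprime.ne_top
      rw [hx, Ideal.eq_top_iff_one, Submodule.mem_colon_singleton, smul_zero]
      exact Submodule.zero_mem _
    · have h1 : g ∈ (fibPt A B (PrimeSpectrum.comap (algebraMap A B) q) (fibQ A B q)).asIdeal := by
        rw [fibPt_fibQ]; exact hJ hg
      have h2 : algebraMap B ((PrimeSpectrum.comap (algebraMap A B) q).asIdeal.Fiber B) g ∈
          (fibQ A B q).asIdeal := h1
      rw [hx, Submodule.mem_colon_singleton, Submodule.mem_bot, algebraMap_smul] at h2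
      exact h2
  · rintro ⟨n, hn, hJ⟩
    obtain ⟨P, hP, hle⟩ := exists_le_isAssociatedPrime_of_isNoetherianRing
      (p.asIdeal.Fiber B) n hn
    haveI := hP.isPrime
    refine ⟨fibPt A B p ⟨P, hP.isPrime⟩, fibPt_base A B p _, fun g hg => ?_,
      (assAt_fibPt_iff A B M p ⟨P, hP.isPrime⟩).mpr hP⟩
    show algebraMap B (p.asIdeal.Fiber B) g ∈ P
    apply hle
    rw [Submodule.mem_colon_singleton, Submodule.mem_bot, algebraMap_smul]
    exact hJ g hg

end Ring

end Groth.Agent.Helper5.RelAssR
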