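import Mathlib
import Groth.Prelude
import Groth.Agent.Helper5.RelAssR1
import Groth.Agent.Helper2.FibExC11

/-!
# RelAssR2: elements of the fibre modules killed by finitely many elements, and base change of the
map `m ↦ (g j • m)_j`
-/

set_option autoImplicit false
set_option linter.unusedSectionVars false
set_option linter.unusedVariables false
set_option linter.style.haveILetI false
universe u
open CategoryTheory TensorProduct IsLocalRing AlgebraicGeometry

namespace Groth.Agent.Helper5.RelAssR

open Groth.Agent.Helper5.FibMod Groth.Agent.Helper5.FibPd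

attribute [local instance] Algebra.TensorProduct.rightAlgebra

section Ring

variable (A B : Type u) [CommRing A] [CommRing B] [Algebra A B]
  (M : Type u) [AddCommGroup M] [Module B M] [Module A M] [IsScalarTower A B M]

/-- the map `m ↦ (g j • m)_j` -/
def vmap {r : ℕ} (g : Fin r → B) : M →ₗ[B] (Fin r → M) :=
  LinearMap.pi (fun j => g j • LinearMap.id)

@[simp] theorem vmap_apply {r : ℕ} (g : Fin r → B) (m : M) (j : Fin r) :
    vmap B M g m j = g j • m := rfl

/-- multiplication by `b` on `κ ⊗ M` -/
noncomputable def mulK (κ : Type u) [CommRing κ] [Algebra A κ] (b : B) : κ ⊗[A] M →ₗ[κ] κ ⊗[A] M :=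
  ((b • (LinearMap.id : M →ₗ[B] M)).restrictScalars A).baseChange κ

theorem mulK_tmul (κ : Type u) [CommRing κ] [Algebra A κ] (b : B) (k : κ) (m : M) :
    mulK A B M κ b (k ⊗ₜ m) = k ⊗ₜ (b • m) := rfl

set_option maxHeartbeats 1600000 in
/-- the kernel of the base change of `vmap` -/
theorem vmap_baseChange_eq_zero_iff (κ : Type u) [CommRing κ] [Algebra A κ] {r : ℕ}
    (g : Fin r → B) (y : κ ⊗[A] M) :
    ((vmap B M g).restrictScalars A).baseChange κ y = 0 ↔ ∀ j, mulK A B M κ (g j) y = 0 := by
  classical
  have hcomp : ∀ j, (LinearMap.proj j : (Fin r → κ ⊗[A] M) →ₗ[κ] κ ⊗[A] M) ∘ₗ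
      (TensorProduct.piRight A κ κ (fun _ : Fin r => M)).toLinearMap ∘ₗ
        (((vmap B M g).restrictScalars A).baseChange κ) = mulK A B M κ (g j) := by
    intro j
    apply TensorProduct.AlgebraTensorModule.curry_injective
    ext m
    simp [mulK_tmul]
  constructor
  · intro h j
    rw [← hcomp j]
    simp [h]
  · intro h
    apply (TensorProduct.piRight A κ κ (fun _ : Fin r => M)).injective
    rw [map_zero]
    funext j
    have := h j
    rw [← hcomp j] at this
    exact this

set_option maxHeartbeats 1600000 in
/-- compatibility of the identification of the fibre module with the action of `B` -/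
theorem cancel_smul (p : PrimeSpectrum A) (b : B) (n : (p.asIdeal.Fiber B) ⊗[B] M) :
    Algebra.IsPushout.cancelBaseChange A p.asIdeal.ResidueField B (p.asIdeal.Fiber B) M (b • n) =
      mulK A B M p.asIdeal.ResidueField b
        (Algebra.IsPushout.cancelBaseChange A p.asIdeal.ResidueField B (p.asIdeal.Fiber B) M n) := by
  set c := Algebra.IsPushout.cancelBaseChange A p.asIdeal.ResidueField B (p.asIdeal.Fiber B) M
    with hc
  have key : ∀ y : p.asIdeal.ResidueField ⊗[A] M,
      c.symm (mulK A B M p.asIdeal.ResidueField b y) = b • c.symm y := by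
    intro y
    induction y using TensorProduct.induction_on with
    | zero => simp
    | add x y hx hy => rw [map_add, map_add, hx, hy, map_add, smul_add]
    | tmul k m =>
      rw [mulK_tmul, hc, Algebra.IsPushout.cancelBaseChange_symm_tmul,
        Algebra.IsPushout.cancelBaseChange_symm_tmul, TensorProduct.tmul_smul]
  have := key (c n)
  rw [LinearEquiv.symm_apply_apply] at this
  rw [← this, LinearEquiv.apply_symm_apply]

set_option maxHeartbeats 1600000 in
/-- injectivity of the base change of `vmap` to the residue field, in terms of the fibre module -/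
theorem injective_vmap_iff {r : ℕ} (g : Fin r → B) (p : PrimeSpectrum A) :
    Function.Injective (((vmap B M g).restrictScalars A).baseChange p.asIdeal.ResidueField) ↔
      ∀ n : (p.asIdeal.Fiber B) ⊗[B] M, (∀ j, g j • n = 0) → n = 0 := by
  set c := Algebra.IsPushout.cancelBaseChange A p.asIdeal.ResidueField B (p.asIdeal.Fiber B) M
    with hc
  rw [injective_iff_map_eq_zero]
  constructor
  · intro h n hn
    have h1 := h (c n) (by
      rw [vmap_baseChange_eq_zero_iff]
      intro j
      rw [hc, ← cancel_smul, hn j, map_zero])
    exact c.map_eq_zero_iff.mp h1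
  · intro h y hy
    rw [vmap_baseChange_eq_zero_iff] at hy
    have h1 : c.symm y = 0 := by
      apply h
      intro j
      apply c.injective
      rw [hc, cancel_smul, ← hc, LinearEquiv.apply_symm_apply, hy j, map_zero]
    exact c.symm.map_eq_zero_iff.mp h1

variable [Algebra.FiniteType A B]

/-- existence of an associated point of the fibre over `p` in `V(g)`, in terms of `vmap` -/
theorem exists_ass_span_iff {r : ℕ} (g : Fin r → B) (p : PrimeSpectrum A) :
    (∃ q : PrimeSpectrum B, PrimeSpectrum.comap (algebraMap A B) q = p ∧
      Ideal.span (Set.range g) ≤ q.asIdeal ∧ assAt A B M q) ↔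
    ¬ Function.Injective (((vmap B M g).restrictScalars A).baseChange p.asIdeal.ResidueField) := by
  rw [exists_ass_iff, injective_vmap_iff]
  push Not
  constructor
  · rintro ⟨n, hn, h⟩
    exact ⟨n, fun j => h (g j) (Ideal.subset_span ⟨j, rfl⟩), hn⟩
  · rintro ⟨n, h, hn⟩
    refine ⟨n, hn, fun x hx => ?_⟩
    induction hx using Submodule.span_induction with
    | mem x hx =>
      obtain ⟨j, rfl⟩ := hx
      exact h j
    | zero => exact zero_smul _ _
    | add x y _ _ hx hy => rw [add_smul, hx, hy, add_zero]
    | smul a x _ hx => rw [smul_eq_mul, mul_smul, hx, smul_zero]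

end Ring

section Cons

variable (A B : Type u) [CommRing A] [CommRing B] [Algebra A B] [Algebra.FinitePresentation A B]
  (M : Type u) [AddCommGroup M] [Module B M] [Module A M] [IsScalarTower A B M]
  [Module.FinitePresentation B M]

/-- **constructibility** of the set of primes over which some associated point of the fibre lies
in `V(g)` -/
theorem isConstructible_exists_ass {r : ℕ} (g : Fin r → B) :
    Topology.IsConstructible {p : PrimeSpectrum A | ∃ q : PrimeSpectrum B,
      PrimeSpectrum.comap (algebraMap A B) q = p ∧
      Ideal.span (Set.range g) ≤ q.asIdeal ∧ assAt A B M q} := by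
  have h := Groth.Agent.Helper2.FibExC.s4796 (R := A) (B := B)
    (0 : PUnit.{u+1} →ₗ[B] M) (vmap B M g)
  rw [← Topology.isConstructible_compl] at h
  convert h using 1
  ext p
  simp only [Set.mem_ofPred_eq, Set.mem_compl_iff]
  rw [exists_ass_span_iff]
  refine not_congr ?_
  constructor
  · intro hinj y
    constructor
    · intro hy
      refine ⟨0, ?_⟩
      rw [map_zero]
      exact (hinj (by rw [hy, map_zero])).symm
    · rintro ⟨x, rfl⟩
      rw [Subsingleton.elim x 0, map_zero, map_zero]
  · intro hex
    rw [injective_iff_map_eq_zero]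
    intro y hy
    obtain ⟨x, rfl⟩ := (hex y).mp hy
    rw [Subsingleton.elim x 0, map_zero]

end Cons

end Groth.Agent.Helper5.RelAssR
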