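import Mathlib
import Groth.Prelude
import Groth.Agent.Helper5.RelAssR2
import Groth.Agent.Helper5.FibModU

/-!
# FibTors1: fibres whose module is torsion, ring level
-/

set_option autoImplicit false
set_option linter.unusedSectionVars false
set_option linter.unusedVariables false
set_option linter.style.haveILetI false
universe u
open CategoryTheory TensorProduct IsLocalRing AlgebraicGeometry

namespace Groth.Agent.Helper5.FibTors

open Groth.Agent.Helper5.FibMod Groth.Agent.Helper5.FibPd Groth.Agent.Helper5.RelAssR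

attribute [local instance] Algebra.TensorProduct.rightAlgebra

/-- the property "the module is torsion" -/
noncomputable def torsIso : LocModIso.{u} where
  P R _ _ N _ _ := Submodule.torsion R N = ⊤
  iso R R' _ _ _ _ N N' _ _ _ _ e eN h hP := by
    rw [eq_top_iff]
    rintro n' -
    obtain ⟨n, rfl⟩ := eN.surjective n'
    have hn : n ∈ Submodule.torsion R N := by rw [hP]; trivial
    rw [Submodule.mem_torsion_iff] at hn ⊢
    obtain ⟨a, ha⟩ := hn
    refine ⟨⟨e a, ?_⟩, ?_⟩
    · have := a.2
      rw [mem_nonZeroDivisors_iff_right] at this ⊢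
      intro x hx
      obtain ⟨y, rfl⟩ := e.surjective x
      rw [← map_mul, map_eq_zero_iff e e.injective] at hx
      rw [this y hx, map_zero]
    · show e a • eN n = 0
      rw [← h, show (a : R) • n = 0 from ha, map_zero]

/-- the property "the ring is a domain" -/
noncomputable def domIso : LocModIso.{u} where
  P R _ _ N _ _ := IsDomain R
  iso R R' _ _ _ _ N N' _ _ _ _ e eN h hP := by
    haveI := hP
    exact e.symm.toMulEquiv.isDomain

section Ring

variable (A B : Type u) [CommRing A] [CommRing B] [Algebra A B] [Algebra.FiniteType A B]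
  (M : Type u) [AddCommGroup M] [Module B M] [Module.Finite B M]

/-- in a local domain, if the maximal ideal is associated to the ring then the ring is a field -/
theorem isField_of_isAssociatedPrime (D : Type u) [CommRing D] [IsLocalRing D] [IsDomain D]
    (N : Type u) [AddCommGroup N] [Module D N] (e : N ≃ₗ[D] D)
    (h : IsAssociatedPrime (maximalIdeal D) N) : IsField D := by
  obtain ⟨hp, x, hx⟩ := h
  rw [IsLocalRing.isField_iff_maximalIdeal_eq]
  by_cases hx0 : x = 0
  · exfalso
    apply hp.ne_top
    rw [hx, hx0, Ideal.radical_eq_top, Ideal.eq_top_iff_one, Submodule.mem_colon_singleton,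
      smul_zero]
    exact Submodule.zero_mem _
  · rw [hx, eq_bot_iff]
    intro d hd
    rw [Ideal.mem_radical_iff] at hd
    obtain ⟨n, hn⟩ := hd
    rw [Submodule.mem_colon_singleton, Submodule.mem_bot] at hn
    have h1 : d ^ n * e x = 0 := by
      rw [← smul_eq_mul, ← map_smul, hn, map_zero]
    have h2 : e x ≠ 0 := fun h0 => hx0 (e.map_eq_zero_iff.mp h0)
    have h3 : d ^ n = 0 := (mul_eq_zero.mp h1).resolve_right h2
    exact pow_eq_zero_iff (n := n) (by
      rintro rfl
      simp at h3) |>.mp h3

set_option maxHeartbeats 3200000 in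
/-- the fibre module is torsion at all points of the fibre over `p` iff no associated point of the
fibre ring over `p` lies in the support of the module -/
theorem tors_iff (p : PrimeSpectrum A)
    (hdom : ∀ q : PrimeSpectrum B, PrimeSpectrum.comap (algebraMap A B) q = p →
      IsDomain (EGA4.FibLocRing A B q.asIdeal)) :
    (∀ q : PrimeSpectrum B, PrimeSpectrum.comap (algebraMap A B) q = p →
      Submodule.torsion (EGA4.FibLocRing A B q.asIdeal)
        ((EGA4.FibLocRing A B q.asIdeal) ⊗[B] M) = ⊤) ↔
    ¬ ∃ q : PrimeSpectrum B, PrimeSpectrum.comap (algebraMap A B) q = p ∧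
      Module.annihilator B M ≤ q.asIdeal ∧ assAt A B B q := by
  constructor
  · rintro h ⟨q, hq, hIq, hass⟩
    haveI := hdom q hq
    have hfield : IsField (EGA4.FibLocRing A B q.asIdeal) :=
      isField_of_isAssociatedPrime _ _
        (TensorProduct.AlgebraTensorModule.rid B (EGA4.FibLocRing A B q.asIdeal)
          (EGA4.FibLocRing A B q.asIdeal)) hass
    haveI : Nontrivial ((EGA4.FibLocRing A B q.asIdeal) ⊗[B] M) :=
      (nontrivial_fibTensor_iff A B M q).mpr (Module.mem_support_iff_of_finite.mpr hIq)
    obtain ⟨n, hn⟩ := exists_ne (0 : (EGA4.FibLocRing A B q.asIdeal) ⊗[B] M)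
    have hnt : n ∈ Submodule.torsion (EGA4.FibLocRing A B q.asIdeal)
        ((EGA4.FibLocRing A B q.asIdeal) ⊗[B] M) := by rw [h q hq]; trivial
    rw [Submodule.mem_torsion_iff] at hnt
    obtain ⟨a, ha⟩ := hnt
    have ha0 : (a : EGA4.FibLocRing A B q.asIdeal) ≠ 0 := nonZeroDivisors.coe_ne_zero a
    obtain ⟨c, hc⟩ := hfield.mul_inv_cancel ha0
    apply hn
    have h1 : (a : EGA4.FibLocRing A B q.asIdeal) • n = 0 := ha
    calc n = (c * (a : EGA4.FibLocRing A B q.asIdeal)) • n := by rw [mul_comm, hc, one_smul]
      _ = 0 := by rw [← smul_smul, h1, smul_zero]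
  · intro h q hq
    subst hq
    haveI := hdom q rfl
    haveI := q.2
    set p := PrimeSpectrum.comap (algebraMap A B) q with hp
    haveI := p.2
    haveI : IsNoetherianRing (p.asIdeal.Fiber B) :=
      Algebra.FiniteType.isNoetherianRing p.asIdeal.ResidueField _
    set Q := fibQ A B q with hQ
    have hQq : fibPt A B p Q = q := fibPt_fibQ A B q
    haveI := Q.2
    obtain ⟨Q₀, hQ₀min, hQ₀le⟩ := Ideal.exists_minimalPrimes_le
      (bot_le : (⊥ : Ideal (p.asIdeal.Fiber B)) ≤ Q.asIdeal)
    haveI hQ₀p : Q₀.IsPrime := hQ₀min.1.1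
    have hann : Module.annihilator (p.asIdeal.Fiber B) (p.asIdeal.Fiber B) = ⊥ := by
      rw [eq_bot_iff]
      intro a ha
      have := Module.mem_annihilator.mp ha (1 : p.asIdeal.Fiber B)
      rw [smul_eq_mul, mul_one] at this
      exact this
    have hass₀ : Q₀ ∈ associatedPrimes (p.asIdeal.Fiber B) (p.asIdeal.Fiber B) := by
      apply Module.associatedPrimes.minimalPrimes_annihilator_subset_associatedPrimes
      rw [hann]
      exact hQ₀min
    have hass₁ : assAt A B B (fibPt A B p ⟨Q₀, hQ₀p⟩) := by
      rw [assAt_fibPt_iff]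
      rw [LinearEquiv.AssociatedPrimes.eq
        (TensorProduct.AlgebraTensorModule.rid B (p.asIdeal.Fiber B) (p.asIdeal.Fiber B))]
      exact hass₀
    have hnot : ¬ Module.annihilator B M ≤ (fibPt A B p ⟨Q₀, hQ₀p⟩).asIdeal := by
      intro hle
      exact h ⟨fibPt A B p ⟨Q₀, hQ₀p⟩, fibPt_base A B p _, hle, hass₁⟩
    obtain ⟨b, hb, hbq⟩ := SetLike.not_le_iff_exists.mp hnot
    have hne : algebraMap B (EGA4.FibLocRing A B q.asIdeal) b ≠ 0 := by
      intro h0
      let E := fibLocAlgEquiv A B p.asIdeal Q.asIdeal q.asIdeal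
        (congrArg PrimeSpectrum.asIdeal hQq)
      have h1 : algebraMap B (Localization.AtPrime Q.asIdeal) b = 0 := by
        have := E.symm.commutes b
        rw [← this, h0, map_zero]
      rw [IsScalarTower.algebraMap_apply B (p.asIdeal.Fiber B) (Localization.AtPrime Q.asIdeal),
        IsLocalization.map_eq_zero_iff Q.asIdeal.primeCompl] at h1
      obtain ⟨t, ht⟩ := h1
      have h2 : (t : p.asIdeal.Fiber B) * algebraMap B (p.asIdeal.Fiber B) b ∈ Q₀ := by
        rw [ht]; exact Q₀.zero_mem
      rcases hQ₀p.mem_or_mem h2 with h3 | h3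
      · exact t.2 (hQ₀le h3)
      · exact hbq h3
    rw [eq_top_iff]
    rintro n -
    rw [Submodule.mem_torsion_iff]
    refine ⟨⟨algebraMap B (EGA4.FibLocRing A B q.asIdeal) b,
      mem_nonZeroDivisors_of_ne_zero hne⟩, ?_⟩
    show algebraMap B (EGA4.FibLocRing A B q.asIdeal) b • n = 0
    rw [algebraMap_smul]
    induction n using TensorProduct.induction_on with
    | zero => exact smul_zero _
    | add x y hx hy => rw [smul_add, hx, hy, add_zero]
    | tmul d m =>
      rw [TensorProduct.smul_tmul', TensorProduct.smul_tmul, Module.mem_annihilator.mp hb m,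
        tmul_zero]

end Ring

end Groth.Agent.Helper5.FibTors
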