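import Mathlib
import Groth.Prelude
import Groth.Agent.Helper5.RelAssR2
import Groth.Agent.Helper5.FibModE
import Groth.Agent.Helper2.RelAssD1

/-!
# RelAssR3: the relative assassin on affine charts
-/

set_option autoImplicit false
set_option linter.unusedSectionVars false
set_option linter.unusedVariables false
set_option linter.style.haveILetI false
universe u
open CategoryTheory CategoryTheory.Limits TensorProduct IsLocalRing AlgebraicGeometry TopologicalSpace

namespace Groth.Agent.Helper5.RelAssR

open Groth.Agent.Helper5.FibMod Groth.Agent.Helper5.FibPd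

section Geom

variable {X Y : Scheme.{u}} (f : X ⟶ Y) (F : X.Modules) [F.IsQuasicoherent]

/-- the relative assassin, on an affine chart -/
theorem mem_relAss_chart_iff {U : X.Opens} (hU : IsAffineOpen U) {V : Y.Opens}
    (hV : IsAffineOpen V) (e : U ≤ f ⁻¹ᵁ V) (x : X) (hxU : x ∈ U) :
    letI : Algebra Γ(Y, V) Γ(X, U) := (f.appLE V U e).hom.toAlgebra
    x ∈ MoreMor.relAss f F ↔
      assAt Γ(Y, V) Γ(X, U) Γ(F, U) (hU.primeIdealOf ⟨x, hxU⟩) := by
  letI : Algebra Γ(Y, V) Γ(X, U) := (f.appLE V U e).hom.toAlgebra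
  rw [Groth.Agent.Helper2.RelAssD.mem_relAss_iff]
  exact fibModAt_iff assP f F hU hV e x hxU

end Geom

end Groth.Agent.Helper5.RelAssR
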