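import Mathlib
import Groth.Prelude
import Groth.Agent.Helper5.RelAssR3
import Groth.Agent.Helper5.FibModT
import Groth.Agent.Helper4.FPGlue

/-!
# RelAssR4: local constructibility of the set of points whose fibre has all its associated points
in a given quasi-compact open (S1370)
-/

set_option autoImplicit false
set_option linter.unusedSectionVars false
set_option linter.unusedVariables false
set_option linter.style.haveILetI false
universe u
open CategoryTheory CategoryTheory.Limits TensorProduct IsLocalRing AlgebraicGeometry TopologicalSpace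
open Topology

namespace Groth.Agent.Helper5.RelAssR

open Groth.Agent.Helper5.FibMod Groth.Agent.Helper5.FibPd

section Geom

variable {X Y : Scheme.{u}} (f : X ⟶ Y) (F : X.Modules) [F.IsQuasicoherent]

/-- the image of a point of a chart -/
theorem map_chart {W : X.Opens} (hW : IsAffineOpen W) {V : Y.Opens} (hV : IsAffineOpen V)
    (e : W ≤ f ⁻¹ᵁ V) (x : X) (hxW : x ∈ W) (y : Y) (hyV : y ∈ V) :
    letI : Algebra Γ(Y, V) Γ(X, W) := (f.appLE V W e).hom.toAlgebra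
    f.base x = y ↔ PrimeSpectrum.comap (algebraMap Γ(Y, V) Γ(X, W)) (hW.primeIdealOf ⟨x, hxW⟩) =
      hV.primeIdealOf ⟨y, hyV⟩ := by
  letI : Algebra Γ(Y, V) Γ(X, W) := (f.appLE V W e).hom.toAlgebra
  have h1 := hW.fromSpec_primeIdealOf ⟨x, hxW⟩
  have h2 := hV.fromSpec_primeIdealOf ⟨y, hyV⟩
  have h3 := map_fromSpec f hW hV e (hW.primeIdealOf ⟨x, hxW⟩)
  rw [h1] at h3
  rw [h3]
  constructor
  · intro h
    apply hV.fromSpec.isOpenEmbedding.injective
    rw [h, h2]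
  · intro h
    rw [h, h2]

set_option maxHeartbeats 1600000 in
/-- the condition of S1370 on a chart -/
theorem chart_cond {W : X.Opens} (hW : IsAffineOpen W) {V : Y.Opens} (hV : IsAffineOpen V)
    (e : W ≤ f ⁻¹ᵁ V) (U : X.Opens) (I : Ideal Γ(X, W))
    (hI : ∀ (x : X) (hxW : x ∈ W), x ∈ U ↔ ¬ I ≤ (hW.primeIdealOf ⟨x, hxW⟩).asIdeal)
    (y : Y) (hyV : y ∈ V) :
    letI : Algebra Γ(Y, V) Γ(X, W) := (f.appLE V W e).hom.toAlgebra
    (∀ x : X, x ∈ W → x ∈ MoreMor.relAss f F → f.base x = y → x ∈ U) ↔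
      ¬ ∃ q : PrimeSpectrum Γ(X, W),
        PrimeSpectrum.comap (algebraMap Γ(Y, V) Γ(X, W)) q = hV.primeIdealOf ⟨y, hyV⟩ ∧
        I ≤ q.asIdeal ∧ assAt Γ(Y, V) Γ(X, W) Γ(F, W) q := by
  letI : Algebra Γ(Y, V) Γ(X, W) := (f.appLE V W e).hom.toAlgebra
  constructor
  · rintro h ⟨q, hq, hIq, hass⟩
    obtain ⟨x, hxW, rfl⟩ := chart_point hW q
    have h1 : x ∈ MoreMor.relAss f F := (mem_relAss_chart_iff f F hW hV e x hxW).mpr hass
    have h2 : f.base x = y := (map_chart f hW hV e x hxW y hyV).mpr hq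
    exact (hI x hxW).mp (h x hxW h1 h2) hIq
  · intro h x hxW hx hfx
    rw [hI x hxW]
    intro hIq
    exact h ⟨hW.primeIdealOf ⟨x, hxW⟩, (map_chart f hW hV e x hxW y hyV).mp hfx, hIq,
      (mem_relAss_chart_iff f F hW hV e x hxW).mp hx⟩

/-- a quasi-compact open of an affine open is the complement of the zero locus of a finitely
generated ideal -/
theorem exists_fg_ideal {W : X.Opens} (hW : IsAffineOpen W) (U : X.Opens)
    (hc : IsCompact ((U : Set X) ∩ W)) :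
    ∃ (r : ℕ) (g : Fin r → Γ(X, W)), ∀ (x : X) (hxW : x ∈ W),
      x ∈ U ↔ ¬ Ideal.span (Set.range g) ≤ (hW.primeIdealOf ⟨x, hxW⟩).asIdeal := by
  have hso : IsOpen (hW.fromSpec ⁻¹' ((U : Set X) ∩ W)) :=
    (U.isOpen.inter W.isOpen).preimage hW.fromSpec.continuous
  have hsc : IsCompact (hW.fromSpec ⁻¹' ((U : Set X) ∩ W)) := by
    rw [hW.fromSpec.isOpenEmbedding.isInducing.isCompact_preimage_iff]
    · exact hc
    · rw [hW.range_fromSpec]
      exact Set.inter_subset_right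
  obtain ⟨I, hIfg, hIs⟩ := (PrimeSpectrum.isCompact_isOpen_iff_ideal
    (s := (hW.fromSpec ⁻¹' ((U : Set X) ∩ W) : Set (PrimeSpectrum Γ(X, W))))).mp ⟨hsc, hso⟩
  obtain ⟨r, g, hg⟩ := Submodule.fg_iff_exists_fin_generating_family.mp hIfg
  subst hg
  refine ⟨r, g, fun x hxW => ?_⟩
  have h1 := hW.fromSpec_primeIdealOf ⟨x, hxW⟩
  have h2 : hW.primeIdealOf ⟨x, hxW⟩ ∈
      (hW.fromSpec ⁻¹' ((U : Set X) ∩ W) : Set (PrimeSpectrum Γ(X, W))) ↔ x ∈ U := by
    rw [Set.mem_preimage, h1]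
    exact ⟨fun h => h.1, fun h => ⟨h, hxW⟩⟩
  rw [← h2, ← hIs, Set.mem_compl_iff, PrimeSpectrum.mem_zeroLocus]
  exact Iff.rfl

/-- the constructible subset of the base attached to a chart and finitely many functions -/
def consSet {W : X.Opens} {V : Y.Opens} (e : W ≤ f ⁻¹ᵁ V) {r : ℕ} (g : Fin r → Γ(X, W)) :
    Set (PrimeSpectrum Γ(Y, V)) :=
  letI : Algebra Γ(Y, V) Γ(X, W) := (f.appLE V W e).hom.toAlgebra
  {p | ∃ q : PrimeSpectrum Γ(X, W),
    PrimeSpectrum.comap (algebraMap Γ(Y, V) Γ(X, W)) q = p ∧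
    Ideal.span (Set.range g) ≤ q.asIdeal ∧ assAt Γ(Y, V) Γ(X, W) Γ(F, W) q}

theorem isConstructible_consSet [LocallyOfFinitePresentation f] (hF : CohB1.IsFP F)
    {W : X.Opens} (hW : IsAffineOpen W) {V : Y.Opens} (hV : IsAffineOpen V)
    (e : W ≤ f ⁻¹ᵁ V) {r : ℕ} (g : Fin r → Γ(X, W)) :
    IsConstructible (consSet f F e g) := by
  letI algAB : Algebra Γ(Y, V) Γ(X, W) := (f.appLE V W e).hom.toAlgebra
  haveI : Algebra.FinitePresentation Γ(Y, V) Γ(X, W) :=
    RingHom.finitePresentation_algebraMap.1 <|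
      HasRingHomProperty.appLE (P := @LocallyOfFinitePresentation) f inferInstance ⟨V, hV⟩
        ⟨W, hW⟩ e
  haveI : Module.FinitePresentation Γ(X, W) Γ(F, W) :=
    Groth.Agent.Helper4.FPGlue.fp_sections F hF hW
  letI modAF : Module Γ(Y, V) Γ(F, W) := Module.compHom _ (f.appLE V W e).hom
  haveI : IsScalarTower Γ(Y, V) Γ(X, W) Γ(F, W) :=
    IsScalarTower.of_algebraMap_smul fun r m => rfl
  exact isConstructible_exists_ass Γ(Y, V) Γ(X, W) Γ(F, W) g

set_option maxHeartbeats 3200000 in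
/-- S1370 -/
theorem s1370 [LocallyOfFinitePresentation f] [QuasiCompact f] [QuasiSeparated f]
    (hF : CohB1.IsFP F) (U : X.Opens) [QuasiCompact (U.ι ≫ f)] :
    IsLocallyConstructible {y : Y | ∀ x ∈ MoreMor.relAss f F, f.base x = y → x ∈ U} := by
  intro y₀
  obtain ⟨_, ⟨V, hV, rfl⟩, hy₀V, -⟩ :=
    Y.isBasis_affineOpens.exists_subset_of_mem_open (Set.mem_univ y₀) isOpen_univ
  let Vo : Y.Opens := V
  have hVo : IsAffineOpen Vo := hV
  have hc : IsCompact (f ⁻¹ᵁ Vo : Set X) := f.isCompact_preimage hVo.isCompact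
  obtain ⟨s, hs, hsU⟩ := isCompact_iff_finite_and_eq_biUnion_affineOpens.mp hc
  have hle : ∀ W ∈ s, (W : X.Opens) ≤ f ⁻¹ᵁ Vo := fun W hW =>
    hsU ▸ le_iSup₂ (f := fun (i : X.affineOpens) (_ : i ∈ s) => (i : X.Opens)) W hW
  have hUV : IsCompact ((U : Set X) ∩ (f ⁻¹ᵁ Vo : Set X)) := by
    have h1 : IsCompact (((U.ι ≫ f) ⁻¹ᵁ Vo : (U : Scheme.{u}).Opens) : Set U) :=
      (U.ι ≫ f).isCompact_preimage hVo.isCompact
    have h2 := h1.image U.ι.continuous
    convert h2 using 1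
    ext x
    constructor
    · rintro ⟨hxU, hxV⟩
      exact ⟨⟨x, hxU⟩, hxV, rfl⟩
    · rintro ⟨z, hz, rfl⟩
      exact ⟨z.2, hz⟩
  have hqs : IsQuasiSeparated (f ⁻¹ᵁ Vo : Set X) :=
    f.isQuasiSeparated_preimage hVo.isQuasiSeparated
  have hUW : ∀ W ∈ s, IsCompact ((U : Set X) ∩ ((W : X.Opens) : Set X)) := by
    intro W hW
    have h1 := hqs ((U : Set X) ∩ (f ⁻¹ᵁ Vo : Set X)) ((W : X.Opens) : Set X)
      Set.inter_subset_right (U.isOpen.inter (f ⁻¹ᵁ Vo).isOpen) hUV (hle W hW)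
      (W : X.Opens).isOpen W.2.isCompact
    convert h1 using 1
    ext x
    constructor
    · rintro ⟨hxU, hxW⟩
      exact ⟨⟨hxU, hle W hW hxW⟩, hxW⟩
    · rintro ⟨⟨hxU, -⟩, hxW⟩
      exact ⟨hxU, hxW⟩
  choose! r g hg using fun (W : X.affineOpens) (hW : W ∈ s) =>
    exists_fg_ideal W.2 U (hUW W hW)
  refine ⟨(Vo : Set Y), Vo.isOpen.mem_nhds hy₀V, Vo.isOpen, ?_⟩
  haveI : Finite s := hs.to_subtype
  have hT : IsConstructible (⋂ W : s, (consSet f F (hle W.1 W.2) (g W.1))ᶜ) :=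
    IsConstructible.iInter fun W =>
      (isConstructible_consSet f F hF W.1.2 hVo (hle W.1 W.2) (g W.1)).compl
  have hEq : ((Subtype.val : ↥(Vo : Set Y) → Y) ⁻¹'
      {y : Y | ∀ x ∈ MoreMor.relAss f F, f.base x = y → x ∈ U}) =
      (fun y : Vo => hVo.primeIdealOf y) ⁻¹'
        (⋂ W : s, (consSet f F (hle W.1 W.2) (g W.1))ᶜ) := by
    ext y
    simp only [Set.mem_preimage, Set.mem_ofPred_eq, Set.mem_iInter, Set.mem_compl_iff]
    constructor
    · intro h W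
      have h1 := (chart_cond f F W.1.2 hVo (hle W.1 W.2) U _ (hg W.1 W.2) y.1 y.2).mp
        (fun x _ hx hfx => h x hx hfx)
      exact h1
    · intro h x hx hfx
      have hxV : x ∈ f ⁻¹ᵁ Vo := by
        show f.base x ∈ Vo
        rw [hfx]
        exact y.2
      rw [hsU] at hxV
      obtain ⟨W, hW, hxW⟩ : ∃ W ∈ s, x ∈ (W : X.Opens) := by
        simpa [Opens.mem_iSup] using hxV
      exact (chart_cond f F W.2 hVo (hle W hW) U _ (hg W hW) y.1 y.2).mpr (h ⟨W, hW⟩)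
        x hxW hx hfx
  rw [hEq]
  have hfun : (fun y : Vo => hVo.primeIdealOf y) = hVo.isoSpec.hom := rfl
  rw [hfun]
  exact hT.preimage_of_isOpenEmbedding hVo.isoSpec.hom.isOpenEmbedding

end Geom

end Groth.Agent.Helper5.RelAssR
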