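import Mathlib
import Groth.Prelude
import Groth.Agent.Helper5.FibTors1
import Groth.Agent.Helper5.RelAssR4

/-!
# FibTors2: local constructibility of the set of points whose fibre module is torsion (S4831)
-/

set_option autoImplicit false
set_option linter.unusedSectionVars false
set_option linter.unusedVariables false
set_option linter.style.haveILetI false
universe u
open CategoryTheory CategoryTheory.Limits TensorProduct IsLocalRing AlgebraicGeometry TopologicalSpace
open Topology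

namespace Groth.Agent.Helper5.FibTors

open Groth.Agent.Helper5.FibMod Groth.Agent.Helper5.FibPd Groth.Agent.Helper5.RelAssR

section Geom

variable {X Y : Scheme.{u}} (f : X ⟶ Y) (F : X.Modules) [F.IsQuasicoherent]

/-- the subset of the base attached to a chart: the primes over which some associated point of the
fibre ring lies in the support of the module -/
def badSet {W : X.Opens} {V : Y.Opens} (e : W ≤ f ⁻¹ᵁ V) : Set (PrimeSpectrum Γ(Y, V)) :=
  letI : Algebra Γ(Y, V) Γ(X, W) := (f.appLE V W e).hom.toAlgebra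
  {p | ∃ q : PrimeSpectrum Γ(X, W),
    PrimeSpectrum.comap (algebraMap Γ(Y, V) Γ(X, W)) q = p ∧
    Module.annihilator Γ(X, W) Γ(F, W) ≤ q.asIdeal ∧ assAt Γ(Y, V) Γ(X, W) Γ(X, W) q}

set_option maxHeartbeats 1600000 in
theorem isConstructible_badSet [LocallyOfFiniteType f]
    {W : X.Opens} (hW : IsAffineOpen W) {V : Y.Opens} (hV : IsAffineOpen V)
    [IsNoetherianRing Γ(Y, V)] (e : W ≤ f ⁻¹ᵁ V) :
    IsConstructible (badSet f F e) := by
  letI algAB : Algebra Γ(Y, V) Γ(X, W) := (f.appLE V W e).hom.toAlgebra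
  haveI : Algebra.FiniteType Γ(Y, V) Γ(X, W) :=
    HasRingHomProperty.appLE (P := @LocallyOfFiniteType) f inferInstance ⟨V, hV⟩ ⟨W, hW⟩ e
  haveI : Algebra.FinitePresentation Γ(Y, V) Γ(X, W) :=
    Algebra.FinitePresentation.of_finiteType.mp inferInstance
  haveI : IsNoetherianRing Γ(X, W) := Algebra.FiniteType.isNoetherianRing Γ(Y, V) Γ(X, W)
  have hfg : (Module.annihilator Γ(X, W) Γ(F, W)).FG := IsNoetherian.noetherian _
  obtain ⟨r, g, hg⟩ := Submodule.fg_iff_exists_fin_generating_family.mp hfg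
  have h := isConstructible_exists_ass Γ(Y, V) Γ(X, W) Γ(X, W) g
  convert h using 1
  ext p
  unfold badSet
  simp only [Set.mem_ofPred_eq]
  have hg' : Ideal.span (Set.range g) = Module.annihilator Γ(X, W) Γ(F, W) := hg
  rw [hg']

set_option maxHeartbeats 3200000 in
/-- the condition of S4831 on a chart -/
theorem chart_tors [LocallyOfFiniteType f]
    (hF : SheafOfModules.IsFinitePresentation (R := X.ringCatSheaf) F)
    {W : X.Opens} (hW : IsAffineOpen W) {V : Y.Opens} (hV : IsAffineOpen V)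
    (e : W ≤ f ⁻¹ᵁ V) (s : Y) (hsV : s ∈ V)
    (hint : ∀ z : ↥(f.fiber s), IsDomain ((f.fiber s).presheaf.stalk z)) :
    (∀ z : ↥(f.fiber s), f.fiberι s z ∈ W →
      Submodule.torsion ((f.fiber s).presheaf.stalk z)
        (((Scheme.Modules.pullback (f.fiberι s)).obj F).presheaf.stalk z) = ⊤) ↔
      hV.primeIdealOf ⟨s, hsV⟩ ∉ badSet f F e := by
  letI algAB : Algebra Γ(Y, V) Γ(X, W) := (f.appLE V W e).hom.toAlgebra
  haveI : Algebra.FiniteType Γ(Y, V) Γ(X, W) :=
    HasRingHomProperty.appLE (P := @LocallyOfFiniteType) f inferInstance ⟨V, hV⟩ ⟨W, hW⟩ e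
  haveI : Module.FinitePresentation Γ(X, W) Γ(F, W) :=
    Groth.Agent.Helper4.FPGlue.fp_sections F hF hW
  -- the points of the fibre in the chart and the primes over `p`
  have hpt : ∀ q : PrimeSpectrum Γ(X, W),
      PrimeSpectrum.comap (algebraMap Γ(Y, V) Γ(X, W)) q = hV.primeIdealOf ⟨s, hsV⟩ →
      ∃ (z : ↥(f.fiber s)) (hzW : f.fiberι s z ∈ W),
        hW.primeIdealOf ⟨f.fiberι s z, hzW⟩ = q := by
    intro q hq
    obtain ⟨x, hxW, rfl⟩ := chart_point hW q
    have hfx : f.base x = s := (map_chart f hW hV e x hxW s hsV).mpr hq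
    obtain ⟨z, rfl⟩ := exists_fibre_point f s x hfx
    exact ⟨z, hxW, rfl⟩
  have hover : ∀ (z : ↥(f.fiber s)) (hzW : f.fiberι s z ∈ W),
      PrimeSpectrum.comap (algebraMap Γ(Y, V) Γ(X, W)) (hW.primeIdealOf ⟨f.fiberι s z, hzW⟩) =
        hV.primeIdealOf ⟨s, hsV⟩ :=
    fun z hzW => (map_chart f hW hV e _ hzW s hsV).mp (apply_fiberι' f s z)
  have hdom : ∀ q : PrimeSpectrum Γ(X, W),
      PrimeSpectrum.comap (algebraMap Γ(Y, V) Γ(X, W)) q = hV.primeIdealOf ⟨s, hsV⟩ →
      IsDomain (EGA4.FibLocRing Γ(Y, V) Γ(X, W) q.asIdeal) := by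
    intro q hq
    obtain ⟨z, hzW, rfl⟩ := hpt q hq
    exact (fibre_pair_iff domIso f F s z hW hV e hzW).mp (hint z)
  show _ ↔ ¬ _
  unfold badSet
  simp only [Set.mem_ofPred_eq]
  rw [← tors_iff Γ(Y, V) Γ(X, W) Γ(F, W) (hV.primeIdealOf ⟨s, hsV⟩) hdom]
  constructor
  · intro h q hq
    obtain ⟨z, hzW, rfl⟩ := hpt q hq
    exact (fibre_pair_iff torsIso f F s z hW hV e hzW).mp (h z hzW)
  · intro h z hzW
    exact (fibre_pair_iff torsIso f F s z hW hV e hzW).mpr (h _ (hover z hzW))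

set_option maxHeartbeats 3200000 in
/-- S4831 -/
theorem s4831 [IsLocallyNoetherian Y] [LocallyOfFiniteType f] [QuasiCompact f]
    (hF : CohB1.IsFP F)
    (hint : ∀ (s : Y) (x : ↥(f.fiber s)), IsDomain ((f.fiber s).presheaf.stalk x)) :
    IsLocallyConstructible {s : Y | ∀ x : ↥(f.fiber s),
      Submodule.torsion ((f.fiber s).presheaf.stalk x)
        (((Scheme.Modules.pullback (f.fiberι s)).obj F).presheaf.stalk x) = ⊤} := by
  intro y₀
  obtain ⟨_, ⟨V, hV, rfl⟩, hy₀V, -⟩ :=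
    Y.isBasis_affineOpens.exists_subset_of_mem_open (Set.mem_univ y₀) isOpen_univ
  let Vo : Y.Opens := V
  have hVo : IsAffineOpen Vo := hV
  haveI : IsNoetherianRing Γ(Y, Vo) := IsLocallyNoetherian.component_noetherian ⟨Vo, hVo⟩
  have hc : IsCompact (f ⁻¹ᵁ Vo : Set X) := f.isCompact_preimage hVo.isCompact
  obtain ⟨s, hs, hsU⟩ := isCompact_iff_finite_and_eq_biUnion_affineOpens.mp hc
  have hle : ∀ W ∈ s, (W : X.Opens) ≤ f ⁻¹ᵁ Vo := fun W hW =>
    hsU ▸ le_iSup₂ (f := fun (i : X.affineOpens) (_ : i ∈ s) => (i : X.Opens)) W hW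
  refine ⟨(Vo : Set Y), Vo.isOpen.mem_nhds hy₀V, Vo.isOpen, ?_⟩
  haveI : Finite s := hs.to_subtype
  have hT : IsConstructible (⋂ W : s, (badSet f F (hle W.1 W.2))ᶜ) :=
    IsConstructible.iInter fun W =>
      (isConstructible_badSet f F W.1.2 hVo (hle W.1 W.2)).compl
  have hEq : ((Subtype.val : ↥(Vo : Set Y) → Y) ⁻¹'
      {s : Y | ∀ x : ↥(f.fiber s),
        Submodule.torsion ((f.fiber s).presheaf.stalk x)
          (((Scheme.Modules.pullback (f.fiberι s)).obj F).presheaf.stalk x) = ⊤}) =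
      (fun y : Vo => hVo.primeIdealOf y) ⁻¹'
        (⋂ W : s, (badSet f F (hle W.1 W.2))ᶜ) := by
    ext y
    simp only [Set.mem_preimage, Set.mem_ofPred_eq, Set.mem_iInter, Set.mem_compl_iff]
    constructor
    · intro h W
      exact (chart_tors f F hF W.1.2 hVo (hle W.1 W.2) y.1 y.2 (hint y.1)).mp
        (fun z _ => h z)
    · intro h z
      have hxV : f.fiberι y.1 z ∈ f ⁻¹ᵁ Vo := by
        show f.base (f.fiberι y.1 z) ∈ Vo
        rw [apply_fiberι' f y.1 z]
        exact y.2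
      rw [hsU] at hxV
      obtain ⟨W, hW, hxW⟩ : ∃ W ∈ s, f.fiberι y.1 z ∈ (W : X.Opens) := by
        simpa [Opens.mem_iSup] using hxV
      exact (chart_tors f F hF W.2 hVo (hle W hW) y.1 y.2 (hint y.1)).mpr (h ⟨W, hW⟩) z hxW
  rw [hEq]
  have hfun : (fun y : Vo => hVo.primeIdealOf y) = hVo.isoSpec.hom := rfl
  rw [hfun]
  exact hT.preimage_of_isOpenEmbedding hVo.isoSpec.hom.isOpenEmbedding

end Geom

end Groth.Agent.Helper5.FibTors
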