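import Groth.Agent.Helper5.RelDimSp6
import Groth.Agent.Helper5.FibDim7
import Groth.Agent.Helper5.ProperImg1
import Mathlib

set_option autoImplicit false
set_option linter.style.haveILetI false
set_option linter.unusedSectionVars false
set_option linter.unusedVariables false
universe u
open CategoryTheory CategoryTheory.Limits AlgebraicGeometry Opposite

namespace Groth.Agent.Helper5.FibUsc

open AlgSp Groth.Agent.Helper4 Groth.Agent.Helper5.PtLoc Groth.Agent.Helper5.RelDimSp

variable {S : Scheme.{u}}

theorem lt_succ_iff (a : WithBot ℕ∞) (n : ℕ) :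
    a < ((n + 1 : ℕ) : WithBot ℕ∞) ↔ a ≤ (n : WithBot ℕ∞) := by
  induction a with
  | bot => simp
  | coe a =>
    induction a with
    | top =>
      constructor
      · intro h
        exact absurd h (not_lt.mpr (by exact_mod_cast le_top))
      · intro h
        exact absurd h (not_le.mpr (by exact_mod_cast ENat.natCast_lt_top n))
    | coe m =>
      constructor
      · intro h
        have : m < n + 1 := by exact_mod_cast h
        exact_mod_cast Nat.lt_succ_iff.mp this
      · intro h
        have : m ≤ n := by exact_mod_cast h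
        exact_mod_cast Nat.lt_succ_iff.mpr this

theorem lt_zero_iff (a : WithBot ℕ∞) : a < ((0 : ℕ) : WithBot ℕ∞) ↔ a = ⊥ := by
  induction a with
  | bot => simp
  | coe a =>
    constructor
    · intro h
      have : a < 0 := by exact_mod_cast h
      simp at this
    · intro h
      exact absurd h (by simp)

theorem lt_top_iff (a : WithBot ℕ∞) : a < ((⊤ : ℕ∞) : WithBot ℕ∞) ↔ ∃ n : ℕ, a ≤ (n : WithBot ℕ∞) := by
  induction a with
  | bot => simp
  | coe a =>
    induction a with
    | top =>
      constructor
      · intro h; exact absurd h (lt_irrefl _)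
      · rintro ⟨n, hn⟩
        exact absurd hn (not_le.mpr (by exact_mod_cast ENat.natCast_lt_top n))
    | coe m =>
      constructor
      · intro _; exact ⟨m, le_rfl⟩
      · intro _; exact_mod_cast ENat.natCast_lt_top m


/-- the set of points of the target over which the fibre has dimension `< d` -/
def T {X Y : AlgSp.Space S} (f : X ⟶ Y) (d : WithBot ℕ∞) : Set (Points Y.obj) :=
  {y : AlgSp.Points Y.obj | ∀ (k : AlgSp.FieldPt Y.obj), AlgSp.Points.mk k = y →
      ∀ (Xk : AlgSp.Sp S) (fst : Xk ⟶ X.obj) (snd : Xk ⟶ (AlgSp.yon S).obj k.pt),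
        IsPullback fst snd f.hom k.toHom → AlgSp.dim Xk < d}

theorem s10680 {X Y : AlgSp.Space S} (f : X ⟶ Y) (hf : AlgSp.IsProperMor f.hom)
    (d : WithBot ℕ∞) : IsOpen (T f d) := by
  obtain ⟨-, hft, huc⟩ := hf
  have hcl : IsClosedMap (Points.map f.hom) :=
    Groth.Agent.Helper5.ProperImg.isClosedMap_of_isUnivClosedMor Y.property f.hom huc
  have key := fun y k hk Xk fst snd h =>
    s10678 f hft y k hk Xk fst snd h
  -- successor case
  have hsucc : ∀ n : ℕ, IsOpen (T f ((n + 1 : ℕ) : WithBot ℕ∞)) := by
    intro n
    have hO : IsOpen {x : Points X.obj | HasAtMor (QD fun r => r ≤ (n : WithBot ℕ∞)) f.hom x} :=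
      isOpen_locus_on (etLocalOn_QD _)
        (fun s hs => by
          haveI := hs
          exact Groth.Agent.Helper5.FibDim.isOpen_fibreDimAt_le s _) f hft.1
    have hW := (hcl _ hO.isClosed_compl).isOpen_compl
    convert hW using 1
    ext y
    simp only [T, Set.mem_ofPred_eq, Set.mem_compl_iff, Set.mem_image, not_exists, not_and]
    constructor
    · intro hy x hxO hxy
      obtain ⟨k, hk⟩ := Points.mk_surjective y
      have hsq : IsPullback (pullback.fst f.hom k.toHom) (pullback.snd f.hom k.toHom) f.hom
          k.toHom := IsPullback.of_hasPullback _ _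
      have h1 := hy k hk _ _ _ hsq
      rw [lt_succ_iff] at h1
      exact hxO (((key y k hk _ _ _ hsq).2 n).1 h1 x hxy)
    · intro hy k hk Xk fst snd hsq
      rw [lt_succ_iff]
      refine ((key y k hk _ _ _ hsq).2 n).2 ?_
      intro x hx
      by_contra hxO
      exact hy x hxO hx
  -- zero case
  have hzero : IsOpen (T f ((0 : ℕ) : WithBot ℕ∞)) := by
    have hW := (hcl _ isClosed_univ).isOpen_compl
    convert hW using 1
    ext y
    simp only [T, Set.mem_ofPred_eq, Set.mem_compl_iff, Set.image_univ]
    constructor
    · intro hy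
      obtain ⟨k, hk⟩ := Points.mk_surjective y
      have hsq : IsPullback (pullback.fst f.hom k.toHom) (pullback.snd f.hom k.toHom) f.hom
          k.toHom := IsPullback.of_hasPullback _ _
      have h1 := hy k hk _ _ _ hsq
      rw [lt_zero_iff] at h1
      exact (key y k hk _ _ _ hsq).1.1 h1
    · intro hy k hk Xk fst snd hsq
      rw [lt_zero_iff]
      exact (key y k hk _ _ _ hsq).1.2 hy
  induction d with
  | bot =>
    convert isOpen_empty using 1
    ext y
    simp only [T, Set.mem_ofPred_eq, Set.mem_empty_iff_false, iff_false]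
    intro hy
    obtain ⟨k, hk⟩ := Points.mk_surjective y
    have hsq : IsPullback (pullback.fst f.hom k.toHom) (pullback.snd f.hom k.toHom) f.hom
        k.toHom := IsPullback.of_hasPullback _ _
    exact absurd (hy k hk _ _ _ hsq) (by simp)
  | coe e =>
    induction e with
    | top =>
      have hU : T f ((⊤ : ℕ∞) : WithBot ℕ∞) = ⋃ n : ℕ, T f ((n + 1 : ℕ) : WithBot ℕ∞) := by
        ext y
        simp only [T, Set.mem_ofPred_eq, Set.mem_iUnion]
        constructor
        · intro hy
          obtain ⟨k, hk⟩ := Points.mk_surjective y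
          have hsq : IsPullback (pullback.fst f.hom k.toHom) (pullback.snd f.hom k.toHom) f.hom
              k.toHom := IsPullback.of_hasPullback _ _
          obtain ⟨n, hn⟩ := (lt_top_iff _).1 (hy k hk _ _ _ hsq)
          refine ⟨n, fun k' hk' Xk fst snd hsq' => ?_⟩
          rw [lt_succ_iff]
          exact ((key y k' hk' _ _ _ hsq').2 n).2 (((key y k hk _ _ _ hsq).2 n).1 hn)
        · rintro ⟨n, hn⟩ k hk Xk fst snd hsq
          have := hn k hk Xk fst snd hsq
          rw [lt_succ_iff] at this
          exact (lt_top_iff _).2 ⟨n, this⟩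
      rw [hU]
      exact isOpen_iUnion fun n => hsucc n
    | coe m =>
      cases m with
      | zero => exact hzero
      | succ n => exact hsucc n

end Groth.Agent.Helper5.FibUsc
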