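import Groth.Agent.Helper5.FieldPtCond2
import Mathlib

set_option autoImplicit false
set_option linter.style.haveILetI false
set_option linter.unusedSectionVars false
set_option linter.unusedVariables false
universe u
open CategoryTheory CategoryTheory.Limits AlgebraicGeometry Opposite TopologicalSpace

namespace Groth.Agent.Helper5.FieldPtCond

open AlgSp Groth.Agent.Helper4

set_option backward.isDefEq.respectTransparency.types false in
theorem gen10391 {S : Scheme.{u}} (X : AlgSp.Space S) (hN₀ : IsLocNoethSp X.obj)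
    (hJ : ∀ (V : Over S) (b : (yon S).obj V ⟶ X.obj), RepWith @Etale b → JacobsonSpace ↥V.left)
    (x : AlgSp.Points X.obj) :
    (IsOpen ({x} : Set (AlgSp.Points X.obj)) ↔
        (IsClosed ({x} : Set (AlgSp.Points X.obj)) ∧ ∀ x' : AlgSp.Points X.obj, x' ⤳ x → x' = x)) ∧
      (IsOpen ({x} : Set (AlgSp.Points X.obj)) ↔ AlgSp.HasAt (fun U u => FlatMor.localDim ↥U u = 0) X.obj x) ∧
      (AlgSp.IsDecent X.obj →
        (FlatMor.localDim (AlgSp.Points X.obj) x = 0 ↔ IsOpen ({x} : Set (AlgSp.Points X.obj)))) := by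
  obtain ⟨U, a, hae, has, hUN⟩ := hN₀
  haveI := hUN
  haveI hUJ : JacobsonSpace ↥U.left := hJ U a hae
  have hN : IsLocNoethSp X.obj := ⟨U, a, hae, has, hUN⟩
  have hopenmap := Groth.Agent.Helper5.AlgSpNoeth.isOpenMap_ofPt X.property a hae
  have hsurj := Groth.Agent.Helper5.AlgSpOpen.ofPt_surjective_of_repWith a has
  have hcont : Continuous (Points.ofPt a) := Points.continuous_ofPt a
  obtain ⟨u, rfl⟩ := hsurj x
  have himg : IsOpen ({u} : Set ↥U.left) → IsOpen ({Points.ofPt a u} : Set (Points X.obj)) := by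
    intro hu
    have h3 := hopenmap _ hu
    rwa [Set.image_singleton] at h3
  refine ⟨⟨fun hopen => ⟨?_, ?_⟩, fun ⟨hcl, hgen⟩ => ?_⟩, ⟨fun hopen => ?_, fun hat => ?_⟩,
    fun hd => ⟨fun hdim => ?_, fun hopen => ?_⟩⟩
  · -- closed
    have hq : Topology.IsQuotientMap (Points.ofPt a) := hopenmap.isQuotientMap hcont hsurj
    rw [← hq.isClosed_preimage]
    have hFpt : ∀ w ∈ Points.ofPt a ⁻¹' {Points.ofPt a u},
        IsOpen ({w} : Set ↥U.left) ∧ IsClosed ({w} : Set ↥U.left) := by
      intro w hw
      have hw' : Points.ofPt a w = Points.ofPt a u := hw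
      have h1 : IsOpen ({w} : Set ↥U.left) :=
        isOpen_singleton_chart hN a hae w (by rw [hw']; exact hopen)
      exact ⟨h1, isClosed_singleton_of_isLocallyClosed_singleton h1.isLocallyClosed⟩
    apply isClosed_of_closure_subset
    intro u0 hu0
    obtain ⟨N, hNaff, hu0N⟩ : ∃ V₁ : U.left.Opens, IsAffineOpen V₁ ∧ u0 ∈ V₁ := by
      obtain ⟨_, ⟨V₀, hV₀, rfl⟩, hwV, -⟩ :=
        (U.left.isBasis_affineOpens).exists_subset_of_mem_open (Set.mem_univ u0) isOpen_univ
      exact ⟨V₀, hV₀, hwV⟩
    haveI : IsNoetherianRing Γ(U.left, N) := IsLocallyNoetherian.component_noetherian ⟨N, hNaff⟩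
    haveI : NoetherianSpace ↥N := noetherianSpace_of_isAffineOpen N hNaff
    set F := Points.ofPt a ⁻¹' {Points.ofPt a u} with hF
    have hcomp : IsCompact ((N : Set ↥U.left) ∩ F) :=
      (noetherianSpace_set_iff (N : Set ↥U.left)).1 inferInstance _ Set.inter_subset_left
    haveI : DiscreteTopology ↥((N : Set ↥U.left) ∩ F) := by
      rw [discreteTopology_iff_isOpen_singleton]
      rintro ⟨w, hw⟩
      refine isOpen_induced_iff.2 ⟨{w}, (hFpt w hw.2).1, ?_⟩
      ext z
      simp [Subtype.ext_iff]
    have hfin : ((N : Set ↥U.left) ∩ F).Finite := hcomp.finite ⟨inferInstance⟩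
    have hcl : IsClosed ((N : Set ↥U.left) ∩ F) := by
      have := hfin.isClosed_biUnion (f := fun w => ({w} : Set ↥U.left))
        (fun w hw => (hFpt w hw.2).2)
      rwa [Set.biUnion_of_singleton] at this
    have h1 : u0 ∈ closure ((N : Set ↥U.left) ∩ F) :=
      N.2.inter_closure ⟨hu0N, hu0⟩
    rw [hcl.closure_eq] at h1
    exact h1.2
  · intro x' hx'
    exact hx'.mem_open hopen rfl
  · have hu1 : ∀ u' : ↥U.left, u' ⤳ u → u' = u := by
      intro u' hs
      have h1 : Points.ofPt a u' ⤳ Points.ofPt a u := hs.map hcont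
      have h2 := hgen _ h1
      exact (Groth.Agent.Helper5.Decent4.eq_of_specializes_of_isLocNoethSp hN a hae u u'
        h2.symm hs).symm
    have hu2 : ∀ z : ↥U.left, u ⤳ z → z = u := by
      intro z hs
      have h1 : Points.ofPt a u ⤳ Points.ofPt a z := hs.map hcont
      have h2 : Points.ofPt a z ∈ ({Points.ofPt a u} : Set _) := h1.mem_closed hcl rfl
      exact Groth.Agent.Helper5.Decent4.eq_of_specializes_of_isLocNoethSp hN a hae z u h2 hs
    exact himg (isOpen_singleton_of_isolated U.left u hu1 hu2)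
  · exact ⟨U, a, u, hae, rfl, le_antisymm
      (Groth.Agent.Helper3.RelDivCurve.localDim_le_zero_of_isOpen_singleton u
        (isOpen_singleton_chart hN a hae u hopen)) (localDim_nonneg u)⟩
  · obtain ⟨V, b, v, hb, hv, hg⟩ := hat
    haveI : IsLocallyNoetherian V.left :=
      Groth.Agent.Helper5.NoethChart.isLocallyNoetherian_of_etale_chart hN b hb
    have h1 := Groth.Agent.Helper3.RelDivCurve.isOpen_singleton_of_localDim_le_zero v hg.le
    have h2 := Groth.Agent.Helper5.AlgSpNoeth.isOpenMap_ofPt X.property b hb _ h1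
    rw [Set.image_singleton, hv] at h2
    exact h2
  · obtain ⟨O, hxO, hO⟩ := exists_open_dim_le_zero _ hdim.le
    haveI := Groth.Agent.Helper5.Decent3.t0Space_of_isDecent X.property hd
    have hO' : ∀ x1 ∈ (O : Set (Points X.obj)), ∀ x2 ∈ (O : Set (Points X.obj)),
        x1 ⤳ x2 → x1 = x2 := by
      intro x1 h1 x2 h2 hs
      have : (⟨x1, h1⟩ : ↥(O : Set (Points X.obj))) ⤳ ⟨x2, h2⟩ :=
        (subtype_specializes_iff _ _).2 hs
      exact congrArg Subtype.val (eq_of_specializes_of_dim_le_zero hO this)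
    exact himg (isOpen_singleton_chart_of_open hN a hae _ O.2 hO' u hxO)
  · exact le_antisymm
      (Groth.Agent.Helper3.RelDivCurve.localDim_le_zero_of_isOpen_singleton _ hopen)
      (localDim_nonneg _)

set_option backward.isDefEq.respectTransparency.types false in
theorem gen10392 {S : Scheme.{u}} (X : AlgSp.Space S) (hN₀ : IsLocNoethSp X.obj)
    (hJ : ∀ (V : Over S) (b : (yon S).obj V ⟶ X.obj), RepWith @Etale b → JacobsonSpace ↥V.left)
    [Nonempty (AlgSp.Points X.obj)] :
    (DiscreteTopology (AlgSp.Points X.obj) ↔ AlgSp.dim X.obj = 0) ∧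
      (DiscreteTopology (AlgSp.Points X.obj) → topologicalKrullDim (AlgSp.Points X.obj) = 0) ∧
      (AlgSp.IsDecent X.obj → topologicalKrullDim (AlgSp.Points X.obj) = 0 → DiscreteTopology (AlgSp.Points X.obj)) ∧
      (AlgSp.IsDecent X.obj → Finite (AlgSp.Points X.obj) → AlgSp.dim X.obj = 0) := by
  obtain ⟨U, a, hae, has, hUN⟩ := hN₀
  haveI := hUN
  have hN : IsLocNoethSp X.obj := ⟨U, a, hae, has, hUN⟩
  have hopenmap := Groth.Agent.Helper5.AlgSpNoeth.isOpenMap_ofPt X.property a hae
  have hsurj := Groth.Agent.Helper5.AlgSpOpen.ofPt_surjective_of_repWith a has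
  haveI hUne : Nonempty ↥U.left := by
    obtain ⟨x⟩ := ‹Nonempty (AlgSp.Points X.obj)›
    obtain ⟨u, -⟩ := hsurj x
    exact ⟨u⟩
  -- dimension zero from discreteness of all charts
  have hdim_of : (∀ (V : Over S) (b : (yon S).obj V ⟶ X.obj), RepWith @Etale b →
      DiscreteTopology ↥V.left) → AlgSp.dim X.obj = 0 := by
    intro H
    apply le_antisymm
    · unfold AlgSp.dim
      refine iSup_le fun V => iSup_le fun b => iSup_le fun hb => ?_
      haveI := H V b hb
      exact dim_le_zero_of_discrete _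
    · have h1 : (0 : WithBot ℕ∞) ≤ topologicalKrullDim ↥U.left :=
        Groth.Agent.Helper2.TopDim.dim_nonneg_of_nonempty _
      refine h1.trans ?_
      unfold AlgSp.dim
      exact le_iSup_of_le U (le_iSup_of_le a (le_iSup_of_le hae le_rfl))
  have hdisc_of : (∀ u : ↥U.left, IsOpen ({u} : Set ↥U.left)) →
      DiscreteTopology (AlgSp.Points X.obj) := by
    intro H
    rw [discreteTopology_iff_isOpen_singleton]
    intro x
    obtain ⟨u, rfl⟩ := hsurj x
    have h3 := hopenmap _ (H u)
    rwa [Set.image_singleton] at h3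
  refine ⟨⟨fun hdisc => ?_, fun hdim => ?_⟩, fun hdisc => ?_, fun hd hdim => ?_, fun hd hfin => ?_⟩
  · apply hdim_of
    intro V b hb
    rw [discreteTopology_iff_isOpen_singleton]
    intro v
    exact isOpen_singleton_chart hN b hb v (isOpen_discrete _)
  · apply hdisc_of
    intro u
    apply Groth.Agent.Helper3.RelDivCurve.isOpen_singleton_of_localDim_le_zero
    refine (Groth.Agent.Helper2.TopDim.localDim_le_dim u).trans ?_
    rw [← hdim]
    unfold AlgSp.dim
    exact le_iSup_of_le U (le_iSup_of_le a (le_iSup_of_le hae le_rfl))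
  · exact le_antisymm (dim_le_zero_of_discrete _)
      (Groth.Agent.Helper2.TopDim.dim_nonneg_of_nonempty _)
  · haveI := Groth.Agent.Helper5.Decent3.t0Space_of_isDecent X.property hd
    apply hdisc_of
    intro u
    refine isOpen_singleton_chart_of_open hN a hae Set.univ isOpen_univ ?_ u trivial
    intro x1 _ x2 _ hs
    exact eq_of_specializes_of_dim_le_zero hdim.le hs
  · apply hdim_of
    intro V b hb
    haveI hVN : IsLocallyNoetherian V.left :=
      Groth.Agent.Helper5.NoethChart.isLocallyNoetherian_of_etale_chart hN b hb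
    rw [discreteTopology_iff_isOpen_singleton]
    intro v
    obtain ⟨N, hNaff, hvN⟩ : ∃ V₁ : V.left.Opens, IsAffineOpen V₁ ∧ v ∈ V₁ := by
      obtain ⟨_, ⟨V₀, hV₀, rfl⟩, hwV, -⟩ :=
        (V.left.isBasis_affineOpens).exists_subset_of_mem_open (Set.mem_univ v) isOpen_univ
      exact ⟨V₀, hV₀, hwV⟩
    let N' := AlgSpQC2.opOver V N
    let b' : (yon S).obj N' ⟶ X.obj := (yon S).map (AlgSpQC2.opι V N) ≫ b
    have hb' : RepWith @Etale b' :=
      Groth.Agent.Helper4.AlgSpSrc.repWith_comp _
        ((repWith_yon_map_iff _ _).2 (by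
          show Etale (Scheme.Opens.ι N)
          infer_instance)) hb
    haveI : CompactSpace ↥N'.left := by
      show CompactSpace ↥(N : Scheme)
      exact isCompact_iff_compactSpace.1 hNaff.isCompact
    haveI hfinN : Finite ↥N'.left := by
      have hcover : (Set.univ : Set ↥N'.left) =
          ⋃ x : Points X.obj, Points.ofPt b' ⁻¹' {x} := by
        ext z; simp
      have : (Set.univ : Set ↥N'.left).Finite := by
        rw [hcover]
        apply Set.finite_iUnion
        intro x
        obtain ⟨q, hq, -, hqc⟩ := hd x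
        rw [← hq]
        exact Groth.Agent.Helper5.Decent2.finite_fibre_of_qc_point q hqc b' hb'
      exact Set.finite_univ_iff.1 this
    haveI : JacobsonSpace ↥N'.left := hJ N' b' hb'
    haveI : T1Space ↥N'.left := by
      refine ⟨fun w => ?_⟩
      have hcl : IsClosed (closure ({w} : Set ↥N'.left)) := isClosed_closure
      have hJ := JacobsonSpace.closure_inter_closedPoints hcl
      have hfin : (closure ({w} : Set ↥N'.left) ∩ closedPoints ↥N'.left).Finite := Set.toFinite _
      have hcl2 : IsClosed (closure ({w} : Set ↥N'.left) ∩ closedPoints ↥N'.left) := by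
        have := hfin.isClosed_biUnion (f := fun z => ({z} : Set ↥N'.left))
          (fun z hz => hz.2)
        rwa [Set.biUnion_of_singleton] at this
      rw [hcl2.closure_eq] at hJ
      have hw : w ∈ closure ({w} : Set ↥N'.left) ∩ closedPoints ↥N'.left := by
        rw [hJ]; exact subset_closure rfl
      exact hw.2
    haveI hDN : DiscreteTopology ↥N'.left := inferInstance
    haveI : DiscreteTopology ↥(N : Scheme) := hDN
    have h1 : IsOpen (N.ι '' {(⟨v, hvN⟩ : N.toScheme)}) :=
      N.ι.isOpenEmbedding.isOpenMap _ (isOpen_discrete _)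
    have h2 : (N.ι '' {(⟨v, hvN⟩ : N.toScheme)}) = {v} := by
      ext z
      simp only [Set.mem_image, Set.mem_singleton_iff]
      constructor
      · rintro ⟨y, rfl, rfl⟩; rfl
      · rintro rfl; exact ⟨_, rfl, rfl⟩
    rw [← h2]
    exact h1

end Groth.Agent.Helper5.FieldPtCond
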