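import Groth.Agent.Helper5.QcPt5
import Mathlib

set_option autoImplicit false
universe u

namespace Groth.Agent.Helper5.QcPt

open CategoryTheory CategoryTheory.Limits AlgebraicGeometry Opposite AlgSp Topology
open Groth.Agent.Helper4.AlgSpPtsDesc Groth.Agent.Helper4.AlgSpQC2

variable {S : Scheme.{u}}

/-- S10390 -/
theorem s10390 {X Y : Space S} (f : X ⟶ Y) (r : FieldPt Y.obj) (hm : Mono r.toHom)
    (hq : RepWith @QuasiCompact r.toHom) (Xk : Space S) (fst : Xk ⟶ X)
    (snd : Xk.obj ⟶ (yon S).obj r.pt) (hsq : IsPullback fst.hom snd f.hom r.toHom) :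
    IsEmbedding (Points.map fst.hom) ∧
      Set.range (Points.map fst.hom) = Points.map f.hom ⁻¹' {Points.mk r} := by
  haveI := hm
  have hrpt : ∀ s : Points ((yon S).obj r.pt), Points.map r.toHom s = Points.mk r := by
    intro s
    obtain ⟨s₀, rfl⟩ := (Points.schemeHomeo r.pt).surjective s
    rw [ofPt_eq_map_schemeHomeo]
    exact Points.ofPt_toHom r s₀
  have hrange : Set.range (Points.map fst.hom) = Points.map f.hom ⁻¹' {Points.mk r} := by
    ext x
    constructor
    · rintro ⟨z, rfl⟩
      show Points.map f.hom (Points.map fst.hom z) = Points.mk r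
      rw [← Points.map_comp, hsq.w, Points.map_comp]
      exact hrpt _
    · intro hx
      have hx' : Points.map f.hom x = Points.mk r := hx
      let s₀ : Points ((yon S).obj r.pt) := Points.schemeHomeo r.pt
        (IsLocalRing.closedPoint r.K : ↥(Spec (CommRingCat.of r.K)))
      obtain ⟨z, hz, -⟩ := exists_point_of_isPullback hsq x s₀ (by rw [hx', hrpt])
      exact ⟨z, hz⟩
  haveI hmf : Mono fst.hom := hsq.mono_fst_of_mono
  have hinj : Function.Injective (Points.map fst.hom) :=
    Groth.Agent.Helper4.AlgSpInj.injective_points_of_injective_fieldPts fst.hom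
      (fun K _ str c₁ c₂ h => (cancel_mono fst.hom).1 h)
  refine ⟨⟨?_, hinj⟩, hrange⟩
  -- the inducing property
  obtain ⟨V, ψ, v, -, hψ, hv, hfib⟩ := exists_isolating_chart Y.property r hq
  obtain ⟨U, a, hae, has⟩ := X.property.atlas
  have sq₁ := hψ.rep.isPullback (a ≫ f.hom)
  obtain ⟨g, hg⟩ := (yon S).map_surjective (hψ.rep.fst (a ≫ f.hom))
  rw [← hg] at sq₁
  have hπet : Etale (hψ.rep.snd (a ≫ f.hom)).left := hψ.property _ _ _ sq₁
  clear hg
  generalize hψ.rep.snd (a ≫ f.hom) = π at sq₁ hπet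
  generalize hψ.rep.pullback (a ≫ f.hom) = U' at g π sq₁ hπet
  let a' : (yon S).obj U' ⟶ X.obj := (yon S).map π ≫ a
  have ha' : RepWith @Etale a' :=
    Groth.Agent.Helper4.AlgSpSrc.repWith_comp _ ((repWith_yon_map_iff _ _).2 hπet) hae
  have haw : a' ≫ f.hom = (yon S).map g ≫ ψ := by
    show ((yon S).map π ≫ a) ≫ f.hom = (yon S).map g ≫ ψ
    rw [Category.assoc, ← sq₁.w]
  have sq₄ := hq.rep.isPullback (a' ≫ f.hom)
  obtain ⟨t', ht'⟩ := (yon S).map_surjective (hq.rep.fst (a' ≫ f.hom))
  rw [← ht'] at sq₄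
  clear ht'
  generalize hq.rep.snd (a' ≫ f.hom) = e' at sq₄
  generalize hq.rep.pullback (a' ≫ f.hom) = T' at t' e' sq₄
  have hind : IsInducing e'.left := by
    have sq₄' := sq₄
    rw [haw] at sq₄'
    exact isInducing_of_isolating r hq ψ hψ v hv hfib g t' e' sq₄'
  -- the chart of the fibre
  let b' : (yon S).obj T' ⟶ Xk.obj := hsq.lift ((yon S).map e' ≫ a') ((yon S).map t') (by
    rw [Category.assoc, sq₄.w])
  have hb1 : b' ≫ fst.hom = (yon S).map e' ≫ a' := hsq.lift_fst _ _ _
  have hb2 : b' ≫ snd = (yon S).map t' := hsq.lift_snd _ _ _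
  have sqB : IsPullback b' ((yon S).map e') fst.hom a' := by
    refine IsPullback.of_right ?_ hb1 hsq.flip
    rw [hb2]
    exact sq₄
  have hcart : ∀ (z : Points Xk.obj) (u' : ↥U'.left), Points.map fst.hom z = Points.ofPt a' u' →
      ∃ w : ↥T'.left, Points.ofPt b' w = z ∧ e'.left w = u' := by
    intro z u' h
    have h' : Points.map fst.hom z = Points.map a' (Points.schemeHomeo U' u') := by
      rw [h, ofPt_eq_map_schemeHomeo]
    obtain ⟨pt, hp1, hp2⟩ := exists_point_of_isPullback sqB z _ h'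
    obtain ⟨w, rfl⟩ := (Points.schemeHomeo T').surjective pt
    rw [Points.map_yon_map_apply] at hp2
    refine ⟨w, ?_, (Points.schemeHomeo U').injective hp2⟩
    rw [← hp1, ofPt_eq_map_schemeHomeo]
  have hsurj : Function.Surjective (Points.ofPt b') := by
    intro z
    obtain ⟨u₁, hu₁⟩ := Groth.Agent.Helper5.AlgSpOpen.ofPt_surjective_of_repWith a has
      (Points.map fst.hom z)
    have hz : Points.map f.hom (Points.map fst.hom z) = Points.mk r := by
      have : Points.map fst.hom z ∈ Set.range (Points.map fst.hom) := ⟨z, rfl⟩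
      rw [hrange] at this
      exact this
    obtain ⟨u', -, hu'⟩ := Groth.Agent.Helper5.Decent2.exists_scheme_point_of_isPullback sq₁ v u₁
      (by rw [hv, ← Points.map_ofPt, hu₁, hz])
    obtain ⟨w, hw, -⟩ := hcart z u' (by
      show Points.map fst.hom z = Points.ofPt ((yon S).map π ≫ a) u'
      rw [ofPt_yon_map_comp, hu', hu₁])
    exact ⟨w, hw⟩
  exact isInducing_of_cartesian (fun w => e'.left w) (Points.map fst.hom) (Points.ofPt b')
    (Points.ofPt a') hind (Points.continuous_map fst.hom)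
    (Groth.Agent.Helper5.Decent3.isOpenMap_ofPt X.property a' ha') (Points.continuous_ofPt b') hsurj
    (by
      intro w
      rw [Points.map_ofPt, hb1, ofPt_yon_map_comp])
    hcart

end Groth.Agent.Helper5.QcPt
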