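import Groth.Agent.Helper5.RelDimSp5
import Groth.Agent.Helper5.UnivInj1
import Groth.Agent.Helper2.TopDim
import Groth.Agent.Helper4.AlgSpPtsDesc
import Groth.Agent.Helper4.AlgSpPB
import Mathlib

set_option autoImplicit false
set_option linter.style.haveILetI false
set_option linter.unusedSectionVars false
set_option linter.unusedVariables false
universe u
open CategoryTheory CategoryTheory.Limits AlgebraicGeometry Opposite

namespace Groth.Agent.Helper5.RelDimSp

open AlgSp Groth.Agent.Helper4 Groth.Agent.Helper5.PtLoc Groth.Agent.Helper5.UnivInj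

variable {S : Scheme.{u}}

/-- every point of the spectrum of a field maps to the class of the field point -/
theorem map_toHom_eq {F : Sp S} (k : FieldPt F) (t : Points ((yon S).obj k.pt)) :
    Points.map k.toHom t = Points.mk k := by
  obtain ⟨Ω, _, w, c, rfl⟩ := exists_ptOf t
  obtain ⟨a, rfl⟩ := (yon S).map_surjective (X := Over.mk w) (Y := k.pt) c
  rw [map_ptOf]
  have h1 := ptOf_precomp a k.toHom
  rw [h1]
  unfold ptOf
  apply Points.sound
  rw [AlgSpInj.rel_iff]
  refine ⟨k.K, inferInstance, k.str, 𝟙 _, 𝟙 _, ?_⟩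
  rw [AlgSpInj.toHom_ofHom]
  rfl

theorem dim_eq_bot_iff {F : Sp S} (hF : IsAlgSpace F) : AlgSp.dim F = ⊥ ↔ IsEmpty (Points F) := by
  constructor
  · intro h
    refine ⟨fun z => ?_⟩
    obtain ⟨U, a, hae, has⟩ := hF.atlas
    obtain ⟨u, -⟩ := Groth.Agent.Helper5.AlgSpOpen.ofPt_surjective_of_repWith a has z
    have h1 : topologicalKrullDim ↥U.left ≤ AlgSp.dim F := by
      unfold AlgSp.dim
      exact le_iSup_of_le U (le_iSup_of_le a (le_iSup_of_le hae le_rfl))
    rw [h] at h1
    haveI : Nonempty (TopologicalSpace.IrreducibleCloseds ↥U.left) :=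
      ⟨⟨closure {u}, isIrreducible_singleton.closure, isClosed_closure⟩⟩
    have h2 : (0 : WithBot ℕ∞) ≤ topologicalKrullDim ↥U.left := by
      rw [topologicalKrullDim]
      exact Order.krullDim_nonneg
    exact absurd (h2.trans h1) (by simp)
  · intro h
    unfold AlgSp.dim
    rw [eq_bot_iff]
    refine iSup_le fun U => iSup_le fun a => iSup_le fun hae => ?_
    haveI : IsEmpty (TopologicalSpace.IrreducibleCloseds ↥U.left) :=
      ⟨fun Z => by
        obtain ⟨u, -⟩ := Z.isIrreducible.nonempty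
        exact h.false (Points.ofPt a u)⟩
    rw [topologicalKrullDim, Order.krullDim_eq_bot]

set_option backward.isDefEq.respectTransparency.types false in
theorem s10678 {X Y : AlgSp.Space S} (f : X ⟶ Y) (hf : AlgSp.IsFiniteTypeMor f.hom)
    (y : AlgSp.Points Y.obj) (k : AlgSp.FieldPt Y.obj) (hk : AlgSp.Points.mk k = y)
    (Xk : AlgSp.Sp S) (fst : Xk ⟶ X.obj) (snd : Xk ⟶ (AlgSp.yon S).obj k.pt) (h : IsPullback fst snd f.hom k.toHom) :
    (AlgSp.dim Xk = ⊥ ↔ y ∉ Set.range (AlgSp.Points.map f.hom)) ∧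
      ∀ d : ℕ, (AlgSp.dim Xk ≤ d ↔
        ∀ x : AlgSp.Points X.obj, AlgSp.Points.map f.hom x = y →
          AlgSp.HasAtMor (fun _ _ h u => FlatMor.fibreDimAt h u ≤ (d : WithBot ℕ∞)) f.hom x) := by
  have hlft := hf.1
  have hXk : IsAlgSpace Xk :=
    Groth.Agent.Helper4.AlgSpPB.isAlgSpace_of_isPullback Y.property.diag X.property
      (IsAlgSpace.yon_obj _) f.hom k.toHom fst snd h
  let Yk : AlgSp.Space S := (AlgSp.ofScheme S).obj k.pt
  let XK : AlgSp.Space S := ⟨Xk, hXk⟩
  let y' : Yk ⟶ Y := ObjectProperty.homMk k.toHom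
  let p : XK ⟶ X := ObjectProperty.homMk fst
  let q : XK ⟶ Yk := ObjectProperty.homMk snd
  have sq' : IsPullback p.hom q.hom f.hom y'.hom := h
  have hq : AlgSp.LocP @LocallyOfFiniteType q.hom := locP_lft_of_isPullback f y' p q sq' hlft
  have hover : ∀ z : Points Xk, Points.map f.hom (Points.map fst z) = y := by
    intro z
    rw [← Points.map_comp, h.w, Points.map_comp, map_toHom_eq, hk]
  have hex : ∀ x : Points X.obj, Points.map f.hom x = y → ∃ z : Points Xk, Points.map fst z = x := by
    intro x hx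
    obtain ⟨t, -⟩ : ∃ t : Points ((yon S).obj k.pt), True := by
      refine ⟨ptOf (𝟙 _), trivial⟩
    obtain ⟨z, hz, -⟩ := Groth.Agent.Helper4.AlgSpPtsDesc.exists_point_of_isPullback h x t
      (by rw [hx, map_toHom_eq, hk])
    exact ⟨z, hz⟩
  -- chart form of the local fibre dimension on the fibre
  have hchart : ∀ (d : ℕ) (U : Over S) (a : (yon S).obj U ⟶ Xk) (hae : RepWith @Etale a) (u : ↥U.left),
      HasAtMor (QD fun r => r ≤ (d : WithBot ℕ∞)) q.hom (Points.ofPt a u) ↔
        FlatMor.localDim ↥U.left u ≤ (d : WithBot ℕ∞) := by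
    intro d U a hae u
    obtain ⟨s, hs⟩ := (yon S).map_surjective (X := U) (Y := k.pt) (a ≫ snd)
    have hid := repWith_etale_id k.pt
    have comm : a ≫ q.hom = (yon S).map s ≫ 𝟙 _ := by
      rw [Category.comp_id, hs]; rfl
    rw [hasAtMor_iff_chart_on (etLocalOn_QD _) q.hom hq a (𝟙 _) s hae hid comm u]
    show FlatMor.fibreDimAt s.left u ≤ _ ↔ _
    rw [fibreDimAt_to_field k.K s.left u]
  refine ⟨?_, ?_⟩
  · rw [dim_eq_bot_iff hXk]
    constructor
    · rintro hempty ⟨x, hx⟩
      obtain ⟨z, -⟩ := hex x hx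
      exact hempty.false z
    · intro hy
      exact ⟨fun z => hy ⟨_, hover z⟩⟩
  · intro d
    have hbc := qd_locus_baseChange (fun r => r ≤ (d : WithBot ℕ∞)) f y' p q sq' hlft
    constructor
    · intro hd x hx
      obtain ⟨z, rfl⟩ := hex x hx
      have hz : HasAtMor (QD fun r => r ≤ (d : WithBot ℕ∞)) q.hom z := by
        obtain ⟨U, a, hae, has⟩ := hXk.atlas
        obtain ⟨u, rfl⟩ := Groth.Agent.Helper5.AlgSpOpen.ofPt_surjective_of_repWith a has z
        rw [hchart d U a hae u]
        refine (Groth.Agent.Helper2.TopDim.localDim_le_dim u).trans (le_trans ?_ hd)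
        unfold AlgSp.dim
        exact le_iSup_of_le U (le_iSup_of_le a (le_iSup_of_le hae le_rfl))
      exact (Set.ext_iff.1 hbc z).1 hz
    · intro hall
      unfold AlgSp.dim
      refine iSup_le fun U => iSup_le fun a => iSup_le fun hae => ?_
      rw [Groth.Agent.Helper2.TopDim.dim_eq_iSup_localDim]
      refine iSup_le fun u => ?_
      rw [← hchart d U a hae u]
      refine (Set.ext_iff.1 hbc (Points.ofPt a u)).2 ?_
      exact hall _ (hover _)

end Groth.Agent.Helper5.RelDimSp
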