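import Groth.Agent.Helper5.FieldPtCond3
import Groth.Agent.Helper5.RelDimSp6
import Groth.Agent.Helper5.QcPt6
import Mathlib

set_option autoImplicit false
set_option linter.style.haveILetI false
set_option linter.unusedSectionVars false
set_option linter.unusedVariables false
universe u
open CategoryTheory CategoryTheory.Limits AlgebraicGeometry Opposite TopologicalSpace

namespace Groth.Agent.Helper5.FieldPtCond

open AlgSp Groth.Agent.Helper4 Groth.Agent.Helper5.PtLoc Groth.Agent.Helper5.RelDimSp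
open Groth.Agent.Helper4.AlgSpPtsDesc Groth.Agent.Helper4.AlgSpQC2

variable {S : Scheme.{u}}

/-- the basic facts on the fibre of a morphism locally of finite type over a field valued point -/
theorem fibre_core {X Y : AlgSp.Space S} (f : X ⟶ Y)
    (hf : AlgSp.LocP @LocallyOfFiniteType f.hom) (r : AlgSp.FieldPt Y.obj) (Xk : AlgSp.Space S)
    (fst : Xk ⟶ X) (snd : Xk.obj ⟶ (AlgSp.yon S).obj r.pt)
    (hsq : IsPullback fst.hom snd f.hom r.toHom) :
    IsLocNoethSp Xk.obj ∧
    (∀ (V : Over S) (b : (yon S).obj V ⟶ Xk.obj), RepWith @Etale b → JacobsonSpace ↥V.left) ∧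
    (∀ xt : Points Xk.obj, AlgSp.HasAt (fun U u => FlatMor.localDim ↥U u = 0) Xk.obj xt ↔
      AlgSp.HasAtMor (fun U _ h u => ∃ W : U.Opens, u ∈ W ∧ LocallyQuasiFinite (W.ι ≫ h) ∧
        LocallyOfFiniteType (W.ι ≫ h)) f.hom (Points.map fst.hom xt)) ∧
    Set.range (Points.map fst.hom) = Points.map f.hom ⁻¹' {Points.mk r} := by
  let Yk : AlgSp.Space S := (AlgSp.ofScheme S).obj r.pt
  let y' : Yk ⟶ Y := ObjectProperty.homMk r.toHom
  let q' : Xk ⟶ Yk := ObjectProperty.homMk snd
  have sq' : IsPullback fst.hom q'.hom f.hom y'.hom := hsq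
  have hq : AlgSp.LocP @LocallyOfFiniteType q'.hom := locP_lft_of_isPullback f y' fst q' sq' hf
  have hid := repWith_etale_id r.pt
  haveI : IsLocallyNoetherian r.pt.left := by
    show IsLocallyNoetherian (Spec (CommRingCat.of r.K))
    infer_instance
  haveI : JacobsonSpace ↥r.pt.left := by
    show JacobsonSpace (PrimeSpectrum r.K)
    infer_instance
  have hchart : ∀ (V : Over S) (b : (yon S).obj V ⟶ Xk.obj), RepWith @Etale b →
      ∃ h : V ⟶ r.pt, b ≫ q'.hom = (yon S).map h ≫ 𝟙 _ ∧ LocallyOfFiniteType h.left := by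
    intro V b hb
    obtain ⟨h, hh⟩ := (yon S).map_surjective (X := V) (Y := r.pt) (b ≫ snd)
    have comm : b ≫ q'.hom = (yon S).map h ≫ 𝟙 _ := by
      rw [Category.comp_id, hh]; rfl
    exact ⟨h, comm, hq b (𝟙 _) h hb hid comm⟩
  refine ⟨?_, ?_, ?_, ?_⟩
  · obtain ⟨U, a, hae, has⟩ := Xk.property.atlas
    obtain ⟨h, -, hl⟩ := hchart U a hae
    haveI := hl
    exact ⟨U, a, hae, has, LocallyOfFiniteType.isLocallyNoetherian h.left⟩
  · intro V b hb
    obtain ⟨h, -, hl⟩ := hchart V b hb
    haveI := hl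
    exact LocallyOfFiniteType.jacobsonSpace h.left
  · intro xt
    rw [hasAtMor_nbhd_lqf_iff f.hom hf]
    have hbc := qd_locus_baseChange (fun r => r = 0) f y' fst q' sq' hf
    have hbc' : HasAtMor (QD fun r => r = 0) q'.hom xt ↔
        HasAtMor (QD fun r => r = 0) f.hom (Points.map fst.hom xt) := Set.ext_iff.1 hbc xt
    rw [← hbc']
    constructor
    · rintro ⟨U, a, u, hae, hu, hdim⟩
      obtain ⟨h, comm, hl⟩ := hchart U a hae
      refine ⟨U, r.pt, a, 𝟙 _, h, u, hae, hid, comm, hu, ?_⟩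
      show FlatMor.fibreDimAt h.left u = 0
      rw [← hdim]
      exact fibreDimAt_to_field r.K h.left u
    · rintro ⟨U, V, a, b, h₀, u, hae, hbe, comm₀, hu, hG⟩
      obtain ⟨h, comm, hl⟩ := hchart U a hae
      have h1 : HasAtMor (QD fun r => r = 0) q'.hom (Points.ofPt a u) :=
        ⟨U, V, a, b, h₀, u, hae, hbe, comm₀, rfl, hG⟩
      have h2 := (hasAtMor_iff_chart_on (etLocalOn_QD _) q'.hom hq a (𝟙 _) h hae hid comm u).1 h1
      refine ⟨U, a, u, hae, hu, ?_⟩
      have h3 : FlatMor.fibreDimAt h.left u = 0 := h2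
      rw [← h3]
      exact (fibreDimAt_to_field r.K h.left u).symm
  · have hrpt : ∀ s : Points ((yon S).obj r.pt), Points.map r.toHom s = Points.mk r := by
      intro s
      obtain ⟨s₀, rfl⟩ := (Points.schemeHomeo r.pt).surjective s
      rw [ofPt_eq_map_schemeHomeo]
      exact Points.ofPt_toHom r s₀
    ext x
    constructor
    · rintro ⟨z, rfl⟩
      show Points.map f.hom (Points.map fst.hom z) = Points.mk r
      rw [← Points.map_comp, hsq.w, Points.map_comp]
      exact hrpt _
    · intro hx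
      have hx' : Points.map f.hom x = Points.mk r := hx
      let s₀ : Points ((yon S).obj r.pt) := Points.schemeHomeo r.pt
        (IsLocalRing.closedPoint r.K : ↥(Spec (CommRingCat.of r.K)))
      obtain ⟨z, hz, -⟩ := exists_point_of_isPullback hsq x s₀ (by rw [hx', hrpt])
      exact ⟨z, hz⟩

end Groth.Agent.Helper5.FieldPtCond
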