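import Groth.Agent.Helper5.FieldPtCond4
import Groth.Agent.Helper5.Decent1
import Groth.Agent.Helper5.SubDim5
import Mathlib

set_option autoImplicit false
set_option linter.style.haveILetI false
set_option linter.unusedSectionVars false
set_option linter.unusedVariables false
universe u
open CategoryTheory CategoryTheory.Limits AlgebraicGeometry Opposite TopologicalSpace

namespace Groth.Agent.Helper5.FieldPtCond

open AlgSp Groth.Agent.Helper4 Groth.Agent.Helper5.PtLoc Groth.Agent.Helper5.RelDimSp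
open Groth.Agent.Helper4.AlgSpPtsDesc Groth.Agent.Helper4.AlgSpQC2 Topology

/-- transport of the pointwise conditions along a homeomorphism -/
theorem homeo_transport {A B : Type*} [TopologicalSpace A] [TopologicalSpace B] (e : A ≃ₜ B)
    (a : A) :
    (IsOpen ({e a} : Set B) ↔ IsOpen ({a} : Set A)) ∧
    ((IsClosed ({e a} : Set B) ∧ ∀ b' : B, b' ⤳ e a → b' = e a) ↔
      (IsClosed ({a} : Set A) ∧ ∀ a' : A, a' ⤳ a → a' = a)) ∧
    FlatMor.localDim B (e a) = FlatMor.localDim A a := by
  have hpre : e ⁻¹' {e a} = {a} := by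
    ext z
    simp only [Set.mem_preimage, Set.mem_singleton_iff]
    exact e.injective.eq_iff
  refine ⟨?_, ?_, (Groth.Agent.Helper5.SubDim.localDim_homeomorph e a).symm⟩
  · rw [← e.isOpen_preimage, hpre]
  · rw [← e.isClosed_preimage, hpre]
    refine and_congr Iff.rfl ⟨fun H a' ha' => ?_, fun H b' hb' => ?_⟩
    · have h1 : e a' ⤳ e a := ha'.map e.continuous
      exact e.injective (H _ h1)
    · have h1 : e.symm b' ⤳ e.symm (e a) := hb'.map e.symm.continuous
      rw [e.symm_apply_apply] at h1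
      have h2 := H _ h1
      rw [← h2, e.apply_symm_apply]

variable {S : Scheme.{u}}

/-- over a decent target, the fibre over a point is homeomorphic to the space of points of the
fibre over a quasi-compact monomorphic representative -/
theorem fibre_decent {X Y : AlgSp.Space S} (f : X ⟶ Y) (r : AlgSp.FieldPt Y.obj)
    (hYd : AlgSp.IsDecent Y.obj) :
    ∃ (r₀ : AlgSp.FieldPt Y.obj) (X₀ : AlgSp.Space S) (fst₀ : X₀ ⟶ X)
      (snd₀ : X₀.obj ⟶ (AlgSp.yon S).obj r₀.pt)
      (e : Points X₀.obj ≃ₜ ↥(Points.map f.hom ⁻¹' {Points.mk r})),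
      IsPullback fst₀.hom snd₀ f.hom r₀.toHom ∧
      (∀ z, (e z).1 = Points.map fst₀.hom z) ∧ Points.mk r₀ = Points.mk r ∧
      (AlgSp.IsDecent X.obj → AlgSp.IsDecent X₀.obj) := by
  obtain ⟨r₀, hr₀, hmono, hqc⟩ := hYd (Points.mk r)
  let Yk : AlgSp.Space S := (AlgSp.ofScheme S).obj r₀.pt
  have sq : IsPullback (pullback.fst f.hom r₀.toHom) (pullback.snd f.hom r₀.toHom) f.hom
      r₀.toHom := IsPullback.of_hasPullback _ _
  let X₀ : AlgSp.Space S := ⟨pullback f.hom r₀.toHom,
    Groth.Agent.Helper4.AlgSpPB.isAlgSpace_of_isPullback Y.property.diag X.property Yk.property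
      f.hom r₀.toHom _ _ sq⟩
  let fst₀ : X₀ ⟶ X := ObjectProperty.homMk (pullback.fst f.hom r₀.toHom)
  let snd₀ : X₀.obj ⟶ (AlgSp.yon S).obj r₀.pt := pullback.snd f.hom r₀.toHom
  have sq' : IsPullback fst₀.hom snd₀ f.hom r₀.toHom := sq
  obtain ⟨hemb, hrange⟩ := Groth.Agent.Helper5.QcPt.s10390 f r₀ hmono hqc X₀ fst₀ snd₀ sq'
  rw [hr₀] at hrange
  let e : Points X₀.obj ≃ₜ ↥(Points.map f.hom ⁻¹' {Points.mk r}) :=
    hemb.toHomeomorph.trans (Homeomorph.setCongr hrange)
  refine ⟨r₀, X₀, fst₀, snd₀, e, sq', fun z => rfl, hr₀, fun hXd => ?_⟩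
  have hrep : Representable fst₀.hom :=
    MorphismProperty.of_isPullback sq'.flip (Y.property.representable_from_yon r₀.toHom)
  exact Groth.Agent.Helper5.Decent1.isDecent_of_representable fst₀.hom hrep hXd

end Groth.Agent.Helper5.FieldPtCond
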