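import Groth.Agent.Helper5.FieldPtCond5
import Mathlib

set_option autoImplicit false
set_option linter.style.haveILetI false
set_option linter.unusedSectionVars false
set_option linter.unusedVariables false
universe u
open CategoryTheory CategoryTheory.Limits AlgebraicGeometry Opposite TopologicalSpace

namespace Groth.Agent.Helper5.FieldPtCond

open AlgSp Groth.Agent.Helper4 Groth.Agent.Helper5.PtLoc Groth.Agent.Helper5.RelDimSp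
open Groth.Agent.Helper4.AlgSpPtsDesc Groth.Agent.Helper4.AlgSpQC2 Topology

variable {S : Scheme.{u}}

theorem s10445 {X Y : AlgSp.Space S} (f : X ⟶ Y)
    (hf : AlgSp.LocP @LocallyOfFiniteType f.hom) (r : AlgSp.FieldPt Y.obj) (Xk : AlgSp.Space S) (fst : Xk ⟶ X)
    (snd : Xk.obj ⟶ (AlgSp.yon S).obj r.pt) (hsq : IsPullback fst.hom snd f.hom r.toHom)
    (x : AlgSp.Points X.obj) (hx : x ∈ (AlgSp.Points.map f.hom ⁻¹' {AlgSp.Points.mk r})) (xt : AlgSp.Points Xk.obj)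
    (hxt : AlgSp.Points.map fst.hom xt = x) :
    ((IsOpen ({xt} : Set (AlgSp.Points Xk.obj)) ↔
      IsClosed ({xt} : Set (AlgSp.Points Xk.obj)) ∧ ∀ x' : AlgSp.Points Xk.obj, x' ⤳ xt → x' = xt) ∧
    (IsOpen ({xt} : Set (AlgSp.Points Xk.obj)) ↔ AlgSp.HasAt (fun U u => FlatMor.localDim ↥U u = 0) Xk.obj xt) ∧
    (AlgSp.HasAt (fun U u => FlatMor.localDim ↥U u = 0) Xk.obj xt ↔ AlgSp.HasAtMor (fun U _ h u => ∃ W : U.Opens, u ∈ W ∧ LocallyQuasiFinite (W.ι ≫ h) ∧ LocallyOfFiniteType (W.ι ≫ h)) f.hom x) ∧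
    (AlgSp.IsDecent Xk.obj →
      (FlatMor.localDim (AlgSp.Points Xk.obj) xt = 0 ↔ IsOpen ({xt} : Set (AlgSp.Points Xk.obj)))) ∧
    (AlgSp.IsDecent Y.obj →
      (IsOpen ({(⟨x, hx⟩ : ↥(AlgSp.Points.map f.hom ⁻¹' {AlgSp.Points.mk r}))} : Set ↥(AlgSp.Points.map f.hom ⁻¹' {AlgSp.Points.mk r})) ↔ IsOpen ({xt} : Set (AlgSp.Points Xk.obj))) ∧
      ((IsClosed ({(⟨x, hx⟩ : ↥(AlgSp.Points.map f.hom ⁻¹' {AlgSp.Points.mk r}))} : Set ↥(AlgSp.Points.map f.hom ⁻¹' {AlgSp.Points.mk r})) ∧ ∀ x' : ↥(AlgSp.Points.map f.hom ⁻¹' {AlgSp.Points.mk r}), x' ⤳ (⟨x, hx⟩ : ↥(AlgSp.Points.map f.hom ⁻¹' {AlgSp.Points.mk r})) → x' = (⟨x, hx⟩ : ↥(AlgSp.Points.map f.hom ⁻¹' {AlgSp.Points.mk r}))) ↔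
        IsClosed ({xt} : Set (AlgSp.Points Xk.obj)) ∧ ∀ x' : AlgSp.Points Xk.obj, x' ⤳ xt → x' = xt)) ∧
    (AlgSp.IsDecent Y.obj → AlgSp.IsDecent X.obj →
      (FlatMor.localDim ↥(AlgSp.Points.map f.hom ⁻¹' {AlgSp.Points.mk r}) (⟨x, hx⟩ : ↥(AlgSp.Points.map f.hom ⁻¹' {AlgSp.Points.mk r})) = 0 ↔ IsOpen ({(⟨x, hx⟩ : ↥(AlgSp.Points.map f.hom ⁻¹' {AlgSp.Points.mk r}))} : Set ↥(AlgSp.Points.map f.hom ⁻¹' {AlgSp.Points.mk r}))))) := by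
  obtain ⟨hN, hJ, h78, -⟩ := fibre_core f hf r Xk fst snd hsq
  obtain ⟨h56, h57, h45⟩ := gen10391 Xk hN hJ xt
  have h78' := h78 xt
  rw [hxt] at h78'
  -- the common part for a decent target
  have key : AlgSp.IsDecent Y.obj → ∃ (X₀ : AlgSp.Space S) (x₀ : Points X₀.obj)
      (e : Points X₀.obj ≃ₜ ↥(Points.map f.hom ⁻¹' {Points.mk r})),
      e x₀ = ⟨x, hx⟩ ∧ (IsOpen ({x₀} : Set (Points X₀.obj)) ↔ IsOpen ({xt} : Set (Points Xk.obj))) ∧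
      (IsOpen ({x₀} : Set (Points X₀.obj)) ↔
        IsClosed ({x₀} : Set (Points X₀.obj)) ∧ ∀ x' : Points X₀.obj, x' ⤳ x₀ → x' = x₀) ∧
      (AlgSp.IsDecent X.obj →
        (FlatMor.localDim (Points X₀.obj) x₀ = 0 ↔ IsOpen ({x₀} : Set (Points X₀.obj)))) := by
    intro hYd
    obtain ⟨r₀, X₀, fst₀, snd₀, e, sq₀, he, -, hdec⟩ := fibre_decent f r hYd
    obtain ⟨hN₀, hJ₀, h78₀, -⟩ := fibre_core f hf r₀ X₀ fst₀ snd₀ sq₀
    let x₀ : Points X₀.obj := e.symm ⟨x, hx⟩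
    have hex₀ : e x₀ = ⟨x, hx⟩ := e.apply_symm_apply _
    have hx₀ : Points.map fst₀.hom x₀ = x := by
      rw [← he, hex₀]
    obtain ⟨h56₀, h57₀, h45₀⟩ := gen10391 X₀ hN₀ hJ₀ x₀
    have h78₀' := h78₀ x₀
    rw [hx₀] at h78₀'
    refine ⟨X₀, x₀, e, hex₀, ?_, h56₀, fun hXd => h45₀ (hdec hXd)⟩
    rw [h57₀, h78₀', ← h78', ← h57]
  refine ⟨h56, h57, h78', h45, fun hYd => ?_, fun hYd hXd => ?_⟩
  · obtain ⟨X₀, x₀, e, hex₀, hopen, h56₀, -⟩ := key hYd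
    obtain ⟨t1, t2, -⟩ := homeo_transport e x₀
    rw [hex₀] at t1 t2
    refine ⟨t1.trans hopen, ?_⟩
    rw [t2, ← h56₀, hopen, h56]
  · obtain ⟨X₀, x₀, e, hex₀, hopen, -, h45₀⟩ := key hYd
    obtain ⟨t1, -, t3⟩ := homeo_transport e x₀
    rw [hex₀] at t1 t3
    rw [t3, t1]
    exact h45₀ hXd

end Groth.Agent.Helper5.FieldPtCond
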