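import Groth.Agent.Helper5.FieldPtCond6
import Mathlib

set_option autoImplicit false
set_option linter.style.haveILetI false
set_option linter.unusedSectionVars false
set_option linter.unusedVariables false
universe u
open CategoryTheory CategoryTheory.Limits AlgebraicGeometry Opposite TopologicalSpace

namespace Groth.Agent.Helper5.FieldPtCond

open AlgSp Groth.Agent.Helper4 Groth.Agent.Helper5.PtLoc Groth.Agent.Helper5.RelDimSp
open Groth.Agent.Helper4.AlgSpPtsDesc Groth.Agent.Helper4.AlgSpQC2 Topology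

variable {S : Scheme.{u}}

/-- discreteness of the fibre over a field valued point is quasi-finiteness at all points over
its class -/
theorem fibre_disc_iff {X Y : AlgSp.Space S} (f : X ⟶ Y)
    (hf : AlgSp.LocP @LocallyOfFiniteType f.hom) (r : AlgSp.FieldPt Y.obj) (Xk : AlgSp.Space S)
    (fst : Xk ⟶ X) (snd : Xk.obj ⟶ (AlgSp.yon S).obj r.pt)
    (hsq : IsPullback fst.hom snd f.hom r.toHom) :
    DiscreteTopology (Points Xk.obj) ↔
      ∀ x : AlgSp.Points X.obj, AlgSp.Points.map f.hom x = AlgSp.Points.mk r →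
        AlgSp.HasAtMor (fun U _ h u => ∃ W : U.Opens, u ∈ W ∧ LocallyQuasiFinite (W.ι ≫ h) ∧
          LocallyOfFiniteType (W.ι ≫ h)) f.hom x := by
  obtain ⟨hN, hJ, h78, hrange⟩ := fibre_core f hf r Xk fst snd hsq
  rw [discreteTopology_iff_isOpen_singleton]
  constructor
  · intro H x hx
    have hx' : x ∈ Set.range (Points.map fst.hom) := by rw [hrange]; exact hx
    obtain ⟨xt, rfl⟩ := hx'
    rw [← h78 xt, ← (gen10391 Xk hN hJ xt).2.1]
    exact H xt
  · intro H xt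
    rw [(gen10391 Xk hN hJ xt).2.1, h78 xt]
    apply H
    have : Points.map fst.hom xt ∈ Set.range (Points.map fst.hom) := ⟨xt, rfl⟩
    rw [hrange] at this
    exact this

theorem s10444 {X Y : AlgSp.Space S} (f : X ⟶ Y)
    (hf : AlgSp.LocP @LocallyOfFiniteType f.hom) (r : AlgSp.FieldPt Y.obj)
    (hy : AlgSp.Points.mk r ∈ Set.range (AlgSp.Points.map f.hom)) (Xk : AlgSp.Space S) (fst : Xk ⟶ X)
    (snd : Xk.obj ⟶ (AlgSp.yon S).obj r.pt) (hsq : IsPullback fst.hom snd f.hom r.toHom) :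
    (DiscreteTopology (AlgSp.Points Xk.obj) ↔ AlgSp.dim Xk.obj = 0) ∧
    (AlgSp.dim Xk.obj = 0 ↔
      ∀ x : AlgSp.Points X.obj, AlgSp.Points.map f.hom x = AlgSp.Points.mk r → AlgSp.HasAtMor (fun U _ h u => ∃ W : U.Opens, u ∈ W ∧ LocallyQuasiFinite (W.ι ≫ h) ∧ LocallyOfFiniteType (W.ι ≫ h)) f.hom x) ∧
    (DiscreteTopology (AlgSp.Points Xk.obj) → topologicalKrullDim (AlgSp.Points Xk.obj) = 0) ∧
    (AlgSp.IsDecent Xk.obj → topologicalKrullDim (AlgSp.Points Xk.obj) = 0 →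
      DiscreteTopology (AlgSp.Points Xk.obj)) ∧
    (AlgSp.IsDecent Xk.obj → Finite (AlgSp.Points Xk.obj) → DiscreteTopology (AlgSp.Points Xk.obj)) ∧
    (Finite (AlgSp.Points Xk.obj) → (AlgSp.Points.map f.hom ⁻¹' {AlgSp.Points.mk r}).Finite) ∧
    (DiscreteTopology ↥(AlgSp.Points.map f.hom ⁻¹' {AlgSp.Points.mk r}) → topologicalKrullDim ↥(AlgSp.Points.map f.hom ⁻¹' {AlgSp.Points.mk r}) = 0) ∧
    (AlgSp.IsDecent Y.obj → (DiscreteTopology ↥(AlgSp.Points.map f.hom ⁻¹' {AlgSp.Points.mk r}) ↔ DiscreteTopology (AlgSp.Points Xk.obj))) ∧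
    (AlgSp.IsDecent Y.obj → AlgSp.IsDecent X.obj →
      (topologicalKrullDim ↥(AlgSp.Points.map f.hom ⁻¹' {AlgSp.Points.mk r}) = 0 → DiscreteTopology ↥(AlgSp.Points.map f.hom ⁻¹' {AlgSp.Points.mk r})) ∧
        ((AlgSp.Points.map f.hom ⁻¹' {AlgSp.Points.mk r}).Finite → DiscreteTopology ↥(AlgSp.Points.map f.hom ⁻¹' {AlgSp.Points.mk r}))) := by
  obtain ⟨hN, hJ, h78, hrange⟩ := fibre_core f hf r Xk fst snd hsq
  obtain ⟨x₁, hx₁⟩ := hy
  haveI hFne : Nonempty ↥(Points.map f.hom ⁻¹' {Points.mk r}) := ⟨⟨x₁, hx₁⟩⟩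
  haveI hne : Nonempty (Points Xk.obj) := by
    have hx' : x₁ ∈ Set.range (Points.map fst.hom) := by rw [hrange]; exact hx₁
    obtain ⟨z, -⟩ := hx'
    exact ⟨z⟩
  obtain ⟨g1, g2, g3, g4⟩ := gen10392 Xk hN hJ
  have hdisc := fibre_disc_iff f hf r Xk fst snd hsq
  refine ⟨g1, ?_, g2, g3, fun hd hfin => g1.2 (g4 hd hfin), fun hfin => ?_, fun hdisc => ?_,
    fun hYd => ?_, fun hYd hXd => ?_⟩
  · rw [← g1, hdisc]
  · rw [← hrange]
    exact Set.finite_range _
  · exact le_antisymm (dim_le_zero_of_discrete _)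
      (Groth.Agent.Helper2.TopDim.dim_nonneg_of_nonempty _)
  · obtain ⟨r₀, X₀, fst₀, snd₀, e, sq₀, he, hr₀, hdec⟩ := fibre_decent f r hYd
    have hdisc₀ := fibre_disc_iff f hf r₀ X₀ fst₀ snd₀ sq₀
    rw [hr₀] at hdisc₀
    rw [hdisc, ← hdisc₀]
    constructor
    · intro _
      exact DiscreteTopology.of_continuous_injective e.continuous e.injective
    · intro _
      exact DiscreteTopology.of_continuous_injective e.symm.continuous e.symm.injective
  · obtain ⟨r₀, X₀, fst₀, snd₀, e, sq₀, he, hr₀, hdec⟩ := fibre_decent f r hYd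
    obtain ⟨hN₀, hJ₀, -, -⟩ := fibre_core f hf r₀ X₀ fst₀ snd₀ sq₀
    haveI : Nonempty (Points X₀.obj) := ⟨e.symm ⟨x₁, hx₁⟩⟩
    obtain ⟨k1, k2, k3, k4⟩ := gen10392 X₀ hN₀ hJ₀
    have hX₀d := hdec hXd
    constructor
    · intro hdim
      have h1 : topologicalKrullDim (Points X₀.obj) = 0 := by
        rw [IsHomeomorph.topologicalKrullDim_eq e e.isHomeomorph]
        exact hdim
      haveI := k3 hX₀d h1
      exact DiscreteTopology.of_continuous_injective e.symm.continuous e.symm.injective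
    · intro hfin
      haveI : Finite ↥(Points.map f.hom ⁻¹' {Points.mk r}) := hfin
      haveI : Finite (Points X₀.obj) := Finite.of_injective e e.injective
      haveI := k1.2 (k4 hX₀d inferInstance)
      exact DiscreteTopology.of_continuous_injective e.symm.continuous e.symm.injective

end Groth.Agent.Helper5.FieldPtCond
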