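import Mathlib
import Groth.Agent.Helper5.FieldUnram2

set_option autoImplicit false
universe u
open CategoryTheory CategoryTheory.Limits AlgebraicGeometry

namespace Groth.Agent.Helper5.FieldUnram

set_option maxHeartbeats 1000000 in
theorem exists_decomp (k : Type u) [Field k] {X : Scheme.{u}} (f : X ⟶ Spec (CommRingCat.of k))
    [FormallyUnramified f] [LocallyOfFiniteType f] :
    ∃ (K : X → Type u) (_ : ∀ i, Field (K i)) (_ : ∀ i, Algebra k (K i))
      (_ : ∀ i, FiniteDimensional k (K i)) (_ : ∀ i, Algebra.IsSeparable k (K i))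
      (e : (∐ fun i => Spec (CommRingCat.of (K i))) ≅ X),
      ∀ i, Sigma.ι (fun i => Spec (CommRingCat.of (K i))) i ≫ e.hom ≫ f =
        Spec.map (CommRingCat.ofHom (algebraMap k (K i))) := by
  choose K hF hAlg hfin hsep j hj using point k f
  have hoi : ∀ x, IsOpenImmersion (j x) := fun x => (hj x).1
  have hr : ∀ x, Set.range (j x) = {x} := fun x => (hj x).2.1
  have hcov : ⨆ i, (j i).opensRange = ⊤ := by
    rw [eq_top_iff]
    intro x _
    rw [TopologicalSpace.Opens.mem_iSup]
    refine ⟨x, ?_⟩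
    show x ∈ Set.range (j x)
    rw [hr x]; rfl
  have hdisj : Pairwise (Function.onFun Disjoint (fun i => (j i).opensRange)) := by
    intro a b hab
    rw [Function.onFun, disjoint_iff]
    ext y
    simp only [TopologicalSpace.Opens.coe_inf, Scheme.Hom.coe_opensRange, hr,
      TopologicalSpace.Opens.coe_bot, Set.mem_inter_iff, Set.mem_singleton_iff,
      Set.mem_empty_iff_false, iff_false, not_and]
    rintro rfl rfl
    exact hab rfl
  obtain ⟨hc⟩ := nonempty_isColimit_cofanMk_of (σ := X) j hcov hdisj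
  let e : (∐ fun i => Spec (CommRingCat.of (K i))) ≅ X :=
    colimit.isoColimitCocone ⟨_, hc⟩
  refine ⟨K, hF, hAlg, hfin, hsep, e, fun i => ?_⟩
  have h1 : Sigma.ι (fun i => Spec (CommRingCat.of (K i))) i ≫ e.hom = j i :=
    colimit.isoColimitCocone_ι_hom ⟨_, hc⟩ ⟨i⟩
  rw [← Category.assoc, h1]
  exact (hj i).2.2

end Groth.Agent.Helper5.FieldUnram

namespace Groth.Agent.Helper5.FieldUnram

theorem etale_SpecMap (k : Type u) [Field k] (K : Type u) [Field K] [Algebra k K]
    [FiniteDimensional k K] [Algebra.IsSeparable k K] :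
    Etale (Spec.map (CommRingCat.ofHom (algebraMap k K))) := by
  rw [HasRingHomProperty.Spec_iff (P := @Etale)]
  show (algebraMap k K).Etale
  rw [RingHom.etale_algebraMap]
  have h1 : Algebra.FormallyEtale k K := Algebra.FormallyEtale.of_isSeparable k K
  have h2 : Algebra.FinitePresentation k K :=
    Algebra.FinitePresentation.of_finiteType.mp inferInstance
  exact ⟨h1, h2⟩

theorem etale_sigmaDesc (k : Type u) [Field k] {ι : Type u} (K : ι → Type u) [∀ i, Field (K i)]
    [∀ i, Algebra k (K i)] (h : ∀ i, FiniteDimensional k (K i) ∧ Algebra.IsSeparable k (K i)) :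
    Etale (Sigma.desc (fun i => Spec.map (CommRingCat.ofHom (algebraMap k (K i))))) := by
  apply IsZariskiLocalAtSource.sigmaDesc
  intro i
  have := (h i).1
  have := (h i).2
  exact etale_SpecMap k (K i)

theorem unramified_iff (k : Type u) [Field k] {X : Scheme.{u}}
    (f : X ⟶ Spec (CommRingCat.of k)) :
    (FormallyUnramified f ∧ LocallyOfFiniteType f) ↔
      ∃ (ι : Type u) (K : ι → Type u) (_ : ∀ i, Field (K i)) (_ : ∀ i, Algebra k (K i)),
        (∀ i, FiniteDimensional k (K i) ∧ Algebra.IsSeparable k (K i)) ∧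
        ∃ e : X ≅ ∐ (fun i => Spec (CommRingCat.of (K i))),
          e.hom ≫ Sigma.desc (fun i => Spec.map (CommRingCat.ofHom (algebraMap k (K i)))) = f := by
  constructor
  · rintro ⟨h1, h2⟩
    obtain ⟨K, hF, hAlg, hfin, hsep, e, he⟩ := exists_decomp k f
    refine ⟨X, K, hF, hAlg, fun i => ⟨hfin i, hsep i⟩, e.symm, ?_⟩
    rw [Iso.symm_hom, Iso.inv_comp_eq]
    apply Sigma.hom_ext
    intro i
    rw [Sigma.ι_desc, he i]
  · rintro ⟨ι, K, hF, hAlg, h, e, he⟩
    have h1 := etale_sigmaDesc k K h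
    have h2 : Etale f := by rw [← he]; infer_instance
    exact ⟨inferInstance, inferInstance⟩

theorem etale_iff (k : Type u) [Field k] (U : Scheme.{u}) (φ : U ⟶ Spec (CommRingCat.of k)) :
    AlgebraicGeometry.Etale φ ↔
      ∃ (ι : Type u) (K : ι → Type u) (_ : ∀ i, Field (K i)) (_ : ∀ i, Algebra k (K i))
        (_ : ∀ i, FiniteDimensional k (K i)) (_ : ∀ i, Algebra.IsSeparable k (K i))
        (e : (∐ fun i => Spec (CommRingCat.of (K i))) ≅ U),
        ∀ i, Sigma.ι (fun i => Spec (CommRingCat.of (K i))) i ≫ e.hom ≫ φ =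
          Spec.map (CommRingCat.ofHom (algebraMap k (K i))) := by
  constructor
  · intro h
    obtain ⟨K, hF, hAlg, hfin, hsep, e, he⟩ := exists_decomp k φ
    exact ⟨U, K, hF, hAlg, hfin, hsep, e, he⟩
  · rintro ⟨ι, K, hF, hAlg, hfin, hsep, e, he⟩
    have h1 := etale_sigmaDesc k K (fun i => ⟨hfin i, hsep i⟩)
    have h2 : e.hom ≫ φ =
        Sigma.desc (fun i => Spec.map (CommRingCat.ofHom (algebraMap k (K i)))) := by
      apply Sigma.hom_ext
      intro i
      rw [Sigma.ι_desc, he i]
    have h3 : φ = e.inv ≫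
        Sigma.desc (fun i => Spec.map (CommRingCat.ofHom (algebraMap k (K i)))) := by
      rw [← h2, Iso.inv_hom_id_assoc]
    rw [h3]
    infer_instance

end Groth.Agent.Helper5.FieldUnram
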