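import Mathlib

set_option autoImplicit false
universe u
open CategoryTheory CategoryTheory.Limits AlgebraicGeometry Opposite

namespace Groth.Agent.Helper5.FinCoprod

/-- A finite coproduct of affine schemes finite over an affine scheme is finite over it. -/
theorem isFinite_sigmaDesc {ι : Type u} [Finite ι] (W : ι → Scheme.{u}) (Z : Scheme.{u})
    [IsAffine Z] [∀ i, IsAffine (W i)] (f : ∀ i, W i ⟶ Z) [∀ i, IsFinite (f i)] :
    IsFinite (Sigma.desc f) := by
  classical
  -- the iso `∐ W i ≅ Spec (Π Γ(W i))`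
  let R : ι → CommRingCat.{u} := fun i => Γ(W i, ⊤)
  let E : (∐ W) ⟶ Spec (.of (Π i, R i)) :=
    (Sigma.mapIso (fun i => (W i).isoSpec)).hom ≫ sigmaSpec R
  haveI : IsIso E := by dsimp only [E]; infer_instance
  let φ : Γ(Z, ⊤) ⟶ CommRingCat.of (Π i, R i) :=
    CommRingCat.ofHom (Pi.ringHom (fun i => (f i).appTop.hom))
  have key : Sigma.desc f ≫ Z.isoSpec.hom = E ≫ Spec.map φ := by
    apply Sigma.hom_ext
    intro i
    simp only [E, Sigma.ι_desc_assoc, Category.assoc, Sigma.ι_mapIso_hom_assoc]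
    rw [← Scheme.isoSpec_hom_naturality]
    congr 1
    have h3 : Sigma.ι (fun i => Spec Γ(W i, ⊤)) i ≫ sigmaSpec R =
        Spec.map (CommRingCat.ofHom (Pi.evalRingHom _ i)) := ι_sigmaSpec R i
    rw [reassoc_of% h3, ← Spec.map_comp]
    rfl
  have hφ : IsFinite (Spec.map φ) := by
    rw [IsFinite.SpecMap_iff]
    have hfin : ∀ i, (f i).appTop.hom.Finite := fun i => Scheme.Hom.finite_appTop (f i)
    show (Pi.ringHom (fun i => (f i).appTop.hom)).Finite
    letI : Algebra Γ(Z, ⊤) (Π i, R i) := (Pi.ringHom (fun i => (f i).appTop.hom)).toAlgebra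
    letI : ∀ i, Algebra Γ(Z, ⊤) (R i) := fun i => ((f i).appTop.hom).toAlgebra
    have h1 : ∀ i, Module.Finite Γ(Z, ⊤) (R i) := fun i => hfin i
    show Module.Finite Γ(Z, ⊤) (Π i, R i)
    haveI := Fintype.ofFinite ι
    exact Module.Finite.pi
  have h2 : IsFinite (E ≫ Spec.map φ) := inferInstance
  rw [← key] at h2
  exact (MorphismProperty.cancel_right_of_respectsIso @IsFinite _ Z.isoSpec.hom).1 h2

end Groth.Agent.Helper5.FinCoprod
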