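import Groth.Agent.Helper5.FppfLift
import Mathlib

set_option autoImplicit false
universe u
open CategoryTheory CategoryTheory.Limits AlgebraicGeometry Opposite

namespace Groth.Agent.Helper5.YonCoprod

open AlgSp

variable {S : Scheme.{u}}

/-- Sections of an fppf sheaf over an empty scheme form a subsingleton. -/
theorem subsingleton_of_isEmpty (F : Sp S) (T : Over S) [IsEmpty T.left] :
    Subsingleton (F.obj.obj (op T)) := by
  have hbot : (⊥ : Sieve T) ∈ J S T := by
    rw [GrothendieckTopology.mem_over_iff]
    have h1 : (⊥ : Presieve T.left) ∈ Scheme.fppfPrecoverage T.left := by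
      unfold Scheme.fppfPrecoverage
      exact Scheme.bot_mem_precoverage _ T.left
    have h2 := Precoverage.generate_mem_toGrothendieck h1
    convert h2 using 1
    ext Y f
    simp only [Sieve.overEquiv_iff, Sieve.generate_apply]
    constructor
    · intro h; exact h.elim
    · rintro ⟨Z, a, b, hb, -⟩; exact hb.elim
  have hsh : Presieve.IsSheaf (J S) F.obj := (isSheaf_iff_isSheaf_of_type _ _).1 F.property
  refine ⟨fun a b => ?_⟩
  exact (hsh _ hbot).isSeparatedFor.ext fun Y f hf => hf.elim

section Sigma

variable {ι : Type u} (W : ι → Over S)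

/-- The coproduct of finitely many schemes over `S`, as a scheme over `S`. -/
noncomputable def sigmaOver : Over S :=
  Over.mk (Sigma.desc (fun j => (W j).hom) : (∐ fun j => (W j).left) ⟶ S)

/-- The coproduct inclusions over `S`. -/
noncomputable def sigmaι (j : ι) : W j ⟶ sigmaOver W :=
  Over.homMk (Sigma.ι (fun j => (W j).left) j) (by simp [sigmaOver])


theorem sigmaι_left (j : ι) : (sigmaι W j).left = Sigma.ι (fun j => (W j).left) j := rfl

theorem sigma_mem_J : Sieve.ofArrows W (sigmaι W) ∈ J S (sigmaOver W) := by
  refine Groth.Agent.Helper5.FppfLift.ofArrows_mem_J W (sigmaι W) (fun k => ?_) (fun k => ?_) (fun z => ?_)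
  · have : IsOpenImmersion (Sigma.ι (fun j => (W j).left) k) := inferInstance
    show Flat (Sigma.ι (fun j => (W j).left) k)
    infer_instance
  · have : IsOpenImmersion (Sigma.ι (fun j => (W j).left) k) := inferInstance
    show LocallyOfFinitePresentation (Sigma.ι (fun j => (W j).left) k)
    infer_instance
  · obtain ⟨y, hy⟩ := (sigmaOpenCover (fun j => (W j).left)).covers z
    exact ⟨_, y, hy⟩

/-- Gluing sections of a sheaf along a finite coproduct decomposition. -/
theorem existsUnique_section (F : Sp S) (x : ∀ j, F.obj.obj (op (W j))) :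
    ∃! t : F.obj.obj (op (sigmaOver W)), ∀ j, F.obj.map (sigmaι W j).op t = x j := by
  have hsh : Presieve.IsSheaf (J S) F.obj := (isSheaf_iff_isSheaf_of_type _ _).1 F.property
  have h1 := hsh _ (sigma_mem_J W)
  have h2 : (Presieve.ofArrows W (sigmaι W)).IsSheafFor F.obj :=
    (Presieve.isSheafFor_iff_generate _).2 h1
  rw [Presieve.isSheafFor_arrows_iff] at h2
  refine h2 x ?_
  intro i j Z gi gj hcomm
  by_cases hij : i = j
  · subst hij
    have h3 : gi.left = gj.left := by
      have h4 : gi.left ≫ Sigma.ι (fun j => (W j).left) i = gj.left ≫ Sigma.ι (fun j => (W j).left) i :=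
        congrArg (fun t => t.left) hcomm
      exact (cancel_mono _).1 h4
    have h5 : gi = gj := Over.OverMorphism.ext h3
    rw [h5]
  · have h4 : gi.left ≫ Sigma.ι (fun j => (W j).left) i = gj.left ≫ Sigma.ι (fun j => (W j).left) j :=
      congrArg (fun t => t.left) hcomm
    have : IsEmpty Z.left := isEmpty_of_commSq_sigmaι_of_ne ⟨h4⟩ hij
    exact (subsingleton_of_isEmpty F Z).elim _ _

/-- `h` of a finite coproduct of schemes over `S` is the coproduct of the `h_{W j}` in fppf sheaves. -/
noncomputable def isColimitCofan :
    IsColimit (Cofan.mk ((yon S).obj (sigmaOver W)) (fun j => (yon S).map (sigmaι W j))) := by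
  refine Cofan.IsColimit.mk _
    (fun s => (J S).uliftYonedaEquiv.symm
      (existsUnique_section W s.pt (fun j => (J S).uliftYonedaEquiv (s.inj j))).choose) ?_ ?_
  · intro s j
    have h := (existsUnique_section W s.pt (fun j => (J S).uliftYonedaEquiv (s.inj j))).choose_spec.1 j
    show (yon S).map (sigmaι W j) ≫ _ = s.inj j
    rw [GrothendieckTopology.uliftYonedaEquiv_symm_naturality_left, h, Equiv.symm_apply_apply]
  · intro s m hm
    have huniq := (existsUnique_section W s.pt (fun j => (J S).uliftYonedaEquiv (s.inj j))).choose_spec.2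
    have h2 : (J S).uliftYonedaEquiv m = _ := huniq ((J S).uliftYonedaEquiv m) (fun j => by
      rw [GrothendieckTopology.uliftYonedaEquiv_naturality]
      exact congrArg _ (hm j))
    rw [← h2, Equiv.symm_apply_apply]

end Sigma

end Groth.Agent.Helper5.YonCoprod
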