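import Groth.Agent.Helper5.FinCoprod1
import Groth.Agent.Helper5.YonCoprod
import Groth.Prelude.Def_AlgSp3

set_option autoImplicit false
universe u
open CategoryTheory CategoryTheory.Limits AlgebraicGeometry Opposite

namespace Groth.Agent.Helper5.FinCoprod

open AlgSp

variable {S : Scheme.{u}}

theorem isFiniteMor_cofan_desc {n : ℕ} (F : Fin n → Sp S) (Y : Sp S)
    (g : ∀ i, F i ⟶ Y) (hg : ∀ i, IsFiniteMor (g i)) (c : Cofan F) (hc : IsColimit c)
    (d : c.pt ⟶ Y) (hd : ∀ i, c.inj i ≫ d = g i) : IsFiniteMor d := by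
  intro Z hZ a
  choose W ι fst hpb hWaff hfin using fun i => hg i hZ a
  let W' : ULift.{u} (Fin n) → Over S := fun j => W j.down
  let Wt : Over S := YonCoprod.sigmaOver W'
  let iZ : Wt ⟶ Z := Over.homMk (Sigma.desc (fun j : ULift.{u} (Fin n) => (ι j.down).left)) (by
    show Limits.Sigma.desc _ ≫ Z.hom = Limits.Sigma.desc (fun j => (W' j).hom)
    apply Sigma.hom_ext
    intro j
    rw [Sigma.ι_desc_assoc, Sigma.ι_desc]
    exact Over.w (ι j.down))
  have hiZ : ∀ j, YonCoprod.sigmaι W' j ≫ iZ = ι j.down := by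
    intro j
    ext
    simp only [Over.comp_left, YonCoprod.sigmaι_left]
    exact Sigma.ι_desc _ _
  -- the pulled back cofan
  let c'' : Cocone (Discrete.functor (fun i : Fin n => (yon S).obj (W i))) :=
    Cofan.mk (pullback d a) (fun i => pullback.lift (fst i ≫ c.inj i) ((yon S).map (ι i)) (by
      rw [Category.assoc, hd, (hpb i).w]))
  let α : Discrete.functor (fun i : Fin n => (yon S).obj (W i)) ⟶ Discrete.functor F :=
    Discrete.natTrans (fun i => fst i.as)
  have hc'' : Nonempty (IsColimit c'') := by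
    refine FinitaryPreExtensive.isUniversal_finiteCoproducts_Fin hc c'' α (pullback.fst d a) ?_
      (NatTrans.Equifibered.of_discrete α) ?_
    · ext ⟨i⟩ : 2
      show fst i ≫ c.ι.app ⟨i⟩ = c''.ι.app ⟨i⟩ ≫ pullback.fst d a
      exact (pullback.lift_fst _ _ _).symm
    · rintro ⟨i⟩
      have h1 : c''.ι.app ⟨i⟩ ≫ pullback.fst d a = fst i ≫ c.inj i :=
        pullback.lift_fst _ _ _
      have h2 : c''.ι.app ⟨i⟩ ≫ pullback.snd d a = (yon S).map (ι i) :=
        pullback.lift_snd _ _ _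
      refine IsPullback.of_right (h₁₂ := pullback.snd d a) (v₁₃ := a) (h₂₂ := d) ?_ h1
        (IsPullback.of_hasPullback d a).flip
      rw [h2]
      have h3 : c.ι.app ⟨i⟩ ≫ d = g i := hd i
      rw [h3]
      exact (hpb i).flip
  obtain ⟨hc''⟩ := hc''
  have hcol := YonCoprod.isColimitCofan W'
  let m : (yon S).obj Wt ⟶ pullback d a :=
    Cofan.IsColimit.desc hcol (fun j => c''.ι.app ⟨j.down⟩)
  let m' : pullback d a ⟶ (yon S).obj Wt :=
    hc''.desc (Cofan.mk _ (fun i : Fin n => (yon S).map (YonCoprod.sigmaι W' ⟨i⟩)))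
  have hm : ∀ j, (yon S).map (YonCoprod.sigmaι W' j) ≫ m = c''.ι.app ⟨j.down⟩ := fun j =>
    Cofan.IsColimit.fac hcol _ j
  have hm' : ∀ i : Fin n, c''.ι.app ⟨i⟩ ≫ m' = (yon S).map (YonCoprod.sigmaι W' ⟨i⟩) := fun i =>
    hc''.fac _ ⟨i⟩
  have h1 : m ≫ m' = 𝟙 _ := by
    apply Cofan.IsColimit.hom_ext hcol
    intro j
    show (yon S).map (YonCoprod.sigmaι W' j) ≫ m ≫ m' = (yon S).map (YonCoprod.sigmaι W' j) ≫ 𝟙 _
    rw [reassoc_of% (hm j), hm', Category.comp_id]
  have h2 : m' ≫ m = 𝟙 _ := by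
    apply hc''.hom_ext
    rintro ⟨i⟩
    rw [reassoc_of% (hm' i), hm ⟨i⟩]
    exact (Category.comp_id _).symm
  have hsnd : m ≫ pullback.snd d a = (yon S).map iZ := by
    apply Cofan.IsColimit.hom_ext hcol
    intro j
    show (yon S).map (YonCoprod.sigmaι W' j) ≫ m ≫ pullback.snd d a =
      (yon S).map (YonCoprod.sigmaι W' j) ≫ (yon S).map iZ
    rw [reassoc_of% (hm j), ← Functor.map_comp, hiZ]
    exact pullback.lift_snd _ _ _
  refine ⟨Wt, iZ, m ≫ pullback.fst d a, ?_, ?_, ?_⟩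
  · let e : (yon S).obj Wt ≅ pullback d a := ⟨m, m', h1, h2⟩
    exact IsPullback.of_iso (IsPullback.of_hasPullback d a) e.symm (Iso.refl _) (Iso.refl _)
      (Iso.refl _) (by simp [e, reassoc_of% h2]) (by simp [e, ← hsnd, reassoc_of% h2])
      (by simp) (by simp)
  · show IsAffine (∐ fun j => (W' j).left)
    haveI : ∀ j, IsAffine (W' j).left := fun j => hWaff j.down
    infer_instance
  · show IsFinite (Sigma.desc (fun j : ULift.{u} (Fin n) => (ι j.down).left))
    haveI : ∀ j : ULift.{u} (Fin n), IsAffine (W' j).left := fun j => hWaff j.down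
    haveI : ∀ j : ULift.{u} (Fin n), IsFinite ((ι j.down).left) := fun j => hfin j.down
    haveI : IsAffine Z.left := hZ
    exact isFinite_sigmaDesc (fun j => (W' j).left) Z.left (fun j => (ι j.down).left)

end Groth.Agent.Helper5.FinCoprod
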