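import Mathlib
import Groth.Prelude
import Groth.Agent.Helper2.BrnchF
import Groth.Agent.Helper1.HensStrictNoeth
import Groth.Agent.Helper5.BrAlg1
import Groth.Agent.Helper5.BrAlg2
import Groth.Agent.Helper5.BrAlg3
import Groth.Agent.Helper5.BrOne2
import Groth.Agent.Helper5.BrNorm

set_option autoImplicit false
set_option linter.unusedSectionVars false
set_option linter.style.haveILetI false
universe u

/-! Finiteness of the number of geometric branches of a Noetherian local ring, in chart form. -/

namespace Groth.Agent.Helper5.FinCov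

open IsLocalRing Groth.Agent.Helper1.Hens Groth.Agent.Helper1 Groth.Agent.Helper2.Brnch
open Groth.Agent.Helper5.BrAlg

theorem numGeomBranches_lt_top (A : Type u) [CommRing A] [IsLocalRing A] [IsNoetherianRing A] :
    _root_.Brnch.numGeomBranches A < ⊤ := by
  rw [← s9238 A (Hens A (SeparableClosure (ResidueField A)))]
  haveI := Hens.isNoetherianRing A (SeparableClosure (ResidueField A))
  have hfin : (minimalPrimes (Hens A (SeparableClosure (ResidueField A)))).Finite :=
    minimalPrimes.finite_of_isNoetherianRing _
  haveI := hfin.to_subtype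
  exact ENat.card_lt_top.mpr inferInstance

section loc

variable (O : Type u) [CommRing O] [IsLocalRing O] [IsNoetherianRing O]

theorem finite_sigma_emb :
    Finite (Σ m' : MaximalSpectrum (CAlg2.normRed O), _root_.Brnch.Emb O m') := by
  have h := numGeomBranches_lt_top O
  unfold _root_.Brnch.numGeomBranches at h
  rw [if_pos (minimalPrimes.finite_of_isNoetherianRing O)] at h
  exact ENat.card_lt_top.mp h

theorem finite_maxSpec_normRed : Finite (MaximalSpectrum (CAlg2.normRed O)) := by
  haveI := finite_sigma_emb O
  refine Finite.of_surjective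
    (fun z : (Σ m' : MaximalSpectrum (CAlg2.normRed O), _root_.Brnch.Emb O m') => z.1) ?_
  intro m'
  obtain ⟨σ⟩ := Groth.Agent.Helper5.BrOne.emb_nonempty O m'
  exact ⟨⟨m', σ⟩, rfl⟩

theorem finite_emb (m' : MaximalSpectrum (CAlg2.normRed O)) : Finite (_root_.Brnch.Emb O m') := by
  haveI := finite_sigma_emb O
  exact Finite.of_injective
    (fun σ : _root_.Brnch.Emb O m' =>
      (⟨m', σ⟩ : Σ m' : MaximalSpectrum (CAlg2.normRed O), _root_.Brnch.Emb O m'))
    (fun a b h => by
      have := Sigma.mk.inj_iff.mp h
      exact eq_of_heq this.2)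

end loc

section chart

variable {A : Type u} [CommRing A] [IsDomain A] (K : Type u) [Field K] [Algebra A K]
  [IsFractionRing A K] (p : Ideal A) [p.IsPrime]
  (O : Type u) [CommRing O] [Algebra A O] [IsLocalization.AtPrime O p] [Algebra O K]
  [IsScalarTower A O K] [IsDomain O] [IsLocalRing O] [IsFractionRing O K] [IsNoetherianRing O]
  (B : Type u) [CommRing B] [IsDomain B] [Algebra A B] (sig : B →ₐ[A] K)

include O in
theorem finite_primes_over (hinj : Function.Injective sig)
    (hint : ∀ b : B, IsIntegral A (sig b))
    (hsurj : ∀ y : K, IsIntegral A y → ∃ b : B, sig b = y) :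
    Finite {q : PrimeSpectrum B // q.asIdeal.comap (algebraMap A B) = p} := by
  haveI := finite_maxSpec_normRed O
  exact Finite.of_equiv _ ((primesEquiv K p O B sig hinj hint hsurj).trans
    (Groth.Agent.Helper5.BrNorm.maxSpecCongr (normRedEquiv O K))).symm

theorem finite_fieldEmb (hinj : Function.Injective sig)
    (hint : ∀ b : B, IsIntegral A (sig b))
    (hsurj : ∀ y : K, IsIntegral A y → ∃ b : B, sig b = y)
    (q : Ideal B) [q.IsPrime] (hq : q.comap (algebraMap A B) = p)
    (S' : Type u) [CommRing S'] [Algebra B S'] [IsLocalization.AtPrime S' q] [IsLocalRing S']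
    (ℓ : O →+* S') [IsLocalHom ℓ]
    (hℓ : ∀ a : A, ℓ (algebraMap A O a) = algebraMap B S' (algebraMap A B a)) :
    letI := (IsLocalRing.ResidueField.map ℓ).toAlgebra
    Finite (Field.Emb (IsLocalRing.ResidueField O) (IsLocalRing.ResidueField S')) := by
  letI := (IsLocalRing.ResidueField.map ℓ).toAlgebra
  obtain ⟨θ, hθ⟩ := exists_residue_equiv K p O B sig hinj hint hsurj q hq S' ℓ hℓ
  have hmax := (map_props K p O B sig hinj hint hsurj q hq).1
  let m' : MaximalSpectrum (CAlg2.normRed O) :=
    Groth.Agent.Helper5.BrNorm.maxSpecCongr (normRedEquiv O K) ⟨q.map (incl K O B sig hint), hmax⟩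
  have hcard := card_emb_of_chart O K (q.map (incl K O B sig hint)) m' rfl
    (IsLocalRing.ResidueField S') (IsLocalRing.ResidueField.map ℓ) θ (fun o => by
      rw [hθ o]; rfl)
  haveI := finite_emb O m'
  have hlt : ENat.card (_root_.Brnch.Emb O m') < ⊤ := ENat.card_lt_top.mpr inferInstance
  rw [hcard] at hlt
  exact ENat.card_lt_top.mp hlt

end chart

end Groth.Agent.Helper5.FinCov
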