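import Mathlib

set_option autoImplicit false
set_option linter.unusedSectionVars false
set_option linter.style.haveILetI false
universe u

/-! Field theory for finite geometrically unibranch covers: an algebraic extension with finitely
many embeddings is purely inseparable over a finitely generated subextension. -/

namespace Groth.Agent.Helper5.FinCov

open Cardinal

/-- finitely many embeddings: the separable closure is finite dimensional -/
theorem finiteDimensional_separableClosure (k F : Type u) [Field k] [Field F] [Algebra k F]
    [Algebra.IsAlgebraic k F] [Finite (Field.Emb k F)] :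
    FiniteDimensional k (separableClosure k F) := by
  have h1 := Field.Emb.cardinal_eq (F := k) (E := F)
  have hfin : #(Field.Emb k F) < ℵ₀ := Cardinal.lt_aleph0_of_finite _
  have hlt : Field.sepDegree k F < ℵ₀ := by
    by_contra hc
    rw [not_lt] at hc
    simp only [hc, if_true] at h1
    have h2 : ℵ₀ ≤ #(Field.Emb k F) := by
      rw [h1]
      exact hc.trans (Cardinal.cantor _).le
    exact absurd hfin (not_lt.mpr h2)
  exact Module.rank_lt_aleph0_iff.mp hlt

/-- a finite set of elements over which the extension becomes purely inseparable -/
theorem exists_finset_pow_mem (k F : Type u) [Field k] [Field F] [Algebra k F]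
    [Algebra.IsAlgebraic k F] [Finite (Field.Emb k F)] (q : ℕ) [ExpChar k q] :
    ∃ s : Finset F, ∀ (Λ : IntermediateField k F), (↑s : Set F) ⊆ Λ →
      ∀ z : F, ∃ n : ℕ, z ^ q ^ n ∈ Λ := by
  haveI := finiteDimensional_separableClosure k F
  obtain ⟨t, ht⟩ := (Module.finite_def.mp (inferInstance : Module.Finite k (separableClosure k F)))
  classical
  refine ⟨Finset.image (fun e : ↥(separableClosure k F) => (e : F)) t, ?_⟩
  intro Λ hΛ z
  have hle : separableClosure k F ≤ Λ := by
    intro e he
    have hmem : (⟨e, he⟩ : separableClosure k F) ∈ Submodule.span k (t : Set (separableClosure k F)) := by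
      rw [ht]; trivial
    have key : ∀ w ∈ Submodule.span k (t : Set (separableClosure k F)), (w : F) ∈ Λ := by
      intro w hw
      induction hw using Submodule.span_induction with
      | mem x hx =>
        apply hΛ
        rw [Finset.mem_coe, Finset.mem_image]
        exact ⟨x, Finset.mem_coe.mp hx, rfl⟩
      | zero => exact Λ.zero_mem
      | add x y _ _ hx hy => exact Λ.add_mem hx hy
      | smul a x _ hx => exact Λ.smul_mem hx
    exact key _ hmem
  haveI : ExpChar (separableClosure k F) q :=
    expChar_of_injective_algebraMap (algebraMap k (separableClosure k F)).injective q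
  obtain ⟨n, e, he⟩ := IsPurelyInseparable.pow_mem (separableClosure k F) q z
  refine ⟨n, ?_⟩
  rw [← he]
  exact hle e.2

end Groth.Agent.Helper5.FinCov
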