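import Mathlib
import Groth.Prelude
import Groth.Agent.Helper5.BrAlg1
import Groth.Agent.Helper5.BrAlg2
import Groth.Agent.Helper5.BrAlg4

set_option autoImplicit false
set_option linter.unusedSectionVars false
set_option linter.style.haveILetI false
universe u

/-! A criterion for geometric unibranchness of a localization in chart form. -/

namespace Groth.Agent.Helper5.FinCov

open Groth.Agent.Helper5.BrAlg

variable {A : Type u} [CommRing A] [IsDomain A] (K : Type u) [Field K] [Algebra A K]
  [IsFractionRing A K] (p : Ideal A) [p.IsPrime]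
  (O : Type u) [CommRing O] [Algebra A O] [IsLocalization.AtPrime O p] [Algebra O K]
  [IsScalarTower A O K] [IsDomain O] [IsLocalRing O] [IsFractionRing O K]
  (B : Type u) [CommRing B] [IsDomain B] [Algebra A B] (sig : B →ₐ[A] K)

/-- the criterion: a unique prime of the integral closure over `p`, with purely inseparable
residue field extension -/
theorem gu_crit (hinj : Function.Injective sig)
    (hint : ∀ b : B, IsIntegral A (sig b))
    (hsurj : ∀ y : K, IsIntegral A y → ∃ b : B, sig b = y)
    (huniq : ∀ q₁ q₂ : Ideal B, q₁.IsPrime → q₂.IsPrime → q₁.comap (algebraMap A B) = p →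
      q₂.comap (algebraMap A B) = p → q₁ = q₂)
    (e : ℕ)
    (hpi : ∀ (q : Ideal B) [q.IsPrime], q.comap (algebraMap A B) = p →
      ExpChar (IsLocalRing.ResidueField (Localization.AtPrime q)) e ∧
      ∃ ℓ : O →+* Localization.AtPrime q,
        (∀ a : A, ℓ (algebraMap A O a) = algebraMap B (Localization.AtPrime q) (algebraMap A B a)) ∧
        ∀ z : IsLocalRing.ResidueField (Localization.AtPrime q), ∃ (k : ℕ) (o : O),
          z ^ e ^ k = IsLocalRing.residue _ (ℓ o)) :
    CAlg2.IsGeomUnibranch O := by
  rw [isGeomUnibranch_iff O K]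
  constructor
  · -- local
    obtain ⟨m₀, hm₀⟩ := Ideal.exists_maximal (integralClosure O K)
    apply IsLocalRing.of_unique_max_ideal
    refine ⟨m₀, hm₀, ?_⟩
    intro m₁ hm₁
    haveI := hm₁
    haveI := hm₀
    obtain ⟨h1, h1'⟩ := comap_props K p O B sig hinj hint hsurj m₁
    obtain ⟨h0, h0'⟩ := comap_props K p O B sig hinj hint hsurj m₀
    have := huniq _ _ (Ideal.comap_isPrime _ m₁) (Ideal.comap_isPrime _ m₀) h1 h0
    rw [← h1', ← h0', this]
  · intro m'' hm''
    obtain ⟨hq, hq'⟩ := comap_props K p O B sig hinj hint hsurj m''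
    have hprime : (m''.comap (incl K O B sig hint)).IsPrime := Ideal.comap_isPrime _ m''
    generalize hqd : m''.comap (incl K O B sig hint) = q at hq hq' hprime
    subst hq'
    intro x
    haveI := hprime
    obtain ⟨hexp, ℓ, hℓ, hz⟩ := hpi q hq
    haveI := hexp
    obtain ⟨θ, hθ⟩ := exists_residue_equiv K p O B sig hinj hint hsurj q hq
      (Localization.AtPrime q) ℓ hℓ
    haveI : IsDomain (integralClosure O K ⧸ q.map (incl K O B sig hint)) :=
      Ideal.Quotient.isDomain _
    haveI h2 : ExpChar (integralClosure O K ⧸ q.map (incl K O B sig hint)) e :=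
      expChar_of_injective_ringHom (f := θ.symm.toRingHom) θ.symm.injective e
    have he : ringExpChar (integralClosure O K ⧸ q.map (incl K O B sig hint)) = e :=
      ringExpChar.eq _ e
    obtain ⟨k, o, hko⟩ := hz (θ x)
    refine ⟨k, o, ?_⟩
    rw [he]
    apply θ.injective
    show θ (Ideal.Quotient.mk _ (algebraMap O (integralClosure O K) o)) = θ (x ^ e ^ k)
    rw [hθ o, map_pow, hko]

end Groth.Agent.Helper5.FinCov
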