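import Mathlib
import Groth.Prelude
import Groth.Agent.Helper5.FinCovA
import Groth.Agent.Helper5.FinCovB
import Groth.Agent.Helper5.FinCovC

set_option autoImplicit false
set_option linter.unusedSectionVars false
set_option linter.style.haveILetI false
universe u

/-! Per-prime finite data making the residue field extension purely inseparable. -/

namespace Groth.Agent.Helper5.FinCov

open IsLocalRing

section locK

variable (A : Type u) [CommRing A] [IsDomain A] (K : Type u) [Field K] [Algebra A K]
  [IsFractionRing A K] (p : Ideal A) [p.IsPrime]

theorem isUnit_of_primeCompl (y : p.primeCompl) : IsUnit (algebraMap A K (y : A)) := by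
  rw [isUnit_iff_ne_zero, Ne, map_eq_zero_iff _ (IsFractionRing.injective A K)]
  rintro h
  exact y.2 (h ▸ p.zero_mem)

/-- the fraction field as an algebra over the localization at a prime -/
@[instance_reducible]
noncomputable def locAlg : Algebra (Localization.AtPrime p) K :=
  (IsLocalization.lift (M := p.primeCompl) (S := Localization.AtPrime p)
    (g := algebraMap A K) (isUnit_of_primeCompl A K p)).toAlgebra

theorem locTower :
    letI := locAlg A K p
    IsScalarTower A (Localization.AtPrime p) K := by
  letI := locAlg A K p
  exact IsScalarTower.of_algebraMap_eq (fun a =>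
    (IsLocalization.lift_eq (M := p.primeCompl) (S := Localization.AtPrime p)
      (isUnit_of_primeCompl A K p) a).symm)

theorem locFrac :
    letI := locAlg A K p
    IsFractionRing (Localization.AtPrime p) K := by
  letI := locAlg A K p
  haveI := locTower A K p
  exact IsFractionRing.isFractionRing_of_isDomain_of_isLocalization p.primeCompl
    (Localization.AtPrime p) K

theorem locDomain : IsDomain (Localization.AtPrime p) :=
  IsLocalization.isDomain_localization (M := p.primeCompl) (by
      intro x hx
      rw [mem_nonZeroDivisors_iff_ne_zero]
      rintro rfl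
      exact hx p.zero_mem)

end locK


/-- the integral closure as a type -/
abbrev IC (R K : Type u) [CommRing R] [Field K] [Algebra R K] : Type u :=
  ↥(integralClosure R K)

section perQ

variable (R : Type u) [CommRing R] [IsDomain R] [IsNoetherianRing R] (K : Type u) [Field K]
  [Algebra R K] [IsFractionRing R K] (p : Ideal R) [p.IsPrime]


theorem finite_primes :
    Finite {q : PrimeSpectrum (IC R K) // q.asIdeal.comap (algebraMap R (IC R K)) = p} := by
  letI := locAlg R K p
  haveI := locTower R K p
  haveI := locFrac R K p
  haveI := locDomain R p
  haveI : IsNoetherianRing (Localization.AtPrime p) :=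
    IsLocalization.isNoetherianRing p.primeCompl _ inferInstance
  exact finite_primes_over K p (Localization.AtPrime p) (IC R K) (integralClosure R K).val
    Subtype.val_injective (fun b => b.2) (fun y hy => ⟨⟨y, hy⟩, rfl⟩)

variable (q : Ideal (IC R K)) [q.IsPrime] (hq : q.comap (algebraMap R (IC R K)) = p)

/-- the residue field extension at `q` over `p` -/
@[instance_reducible]
noncomputable def resAlg : Algebra (ResidueField (Localization.AtPrime p))
    (ResidueField (Localization.AtPrime q)) :=
  (ResidueField.map (Localization.localRingHom p q (algebraMap R (IC R K)) hq.symm)).toAlgebra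

theorem resAlg_residue (a : R) :
    letI := resAlg R K p q hq
    algebraMap (ResidueField (Localization.AtPrime p)) (ResidueField (Localization.AtPrime q))
      (residue _ (algebraMap R (Localization.AtPrime p) a)) =
    residue _ (algebraMap (IC R K) (Localization.AtPrime q) (algebraMap R (IC R K) a)) := by
  letI := resAlg R K p q hq
  show ResidueField.map (Localization.localRingHom p q (algebraMap R (IC R K)) hq.symm)
    (residue _ (algebraMap R (Localization.AtPrime p) a)) = _
  rw [ResidueField.map_residue, Localization.localRingHom_to_map]

theorem finite_emb_q :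
    letI := resAlg R K p q hq
    Finite (Field.Emb (ResidueField (Localization.AtPrime p))
      (ResidueField (Localization.AtPrime q))) := by
  letI := locAlg R K p
  haveI := locTower R K p
  haveI := locFrac R K p
  haveI := locDomain R p
  haveI : IsNoetherianRing (Localization.AtPrime p) :=
    IsLocalization.isNoetherianRing p.primeCompl _ inferInstance
  exact finite_fieldEmb K p (Localization.AtPrime p) (IC R K) (integralClosure R K).val
    Subtype.val_injective (fun b => b.2) (fun y hy => ⟨⟨y, hy⟩, rfl⟩) q hq
    (Localization.AtPrime q) (Localization.localRingHom p q (algebraMap R (IC R K)) hq.symm)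
    (fun a => Localization.localRingHom_to_map _ _ _ _ a)

theorem isAlgebraic_q :
    letI := resAlg R K p q hq
    Algebra.IsAlgebraic (ResidueField (Localization.AtPrime p))
      (ResidueField (Localization.AtPrime q)) := by
  letI := resAlg R K p q hq
  have key : ∀ c : (IC R K), IsIntegral (ResidueField (Localization.AtPrime p))
      (residue (Localization.AtPrime q) (algebraMap (IC R K) (Localization.AtPrime q) c)) := by
    intro c
    have h1 : IsIntegral R c := integralClosure.isIntegral c
    exact IsIntegral.map_of_comp_eq
      ((residue (Localization.AtPrime p)).comp (algebraMap R (Localization.AtPrime p)))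
      ((residue (Localization.AtPrime q)).comp (algebraMap (IC R K) (Localization.AtPrime q)))
      (by ext a; exact resAlg_residue R K p q hq a) h1
  refine ⟨fun z => ?_⟩
  obtain ⟨x, rfl⟩ := residue_surjective z
  obtain ⟨c, d, rfl⟩ := IsLocalization.exists_mk'_eq q.primeCompl x
  have hd : IsUnit (algebraMap (IC R K) (Localization.AtPrime q) (d : (IC R K))) :=
    IsLocalization.map_units _ d
  have h2 : residue (Localization.AtPrime q) (IsLocalization.mk' _ c d) =
      residue _ (algebraMap (IC R K) (Localization.AtPrime q) c) *
        (residue _ (algebraMap (IC R K) (Localization.AtPrime q) (d : (IC R K))))⁻¹ := by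
    rw [eq_mul_inv_iff_mul_eq₀ ((hd.map (residue _)).ne_zero), ← map_mul,
      IsLocalization.mk'_spec]
  rw [h2]
  exact ((key c).isAlgebraic).mul ((key d).isAlgebraic).inv

include hq in
set_option maxHeartbeats 800000 in
theorem perQ :
    ∃ T : Set (IC R K), T.Finite ∧ ∀ (B : Subalgebra R (IC R K)), T ⊆ (B : Set (IC R K)) →
      ∀ z : ResidueField (Localization.AtPrime q), ∃ (k : ℕ)
        (o : Localization.AtPrime (q.comap (algebraMap B (IC R K)))),
        z ^ (ringExpChar (ResidueField (Localization.AtPrime p))) ^ k =
          residue _ (Localization.localRingHom (q.comap (algebraMap B (IC R K))) q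
            (algebraMap B (IC R K)) rfl o) := by
  letI := resAlg R K p q hq
  haveI := finite_emb_q R K p q hq
  haveI := isAlgebraic_q R K p q hq
  haveI : ExpChar (ResidueField (Localization.AtPrime p))
      (ringExpChar (ResidueField (Localization.AtPrime p))) := ringExpChar.expChar _
  obtain ⟨s, hs⟩ := exists_finset_pow_mem (ResidueField (Localization.AtPrime p))
    (ResidueField (Localization.AtPrime q)) (ringExpChar (ResidueField (Localization.AtPrime p)))
  have hrep : ∀ z : ResidueField (Localization.AtPrime q), ∃ c : IC R K, ∃ d : q.primeCompl,
      z = residue _ (IsLocalization.mk' (Localization.AtPrime q) c d) := by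
    intro z
    obtain ⟨x, rfl⟩ := residue_surjective z
    obtain ⟨c, d, rfl⟩ := IsLocalization.exists_mk'_eq q.primeCompl x
    exact ⟨c, d, rfl⟩
  choose cf df hcd using hrep
  refine ⟨(fun z => cf z) '' (s : Set _) ∪ (fun z => ((df z : q.primeCompl) : IC R K)) '' (s : Set _),
    (s.finite_toSet.image _).union (s.finite_toSet.image _), ?_⟩
  intro B hTB z
  have hpn : p = (q.comap (algebraMap B (IC R K))).comap (algebraMap R B) := by
    rw [Ideal.comap_comap, ← IsScalarTower.algebraMap_eq, hq]
  have hcomp : ∀ o : Localization.AtPrime p,
      Localization.localRingHom p q (algebraMap R (IC R K)) hq.symm o =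
        Localization.localRingHom (q.comap (algebraMap B (IC R K))) q (algebraMap B (IC R K)) rfl
          (Localization.localRingHom p (q.comap (algebraMap B (IC R K))) (algebraMap R B) hpn o) := by
    intro o
    have : Localization.localRingHom p q (algebraMap R (IC R K)) hq.symm =
        (Localization.localRingHom (q.comap (algebraMap B (IC R K))) q (algebraMap B (IC R K))
          rfl).comp
          (Localization.localRingHom p (q.comap (algebraMap B (IC R K))) (algebraMap R B) hpn) := by
      apply IsLocalization.ringHom_ext p.primeCompl
      ext a
      simp only [RingHom.comp_apply, Localization.localRingHom_to_map]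
      rw [← IsScalarTower.algebraMap_apply R B (IC R K), ← IsScalarTower.algebraMap_apply R (IC R K)]
    exact congrArg (fun f => f o) this
  let Λ : IntermediateField (ResidueField (Localization.AtPrime p))
      (ResidueField (Localization.AtPrime q)) :=
    Subfield.toIntermediateField
      (ResidueField.map (Localization.localRingHom (q.comap (algebraMap B (IC R K))) q
        (algebraMap B (IC R K)) rfl)).fieldRange (by
      intro x
      obtain ⟨o, rfl⟩ := residue_surjective x
      refine ⟨residue _ (Localization.localRingHom p (q.comap (algebraMap B (IC R K)))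
        (algebraMap R B) hpn o), ?_⟩
      rw [ResidueField.map_residue]
      show _ = ResidueField.map (Localization.localRingHom p q (algebraMap R (IC R K)) hq.symm)
        (residue _ o)
      rw [ResidueField.map_residue, hcomp o])
  have hsΛ : (↑s : Set (ResidueField (Localization.AtPrime q))) ⊆ Λ := by
    intro z hz
    have hc : cf z ∈ B := hTB (Or.inl ⟨z, hz, rfl⟩)
    have hd : ((df z : q.primeCompl) : IC R K) ∈ B := hTB (Or.inr ⟨z, hz, rfl⟩)
    have hdn : (⟨_, hd⟩ : B) ∈ (q.comap (algebraMap B (IC R K))).primeCompl := by
      intro hmem
      exact (df z).2 hmem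
    refine ⟨residue _ (IsLocalization.mk' (Localization.AtPrime (q.comap (algebraMap B (IC R K))))
      (⟨_, hc⟩ : B) (⟨⟨_, hd⟩, hdn⟩ : (q.comap (algebraMap B (IC R K))).primeCompl)), ?_⟩
    rw [ResidueField.map_residue, Localization.localRingHom_mk']
    exact (hcd z).symm
  obtain ⟨k, w, hw⟩ := hs Λ hsΛ z
  obtain ⟨o, rfl⟩ := residue_surjective w
  refine ⟨k, o, ?_⟩
  rw [← hw]
  exact ResidueField.map_residue _ o

include hq in
theorem perQ' :
    ∃ T : Set (IC R K), T.Finite ∧ ∀ (B : Subalgebra R (IC R K)), T ⊆ (B : Set (IC R K)) →
      ∀ (n : Ideal B) [n.IsPrime] (hn : n = q.comap (algebraMap B (IC R K)))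
        (z : ResidueField (Localization.AtPrime q)), ∃ (k : ℕ) (o : Localization.AtPrime n),
        z ^ (ringExpChar (ResidueField (Localization.AtPrime p))) ^ k =
          residue _ (Localization.localRingHom n q (algebraMap B (IC R K)) hn o) := by
  obtain ⟨T, hT, h⟩ := perQ R K p q hq
  refine ⟨T, hT, ?_⟩
  intro B hTB n _ hn z
  subst hn
  exact h B hTB z

end perQ

end Groth.Agent.Helper5.FinCov
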