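import Mathlib
import Groth.Prelude
import Groth.Agent.Helper5.FinCovD

set_option autoImplicit false
set_option linter.unusedSectionVars false
set_option linter.style.haveILetI false
universe u

/-! A finite birational extension geometrically unibranch over a given prime. -/

namespace Groth.Agent.Helper5.FinCov

open IsLocalRing Groth.Agent.Helper5.BrAlg

/-- a ring between a domain and its fraction field has the same fraction field -/
theorem isFractionRing_of_tower (R B K : Type u) [CommRing R] [CommRing B] [Field K] [IsDomain R] [IsDomain B]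
    [Algebra R B] [Algebra R K] [Algebra B K] [IsScalarTower R B K] [IsFractionRing R K]
    (hinj : Function.Injective (algebraMap B K)) : IsFractionRing B K := by
  refine ⟨⟨?_, ?_, ?_⟩⟩
  · rintro ⟨y, hy⟩
    rw [isUnit_iff_ne_zero, Ne, map_eq_zero_iff _ hinj]
    exact nonZeroDivisors.ne_zero hy
  · intro z
    obtain ⟨⟨a, b⟩, hab⟩ := IsLocalization.surj (nonZeroDivisors R) z
    have hb : algebraMap R B b ∈ nonZeroDivisors B := by
      have hinjRB : Function.Injective (algebraMap R B) := by
        have h := IsFractionRing.injective R K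
        rw [IsScalarTower.algebraMap_eq R B K] at h
        exact Function.Injective.of_comp h
      exact map_mem_nonZeroDivisors _ hinjRB b.2
    refine ⟨(algebraMap R B a, ⟨algebraMap R B b, hb⟩), ?_⟩
    show z * algebraMap B K (algebraMap R B b) = algebraMap B K (algebraMap R B a)
    rw [← IsScalarTower.algebraMap_apply, ← IsScalarTower.algebraMap_apply]
    exact hab
  · intro x y hxy
    exact ⟨1, by rw [hinj hxy]⟩


section main

variable (R : Type u) [CommRing R] [IsDomain R] [IsNoetherianRing R] (K : Type u) [Field K]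
  [Algebra R K] [IsFractionRing R K] (p : Ideal R) [p.IsPrime]

/-- distinct primes over `p` are separated by an element -/
theorem exists_sep (Q Q' : Ideal (IC R K)) [Q.IsPrime] [Q'.IsPrime]
    (hQ : Q.comap (algebraMap R (IC R K)) = p) (hQ' : Q'.comap (algebraMap R (IC R K)) = p)
    (hne : Q ≠ Q') : ∃ t : IC R K, t ∈ Q ∧ t ∉ Q' := by
  by_contra hcon
  push Not at hcon
  have hle : Q ≤ Q' := fun t ht => hcon t ht
  have hlt : Q < Q' := lt_of_le_of_ne hle hne
  obtain ⟨-, x, hxQ', hxQ⟩ := SetLike.lt_iff_le_and_exists.mp hlt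
  have := Ideal.comap_lt_comap_of_integral_mem_sdiff (R := R) hle ⟨hxQ', hxQ⟩
    (integralClosure.isIntegral x)
  rw [hQ, hQ'] at this
  exact lt_irrefl _ this

set_option maxHeartbeats 1600000 in
theorem gu_of_sub (B : Subalgebra R (IC R K)) (n : Ideal B) [n.IsPrime]
    (huniq : ∀ q₁ q₂ : Ideal (IC R K), q₁.IsPrime → q₂.IsPrime →
      q₁.comap (algebraMap B (IC R K)) = n → q₂.comap (algebraMap B (IC R K)) = n → q₁ = q₂)
    (e : ℕ)
    (hpi : ∀ (q : Ideal (IC R K)) [q.IsPrime] (hq : n = q.comap (algebraMap B (IC R K))),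
      ExpChar (ResidueField (Localization.AtPrime q)) e ∧
      ∀ z : ResidueField (Localization.AtPrime q), ∃ (k : ℕ) (o : Localization.AtPrime n),
        z ^ e ^ k = residue _ (Localization.localRingHom n q (algebraMap B (IC R K)) hq o)) :
    CAlg2.IsGeomUnibranch (Localization.AtPrime n) := by
  have hinjBK : Function.Injective (algebraMap B K) := by
    intro a b hab
    exact Subtype.ext (Subtype.ext hab)
  haveI : IsFractionRing B K := isFractionRing_of_tower R B K hinjBK
  letI := locAlg B K n
  haveI := locTower B K n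
  haveI := locFrac B K n
  haveI := locDomain B n
  let sig' : IC R K →ₐ[B] K := IsScalarTower.toAlgHom B (IC R K) K
  have hinj' : Function.Injective sig' := fun a b hab => Subtype.ext hab
  have hint' : ∀ c : IC R K, IsIntegral B (sig' c) := fun c => (c.2 : IsIntegral R (c : K)).tower_top
  haveI : Algebra.IsIntegral R B := by
    refine ⟨fun b => ?_⟩
    have h1 : IsIntegral R (b : IC R K) := integralClosure.isIntegral (b : IC R K)
    exact (isIntegral_algHom_iff B.val Subtype.val_injective).mp h1
  have hsurj' : ∀ y : K, IsIntegral B y → ∃ c : IC R K, sig' c = y := by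
    intro y hy
    exact ⟨⟨y, isIntegral_trans y hy⟩, rfl⟩
  exact gu_crit K n (Localization.AtPrime n) (IC R K) sig' hinj' hint' hsurj' huniq e
    (fun q _ hq => ⟨(hpi q hq.symm).1, Localization.localRingHom n q _ hq.symm,
      fun a => Localization.localRingHom_to_map _ _ _ _ a, (hpi q hq.symm).2⟩)

set_option maxHeartbeats 1600000 in
theorem exists_finite_subalgebra :
    ∃ B : Subalgebra R (IC R K), Module.Finite R B ∧
      ∀ (n : Ideal B) [n.IsPrime], n.comap (algebraMap R B) = p →
        CAlg2.IsGeomUnibranch (Localization.AtPrime n) := by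
  classical
  haveI hfinP := finite_primes R K p
  have hper : ∀ Q : {q : PrimeSpectrum (IC R K) // q.asIdeal.comap (algebraMap R (IC R K)) = p},
      ∃ T : Set (IC R K), T.Finite ∧ ∀ (B : Subalgebra R (IC R K)), T ⊆ (B : Set (IC R K)) →
      ∀ (n : Ideal B) [n.IsPrime] (hn : n = Q.1.asIdeal.comap (algebraMap B (IC R K)))
        (z : ResidueField (Localization.AtPrime Q.1.asIdeal)), ∃ (k : ℕ)
        (o : Localization.AtPrime n),
        z ^ (ringExpChar (ResidueField (Localization.AtPrime p))) ^ k =
          residue _ (Localization.localRingHom n Q.1.asIdeal (algebraMap B (IC R K)) hn o) :=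
    fun Q => perQ' R K p Q.1.asIdeal Q.2
  choose Tq hTqfin hTq using hper
  have hsep : ∀ Q Q' : {q : PrimeSpectrum (IC R K) // q.asIdeal.comap (algebraMap R (IC R K)) = p},
      Q ≠ Q' → ∃ t : IC R K, t ∈ Q.1.asIdeal ∧ t ∉ Q'.1.asIdeal := by
    intro Q Q' hne
    refine exists_sep R K p Q.1.asIdeal Q'.1.asIdeal Q.2 Q'.2 ?_
    intro h
    exact hne (Subtype.ext (PrimeSpectrum.ext h))
  let sepf : {q : PrimeSpectrum (IC R K) // q.asIdeal.comap (algebraMap R (IC R K)) = p} ×
      {q : PrimeSpectrum (IC R K) // q.asIdeal.comap (algebraMap R (IC R K)) = p} → IC R K :=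
    fun QQ => if h : QQ.1 ≠ QQ.2 then (hsep QQ.1 QQ.2 h).choose else 0
  let T : Set (IC R K) := (⋃ Q, Tq Q) ∪ Set.range sepf
  have hTfin : T.Finite := (Set.finite_iUnion hTqfin).union (Set.finite_range sepf)
  refine ⟨Algebra.adjoin R T, ?_, ?_⟩
  · exact Module.Finite.iff_fg.mpr
      (fg_adjoin_of_finite hTfin (fun x _ => integralClosure.isIntegral x))
  intro n hnP hn
  have hover : ∀ q : Ideal (IC R K), q.comap (algebraMap (Algebra.adjoin R T) (IC R K)) = n →
      q.comap (algebraMap R (IC R K)) = p := by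
    intro q hq
    rw [IsScalarTower.algebraMap_eq R (Algebra.adjoin R T) (IC R K), ← Ideal.comap_comap, hq, hn]
  refine gu_of_sub R K (Algebra.adjoin R T) n ?_
    (ringExpChar (ResidueField (Localization.AtPrime p))) ?_
  · intro q₁ q₂ hq₁P hq₂P hq₁ hq₂
    by_contra hne
    let Q₁ : {q : PrimeSpectrum (IC R K) // q.asIdeal.comap (algebraMap R (IC R K)) = p} :=
      ⟨⟨q₁, hq₁P⟩, hover q₁ hq₁⟩
    let Q₂ : {q : PrimeSpectrum (IC R K) // q.asIdeal.comap (algebraMap R (IC R K)) = p} :=
      ⟨⟨q₂, hq₂P⟩, hover q₂ hq₂⟩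
    have hQne : Q₁ ≠ Q₂ := fun h => hne (congrArg (fun Q => Q.1.asIdeal) h)
    have hspec := (hsep Q₁ Q₂ hQne).choose_spec
    have hsepf : sepf (Q₁, Q₂) = (hsep Q₁ Q₂ hQne).choose := dif_pos hQne
    have htT : sepf (Q₁, Q₂) ∈ T := Or.inr ⟨(Q₁, Q₂), rfl⟩
    have htB : sepf (Q₁, Q₂) ∈ Algebra.adjoin R T := Algebra.subset_adjoin htT
    have h1 : (⟨_, htB⟩ : Algebra.adjoin R T) ∈ q₁.comap (algebraMap (Algebra.adjoin R T) (IC R K)) := by
      show sepf (Q₁, Q₂) ∈ q₁
      rw [hsepf]
      exact hspec.1
    rw [hq₁, ← hq₂] at h1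
    have h2 : sepf (Q₁, Q₂) ∈ q₂ := h1
    rw [hsepf] at h2
    exact hspec.2 h2
  · intro q hqP hq
    have hqp := hover q hq.symm
    let Q : {q : PrimeSpectrum (IC R K) // q.asIdeal.comap (algebraMap R (IC R K)) = p} :=
      ⟨⟨q, hqP⟩, hqp⟩
    refine ⟨?_, ?_⟩
    · letI := resAlg R K p q hqp
      haveI : ExpChar (ResidueField (Localization.AtPrime p))
          (ringExpChar (ResidueField (Localization.AtPrime p))) := ringExpChar.expChar _
      exact expChar_of_injective_ringHom
        (algebraMap (ResidueField (Localization.AtPrime p))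
          (ResidueField (Localization.AtPrime q))).injective _
    · have hsub : Tq Q ⊆ ((Algebra.adjoin R T : Subalgebra R (IC R K)) : Set (IC R K)) :=
        fun x hx => Algebra.subset_adjoin (Or.inl (Set.mem_iUnion.mpr ⟨Q, hx⟩))
      exact hTq Q (Algebra.adjoin R T) hsub n hq

end main

end Groth.Agent.Helper5.FinCov
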