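import Mathlib
import Groth.Prelude
import Groth.Agent.Helper5.FinCovE
import Groth.Agent.Helper5.GuBir3

set_option autoImplicit false
set_option linter.unusedSectionVars false
set_option linter.style.haveILetI false
universe u

/-! A finite surjective cover of an affine neighbourhood, geometrically unibranch over a point. -/

namespace Groth.Agent.Helper5.FinCov

open AlgebraicGeometry CategoryTheory CategoryTheory.Limits

set_option maxHeartbeats 1600000 in
theorem exists_gu_cover (Y : Scheme.{u}) [IsIntegral Y] [IsNoetherian Y] (y : Y) :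
    ∃ (T V : Scheme.{u}) (v : T ⟶ V) (j : V ⟶ Y), IsFinite v ∧ Surjective v ∧
      IsOpenImmersion j ∧ y ∈ Set.range j ∧
      ∀ t : T, j (v t) = y → CAlg2.IsGeomUnibranch (T.presheaf.stalk t) := by
  obtain ⟨_, ⟨U, hU0, rfl⟩, hyU, -⟩ := Y.isBasis_affineOpens.exists_subset_of_mem_open
    (Set.mem_univ y) isOpen_univ
  have hU : IsAffineOpen U := hU0
  haveI : IsOpenImmersion hU.fromSpec := hU.isOpenImmersion_fromSpec
  haveI : Nonempty U := ⟨⟨y, hyU⟩⟩
  haveI : IsDomain Γ(Y, U) := inferInstance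
  haveI : IsNoetherianRing Γ(Y, U) := IsLocallyNoetherian.component_noetherian ⟨U, hU⟩
  let K := FractionRing Γ(Y, U)
  let P := hU.primeIdealOf ⟨y, hyU⟩
  obtain ⟨B, hBfin, hB⟩ := exists_finite_subalgebra Γ(Y, U) K P.asIdeal
  let φ : Γ(Y, U) ⟶ CommRingCat.of B := CommRingCat.ofHom (algebraMap Γ(Y, U) B)
  refine ⟨Spec (CommRingCat.of B), Spec Γ(Y, U), Spec.map φ, hU.fromSpec, ?_, ?_, inferInstance,
    ⟨P, hU.fromSpec_primeIdealOf ⟨y, hyU⟩⟩, ?_⟩
  · rw [IsFinite.SpecMap_iff]
    exact RingHom.finite_algebraMap.mpr hBfin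
  · refine ⟨fun Q0 => ?_⟩
    let Q : PrimeSpectrum Γ(Y, U) := Q0
    haveI : Q.asIdeal.IsPrime := Q.isPrime
    haveI : Algebra.IsIntegral Γ(Y, U) B := Algebra.IsIntegral.of_finite _ _
    have hinj : Function.Injective (algebraMap Γ(Y, U) B) := by
      have h1 : Function.Injective (algebraMap Γ(Y, U) (IC Γ(Y, U) K)) := by
        intro a b hab
        exact IsFractionRing.injective Γ(Y, U) K (congrArg Subtype.val hab)
      rw [IsScalarTower.algebraMap_eq Γ(Y, U) B (IC Γ(Y, U) K), RingHom.coe_comp] at h1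
      exact Function.Injective.of_comp h1
    obtain ⟨Q', -, hQ'P, hQ'⟩ := Ideal.exists_ideal_over_prime_of_isIntegral (S := ↥B) Q.asIdeal
      ⊥ (by
        rw [← RingHom.ker_eq_comap_bot, (RingHom.injective_iff_ker_eq_bot _).mp hinj]
        exact bot_le)
    refine ⟨⟨Q', hQ'P⟩, ?_⟩
    show Spec.map φ ⟨Q', hQ'P⟩ = Q
    exact PrimeSpectrum.ext hQ'
  · intro t0 ht
    let t : PrimeSpectrum B := t0
    haveI : t.asIdeal.IsPrime := t.isPrime
    have h1 : Spec.map φ t0 = P := by
      apply hU.fromSpec.isOpenEmbedding.injective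
      rw [ht]
      exact (hU.fromSpec_primeIdealOf ⟨y, hyU⟩).symm
    have h2 : t.asIdeal.comap (algebraMap Γ(Y, U) B) = P.asIdeal :=
      congrArg PrimeSpectrum.asIdeal h1
    have h3 := hB t.asIdeal h2
    exact Groth.Agent.Helper5.GuBir.gu_of_ringEquiv
      (Spec.stalkIso (CommRingCat.of B) t0).commRingCatIsoToRingEquiv.symm h3

end Groth.Agent.Helper5.FinCov
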