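import Mathlib
import Groth.Prelude
import Groth.Agent.Helper5.PtOpen3

set_option autoImplicit false
set_option linter.unusedSectionVars false
set_option linter.style.haveILetI false
universe u

/-! Openness at a point passes to a cofiltered limit of finite base changes. -/

namespace Groth.Agent.Helper5.FinExt

open AlgebraicGeometry CategoryTheory CategoryTheory.Limits

variable {X Y : Scheme.{u}} (f : X ⟶ Y) (x : X)

set_option maxHeartbeats 1600000 in
theorem isOpenAt_of_isLimit {J : Type u} [Category.{u} J] [IsCofiltered J] (D : J ⥤ Over Y)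
    (c : Cone D) (hc : IsLimit c) [∀ j, IsFinite (D.obj j).hom]
    (H : ∀ (j : J) (x₁ : ↥(pullback f (D.obj j).hom)),
      (pullback.fst f (D.obj j).hom).base x₁ = x →
      EGA43.IsOpenAt (pullback.snd f (D.obj j).hom).base x₁)
    (x₁ : ↥(pullback f c.pt.hom)) (hx₁ : (pullback.fst f c.pt.hom).base x₁ = x) :
    EGA43.IsOpenAt (pullback.snd f c.pt.hom).base x₁ := by
  let F : Over Y ⥤ Scheme.{u} := Over.pullback f ⋙ Over.forget X
  haveI : PreservesLimit D (Over.pullback f) :=
    (Over.mapPullbackAdj f).rightAdjoint_preservesLimits.preservesLimitsOfShape.preservesLimit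
  haveI : PreservesLimit D F := inferInstance
  let cS : Cone (D ⋙ F) := F.mapCone c
  have hcS : IsLimit cS := isLimitOfPreserves F hc
  -- the transition maps are affine
  haveI hsndj : ∀ j, IsFinite (pullback.snd (D.obj j).hom f) := fun j => inferInstance
  haveI haff : ∀ {i j : J} (φ : i ⟶ j), IsAffineHom ((D ⋙ F).map φ) := by
    intro i j φ
    have h1 : (D ⋙ F).map φ ≫ pullback.snd (D.obj j).hom f = pullback.snd (D.obj i).hom f :=
      pullback.lift_snd _ _ _
    haveI : IsFinite ((D ⋙ F).map φ ≫ pullback.snd (D.obj j).hom f) := by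
      rw [h1]; exact hsndj i
    haveI hj : IsFinite (pullback.snd (D.obj j).hom f) := hsndj j
    haveI hjs : IsSeparated (pullback.snd (D.obj j).hom f) := inferInstance
    haveI : IsFinite ((D ⋙ F).map φ) :=
      @IsFinite.of_comp _ _ _ ((D ⋙ F).map φ) (pullback.snd (D.obj j).hom f) this hjs
    infer_instance
  have hbasis := isBasis_preimage_isAffineOpen (D ⋙ F) cS hcS
  -- the symmetry isomorphisms
  let σ := pullbackSymmetry f c.pt.hom
  intro W hW
  obtain ⟨O, hOW, hO, hxO⟩ := mem_nhds_iff.mp hW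
  let x₁' : ↥(pullback c.pt.hom f) := σ.hom x₁
  have hσinv : ∀ w, σ.inv (σ.hom w) = w := fun w =>
    congrArg (fun ψ : pullback f c.pt.hom ⟶ pullback f c.pt.hom => ψ w) σ.hom_inv_id
  let O' : (pullback c.pt.hom f).Opens := ⟨σ.inv ⁻¹' O, hO.preimage σ.inv.continuous⟩
  have hx₁'O' : x₁' ∈ O' := by
    show σ.inv (σ.hom x₁) ∈ O
    rw [hσinv]; exact hxO
  obtain ⟨_, ⟨j, V, hV, rfl⟩, hxV, hVO⟩ :=
    TopologicalSpace.Opens.isBasis_iff_nbhd.mp hbasis hx₁'O'
  let V' : (pullback (D.obj j).hom f).Opens := V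
  -- the projection to the `j`-th stage and the cartesian square
  let pj : pullback c.pt.hom f ⟶ pullback (D.obj j).hom f := cS.π.app j
  have hpj_fst : pj ≫ pullback.fst (D.obj j).hom f =
      pullback.fst c.pt.hom f ≫ (c.π.app j).left := pullback.lift_fst _ _ _
  have hpj_snd : pj ≫ pullback.snd (D.obj j).hom f = pullback.snd c.pt.hom f :=
    pullback.lift_snd _ _ _
  have hsq : IsPullback pj (pullback.fst c.pt.hom f) (pullback.fst (D.obj j).hom f)
      (c.π.app j).left := by
    refine IsPullback.of_right ?_ hpj_fst (IsPullback.of_hasPullback (D.obj j).hom f).flip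
    rw [hpj_snd, Over.w (c.π.app j)]
    exact (IsPullback.of_hasPullback c.pt.hom f).flip
  have himg := Scheme.image_preimage_eq_of_isPullback hsq (V' : Set ↥(pullback (D.obj j).hom f))
  -- apply the hypothesis at stage `j`
  let σj := pullbackSymmetry f (D.obj j).hom
  let y₁ : ↥(pullback f (D.obj j).hom) := σj.inv (pj x₁')
  have hσj : ∀ w, σj.hom (σj.inv w) = w := fun w =>
    congrArg (fun ψ : pullback (D.obj j).hom f ⟶ pullback (D.obj j).hom f => ψ w) σj.inv_hom_id
  have hy₁ : (pullback.fst f (D.obj j).hom).base y₁ = x := by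
    have e1 : (pullback.fst f (D.obj j).hom) (σj.inv (pj x₁')) =
        (pullback.snd (D.obj j).hom f) (pj x₁') :=
      congrArg (fun ψ : pullback (D.obj j).hom f ⟶ X => ψ (pj x₁'))
        (pullbackSymmetry_inv_comp_fst f (D.obj j).hom)
    have e2 : (pullback.snd (D.obj j).hom f) (pj x₁') = (pullback.snd c.pt.hom f) x₁' :=
      congrArg (fun ψ : pullback c.pt.hom f ⟶ X => ψ x₁') hpj_snd
    have e3 : (pullback.snd c.pt.hom f) (σ.hom x₁) = (pullback.fst f c.pt.hom) x₁ :=
      congrArg (fun ψ : pullback f c.pt.hom ⟶ X => ψ x₁) (pullbackSymmetry_hom_comp_snd f c.pt.hom)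
    exact (e1.trans (e2.trans e3)).trans hx₁
  have hnb : σj.hom ⁻¹' (V' : Set ↥(pullback (D.obj j).hom f)) ∈ nhds y₁ := by
    refine (V'.2.preimage σj.hom.continuous).mem_nhds ?_
    show σj.hom (σj.inv (pj x₁')) ∈ V'
    rw [hσj]
    exact hxV
  have hH := H j y₁ hy₁ _ hnb
  have hsnd_j : ∀ w, (pullback.snd f (D.obj j).hom) w = (pullback.fst (D.obj j).hom f) (σj.hom w) :=
    fun w => (congrArg (fun ψ : pullback f (D.obj j).hom ⟶ (D.obj j).left => ψ w)
      (pullbackSymmetry_hom_comp_fst f (D.obj j).hom)).symm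
  have hset : (pullback.snd f (D.obj j).hom).base '' (σj.hom ⁻¹' (V' : Set ↥(pullback (D.obj j).hom f)))
      = (pullback.fst (D.obj j).hom f).base '' (V' : Set ↥(pullback (D.obj j).hom f)) := by
    ext t
    constructor
    · rintro ⟨w, hw, rfl⟩
      exact ⟨σj.hom w, hw, (hsnd_j w).symm⟩
    · rintro ⟨v, hv, rfl⟩
      refine ⟨σj.inv v, ?_, ?_⟩
      · show σj.hom (σj.inv v) ∈ V'
        rw [hσj]; exact hv
      · have := hsnd_j (σj.inv v)
        rw [hσj] at this
        exact this
  rw [hset] at hH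
  have hpt : (pullback.snd f (D.obj j).hom).base y₁ =
      (c.π.app j).left ((pullback.fst c.pt.hom f) x₁') := by
    have := hsnd_j y₁
    rw [this]
    show (pullback.fst (D.obj j).hom f) (σj.hom (σj.inv (pj x₁'))) = _
    rw [hσj]
    exact congrArg (fun ψ : pullback c.pt.hom f ⟶ (D.obj j).left => ψ x₁') hpj_fst
  rw [hpt] at hH
  have hcont : (c.π.app j).left.base ⁻¹'
      ((pullback.fst (D.obj j).hom f).base '' (V' : Set ↥(pullback (D.obj j).hom f))) ∈
      nhds ((pullback.fst c.pt.hom f) x₁') :=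
    (c.π.app j).left.continuous.continuousAt hH
  rw [← himg] at hcont
  have hfst_snd : ∀ w, (pullback.snd f c.pt.hom) w = (pullback.fst c.pt.hom f) (σ.hom w) :=
    fun w => (congrArg (fun ψ : pullback f c.pt.hom ⟶ c.pt.left => ψ w)
      (pullbackSymmetry_hom_comp_fst f c.pt.hom)).symm
  have hσ' : ∀ w, σ.hom (σ.inv w) = w := fun w =>
    congrArg (fun ψ : pullback c.pt.hom f ⟶ pullback c.pt.hom f => ψ w) σ.inv_hom_id
  rw [hfst_snd x₁]
  refine Filter.mem_of_superset hcont ?_
  rintro _ ⟨w, hw, rfl⟩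
  have hwO : w ∈ O' := hVO hw
  refine ⟨σ.inv w, hOW hwO, ?_⟩
  rw [hfst_snd, hσ']

end Groth.Agent.Helper5.FinExt
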