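import Mathlib
import Groth.Prelude
import Groth.Agent.Helper5.FinExtA
import Groth.Agent.S7382

set_option autoImplicit false
set_option linter.unusedSectionVars false
set_option linter.style.haveILetI false
universe u

/-! From finite base changes to quasi-finite separated base changes (Zariski's main theorem and
approximation of integral morphisms by finite ones). -/

namespace Groth.Agent.Helper5.FinExt

open AlgebraicGeometry CategoryTheory CategoryTheory.Limits

set_option maxHeartbeats 1600000 in
theorem isOpenAt_quasiFinite {X Y : Scheme.{u}} [IsNoetherian Y] (f : X ⟶ Y) (x : X)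
    (H : ∀ (Y₁ : Scheme.{u}) (g : Y₁ ⟶ Y) [IsFinite g], ∀ x₁ : ↥(pullback f g),
      (pullback.fst f g).base x₁ = x → EGA43.IsOpenAt (pullback.snd f g).base x₁)
    {Y' : Scheme.{u}} (q : Y' ⟶ Y) [LocallyOfFiniteType q] [IsSeparated q] [QuasiCompact q]
    [LocallyQuasiFinite q] (x' : ↥(pullback f q)) (hx' : (pullback.fst f q).base x' = x) :
    EGA43.IsOpenAt (pullback.snd f q).base x' := by
  obtain ⟨I, hpre, hdir, hne, D, c, hc, hfin, ⟨e⟩⟩ :=
    Groth.Agent.S7382.result q.fromNormalization
  haveI : IsCofiltered Iᵒᵖ := inferInstance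
  haveI : ∀ j, IsFinite (D.obj j).hom := fun j => (hfin j).1
  have hL := isOpenAt_of_isLimit f x D c hc (fun j x₁ hx₁ => H _ (D.obj j).hom x₁ hx₁)
  let τ' : Y' ⟶ c.pt.left := q.toNormalization ≫ e.inv.left
  have hτ' : τ' ≫ c.pt.hom = q := by
    show (q.toNormalization ≫ e.inv.left) ≫ c.pt.hom = q
    rw [Category.assoc, Over.w e.inv]
    exact q.toNormalization_fromNormalization
  haveI : IsIso e.inv.left := inferInstanceAs (IsIso ((Over.forget Y).map e.inv))
  haveI : IsOpenImmersion τ' := by
    show IsOpenImmersion (q.toNormalization ≫ e.inv.left)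
    infer_instance
  let a : pullback f q ⟶ pullback f c.pt.hom :=
    pullback.lift (pullback.fst f q) (pullback.snd f q ≫ τ') (by
      rw [Category.assoc, hτ', pullback.condition])
  have ha_fst : a ≫ pullback.fst f c.pt.hom = pullback.fst f q := pullback.lift_fst _ _ _
  have ha_snd : a ≫ pullback.snd f c.pt.hom = pullback.snd f q ≫ τ' := pullback.lift_snd _ _ _
  have hsq : IsPullback a (pullback.snd f q) (pullback.snd f c.pt.hom) τ' := by
    refine IsPullback.of_right ?_ ha_snd (IsPullback.of_hasPullback f c.pt.hom)
    rw [ha_fst, hτ']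
    exact IsPullback.of_hasPullback f q
  haveI : IsOpenImmersion a :=
    MorphismProperty.of_isPullback (P := @IsOpenImmersion) hsq.flip inferInstance
  have h1 : (pullback.fst f c.pt.hom).base (a x') = x := by
    have := congrArg (fun ψ : pullback f q ⟶ X => ψ x') ha_fst
    exact this.trans hx'
  exact Groth.Agent.Helper5.PtOpen.isOpenAt_square_of (pullback.snd f c.pt.hom) (pullback.snd f q) a τ'
    ha_snd.symm x' (hL (a x') h1)

end Groth.Agent.Helper5.FinExt
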