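import Mathlib
import Groth.Prelude
import Groth.Agent.Helper5.FinCovF
import Groth.Agent.Helper5.FinExtB
import Groth.Agent.Helper5.ChevI
import Groth.Agent.Helper5.ChevE
import Groth.Agent.Helper5.EtDim
import Groth.Agent.Helper5.PtOpen8
import Groth.Agent.S4942

set_option autoImplicit false
set_option linter.unusedSectionVars false
set_option linter.style.haveILetI false
universe u

/-! EGA IV 14.4.9 over an integral Noetherian base. -/

namespace Groth.Agent.Helper5.FinCov

open AlgebraicGeometry CategoryTheory CategoryTheory.Limits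

/-- descent of universal openness at a point along a universally closed surjective morphism, for
an arbitrary cartesian square -/
theorem isUnivOpenAt_of_isPullback_closed_surjective {P X Y Y₁ : Scheme.{u}} (v : Y₁ ⟶ Y)
    [UniversallyClosed v] [Surjective v] (f : X ⟶ Y) (x : X) {p₁ : P ⟶ X} {q₁ : P ⟶ Y₁}
    (sq : IsPullback p₁ q₁ f v) (h : ∀ z : P, p₁ z = x → EGA43.IsUnivOpenAt q₁ z) :
    EGA43.IsUnivOpenAt f x := by
  apply Groth.Agent.S4942.result v f x
  intro x₁ hx₁
  let e := sq.isoPullback
  have e1 : e.inv ≫ p₁ = pullback.fst f v := sq.isoPullback_inv_fst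
  have e2 : e.inv ≫ q₁ = pullback.snd f v := sq.isoPullback_inv_snd
  have sq2 : IsPullback e.inv (pullback.snd f v) q₁ (𝟙 Y₁) :=
    IsPullback.of_horiz_isIso ⟨by rw [Category.comp_id, e2]⟩
  refine Groth.Agent.Helper5.PtOpen.isUnivOpenAt_of_isPullback sq2 x₁ (h _ ?_)
  have := congrArg (fun ψ : pullback f v ⟶ X => ψ x₁) e1
  exact this.trans hx₁

set_option maxHeartbeats 1600000 in
theorem isUnivOpenAt_of_finite_integral {X Y : Scheme.{u}} [IsIntegral Y] [IsNoetherian Y]
    (f : X ⟶ Y) [LocallyOfFiniteType f] (x : X)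
    (hmax : ∀ x' : X, f x' = f x → x' ⤳ x → x' = x)
    (H : ∀ (Y' : Scheme.{u}) (g : Y' ⟶ Y) [IsFinite g], ∀ x' : ↥(pullback f g),
      (pullback.fst f g).base x' = x → EGA43.IsOpenAt (pullback.snd f g).base x') :
    EGA43.IsUnivOpenAt f x := by
  obtain ⟨T, V, v, j, hvfin, hvsurj, hj, ⟨y₀, hy₀⟩, hgu⟩ := exists_gu_cover Y (f x)
  haveI := hvfin
  haveI := hvsurj
  haveI := hj
  let q : T ⟶ Y := v ≫ j
  haveI : LocallyOfFiniteType q := inferInstance
  haveI : IsSeparated q := inferInstance
  haveI : QuasiCompact q := inferInstance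
  haveI : LocallyQuasiFinite q := inferInstance
  haveI : IsLocallyNoetherian T := LocallyOfFiniteType.isLocallyNoetherian q
  have hcondq : ∀ z : ↥(pullback f q), f (pullback.fst f q z) = q (pullback.snd f q z) := fun z =>
    congrArg (fun ψ : pullback f q ⟶ Y => ψ z) (pullback.condition (f := f) (g := q))
  -- Step A
  have hA : ∀ z : ↥(pullback f q), pullback.fst f q z = x →
      EGA43.IsUnivOpenAt (pullback.snd f q) z := by
    intro z hz
    have hop := Groth.Agent.Helper5.FinExt.isOpenAt_quasiFinite f x H q z hz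
    refine Groth.Agent.Helper5.Chev.isUnivOpenAt_of_isOpenAt_max (pullback.snd f q) z ?_ ?_ hop
    · intro z' hz' hspec
      have h1 : pullback.fst f q z' ⤳ x := hz ▸ hspec.map (pullback.fst f q).continuous
      have h2 : f (pullback.fst f q z') = f x := by
        rw [hcondq z', hz', ← hcondq z, hz]
      have h3 := hmax _ h2 h1
      exact Groth.Agent.Helper5.EtDim.eq_of_specializes_of_lqf (pullback.fst f q) hspec
        (h3.trans hz.symm)
    · apply hgu
      show q (pullback.snd f q z) = f x
      rw [← hcondq z, hz]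
  -- Step B
  let fj := pullback.snd f j
  obtain ⟨xj, hxj1, hxj2⟩ := Scheme.Pullback.exists_preimage_pullback x y₀ hy₀.symm
  let a : pullback f q ⟶ pullback f j :=
    pullback.lift (pullback.fst f q) (pullback.snd f q ≫ v) (by
      rw [Category.assoc]; exact pullback.condition)
  have ha_fst : a ≫ pullback.fst f j = pullback.fst f q := pullback.lift_fst _ _ _
  have ha_snd : a ≫ pullback.snd f j = pullback.snd f q ≫ v := pullback.lift_snd _ _ _
  have hsq : IsPullback a (pullback.snd f q) fj v := by
    refine IsPullback.of_right ?_ ha_snd (IsPullback.of_hasPullback f j)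
    rw [ha_fst]
    exact IsPullback.of_hasPullback f q
  have hB : EGA43.IsUnivOpenAt fj xj := by
    refine isUnivOpenAt_of_isPullback_closed_surjective v fj xj hsq ?_
    intro z hz
    apply hA
    have := congrArg (fun ψ : pullback f q ⟶ X => ψ z) ha_fst
    refine this.symm.trans ?_
    show pullback.fst f j (a z) = x
    rw [hz]
    exact hxj1
  have hC : EGA43.IsUnivOpenAt (fj ≫ j) xj :=
    Groth.Agent.Helper5.Chev.isUnivOpenAt_comp_of_isOpenImmersion fj j xj hB
  have hcond : fj ≫ j = pullback.fst f j ≫ f := (pullback.condition (f := f) (g := j)).symm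
  rw [hcond] at hC
  have := Groth.Agent.Helper5.Chev.isUnivOpenAt_of_comp (pullback.fst f j) f xj hC
  rwa [hxj1] at this

end Groth.Agent.Helper5.FinCov
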