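import Mathlib
import Groth.Prelude
import Groth.Agent.Helper5.FinCovG
import Groth.Agent.Helper5.CutSec7
import Groth.Agent.S4929
import Groth.Agent.Helper5.ChevF
import Groth.Agent.Helper5.ChevL

set_option autoImplicit false
set_option linter.unusedSectionVars false
set_option linter.style.haveILetI false
universe u

/-! EGA IV 14.4.9 and 14.4.10 over a Noetherian base. -/

namespace Groth.Agent.Helper5.FinCov

open AlgebraicGeometry CategoryTheory CategoryTheory.Limits

/-- the reduced induced structure on an irreducible component -/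
theorem component_props {Y : Scheme.{u}} [IsNoetherian Y] (Z : Set Y)
    (hZ : Z ∈ irreducibleComponents (Y : Type u)) :
    ∃ (T : Scheme.{u}) (g : T ⟶ Y), IsClosedImmersion g ∧ Set.range g = Z ∧ IsIntegral T ∧
      IsNoetherian T := by
  have hZcl := isClosed_of_mem_irreducibleComponents Z hZ
  let Zc : TopologicalSpace.Closeds Y := ⟨Z, hZcl⟩
  let I := Scheme.IdealSheafData.vanishingIdeal Zc
  let ι₀ : I.subscheme ⟶ Y := I.subschemeι
  have hrange : Set.range ι₀ = Z := by rw [Scheme.IdealSheafData.range_subschemeι]; rfl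
  have hred : IsReduced I.subscheme :=
    Groth.Agent.Helper5.CutSec.isReduced_vanishingIdeal_subscheme Zc
  obtain ⟨ξ, hξ⟩ := QuasiSober.sober hZ.1 hZcl
  have hξdef : closure ({ξ} : Set Y) = Z := hξ.def
  obtain ⟨ξT, hξT⟩ : ξ ∈ Set.range ι₀ := by rw [hrange, ← hξdef]; exact subset_closure rfl
  have hξTgen : closure ({ξT} : Set ↥I.subscheme) = Set.univ := by
    rw [ι₀.isEmbedding.toIsInducing.closure_eq_preimage_closure_image, Set.image_singleton, hξT,
      hξdef]
    refine Set.eq_univ_of_forall fun t => ?_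
    show ι₀ t ∈ Z
    rw [← hrange]; exact ⟨t, rfl⟩
  have hirr : IrreducibleSpace ↥I.subscheme := by
    have h1 : IsIrreducible (Set.univ : Set ↥I.subscheme) := by
      rw [← hξTgen]; exact isIrreducible_singleton.closure
    exact (irreducibleSpace_def _).2 h1
  have hint : IsIntegral I.subscheme := isIntegral_of_irreducibleSpace_of_isReduced _
  haveI : IsLocallyNoetherian I.subscheme := LocallyOfFiniteType.isLocallyNoetherian ι₀
  haveI : CompactSpace ↥I.subscheme := QuasiCompact.compactSpace_of_compactSpace ι₀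
  exact ⟨I.subscheme, ι₀, inferInstance, hrange, hint, ⟨⟩⟩

set_option maxHeartbeats 1600000 in
/-- **S4940** -/
theorem s4940 {X Y : Scheme.{u}} [IsNoetherian Y] (f : X ⟶ Y)
    [LocallyOfFiniteType f] (x : X)
    (hmax : ∀ x' : X, f.base x' = f.base x → x ∈ closure {x'} → x' = x) :
    EGA43.IsUnivOpenAt f x ↔
      ∀ (Y' : Scheme.{u}) (g : Y' ⟶ Y) [IsFinite g], ∀ x' : ↥(pullback f g),
        (pullback.fst f g).base x' = x → EGA43.IsOpenAt (pullback.snd f g).base x' := by
  constructor
  · intro h Y' g _ x' hx'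
    exact h Y' g x' hx'
  intro H
  have hcomp : ∀ Z : {Z : Set Y // Z ∈ irreducibleComponents (Y : Type u)},
      ∃ (T : Scheme.{u}) (g : T ⟶ Y), IsClosedImmersion g ∧ Set.range g = Z.1 ∧ IsIntegral T ∧
        IsNoetherian T := fun Z => component_props Z.1 Z.2
  choose T g hgcl hgrange hTint hTnoeth using hcomp
  haveI : Finite {Z : Set Y // Z ∈ irreducibleComponents (Y : Type u)} :=
    (TopologicalSpace.NoetherianSpace.finite_irreducibleComponents (α := Y)).to_subtype
  haveI : ∀ Z, IsClosedImmersion (g Z) := hgcl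
  refine Groth.Agent.S4929.result f x T g ?_ ?_
  · refine Set.eq_univ_of_forall fun y => ?_
    rw [Set.mem_iUnion]
    refine ⟨⟨irreducibleComponent y, irreducibleComponent_mem_irreducibleComponents y⟩, ?_⟩
    show y ∈ Set.range (g _)
    rw [hgrange]
    exact mem_irreducibleComponent
  · intro Z x' hx'
    haveI := hTint Z
    haveI := hTnoeth Z
    have hcond : ∀ z : ↥(pullback f (g Z)),
        f (pullback.fst f (g Z) z) = g Z (pullback.snd f (g Z) z) := fun z =>
      congrArg (fun ψ : pullback f (g Z) ⟶ Y => ψ z) (pullback.condition (f := f) (g := g Z))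
    refine isUnivOpenAt_of_finite_integral (pullback.snd f (g Z)) x' ?_ ?_
    · intro x'' hx'' hspec
      have h1 : pullback.fst f (g Z) x'' ⤳ x := hx' ▸ hspec.map (pullback.fst f (g Z)).continuous
      have h2 : f (pullback.fst f (g Z) x'') = f x := by
        rw [hcond x'', hx'', ← hcond x', hx']
      have h3 := hmax _ h2 (specializes_iff_mem_closure.mp h1)
      exact (pullback.fst f (g Z)).isClosedEmbedding.injective (h3.trans hx'.symm)
    · intro Y₁ g₁ _ x₁ hx₁
      let e := pullbackLeftPullbackSndIso f (g Z) g₁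
      have e1 : e.hom ≫ pullback.fst f (g₁ ≫ g Z) =
          pullback.fst (pullback.snd f (g Z)) g₁ ≫ pullback.fst f (g Z) :=
        pullbackLeftPullbackSndIso_hom_fst f (g Z) g₁
      have e2 : e.hom ≫ pullback.snd f (g₁ ≫ g Z) = pullback.snd (pullback.snd f (g Z)) g₁ :=
        pullbackLeftPullbackSndIso_hom_snd f (g Z) g₁
      have h1 : (pullback.fst f (g₁ ≫ g Z)).base (e.hom x₁) = x := by
        have := congrArg (fun ψ : pullback (pullback.snd f (g Z)) g₁ ⟶ X => ψ x₁) e1
        refine this.trans ?_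
        show pullback.fst f (g Z) (pullback.fst (pullback.snd f (g Z)) g₁ x₁) = x
        rw [hx₁, hx']
      have h2 := H Y₁ (g₁ ≫ g Z) (e.hom x₁) h1
      exact Groth.Agent.Helper5.PtOpen.isOpenAt_square_of (pullback.snd f (g₁ ≫ g Z))
        (pullback.snd (pullback.snd f (g Z)) g₁) e.hom (𝟙 Y₁)
        (by rw [Category.comp_id, e2]) x₁ h2

/-- **S2557** -/
theorem s2557 {X Y : Scheme.{u}} [IsNoetherian Y] (f : X ⟶ Y) [LocallyOfFiniteType f] :
    UniversallyOpen f ↔
      ∀ (Y₁ : Scheme.{u}) (g : Y₁ ⟶ Y) [IsFinite g], IsOpenMap (pullback.snd f g).base := by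
  constructor
  · intro h Y₁ g _
    exact (pullback.snd f g).isOpenMap
  intro H
  apply Groth.Agent.Helper5.Chev.universallyOpen_of_forall_isUnivOpenAt
  intro x
  apply Groth.Agent.Helper5.Chev.isUnivOpenAt_of_maximal_fibre_points f x
  intro z hz _ hzmax
  refine (s4940 f z ?_).mpr ?_
  · intro x' hx' hcl
    exact hzmax x' (hx'.trans hz) (specializes_iff_mem_closure.mpr hcl)
  · intro Y' g _ x' _
    exact Groth.Agent.Helper5.Chev.isOpenAt_of_isOpenMap _ (H Y' g) x'

end Groth.Agent.Helper5.FinCov
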