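import Mathlib

set_option autoImplicit false
universe v u v' u'
open CategoryTheory CategoryTheory.Limits ZeroObject

namespace Groth.Agent.Helper5.FinLenInd

variable {A : Type u} [Category.{v} A] [Abelian A]

/-- Induction principle for objects of finite length: a property of objects that holds for zero
objects and simple objects, is invariant under isomorphism and closed under extensions, holds for
every Noetherian object of a category all of whose objects are Artinian. -/
theorem finiteLength_induction (P : A → Prop)
    (hiso : ∀ X Y : A, (X ≅ Y) → P X → P Y)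
    (hzero : ∀ X : A, IsZero X → P X)
    (hsimple : ∀ X : A, Simple X → P X)
    (hext : ∀ S : ShortComplex A, S.ShortExact → P S.X₁ → P S.X₃ → P S.X₂)
    (hart : ∀ Z : A, IsArtinianObject Z)
    (X₀ : A) [IsNoetherianObject X₀] : P X₀ := by
  suffices H : ∀ X' : Subobject X₀, P (cokernel X'.arrow) by
    have h := H ⊥
    have e : cokernel (⊥ : Subobject X₀).arrow ≅ X₀ := by
      have : (⊥ : Subobject X₀).arrow = 0 := Subobject.bot_arrow
      exact cokernel.mapIso _ (0 : (0 : A) ⟶ X₀) (Subobject.botCoeIsoZero) (Iso.refl _) (by simp [this])
        ≪≫ cokernelZeroIsoTarget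
    exact hiso _ _ e h
  intro X'
  induction X' using WellFoundedGT.induction with
  | ind X' IH =>
    by_cases hZ : IsZero (cokernel X'.arrow)
    · exact hzero _ hZ
    · have := hart (cokernel X'.arrow)
      obtain ⟨Y, hY⟩ := exists_simple_subobject hZ
      set π := cokernel.π X'.arrow with hπ
      set j := Y.arrow with hj
      set q := cokernel.π j with hq
      have hepi : Epi (π ≫ q) := epi_comp _ _
      let X'' : Subobject X₀ := kernelSubobject (π ≫ q)
      have hle : X' ≤ X'' := le_kernelSubobject _ _ (by
        rw [← Category.assoc, hπ, cokernel.condition, zero_comp])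
      have hw : X''.arrow ≫ π ≫ q = 0 := kernelSubobject_arrow_comp _
      have hlim : IsLimit (KernelFork.ofι X''.arrow hw) :=
        IsLimit.ofIsoLimit (kernelIsKernel (π ≫ q))
          (Fork.ext (kernelSubobjectIso (π ≫ q)).symm (by simp [X'']))
      have hcolim : IsColimit (CokernelCofork.ofπ (π ≫ q) hw) :=
        Abelian.epiIsCokernelOfKernel _ hlim
      have hne : X' ≠ X'' := by
        intro heq
        have h0 : X''.arrow ≫ π = 0 := by
          rw [← heq, hπ, cokernel.condition]
        let t := hcolim.desc (CokernelCofork.ofπ π h0)
        have ht : (π ≫ q) ≫ t = π := hcolim.fac (CokernelCofork.ofπ π h0) WalkingParallelPair.one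
        have hqt : q ≫ t = 𝟙 _ := by
          rw [← cancel_epi π, ← Category.assoc, ht, Category.comp_id]
        have hj0 : j = 0 := by
          have : j ≫ q = 0 := cokernel.condition j
          calc j = j ≫ q ≫ t := by rw [hqt, Category.comp_id]
            _ = 0 := by rw [← Category.assoc, this, zero_comp]
        have : IsZero (Y : A) := by
          rw [IsZero.iff_id_eq_zero, ← cancel_mono j, hj0, comp_zero, comp_zero]
        exact Simple.not_isZero _ this
      have h'' := IH X'' (lt_of_le_of_ne hle hne)
      have e : cokernel X''.arrow ≅ cokernel j :=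
        IsColimit.coconePointUniqueUpToIso (cokernelIsCokernel X''.arrow) hcolim
      have hS : (ShortComplex.mk j q (cokernel.condition j)).ShortExact :=
        { exact := ShortComplex.exact_of_g_is_cokernel _ (cokernelIsCokernel j) }
      exact hext _ hS (hsimple _ hY) (hiso _ _ e h'')

end Groth.Agent.Helper5.FinLenInd
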