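import Groth.Agent.Helper5.ZarGlue7
import Groth.Agent.S9948
import Groth.Agent.Helper4.AlgSpLocPChart
import Mathlib

set_option autoImplicit false
set_option linter.style.haveILetI false
set_option linter.unusedSectionVars false
set_option linter.unusedVariables false
universe u
open CategoryTheory CategoryTheory.Limits AlgebraicGeometry Opposite

namespace Groth.Agent.Helper5.FinLocFreeSp

open AlgSp Groth.Agent.Helper5.ZarGlue

variable {S : Scheme.{u}}

theorem isFinLocFreeMor_iff {X Y : Space S} (f : X ⟶ Y) :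
    IsFinLocFreeMor f.hom ↔
      (IsFiniteMor f.hom ∧ LocP @Flat f.hom ∧ LocP @LocallyOfFinitePresentation f.hom) := by
  constructor
  · intro h
    have hrep : Representable f.hom := h.1
    have h1 : RepWith @IsFinite f.hom :=
      Groth.Agent.Helper4.AlgSpSrc.repWith_mono (fun g hg => hg.1) h
    have h2 : RepWith @Flat f.hom :=
      Groth.Agent.Helper4.AlgSpSrc.repWith_mono (fun g hg => hg.2.1) h
    have h3 : RepWith @LocallyOfFinitePresentation f.hom :=
      Groth.Agent.Helper4.AlgSpSrc.repWith_mono (fun g hg => hg.2.2) h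
    exact ⟨(s10267 f.hom).2.2 h1,
      (Groth.Agent.S9948.result @Flat (Or.inr (Or.inr (Or.inl rfl))) f hrep).2 h2,
      (Groth.Agent.S9948.result @LocallyOfFinitePresentation (Or.inr (Or.inl rfl)) f hrep).2 h3⟩
  · rintro ⟨h1, h2, h3⟩
    have h1' : RepWith @IsFinite f.hom := (s10267 f.hom).2.1 h1
    have hrep : Representable f.hom := h1'.1
    have h2' := (Groth.Agent.S9948.result @Flat (Or.inr (Or.inr (Or.inl rfl))) f hrep).1 h2
    have h3' := (Groth.Agent.S9948.result @LocallyOfFinitePresentation (Or.inr (Or.inl rfl))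
      f hrep).1 h3
    exact ⟨hrep, fun T E ξ c e sq => ⟨h1'.2 _ _ _ sq, h2'.2 _ _ _ sq, h3'.2 _ _ _ sq⟩⟩

theorem locP_lfp_of_finite_of_locNoeth {X Y : Sp S} (f : X ⟶ Y) (hY : IsLocNoethSp Y)
    (hf : IsFiniteMor f) : LocP @LocallyOfFinitePresentation f := by
  obtain ⟨V, b, hbe, hbs, hV⟩ := hY
  have h1 : RepWith @IsFinite f := (s10267 f).2.1 hf
  obtain ⟨U, h, a, sq⟩ := h1.1 b
  have hfin : IsFinite h.left := h1.2 _ _ _ sq
  have hae : RepWith @Etale a :=
    (repWith_isStableUnderBaseChange (S := S) @Etale).of_isPullback sq.flip hbe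
  have has : RepWith @Surjective a :=
    (repWith_isStableUnderBaseChange (S := S) @Surjective).of_isPullback sq.flip hbs
  haveI : IsLocallyNoetherian V.left := hV
  have hlfp : LocallyOfFinitePresentation h.left :=
    LocallyOfFinitePresentation.iff_locallyOfFiniteType.2 inferInstance
  exact Groth.Agent.Helper4.AlgSpLocPChart.locP_of_one_chart @LocallyOfFinitePresentation
    Groth.Agent.Helper4.SDClasses.good_lfp f a b h hae has hbe sq.w hlfp

theorem s10294 {X Y : Space S} (f : X ⟶ Y) :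
    (IsFinLocFreeMor f.hom ↔
      (IsFiniteMor f.hom ∧ LocP @Flat f.hom ∧ LocP @LocallyOfFinitePresentation f.hom)) ∧
    (IsLocNoethSp Y.obj →
      (IsFinLocFreeMor f.hom ↔ (IsFiniteMor f.hom ∧ LocP @Flat f.hom))) := by
  refine ⟨isFinLocFreeMor_iff f, fun hY => ?_⟩
  rw [isFinLocFreeMor_iff]
  constructor
  · rintro ⟨h1, h2, -⟩
    exact ⟨h1, h2⟩
  · rintro ⟨h1, h2⟩
    exact ⟨h1, h2, locP_lfp_of_finite_of_locNoeth f.hom hY h1⟩

end Groth.Agent.Helper5.FinLocFreeSp
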