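import Mathlib
import Groth.Agent.Helper5.FinNbhd1
import Groth.Agent.Helper5.Codim0B
import Groth.Agent.Helper5.FlatComp
import Groth.Agent.Helper3.GenFin3

/-!
# Finite neighbourhoods of codimension 0 points: schemes with finitely many maximal points
-/

set_option autoImplicit false
set_option linter.style.haveILetI false
set_option linter.unusedVariables false
universe u

namespace Groth.Agent.Helper5.FinNbhd

open CategoryTheory CategoryTheory.Limits AlgebraicGeometry Opposite TopologicalSpace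
open Groth.Agent.Helper5.Codim0B

/-- every point of a quasi-sober T0 space has a maximal generization -/
theorem exists_isMaxPt_specializes {T : Type*} [TopologicalSpace T] [QuasiSober T] [T0Space T]
    (x : T) : ∃ ξ : T, IsMaxPt ξ ∧ ξ ⤳ x := by
  have hZ := irreducibleComponent_mem_irreducibleComponents x
  obtain ⟨ξ, hξ⟩ := Groth.Agent.Helper5.FlatComp.exists_generic_of_mem_irreducibleComponents hZ
  refine ⟨ξ, ?_, ?_⟩
  · intro w hw
    exact Groth.Agent.Helper5.FlatComp.eq_of_specializes_of_closure_mem (hξ ▸ hZ) hw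
  · rw [specializes_iff_mem_closure, hξ]
    exact mem_irreducibleComponent

/-- a maximal point of a scheme with finitely many maximal points has an affine open
neighbourhood of which it is the generic point -/
theorem exists_irreducible_affine_nhd (Z : Scheme.{u}) (hfin : {m : ↥Z | IsMaxPt m}.Finite)
    (z : ↥Z) (hz : IsMaxPt z) :
    ∃ V : Z.Opens, IsAffineOpen V ∧ z ∈ V ∧ ∀ w : ↥Z, w ∈ V → z ⤳ w := by
  let C : Set ↥Z := ⋃ m ∈ {m : ↥Z | IsMaxPt m ∧ m ≠ z}, closure {m}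
  have hC : IsClosed C :=
    (hfin.subset (fun m hm => hm.1)).isClosed_biUnion (fun m _ => isClosed_closure)
  have hzC : z ∉ C := by
    intro h
    simp only [C, Set.mem_iUnion] at h
    obtain ⟨m, ⟨-, hne⟩, hm⟩ := h
    have : m ⤳ z := specializes_iff_mem_closure.2 hm
    exact hne (hz m this)
  obtain ⟨V, hV, hzV, hVC⟩ : ∃ V : Z.Opens, IsAffineOpen V ∧ z ∈ V ∧ (V : Set ↥Z) ⊆ Cᶜ := by
    obtain ⟨_, ⟨V, hV, rfl⟩, hzV, hsub⟩ :=
      Z.isBasis_affineOpens.exists_subset_of_mem_open (show z ∈ Cᶜ from hzC) hC.isOpen_compl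
    exact ⟨V, hV, hzV, hsub⟩
  refine ⟨V, hV, hzV, ?_⟩
  intro w hw
  obtain ⟨m, hm, hmw⟩ := exists_isMaxPt_specializes w
  by_cases hmz : m = z
  · rw [← hmz]; exact hmw
  · exfalso
    apply hVC hw
    simp only [C, Set.mem_iUnion]
    exact ⟨m, ⟨hm, hmz⟩, specializes_iff_mem_closure.1 hmw⟩

/-- Theorem G'': a separated morphism locally of finite type to an irreducible affine scheme, all
of whose maximal points lie in the (finite) generic fibre, is finite over a neighbourhood of the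
generic point -/
theorem exists_finite_nhd_of_maxPts {R V : Scheme.{u}} (h : R ⟶ V) [LocallyOfFiniteType h]
    [IsSeparated h] [IsAffine V] (v₀ : ↥V) (hgen : ∀ w : ↥V, v₀ ⤳ w)
    (hfin : (h ⁻¹' {v₀}).Finite) (hmax : ∀ r : ↥R, IsMaxPt r → h r = v₀) :
    ∃ V'' : V.Opens, IsAffineOpen V'' ∧ v₀ ∈ V'' ∧ IsFinite (h ∣_ V'') := by
  classical
  have hη : ∀ y : ↥V, y ⤳ v₀ → y = v₀ := fun y hy => (hy.antisymm (hgen y)).eq
  -- a quasi-compact open containing the fibre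
  have hU : ∀ ξ : h ⁻¹' {v₀}, ∃ U : R.Opens, IsAffineOpen U ∧ ξ.1 ∈ U := by
    intro ξ
    obtain ⟨_, ⟨U, hU, rfl⟩, hξU, -⟩ :=
      R.isBasis_affineOpens.exists_subset_of_mem_open (Set.mem_univ ξ.1) isOpen_univ
    exact ⟨U, hU, hξU⟩
  choose Uξ hUξ hξU using hU
  haveI : Finite (h ⁻¹' {v₀}) := hfin.to_subtype
  let U : R.Opens := ⨆ ξ, Uξ ξ
  have hUc : IsCompact (U : Set ↥R) := by
    have : (U : Set ↥R) = ⋃ ξ, (Uξ ξ : Set ↥R) := by
      simp only [U, Opens.coe_iSup]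
    rw [this]
    exact isCompact_iUnion fun ξ => (hUξ ξ).isCompact
  have hFU : h ⁻¹' {v₀} ⊆ (U : Set ↥R) := fun x hx =>
    Opens.mem_iSup.2 ⟨⟨x, hx⟩, hξU ⟨x, hx⟩⟩
  haveI : CompactSpace ↥(U : Scheme.{u}) := isCompact_iff_compactSpace.1 hUc
  haveI : QuasiCompact (U.ι ≫ h) := inferInstance
  haveI : LocallyOfFiniteType (U.ι ≫ h) := inferInstance
  haveI : IsSeparated (U.ι ≫ h) := inferInstance
  haveI : QuasiSeparated (U.ι ≫ h) := inferInstance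
  have hfinU : ((U.ι ≫ h) ⁻¹' {v₀}).Finite := by
    refine (hfin.preimage (Set.injOn_of_injective U.ι.isOpenEmbedding.injective)).subset ?_
    intro x hx
    have hx' : (U.ι ≫ h) x = v₀ := hx
    rw [Scheme.Hom.comp_apply] at hx'
    exact hx'
  obtain ⟨V₁, hV₁a, hv₀V₁, hV₁fin⟩ :=
    Groth.Agent.Helper3.GenFin.exists_finite_nhd_of_qs (U.ι ≫ h) v₀ hη hfinU
  refine ⟨V₁, hV₁a, hv₀V₁, ?_⟩
  rw [morphismRestrict_comp] at hV₁fin
  haveI : IsFinite (U.ι ∣_ (h ⁻¹ᵁ V₁) ≫ h ∣_ V₁) := hV₁fin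
  haveI : IsFinite (U.ι ∣_ (h ⁻¹ᵁ V₁)) := IsFinite.of_comp (U.ι ∣_ (h ⁻¹ᵁ V₁)) (h ∣_ V₁)
  have hcl : IsClosed (Set.range (U.ι ∣_ (h ⁻¹ᵁ V₁))) :=
    (U.ι ∣_ (h ⁻¹ᵁ V₁)).isClosedMap.isClosed_range
  have hsurj : Function.Surjective (U.ι ∣_ (h ⁻¹ᵁ V₁)) := by
    intro q
    by_contra hq
    have hq' : q ∈ (Set.range (U.ι ∣_ (h ⁻¹ᵁ V₁)))ᶜ := hq
    obtain ⟨ξ, hξ, hξq⟩ := exists_isMaxPt_specializes q
    have hξc : ξ ∈ (Set.range (U.ι ∣_ (h ⁻¹ᵁ V₁)))ᶜ := hξq.mem_open hcl.isOpen_compl hq'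
    have hξR : IsMaxPt ((h ⁻¹ᵁ V₁).ι ξ) := by
      intro w hw
      have hwV : w ∈ h ⁻¹ᵁ V₁ := hw.mem_open (h ⁻¹ᵁ V₁).isOpen ξ.2
      have h3 : (⟨w, hwV⟩ : ↥(h ⁻¹ᵁ V₁ : R.Opens)) ⤳ ξ :=
        ((h ⁻¹ᵁ V₁).ι.isEmbedding.isInducing.specializes_iff).1 hw
      have h4 := hξ _ h3
      rw [← h4]
      rfl
    have h1 : h ((h ⁻¹ᵁ V₁).ι ξ) = v₀ := hmax _ hξR
    have h2 : (h ⁻¹ᵁ V₁).ι ξ ∈ U := hFU h1
    apply hξc
    refine ⟨⟨⟨(h ⁻¹ᵁ V₁).ι ξ, h2⟩, ξ.2⟩, ?_⟩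
    apply (h ⁻¹ᵁ V₁).ι.isEmbedding.injective
    rw [← Scheme.Hom.comp_apply, morphismRestrict_ι]
    rfl
  haveI : Surjective (U.ι ∣_ (h ⁻¹ᵁ V₁)) := ⟨hsurj⟩
  haveI : IsIso (U.ι ∣_ (h ⁻¹ᵁ V₁)) :=
    (isIso_iff_isOpenImmersion_and_surjective _).mpr ⟨inferInstance, inferInstance⟩
  exact (MorphismProperty.cancel_left_of_respectsIso @IsFinite (U.ι ∣_ (h ⁻¹ᵁ V₁)) (h ∣_ V₁)).1
    hV₁fin

end Groth.Agent.Helper5.FinNbhd
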