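import Mathlib
import Groth.Agent.Helper5.FinNbhd3
import Groth.Agent.Helper5.FinNbhd7
import Groth.Agent.Helper5.CodimQf2

/-!
# Finite neighbourhoods of codimension 0 points: the quasi-compact case over an irreducible chart
-/

set_option autoImplicit false
set_option linter.style.haveILetI false
set_option linter.unusedVariables false
universe u

namespace Groth.Agent.Helper5.FinNbhd

open CategoryTheory CategoryTheory.Limits AlgebraicGeometry Opposite AlgSp
open Groth.Agent.Helper4 Groth.Agent.Helper5.Codim0B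

variable {S : Scheme.{u}}

/-- codimension 0 through a chart -/
theorem hasAt0_iff_isMaxPt {X : Sp S} {U : Over S} (a : (yon S).obj U ⟶ X)
    (ha : RepWith @Etale a) (u : ↥U.left) :
    HasAt (fun U u => ringKrullDim ↥(U.presheaf.stalk u) = 0) X (Points.ofPt a u) ↔
      IsMaxPt u := by
  rw [Groth.Agent.Helper5.HasAtChart.hasAt_iff_chart
    (fun U u => ringKrullDim ↥(U.presheaf.stalk u) = 0)
    (fun g _ x => Groth.Agent.Helper5.IrrTfae.dimZero_iff_of_etale g x) a ha u,
    stalk_dim_zero_iff]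

set_option backward.isDefEq.respectTransparency.types false in
/-- Lemma Q: the quasi-compact case over an irreducible affine étale chart -/
theorem lemmaQ {X Y : Space S} (f : X ⟶ Y) (hf : LocP @LocallyOfFiniteType f.hom)
    (hqc : IsQuasiCompactMor f.hom) {V : Over S} [IsAffine V.left]
    (b : (yon S).obj V ⟶ Y.obj) (hbe : RepWith @Etale b) (v₀ : ↥V.left)
    (hgen : ∀ w : ↥V.left, v₀ ⤳ w)
    (hpre : ∀ x : Points X.obj,
      HasAt (fun U u => ringKrullDim ↥(U.presheaf.stalk u) = 0) X.obj x →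
      HasAt (fun U u => ringKrullDim ↥(U.presheaf.stalk u) = 0) Y.obj (Points.map f.hom x))
    (hfib : ∀ x : Points X.obj, Points.map f.hom x = Points.ofPt b v₀ →
      HasAt (fun U u => ringKrullDim ↥(U.presheaf.stalk u) = 0) X.obj x) :
    ∃ (V'' : Over S) (ι : V'' ⟶ V) (v'' : ↥V''.left), IsOpenImmersion ι.left ∧ ι.left v'' = v₀ ∧
      RepWith @IsFinite (pullback.snd f.hom ((yon S).map ι ≫ b)) := by
  have hv₀ : ∀ y : ↥V.left, y ⤳ v₀ → y = v₀ := fun y hy => (hy.antisymm (hgen y)).eq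
  have hy : HasAt (fun U u => ringKrullDim ↥(U.presheaf.stalk u) = 0) Y.obj (Points.ofPt b v₀) :=
    (hasAt0_iff_isMaxPt b hbe v₀).2 hv₀
  have hqf := (Groth.Agent.Helper5.CodimQf.s10399 f hf _ hy).1.1 hfib
  obtain ⟨V', W', ιV, v₀', ℓ', g', hV'a, hιV, hιVv, hv₀', hW'a, hℓ'e, hℓ's, hg', hg'fin⟩ :=
    stage1 f ⟨hf, hqc⟩ b hbe v₀ hv₀ hqf
  haveI := hV'a
  haveI := hW'a
  haveI := hg'fin
  haveI := hιV
  have i1 := repWith_isStableUnderBaseChange (S := S) @Etale
  have i2 := (repWith_isMultiplicative (S := S) @Etale).toIsStableUnderComposition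
  have hb'e : RepWith @Etale ((yon S).map ιV ≫ b) :=
    MorphismProperty.comp_mem _ _ _
      ((repWith_yon_map_iff _ _).2 (show Etale ιV.left from inferInstance)) hbe
  have hgen' : ∀ w : ↥V'.left, v₀' ⤳ w := by
    intro w
    apply (ιV.left.isOpenEmbedding.isInducing.specializes_iff).1
    rw [hιVv]
    exact hgen _
  have sqP' := IsPullback.of_hasPullback f.hom ((yon S).map ιV ≫ b)
  have hfe : RepWith @Etale (pullback.fst f.hom ((yon S).map ιV ≫ b)) :=
    MorphismProperty.of_isPullback sqP'.flip hb'e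
  have ha'e : RepWith @Etale (ℓ' ≫ pullback.fst f.hom ((yon S).map ιV ≫ b)) :=
    MorphismProperty.comp_mem _ _ _ hℓ'e hfe
  have hWmax : ∀ w : ↥W'.left, IsMaxPt w → g'.left w = v₀' := by
    intro w hw
    have h1 := hpre _ ((hasAt0_iff_isMaxPt _ ha'e w).2 hw)
    rw [Points.map_ofPt, Category.assoc, pullback.condition, ← Category.assoc, hg',
      AlgSpPtsDesc.ofPt_yon_map_comp g' _ w, hasAt0_iff_isMaxPt _ hb'e] at h1
    exact (h1 _ (hgen' _)).symm
  obtain ⟨V'', ι, v'', hι, hιv, hfin⟩ :=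
    stage2' f hf ((yon S).map ιV ≫ b) hb'e v₀' hgen' ℓ' hℓ'e hℓ's g' hg' hWmax
  haveI := hι
  refine ⟨V'', ι ≫ ιV, v'', ?_, ?_, ?_⟩
  · rw [Over.comp_left]; infer_instance
  · rw [Over.comp_left, Scheme.Hom.comp_apply, hιv, hιVv]
  · have key : ∀ c c' : (yon S).obj V'' ⟶ Y.obj, c' = c →
        RepWith @IsFinite (pullback.snd f.hom c') → RepWith @IsFinite (pullback.snd f.hom c) := by
      intro c c' h hh
      subst h
      exact hh
    exact key _ _ (by rw [Functor.map_comp, Category.assoc]) hfin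

end Groth.Agent.Helper5.FinNbhd
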