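import Mathlib
import Groth.Agent.Helper5.FinNbhd8
import Groth.Agent.Helper5.GeomRed
import Groth.Agent.Helper5.QcOpenFin

/-!
# Finite neighbourhoods of codimension 0 points: auxiliary permanence lemmas
-/

set_option autoImplicit false
set_option linter.style.haveILetI false
set_option linter.unusedVariables false
universe u

namespace Groth.Agent.Helper5.FinNbhd

open CategoryTheory CategoryTheory.Limits AlgebraicGeometry Opposite AlgSp
open Groth.Agent.Helper4 Groth.Agent.Helper5.Codim0B

variable {S : Scheme.{u}}

/-- codimension 0 is preserved and reflected by étale morphisms -/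
theorem hasAt0_map_iff_of_etale {F G : Sp S} (hF : IsAlgSpace F) (e : F ⟶ G)
    (he : RepWith @Etale e) (x : Points F) :
    HasAt (fun U u => ringKrullDim ↥(U.presheaf.stalk u) = 0) G (Points.map e x) ↔
      HasAt (fun U u => ringKrullDim ↥(U.presheaf.stalk u) = 0) F x := by
  obtain ⟨U, a, u, ha, rfl⟩ := Groth.Agent.Helper5.GeomRed.exists_chart_point hF x
  have i2 := (repWith_isMultiplicative (S := S) @Etale).toIsStableUnderComposition
  have hae : RepWith @Etale (a ≫ e) := MorphismProperty.comp_mem _ _ _ ha he
  rw [Points.map_ofPt, hasAt0_iff_isMaxPt _ hae, hasAt0_iff_isMaxPt _ ha]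

theorem etale_of_oi {F G : Sp S} (j : F ⟶ G) (hj : RepWith @IsOpenImmersion j) :
    RepWith @Etale j := by
  refine ⟨hj.rep, ?_⟩
  intro T E ξ c e sq
  haveI : IsOpenImmersion e.left := hj.property _ _ _ sq
  show Etale e.left
  infer_instance

/-- `LocP` is stable under precomposition with étale morphisms -/
theorem locP_comp_etale (P : MorphismProperty Scheme.{u}) {F' F G : Sp S} (k : F' ⟶ F)
    (hk : RepWith @Etale k) (f : F ⟶ G) (hf : LocP P f) : LocP P (k ≫ f) := by
  intro U V a b h ha hb comm
  have i2 := (repWith_isMultiplicative (S := S) @Etale).toIsStableUnderComposition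
  exact hf (a ≫ k) b h (MorphismProperty.comp_mem _ _ _ ha hk) hb
    (by rw [Category.assoc]; exact comm)

/-- `LocP` is stable under base change along étale morphisms -/
theorem locP_snd_of_etale (P : MorphismProperty Scheme.{u}) {F G G' Q : Sp S} (f : F ⟶ G)
    (b : G' ⟶ G) (hb : RepWith @Etale b) {fst : Q ⟶ F} {snd : Q ⟶ G'}
    (sq : IsPullback fst snd f b) (hf : LocP P f) : LocP P snd := by
  intro U V a c h ha hc comm
  have i1 := repWith_isStableUnderBaseChange (S := S) @Etale
  have i2 := (repWith_isMultiplicative (S := S) @Etale).toIsStableUnderComposition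
  have hfst : RepWith @Etale fst := MorphismProperty.of_isPullback sq.flip hb
  refine hf (a ≫ fst) (c ≫ b) h (MorphismProperty.comp_mem _ _ _ ha hfst)
    (MorphismProperty.comp_mem _ _ _ hc hb) ?_
  rw [Category.assoc, sq.w, ← Category.assoc, comm, Category.assoc]

set_option backward.isDefEq.respectTransparency.types false in
/-- a morphism from a quasi-compact sheaf to an affine scheme is quasi-compact -/
theorem isQuasiCompactMor_to_affine {X : Sp S} (hXc : IsQuasiCompactSp X) {V : Over S}
    [IsAffine V.left] (f : X ⟶ (yon S).obj V) : IsQuasiCompactMor f := by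
  rw [Groth.Agent.Helper4.AlgSpQC.isQuasiCompactMor_iff_affine]
  intro Z hZaff g P fst snd sqP
  haveI : IsAffine Z.left := hZaff
  obtain ⟨U, p, hpe, hps, hU⟩ := Groth.Agent.Helper4.AlgSpQC.exists_affine_chart hXc
  haveI : IsAffine U.left := hU
  obtain ⟨m, hm⟩ := (yon S).map_surjective (p ≫ f)
  obtain ⟨g₀, hg₀⟩ := (yon S).map_surjective g
  have hT := IsPullback.of_hasPullback m g₀
  have hTl : IsPullback (pullback.fst m g₀).left (pullback.snd m g₀).left m.left g₀.left :=
    Groth.Agent.Helper5.GeomFibSp.isPullback_left hT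
  haveI : IsAffineHom g₀.left := inferInstance
  haveI : IsAffineHom (pullback.fst m g₀).left :=
    MorphismProperty.of_isPullback (P := @IsAffineHom) hTl.flip inferInstance
  haveI hTaff : IsAffine (pullback m g₀).left := isAffine_of_isAffineHom (pullback.fst m g₀).left
  have hTy := hT.map (yon S)
  rw [hm, hg₀] at hTy
  have hw : ((yon S).map (pullback.fst m g₀) ≫ p) ≫ f = (yon S).map (pullback.snd m g₀) ≫ g := by
    rw [Category.assoc]; exact hTy.w
  let ℓ : (yon S).obj (pullback m g₀) ⟶ P := sqP.lift _ _ hw
  have hℓ1 : ℓ ≫ fst = (yon S).map (pullback.fst m g₀) ≫ p := sqP.lift_fst _ _ _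
  have hℓ2 : ℓ ≫ snd = (yon S).map (pullback.snd m g₀) := sqP.lift_snd _ _ _
  have hbig : IsPullback (ℓ ≫ snd) ((yon S).map (pullback.fst m g₀)) g (p ≫ f) := by
    rw [hℓ2]; exact hTy.flip
  have hleft : IsPullback ℓ ((yon S).map (pullback.fst m g₀)) fst p :=
    IsPullback.of_right hbig hℓ1 sqP.flip
  have i1 := repWith_isStableUnderBaseChange (S := S) @Etale
  have i3 := repWith_isStableUnderBaseChange (S := S) @Surjective
  refine ⟨pullback m g₀, ℓ, MorphismProperty.of_isPullback hleft.flip hpe,
    MorphismProperty.of_isPullback hleft.flip hps, ?_⟩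
  show CompactSpace ↥(pullback m g₀).left
  infer_instance

end Groth.Agent.Helper5.FinNbhd
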