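import Groth.Agent.Helper5.ZarGlue5
import Groth.Agent.Helper4.AlgSpLocal
import Groth.Agent.Helper5.AlgSpFin
import Mathlib

set_option autoImplicit false
set_option linter.style.haveILetI false
set_option linter.unusedSectionVars false
set_option linter.unusedVariables false
universe u
open CategoryTheory CategoryTheory.Limits AlgebraicGeometry Opposite

namespace Groth.Agent.Helper5.ZarGlue

open AlgSp Functor.relativelyRepresentable

variable {S : Scheme.{u}}

/-- generic form: a property of morphisms of schemes which is Zariski local on the target and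
stable under composition with isomorphisms on the left can be tested on affine base changes -/
theorem repWith_of_affine_test (P : MorphismProperty Scheme.{u}) [IsZariskiLocalAtTarget P]
    {F G : Sp S} (f : F ⟶ G)
    (h : ∀ ⦃Z : Over S⦄, IsAffine Z.left → ∀ (g : (yon S).obj Z ⟶ G),
      ∃ (W : Over S) (i : W ⟶ Z) (fst : (yon S).obj W ⟶ F),
        IsPullback fst ((yon S).map i) f g ∧ P i.left) :
    RepWith P f := by
  apply Groth.Agent.Helper4.AlgSpLocal.repWith_of_affine P f
    (representable_of_affine f (fun Z hZ g => by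
      obtain ⟨W, i, fst, sq, -⟩ := h hZ g
      exact ⟨W, i, fst, sq⟩))
  intro T E ξ c e hT sq
  obtain ⟨W, i, fst, sq', hi⟩ := h hT ξ
  obtain ⟨φ, hφ, -⟩ := Groth.Agent.Helper5.AlgSpFin.exists_iso_of_isPullback sq sq'
  have e1 : (yon S).preimage φ.hom ≫ i = e :=
    (yon S).map_injective (by rw [Functor.map_comp, Functor.map_preimage, hφ])
  have h1 : IsIso ((yon S).map ((yon S).preimage φ.hom)) := by
    rw [Functor.map_preimage]; infer_instance
  have h2 : IsIso ((yon S).preimage φ.hom) :=
    (Functor.FullyFaithful.ofFullyFaithful (yon S)).isIso_of_isIso_map _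
  have h3 : IsIso ((yon S).preimage φ.hom).left :=
    (Over.forget S).map_isIso ((yon S).preimage φ.hom)
  have e2 : e.left = ((yon S).preimage φ.hom).left ≫ i.left := by rw [← e1]; rfl
  rw [e2]
  exact (MorphismProperty.cancel_left_of_respectsIso P _ _).2 hi

theorem s10267 {F G : Sp S} (f : F ⟶ G) :
    (IsIntegralMor f ↔ RepWith @IsIntegralHom f) ∧ (IsFiniteMor f ↔ RepWith @IsFinite f) := by
  refine ⟨⟨fun h => ?_, fun h Z hZ g => ?_⟩, ⟨fun h => ?_, fun h Z hZ g => ?_⟩⟩
  · apply repWith_of_affine_test
    intro Z hZ g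
    obtain ⟨W, i, fst, sq, -, hi⟩ := h hZ g
    exact ⟨W, i, fst, sq, hi⟩
  · obtain ⟨W, i, fst, sq⟩ := h.1 g
    have hi : IsIntegralHom i.left := h.2 g fst i sq
    have : IsAffine Z.left := hZ
    exact ⟨W, i, fst, sq, isAffine_of_isAffineHom i.left, hi⟩
  · apply repWith_of_affine_test
    intro Z hZ g
    obtain ⟨W, i, fst, sq, -, hi⟩ := h hZ g
    exact ⟨W, i, fst, sq, hi⟩
  · obtain ⟨W, i, fst, sq⟩ := h.1 g
    have hi : IsFinite i.left := h.2 g fst i sq
    have : IsAffine Z.left := hZ
    exact ⟨W, i, fst, sq, isAffine_of_isAffineHom i.left, hi⟩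

end Groth.Agent.Helper5.ZarGlue
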