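import Mathlib
import Groth.Agent.Helper5.FinNbhd9
import Groth.Agent.Helper5.FinNbhd5
import Groth.Agent.Helper5.FlfSch1
import Groth.Agent.Helper5.AlgSpIso
import Groth.Agent.S10272
import Groth.Agent.S10267
import Groth.Agent.S9903

/-!
# Finite neighbourhoods of codimension 0 points: the separated case over an irreducible affine
scheme
-/

set_option autoImplicit false
set_option linter.style.haveILetI false
set_option linter.unusedVariables false
universe u

namespace Groth.Agent.Helper5.FinNbhd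

open CategoryTheory CategoryTheory.Limits AlgebraicGeometry Opposite AlgSp
open Groth.Agent.Helper4 Groth.Agent.Helper5.Codim0B

variable {S : Scheme.{u}}

theorem repWith_snd_congr (P : MorphismProperty Scheme.{u}) {F G H : Sp S} (f : F ⟶ G)
    (c c' : H ⟶ G) (h : c' = c) (hh : RepWith P (pullback.snd f c')) :
    RepWith P (pullback.snd f c) := by
  subst h
  exact hh

set_option backward.isDefEq.respectTransparency.types false in
set_option maxHeartbeats 800000 in
/-- Lemma R0: the separated case over an irreducible affine scheme -/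
theorem lemmaR0 {X : Sp S} (hX : IsAlgSpace X) {V : Over S} [IsAffine V.left]
    (f : X ⟶ (yon S).obj V) (hf : LocP @LocallyOfFiniteType f) (hsep : IsSeparatedMor f)
    (v₀ : ↥V.left) (hgen : ∀ w : ↥V.left, v₀ ⤳ w)
    (hX0 : {x : Points X |
      HasAt (fun U u => ringKrullDim ↥(U.presheaf.stalk u) = 0) X x}.Finite)
    (hpre : ∀ x : Points X, HasAt (fun U u => ringKrullDim ↥(U.presheaf.stalk u) = 0) X x →
      Points.map f x = Points.ofScheme V v₀)
    (hfib : ∀ x : Points X, Points.map f x = Points.ofScheme V v₀ →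
      HasAt (fun U u => ringKrullDim ↥(U.presheaf.stalk u) = 0) X x) :
    ∃ (V'' : Over S) (ι : V'' ⟶ V) (v'' : ↥V''.left), IsOpenImmersion ι.left ∧ ι.left v'' = v₀ ∧
      RepWith @IsFinite (pullback.snd f ((yon S).map ι)) := by
  obtain ⟨X'', k, hX'', hk, hqc'', hsub⟩ :=
    Groth.Agent.Helper5.QcOpenFin.exists_qc_open_of_finite hX _ hX0
  have hke := etale_of_oi k hk
  let Xs'' : Space S := ⟨X'', hX''⟩
  let Ys : Space S := ⟨(yon S).obj V, IsAlgSpace.yon_obj V⟩
  let fs : Xs'' ⟶ Ys := ObjectProperty.homMk (k ≫ f)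
  have hf'' : LocP @LocallyOfFiniteType fs.hom := locP_comp_etale _ k hke f hf
  have hqcm : IsQuasiCompactMor fs.hom := isQuasiCompactMor_to_affine hqc'' (k ≫ f)
  have hv₀max : IsMaxPt v₀ := fun y hy => (hy.antisymm (hgen y)).eq
  have hide : RepWith @Etale (𝟙 ((yon S).obj V)) := repWith_id _ V
  obtain ⟨V'', ι, v'', hι, hιv, hfin⟩ := lemmaQ fs hf'' hqcm (𝟙 _) hide v₀ hgen
    (by
      intro x'' hx''
      have h1 : HasAt (fun U u => ringKrullDim ↥(U.presheaf.stalk u) = 0) X (Points.map k x'') :=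
        (hasAt0_map_iff_of_etale hX'' k hke x'').2 hx''
      have h2 := hpre _ h1
      show HasAt _ _ (Points.map (k ≫ f) x'')
      rw [Points.map_comp, h2]
      exact (hasAt0_iff_isMaxPt (𝟙 _) hide v₀).2 hv₀max)
    (by
      intro x'' hx''
      have hx''' : Points.map (k ≫ f) x'' = Points.ofScheme V v₀ := hx''
      rw [Points.map_comp] at hx'''
      exact (hasAt0_map_iff_of_etale hX'' k hke x'').1 (hfib _ hx'''))
  haveI := hι
  have hfin' : RepWith @IsFinite (pullback.snd (k ≫ f) ((yon S).map ι)) :=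
    repWith_snd_congr _ (k ≫ f) _ _ (Category.comp_id _) hfin
  refine ⟨V'', ι, v'', hι, hιv, ?_⟩
  -- the two fibre products
  have sqA := IsPullback.of_hasPullback f ((yon S).map ι)
  have sqA'' := IsPullback.of_hasPullback (k ≫ f) ((yon S).map ι)
  have hVdiag : Representable (Limits.diag ((yon S).obj V)) := (IsAlgSpace.yon_obj V).diag
  have hA : IsAlgSpace (pullback f ((yon S).map ι)) :=
    AlgSpPB.isAlgSpace_of_isPullback hVdiag hX (IsAlgSpace.yon_obj V'') _ _ _ _ sqA
  have hA'' : IsAlgSpace (pullback (k ≫ f) ((yon S).map ι)) :=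
    AlgSpPB.isAlgSpace_of_isPullback hVdiag hX'' (IsAlgSpace.yon_obj V'') _ _ _ _ sqA''
  let κ : pullback (k ≫ f) ((yon S).map ι) ⟶ pullback f ((yon S).map ι) :=
    pullback.lift (pullback.fst (k ≫ f) ((yon S).map ι) ≫ k)
      (pullback.snd (k ≫ f) ((yon S).map ι))
      (by rw [Category.assoc]; exact pullback.condition)
  have hκ1 : κ ≫ pullback.fst f ((yon S).map ι) = pullback.fst (k ≫ f) ((yon S).map ι) ≫ k :=
    pullback.lift_fst _ _ _
  have hκ2 : κ ≫ pullback.snd f ((yon S).map ι) = pullback.snd (k ≫ f) ((yon S).map ι) :=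
    pullback.lift_snd _ _ _
  have hbig : IsPullback (κ ≫ pullback.snd f ((yon S).map ι))
      (pullback.fst (k ≫ f) ((yon S).map ι)) ((yon S).map ι) (k ≫ f) := by
    rw [hκ2]; exact sqA''.flip
  have sqκ : IsPullback κ (pullback.fst (k ≫ f) ((yon S).map ι))
      (pullback.fst f ((yon S).map ι)) k := IsPullback.of_right hbig hκ1 sqA.flip
  have i0 := repWith_isStableUnderBaseChange (S := S) @IsOpenImmersion
  have i1 := repWith_isStableUnderBaseChange (S := S) @Etale
  have hκoi : RepWith @IsOpenImmersion κ := MorphismProperty.of_isPullback sqκ.flip hk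
  -- `κ` is finite
  let As : Space S := ⟨pullback f ((yon S).map ι), hA⟩
  let As'' : Space S := ⟨pullback (k ≫ f) ((yon S).map ι), hA''⟩
  let Vs'' : Space S := ⟨(yon S).obj V'', IsAlgSpace.yon_obj V''⟩
  let κs : As'' ⟶ As := ObjectProperty.homMk κ
  let gs : As ⟶ Vs'' := ObjectProperty.homMk (pullback.snd f ((yon S).map ι))
  have hgsep : IsSeparatedMor gs.hom := Groth.Agent.S9903.diag_bc _ sqA hsep
  have hcompfin : IsFiniteMor (κs ≫ gs).hom := by
    show IsFiniteMor (κ ≫ pullback.snd f ((yon S).map ι))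
    rw [hκ2]
    exact isFiniteMor_of_repWith _ hfin'
  have hκfin : RepWith @IsFinite κ :=
    (Groth.Agent.S10267.result κs).2.1 ((Groth.Agent.S10272.result κs gs hgsep).1 hcompfin)
  have hclosed : IsClosed (Set.range (Points.map κ)) :=
    (Groth.Agent.Helper5.FlfSch.isClosedMap_points_of_repWith_finite hA κ hκfin).isClosed_range
  -- `κ` is surjective on points
  have hfstAe : RepWith @Etale (pullback.fst f ((yon S).map ι)) :=
    MorphismProperty.of_isPullback sqA.flip
      ((repWith_yon_map_iff _ _).2 (show Etale ι.left from inferInstance))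
  have hsurj : IsSurjectiveMor κ := by
    intro a
    by_contra ha
    have ha' : a ∈ (Set.range (Points.map κ))ᶜ := ha
    obtain ⟨U, p, u, hpe, rfl⟩ := Groth.Agent.Helper5.GeomRed.exists_chart_point hA a
    obtain ⟨ξ, hξ, hξu⟩ := exists_isMaxPt_specializes u
    have hsp : Points.ofPt p ξ ⤳ Points.ofPt p u := hξu.map (Points.continuous_ofPt p)
    have hξc : Points.ofPt p ξ ∈ (Set.range (Points.map κ))ᶜ :=
      hsp.mem_open hclosed.isOpen_compl ha'
    have h0 : HasAt (fun U u => ringKrullDim ↥(U.presheaf.stalk u) = 0)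
        (pullback f ((yon S).map ι)) (Points.ofPt p ξ) := (hasAt0_iff_isMaxPt p hpe ξ).2 hξ
    have h1 : HasAt (fun U u => ringKrullDim ↥(U.presheaf.stalk u) = 0) X
        (Points.map (pullback.fst f ((yon S).map ι)) (Points.ofPt p ξ)) :=
      (hasAt0_map_iff_of_etale hA _ hfstAe _).2 h0
    obtain ⟨x'', hx''⟩ := hsub h1
    obtain ⟨a'', ha''1, -⟩ :=
      AlgSpPtsDesc.exists_point_of_isPullback sqκ (Points.ofPt p ξ) x'' hx''.symm
    exact hξc ⟨a'', ha''1⟩
  haveI : IsIso κ := Groth.Agent.Helper5.AlgSpIso.isIso_of_openImmersion_surjective κ hκoi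
    (Groth.Agent.Helper4.AlgSpPts.repWith_surjective_of_isSurjectiveMor κ hκoi.rep hsurj)
  have h2 : RepWith @IsFinite (κ ≫ pullback.snd f ((yon S).map ι)) := by rw [hκ2]; exact hfin'
  exact (MorphismProperty.cancel_left_of_respectsIso (RepWith (S := S) @IsFinite) κ _).1 h2

end Groth.Agent.Helper5.FinNbhd
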