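import Mathlib
import Groth.Agent.Helper5.FinNbhd10
import Groth.Agent.Helper5.FinFibQf2

/-!
# Finite neighbourhoods of codimension 0 points: the local statement over an irreducible affine
open subscheme of the base
-/

set_option autoImplicit false
set_option linter.style.haveILetI false
set_option linter.unusedVariables false
universe u

namespace Groth.Agent.Helper5.FinNbhd

open CategoryTheory CategoryTheory.Limits AlgebraicGeometry Opposite AlgSp
open Groth.Agent.Helper4 Groth.Agent.Helper5.Codim0B

variable {S : Scheme.{u}}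

set_option backward.isDefEq.respectTransparency.types false in
set_option maxHeartbeats 800000 in
theorem lemmaU {X Y : Space S} (f : X ⟶ Y) (hf : LocP @LocallyOfFiniteType f.hom)
    (hX0 : {x : Points X.obj |
      HasAt (fun U u => ringKrullDim ↥(U.presheaf.stalk u) = 0) X.obj x}.Finite)
    (hpre : ∀ x : Points X.obj,
      HasAt (fun U u => ringKrullDim ↥(U.presheaf.stalk u) = 0) X.obj x ↔
      HasAt (fun U u => ringKrullDim ↥(U.presheaf.stalk u) = 0) Y.obj (Points.map f.hom x))
    (hqs : IsQuasiCompactMor f.hom ∨ IsSeparatedMor f.hom)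
    {V : Over S} [IsAffine V.left] (b : (yon S).obj V ⟶ Y.obj) (hb : RepWith @IsOpenImmersion b)
    (v₀ : ↥V.left) (hgen : ∀ w : ↥V.left, v₀ ⤳ w) :
    ∃ (V'' : Over S) (ι : V'' ⟶ V) (v'' : ↥V''.left), IsOpenImmersion ι.left ∧ ι.left v'' = v₀ ∧
      RepWith @IsFinite (pullback.snd f.hom ((yon S).map ι ≫ b)) := by
  have hbe := etale_of_oi b hb
  have hv₀max : IsMaxPt v₀ := fun y hy => (hy.antisymm (hgen y)).eq
  have hy0 : HasAt (fun U u => ringKrullDim ↥(U.presheaf.stalk u) = 0) Y.obj (Points.ofPt b v₀) :=
    (hasAt0_iff_isMaxPt b hbe v₀).2 hv₀max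
  have hfib : ∀ x : Points X.obj, Points.map f.hom x = Points.ofPt b v₀ →
      HasAt (fun U u => ringKrullDim ↥(U.presheaf.stalk u) = 0) X.obj x := by
    intro x hx
    apply (hpre x).2
    rw [hx]
    exact hy0
  rcases hqs with hqc | hsep
  · exact lemmaQ f hf hqc b hbe v₀ hgen (fun x hx => (hpre x).1 hx) hfib
  · have sqP := IsPullback.of_hasPullback f.hom b
    have hP : IsAlgSpace (pullback f.hom b) :=
      AlgSpPB.isAlgSpace_of_isPullback Y.property.diag X.property (IsAlgSpace.yon_obj V) _ _ _ _ sqP
    have hh : LocP @LocallyOfFiniteType (pullback.snd f.hom b) :=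
      locP_snd_of_etale _ f.hom b hbe sqP hf
    have hhsep : IsSeparatedMor (pullback.snd f.hom b) := Groth.Agent.S9903.diag_bc _ sqP hsep
    have i0 := repWith_isStableUnderBaseChange (S := S) @IsOpenImmersion
    have hfstoi : RepWith @IsOpenImmersion (pullback.fst f.hom b) :=
      MorphismProperty.of_isPullback sqP.flip hb
    have hfste := etale_of_oi _ hfstoi
    have hP0 : {p : Points (pullback f.hom b) |
        HasAt (fun U u => ringKrullDim ↥(U.presheaf.stalk u) = 0) (pullback f.hom b) p}.Finite := by
      refine (hX0.preimage (Set.injOn_of_injective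
        (Groth.Agent.Helper5.FinFibQf.injective_points_of_oi _ hfstoi))).subset ?_
      intro p hp
      exact (hasAt0_map_iff_of_etale hP _ hfste p).2 hp
    have hpreP : ∀ p : Points (pullback f.hom b),
        HasAt (fun U u => ringKrullDim ↥(U.presheaf.stalk u) = 0) (pullback f.hom b) p →
        Points.map (pullback.snd f.hom b) p = Points.ofScheme V v₀ := by
      intro p hp
      have h1 := (hasAt0_map_iff_of_etale hP _ hfste p).2 hp
      have h2 := (hpre _).1 h1
      rw [← Points.map_comp, sqP.w, Points.map_comp] at h2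
      obtain ⟨v', hv'⟩ := (Points.schemeHomeo V).surjective (Points.map (pullback.snd f.hom b) p)
      rw [← hv', AlgSpQC2.ofPt_eq_map_schemeHomeo, hasAt0_iff_isMaxPt b hbe v'] at h2
      have h3 : v₀ = v' := h2 _ (hgen v')
      rw [← hv', h3]
      rfl
    have hfibP : ∀ p : Points (pullback f.hom b),
        Points.map (pullback.snd f.hom b) p = Points.ofScheme V v₀ →
        HasAt (fun U u => ringKrullDim ↥(U.presheaf.stalk u) = 0) (pullback f.hom b) p := by
      intro p hp
      apply (hasAt0_map_iff_of_etale hP _ hfste p).1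
      apply hfib
      rw [← Points.map_comp, sqP.w, Points.map_comp, hp, Points.map_ofPt, Category.id_comp]
    obtain ⟨V'', ι, v'', hι, hιv, hfin⟩ :=
      lemmaR0 hP (pullback.snd f.hom b) hh hhsep v₀ hgen hP0 hpreP hfibP
    refine ⟨V'', ι, v'', hι, hιv, ?_⟩
    have sq1 := isPullback_map_snd f.hom b ((yon S).map ι)
    have sq2 := IsPullback.of_hasPullback (pullback.snd f.hom b) ((yon S).map ι)
    have e := IsPullback.isoIsPullback_hom_snd _ _ sq1 sq2
    rw [← e]
    exact (MorphismProperty.cancel_left_of_respectsIso (RepWith (S := S) @IsFinite) _ _).2 hfin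

end Groth.Agent.Helper5.FinNbhd
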