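import Mathlib
import Groth.Agent.Helper5.FinNbhd11
import Groth.Agent.Helper5.DegStr21
import Groth.Agent.S10336

/-!
# Finite neighbourhoods of codimension 0 points: assembly (S10400)
-/

set_option autoImplicit false
set_option linter.style.haveILetI false
set_option linter.unusedVariables false
universe u

namespace Groth.Agent.Helper5.FinNbhd

open CategoryTheory CategoryTheory.Limits AlgebraicGeometry Opposite AlgSp
open Groth.Agent.Helper4 Groth.Agent.Helper5.Codim0B
open Groth.Agent.Helper4.AlgSpPtsDesc Groth.Agent.Helper4.AlgSpQC2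

variable {S : Scheme.{u}}

/-- a decent space has a dense open subscheme -/
theorem exists_dense_open_scheme (Y : Space S) (hY : IsDecent Y.obj) :
    ∃ (W : Over S) (ψ : (yon S).obj W ⟶ Y.obj), RepWith @IsOpenImmersion ψ ∧
      Dense (Set.range (Points.ofPt ψ)) := by
  obtain ⟨Z', j, hj, hrep, hdense⟩ := Groth.Agent.Helper5.DegStr.s10337 Y hY
  obtain ⟨W, ⟨e⟩⟩ := hrep.has_representation
  let ψ : (yon S).obj W ⟶ Y.obj := (isoOfRepresentableBy e).hom ≫ j.hom
  have hψ : RepWith @IsOpenImmersion ψ :=
    ((RepWith (S := S) @IsOpenImmersion).cancel_left_of_respectsIso _ _).2 hj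
  have hrange : Set.range (Points.ofPt ψ) = Set.range (Points.map j.hom) := by
    ext z
    constructor
    · rintro ⟨w, rfl⟩
      refine ⟨Points.ofPt (isoOfRepresentableBy e).hom w, ?_⟩
      rw [Points.map_ofPt]
    · rintro ⟨y, rfl⟩
      obtain ⟨w, hw⟩ :=
        (Points.schemeHomeo W).surjective (Points.map (isoOfRepresentableBy e).inv y)
      refine ⟨w, ?_⟩
      rw [← ofPt_eq_map_schemeHomeo, hw, Points.map_comp, ← Points.map_comp _ _ y,
        Iso.inv_hom_id, Points.map_id]
  refine ⟨W, ψ, hψ, ?_⟩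
  rw [hrange]; exact hdense

set_option backward.isDefEq.respectTransparency.types false in
theorem assemble_cover {X Y : Space S} (f : X ⟶ Y) {I : Type u} (V : I → Over S)
    (b : ∀ i, (yon S).obj (V i) ⟶ Y.obj) (hb : ∀ i, RepWith @IsOpenImmersion (b i))
    (hfin : ∀ i, RepWith @IsFinite (pullback.snd f.hom (b i))) :
    ∃ (Y' X' : Space S) (j : Y' ⟶ Y) (fst : X' ⟶ Y') (snd : X' ⟶ X),
      RepWith @IsOpenImmersion j.hom ∧
      Set.range (Points.map j.hom) = ⋃ i, Set.range (Points.ofPt (b i)) ∧
      IsPullback fst.hom snd.hom j.hom f.hom ∧ IsFiniteMor fst.hom := by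
  have hopen : IsOpen (⋃ i, Set.range (Points.ofPt (b i))) :=
    isOpen_iUnion fun i =>
      (Groth.Agent.Helper5.Decent3.isOpenMap_ofPt Y.property (b i)
        (etale_of_oi _ (hb i))).isOpen_range
  obtain ⟨Y', j, hY', hj, hrange⟩ :=
    Groth.Agent.Helper5.AlgSpOpen.exists_open_subspace Y.property _ hopen
  haveI hmono : Mono j := Groth.Agent.Helper5.ZarGlue.mono_of_oi j hj
  have hc : ∀ i, ∃ c : (yon S).obj (V i) ⟶ Y', c ≫ j = b i := by
    intro i
    apply Groth.Agent.Helper5.AlgSpIso.exists_factor_open j hj (b i)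
    rw [Groth.Agent.Helper5.AlgSpOpen.range_map_eq_range_ofPt, hrange]
    exact Set.subset_iUnion (fun i => Set.range (Points.ofPt (b i))) i
  choose c hc using hc
  have i0 := repWith_isStableUnderBaseChange (S := S) @IsOpenImmersion
  have hcoi : ∀ i, RepWith @IsOpenImmersion (c i) := by
    intro i
    have sq : IsPullback (𝟙 _) (c i) (c i ≫ j) j :=
      Groth.Agent.Helper4.AlgSpPB.isPullback_of_mono (c i) j
    rw [hc i] at sq
    exact MorphismProperty.of_isPullback sq (hb i)
  have sqX' := IsPullback.of_hasPullback f.hom j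
  have hX' : IsAlgSpace (pullback f.hom j) :=
    AlgSpPB.isAlgSpace_of_isPullback Y.property.diag X.property hY' f.hom j _ _ sqX'
  let Y's : Space S := ⟨Y', hY'⟩
  let X's : Space S := ⟨pullback f.hom j, hX'⟩
  let js : Y's ⟶ Y := ObjectProperty.homMk j
  let fsts : X's ⟶ Y's := ObjectProperty.homMk (pullback.snd f.hom j)
  let snds : X's ⟶ X := ObjectProperty.homMk (pullback.fst f.hom j)
  refine ⟨Y's, X's, js, fsts, snds, hj, hrange, sqX'.flip, ?_⟩
  let Yi : I → Space S := fun i => ⟨(yon S).obj (V i), IsAlgSpace.yon_obj (V i)⟩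
  let ji : ∀ i, Yi i ⟶ Y's := fun i => ObjectProperty.homMk (c i)
  have hcov : IsZarCover (fun i => (Yi i).obj) (fun i => (ji i).hom) := by
    refine ⟨hcoi, ?_⟩
    intro y'
    have hy' : Points.map j y' ∈ ⋃ i, Set.range (Points.ofPt (b i)) := by
      rw [← hrange]; exact ⟨y', rfl⟩
    simp only [Set.mem_iUnion] at hy'
    obtain ⟨i, v, hv⟩ := hy'
    refine ⟨i, Points.ofScheme (V i) v, ?_⟩
    apply Groth.Agent.Helper5.FinFibQf.injective_points_of_oi j hj
    show Points.map j (Points.map (c i) (Points.ofScheme (V i) v)) = Points.map j y'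
    rw [← Points.map_comp, hc i, Points.map_ofPt, Category.id_comp]
    exact hv
  have hw : ∀ i, pullback.fst f.hom (b i) ≫ f.hom = (pullback.snd f.hom (b i) ≫ c i) ≫ j := by
    intro i
    rw [Category.assoc, hc i, pullback.condition]
  have hsq : ∀ i, IsPullback
      (pullback.lift (pullback.fst f.hom (b i)) (pullback.snd f.hom (b i) ≫ c i) (hw i))
      (pullback.snd f.hom (b i)) fsts.hom (ji i).hom := by
    intro i
    have hbig : IsPullback
        (pullback.lift (pullback.fst f.hom (b i)) (pullback.snd f.hom (b i) ≫ c i) (hw i) ≫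
          pullback.fst f.hom j) (pullback.snd f.hom (b i)) f.hom (c i ≫ j) := by
      rw [pullback.lift_fst, hc i]
      exact IsPullback.of_hasPullback f.hom (b i)
    exact IsPullback.of_right hbig (pullback.lift_snd _ _ _) sqX'
  exact (Groth.Agent.S10336.result fsts Yi ji hcov (fun i => pullback f.hom (b i)) _ _ hsq).2.1
    (fun i => isFiniteMor_of_repWith _ (hfin i))

end Groth.Agent.Helper5.FinNbhd
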