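import Mathlib
import Groth.Agent.Helper5.FinNbhd12

/-!
# S10400: generic finiteness for spaces with finitely many codimension 0 points
-/

set_option autoImplicit false
set_option linter.style.haveILetI false
set_option linter.unusedVariables false
universe u

namespace Groth.Agent.Helper5.FinNbhd

open CategoryTheory CategoryTheory.Limits AlgebraicGeometry Opposite AlgSp
open Groth.Agent.Helper4 Groth.Agent.Helper5.Codim0B
open Groth.Agent.Helper4.AlgSpPtsDesc Groth.Agent.Helper4.AlgSpQC2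

variable {S : Scheme.{u}}

set_option backward.isDefEq.respectTransparency.types false in
set_option maxHeartbeats 800000 in
theorem s10400 {X Y : AlgSp.Space S} (f : X ⟶ Y)
    (hf : AlgSp.LocP @LocallyOfFiniteType f.hom) (hY : AlgSp.IsDecent Y.obj)
    (hX0 : {x : AlgSp.Points X.obj | AlgSp.HasAt (fun U u => ringKrullDim ↥(U.presheaf.stalk u) = 0) X.obj x}.Finite)
    (hY0 : {y : AlgSp.Points Y.obj | AlgSp.HasAt (fun U u => ringKrullDim ↥(U.presheaf.stalk u) = 0) Y.obj y}.Finite)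
    (hpre : ∀ x : AlgSp.Points X.obj, AlgSp.HasAt (fun U u => ringKrullDim ↥(U.presheaf.stalk u) = 0) X.obj x ↔ AlgSp.HasAt (fun U u => ringKrullDim ↥(U.presheaf.stalk u) = 0) Y.obj (AlgSp.Points.map f.hom x))
    (hqs : AlgSp.IsQuasiCompactMor f.hom ∨ AlgSp.IsSeparatedMor f.hom) :
    ∃ (V X' : AlgSp.Space S) (j : V ⟶ Y) (fst : X' ⟶ V) (snd : X' ⟶ X), AlgSp.RepWith @IsOpenImmersion j.hom ∧
      Dense (Set.range (AlgSp.Points.map j.hom)) ∧ IsPullback fst.hom snd.hom j.hom f.hom ∧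
      AlgSp.IsFiniteMor fst.hom := by
  obtain ⟨W, ψ, hψ, hψd⟩ := exists_dense_open_scheme Y hY
  have hψe := etale_of_oi ψ hψ
  have hk := Groth.Agent.Helper5.DegStr.isOpenEmbedding_ofPt_of_oi Y.property ψ hψ
  have hM : {w : ↥W.left | IsMaxPt w}.Finite := by
    refine (hY0.preimage (Set.injOn_of_injective hk.injective)).subset ?_
    intro w hw
    exact (hasAt0_iff_isMaxPt ψ hψe w).2 hw
  -- irreducible affine neighbourhoods of the maximal points
  have hV : ∀ i : {w : ↥W.left // IsMaxPt w}, ∃ O : W.left.Opens, IsAffineOpen O ∧ i.1 ∈ O ∧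
      ∀ w : ↥W.left, w ∈ O → i.1 ⤳ w := fun i =>
    exists_irreducible_affine_nhd W.left hM i.1 i.2
  choose O hOa hiO hOgen using hV
  let Vo : {w : ↥W.left // IsMaxPt w} → Over S := fun i => Over.mk ((O i).ι ≫ W.hom)
  let ιo : ∀ i, Vo i ⟶ W := fun i => Over.homMk (O i).ι rfl
  have i2 := (repWith_isMultiplicative (S := S) @IsOpenImmersion).toIsStableUnderComposition
  have hb : ∀ i, RepWith @IsOpenImmersion ((yon S).map (ιo i) ≫ ψ) := fun i =>
    MorphismProperty.comp_mem _ _ _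
      ((repWith_yon_map_iff _ _).2 (show IsOpenImmersion (O i).ι from inferInstance)) hψ
  have hloc : ∀ i : {w : ↥W.left // IsMaxPt w}, ∃ (V'' : Over S) (ι : V'' ⟶ Vo i)
      (v'' : ↥V''.left), IsOpenImmersion ι.left ∧ ι.left v'' = ⟨i.1, hiO i⟩ ∧
      RepWith @IsFinite (pullback.snd f.hom ((yon S).map ι ≫ (yon S).map (ιo i) ≫ ψ)) := by
    intro i
    haveI : IsAffine (Vo i).left := hOa i
    refine lemmaU f hf hX0 hpre hqs ((yon S).map (ιo i) ≫ ψ) (hb i) ⟨i.1, hiO i⟩ ?_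
    intro w
    apply ((O i).ι.isOpenEmbedding.isInducing.specializes_iff).1
    exact hOgen i _ w.2
  choose V'' ι'' v'' hι'' hιv'' hfin'' using hloc
  have hb'' : ∀ i, RepWith @IsOpenImmersion ((yon S).map (ι'' i) ≫ (yon S).map (ιo i) ≫ ψ) :=
    fun i => MorphismProperty.comp_mem _ _ _
      ((repWith_yon_map_iff _ _).2 (hι'' i)) (hb i)
  obtain ⟨Y', X', j, fst, snd, hj, hrange, sq, hfinmor⟩ :=
    assemble_cover f V'' (fun i => (yon S).map (ι'' i) ≫ (yon S).map (ιo i) ≫ ψ) hb'' hfin''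
  refine ⟨Y', X', j, fst, snd, hj, ?_, sq, hfinmor⟩
  rw [hrange, dense_iff_inter_open]
  intro A hA hAne
  obtain ⟨y, hyA, w, rfl⟩ := hψd.inter_open_nonempty A hA hAne
  obtain ⟨ξ, hξ, hξw⟩ := exists_isMaxPt_specializes w
  have hsp : Points.ofPt ψ ξ ⤳ Points.ofPt ψ w := hξw.map (Points.continuous_ofPt ψ)
  have hξA : Points.ofPt ψ ξ ∈ A := hsp.mem_open hA hyA
  refine ⟨Points.ofPt ψ ξ, hξA, ?_⟩
  simp only [Set.mem_iUnion]
  refine ⟨⟨ξ, hξ⟩, v'' ⟨ξ, hξ⟩, ?_⟩
  rw [ofPt_yon_map_comp, hιv'', ofPt_yon_map_comp]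
  rfl

end Groth.Agent.Helper5.FinNbhd
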