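import Mathlib

/-!
# Helper5: algebra for the reduction of the valuative criterion to finite separable extensions
-/

set_option autoImplicit false
universe u

namespace Groth.Agent.Helper5.FinSep

/-- A field which is a quotient of an etale algebra over a field is finite separable. -/
theorem finite_separable_of_etale {K C L : Type u} [Field K] [CommRing C] [Field L]
    (ψC : K →+* C) (hψC : ψC.Etale) (q : C →+* L) (hq : Function.Surjective q) :
    letI := (q.comp ψC).toAlgebra
    Module.Finite K L ∧ Algebra.IsSeparable K L := by
  letI : Algebra K C := ψC.toAlgebra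
  letI : Algebra K L := (q.comp ψC).toAlgebra
  letI : Algebra C L := q.toAlgebra
  haveI : IsScalarTower K C L := IsScalarTower.of_algebraMap_eq (fun _ => rfl)
  haveI : Algebra.Etale K C := hψC
  haveI : Module.Finite K C := Algebra.FormallyUnramified.finite_of_free K C
  have hq' : Function.Surjective (IsScalarTower.toAlgHom K C L) := hq
  haveI : Module.Finite K L := Module.Finite.of_surjective (IsScalarTower.toAlgHom K C L).toLinearMap hq'
  haveI : Algebra.FormallyUnramified K L :=
    Algebra.FormallyUnramified.of_surjective (IsScalarTower.toAlgHom K C L) hq'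
  exact ⟨inferInstance, Algebra.FormallyUnramified.isSeparable K L⟩

/-- Primes of an etale algebra over a field are maximal. -/
theorem isMaximal_of_etale {K C : Type u} [Field K] [CommRing C]
    (ψC : K →+* C) (hψC : ψC.Etale) (p : Ideal C) [p.IsPrime] : p.IsMaximal := by
  letI : Algebra K C := ψC.toAlgebra
  haveI : Algebra.Etale K C := hψC
  haveI : Module.Finite K C := Algebra.FormallyUnramified.finite_of_free K C
  haveI : IsArtinianRing C := IsArtinianRing.of_finite K C
  exact IsArtinianRing.isMaximal_of_isPrime p

section valsub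

variable {A'' K'' L : Type u} [CommRing A''] [IsDomain A''] [ValuationRing A''] [Field K'']
  [Algebra A'' K''] [IsFractionRing A'' K''] [Field L] (ι : L →+* K'')

variable (A'') in
/-- The valuation ring of `L` induced by `A''`. -/
noncomputable def AL : ValuationSubring L :=
  ((ValuationRing.valuation A'' K'').valuationSubring).comap ι

theorem mem_AL {x : L} : x ∈ AL A'' ι ↔ ∃ a : A'', algebraMap A'' K'' a = ι x := by
  unfold AL
  rw [ValuationSubring.mem_comap]
  exact ValuationRing.mem_integer_iff A'' K'' (ι x)

variable {R : Type u} [CommRing R] (g : R →+* L) (h : R →+* A'')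
  (hgh : ι.comp g = (algebraMap A'' K'').comp h)

/-- A ring map to `L` which lands in `A''` after `ι` factors through the induced valuation ring. -/
noncomputable def liftAL : R →+* ↥(AL A'' ι) :=
  g.codRestrict (AL A'' ι).toSubring (fun r => (mem_AL ι).2 ⟨h r, (congrArg (fun t => t r) hgh).symm⟩)

theorem liftAL_val (r : R) : ((liftAL ι g h hgh r : ↥(AL A'' ι)) : L) = g r := rfl

theorem algebraMap_comp_liftAL :
    (algebraMap ↥(AL A'' ι) L).comp (liftAL ι g h hgh) = g := by
  ext r
  rfl

theorem isLocalHom_liftAL (hloc : IsLocalHom h) : IsLocalHom (liftAL ι g h hgh) := by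
  refine ⟨fun r hr => ?_⟩
  obtain ⟨⟨y, hy⟩, hry⟩ := hr.exists_right_inv
  obtain ⟨y'', hy''⟩ := (mem_AL ι).1 hy
  have h1 : g r * y = 1 := congrArg (fun t : ↥(AL A'' ι) => (t : L)) hry
  have h2 : algebraMap A'' K'' (h r * y'') = algebraMap A'' K'' 1 := by
    rw [map_mul, hy'', ← RingHom.comp_apply, ← hgh, RingHom.comp_apply, ← map_mul, h1, map_one,
      map_one]
  have h3 : h r * y'' = 1 := IsFractionRing.injective A'' K'' h2
  exact hloc.map_nonunit r (IsUnit.of_mul_eq_one _ h3)

end valsub

end Groth.Agent.Helper5.FinSep
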