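import Groth.Agent.Helper5.FinSep1
import Mathlib

/-!
# Helper5: a field-valued point of a scheme factors through an affine open
-/

set_option autoImplicit false
universe u
open CategoryTheory CategoryTheory.Limits AlgebraicGeometry Opposite

namespace Groth.Agent.Helper5.FinSep

theorem exists_affine_point {E : Scheme.{u}} {K'' : Type u} [Field K'']
    (g : Spec (CommRingCat.of K'') ⟶ E) :
    ∃ (C : Type u) (_ : CommRing C) (cE : Spec (CommRingCat.of C) ⟶ E) (_ : IsOpenImmersion cE)
      (γ : C →+* K''), Spec.map (CommRingCat.ofHom γ) ≫ cE = g := by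
  let pt : E := g (IsLocalRing.closedPoint K'')
  obtain ⟨U, hU, hx, -⟩ := exists_isAffineOpen_mem_and_subset (X := E) (x := pt) (U := ⊤) trivial
  have hr : Set.range g ⊆ Set.range hU.fromSpec := by
    rw [hU.range_fromSpec]
    rintro _ ⟨t, rfl⟩
    have : t = IsLocalRing.closedPoint K'' := Subsingleton.elim _ _
    rw [this]
    exact hx
  let ζ : Spec (CommRingCat.of K'') ⟶ Spec Γ(E, U) := IsOpenImmersion.lift hU.fromSpec g hr
  have hζ : ζ ≫ hU.fromSpec = g := IsOpenImmersion.lift_fac _ _ _
  refine ⟨Γ(E, U), inferInstance, hU.fromSpec, inferInstance, (Spec.preimage ζ).hom, ?_⟩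
  rw [← hζ]
  congr 1
  exact Spec.map_preimage ζ

end Groth.Agent.Helper5.FinSep
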