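import Groth.Agent.Helper5.FinSep2
import Groth.Agent.Helper5.FinSep3
import Mathlib

/-!
# Helper5: from chart data to a lift over a finite separable dominating extension
-/

set_option autoImplicit false
universe u
open CategoryTheory CategoryTheory.Limits AlgebraicGeometry Opposite TensorProduct

namespace Groth.Agent.Helper5.FinSep

open AlgSp Groth.Agent.Helper5.AnCl Groth.Agent.Helper5.ValDesc

variable {S : Scheme.{u}} {A : Type u} [CommRing A]
  {K : Type u} [Field K] [Algebra A K]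
  (σ : Spec (CommRingCat.of A) ⟶ S)
  {P : Sp S} (sP : P ⟶ (yon S).obj (Over.mk σ))
  (σK : (yon S).obj (specOver σ K) ⟶ P) (hσK : σK ≫ sP = (yon S).map (toBase σ K))
  {B : Type u} [CommRing B] [Algebra A B] (w : (yon S).obj (specOver σ B) ⟶ P)
  (hwe : RepWith @Etale w)
  (hw : w ≫ sP = (yon S).map (toBase σ B))
  {A'' K'' : Type u} [CommRing A''] [IsDomain A''] [ValuationRing A''] [Field K'']
  [Algebra A'' K''] [IsFractionRing A'' K'']
  (β : B →+* A'') (hβloc : IsLocalHom (β.comp (algebraMap A B)))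
  (ψ'' : K →+* K'')
  (z₁ : Over.mk (Spec.map (CommRingCat.ofHom ((algebraMap A'' K'').comp β)) ≫
    (specOver σ B).hom) ⟶ specOver σ K)
  (hz₁ : z₁.left = Spec.map (CommRingCat.ofHom ψ''))
  (hz : (yon S).map (Over.homMk (Spec.map (CommRingCat.ofHom ((algebraMap A'' K'').comp β))) rfl :
      Over.mk (Spec.map (CommRingCat.ofHom ((algebraMap A'' K'').comp β)) ≫
        (specOver σ B).hom) ⟶ specOver σ B) ≫ w = (yon S).map z₁ ≫ σK)

include hσK hwe hw hβloc hz₁ hz in
set_option maxHeartbeats 1600000 in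
set_option backward.isDefEq.respectTransparency.types false in
theorem exists_finite_separable :
    ∃ (L : Type u) (_ : Field L) (V : ValuationSubring L) (φL : A →+* V) (ψL : K →+* L)
      (hcomm : (algebraMap V L).comp φL = ψL.comp (algebraMap A K)),
      IsLocalHom φL ∧
      (letI := ψL.toAlgebra; Module.Finite K L ∧ Algebra.IsSeparable K L) ∧
      ∃ lP : (yon S).obj (Over.mk (Spec.map (CommRingCat.ofHom φL) ≫ σ)) ⟶ P,
        lP ≫ sP = (yon S).map (Over.homMk (Spec.map (CommRingCat.ofHom φL)) rfl :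
          Over.mk (Spec.map (CommRingCat.ofHom φL) ≫ σ) ⟶ Over.mk σ) ∧
        (yon S).map (Over.homMk (Spec.map (CommRingCat.ofHom (algebraMap V L))) rfl :
          Over.mk (Spec.map (CommRingCat.ofHom (algebraMap V L)) ≫
            Spec.map (CommRingCat.ofHom φL) ≫ σ) ⟶
            Over.mk (Spec.map (CommRingCat.ofHom φL) ≫ σ)) ≫ lP =
          (yon S).map (Over.homMk (Spec.map (CommRingCat.ofHom ψL)) (by
            change Spec.map _ ≫ Spec.map _ ≫ σ = Spec.map _ ≫ Spec.map _ ≫ σ
            rw [← Spec.map_comp_assoc, ← Spec.map_comp_assoc, ← CommRingCat.ofHom_comp,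
              ← CommRingCat.ofHom_comp, hcomm]) :
            Over.mk (Spec.map (CommRingCat.ofHom (algebraMap V L)) ≫
              Spec.map (CommRingCat.ofHom φL) ≫ σ) ⟶ specOver σ K) ≫ σK := by
  -- the fibre of the chart over the generic point
  let E : Over S := hwe.1.pullback σK
  let e₁ : E ⟶ specOver σ K := hwe.1.snd σK
  obtain ⟨e₂, he₂⟩ := (yon S).map_surjective (hwe.1.fst σK)
  have sqE : IsPullback ((yon S).map e₂) ((yon S).map e₁) w σK := by
    rw [he₂]
    exact hwe.1.isPullback σK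
  have he₁et : Etale e₁.left := hwe.2 σK _ _ (hwe.1.isPullback σK)
  have hbaseE : e₂ ≫ toBase σ B = e₁ ≫ toBase σ K := by
    apply (yon S).map_injective
    rw [Functor.map_comp, Functor.map_comp, ← hw, ← hσK, ← Category.assoc, sqE.w, Category.assoc]
  -- the point
  let Z : Over S := Over.mk (Spec.map (CommRingCat.ofHom ((algebraMap A'' K'').comp β)) ≫
    (specOver σ B).hom)
  let z₂ : Z ⟶ specOver σ B :=
    Over.homMk (Spec.map (CommRingCat.ofHom ((algebraMap A'' K'').comp β))) rfl
  obtain ⟨ε₀, hε₀⟩ := (yon S).map_surjective (sqE.lift ((yon S).map z₂) ((yon S).map z₁) hz)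
  have hε₂ : ε₀ ≫ e₂ = z₂ := by
    apply (yon S).map_injective
    rw [Functor.map_comp, hε₀, sqE.lift_fst]
  have hε₁ : ε₀ ≫ e₁ = z₁ := by
    apply (yon S).map_injective
    rw [Functor.map_comp, hε₀, sqE.lift_snd]
  have hbaseZ : z₂ ≫ toBase σ B = z₁ ≫ toBase σ K := by
    rw [← hε₂, ← hε₁, Category.assoc, Category.assoc, hbaseE]
  have hψ'' : ψ''.comp (algebraMap A K) = (algebraMap A'' K'').comp (β.comp (algebraMap A B)) := by
    have h1 := congrArg (fun t => t.left) hbaseZ
    change Spec.map _ ≫ Spec.map _ = z₁.left ≫ Spec.map _ at h1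
    rw [hz₁, ← Spec.map_comp, ← Spec.map_comp] at h1
    have h2 := Spec.map_injective h1
    exact (congrArg (fun t => t.hom) h2).symm
  -- the affine chart of `E` at the point
  obtain ⟨C, iC, cE, hcE, γ, hγ⟩ := exists_affine_point (E := E.left) (K'' := K'') ε₀.left
  let ψC : K →+* C := (Spec.preimage (cE ≫ e₁.left)).hom
  have hψC : Spec.map (CommRingCat.ofHom ψC) = cE ≫ e₁.left := Spec.map_preimage _
  have hψCet : ψC.Etale := by
    have : Etale (Spec.map (CommRingCat.ofHom ψC)) := by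
      rw [hψC]
      infer_instance
    exact (HasRingHomProperty.Spec_iff (P := @Etale)).mp this
  let ρC : B →+* C := (Spec.preimage (cE ≫ e₂.left)).hom
  have hρC : Spec.map (CommRingCat.ofHom ρC) = cE ≫ e₂.left := Spec.map_preimage _
  -- ring identities
  have hγψ : γ.comp ψC = ψ'' := by
    have h1 : Spec.map (CommRingCat.ofHom (γ.comp ψC)) = Spec.map (CommRingCat.ofHom ψ'') := by
      rw [CommRingCat.ofHom_comp, Spec.map_comp, hψC, ← Category.assoc, hγ, ← hz₁, ← hε₁]
      rfl
    exact congrArg (fun t => t.hom) (Spec.map_injective h1)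
  have hγρ : γ.comp ρC = (algebraMap A'' K'').comp β := by
    have h1 : Spec.map (CommRingCat.ofHom (γ.comp ρC)) =
        Spec.map (CommRingCat.ofHom ((algebraMap A'' K'').comp β)) := by
      rw [CommRingCat.ofHom_comp, Spec.map_comp, hρC, ← Category.assoc, hγ]
      exact congrArg (fun t => t.left) hε₂
    exact congrArg (fun t => t.hom) (Spec.map_injective h1)
  have hρψ : ρC.comp (algebraMap A B) = ψC.comp (algebraMap A K) := by
    have h1 : Spec.map (CommRingCat.ofHom (ρC.comp (algebraMap A B))) =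
        Spec.map (CommRingCat.ofHom (ψC.comp (algebraMap A K))) := by
      rw [CommRingCat.ofHom_comp, CommRingCat.ofHom_comp, Spec.map_comp, Spec.map_comp, hρC, hψC,
        Category.assoc, Category.assoc]
      congr 1
      exact congrArg (fun t => t.left) hbaseE
    exact congrArg (fun t => t.hom) (Spec.map_injective h1)
  -- the field `L`
  let 𝔭 : Ideal C := RingHom.ker γ
  haveI : 𝔭.IsPrime := RingHom.ker_isPrime γ
  haveI : 𝔭.IsMaximal := isMaximal_of_etale ψC hψCet 𝔭
  letI : Field (C ⧸ 𝔭) := Ideal.Quotient.field 𝔭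
  let q : C →+* C ⧸ 𝔭 := Ideal.Quotient.mk 𝔭
  let ι : C ⧸ 𝔭 →+* K'' := RingHom.kerLift γ
  have hιq : ι.comp q = γ := by
    ext c
    rfl
  let ψL : K →+* C ⧸ 𝔭 := q.comp ψC
  have hfs := finite_separable_of_etale ψC hψCet q Ideal.Quotient.mk_surjective
  -- the valuation ring
  let V : ValuationSubring (C ⧸ 𝔭) := AL A'' ι
  have hgh : ι.comp (q.comp ρC) = (algebraMap A'' K'').comp β := by
    rw [← RingHom.comp_assoc, hιq, hγρ]
  let βL : B →+* V := liftAL ι (q.comp ρC) β hgh
  have hgh' : ι.comp ((q.comp ρC).comp (algebraMap A B)) =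
      (algebraMap A'' K'').comp (β.comp (algebraMap A B)) := by
    rw [← RingHom.comp_assoc, hgh, RingHom.comp_assoc]
  let φL : A →+* V := liftAL ι ((q.comp ρC).comp (algebraMap A B)) (β.comp (algebraMap A B)) hgh'
  have hφL : φL = βL.comp (algebraMap A B) := by
    ext a
    rfl
  have hφLloc : IsLocalHom φL := isLocalHom_liftAL ι _ _ hgh' hβloc
  have hcomm : (algebraMap V (C ⧸ 𝔭)).comp φL = ψL.comp (algebraMap A K) := by
    rw [algebraMap_comp_liftAL, RingHom.comp_assoc, hρψ, ← RingHom.comp_assoc]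
  refine ⟨C ⧸ 𝔭, inferInstance, V, φL, ψL, hcomm, hφLloc, hfs, ?_⟩
  -- the lift
  let ptV : Over S := Over.mk (Spec.map (CommRingCat.ofHom φL) ≫ σ)
  have hbL : Spec.map (CommRingCat.ofHom βL) ≫ (specOver σ B).hom = ptV.hom := by
    change Spec.map _ ≫ Spec.map _ ≫ σ = Spec.map _ ≫ σ
    rw [← Spec.map_comp_assoc, ← CommRingCat.ofHom_comp, ← hφL]
  let bL : ptV ⟶ specOver σ B := Over.homMk (Spec.map (CommRingCat.ofHom βL)) hbL
  refine ⟨(yon S).map bL ≫ w, ?_, ?_⟩
  · rw [Category.assoc, hw, ← Functor.map_comp]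
    congr 1
    ext
    change Spec.map _ ≫ Spec.map _ = Spec.map _
    rw [← Spec.map_comp, ← CommRingCat.ofHom_comp, ← hφL]
  · let ptL : Over S := Over.mk (Spec.map (CommRingCat.ofHom (algebraMap V (C ⧸ 𝔭))) ≫
      Spec.map (CommRingCat.ofHom φL) ≫ σ)
    let jL : ptL ⟶ ptV := Over.homMk (Spec.map (CommRingCat.ofHom (algebraMap V (C ⧸ 𝔭)))) rfl
    have htψ : Spec.map (CommRingCat.ofHom ψL) ≫ (specOver σ K).hom = ptL.hom := by
      change Spec.map _ ≫ Spec.map _ ≫ σ = Spec.map _ ≫ Spec.map _ ≫ σ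
      rw [← Spec.map_comp_assoc, ← Spec.map_comp_assoc, ← CommRingCat.ofHom_comp,
        ← CommRingCat.ofHom_comp, hcomm]
    let tψL : ptL ⟶ specOver σ K := Over.homMk (Spec.map (CommRingCat.ofHom ψL)) htψ
    have hpL : (Spec.map (CommRingCat.ofHom q) ≫ cE) ≫ E.hom = ptL.hom := by
      have hE : E.hom = e₁.left ≫ (specOver σ K).hom := (Over.w e₁).symm
      rw [hE, ← htψ, Category.assoc, ← Category.assoc cE, ← hψC, ← Spec.map_comp_assoc,
        ← CommRingCat.ofHom_comp]
    let pL : ptL ⟶ E := Over.homMk (Spec.map (CommRingCat.ofHom q) ≫ cE) hpL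
    have h1 : jL ≫ bL = pL ≫ e₂ := by
      ext
      change Spec.map _ ≫ Spec.map _ = (Spec.map _ ≫ cE) ≫ e₂.left
      rw [Category.assoc, ← hρC, ← Spec.map_comp, ← Spec.map_comp, ← CommRingCat.ofHom_comp,
        ← CommRingCat.ofHom_comp]
      congr 2
    have h2 : pL ≫ e₁ = tψL := by
      ext
      change (Spec.map _ ≫ cE) ≫ e₁.left = Spec.map _
      rw [Category.assoc, ← hψC, ← Spec.map_comp, ← CommRingCat.ofHom_comp]
    change (yon S).map jL ≫ (yon S).map bL ≫ w = (yon S).map tψL ≫ σK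
    rw [← Category.assoc, ← Functor.map_comp, h1, Functor.map_comp, Category.assoc, sqE.w,
      ← Category.assoc, ← Functor.map_comp, h2]

end Groth.Agent.Helper5.FinSep
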