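import Groth.Agent.Helper5.FinSep4
import Mathlib

/-!
# Helper5: in the existence part of the valuative criterion finite separable extensions suffice
-/

set_option autoImplicit false
universe u
open CategoryTheory CategoryTheory.Limits AlgebraicGeometry Opposite TensorProduct

namespace Groth.Agent.Helper5.FinSep

open AlgSp Groth.Agent.Helper5.AnCl Groth.Agent.Helper5.ValDesc

variable {S : Scheme.{u}}

set_option maxHeartbeats 1600000 in
set_option backward.isDefEq.respectTransparency.types false in
theorem exists_domExt_finite_separable {X Y : Sp S} (hX : IsAlgSpace X) (hY : IsAlgSpace Y)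
    (f : X ⟶ Y) (sq : ValSq f) (e : sq.DomExt) (he : e.HasLift) :
    ∃ e' : sq.DomExt,
      (letI := e'.ψ.toAlgebra; Module.Finite sq.K e'.K' ∧ Algebra.IsSeparable sq.K e'.K') ∧
      e'.HasLift := by
  obtain ⟨B, iB, iAB, w, hwe, hw, A'', iCR, iDom, iVR, β, hβloc, ψ'', z₁, hz₁, hz⟩ :=
    exists_chart_data hX hY f sq e he
  obtain ⟨L, iL, V, φL, ψL, hcomm, hloc, hfs, lP, hlP1, hlP2⟩ :=
    exists_finite_separable sq.str (pullback.snd f sq.bot)
      (pullback.lift sq.top ((yon S).map (toBase sq.str sq.K)) sq.comm)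
      (pullback.lift_snd _ _ _) w hwe hw β hβloc ψ'' z₁ hz₁ hz
  let e' : sq.DomExt :=
    { A' := V, K' := L, φ := φL, ψ := ψL, comm := hcomm, isLocalHom := hloc }
  refine ⟨e', hfs, lP ≫ pullback.fst f sq.bot, ?_, ?_⟩
  · rw [← Category.assoc]
    refine (congrArg (fun t => t ≫ pullback.fst f sq.bot) hlP2).trans ?_
    change _ ≫ pullback.lift sq.top _ sq.comm ≫ pullback.fst f sq.bot = _
    rw [pullback.lift_fst]
  · rw [Category.assoc, pullback.condition, ← Category.assoc]
    exact congrArg (fun t => t ≫ sq.bot) hlP1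

end Groth.Agent.Helper5.FinSep
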