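import Groth.Prelude.Def_FEt
import Groth.Agent.Helper5.FinThick1
import Groth.Agent.Helper5.TopInv6
import Mathlib

set_option autoImplicit false
set_option linter.style.haveILetI false
set_option linter.unusedSectionVars false
set_option linter.unusedVariables false
universe u
open CategoryTheory CategoryTheory.Limits AlgebraicGeometry Opposite TopologicalSpace

namespace Groth.Agent.Helper5.FinThick

open Groth.Agent.Helper5.TopInv

variable {S S₀ : Scheme.{u}} (i : S₀ ⟶ S) [IsClosedImmersion i] [Surjective i]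

set_option backward.isDefEq.respectTransparency.types false in
theorem faithful_forget_pullback :
    (MorphismProperty.Over.forget FEt.prop.{u} ⊤ S ⋙ Over.pullback i).Faithful :=
  ⟨fun {V V'} a b h => by
    haveI : Etale ((MorphismProperty.Over.forget FEt.prop.{u} ⊤ S).obj V').hom := V'.prop.2
    have := (Groth.Agent.S0117.aux i ((MorphismProperty.Over.forget FEt.prop.{u} ⊤ S).obj V')
      ((MorphismProperty.Over.forget FEt.prop.{u} ⊤ S).obj V)).1 h
    exact (MorphismProperty.Over.forget FEt.prop.{u} ⊤ S).map_injective this⟩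

set_option backward.isDefEq.respectTransparency.types false in
theorem full_forget_pullback :
    (MorphismProperty.Over.forget FEt.prop.{u} ⊤ S ⋙ Over.pullback i).Full :=
  ⟨fun {V V'} φ₀ => by
    haveI : Etale ((MorphismProperty.Over.forget FEt.prop.{u} ⊤ S).obj V').hom := V'.prop.2
    obtain ⟨φ, hφ⟩ := (Groth.Agent.S0117.aux i
      ((MorphismProperty.Over.forget FEt.prop.{u} ⊤ S).obj V')
      ((MorphismProperty.Over.forget FEt.prop.{u} ⊤ S).obj V)).2 φ₀
    obtain ⟨ψ, rfl⟩ := (MorphismProperty.Over.forget FEt.prop.{u} ⊤ S).map_surjective φ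
    exact ⟨ψ, hφ⟩⟩

set_option backward.isDefEq.respectTransparency.types false in
theorem restrict_isEquivalence : (FEt.restrict i).IsEquivalence := by
  let e : FEt.restrict i ⋙ MorphismProperty.Over.forget FEt.prop.{u} ⊤ S₀ ≅
      MorphismProperty.Over.forget FEt.prop.{u} ⊤ S ⋙ Over.pullback i :=
    MorphismProperty.Over.pullbackCompForgetIso (P := FEt.prop.{u}) (Q := ⊤) i
  haveI := faithful_forget_pullback i
  haveI := full_forget_pullback i
  haveI : (FEt.restrict i ⋙ MorphismProperty.Over.forget FEt.prop.{u} ⊤ S₀).Faithful :=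
    Functor.Faithful.of_iso e.symm
  haveI : (FEt.restrict i ⋙ MorphismProperty.Over.forget FEt.prop.{u} ⊤ S₀).Full :=
    Functor.Full.of_iso e.symm
  haveI : (FEt.restrict i).Faithful :=
    Functor.Faithful.of_comp (FEt.restrict i) (MorphismProperty.Over.forget FEt.prop.{u} ⊤ S₀)
  haveI : (FEt.restrict i).Full :=
    Functor.Full.of_comp_faithful (FEt.restrict i) (MorphismProperty.Over.forget FEt.prop.{u} ⊤ S₀)
  haveI : (FEt.restrict i).EssSurj := ⟨fun X₀ => by
    haveI : Etale ((MorphismProperty.Over.forget FEt.prop.{u} ⊤ S₀).obj X₀).hom := X₀.prop.2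
    haveI : IsFinite ((MorphismProperty.Over.forget FEt.prop.{u} ⊤ S₀).obj X₀).hom := X₀.prop.1
    obtain ⟨W, hW, ⟨ι⟩⟩ :=
      exists_etale_lift i (X₀ := (MorphismProperty.Over.forget FEt.prop.{u} ⊤ S₀).obj X₀)
    haveI := hW
    have hfin : IsFinite (pullback.snd W.hom i) := by
      have : pullback.snd W.hom i =
          ι.hom.left ≫ ((MorphismProperty.Over.forget FEt.prop.{u} ⊤ S₀).obj X₀).hom :=
        (Over.w ι.hom).symm
      rw [this]
      haveI : IsIso ι.hom.left := (Over.forget S₀).map_isIso ι.hom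
      infer_instance
    have hWfin : IsFinite W.hom := isFinite_of_thickening i W.hom hfin
    let W' : FEt.Cat S := MorphismProperty.Over.mk ⊤ W.hom ⟨hWfin, hW⟩
    let ι' : (MorphismProperty.Over.forget FEt.prop.{u} ⊤ S₀).obj ((FEt.restrict i).obj W') ≅
        (MorphismProperty.Over.forget FEt.prop.{u} ⊤ S₀).obj X₀ := e.app W' ≪≫ ι
    exact ⟨W', ⟨(MorphismProperty.Comma.forgetFullyFaithful _ _ _).preimageIso ι'⟩⟩⟩
  exact {}

end Groth.Agent.Helper5.FinThick
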