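import Groth.Agent.Helper4.AlgSpOpenImage
import Groth.Agent.Helper4.RepBySp2
import Groth.Prelude.Def_AlgSpRep
import Mathlib

set_option autoImplicit false
set_option linter.style.haveILetI false
set_option linter.unusedSectionVars false
set_option linter.unusedVariables false
universe u
open CategoryTheory CategoryTheory.Limits AlgebraicGeometry Opposite

namespace Groth.Agent.Helper5.FixPt

open AlgSp Groth.Agent.Helper4

variable {S : Scheme.{u}}

theorem s13210 (F : Sp S) (hF : IsAlgSpace F) (hsep : IsSeparatedSp F)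
    (G : Type u) [Group G] [Finite G] (ρ : G →* Aut F)
    (Z : Sp S) (i : Z ⟶ F) (hi : ∀ g : G, i ≫ (ρ g).hom = i)
    (huniv : ∀ (W : Sp S) (x : W ⟶ F), (∀ g : G, x ≫ (ρ g).hom = x) → ∃! z : W ⟶ Z, z ≫ i = x) :
    IsAlgSpace Z ∧ RepWith @IsClosedImmersion i := by
  haveI : Mono i := by
    constructor
    intro W a b hab
    have hinv : ∀ g : G, (a ≫ i) ≫ (ρ g).hom = a ≫ i := fun g => by rw [Category.assoc, hi]
    obtain ⟨z, _, hz⟩ := huniv W (a ≫ i) hinv
    rw [hz a rfl, hz b hab.symm]
  have hci : RepWith @IsClosedImmersion i := by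
    refine MorphismProperty.relative.of_exists fun T x => ?_
    have hΔ : Representable (Limits.diag F) := hsep.rep
    -- the closed subschemes where `x` and `x ≫ ρ g` agree
    let ξ : G → ((yon S).obj T ⟶ F ⨯ F) := fun g => prod.lift x (x ≫ (ρ g).hom)
    have hpb : ∀ g, IsPullback (hΔ.fst (ξ g)) ((yon S).map (hΔ.snd (ξ g))) (Limits.diag F) (ξ g) :=
      fun g => hΔ.isPullback (ξ g)
    haveI hcl : ∀ g, IsClosedImmersion (hΔ.snd (ξ g)).left := fun g =>
      hsep.property _ _ _ (hpb g)
    have heq : ∀ g, (yon S).map (hΔ.snd (ξ g)) ≫ x =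
        (yon S).map (hΔ.snd (ξ g)) ≫ x ≫ (ρ g).hom := by
      intro g
      have h1 := congrArg (fun k => k ≫ prod.fst) (hpb g).w
      have h2 := congrArg (fun k => k ≫ prod.snd) (hpb g).w
      simp only [Category.assoc, ξ, prod.lift_fst, prod.lift_snd, Limits.diag] at h1 h2
      rw [← h1, ← h2]
    let I : T.left.IdealSheafData := ⨆ g, (hΔ.snd (ξ g)).left.ker
    let TG : Over S := Over.mk (I.subschemeι ≫ T.hom)
    let snd : TG ⟶ T := Over.homMk I.subschemeι rfl
    -- `TG` maps to each of the closed subschemes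
    have hle : ∀ g, (hΔ.snd (ξ g)).left.ker ≤ I.subschemeι.ker := by
      intro g
      rw [Scheme.IdealSheafData.ker_subschemeι]
      exact le_iSup (fun g => (hΔ.snd (ξ g)).left.ker) g
    let l : ∀ g, TG ⟶ hΔ.pullback (ξ g) := fun g =>
      Over.homMk (IsClosedImmersion.lift (hΔ.snd (ξ g)).left I.subschemeι (hle g)) (by
        show _ ≫ (hΔ.pullback (ξ g)).hom = I.subschemeι ≫ T.hom
        rw [← Over.w (hΔ.snd (ξ g)), ← Category.assoc, IsClosedImmersion.lift_fac])
    have hl : ∀ g, l g ≫ hΔ.snd (ξ g) = snd := fun g => by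
      apply Over.OverMorphism.ext
      exact IsClosedImmersion.lift_fac _ _ _
    have hinv : ∀ g : G, ((yon S).map snd ≫ x) ≫ (ρ g).hom = (yon S).map snd ≫ x := by
      intro g
      calc ((yon S).map snd ≫ x) ≫ (ρ g).hom
          = (yon S).map (l g) ≫ ((yon S).map (hΔ.snd (ξ g)) ≫ x ≫ (ρ g).hom) := by
            rw [← hl g, Functor.map_comp]; simp only [Category.assoc]
        _ = (yon S).map (l g) ≫ ((yon S).map (hΔ.snd (ξ g)) ≫ x) := by rw [← heq g]
        _ = (yon S).map snd ≫ x := by rw [← hl g, Functor.map_comp, Category.assoc]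
    obtain ⟨fst, hfst, _⟩ := huniv _ _ hinv
    refine ⟨TG, fst, snd, ?_, (inferInstance : IsClosedImmersion I.subschemeι)⟩
    haveI : Mono ((yon S).map snd) := by
      haveI : Mono snd := by
        constructor
        intro W a b hab
        apply Over.OverMorphism.ext
        have := congrArg (fun k => k.left) hab
        simp only [Over.comp_left] at this
        exact (cancel_mono I.subschemeι).1 this
      infer_instance
    have hlift : ∀ c' : PullbackCone i x, ∃ L : c'.pt ⟶ (yon S).obj TG,
        L ≫ (yon S).map snd = c'.snd := by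
      intro c'
      refine AlgSpOpenImage.exists_lift_of_mono ((yon S).map snd) c'.snd (fun U s => ?_)
      obtain ⟨β, hβ⟩ := (yon S).map_surjective (s ≫ c'.snd)
      have hβinv : ∀ g : G, (s ≫ c'.snd) ≫ x = ((s ≫ c'.snd) ≫ x) ≫ (ρ g).hom := by
        intro g
        rw [Category.assoc, ← c'.condition, Category.assoc, Category.assoc, hi]
      have hker : ∀ g, (hΔ.snd (ξ g)).left.ker ≤ β.left.ker := by
        intro g
        have hw : ((s ≫ c'.snd) ≫ x) ≫ Limits.diag F = (s ≫ c'.snd) ≫ ξ g := by
          apply Limits.prod.hom_ext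
          · simp only [Category.assoc, ξ, prod.lift_fst, Limits.diag, Category.comp_id]
          · simp only [Category.assoc, ξ, prod.lift_snd, Limits.diag, Category.comp_id]
            have := hβinv g
            simp only [Category.assoc] at this
            exact this
        obtain ⟨k, hk⟩ := (yon S).map_surjective ((hpb g).lift _ _ hw)
        have hk2 : k ≫ hΔ.snd (ξ g) = β := by
          apply (yon S).map_injective
          rw [Functor.map_comp, hk, (hpb g).lift_snd, hβ]
        rw [← hk2, Over.comp_left]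
        exact Scheme.Hom.le_ker_comp _ _
      have hI : I.subschemeι.ker ≤ β.left.ker := by
        rw [Scheme.IdealSheafData.ker_subschemeι]
        exact iSup_le hker
      let t₀ : U ⟶ TG := Over.homMk (IsClosedImmersion.lift I.subschemeι β.left hI) (by
        show _ ≫ I.subschemeι ≫ T.hom = U.hom
        rw [← Category.assoc, IsClosedImmersion.lift_fac, Over.w β])
      have ht₀ : t₀ ≫ snd = β := by
        apply Over.OverMorphism.ext
        exact IsClosedImmersion.lift_fac _ _ _
      exact ⟨(yon S).map t₀, by rw [← Functor.map_comp, ht₀, hβ]⟩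
    choose L hL using hlift
    refine ⟨⟨hfst⟩, ⟨PullbackCone.IsLimit.mk _ L ?_ hL ?_⟩⟩
    · intro c'
      rw [← cancel_mono i, Category.assoc, hfst, ← Category.assoc, hL, c'.condition]
    · intro c' m _ h2
      rw [← cancel_mono ((yon S).map snd), h2, hL]
  exact ⟨RepBySp2.isAlgSpace_of_repBySp i (Representable.repBySp hci.rep) hF, hci⟩

end Groth.Agent.Helper5.FixPt
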