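import Mathlib
import Groth.Prelude.Def_FlatCA
import Groth.Agent.Helper5.FlatAss1
import Groth.Agent.Helper5.AdicUI1

set_option autoImplicit false
universe u
open TensorProduct

namespace Groth.Agent.Helper5.FlatAss

attribute [local instance] Algebra.TensorProduct.rightAlgebra

theorem s1200 {R S : Type u} [CommRing R] [CommRing S] [Algebra R S] [IsNoetherianRing R] [IsNoetherianRing S] (I : Ideal R)
    (N : Type u) [AddCommGroup N] [Module S N] [Module R N] [IsScalarTower R S N] [Module.Finite S N] [Module.Flat R N]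
    (h : ∀ (p : Ideal R) (q : Ideal S) [p.IsPrime] [q.IsPrime] [q.LiesOver p],
      FlatCA.fiberIdeal p q ∈ associatedPrimes (p.Fiber S) (FlatCA.fiberMod p S N) → I.map (algebraMap R S) ⊔ q ≠ ⊤) :
    FlatCA.UnivInj R (AdicCompletion.of I N) := by
  apply AdicUI.s1199 (R := R) (S := S) I N
  intro Q _ _ hQ q hq
  obtain ⟨p, hp, hqprime, hover, hass⟩ := exists_fiberIdeal_mem_associatedPrimes N Q hQ q hq
  exact h p q hass

end Groth.Agent.Helper5.FlatAss
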