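import Groth.Agent.Helper5.FlatFib1
import Mathlib

set_option autoImplicit false
set_option linter.style.haveILetI false
set_option linter.unusedSectionVars false
set_option linter.unusedVariables false
universe u
open CategoryTheory CategoryTheory.Limits AlgebraicGeometry Opposite

namespace Groth.Agent.Helper5.FlatBC

open Groth.Agent.Helper5.FlatSp Groth.Agent.Helper5.FlatFib Groth.Agent.Helper2.FibFlatDict

variable {X Y S X' Y' S' : Scheme.{u}}

/-- the map of fibres is a base change of the morphism -/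
theorem fiberMap_isPullback (f : X ⟶ Y) (g : Y ⟶ S) (s : S) :
    IsPullback ((f ≫ g).fiberι s) (MoreMor.fiberMap f g s) f (g.fiberι s) := by
  have t : IsPullback (g.fiberToSpecResidueField s) (g.fiberι s) (S.fromSpecResidueField s) g :=
    (IsPullback.of_hasPullback g (S.fromSpecResidueField s)).flip
  have hsnd : MoreMor.fiberMap f g s ≫ g.fiberToSpecResidueField s =
      (f ≫ g).fiberToSpecResidueField s := pullback.lift_snd _ _ _
  have s0 : IsPullback (MoreMor.fiberMap f g s ≫ g.fiberToSpecResidueField s) ((f ≫ g).fiberι s)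
      (S.fromSpecResidueField s) (f ≫ g) := by
    rw [hsnd]
    exact (IsPullback.of_hasPullback (f ≫ g) (S.fromSpecResidueField s)).flip
  exact (IsPullback.of_right s0 (fiberMap_fst f g s) t).flip

/-- the map of fibres induced by a base change -/
noncomputable def fibBC {g : Y ⟶ S} {p : S' ⟶ S} {pY : Y' ⟶ Y} {g' : Y' ⟶ S'}
    (hY : IsPullback pY g' g p) (s' : S') : g'.fiber s' ⟶ g.fiber (p s') :=
  pullback.map _ _ _ _ pY (Spec.map (p.residueFieldMap s')) p hY.w.symm (by simp)

theorem fibBC_fiberι {g : Y ⟶ S} {p : S' ⟶ S} {pY : Y' ⟶ Y} {g' : Y' ⟶ S'}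
    (hY : IsPullback pY g' g p) (s' : S') :
    fibBC hY s' ≫ g.fiberι (p s') = g'.fiberι s' ≫ pY :=
  pullback.lift_fst _ _ _

theorem fibBC_toSpec {g : Y ⟶ S} {p : S' ⟶ S} {pY : Y' ⟶ Y} {g' : Y' ⟶ S'}
    (hY : IsPullback pY g' g p) (s' : S') :
    fibBC hY s' ≫ g.fiberToSpecResidueField (p s') =
      g'.fiberToSpecResidueField s' ≫ Spec.map (p.residueFieldMap s') :=
  pullback.lift_snd _ _ _

theorem fibBC_isPullback {g : Y ⟶ S} {p : S' ⟶ S} {pY : Y' ⟶ Y} {g' : Y' ⟶ S'}
    (hY : IsPullback pY g' g p) (s' : S') :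
    IsPullback (fibBC hY s') (g'.fiberToSpecResidueField s') (g.fiberToSpecResidueField (p s'))
      (Spec.map (p.residueFieldMap s')) :=
  isPullback_fiberToSpecResidueField_of_isPullback hY s'

instance flat_fibBC {g : Y ⟶ S} {p : S' ⟶ S} {pY : Y' ⟶ Y} {g' : Y' ⟶ S'}
    (hY : IsPullback pY g' g p) (s' : S') : Flat (fibBC hY s') := by
  haveI : Flat (Spec.map (p.residueFieldMap s')) := by
    rw [HasRingHomProperty.Spec_iff (P := @Flat)]
    letI := (p.residueFieldMap s').hom.toAlgebra
    show Module.Flat _ _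
    infer_instance
  exact MorphismProperty.of_isPullback (P := @Flat) (fibBC_isPullback hY s').flip inferInstance

section main

variable (f : X ⟶ Y) (g : Y ⟶ S) (p : S' ⟶ S) (pY : Y' ⟶ Y) (g' : Y' ⟶ S')
  (hY : IsPullback pY g' g p) (pX : X' ⟶ X) (f' : X' ⟶ Y') (hX : IsPullback pX f' f pY)

/-- the map of fibres of the base change is a base change of the map of fibres -/
theorem fiberMap_baseChange_isPullback (s' : S') :
    IsPullback (fibBC (hX.paste_vert hY) s') (MoreMor.fiberMap f' g' s')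
      (MoreMor.fiberMap f g (p s')) (fibBC hY s') := by
  have hXY := hX.paste_vert hY
  have t := fiberMap_isPullback f g (p s')
  have t' := fiberMap_isPullback f' g' s'
  have hcomm : fibBC hXY s' ≫ MoreMor.fiberMap f g (p s') =
      MoreMor.fiberMap f' g' s' ≫ fibBC hY s' := by
    apply pullback.hom_ext
    · show (fibBC hXY s' ≫ MoreMor.fiberMap f g (p s')) ≫ g.fiberι (p s') =
        (MoreMor.fiberMap f' g' s' ≫ fibBC hY s') ≫ g.fiberι (p s')
      have l1 : (fibBC hXY s' ≫ MoreMor.fiberMap f g (p s')) ≫ g.fiberι (p s') =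
          (f' ≫ g').fiberι s' ≫ f' ≫ pY := by
        rw [Category.assoc, fiberMap_fst, ← Category.assoc, fibBC_fiberι, Category.assoc, hX.w]
      have l2 : (MoreMor.fiberMap f' g' s' ≫ fibBC hY s') ≫ g.fiberι (p s') =
          (f' ≫ g').fiberι s' ≫ f' ≫ pY := by
        rw [Category.assoc, fibBC_fiberι, ← Category.assoc, fiberMap_fst, Category.assoc]
      rw [l1, l2]
    · show (fibBC hXY s' ≫ MoreMor.fiberMap f g (p s')) ≫ g.fiberToSpecResidueField (p s') =
        (MoreMor.fiberMap f' g' s' ≫ fibBC hY s') ≫ g.fiberToSpecResidueField (p s')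
      have e1 : MoreMor.fiberMap f g (p s') ≫ g.fiberToSpecResidueField (p s') =
          (f ≫ g).fiberToSpecResidueField (p s') := pullback.lift_snd _ _ _
      have e2 : MoreMor.fiberMap f' g' s' ≫ g'.fiberToSpecResidueField s' =
          (f' ≫ g').fiberToSpecResidueField s' := pullback.lift_snd _ _ _
      rw [Category.assoc, e1, fibBC_toSpec, Category.assoc, fibBC_toSpec, ← Category.assoc, e2]
  refine IsPullback.of_right ?_ hcomm t
  rw [fibBC_fiberι, fibBC_fiberι]
  exact t'.paste_horiz hX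

include hY hX in
/-- flatness at a point descends from a base change, when the source is flat over the base and
the fibrewise criterion is available -/
theorem flatAt_of_baseChange (Hiff : FibIff f g) [Flat (f ≫ g)] (x' : X')
    (h : FlatAt f' x') : FlatAt f (pX x') := by
  have hXY := hX.paste_vert hY
  obtain ⟨s', hs'⟩ : ∃ s' : S', s' = (f' ≫ g') x' := ⟨_, rfl⟩
  obtain ⟨ξ', hξ'⟩ : ∃ ξ' : (f' ≫ g').fiber s', (f' ≫ g').fiberι s' ξ' = x' := by
    subst hs'
    exact ⟨(f' ≫ g').asFiber x', Scheme.Hom.fiberι_asFiber _ _⟩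
  have h1 : FlatAt (MoreMor.fiberMap f' g' s') ξ' := by
    refine Groth.Agent.Helper5.CMBC.flat_stalkMap_baseChange f' (MoreMor.fiberMap f' g' s')
      ((f' ≫ g').fiberι s') (g'.fiberι s') (fiberMap_isPullback f' g' s') ξ' ?_
    rw [hξ']
    exact h
  have sqQ := fiberMap_baseChange_isPullback f g p pY g' hY pX f' hX s'
  have h2 : FlatAt (MoreMor.fiberMap f g (p s')) (fibBC hXY s' ξ') :=
    Groth.Agent.Helper5.CMBC.flat_stalkMap_of_baseChange (MoreMor.fiberMap f g (p s'))
      (MoreMor.fiberMap f' g' s') (fibBC hXY s') (fibBC hY s') sqQ ξ'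
      (Flat.stalkMap (fibBC hY s') _) h1
  have key := Hiff (p s') (fibBC hXY s' ξ')
  have h3 : FlatAt f ((f ≫ g).fiberι (p s') (fibBC hXY s' ξ')) :=
    (key.1 ⟨Flat.stalkMap (f ≫ g) _, h2⟩).2
  have hpt : (f ≫ g).fiberι (p s') (fibBC hXY s' ξ') = pX x' := by
    rw [← Scheme.Hom.comp_apply, fibBC_fiberι, Scheme.Hom.comp_apply, hξ']
  rw [hpt] at h3
  exact h3

include hY hX in
/-- the flat locus commutes with base change -/
theorem flatAt_baseChange_iff (Hiff : FibIff f g) [Flat (f ≫ g)] (x' : X') :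
    FlatAt f' x' ↔ FlatAt f (pX x') :=
  ⟨flatAt_of_baseChange f g p pY g' hY pX f' hX Hiff x',
    fun h => Groth.Agent.Helper5.CMBC.flat_stalkMap_baseChange f f' pX pY hX x' h⟩

end main

end Groth.Agent.Helper5.FlatBC
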