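import Groth.Agent.Helper5.FlatFib1
import Groth.Agent.Helper5.GorSp6
import Mathlib

set_option autoImplicit false
set_option linter.style.haveILetI false
set_option linter.unusedSectionVars false
set_option linter.unusedVariables false
universe u
open CategoryTheory CategoryTheory.Limits AlgebraicGeometry Opposite

namespace Groth.Agent.Helper5.FlatFib

open AlgSp Groth.Agent.Helper4 Groth.Agent.Helper5.GorSp Groth.Agent.Helper5.FlatSp

variable {S : Scheme.{u}} {X Y : Sp S}

/-- the residue field point of a scheme over `S`, as an object over `S` -/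
noncomputable abbrev resOver (V : Over S) (v : ↥V.left) : Over S :=
  Over.mk (V.left.fromSpecResidueField v ≫ V.hom)

noncomputable abbrev resι (V : Over S) (v : ↥V.left) : resOver V v ⟶ V :=
  Over.homMk (V.left.fromSpecResidueField v) rfl

/-- the scheme fibre of a morphism of schemes over `S`, as an object over `S` -/
noncomputable abbrev fibOver {U V : Over S} (h : U ⟶ V) (v : ↥V.left) : Over S :=
  Over.mk (h.left.fiberι v ≫ U.hom)

noncomputable abbrev fibι {U V : Over S} (h : U ⟶ V) (v : ↥V.left) : fibOver h v ⟶ U :=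
  Over.homMk (h.left.fiberι v) rfl

noncomputable def fibRes {U V : Over S} (h : U ⟶ V) (v : ↥V.left) : fibOver h v ⟶ resOver V v :=
  Over.homMk (h.left.fiberToSpecResidueField v) (by
    show h.left.fiberToSpecResidueField v ≫ V.left.fromSpecResidueField v ≫ V.hom =
      h.left.fiberι v ≫ U.hom
    rw [← Category.assoc, ← h.left.fiber_fac v, Category.assoc, Over.w h])

theorem fib_comm {U V : Over S} (h : U ⟶ V) (v : ↥V.left) :
    fibι h v ≫ h = fibRes h v ≫ resι V v := by
  ext
  exact h.left.fiber_fac v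

theorem fib_isPullback {U V : Over S} (h : U ⟶ V) (v : ↥V.left) :
    IsPullback (fibι h v) (fibRes h v) h (resι V v) := by
  apply IsPullback.of_map (Over.forget S) (fib_comm h v)
  exact IsPullback.of_hasPullback h.left (V.left.fromSpecResidueField v)

set_option backward.isDefEq.respectTransparency.types false in
/-- the lift of a chart diagram to the fibre product is étale -/
theorem repWith_etale_lift (hX : IsAlgSpace X) (hY : IsAlgSpace Y) (f : X ⟶ Y) {U V : Over S}
    (a : (yon S).obj U ⟶ X) (b : (yon S).obj V ⟶ Y) (h : U ⟶ V) (ha : RepWith @Etale a)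
    (hb : RepWith @Etale b) (comm : a ≫ f = (yon S).map h ≫ b) :
    RepWith @Etale (pullback.lift a ((yon S).map h) comm) := by
  have sqP : IsPullback (pullback.fst f b) (pullback.snd f b) f b := IsPullback.of_hasPullback _ _
  have hPa : IsAlgSpace (pullback f b) :=
    AlgSpPB.isAlgSpace_of_isPullback hY.diag hX (IsAlgSpace.yon_obj V) f b _ _ sqP
  have hq₁ : RepWith @Etale (pullback.fst f b) :=
    MorphismProperty.of_isPullback (P := RepWith @Etale) sqP.flip hb
  refine Groth.Agent.Helper5.FpqcF.repWith_etale_of_comp hPa _ (pullback.fst f b) hq₁ ?_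
  rwa [pullback.lift_fst]

set_option backward.isDefEq.respectTransparency.types false in
/-- the scheme fibre of the top arrow of a chart diagram is a chart of the fibre of the morphism,
with its defining equations -/
theorem exists_fiber_chart' (f : X ⟶ Y) {U V : Over S} (a : (yon S).obj U ⟶ X)
    (b : (yon S).obj V ⟶ Y) (h : U ⟶ V) (comm : a ≫ f = (yon S).map h ≫ b) (v : ↥V.left)
    (Xv : Sp S) (av : Xv ⟶ X) (c : Xv ⟶ (yon S).obj (resOver V v))
    (sqv : IsPullback av c f ((yon S).map (resι V v) ≫ b)) :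
    ∃ m : (yon S).obj (fibOver h v) ⟶ Xv,
      m ≫ av = (yon S).map (fibι h v) ≫ a ∧ m ≫ c = (yon S).map (fibRes h v) ∧
      ∀ (Q : MorphismProperty Scheme.{u}) [Q.IsStableUnderBaseChange],
        RepWith Q (pullback.lift a ((yon S).map h) comm) → RepWith Q m := by
  have sqP : IsPullback (pullback.fst f b) (pullback.snd f b) f b := IsPullback.of_hasPullback _ _
  obtain ⟨n, hn⟩ : ∃ n : (yon S).obj U ⟶ pullback f b, n = pullback.lift a ((yon S).map h) comm :=
    ⟨_, rfl⟩
  rw [← hn]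
  have hn1 : n ≫ pullback.fst f b = a := by rw [hn]; exact pullback.lift_fst _ _ _
  have hn2 : n ≫ pullback.snd f b = (yon S).map h := by rw [hn]; exact pullback.lift_snd _ _ _
  obtain ⟨r, hr⟩ : ∃ r : Xv ⟶ pullback f b,
      r = pullback.lift av (c ≫ (yon S).map (resι V v))
        (by rw [Category.assoc]; exact sqv.w) := ⟨_, rfl⟩
  have hr1 : r ≫ pullback.fst f b = av := by
    rw [hr]; exact pullback.lift_fst _ _ _
  have hr2 : r ≫ pullback.snd f b = c ≫ (yon S).map (resι V v) := by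
    rw [hr]; exact pullback.lift_snd _ _ _
  have sqA : IsPullback r c (pullback.snd f b) ((yon S).map (resι V v)) := by
    refine IsPullback.of_right ?_ hr2 sqP
    rw [hr1]
    exact sqv
  have hφ := fib_comm h v
  have sqC : IsPullback ((yon S).map (fibι h v)) ((yon S).map (fibRes h v)) ((yon S).map h)
      ((yon S).map (resι V v)) := (fib_isPullback h v).map (yon S)
  have hw : ((yon S).map (fibι h v) ≫ a) ≫ f =
      (yon S).map (fibRes h v) ≫ (yon S).map (resι V v) ≫ b := by
    rw [Category.assoc, comm, ← Category.assoc, ← Functor.map_comp, hφ, Functor.map_comp,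
      Category.assoc]
  obtain ⟨m, hm⟩ : ∃ m : (yon S).obj (fibOver h v) ⟶ Xv,
      m = sqv.lift ((yon S).map (fibι h v) ≫ a) ((yon S).map (fibRes h v)) hw := ⟨_, rfl⟩
  have hm1 : m ≫ av = (yon S).map (fibι h v) ≫ a := by
    rw [hm]; exact sqv.lift_fst _ _ _
  have hm2 : m ≫ c = (yon S).map (fibRes h v) := by
    rw [hm]; exact sqv.lift_snd _ _ _
  have hmr : m ≫ r = (yon S).map (fibι h v) ≫ n := by
    apply pullback.hom_ext
    · rw [Category.assoc, hr1, hm1, Category.assoc, hn1]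
    · rw [Category.assoc, hr2, ← Category.assoc, hm2, Category.assoc, hn2, ← Functor.map_comp,
        ← Functor.map_comp, hφ]
  have sqB : IsPullback m ((yon S).map (fibι h v)) r n := by
    refine IsPullback.of_right ?_ hmr sqA.flip
    rw [hm2, hn2]
    exact sqC.flip
  refine ⟨m, hm1, hm2, fun Q _ hQ => ?_⟩
  have i1 := repWith_isStableUnderBaseChange (S := S) Q
  exact MorphismProperty.of_isPullback (P := RepWith Q) sqB.flip hQ

variable {Z : Sp S}

/-- the hypothesis "the base change of `f` to the fibres over every field point of `Z` is flat" -/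
def FlatFibres (f : X ⟶ Y) (h : Y ⟶ Z) : Prop :=
  ∀ (K : Type u) [Field K] (sK : Spec (CommRingCat.of K) ⟶ S)
    (z : (yon S).obj (Over.mk sK) ⟶ Z) (Xz Yz : Sp S)
    (pX : Xz ⟶ X) (qX : Xz ⟶ (yon S).obj (Over.mk sK))
    (pY : Yz ⟶ Y) (qY : Yz ⟶ (yon S).obj (Over.mk sK)) (fz : Xz ⟶ Yz),
    IsPullback pX qX (f ≫ h) z → IsPullback pY qY h z → fz ≫ pY = pX ≫ f → fz ≫ qY = qX →
    LocP @Flat fz

/-- the morphism of scheme fibres as a morphism over `S` -/
noncomputable def fibMap {U V W : Over S} (s : U ⟶ V) (t : V ⟶ W) (w : ↥W.left) :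
    fibOver (s ≫ t) w ⟶ fibOver t w :=
  Over.homMk (MoreMor.fiberMap s.left t.left w) (by
    show MoreMor.fiberMap s.left t.left w ≫ t.left.fiberι w ≫ V.hom =
      (s.left ≫ t.left).fiberι w ≫ U.hom
    rw [← Category.assoc, Groth.Agent.Helper2.FibFlatDict.fiberMap_fst, Category.assoc, Over.w s])

theorem fibMap_fibι {U V W : Over S} (s : U ⟶ V) (t : V ⟶ W) (w : ↥W.left) :
    fibMap s t w ≫ fibι t w = fibι (s ≫ t) w ≫ s := by
  ext
  exact Groth.Agent.Helper2.FibFlatDict.fiberMap_fst s.left t.left w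

theorem fibMap_fibRes {U V W : Over S} (s : U ⟶ V) (t : V ⟶ W) (w : ↥W.left) :
    fibMap s t w ≫ fibRes t w = fibRes (s ≫ t) w := by
  ext
  exact pullback.lift_snd _ _ _

set_option backward.isDefEq.respectTransparency.types false in
/-- the maps of scheme fibres of a chart triple are flat when the maps of sheaf fibres are -/
theorem flat_fiberMap (hX : IsAlgSpace X) (hY : IsAlgSpace Y) (hZ : IsAlgSpace Z)
    (f : X ⟶ Y) (h : Y ⟶ Z) (hfib : FlatFibres f h) {U V W : Over S}
    (a : (yon S).obj U ⟶ X) (b : (yon S).obj V ⟶ Y) (c : (yon S).obj W ⟶ Z)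
    (s : U ⟶ V) (t : V ⟶ W) (ha : RepWith @Etale a) (hb : RepWith @Etale b)
    (hc : RepWith @Etale c) (c1 : a ≫ f = (yon S).map s ≫ b) (c2 : b ≫ h = (yon S).map t ≫ c)
    (w : ↥W.left) : Flat (MoreMor.fiberMap s.left t.left w) := by
  have c3 : a ≫ (f ≫ h) = (yon S).map (s ≫ t) ≫ c := by
    rw [← Category.assoc, c1, Category.assoc, c2, Functor.map_comp, Category.assoc]
  obtain ⟨z, hz⟩ : ∃ z : (yon S).obj (resOver W w) ⟶ Z, z = (yon S).map (resι W w) ≫ c :=
    ⟨_, rfl⟩
  have sqX : IsPullback (pullback.fst (f ≫ h) z) (pullback.snd (f ≫ h) z) (f ≫ h) z :=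
    IsPullback.of_hasPullback _ _
  have sqY : IsPullback (pullback.fst h z) (pullback.snd h z) h z :=
    IsPullback.of_hasPullback _ _
  obtain ⟨fz, hfz⟩ : ∃ fz : pullback (f ≫ h) z ⟶ pullback h z,
      fz = pullback.lift (pullback.fst (f ≫ h) z ≫ f) (pullback.snd (f ≫ h) z)
        (by rw [Category.assoc]; exact pullback.condition) := ⟨_, rfl⟩
  have hfz1 : fz ≫ pullback.fst h z = pullback.fst (f ≫ h) z ≫ f := by
    rw [hfz]; exact pullback.lift_fst _ _ _
  have hfz2 : fz ≫ pullback.snd h z = pullback.snd (f ≫ h) z := by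
    rw [hfz]; exact pullback.lift_snd _ _ _
  have hflat : LocP @Flat fz :=
    hfib (↥(W.left.residueField w)) (W.left.fromSpecResidueField w ≫ W.hom) z _ _ _ _ _ _ fz
      sqX sqY hfz1 hfz2
  subst hz
  obtain ⟨mU, hmU1, hmU2, hmUQ⟩ := exists_fiber_chart' (f ≫ h) a c (s ≫ t) c3 w _ _ _ sqX
  obtain ⟨mV, hmV1, hmV2, hmVQ⟩ := exists_fiber_chart' h b c t c2 w _ _ _ sqY
  have hmUe : RepWith @Etale mU := hmUQ _ (repWith_etale_lift hX hZ (f ≫ h) a c (s ≫ t) ha hc c3)
  have hmVe : RepWith @Etale mV := hmVQ _ (repWith_etale_lift hY hZ h b c t hb hc c2)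
  have hcomm : mU ≫ fz = (yon S).map (fibMap s t w) ≫ mV := by
    apply sqY.hom_ext
    · rw [Category.assoc, hfz1, ← Category.assoc, hmU1, Category.assoc, c1, Category.assoc, hmV1,
        ← Category.assoc, ← Category.assoc, ← Functor.map_comp, ← Functor.map_comp, fibMap_fibι]
    · rw [Category.assoc, hfz2, hmU2, Category.assoc, hmV2, ← Functor.map_comp, fibMap_fibRes]
  exact hflat mU mV (fibMap s t w) hmUe hmVe hcomm

set_option backward.isDefEq.respectTransparency.types false in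
/-- the fibrewise flatness criterion for sheaves, given the scheme-level criterion on charts -/
theorem flat_of_flat_fibres_core (hX : IsAlgSpace X) (hY : IsAlgSpace Y) (hZ : IsAlgSpace Z)
    (f : X ⟶ Y) (h : Y ⟶ Z) (hfl : LocP @Flat (f ≫ h)) (hfib : FlatFibres f h)
    (Hsch : ∀ {U V W : Over S} (a : (yon S).obj U ⟶ X) (b : (yon S).obj V ⟶ Y)
      (c : (yon S).obj W ⟶ Z) (s : U ⟶ V) (t : V ⟶ W), RepWith @Etale a → RepWith @Etale b →
      RepWith @Etale c → a ≫ f = (yon S).map s ≫ b → b ≫ h = (yon S).map t ≫ c →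
      FibIff s.left t.left) :
    LocP @Flat f ∧ (IsSurjectiveMor f → LocP @Flat h) := by
  have main : ∀ {U V W : Over S} (a : (yon S).obj U ⟶ X) (b : (yon S).obj V ⟶ Y)
      (c : (yon S).obj W ⟶ Z) (s : U ⟶ V) (t : V ⟶ W), RepWith @Etale a → RepWith @Etale b →
      RepWith @Etale c → a ≫ f = (yon S).map s ≫ b → b ≫ h = (yon S).map t ≫ c →
      ∀ u : ↥U.left, FlatAt t.left (s.left u) ∧ FlatAt s.left u := by
    intro U V W a b c s t ha hb hc c1 c2 u
    have c3 : a ≫ (f ≫ h) = (yon S).map (s ≫ t) ≫ c := by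
      rw [← Category.assoc, c1, Category.assoc, c2, Functor.map_comp, Category.assoc]
    haveI : Flat (s.left ≫ t.left) := hfl a c (s ≫ t) ha hc c3
    exact flat_of_flat_fibres_sch s.left t.left (Hsch a b c s t ha hb hc c1 c2)
      (fun w => flat_fiberMap hX hY hZ f h hfib a b c s t ha hb hc c1 c2 w) u
  refine ⟨(locP_flat_iff_forall f).2 fun x => ?_, fun hsurj => (locP_flat_iff_forall h).2 fun y => ?_⟩
  · obtain ⟨U, V, W, a, b, c, s, t, u, ha, hb, hc, c1, c2, hu⟩ := exists_chart_comp hX hY hZ f h x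
    exact isFlatAtMor_of_chart f x a b s ha hb c1 u hu (main a b c s t ha hb hc c1 c2 u).2
  · obtain ⟨x, rfl⟩ := hsurj y
    obtain ⟨U, V, W, a, b, c, s, t, u, ha, hb, hc, c1, c2, hu⟩ := exists_chart_comp hX hY hZ f h x
    have hpt : Points.ofPt b (s.left u) = Points.map f x := by
      rw [← hu, Points.map_ofPt, c1, Groth.Agent.Helper4.AlgSpPtsDesc.ofPt_yon_map_comp]
    exact isFlatAtMor_of_chart h _ b c t hb hc c2 (s.left u) hpt
      (main a b c s t ha hb hc c1 c2 u).1

theorem s10603 {X Y Z : AlgSp.Space S} (f : X ⟶ Y) (h : Y ⟶ Z)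
    (hfp : AlgSp.LocP @LocallyOfFinitePresentation (f ≫ h).hom)
    (hfl : AlgSp.LocP @Flat (f ≫ h).hom)
    (hft : AlgSp.LocP @LocallyOfFiniteType h.hom)
    (hfib : ∀ (K : Type u) [Field K] (sK : Spec (CommRingCat.of K) ⟶ S)
      (z : (AlgSp.yon S).obj (Over.mk sK) ⟶ Z.obj) (Xz Yz : AlgSp.Sp S)
      (pX : Xz ⟶ X.obj) (qX : Xz ⟶ (AlgSp.yon S).obj (Over.mk sK))
      (pY : Yz ⟶ Y.obj) (qY : Yz ⟶ (AlgSp.yon S).obj (Over.mk sK)) (fz : Xz ⟶ Yz),
      IsPullback pX qX (f ≫ h).hom z → IsPullback pY qY h.hom z → fz ≫ pY = pX ≫ f.hom →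
      fz ≫ qY = qX → AlgSp.LocP @Flat fz) :
    AlgSp.LocP @Flat f.hom ∧ (AlgSp.IsSurjectiveMor f.hom → AlgSp.LocP @Flat h.hom) := by
  refine flat_of_flat_fibres_core X.property Y.property Z.property f.hom h.hom hfl hfib ?_
  intro U V W a b c s t ha hb hc c1 c2
  have c3 : a ≫ (f.hom ≫ h.hom) = (yon S).map (s ≫ t) ≫ c := by
    rw [← Category.assoc, c1, Category.assoc, c2, Functor.map_comp, Category.assoc]
  haveI : LocallyOfFinitePresentation (s.left ≫ t.left) := hfp a c (s ≫ t) ha hc c3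
  haveI : LocallyOfFiniteType t.left := hft b c t hb hc c2
  exact fibIff_of_lfp s.left t.left

theorem s10604 {X Y Z : AlgSp.Space S} (f : X ⟶ Y) (h : Y ⟶ Z)
    (hX : AlgSp.IsLocNoethSp X.obj) (hYn : AlgSp.IsLocNoethSp Y.obj)
    (hZ : AlgSp.IsLocNoethSp Z.obj)
    (hfl : AlgSp.LocP @Flat (f ≫ h).hom)
    (hfib : ∀ (K : Type u) [Field K] (sK : Spec (CommRingCat.of K) ⟶ S)
      (z : (AlgSp.yon S).obj (Over.mk sK) ⟶ Z.obj) (Xz Yz : AlgSp.Sp S)
      (pX : Xz ⟶ X.obj) (qX : Xz ⟶ (AlgSp.yon S).obj (Over.mk sK))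
      (pY : Yz ⟶ Y.obj) (qY : Yz ⟶ (AlgSp.yon S).obj (Over.mk sK)) (fz : Xz ⟶ Yz),
      IsPullback pX qX (f ≫ h).hom z → IsPullback pY qY h.hom z → fz ≫ pY = pX ≫ f.hom →
      fz ≫ qY = qX → AlgSp.LocP @Flat fz) :
    AlgSp.LocP @Flat f.hom ∧ (AlgSp.IsSurjectiveMor f.hom → AlgSp.LocP @Flat h.hom) := by
  refine flat_of_flat_fibres_core X.property Y.property Z.property f.hom h.hom hfl hfib ?_
  intro U V W a b c s t ha hb hc c1 c2
  haveI : IsLocallyNoetherian U.left :=
    Groth.Agent.Helper5.NoethChart.isLocallyNoetherian_of_etale_chart hX a ha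
  haveI : IsLocallyNoetherian V.left :=
    Groth.Agent.Helper5.NoethChart.isLocallyNoetherian_of_etale_chart hYn b hb
  exact fibIff_of_noeth s.left t.left

end Groth.Agent.Helper5.FlatFib
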