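import Groth.Agent.Helper5.GorSp6
import Groth.Agent.Helper3.GorSch1
import Groth.Agent.S0538
import Groth.Agent.S0539
import Groth.Agent.S0540
import Groth.Agent.S0342
import Mathlib

set_option autoImplicit false
set_option linter.style.haveILetI false
set_option linter.unusedSectionVars false
set_option linter.unusedVariables false
universe u
open CategoryTheory CategoryTheory.Limits AlgebraicGeometry Opposite

namespace Groth.Agent.Helper5.GorSp

open AlgSp Groth.Agent.Helper4

variable {S : Scheme.{u}} {X Y : Sp S}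

/-- a strict henselization of a Gorenstein local ring is Gorenstein -/
theorem gor_strictHenselization (A : Type u) [CommRing A] [IsLocalRing A]
    (hA : LocCoh.IsGorensteinLocalRing A) (R : Type u) [CommRing R] [IsLocalRing R] [Algebra A R]
    [IsLocalHom (algebraMap A R)] [Hensel.IsStrictHenselization A R] :
    LocCoh.IsGorensteinLocalRing R := by
  haveI : IsNoetherianRing A := hA.toIsNoetherian
  haveI : IsNoetherianRing R := (Groth.Agent.S0540.result A R).1 inferInstance
  haveI : Module.FaithfullyFlat A R := Groth.Agent.S0539.result A R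
  have hm := Groth.Agent.S0538.result A R
  rw [Groth.Agent.S0344.result A R]
  refine ⟨hA, ?_⟩
  let e : (R ⧸ (IsLocalRing.maximalIdeal A).map (algebraMap A R)) ≃+* IsLocalRing.ResidueField R :=
    Ideal.quotEquivOfEq hm
  haveI : IsRegularLocalRing (IsLocalRing.ResidueField R) := inferInstance
  exact Groth.Agent.Helper7.SegGor.gorLocal_of_ringEquiv e.symm
    (Groth.Agent.S0342.result (IsLocalRing.ResidueField R))

set_option backward.isDefEq.respectTransparency.types false in
/-- every scheme étale over an étale-locally Gorenstein sheaf is a Gorenstein scheme -/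
theorem isGorenstein_of_etale_chart (hX : EtaleLocally Dual3.IsGorenstein X) {U : Over S}
    (a : (yon S).obj U ⟶ X) (ha : RepWith @Etale a) : Dual3.IsGorenstein U.left := by
  obtain ⟨W, p, hpe, hps, hWN, hWG⟩ := hX
  have hUN : IsLocallyNoetherian U.left :=
    Groth.Agent.Helper5.NoethChart.isLocallyNoetherian_of_etale_chart ⟨W, p, hpe, hps, hWN⟩ a ha
  refine ⟨hUN, fun u => ?_⟩
  have hpr := hpe.rep
  have sqT : IsPullback (hpr.fst a) ((yon S).map (hpr.snd a)) p a := hpr.isPullback a
  obtain ⟨t₁, ht₁⟩ := (yon S).map_surjective (hpr.fst a)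
  rw [← ht₁] at sqT
  have ht₂e : Etale (hpr.snd a).left := hpe.property _ _ _ sqT
  have ht₂s : Surjective (hpr.snd a).left := hps.property _ _ _ sqT
  have ht₁e : Etale t₁.left := ha.property _ _ _ sqT.flip
  generalize hpr.snd a = t₂ at sqT ht₂e ht₂s
  haveI := hWN
  obtain ⟨t, ht⟩ := ht₂s.surj u
  have g1 : LocCoh.IsGorensteinLocalRing ((hpr.pullback a).left.presheaf.stalk t) :=
    (gor_stalk_etale_iff t₁.left t).2 (hWG _)
  have g2 := (@gor_stalk_etale_iff _ _ t₂.left ht₂e hUN t).1 g1
  rw [ht] at g2
  exact g2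

set_option backward.isDefEq.respectTransparency.types false in
/-- a chart diagram over a given chart of the target through given compatible points -/
theorem exists_chart_over_pt (hX : IsAlgSpace X) (f : X ⟶ Y) {V : Over S}
    (b : (yon S).obj V ⟶ Y) (hbe : RepWith @Etale b) (x : Points X) (v : ↥V.left)
    (hv : Points.ofPt b v = Points.map f x) :
    ∃ (U : Over S) (a : (yon S).obj U ⟶ X) (h : U ⟶ V) (u : ↥U.left),
      RepWith @Etale a ∧ a ≫ f = (yon S).map h ≫ b ∧ Points.ofPt a u = x ∧ h.left u = v := by
  obtain ⟨U, a, h, comm, hae, hne, hns, -⟩ := exists_chart_over hX f b hbe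
  have sqP : IsPullback (pullback.fst f b) (pullback.snd f b) f b := IsPullback.of_hasPullback _ _
  have hv' : Points.map f x = Points.map b (Points.schemeHomeo V v) := by
    rw [← hv]; exact Points.ofPt_eq_map_ofScheme b v
  obtain ⟨q, hq1, hq2⟩ := Groth.Agent.Helper4.AlgSpPtsDesc.exists_point_of_isPullback sqP x _ hv'
  obtain ⟨w, hw⟩ := Groth.Agent.Helper4.AlgSpPts.isSurjectiveMor_of_repWith _ hns q
  obtain ⟨u, rfl⟩ := (Points.schemeHomeo U).surjective w
  refine ⟨U, a, h, u, hae, comm, ?_, ?_⟩
  · rw [Points.ofPt_eq_map_ofScheme, ← hq1, ← hw, ← Points.map_comp, pullback.lift_fst]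
    rfl
  · apply (Points.schemeHomeo V).injective
    rw [← Points.map_yon_map_apply, ← hq2, ← hw, ← Points.map_comp, pullback.lift_snd]

set_option backward.isDefEq.respectTransparency.types false in
theorem s10691 {X Y : AlgSp.Space S} (f : X ⟶ Y) (hf : AlgSp.LocP @Flat f.hom)
    (hX1 : AlgSp.IsLocNoethSp X.obj) (hY1 : AlgSp.IsLocNoethSp Y.obj)
    (hX2 : AlgSp.EtaleLocally Dual3.IsGorenstein X.obj) :
    (∀ x : AlgSp.Points X.obj, AlgSp.LocPAt (fun h u => Dual3.IsGorensteinAt h u) f.hom x) ∧
      ∀ (x : AlgSp.Points X.obj) (V : Over S) (b : (AlgSp.yon S).obj V ⟶ Y.obj),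
        AlgSp.RepWith @Etale b →
        ∀ (v : ↥V.left), AlgSp.Points.ofPt b v = AlgSp.Points.map f.hom x →
          ∀ (R : Type u) [CommRing R] [IsLocalRing R] [Algebra ↥(V.left.presheaf.stalk v) R]
            [IsLocalHom (algebraMap ↥(V.left.presheaf.stalk v) R)]
            [Hensel.IsStrictHenselization ↥(V.left.presheaf.stalk v) R],
            LocCoh.IsGorensteinLocalRing R := by
  have key : ∀ {U V : Over S} (a : (yon S).obj U ⟶ X.obj) (b : (yon S).obj V ⟶ Y.obj) (h : U ⟶ V),
      RepWith @Etale a → RepWith @Etale b → a ≫ f.hom = (yon S).map h ≫ b →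
      Dual3.IsGorensteinMor h.left ∧
        ∀ u : ↥U.left, LocCoh.IsGorensteinLocalRing (V.left.presheaf.stalk (h.left u)) := by
    intro U V a b h ha hb comm
    haveI : IsLocallyNoetherian V.left :=
      Groth.Agent.Helper5.NoethChart.isLocallyNoetherian_of_etale_chart hY1 b hb
    haveI : Flat h.left := hf a b h ha hb comm
    exact Groth.Agent.Helper3.GorSch1.s3624 U.left V.left h.left
      (isGorenstein_of_etale_chart hX2 a ha)
  refine ⟨?_, ?_⟩
  · intro x U V a b h u ha hb comm hu
    exact (key a b h ha hb comm).1 u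
  · intro x V b hb v hv R _ _ _ _ _
    obtain ⟨U, a, h, u, hae, comm, hu, huv⟩ := exists_chart_over_pt X.property f.hom b hb x v hv
    have hA : LocCoh.IsGorensteinLocalRing (V.left.presheaf.stalk v) := by
      have := (key a b h hae hb comm).2 u
      rwa [huv] at this
    exact gor_strictHenselization _ hA R

end Groth.Agent.Helper5.GorSp
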