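import Groth.Agent.Helper5.FlatBC1
import Groth.Agent.Helper5.FlatFib2
import Groth.Agent.Helper5.GorSp7
import Mathlib

set_option autoImplicit false
set_option linter.style.haveILetI false
set_option linter.unusedSectionVars false
set_option linter.unusedVariables false
universe u
open CategoryTheory CategoryTheory.Limits AlgebraicGeometry Opposite

namespace Groth.Agent.Helper5.FlatBC

open AlgSp Groth.Agent.Helper4 Groth.Agent.Helper5.GorSp Groth.Agent.Helper5.FlatSp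
  Groth.Agent.Helper5.FlatFib

variable {S : Scheme.{u}} {X Y X' Y' : Sp S}

set_option backward.isDefEq.respectTransparency.types false in
/-- a chart of a morphism over a given étale surjective chart of the target, with étale
surjective source chart -/
theorem exists_chart_surj (hY' : IsAlgSpace Y') (g : Y' ⟶ Y) {V : Over S}
    (b : (yon S).obj V ⟶ Y) (hbe : RepWith @Etale b) (hbs : RepWith @Surjective b) :
    ∃ (V' : Over S) (b' : (yon S).obj V' ⟶ Y') (g₀ : V' ⟶ V),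
      RepWith @Etale b' ∧ RepWith @Surjective b' ∧ b' ≫ g = (yon S).map g₀ ≫ b := by
  obtain ⟨V'₀, b'₀, hb'₀e, hb'₀s⟩ := hY'.atlas
  have hbr := hbe.rep
  have sqV : IsPullback (hbr.fst (b'₀ ≫ g)) ((yon S).map (hbr.snd (b'₀ ≫ g))) b (b'₀ ≫ g) :=
    hbr.isPullback _
  obtain ⟨g₀, hg₀⟩ := (yon S).map_surjective (hbr.fst (b'₀ ≫ g))
  rw [← hg₀] at sqV
  have hee : Etale (hbr.snd (b'₀ ≫ g)).left := hbe.property _ _ _ sqV
  have hes : Surjective (hbr.snd (b'₀ ≫ g)).left := hbs.property _ _ _ sqV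
  generalize hbr.snd (b'₀ ≫ g) = e at sqV hee hes
  refine ⟨_, (yon S).map e ≫ b'₀, g₀, repWith_etale_yon_comp e hee b'₀ hb'₀e,
    Groth.Agent.Helper4.AlgSpSrc.repWith_comp _ ((repWith_yon_map_iff _ _).2 hes) hb'₀s, ?_⟩
  rw [Category.assoc]; exact sqV.w.symm

set_option backward.isDefEq.respectTransparency.types false in
/-- a cube of chart diagrams over a pullback square, over a given chart of the bottom arrow -/
theorem exists_cube_over (hX : IsAlgSpace X)
    {f : X ⟶ Y} {g : Y' ⟶ Y} {g' : X' ⟶ X} {f' : X' ⟶ Y'}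
    (hsq : IsPullback g' f' f g) {V V' : Over S} (b : (yon S).obj V ⟶ Y)
    (b' : (yon S).obj V' ⟶ Y') (g₀ : V' ⟶ V) (hbe : RepWith @Etale b)
    (hb'e : RepWith @Etale b') (hb's : RepWith @Surjective b')
    (comm' : b' ≫ g = (yon S).map g₀ ≫ b) :
    ∃ (U U' : Over S) (a : (yon S).obj U ⟶ X) (a' : (yon S).obj U' ⟶ X') (h : U ⟶ V)
      (p₁ : U' ⟶ U) (p₂ : U' ⟶ V'),
      RepWith @Etale a ∧ RepWith @Etale a' ∧ RepWith @Surjective a' ∧
        a ≫ f = (yon S).map h ≫ b ∧ IsPullback p₁ p₂ h g₀ ∧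
        a' ≫ g' = (yon S).map p₁ ≫ a ∧ a' ≫ f' = (yon S).map p₂ ≫ b' ∧
        (RepWith @Surjective b → RepWith @Surjective a) := by
  obtain ⟨U, a, h, comm, hae, hne, hns, has⟩ := exists_chart_over hX f b hbe
  have sq : IsPullback (pullback.fst h g₀) (pullback.snd h g₀) h g₀ := IsPullback.of_hasPullback _ _
  generalize pullback.fst h g₀ = p₁ at sq
  generalize pullback.snd h g₀ = p₂ at sq
  generalize pullback h g₀ = U' at p₁ p₂ sq
  have hw : ((yon S).map p₁ ≫ a) ≫ f = ((yon S).map p₂ ≫ b') ≫ g := by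
    rw [Category.assoc, comm, Category.assoc, comm', ← Category.assoc, ← Category.assoc,
      ← Functor.map_comp, ← Functor.map_comp, sq.w]
  obtain ⟨a', ha'⟩ : ∃ a' : (yon S).obj U' ⟶ X', a' = hsq.lift _ _ hw := ⟨_, rfl⟩
  have ha'1 : a' ≫ g' = (yon S).map p₁ ≫ a := by
    rw [ha']; exact hsq.lift_fst _ _ hw
  have ha'2 : a' ≫ f' = (yon S).map p₂ ≫ b' := by
    rw [ha']; exact hsq.lift_snd _ _ hw
  have ha'e : RepWith @Etale a' :=
    repWith_cube @Etale hsq a b b' h g₀ comm comm' p₁ p₂ sq a' ha'1 ha'2 hne hb'e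
  have ha's : RepWith @Surjective a' :=
    repWith_cube @Surjective hsq a b b' h g₀ comm comm' p₁ p₂ sq a' ha'1 ha'2 hns hb's
  exact ⟨U, U', a, a', h, p₁, p₂, hae, ha'e, ha's, comm, sq, ha'1, ha'2, has⟩

set_option backward.isDefEq.respectTransparency.types false in
theorem s10609 {X Y Z : AlgSp.Space S} (f : X ⟶ Y) (h : Y ⟶ Z)
    (hfp : AlgSp.LocP @LocallyOfFinitePresentation (f ≫ h).hom)
    (hfl : AlgSp.LocP @Flat (f ≫ h).hom)
    (hft : AlgSp.LocP @LocallyOfFiniteType h.hom) :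
    IsOpen {x : AlgSp.Points X.obj | AlgSp.IsFlatAtMor f.hom x} ∧
    ∀ (X' Y' Z' : AlgSp.Space S) (g : Z' ⟶ Z) (f' : X' ⟶ Y') (h' : Y' ⟶ Z') (pX : X' ⟶ X)
      (pY : Y' ⟶ Y),
      IsPullback pY.hom h'.hom h.hom g.hom → IsPullback pX.hom f'.hom f.hom pY.hom →
      {x' : AlgSp.Points X'.obj | AlgSp.IsFlatAtMor f'.hom x'} =
        AlgSp.Points.map pX.hom ⁻¹' {x : AlgSp.Points X.obj | AlgSp.IsFlatAtMor f.hom x} := by
  have hinst : ∀ {U V W : Over S} (a : (yon S).obj U ⟶ X.obj) (b : (yon S).obj V ⟶ Y.obj)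
      (c : (yon S).obj W ⟶ Z.obj) (s : U ⟶ V) (t : V ⟶ W), RepWith @Etale a → RepWith @Etale b →
      RepWith @Etale c → a ≫ f.hom = (yon S).map s ≫ b → b ≫ h.hom = (yon S).map t ≫ c →
      LocallyOfFinitePresentation (s.left ≫ t.left) ∧ Flat (s.left ≫ t.left) ∧
        LocallyOfFiniteType t.left := by
    intro U V W a b c s t ha hb hc c1 c2
    have c3 : a ≫ (f.hom ≫ h.hom) = (yon S).map (s ≫ t) ≫ c := by
      rw [← Category.assoc, c1, Category.assoc, c2, Functor.map_comp, Category.assoc]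
    exact ⟨hfp a c (s ≫ t) ha hc c3, hfl a c (s ≫ t) ha hc c3, hft b c t hb hc c2⟩
  refine ⟨?_, ?_⟩
  · obtain ⟨W, c, hce, hcs⟩ := Z.property.atlas
    obtain ⟨V, b, t, c2, hbe, -, -, hbs⟩ := exists_chart_over Y.property h.hom c hce
    obtain ⟨U, a, s, c1, hae, -, -, has⟩ := exists_chart_over X.property f.hom b hbe
    obtain ⟨i1, i2, i3⟩ := hinst a b c s t hae hbe hce c1 c2
    haveI : LocallyOfFinitePresentation s.left :=
      Groth.Agent.Helper2.LfpComp.locallyOfFinitePresentation_of_comp s.left t.left i1 i3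
    refine Groth.Agent.Helper4.AlgSpPtsDesc.isOpen_of_isOpen_preimage a hae (has (hbs hcs)) _ ?_
    rw [← (Points.schemeHomeo U).isOpen_preimage]
    have e : (Points.schemeHomeo U) ⁻¹' (Points.map a ⁻¹'
        {x : AlgSp.Points X.obj | AlgSp.IsFlatAtMor f.hom x}) = {u | FlatAt s.left u} := by
      ext u
      simp only [Set.mem_preimage, Set.mem_ofPred_eq]
      rw [Groth.Agent.Helper4.AlgSpQC2.ofPt_eq_map_schemeHomeo]
      exact isFlatAtMor_iff_chart f.hom a b s hae hbe c1 u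
    rw [e]
    exact Groth.Agent.Helper2.FlatLocusSch.isOpen_flat_locus s.left
  · intro X' Y' Z' g f' h' pX pY hY hX
    ext x'
    simp only [Set.mem_preimage, Set.mem_ofPred_eq]
    obtain ⟨W, c, hce, hcs⟩ := Z.property.atlas
    obtain ⟨W', c', p₀, hc'e, hc's, cc⟩ := exists_chart_surj Z'.property g.hom c hce hcs
    obtain ⟨V, V', b, b', t, q₁, q₂, hbe, hb'e, hb's, c2, sqV, hb'1, hb'2, -⟩ :=
      exists_cube_over Y.property hY c c' p₀ hce hc'e hc's cc
    obtain ⟨U, U', a, a', s, r₁, r₂, hae, ha'e, ha's, c1, sqU, ha'1, ha'2, -⟩ :=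
      exists_cube_over X.property hX b b' q₁ hbe hb'e hb's hb'1
    obtain ⟨u', hu'⟩ := Groth.Agent.Helper5.AlgSpOpen.ofPt_surjective_of_repWith a' ha's x'
    obtain ⟨i1, i2, i3⟩ := hinst a b c s t hae hbe hce c1 c2
    have key := flatAt_baseChange_iff s.left t.left p₀.left q₁.left q₂.left
      (sqV.map (Over.forget S)) r₁.left r₂.left (sqU.map (Over.forget S))
      (fibIff_of_lfp s.left t.left) u'
    have hpt : Points.ofPt a (r₁.left u') = Points.map pX.hom x' := by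
      rw [← hu', Points.map_ofPt, ha'1, Groth.Agent.Helper4.AlgSpPtsDesc.ofPt_yon_map_comp]
    rw [← hpt, ← hu', isFlatAtMor_iff_chart f'.hom a' b' r₂ ha'e hb'e ha'2 u',
      isFlatAtMor_iff_chart f.hom a b s hae hbe c1 (r₁.left u')]
    exact key

end Groth.Agent.Helper5.FlatBC
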