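import Mathlib

set_option autoImplicit false
universe u
open Cardinal

namespace Groth.Agent.Helper5.FlatCard

variable (A B : Type u) [CommRing A] [CommRing B] [Algebra A B]

/-- one closure step -/
theorem step [Module.Flat A B] (S : Subalgebra A B) (hS : #S ≤ max #A ℵ₀) :
    ∃ S' : Subalgebra A B, S ≤ S' ∧ #S' ≤ max #A ℵ₀ ∧
      ∀ (l : ℕ) (f : Fin l → A) (x : Fin l → B), (∀ i, x i ∈ S) → ∑ i, f i • x i = 0 →
        ∃ (k : ℕ) (a : Fin l → Fin k → A) (y : Fin k → B), (∀ j, y j ∈ S') ∧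
          (∀ i, x i = ∑ j, a i j • y j) ∧ ∀ j, ∑ i, f i * a i j = 0 := by
  classical
  set κ := max #A ℵ₀ with hκ
  have hκ0 : ℵ₀ ≤ κ := le_max_right _ _
  have hAκ : #A ≤ κ := le_max_left _ _
  let Rel := Σ l : ℕ, (Fin l → A × S)
  have hRel : #Rel ≤ κ := by
    have h1 : #Rel = #(List (A × S)) := Cardinal.mk_congr List.equivSigmaTuple.symm
    rw [h1]
    refine (Cardinal.mk_list_le_max _).trans (max_le hκ0 ?_)
    rw [Cardinal.mk_prod, Cardinal.lift_id, Cardinal.lift_id]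
    exact Cardinal.mul_le_of_le hκ0 hAκ hS
  have hex : ∀ r : Rel, ∃ (k : ℕ) (a : Fin r.1 → Fin k → A) (y : Fin k → B),
      (∑ i, (r.2 i).1 • ((r.2 i).2 : B) = 0) →
        ((∀ i, ((r.2 i).2 : B) = ∑ j, a i j • y j) ∧ ∀ j, ∑ i, (r.2 i).1 * a i j = 0) := by
    intro r
    by_cases h : ∑ i, (r.2 i).1 • ((r.2 i).2 : B) = 0
    · obtain ⟨k, a, y, h1, h2⟩ := Module.Flat.isTrivialRelation_of_sum_smul_eq_zero (R := A) (M := B)
        (f := fun i => (r.2 i).1) (x := fun i => ((r.2 i).2 : B)) h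
      exact ⟨k, a, y, fun _ => ⟨h1, h2⟩⟩
    · exact ⟨0, fun _ => Fin.elim0, Fin.elim0, fun h' => absurd h' h⟩
  choose k a y hy using hex
  let W : Set B := ⋃ r : Rel, Set.range (y r)
  have hW : #W ≤ κ := by
    refine (Cardinal.mk_iUnion_le _).trans ?_
    refine Cardinal.mul_le_of_le hκ0 hRel ?_
    refine ciSup_le' fun r => ?_
    exact ((Set.finite_range (y r)).lt_aleph0).le.trans hκ0
  refine ⟨Algebra.adjoin A ((S : Set B) ∪ W), ?_, ?_, ?_⟩
  · intro z hz
    exact Algebra.subset_adjoin (Or.inl hz)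
  · refine (Algebra.cardinalMk_adjoin_le A _).trans ?_
    refine max_le (max_le hAκ ?_) hκ0
    refine (Cardinal.mk_union_le _ _).trans (Cardinal.add_le_of_le hκ0 ?_ hW)
    exact hS
  · intro l f x hx h
    let r : Rel := ⟨l, fun i => (f i, ⟨x i, hx i⟩)⟩
    obtain ⟨h1, h2⟩ := hy r h
    refine ⟨k r, a r, y r, ?_, h1, h2⟩
    intro j
    exact Algebra.subset_adjoin (Or.inr (Set.mem_iUnion.2 ⟨r, j, rfl⟩))


theorem main [Module.Flat A B] (E : Subalgebra A B) (hE : #E ≤ max #A ℵ₀) :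
    ∃ B' : Subalgebra A B, E ≤ B' ∧ Module.Flat A B' ∧ #B' ≤ max #A ℵ₀ := by
  classical
  set κ := max #A ℵ₀ with hκ
  have hκ0 : ℵ₀ ≤ κ := le_max_right _ _
  choose nxt h1 h2 h3 using step A B
  let seq : ℕ → {S : Subalgebra A B // #S ≤ κ} := fun n =>
    Nat.rec ⟨E, hE⟩ (fun _ S => ⟨nxt S.1 S.2, h2 S.1 S.2⟩) n
  have hseq0 : (seq 0).1 = E := rfl
  have hseqS : ∀ n, (seq (n + 1)).1 = nxt (seq n).1 (seq n).2 := fun n => rfl
  have hmono : Monotone fun n => (seq n).1 := by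
    refine monotone_nat_of_le_succ fun n => ?_
    show (seq n).1 ≤ (seq (n + 1)).1
    rw [hseqS]
    exact h1 _ _
  have hdir : Directed (· ≤ ·) fun n => (seq n).1 := hmono.directed_le
  refine ⟨⨆ n, (seq n).1, ?_, ?_, ?_⟩
  · rw [← hseq0]
    exact le_iSup (fun n => (seq n).1) 0
  · rw [Module.Flat.iff_forall_isTrivialRelation]
    intro l f x h
    have h' : ∑ i, f i • ((x i : B)) = 0 := by
      have := congrArg Subtype.val h
      simpa using this
    have hmem : ∀ i, ∃ n, (x i : B) ∈ (seq n).1 := fun i => by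
      have hx : (x i : B) ∈ ((⨆ n, (seq n).1 : Subalgebra A B) : Set B) := (x i).2
      rw [Subalgebra.coe_iSup_of_directed hdir] at hx
      exact Set.mem_iUnion.1 hx
    choose n hn using hmem
    let N := Finset.univ.sup n
    have hN : ∀ i, (x i : B) ∈ (seq N).1 := fun i =>
      hmono (Finset.le_sup (f := n) (Finset.mem_univ i)) (hn i)
    obtain ⟨k, a, y, hy, hxa, hfa⟩ := h3 (seq N).1 (seq N).2 l f (fun i => (x i : B)) hN h'
    have hy' : ∀ j, y j ∈ ⨆ n, (seq n).1 := fun j => by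
      have : y j ∈ (seq (N + 1)).1 := by rw [hseqS]; exact hy j
      exact (le_iSup (fun n => (seq n).1) (N + 1)) this
    refine ⟨k, a, fun j => ⟨y j, hy' j⟩, ?_, hfa⟩
    intro i
    apply Subtype.ext
    rw [hxa i]
    simp
  · have hcoe : ((⨆ n, (seq n).1 : Subalgebra A B) : Set B) =
        ⋃ m : ULift.{u} ℕ, ((seq m.down).1 : Set B) := by
      rw [Subalgebra.coe_iSup_of_directed hdir]
      ext z
      simp only [Set.mem_iUnion]
      exact ⟨fun ⟨n, hn⟩ => ⟨⟨n⟩, hn⟩, fun ⟨m, hm⟩ => ⟨m.down, hm⟩⟩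
    have : #(⨆ n, (seq n).1 : Subalgebra A B) =
        #(⋃ m : ULift.{u} ℕ, ((seq m.down).1 : Set B)) := by
      rw [← hcoe]
      rfl
    rw [this]
    refine (Cardinal.mk_iUnion_le _).trans ?_
    refine Cardinal.mul_le_of_le hκ0 (Cardinal.mk_le_aleph0.trans hκ0) ?_
    exact ciSup_le' fun m => (seq m.down).2

end Groth.Agent.Helper5.FlatCard
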