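import Groth.Agent.Helper5.GorSp4
import Groth.Agent.Helper5.CMBC1
import Groth.Agent.Helper4.AlgSpLocPBC
import Mathlib

set_option autoImplicit false
set_option linter.style.haveILetI false
set_option linter.unusedSectionVars false
set_option linter.unusedVariables false
universe u
open CategoryTheory CategoryTheory.Limits AlgebraicGeometry Opposite

namespace Groth.Agent.Helper5.FlatSp

open AlgSp Groth.Agent.Helper4 Groth.Agent.Helper5.GorSp

/-- flatness at a point -/
def FlatAt {X Y : Scheme.{u}} (f : X ⟶ Y) (x : X) : Prop := (f.stalkMap x).hom.Flat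

theorem flatAt_congr {X Y : Scheme.{u}} {f g : X ⟶ Y} (h : f = g) (x : X) (hf : FlatAt f x) :
    FlatAt g x := by subst h; exact hf

theorem flatAt_comp {X Y Z : Scheme.{u}} (f : X ⟶ Y) (g : Y ⟶ Z) (x : X) (hf : FlatAt f x)
    (hg : FlatAt g (f x)) : FlatAt (f ≫ g) x := by
  unfold FlatAt
  rw [Scheme.Hom.stalkMap_comp]
  exact RingHom.Flat.comp hg hf

theorem flatAt_of_flat {X Y : Scheme.{u}} (f : X ⟶ Y) [Flat f] (x : X) : FlatAt f x :=
  Flat.stalkMap f x

/-- descent of flatness at a point along a flat morphism on the source -/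
theorem flatAt_of_comp_flat {X Y Z : Scheme.{u}} (f : X ⟶ Y) [Flat f] (g : Y ⟶ Z) (x : X)
    (h : FlatAt (f ≫ g) x) : FlatAt g (f x) := by
  unfold FlatAt at h ⊢
  rw [Scheme.Hom.stalkMap_comp] at h
  have h2 : (f.stalkMap x).hom.Flat := Flat.stalkMap f x
  have h3 : (f.stalkMap x).hom.FaithfullyFlat := by
    algebraize [(f.stalkMap x).hom]
    have : IsLocalHom (algebraMap (Y.presheaf.stalk (f x)) (X.presheaf.stalk x)) := by
      show IsLocalHom (f.stalkMap x).hom
      infer_instance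
    exact (RingHom.faithfullyFlat_algebraMap_iff).2 Module.FaithfullyFlat.of_flat_of_isLocalHom
  exact Groth.Agent.Helper4.AlgSpLocPBC.ringHom_flat_of_comp _ _ h3 h

theorem flatAt_precomp_etale_iff {A' A B : Scheme.{u}} (e : A' ⟶ A) [Etale e] (s : A ⟶ B)
    (x' : A') : FlatAt (e ≫ s) x' ↔ FlatAt s (e x') :=
  ⟨fun h => flatAt_of_comp_flat e s x' h, fun h => flatAt_comp e s x' (flatAt_of_flat e x') h⟩

theorem flatAt_postcomp_etale {A B C : Scheme.{u}} (s : A ⟶ B) (e : B ⟶ C) [Etale e] (x : A)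
    (h : FlatAt s x) : FlatAt (s ≫ e) x :=
  flatAt_comp s e x h (flatAt_of_flat e (s x))

set_option backward.isDefEq.respectTransparency false in
/-- cancellation of an étale second factor -/
theorem flatAt_of_postcomp_etale {A B C : Scheme.{u}} (s : A ⟶ B) (e : B ⟶ C) [Etale e] (x : A)
    (h : FlatAt (s ≫ e) x) : FlatAt s x := by
  obtain ⟨gr, hgr⟩ : ∃ gr : A ⟶ pullback (s ≫ e) e, gr = pullback.lift (𝟙 A) s (by simp) :=
    ⟨_, rfl⟩
  have hgr1 : gr ≫ pullback.fst (s ≫ e) e = 𝟙 A := by rw [hgr]; exact pullback.lift_fst _ _ _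
  have hgr2 : gr ≫ pullback.snd (s ≫ e) e = s := by rw [hgr]; exact pullback.lift_snd _ _ _
  haveI : Etale gr := by
    rw [hgr]
    exact MorphismProperty.of_isPullback (P := @Etale) (pullback_lift_diagonal_isPullback s e)
      (inferInstanceAs <| Etale (pullback.diagonal e))
  have hx : pullback.fst (s ≫ e) e (gr x) = x := by
    rw [← Scheme.Hom.comp_apply, hgr1]
    rfl
  have h1 : FlatAt (pullback.snd (s ≫ e) e) (gr x) := by
    refine Groth.Agent.Helper5.CMBC.flat_stalkMap_baseChange (s ≫ e) (pullback.snd (s ≫ e) e)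
      (pullback.fst (s ≫ e) e) e (IsPullback.of_hasPullback _ _) (gr x) ?_
    rw [hx]
    exact h
  exact flatAt_congr hgr2 x (flatAt_comp gr _ x (flatAt_of_flat gr x) h1)

variable {S : Scheme.{u}} {X Y : Sp S}

set_option backward.isDefEq.respectTransparency.types false in
/-- flatness at a point does not depend on the chart diagram -/
theorem flat_chart_indep (f : X ⟶ Y) {U V : Over S} (a : (yon S).obj U ⟶ X)
    (b : (yon S).obj V ⟶ Y) (h : U ⟶ V) (ha : RepWith @Etale a) (hb : RepWith @Etale b)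
    (comm : a ≫ f = (yon S).map h ≫ b) (u : ↥U.left) (hG : FlatAt h.left u)
    {U' V' : Over S} (a' : (yon S).obj U' ⟶ X) (b' : (yon S).obj V' ⟶ Y) (h' : U' ⟶ V')
    (ha' : RepWith @Etale a') (hb' : RepWith @Etale b')
    (comm' : a' ≫ f = (yon S).map h' ≫ b') (u' : ↥U'.left)
    (hpt : Points.ofPt a u = Points.ofPt a' u') : FlatAt h'.left u' := by
  have har := ha.rep
  have hpbU : IsPullback (har.fst a') ((yon S).map (har.snd a')) a a' := har.isPullback a'
  obtain ⟨p₁, hp₁⟩ := (yon S).map_surjective (har.fst a')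
  rw [← hp₁] at hpbU
  have hp₂e : Etale (har.snd a').left := ha.property _ _ _ hpbU
  have hp₁e : Etale p₁.left := ha'.property _ _ _ hpbU.flip
  generalize har.snd a' = p₂ at hpbU hp₂e
  have hbr := hb.rep
  have hpbV : IsPullback (hbr.fst b') ((yon S).map (hbr.snd b')) b b' := hbr.isPullback b'
  obtain ⟨q₁, hq₁⟩ := (yon S).map_surjective (hbr.fst b')
  rw [← hq₁] at hpbV
  have hq₂e : Etale (hbr.snd b').left := hb.property _ _ _ hpbV
  have hq₁e : Etale q₁.left := hb'.property _ _ _ hpbV.flip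
  generalize hbr.snd b' = q₂ at hpbV hq₂e
  have hw : (yon S).map (p₁ ≫ h) ≫ b = (yon S).map (p₂ ≫ h') ≫ b' := by
    rw [Functor.map_comp, Category.assoc, ← comm, ← Category.assoc, hpbU.w, Category.assoc,
      comm', Functor.map_comp, Category.assoc]
  obtain ⟨s, hs⟩ := (yon S).map_surjective (hpbV.lift _ _ hw)
  have hs1 : s ≫ q₁ = p₁ ≫ h := by
    apply (yon S).map_injective
    rw [Functor.map_comp, hs]; exact hpbV.lift_fst _ _ hw
  have hs2 : s ≫ q₂ = p₂ ≫ h' := by
    apply (yon S).map_injective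
    rw [Functor.map_comp, hs]; exact hpbV.lift_snd _ _ hw
  have hs1' : s.left ≫ q₁.left = p₁.left ≫ h.left := by
    rw [← Over.comp_left, hs1, Over.comp_left]
  have hs2' : s.left ≫ q₂.left = p₂.left ≫ h'.left := by
    rw [← Over.comp_left, hs2, Over.comp_left]
  obtain ⟨u'', hu1, hu2⟩ :=
    Groth.Agent.Helper4.AlgSpLocPFam.exists_point_of_isPullback_yon a a' p₁ p₂ hpbU u u' hpt
  haveI := hp₁e
  haveI := hp₂e
  haveI := hq₁e
  haveI := hq₂e
  have g1 : FlatAt (p₁.left ≫ h.left) u'' := by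
    refine (flatAt_precomp_etale_iff p₁.left h.left u'').2 ?_
    rw [hu1]; exact hG
  have g2 : FlatAt s.left u'' :=
    flatAt_of_postcomp_etale s.left q₁.left u'' (flatAt_congr hs1'.symm u'' g1)
  have g3 : FlatAt (s.left ≫ q₂.left) u'' := flatAt_postcomp_etale s.left q₂.left u'' g2
  have g4 : FlatAt (p₂.left ≫ h'.left) u'' := flatAt_congr hs2' u'' g3
  have g5 := (flatAt_precomp_etale_iff p₂.left h'.left u'').1 g4
  rw [hu2] at g5
  exact g5

/-- flatness of a morphism of sheaves at a point can be checked on one chart diagram -/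
theorem isFlatAtMor_of_chart (f : X ⟶ Y) (x : Points X) {U V : Over S} (a : (yon S).obj U ⟶ X)
    (b : (yon S).obj V ⟶ Y) (h : U ⟶ V) (ha : RepWith @Etale a) (hb : RepWith @Etale b)
    (comm : a ≫ f = (yon S).map h ≫ b) (u : ↥U.left) (hu : Points.ofPt a u = x)
    (hG : FlatAt h.left u) : IsFlatAtMor f x := by
  intro U' V' a' b' h' u' ha' hb' comm' hu'
  exact flat_chart_indep f a b h ha hb comm u hG a' b' h' ha' hb' comm' u' (hu.trans hu'.symm)

theorem isFlatAtMor_iff_chart (f : X ⟶ Y) {U V : Over S} (a : (yon S).obj U ⟶ X)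
    (b : (yon S).obj V ⟶ Y) (h : U ⟶ V) (ha : RepWith @Etale a) (hb : RepWith @Etale b)
    (comm : a ≫ f = (yon S).map h ≫ b) (u : ↥U.left) :
    IsFlatAtMor f (Points.ofPt a u) ↔ FlatAt h.left u :=
  ⟨fun H => H a b h u ha hb comm rfl, fun H => isFlatAtMor_of_chart f _ a b h ha hb comm u rfl H⟩

/-- `LocP @Flat` is flatness at every point -/
theorem locP_flat_iff_forall (f : X ⟶ Y) : LocP @Flat f ↔ ∀ x : Points X, IsFlatAtMor f x := by
  constructor
  · intro H x U V a b h u ha hb comm hu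
    haveI : Flat h.left := H a b h ha hb comm
    exact Flat.stalkMap h.left u
  · intro H U V a b h ha hb comm
    rw [Flat.iff_flat_stalkMap]
    intro u
    exact H (Points.ofPt a u) a b h u ha hb comm rfl

end Groth.Agent.Helper5.FlatSp
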