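import Groth.Agent.Helper2.FibFlatMain
import Groth.Agent.Helper2.FibCrit
import Groth.Agent.Helper5.FlatSp1
import Mathlib

set_option autoImplicit false
set_option linter.style.haveILetI false
set_option linter.unusedSectionVars false
set_option linter.unusedVariables false
universe u
open Function IsLocalRing CategoryTheory CategoryTheory.Limits AlgebraicGeometry Opposite

namespace Groth.Agent.Helper5.FlatFib

open Groth.Agent.Helper2.FibFlatDict

set_option maxHeartbeats 800000 in
/-- fibrewise flatness criterion at a point of the fibre, locally Noetherian version -/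
theorem fibre_flat_iff_noeth {X Y S : Scheme.{u}} (f : X ⟶ Y) (g : Y ⟶ S)
    [IsLocallyNoetherian X] [IsLocallyNoetherian Y] (s : S)
    (x' : (f ≫ g).fiber s) :
    (((f ≫ g).stalkMap ((f ≫ g).fiberι s x')).hom.Flat ∧
        ((MoreMor.fiberMap f g s).stalkMap x').hom.Flat) ↔
      ((g.stalkMap (f ((f ≫ g).fiberι s x'))).hom.Flat ∧
        (f.stalkMap ((f ≫ g).fiberι s x')).hom.Flat) := by
  let x : X := (f ≫ g).fiberι s x'
  let y' : g.fiber s := MoreMor.fiberMap f g s x'
  have hy : g.fiberι s y' = f x := by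
    show g.fiberι s (MoreMor.fiberMap f g s x') = f ((f ≫ g).fiberι s x')
    rw [← Scheme.Hom.comp_apply, fiberMap_fst, Scheme.Hom.comp_apply]
  letI algAB : Algebra (S.presheaf.stalk (g (f x))) (Y.presheaf.stalk (f x)) :=
    (g.stalkMap (f x)).hom.toAlgebra
  letI algBC : Algebra (Y.presheaf.stalk (f x)) (X.presheaf.stalk x) :=
    (f.stalkMap x).hom.toAlgebra
  letI algAC : Algebra (S.presheaf.stalk (g (f x))) (X.presheaf.stalk x) :=
    ((f ≫ g).stalkMap x).hom.toAlgebra
  haveI : IsLocalHom (algebraMap (S.presheaf.stalk (g (f x))) (Y.presheaf.stalk (f x))) :=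
    inferInstanceAs (IsLocalHom (g.stalkMap (f x)).hom)
  haveI : IsLocalHom (algebraMap (Y.presheaf.stalk (f x)) (X.presheaf.stalk x)) :=
    inferInstanceAs (IsLocalHom (f.stalkMap x).hom)
  haveI : IsScalarTower (S.presheaf.stalk (g (f x))) (Y.presheaf.stalk (f x))
      (X.presheaf.stalk x) :=
    IsScalarTower.of_algebraMap_eq (fun a => by
      change ((f ≫ g).stalkMap x).hom a = (f.stalkMap x).hom ((g.stalkMap (f x)).hom a)
      rw [Scheme.Hom.stalkMap_comp]
      rfl)
  have key := Groth.Agent.Helper2.FibCrit.fibre_criterion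
    (A := S.presheaf.stalk (g (f x)))
    (B := Y.presheaf.stalk (f x)) (C := X.presheaf.stalk x) (X.presheaf.stalk x)
  have hP := ker_transport g s y' (f x) hy
  have hX := Groth.Agent.Helper5.FibStalk.s9501 (f ≫ g) s x'
  have hkC : RingHom.ker (((f ≫ g).fiberι s).stalkMap x').hom =
      ((maximalIdeal (S.presheaf.stalk (g (f x)))).map
        (algebraMap (S.presheaf.stalk (g (f x))) (Y.presheaf.stalk (f x)))).map
        (algebraMap (Y.presheaf.stalk (f x)) (X.presheaf.stalk x)) := by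
    rw [hX.2, Ideal.map_map]
    congr 1
    rw [Scheme.Hom.stalkMap_comp]
    rfl
  have hsq := stalk_square f g s x' hy
  have hdict := flat_quot_iff
    (B := Y.presheaf.stalk (f x)) (C := X.presheaf.stalk x)
    ((maximalIdeal (S.presheaf.stalk (g (f x)))).map
        (algebraMap (S.presheaf.stalk (g (f x))) (Y.presheaf.stalk (f x))))
    ((Y.presheaf.stalkCongr (.of_eq hy)).inv ≫ (g.fiberι s).stalkMap y').hom hP.1 hP.2
    (((f ≫ g).fiberι s).stalkMap x').hom hX.1 hkC
    ((MoreMor.fiberMap f g s).stalkMap x').hom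
    (by
      have h0 := congrArg CommRingCat.Hom.hom hsq
      exact h0)
  rw [hdict]
  exact key

/-- the shape of the fibrewise flatness criterion -/
def FibIff {X Y S : Scheme.{u}} (f : X ⟶ Y) (g : Y ⟶ S) : Prop :=
  ∀ (s : S) (x' : (f ≫ g).fiber s),
    (((f ≫ g).stalkMap ((f ≫ g).fiberι s x')).hom.Flat ∧
        ((MoreMor.fiberMap f g s).stalkMap x').hom.Flat) ↔
      ((g.stalkMap (f ((f ≫ g).fiberι s x'))).hom.Flat ∧
        (f.stalkMap ((f ≫ g).fiberι s x')).hom.Flat)

theorem fibIff_of_lfp {X Y S : Scheme.{u}} (f : X ⟶ Y) (g : Y ⟶ S)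
    [LocallyOfFinitePresentation (f ≫ g)] [LocallyOfFiniteType g] : FibIff f g :=
  fun s x' => fibre_flat_iff f g s x'

theorem fibIff_of_noeth {X Y S : Scheme.{u}} (f : X ⟶ Y) (g : Y ⟶ S)
    [IsLocallyNoetherian X] [IsLocallyNoetherian Y] : FibIff f g :=
  fun s x' => fibre_flat_iff_noeth f g s x'

/-- flatness from flatness over the base and flatness of the maps of fibres -/
theorem flat_of_flat_fibres_sch {X Y S : Scheme.{u}} (f : X ⟶ Y) (g : Y ⟶ S)
    (Hiff : FibIff f g) [Flat (f ≫ g)] (hfm : ∀ s, Flat (MoreMor.fiberMap f g s)) (x : X) :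
    (g.stalkMap (f x)).hom.Flat ∧ (f.stalkMap x).hom.Flat := by
  have hQ' := RingHom.Flat.respectsIso
  have key := Hiff (g (f x)) ((f ≫ g).asFiber x)
  have hx : (f ≫ g).fiberι (g (f x)) ((f ≫ g).asFiber x) = x :=
    Scheme.Hom.fiberι_asFiber _ _
  rw [hQ'.arrow_mk_iso_iff ((f ≫ g).arrowStalkMapIsoOfEq hx),
    hQ'.arrow_mk_iso_iff (g.arrowStalkMapIsoOfEq (congrArg f hx)),
    hQ'.arrow_mk_iso_iff (f.arrowStalkMapIsoOfEq hx)] at key
  haveI := hfm (g (f x))
  exact key.1 ⟨Flat.stalkMap (f ≫ g) x, Flat.stalkMap (MoreMor.fiberMap f g (g (f x))) _⟩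

end Groth.Agent.Helper5.FlatFib
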