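import Groth.Agent.Helper5.SrcFlat
import Groth.Agent.Helper5.FieldTgt
import Groth.Agent.Helper4.AlgSpInj

set_option autoImplicit false
universe u
open CategoryTheory CategoryTheory.Limits AlgebraicGeometry Opposite MorphismProperty

namespace Groth.Agent.Helper5.FlatPt

open AlgSp Groth.Agent.Helper4.SDClasses Groth.Agent.Helper5.FieldTgt Groth.Agent.Helper4.AlgSpInj

variable {S : Scheme.{u}}

/-- A field extension gives an fpqc covering of the spectrum of the smaller field. -/
theorem isFpqcCover_field {k' Ω : Type u} [Field k'] [Field Ω] (str' : Spec (CommRingCat.of k') ⟶ S)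
    (w : Spec (CommRingCat.of Ω) ⟶ S) (b : Over.mk w ⟶ Over.mk str') :
    IsFpqcCover (fun _ : PUnit.{u + 1} => (yon S).obj (Over.mk w)) (fun _ => (yon S).map b) := by
  refine ⟨fun _ => locP_flat_to_field (IsAlgSpace.yon_obj _) k' str' (Iso.refl _) _, ?_⟩
  intro A hA h
  obtain ⟨h₀, rfl⟩ := (yon S).map_surjective h
  have hA' : IsAffine A.left := hA
  have hfl : Flat b.left := by
    have : IsIntegral (Over.mk str').left := by dsimp; infer_instance
    have : Subsingleton (Over.mk str').left := by dsimp; infer_instance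
    infer_instance
  have hsurj : Surjective b.left := by
    refine ⟨fun x => ?_⟩
    have hne : Nonempty (Spec (CommRingCat.of Ω)) := inferInstance
    obtain ⟨y⟩ := hne
    have : Subsingleton (Spec (CommRingCat.of k')) := inferInstance
    exact ⟨y, Subsingleton.elim (α := Spec (CommRingCat.of k')) _ _⟩
  have hcond : pullback.snd h₀.left b.left ≫ w = pullback.fst h₀.left b.left ≫ A.hom := by
    have e1 : h₀.left ≫ str' = A.hom := Over.w h₀
    have e2 : b.left ≫ str' = w := Over.w b
    calc pullback.snd h₀.left b.left ≫ w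
        = pullback.snd h₀.left b.left ≫ b.left ≫ str' := by rw [e2]
      _ = (pullback.fst h₀.left b.left ≫ h₀.left) ≫ str' := by
          rw [pullback.condition, Category.assoc]
      _ = pullback.fst h₀.left b.left ≫ A.hom := by rw [Category.assoc, e1]
  let W₀ : Over S := Over.mk (pullback.fst h₀.left b.left ≫ A.hom)
  let c : W₀ ⟶ A := Over.homMk (pullback.fst h₀.left b.left) rfl
  let l₀ : W₀ ⟶ Over.mk w := Over.homMk (pullback.snd h₀.left b.left) hcond
  refine ⟨1, fun _ => W₀, fun _ => c, fun _ => ?_, fun _ => ?_, fun z => ⟨0, ?_⟩,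
    fun _ => ⟨PUnit.unit, (yon S).map l₀, ?_⟩⟩
  · have : IsAffine (Over.mk str').left := by dsimp; infer_instance
    have : IsAffine (Over.mk w).left := by dsimp; infer_instance
    show IsAffine (pullback h₀.left b.left)
    infer_instance
  · show Flat (pullback.fst h₀.left b.left)
    infer_instance
  · show z ∈ Set.range (pullback.fst h₀.left b.left)
    have : Surjective (pullback.fst h₀.left b.left) := inferInstance
    exact this.surj z
  · rw [← Functor.map_comp, ← Functor.map_comp]
    congr 1
    apply Over.OverMorphism.ext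
    exact pullback.condition.symm

theorem flat_of_common (Z : Space S)
    (k : Type u) [Field k] (str : Spec (CommRingCat.of k) ⟶ S) (p : (yon S).obj (Over.mk str) ⟶ Z.obj)
    (hpf : LocP @Flat p)
    (k' : Type u) [Field k'] (str' : Spec (CommRingCat.of k') ⟶ S) (q : (yon S).obj (Over.mk str') ⟶ Z.obj)
    (Ω : Type u) [Field Ω] (w : Spec (CommRingCat.of Ω) ⟶ S) (a : Over.mk w ⟶ Over.mk str)
    (b : Over.mk w ⟶ Over.mk str') (hab : (yon S).map a ≫ p = (yon S).map b ≫ q) :
    LocP @Flat q := by
  have hcov := isFpqcCover_field str' w b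
  have key := Groth.Agent.Helper5.SrcFlat.isLocalOnSource_fpqc_locP_flat
    (fun _ : PUnit.{u + 1} => (yon S).obj (Over.mk w)) (fun _ => (yon S).map b)
    (IsAlgSpace.yon_obj _) (fun _ => IsAlgSpace.yon_obj _) hcov q Z.property
  refine key.2 ?_
  intro _
  show LocP @Flat ((yon S).map b ≫ q)
  rw [← hab]
  exact Groth.Agent.Helper4.AlgSpLocPComp.locP_comp @Flat good_flat (IsAlgSpace.yon_obj _) _ _
    (locP_flat_to_field (IsAlgSpace.yon_obj _) k str (Iso.refl _) _) hpf

theorem s10365 (Z : Space S)
    (k : Type u) [Field k] (str : Spec (CommRingCat.of k) ⟶ S) (p : (yon S).obj (Over.mk str) ⟶ Z.obj)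
    (hpf : LocP @Flat p) (hps : IsSurjectiveMor p)
    (k' : Type u) [Field k'] (str' : Spec (CommRingCat.of k') ⟶ S) (q : (yon S).obj (Over.mk str') ⟶ Z.obj) :
    LocP @Flat q ∧ IsSurjectiveMor q := by
  have hsub : ∀ z z' : Points Z.obj, z = z' := by
    intro z z'
    obtain ⟨x, rfl⟩ := hps z
    obtain ⟨x', rfl⟩ := hps z'
    obtain ⟨t, rfl⟩ := (Points.schemeHomeo (Over.mk str)).surjective x
    obtain ⟨t', rfl⟩ := (Points.schemeHomeo (Over.mk str)).surjective x'
    have : Subsingleton (Spec (CommRingCat.of k)) := inferInstance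
    rw [Subsingleton.elim (α := Spec (CommRingCat.of k)) t t']
  refine ⟨?_, ?_⟩
  · have hrel := hsub (Points.mk (ofHom p)) (Points.mk (ofHom q))
    rw [Points.mk_eq_mk_iff, rel_iff] at hrel
    obtain ⟨Ω, _, w, a, b, hab⟩ := hrel
    rw [toHom_ofHom, toHom_ofHom] at hab
    exact flat_of_common Z k str p hpf k' str' q Ω w a b hab
  · intro z
    have hne : Nonempty (Spec (CommRingCat.of k')) := inferInstance
    obtain ⟨y⟩ := hne
    exact ⟨Points.schemeHomeo (Over.mk str') y, hsub _ _⟩

end Groth.Agent.Helper5.FlatPt
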