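import Groth.Agent.Helper5.FlatPt
import Groth.Agent.Helper4.AlgSpLocP
import Groth.Agent.Helper5.AlgSpOpen

set_option autoImplicit false
universe u
open CategoryTheory CategoryTheory.Limits AlgebraicGeometry Opposite MorphismProperty

namespace Groth.Agent.Helper5.FlatPt

open AlgSp Groth.Agent.Helper4.SDClasses Groth.Agent.Helper5.FieldTgt Groth.Agent.Helper4.AlgSpInj

variable {S : Scheme.{u}}

theorem s10367 (Z : Space S)
    (k : Type u) [Field k] (str : Spec (CommRingCat.of k) ⟶ S) (p : (yon S).obj (Over.mk str) ⟶ Z.obj)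
    (hpf : LocP @Flat p) (hps : IsSurjectiveMor p) :
    ∃ (k' : Type u) (_ : Field k') (str' : Spec (CommRingCat.of k') ⟶ S)
      (q : (yon S).obj (Over.mk str') ⟶ Z.obj),
      LocP @LocallyOfFiniteType q ∧ LocP @Flat q ∧ IsSurjectiveMor q := by
  obtain ⟨V, v, hve, hvs⟩ := Z.property.atlas
  -- V is nonempty
  have hne : Nonempty (Spec (CommRingCat.of k)) := inferInstance
  obtain ⟨t⟩ := hne
  obtain ⟨x, -⟩ := Groth.Agent.Helper5.AlgSpOpen.ofPt_surjective_of_repWith v hvs
    (Points.map p (Points.schemeHomeo (Over.mk str) t))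
  obtain ⟨O, hO, hxO, -⟩ := exists_isAffineOpen_mem_and_subset (X := V.left) (x := x)
    (U := ⊤) trivial
  have hnt : Nontrivial Γ(V.left, O) := by
    have : Nonempty (O : Type u) := ⟨⟨x, hxO⟩⟩
    exact (Scheme.component_nontrivial V.left O)
  obtain ⟨m, hm⟩ := Ideal.exists_maximal Γ(V.left, O)
  let _ : Field (Γ(V.left, O) ⧸ m) := Ideal.Quotient.field m
  let j : Spec (CommRingCat.of (Γ(V.left, O) ⧸ m)) ⟶ V.left :=
    Spec.map (CommRingCat.ofHom (Ideal.Quotient.mk m)) ≫ hO.fromSpec
  have hj : LocallyOfFiniteType j := by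
    have h1 : IsClosedImmersion (Spec.map (CommRingCat.ofHom (Ideal.Quotient.mk m))) :=
      IsClosedImmersion.spec_of_surjective _ Ideal.Quotient.mk_surjective
    have h2 : IsOpenImmersion hO.fromSpec := inferInstance
    infer_instance
  let j' : Over.mk (j ≫ V.hom) ⟶ V := Over.homMk j rfl
  refine ⟨Γ(V.left, O) ⧸ m, inferInstance, j ≫ V.hom, (yon S).map j' ≫ v, ?_, ?_⟩
  · have := good_lft.comp
    refine Groth.Agent.Helper4.AlgSpLocPComp.locP_comp @LocallyOfFiniteType good_lft
      (IsAlgSpace.yon_obj V) _ _ ?_ ?_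
    · exact Groth.Agent.Helper4.AlgSpLocP.locP_of_repWith @LocallyOfFiniteType @LocallyOfFiniteType
        (fun g hg => hg) good_lft.etale_le _ ((repWith_yon_map_iff _ _).2 hj)
    · exact Groth.Agent.Helper4.AlgSpLocP.locP_of_repWith @LocallyOfFiniteType @Etale
        good_lft.etale_le good_lft.etale_le _ hve
  · exact s10365 Z k str p hpf hps _ _ _

end Groth.Agent.Helper5.FlatPt
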