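import Groth.Agent.Helper5.FlatPt2
import Groth.Agent.Helper5.RedDesc

set_option autoImplicit false
universe u
open CategoryTheory CategoryTheory.Limits AlgebraicGeometry Opposite MorphismProperty

namespace Groth.Agent.Helper5.FlatPt

open AlgSp Groth.Agent.Helper4.SDClasses Groth.Agent.Helper5.FieldTgt Groth.Agent.Helper4.AlgSpInj

variable {S : Scheme.{u}}

theorem subsingleton_points_of_surjective_field (Z : Space S)
    (k : Type u) [Field k] (str : Spec (CommRingCat.of k) ⟶ S) (p : (yon S).obj (Over.mk str) ⟶ Z.obj)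
    (hps : IsSurjectiveMor p) : Subsingleton (Points Z.obj) := by
  refine ⟨fun z z' => ?_⟩
  obtain ⟨x, rfl⟩ := hps z
  obtain ⟨x', rfl⟩ := hps z'
  obtain ⟨t, rfl⟩ := (Points.schemeHomeo (Over.mk str)).surjective x
  obtain ⟨t', rfl⟩ := (Points.schemeHomeo (Over.mk str)).surjective x'
  have : Subsingleton (Spec (CommRingCat.of k)) := inferInstance
  rw [Subsingleton.elim (α := Spec (CommRingCat.of k)) t t']

theorem s10366 (Z : Space S) :
    (EtaleLocally (fun U => IsReduced U) Z.obj ∧ Nonempty (Points Z.obj) ∧ Subsingleton (Points Z.obj)) ↔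
      ∃ (k : Type u) (_ : Field k) (str : Spec (CommRingCat.of k) ⟶ S)
        (p : (yon S).obj (Over.mk str) ⟶ Z.obj), LocP @Flat p ∧ IsSurjectiveMor p := by
  constructor
  · rintro ⟨⟨U, p₀, hpe, hps, hU⟩, ⟨z⟩, hsub⟩
    have hU' : IsReduced U.left := hU
    obtain ⟨x, -⟩ := Groth.Agent.Helper5.AlgSpOpen.ofPt_surjective_of_repWith p₀ hps z
    obtain ⟨O, hO, hxO, -⟩ := exists_isAffineOpen_mem_and_subset (X := U.left) (x := x)
      (U := ⊤) trivial
    have hnt : Nontrivial Γ(U.left, O) := by
      have : Nonempty (O : Type u) := ⟨⟨x, hxO⟩⟩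
      exact (Scheme.component_nontrivial U.left O)
    obtain ⟨m, hm⟩ := Ideal.exists_maximal Γ(U.left, O)
    have hmp : m.IsPrime := hm.isPrime
    obtain ⟨q, hq, -⟩ := Ideal.exists_minimalPrimes_le (bot_le : (⊥ : Ideal Γ(U.left, O)) ≤ m)
    have hq' : q ∈ minimalPrimes Γ(U.left, O) := hq
    have hqp : q.IsPrime := hq'.1.1
    have : Ring.KrullDimLE 0 (Localization.AtPrime q) := .of_isLocalization _ hq' _
    let _ : Field (Localization.AtPrime q) := Ring.KrullDimLE.isField_of_isReduced.toField
    let j : Spec (CommRingCat.of (Localization.AtPrime q)) ⟶ U.left :=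
      Spec.map (CommRingCat.ofHom (algebraMap Γ(U.left, O) (Localization.AtPrime q))) ≫ hO.fromSpec
    have hj : Flat j := by
      have h1 : Flat (Spec.map (CommRingCat.ofHom
          (algebraMap Γ(U.left, O) (Localization.AtPrime q)))) := by
        rw [Flat.SpecMap_iff]
        show (algebraMap Γ(U.left, O) (Localization.AtPrime q)).Flat
        rw [RingHom.flat_algebraMap_iff]
        infer_instance
      have h2 : IsOpenImmersion hO.fromSpec := inferInstance
      infer_instance
    let j' : Over.mk (j ≫ U.hom) ⟶ U := Over.homMk j rfl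
    refine ⟨Localization.AtPrime q, inferInstance, j ≫ U.hom, (yon S).map j' ≫ p₀, ?_, ?_⟩
    · have := good_flat.comp
      refine Groth.Agent.Helper4.AlgSpLocPComp.locP_comp @Flat good_flat
        (IsAlgSpace.yon_obj U) _ _ ?_ ?_
      · exact Groth.Agent.Helper4.AlgSpLocP.locP_of_repWith @Flat @Flat
          (fun g hg => hg) good_flat.etale_le _ ((repWith_yon_map_iff _ _).2 hj)
      · exact Groth.Agent.Helper4.AlgSpLocP.locP_of_repWith @Flat @Etale
          good_flat.etale_le good_flat.etale_le _ hpe
    · intro z'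
      have hne : Nonempty (Spec (CommRingCat.of (Localization.AtPrime q))) := inferInstance
      obtain ⟨y⟩ := hne
      exact ⟨Points.schemeHomeo (Over.mk (j ≫ U.hom)) y, Subsingleton.elim _ _⟩
  · rintro ⟨k, _, str, p, hpf, hps⟩
    refine ⟨?_, ?_, subsingleton_points_of_surjective_field Z k str p hps⟩
    · refine Groth.Agent.Helper5.RedDesc.isReducedSp_of_flat_surjective Z.property p hpf hps ?_
      refine ⟨Over.mk str, 𝟙 _, ?_, ?_, ?_⟩
      · rw [← (yon S).map_id]; exact (repWith_yon_map_iff _ _).2 (by dsimp; infer_instance)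
      · rw [← (yon S).map_id]; exact (repWith_yon_map_iff _ _).2 (by dsimp; infer_instance)
      · show IsReduced (Spec (CommRingCat.of k))
        infer_instance
    · have hne : Nonempty (Spec (CommRingCat.of k)) := inferInstance
      obtain ⟨y⟩ := hne
      exact ⟨Points.map p (Points.schemeHomeo (Over.mk str) y)⟩

end Groth.Agent.Helper5.FlatPt
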