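import Groth.Agent.Helper5.NoethDesc
import Groth.Agent.Helper5.AlgSpOpen
import Groth.Agent.Helper4.AlgSpPtsDesc
import Groth.Agent.Helper4.AlgSpSrc
import Mathlib

set_option autoImplicit false
universe u
open CategoryTheory CategoryTheory.Limits AlgebraicGeometry Opposite

namespace Groth.Agent.Helper5.NoethDescSp

open AlgSp Groth.Agent.Helper4 Groth.Agent.Helper4.AlgSpPtsDesc

variable {S : Scheme.{u}}

set_option backward.isDefEq.respectTransparency.types false in
/-- Local Noetherianity of algebraic spaces descends along fppf surjective morphisms. -/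
theorem isLocNoethSp_of_fppf_surjective {X Y : Sp S} (hY : IsAlgSpace Y) (f : X ⟶ Y)
    (hfp : LocP @LocallyOfFinitePresentation f) (hfl : LocP @Flat f)
    (hs : IsSurjectiveMor f) (hX : IsLocNoethSp X) : IsLocNoethSp Y := by
  obtain ⟨U₀, p₀, hpe, hps, hU₀⟩ := hX
  obtain ⟨V₀, b, hbe, hbs⟩ := hY.atlas
  have hrep := hbe.1
  let g := p₀ ≫ f
  let A := hrep.pullback g
  have sq : IsPullback (hrep.fst g) ((yon S).map (hrep.snd g)) b g := hrep.isPullback g
  obtain ⟨k, hk⟩ := (yon S).map_surjective (hrep.fst g)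
  have hsnd_e : Etale (hrep.snd g).left := hbe.2 g _ _ sq
  have : IsLocallyNoetherian U₀.left := hU₀
  have hA : IsLocallyNoetherian A.left := LocallyOfFiniteType.isLocallyNoetherian (hrep.snd g).left
  have ha_e : RepWith @Etale ((yon S).map (hrep.snd g) ≫ p₀) :=
    AlgSpSrc.repWith_comp _ ((repWith_yon_map_iff _ _).2 hsnd_e) hpe
  have hcomm : ((yon S).map (hrep.snd g) ≫ p₀) ≫ f = (yon S).map k ≫ b := by
    rw [hk, sq.w, Category.assoc]
  have hk1 : Flat k.left := hfl _ b k ha_e hbe hcomm
  have hk2 : LocallyOfFinitePresentation k.left := hfp _ b k ha_e hbe hcomm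
  have hk3 : Surjective k.left := by
    refine ⟨fun v => ?_⟩
    obtain ⟨x, hx⟩ := hs (Points.map b (Points.schemeHomeo V₀ v))
    obtain ⟨u, hu⟩ := AlgSpPts.isSurjectiveMor_of_repWith p₀ hps x
    have hgu : Points.map b (Points.schemeHomeo V₀ v) = Points.map g u := by
      rw [Points.map_comp]
      show _ = Points.map f (Points.map p₀ u)
      rw [hu, hx]
    obtain ⟨a, ha1, ha2⟩ := exists_point_of_isPullback sq (Points.schemeHomeo V₀ v) u hgu
    obtain ⟨a', rfl⟩ := (Points.schemeHomeo A).surjective a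
    refine ⟨a', ?_⟩
    apply (Points.schemeHomeo V₀).injective
    rw [← Points.map_yon_map_apply, hk, ha1]
  have hV : IsLocallyNoetherian V₀.left :=
    Groth.Agent.Helper5.NoethDesc.isLocallyNoetherian_of_flat_lfp_surjective k.left
  exact ⟨V₀, b, hbe, hbs, hV⟩

end Groth.Agent.Helper5.NoethDescSp
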