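import Groth.Agent.Helper5.FlatPt3
import Groth.Agent.Helper5.NoethChart
import Groth.Agent.Helper5.NoethDescSp
import Groth.Agent.Helper5.Codim0B
import Groth.Agent.Helper5.AlgSpCodim0

set_option autoImplicit false
universe u
open CategoryTheory CategoryTheory.Limits AlgebraicGeometry Opposite MorphismProperty

namespace Groth.Agent.Helper5.FlatPt

open AlgSp Groth.Agent.Helper4.SDClasses Groth.Agent.Helper5.FieldTgt Groth.Agent.Helper4.AlgSpInj

variable {S : Scheme.{u}}

/-- In an affine open all of whose points are maximal points, every prime is maximal. -/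
theorem krullDimLE_zero_of_isMaxPt {U : Scheme.{u}} (O : U.Opens) (hO : IsAffineOpen O)
    (hmax : ∀ u : U, Groth.Agent.Helper5.Codim0B.IsMaxPt u) : Ring.KrullDimLE 0 Γ(U, O) := by
  rw [Ring.krullDimLE_zero_iff]
  intro P hP
  obtain ⟨Q, hQ, hPQ⟩ := Ideal.exists_le_maximal P hP.ne_top
  have hQp : Q.IsPrime := hQ.isPrime
  let yP : PrimeSpectrum Γ(U, O) := ⟨P, hP⟩
  let yQ : PrimeSpectrum Γ(U, O) := ⟨Q, hQp⟩
  have h1 : yP ⤳ yQ := (PrimeSpectrum.le_iff_specializes yP yQ).1 hPQ
  have h2 : hO.fromSpec yP ⤳ hO.fromSpec yQ := h1.map hO.fromSpec.continuous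
  have h3 := hmax _ _ h2
  have h4 : yP = yQ := hO.fromSpec.isOpenEmbedding.injective h3
  have h5 : P = Q := congrArg PrimeSpectrum.asIdeal h4
  rw [h5]; exact hQ

theorem s10368 (Z : Space S) :
    (EtaleLocally (fun U => IsReduced U) Z.obj ∧ IsLocNoethSp Z.obj ∧ Nonempty (Points Z.obj) ∧
        Subsingleton (Points Z.obj)) ↔
      ∃ (k : Type u) (_ : Field k) (str : Spec (CommRingCat.of k) ⟶ S)
        (p : (yon S).obj (Over.mk str) ⟶ Z.obj),
        LocP @LocallyOfFinitePresentation p ∧ LocP @Flat p ∧ IsSurjectiveMor p := by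
  constructor
  · rintro ⟨⟨U, p₀, hpe, hps, hU⟩, hN, ⟨z⟩, hsub⟩
    have hU' : IsReduced U.left := hU
    have hUN : IsLocallyNoetherian U.left :=
      Groth.Agent.Helper5.NoethChart.isLocallyNoetherian_of_etale_chart hN p₀ hpe
    obtain ⟨x, -⟩ := Groth.Agent.Helper5.AlgSpOpen.ofPt_surjective_of_repWith p₀ hps z
    -- all points of `U` are maximal points
    obtain ⟨u₀, -, hu₀⟩ := Groth.Agent.Helper5.AlgSpCodim0.exists_stalk_dim_zero U.left Set.univ
      isOpen_univ ⟨x, trivial⟩
    have hu₀' := (Groth.Agent.Helper5.Codim0B.stalk_dim_zero_iff U.left u₀).1 hu₀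
    have hmax : ∀ u : U.left, Groth.Agent.Helper5.Codim0B.IsMaxPt u := fun u =>
      Groth.Agent.Helper5.Codim0B.isMaxPt_of_chart p₀ hpe p₀ hpe u₀ u (Subsingleton.elim _ _) hu₀'
    obtain ⟨O, hO, hxO, -⟩ := exists_isAffineOpen_mem_and_subset (X := U.left) (x := x)
      (U := ⊤) trivial
    have hnt : Nontrivial Γ(U.left, O) := by
      have : Nonempty (O : Type u) := ⟨⟨x, hxO⟩⟩
      exact (Scheme.component_nontrivial U.left O)
    have hdim : Ring.KrullDimLE 0 Γ(U.left, O) := krullDimLE_zero_of_isMaxPt O hO hmax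
    have hnoeth : IsNoetherianRing Γ(U.left, O) :=
      IsLocallyNoetherian.component_noetherian ⟨O, hO⟩
    have hart : IsArtinianRing Γ(U.left, O) := isArtinianRing_iff_krullDimLE_zero.2 hdim
    obtain ⟨m, hm⟩ := Ideal.exists_maximal Γ(U.left, O)
    have hmp : m.IsPrime := hm.isPrime
    have : Ring.KrullDimLE 0 (Localization.AtPrime m) :=
      .of_isLocalization _ (Ideal.mem_minimalPrimes_iff_isPrime.2 hmp) _
    let _ : Field (Localization.AtPrime m) := Ring.KrullDimLE.isField_of_isReduced.toField
    let j : Spec (CommRingCat.of (Localization.AtPrime m)) ⟶ U.left :=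
      Spec.map (CommRingCat.ofHom (algebraMap Γ(U.left, O) (Localization.AtPrime m))) ≫ hO.fromSpec
    have h2 : IsOpenImmersion hO.fromSpec := inferInstance
    have hj : Flat j := by
      have h1 : Flat (Spec.map (CommRingCat.ofHom
          (algebraMap Γ(U.left, O) (Localization.AtPrime m)))) := by
        rw [Flat.SpecMap_iff]
        show (algebraMap Γ(U.left, O) (Localization.AtPrime m)).Flat
        rw [RingHom.flat_algebraMap_iff]
        infer_instance
      infer_instance
    have hjp : LocallyOfFinitePresentation j := by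
      have h1 : LocallyOfFinitePresentation (Spec.map (CommRingCat.ofHom
          (algebraMap Γ(U.left, O) (Localization.AtPrime m)))) := by
        rw [HasRingHomProperty.Spec_iff (P := @LocallyOfFinitePresentation)]
        show (algebraMap Γ(U.left, O) (Localization.AtPrime m)).FinitePresentation
        exact RingHom.FinitePresentation.of_surjective _
          (IsArtinianRing.localization_surjective m.primeCompl _)
          (IsNoetherian.noetherian _)
      infer_instance
    let j' : Over.mk (j ≫ U.hom) ⟶ U := Over.homMk j rfl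
    refine ⟨Localization.AtPrime m, inferInstance, j ≫ U.hom, (yon S).map j' ≫ p₀, ?_, ?_, ?_⟩
    · have := good_lfp.comp
      refine Groth.Agent.Helper4.AlgSpLocPComp.locP_comp @LocallyOfFinitePresentation good_lfp
        (IsAlgSpace.yon_obj U) _ _ ?_ ?_
      · exact Groth.Agent.Helper4.AlgSpLocP.locP_of_repWith @LocallyOfFinitePresentation
          @LocallyOfFinitePresentation
          (fun g hg => hg) good_lfp.etale_le _ ((repWith_yon_map_iff _ _).2 hjp)
      · exact Groth.Agent.Helper4.AlgSpLocP.locP_of_repWith @LocallyOfFinitePresentation @Etale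
          good_lfp.etale_le good_lfp.etale_le _ hpe
    · have := good_flat.comp
      refine Groth.Agent.Helper4.AlgSpLocPComp.locP_comp @Flat good_flat
        (IsAlgSpace.yon_obj U) _ _ ?_ ?_
      · exact Groth.Agent.Helper4.AlgSpLocP.locP_of_repWith @Flat @Flat
          (fun g hg => hg) good_flat.etale_le _ ((repWith_yon_map_iff _ _).2 hj)
      · exact Groth.Agent.Helper4.AlgSpLocP.locP_of_repWith @Flat @Etale
          good_flat.etale_le good_flat.etale_le _ hpe
    · intro z'
      have hne : Nonempty (Spec (CommRingCat.of (Localization.AtPrime m))) := inferInstance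
      obtain ⟨y⟩ := hne
      exact ⟨Points.schemeHomeo (Over.mk (j ≫ U.hom)) y, Subsingleton.elim _ _⟩
  · rintro ⟨k, _, str, p, hpp, hpf, hps⟩
    obtain ⟨h1, h2, h3⟩ := (s10366 Z).2 ⟨k, inferInstance, str, p, hpf, hps⟩
    refine ⟨h1, ?_, h2, h3⟩
    refine Groth.Agent.Helper5.NoethDescSp.isLocNoethSp_of_fppf_surjective Z.property p hpp hpf hps ?_
    refine ⟨Over.mk str, 𝟙 _, ?_, ?_, ?_⟩
    · rw [← (yon S).map_id]; exact (repWith_yon_map_iff _ _).2 (by dsimp; infer_instance)
    · rw [← (yon S).map_id]; exact (repWith_yon_map_iff _ _).2 (by dsimp; infer_instance)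
    · show IsLocallyNoetherian (Spec (CommRingCat.of k))
      infer_instance

end Groth.Agent.Helper5.FlatPt
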