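import Mathlib
import Groth.Prelude.Def_EtBase
import Groth.Prelude.Def_EtShriek2
import Groth.Agent.Helper9.EtJCont
import Groth.Agent.Helper9.EtDisjGlue
import Groth.Agent.Helper6.GalDescC
import Groth.Agent.Helper5.FEtColim6
import Groth.Agent.Helper5.FEtGal3

set_option autoImplicit false
set_option linter.style.haveILetI false
set_option linter.unusedSectionVars false
set_option linter.unusedVariables false
universe u
open CategoryTheory CategoryTheory.Limits AlgebraicGeometry Opposite

namespace Groth.Agent.Helper5.FlcPush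

open Groth.Agent.Helper9.EtJCont

variable {V X' : Scheme.{u}} (f' : X' ⟶ V)

/-- the structure morphism of an object of the small étale site, with its codomain written out -/
abbrev hS {Y : Scheme.{u}} (T : Y.Etale) : T.left ⟶ Y := T.hom

section One

variable (s : V ⟶ X') [Etale s] (hs : s ≫ f' = 𝟙 V)

/-- the underlying map of the graph `W ⟶ W ×_V X'` -/
noncomputable def tauLeft (W : V.Etale) : W.left ⟶ pullback (hS W) f' :=
  pullback.lift (𝟙 W.left) (hS W ≫ s) (by rw [Category.id_comp, Category.assoc, hs, Category.comp_id])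

@[reassoc (attr := simp)]
theorem tauLeft_fst (W : V.Etale) : tauLeft f' s hs W ≫ pullback.fst (hS W) f' = 𝟙 _ :=
  pullback.lift_fst _ _ _

@[reassoc (attr := simp)]
theorem tauLeft_snd (W : V.Etale) : tauLeft f' s hs W ≫ pullback.snd (hS W) f' = hS W ≫ s :=
  pullback.lift_snd _ _ _

/-- the graph map is the base change of the section -/
theorem isPullback_tauLeft (W : V.Etale) :
    IsPullback (tauLeft f' s hs W) (hS W) (pullback.snd (hS W) f') s := by
  have h1 : IsPullback (pullback.fst (hS W) f') (pullback.snd (hS W) f') (hS W) f' :=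
    IsPullback.of_hasPullback (hS W) f'
  refine IsPullback.of_right ?_ (tauLeft_snd f' s hs W) h1
  rw [tauLeft_fst, hs]
  exact IsPullback.of_horiz_isIso ⟨by simp⟩

/-- the graph map `W ⟶ W ×_V X'` in the small étale site of `X'` -/
noncomputable def tauApp (W : V.Etale) :
    (EtShriek.compEtale s).obj W ⟶ (EtCoh.bc f').obj W :=
  MorphismProperty.Over.homMk (tauLeft f' s hs W) (tauLeft_snd f' s hs W) trivial

theorem tauApp_left (W : V.Etale) : (tauApp f' s hs W).left = tauLeft f' s hs W := rfl

/-- the underlying map of a base-changed morphism, with domain and codomain written out -/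
noncomputable def bcMapLeft {W W' : V.Etale} (g : W ⟶ W') :
    pullback (hS W) f' ⟶ pullback (hS W') f' := ((EtCoh.bc f').map g).left

@[reassoc]
theorem bcMapLeft_fst {W W' : V.Etale} (g : W ⟶ W') :
    bcMapLeft f' g ≫ pullback.fst (hS W') f' = pullback.fst (hS W) f' ≫ g.left := by
  dsimp [bcMapLeft, EtCoh.bc]
  exact pullback.lift_fst _ _ _

@[reassoc]
theorem bcMapLeft_snd {W W' : V.Etale} (g : W ⟶ W') :
    bcMapLeft f' g ≫ pullback.snd (hS W') f' = pullback.snd (hS W) f' := by
  dsimp [bcMapLeft, EtCoh.bc]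
  exact pullback.lift_snd _ _ _

/-- the graph maps form a natural transformation -/
noncomputable def tau : EtShriek.compEtale s ⟶ EtCoh.bc f' where
  app W := tauApp f' s hs W
  naturality W W' g := by
    apply MorphismProperty.Over.Hom.ext
    show g.left ≫ tauLeft f' s hs W' = tauLeft f' s hs W ≫ bcMapLeft f' g
    have hg : g.left ≫ hS W' = hS W := MorphismProperty.Over.w g
    apply pullback.hom_ext
    · rw [Category.assoc, tauLeft_fst, Category.comp_id, Category.assoc, bcMapLeft_fst,
        tauLeft_fst_assoc]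
    · rw [Category.assoc, tauLeft_snd, Category.assoc, bcMapLeft_snd, tauLeft_snd,
        ← Category.assoc, hg]

variable [EtShriek.JCont s]

/-- restriction of sections of `f'_* G` to the sheet `s` -/
noncomputable def Phi (G : EtCoh.Ab X') :
    (EtCoh.push f').obj G ⟶ (EtShriek.restrAlong s).obj G :=
  ⟨Functor.whiskerRight (NatTrans.op (tau f' s hs)) G.obj⟩

theorem Phi_hom_app (G : EtCoh.Ab X') (W : V.Etale) :
    (Phi f' s hs G).hom.app (op W) = G.obj.map (tauApp f' s hs W).op := rfl

end One

section Many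

variable {n : ℕ} (inj : Fin n → (V ⟶ X')) [∀ i, Etale (inj i)] (hinj : ∀ i, inj i ≫ f' = 𝟙 V)
  (hc : IsColimit (Cofan.mk X' inj))

include hc in
theorem exists_inj_eq (p : X') : ∃ (i : Fin n) (v : V), inj i v = p := by
  have hc' := (Cofan.isColimitEquivOfEquiv (Equiv.ulift.{u} (α := Fin n)) (Cofan.mk X' inj)) hc
  obtain ⟨i, v, hv⟩ := (Groth.Agent.Helper5.FEtColim.cofan_scheme_facts _ hc').2.1 p
  exact ⟨i.down, v, hv⟩

include hc in
theorem inj_ne {i j : Fin n} (hij : i ≠ j) (v w : V) : inj i v ≠ inj j w := by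
  have hc' := (Cofan.isColimitEquivOfEquiv (Equiv.ulift.{u} (α := Fin n)) (Cofan.mk X' inj)) hc
  exact Groth.Agent.Helper5.FEtGal.cofan_scheme_disjoint _ hc' (i := ⟨i⟩) (j := ⟨j⟩)
    (fun h => hij (congrArg ULift.down h)) v w

include hc in
/-- sections of `G` over `W ×_V X'` are families of sections over the sheets -/
theorem existsUnique_sections (G : EtCoh.Ab X') (W : V.Etale)
    (x : ∀ i : Fin n, G.obj.obj (op ((EtShriek.compEtale (inj i)).obj W))) :
    ∃! t : G.obj.obj (op ((EtCoh.bc f').obj W)),
      ∀ i, G.obj.map (tauApp f' (inj i) (hinj i) W).op t = x i := by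
  refine Groth.Agent.Helper9.EtDisjGlue.existsUnique_glue
    (fun i => (EtShriek.compEtale (inj i)).obj W) (fun i => tauApp f' (inj i) (hinj i) W)
    ?_ ?_ ?_ (G.obj ⋙ forget AddCommGrpCat) (Groth.Agent.Helper6.GalDescC.isSheaf_forget G) x
  · intro i
    apply Groth.Agent.Helper9.EtDisjGlue.mono_of_mono_left
    have : IsSplitMono (tauLeft f' (inj i) (hinj i) W) :=
      ⟨⟨⟨pullback.fst (hS W) f', tauLeft_fst f' (inj i) (hinj i) W⟩⟩⟩
    exact (inferInstance : Mono (tauLeft f' (inj i) (hinj i) W))
  · intro p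
    obtain ⟨i, v, hv⟩ := exists_inj_eq inj hc (pullback.snd (hS W) f' p)
    obtain ⟨w, hw, -⟩ := Groth.Agent.Helper5.FEtColim.exists_preimage_of_isPullback
      (isPullback_tauLeft f' (inj i) (hinj i) W) p v hv.symm
    exact ⟨i, w, hw⟩
  · intro i j hij w w' h
    have key : ∀ (i : Fin n) (w : W.left),
        pullback.snd (hS W) f' (tauLeft f' (inj i) (hinj i) W w) = inj i (hS W w) := by
      intro i w
      rw [← Scheme.Hom.comp_apply, tauLeft_snd, Scheme.Hom.comp_apply]
    have h2 := congrArg (fun q => pullback.snd (hS W) f' q) h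
    simp only [tauApp_left] at h2
    exact inj_ne inj hc hij _ _ ((key i w).symm.trans (h2.trans (key j w')))

include hc in
/-- `f'_* G` is the product of the restrictions of `G` to the sheets -/
theorem isLimit_fan (G : EtCoh.Ab X') :
    Nonempty (IsLimit (Fan.mk ((EtCoh.push f').obj G)
      (fun i => Phi f' (inj i) (hinj i) G))) := by
  refine ⟨isLimitOfReflects (sheafToPresheaf _ _) ?_⟩
  refine evaluationJointlyReflectsLimits _ (fun W => ?_)
  refine isLimitOfReflects (forget AddCommGrpCat) ?_
  refine ((Types.isLimit_iff _).2 ?_).some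
  intro x hx
  obtain ⟨t, ht, hu⟩ := existsUnique_sections f' inj hinj hc G W.unop (fun i => x ⟨i⟩)
  refine ⟨t, ?_, ?_⟩
  · rintro ⟨i⟩
    exact ht i
  · intro t' ht'
    exact hu t' (fun i => ht' ⟨i⟩)

end Many

end Groth.Agent.Helper5.FlcPush
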