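import Mathlib
import Groth.Agent.Helper4.LcExtD
import Groth.Agent.Helper5.FlcPush1

set_option autoImplicit false
set_option linter.style.haveILetI false
set_option linter.unusedSectionVars false
set_option linter.unusedVariables false
universe u
open CategoryTheory CategoryTheory.Limits AlgebraicGeometry Opposite

namespace Groth.Agent.Helper5.FlcPush

open Groth.Agent.Helper4.LcPoint Groth.Agent.Helper4.ConstLoc Groth.Agent.Helper4.OverEtC
  Groth.Agent.Helper4.FlcPull

variable {X : Scheme.{u}}

theorem isZero_cS (Y : Scheme.{u}) (N : AddCommGrpCat.{u + 1}) (hN : IsZero N) :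
    IsZero (cS Y N) := by
  have h1 : IsTerminal N := hN.isTerminal
  have h2 : IsTerminal ((constantSheaf Y.smallEtaleTopology AddCommGrpCat.{u + 1}).obj N) :=
    h1.isTerminalObj _ _
  exact IsZero.of_iso (isZero_zero _) (h2.uniqueUpToIso HasZeroObject.zeroIsTerminal)

/-- a zero sheaf is locally constant with finite fibres -/
theorem lc_of_isZero {Z : EtCoh.Ab X} (hZ : IsZero Z) (x : X) : LC Z x := by
  have hN : IsZero (AddCommGrpCat.of PUnit.{u + 2}) := AddCommGrpCat.isZero_of_subsingleton _
  refine ⟨Scheme.Etale.mk (𝟙 X), x, rfl, AddCommGrpCat.of PUnit.{u + 2},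
    (inferInstance : Finite PUnit.{u + 2}), ⟨?_⟩⟩
  exact ((EtCoh.pull _).map_isZero hZ).iso (isZero_cS _ _ hN)

/-- a binary biproduct of sheaves locally constant at `x` is locally constant at `x` -/
theorem lc_biprod {A B : EtCoh.Ab X} {x : X} (hA : LC A x) (hB : LC B x) : LC (A ⊞ B) x :=
  Groth.Agent.Helper4.LcExtD.lc_ext_of_lc
    (ShortComplex.mk (biprod.inl : A ⟶ A ⊞ B) (biprod.snd : A ⊞ B ⟶ B) (by simp))
    (ShortComplex.Splitting.ofHasBinaryBiproduct A B).shortExact hA hB

/-- a finite product of sheaves locally constant at `x` is locally constant at `x` -/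
theorem lc_pi : ∀ (n : ℕ) (A : Fin n → EtCoh.Ab X) (x : X), (∀ i, LC (A i) x) → LC (∏ᶜ A) x := by
  intro n
  induction n with
  | zero =>
    intro A x _
    apply lc_of_isZero
    have : IsTerminal (∏ᶜ A) := by
      refine IsTerminal.ofUniqueHom (fun Y => Pi.lift (fun i => i.elim0)) ?_
      intro Y m
      apply Pi.hom_ext
      intro i
      exact i.elim0
    exact IsZero.of_iso (isZero_zero _) (this.uniqueUpToIso HasZeroObject.zeroIsTerminal)
  | succ n ih =>
    intro A x hA
    have h1 : LC (∏ᶜ fun i : Fin n => A i.succ) x := ih _ x (fun i => hA i.succ)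
    have h2 : LC (A 0 ⊞ ∏ᶜ fun i : Fin n => A i.succ) x := lc_biprod (hA 0) h1
    let c₁ : Fan (fun i : Fin n => A i.succ) := Fan.mk _ (Pi.π (fun i : Fin n => A i.succ))
    have hc₁ : IsLimit c₁ := productIsProduct _
    let c₂ : BinaryFan (A 0) c₁.pt := BinaryBiproduct.bicone (A 0) c₁.pt |>.toCone
    have hc₂ : IsLimit c₂ := BinaryBiproduct.isLimit _ _
    have hl := extendFanIsLimit (f := A) hc₁ hc₂
    exact h2.of_iso (hl.conePointUniqueUpToIso (productIsProduct A))

/-- the point of a limit fan of sheaves locally constant at `x` is locally constant at `x` -/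
theorem lc_of_isLimit_fan {n : ℕ} {A : Fin n → EtCoh.Ab X} {x : X} (hA : ∀ i, LC (A i) x)
    (c : Fan A) (hc : IsLimit c) : LC c.pt x :=
  (lc_pi n A x hA).of_iso ((productIsProduct A).conePointUniqueUpToIso hc)

end Groth.Agent.Helper5.FlcPush
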