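import Mathlib
import Groth.Agent.Helper3.FRank2
import Groth.Agent.Helper9.StalkBC5
import Groth.Agent.Helper9.EtShriekOpen
import Groth.Agent.Helper5.FlcPush2

set_option autoImplicit false
set_option linter.style.haveILetI false
set_option linter.unusedSectionVars false
set_option linter.unusedVariables false
universe u
open CategoryTheory CategoryTheory.Limits AlgebraicGeometry Opposite

namespace Groth.Agent.Helper5.FlcPush

open Groth.Agent.Helper4.LcPoint Groth.Agent.Helper4.ConstLoc Groth.Agent.Helper4.OverEtC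
  Groth.Agent.Helper4.FlcPull

/-- the direct image along a split finite étale cover of a sheaf locally constant everywhere is
locally constant -/
theorem lc_push_split {V X' : Scheme.{u}} (f' : X' ⟶ V) {n : ℕ} (inj : Fin n → (V ⟶ X'))
    [∀ i, Etale (inj i)] (hinj : ∀ i, inj i ≫ f' = 𝟙 V) (hc : IsColimit (Cofan.mk X' inj))
    (G : EtCoh.Ab X') (hG : ∀ p : X', LC G p) (v : V) : LC ((EtCoh.push f').obj G) v := by
  obtain ⟨hl⟩ := isLimit_fan f' inj hinj hc G
  refine lc_of_isLimit_fan (fun i => ?_) _ hl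
  exact ((hG (inj i v)).pull (inj i) v).of_iso
    ((Groth.Agent.Helper9.EtShriekOpen.pullIsoRestr (inj i)).app G)

/-- the direct image of a finite locally constant sheaf along a finite étale morphism is finite
locally constant -/
theorem main {X Y : Scheme.{u}} (f : X ⟶ Y) [IsFinite f] [Etale f] (F : EtCoh.Ab X)
    (h : EtCoh.IsFiniteLocallyConstant F) :
    EtCoh.IsFiniteLocallyConstant ((EtCoh.push f).obj F) := by
  rw [flc_iff_forall_LC] at h ⊢
  intro y
  let n := f.finrank y
  have hlc := Scheme.Hom.isLocallyConstant_finrank f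
  let U : Y.Opens := ⟨f.finrank ⁻¹' {n}, hlc.isOpen_fiber n⟩
  let φ := pullback.snd f U.ι
  have hrank : ∀ s, φ.finrank s = n := by
    intro s
    have h1 : U.ι s ∈ Set.range U.ι := ⟨s, rfl⟩
    rw [Scheme.Opens.range_ι] at h1
    exact (Scheme.Hom.finrank_pullback_snd f U.ι s).trans h1
  obtain ⟨V, ψ, hψf, hψe, hψs, -, inj, hinj, ⟨hcol⟩⟩ :=
    Groth.Agent.Helper3.FSplit.splitDeg n φ hrank
  let g : V ⟶ Y := ψ ≫ U.ι
  have hge : Etale g := inferInstance
  let f' : pullback φ ψ ⟶ V := pullback.snd φ ψ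
  let g' : pullback φ ψ ⟶ X := pullback.fst φ ψ ≫ pullback.fst f U.ι
  have hpb : IsPullback g' f' f g :=
    ((IsPullback.of_hasPullback φ ψ).flip.paste_vert (IsPullback.of_hasPullback f U.ι).flip).flip
  have hyU : y ∈ U := rfl
  obtain ⟨v, hv⟩ := hψs.surj ⟨y, hyU⟩
  have hgv : g v = y := by
    show (ψ ≫ U.ι) v = y
    rw [Scheme.Hom.comp_apply, hv]
    rfl
  have hf'e : Etale f' := inferInstance
  have hinje : ∀ i, Etale (inj i) := by
    intro i
    have h1 : Etale (inj i ≫ f') := by rw [hinj i]; infer_instance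
    exact MorphismProperty.of_postcomp (W := @Etale) (W' := @Etale) (inj i) f' hf'e h1
  have hiso : IsIso (EtCoh.baseChange0 f g f' g' hpb.w F) :=
    Groth.Agent.Helper9.StalkBC5.main f g f' g' hpb F
  have h1 : LC ((EtCoh.push f').obj ((EtCoh.pull g').obj F)) v :=
    lc_push_split f' inj hinj hcol _ (fun p => (h (g' p)).pull g' p) v
  have h2 : LC ((EtCoh.pull g).obj ((EtCoh.push f).obj F)) v :=
    h1.of_iso (asIso (EtCoh.baseChange0 f g f' g' hpb.w F)).symm
  have h3 := LC.trans (Scheme.Etale.mk g) v h2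
  rw [← hgv]
  exact h3

end Groth.Agent.Helper5.FlcPush
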