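import Mathlib
import Groth.Agent.Helper5.FlfSch2

/-!
# S10411: finite locally free covers and the schematic locus
-/

set_option autoImplicit false
universe u
open CategoryTheory CategoryTheory.Limits AlgebraicGeometry TopologicalSpace Opposite AlgSp Topology

namespace Groth.Agent.Helper5.FlfSch

open Groth.Agent.Helper4 Groth.Agent.Helper4.AlgSpPtsDesc Groth.Agent.Helper4.AlgSpQC2

variable {S : Scheme.{u}}

theorem exists_affine_open_of_open_subscheme {X Y : Space S} (f : X ⟶ Y)
    (hf : IsFinLocFreeMor f.hom) (y : Points Y.obj)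
    (Y' : Space S) (j : Y' ⟶ Y) (hj : RepWith @IsOpenImmersion j.hom)
    (hrep : Y'.obj.obj.IsRepresentable) (hy : y ∈ Set.range (Points.map j.hom)) :
    ∃ (U : Over S) (a : (yon S).obj U ⟶ X.obj), IsAffine U.left ∧ RepWith @IsOpenImmersion a ∧
      Points.map f.hom ⁻¹' {y} ⊆ Set.range (Points.ofPt a) := by
  have i1 := repWith_isStableUnderBaseChange (S := S) @IsOpenImmersion
  obtain ⟨T', ⟨r⟩⟩ := hrep
  let e : (yon S).obj T' ≅ Y'.obj := isoOfRepresentableBy r
  let b₀ : (yon S).obj T' ⟶ Y.obj := e.hom ≫ j.hom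
  have hb₀ : RepWith @IsOpenImmersion b₀ :=
    (MorphismProperty.cancel_left_of_respectsIso (RepWith (S := S) @IsOpenImmersion) e.hom j.hom).2 hj
  obtain ⟨y', rfl⟩ := hy
  let z : Points ((yon S).obj T') := Points.map e.inv y'
  obtain ⟨t', ht'⟩ := (Points.schemeHomeo T').surjective z
  have hyt : Points.map j.hom y' = Points.ofPt b₀ t' := by
    rw [← ofPt_eq_map_schemeHomeo, ht']
    show _ = Points.map (e.hom ≫ j.hom) (Points.map e.inv y')
    rw [← Points.map_comp, Iso.inv_hom_id_assoc]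
  obtain ⟨_, ⟨(V₀ : T'.left.Opens), hV₀, rfl⟩, ht'V₀, -⟩ :=
    (T'.left.isBasis_affineOpens).exists_subset_of_mem_open (Set.mem_univ t') isOpen_univ
  let V : Over S := Over.mk (V₀.ι ≫ T'.hom)
  let ιV : V ⟶ T' := Over.homMk V₀.ι rfl
  let b : (yon S).obj V ⟶ Y.obj := (yon S).map ιV ≫ b₀
  have hb : RepWith @IsOpenImmersion b :=
    Groth.Agent.Helper4.AlgSpSrc.repWith_comp _
      ((repWith_yon_map_iff _ _).2 (show IsOpenImmersion V₀.ι from inferInstance)) hb₀
  let v : ↥V.left := (⟨t', ht'V₀⟩ : ↥V₀.toScheme)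
  have hyv : Points.map j.hom y' = Points.ofPt b v := by
    rw [hyt]
    exact (ofPt_yon_map_comp ιV b₀ v).symm
  have sq := hf.rep.isPullback b
  have hP : finLocFree (hf.rep.snd b).left := hf.property b _ _ sq
  generalize hf.rep.snd b = snd at sq hP
  generalize hf.rep.fst b = fst at sq
  generalize hf.rep.pullback b = P at fst snd sq hP
  haveI : IsAffine V.left := hV₀
  haveI : IsFinite snd.left := hP.1
  have hPaff : IsAffine P.left := isAffine_of_isAffineHom snd.left
  have hfst : RepWith @IsOpenImmersion fst := MorphismProperty.of_isPullback sq.flip hb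
  refine ⟨P, fst, hPaff, hfst, ?_⟩
  intro x hx
  have hx' : Points.map f.hom x = Points.map b (Points.schemeHomeo V v) := by
    rw [ofPt_eq_map_schemeHomeo, ← hyv]
    exact hx
  obtain ⟨p, hp1, -⟩ := exists_point_of_isPullback sq x _ hx'
  rw [← Groth.Agent.Helper5.AlgSpOpen.range_map_eq_range_ofPt]
  exact ⟨p, hp1⟩

/-- S10411 -/
theorem s10411 {X Y : Space S} (f : X ⟶ Y)
    (hf : IsFinLocFreeMor f.hom) (hs : RepWith @Surjective f.hom) (y : Points Y.obj) :
    (∃ (Y' : Space S) (j : Y' ⟶ Y), RepWith @IsOpenImmersion j.hom ∧ Y'.obj.obj.IsRepresentable ∧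
        y ∈ Set.range (Points.map j.hom)) ↔
      ∃ (U : Over S) (a : (yon S).obj U ⟶ X.obj), IsAffine U.left ∧ RepWith @IsOpenImmersion a ∧
        Points.map f.hom ⁻¹' {y} ⊆ Set.range (Points.ofPt a) := by
  constructor
  · rintro ⟨Y', j, hj, hrep, hy⟩
    exact exists_affine_open_of_open_subscheme f hf y Y' j hj hrep hy
  · rintro ⟨U, a, hU, ha, hya⟩
    haveI := hU
    exact exists_open_subscheme_of_affine_open f hf hs y a ha hya

end Groth.Agent.Helper5.FlfSch
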