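import Mathlib
import Groth.Agent.Helper5.MvPSIdeal
import Groth.Agent.Helper5.CompleteNak

set_option autoImplicit false
universe u

namespace Groth.Agent.Helper5.FormalInv

open MvPowerSeries Finsupp

/-- Decomposition with degree bookkeeping. -/
theorem exists_decomp_deg {R : Type*} [CommRing R] {d : ℕ} (N : ℕ) (q : MvPowerSeries (Fin d) R)
    (hq : ∀ e : Fin d →₀ ℕ, e.degree < N + 1 → coeff e q = 0) :
    ∃ g : Fin d → MvPowerSeries (Fin d) R, q = ∑ i, X i * g i ∧
      ∀ i (e : Fin d →₀ ℕ), e.degree < N → coeff e (g i) = 0 := by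
  classical
  -- reuse the construction: apply exists_decomp to q and to shifted pieces
  have hq0 : constantCoeff q = 0 := by
    rw [← coeff_zero_eq_constantCoeff_apply]
    exact hq 0 (by simp)
  obtain ⟨G, hG⟩ : ∃ G : Fin d → MvPowerSeries (Fin d) R, ∀ i e, coeff e (G i) =
      if (∀ j < i, e j = 0) then coeff (e + single i 1) q else 0 :=
    ⟨fun i => fun e => if (∀ j < i, e j = 0) then coeff (e + single i 1) q else 0, fun i e => rfl⟩
  refine ⟨G, ?_, ?_⟩
  · ext e
    rw [map_sum]
    have hterm : ∀ i : Fin d, coeff e (X i * G i)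
        = if (1 ≤ e i ∧ ∀ j < i, e j = 0) then coeff e q else 0 := by
      intro i
      rw [X_def, coeff_monomial_mul, one_mul]
      have hle : single i 1 ≤ e ↔ 1 ≤ e i := Finsupp.single_le_iff
      by_cases h1 : 1 ≤ e i
      · rw [if_pos (hle.mpr h1), hG, tsub_add_cancel_of_le (hle.mpr h1)]
        have hcond : (∀ j < i, (e - single i 1 : Fin d →₀ ℕ) j = 0) ↔ ∀ j < i, e j = 0 := by
          constructor
          · intro h j hj
            have := h j hj
            rw [Finsupp.tsub_apply, Finsupp.single_eq_of_ne (ne_of_lt hj), tsub_zero] at this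
            exact this
          · intro h j hj
            rw [Finsupp.tsub_apply, Finsupp.single_eq_of_ne (ne_of_lt hj), tsub_zero]
            exact h j hj
        simp only [hcond, h1, true_and]
      · rw [if_neg (fun h => h1 (hle.mp h)), if_neg (fun h => h1 h.1)]
    rw [Finset.sum_congr rfl (fun i _ => hterm i)]
    by_cases he : e = 0
    · subst he
      simp only [Finsupp.coe_zero, Pi.zero_apply, nonpos_iff_eq_zero, one_ne_zero, false_and, if_false,
        Finset.sum_const_zero]
      exact hq0
    · have hsupp : e.support.Nonempty := Finsupp.support_nonempty_iff.mpr he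
      obtain ⟨i₀, hi₀⟩ : ∃ i₀, i₀ = e.support.min' hsupp := ⟨_, rfl⟩
      have hi₀mem : i₀ ∈ e.support := hi₀ ▸ Finset.min'_mem _ _
      have hi₀min : ∀ j < i₀, e j = 0 := by
        intro j hj
        by_contra hne
        have : j ∈ e.support := Finsupp.mem_support_iff.mpr hne
        have := Finset.min'_le _ _ this
        rw [← hi₀] at this
        exact absurd hj (not_lt.mpr this)
      rw [Finset.sum_eq_single i₀]
      · rw [if_pos ⟨Nat.one_le_iff_ne_zero.mpr (Finsupp.mem_support_iff.mp hi₀mem), hi₀min⟩]
      · intro i _ hne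
        rw [if_neg]
        rintro ⟨h1, h2⟩
        rcases lt_or_gt_of_ne hne with h | h
        · have := hi₀min i h; omega
        · have := h2 i₀ h
          exact (Finsupp.mem_support_iff.mp hi₀mem) this
      · intro h; exact absurd (Finset.mem_univ _) h
  · intro i e he
    rw [hG]
    split_ifs with h
    · apply hq
      rw [map_add, Finsupp.degree_single]
      omega
    · rfl

/-- Vanishing of low-degree coefficients implies membership in the power of the ideal of variables. -/
theorem mem_pow_span_X {R : Type*} [CommRing R] {d : ℕ} (N : ℕ) :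
    ∀ q : MvPowerSeries (Fin d) R, (∀ e : Fin d →₀ ℕ, e.degree < N → coeff e q = 0) →
      q ∈ Ideal.span (Set.range (X : Fin d → MvPowerSeries (Fin d) R)) ^ N := by
  induction N with
  | zero => intro q _; rw [pow_zero, Ideal.one_eq_top]; trivial
  | succ N ih =>
    intro q hq
    obtain ⟨g, hg, hg'⟩ := exists_decomp_deg N q hq
    rw [hg, pow_succ']
    refine Ideal.sum_mem _ fun i _ => ?_
    exact Ideal.mul_mem_mul (Ideal.subset_span ⟨i, rfl⟩) (ih (g i) (hg' i))

theorem constantCoeff_eq_zero_of_mem {R : Type*} [CommRing R] {d : ℕ} (q : MvPowerSeries (Fin d) R)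
    (hq : q ∈ Ideal.span (Set.range (X : Fin d → MvPowerSeries (Fin d) R))) :
    constantCoeff q = 0 := by
  have : Ideal.span (Set.range (X : Fin d → MvPowerSeries (Fin d) R)) ≤
      RingHom.ker (constantCoeff (σ := Fin d) (R := R)) := by
    rw [Ideal.span_le]
    rintro _ ⟨i, rfl⟩
    exact constantCoeff_X i
  exact this hq

theorem coeff_single_eq_zero_of_mem_sq {R : Type*} [CommRing R] {d : ℕ} (q : MvPowerSeries (Fin d) R)
    (hq : q ∈ Ideal.span (Set.range (X : Fin d → MvPowerSeries (Fin d) R)) ^ 2) (j : Fin d) :
    coeff (single j 1) q = 0 := by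
  classical
  rw [pow_two] at hq
  refine Submodule.mul_induction_on hq ?_ ?_
  · intro a ha b hb
    have ha0 := constantCoeff_eq_zero_of_mem a ha
    have hb0 := constantCoeff_eq_zero_of_mem b hb
    rw [coeff_mul]
    apply Finset.sum_eq_zero
    rintro ⟨u, v⟩ huv
    rw [Finset.HasAntidiagonal.mem_antidiagonal] at huv
    simp only
    by_cases hu : u = 0
    · rw [hu, coeff_zero_eq_constantCoeff_apply, ha0, zero_mul]
    · have hv : v = 0 := by
        by_contra hv
        have h1 : 1 ≤ u.degree := by
          rw [Nat.one_le_iff_ne_zero, Ne, Finsupp.degree_eq_zero_iff]; exact hu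
        have h2 : 1 ≤ v.degree := by
          rw [Nat.one_le_iff_ne_zero, Ne, Finsupp.degree_eq_zero_iff]; exact hv
        have huv' : u + v = single j 1 := huv
        have h3 := congrArg Finsupp.degree huv'
        rw [map_add, Finsupp.degree_single] at h3
        omega
      rw [hv, coeff_zero_eq_constantCoeff_apply, hb0, mul_zero]
  · intro x y hx hy
    rw [map_add, hx, hy, add_zero]

end Groth.Agent.Helper5.FormalInv
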