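import Mathlib
import Groth.Agent.Helper5.FormalInv

set_option autoImplicit false
universe u

namespace Groth.Agent.Helper5.FormalInv2

open MvPowerSeries Finsupp

/-- An algebra endomorphism sending variables into the ideal of variables preserves its powers. -/
theorem map_pow_le {R : Type*} [CommRing R] {d : ℕ}
    (χ : MvPowerSeries (Fin d) R →ₐ[R] MvPowerSeries (Fin d) R)
    (h0 : ∀ i, constantCoeff (χ (X i)) = 0) (N : ℕ) (q : MvPowerSeries (Fin d) R)
    (hq : q ∈ Ideal.span (Set.range (X : Fin d → MvPowerSeries (Fin d) R)) ^ N) :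
    χ q ∈ Ideal.span (Set.range (X : Fin d → MvPowerSeries (Fin d) R)) ^ N := by
  have h1 : (Ideal.span (Set.range (X : Fin d → MvPowerSeries (Fin d) R))).map χ.toRingHom ≤
      Ideal.span (Set.range (X : Fin d → MvPowerSeries (Fin d) R)) := by
    rw [Ideal.map_span, Ideal.span_le]
    rintro _ ⟨_, ⟨i, rfl⟩, rfl⟩
    exact Groth.Agent.Helper5.MvPSIdeal.mem_span_X _ (h0 i)
  have h2 := Ideal.mem_map_of_mem χ.toRingHom hq
  rw [Ideal.map_pow] at h2
  exact Ideal.pow_right_mono h1 N h2

/-- An algebra endomorphism fixing the variables fixes polynomials. -/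
theorem fix_poly {R : Type*} [CommRing R] {d : ℕ}
    (χ : MvPowerSeries (Fin d) R →ₐ[R] MvPowerSeries (Fin d) R)
    (hX : ∀ i, χ (X i) = X i) (p : MvPolynomial (Fin d) R) :
    χ (p : MvPowerSeries (Fin d) R) = (p : MvPowerSeries (Fin d) R) := by
  have h : χ.comp (MvPolynomial.coeToMvPowerSeries.algHom R) = MvPolynomial.coeToMvPowerSeries.algHom R := by
    apply MvPolynomial.algHom_ext
    intro i
    simp only [AlgHom.comp_apply, MvPolynomial.coeToMvPowerSeries.algHom_apply, Algebra.algebraMap_self,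
      MvPowerSeries.map_id, RingHom.id_apply, MvPolynomial.coe_X]
    exact hX i
  have := DFunLike.congr_fun h p
  simpa [MvPolynomial.coeToMvPowerSeries.algHom_apply] using this

/-- An algebra endomorphism fixing the variables is the identity. -/
theorem eq_id_of_fix {R : Type*} [CommRing R] {d : ℕ}
    (χ : MvPowerSeries (Fin d) R →ₐ[R] MvPowerSeries (Fin d) R)
    (hX : ∀ i, χ (X i) = X i) (p : MvPowerSeries (Fin d) R) : χ p = p := by
  rw [← sub_eq_zero]
  apply IsHausdorff.haus' (I := Ideal.span (Set.range (X : Fin d → MvPowerSeries (Fin d) R))) (χ p - p)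
  intro N
  rw [SModEq.zero, smul_eq_mul, Ideal.mul_top]
  obtain ⟨r, hr⟩ : ∃ r, r = p - ((truncTotal N p : MvPolynomial (Fin d) R) : MvPowerSeries (Fin d) R) := ⟨_, rfl⟩
  have hrN : r ∈ Ideal.span (Set.range (X : Fin d → MvPowerSeries (Fin d) R)) ^ N := by
    apply Groth.Agent.Helper5.FormalInv.mem_pow_span_X
    intro e he
    rw [hr, map_sub, MvPolynomial.coeff_coe, coeff_truncTotal _ he, sub_self]
  have hχr : χ r ∈ Ideal.span (Set.range (X : Fin d → MvPowerSeries (Fin d) R)) ^ N :=
    map_pow_le χ (fun i => by rw [hX, constantCoeff_X]) N r hrN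
  have : χ p - p = χ r - r := by
    have hp : p = r + ((truncTotal N p : MvPolynomial (Fin d) R) : MvPowerSeries (Fin d) R) := by
      rw [hr]; ring
    conv_lhs => rw [hp, map_add, fix_poly χ hX]
    ring
  rw [this]
  exact Ideal.sub_mem _ hχr hrN

/-- The ideal of variables lies in the Jacobson radical. -/
theorem span_X_le_jacobson {R : Type*} [CommRing R] {d : ℕ} :
    Ideal.span (Set.range (X : Fin d → MvPowerSeries (Fin d) R)) ≤ Ideal.jacobson ⊥ := by
  intro x hx
  rw [Ideal.mem_jacobson_bot]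
  intro y
  rw [MvPowerSeries.isUnit_iff_constantCoeff, map_add, map_mul,
    Groth.Agent.Helper5.FormalInv.constantCoeff_eq_zero_of_mem x hx, zero_mul, zero_add, map_one]
  exact isUnit_one

/-- Surjectivity from invertibility of the Jacobian. -/
theorem surjective_of_jacobian {R : Type*} [CommRing R] {d : ℕ}
    (φ : MvPowerSeries (Fin d) R →ₐ[R] MvPowerSeries (Fin d) R)
    (h0 : ∀ i, constantCoeff (φ (X i)) = 0)
    (hJ : IsUnit (Matrix.det (Matrix.of fun i j : Fin d => coeff (single j 1) (φ (X i))))) :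
    Function.Surjective φ := by
  classical
  obtain ⟨I, hI⟩ : ∃ I : Ideal (MvPowerSeries (Fin d) R),
      I = Ideal.span (Set.range (X : Fin d → MvPowerSeries (Fin d) R)) := ⟨_, rfl⟩
  obtain ⟨J, hJdef⟩ : ∃ J : Matrix (Fin d) (Fin d) R,
      J = Matrix.of fun i j : Fin d => coeff (single j 1) (φ (X i)) := ⟨_, rfl⟩
  rw [← hJdef] at hJ
  have hmapI : I.map φ.toRingHom ≤ I := by
    rw [hI, Ideal.map_span, Ideal.span_le]
    rintro _ ⟨_, ⟨i, rfl⟩, rfl⟩
    exact Groth.Agent.Helper5.MvPSIdeal.mem_span_X _ (h0 i)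
  -- q_i := φ(X_i) - Σ_j C(J_ij) X_j ∈ I²
  have hq : ∀ i, φ (X i) - ∑ j, C (J i j) * X j ∈ I ^ 2 := by
    intro i
    rw [hI]
    apply Groth.Agent.Helper5.MvPSIdeal.mem_span_X_sq
    · rw [map_sub, h0, map_sum, zero_sub, neg_eq_zero]
      apply Finset.sum_eq_zero
      intro j _
      rw [map_mul, constantCoeff_X, mul_zero]
    · intro l
      rw [map_sub, map_sum, Finset.sum_eq_single l]
      · rw [coeff_C_mul, coeff_X, if_pos rfl, mul_one, hJdef, Matrix.of_apply, sub_self]
      · intro j _ hjl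
        rw [coeff_C_mul, coeff_X, if_neg, mul_zero]
        intro h
        apply hjl
        have := congrArg (fun f => f l) h
        simp only [Finsupp.single_eq_same] at this
        by_contra hne
        rw [Finsupp.single_eq_of_ne (Ne.symm hne)] at this
        exact one_ne_zero this
      · intro h; exact absurd (Finset.mem_univ _) h
  have hJinv : J⁻¹ * J = 1 := Matrix.nonsing_inv_mul J hJ
  have hXl : ∀ l, X l ∈ I.map φ.toRingHom ⊔ I • I := by
    intro l
    have h1 : (X l : MvPowerSeries (Fin d) R) = ∑ i, C (J⁻¹ l i) * φ (X i) -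
        ∑ i, C (J⁻¹ l i) * (φ (X i) - ∑ j, C (J i j) * X j) := by
      rw [← Finset.sum_sub_distrib]
      have h2 : ∀ i, C (J⁻¹ l i) * φ (X i) - C (J⁻¹ l i) * (φ (X i) - ∑ j, C (J i j) * X j)
          = ∑ j, C (J⁻¹ l i * J i j) * X j := by
        intro i
        rw [← mul_sub, sub_sub_cancel, Finset.mul_sum]
        refine Finset.sum_congr rfl fun j _ => ?_
        rw [map_mul, mul_assoc]
      rw [Finset.sum_congr rfl (fun i _ => h2 i), Finset.sum_comm]
      have h3 : ∀ j, ∑ i, C (J⁻¹ l i * J i j) * (X j : MvPowerSeries (Fin d) R)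
          = C ((1 : Matrix (Fin d) (Fin d) R) l j) * X j := by
        intro j
        rw [← Finset.sum_mul, ← map_sum, ← hJinv, Matrix.mul_apply]
      rw [Finset.sum_congr rfl (fun j _ => h3 j), Finset.sum_eq_single l]
      · rw [Matrix.one_apply_eq, map_one, one_mul]
      · intro j _ hjl
        rw [Matrix.one_apply_ne (Ne.symm hjl), map_zero, zero_mul]
      · intro h; exact absurd (Finset.mem_univ _) h
    rw [h1]
    apply Submodule.sub_mem
    · apply Submodule.mem_sup_left
      refine Ideal.sum_mem _ fun i _ => Ideal.mul_mem_left _ _ ?_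
      exact Ideal.mem_map_of_mem _ (hI ▸ Ideal.subset_span ⟨i, rfl⟩)
    · apply Submodule.mem_sup_right
      refine Ideal.sum_mem _ fun i _ => Ideal.mul_mem_left _ _ ?_
      rw [smul_eq_mul, ← pow_two]
      exact hq i
  have hI_le : I ≤ I.map φ.toRingHom := by
    have hfg : (I : Submodule (MvPowerSeries (Fin d) R) (MvPowerSeries (Fin d) R)).FG := by
      rw [hI]
      exact ⟨(Finset.univ.image X), by simp [Ideal.span]⟩
    refine Submodule.le_of_le_smul_of_le_jacobson_bot hfg (hI ▸ span_X_le_jacobson) ?_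
    rw [hI, Ideal.span_le]
    rintro _ ⟨l, rfl⟩
    rw [← hI]
    exact hXl l
  have : IsPrecomplete I (MvPowerSeries (Fin d) R) := by rw [hI]; infer_instance
  have : IsHausdorff I (MvPowerSeries (Fin d) R) := by rw [hI]; infer_instance
  refine Groth.Agent.Helper5.CompleteNak.surjective_of_adic φ.toRingHom I I hI_le hmapI ?_
  intro s
  refine ⟨C (constantCoeff s), ?_⟩
  have h1 : φ.toRingHom (C (constantCoeff s)) = C (constantCoeff s) := by
    have := φ.commutes (constantCoeff s)
    simpa [MvPowerSeries.algebraMap_apply] using this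
  rw [h1, hI]
  apply Groth.Agent.Helper5.MvPSIdeal.mem_span_X
  rw [map_sub, constantCoeff_C, sub_self]

end Groth.Agent.Helper5.FormalInv2
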