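import Groth.Agent.Helper5.YonCoprod
import Groth.Agent.Helper4.AlgSpPB
import Mathlib

set_option autoImplicit false
universe u
open CategoryTheory CategoryTheory.Limits AlgebraicGeometry Opposite

namespace Groth.Agent.Helper5.FpqcAffCrit

open AlgSp Groth.Agent.Helper5.YonCoprod Groth.Agent.Helper4

variable {S : Scheme.{u}}

/-- Universality of finite coproducts in fppf sheaves: the pullback of a coproduct cofan is a coproduct cofan. -/
theorem nonempty_isColimit_pullback_cofan {κ : Type u} [Finite κ] {Yk : κ → Sp S} (cY : Cofan Yk)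
    (hcY : IsColimit cY) {A : Sp S} (m : A ⟶ cY.pt) (Xk : κ → Sp S) (a : ∀ k, Xk k ⟶ A)
    (b : ∀ k, Xk k ⟶ Yk k) (sq : ∀ k, IsPullback (a k) (b k) m (cY.inj k)) :
    Nonempty (IsColimit (Cofan.mk A a)) := by
  have hVK := FinitaryExtensive.isVanKampen_finiteCoproducts hcY
  refine hVK.isUniversal (Cofan.mk A a) (Discrete.natTrans fun k => b k.as) m ?_
    (NatTrans.Equifibered.of_discrete _) ?_
  · apply NatTrans.ext
    funext ⟨k⟩
    simp only [NatTrans.comp_app, Discrete.natTrans_app, Functor.const_map_app]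
    exact (sq k).w.symm
  · rintro ⟨k⟩
    exact sq k

set_option backward.isDefEq.respectTransparency.types false in
/-- The affine criterion for being fpqc local on the base. -/
theorem isLocalOnBase_fpqc_of_affine_criterion (P : MorphismProperty (Sp S))
    (h1 : ∀ ⦃ι : Type u⦄ [Finite ι] (Xi Yi : ι → Sp S) (fi : ∀ i, Xi i ⟶ Yi i)
      (cX : Cofan Xi) (cY : Cofan Yi) (hcX : IsColimit cX) (hcY : IsColimit cY) (m : cX.pt ⟶ cY.pt),
      (∀ i, IsAlgSpace (Xi i)) → (∀ i, IsAlgSpace (Yi i)) →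
      IsAlgSpace cX.pt → IsAlgSpace cY.pt →
      (∀ i, cX.inj i ≫ m = fi i ≫ cY.inj i) → (∀ i, P (fi i)) → P m)
    (h2 : ∀ ⦃X Y : Sp S⦄, IsAlgSpace X → IsAlgSpace Y → ∀ (f : X ⟶ Y),
      P f ↔ ∀ (Z : Over S), IsAffine Z.left → ∀ (g : (yon S).obj Z ⟶ Y) (W : Sp S)
        (fst : W ⟶ X) (snd : W ⟶ (yon S).obj Z), IsAlgSpace W → IsPullback fst snd f g → P snd)
    (h3 : ∀ ⦃Z Z' : Over S⦄ (c : Z' ⟶ Z), IsAffine Z.left → IsAffine Z'.left → Surjective c.left → Flat c.left →
      ∀ ⦃X X' : Sp S⦄ (f : X ⟶ (yon S).obj Z) (fst : X' ⟶ X) (f' : X' ⟶ (yon S).obj Z'),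
        IsAlgSpace X → IsAlgSpace X' → IsPullback fst f' f ((yon S).map c) → P f' → P f) :
    IsLocalOnBase (IsFpqcCover (S := S)) P := by
  intro ι Y Yi g hY hYi hcov X f hX Xi p q hXi sq
  constructor
  · intro hf i
    rw [h2 (hXi i) (hYi i) (p i)]
    intro Z hZ gZ W fst snd hW sqW
    exact (h2 hX hY f).1 hf Z hZ (gZ ≫ g i) W (fst ≫ q i) snd hW (sqW.paste_horiz (sq i))
  · intro hp
    rw [h2 hX hY f]
    intro Z hZ gZ W fst snd hW sqW
    obtain ⟨m, Wj, c, hWa, hcf, hcs, hl⟩ := hcov.2 Z hZ gZ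
    choose i l hl using hl
    let κ : Type u := ULift.{u} (Fin m)
    let W' : κ → Over S := fun k => Wj k.down
    have hW'a : ∀ k, IsAffine (W' k).left := fun k => hWa k.down
    let Z' : Over S := sigmaOver W'
    let c' : Z' ⟶ Z := Over.homMk (Sigma.desc (f := fun k => (W' k).left) fun k : κ => (c k.down).left) (by
      apply Sigma.hom_ext
      intro k
      simp only [Z', sigmaOver, Over.mk_hom, colimit.ι_desc_assoc, Cofan.mk_ι_app, colimit.ι_desc]
      exact Over.w (c k.down))
    have hc'ι : ∀ k, sigmaι W' k ≫ c' = c k.down := by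
      intro k
      ext1
      show Sigma.ι _ k ≫ Sigma.desc _ = _
      simp
    have hZ' : IsAffine Z'.left := by
      show IsAffine (∐ fun k => (W' k).left)
      infer_instance
    have hflat : Flat c'.left := by
      show Flat (Sigma.desc (f := fun k => (W' k).left) fun k : κ => (c k.down).left)
      exact IsZariskiLocalAtSource.sigmaDesc (P := @Flat) (fun k => hcf k.down)
    have hsurj : Surjective c'.left := by
      refine ⟨fun z => ?_⟩
      obtain ⟨j, w, hw⟩ := hcs z
      refine ⟨(Sigma.ι (fun k => (W' k).left) ⟨j⟩) w, ?_⟩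
      rw [← hw]
      have : Sigma.ι (fun k => (W' k).left) ⟨j⟩ ≫ c'.left = (c j).left := congrArg (fun t => t.left) (hc'ι ⟨j⟩)
      rw [← this]
      rfl
    -- base change along c'
    let A := pullback snd ((yon S).map c')
    let mA : A ⟶ (yon S).obj Z' := pullback.snd snd ((yon S).map c')
    have sqA : IsPullback (pullback.fst snd ((yon S).map c')) mA snd ((yon S).map c') :=
      IsPullback.of_hasPullback _ _
    have hA : IsAlgSpace A :=
      AlgSpPB.isAlgSpace_of_isPullback (IsAlgSpace.yon_obj Z).diag hW (IsAlgSpace.yon_obj Z') _ _ _ _ sqA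
    refine h3 c' hZ hZ' hsurj hflat snd _ mA hW hA sqA ?_
    -- pieces
    let Xk : κ → Sp S := fun k => pullback mA ((yon S).map (sigmaι W' k))
    let ak : ∀ k, Xk k ⟶ A := fun k => pullback.fst mA ((yon S).map (sigmaι W' k))
    let bk : ∀ k, Xk k ⟶ (yon S).obj (W' k) := fun k => pullback.snd mA ((yon S).map (sigmaι W' k))
    have sqk : ∀ k, IsPullback (ak k) (bk k) mA ((yon S).map (sigmaι W' k)) :=
      fun k => IsPullback.of_hasPullback _ _
    have hXk : ∀ k, IsAlgSpace (Xk k) := fun k =>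
      AlgSpPB.isAlgSpace_of_isPullback (IsAlgSpace.yon_obj Z').diag hA (IsAlgSpace.yon_obj (W' k)) _ _ _ _ (sqk k)
    let cY : Cofan (fun k => (yon S).obj (W' k)) :=
      Cofan.mk ((yon S).obj (sigmaOver W')) (fun k => (yon S).map (sigmaι W' k))
    have hcY : IsColimit cY := isColimitCofan W'
    obtain ⟨hcX⟩ := nonempty_isColimit_pullback_cofan cY hcY mA Xk ak bk sqk
    refine h1 Xk (fun k => (yon S).obj (W' k)) bk (Cofan.mk A ak) cY hcX hcY mA hXk
      (fun k => IsAlgSpace.yon_obj (W' k)) hA (IsAlgSpace.yon_obj Z') (fun k => (sqk k).w) ?_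
    intro k
    -- `bk k` is a base change of `p (i k.down)` along `l k.down`
    have big : IsPullback ((ak k ≫ pullback.fst snd ((yon S).map c')) ≫ fst) (bk k) f
        (((yon S).map (sigmaι W' k) ≫ (yon S).map c') ≫ gZ) :=
      ((sqk k).paste_horiz sqA).paste_horiz sqW
    have hbot : ((yon S).map (sigmaι W' k) ≫ (yon S).map c') ≫ gZ = l k.down ≫ g (i k.down) := by
      rw [← Functor.map_comp, hc'ι, hl]
    rw [hbot] at big
    let lift : Xk k ⟶ Xi (i k.down) := (sq (i k.down)).lift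
      ((ak k ≫ pullback.fst snd ((yon S).map c')) ≫ fst) (bk k ≫ l k.down) (by
        rw [big.w, Category.assoc])
    have hlift1 : lift ≫ q (i k.down) = (ak k ≫ pullback.fst snd ((yon S).map c')) ≫ fst :=
      (sq (i k.down)).lift_fst _ _ _
    have hlift2 : lift ≫ p (i k.down) = bk k ≫ l k.down := (sq (i k.down)).lift_snd _ _ _
    rw [← hlift1] at big
    have left : IsPullback lift (bk k) (p (i k.down)) (l k.down) :=
      IsPullback.of_right big hlift2 (sq (i k.down))
    exact (h2 (hXi (i k.down)) (hYi (i k.down)) (p (i k.down))).1 (hp (i k.down)) (W' k) (hW'a k)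
      (l k.down) (Xk k) lift (bk k) (hXk k) left

end Groth.Agent.Helper5.FpqcAffCrit
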