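import Groth.Agent.Helper4.AlgSpLocPBC
import Groth.Agent.Helper4.AlgSpLocPComp
import Groth.Agent.Helper4.SDClasses
import Mathlib

set_option autoImplicit false
universe u
open CategoryTheory CategoryTheory.Limits AlgebraicGeometry Opposite MorphismProperty

namespace Groth.Agent.Helper5.FpqcF

open AlgSp Groth.Agent.Helper4.AlgSpLocP2 Groth.Agent.Helper4.SDClasses

variable {S : Scheme.{u}}

/-- A property of morphisms of schemes which is étale local on source and target, but only
stable under *flat* base change. -/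
structure FGood (P : MorphismProperty Scheme.{u}) : Prop where
  fbc : ∀ {X Y X' Y' : Scheme.{u}} (f : X ⟶ Y) (g : Y' ⟶ Y) (f' : X' ⟶ Y') (g' : X' ⟶ X),
    IsPullback g' f' f g → Flat g → P f → P f'
  comp : P.IsStableUnderComposition
  zls : IsZariskiLocalAtSource P
  zlt : IsZariskiLocalAtTarget P
  etale_le : ∀ {A B : Scheme.{u}} (g : A ⟶ B), Etale g → P g
  sd : ∀ {A B C : Scheme.{u}} (e : A ⟶ B) (h : B ⟶ C), Etale e → Surjective e →
    P (e ≫ h) → P h

/-- a representable étale morphism is flat étale locally on source and target -/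
theorem locP_flat_of_repWith_etale {X Y : Sp S} (f : X ⟶ Y) (hf : RepWith @Etale f) :
    LocP @Flat f :=
  Groth.Agent.Helper4.AlgSpLocP.locP_of_repWith @Flat @Etale
    (fun g hg => by have : Etale g := hg; infer_instance)
    (fun g hg => by have : Etale g := hg; infer_instance) f hf

/-- Flat base change of a `LocP P` morphism to a scheme: any étale chart of the fibre product
has `P` over the scheme. -/
theorem locP_chart_of_pullback_scheme_flat (P : MorphismProperty Scheme.{u}) (hG : FGood P)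
    {X Y : Sp S} (hX : IsAlgSpace X) (hY : IsAlgSpace Y) (f : X ⟶ Y) (hf : LocP P f)
    {V : Over S} (β : (yon S).obj V ⟶ Y) (hβ : LocP @Flat β)
    {Z : Sp S} (pX : Z ⟶ X) (pV : Z ⟶ (yon S).obj V)
    (sqZ : IsPullback pX pV f β) {U : Over S} (a : (yon S).obj U ⟶ Z) (ha : RepWith @Etale a)
    (h : U ⟶ V) (hh : a ≫ pV = (yon S).map h) : P h.left := by
  have := hG.comp
  obtain ⟨U₀, x₀, hx₀e, hx₀s⟩ := hX.atlas
  obtain ⟨V₀, y₀, hy₀e, hy₀s⟩ := hY.atlas
  obtain ⟨E, e, c, hee, hes, hxe, hxs, hcomm, hpbE⟩ :=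
    exists_chart f x₀ hx₀e hx₀s y₀ hy₀e hy₀s
  have hPc : P c.left := hf _ y₀ c hxe hy₀e hcomm
  generalize (yon S).map e ≫ x₀ = x at hxe hxs hcomm hpbE
  -- V₁ = h_V ×_Y h_{V₀}
  have hr := hy₀e.rep
  have hpbV : IsPullback (hr.fst β) ((yon S).map (hr.snd β)) y₀ β := hr.isPullback β
  obtain ⟨d, hd⟩ := (yon S).map_surjective (hr.fst β)
  rw [← hd] at hpbV
  have he₁e : Etale (hr.snd β).left := hy₀e.property _ _ _ hpbV
  generalize hr.snd β = e₁ at hpbV he₁e
  have hdflat : Flat d.left :=
    hβ ((yon S).map e₁) y₀ d ((repWith_yon_map_iff _ _).2 he₁e) hy₀e hpbV.w.symm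
  -- U₂ = E ×_{V₀} V₁
  have hU₂ : IsPullback (pullback.fst c d) (pullback.snd c d) c d := IsPullback.of_hasPullback _ _
  have hU₂' : IsPullback ((yon S).map (pullback.fst c d)) ((yon S).map (pullback.snd c d))
      ((yon S).map c) ((yon S).map d) := hU₂.map (yon S)
  have hPp₂ : P (pullback.snd c d).left :=
    hG.fbc c.left d.left _ _ (hU₂.map (Over.forget S)) hdflat hPc
  generalize pullback.fst c d = p₁ at hU₂ hU₂' hPp₂
  generalize pullback.snd c d = p₂ at hU₂ hU₂' hPp₂
  have houter : IsPullback ((yon S).map p₂ ≫ (yon S).map e₁) ((yon S).map p₁) β (x ≫ f) := by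
    rw [hcomm]
    exact hU₂'.flip.paste_horiz hpbV.flip
  have hw : ((yon S).map p₁ ≫ x) ≫ f = ((yon S).map p₂ ≫ (yon S).map e₁) ≫ β := by
    rw [Category.assoc]; exact houter.w.symm
  have houter' : IsPullback (sqZ.lift _ _ hw ≫ pV) ((yon S).map p₁) β (x ≫ f) := by
    rw [sqZ.lift_snd]; exact houter
  have hm : IsPullback (sqZ.lift _ _ hw) ((yon S).map p₁) pX x :=
    IsPullback.of_right houter' (sqZ.lift_fst _ _ hw) sqZ.flip
  have hmsnd : sqZ.lift _ _ hw ≫ pV = (yon S).map p₂ ≫ (yon S).map e₁ := sqZ.lift_snd _ _ hw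
  generalize sqZ.lift _ _ hw = m at hm hmsnd
  have i1 := repWith_isStableUnderBaseChange (S := S) @Etale
  have i2 := repWith_isStableUnderBaseChange (S := S) @Surjective
  have hme : RepWith @Etale m := MorphismProperty.of_isPullback hm.flip hxe
  have hms : RepWith @Surjective m := MorphismProperty.of_isPullback hm.flip hxs
  -- U₃
  have har := ha.rep
  have hpb3 : IsPullback (har.fst m) ((yon S).map (har.snd m)) a m := har.isPullback m
  obtain ⟨r₁, hr₁⟩ := (yon S).map_surjective (har.fst m)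
  rw [← hr₁] at hpb3
  have hr₂e : Etale (har.snd m).left := ha.property _ _ _ hpb3
  have hr₁e : Etale r₁.left := hme.property _ _ _ hpb3.flip
  have hr₁s : Surjective r₁.left := hms.property _ _ _ hpb3.flip
  generalize har.snd m = r₂ at hpb3 hr₂e
  have heq : r₁ ≫ h = r₂ ≫ p₂ ≫ e₁ := by
    apply (yon S).map_injective
    rw [Functor.map_comp, ← hh, ← Category.assoc, hpb3.w, Category.assoc, hmsnd]
    simp
  have hP : P (r₁ ≫ h).left := by
    rw [heq]
    show P (r₂.left ≫ p₂.left ≫ e₁.left)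
    exact P.comp_mem _ _ (hG.etale_le _ hr₂e) (P.comp_mem _ _ hPp₂ (hG.etale_le _ he₁e))
  exact hG.sd r₁.left h.left hr₁e hr₁s hP

/-- `LocP P` is stable under flat base change, for `P` stable under flat base change and
composition, containing étale morphisms and satisfying étale descent on the source. -/
theorem locP_of_isPullback_flat (P : MorphismProperty Scheme.{u}) (hG : FGood P)
    {X Y Y' X' : Sp S} (hX : IsAlgSpace X) (hY : IsAlgSpace Y) (hY' : IsAlgSpace Y')
    (f : X ⟶ Y) (g : Y' ⟶ Y) (hg : LocP @Flat g)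
    (fst : X' ⟶ X) (f' : X' ⟶ Y') (sq : IsPullback fst f' f g) (hf : LocP P f) :
    LocP P f' := by
  have := hG.comp
  intro U V a b h ha hb comm
  have hbg : LocP @Flat (b ≫ g) :=
    Groth.Agent.Helper4.AlgSpLocPComp.locP_comp @Flat good_flat hY' b g
      (locP_flat_of_repWith_etale b hb) hg
  have sqZ : IsPullback (pullback.fst f (b ≫ g)) (pullback.snd f (b ≫ g)) f (b ≫ g) :=
    IsPullback.of_hasPullback _ _
  generalize pullback.fst f (b ≫ g) = pX at sqZ
  generalize pullback.snd f (b ≫ g) = pV at sqZ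
  generalize pullback f (b ≫ g) = Z at pX pV sqZ
  have hw : pX ≫ f = (pV ≫ b) ≫ g := by rw [Category.assoc]; exact sqZ.w
  have hk : IsPullback (sq.lift _ _ hw) pV f' b := by
    refine IsPullback.of_right ?_ (sq.lift_snd _ _ hw) sq
    rw [sq.lift_fst]; exact sqZ
  have hkfst : sq.lift _ _ hw ≫ fst = pX := sq.lift_fst _ _ hw
  generalize sq.lift _ _ hw = k at hk hkfst
  have i1 := repWith_isStableUnderBaseChange (S := S) @Etale
  have hke : RepWith @Etale k := MorphismProperty.of_isPullback hk.flip hb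
  have hkr := hke.rep
  have hpb : IsPullback (hkr.fst a) ((yon S).map (hkr.snd a)) k a := hkr.isPullback a
  have hτe : Etale (hkr.snd a).left := hke.property _ _ _ hpb
  have hqe : RepWith @Etale (hkr.fst a) := MorphismProperty.of_isPullback hpb.flip ha
  obtain ⟨h', hh'⟩ := (yon S).map_surjective (hkr.fst a ≫ pV)
  have hPh' : P h'.left :=
    locP_chart_of_pullback_scheme_flat P hG hX hY f hf (b ≫ g) hbg pX pV sqZ (hkr.fst a) hqe h'
      hh'.symm
  -- the section
  have hw2 : (a ≫ fst) ≫ f = (yon S).map h ≫ b ≫ g := by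
    rw [Category.assoc, sq.w, ← Category.assoc, comm, Category.assoc]
  have ha''k : sqZ.lift _ _ hw2 ≫ k = a := by
    apply sq.hom_ext
    · rw [Category.assoc, hkfst, sqZ.lift_fst]
    · rw [Category.assoc, hk.w, ← Category.assoc, sqZ.lift_snd, comm]
  have ha''V : sqZ.lift _ _ hw2 ≫ pV = (yon S).map h := sqZ.lift_snd _ _ hw2
  generalize sqZ.lift _ _ hw2 = a'' at ha''k ha''V
  let σ : U ⟶ hkr.pullback a := hkr.lift a'' (𝟙 U) (by simpa using ha''k)
  have hσ1 : (yon S).map σ ≫ hkr.fst a = a'' := hkr.lift_fst _ _ _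
  have hσ2 : σ ≫ hkr.snd a = 𝟙 U := hkr.lift_snd _ _ _
  have hσe : Etale σ.left := by
    refine MorphismProperty.of_postcomp (W := @Etale) (W' := @Etale) σ.left (hkr.snd a).left hτe ?_
    have : σ.left ≫ (hkr.snd a).left = 𝟙 U.left := by
      rw [← Over.comp_left, hσ2]; rfl
    rw [this]
    infer_instance
  have hfac : h = σ ≫ h' := by
    apply (yon S).map_injective
    rw [Functor.map_comp, hh', ← Category.assoc, hσ1, ha''V]
  rw [hfac]
  show P (σ.left ≫ h'.left)
  exact P.comp_mem _ _ (hG.etale_le _ hσe) hPh'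

end Groth.Agent.Helper5.FpqcF
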