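import Groth.Agent.Helper5.FpqcTop
import Groth.Agent.Helper5.AlgSpAffBC
import Groth.Agent.Helper4.AlgSpLocPBC
import Mathlib

set_option autoImplicit false
universe u
open CategoryTheory CategoryTheory.Limits AlgebraicGeometry Opposite

namespace Groth.Agent.Helper5.FpqcLocP

open AlgSp Groth.Agent.Helper4.AlgSpPtsDesc Groth.Agent.Helper5.FpqcCore Groth.Agent.Helper5.FpqcTop
  Groth.Agent.Helper4.SDClasses

variable {S : Scheme.{u}}

section scheme
variable {V : Scheme.{u}} [IsAffine V] {m : ℕ} (W : Fin m → Scheme.{u}) (c : ∀ j, W j ⟶ V)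
  [∀ j, IsAffine (W j)] [∀ j, Flat (c j)]

set_option backward.isDefEq.respectTransparency.types false in
/-- scheme-level descent along a finite flat affine jointly surjective family -/
theorem descend_scheme (P : MorphismProperty Scheme.{u}) [IsZariskiLocalAtTarget P]
    [P.DescendsAlong (@Surjective ⊓ @Flat ⊓ @QuasiCompact)]
    (hcs : ∀ z : V, ∃ j, z ∈ Set.range (c j)) {U : Scheme.{u}} (g : U ⟶ V)
    (h : ∀ j, ∃ (Uj : Scheme.{u}) (p1 : Uj ⟶ U) (p2 : Uj ⟶ W j), IsPullback p1 p2 g (c j) ∧ P p2) :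
    P g := by
  have hs := cov_surjective W c hcs
  have hQ : (@Surjective ⊓ @Flat ⊓ @QuasiCompact : MorphismProperty Scheme.{u}) (cov W c) :=
    ⟨⟨hs, inferInstance⟩, inferInstance⟩
  have sq0 : IsPullback (pullback.snd g (cov W c)) (pullback.fst g (cov W c)) (cov W c) g :=
    (IsPullback.of_hasPullback g (cov W c)).flip
  refine MorphismProperty.of_isPullback_of_descendsAlong sq0 hQ ?_
  rw [IsZariskiLocalAtTarget.iff_of_openCover (P := P) (sigmaOpenCover W)]
  intro j
  obtain ⟨Uj, p1, p2, sqj, hp2⟩ := h j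
  -- the square over the j-th component
  have sq1 : IsPullback (pullback.fst (pullback.snd g (cov W c)) ((sigmaOpenCover W).f j))
      (pullback.snd (pullback.snd g (cov W c)) ((sigmaOpenCover W).f j))
      (pullback.snd g (cov W c)) ((sigmaOpenCover W).f j) := IsPullback.of_hasPullback _ _
  have sq2 : IsPullback (pullback.fst (pullback.snd g (cov W c)) ((sigmaOpenCover W).f j) ≫
      pullback.fst g (cov W c))
      (pullback.snd (pullback.snd g (cov W c)) ((sigmaOpenCover W).f j)) g
      ((sigmaOpenCover W).f j ≫ cov W c) := sq1.paste_horiz (IsPullback.of_hasPullback g (cov W c))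
  have hc : (sigmaOpenCover W).f j ≫ cov W c = c j := by
    show Sigma.ι W j ≫ Sigma.desc c = c j
    simp
  rw [hc] at sq2
  -- compare with the given square
  let e := sq2.isoIsPullback _ _ sqj
  have he : e.hom ≫ p2 = pullback.snd (pullback.snd g (cov W c)) ((sigmaOpenCover W).f j) :=
    IsPullback.isoIsPullback_hom_snd _ _ sq2 sqj
  show P (pullback.snd (pullback.snd g (cov W c)) ((sigmaOpenCover W).f j))
  rw [← he]
  exact (MorphismProperty.cancel_left_of_respectsIso P e.hom p2).2 hp2

end scheme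


set_option backward.isDefEq.respectTransparency.types false in
/-- Key lemma: `LocP P` descends along a finite flat affine jointly surjective family over an
affine base. -/
theorem locP_of_refinement (P : MorphismProperty Scheme.{u}) (hG : Good P)
    [P.DescendsAlong (@Surjective ⊓ @Flat ⊓ @QuasiCompact)]
    {V : Over S} {m : ℕ} {W : Fin m → Over S} {F : Sp S} (c : ∀ j, W j ⟶ V)
    (φ : F ⟶ (yon S).obj V) (hF : IsAlgSpace F) (Fj : Fin m → Sp S)
    (a : ∀ j, Fj j ⟶ F) (s : ∀ j, Fj j ⟶ (yon S).obj (W j))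
    (sq : ∀ j, IsPullback (a j) (s j) φ ((yon S).map (c j)))
    (hV : IsAffine V.left) (hWa : ∀ j, IsAffine (W j).left)
    (hcf : ∀ j, Flat (c j).left) (hcs : ∀ z : ↥V.left, ∃ j, z ∈ Set.range (c j).left)
    (h : ∀ j, LocP P (s j)) : LocP P φ := by
  refine Groth.Agent.Helper4.AlgSpLocPFam.locP_of_chart_family P hG φ fun x => ?_
  obtain ⟨U, q, hqe, hqs⟩ := hF.atlas
  obtain ⟨r, hr⟩ := Groth.Agent.Helper4.AlgSpPts.isSurjectiveMor_of_repWith q hqs x
  obtain ⟨u, rfl⟩ := (Points.schemeHomeo U).surjective r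
  obtain ⟨k, hk⟩ := (yon S).map_surjective (q ≫ φ)
  refine ⟨U, V, q, 𝟙 _, k, u, hqe, repWith_id _ _, by rw [hk, Category.comp_id], ?_, ?_⟩
  · rw [← hr, Groth.Agent.Helper4.AlgSpQC2.ofPt_eq_map_schemeHomeo]
  · have := hG.zlt
    refine descend_scheme (fun j => (W j).left) (fun j => (c j).left) P hcs k.left fun j => ?_
    have sqO : IsPullback (pullback.fst k (c j)) (pullback.snd k (c j)) k (c j) :=
      IsPullback.of_hasPullback _ _
    refine ⟨(pullback k (c j)).left, (pullback.fst k (c j)).left, (pullback.snd k (c j)).left,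
      sqO.map (Over.forget S), ?_⟩
    have sqY := sqO.map (yon S)
    have hcomm : ((yon S).map (pullback.fst k (c j)) ≫ q) ≫ φ =
        (yon S).map (pullback.snd k (c j)) ≫ (yon S).map (c j) := by
      rw [Category.assoc, ← hk, sqY.w]
    have he1 := (sq j).lift_fst _ _ hcomm
    have he2 := (sq j).lift_snd _ _ hcomm
    have outer : IsPullback ((sq j).lift _ _ hcomm ≫ s j) ((yon S).map (pullback.fst k (c j)))
        ((yon S).map (c j)) (q ≫ φ) := by
      rw [he2, ← hk]; exact sqY.flip
    have left : IsPullback ((sq j).lift _ _ hcomm) ((yon S).map (pullback.fst k (c j))) (a j) q :=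
      IsPullback.of_right outer he1 (sq j).flip
    have i1 := repWith_isStableUnderBaseChange (S := S) @Etale
    have hee : RepWith @Etale ((sq j).lift _ _ hcomm) := MorphismProperty.of_isPullback left.flip hqe
    exact h j _ (𝟙 _) (pullback.snd k (c j)) hee (repWith_id _ _) (by rw [he2, Category.comp_id])


set_option backward.isDefEq.respectTransparency.types false in
theorem isLocalOnBase_locP (P : MorphismProperty Scheme.{u}) (hG : Good P)
    [P.DescendsAlong (@Surjective ⊓ @Flat ⊓ @QuasiCompact)] :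
    IsLocalOnBase (IsFpqcCover (S := S)) (LocP P) := by
  have := hG.bc
  have := hG.comp
  apply isLocalOnBase_fpqc
  · intro X Y X' Y' f g f' g' hX hY _ _ sq hf
    exact Groth.Agent.Helper4.AlgSpLocPBC.locP_of_isPullback P hG.etale_le hG.sd hX hY f g g' f' sq hf
  · intro X Y f hX hY H
    apply Groth.Agent.Helper5.AlgSpAffBC.locP_of_affine_base_change P hG hX hY f
    intro Z hZ g P₀ fst snd sqZ
    obtain ⟨m, W, c, hWa, hcf, hcs, hj⟩ := H Z hZ g P₀ fst snd sqZ
    choose Fj a sj hFj sqj hQj using hj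
    have hP : IsAlgSpace P₀ :=
      Groth.Agent.Helper4.AlgSpPB.isAlgSpace_of_isPullback hY.diag hX (IsAlgSpace.yon_obj Z)
        f g fst snd sqZ
    exact locP_of_refinement P hG c snd hP Fj a sj sqj hZ hWa hcf hcs hQj

end Groth.Agent.Helper5.FpqcLocP
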