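import Groth.Agent.Helper5.FpqcF1
import Groth.Agent.Helper5.FpqcLocP
import Groth.Agent.Helper5.AlgSpEt
import Mathlib

set_option autoImplicit false
universe u
open CategoryTheory CategoryTheory.Limits AlgebraicGeometry Opposite MorphismProperty

namespace Groth.Agent.Helper5.FpqcF

open AlgSp Groth.Agent.Helper4.AlgSpLocP2 Groth.Agent.Helper4.SDClasses

variable {S : Scheme.{u}}

/-- a compact open of `T₀` mapping onto a quasi-compact `W`, from an étale surjective `W' ⟶ W`
factoring through `T₀`. -/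
theorem exists_compact_open_surj {T₀ W W' : Scheme.{u}} [CompactSpace W] (π₀ : T₀ ⟶ W)
    (s' : W' ⟶ T₀) (e' : W' ⟶ W) [Etale e'] [Surjective e'] (he : s' ≫ π₀ = e') :
    ∃ T₁ : T₀.Opens, IsCompact (T₁ : Set T₀) ∧ ∀ w : W, ∃ t ∈ T₁, π₀ t = w := by
  obtain ⟨V', hV'c, hV'⟩ := e'.isOpenMap.exists_opens_image_eq_of_prespectralSpace e'.continuous
    (U := Set.univ) (by rw [Set.range_eq_univ.2 e'.surjective]) isOpen_univ isCompact_univ
  have hK : IsCompact (s' '' (V' : Set W')) := hV'c.image s'.continuous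
  obtain ⟨T₁, hT₁c, hT₁o, hKT₁, -⟩ :=
    PrespectralSpace.exists_isCompact_and_isOpen_between hK isOpen_univ (Set.subset_univ _)
  refine ⟨⟨T₁, hT₁o⟩, hT₁c, fun w => ?_⟩
  have hw : w ∈ e' '' (V' : Set W') := by rw [hV']; trivial
  obtain ⟨v, hv, rfl⟩ := hw
  refine ⟨s' v, hKT₁ ⟨v, hv, rfl⟩, ?_⟩
  rw [← he, Scheme.Hom.comp_apply]

/-- cancellation: a morphism from a scheme whose composite with a representable étale morphism is
representable étale is itself representable étale. -/
theorem repWith_etale_of_comp {Z X : Sp S} (hZ : IsAlgSpace Z) {U : Over S}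
    (k : (yon S).obj U ⟶ Z) (e : Z ⟶ X) (he : RepWith @Etale e)
    (hke : RepWith @Etale (k ≫ e)) : RepWith @Etale k := by
  have h1 : IsEtaleMor (k ≫ e) := fun U φ hφ => Groth.Agent.Helper4.AlgSpSrc.repWith_comp _ hφ hke
  have h2 : IsEtaleMor e := fun U φ hφ => Groth.Agent.Helper4.AlgSpSrc.repWith_comp _ hφ he
  have h3 := Groth.Agent.Helper5.AlgSpEt.isEtaleMor_of_comp hZ k e h1 h2
  have h4 := h3 (𝟙 _) (repWith_id _ U)
  rwa [Category.id_comp] at h4

/-- `LocP P` can be checked on charts with affine target chart, for `P` Zariski local on the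
target. -/
theorem locP_of_affine_charts (P : MorphismProperty Scheme.{u}) [IsZariskiLocalAtTarget P]
    {X Y : Sp S} (f : X ⟶ Y)
    (H : ∀ ⦃U V : Over S⦄ (a : (yon S).obj U ⟶ X) (b : (yon S).obj V ⟶ Y) (h : U ⟶ V),
      IsAffine V.left → RepWith @Etale a → RepWith @Etale b → a ≫ f = (yon S).map h ≫ b →
      P h.left) : LocP P f := by
  intro U V a b h ha hb comm
  rw [IsZariskiLocalAtTarget.iff_of_openCover (P := P) V.left.affineCover]
  intro k
  let Vk : Over S := Over.mk (V.left.affineCover.f k ≫ V.hom)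
  let ιk : Vk ⟶ V := Over.homMk (V.left.affineCover.f k) rfl
  let Uk : Over S := Over.mk (pullback.fst h.left (V.left.affineCover.f k) ≫ U.hom)
  let ιk' : Uk ⟶ U := Over.homMk (pullback.fst h.left (V.left.affineCover.f k)) rfl
  let hk : Uk ⟶ Vk := Over.homMk (pullback.snd h.left (V.left.affineCover.f k)) (by
    show pullback.snd h.left (V.left.affineCover.f k) ≫ V.left.affineCover.f k ≫ V.hom =
      pullback.fst h.left (V.left.affineCover.f k) ≫ U.hom
    rw [← Category.assoc, ← pullback.condition, Category.assoc, Over.w h])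
  have hcomm : ιk' ≫ h = hk ≫ ιk := by
    ext
    exact pullback.condition
  have e1 : RepWith @Etale ((yon S).map ιk') :=
    (repWith_yon_map_iff _ _).2
      (inferInstanceAs (Etale (pullback.fst h.left (V.left.affineCover.f k))))
  have e2 : RepWith @Etale ((yon S).map ιk) :=
    (repWith_yon_map_iff _ _).2 (inferInstanceAs (Etale (V.left.affineCover.f k)))
  exact H ((yon S).map ιk' ≫ a) ((yon S).map ιk ≫ b) hk
    (inferInstanceAs (IsAffine (V.left.affineCover.X k)))
    (Groth.Agent.Helper4.AlgSpSrc.repWith_comp _ e1 ha)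
    (Groth.Agent.Helper4.AlgSpSrc.repWith_comp _ e2 hb)
    (by rw [Category.assoc, comm, ← Category.assoc, ← Functor.map_comp, hcomm,
      Functor.map_comp, Category.assoc])

end Groth.Agent.Helper5.FpqcF
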