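import Groth.Agent.Helper5.FpqcF2
import Mathlib

set_option autoImplicit false
universe u
open CategoryTheory CategoryTheory.Limits AlgebraicGeometry Opposite MorphismProperty

namespace Groth.Agent.Helper5.FpqcF

open AlgSp Groth.Agent.Helper4.AlgSpLocP2 Groth.Agent.Helper4.SDClasses

variable {S : Scheme.{u}}

set_option backward.isDefEq.respectTransparency.types false in
set_option maxHeartbeats 800000 in
/-- The key descent step: for a chart `(a, b, h)` of `f`, a flat `c : W ⟶ V` from an affine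
scheme and a lift `l : h_W ⟶ Yi` of `c ≫ b` through a flat `g : Yi ⟶ Y` such that the base change
`p` of `f` along `g` has `LocP P`, the base change of `h` along `c` has `P`. -/
theorem claimB (P : MorphismProperty Scheme.{u}) (hG : FGood P)
    [P.DescendsAlong (@Surjective ⊓ @Flat ⊓ @QuasiCompact)]
    {X Y Xi Yi : Sp S} (hX : IsAlgSpace X) (hY : IsAlgSpace Y) (hXi : IsAlgSpace Xi)
    (hYi : IsAlgSpace Yi) (f : X ⟶ Y) (g : Yi ⟶ Y) (p : Xi ⟶ Yi) (q : Xi ⟶ X)
    (sq : IsPullback q p f g) (hg : LocP @Flat g) (hp : LocP P p)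
    {U V W : Over S} (a : (yon S).obj U ⟶ X) (b : (yon S).obj V ⟶ Y) (h : U ⟶ V)
    (ha : RepWith @Etale a) (hb : RepWith @Etale b) (comm : a ≫ f = (yon S).map h ≫ b)
    (c : W ⟶ V) (hW : IsAffine W.left) (hc : Flat c.left) (l : (yon S).obj W ⟶ Yi)
    (hl : l ≫ g = (yon S).map c ≫ b) :
    P (pullback.snd h c).left := by
  have := hG.comp
  have i1 := repWith_isStableUnderBaseChange (S := S) @Etale
  have i2 := repWith_isStableUnderBaseChange (S := S) @Surjective
  have hyc : LocP @Flat ((yon S).map c) :=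
    Groth.Agent.Helper4.AlgSpLocP.locP_of_repWith @Flat @Flat (fun g hg => hg)
      (fun g hg => by have : Etale g := hg; infer_instance) _ ((repWith_yon_map_iff @Flat c).2 hc)
  have hcb : LocP @Flat ((yon S).map c ≫ b) :=
    Groth.Agent.Helper4.AlgSpLocPComp.locP_comp @Flat good_flat (IsAlgSpace.yon_obj V) _ b hyc
      (locP_flat_of_repWith_etale b hb)
  -- T = h_W ×_Y Yi
  have sqT : IsPullback (pullback.fst ((yon S).map c ≫ b) g) (pullback.snd ((yon S).map c ≫ b) g)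
      ((yon S).map c ≫ b) g := IsPullback.of_hasPullback _ _
  generalize pullback.fst ((yon S).map c ≫ b) g = π at sqT
  generalize pullback.snd ((yon S).map c ≫ b) g = ρ at sqT
  generalize pullback ((yon S).map c ≫ b) g = T at π ρ sqT
  have hT : IsAlgSpace T :=
    Groth.Agent.Helper4.AlgSpPB.isAlgSpace_of_isPullback hY.diag (IsAlgSpace.yon_obj W) hYi _ g π ρ
      sqT
  have hπ : LocP @Flat π :=
    Groth.Agent.Helper4.AlgSpLocPBC.locP_of_isPullback @Flat good_flat.etale_le good_flat.sd hYi hY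
      g _ ρ π sqT.flip hg
  have hρ : LocP @Flat ρ :=
    Groth.Agent.Helper4.AlgSpLocPBC.locP_of_isPullback @Flat good_flat.etale_le good_flat.sd
      (IsAlgSpace.yon_obj W) hY _ g π ρ sqT hcb
  -- the section
  have hσw : 𝟙 _ ≫ ((yon S).map c ≫ b) = l ≫ g := by rw [Category.id_comp, hl]
  have hσ1 : sqT.lift _ _ hσw ≫ π = 𝟙 _ := sqT.lift_fst _ _ _
  generalize sqT.lift _ _ hσw = σ at hσ1
  -- atlas of T
  obtain ⟨T₀, τ, hτe, hτs⟩ := hT.atlas
  obtain ⟨π₀, hπ₀⟩ := (yon S).map_surjective (τ ≫ π)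
  have hπ₀f : Flat π₀.left := hπ τ (𝟙 _) π₀ hτe (repWith_id _ _) (by rw [hπ₀, Category.comp_id])
  -- W' = h_W ×_T h_{T₀}
  have hr := hτe.rep
  have hpbW : IsPullback (hr.fst σ) ((yon S).map (hr.snd σ)) τ σ := hr.isPullback σ
  obtain ⟨s', hs'⟩ := (yon S).map_surjective (hr.fst σ)
  rw [← hs'] at hpbW
  have he'e : Etale (hr.snd σ).left := hτe.property _ _ _ hpbW
  have he's : Surjective (hr.snd σ).left := hτs.property _ _ _ hpbW
  generalize hr.snd σ = e' at hpbW he'e he's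
  have hse : s' ≫ π₀ = e' := by
    apply (yon S).map_injective
    rw [Functor.map_comp, hπ₀, ← Category.assoc, hpbW.w, Category.assoc, hσ1, Category.comp_id]
  -- the compact open
  obtain ⟨T₁o, hT₁c, hT₁s⟩ := exists_compact_open_surj π₀.left s'.left e'.left
    (by rw [← Over.comp_left, hse])
  let T₁ : Over S := Over.mk (T₁o.ι ≫ T₀.hom)
  let ι₁ : T₁ ⟶ T₀ := Over.homMk T₁o.ι rfl
  obtain ⟨ψ, hψ⟩ : ∃ ψ : T₁ ⟶ W, ψ = ι₁ ≫ π₀ := ⟨_, rfl⟩
  have hψl : ψ.left = T₁o.ι ≫ π₀.left := by rw [hψ]; rfl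
  have hψQ : (@Surjective ⊓ @Flat ⊓ @QuasiCompact : MorphismProperty Scheme.{u}) ψ.left := by
    rw [hψl]
    refine ⟨⟨⟨fun w => ?_⟩, ?_⟩, ?_⟩
    · obtain ⟨t, ht, rfl⟩ := hT₁s w
      exact ⟨⟨t, ht⟩, rfl⟩
    · show Flat (T₁o.ι ≫ π₀.left)
      infer_instance
    · exact (quasiCompact_iff_compactSpace _).mpr (isCompact_iff_compactSpace.mp hT₁c)
  -- descent along ψ
  have sqA : IsPullback (pullback.fst (pullback.snd h c) ψ) (pullback.snd (pullback.snd h c) ψ)
      (pullback.snd h c) ψ := IsPullback.of_hasPullback _ _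
  refine MorphismProperty.of_isPullback_of_descendsAlong (sqA.flip.map (Over.forget S)) hψQ ?_
  have sqB : IsPullback (pullback.fst h c) (pullback.snd h c) h c := IsPullback.of_hasPullback _ _
  have sqAB : IsPullback (pullback.fst (pullback.snd h c) ψ ≫ pullback.fst h c)
      (pullback.snd (pullback.snd h c) ψ) h (ψ ≫ c) := sqA.paste_horiz sqB
  clear sqA
  show P (pullback.snd (pullback.snd h c) ψ).left
  generalize pullback.fst (pullback.snd h c) ψ ≫ pullback.fst h c = r at sqAB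
  generalize pullback.snd (pullback.snd h c) ψ = h₁ at sqAB ⊢
  -- β
  have hι₁e : RepWith @Etale ((yon S).map ι₁ ≫ τ) :=
    Groth.Agent.Helper4.AlgSpSrc.repWith_comp _
      ((repWith_yon_map_iff _ _).2 (inferInstanceAs (Etale T₁o.ι))) hτe
  have hβ : LocP @Flat (((yon S).map ι₁ ≫ τ) ≫ ρ) :=
    Groth.Agent.Helper4.AlgSpLocPComp.locP_comp @Flat good_flat hT _ ρ
      (locP_flat_of_repWith_etale _ hι₁e) hρ
  have hβg : (((yon S).map ι₁ ≫ τ) ≫ ρ) ≫ g = (yon S).map (ψ ≫ c) ≫ b := by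
    have e1 : τ ≫ π = (yon S).map π₀ := hπ₀.symm
    calc (((yon S).map ι₁ ≫ τ) ≫ ρ) ≫ g
        = (yon S).map ι₁ ≫ (τ ≫ π) ≫ (yon S).map c ≫ b := by
          simp only [Category.assoc, sqT.w]
      _ = (yon S).map (ψ ≫ c) ≫ b := by
          rw [e1, hψ]; simp only [Functor.map_comp, Category.assoc]
  generalize ((yon S).map ι₁ ≫ τ) ≫ ρ = β at hβ hβg
  -- Z = Xi ×_{Yi} h_{T₁}
  have sqZ : IsPullback (pullback.fst p β) (pullback.snd p β) p β := IsPullback.of_hasPullback _ _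
  generalize pullback.fst p β = pX at sqZ
  generalize pullback.snd p β = pV at sqZ
  generalize pullback p β = Z at pX pV sqZ
  -- Z_V = X ×_Y h_V
  have sqV : IsPullback (pullback.fst f b) (pullback.snd f b) f b := IsPullback.of_hasPullback _ _
  generalize pullback.fst f b = fstV at sqV
  generalize pullback.snd f b = sndV at sqV
  generalize pullback f b = ZV at fstV sndV sqV
  have hZV : IsAlgSpace ZV :=
    Groth.Agent.Helper4.AlgSpPB.isAlgSpace_of_isPullback hY.diag hX (IsAlgSpace.yon_obj V) f b fstV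
      sndV sqV
  have hfstV : RepWith @Etale fstV := MorphismProperty.of_isPullback sqV.flip hb
  have hk1 : sqV.lift _ _ comm ≫ fstV = a := sqV.lift_fst _ _ _
  have hk2 : sqV.lift _ _ comm ≫ sndV = (yon S).map h := sqV.lift_snd _ _ _
  generalize sqV.lift _ _ comm = k at hk1 hk2
  have hke : RepWith @Etale k := repWith_etale_of_comp hZV k fstV hfstV (by rw [hk1]; exact ha)
  -- Z ⟶ Z_V
  have hwZ : (pX ≫ q) ≫ f = (pV ≫ (yon S).map (ψ ≫ c)) ≫ b := by
    rw [Category.assoc, sq.w, ← Category.assoc, sqZ.w, Category.assoc, hβg, Category.assoc]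
  have hpZ1 : sqV.lift _ _ hwZ ≫ fstV = pX ≫ q := sqV.lift_fst _ _ _
  have hpZ2 : sqV.lift _ _ hwZ ≫ sndV = pV ≫ (yon S).map (ψ ≫ c) := sqV.lift_snd _ _ _
  generalize sqV.lift _ _ hwZ = pZ at hpZ1 hpZ2
  have outer1 : IsPullback (pZ ≫ fstV) pV f ((yon S).map (ψ ≫ c) ≫ b) := by
    rw [hpZ1, ← hβg]; exact sqZ.paste_horiz sq
  have sqR : IsPullback pZ pV sndV ((yon S).map (ψ ≫ c)) := IsPullback.of_right outer1 hpZ2 sqV
  -- the chart of Z
  have hwa : ((yon S).map r ≫ k) ≫ sndV = (yon S).map h₁ ≫ (yon S).map (ψ ≫ c) := by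
    rw [Category.assoc, hk2, ← Functor.map_comp, sqAB.w, Functor.map_comp]
  have ha1 : sqR.lift _ _ hwa ≫ pZ = (yon S).map r ≫ k := sqR.lift_fst _ _ _
  have ha2 : sqR.lift _ _ hwa ≫ pV = (yon S).map h₁ := sqR.lift_snd _ _ _
  generalize sqR.lift _ _ hwa = a₁ at ha1 ha2
  have outer2 : IsPullback (a₁ ≫ pV) ((yon S).map r) ((yon S).map (ψ ≫ c)) (k ≫ sndV) := by
    rw [ha2, hk2]; exact (sqAB.map (yon S)).flip
  have sqL : IsPullback a₁ ((yon S).map r) pZ k := IsPullback.of_right outer2 ha1 sqR.flip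
  have ha₁e : RepWith @Etale a₁ := MorphismProperty.of_isPullback sqL.flip hke
  exact locP_chart_of_pullback_scheme_flat P hG hXi hYi p hp β hβ pX pV sqZ a₁ ha₁e h₁ ha2

end Groth.Agent.Helper5.FpqcF
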