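import Mathlib
import Groth.Agent.S8658
import Groth.Agent.S9729
import Groth.Agent.Helper3.KosBridgeD
import Groth.Agent.Helper5.Quiet1

set_option autoImplicit false
set_option linter.style.haveILetI false
universe u
open AlgebraicGeometry CategoryTheory Limits MorphismProperty

namespace Groth.Agent.Helper5.LciLoc

/-- smooth morphisms are local complete intersection morphisms -/
theorem lci_of_smooth {X Y : Scheme.{u}} (f : X ⟶ Y) [Smooth f] : AlgSp.lci f :=
  ((Groth.Agent.Helper5.LciS.s9758 f).mpr (Groth.Agent.Helper5.SmSynt.s9699 f)).2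

/-- being Koszul at a point can be checked on an open neighbourhood -/
theorem isKoszulAt_of_restrict {X Y : Scheme.{u}} (f : X ⟶ Y) (W : X.Opens) (x' : W)
    (h : Synt.IsKoszulAt (W.ι ≫ f) x') : Synt.IsKoszulAt f (W.ι x') := by
  obtain ⟨U', P, i', π, hx, hlft, hreg, hsm, hcomm⟩ := h
  let e := W.ι.isoImage U'
  have he : e.inv ≫ U'.ι ≫ W.ι = (W.ι ''ᵁ U').ι := W.ι.isoImage_inv_ι U'
  haveI := hlft
  refine ⟨W.ι ''ᵁ U', P, e.inv ≫ i', π, ⟨x', hx, rfl⟩, ?_,
    Groth.Agent.Helper3.KosBridgeA.regImm_comp_openImmersion .koszul e.inv i' hreg, hsm, ?_⟩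
  · have : (W.ι ''ᵁ U').ι ≫ f = e.inv ≫ (U'.ι ≫ W.ι ≫ f) := by
      rw [← he, Category.assoc, Category.assoc]
    rw [this]
    infer_instance
  · rw [Category.assoc, hcomm, ← he, Category.assoc, Category.assoc]

theorem lci_comp {X Y Z : Scheme.{u}} (f : X ⟶ Y) (g : Y ⟶ Z) (hf : AlgSp.lci f) (hg : AlgSp.lci g) :
    AlgSp.lci (f ≫ g) :=
  Groth.Agent.Helper3.KosBridgeD.s8661 f g hf hg

instance : (AlgSp.lci.{u}).IsStableUnderComposition := ⟨fun f g hf hg => lci_comp f g hf hg⟩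

instance : (AlgSp.lci.{u}).RespectsIso :=
  MorphismProperty.respectsIso_of_isStableUnderComposition (fun X Y f (hf : IsIso f) => by
    haveI := hf
    exact lci_of_smooth f)

instance : IsZariskiLocalAtTarget (AlgSp.lci.{u}) := by
  apply IsZariskiLocalAtTarget.mk'
  · intro X Y f U hf
    exact Groth.Agent.S8658.result f U.ι (f ∣_ U) (f ⁻¹ᵁ U).ι
      (isPullback_morphismRestrict f U).flip hf
  · intro X Y f ι U hU H x
    have hx : f x ∈ (⨆ i, U i : Y.Opens) := by rw [hU]; trivial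
    obtain ⟨i, hi⟩ := TopologicalSpace.Opens.mem_iSup.mp hx
    have h1 : AlgSp.lci ((f ∣_ U i) ≫ (U i).ι) := lci_comp _ _ (H i) (lci_of_smooth _)
    have h2 : AlgSp.lci ((f ⁻¹ᵁ U i).ι ≫ f) := by
      rw [← morphismRestrict_ι]
      exact h1
    exact isKoszulAt_of_restrict f (f ⁻¹ᵁ U i) ⟨x, hi⟩ (h2 ⟨x, hi⟩)


instance : IsZariskiLocalAtSource (AlgSp.lci.{u}) := by
  apply IsZariskiLocalAtSource.mk'
  · intro X Y f U hf x
    exact Groth.Agent.Helper3.KosBridgeA.isKoszulAt_restrict f U x.1 x.2 (hf x.1)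
  · intro X Y f ι U hU H x
    have hx : x ∈ (⨆ i, U i : X.Opens) := by rw [hU]; trivial
    obtain ⟨i, hi⟩ := TopologicalSpace.Opens.mem_iSup.mp hx
    exact isKoszulAt_of_restrict f (U i) ⟨x, hi⟩ (H i ⟨x, hi⟩)

instance : (AlgSp.lci.{u}).DescendsAlong (@Surjective ⊓ @Flat ⊓ @QuasiCompact) where
  of_isPullback := by
    intro A X Y Z fst snd f g hsq hf hfst
    obtain ⟨⟨h1, h2⟩, h3⟩ := hf
    exact Groth.Agent.Helper3.KosBridgeD.s8662 g f fst snd hsq.flip hfst

/-- local complete intersection morphisms are stable under flat base change -/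
theorem lci_of_isPullback_flat {X Y X' Y' : Scheme.{u}} (f : X ⟶ Y) (g : Y' ⟶ Y) [Flat g]
    (f' : X' ⟶ Y') (g' : X' ⟶ X) (hsq : IsPullback g' f' f g) (hf : AlgSp.lci f) : AlgSp.lci f' :=
  Groth.Agent.S8658.result f g f' g' hsq hf

/-- fppf descent of local complete intersection morphisms -/
theorem lci_descends_fppf {X Y X' Y' : Scheme.{u}} (f : X ⟶ Y) (g : Y' ⟶ Y) [Flat g] [Surjective g]
    [LocallyOfFinitePresentation g]
    (f' : X' ⟶ Y') (g' : X' ⟶ X) (hsq : IsPullback g' f' f g) (hf' : AlgSp.lci f') : AlgSp.lci f :=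
  of_isPullback_of_descendsAlong (P := AlgSp.lci)
    (Q := (@Surjective ⊓ @Flat ⊓ @LocallyOfFinitePresentation)) hsq.flip
    ⟨⟨inferInstance, inferInstance⟩, inferInstance⟩ hf'

/-- cancellation of a smooth morphism -/
theorem lci_of_comp_smooth {X Y Z : Scheme.{u}} (f : X ⟶ Y) (g : Y ⟶ Z) [Smooth g]
    (h : AlgSp.lci (f ≫ g)) : AlgSp.lci f :=
  fun x => Groth.Agent.S9729.result f g h x

end Groth.Agent.Helper5.LciLoc
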