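import Groth.Agent.Helper5.FpqcF3
import Groth.Agent.Helper5.LciLoc1
import Groth.Agent.Helper3.AlgLci2
import Mathlib

set_option autoImplicit false
universe u
open CategoryTheory CategoryTheory.Limits AlgebraicGeometry Opposite MorphismProperty

namespace Groth.Agent.Helper5.FpqcF

open AlgSp Groth.Agent.Helper4.AlgSpLocP2 Groth.Agent.Helper4.SDClasses
  Groth.Agent.Helper5.FpqcLocP

variable {S : Scheme.{u}}

set_option backward.isDefEq.respectTransparency.types false in
/-- `LocP P` is fpqc local on the base for properties `P` of morphisms of schemes that are étale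
local on source and target, stable under flat base change and satisfy fpqc descent. -/
theorem isLocalOnBase_fpqc_of_fgood (P : MorphismProperty Scheme.{u}) (hG : FGood P)
    [P.DescendsAlong (@Surjective ⊓ @Flat ⊓ @QuasiCompact)] :
    IsLocalOnBase (IsFpqcCover (S := S)) (LocP P) := by
  intro ι Y Yi g hY hYi hcov X f hX Xi p q hXi sq
  constructor
  · intro hf i
    exact locP_of_isPullback_flat P hG hX hY (hYi i) f (g i) (hcov.1 i) (q i) (p i) (sq i) hf
  · intro hp
    have := hG.zlt
    refine locP_of_affine_charts P f ?_
    intro U V a b h hV ha hb comm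
    obtain ⟨m, W, c, hWa, hcf, hcs, hl⟩ := hcov.2 V hV b
    refine descend_scheme (fun j => (W j).left) (fun j => (c j).left) P hcs h.left fun j => ?_
    obtain ⟨i, l, hl⟩ := hl j
    have sqO : IsPullback (pullback.fst h (c j)) (pullback.snd h (c j)) h (c j) :=
      IsPullback.of_hasPullback _ _
    exact ⟨_, _, _, sqO.map (Over.forget S),
      claimB P hG hX hY (hXi i) (hYi i) f (g i) (p i) (q i) (sq i) (hcov.1 i) (hp i) a b h ha hb
        comm (c j) (hWa j) (hcf j) l hl⟩

/-- The Koszul local complete intersection property is `FGood`. -/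
theorem fgood_lci : FGood (AlgSp.lci.{u}) where
  fbc := fun f g f' g' sq hg hf => by
    have : Flat g := hg
    exact Groth.Agent.Helper5.LciLoc.lci_of_isPullback_flat f g f' g' sq hf
  comp := inferInstance
  zls := inferInstance
  zlt := inferInstance
  etale_le := fun g hg => by
    have : Etale g := hg
    exact Groth.Agent.Helper5.LciLoc.lci_of_smooth g
  sd := fun e h he hs hP => by
    have : Etale e := he
    have : Surjective e := hs
    exact Groth.Agent.Helper3.AlgLci.lci_of_etale_surjective_comp e h hP

theorem s10667 : IsLocalOnBase (IsFpqcCover (S := S)) IsLCIMor :=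
  isLocalOnBase_fpqc_of_fgood AlgSp.lci fgood_lci

end Groth.Agent.Helper5.FpqcF
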