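import Groth.Prelude.Def_AlgSpCov
import Groth.Agent.Helper4.AlgSpLocPComp
import Mathlib

set_option autoImplicit false
universe w u
open CategoryTheory CategoryTheory.Limits AlgebraicGeometry Opposite

namespace Groth.Agent.Helper5.FpqcRef

open AlgSp Groth.Agent.Helper4.SDClasses

variable {S : Scheme.{u}}

/-- A standard fpqc covering of the affine `Z` whose members lift through members of `g`. -/
def HasRef {ι : Type u} {X : Sp S} (Xi : ι → Sp S) (g : ∀ i, Xi i ⟶ X) (Z : Over S)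
    (h : (yon S).obj Z ⟶ X) : Prop :=
  ∃ (m : ℕ) (W : Fin m → Over S) (c : ∀ j, W j ⟶ Z),
    (∀ j, IsAffine (W j).left) ∧ (∀ j, Flat (c j).left) ∧
    (∀ z : ↥Z.left, ∃ j, z ∈ Set.range (c j).left) ∧
    ∀ j, ∃ (i : _) (l : (yon S).obj (W j) ⟶ Xi i), l ≫ g i = (yon S).map (c j) ≫ h

theorem isFpqcCover_iff {ι : Type u} {X : Sp S} (Xi : ι → Sp S) (g : ∀ i, Xi i ⟶ X) :
    IsFpqcCover Xi g ↔ (∀ i, LocP @Flat (g i)) ∧
      ∀ (Z : Over S), IsAffine Z.left → ∀ (h : (yon S).obj Z ⟶ X), HasRef Xi g Z h := Iff.rfl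

theorem hasRef_of_finite {ι : Type u} {X : Sp S} {Xi : ι → Sp S} {g : ∀ i, Xi i ⟶ X} {Z : Over S}
    {h : (yon S).obj Z ⟶ X} {κ : Type w} [Finite κ] (W : κ → Over S) (c : ∀ k, W k ⟶ Z)
    (hWa : ∀ k, IsAffine (W k).left) (hcf : ∀ k, Flat (c k).left)
    (hcs : ∀ z : ↥Z.left, ∃ k, z ∈ Set.range (c k).left)
    (hl : ∀ k, ∃ (i : _) (l : (yon S).obj (W k) ⟶ Xi i), l ≫ g i = (yon S).map (c k) ≫ h) :
    HasRef Xi g Z h := by
  obtain ⟨n, ⟨e⟩⟩ := Finite.exists_equiv_fin κ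
  refine ⟨n, fun j => W (e.symm j), fun j => c (e.symm j), fun j => hWa _, fun j => hcf _,
    fun z => ?_, fun j => hl _⟩
  obtain ⟨k, hk⟩ := hcs z
  refine ⟨e k, ?_⟩
  show z ∈ Set.range ⇑(Over.Hom.left (c (e.symm (e k))))
  rw [e.symm_apply_apply]
  exact hk

theorem hasRef_trans {ι : Type u} {X : Sp S} {Xi : ι → Sp S} {g : ∀ i, Xi i ⟶ X} {Z : Over S}
    {h : (yon S).obj Z ⟶ X} {κ : Type w} [Finite κ] (V : κ → Over S) (c : ∀ a, V a ⟶ Z)
    (hcf : ∀ a, Flat (c a).left)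
    (hcs : ∀ z : ↥Z.left, ∃ a, z ∈ Set.range (c a).left)
    (H : ∀ a, HasRef Xi g (V a) ((yon S).map (c a) ≫ h)) :
    HasRef Xi g Z h := by
  choose m W d hWa hdf hds hl using H
  refine hasRef_of_finite (κ := Σ a : κ, Fin (m a)) (fun r => W r.1 r.2) (fun r => d r.1 r.2 ≫ c r.1)
    (fun r => hWa _ _) (fun r => ?_) (fun z => ?_) (fun r => ?_)
  · have := hdf r.1 r.2
    have := hcf r.1
    show Flat ((d r.1 r.2).left ≫ (c r.1).left)
    infer_instance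
  · obtain ⟨a, y, hy⟩ := hcs z
    obtain ⟨j, w, hw⟩ := hds a y
    refine ⟨⟨a, j⟩, w, ?_⟩
    show ((d a j).left ≫ (c a).left) w = z
    rw [Scheme.Hom.comp_apply, hw, hy]
  · obtain ⟨i, l, hl⟩ := hl r.1 r.2
    exact ⟨i, l, by rw [hl, Functor.map_comp, Category.assoc]⟩

end Groth.Agent.Helper5.FpqcRef
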