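import Groth.Agent.Helper5.FpqcCore
import Groth.Agent.Helper4.AlgSpPtsDesc
import Mathlib

set_option autoImplicit false
universe u
open CategoryTheory CategoryTheory.Limits AlgebraicGeometry Opposite

namespace Groth.Agent.Helper5.FpqcTop

open AlgSp

variable {S : Scheme.{u}}

section scheme
variable {V : Scheme.{u}} [IsAffine V] {m : ℕ} (W : Fin m → Scheme.{u}) (c : ∀ j, W j ⟶ V)
  [∀ j, IsAffine (W j)] [∀ j, Flat (c j)]

/-- the total covering morphism -/
noncomputable def cov : (∐ W) ⟶ V := Sigma.desc c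

set_option backward.isDefEq.respectTransparency.types false in
instance : Flat (cov W c) := IsZariskiLocalAtSource.sigmaDesc (P := @Flat) (fun j => inferInstance)

instance : QuasiCompact (cov W c) := inferInstance

theorem cov_surjective (hcs : ∀ z : V, ∃ j, z ∈ Set.range (c j)) : Surjective (cov W c) := by
  constructor
  intro z
  obtain ⟨j, w, rfl⟩ := hcs z
  refine ⟨Sigma.ι W j w, ?_⟩
  rw [← Scheme.Hom.comp_apply]
  simp [cov]

theorem isOpen_of_forall_preimage (hcs : ∀ z : V, ∃ j, z ∈ Set.range (c j)) (B : Set V)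
    (h : ∀ j, IsOpen ((c j) ⁻¹' B)) : IsOpen B := by
  have := cov_surjective W c hcs
  rw [← (Flat.isQuotientMap_of_surjective (cov W c)).isOpen_preimage]
  have hB : (cov W c) ⁻¹' B = ⋃ j, (Sigma.ι W j) '' ((c j) ⁻¹' B) := by
    ext x
    simp only [Set.mem_preimage, Set.mem_iUnion, Set.mem_image]
    constructor
    · intro hx
      have hx' : ∃ (j : Fin m) (w : W j), Sigma.ι W j w = x := (sigmaOpenCover W).exists_eq x
      obtain ⟨j, w, rfl⟩ := hx'
      refine ⟨j, w, ?_, rfl⟩
      have : cov W c (Sigma.ι W j w) = c j w := by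
        rw [← Scheme.Hom.comp_apply]; simp [cov]
      rw [← this]; exact hx
    · rintro ⟨j, w, hw, rfl⟩
      have : cov W c (Sigma.ι W j w) = c j w := by
        rw [← Scheme.Hom.comp_apply]; simp [cov]
      rw [this]; exact hw
  rw [hB]
  exact isOpen_iUnion fun j => (Sigma.ι W j).isOpenEmbedding.isOpenMap _ (h j)

theorem isClosed_of_forall_preimage (hcs : ∀ z : V, ∃ j, z ∈ Set.range (c j)) (B : Set V)
    (h : ∀ j, IsClosed ((c j) ⁻¹' B)) : IsClosed B := by
  rw [← isOpen_compl_iff]
  apply isOpen_of_forall_preimage W c hcs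
  intro j
  rw [Set.preimage_compl, isOpen_compl_iff]
  exact h j

end scheme


section points
variable {V : Over S} {m : ℕ} {W : Fin m → Over S} (c : ∀ j, W j ⟶ V)

theorem isOpen_points_of_forall_preimage (hV : IsAffine V.left) (hWa : ∀ j, IsAffine (W j).left)
    (hcf : ∀ j, Flat (c j).left) (hcs : ∀ z : ↥V.left, ∃ j, z ∈ Set.range (c j).left)
    (B : Set (Points ((yon S).obj V)))
    (h : ∀ j, IsOpen (Points.map ((yon S).map (c j)) ⁻¹' B)) : IsOpen B := by
  rw [← (Points.schemeHomeo V).isOpen_preimage]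
  refine isOpen_of_forall_preimage (fun j => (W j).left) (fun j => (c j).left) hcs _ fun j => ?_
  have h1 := (h j).preimage (Points.schemeHomeo (W j)).continuous
  have h2 : (Points.schemeHomeo (W j)) ⁻¹' (Points.map ((yon S).map (c j)) ⁻¹' B) =
      (fun t : ↥(W j).left => (c j).left t) ⁻¹' (Points.schemeHomeo V ⁻¹' B) := by
    ext t
    simp only [Set.mem_preimage]
    rw [Points.map_yon_map_apply]
  rw [h2] at h1
  exact h1

theorem isClosed_points_of_forall_preimage (hV : IsAffine V.left) (hWa : ∀ j, IsAffine (W j).left)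
    (hcf : ∀ j, Flat (c j).left) (hcs : ∀ z : ↥V.left, ∃ j, z ∈ Set.range (c j).left)
    (B : Set (Points ((yon S).obj V)))
    (h : ∀ j, IsClosed (Points.map ((yon S).map (c j)) ⁻¹' B)) : IsClosed B := by
  rw [← isOpen_compl_iff]
  apply isOpen_points_of_forall_preimage c hV hWa hcf hcs
  intro j
  rw [Set.preimage_compl, isOpen_compl_iff]
  exact h j

theorem points_jointly_surjective (hcs : ∀ z : ↥V.left, ∃ j, z ∈ Set.range (c j).left)
    (v : Points ((yon S).obj V)) : ∃ j w, Points.map ((yon S).map (c j)) w = v := by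
  obtain ⟨z, rfl⟩ := (Points.schemeHomeo V).surjective v
  obtain ⟨j, w, rfl⟩ := hcs z
  exact ⟨j, Points.schemeHomeo (W j) w, Points.map_yon_map_apply _ _⟩

end points


section descent
open Groth.Agent.Helper4.AlgSpPtsDesc

variable {V : Over S} {m : ℕ} {W : Fin m → Over S} (c : ∀ j, W j ⟶ V)
  {F : Sp S} (φ : F ⟶ (yon S).obj V) (Fj : Fin m → Sp S) (a : ∀ j, Fj j ⟶ F)
  (s : ∀ j, Fj j ⟶ (yon S).obj (W j))
  (sq : ∀ j, IsPullback (a j) (s j) φ ((yon S).map (c j)))
include sq

theorem preimage_image_eq (j : Fin m) (C : Set (Points F)) :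
    Points.map ((yon S).map (c j)) ⁻¹' (Points.map φ '' C) =
      Points.map (s j) '' (Points.map (a j) ⁻¹' C) := by
  ext y
  constructor
  · rintro ⟨x, hxC, hx⟩
    obtain ⟨z, hz1, hz2⟩ := exists_point_of_isPullback (sq j) x y hx
    exact ⟨z, by rw [Set.mem_preimage, hz1]; exact hxC, hz2⟩
  · rintro ⟨z, hz, rfl⟩
    refine ⟨Points.map (a j) z, hz, ?_⟩
    rw [← Points.map_comp, ← Points.map_comp, (sq j).w]

theorem surjective_of_forall (hcs : ∀ z : ↥V.left, ∃ j, z ∈ Set.range (c j).left)
    (h : ∀ j, Function.Surjective (Points.map (s j))) : Function.Surjective (Points.map φ) := by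
  intro v
  obtain ⟨j, w, rfl⟩ := points_jointly_surjective c hcs v
  obtain ⟨z, rfl⟩ := h j w
  refine ⟨Points.map (a j) z, ?_⟩
  rw [← Points.map_comp, ← Points.map_comp, (sq j).w]

theorem injective_of_forall (hcs : ∀ z : ↥V.left, ∃ j, z ∈ Set.range (c j).left)
    (h : ∀ j, Function.Injective (Points.map (s j))) : Function.Injective (Points.map φ) := by
  intro x x' hxx
  obtain ⟨j, w, hw⟩ := points_jointly_surjective c hcs (Points.map φ x)
  obtain ⟨z, hz1, hz2⟩ := exists_point_of_isPullback (sq j) x w hw.symm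
  obtain ⟨z', hz1', hz2'⟩ := exists_point_of_isPullback (sq j) x' w (by rw [← hxx, hw])
  have : z = z' := h j (hz2.trans hz2'.symm)
  rw [← hz1, ← hz1', this]

theorem isClosedMap_of_forall (hV : IsAffine V.left) (hWa : ∀ j, IsAffine (W j).left)
    (hcf : ∀ j, Flat (c j).left) (hcs : ∀ z : ↥V.left, ∃ j, z ∈ Set.range (c j).left)
    (h : ∀ j, IsClosedMap (Points.map (s j))) : IsClosedMap (Points.map φ) := by
  intro C hC
  apply isClosed_points_of_forall_preimage c hV hWa hcf hcs
  intro j
  rw [preimage_image_eq c φ Fj a s sq]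
  exact h j _ (hC.preimage (Points.continuous_map _))

theorem isOpenMap_of_forall (hV : IsAffine V.left) (hWa : ∀ j, IsAffine (W j).left)
    (hcf : ∀ j, Flat (c j).left) (hcs : ∀ z : ↥V.left, ∃ j, z ∈ Set.range (c j).left)
    (h : ∀ j, IsOpenMap (Points.map (s j))) : IsOpenMap (Points.map φ) := by
  intro C hC
  apply isOpen_points_of_forall_preimage c hV hWa hcf hcs
  intro j
  rw [preimage_image_eq c φ Fj a s sq]
  exact h j _ (hC.preimage (Points.continuous_map _))

theorem isQuotientMap_of_forall (hV : IsAffine V.left) (hWa : ∀ j, IsAffine (W j).left)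
    (hcf : ∀ j, Flat (c j).left) (hcs : ∀ z : ↥V.left, ∃ j, z ∈ Set.range (c j).left)
    (h : ∀ j, Topology.IsQuotientMap (Points.map (s j))) :
    Topology.IsQuotientMap (Points.map φ) := by
  rw [Topology.isQuotientMap_iff]
  refine ⟨.of_isOpen_preimage_iff_isOpen fun B => ?_,
    surjective_of_forall c φ Fj a s sq hcs (fun j => (h j).surjective)⟩
  constructor
  · intro hB
    apply isOpen_points_of_forall_preimage c hV hWa hcf hcs
    intro j
    rw [← (h j).isOpen_preimage, ← Set.preimage_comp]
    have : Points.map ((yon S).map (c j)) ∘ Points.map (s j) = Points.map φ ∘ Points.map (a j) := by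
      funext z
      simp only [Function.comp_apply]
      rw [← Points.map_comp, ← Points.map_comp, (sq j).w]
    rw [this, Set.preimage_comp]
    exact hB.preimage (Points.continuous_map _)
  · intro hB
    exact hB.preimage (Points.continuous_map _)

theorem isHomeomorph_of_forall (hV : IsAffine V.left) (hWa : ∀ j, IsAffine (W j).left)
    (hcf : ∀ j, Flat (c j).left) (hcs : ∀ z : ↥V.left, ∃ j, z ∈ Set.range (c j).left)
    (h : ∀ j, IsHomeomorph (Points.map (s j))) : IsHomeomorph (Points.map φ) :=
  ⟨Points.continuous_map _,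
    isOpenMap_of_forall c φ Fj a s sq hV hWa hcf hcs (fun j => (h j).isOpenMap),
    ⟨injective_of_forall c φ Fj a s sq hcs (fun j => (h j).injective),
      surjective_of_forall c φ Fj a s sq hcs (fun j => (h j).surjective)⟩⟩

end descent

end Groth.Agent.Helper5.FpqcTop
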