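import Mathlib

set_option autoImplicit false
set_option linter.style.haveILetI false
set_option linter.unusedSectionVars false
set_option linter.unusedVariables false
universe u
open CategoryTheory CategoryTheory.Limits AlgebraicGeometry Opposite TopologicalSpace

namespace Groth.Agent.Helper5.FreeAct

section core

variable {U₀ R₀ : Scheme.{u}} {G : Type u} [Group G] (ι : G → (U₀ ⟶ R₀))
  [hι : ∀ g, IsOpenImmersion (ι g)] (hcov : ∀ x : R₀, ∃ g, x ∈ Set.range (ι g))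
  (s t : R₀ ⟶ U₀) (ρ : G → (U₀ ⟶ U₀)) (hs : ∀ g, ι g ≫ s = 𝟙 _) (ht : ∀ g, ι g ≫ t = ρ g)
  (m : G → (R₀ ⟶ R₀)) (hm : ∀ k h, ι h ≫ m k = ι (k * h)) (hms : ∀ k, m k ≫ s = s)
  (hmt : ∀ k, m k ≫ t = t ≫ ρ k)
  (hρ1 : ρ 1 = 𝟙 _) (hρmul : ∀ g h, ρ (g * h) = ρ h ≫ ρ g)
  (hfree : ∀ (g : G) (x : U₀), g ≠ 1 →
    U₀.fromSpecResidueField x ≫ ρ g ≠ U₀.fromSpecResidueField x)

include hfree in
/-- a scheme mapping to `U₀` invariantly under a non-trivial group element is empty -/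
theorem isEmpty_of_fixed {Z : Scheme.{u}} (β : Z ⟶ U₀) (k : G) (hk : k ≠ 1)
    (h : β ≫ ρ k = β) : IsEmpty Z := by
  by_contra hne
  rw [not_isEmpty_iff] at hne
  obtain ⟨x⟩ := hne
  have e1 := Scheme.Hom.SpecMap_residueFieldMap_fromSpecResidueField β x
  haveI : Flat (Spec.map (β.residueFieldMap x)) := by
    rw [HasRingHomProperty.Spec_iff (P := @Flat)]
    letI := (β.residueFieldMap x).hom.toAlgebra
    show (algebraMap _ _).Flat
    rw [RingHom.flat_algebraMap_iff]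
    infer_instance
  haveI : Surjective (Spec.map (β.residueFieldMap x)) := by
    constructor
    intro y
    refine ⟨IsLocalRing.closedPoint _, Subsingleton.elim _ _⟩
  haveI := Flat.epi_of_flat_of_surjective (Spec.map (β.residueFieldMap x))
  apply hfree k (β x) hk
  rw [← cancel_epi (Spec.map (β.residueFieldMap x)), ← Category.assoc, e1, Category.assoc, h]

/-- the open cover of `R₀` by the copies of `U₀` -/
noncomputable def cover : R₀.OpenCover where
  I₀ := G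
  X _ := U₀
  f g := ι g
  mem₀ := by
    rw [Scheme.presieve₀_mem_precoverage_iff]
    exact ⟨fun x => hcov x, fun g => hι g⟩

include hcov hs ht hfree in
theorem eq_of_t_eq_s {T : Scheme.{u}} (r₁ : T ⟶ R₀) (h : r₁ ≫ t = r₁ ≫ s) :
    r₁ = (r₁ ≫ s) ≫ ι 1 := by
  refine Scheme.Cover.hom_ext ((cover ι hcov).pullback₁ r₁) _ _ ?_
  intro (g : G)
  show pullback.fst r₁ (ι g) ≫ r₁ = pullback.fst r₁ (ι g) ≫ (r₁ ≫ s) ≫ ι 1
  have hc : pullback.fst r₁ (ι g) ≫ r₁ = pullback.snd r₁ (ι g) ≫ ι g := pullback.condition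
  have hb : pullback.fst r₁ (ι g) ≫ r₁ ≫ s = pullback.snd r₁ (ι g) := by
    rw [← Category.assoc, hc, Category.assoc, hs, Category.comp_id]
  have hu : pullback.snd r₁ (ι g) ≫ ρ g = pullback.snd r₁ (ι g) := by
    rw [← ht g, ← Category.assoc, ← hc, Category.assoc, h, hb]
  by_cases hg : g = 1
  · subst hg
    rw [← Category.assoc, hb, hc]
  · haveI := isEmpty_of_fixed ρ hfree (pullback.snd r₁ (ι g)) g hg hu
    exact isInitialOfIsEmpty.hom_ext _ _

include hcov hm in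
theorem m_comp (k k' : G) : m k ≫ m k' = m (k' * k) := by
  refine Scheme.Cover.hom_ext (cover ι hcov) _ _ ?_
  intro (h : G)
  show ι h ≫ m k ≫ m k' = ι h ≫ m (k' * k)
  rw [← Category.assoc, hm, hm, hm, mul_assoc]

include hcov hm in
theorem m_one : m 1 = 𝟙 _ := by
  refine Scheme.Cover.hom_ext (cover ι hcov) _ _ ?_
  intro (h : G)
  show ι h ≫ m 1 = ι h ≫ 𝟙 _
  rw [hm, one_mul, Category.comp_id]

include hcov hs ht hfree hm hms hmt hρ1 hρmul in
theorem eq_of_same {T : Scheme.{u}} (r r' : T ⟶ R₀) (h1 : r ≫ t = r' ≫ t)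
    (h2 : r ≫ s = r' ≫ s) : r = r' := by
  refine Scheme.Cover.hom_ext ((cover ι hcov).pullback₁ r) _ _ ?_
  intro (g : G)
  show pullback.fst r (ι g) ≫ r = pullback.fst r (ι g) ≫ r'
  have hc : pullback.fst r (ι g) ≫ r = pullback.snd r (ι g) ≫ ι g := pullback.condition
  have hb : pullback.fst r (ι g) ≫ r ≫ s = pullback.snd r (ι g) := by
    rw [← Category.assoc, hc, Category.assoc, hs, Category.comp_id]
  have ha : pullback.fst r (ι g) ≫ r ≫ t = pullback.snd r (ι g) ≫ ρ g := by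
    rw [← Category.assoc, hc, Category.assoc, ht]
  have e1 : (pullback.fst r (ι g) ≫ r' ≫ m g⁻¹) ≫ s = pullback.snd r (ι g) := by
    rw [Category.assoc, Category.assoc, hms, ← h2, hb]
  have e2 : (pullback.fst r (ι g) ≫ r' ≫ m g⁻¹) ≫ t = pullback.snd r (ι g) := by
    calc (pullback.fst r (ι g) ≫ r' ≫ m g⁻¹) ≫ t
        = pullback.fst r (ι g) ≫ (r' ≫ t) ≫ ρ g⁻¹ := by simp only [Category.assoc, hmt]
      _ = (pullback.fst r (ι g) ≫ r ≫ t) ≫ ρ g⁻¹ := by rw [← h1]; simp only [Category.assoc]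
      _ = pullback.snd r (ι g) ≫ ρ g ≫ ρ g⁻¹ := by rw [ha, Category.assoc]
      _ = pullback.snd r (ι g) := by rw [← hρmul, inv_mul_cancel, hρ1, Category.comp_id]
  have e3 := eq_of_t_eq_s ι hcov s t ρ hs ht hfree (pullback.fst r (ι g) ≫ r' ≫ m g⁻¹)
    (e2.trans e1.symm)
  rw [e1] at e3
  have e4 : pullback.fst r (ι g) ≫ r' = (pullback.fst r (ι g) ≫ r' ≫ m g⁻¹) ≫ m g := by
    rw [Category.assoc, Category.assoc, m_comp ι hcov m hm, mul_inv_cancel, m_one ι hcov m hm,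
      Category.comp_id]
  rw [e4, e3, Category.assoc, hm, mul_one, hc]

include hcov hs ht hfree hm hms hmt hρ1 hρmul in
theorem exists_glue {T : Scheme.{u}} (𝒰 : T.OpenCover) (a b : T ⟶ U₀)
    (rl : ∀ i, 𝒰.X i ⟶ R₀) (h1 : ∀ i, rl i ≫ t = 𝒰.f i ≫ a) (h2 : ∀ i, rl i ≫ s = 𝒰.f i ≫ b) :
    ∃ r : T ⟶ R₀, r ≫ t = a ∧ r ≫ s = b := by
  have hcompat : ∀ i j, pullback.fst (𝒰.f i) (𝒰.f j) ≫ rl i = pullback.snd _ _ ≫ rl j := by
    intro i j
    refine eq_of_same ι hcov s t ρ hs ht m hm hms hmt hρ1 hρmul hfree _ _ ?_ ?_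
    · rw [Category.assoc, Category.assoc, h1, h1, ← Category.assoc, ← Category.assoc,
        pullback.condition]
    · rw [Category.assoc, Category.assoc, h2, h2, ← Category.assoc, ← Category.assoc,
        pullback.condition]
  refine ⟨𝒰.glueMorphisms rl hcompat, ?_, ?_⟩
  · refine Scheme.Cover.hom_ext 𝒰 _ _ (fun i => ?_)
    rw [← Category.assoc, Scheme.Cover.ι_glueMorphisms, h1]
  · refine Scheme.Cover.hom_ext 𝒰 _ _ (fun i => ?_)
    rw [← Category.assoc, Scheme.Cover.ι_glueMorphisms, h2]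

include hcov hs ht hfree hm hms hmt hρ1 hρmul in
theorem rel_trans {T : Scheme.{u}} (a b c : T ⟶ U₀) (r r' : T ⟶ R₀) (hr1 : r ≫ t = a)
    (hr2 : r ≫ s = b) (hr1' : r' ≫ t = b) (hr2' : r' ≫ s = c) :
    ∃ r'' : T ⟶ R₀, r'' ≫ t = a ∧ r'' ≫ s = c := by
  refine exists_glue ι hcov s t ρ hs ht m hm hms hmt hρ1 hρmul hfree
    ((cover ι hcov).pullback₁ r) a c (fun (g : G) => pullback.fst r (ι g) ≫ r' ≫ m g) ?_ ?_
  · intro (g : G)
    show (pullback.fst r (ι g) ≫ r' ≫ m g) ≫ t = pullback.fst r (ι g) ≫ a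
    have hc : pullback.fst r (ι g) ≫ r = pullback.snd r (ι g) ≫ ι g := pullback.condition
    have hb : pullback.fst r (ι g) ≫ b = pullback.snd r (ι g) := by
      rw [← hr2, ← Category.assoc, hc, Category.assoc, hs, Category.comp_id]
    have ha : pullback.fst r (ι g) ≫ a = pullback.snd r (ι g) ≫ ρ g := by
      rw [← hr1, ← Category.assoc, hc, Category.assoc, ht]
    rw [Category.assoc, Category.assoc, hmt, ← Category.assoc r', hr1', ← Category.assoc, hb, ha]
  · intro (g : G)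
    show (pullback.fst r (ι g) ≫ r' ≫ m g) ≫ s = pullback.fst r (ι g) ≫ c
    rw [Category.assoc, Category.assoc, hms, hr2']

end core

end Groth.Agent.Helper5.FreeAct
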