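import Groth.Agent.Helper5.FreeAct1
import Groth.Prelude.Def_AlgSp
import Mathlib

set_option autoImplicit false
set_option linter.style.haveILetI false
set_option linter.unusedSectionVars false
set_option linter.unusedVariables false
universe u
open CategoryTheory CategoryTheory.Limits AlgebraicGeometry Opposite TopologicalSpace

namespace Groth.Agent.Helper5.FreeAct

variable {S : Scheme.{u}}

/-- the injections of a coproduct in `Over S` are open immersions covering the coproduct -/
theorem cofan_left {U : Over S} {G : Type u} (c : Cofan (fun _ : G => U)) (hc : IsColimit c) :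
    (∀ g, IsOpenImmersion (c.inj g).left) ∧ ∀ x : c.pt.left, ∃ g, x ∈ Set.range (c.inj g).left := by
  have hc₁ : IsColimit (Cofan.mk c.pt c.inj) :=
    IsColimit.ofIsoColimit hc (Cofan.ext (Iso.refl _) (fun g => by simp))
  have hc₂ : IsColimit (Cofan.mk c.pt.left (fun g => (c.inj g).left)) :=
    isColimitCofanMkObjOfIsColimit (Over.forget S) _ _ hc₁
  let e : c.pt.left ≅ ∐ (fun _ : G => U.left) :=
    hc₂.coconePointUniqueUpToIso (coproductIsCoproduct _)
  have he : ∀ g, (c.inj g).left ≫ e.hom = Sigma.ι (fun _ : G => U.left) g := fun g =>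
    hc₂.comp_coconePointUniqueUpToIso_hom (coproductIsCoproduct _) ⟨g⟩
  have he' : ∀ g, (c.inj g).left = Sigma.ι (fun _ : G => U.left) g ≫ e.inv := fun g => by
    rw [← he g, Category.assoc, Iso.hom_inv_id, Category.comp_id]
  refine ⟨fun g => ?_, fun x => ?_⟩
  · rw [he' g]
    infer_instance
  · obtain ⟨g, y, hy⟩ := (sigmaOpenCover (fun _ : G => U.left)).exists_eq (e.hom x)
    refine ⟨g, y, ?_⟩
    have h1 : (c.inj g).left y = e.inv (e.hom x) := by
      rw [he' g, Scheme.Hom.comp_apply]
      congr 1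
    rw [h1, ← Scheme.Hom.comp_apply, Iso.hom_inv_id]
    rfl

set_option backward.isDefEq.respectTransparency.types false in
theorem s9889 (S : Scheme.{u}) (U : Over S) (G : Type u) [Group G] (ρ : G →* Aut U)
    (hfree : ∀ (g : G) (x : U.left), g ≠ 1 →
      U.left.fromSpecResidueField x ≫ (ρ g).hom.left ≠ U.left.fromSpecResidueField x)
    (c : Cofan (fun _ : G => U)) (hc : IsColimit c) (s t : c.pt ⟶ U)
    (hs : ∀ g, c.inj g ≫ s = 𝟙 U) (ht : ∀ g, c.inj g ≫ t = (ρ g).hom) :
    AlgSp.IsEtaleEqvRel s t := by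
  obtain ⟨hoi, hcov⟩ := cofan_left c hc
  haveI := hoi
  let mO : G → (c.pt ⟶ c.pt) := fun k => Cofan.IsColimit.desc hc (fun h => c.inj (k * h))
  have hmO : ∀ k h, c.inj h ≫ mO k = c.inj (k * h) := fun k h => Cofan.IsColimit.fac hc _ h
  have hρmulO : ∀ g h, (ρ (g * h)).hom = (ρ h).hom ≫ (ρ g).hom := by
    intro g h
    rw [map_mul]
    rfl
  have hρ1O : (ρ 1).hom = 𝟙 U := by
    rw [map_one]
    rfl
  have hmsO : ∀ k, mO k ≫ s = s := fun k => Cofan.IsColimit.hom_ext hc _ _ (fun h => by
    rw [← Category.assoc, hmO, hs, hs])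
  have hmtO : ∀ k, mO k ≫ t = t ≫ (ρ k).hom := fun k => Cofan.IsColimit.hom_ext hc _ _ (fun h => by
    rw [← Category.assoc, hmO, ht, ← Category.assoc, ht, hρmulO])
  let σ : c.pt ⟶ c.pt := Cofan.IsColimit.desc hc (fun g => (ρ g).hom ≫ c.inj g⁻¹)
  have hσ : ∀ g, c.inj g ≫ σ = (ρ g).hom ≫ c.inj g⁻¹ := fun g => Cofan.IsColimit.fac hc _ g
  have hσs : σ ≫ s = t := Cofan.IsColimit.hom_ext hc _ _ (fun g => by
    rw [← Category.assoc, hσ, Category.assoc, hs, Category.comp_id, ht])
  have hσt : σ ≫ t = s := Cofan.IsColimit.hom_ext hc _ _ (fun g => by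
    rw [← Category.assoc, hσ, Category.assoc, ht, ← hρmulO, inv_mul_cancel, hρ1O, hs])
  -- scheme level data
  have hs' : ∀ g, (c.inj g).left ≫ s.left = 𝟙 _ := fun g => by
    rw [← Over.comp_left, hs]; rfl
  have ht' : ∀ g, (c.inj g).left ≫ t.left = (ρ g).hom.left := fun g => by
    rw [← Over.comp_left, ht]
  have hm' : ∀ k h, (c.inj h).left ≫ (mO k).left = (c.inj (k * h)).left := fun k h => by
    rw [← Over.comp_left, hmO]
  have hms' : ∀ k, (mO k).left ≫ s.left = s.left := fun k => by
    rw [← Over.comp_left, hmsO]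
  have hmt' : ∀ k, (mO k).left ≫ t.left = t.left ≫ (ρ k).hom.left := fun k => by
    rw [← Over.comp_left, hmtO]; rfl
  have hρ1' : (ρ 1).hom.left = 𝟙 _ := by rw [hρ1O]; rfl
  have hρmul' : ∀ g h, (ρ (g * h)).hom.left = (ρ h).hom.left ≫ (ρ g).hom.left := fun g h => by
    rw [hρmulO]; rfl
  refine { injective := ?_, equivalence := ?_, etale_left := ?_, etale_right := ?_ }
  · intro T r r' h1 h2
    apply Over.OverMorphism.ext
    exact eq_of_same (fun g => (c.inj g).left) hcov s.left t.left (fun g => (ρ g).hom.left) hs' ht'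
      (fun k => (mO k).left) hm' hms' hmt' hρ1' hρmul' hfree r.left r'.left
      (by rw [← Over.comp_left, ← Over.comp_left, h1])
      (by rw [← Over.comp_left, ← Over.comp_left, h2])
  · intro T
    refine ⟨?_, ?_, ?_⟩
    · intro a
      exact ⟨a ≫ c.inj 1, by rw [Category.assoc, ht, hρ1O, Category.comp_id],
        by rw [Category.assoc, hs, Category.comp_id]⟩
    · rintro a b ⟨r, h1, h2⟩
      exact ⟨r ≫ σ, by rw [Category.assoc, hσt, h2], by rw [Category.assoc, hσs, h1]⟩
    · rintro a b c' ⟨r, h1, h2⟩ ⟨r', h1', h2'⟩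
      obtain ⟨r'', e1, e2⟩ := rel_trans (fun g => (c.inj g).left) hcov s.left t.left
        (fun g => (ρ g).hom.left) hs' ht' (fun k => (mO k).left) hm' hms' hmt' hρ1' hρmul' hfree
        a.left b.left c'.left r.left r'.left
        (by rw [← Over.comp_left, h1]) (by rw [← Over.comp_left, h2])
        (by rw [← Over.comp_left, h1']) (by rw [← Over.comp_left, h2'])
      have hw : r'' ≫ c.pt.hom = T.hom := by
        rw [← Over.w s, ← Category.assoc, e2, Over.w]
      refine ⟨Over.homMk r'' hw, ?_, ?_⟩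
      · apply Over.OverMorphism.ext
        exact e1
      · apply Over.OverMorphism.ext
        exact e2
  · refine IsZariskiLocalAtSource.of_openCover (P := @Etale)
      (cover (fun g => (c.inj g).left) hcov) (fun (g : G) => ?_)
    show Etale ((c.inj g).left ≫ s.left)
    rw [hs' g]
    infer_instance
  · refine IsZariskiLocalAtSource.of_openCover (P := @Etale)
      (cover (fun g => (c.inj g).left) hcov) (fun (g : G) => ?_)
    show Etale ((c.inj g).left ≫ t.left)
    rw [ht' g]
    haveI : IsIso (ρ g).hom.left := inferInstanceAs (IsIso ((Over.forget S).map (ρ g).hom))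
    infer_instance

end Groth.Agent.Helper5.FreeAct
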