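import Mathlib

set_option autoImplicit false
set_option linter.style.haveILetI false
set_option linter.unusedSectionVars false
set_option linter.unusedVariables false
universe u
open CategoryTheory CategoryTheory.Limits AlgebraicGeometry Opposite TopologicalSpace

namespace Groth.Agent.Helper5.FreeSep

section core

variable {U₀ R₀ P₀ : Scheme.{u}} {G : Type u} [Finite G] (ι : G → (U₀ ⟶ R₀))
  [hι : ∀ g, IsOpenImmersion (ι g)] (hcov : ∀ x : R₀, ∃ g, x ∈ Set.range (ι g))
  (j : R₀ ⟶ P₀)

include hcov in
/-- quasi-compactness can be checked on a finite open cover of the source -/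
theorem quasiCompact_of_cover (h : ∀ g, QuasiCompact (ι g ≫ j)) : QuasiCompact j := by
  constructor
  intro V hVo hVc
  have e : j ⁻¹' V = ⋃ g, (ι g) '' ((ι g ≫ j) ⁻¹' V) := by
    ext x
    simp only [Set.mem_preimage, Set.mem_iUnion, Set.mem_image]
    constructor
    · intro hx
      obtain ⟨g, y, rfl⟩ := hcov x
      exact ⟨g, y, by simpa using hx, rfl⟩
    · rintro ⟨g, y, hy, rfl⟩
      simpa using hy
  rw [e]
  exact isCompact_iUnion fun g => ((h g).isCompact_preimage V hVo hVc).image (ι g).continuous

include hcov in
/-- a monomorphism which is a closed immersion on each member of a finite open cover of the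
source is a closed immersion -/
theorem isClosedImmersion_of_cover [Mono j] (h : ∀ g, IsClosedImmersion (ι g ≫ j)) :
    IsClosedImmersion j := by
  have hinj : Function.Injective j := j.injective
  have hclosed : IsClosedMap j := by
    intro Z hZ
    have e : j '' Z = ⋃ g, (ι g ≫ j) '' ((ι g) ⁻¹' Z) := by
      ext x
      simp only [Set.mem_preimage, Set.mem_iUnion, Set.mem_image]
      constructor
      · rintro ⟨z, hz, rfl⟩
        obtain ⟨g, y, rfl⟩ := hcov z
        exact ⟨g, y, hz, by simp⟩
      · rintro ⟨g, y, hy, rfl⟩
        exact ⟨ι g y, hy, by simp⟩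
    rw [e]
    exact isClosed_iUnion_of_finite fun g =>
      (h g).isClosedEmbedding.isClosedMap _ (hZ.preimage (ι g).continuous)
  have hemb : Topology.IsClosedEmbedding j :=
    .of_continuous_injective_isClosedMap j.continuous hinj hclosed
  haveI : IsPreimmersion j := by
    refine { stalkMap_surjective := fun x => ?_, isEmbedding := hemb.isEmbedding }
    obtain ⟨g, y, rfl⟩ := hcov x
    have h1 := (h g).stalkMap_surjective y
    rw [Scheme.Hom.stalkMap_comp] at h1
    have h2 : Function.Injective ((ι g).stalkMap y) :=
      (ConcreteCategory.bijective_of_isIso _).1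
    intro a
    obtain ⟨b, hb⟩ := h1 ((ι g).stalkMap y a)
    exact ⟨b, h2 hb⟩
  exact IsClosedImmersion.of_isPreimmersion j hemb.isClosed_range

end core

end Groth.Agent.Helper5.FreeSep
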