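import Groth.Agent.Helper5.FreeSep1
import Groth.Agent.Helper5.FreeAct2
import Groth.Agent.Helper5.DiagBC4
import Groth.Agent.Helper5.SchDesc12
import Groth.Agent.Helper5.QuotPres1
import Groth.Agent.Lead.SchDescent4
import Mathlib

set_option autoImplicit false
set_option linter.style.haveILetI false
set_option linter.unusedSectionVars false
set_option linter.unusedVariables false
universe u
open CategoryTheory CategoryTheory.Limits AlgebraicGeometry Opposite TopologicalSpace

namespace Groth.Agent.Helper5.FreeSep

open AlgSp Groth.Agent.Helper4 Groth.Agent.Helper4.AlgSpQS Groth.Agent.Helper5.DiagBC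

variable {S : Scheme.{u}}

/-- the graph of an automorphism over `S` is the diagonal followed by an isomorphism -/
theorem graph_eq {U₀ : Scheme.{u}} (f : U₀ ⟶ S) (a : U₀ ⟶ U₀) (ha : a ≫ f = f) :
    pullback.lift a (𝟙 U₀) (by rw [ha, Category.id_comp]) =
      pullback.diagonal f ≫ pullback.map f f f f a (𝟙 _) (𝟙 _)
        (by rw [ha, Category.comp_id]) (by rw [Category.id_comp, Category.comp_id]) := by
  apply pullback.hom_ext
  · rw [pullback.lift_fst, Category.assoc, pullback.lift_fst, pullback.diagonal_fst_assoc]
  · rw [pullback.lift_snd, Category.assoc, pullback.lift_snd, pullback.diagonal_snd_assoc]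

theorem s9890 (S : Scheme.{u}) (U : Over S) (G : Type u) [Group G] [Finite G]
    (ρ : G →* Aut U)
    (hfree : ∀ (g : G) (x : U.left), g ≠ 1 →
      U.left.fromSpecResidueField x ≫ (ρ g).hom.left ≠ U.left.fromSpecResidueField x)
    (c : Cofan (fun _ : G => U)) (hc : IsColimit c) (s t : c.pt ⟶ U)
    (hs : ∀ g, c.inj g ≫ s = 𝟙 U) (ht : ∀ g, c.inj g ≫ t = (ρ g).hom) :
    (QuasiSeparated U.hom → AlgSp.IsQuasiSeparatedSp (QuotSh.quot Scheme.fppfPrecoverage s t)) ∧
      (IsSeparated U.hom → AlgSp.IsSeparatedSp (QuotSh.quot Scheme.fppfPrecoverage s t)) := by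
  have h := FreeAct.s9889 S U G ρ hfree c hc s t hs ht
  have hq := SchDesc.s9868 s t h
  have hP := QuotPres.s9869 s t h hq
  obtain ⟨hoi, hcov⟩ := FreeAct.cofan_left c hc
  haveI := hoi
  have hs' : ∀ g, (c.inj g).left ≫ s.left = 𝟙 _ := fun g => by
    rw [← Over.comp_left, hs]; rfl
  have ht' : ∀ g, (c.inj g).left ≫ t.left = (ρ g).hom.left := fun g => by
    rw [← Over.comp_left, ht]
  have hiso : ∀ g, IsIso (ρ g).hom.left := fun g =>
    inferInstanceAs (IsIso ((Over.forget S).map (ρ g).hom))
  have hcomp : ∀ g, (c.inj g).left ≫ (toProd t s).left =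
      pullback.diagonal U.hom ≫ pullback.map U.hom U.hom U.hom U.hom (ρ g).hom.left (𝟙 _) (𝟙 _)
        (by rw [Over.w, Category.comp_id]) (by rw [Category.id_comp, Category.comp_id]) := by
    intro g
    rw [← graph_eq U.hom (ρ g).hom.left (Over.w _)]
    apply pullback.hom_ext
    · rw [Category.assoc, pullback.lift_fst]
      show (c.inj g).left ≫ pullback.lift t.left s.left _ ≫ pullback.fst _ _ = _
      rw [pullback.lift_fst, ht']
    · rw [Category.assoc, pullback.lift_snd]
      show (c.inj g).left ≫ pullback.lift t.left s.left _ ≫ pullback.snd _ _ = _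
      rw [pullback.lift_snd, hs']
  have hisoM : ∀ g, IsIso (pullback.map U.hom U.hom U.hom U.hom (ρ g).hom.left (𝟙 _) (𝟙 _)
        (by rw [Over.w, Category.comp_id]) (by rw [Category.id_comp, Category.comp_id])) := by
    intro g
    haveI := hiso g
    infer_instance
  constructor
  · intro hqs
    have hQ : QuasiCompact (toProd t s).left := by
      refine quasiCompact_of_cover (fun g => (c.inj g).left) hcov _ (fun g => ?_)
      rw [hcomp g]
      haveI := hisoM g
      infer_instance
    have := SchDescent.descendsAlong_quasiCompact_fppf.{u}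
    exact repWith_diag_of_chart @QuasiCompact ⟨_, hq⟩ _ hP.etale hP.surjective s t hP.isPullback hQ
  · intro hsep
    haveI : Mono (toProd t s).left := by
      constructor
      intro T a b hab
      have e1 : a ≫ t.left = b ≫ t.left := by
        have := congrArg (fun k => k ≫ pullback.fst U.hom U.hom) hab
        simp only [Category.assoc] at this
        have hf : (toProd t s).left ≫ pullback.fst U.hom U.hom = t.left :=
          congrArg (fun k => k.left) (toProd_fst t s)
        rwa [hf] at this
      have e2 : a ≫ s.left = b ≫ s.left := by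
        have := congrArg (fun k => k ≫ pullback.snd U.hom U.hom) hab
        simp only [Category.assoc] at this
        have hf : (toProd t s).left ≫ pullback.snd U.hom U.hom = s.left :=
          congrArg (fun k => k.left) (toProd_snd t s)
        rwa [hf] at this
      have hw : b ≫ c.pt.hom = a ≫ c.pt.hom := by
        rw [← Over.w s, ← Category.assoc, ← Category.assoc, e2]
      have := h.injective (Over.mk (a ≫ c.pt.hom)) (Over.homMk a rfl) (Over.homMk b hw)
        (by apply Over.OverMorphism.ext; exact e1) (by apply Over.OverMorphism.ext; exact e2)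
      exact congrArg (fun k => k.left) this
    have hQ : IsClosedImmersion (toProd t s).left := by
      refine isClosedImmersion_of_cover (fun g => (c.inj g).left) hcov _ (fun g => ?_)
      rw [hcomp g]
      haveI := hisoM g
      infer_instance
    have := Groth.Agent.Lead.SchDescent4.descendsAlong_isClosedImmersion_fppf.{u}
    exact repWith_diag_of_chart @IsClosedImmersion ⟨_, hq⟩ _ hP.etale hP.surjective s t
      hP.isPullback hQ

end Groth.Agent.Helper5.FreeSep
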