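import Groth.Agent.Helper5.UnivHomeo1
import Groth.Prelude.Def_Frob

set_option autoImplicit false
universe u
open CategoryTheory CategoryTheory.Limits AlgebraicGeometry TopologicalSpace MorphismProperty

namespace Groth.Agent.Helper5.FrobUH

open FrobSch

variable (p : ℕ) [Fact p.Prime] (X : Scheme.{u}) [FrobSch.IsCharP X p]

theorem isAffineHom_frob : IsAffineHom (frob X p) := ⟨fun _ hU => hU⟩

theorem isIntegralHom_frob : IsIntegralHom (frob X p) := by
  have := isAffineHom_frob p X
  refine ⟨fun U _ (s : Γ(X, U)) => ?_⟩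
  show ∃ P : Polynomial Γ(X, U), P.Monic ∧ Polynomial.eval₂ ((frob X p).app U).hom s P = 0
  refine ⟨Polynomial.X ^ p - Polynomial.C s,
    Polynomial.monic_X_pow_sub_C s (Fact.out : p.Prime).ne_zero, ?_⟩
  rw [Polynomial.eval₂_sub, Polynomial.eval₂_pow, Polynomial.eval₂_X, Polynomial.eval₂_C]
  have : ((frob X p).app U).hom s = s ^ p := rfl
  rw [this]
  exact sub_self _

theorem stalkMap_frob (x : X) (t : X.presheaf.stalk x) :
    ((frob X p).stalkMap x).hom t = t ^ p := by
  obtain ⟨U, hxU, s, rfl⟩ := X.presheaf.exists_germ_eq (x := x) t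
  have h := Scheme.Hom.germ_stalkMap_apply (frob X p) U x hxU s
  rw [← map_pow]
  exact h

theorem residueFieldMap_frob (x : X) (t : X.residueField x) :
    ((frob X p).residueFieldMap x).hom t = t ^ p := by
  obtain ⟨s, rfl⟩ := Scheme.residue_surjective X x t
  have h := congrArg (fun φ => φ.hom s) (Scheme.residue_residueFieldMap (frob X p) x)
  simp only [CommRingCat.hom_comp, RingHom.comp_apply] at h
  rw [← map_pow]
  refine h.trans ?_
  congr 1
  exact stalkMap_frob p X x s

theorem natCast_residueField (x : X) : (p : X.residueField x) = 0 := by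
  have h0 : (p : Γ(X, ⊤)) = 0 := IsCharP.natCast_eq_zero
  have h1 := congrArg (fun s => (X.residue x).hom ((X.presheaf.germ ⊤ x trivial).hom s)) h0
  simpa using h1

theorem isPurelyInseparable_frob (x : X) :
    ((frob X p).residueFieldMap x).hom.IsPurelyInseparable := by
  let K := X.residueField x
  let φ : K →+* K := ((frob X p).residueFieldMap x).hom
  have hφ : ∀ t : K, φ t = t ^ p := residueFieldMap_frob p X x
  show φ.IsPurelyInseparable
  unfold RingHom.IsPurelyInseparable
  let _ : Algebra K K := φ.toAlgebra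
  have hchar : CharP K p :=
    (CharP.charP_iff_prime_eq_zero (Fact.out : p.Prime)).2 (natCast_residueField p X x)
  have : ExpChar K p := ExpChar.prime (Fact.out : p.Prime)
  rw [isPurelyInseparable_iff_pow_mem K p]
  intro t
  refine ⟨1, t, ?_⟩
  rw [pow_one]
  exact hφ t

theorem s14929 : FlatMor.IsUnivHomeo (FrobSch.frob X p) ∧ IsIntegralHom (FrobSch.frob X p) ∧
    ∀ x : X, ((FrobSch.frob X p).residueFieldMap x).hom.IsPurelyInseparable := by
  have h1 := isIntegralHom_frob p X
  have h2 := isPurelyInseparable_frob p X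
  refine ⟨?_, h1, h2⟩
  rw [UnivHomeo.isUnivHomeo_iff]
  refine ⟨h1, ?_, ⟨fun x => ⟨x, rfl⟩⟩⟩
  have := (tfae_universallyInjective (frob X p)).out 0 2
  rw [this]
  exact ⟨fun a b hab => hab, h2⟩

end Groth.Agent.Helper5.FrobUH
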