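import Groth.Agent.Helper5.FrobUH1

set_option autoImplicit false
universe u
open CategoryTheory CategoryTheory.Limits AlgebraicGeometry TopologicalSpace MorphismProperty

namespace Groth.Agent.Helper5.FrobUH

open FrobSch

theorem universallyInjective_of_comp {X Y Z : Scheme.{u}} (h : X ⟶ Y) (g : Y ⟶ Z)
    (hc : UniversallyInjective (h ≫ g)) : UniversallyInjective h := by
  have e1 := (tfae_universallyInjective (h ≫ g)).out 0 1
  have e2 := (tfae_universallyInjective h).out 0 1
  rw [e2]
  rw [e1] at hc
  intro K _ a b hab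
  apply hc K
  show a ≫ h ≫ g = b ≫ h ≫ g
  have : a ≫ h = b ≫ h := hab
  rw [← Category.assoc, this, Category.assoc]

theorem s14930 (p : ℕ) [Fact p.Prime] {X S : Scheme.{u}} [FrobSch.IsCharP S p] (f : X ⟶ S) :
    FlatMor.IsUnivHomeo (FrobSch.relFrob f p) ∧ IsIntegralHom (FrobSch.relFrob f p) ∧
      ∀ x : X, ((FrobSch.relFrob f p).residueFieldMap x).hom.IsPurelyInseparable := by
  have : IsCharP X p := IsCharP.of_hom f p
  have hcomp : relFrob f p ≫ pullback.fst f (frob S p) = frob X p := relFrob_fst f p
  have hS := s14929 p S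
  have hX := s14929 p X
  have hSint : IsIntegralHom (frob S p) := hS.2.1
  have hSinj : UniversallyInjective (frob S p) := ((UnivHomeo.isUnivHomeo_iff _).1 hS.1).2.1
  have hXint : IsIntegralHom (frob X p) := hX.2.1
  have hXinj : UniversallyInjective (frob X p) := ((UnivHomeo.isUnivHomeo_iff _).1 hX.1).2.1
  have hgint : IsIntegralHom (pullback.fst f (frob S p)) :=
    MorphismProperty.pullback_fst _ _ hSint
  have hginj : UniversallyInjective (pullback.fst f (frob S p)) :=
    MorphismProperty.pullback_fst _ _ hSinj
  have hcint : IsIntegralHom (relFrob f p ≫ pullback.fst f (frob S p)) := by rw [hcomp]; exact hXint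
  have hcinj : UniversallyInjective (relFrob f p ≫ pullback.fst f (frob S p)) := by
    rw [hcomp]; exact hXinj
  have h1 : IsIntegralHom (relFrob f p) :=
    IsIntegralHom.of_comp (relFrob f p) (pullback.fst f (frob S p))
  have h2 : UniversallyInjective (relFrob f p) := universallyInjective_of_comp _ _ hcinj
  have h3 : Surjective (relFrob f p) := by
    refine ⟨fun z => ?_⟩
    refine ⟨pullback.fst f (frob S p) z, ?_⟩
    apply (pullback.fst f (frob S p)).injective
    have := congrArg (fun ψ : X ⟶ X => ψ (pullback.fst f (frob S p) z)) hcomp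
    exact this
  refine ⟨(UnivHomeo.isUnivHomeo_iff _).2 ⟨h1, h2, h3⟩, h1, ?_⟩
  have := (tfae_universallyInjective (relFrob f p)).out 0 2
  exact (this.1 h2).2

end Groth.Agent.Helper5.FrobUH
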