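import Groth.Agent.Helper5.FrobUH2

set_option autoImplicit false
universe u
open CategoryTheory CategoryTheory.Limits AlgebraicGeometry TopologicalSpace MorphismProperty

namespace Groth.Agent.Helper5.FrobUH

open FrobSch

theorem s14931 (p : ℕ) [Fact p.Prime] {X S : Scheme.{u}} [FrobSch.IsCharP S p] (f : X ⟶ S)
    [LocallyOfFiniteType f] : IsFinite (FrobSch.relFrob f p) := by
  rw [IsFinite.iff_isIntegralHom_and_locallyOfFiniteType]
  refine ⟨(s14930 p f).2.1, ?_⟩
  have hcomp : relFrob f p ≫ pullback.snd f (frob S p) = f := relFrob_snd f p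
  have : LocallyOfFiniteType (relFrob f p ≫ pullback.snd f (frob S p)) := by
    rw [hcomp]; infer_instance
  exact locallyOfFiniteType_of_comp (relFrob f p) (pullback.snd f (frob S p))

end Groth.Agent.Helper5.FrobUH
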