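import Groth.Agent.Helper5.FtDim
import Groth.Agent.Helper5.DimBC

set_option autoImplicit false
universe u
open Polynomial

namespace Groth.Agent.Helper5.FtDim

/-- For a nonzero `f` in `k[x₁..x_d]`, `dim k[x]/(f) + 1 = d`. -/
theorem dim_quotient_span_singleton_mvPolynomial (k : Type u) [Field k] (d : ℕ)
    (q : Ideal (MvPolynomial (Fin d) k)) (hq : q ≠ ⊤) (f : MvPolynomial (Fin d) k) (hf : f ≠ 0)
    (hqf : q = Ideal.span {f}) :
    ringKrullDim (MvPolynomial (Fin d) k ⧸ q) + 1 = d := by
  subst hqf
  apply le_antisymm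
  · have h := ringKrullDim_quotient_succ_le_of_nonZeroDivisor
      (R := MvPolynomial (Fin d) k) (r := f) (mem_nonZeroDivisors_of_ne_zero hf)
    rwa [Groth.Agent.Helper5.DimBC.dim_mvPolynomial] at h
  · obtain ⟨M, hM, hle⟩ := Ideal.exists_le_maximal _ hq
    have hfM : f ∈ M := hle (Ideal.mem_span_singleton_self f)
    have h1 := height_of_isMaximal_mvPolynomial k d M hM
    have h2 := Ideal.height_le_ringKrullDim_quotient_add_one hfM
    rw [h1] at h2
    exact_mod_cast h2

/-- In a finite type domain over a field, a prime `p` covering `⊥` has `dim A/p + 1 = dim A`. -/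
theorem dim_quotient_add_one_of_covBy (k A : Type u) [Field k] [CommRing A] [IsDomain A]
    [Algebra k A] [Algebra.FiniteType k A]
    (p : Ideal A) [p.IsPrime] (hp0 : p ≠ ⊥) (hcov : ∀ q : Ideal A, q.IsPrime → q < p → q = ⊥) :
    ringKrullDim (A ⧸ p) + 1 = ringKrullDim A := by
  obtain ⟨d, g, hinj, hfin⟩ := exists_finite_inj_algHom_of_fg k A
  have hint : g.toRingHom.IsIntegral := RingHom.IsIntegral.of_finite hfin
  have hA : ringKrullDim A = d := by
    rw [Groth.Agent.Helper2.Dim.dim_eq_of_integral_injective g.toRingHom hint hinj,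
      Groth.Agent.Helper5.DimBC.dim_mvPolynomial]
  let P := MvPolynomial (Fin d) k
  algebraize [g.toRingHom]
  have hintA : Algebra.IsIntegral P A := ⟨hint⟩
  have hfaith : FaithfulSMul P A := (faithfulSMul_iff_algebraMap_injective P A).2 hinj
  have hnoeth : IsNoetherianRing A := Algebra.FiniteType.isNoetherianRing k A
  have hp1 : p.height = 1 := by
    apply le_antisymm
    · have : p.height ≤ (1 : ℕ) := by
        rw [Ideal.height_le_iff]
        intro q hq hlt
        rw [hcov q hq hlt]
        simp
      simpa using this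
    · rw [Order.one_le_iff_pos, pos_iff_ne_zero, Ne, Ideal.height_eq_zero_iff_eq_bot]
      exact hp0
  have hq1 : (p.under P).height = 1 := by
    rw [← height_eq_height_under p]
    exact hp1
  have hqprin : (p.under P).IsPrincipal :=
    UniqueFactorizationMonoid.isPrincipal_of_height_eq_one hq1
  obtain ⟨f, hf⟩ := hqprin
  have hf0 : f ≠ 0 := by
    rintro rfl
    have : p.under P = ⊥ := by
      rw [hf]
      simp
    rw [this] at hq1
    simp at hq1
  have h3 := dim_quotient_span_singleton_mvPolynomial k d (p.under P) Ideal.IsPrime.ne_top' f hf0 hf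
  have h4 : ringKrullDim (A ⧸ p) = ringKrullDim (P ⧸ p.under P) :=
    Groth.Agent.Helper2.Dim.dim_eq_of_integral_injective (algebraMap (P ⧸ p.under P) (A ⧸ p))
      (Algebra.IsIntegral.isIntegral) Ideal.algebraMap_quotient_injective
  rw [h4, h3, hA]

end Groth.Agent.Helper5.FtDim
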