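import Groth.Agent.Helper5.FtDim2

set_option autoImplicit false
universe u

namespace Groth.Agent.Helper5.FtDim

theorem dim_quotient_of_covBy (k A : Type u) [Field k] [CommRing A]
    [Algebra k A] [Algebra.FiniteType k A] (p q : PrimeSpectrum A) (h : p ⋖ q) :
    ringKrullDim (A ⧸ q.asIdeal) + 1 = ringKrullDim (A ⧸ p.asIdeal) := by
  have hpq : p.asIdeal ≤ q.asIdeal := h.le
  have hpq' : p.asIdeal < q.asIdeal := h.lt
  let B := A ⧸ p.asIdeal
  let q' : Ideal B := q.asIdeal.map (Ideal.Quotient.mk p.asIdeal)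
  have hq' : q'.IsPrime := Ideal.isPrime_map_quotientMk_of_isPrime hpq
  have hcomap : q'.comap (Ideal.Quotient.mk p.asIdeal) = q.asIdeal := by
    rw [Ideal.comap_map_of_surjective' _ Ideal.Quotient.mk_surjective, Ideal.mk_ker,
      sup_of_le_left hpq]
  have hq0 : q' ≠ ⊥ := by
    intro h0
    rw [h0] at hcomap
    have : q.asIdeal ≤ p.asIdeal := by
      rw [← hcomap]
      intro x hx
      rw [Ideal.mem_comap, Ideal.mem_bot] at hx
      exact Ideal.Quotient.eq_zero_iff_mem.1 hx
    exact absurd hpq' (not_lt_of_ge this)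
  have hcov : ∀ r : Ideal B, r.IsPrime → r < q' → r = ⊥ := by
    intro r hr hlt
    let r0 : Ideal A := r.comap (Ideal.Quotient.mk p.asIdeal)
    have hr0 : r0.IsPrime := Ideal.comap_isPrime _ _
    have h1 : p.asIdeal ≤ r0 := by
      intro x hx
      show Ideal.Quotient.mk p.asIdeal x ∈ r
      rw [Ideal.Quotient.eq_zero_iff_mem.2 hx]
      exact zero_mem _
    have h2 : r0 < q.asIdeal := by
      rw [← hcomap]
      exact lt_of_le_of_ne (Ideal.comap_mono hlt.le) (fun h =>
          hlt.ne (Ideal.comap_injective_of_surjective _ Ideal.Quotient.mk_surjective h))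
    have h3 : ¬ p < (⟨r0, hr0⟩ : PrimeSpectrum A) := fun h4 => h.2 h4 h2
    have h5 : r0 = p.asIdeal := by
      by_contra hne
      exact h3 (lt_of_le_of_ne h1 (fun h6 => hne (congrArg PrimeSpectrum.asIdeal h6).symm))
    have h7 : r = r0.map (Ideal.Quotient.mk p.asIdeal) :=
      (Ideal.map_comap_of_surjective _ Ideal.Quotient.mk_surjective r).symm
    rw [h7, h5, Ideal.map_quotient_self]
  have key := dim_quotient_add_one_of_covBy k B q' hq0 hcov
  rw [← key, ringKrullDim_eq_of_ringEquiv (DoubleQuot.quotQuotEquivQuotOfLE hpq)]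

/-- Saturated chains of primes from `⊥` to a maximal ideal in a finite type domain over a field
all have length `dim A`. -/
theorem length_eq_dim_of_saturated (k A : Type u) [Field k] [CommRing A]
    [IsDomain A] [Algebra k A] [Algebra.FiniteType k A] (c : LTSeries (PrimeSpectrum A))
    (h0 : c.head.asIdeal = ⊥) (hmax : c.last.asIdeal.IsMaximal)
    (hsat : ∀ i : Fin c.length, c i.castSucc ⋖ c i.succ) :
    (c.length : WithBot ℕ∞) = ringKrullDim A := by
  have key : ∀ (i : ℕ) (hi : i < c.length + 1),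
      ringKrullDim (A ⧸ (c ⟨i, hi⟩).asIdeal) + (i : WithBot ℕ∞) = ringKrullDim A := by
    intro i
    induction i with
    | zero =>
      intro hi
      have : (c ⟨0, hi⟩).asIdeal = ⊥ := h0
      rw [this, Nat.cast_zero, add_zero]
      exact ringKrullDim_eq_of_ringEquiv (RingEquiv.quotientBot A)
    | succ i ih =>
      intro hi
      have hi' : i < c.length := Nat.lt_of_succ_lt_succ hi
      have h1 := ih (Nat.lt_succ_of_lt hi')
      have h2 := dim_quotient_of_covBy k A _ _ (hsat ⟨i, hi'⟩)
      rw [← h1]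
      have e1 : (Fin.castSucc ⟨i, hi'⟩ : Fin (c.length + 1)) = ⟨i, Nat.lt_succ_of_lt hi'⟩ := rfl
      have e2 : (Fin.succ ⟨i, hi'⟩ : Fin (c.length + 1)) = ⟨i + 1, hi⟩ := rfl
      rw [e1, e2] at h2
      rw [← h2, Nat.cast_add, Nat.cast_one, add_assoc, add_comm (1 : WithBot ℕ∞)]
  have hlast := key c.length (Nat.lt_succ_self _)
  have hfield : ringKrullDim (A ⧸ c.last.asIdeal) = 0 := by
    let _ := Ideal.Quotient.field c.last.asIdeal
    exact ringKrullDim_eq_zero_of_field _
  have e3 : c ⟨c.length, Nat.lt_succ_self _⟩ = c.last := rfl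
  rw [e3, hfield, zero_add] at hlast
  exact hlast

end Groth.Agent.Helper5.FtDim
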