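import Groth.Agent.Helper5.FtDim8

set_option autoImplicit false
universe u

namespace Groth.Agent.Helper5.FtDim

open Order TopologicalSpace

theorem delta_mono (k A : Type u) [Field k] [CommRing A] [Algebra k A]
    [Algebra.FiniteType k A] (p m : PrimeSpectrum A) (h : p ≤ m) :
    height p + coheight p ≤ height m + coheight m := by
  have hN : IsNoetherianRing A := Algebra.FiniteType.isNoetherianRing k A
  obtain ⟨P, hP, hge⟩ := exists_le_with_coheight_ge hN p
  exact hge.trans (coheight_le_height_add_coheight' k A m P (hP.trans h))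

theorem exists_isMaximal_height_le (k A : Type u) [Field k] [CommRing A] [Algebra k A]
    [Algebra.FiniteType k A] (p : PrimeSpectrum A) :
    ∃ m : PrimeSpectrum A, m.asIdeal.IsMaximal ∧ p ≤ m ∧ height m ≤ height p + coheight p := by
  obtain ⟨U, hpU, hU⟩ := exists_open_height_le k A p
  have hJ : IsJacobsonRing A := isJacobsonRing_of_finiteType (A := k)
  have hJ' : JacobsonSpace (PrimeSpectrum A) := PrimeSpectrum.isJacobsonRing_iff_jacobsonSpace.1 hJ
  have hne : ((U : Set (PrimeSpectrum A)) ∩ closure {p}).Nonempty := ⟨p, hpU, subset_closure rfl⟩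
  have hlc : IsLocallyClosed ((U : Set (PrimeSpectrum A)) ∩ closure {p}) :=
    U.isOpen.isLocallyClosed.inter isClosed_closure.isLocallyClosed
  obtain ⟨m, ⟨hmU, hmp⟩, hm⟩ := nonempty_inter_closedPoints hne hlc
  refine ⟨m, (PrimeSpectrum.isClosed_singleton_iff_isMaximal m).1 hm, ?_, hU m hmU⟩
  rw [PrimeSpectrum.le_iff_specializes, specializes_iff_mem_closure]
  exact hmp

theorem coheight_eq_zero_of_isMaximal {A : Type*} [CommRing A] (m : PrimeSpectrum A)
    (hm : m.asIdeal.IsMaximal) : coheight m = 0 := by
  rw [coheight_eq_zero]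
  intro x hx
  have : m.asIdeal = x.asIdeal := hm.eq_of_le x.2.ne_top hx
  exact le_of_eq (PrimeSpectrum.ext this).symm

end Groth.Agent.Helper5.FtDim
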