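import Mathlib

set_option autoImplicit false
universe u
open CategoryTheory CategoryTheory.Limits AlgebraicGeometry Opposite TopologicalSpace

namespace Groth.Agent.Helper5.GSS

/-- Two closed immersions from reduced schemes with the same range are isomorphic over the
target. -/
theorem exists_iso_of_reduced_of_range_eq {Y Z₁ Z₂ : Scheme.{u}} (z₁ : Z₁ ⟶ Y) (z₂ : Z₂ ⟶ Y)
    [IsClosedImmersion z₁] [IsClosedImmersion z₂] [IsReduced Z₁] [IsReduced Z₂]
    (h : Set.range z₁ = Set.range z₂) : ∃ e : Z₁ ≅ Z₂, e.hom ≫ z₂ = z₁ := by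
  haveI : Surjective (pullback.fst z₁ z₂) := by
    constructor
    rw [← Set.range_eq_univ, Scheme.Pullback.range_fst, ← h, Set.preimage_range]
  haveI : Surjective (pullback.snd z₁ z₂) := by
    constructor
    rw [← Set.range_eq_univ, Scheme.Pullback.range_snd, h, Set.preimage_range]
  haveI : IsIso (pullback.fst z₁ z₂) := isIso_of_isClosedImmersion_of_surjective _
  haveI : IsIso (pullback.snd z₁ z₂) := isIso_of_isClosedImmersion_of_surjective _
  refine ⟨(asIso (pullback.fst z₁ z₂)).symm ≪≫ asIso (pullback.snd z₁ z₂), ?_⟩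
  simp only [Iso.trans_hom, Iso.symm_hom, asIso_inv, asIso_hom, Category.assoc,
    IsIso.inv_comp_eq]
  exact pullback.condition.symm

/-- The reduced induced structure on the locally closed subset `A \ B`. -/
noncomputable abbrev stratum (Y : Scheme.{u}) (A B : Closeds Y) : Scheme.{u} :=
  ((Scheme.IdealSheafData.vanishingIdeal A).subschemeι ⁻¹ᵁ B.compl).toScheme

/-- The immersion of the stratum. -/
noncomputable abbrev stratumι (Y : Scheme.{u}) (A B : Closeds Y) : stratum Y A B ⟶ Y :=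
  ((Scheme.IdealSheafData.vanishingIdeal A).subschemeι ⁻¹ᵁ B.compl).ι ≫
    (Scheme.IdealSheafData.vanishingIdeal A).subschemeι

theorem isReduced_subscheme_of_radical (X : Scheme.{u}) (I : X.IdealSheafData)
    (h : I.radical = I) : IsReduced I.subscheme := by
  rw [IsReduced.iff_of_openCover (X := I.subscheme) I.subschemeCover.openCover]
  intro (U : X.affineOpens)
  change IsReduced (Spec (CommRingCat.of (Γ(X, U) ⧸ I.ideal U)))
  rw [affine_isReduced_iff]
  have h2 : (I.ideal U).IsRadical := by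
    have := congrArg (fun J : X.IdealSheafData => J.ideal U) h
    exact Ideal.radical_eq_iff.mp this
  exact (Ideal.isRadical_iff_quotient_reduced _).mp h2

theorem support_vanishingIdeal {Y : Scheme.{u}} (A : Closeds Y) :
    (Scheme.IdealSheafData.vanishingIdeal A).support = A :=
  TopologicalSpace.Closeds.ext (Scheme.IdealSheafData.coe_support_vanishingIdeal A)

instance isReduced_vanishingIdeal_subscheme {Y : Scheme.{u}} (A : Closeds Y) :
    IsReduced (Scheme.IdealSheafData.vanishingIdeal A).subscheme := by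
  apply isReduced_subscheme_of_radical
  rw [← Scheme.IdealSheafData.vanishingIdeal_support, support_vanishingIdeal]

theorem range_vanishingIdeal_subschemeι {Y : Scheme.{u}} (A : Closeds Y) :
    Set.range (Scheme.IdealSheafData.vanishingIdeal A).subschemeι = A := by
  rw [Scheme.IdealSheafData.range_subschemeι, Scheme.IdealSheafData.coe_support_vanishingIdeal]

instance isReduced_stratum (Y : Scheme.{u}) (A B : Closeds Y) : IsReduced (stratum Y A B) :=
  isReduced_of_isOpenImmersion
    ((Scheme.IdealSheafData.vanishingIdeal A).subschemeι ⁻¹ᵁ B.compl).ι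

theorem range_stratumι (Y : Scheme.{u}) (A B : Closeds Y) :
    Set.range (stratumι Y A B) = (A : Set Y) \ B := by
  rw [Scheme.Hom.comp_base, TopCat.coe_comp, Set.range_comp, Scheme.Opens.range_ι]
  ext y
  constructor
  · rintro ⟨z, hz, rfl⟩
    refine ⟨?_, hz⟩
    rw [← range_vanishingIdeal_subschemeι A]
    exact ⟨z, rfl⟩
  · rintro ⟨hyA, hyB⟩
    rw [← range_vanishingIdeal_subschemeι A] at hyA
    obtain ⟨z, rfl⟩ := hyA
    exact ⟨z, hyB, rfl⟩

/-- Uniqueness of the reduced induced structure on a locally closed subset. -/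
theorem exists_iso_stratum {Y T : Scheme.{u}} (A B : Closeds Y) (j : T ⟶ Y) [IsPreimmersion j]
    [IsReduced T] (hj : Set.range j = (A : Set Y) \ B) :
    ∃ e : T ≅ stratum Y A B, e.hom ≫ stratumι Y A B = j := by
  obtain ⟨sι, hsι⟩ : ∃ sι, sι = (Scheme.IdealSheafData.vanishingIdeal A).subschemeι := ⟨_, rfl⟩
  obtain ⟨O, hO⟩ : ∃ O : Y.Opens, O = B.compl := ⟨_, rfl⟩
  have hOmem : ∀ y : Y, y ∈ O ↔ y ∉ (B : Set Y) := by
    intro y; rw [hO]; rfl
  haveI : IsClosedImmersion sι := hsι ▸ inferInstance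
  have hsr : Set.range sι = A := hsι ▸ range_vanishingIdeal_subschemeι A
  have hjO : Set.range j ⊆ Set.range O.ι := by
    rw [Scheme.Opens.range_ι, hj]
    exact fun y hy => (hOmem y).mpr hy.2
  obtain ⟨j₀, hj₀⟩ : ∃ j₀ : T ⟶ O.toScheme, j₀ ≫ O.ι = j :=
    ⟨IsOpenImmersion.lift O.ι j hjO, IsOpenImmersion.lift_fac _ _ _⟩
  haveI : IsPreimmersion (j₀ ≫ O.ι) := hj₀ ▸ inferInstance
  haveI : IsPreimmersion j₀ := .of_comp j₀ O.ι
  have hr₀ : Set.range j₀ = O.ι ⁻¹' (A : Set Y) := by
    ext y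
    constructor
    · rintro ⟨t, rfl⟩
      have : j t ∈ (A : Set Y) \ B := hj ▸ ⟨t, rfl⟩
      rw [← hj₀] at this
      exact this.1
    · intro hy
      have : O.ι y ∈ Set.range j := by
        rw [hj]; exact ⟨hy, (hOmem _).mp y.2⟩
      obtain ⟨t, ht⟩ := this
      refine ⟨t, O.ι.isEmbedding.injective ?_⟩
      rw [← ht, ← hj₀]; rfl
  haveI : IsClosedImmersion j₀ := by
    refine .of_isPreimmersion _ ?_
    rw [hr₀]
    exact A.isClosed.preimage O.ι.continuous
  have hr₁ : Set.range (sι ∣_ O) = O.ι ⁻¹' (A : Set Y) := by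
    ext y
    constructor
    · rintro ⟨t, rfl⟩
      show O.ι ((sι ∣_ O) t) ∈ (A : Set Y)
      rw [← Scheme.Hom.comp_apply, morphismRestrict_ι, Scheme.Hom.comp_apply, ← hsr]
      exact ⟨_, rfl⟩
    · intro hy
      have : O.ι y ∈ Set.range sι := by rw [hsr]; exact hy
      obtain ⟨z, hz⟩ := this
      have hzO : z ∈ sι ⁻¹ᵁ O := by
        show sι z ∈ O
        rw [hz]; exact y.2
      let z₀ : (sι ⁻¹ᵁ O).toScheme := ⟨z, hzO⟩
      refine ⟨z₀, O.ι.isEmbedding.injective ?_⟩
      rw [← Scheme.Hom.comp_apply, morphismRestrict_ι, Scheme.Hom.comp_apply]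
      exact hz
  haveI : IsReduced (sι ⁻¹ᵁ O).toScheme := isReduced_of_isOpenImmersion (sι ⁻¹ᵁ O).ι
  obtain ⟨e, he⟩ := exists_iso_of_reduced_of_range_eq j₀ (sι ∣_ O) (hr₀.trans hr₁.symm)
  subst hsι hO
  refine ⟨e, ?_⟩
  rw [← hj₀, ← he, Category.assoc, morphismRestrict_ι]

end Groth.Agent.Helper5.GSS
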