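import Groth.Agent.Helper5.GFEa
import Groth.Agent.Helper5.GSSa
import Mathlib

set_option autoImplicit false
set_option linter.style.haveILetI false
universe u
open CategoryTheory CategoryTheory.Limits AlgebraicGeometry Opposite TopologicalSpace

namespace Groth.Agent.Helper5.GCI

/-- Preimage under an inducing map of an irreducible component whose generic point lies in the
image is an irreducible component. -/
theorem preimage_mem_irreducibleComponents_of_isInducing {A B : Type*} [TopologicalSpace A]
    [TopologicalSpace B] {e : A → B} (he : Topology.IsInducing e) {C : Set B}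
    (hC : C ∈ irreducibleComponents B) (a : A) (ha : closure {e a} = C) :
    e ⁻¹' C ∈ irreducibleComponents A := by
  have h1 : e ⁻¹' C = closure {a} := by
    rw [he.closure_eq_preimage_closure_image, Set.image_singleton, ha]
  refine ⟨h1 ▸ isIrreducible_singleton.closure, fun B' hB' hle => ?_⟩
  have hirr : IsIrreducible (e '' B') := hB'.image e he.continuous.continuousOn
  obtain ⟨C', hC', hsub⟩ := exists_mem_irreducibleComponents_subset_of_isIrreducible _ hirr
  have haB : a ∈ B' := hle (by rw [h1]; exact subset_closure rfl)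
  have hCC : C ⊆ C' := by
    rw [← ha]
    exact (isClosed_of_mem_irreducibleComponents _ hC').closure_subset_iff.mpr
      (Set.singleton_subset_iff.mpr (hsub ⟨a, haB, rfl⟩))
  have hCC' : C' ⊆ C := hC.2 hC'.1 hCC
  intro b hb
  exact hCC' (hsub ⟨b, hb, rfl⟩)

/-- Irreducible components of an open subspace are traces of irreducible components. -/
theorem exists_component_of_isOpenEmbedding {A B : Type*} [TopologicalSpace A]
    [TopologicalSpace B] {e : A → B} (he : Topology.IsOpenEmbedding e) {Z : Set A}
    (hZ : Z ∈ irreducibleComponents A) : ∃ C ∈ irreducibleComponents B, e ⁻¹' C = Z := by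
  have hirr : IsIrreducible (e '' Z) := hZ.1.image e he.continuous.continuousOn
  obtain ⟨C, hC, hsub⟩ := exists_mem_irreducibleComponents_subset_of_isIrreducible _ hirr
  obtain ⟨z, hz⟩ := hZ.1.1
  have hne : (C ∩ Set.range e).Nonempty := ⟨e z, hsub ⟨z, hz, rfl⟩, z, rfl⟩
  have hpre := preimage_mem_irreducibleComponents hC he hne
  have hle : Z ⊆ e ⁻¹' C := fun a ha => hsub ⟨a, ha, rfl⟩
  exact ⟨C, hC, Set.Subset.antisymm (hZ.2 hpre.1 hle) hle⟩

/-- Geometric reducedness passes to open subschemes. -/
theorem geometricallyReduced_comp_of_isOpenImmersion {U G S : Scheme.{u}} (j : U ⟶ G) (g : G ⟶ S)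
    [IsOpenImmersion j] [GeometricallyReduced g] : GeometricallyReduced (j ≫ g) := by
  constructor
  intro K _ y Z fst snd h
  obtain ⟨l, hl⟩ : ∃ l : Z ⟶ pullback g y, l = pullback.lift (fst ≫ j) snd
      (by rw [Category.assoc]; exact h.w) := ⟨_, rfl⟩
  have hl1 : l ≫ pullback.fst g y = fst ≫ j := by rw [hl, pullback.lift_fst]
  have hl2 : l ≫ pullback.snd g y = snd := by rw [hl, pullback.lift_snd]
  have sq : IsPullback fst l j (pullback.fst g y) := by
    refine IsPullback.of_bot ?_ hl1.symm (IsPullback.of_hasPullback g y)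
    rw [hl2]
    exact h
  haveI : IsOpenImmersion l := MorphismProperty.of_isPullback sq inferInstance
  haveI : IsReduced (pullback g y) :=
    GeometricallyReduced.geometrically_isReduced (f := g) y _ _ (IsPullback.of_hasPullback g y)
  exact isReduced_of_isOpenImmersion l

/-- Over a field, a reduced scheme with a dense quasi-compact open geometrically reduced
subscheme is geometrically reduced. -/
theorem geometricallyReduced_of_dense_open {D S : Scheme.{u}} [Subsingleton S] [IsIntegral S]
    (d : D ⟶ S) [IsReduced D] (U : D.Opens) (hU : Dense (U : Set D)) [QuasiCompact U.ι]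
    [GeometricallyReduced (U.ι ≫ d)] : GeometricallyReduced d := by
  constructor
  intro K _ y Z fst snd h
  haveI : Flat y := inferInstance
  haveI : Flat fst := MorphismProperty.of_isPullback h.flip inferInstance
  haveI : IsDominant U.ι := ⟨by rw [DenseRange, Scheme.Opens.range_ι]; exact hU⟩
  haveI : IsSchemeTheoreticallyDominant U.ι := .of_isDominant _
  have sq := IsPullback.of_hasPullback U.ι fst
  have big : IsPullback (pullback.fst U.ι fst) (pullback.snd U.ι fst ≫ snd) (U.ι ≫ d) y :=
    sq.paste_vert h
  haveI : IsReduced (pullback U.ι fst) :=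
    GeometricallyReduced.geometrically_isReduced (f := U.ι ≫ d) y _ _ big
  exact IsSchemeTheoreticallyDominant.isReduced (pullback.snd U.ι fst)

/-- Geometric irreducibility of a closed subscheme over a field only depends on the underlying
closed subset. -/
theorem geometricallyIrreducible_of_range_eq {k : Type u} [Field k] {W Z₁ Z₂ : Scheme.{u}}
    (h : W ⟶ Spec (CommRingCat.of k)) (ι₁ : Z₁ ⟶ W) (ι₂ : Z₂ ⟶ W) [IsClosedImmersion ι₂]
    (hr : Set.range ι₁ = Set.range ι₂) [GeometricallyIrreducible (ι₁ ≫ h)] :
    GeometricallyIrreducible (ι₂ ≫ h) := by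
  let Ω := AlgebraicClosure k
  refine Groth.Agent.Helper4.GalGeom.geometricallyIrreducible_of_isPullback Ω h
    (pullback.fst h _) (pullback.snd h _) (IsPullback.of_hasPullback _ _) ι₂ ?_
  rw [← hr]
  exact Groth.Agent.Helper5.GFE.isIrreducible_preimage_range h ι₁ Ω

/-- Shrinking along a finite morphism: a nonempty open of an irreducible source contains the
preimage of an open neighbourhood of the image of the generic point. -/
theorem exists_open_preimage_le {Y' Y : Scheme.{u}} (g : Y' ⟶ Y) [IsFinite g]
    [IrreducibleSpace Y'] (W : Y'.Opens) (hW : (W : Set Y').Nonempty) :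
    ∃ O : Y.Opens, g (genericPoint Y') ∈ O ∧ g ⁻¹ᵁ O ≤ W := by
  have hcl : IsClosed (g '' ((W : Set Y')ᶜ)) := g.isClosedMap _ W.isOpen.isClosed_compl
  refine ⟨⟨(g '' ((W : Set Y')ᶜ))ᶜ, hcl.isOpen_compl⟩, ?_, ?_⟩
  · rintro ⟨y, hy, hyg⟩
    have hgen : genericPoint Y' ∈ W :=
      ((genericPoint_spec Y').mem_open_set_iff W.isOpen).mpr
        (by rw [Set.univ_inter]; exact hW)
    have hspec : genericPoint Y' ⤳ y := (genericPoint_spec Y').specializes (Set.mem_univ y)
    have hd := g.isDiscrete_preimage_singleton (g (genericPoint Y'))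
    have : genericPoint Y' = y := hd.eq_of_specializes hspec rfl hyg
    exact hy (this ▸ hgen)
  · intro y hy
    by_contra hyW
    exact hy ⟨y, hyW, rfl⟩

end Groth.Agent.Helper5.GCI
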