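import Groth.Agent.Helper5.GCIa
import Groth.Agent.Helper5.RedFib
import Mathlib

set_option autoImplicit false
set_option linter.style.haveILetI false
universe u
open CategoryTheory CategoryTheory.Limits AlgebraicGeometry Opposite TopologicalSpace

namespace Groth.Agent.Helper5.GCI

/-- The fibre of a closed subscheme is a closed subscheme of the fibre. -/
theorem exists_fiber_closedImmersion {T Y Z K : Scheme.{u}} (t : T ⟶ Y) (s : K ⟶ Y) (ι : Z ⟶ T)
    [IsClosedImmersion ι] :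
    ∃ c : pullback (ι ≫ t) s ⟶ pullback t s, IsClosedImmersion c ∧
      c ≫ pullback.snd t s = pullback.snd (ι ≫ t) s ∧
      c ≫ pullback.fst t s = pullback.fst (ι ≫ t) s ≫ ι ∧
      Set.range c = pullback.fst t s ⁻¹' Set.range ι := by
  have e₁ : ι ≫ t = ι ≫ t := rfl
  have e₂ : s = 𝟙 _ ≫ s := (Category.id_comp _).symm
  obtain ⟨c, hc⟩ : ∃ c : pullback (ι ≫ t) s ⟶ pullback t s,
      c = pullback.map (ι ≫ t) s t s ι (𝟙 _)
        (𝟙 _) ((Category.comp_id _).trans e₁) ((Category.comp_id _).trans e₂) := ⟨_, rfl⟩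
  refine ⟨c, ?_, ?_, ?_, ?_⟩
  · rw [hc]
    exact MorphismProperty.pullbackMap (P := @IsClosedImmersion) inferInstance inferInstance e₁ e₂
  · rw [hc, pullback.lift_snd, Category.comp_id]
  · rw [hc, pullback.lift_fst]
  · rw [hc, Scheme.Pullback.range_map]
    simp only [Scheme.Hom.id_base, TopCat.hom_id, ContinuousMap.coe_id,
      Set.range_id, Set.preimage_univ, Set.inter_univ]

/-- (P1') An irreducible component of the total space dominating the base has geometrically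
irreducible generic fibre, if the components of the generic fibre are geometrically
irreducible. -/
theorem geomIrr_component_fiber {T Y Z : Scheme.{u}} (t : T ⟶ Y) (η : Y)
    (hP1 : ∀ (A : Set ↥(t.fiber η)) (hA : A ∈ irreducibleComponents ↥(t.fiber η)),
      GeometricallyIrreducible
        ((Scheme.IdealSheafData.vanishingIdeal
          ⟨A, isClosed_of_mem_irreducibleComponents A hA⟩).subschemeι ≫
          t.fiberToSpecResidueField η))
    (ι : Z ⟶ T) [IsClosedImmersion ι] (hC : Set.range ι ∈ irreducibleComponents T) (ξ : T)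
    (hξ : closure {ξ} = Set.range ι) (hξη : t ξ = η) :
    GeometricallyIrreducible ((ι ≫ t).fiberToSpecResidueField η) := by
  obtain ⟨c, hc1, hc2, -, hc4⟩ := exists_fiber_closedImmersion t (Y.fromSpecResidueField η) ι
  have hξmem : ξ ∈ Set.range (t.fiberι η) := by
    rw [Scheme.Hom.range_fiberι]; exact hξη
  obtain ⟨ξ', hξ'⟩ := hξmem
  have hA : t.fiberι η ⁻¹' Set.range ι ∈ irreducibleComponents ↥(t.fiber η) :=
    preimage_mem_irreducibleComponents_of_isInducing (t.fiberι η).isEmbedding.isInducing hC ξ'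
      (by rw [hξ']; exact hξ)
  show GeometricallyIrreducible (pullback.snd (ι ≫ t) (Y.fromSpecResidueField η))
  rw [← hc2]
  have hr : Set.range (Scheme.IdealSheafData.vanishingIdeal
      ⟨_, isClosed_of_mem_irreducibleComponents _ hA⟩).subschemeι = Set.range c := by
    rw [hc4, Scheme.IdealSheafData.range_subschemeι,
      Scheme.IdealSheafData.coe_support_vanishingIdeal]
    rfl
  exact @geometricallyIrreducible_of_range_eq ↑(Y.residueField η) _
    (pullback t (Y.fromSpecResidueField η)) _ _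
    (pullback.snd t (Y.fromSpecResidueField η)) (Scheme.IdealSheafData.vanishingIdeal
      ⟨_, isClosed_of_mem_irreducibleComponents _ hA⟩).subschemeι c hc1 hr (hP1 _ hA)

/-- (P2') An irreducible component (reduced structure) of a reduced scheme whose generic fibre
is geometrically reduced has geometrically reduced generic fibre. -/
theorem geomRed_component_fiber {X₂ Y Z : Scheme.{u}} (φ : X₂ ⟶ Y) (η : Y)
    (hη : ∀ η' : Y, η' ⤳ η → η' = η) [IsReduced X₂] [Finite (irreducibleComponents X₂)]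
    [LocallyOfFiniteType φ]
    [GeometricallyReduced (pullback.snd φ (Y.fromSpecResidueField η))]
    (j : Z ⟶ X₂) [IsClosedImmersion j] [IsReduced Z]
    (hC : Set.range j ∈ irreducibleComponents X₂) (ξ : X₂) (hξ : closure {ξ} = Set.range j)
    (hξη : φ ξ = η) [IrreducibleSpace ↥(pullback (j ≫ φ) (Y.fromSpecResidueField η))] :
    GeometricallyReduced (pullback.snd (j ≫ φ) (Y.fromSpecResidueField η)) := by
  classical
  have hcl : IsClosed (⋃₀ (irreducibleComponents X₂ \ {Set.range j})) := by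
    rw [Set.sUnion_eq_biUnion]
    exact (Set.toFinite _).isClosed_biUnion
      fun C' hC' => isClosed_of_mem_irreducibleComponents _ hC'.1
  obtain ⟨O, hO⟩ : ∃ O : X₂.Opens,
      (O : Set X₂) = (⋃₀ (irreducibleComponents X₂ \ {Set.range j}))ᶜ :=
    ⟨⟨_, hcl.isOpen_compl⟩, rfl⟩
  have hOC : (O : Set X₂) ⊆ Set.range j := by
    intro x hx
    rw [hO] at hx
    by_contra hxC
    apply hx
    refine ⟨irreducibleComponent x, ⟨irreducibleComponent_mem_irreducibleComponents x, ?_⟩,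
      mem_irreducibleComponent⟩
    intro (heq : irreducibleComponent x = Set.range j)
    exact hxC (heq ▸ mem_irreducibleComponent)
  have hξO : ξ ∈ O := by
    show ξ ∈ (O : Set X₂)
    rw [hO]
    rintro ⟨C', ⟨hC', hne⟩, hξC'⟩
    apply hne
    have h1 : Set.range j ⊆ C' := by
      rw [← hξ]
      exact (isClosed_of_mem_irreducibleComponents _ hC').closure_subset_iff.mpr
        (Set.singleton_subset_iff.mpr hξC')
    exact Set.Subset.antisymm (hC.2 hC'.1 h1) h1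
  haveI : Surjective (j ∣_ O) := ⟨by
    intro y
    obtain ⟨z, hz⟩ : (O.ι y) ∈ Set.range j := hOC y.2
    have hzO : z ∈ j ⁻¹ᵁ O := by
      show j z ∈ O
      rw [hz]; exact y.2
    let z₀ : (j ⁻¹ᵁ O).toScheme := ⟨z, hzO⟩
    refine ⟨z₀, O.ι.isEmbedding.injective ?_⟩
    rw [← Scheme.Hom.comp_apply, morphismRestrict_ι, Scheme.Hom.comp_apply]
    exact hz⟩
  haveI : IsReduced O.toScheme := isReduced_of_isOpenImmersion O.ι
  haveI : IsIso (j ∣_ O) := isIso_of_isClosedImmersion_of_surjective _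
  obtain ⟨o, ho⟩ : ∃ o : (j ⁻¹ᵁ O).toScheme ⟶ X₂, o = (j ⁻¹ᵁ O).ι ≫ j := ⟨_, rfl⟩
  haveI : IsOpenImmersion o := by
    rw [ho, ← morphismRestrict_ι]; infer_instance
  haveI hred : IsReduced (pullback (j ≫ φ) (Y.fromSpecResidueField η)) :=
    Groth.Agent.Helper5.RedFib.isReduced_fiber (j ≫ φ) η hη
  haveI hgr : GeometricallyReduced (pullback.snd φ (Y.fromSpecResidueField η)) := inferInstance
  haveI hirr : IrreducibleSpace ↥(pullback (j ≫ φ) (Y.fromSpecResidueField η)) := inferInstance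
  obtain ⟨s, hs⟩ : ∃ s, s = Y.fromSpecResidueField η := ⟨_, rfl⟩
  rw [← hs] at hred hgr hirr ⊢
  obtain ⟨ιD, hιD⟩ : ∃ ιD : pullback (j ≫ φ) s ⟶ Z, ιD = pullback.fst (j ≫ φ) s := ⟨_, rfl⟩
  obtain ⟨d, hd⟩ : ∃ d : pullback (j ≫ φ) s ⟶ _, d = pullback.snd (j ≫ φ) s := ⟨_, rfl⟩
  rw [← hd]
  have sq1 : IsPullback (ιD ∣_ (j ⁻¹ᵁ O)) (ιD ⁻¹ᵁ (j ⁻¹ᵁ O)).ι (j ⁻¹ᵁ O).ι ιD :=
    isPullback_morphismRestrict ιD (j ⁻¹ᵁ O)
  have sq2 : IsPullback ιD d (j ≫ φ) s := by
    rw [hιD, hd]; exact IsPullback.of_hasPullback _ _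
  have big := sq1.paste_vert sq2
  have hw : ((ιD ⁻¹ᵁ (j ⁻¹ᵁ O)).ι ≫ ιD ≫ j) ≫ φ = ((ιD ⁻¹ᵁ (j ⁻¹ᵁ O)).ι ≫ d) ≫ s := by
    rw [Category.assoc, Category.assoc, Category.assoc, sq2.w]
  obtain ⟨u, hu⟩ : ∃ u : (ιD ⁻¹ᵁ (j ⁻¹ᵁ O)).toScheme ⟶ pullback φ s,
      u = pullback.lift ((ιD ⁻¹ᵁ (j ⁻¹ᵁ O)).ι ≫ ιD ≫ j) ((ιD ⁻¹ᵁ (j ⁻¹ᵁ O)).ι ≫ d) hw :=
    ⟨_, rfl⟩
  have hu1 : u ≫ pullback.fst φ s = (ιD ⁻¹ᵁ (j ⁻¹ᵁ O)).ι ≫ ιD ≫ j := by
    rw [hu, pullback.lift_fst]
  have hu2 : u ≫ pullback.snd φ s = (ιD ⁻¹ᵁ (j ⁻¹ᵁ O)).ι ≫ d := by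
    rw [hu, pullback.lift_snd]
  have sq3 : IsPullback (ιD ∣_ (j ⁻¹ᵁ O)) u o (pullback.fst φ s) := by
    refine IsPullback.of_bot ?_ ?_ (IsPullback.of_hasPullback φ s)
    · rw [hu2, ho, Category.assoc]; exact big
    · rw [hu1, ho, ← Category.assoc, morphismRestrict_ι, Category.assoc]
  haveI : IsOpenImmersion u := MorphismProperty.of_isPullback sq3 inferInstance
  haveI : GeometricallyReduced ((ιD ⁻¹ᵁ (j ⁻¹ᵁ O)).ι ≫ d) := by
    rw [← hu2]
    exact geometricallyReduced_comp_of_isOpenImmersion u _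
  haveI : LocallyOfFiniteType d := by rw [hd]; infer_instance
  haveI : IsLocallyNoetherian (pullback (j ≫ φ) s) :=
    LocallyOfFiniteType.isLocallyNoetherian d
  -- density
  have hξr : ξ ∈ Set.range j := hξ ▸ subset_closure rfl
  obtain ⟨ξZ, hξZ⟩ := hξr
  have hξD : ξZ ∈ Set.range ιD := by
    rw [hιD, Scheme.Pullback.range_fst, hs, Scheme.range_fromSpecResidueField]
    show (j ≫ φ) ξZ = η
    rw [Scheme.Hom.comp_apply, hξZ, hξη]
  obtain ⟨ξD, hξD'⟩ := hξD
  have hne : (SetLike.coe (ιD ⁻¹ᵁ (j ⁻¹ᵁ O))).Nonempty := by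
    refine ⟨ξD, ?_⟩
    show j (ιD ξD) ∈ O
    rw [hξD', hξZ]; exact hξO
  have hdense : Dense (SetLike.coe (ιD ⁻¹ᵁ (j ⁻¹ᵁ O))) :=
    (ιD ⁻¹ᵁ (j ⁻¹ᵁ O)).isOpen.dense hne
  exact geometricallyReduced_of_dense_open d (ιD ⁻¹ᵁ (j ⁻¹ᵁ O)) hdense

end Groth.Agent.Helper5.GCI
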