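import Groth.Agent.Helper5.GFEg
import Groth.Agent.Helper5.RedFib
import Groth.Agent.Helper5.GFlCb
import Groth.Agent.S4370
import Mathlib

set_option autoImplicit false
universe u
open CategoryTheory CategoryTheory.Limits AlgebraicGeometry Opposite

namespace Groth.Agent.Helper5.GUH

theorem isPullback_lift_comp {X₀ P S T : Scheme.{u}} (ι : X₀ ⟶ P) (p : P ⟶ S) (t : T ⟶ S) :
    IsPullback (pullback.fst (ι ≫ p) t)
      (pullback.lift (pullback.fst (ι ≫ p) t ≫ ι) (pullback.snd (ι ≫ p) t)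
        (by rw [Category.assoc, pullback.condition]))
      ι (pullback.fst p t) := by
  refine IsPullback.of_bot ?_ (pullback.lift_fst _ _ _).symm (IsPullback.of_hasPullback p t)
  rw [pullback.lift_snd]
  exact IsPullback.of_hasPullback (ι ≫ p) t

/-- Two surjective closed immersions from reduced schemes are isomorphic over the target. -/
theorem exists_iso_of_reduced {X Z₁ Z₂ : Scheme.{u}} (z₁ : Z₁ ⟶ X) (z₂ : Z₂ ⟶ X)
    [IsClosedImmersion z₁] [IsClosedImmersion z₂] [Surjective z₁] [Surjective z₂]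
    [IsReduced Z₁] [IsReduced Z₂] : ∃ e : Z₁ ≅ Z₂, e.hom ≫ z₂ = z₁ :=
  Groth.Agent.Helper5.GFlC.exists_iso_of_ker_eq z₁ z₂
    ((Groth.Agent.S4370.ker_eq_nilradical z₁).trans (Groth.Agent.S4370.ker_eq_nilradical z₂).symm)

theorem geomReduced_fiber' {X Y Y' : Scheme.{u}} (f : X ⟶ Y) (s₀ : Y' ⟶ Y) (ξ : Y') (η : Y)
    (hξ : ∀ ξ' : Y', ξ' ⤳ ξ → ξ' = ξ)
    {S₁ : Scheme.{u}} (b : S₁ ⟶ Spec (Y.residueField η))
    (hred : GeometricallyReduced
      ((pullback (f.fiberToSpecResidueField η) b).nilradical.subschemeι ≫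
        pullback.snd (f.fiberToSpecResidueField η) b))
    (c : Spec (Y'.residueField ξ) ⟶ S₁)
    (hc : c ≫ b ≫ Y.fromSpecResidueField η = Y'.fromSpecResidueField ξ ≫ s₀) :
    GeometricallyReduced
      (((pullback f s₀).nilradical.subschemeι ≫ pullback.snd f s₀).fiberToSpecResidueField ξ) := by
  haveI := Groth.Agent.S4370.isReduced_nilradical_subscheme (pullback f s₀)
  haveI := Groth.Agent.S4370.surjective_nilradical_subschemeι (pullback f s₀)
  obtain ⟨ι₀, hι₀⟩ : ∃ ι₀, ι₀ = (pullback f s₀).nilradical.subschemeι := ⟨_, rfl⟩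
  haveI : IsClosedImmersion ι₀ := hι₀ ▸ inferInstance
  haveI : Surjective ι₀ := hι₀ ▸ inferInstance
  rw [← hι₀]
  show GeometricallyReduced (pullback.snd (ι₀ ≫ pullback.snd f s₀) (Y'.fromSpecResidueField ξ))
  have sq1 := isPullback_lift_comp ι₀ (pullback.snd f s₀) (Y'.fromSpecResidueField ξ)
  obtain ⟨m, hm⟩ : ∃ m, m = pullback.lift
      (pullback.fst (ι₀ ≫ pullback.snd f s₀) (Y'.fromSpecResidueField ξ) ≫ ι₀)
      (pullback.snd (ι₀ ≫ pullback.snd f s₀) (Y'.fromSpecResidueField ξ))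
      (by rw [Category.assoc, pullback.condition]) := ⟨_, rfl⟩
  rw [← hm] at sq1
  have hm_snd : m ≫ pullback.snd (pullback.snd f s₀) (Y'.fromSpecResidueField ξ) =
      pullback.snd (ι₀ ≫ pullback.snd f s₀) (Y'.fromSpecResidueField ξ) := by
    rw [hm, pullback.lift_snd]
  haveI : IsClosedImmersion m := MorphismProperty.of_isPullback sq1 inferInstance
  haveI : Surjective m := MorphismProperty.of_isPullback sq1 inferInstance
  haveI : IsReduced (pullback (ι₀ ≫ pullback.snd f s₀) (Y'.fromSpecResidueField ξ)) :=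
    Groth.Agent.Helper5.RedFib.isReduced_fiber (ι₀ ≫ pullback.snd f s₀) ξ hξ
  obtain ⟨qq, hq⟩ := Groth.Agent.Helper5.GFE.exists_isPullback_fiber_bc f s₀ ξ η b c hc
  haveI := Groth.Agent.S4370.surjective_nilradical_subschemeι
    (pullback (f.fiberToSpecResidueField η) b)
  obtain ⟨ιG, hιG⟩ : ∃ ιG, ιG = (pullback (f.fiberToSpecResidueField η) b).nilradical.subschemeι :=
    ⟨_, rfl⟩
  haveI : IsClosedImmersion ιG := hιG ▸ inferInstance
  haveI : Surjective ιG := hιG ▸ inferInstance
  rw [← hιG] at hred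
  have sq2 := (IsPullback.of_hasPullback ιG qq).paste_vert hq
  have hgr0 : GeometricallyReduced (pullback.snd ιG qq ≫
      (pullback.snd f s₀).fiberToSpecResidueField ξ) := MorphismProperty.of_isPullback sq2 hred
  haveI : IsReduced (pullback ιG qq) := hred.geometrically_isReduced c _ _ sq2
  obtain ⟨w, hw⟩ : ∃ w : pullback ιG qq ⟶
      pullback (pullback.snd f s₀) (Y'.fromSpecResidueField ξ), w = pullback.snd ιG qq := ⟨_, rfl⟩
  haveI : IsClosedImmersion w := hw ▸ MorphismProperty.pullback_snd _ _ inferInstance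
  haveI : Surjective w := hw ▸ MorphismProperty.pullback_snd _ _ inferInstance
  have hgr : GeometricallyReduced
      (w ≫ pullback.snd (pullback.snd f s₀) (Y'.fromSpecResidueField ξ)) := by
    rw [hw]; exact hgr0
  obtain ⟨e, he⟩ := exists_iso_of_reduced m w
  rw [← hm_snd, ← he, Category.assoc]
  exact (MorphismProperty.cancel_left_of_respectsIso @GeometricallyReduced e.hom _).mpr hgr

theorem geomReduced_fiber {X Y Y' : Scheme.{u}} (f : X ⟶ Y) (s₀ : Y' ⟶ Y) (ξ : Y') (η : Y)
    (hξ : ∀ ξ' : Y', ξ' ⤳ ξ → ξ' = ξ)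
    (k' : Type u) [Field k'] [Algebra (Y.residueField η) k']
    (hred : GeometricallyReduced
      ((pullback (f.fiberToSpecResidueField η)
        (Spec.map (CommRingCat.ofHom (algebraMap (Y.residueField η) k')))).nilradical.subschemeι ≫
        pullback.snd (f.fiberToSpecResidueField η)
          (Spec.map (CommRingCat.ofHom (algebraMap (Y.residueField η) k')))))
    (θ : k' →+* Y'.residueField ξ)
    (hθ : Spec.map (CommRingCat.ofHom (θ.comp (algebraMap (Y.residueField η) k'))) ≫
        Y.fromSpecResidueField η = Y'.fromSpecResidueField ξ ≫ s₀) :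
    GeometricallyReduced
      (((pullback f s₀).nilradical.subschemeι ≫ pullback.snd f s₀).fiberToSpecResidueField ξ) := by
  refine geomReduced_fiber' f s₀ ξ η hξ _ hred (Spec.map (CommRingCat.ofHom θ)) ?_
  rw [← hθ, ← Category.assoc, ← Spec.map_comp]
  rfl

end Groth.Agent.Helper5.GUH
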