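import Mathlib
import Groth.Prelude
import Groth.Agent.Helper3.FamNormal2
import Groth.Agent.Helper4.RkLocus
import Groth.Agent.Helper2.SmoothStalk2

/-!
# GeoRkA: Serre's condition `(R_n)` for the local ring of a scheme at a point, in terms of the
local rings at the generizations of the point
-/

set_option autoImplicit false
set_option linter.unusedSectionVars false
set_option linter.unusedVariables false
set_option linter.style.haveILetI false
universe u

namespace Groth.Agent.Helper5.GeoRk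

open CategoryTheory CategoryTheory.Limits AlgebraicGeometry TopologicalSpace Topology

/-- `(R_n)` for the local ring at `y` means: the local rings of dimension at most `n` at the
generizations of `y` are regular -/
theorem hasRk_stalk_iff (Y : Scheme.{u}) (y : Y) (n : ℕ) :
    LocCoh.HasRk n (Y.presheaf.stalk y) ↔
      ∀ ξ : Y, ξ ⤳ y → ringKrullDim (Y.presheaf.stalk ξ) ≤ (n : WithBot ℕ∞) →
        IsRegularLocalRing (Y.presheaf.stalk ξ) := by
  obtain ⟨_, ⟨V, hV, rfl⟩, hyV, -⟩ :=
    Y.isBasis_affineOpens.exists_subset_of_mem_open (Set.mem_univ y) isOpen_univ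
  have hV' : IsAffineOpen V := hV
  set p := hV'.primeIdealOf ⟨y, hyV⟩ with hp
  have hpy : hV'.fromSpec p = y := hV'.fromSpec_primeIdealOf ⟨y, hyV⟩
  have hdim : ∀ q : PrimeSpectrum Γ(Y, V),
      ringKrullDim (Y.presheaf.stalk (hV'.fromSpec q)) = (q.asIdeal.height : WithBot ℕ∞) := by
    intro q
    obtain ⟨e⟩ := Groth.Agent.Helper3.FamNormal.nonempty_stalk_equiv hV' q
    rw [← ringKrullDim_eq_of_ringEquiv e]
    exact IsLocalization.AtPrime.ringKrullDim_eq_height q.asIdeal _
  obtain ⟨e⟩ := Groth.Agent.Helper3.FamNormal.nonempty_stalk_equiv hV' p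
  rw [← hpy]
  have h1 : LocCoh.HasRk n (Y.presheaf.stalk (hV'.fromSpec p)) ↔
      EGA4.HasRkAt n Γ(Y, V) p.asIdeal :=
    ⟨fun h => Groth.Agent.Helper2.SmoothStalk2.hasRk_of_ringEquiv e.symm n h,
      fun h => Groth.Agent.Helper2.SmoothStalk2.hasRk_of_ringEquiv e n h⟩
  rw [h1, Groth.Agent.Helper4.RkLocus.hasRkAt_iff]
  constructor
  · intro h ξ hξ hd
    have hξV : ξ ∈ V := hξ.mem_open V.2 (by rw [hpy]; exact hyV)
    set q := hV'.primeIdealOf ⟨ξ, hξV⟩ with hq
    have hqξ : hV'.fromSpec q = ξ := hV'.fromSpec_primeIdealOf ⟨ξ, hξV⟩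
    have hsp : q ⤳ p := by
      have h0 : hV'.fromSpec q ⤳ hV'.fromSpec p := by rw [hqξ]; exact hξ
      exact hV'.fromSpec.isOpenEmbedding.isEmbedding.toIsInducing.specializes_iff.mp h0
    have hle : q.asIdeal ≤ p.asIdeal := (PrimeSpectrum.le_iff_specializes q p).mpr hsp
    have hht : q.asIdeal.height ≤ n := by
      rw [← hqξ, hdim q] at hd
      exact_mod_cast hd
    have hreg := h q.asIdeal hle hht
    obtain ⟨e'⟩ := Groth.Agent.Helper3.FamNormal.nonempty_stalk_equiv hV' q
    rw [← hqξ]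
    exact IsRegularLocalRing.of_ringEquiv e'
  · intro h q hq hle hht
    let q' : PrimeSpectrum Γ(Y, V) := ⟨q, hq⟩
    have hsp : q' ⤳ p := (PrimeSpectrum.le_iff_specializes q' p).mp hle
    have hsp' : hV'.fromSpec q' ⤳ hV'.fromSpec p := hsp.map hV'.fromSpec.continuous
    have hd : ringKrullDim (Y.presheaf.stalk (hV'.fromSpec q')) ≤ (n : WithBot ℕ∞) := by
      rw [hdim q']
      exact_mod_cast hht
    have hreg := h (hV'.fromSpec q') hsp' hd
    obtain ⟨e'⟩ := Groth.Agent.Helper3.FamNormal.nonempty_stalk_equiv hV' q'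
    exact IsRegularLocalRing.of_ringEquiv e'.symm

end Groth.Agent.Helper5.GeoRk
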