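import Mathlib
import Groth.Agent.Helper2.FiberSmooth2
import Groth.Agent.Helper5.SmCons2

set_option autoImplicit false
universe u

namespace Groth.Agent.Helper5.SmUp

open CategoryTheory CategoryTheory.Limits AlgebraicGeometry TopologicalSpace Topology

variable {X S : Scheme.{u}}

instance lfp_fiberToSpec (f : X ⟶ S) [LocallyOfFinitePresentation f] (s : S) :
    LocallyOfFinitePresentation (f.fiberToSpecResidueField s) :=
  MorphismProperty.pullback_snd _ _ inferInstance

/-- the set of points at which the fibre through the point is smooth over the residue field -/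
def Efib (f : X ⟶ S) [LocallyOfFinitePresentation f] : Set X :=
  {x | f.asFiber x ∈ (f.fiberToSpecResidueField (f x)).smoothLocus}

theorem mem_smoothLocus_of_comp_eq {P P' T : Scheme.{u}} (m : P' ⟶ P) [IsOpenImmersion m]
    (p : P ⟶ T) (p' : P' ⟶ T) [LocallyOfFinitePresentation p] [LocallyOfFinitePresentation p']
    (h : m ≫ p = p') (z' : P') : z' ∈ p'.smoothLocus ↔ m z' ∈ p.smoothLocus := by
  subst h
  rw [← Scheme.Hom.preimage_smoothLocus_eq]
  rfl

theorem fiber_mem_iff (f : X ⟶ S) [LocallyOfFinitePresentation f] (s : S) (w : f.fiber s) :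
    w ∈ (f.fiberToSpecResidueField s).smoothLocus ↔ f.fiberι s w ∈ Efib f := by
  have key : ∀ (s s' : S) (_ : s = s') (w : f.fiber s) (w' : f.fiber s'),
      f.fiberι s w = f.fiberι s' w' →
      (w ∈ (f.fiberToSpecResidueField s).smoothLocus ↔
        w' ∈ (f.fiberToSpecResidueField s').smoothLocus) := by
    intro s s' h
    subst h
    intro w w' hww'
    have : w = w' := (f.fiberι s).isEmbedding.injective hww'
    rw [this]
  have hs : f (f.fiberι s w) = s := by
    have h1 : f.fiberι s w ∈ f ⁻¹' {s} := by
      rw [← f.range_fiberι s]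
      exact Set.mem_range_self w
    exact h1
  exact key s (f (f.fiberι s w)) hs.symm w (f.asFiber _) (f.fiberι_asFiber _).symm

theorem ext_mem_iff (f : X ⟶ S) [LocallyOfFinitePresentation f] (s : S) (L : Type u) [Field L]
    (φ : S.residueField s ⟶ CommRingCat.of L)
    (z : ↥(pullback (f.fiberToSpecResidueField s) (Spec.map φ))) :
    z ∈ (pullback.snd (f.fiberToSpecResidueField s) (Spec.map φ)).smoothLocus ↔
      (pullback.fst (f.fiberToSpecResidueField s) (Spec.map φ)) z ∈
        (f.fiberToSpecResidueField s).smoothLocus := by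
  have sq : IsPullback (pullback.fst (f.fiberToSpecResidueField s) (Spec.map φ))
      (pullback.snd (f.fiberToSpecResidueField s) (Spec.map φ))
      (f.fiberToSpecResidueField s) (Spec.map φ) := IsPullback.of_hasPullback _ _
  constructor
  · intro hz
    have hfl : ((f.fiberToSpecResidueField s).stalkMap
        ((pullback.fst (f.fiberToSpecResidueField s) (Spec.map φ)) z)).hom.Flat :=
      Flat.stalkMap _ _
    exact Groth.Agent.Helper2.FiberSmooth2.stalkMap_formallySmooth_of_isPullback_field L sq z hfl hz
  · intro hz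
    exact Groth.Agent.Helper5.SmCons.mem_smoothLocus_of_isPullback sq z hz

theorem point_mem_iff' (f : X ⟶ S) [LocallyOfFinitePresentation f] (L : Type u) [Field L]
    (s : S) (φ : S.residueField s ⟶ CommRingCat.of L)
    (z : ↥(pullback f (Spec.map φ ≫ S.fromSpecResidueField s))) :
    z ∈ (pullback.snd f (Spec.map φ ≫ S.fromSpecResidueField s)).smoothLocus ↔
      (pullback.fst f (Spec.map φ ≫ S.fromSpecResidueField s)) z ∈ Efib f := by
  let e : pullback (f.fiberToSpecResidueField s) (Spec.map φ) ≅
      pullback f (Spec.map φ ≫ S.fromSpecResidueField s) :=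
    pullbackLeftPullbackSndIso f (S.fromSpecResidueField s) (Spec.map φ)
  have he_snd : e.hom ≫ pullback.snd f (Spec.map φ ≫ S.fromSpecResidueField s) =
      pullback.snd (f.fiberToSpecResidueField s) (Spec.map φ) :=
    pullbackLeftPullbackSndIso_hom_snd f (S.fromSpecResidueField s) (Spec.map φ)
  have he_fst : e.hom ≫ pullback.fst f (Spec.map φ ≫ S.fromSpecResidueField s) =
      pullback.fst (f.fiberToSpecResidueField s) (Spec.map φ) ≫ f.fiberι s :=
    pullbackLeftPullbackSndIso_hom_fst f (S.fromSpecResidueField s) (Spec.map φ)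
  obtain ⟨z', rfl⟩ : ∃ z', e.hom z' = z := ⟨e.inv z, by simp⟩
  have h1 := mem_smoothLocus_of_comp_eq e.hom
    (pullback.snd f (Spec.map φ ≫ S.fromSpecResidueField s))
    (pullback.snd (f.fiberToSpecResidueField s) (Spec.map φ)) he_snd z'
  rw [← h1, ext_mem_iff f s L φ z', fiber_mem_iff f s]
  have h2 : f.fiberι s ((pullback.fst (f.fiberToSpecResidueField s) (Spec.map φ)) z') =
      (pullback.fst f (Spec.map φ ≫ S.fromSpecResidueField s)) (e.hom z') := by
    have := congrArg (fun ψ : pullback (f.fiberToSpecResidueField s) (Spec.map φ) ⟶ X => ψ z')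
      he_fst
    simp only [Scheme.Hom.comp_apply] at this
    exact this.symm
  rw [h2]

/-- characterization of `Efib` by field-valued points -/
theorem point_mem_iff (f : X ⟶ S) [LocallyOfFinitePresentation f] (L : Type u) [Field L]
    (a : Spec (CommRingCat.of L) ⟶ S) (z : ↥(pullback f a)) :
    z ∈ (pullback.snd f a).smoothLocus ↔ (pullback.fst f a) z ∈ Efib f := by
  revert z
  obtain ⟨⟨s, φ⟩, rfl⟩ := (Scheme.SpecToEquivOfField L S).symm.surjective a
  intro z
  exact point_mem_iff' f L s φ z

end Groth.Agent.Helper5.SmUp
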