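import Mathlib
import Groth.Agent.Helper5.SmUp1

set_option autoImplicit false
universe u

namespace Groth.Agent.Helper5.SmUp

open CategoryTheory CategoryTheory.Limits AlgebraicGeometry TopologicalSpace Topology

/-- invariance under base change -/
theorem mem_Efib_of_isPullback {X' X S' S : Scheme.{u}} {g' : X' ⟶ X} {f' : X' ⟶ S'}
    {f : X ⟶ S} {g : S' ⟶ S} (sq : IsPullback g' f' f g) [LocallyOfFinitePresentation f]
    [LocallyOfFinitePresentation f'] (x' : X') : x' ∈ Efib f' ↔ g' x' ∈ Efib f := by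
  let a' := S'.fromSpecResidueField (f' x')
  let z' : ↥(f'.fiber (f' x')) := f'.asFiber x'
  have big : IsPullback (f'.fiberι (f' x') ≫ g') (f'.fiberToSpecResidueField (f' x')) f (a' ≫ g) :=
    (IsPullback.of_hasPullback f' a').paste_horiz sq
  let ε : f'.fiber (f' x') ≅ pullback f (a' ≫ g) := big.isoPullback
  have h1 := mem_smoothLocus_of_comp_eq ε.hom (pullback.snd f (a' ≫ g))
    (f'.fiberToSpecResidueField (f' x')) big.isoPullback_hom_snd z'
  have h2 := point_mem_iff f (S'.residueField (f' x')) (a' ≫ g) (ε.hom z')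
  have h3 : (pullback.fst f (a' ≫ g)) (ε.hom z') = g' x' := by
    have := congrArg (fun ψ : f'.fiber (f' x') ⟶ X => ψ z') big.isoPullback_hom_fst
    simp only [Scheme.Hom.comp_apply] at this
    rw [this]
    show g' (f'.fiberι (f' x') (f'.asFiber x')) = g' x'
    rw [f'.fiberι_asFiber]
  rw [h3] at h2
  exact h1.trans h2

/-- invariance under open immersions into the source -/
theorem mem_Efib_of_isOpenImmersion {U X S : Scheme.{u}} (j : U ⟶ X) [IsOpenImmersion j]
    (f : X ⟶ S) [LocallyOfFinitePresentation f] [LocallyOfFinitePresentation (j ≫ f)] (x : U) :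
    x ∈ Efib (j ≫ f) ↔ j x ∈ Efib f := by
  let a := S.fromSpecResidueField ((j ≫ f) x)
  let z : ↥((j ≫ f).fiber ((j ≫ f) x)) := (j ≫ f).asFiber x
  have hc1 : (j ≫ f) ≫ 𝟙 S = j ≫ f := Category.comp_id _
  have hc2 : a ≫ 𝟙 S = 𝟙 _ ≫ a := by rw [Category.comp_id, Category.id_comp]
  let m : (j ≫ f).fiber ((j ≫ f) x) ⟶ pullback f a :=
    pullback.map (j ≫ f) a f a j (𝟙 _) (𝟙 _) hc1 hc2
  haveI : IsOpenImmersion m :=
    Scheme.pullback_map_isOpenImmersion (j ≫ f) a f a j (𝟙 _) (𝟙 _) hc1 hc2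
  have hsnd : m ≫ pullback.snd f a = (j ≫ f).fiberToSpecResidueField ((j ≫ f) x) :=
    (pullback.lift_snd _ _ _).trans (Category.comp_id _)
  have hfst : m ≫ pullback.fst f a = (j ≫ f).fiberι ((j ≫ f) x) ≫ j := pullback.lift_fst _ _ _
  have h1 := mem_smoothLocus_of_comp_eq m (pullback.snd f a)
    ((j ≫ f).fiberToSpecResidueField ((j ≫ f) x)) hsnd z
  have h2 := point_mem_iff f (S.residueField ((j ≫ f) x)) a (m z)
  have h3 : (pullback.fst f a) (m z) = j x := by
    have := congrArg (fun ψ : (j ≫ f).fiber ((j ≫ f) x) ⟶ X => ψ z) hfst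
    simp only [Scheme.Hom.comp_apply] at this
    rw [this]
    show j ((j ≫ f).fiberι ((j ≫ f) x) ((j ≫ f).asFiber x)) = j x
    rw [(j ≫ f).fiberι_asFiber]
  rw [h3] at h2
  exact h1.trans h2

/-- for flat morphisms the set is the smooth locus -/
theorem Efib_eq_smoothLocus {X S : Scheme.{u}} (f : X ⟶ S) [LocallyOfFinitePresentation f]
    [Flat f] : Efib f = (f.smoothLocus : Set X) := by
  ext x
  have := Groth.Agent.Helper2.FiberSmooth2.mem_smoothLocus_iff_flat_and_fiber f x
  constructor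
  · intro hx
    exact this.2 ⟨Flat.stalkMap f x, hx⟩
  · intro hx
    exact (this.1 hx).2

/-- invariance for a chart square -/
theorem mem_Efib_of_chart {X' X S' S : Scheme.{u}} (jU : X' ⟶ X) [IsOpenImmersion jU]
    (jV : S' ⟶ S) [IsOpenImmersion jV] (f : X ⟶ S) [LocallyOfFinitePresentation f]
    (h : X' ⟶ S') [LocallyOfFinitePresentation h] (w : jU ≫ f = h ≫ jV) (x' : X') :
    x' ∈ Efib h ↔ jU x' ∈ Efib f := by
  let ψ : X' ⟶ pullback f jV := pullback.lift jU h w
  have hψ1 : ψ ≫ pullback.fst f jV = jU := pullback.lift_fst _ _ _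
  have hψ2 : ψ ≫ pullback.snd f jV = h := pullback.lift_snd _ _ _
  haveI : IsOpenImmersion (ψ ≫ pullback.fst f jV) := by rw [hψ1]; infer_instance
  haveI : IsOpenImmersion ψ := IsOpenImmersion.of_comp ψ (pullback.fst f jV)
  haveI : LocallyOfFinitePresentation (ψ ≫ pullback.snd f jV) := by rw [hψ2]; infer_instance
  have hB' := mem_Efib_of_isOpenImmersion ψ (pullback.snd f jV) x'
  have hB := mem_Efib_of_isPullback (IsPullback.of_hasPullback f jV) (ψ x')
  have h3 : (pullback.fst f jV) (ψ x') = jU x' := by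
    rw [← Scheme.Hom.comp_apply, hψ1]
  rw [h3] at hB
  have key : ∀ (h' : X' ⟶ S') [LocallyOfFinitePresentation h'] (_ : h' = h),
      (x' ∈ Efib h' ↔ x' ∈ Efib h) := by
    intro h' _ e
    subst e
    rfl
  exact (key (ψ ≫ pullback.snd f jV) hψ2).symm.trans (hB'.trans hB)

end Groth.Agent.Helper5.SmUp
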