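import Mathlib
import Groth.Agent.Helper5.SmUp2
import Groth.Agent.Helper5.ConsLc1
import Groth.Agent.Helper3.RedGF6

set_option autoImplicit false
universe u

namespace Groth.Agent.Helper5.SmUp

open CategoryTheory CategoryTheory.Limits AlgebraicGeometry TopologicalSpace Topology

set_option maxHeartbeats 1600000 in
/-- the Noetherian case: constructibility by Noetherian induction and generic flatness -/
theorem isConstructible_Efib_noeth (A₀ : CommRingCat.{u}) {X : Scheme.{u}} (f : X ⟶ Spec A₀)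
    [LocallyOfFinitePresentation f] [NoetherianSpace X] : IsConstructible (Efib f) := by
  apply Groth.Agent.Helper5.ConsLc.isConstructible_of_noeth
  intro Z hZc hZi
  obtain ⟨ξ, hξ⟩ := QuasiSober.sober hZi hZc
  have hξZ : ξ ∈ Z := hξ.mem
  have hZcl : closure ({ξ} : Set X) = Z := hξ.def
  let p : Ideal A₀ := (f ξ).asIdeal
  haveI : p.IsPrime := (f ξ).isPrime
  let A₁ : CommRingCat.{u} := CommRingCat.of (A₀ ⧸ p)
  haveI : IsDomain (A₀ ⧸ p) := Ideal.Quotient.isDomain p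
  let t : Spec A₁ ⟶ Spec A₀ := Spec.map (CommRingCat.ofHom (Ideal.Quotient.mk p))
  haveI : IsClosedImmersion t := IsClosedImmersion.spec_of_quotient_mk p
  have hrange_t : Set.range t = PrimeSpectrum.zeroLocus (p : Set A₀) := by
    have h1 := range_comap_of_surjective (A₀ ⧸ p) (Ideal.Quotient.mk p)
      Ideal.Quotient.mk_surjective
    rw [Ideal.mk_ker] at h1
    exact h1
  let XT := pullback f t
  let fT : XT ⟶ Spec A₁ := pullback.snd f t
  let ι : XT ⟶ X := pullback.fst f t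
  haveI : IsClosedImmersion ι := inferInstanceAs (IsClosedImmersion (pullback.fst f t))
  haveI : NoetherianSpace XT := ι.isClosedEmbedding.isEmbedding.isInducing.noetherianSpace
  haveI : CompactSpace XT := inferInstance
  haveI : QuasiCompact fT := (HasAffineProperty.iff_of_isAffine (P := @QuasiCompact)).2 inferInstance
  haveI : LocallyOfFinitePresentation fT := inferInstanceAs
    (LocallyOfFinitePresentation (pullback.snd f t))
  haveI : LocallyOfFiniteType fT := inferInstance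
  obtain ⟨UT, hUTd, hflat, hlfp⟩ := Groth.Agent.Helper3.RedGF6.main fT
  let X₁ := fT ⁻¹ᵁ UT
  let κ : X₁.toScheme ⟶ X := X₁.ι ≫ ι
  let f₁ : X₁.toScheme ⟶ UT.toScheme := fT ∣_ UT
  haveI : Flat f₁ := hflat
  haveI : LocallyOfFinitePresentation f₁ := hlfp
  have sq : IsPullback κ f₁ f (UT.ι ≫ t) :=
    (isPullback_morphismRestrict fT UT).flip.paste_horiz (IsPullback.of_hasPullback f t)
  have hB : ∀ y : X₁.toScheme, y ∈ Efib f₁ ↔ κ y ∈ Efib f := fun y =>
    mem_Efib_of_isPullback sq y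
  have hC : Efib f₁ = (f₁.smoothLocus : Set X₁.toScheme) := Efib_eq_smoothLocus f₁
  have hopen : IsOpen (κ ⁻¹' Efib f) := by
    have : κ ⁻¹' Efib f = (f₁.smoothLocus : Set X₁.toScheme) := by
      ext y
      rw [← hC]
      exact (hB y).symm
    rw [this]
    exact f₁.smoothLocus.2
  have hκemb : IsEmbedding κ :=
    ι.isClosedEmbedding.isEmbedding.comp X₁.ι.isOpenEmbedding.isEmbedding
  obtain ⟨O₁, hO₁, hO₁eq⟩ := hκemb.isInducing.isOpen_iff.1 hopen
  obtain ⟨O₂, hO₂, hO₂eq⟩ := t.isClosedEmbedding.isEmbedding.isInducing.isOpen_iff.1 UT.2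
  let O₃ : Set X := f ⁻¹' O₂
  have hO₃ : IsOpen O₃ := hO₂.preimage f.continuous
  have hZrange : ∀ x ∈ Z, x ∈ O₃ → ∃ y : X₁.toScheme, κ y = x := by
    intro x hxZ hxO
    have h1 : f x ∈ Set.range t := by
      rw [hrange_t]
      have hspec : ξ ⤳ x := by
        rw [specializes_iff_mem_closure, hZcl]
        exact hxZ
      have h2 := hspec.map f.continuous
      exact (PrimeSpectrum.le_iff_specializes _ _).2 h2
    obtain ⟨τ, hτ⟩ := h1
    obtain ⟨y, hy1, hy2⟩ := Scheme.Pullback.exists_preimage_pullback x τ hτ.symm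
    have hτU : τ ∈ UT := by
      have h3 : τ ∈ t ⁻¹' O₂ := by
        show t τ ∈ O₂
        rw [hτ]
        exact hxO
      rw [hO₂eq] at h3
      exact h3
    refine ⟨⟨y, ?_⟩, hy1⟩
    show fT y ∈ UT
    rw [hy2]
    exact hτU
  have hξO₃ : ξ ∈ O₃ := by
    have hgen : t (genericPoint ↥(Spec A₁)) = f ξ := by
      rw [genericPoint_eq_bot_of_affine]
      apply PrimeSpectrum.ext
      show Ideal.comap (Ideal.Quotient.mk p) ⊥ = p
      rw [← RingHom.ker_eq_comap_bot, Ideal.mk_ker]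
    have hne : (UT : Set ↥(Spec A₁)).Nonempty := hUTd.nonempty
    have hmem : genericPoint ↥(Spec A₁) ∈ UT :=
      ((genericPoint_spec ↥(Spec A₁)).mem_open_set_iff UT.2).2 (by
        rw [Set.univ_inter]; exact hne)
    show f ξ ∈ O₂
    rw [← hgen]
    have h3 : genericPoint ↥(Spec A₁) ∈ t ⁻¹' O₂ := by
      rw [hO₂eq]
      exact hmem
    exact h3
  obtain ⟨y₀, hy₀⟩ := hZrange ξ hξZ hξO₃
  by_cases hξE : ξ ∈ Efib f
  · refine ⟨O₁ ∩ O₃, hO₁.inter hO₃, ⟨ξ, hξZ, ?_, hξO₃⟩, Or.inl ?_⟩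
    · have h1 : y₀ ∈ κ ⁻¹' Efib f := by
        show κ y₀ ∈ Efib f
        rw [hy₀]
        exact hξE
      rw [← hO₁eq] at h1
      have h2 : κ y₀ ∈ O₁ := h1
      rwa [hy₀] at h2
    · rintro x ⟨hxZ, hxO₁, hxO₃⟩
      obtain ⟨y, rfl⟩ := hZrange x hxZ hxO₃
      have h1 : y ∈ κ ⁻¹' O₁ := hxO₁
      rw [hO₁eq] at h1
      exact h1
  · refine ⟨O₃, hO₃, ⟨ξ, hξZ, hξO₃⟩, Or.inr ?_⟩
    rintro x ⟨hxZ, hxO₃⟩ hxE
    apply hξE
    obtain ⟨y, rfl⟩ := hZrange x hxZ hxO₃
    have h1 : y ∈ κ ⁻¹' O₁ := by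
      rw [hO₁eq]
      exact hxE
    have h2 : κ y ∈ O₁ := h1
    have hspec : ξ ⤳ κ y := by
      rw [specializes_iff_mem_closure, hZcl]
      exact hxZ
    have h3 : ξ ∈ O₁ := hspec.mem_open hO₁ h2
    have h4 : y₀ ∈ κ ⁻¹' O₁ := by
      show κ y₀ ∈ O₁
      rw [hy₀]
      exact h3
    rw [hO₁eq] at h4
    have h5 : κ y₀ ∈ Efib f := h4
    rwa [hy₀] at h5

end Groth.Agent.Helper5.SmUp
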