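import Mathlib
import Groth.Agent.Helper5.SmUp3
import Groth.Agent.Helper5.ConsLc5
import Groth.Agent.Helper2.ArtSch

set_option autoImplicit false
universe u

namespace Groth.Agent.Helper5.SmUp

open CategoryTheory CategoryTheory.Limits AlgebraicGeometry TopologicalSpace Topology
open Groth.Agent.Lead Groth.Agent.Helper5.ConsLc

set_option backward.isDefEq.respectTransparency false in
/-- Noetherian approximation of a morphism of finite presentation over an affine scheme, with an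
affine Noetherian base -/
theorem exists_noeth_affine_model {S : Scheme.{u}} [IsAffine S] {X : Scheme.{u}} (u : X ⟶ S)
    [LocallyOfFinitePresentation u] [QuasiCompact u] [QuasiSeparated u] :
    ∃ (A₀ : CommRingCat.{u}) (X₀ : Scheme.{u}) (u₀ : X₀ ⟶ Spec A₀) (π : S ⟶ Spec A₀)
      (q : X ⟶ X₀), IsNoetherianRing A₀ ∧ LocallyOfFinitePresentation u₀ ∧ QuasiCompact u₀ ∧
        IsPullback q u u₀ π := by
  have hfg : (⊥ : Subalgebra ℤ Γ(S, ⊤)).FG := Subalgebra.fg_bot
  haveI := SubalgSys.isCofiltered hfg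
  have hc : IsLimit (SubalgSys.cone Γ(S, ⊤) ⊥) := SubalgSys.coneIsLimit hfg
  haveI : ∀ (i j : (SubalgSys.Idx Γ(S, ⊤) ⊥)ᵒᵖ) (f : i ⟶ j),
      IsAffineHom ((SubalgSys.D Γ(S, ⊤) ⊥).map f) := fun _ _ f => inferInstance
  haveI : ∀ i, CompactSpace ((SubalgSys.D Γ(S, ⊤) ⊥).obj i) := fun i => inferInstance
  haveI : ∀ i, QuasiSeparatedSpace ((SubalgSys.D Γ(S, ⊤) ⊥).obj i) := fun i => inferInstance
  let s : S ≅ (SubalgSys.cone Γ(S, ⊤) ⊥).pt := S.isoSpec
  obtain ⟨k, -, Xk, uk, q, h1, h2, h3, H⟩ :=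
    exists_stage_model (SubalgSys.D Γ(S, ⊤) ⊥) (SubalgSys.cone Γ(S, ⊤) ⊥) hc
      (u ≫ s.hom) (Opposite.op (SubalgSys.base _ ⊥ hfg))
  have hft : Algebra.FiniteType ℤ k.unop.1 :=
    (Subalgebra.fg_iff_finiteType k.unop.1).mp k.unop.2.1
  have hN : IsNoetherianRing k.unop.1 := Algebra.FiniteType.isNoetherianRing ℤ k.unop.1
  exact ⟨.of k.unop.1, Xk, uk, s.hom ≫ (SubalgSys.cone Γ(S, ⊤) ⊥).π.app k, q, hN, h1, h2,
    isPullback_of_comp_iso s H⟩

/-- the case of an affine base and a morphism of finite presentation -/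
theorem isConstructible_Efib_affine {S : Scheme.{u}} [IsAffine S] {X : Scheme.{u}} (u : X ⟶ S)
    [LocallyOfFinitePresentation u] [QuasiCompact u] [QuasiSeparated u] :
    IsConstructible (Efib u) := by
  obtain ⟨A₀, X₀, u₀, π, q, hN, h1, h2, H⟩ := exists_noeth_affine_model u
  haveI := hN
  haveI := h1
  haveI := h2
  haveI : IsLocallyNoetherian X₀ := LocallyOfFiniteType.isLocallyNoetherian u₀
  haveI : CompactSpace X₀ := QuasiCompact.compactSpace_of_compactSpace u₀
  haveI : IsNoetherian X₀ := {}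
  haveI : NoetherianSpace X₀ := inferInstance
  have hD := isConstructible_Efib_noeth A₀ u₀
  have : Efib u = q ⁻¹' Efib u₀ := by
    ext x
    exact mem_Efib_of_isPullback H x
  rw [this]
  exact q.isConstructible_preimage hD

/-- S3423 -/
theorem s3423 {X S : Scheme.{u}} (f : X ⟶ S) [LocallyOfFinitePresentation f] :
    IsLocallyConstructible (Efib f) := by
  intro x
  obtain ⟨_, ⟨V, hV, rfl⟩, hxV, -⟩ :=
    S.isBasis_affineOpens.exists_subset_of_mem_open (Set.mem_univ (f x)) isOpen_univ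
  obtain ⟨_, ⟨U, hU, rfl⟩, hxU, hUV⟩ :=
    X.isBasis_affineOpens.exists_subset_of_mem_open (show x ∈ (f ⁻¹ᵁ V : Set X) from hxV)
      (f ⁻¹ᵁ V).2
  let φ := f.appLE V U hUV
  let h : Spec Γ(X, U) ⟶ Spec Γ(S, V) := Spec.map φ
  have w : hU.fromSpec ≫ f = h ≫ hV.fromSpec :=
    (IsAffineOpen.SpecMap_appLE_fromSpec f hV hU hUV).symm
  haveI : LocallyOfFinitePresentation h :=
    (HasRingHomProperty.Spec_iff (P := @LocallyOfFinitePresentation)).2
      (f.finitePresentation_appLE hV hU hUV)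
  have hcons : IsConstructible (Efib h) := isConstructible_Efib_affine h
  have hpre : hU.fromSpec ⁻¹' Efib f = Efib h := by
    ext y
    exact (mem_Efib_of_chart hU.fromSpec hV.fromSpec f h w y).symm
  refine ⟨U, U.2.mem_nhds hxU, U.2, ?_⟩
  let U' : X.Opens := U
  let g : U'.toScheme ⟶ Spec Γ(X, U) := hU.isoSpec.hom
  have hg : IsOpenEmbedding g := g.isOpenEmbedding
  have hgf : g ≫ hU.fromSpec = U'.ι := by
    show hU.isoSpec.hom ≫ hU.fromSpec = U'.ι
    rw [← hU.isoSpec_inv_ι, Iso.hom_inv_id_assoc]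
  have hc2 := hcons.preimage_of_isOpenEmbedding hg
  have hc3 : IsConstructible ((U'.ι : U'.toScheme → X) ⁻¹' Efib f) := by
    have heq : (U'.ι : U'.toScheme → X) ⁻¹' Efib f = g ⁻¹' Efib h := by
      ext y
      rw [← hpre]
      show U'.ι y ∈ Efib f ↔ hU.fromSpec (g y) ∈ Efib f
      rw [← Scheme.Hom.comp_apply, hgf]
    rw [heq]
    exact hc2
  exact hc3

end Groth.Agent.Helper5.SmUp
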