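import Mathlib
import Groth.Prelude
import Groth.Agent.Helper5.GeoRkA
import Groth.Agent.Helper5.SmUp4
import Groth.Agent.Helper5.BCMin6
import Groth.Agent.Helper5.FlatRelDim
import Groth.Agent.Helper2.SmoothDense
import Groth.Agent.Helper2.SmoothRegSch

/-!
# GeoRkB: the geometric condition `(R_n)` at a point of a scheme locally of finite presentation
over a field, in terms of the non-smooth generizations of the point
-/

set_option autoImplicit false
set_option linter.unusedSectionVars false
set_option linter.unusedVariables false
set_option linter.style.haveILetI false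
universe u

namespace Groth.Agent.Helper5.GeoRk

open CategoryTheory CategoryTheory.Limits AlgebraicGeometry TopologicalSpace Topology
open Groth.Agent.Helper5.BCMin

section Field

variable (k : Type u) [Field k] {T : Scheme.{u}} (h : T ⟶ Spec (CommRingCat.of k))
  [LocallyOfFinitePresentation h]

/-- the smooth locus of a base change to a field extension is the preimage of the smooth locus -/
theorem bc_mem_smoothLocus_iff (K : Type u) [Field K] (φ : k →+* K)
    (z : ↥(pullback h (Spec.map (CommRingCat.ofHom φ)))) :
    z ∈ (pullback.snd h (Spec.map (CommRingCat.ofHom φ))).smoothLocus ↔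
      (pullback.fst h (Spec.map (CommRingCat.ofHom φ))).base z ∈ h.smoothLocus := by
  have sq : IsPullback (pullback.fst h (Spec.map (CommRingCat.ofHom φ)))
      (pullback.snd h (Spec.map (CommRingCat.ofHom φ))) h (Spec.map (CommRingCat.ofHom φ)) :=
    IsPullback.of_hasPullback _ _
  constructor
  · intro hz
    have hfl : (h.stalkMap ((pullback.fst h (Spec.map (CommRingCat.ofHom φ))).base z)).hom.Flat :=
      Flat.stalkMap _ _
    exact Groth.Agent.Helper2.FiberSmooth2.stalkMap_formallySmooth_of_isPullback_field K sq z hfl hz
  · intro hz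
    exact Groth.Agent.Helper5.SmCons.mem_smoothLocus_of_isPullback sq z hz

/-- the local ring at a smooth point is regular -/
theorem regular_of_mem_smoothLocus (t : T) (ht : t ∈ h.smoothLocus) :
    IsRegularLocalRing (T.presheaf.stalk t) := by
  obtain ⟨A, _, _, _, q, _, ⟨e⟩, hiff⟩ :=
    Groth.Agent.Helper2.StalkField.exists_algebra_stalk k T h t
  have := Groth.Agent.Helper2.RegSmooth2.isRegularLocalRing_of_isSmoothAt k A q (hiff.1 ht)
  exact IsRegularLocalRing.of_ringEquiv e.symm

/-- the dimension of the local ring does not decrease under base change to a field extension, and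
is preserved at points which are maximal in the fibre of the projection -/
theorem dim_stalk_bc (K : Type u) [Field K] (φ : k →+* K)
    (ξ : ↥(pullback h (Spec.map (CommRingCat.ofHom φ)))) :
    ringKrullDim (T.presheaf.stalk ((pullback.fst h (Spec.map (CommRingCat.ofHom φ))).base ξ)) ≤
      ringKrullDim ((pullback h (Spec.map (CommRingCat.ofHom φ))).presheaf.stalk ξ) ∧
    ((∀ y, (pullback.fst h (Spec.map (CommRingCat.ofHom φ))).base y =
        (pullback.fst h (Spec.map (CommRingCat.ofHom φ))).base ξ → y ⤳ ξ → y = ξ) →
      ringKrullDim ((pullback h (Spec.map (CommRingCat.ofHom φ))).presheaf.stalk ξ) =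
        ringKrullDim (T.presheaf.stalk
          ((pullback.fst h (Spec.map (CommRingCat.ofHom φ))).base ξ))) := by
  set π := pullback.fst h (Spec.map (CommRingCat.ofHom φ)) with hπ
  haveI : LocallyOfFiniteType h := inferInstance
  haveI hTN : IsLocallyNoetherian T := LocallyOfFiniteType.isLocallyNoetherian h
  haveI : LocallyOfFiniteType (pullback.snd h (Spec.map (CommRingCat.ofHom φ))) :=
    MorphismProperty.pullback_snd _ _ inferInstance
  haveI hBN : IsLocallyNoetherian (pullback h (Spec.map (CommRingCat.ofHom φ))) :=
    LocallyOfFiniteType.isLocallyNoetherian (pullback.snd h (Spec.map (CommRingCat.ofHom φ)))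
  haveI : Flat π := inferInstance
  have hst := Groth.Agent.Helper5.FlatRelDim.stalk_dim_eq_of_flat' π (π.base ξ) (π.asFiber ξ)
  rw [π.fiberι_asFiber ξ] at hst
  constructor
  · rw [hst]
    exact le_add_of_nonneg_right ringKrullDim_nonneg_of_nontrivial
  · intro hmax
    rw [hst, ringKrullDim_stalk_eq_coheight (π.asFiber ξ),
      Groth.Agent.Helper5.MaxPt.coheight_asFiber_eq_zero π ξ hmax]
    simp

set_option maxHeartbeats 800000 in
/-- the geometric condition `(R_n)` at a point of a scheme locally of finite presentation over a
field: the non-smooth generizations of the point have codimension greater than `n` -/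
theorem geomRk_field_iff (t : T) (n : ℕ) :
    (∀ (K : Type u) [Field K] [Algebra k K] (t' : ↥(FBase.bc h K)),
        (FBase.bcπ h K).base t' = t → LocCoh.HasRk n ((FBase.bc h K).presheaf.stalk t')) ↔
      ∀ w : T, w ⤳ t → w ∉ h.smoothLocus →
        ¬ ringKrullDim (T.presheaf.stalk w) ≤ (n : WithBot ℕ∞) := by
  constructor
  · intro H w hw hns hd
    let K := AlgebraicClosure k
    let φ : k →+* K := algebraMap k K
    set π := pullback.fst h (Spec.map (CommRingCat.ofHom φ)) with hπ
    set σ := pullback.snd h (Spec.map (CommRingCat.ofHom φ)) with hσ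
    haveI : LocallyOfFinitePresentation σ := MorphismProperty.pullback_snd _ _ inferInstance
    obtain ⟨t', ht'⟩ := π.surjective t
    have hgen : GeneralizingMap π.base := Flat.generalizingMap _
    have hw' : w ⤳ π.base t' := by rw [ht']; exact hw
    obtain ⟨ξ'', hξ''sp, hξ''π⟩ := hgen hw'
    obtain ⟨u, hu, humax⟩ := exists_max_generization (π.asFiber ξ'')
    set ξ := (π.fiberι (π.base ξ'')).base u with hξ
    have hξsp : ξ ⤳ ξ'' := by
      have := hu.map (π.fiberι (π.base ξ'')).continuous
      rwa [π.fiberι_asFiber] at this
    have hξπ : π.base ξ = π.base ξ'' := Groth.Agent.Helper5.VarDim.apply_fiberι π _ u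
    have hmax : ∀ y, π.base y = π.base ξ → y ⤳ ξ → y = ξ := by
      intro y hy hysp
      have hyr : y ∈ Set.range (π.fiberι (π.base ξ'')).base := by
        rw [Scheme.Hom.range_fiberι]; exact hy.trans hξπ
      obtain ⟨v, rfl⟩ := hyr
      have hvu : v ⤳ u :=
        (π.fiberι (π.base ξ'')).isEmbedding.toIsInducing.specializes_iff.mp hysp
      rw [humax v hvu]
    have hdim := (dim_stalk_bc k h K φ ξ).2 hmax
    rw [hξπ, hξ''π] at hdim
    have hreg : IsRegularLocalRing ((pullback h (Spec.map (CommRingCat.ofHom φ))).presheaf.stalk ξ) := by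
      have hR := H K t' ht'
      exact (hasRk_stalk_iff _ t' n).mp hR ξ (hξsp.trans hξ''sp) (by rw [hdim]; exact hd)
    have hsm : ξ ∈ σ.smoothLocus :=
      (Groth.Agent.Helper2.SmoothDense.mem_smoothLocus_iff_regular K _ σ ξ).mpr hreg
    have := (bc_mem_smoothLocus_iff k h K φ ξ).mp hsm
    rw [hξπ, hξ''π] at this
    exact hns this
  · intro H K _ _ t' ht'
    let φ : k →+* K := algebraMap k K
    set π := pullback.fst h (Spec.map (CommRingCat.ofHom φ)) with hπ
    set σ := pullback.snd h (Spec.map (CommRingCat.ofHom φ)) with hσ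
    haveI : LocallyOfFinitePresentation σ := MorphismProperty.pullback_snd _ _ inferInstance
    show LocCoh.HasRk n ((pullback h (Spec.map (CommRingCat.ofHom φ))).presheaf.stalk t')
    rw [hasRk_stalk_iff]
    intro ξ hξ hd
    have hw : π.base ξ ⤳ t := by
      have := hξ.map π.continuous
      rw [← ht']
      exact this
    have hd' : ringKrullDim (T.presheaf.stalk (π.base ξ)) ≤ (n : WithBot ℕ∞) :=
      (dim_stalk_bc k h K φ ξ).1.trans hd
    have hsm : π.base ξ ∈ h.smoothLocus := by
      by_contra hns
      exact H _ hw hns hd'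
    exact regular_of_mem_smoothLocus K σ ξ ((bc_mem_smoothLocus_iff k h K φ ξ).mpr hsm)

end Field

end Groth.Agent.Helper5.GeoRk
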