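import Mathlib
import Groth.Prelude
import Groth.Agent.Helper5.GeoRkB
import Groth.Agent.Helper5.RelDepth1
import Groth.Agent.Helper2.NormalPt
import Groth.Agent.Helper2.NorLift
import Groth.Agent.Helper2.SkFlat
import Groth.Agent.Helper2.RegCM
import Groth.Agent.S9437
import Groth.Agent.Helper5.FibPropB

/-!
# GeoNorA: geometric normality at a point of a scheme locally of finite presentation over a field
is the geometric condition `(R_1)` together with the condition `(S_2)` of the local ring
-/

set_option autoImplicit false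
set_option linter.unusedSectionVars false
set_option linter.unusedVariables false
set_option linter.style.haveILetI false
universe u

namespace Groth.Agent.Helper5.GeoNor

open CategoryTheory CategoryTheory.Limits AlgebraicGeometry TopologicalSpace Topology
open Groth.Agent.Helper5.BCMin Groth.Agent.Helper5.GeoRk

theorem min_cast_le_iff (n a d : ℕ) :
    min ((n : ℕ) : WithBot ℕ∞) (a : WithBot ℕ∞) ≤ (d : WithBot ℕ∞) ↔ min n a ≤ d := by
  rcases le_total n a with h | h
  · have h' : ((n : ℕ) : WithBot ℕ∞) ≤ (a : WithBot ℕ∞) := by exact_mod_cast h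
    rw [min_eq_left h, min_eq_left h']
    exact_mod_cast Iff.rfl
  · have h' : (a : WithBot ℕ∞) ≤ ((n : ℕ) : WithBot ℕ∞) := by exact_mod_cast h
    rw [min_eq_right h, min_eq_right h']
    exact_mod_cast Iff.rfl

/-- Serre's criterion for a Noetherian local ring -/
theorem normal_iff_r1_s2 (R : Type u) [CommRing R] [IsNoetherianRing R] [IsLocalRing R] :
    (IsDomain R ∧ IsIntegrallyClosed R) ↔ LocCoh.HasRk 1 R ∧ LocCoh.HasSk 2 R R := by
  constructor
  · rintro ⟨hd, hic⟩
    exact Groth.Agent.Helper2.NorLift.serre_of_normal R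
  · intro h
    exact Groth.Agent.Helper2.NorLift.normal_of_local R ((Groth.Agent.S0601.result R).2 h)

/-- `(S_n)` for the local ring at `y` means: the depth inequality holds at all generizations of
`y` -/
theorem hasSk_stalk_iff (Y : Scheme.{u}) [IsLocallyNoetherian Y] (y : Y) (n : ℕ) :
    LocCoh.HasSk n (Y.presheaf.stalk y) (Y.presheaf.stalk y) ↔
      ∀ ξ : Y, ξ ⤳ y → min (n : WithBot ℕ∞) (ringKrullDim (Y.presheaf.stalk ξ)) ≤
        ((LocCoh.depth (Y.presheaf.stalk ξ) (Y.presheaf.stalk ξ) : ℕ∞) : WithBot ℕ∞) := by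
  obtain ⟨_, ⟨V, hV, rfl⟩, hyV, -⟩ :=
    Y.isBasis_affineOpens.exists_subset_of_mem_open (Set.mem_univ y) isOpen_univ
  have hV' : IsAffineOpen V := hV
  haveI : IsNoetherianRing Γ(Y, V) := IsLocallyNoetherian.component_noetherian ⟨V, hV⟩
  set p := hV'.primeIdealOf ⟨y, hyV⟩ with hp
  have hpy : hV'.fromSpec p = y := hV'.fromSpec_primeIdealOf ⟨y, hyV⟩
  have hq : ∀ q : PrimeSpectrum Γ(Y, V),
      (min (n : WithBot ℕ∞) (ringKrullDim (Y.presheaf.stalk (hV'.fromSpec q))) ≤
        ((LocCoh.depth (Y.presheaf.stalk (hV'.fromSpec q))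
          (Y.presheaf.stalk (hV'.fromSpec q)) : ℕ∞) : WithBot ℕ∞)) ↔
      min (n : ℕ∞) q.asIdeal.height ≤
        LocCoh.depth (Localization.AtPrime q.asIdeal) (Localization.AtPrime q.asIdeal) := by
    intro q
    obtain ⟨e⟩ := Groth.Agent.Helper3.FamNormal.nonempty_stalk_equiv hV' q
    haveI : IsNoetherianRing (Y.presheaf.stalk (hV'.fromSpec q)) :=
      isNoetherianRing_of_ringEquiv _ e
    rw [← ringKrullDim_eq_of_ringEquiv e,
      IsLocalization.AtPrime.ringKrullDim_eq_height q.asIdeal _,
      ← Groth.Agent.Helper2.FlatAscent.depth_eq_of_ringEquiv e]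
    have h3 : ((n : ℕ) : WithBot ℕ∞) = (((n : ℕ∞)) : WithBot ℕ∞) := rfl
    rw [h3, ← WithBot.coe_min, WithBot.coe_le_coe]
  obtain ⟨e⟩ := Groth.Agent.Helper3.FamNormal.nonempty_stalk_equiv hV' p
  rw [← hpy]
  haveI : IsNoetherianRing (Y.presheaf.stalk (hV'.fromSpec p)) :=
    isNoetherianRing_of_ringEquiv _ e
  have h1 : LocCoh.HasSk n (Y.presheaf.stalk (hV'.fromSpec p)) (Y.presheaf.stalk (hV'.fromSpec p)) ↔
      LocCoh.HasSk n (Localization.AtPrime p.asIdeal) (Localization.AtPrime p.asIdeal) :=
    ⟨fun h => Groth.Agent.Helper2.SkFlat.hasSk_of_ringEquiv e.symm n h,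
      fun h => Groth.Agent.Helper2.SkFlat.hasSk_of_ringEquiv e n h⟩
  rw [h1]
  constructor
  · intro h ξ hξ
    have hξV : ξ ∈ V := hξ.mem_open V.2 (by rw [hpy]; exact hyV)
    set q := hV'.primeIdealOf ⟨ξ, hξV⟩ with hqdef
    have hqξ : hV'.fromSpec q = ξ := hV'.fromSpec_primeIdealOf ⟨ξ, hξV⟩
    have hsp : q ⤳ p := by
      have h0 : hV'.fromSpec q ⤳ hV'.fromSpec p := by rw [hqξ]; exact hξ
      exact hV'.fromSpec.isOpenEmbedding.isEmbedding.toIsInducing.specializes_iff.mp h0
    have hle : q.asIdeal ≤ p.asIdeal := (PrimeSpectrum.le_iff_specializes q p).mpr hsp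
    rw [← hqξ, hq q]
    exact Groth.Agent.Helper2.FlatAscent.sk_below Γ(Y, V) n p.asIdeal h q.asIdeal hle
  · intro h
    refine Groth.Agent.Helper2.NormalPt.hasSk_loc_of_pointwise Γ(Y, V) n p.asIdeal ?_
    intro q hqp hle
    let q' : PrimeSpectrum Γ(Y, V) := ⟨q, hqp⟩
    have hsp : q' ⤳ p := (PrimeSpectrum.le_iff_specializes q' p).mp hle
    have hsp' : hV'.fromSpec q' ⤳ hV'.fromSpec p := hsp.map hV'.fromSpec.continuous
    exact (hq q').mp (h (hV'.fromSpec q') hsp')

section Field

variable (k : Type u) [Field k] {T : Scheme.{u}} (h : T ⟶ Spec (CommRingCat.of k))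
  [LocallyOfFinitePresentation h]

theorem isLocallyNoetherian_bc (K : Type u) [Field K] (φ : k →+* K) :
    IsLocallyNoetherian (pullback h (Spec.map (CommRingCat.ofHom φ))) := by
  haveI : LocallyOfFiniteType h := inferInstance
  haveI : LocallyOfFiniteType (pullback.snd h (Spec.map (CommRingCat.ofHom φ))) :=
    MorphismProperty.pullback_snd _ _ inferInstance
  exact LocallyOfFiniteType.isLocallyNoetherian (pullback.snd h (Spec.map (CommRingCat.ofHom φ)))

/-- the depth of the local ring does not decrease under base change to a field extension -/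
theorem depth_stalk_bc (K : Type u) [Field K] (φ : k →+* K)
    (ξ : ↥(pullback h (Spec.map (CommRingCat.ofHom φ)))) :
    LocCoh.depth (T.presheaf.stalk ((pullback.fst h (Spec.map (CommRingCat.ofHom φ))).base ξ))
        (T.presheaf.stalk ((pullback.fst h (Spec.map (CommRingCat.ofHom φ))).base ξ)) ≤
      LocCoh.depth ((pullback h (Spec.map (CommRingCat.ofHom φ))).presheaf.stalk ξ)
        ((pullback h (Spec.map (CommRingCat.ofHom φ))).presheaf.stalk ξ) := by
  haveI : LocallyOfFiniteType h := inferInstance
  haveI hTN : IsLocallyNoetherian T := LocallyOfFiniteType.isLocallyNoetherian h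
  haveI := isLocallyNoetherian_bc k h K φ
  haveI : Flat (pullback.fst h (Spec.map (CommRingCat.ofHom φ))) := inferInstance
  have := Groth.Agent.Helper5.RelDepth.depth_stalk_eq
    (pullback.fst h (Spec.map (CommRingCat.ofHom φ))) ξ
  rw [this]
  exact le_self_add

set_option maxHeartbeats 800000 in
/-- geometric normality at a point of a scheme locally of finite presentation over a field -/
theorem geomNormal_field_iff (t : T) :
    (∀ (K : Type u) [Field K] [Algebra k K] (t' : ↥(FBase.bc h K)),
        (FBase.bcπ h K).base t' = t →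
          IsDomain ((FBase.bc h K).presheaf.stalk t') ∧
            IsIntegrallyClosed ((FBase.bc h K).presheaf.stalk t')) ↔
      (∀ (K : Type u) [Field K] [Algebra k K] (t' : ↥(FBase.bc h K)),
        (FBase.bcπ h K).base t' = t → LocCoh.HasRk 1 ((FBase.bc h K).presheaf.stalk t')) ∧
      LocCoh.HasSk 2 (T.presheaf.stalk t) (T.presheaf.stalk t) := by
  haveI : LocallyOfFiniteType h := inferInstance
  haveI hTN : IsLocallyNoetherian T := LocallyOfFiniteType.isLocallyNoetherian h
  constructor
  · intro H
    refine ⟨fun K _ _ t' ht' => ?_, ?_⟩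
    · haveI := isLocallyNoetherian_bc k h K (algebraMap k K)
      obtain ⟨hd, hic⟩ := H K t' ht'
      have := (normal_iff_r1_s2
        ((pullback h (Spec.map (CommRingCat.ofHom (algebraMap k K)))).presheaf.stalk t')).mp
        ⟨hd, hic⟩
      exact this.1
    · let φ : k →+* k := algebraMap k k
      haveI := isLocallyNoetherian_bc k h k φ
      set π := pullback.fst h (Spec.map (CommRingCat.ofHom φ)) with hπ
      obtain ⟨t', ht'⟩ := π.surjective t
      obtain ⟨hd, hic⟩ := H k t' ht'
      have hS := ((normal_iff_r1_s2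
        ((pullback h (Spec.map (CommRingCat.ofHom φ))).presheaf.stalk t')).mp ⟨hd, hic⟩).2
      subst ht'
      haveI : Flat π := inferInstance
      letI : Algebra (T.presheaf.stalk (π.base t'))
          ((pullback h (Spec.map (CommRingCat.ofHom φ))).presheaf.stalk t') :=
        (π.stalkMap t').hom.toAlgebra
      haveI : IsLocalHom (algebraMap (T.presheaf.stalk (π.base t'))
          ((pullback h (Spec.map (CommRingCat.ofHom φ))).presheaf.stalk t')) :=
        inferInstanceAs (IsLocalHom (π.stalkMap t').hom)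
      haveI : Module.Flat (T.presheaf.stalk (π.base t'))
          ((pullback h (Spec.map (CommRingCat.ofHom φ))).presheaf.stalk t') := Flat.stalkMap π t'
      haveI : Module.FaithfullyFlat (T.presheaf.stalk (π.base t'))
          ((pullback h (Spec.map (CommRingCat.ofHom φ))).presheaf.stalk t') :=
        Module.FaithfullyFlat.of_flat_of_isLocalHom
      exact (Groth.Agent.S9437.result 2 _ _ hS).2
  · rintro ⟨HR, HS⟩ K _ _ t' ht'
    let φ : k →+* K := algebraMap k K
    set π := pullback.fst h (Spec.map (CommRingCat.ofHom φ)) with hπ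
    set σ := pullback.snd h (Spec.map (CommRingCat.ofHom φ)) with hσ
    haveI : LocallyOfFinitePresentation σ := MorphismProperty.pullback_snd _ _ inferInstance
    haveI := isLocallyNoetherian_bc k h K φ
    show IsDomain ((pullback h (Spec.map (CommRingCat.ofHom φ))).presheaf.stalk t') ∧
      IsIntegrallyClosed ((pullback h (Spec.map (CommRingCat.ofHom φ))).presheaf.stalk t')
    rw [normal_iff_r1_s2]
    refine ⟨HR K t' ht', ?_⟩
    rw [hasSk_stalk_iff]
    intro ξ hξ
    have hw : π.base ξ ⤳ t := by
      have := hξ.map π.continuous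
      rw [← ht']
      exact this
    have hSz := (hasSk_stalk_iff T t 2).mp HS (π.base ξ) hw
    have hsmooth := (geomRk_field_iff k h t 1).mp HR
    obtain ⟨a, d, ha, hd, hda⟩ :=
      Groth.Agent.Helper5.FibProp.exists_dim_depth (T.presheaf.stalk (π.base ξ))
    obtain ⟨a', d', ha', hd', hda'⟩ := Groth.Agent.Helper5.FibProp.exists_dim_depth
      ((pullback h (Spec.map (CommRingCat.ofHom φ))).presheaf.stalk ξ)
    have hdim := (dim_stalk_bc k h K φ ξ).1
    have hdep := depth_stalk_bc k h K φ ξ
    rw [ha, ha'] at hdim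
    rw [hd, hd'] at hdep
    rw [ha, hd] at hSz
    rw [ha', hd']
    refine (min_cast_le_iff 2 a' d').mpr ?_
    have haa : a ≤ a' := by exact_mod_cast hdim
    have hdd : d ≤ d' := by exact_mod_cast hdep
    have hSz' : min 2 a ≤ d := (min_cast_le_iff 2 a d).mp hSz
    by_cases h1 : a ≤ 1
    · have hsm : π.base ξ ∈ h.smoothLocus := by
        by_contra hns
        exact hsmooth _ hw hns (by rw [ha]; exact_mod_cast h1)
      haveI hreg := regular_of_mem_smoothLocus K σ ξ
        ((bc_mem_smoothLocus_iff k h K φ ξ).mpr hsm)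
      have hcm : Module.supportDim ((pullback h (Spec.map (CommRingCat.ofHom φ))).presheaf.stalk ξ)
          ((pullback h (Spec.map (CommRingCat.ofHom φ))).presheaf.stalk ξ) = _ :=
        Groth.Agent.Helper2.RegCM.cm_of_isRegularLocalRing
          ((pullback h (Spec.map (CommRingCat.ofHom φ))).presheaf.stalk ξ)
      rw [Module.supportDim_self_eq_ringKrullDim, ha', hd'] at hcm
      have : a' = d' := by exact_mod_cast hcm
      subst this
      exact min_le_right _ _
    · have h2 : 2 ≤ d := by
        rcases Nat.lt_or_ge a 2 with h | h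
        · omega
        · rwa [min_eq_left h] at hSz'
      exact (min_le_left _ _).trans (h2.trans hdd)

end Field

end Groth.Agent.Helper5.GeoNor
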