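import Mathlib
import Groth.Prelude
import Groth.Agent.Helper5.EqDimC
import Groth.Agent.Helper5.BCMin8
import Groth.Agent.Helper5.KLem5
import Groth.Agent.Helper5.SecUO7

/-!
# GeoRkC: the fibrewise specializations of the points of a locally constructible set with residue
transcendence degree at least `d` form a locally constructible set
-/

set_option autoImplicit false
set_option linter.unusedSectionVars false
set_option linter.unusedVariables false
set_option linter.style.haveILetI false
universe u

namespace Groth.Agent.Helper5.GeoRk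

open CategoryTheory CategoryTheory.Limits AlgebraicGeometry TopologicalSpace Topology
open Groth.Agent.Helper5.EqDim Groth.Agent.Helper5.VarDim Groth.Agent.Helper5.BCMin

variable {X S : Scheme.{u}} (f : X ⟶ S)

/-- the points having a generization in their fibre which lies in `T` and has residue transcendence
degree at least `d` -/
def hSet (T : Set X) (d : ℕ) : Set X :=
  {x | ∃ z ∈ T, z ⤳ x ∧ f.base z = f.base x ∧ (d : Cardinal.{u}) ≤ Dual3.resTrdeg f z}

theorem hSet_union (T₁ T₂ : Set X) (d : ℕ) : hSet f (T₁ ∪ T₂) d = hSet f T₁ d ∪ hSet f T₂ d := by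
  ext x
  constructor
  · rintro ⟨z, hz | hz, h1, h2, h3⟩
    · exact Or.inl ⟨z, hz, h1, h2, h3⟩
    · exact Or.inr ⟨z, hz, h1, h2, h3⟩
  · rintro (⟨z, hz, h1, h2, h3⟩ | ⟨z, hz, h1, h2, h3⟩)
    · exact ⟨z, Or.inl hz, h1, h2, h3⟩
    · exact ⟨z, Or.inr hz, h1, h2, h3⟩

theorem resTrdeg_comp_of_surjectiveOnStalks {T' : Scheme.{u}} (j : T' ⟶ X) [SurjectiveOnStalks j]
    (w : T') : Dual3.resTrdeg (j ≫ f) w = Dual3.resTrdeg f (j.base w) :=
  Groth.Agent.Helper5.EqAt.trdeg_preimmersion_comp j f w

/-- restriction to an open subscheme -/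
theorem preimage_hSet_of_isOpenImmersion {U : Scheme.{u}} (j : U ⟶ X) [IsOpenImmersion j]
    (T : Set X) (d : ℕ) : j.base ⁻¹' hSet f T d = hSet (j ≫ f) (j.base ⁻¹' T) d := by
  ext w
  constructor
  · rintro ⟨z, hzT, hzsp, hzf, hzd⟩
    have hzr : z ∈ Set.range j.base := hzsp.mem_open j.isOpenEmbedding.isOpen_range ⟨w, rfl⟩
    obtain ⟨v, rfl⟩ := hzr
    refine ⟨v, hzT, j.isOpenEmbedding.isEmbedding.toIsInducing.specializes_iff.mp hzsp, ?_, ?_⟩
    · simp only [Scheme.Hom.comp_apply]; exact hzf
    · rw [resTrdeg_comp_of_surjectiveOnStalks]; exact hzd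
  · rintro ⟨v, hvT, hvsp, hvf, hvd⟩
    refine ⟨j.base v, hvT, hvsp.map j.continuous, ?_, ?_⟩
    · simpa only [Scheme.Hom.comp_apply] using hvf
    · rw [← resTrdeg_comp_of_surjectiveOnStalks]; exact hvd

/-- a point of local fibre dimension at least `d` has a generization in its fibre of residue
transcendence degree at least `d` -/
theorem exists_generization_resTrdeg_ge [LocallyOfFiniteType f] (x : X) (d : ℕ)
    (hd : (d : WithBot ℕ∞) ≤ FlatMor.fibreDimAt f x) :
    ∃ z : X, z ⤳ x ∧ f.base z = f.base x ∧ (d : Cardinal.{u}) ≤ Dual3.resTrdeg f z := by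
  haveI hft : LocallyOfFiniteType (f.fiberToSpecResidueField (f.base x)) :=
    inferInstanceAs (LocallyOfFiniteType (Limits.pullback.snd f (S.fromSpecResidueField _)))
  obtain ⟨ξ, hξ, -, heq⟩ := exists_max_localDim_eq (S.residueField (f.base x))
    (f.fiberToSpecResidueField (f.base x)) (f.asFiber x)
  obtain ⟨n, hn1, hn2⟩ := Groth.Agent.Helper5.MaxPt.dim_closure_fibre_point f (f.base x) ξ
    ((f.fiberι (f.base x)).base ξ) rfl (apply_fiberι f (f.base x) ξ)
  have hdn : d ≤ n := by
    have h1 : (d : WithBot ℕ∞) ≤ (n : WithBot ℕ∞) := by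
      rw [← hn1, ← heq]; exact hd
    exact_mod_cast h1
  refine ⟨(f.fiberι (f.base x)).base ξ, ?_, apply_fiberι f (f.base x) ξ, ?_⟩
  · have := hξ.map (f.fiberι (f.base x)).continuous
    rwa [f.fiberι_asFiber] at this
  · show (d : Cardinal.{u}) ≤ @Algebra.trdeg _ _ _ _ (f.residueFieldMap _).hom.toAlgebra
    rw [hn2]
    exact_mod_cast hdn

section Affine

/-- basic open subsets of `Spec B`, as sets of points of the scheme -/
def bo (B : CommRingCat.{u}) (r : B) : Set ↥(Spec B) :=
  {x | r ∉ PrimeSpectrum.asIdeal (R := B) x}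

theorem isOpen_bo (B : CommRingCat.{u}) (r : B) : IsOpen (bo B r) :=
  (PrimeSpectrum.basicOpen r).2

theorem isCompact_bo (B : CommRingCat.{u}) (r : B) : IsCompact (bo B r) :=
  PrimeSpectrum.isCompact_basicOpen r

theorem isTopologicalBasis_bo (B : CommRingCat.{u}) :
    IsTopologicalBasis (Set.range (bo B)) :=
  PrimeSpectrum.isTopologicalBasis_basic_opens

variable (B : CommRingCat.{u}) (φ : Spec B ⟶ S) [LocallyOfFinitePresentation φ]

set_option maxHeartbeats 1600000 in
/-- the basic case: a basic open set minus finitely many basic open sets -/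
theorem isLocallyConstructible_hSet_basic (g : B) (s : Set B) (hs : s.Finite) (d : ℕ) :
    IsLocallyConstructible (hSet φ (bo B g \ ⋃ j ∈ s, bo B j) d) := by
  let I : Ideal B := Ideal.span s
  let i : Spec (CommRingCat.of (B ⧸ I)) ⟶ Spec B :=
    Spec.map (CommRingCat.ofHom (Ideal.Quotient.mk I))
  haveI : IsClosedImmersion i := IsClosedImmersion.spec_of_quotient_mk I
  haveI : LocallyOfFinitePresentation i := by
    rw [HasRingHomProperty.Spec_iff (P := @LocallyOfFinitePresentation)]
    refine RingHom.FinitePresentation.of_surjective _ Ideal.Quotient.mk_surjective ?_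
    show (RingHom.ker (Ideal.Quotient.mk I)).FG
    rw [Ideal.mk_ker]
    exact Submodule.fg_span hs
  have hrange : ∀ x : ↥(Spec B), x ∈ Set.range i.base ↔
      ∀ j ∈ s, j ∈ PrimeSpectrum.asIdeal (R := B) x := by
    intro x
    have h1 := range_comap_of_surjective (B ⧸ I) (Ideal.Quotient.mk I)
      Ideal.Quotient.mk_surjective
    rw [Ideal.mk_ker] at h1
    have h2 : x ∈ Set.range i.base ↔ x ∈ PrimeSpectrum.zeroLocus (I : Set B) :=
      Set.ext_iff.mp h1 x
    have h3 : ∀ y : PrimeSpectrum B, y ∈ PrimeSpectrum.zeroLocus (I : Set B) ↔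
        ∀ j ∈ s, j ∈ y.asIdeal := by
      intro y
      rw [PrimeSpectrum.zeroLocus_span, PrimeSpectrum.mem_zeroLocus]
      rfl
    exact h2.trans (h3 x)
  have hT : (bo B g \ ⋃ j ∈ s, bo B j) = bo B g ∩ Set.range i.base := by
    ext x
    rw [Set.mem_inter_iff, hrange]
    simp only [Set.mem_sdiff, Set.mem_iUnion, not_exists, bo, Set.mem_ofPred_eq]
    constructor
    · rintro ⟨h1, h2⟩
      refine ⟨h1, fun j hj => ?_⟩
      by_contra hjx
      exact h2 j hj hjx
    · rintro ⟨h1, h2⟩
      exact ⟨h1, fun j hj hjx => hjx (h2 j hj)⟩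
  rw [hT]
  let g' := i ≫ φ
  let A : Set ↥(Spec (CommRingCat.of (B ⧸ I))) := {w | (d : WithBot ℕ∞) ≤ FlatMor.fibreDimAt g' w}
  have hA : IsLocallyConstructible A :=
    Groth.Agent.Helper5.SecUO.isLocallyConstructible_le_fibreDimAt g' d
  have hiA : IsLocallyConstructible (i.base '' A) := i.isLocallyConstructible_image hA
  have hDg : IsLocallyConstructible (bo B g) :=
    ((isCompact_bo B g).isConstructible (isOpen_bo B g)).isLocallyConstructible
  have hG := hDg.inter hiA
  have hEq : hSet φ (bo B g ∩ Set.range i.base) d = fgen φ (bo B g ∩ i.base '' A) := by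
    ext x
    constructor
    · rintro ⟨z, ⟨hzg, w, rfl⟩, hzsp, hzf, hzd⟩
      refine ⟨i.base w, ⟨hzg, w, ?_, rfl⟩, hzsp, hzf⟩
      apply Groth.Agent.Helper5.KLem.le_fibreDimAt_of_resTrdeg g' w d
      rw [resTrdeg_comp_of_surjectiveOnStalks]
      exact hzd
    · rintro ⟨y, ⟨hyg, w, hwA, rfl⟩, hysp, hyf⟩
      obtain ⟨w', hw'sp, hw'f, hw'd⟩ := exists_generization_resTrdeg_ge g' w d hwA
      have hsp' : i.base w' ⤳ i.base w := hw'sp.map i.continuous
      refine ⟨i.base w', ⟨hsp'.mem_open (isOpen_bo B g) hyg, w', rfl⟩,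
        hsp'.trans hysp, ?_, ?_⟩
      · have h1 : φ.base (i.base w') = φ.base (i.base w) := by
          simpa only [g', Scheme.Hom.comp_apply] using hw'f
        rw [h1]; exact hyf
      · rw [← resTrdeg_comp_of_surjectiveOnStalks]
        exact hw'd
  rw [hEq, fgen_eq_fcl φ _ hG]
  exact isLocallyConstructible_fcl φ _ hG

set_option maxHeartbeats 800000 in
theorem isLocallyConstructible_hSet_affine (T : Set ↥(Spec B)) (hT : IsConstructible T) (d : ℕ) :
    IsLocallyConstructible (hSet φ T d) := by
  haveI : CompactSpace ↥(Spec B) := inferInstanceAs (CompactSpace (PrimeSpectrum B))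
  refine IsConstructible.induction_of_isTopologicalBasis
    (P := fun T _ => IsLocallyConstructible (hSet φ T d))
    (bo B) (isTopologicalBasis_bo B) (isCompact_bo B) ?_ ?_ T hT
  · intro g s hs
    exact isLocallyConstructible_hSet_basic B φ g s hs d
  · intro s hs t ht h1 h2
    show IsLocallyConstructible (hSet φ (s ∪ t) d)
    rw [hSet_union]
    exact h1.union h2

end Affine

/-- Lemma D: the fibrewise specializations of the points of a locally constructible set with
residue transcendence degree at least `d` form a locally constructible set -/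
theorem isLocallyConstructible_hSet [LocallyOfFinitePresentation f] (T : Set X)
    (hT : IsLocallyConstructible T) (d : ℕ) : IsLocallyConstructible (hSet f T d) := by
  refine IsLocallyConstructible.of_isOpenCover (U := fun U : X.affineOpens => U.1)
    (iSup_affineOpens_eq_top X) ?_
  rintro ⟨U, hU⟩
  have hU' : IsAffineOpen U := hU
  show IsLocallyConstructible ((Subtype.val : ↥U → X) ⁻¹' hSet f T d)
  -- transport along the isomorphism `Spec Γ(X, U) ≅ U`
  let j : Spec Γ(X, U) ⟶ X := hU'.fromSpec
  have hj : IsLocallyConstructible (j.base ⁻¹' hSet f T d) := by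
    rw [preimage_hSet_of_isOpenImmersion]
    exact isLocallyConstructible_hSet_affine Γ(X, U) (j ≫ f) _
      (hT.preimage_of_isOpenEmbedding j.isOpenEmbedding).isConstructible d
  -- the homeomorphism of `Spec Γ(X, U)` onto `U`
  have hrange : Set.range j.base = U := hU'.range_fromSpec
  let e : ↥(Spec Γ(X, U)) ≃ₜ ↥U :=
    j.isOpenEmbedding.isEmbedding.toHomeomorph.trans (Homeomorph.setCongr hrange)
  have he : ∀ w, (e w).1 = j.base w := fun w => rfl
  have hpre : j.base ⁻¹' hSet f T d = e ⁻¹' ((Subtype.val : ↥U → X) ⁻¹' hSet f T d) := by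
    ext w
    simp only [Set.mem_preimage, he]
  have h2 : (Subtype.val : ↥U → X) ⁻¹' hSet f T d =
      e.symm ⁻¹' (j.base ⁻¹' hSet f T d) := by
    rw [hpre]
    ext w
    simp
  rw [h2]
  exact hj.preimage_of_isOpenEmbedding e.symm.isOpenEmbedding

end Groth.Agent.Helper5.GeoRk
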