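import Mathlib
import Groth.Prelude
import Groth.Agent.Helper5.GeoRkB
import Groth.Agent.Helper5.GeoRkC
import Groth.Agent.Helper5.KDim1

/-!
# GeoRkD: the points having a generization in their fibre which lies in a locally constructible
set and has codimension at most `c` in the fibre form a locally constructible set; the locus where
the fibres have the geometric property `(R_k)` (S3454)
-/

set_option autoImplicit false
set_option linter.unusedSectionVars false
set_option linter.unusedVariables false
set_option linter.style.haveILetI false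
universe u

namespace Groth.Agent.Helper5.GeoRk

open CategoryTheory CategoryTheory.Limits AlgebraicGeometry TopologicalSpace Topology
open Groth.Agent.Helper5.EqDim Groth.Agent.Helper5.VarDim Groth.Agent.Helper5.BCMin
  Groth.Agent.Helper5.GenDim Groth.Agent.Helper5.SubDim

variable {X S : Scheme.{u}} (f : X ⟶ S)

/-- the points `x` having a generization in the fibre through `x` which lies in `T` and at which
the local ring of the fibre has dimension at most `c` -/
def cN (T : Set X) (c : ℕ) : Set X :=
  {x | ∃ w : ↥(f.fiber (f.base x)), (f.fiberι (f.base x)).base w ∈ T ∧ w ⤳ f.asFiber x ∧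
    ringKrullDim ((f.fiber (f.base x)).presheaf.stalk w) ≤ (c : WithBot ℕ∞)}

set_option maxHeartbeats 800000 in
theorem mem_cN_iff [LocallyOfFiniteType f] (T : Set X) (c : ℕ) (x : X) :
    x ∈ cN f T c ↔ ∃ z ∈ T, z ⤳ x ∧ f.base z = f.base x ∧ ∃ n m : ℕ,
      Dual3.resTrdeg f z = (n : Cardinal.{u}) ∧ FlatMor.fibreDimAt f z = (m : WithBot ℕ∞) ∧
        m ≤ c + n := by
  constructor
  · rintro ⟨w, hwT, hwsp, hwd⟩
    obtain ⟨k, n, hk, hn, hl⟩ := fp_formula f (f.base x) w
    have hfd : FlatMor.localDim ↥(f.fiber (f.base x)) w =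
        FlatMor.fibreDimAt f ((f.fiberι (f.base x)).base w) :=
      localDim_fiber_eq_fibreDimAt f (f.base x) w _ rfl (apply_fiberι f (f.base x) w)
    have hkc : k ≤ c := by
      rw [hk] at hwd
      exact_mod_cast hwd
    refine ⟨(f.fiberι (f.base x)).base w, hwT, ?_, apply_fiberι f (f.base x) w, n, k + n, hn,
      by rw [← hfd, hl], by omega⟩
    have := hwsp.map (f.fiberι (f.base x)).continuous
    rwa [f.fiberι_asFiber] at this
  · rintro ⟨z, hzT, hzsp, hzf, n, m, hn, hm, hle⟩
    have hzr : z ∈ Set.range (f.fiberι (f.base x)).base := by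
      rw [Scheme.Hom.range_fiberι]; exact hzf
    obtain ⟨w, rfl⟩ := hzr
    obtain ⟨k, n', hk, hn', hl⟩ := fp_formula f (f.base x) w
    have hfd : FlatMor.localDim ↥(f.fiber (f.base x)) w =
        FlatMor.fibreDimAt f ((f.fiberι (f.base x)).base w) :=
      localDim_fiber_eq_fibreDimAt f (f.base x) w _ rfl (apply_fiberι f (f.base x) w)
    have hnn : n' = n := by
      have := hn'.symm.trans hn
      exact_mod_cast this
    have hmk : m = k + n' := by
      have := hm.symm.trans (hfd.symm.trans hl)
      exact_mod_cast this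
    refine ⟨w, hzT, ?_, ?_⟩
    · rw [← (f.fiberι (f.base x)).isEmbedding.toIsInducing.specializes_iff, f.fiberι_asFiber]
      exact hzsp
    · rw [hk]
      exact_mod_cast (by omega : k ≤ c)

/-- the locus where the local fibre dimension is `m` -/
theorem isLocallyConstructible_fibreDimAt_eq [LocallyOfFinitePresentation f] (m : ℕ) :
    IsLocallyConstructible {z : X | FlatMor.fibreDimAt f z = (m : WithBot ℕ∞)} := by
  have h1 := Groth.Agent.Helper5.SecUO.isLocallyConstructible_le_fibreDimAt f m
  have h2 := Groth.Agent.Helper5.KLem.isLocallyConstructible_compl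
    (Groth.Agent.Helper5.SecUO.isLocallyConstructible_le_fibreDimAt f (m + 1))
  convert h1.inter h2 using 1
  ext z
  obtain ⟨k, hk⟩ := fibreDimAt_nat f z
  simp only [Set.mem_ofPred_eq, Set.mem_inter_iff, Set.mem_compl_iff, hk]
  constructor
  · intro h
    have : k = m := by exact_mod_cast h
    subst this
    refine ⟨le_rfl, fun h' => ?_⟩
    have : k + 1 ≤ k := by exact_mod_cast h'
    omega
  · rintro ⟨h1, h2⟩
    have h3 : m ≤ k := by exact_mod_cast h1
    have h4 : ¬ (m + 1 ≤ k) := fun h' => h2 (by exact_mod_cast h')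
    have : k = m := by omega
    rw [this]

theorem mem_cN_iff_of_le [LocallyOfFiniteType f] (T : Set X) (c N : ℕ) (x : X)
    (hN : FlatMor.fibreDimAt f x ≤ (N : WithBot ℕ∞)) :
    x ∈ cN f T c ↔ x ∈ (Finset.range (N + 1)).sup (fun m =>
      hSet f (T ∩ {z : X | FlatMor.fibreDimAt f z = (m : WithBot ℕ∞)}) (m - c)) := by
  rw [Finset.sup_set_eq_biUnion, Set.mem_iUnion₂, mem_cN_iff]
  constructor
  · rintro ⟨z, hzT, hzsp, hzf, n, m, hn, hm, hle⟩
    have hmN : m ≤ N := by
      have := (fibreDimAt_le_of_specializes f hzsp).trans hN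
      rw [hm] at this
      exact_mod_cast this
    refine ⟨m, Finset.mem_range.mpr (by omega), z, ⟨hzT, hm⟩, hzsp, hzf, ?_⟩
    rw [hn]
    exact_mod_cast (by omega : m - c ≤ n)
  · rintro ⟨m, -, z, ⟨hzT, hm⟩, hzsp, hzf, hd⟩
    obtain ⟨n, hn⟩ := Groth.Agent.Helper5.KDim.exists_resTrdeg_nat f z
    rw [hn] at hd
    have : m - c ≤ n := by exact_mod_cast hd
    exact ⟨z, hzT, hzsp, hzf, n, m, hn, hm, by omega⟩

set_option maxHeartbeats 800000 in
/-- Lemma C -/
theorem isLocallyConstructible_cN [LocallyOfFinitePresentation f] (T : Set X)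
    (hT : IsLocallyConstructible T) (c : ℕ) : IsLocallyConstructible (cN f T c) := by
  have hC : ∀ N : ℕ, IsLocallyConstructible ((Finset.range (N + 1)).sup (fun m =>
      hSet f (T ∩ {z : X | FlatMor.fibreDimAt f z = (m : WithBot ℕ∞)}) (m - c))) := by
    intro N
    rw [Finset.sup_set_eq_biUnion]
    refine IsLocallyConstructible.biUnion (Finset.finite_toSet _) fun m _ => ?_
    exact isLocallyConstructible_hSet f _ (hT.inter (isLocallyConstructible_fibreDimAt_eq f m)) _
  let U : ℕ → Opens X := fun N =>
    ⟨{y : X | FlatMor.fibreDimAt f y ≤ (N : WithBot ℕ∞)},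
      Groth.Agent.Helper5.FibDim.isOpen_fibreDimAt_le f _⟩
  have hU : IsOpenCover U := by
    rw [IsOpenCover, eq_top_iff]
    intro x _
    obtain ⟨k, hk⟩ := fibreDimAt_nat f x
    exact Opens.mem_iSup.mpr ⟨k, le_of_eq hk⟩
  refine IsLocallyConstructible.of_isOpenCover hU ?_
  intro N
  show IsLocallyConstructible ((Subtype.val : ↥(U N) → X) ⁻¹' cN f T c)
  have hEq : ((Subtype.val : ↥(U N) → X) ⁻¹' cN f T c) =
      ((Subtype.val : ↥(U N) → X) ⁻¹' ((Finset.range (N + 1)).sup (fun m =>
        hSet f (T ∩ {z : X | FlatMor.fibreDimAt f z = (m : WithBot ℕ∞)}) (m - c)))) := by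
    ext y
    exact mem_cN_iff_of_le f T c N y.1 y.2
  rw [hEq]
  exact (hC N).preimage_of_isOpenEmbedding (U N).isOpenEmbedding'

set_option maxHeartbeats 800000 in
/-- the fibre through `x` has the geometric property `(R_k)` at `x` iff no non-smooth generization
of `x` in the fibre has codimension at most `k` -/
theorem geomRk_iff_notMem_cN [LocallyOfFinitePresentation f] (k : ℕ) (x : X) :
    (∀ (K : Type u) [Field K] [Algebra (IsLocalRing.ResidueField (S.presheaf.stalk (f.base x))) K]
        (x' : ↥(FBase.bc (f.fiberToSpecResidueField (f.base x)) K)),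
        (FBase.bcπ (f.fiberToSpecResidueField (f.base x)) K).base x' = f.asFiber x →
          LocCoh.HasRk k ((FBase.bc (f.fiberToSpecResidueField (f.base x)) K).presheaf.stalk x')) ↔
      x ∉ cN f (Groth.Agent.Helper5.SmUp.Efib f)ᶜ k := by
  have key := @geomRk_field_iff (IsLocalRing.ResidueField (S.presheaf.stalk (f.base x))) _
    (f.fiber (f.base x)) (f.fiberToSpecResidueField (f.base x))
    (Groth.Agent.Helper5.SmUp.lfp_fiberToSpec f _) (f.asFiber x) k
  refine key.trans ?_
  constructor
  · rintro H ⟨w, hwT, hwsp, hwd⟩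
    exact H w hwsp (fun hsm => hwT ((Groth.Agent.Helper5.SmUp.fiber_mem_iff f _ w).mp hsm)) hwd
  · intro H w hwsp hns hwd
    exact H ⟨w, fun hE => hns ((Groth.Agent.Helper5.SmUp.fiber_mem_iff f _ w).mpr hE), hwsp, hwd⟩

/-- S3454 -/
theorem s3454 [LocallyOfFinitePresentation f] (k : ℕ) :
    Topology.IsLocallyConstructible {x : X |
      ∀ (K : Type u) [Field K] [Algebra (IsLocalRing.ResidueField (S.presheaf.stalk (f.base x))) K]
        (x' : ↥(FBase.bc (f.fiberToSpecResidueField (f.base x)) K)),
        (FBase.bcπ (f.fiberToSpecResidueField (f.base x)) K).base x' = f.asFiber x →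
          LocCoh.HasRk k ((FBase.bc (f.fiberToSpecResidueField (f.base x)) K).presheaf.stalk x')} := by
  have hSing : IsLocallyConstructible (Groth.Agent.Helper5.SmUp.Efib f)ᶜ :=
    Groth.Agent.Helper5.KLem.isLocallyConstructible_compl (Groth.Agent.Helper5.SmUp.s3423 f)
  have h := Groth.Agent.Helper5.KLem.isLocallyConstructible_compl
    (isLocallyConstructible_cN f _ hSing k)
  convert h using 1
  ext x
  exact geomRk_iff_notMem_cN f k x

/-- the geometric condition `(R_k)` at a point of a fibre -/
def GeomRkAt (k : ℕ) (s : S) (w : ↥(f.fiber s)) : Prop :=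
  ∀ (K : Type u) [Field K] [Algebra (IsLocalRing.ResidueField (S.presheaf.stalk s)) K]
    (x' : ↥(FBase.bc (f.fiberToSpecResidueField s) K)),
    (FBase.bcπ (f.fiberToSpecResidueField s) K).base x' = w →
      LocCoh.HasRk k ((FBase.bc (f.fiberToSpecResidueField s) K).presheaf.stalk x')

theorem geomRkAt_fiber_iff (k : ℕ) (s : S) (w : ↥(f.fiber s)) :
    GeomRkAt f k s w ↔
      GeomRkAt f k (f.base ((f.fiberι s).base w)) (f.asFiber ((f.fiberι s).base w)) := by
  have key : ∀ (s s' : S) (_ : s = s') (w : ↥(f.fiber s)) (w' : ↥(f.fiber s')),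
      (f.fiberι s).base w = (f.fiberι s').base w' → (GeomRkAt f k s w ↔ GeomRkAt f k s' w') := by
    intro s s' h
    subst h
    intro w w' hww'
    have : w = w' := (f.fiberι s).isEmbedding.injective hww'
    rw [this]
  have hs : f.base ((f.fiberι s).base w) = s := apply_fiberι f s w
  exact key s _ hs.symm w (f.asFiber _) (f.fiberι_asFiber _).symm

/-- S4828 -/
theorem s4828 [LocallyOfFinitePresentation f] [QuasiCompact f] [QuasiSeparated f] (k : ℕ) :
    Topology.IsLocallyConstructible {s : S |
      ∀ (K : Type u) [Field K] [Algebra (IsLocalRing.ResidueField (S.presheaf.stalk s)) K]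
        (x' : ↥(FBase.bc (f.fiberToSpecResidueField s) K)),
        LocCoh.HasRk k ((FBase.bc (f.fiberToSpecResidueField s) K).presheaf.stalk x')} := by
  have h1 := Groth.Agent.Helper5.KLem.isLocallyConstructible_compl (s3454 f k)
  have h2 := Groth.Agent.Helper5.KLem.isLocallyConstructible_compl
    (f.isLocallyConstructible_image h1)
  convert h2 using 1
  ext s
  constructor
  · rintro H ⟨x, hx, rfl⟩
    apply hx
    intro K _ _ x' _
    exact H K x'
  · intro H K _ _ x'
    by_contra hcon
    apply H
    refine ⟨(f.fiberι s).base ((FBase.bcπ (f.fiberToSpecResidueField s) K).base x'), ?_,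
      apply_fiberι f s _⟩
    intro hG
    have h4 : GeomRkAt f k s ((FBase.bcπ (f.fiberToSpecResidueField s) K).base x') :=
      (geomRkAt_fiber_iff f k s _).mpr hG
    exact hcon (h4 K x' rfl)

end Groth.Agent.Helper5.GeoRk
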