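import Mathlib
import Groth.Prelude
import Groth.Agent.Helper5.GeoNorA
import Groth.Agent.Helper5.GeoRkD
import Groth.Agent.Helper5.FibPropH
import Groth.Agent.S0602
import Groth.Agent.Helper3.GRO1

/-!
# GPIA: the locus where the fibres are geometrically reduced is locally constructible

geometric reducedness at a point of a scheme locally of finite presentation over a field is the
geometric condition `(R_0)` together with the condition `(S_1)` of the local ring
-/

set_option autoImplicit false
set_option linter.unusedSectionVars false
set_option linter.unusedVariables false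
set_option linter.style.haveILetI false
universe u

namespace Groth.Agent.Helper5.GPI

open CategoryTheory CategoryTheory.Limits AlgebraicGeometry TopologicalSpace Topology
open Groth.Agent.Helper5.BCMin Groth.Agent.Helper5.GeoRk Groth.Agent.Helper5.GeoNor

section Field

variable (k : Type u) [Field k] {T : Scheme.{u}} (h : T ⟶ Spec (CommRingCat.of k))
  [LocallyOfFinitePresentation h]

set_option maxHeartbeats 800000 in
/-- geometric reducedness at a point of a scheme locally of finite presentation over a field -/
theorem geomReduced_field_iff (t : T) :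
    (∀ (K : Type u) [Field K] [Algebra k K] (t' : ↥(FBase.bc h K)),
        (FBase.bcπ h K).base t' = t →
          _root_.IsReduced ((FBase.bc h K).presheaf.stalk t')) ↔
      (∀ (K : Type u) [Field K] [Algebra k K] (t' : ↥(FBase.bc h K)),
        (FBase.bcπ h K).base t' = t → LocCoh.HasRk 0 ((FBase.bc h K).presheaf.stalk t')) ∧
      LocCoh.HasSk 1 (T.presheaf.stalk t) (T.presheaf.stalk t) := by
  haveI : LocallyOfFiniteType h := inferInstance
  haveI hTN : IsLocallyNoetherian T := LocallyOfFiniteType.isLocallyNoetherian h
  constructor
  · intro H
    refine ⟨fun K _ _ t' ht' => ?_, ?_⟩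
    · haveI := isLocallyNoetherian_bc k h K (algebraMap k K)
      have hr := H K t' ht'
      have := (Groth.Agent.S0602.result
        ((pullback h (Spec.map (CommRingCat.ofHom (algebraMap k K)))).presheaf.stalk t')).mp hr
      exact this.1
    · let φ : k →+* k := algebraMap k k
      haveI := isLocallyNoetherian_bc k h k φ
      set π := pullback.fst h (Spec.map (CommRingCat.ofHom φ)) with hπ
      obtain ⟨t', ht'⟩ := π.surjective t
      have hr := H k t' ht'
      have hS := ((Groth.Agent.S0602.result
        ((pullback h (Spec.map (CommRingCat.ofHom φ))).presheaf.stalk t')).mp hr).2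
      subst ht'
      haveI : Flat π := inferInstance
      letI : Algebra (T.presheaf.stalk (π.base t'))
          ((pullback h (Spec.map (CommRingCat.ofHom φ))).presheaf.stalk t') :=
        (π.stalkMap t').hom.toAlgebra
      haveI : IsLocalHom (algebraMap (T.presheaf.stalk (π.base t'))
          ((pullback h (Spec.map (CommRingCat.ofHom φ))).presheaf.stalk t')) :=
        inferInstanceAs (IsLocalHom (π.stalkMap t').hom)
      haveI : Module.Flat (T.presheaf.stalk (π.base t'))
          ((pullback h (Spec.map (CommRingCat.ofHom φ))).presheaf.stalk t') := Flat.stalkMap π t'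
      haveI : Module.FaithfullyFlat (T.presheaf.stalk (π.base t'))
          ((pullback h (Spec.map (CommRingCat.ofHom φ))).presheaf.stalk t') :=
        Module.FaithfullyFlat.of_flat_of_isLocalHom
      exact (Groth.Agent.S9437.result 1 _ _ hS).2
  · rintro ⟨HR, HS⟩ K _ _ t' ht'
    let φ : k →+* K := algebraMap k K
    set π := pullback.fst h (Spec.map (CommRingCat.ofHom φ)) with hπ
    set σ := pullback.snd h (Spec.map (CommRingCat.ofHom φ)) with hσ
    haveI : LocallyOfFinitePresentation σ := MorphismProperty.pullback_snd _ _ inferInstance
    haveI := isLocallyNoetherian_bc k h K φ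
    show _root_.IsReduced ((pullback h (Spec.map (CommRingCat.ofHom φ))).presheaf.stalk t')
    rw [Groth.Agent.S0602.result]
    refine ⟨HR K t' ht', ?_⟩
    rw [hasSk_stalk_iff]
    intro ξ hξ
    have hw : π.base ξ ⤳ t := by
      have := hξ.map π.continuous
      rw [← ht']
      exact this
    have hSz := (hasSk_stalk_iff T t 1).mp HS (π.base ξ) hw
    have hsmooth := (geomRk_field_iff k h t 0).mp HR
    obtain ⟨a, d, ha, hd, hda⟩ :=
      Groth.Agent.Helper5.FibProp.exists_dim_depth (T.presheaf.stalk (π.base ξ))
    obtain ⟨a', d', ha', hd', hda'⟩ := Groth.Agent.Helper5.FibProp.exists_dim_depth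
      ((pullback h (Spec.map (CommRingCat.ofHom φ))).presheaf.stalk ξ)
    have hdim := (dim_stalk_bc k h K φ ξ).1
    have hdep := depth_stalk_bc k h K φ ξ
    rw [ha, ha'] at hdim
    rw [hd, hd'] at hdep
    rw [ha, hd] at hSz
    rw [ha', hd']
    refine (min_cast_le_iff 1 a' d').mpr ?_
    have haa : a ≤ a' := by exact_mod_cast hdim
    have hdd : d ≤ d' := by exact_mod_cast hdep
    have hSz' : min 1 a ≤ d := (min_cast_le_iff 1 a d).mp hSz
    by_cases h1 : a ≤ 0
    · have hsm : π.base ξ ∈ h.smoothLocus := by
        by_contra hns
        exact hsmooth _ hw hns (by rw [ha]; exact_mod_cast h1)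
      haveI hreg := regular_of_mem_smoothLocus K σ ξ
        ((bc_mem_smoothLocus_iff k h K φ ξ).mpr hsm)
      have hcm : Module.supportDim ((pullback h (Spec.map (CommRingCat.ofHom φ))).presheaf.stalk ξ)
          ((pullback h (Spec.map (CommRingCat.ofHom φ))).presheaf.stalk ξ) = _ :=
        Groth.Agent.Helper2.RegCM.cm_of_isRegularLocalRing
          ((pullback h (Spec.map (CommRingCat.ofHom φ))).presheaf.stalk ξ)
      rw [Module.supportDim_self_eq_ringKrullDim, ha', hd'] at hcm
      have : a' = d' := by exact_mod_cast hcm
      subst this
      exact min_le_right _ _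
    · have h2 : 1 ≤ d := by
        rcases Nat.lt_or_ge a 1 with h | h
        · omega
        · rwa [min_eq_left h] at hSz'
      exact (min_le_left _ _).trans (h2.trans hdd)

end Field

variable {X S : Scheme.{u}} (f : X ⟶ S)

/-- the fibre through `x` is geometrically reduced at `x` iff it has the geometric property
`(R_0)` at `x` and its local ring at `x` has the property `(S_1)` -/
theorem geomReduced_iff [LocallyOfFinitePresentation f] (x : X) :
    FBase.IsGeomReducedAt (f.fiberToSpecResidueField (f.base x)) (f.asFiber x) ↔
      (∀ (K : Type u) [Field K]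
        [Algebra (IsLocalRing.ResidueField (S.presheaf.stalk (f.base x))) K]
        (x' : ↥(FBase.bc (f.fiberToSpecResidueField (f.base x)) K)),
        (FBase.bcπ (f.fiberToSpecResidueField (f.base x)) K).base x' = f.asFiber x →
          LocCoh.HasRk 0 ((FBase.bc (f.fiberToSpecResidueField (f.base x)) K).presheaf.stalk x')) ∧
      LocCoh.HasSk 1 ((f.fiber (f.base x)).presheaf.stalk (f.asFiber x))
        ((f.fiber (f.base x)).presheaf.stalk (f.asFiber x)) :=
  @geomReduced_field_iff (IsLocalRing.ResidueField (S.presheaf.stalk (f.base x))) _
    (f.fiber (f.base x)) (f.fiberToSpecResidueField (f.base x))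
    (Groth.Agent.Helper5.SmUp.lfp_fiberToSpec f _) (f.asFiber x)

/-- the locus where the fibres are geometrically reduced is locally constructible -/
theorem lc_geomReduced [LocallyOfFinitePresentation f] :
    Topology.IsLocallyConstructible (Groth.Agent.Helper3.GRO.E f) := by
  have h := (s3454 f 0).inter (Groth.Agent.Helper5.FibProp.s3422 f 1)
  convert h using 1
  ext x
  exact geomReduced_iff f x

end Groth.Agent.Helper5.GPI
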