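import Mathlib
import Groth.Prelude
import Groth.Agent.Helper4.DomOpen

/-!
# GPIB: directedness of the generizations of a point; the local ring of a scheme at a point is a
domain iff it is reduced and the generizations of the point are directed
-/

set_option autoImplicit false
set_option linter.unusedSectionVars false
set_option linter.unusedVariables false
set_option linter.style.haveILetI false
universe u

namespace Groth.Agent.Helper5.GPI

open CategoryTheory CategoryTheory.Limits AlgebraicGeometry TopologicalSpace Topology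

/-- the generizations of `t` are directed: the point lies on a unique irreducible component -/
def Dir {A : Type*} [TopologicalSpace A] (t : A) : Prop :=
  ∀ a b : A, a ⤳ t → b ⤳ t → ∃ c, c ⤳ a ∧ c ⤳ b

theorem dir_of_isInducing {A B : Type*} [TopologicalSpace A] [TopologicalSpace B] (φ : A → B)
    (hφ : IsInducing φ) (hgen : ∀ (a : A) (b : B), b ⤳ φ a → b ∈ Set.range φ) (t : A)
    (h : Dir (φ t)) : Dir t := by
  intro a b ha hb
  obtain ⟨c, hca, hcb⟩ := h (φ a) (φ b) (ha.map hφ.continuous) (hb.map hφ.continuous)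
  obtain ⟨c', rfl⟩ := hgen a c hca
  exact ⟨c', hφ.specializes_iff.mp hca, hφ.specializes_iff.mp hcb⟩

theorem dir_homeomorph_iff {A B : Type*} [TopologicalSpace A] [TopologicalSpace B] (φ : A ≃ₜ B)
    (t : A) : Dir (φ t) ↔ Dir t := by
  constructor
  · exact dir_of_isInducing φ φ.isInducing (fun a b _ => φ.surjective b) t
  · intro h
    have := dir_of_isInducing φ.symm φ.symm.isInducing (fun a b _ => φ.symm.surjective b) (φ t)
    apply this
    rw [Homeomorph.symm_apply_apply]
    exact h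

/-- directedness descends along continuous generalizing maps -/
theorem dir_of_generalizingMap {A B : Type*} [TopologicalSpace A] [TopologicalSpace B] (π : A → B)
    (hc : Continuous π) (hg : GeneralizingMap π) (w : A) (h : Dir w) : Dir (π w) := by
  intro a b ha hb
  obtain ⟨a', ha', rfl⟩ := hg ha
  obtain ⟨b', hb', rfl⟩ := hg hb
  obtain ⟨c, hca, hcb⟩ := h a' b' ha' hb'
  exact ⟨π c, hca.map hc, hcb.map hc⟩

theorem dir_iso_iff {Z Z' : Scheme.{u}} (e : Z ≅ Z') (t : Z) : Dir (e.hom t) ↔ Dir t :=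
  dir_homeomorph_iff e.hom.homeomorph t

/-- the local ring of a scheme at a point is a domain iff it is reduced and the generizations of
the point are directed -/
theorem isDomain_stalk_iff {Z : Scheme.{u}} (t : Z) :
    IsDomain (Z.presheaf.stalk t) ↔ _root_.IsReduced (Z.presheaf.stalk t) ∧ Dir t := by
  let j := Z.fromSpecStalk t
  have hrange : ∀ z : Z, z ⤳ t → ∃ r : ↥(Spec (Z.presheaf.stalk t)), j r = z := by
    intro z hz
    have : z ∈ Set.range j := by
      rw [Scheme.range_fromSpecStalk]; exact hz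
    exact this
  have hmem : ∀ r : ↥(Spec (Z.presheaf.stalk t)), j r ⤳ t := by
    intro r
    have : j r ∈ Set.range j := ⟨r, rfl⟩
    rw [Scheme.range_fromSpecStalk] at this
    exact this
  constructor
  · intro hd
    refine ⟨inferInstance, ?_⟩
    intro a b ha hb
    obtain ⟨r, rfl⟩ := hrange a ha
    obtain ⟨r', rfl⟩ := hrange b hb
    let bt : PrimeSpectrum (Z.presheaf.stalk t) := ⟨⊥, Ideal.isPrime_bot⟩
    refine ⟨j bt, ?_, ?_⟩
    · apply Specializes.map _ j.continuous
      exact (PrimeSpectrum.le_iff_specializes bt r).mp (show (⊥ : Ideal _) ≤ r.asIdeal from bot_le)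
    · apply Specializes.map _ j.continuous
      exact (PrimeSpectrum.le_iff_specializes bt r').mp (show (⊥ : Ideal _) ≤ r'.asIdeal from bot_le)
  · rintro ⟨hred, hdir⟩
    apply Groth.Agent.Helper4.DomOpen.isDomain_of_subsingleton_minimalPrimes
    intro 𝔭 h𝔭 𝔮 h𝔮
    let r𝔭 : PrimeSpectrum (Z.presheaf.stalk t) := ⟨𝔭, h𝔭.1.1⟩
    let r𝔮 : PrimeSpectrum (Z.presheaf.stalk t) := ⟨𝔮, h𝔮.1.1⟩
    obtain ⟨c, hc𝔭, hc𝔮⟩ := hdir (j r𝔭) (j r𝔮) (hmem r𝔭) (hmem r𝔮)
    obtain ⟨rc, rfl⟩ := hrange c (hc𝔭.trans (hmem r𝔭))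
    have h1 : rc ⤳ r𝔭 := j.isEmbedding.toIsInducing.specializes_iff.mp hc𝔭
    have h2 : rc ⤳ r𝔮 := j.isEmbedding.toIsInducing.specializes_iff.mp hc𝔮
    have l1 : rc.asIdeal ≤ 𝔭 := (PrimeSpectrum.le_iff_specializes rc r𝔭).mpr h1
    have l2 : rc.asIdeal ≤ 𝔮 := (PrimeSpectrum.le_iff_specializes rc r𝔮).mpr h2
    have e1 : rc.asIdeal = 𝔭 := le_antisymm l1 (h𝔭.2 ⟨rc.isPrime, bot_le⟩ l1)
    have e2 : rc.asIdeal = 𝔮 := le_antisymm l2 (h𝔮.2 ⟨rc.isPrime, bot_le⟩ l2)
    rw [← e1, e2]

end Groth.Agent.Helper5.GPI
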