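import Mathlib
import Groth.Prelude
import Groth.Agent.Helper5.GPIB
import Groth.Agent.Helper3.GRO1

/-!
# GPIC: the locus of points of `X` with a unique geometric irreducible component of the fibre
passing through them; compatibility with base change; the locus where the fibres are
geometrically pointwise integral
-/

set_option autoImplicit false
set_option linter.unusedSectionVars false
set_option linter.unusedVariables false
set_option linter.style.haveILetI false
universe u

namespace Groth.Agent.Helper5.GPI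

open CategoryTheory CategoryTheory.Limits AlgebraicGeometry TopologicalSpace Topology

/-- the set of points `x` such that at all points over `x` of all the geometric fibres the
generizations are directed (a unique irreducible component of the geometric fibre passes through
the point) -/
def M {X Y : Scheme.{u}} (f : X ⟶ Y) : Set X :=
  {x | ∀ (K : Type u) [Field K] (a : Spec (CommRingCat.of K) ⟶ Y) (t : ↥(pullback f a)),
    (pullback.fst f a) t = x → Dir t}

/-- ascent along a base change -/
theorem mem_M_of_isPullback {X Y X' Y' : Scheme.{u}} {f : X ⟶ Y} {h : Y' ⟶ Y} {f' : X' ⟶ Y'}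
    {e : X' ⟶ X} (hc : IsPullback e f' f h) (x' : X') (hx : e x' ∈ M f) : x' ∈ M f' := by
  intro K _ a' t' ht'
  have hpaste : IsPullback (pullback.fst f' a' ≫ e) (pullback.snd f' a') f (a' ≫ h) :=
    (IsPullback.of_hasPullback f' a').paste_horiz hc
  let μ : pullback f' a' ≅ pullback f (a' ≫ h) := hpaste.isoPullback
  have hμ1 : μ.hom ≫ pullback.fst f (a' ≫ h) = pullback.fst f' a' ≫ e :=
    hpaste.isoPullback_hom_fst
  have h1 : (pullback.fst f (a' ≫ h)) (μ.hom t') = e x' := by
    rw [← Scheme.Hom.comp_apply, hμ1, Scheme.Hom.comp_apply, ht']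
  have := hx K (a' ≫ h) (μ.hom t') h1
  exact (dir_iso_iff μ t').mp this

set_option maxHeartbeats 1000000 in
/-- descent along a base change -/
theorem mem_M_of_isPullback' {X Y X' Y' : Scheme.{u}} {f : X ⟶ Y} {h : Y' ⟶ Y} {f' : X' ⟶ Y'}
    {e : X' ⟶ X} (hc : IsPullback e f' f h) (x' : X') (hx : x' ∈ M f') : e x' ∈ M f := by
  intro K _ a t ht
  obtain ⟨p, hp1, hp2⟩ := Scheme.Pullback.exists_preimage_pullback
    (f := pullback.fst f a) (g := e) t x' ht
  let P : Scheme.{u} := pullback (pullback.fst f a) e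
  let L : Type u := P.residueField p
  let σ : Spec (CommRingCat.of L) ⟶ P := P.fromSpecResidueField p
  let pr1 : P ⟶ pullback f a := pullback.fst (pullback.fst f a) e
  let pr2 : P ⟶ X' := pullback.snd (pullback.fst f a) e
  have hP : pr1 ≫ pullback.fst f a = pr2 ≫ e := pullback.condition
  obtain ⟨b, hbdef⟩ : ∃ b : Spec (CommRingCat.of L) ⟶ Spec (CommRingCat.of K),
      b = σ ≫ pr1 ≫ pullback.snd f a := ⟨_, rfl⟩
  obtain ⟨a', ha'def⟩ : ∃ a' : Spec (CommRingCat.of L) ⟶ Y', a' = σ ≫ pr2 ≫ f' := ⟨_, rfl⟩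
  have ha' : a' ≫ h = b ≫ a := by
    rw [ha'def, hbdef]
    simp only [Category.assoc]
    rw [← hc.w, ← pullback.condition (f := f) (g := a), ← Category.assoc pr2, ← hP,
      Category.assoc]
  have hΘw : (pullback.fst f' a' ≫ e) ≫ f = (pullback.snd f' a' ≫ b) ≫ a := by
    calc (pullback.fst f' a' ≫ e) ≫ f = pullback.fst f' a' ≫ (e ≫ f) := Category.assoc _ _ _
      _ = pullback.fst f' a' ≫ (f' ≫ h) := by rw [hc.w]
      _ = (pullback.fst f' a' ≫ f') ≫ h := (Category.assoc _ _ _).symm
      _ = (pullback.snd f' a' ≫ a') ≫ h := by rw [pullback.condition]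
      _ = pullback.snd f' a' ≫ (a' ≫ h) := Category.assoc _ _ _
      _ = pullback.snd f' a' ≫ (b ≫ a) := by rw [ha']
      _ = (pullback.snd f' a' ≫ b) ≫ a := (Category.assoc _ _ _).symm
  let Θ : pullback f' a' ⟶ pullback f a :=
    pullback.lift (pullback.fst f' a' ≫ e) (pullback.snd f' a' ≫ b) hΘw
  have hΘ1 : Θ ≫ pullback.fst f a = pullback.fst f' a' ≫ e := pullback.lift_fst _ _ _
  have hΘ2 : Θ ≫ pullback.snd f a = pullback.snd f' a' ≫ b := pullback.lift_snd _ _ _
  have hΘ : IsPullback Θ (pullback.snd f' a') (pullback.snd f a) b := by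
    have hout : IsPullback (pullback.fst f' a' ≫ e) (pullback.snd f' a') f (a' ≫ h) :=
      (IsPullback.of_hasPullback f' a').paste_horiz hc
    rw [ha', ← hΘ1] at hout
    exact IsPullback.of_right hout hΘ2 (IsPullback.of_hasPullback f a)
  haveI hb : Flat b := by
    have hbe : b = Spec.map (Spec.preimage b) := (Spec.map_preimage b).symm
    rw [hbe, Flat.SpecMap_iff]
    letI := (Spec.preimage b).hom.toAlgebra
    show Module.Flat K L
    infer_instance
  haveI : Flat Θ := MorphismProperty.of_isPullback hΘ.flip hb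
  have hsw : (σ ≫ pr2) ≫ f' = 𝟙 _ ≫ a' := by
    rw [Category.id_comp, Category.assoc, ha'def]
  let sw : Spec (CommRingCat.of L) ⟶ pullback f' a' := pullback.lift (σ ≫ pr2) (𝟙 _) hsw
  have hsw1 : sw ≫ pullback.fst f' a' = σ ≫ pr2 := pullback.lift_fst _ _ _
  have hsw2 : sw ≫ pullback.snd f' a' = 𝟙 _ := pullback.lift_snd _ _ _
  have hswΘ : sw ≫ Θ = σ ≫ pr1 := by
    apply pullback.hom_ext
    · rw [Category.assoc, hΘ1, ← Category.assoc, hsw1, Category.assoc, Category.assoc, hP]
    · rw [Category.assoc, hΘ2, ← Category.assoc, hsw2, Category.id_comp, Category.assoc, hbdef]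
  let pt : ↥(Spec (CommRingCat.of L)) := IsLocalRing.closedPoint L
  have hσ : σ pt = p := Scheme.fromSpecResidueField_apply p pt
  let w : ↥(pullback f' a') := sw pt
  have hw1 : (pullback.fst f' a') w = x' := by
    show (pullback.fst f' a') (sw pt) = x'
    rw [← Scheme.Hom.comp_apply, hsw1, Scheme.Hom.comp_apply, hσ]
    exact hp2
  have hw2 : Θ w = t := by
    show Θ (sw pt) = t
    rw [← Scheme.Hom.comp_apply, hswΘ, Scheme.Hom.comp_apply, hσ]
    exact hp1
  have hdir := hx L a' w hw1
  have := dir_of_generalizingMap Θ Θ.continuous (Flat.generalizingMap Θ) w hdir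
  rwa [hw2] at this

/-- base change invariance of the locus -/
theorem mem_M_iff_of_isPullback {X Y X' Y' : Scheme.{u}} {f : X ⟶ Y} {h : Y' ⟶ Y} {f' : X' ⟶ Y'}
    {e : X' ⟶ X} (hc : IsPullback e f' f h) (x' : X') : x' ∈ M f' ↔ e x' ∈ M f :=
  ⟨mem_M_of_isPullback' hc x', mem_M_of_isPullback hc x'⟩

/-- the case of a scheme over a field -/
theorem mem_M_field_iff {k : Type u} [Field k] {T : Scheme.{u}}
    (h : T ⟶ Spec (CommRingCat.of k)) (t : T) :
    t ∈ M h ↔ ∀ (K : Type u) [Field K] [Algebra k K] (t' : ↥(FBase.bc h K)),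
      (FBase.bcπ h K) t' = t → Dir t' := by
  constructor
  · intro H K _ _ t' ht'
    exact H K (Spec.map (CommRingCat.ofHom (algebraMap k K))) t' ht'
  · intro H K _ a t' ht'
    obtain ⟨φ, rfl⟩ : ∃ φ : CommRingCat.of k ⟶ CommRingCat.of K, a = Spec.map φ :=
      ⟨Spec.preimage a, (Spec.map_preimage a).symm⟩
    letI := φ.hom.toAlgebra
    exact H K t' ht'

/-- the locus of points at which the fibre is geometrically pointwise integral -/
abbrev EI {X Y : Scheme.{u}} (f : X ⟶ Y) : Set X :=
  {x | FBase.IsGeomPtIntegralAt (f.fiberToSpecResidueField (f.base x)) (f.asFiber x)}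

/-- geometric pointwise integrality is geometric reducedness together with the uniqueness of the
geometric irreducible component through the point -/
theorem mem_EI_iff {X Y : Scheme.{u}} (f : X ⟶ Y) (x : X) :
    x ∈ EI f ↔ x ∈ Groth.Agent.Helper3.GRO.E f ∧ x ∈ M f := by
  have hsq : IsPullback (f.fiberι (f.base x)) (f.fiberToSpecResidueField (f.base x)) f
      (Y.fromSpecResidueField (f.base x)) := IsPullback.of_hasPullback _ _
  have hM : x ∈ M f ↔ f.asFiber x ∈ M (f.fiberToSpecResidueField (f.base x)) := by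
    rw [mem_M_iff_of_isPullback hsq (f.asFiber x), Scheme.Hom.fiberι_asFiber]
  have hF := @mem_M_field_iff (IsLocalRing.ResidueField (Y.presheaf.stalk (f.base x))) _
    (f.fiber (f.base x)) (f.fiberToSpecResidueField (f.base x)) (f.asFiber x)
  rw [hM]
  constructor
  · intro H
    refine ⟨fun K _ _ t' ht' => ?_, hF.mpr (fun K _ _ t' ht' => ?_)⟩
    · exact ((isDomain_stalk_iff t').mp (H K t' ht')).1
    · exact ((isDomain_stalk_iff t').mp (H K t' ht')).2
  · rintro ⟨H1, H2⟩ K _ _ t' ht'
    exact (isDomain_stalk_iff t').mpr ⟨H1 K t' ht', hF.mp H2 K t' ht'⟩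

/-- base change invariance of the locus -/
theorem mem_EI_iff_of_isPullback {X Y X' Y' : Scheme.{u}} {f : X ⟶ Y} {h : Y' ⟶ Y} {f' : X' ⟶ Y'}
    {e : X' ⟶ X} (hc : IsPullback e f' f h) (x' : X') : x' ∈ EI f' ↔ e x' ∈ EI f := by
  rw [mem_EI_iff, mem_EI_iff, Groth.Agent.Helper3.GRO.mem_E_iff_of_isPullback hc,
    mem_M_iff_of_isPullback hc]

end Groth.Agent.Helper5.GPI
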