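import Mathlib
import Groth.Prelude
import Groth.Agent.Helper5.GPIC
import Groth.Agent.Helper5.GCntE

/-!
# GPID: generic openness of the locus of unicity of the geometric irreducible component, when the
residue field of the generic point of the base is algebraically closed
-/

set_option autoImplicit false
set_option linter.unusedSectionVars false
set_option linter.unusedVariables false
set_option linter.style.haveILetI false
universe u

namespace Groth.Agent.Helper5.GPI

open CategoryTheory CategoryTheory.Limits AlgebraicGeometry TopologicalSpace Topology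
open Groth.Agent.Helper5.GenFib Groth.Agent.Helper5.GCnt

set_option maxHeartbeats 1600000 in
/-- the structure of the geometric fibres near the generic point, when the residue field of the
generic point is algebraically closed (version of `GCnt.core` exposing the closed subsets of the
source) -/
theorem core' {X Y : Scheme.{u}} (f : X ⟶ Y) [IrreducibleSpace ↑Y] [LocallyOfFiniteType f]
    [QuasiCompact f] [IsAlgClosed (Y.residueField (genericPoint ↑Y))] :
    ∃ V : Y.Opens, (V : Set ↑Y).Nonempty ∧ ∃ (n : ℕ) (ξ : Fin n → X),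
      ∀ y ∈ V, ∀ (Ω : Type u) [Field Ω] (a : Spec (CommRingCat.of Ω) ⟶ Y),
        a (IsLocalRing.closedPoint Ω) = y →
        (∀ i, IsIrreducible ((pullback.fst f a) ⁻¹' closure {ξ i})) ∧
          (⋃ i, (pullback.fst f a) ⁻¹' closure {ξ i} = Set.univ) ∧
          (∀ i, ∃ t ∈ (pullback.fst f a) ⁻¹' closure {ξ i},
            ∀ k, t ∈ (pullback.fst f a) ⁻¹' closure {ξ k} → i = k) := by
  classical
  set η := genericPoint ↑Y with hηdef
  obtain ⟨n, ξ, h1, h2, h3⟩ := exists_decomp f
  obtain ⟨V₁, hV₁ne, r, hV₁⟩ := exists_open_pattern f n ξ h1 h2 h3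
  have key : ∀ i, GeometricallyIrreducible
      (((Scheme.IdealSheafData.vanishingIdeal
        (⟨closure {ξ i}, isClosed_closure⟩ : Closeds X)).subschemeι ≫ f).fiberToSpecResidueField η) := by
    intro i
    have hi := h1 i
    haveI : IsAlgClosed (Y.residueField (f (ξ i))) := by rw [hi]; infer_instance
    have := geomIrr_closure f (ξ i)
    rwa [hi] at this
  have hVi : ∀ i, ∃ V : Y.Opens, (V : Set ↑Y).Nonempty ∧ ∀ y ∈ V, GeometricallyIrreducible
      (((Scheme.IdealSheafData.vanishingIdeal
        (⟨closure {ξ i}, isClosed_closure⟩ : Closeds X)).subschemeι ≫ f).fiberToSpecResidueField y) :=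
    fun i => Groth.Agent.Helper5.GIrr.s0419_pointwise _ (key i)
  choose Vi hVine hVi using hVi
  refine ⟨⟨(V₁ : Set Y) ∩ ⋂ i, (Vi i : Set Y),
    V₁.2.inter (isOpen_iInter_of_finite fun i => (Vi i).2)⟩, ?_, n, ξ, ?_⟩
  · refine ⟨η, genericPoint_mem_of_isOpen _ V₁.2 hV₁ne, Set.mem_iInter.2 fun i => ?_⟩
    exact genericPoint_mem_of_isOpen _ (Vi i).2 (hVine i)
  · rintro y ⟨hy₁, hyi⟩ Ω _ a ha
    obtain ⟨hcov, hsep, hpat⟩ := hV₁ y hy₁
    let q := pullback.fst f a
    have hall : ∀ s : ↥(Spec (CommRingCat.of Ω)), a s = y := by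
      intro s
      have : s = IsLocalRing.closedPoint Ω := Subsingleton.elim _ _
      rw [this, ha]
    have hfq : ∀ t : ↥(pullback f a), f (q t) = y := by
      intro t
      rw [← Scheme.Hom.comp_apply, pullback.condition, Scheme.Hom.comp_apply]
      exact hall _
    have hlift : ∀ x : X, f x = y → ∃ t : ↥(pullback f a), q t = x := by
      intro x hx
      obtain ⟨t, ht, -⟩ := Scheme.Pullback.exists_preimage_pullback (f := f) (g := a) x
        (IsLocalRing.closedPoint Ω) (by rw [hx, ha])
      exact ⟨t, ht⟩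
    refine ⟨?_, ?_, ?_⟩
    · intro i
      exact isIrreducible_preimage_of_geomIrr f (closure {ξ i}) isClosed_closure y
        (hVi i y (Set.mem_iInter.1 hyi i)) Ω a ha
    · apply Set.eq_univ_of_forall
      intro t
      obtain ⟨i, hi⟩ := Set.mem_iUnion.1 (hcov (hfq t))
      exact Set.mem_iUnion.2 ⟨i, hi⟩
    · intro i
      obtain ⟨x, hx, hxi, hxk⟩ := hsep i
      obtain ⟨t, ht⟩ := hlift x hx
      refine ⟨t, ?_, ?_⟩
      · show q t ∈ closure {ξ i}
        rw [ht]; exact hxi
      · intro k hk
        apply hxk k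
        rw [← ht]; exact hk

/-- directedness of the generizations in a space covered irredundantly by finitely many
irreducible closed subsets having generic points -/
theorem dir_iff_of_cover {F : Type*} [TopologicalSpace F] [QuasiSober F] (n : ℕ) (T : Fin n → Set F)
    (hcl : ∀ i, IsClosed (T i)) (hirr : ∀ i, IsIrreducible (T i)) (hcov : ⋃ i, T i = Set.univ)
    (hsep : ∀ i, ∃ t ∈ T i, ∀ k, t ∈ T k → i = k) (t : F) :
    Dir t ↔ ∀ i k, t ∈ T i → t ∈ T k → i = k := by
  have hgen : ∀ i, ∃ τ, IsGenericPoint τ (T i) := fun i => QuasiSober.sober (hirr i) (hcl i)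
  choose τ hτ using hgen
  have hmemT : ∀ z : F, ∃ i, z ∈ T i := by
    intro z
    have : z ∈ ⋃ i, T i := by rw [hcov]; trivial
    exact Set.mem_iUnion.1 this
  have hsub : ∀ i k, T i ⊆ T k → i = k := by
    intro i k hik
    obtain ⟨s, hs, hsk⟩ := hsep i
    exact hsk k (hik hs)
  constructor
  · intro hd i k hi hk
    have hτi : τ i ⤳ t := by rw [specializes_iff_mem_closure, (hτ i).def]; exact hi
    have hτk : τ k ⤳ t := by rw [specializes_iff_mem_closure, (hτ k).def]; exact hk
    obtain ⟨c, hci, hck⟩ := hd (τ i) (τ k) hτi hτk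
    obtain ⟨j, hj⟩ := hmemT c
    have hτjc : τ j ⤳ c := by rw [specializes_iff_mem_closure, (hτ j).def]; exact hj
    have h1 : T i ⊆ T j := by
      rw [← (hτ i).def, ← (hτ j).def]
      exact specializes_iff_closure_subset.1 (hτjc.trans hci)
    have h2 : T k ⊆ T j := by
      rw [← (hτ k).def, ← (hτ j).def]
      exact specializes_iff_closure_subset.1 (hτjc.trans hck)
    rw [hsub i j h1, hsub k j h2]
  · intro hu a b ha hb
    obtain ⟨i, hi⟩ := hmemT t
    have key : ∀ z : F, z ⤳ t → z ∈ T i := by
      intro z hz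
      obtain ⟨j, hj⟩ := hmemT z
      have htj : t ∈ T j := by
        have : t ∈ closure {z} := specializes_iff_mem_closure.1 hz
        exact (closure_minimal (Set.singleton_subset_iff.2 hj) (hcl j)) this
      rw [hu i j hi htj]
      exact hj
    refine ⟨τ i, ?_, ?_⟩
    · rw [specializes_iff_mem_closure, (hτ i).def]; exact key a ha
    · rw [specializes_iff_mem_closure, (hτ i).def]; exact key b hb

set_option maxHeartbeats 1600000 in
/-- generic openness of the locus `M`, when the residue field of the generic point of the base is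
algebraically closed -/
theorem isOpen_M_of_isAlgClosed {X Y : Scheme.{u}} (f : X ⟶ Y) [IrreducibleSpace ↑Y]
    [LocallyOfFiniteType f] [QuasiCompact f] [IsAlgClosed (Y.residueField (genericPoint ↑Y))] :
    ∃ V : Y.Opens, (V : Set ↑Y).Nonempty ∧ IsOpen (M f ∩ f ⁻¹' (V : Set ↑Y)) := by
  classical
  obtain ⟨V, hVne, n, ξ, hV⟩ := core' f
  refine ⟨V, hVne, ?_⟩
  let F : Set X := ⋃ i : Fin n, ⋃ k : {k : Fin n // k ≠ i}, closure {ξ i} ∩ closure {ξ k.1}
  have hF : IsClosed F :=
    isClosed_iUnion_of_finite fun i => isClosed_iUnion_of_finite fun k =>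
      isClosed_closure.inter isClosed_closure
  have key : ∀ x : X, f x ∈ (V : Set ↑Y) → (x ∈ M f ↔ x ∉ F) := by
    intro x hx
    have hstruct : ∀ (K : Type u) [Field K] (a : Spec (CommRingCat.of K) ⟶ Y)
        (t : ↥(pullback f a)), (pullback.fst f a) t = x →
        (Dir t ↔ ∀ i k, (pullback.fst f a) t ∈ closure {ξ i} →
          (pullback.fst f a) t ∈ closure {ξ k} → i = k) := by
      intro K _ a t ht
      have ha : a (IsLocalRing.closedPoint K) = f x := by
        have h1 : (pullback.snd f a) t = IsLocalRing.closedPoint K := Subsingleton.elim _ _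
        rw [← h1, ← Scheme.Hom.comp_apply, ← pullback.condition, Scheme.Hom.comp_apply, ht]
      obtain ⟨hirr, hcov, hsep⟩ := hV (f x) hx K a ha
      exact dir_iff_of_cover n (fun i => (pullback.fst f a) ⁻¹' closure {ξ i})
        (fun i => isClosed_closure.preimage (pullback.fst f a).continuous) hirr hcov hsep t
    constructor
    · intro hxM hxF
      obtain ⟨i, hi⟩ := Set.mem_iUnion.1 hxF
      obtain ⟨⟨k, hk⟩, hxi, hxk⟩ := Set.mem_iUnion.1 hi
      let K : Type u := Y.residueField (f x)
      let a : Spec (CommRingCat.of K) ⟶ Y := Y.fromSpecResidueField (f x)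
      have ha : a (IsLocalRing.closedPoint K) = f x := Scheme.fromSpecResidueField_apply _ _
      obtain ⟨t, ht, -⟩ := Scheme.Pullback.exists_preimage_pullback (f := f) (g := a) x
        (IsLocalRing.closedPoint K) ha.symm
      have hd := hxM K a t ht
      have := (hstruct K a t ht).mp hd i k (by rw [ht]; exact hxi) (by rw [ht]; exact hxk)
      exact hk this.symm
    · intro hxF K _ a t ht
      rw [hstruct K a t ht]
      intro i k hi hk
      by_contra hne
      apply hxF
      rw [ht] at hi hk
      exact Set.mem_iUnion.2 ⟨i, Set.mem_iUnion.2 ⟨⟨k, fun h => hne h.symm⟩, hi, hk⟩⟩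
  have hEq : M f ∩ f ⁻¹' (V : Set ↑Y) = Fᶜ ∩ f ⁻¹' (V : Set ↑Y) := by
    ext x
    constructor
    · rintro ⟨h1, h2⟩
      exact ⟨(key x h2).mp h1, h2⟩
    · rintro ⟨h1, h2⟩
      exact ⟨(key x h2).mpr h1, h2⟩
  rw [hEq]
  exact hF.isOpen_compl.inter (V.2.preimage f.continuous)

end Groth.Agent.Helper5.GPI
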