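import Mathlib
import Groth.Prelude
import Groth.Agent.Helper5.GPID
import Groth.Agent.Helper5.GCntG

/-!
# GPIE: generic openness of the locus of unicity of the geometric irreducible component over an
integral base
-/

set_option autoImplicit false
set_option linter.unusedSectionVars false
set_option linter.unusedVariables false
set_option linter.style.haveILetI false
universe u

namespace Groth.Agent.Helper5.GPI

open CategoryTheory CategoryTheory.Limits AlgebraicGeometry TopologicalSpace Topology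
open Groth.Agent.Helper5.GenFib Groth.Agent.Helper5.GCnt

set_option maxHeartbeats 1600000 in
theorem isOpen_M_affine_integral (R : CommRingCat.{u}) [IsDomain R]
    {X : Scheme.{u}} (f : X ⟶ Spec R) [LocallyOfFiniteType f] [QuasiCompact f] :
    ∃ V : Set ↥(Spec R), IsOpen V ∧ genericPoint ↥(Spec R) ∈ V ∧ IsOpen (M f ∩ f ⁻¹' V) := by
  classical
  let K := FractionRing R
  let Kbar := AlgebraicClosure K
  let R'ty := integralClosure R Kbar
  let R' : CommRingCat.{u} := CommRingCat.of ↥R'ty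
  haveI : Algebra.IsAlgebraic R Kbar :=
    ⟨fun x => (IsFractionRing.isAlgebraic_iff R K Kbar).2 (Algebra.IsAlgebraic.isAlgebraic x)⟩
  have hinjRK : Function.Injective (algebraMap R Kbar) := by
    rw [IsScalarTower.algebraMap_eq R K Kbar]
    exact (algebraMap K Kbar).injective.comp (IsFractionRing.injective R K)
  haveI : IsFractionRing ↥R'ty Kbar :=
    integralClosure.isFractionRing_of_algebraic (A := R) (L := Kbar)
      (fun x hx => hinjRK (by rw [hx, map_zero]))
  haveI : IsAlgClosed (FractionRing ↥R'ty) :=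
    IsAlgClosed.of_ringEquiv (k := Kbar) (FractionRing ↥R'ty)
      (FractionRing.algEquiv ↥R'ty Kbar).symm.toRingEquiv
  haveI : IsAlgClosed (FractionRing ↑R') := ‹IsAlgClosed (FractionRing ↥R'ty)›
  have hinj : Function.Injective (algebraMap R ↥R'ty) := by
    intro x y hxy
    apply hinjRK
    have := congrArg (algebraMap ↥R'ty Kbar) hxy
    rwa [← IsScalarTower.algebraMap_apply, ← IsScalarTower.algebraMap_apply] at this
  have hint : (algebraMap R ↥R'ty).IsIntegral := fun x =>
    Algebra.IsIntegral.isIntegral (R := R) (A := ↥R'ty) x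
  let g : Spec R' ⟶ Spec R := Spec.map (CommRingCat.ofHom (algebraMap R ↥R'ty))
  let f' : pullback f g ⟶ Spec R' := pullback.snd f g
  let e : pullback f g ⟶ X := pullback.fst f g
  have sq : IsPullback e f' f g := IsPullback.of_hasPullback f g
  haveI : IsAlgClosed ((Spec R').residueField (genericPoint ↥(Spec R'))) :=
    isAlgClosed_residueField_genericPoint R'
  obtain ⟨V', hV'ne, hV'⟩ := isOpen_M_of_isAlgClosed f'
  have hη'V' : genericPoint ↥(Spec R') ∈ V' := genericPoint_mem_of_isOpen _ V'.2 hV'ne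
  have hcl : IsClosedMap g := PrimeSpectrum.isClosedMap_comap_of_isIntegral _ hint
  have hsurj : Function.Surjective g := hint.comap_surjective hinj
  have hη : ∀ y' : ↥(Spec R'), g y' = genericPoint ↥(Spec R) → y' = genericPoint ↥(Spec R') := by
    intro y' hy'
    rw [genericPoint_eq_bot_of_affine] at hy' ⊢
    apply PrimeSpectrum.ext
    show y'.asIdeal = ⊥
    have h1 : Ideal.comap (algebraMap R ↥R'ty) y'.asIdeal = ⊥ := congrArg PrimeSpectrum.asIdeal hy'
    exact Ideal.eq_bot_of_comap_eq_bot (R := R) (S := ↥R'ty) h1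
  haveI hgint : IsIntegralHom g := by
    rw [IsIntegralHom.SpecMap_iff]
    exact hint
  haveI : Surjective g := ⟨hsurj⟩
  haveI : IsIntegralHom e := MorphismProperty.of_isPullback sq.flip hgint
  haveI : Surjective e := MorphismProperty.of_isPullback sq.flip inferInstance
  have hecl : IsClosedMap e := e.isClosedMap
  have hcomm : ∀ x' : ↥(pullback f g), g (f' x') = f (e x') := by
    intro x'
    rw [← Scheme.Hom.comp_apply, ← Scheme.Hom.comp_apply, sq.w]
  let V : Set ↥(Spec R) := (g '' (V' : Set ↥(Spec R'))ᶜ)ᶜ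
  have hVopen : IsOpen V := (hcl _ V'.2.isClosed_compl).isOpen_compl
  have hgV : ∀ y' : ↥(Spec R'), g y' ∈ V → y' ∈ (V' : Set ↥(Spec R')) := by
    intro y' hy'
    by_contra hcon
    exact hy' ⟨y', hcon, rfl⟩
  refine ⟨V, hVopen, ?_, ?_⟩
  · rintro ⟨y', hy'V, hy'⟩
    exact hy'V (hη y' hy' ▸ hη'V')
  · let W' : Set ↥(pullback f g) := M f' ∩ f' ⁻¹' (V' : Set ↥(Spec R'))
    have hEq : M f ∩ f ⁻¹' V = (e '' W'ᶜ)ᶜ ∩ f ⁻¹' V := by
      ext x
      constructor
      · rintro ⟨hxM, hxV⟩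
        refine ⟨?_, hxV⟩
        rintro ⟨x', hx'W, rfl⟩
        apply hx'W
        refine ⟨(mem_M_iff_of_isPullback sq x').mpr hxM, hgV _ ?_⟩
        rw [hcomm]
        exact hxV
      · rintro ⟨hx, hxV⟩
        refine ⟨?_, hxV⟩
        obtain ⟨x', rfl⟩ := e.surjective x
        have hx'W : x' ∈ W' := by
          by_contra hcon
          exact hx ⟨x', hcon, rfl⟩
        exact (mem_M_iff_of_isPullback sq x').mp hx'W.1
    rw [hEq]
    exact (hecl _ hV'.isClosed_compl).isOpen_compl.inter (hVopen.preimage f.continuous)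

set_option maxHeartbeats 1600000 in
/-- generic openness of the locus `M` over an integral base -/
theorem isOpen_M_generic {X Y : Scheme.{u}} (f : X ⟶ Y) [IsIntegral Y]
    [LocallyOfFiniteType f] [QuasiCompact f] :
    ∃ V : Y.Opens, (V : Set ↑Y).Nonempty ∧ IsOpen (M f ∩ f ⁻¹' (V : Set ↑Y)) := by
  let η := genericPoint Y
  obtain ⟨U, hU, hηU⟩ : ∃ U : Y.Opens, IsAffineOpen U ∧ η ∈ U := by
    obtain ⟨_, ⟨U, hU, rfl⟩, hxU, -⟩ :=
      (Y.isBasis_affineOpens).exists_subset_of_mem_open (Set.mem_univ η) isOpen_univ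
    exact ⟨U, hU, hxU⟩
  let R : CommRingCat.{u} := Γ(Y, U)
  haveI : IsDomain ↑R := @IsIntegral.component_integral _ _ U ⟨⟨η, hηU⟩⟩
  let j : Spec R ⟶ Y := hU.fromSpec
  haveI : IsOpenImmersion j := inferInstance
  have hjrange : Set.range j = U := hU.range_fromSpec
  let f₁ : pullback f j ⟶ Spec R := pullback.snd f j
  let e₁ : pullback f j ⟶ X := pullback.fst f j
  have sq : IsPullback e₁ f₁ f j := IsPullback.of_hasPullback f j
  haveI : IsOpenImmersion e₁ := inferInstance
  obtain ⟨V₁, hV₁open, hηV₁, hV₁⟩ := isOpen_M_affine_integral R f₁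
  have hcomm : ∀ x₁ : ↥(pullback f j), j (f₁ x₁) = f (e₁ x₁) := by
    intro x₁
    rw [← Scheme.Hom.comp_apply, ← Scheme.Hom.comp_apply, sq.w]
  have hopen : IsOpen (j '' V₁) := j.isOpenEmbedding.isOpenMap V₁ hV₁open
  refine ⟨⟨j '' V₁, hopen⟩, ⟨_, genericPoint ↥(Spec R), hηV₁, rfl⟩, ?_⟩
  have hEq : M f ∩ f ⁻¹' (j '' V₁) = e₁ '' (M f₁ ∩ f₁ ⁻¹' V₁) := by
    ext x
    constructor
    · rintro ⟨hxM, v, hv, hvx⟩
      obtain ⟨x₁, hx₁1, hx₁2⟩ := Scheme.Pullback.exists_preimage_pullback (f := f) (g := j) x v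
        hvx.symm
      refine ⟨x₁, ⟨?_, ?_⟩, hx₁1⟩
      · rw [mem_M_iff_of_isPullback sq x₁]
        show e₁ x₁ ∈ M f
        rw [show e₁ x₁ = x from hx₁1]
        exact hxM
      · show f₁ x₁ ∈ V₁
        rw [show f₁ x₁ = v from hx₁2]
        exact hv
    · rintro ⟨x₁, ⟨hx₁M, hx₁V⟩, rfl⟩
      refine ⟨(mem_M_iff_of_isPullback sq x₁).mp hx₁M, f₁ x₁, hx₁V, hcomm x₁⟩
  show IsOpen (M f ∩ f ⁻¹' (j '' V₁))
  rw [hEq]
  exact e₁.isOpenEmbedding.isOpenMap _ hV₁

end Groth.Agent.Helper5.GPI
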