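import Mathlib
import Groth.Prelude
import Groth.Agent.Helper5.GPIA
import Groth.Agent.Helper5.GPIE
import Groth.Agent.Helper5.FibPropG
import Groth.Agent.Helper4.SN441

/-!
# GPIF: the locus where the fibres are geometrically pointwise integral is locally constructible
(S3452, S4838)
-/

set_option autoImplicit false
set_option linter.unusedSectionVars false
set_option linter.unusedVariables false
set_option linter.style.haveILetI false
universe u

namespace Groth.Agent.Helper5.GPI

open CategoryTheory CategoryTheory.Limits AlgebraicGeometry TopologicalSpace Topology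
open Groth.Agent.Helper5.CMFib Groth.Agent.Helper5.CMAff Groth.Agent.Helper5.ConsPr
  Groth.Agent.Helper5.ConsLc Groth.Agent.Helper5.FlatCons Groth.Agent.Helper5.CMCons
  Groth.Agent.Helper5.SmCons

/-- the relation "the target is geometrically pointwise integral at all points of the image" -/
abbrev PEI : ∀ ⦃X Y T : Scheme.{u}⦄, (X ⟶ Y) → (Y ⟶ T) → Prop :=
  fun X Y _ f g => ∀ x : X, f x ∈ EI g

theorem isFieldStableMor_PEI : ConsProp.IsFieldStableMor PEI.{u} := by
  intro X X' Y Y' T T' f g f' g' eX eY h _ _ _ _ _ _ _ _ sqY sqX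
  have hcomm : ∀ x' : X', eY (f' x') = f (eX x') := by
    intro x'
    have h2 := congrArg (fun φ : X' ⟶ Y => φ x') sqX.w
    simp only [Scheme.Hom.comp_apply] at h2
    exact h2.symm
  constructor
  · intro H x'
    show f' x' ∈ EI g'
    rw [mem_EI_iff_of_isPullback sqY (f' x'), hcomm x']
    exact H _
  · intro H x
    haveI : Surjective h := surjective_of_subsingleton h
    haveI : Surjective eY := MorphismProperty.of_isPullback sqY.flip inferInstance
    haveI : Surjective eX := MorphismProperty.of_isPullback sqX.flip inferInstance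
    obtain ⟨x', rfl⟩ := eX.surjective x
    show f (eX x') ∈ EI g
    rw [← hcomm x', ← mem_EI_iff_of_isPullback sqY (f' x')]
    exact H _

/-- membership in the locus, in terms of points of the source -/
theorem mem_locusMor_PEI_iff {X Y S : Scheme.{u}} (f : X ⟶ Y) (g : Y ⟶ S) (s : S) :
    s ∈ ConsProp.locusMor PEI f g ↔ ∀ x : X, g (f x) = s → f x ∈ EI g := by
  have hsq : IsPullback (g.fiberι s) (g.fiberToSpecResidueField s) g (S.fromSpecResidueField s) :=
    IsPullback.of_hasPullback _ _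
  have h1 := Groth.Agent.Helper2.FibFlatDict.fiberMap_fst f g s
  constructor
  · intro hs x hx
    have hxr : x ∈ Set.range ((f ≫ g).fiberι s) := by
      rw [Scheme.Hom.range_fiberι]; exact hx
    obtain ⟨x', rfl⟩ := hxr
    have h3 := hs x'
    have h4 : (MoreMor.fiberMap f g s) x' ∈ EI (g.fiberToSpecResidueField s) := h3
    rw [mem_EI_iff_of_isPullback hsq] at h4
    have h2 := congrArg (fun ψ : (f ≫ g).fiber s ⟶ Y => ψ x') h1
    simp only [Scheme.Hom.comp_apply] at h2
    rw [← h2]
    exact h4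
  · intro H x'
    show (MoreMor.fiberMap f g s) x' ∈ EI (g.fiberToSpecResidueField s)
    rw [mem_EI_iff_of_isPullback hsq]
    have h2 := congrArg (fun ψ : (f ≫ g).fiber s ⟶ Y => ψ x') h1
    simp only [Scheme.Hom.comp_apply] at h2
    rw [h2]
    apply H
    have : (f ≫ g).fiberι s x' ∈ Set.range ((f ≫ g).fiberι s) := ⟨x', rfl⟩
    rw [Scheme.Hom.range_fiberι] at this
    exact this

/-- the locus is the complement of the image of the preimage of the bad locus -/
theorem locusMor_PEI_eq {X Y S : Scheme.{u}} (f : X ⟶ Y) (g : Y ⟶ S) :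
    ConsProp.locusMor PEI f g = (⇑(f ≫ g) '' (⇑f ⁻¹' (EI g)ᶜ))ᶜ := by
  ext s
  rw [mem_locusMor_PEI_iff]
  constructor
  · rintro hs ⟨x, hx, rfl⟩
    exact hx (hs x rfl)
  · intro hs x hx
    by_contra hcon
    exact hs ⟨x, hcon, hx⟩

theorem decided_of_lc {X Y S : Scheme.{u}} (f : X ⟶ Y) (g : Y ⟶ S)
    [IsIntegral S]
    [IsNoetherian S] [LocallyOfFiniteType g] [QuasiCompact g] [LocallyOfFiniteType (f ≫ g)]
    [QuasiCompact (f ≫ g)] (hlc : IsLocallyConstructible (EI g)) : Decided PEI f g := by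
  haveI : LocallyOfFinitePresentation (f ≫ g) :=
    LocallyOfFinitePresentation.iff_locallyOfFiniteType.mpr inferInstance
  apply cons_decide
  rw [locusMor_PEI_eq f g]
  apply Groth.Agent.Helper5.KLem.isLocallyConstructible_compl
  apply (f ≫ g).isLocallyConstructible_image
  exact Groth.Agent.Helper4.SN441.isLocallyConstructible_preimage f
    (Groth.Agent.Helper5.KLem.isLocallyConstructible_compl hlc)

set_option maxHeartbeats 1000000 in
theorem decided_PEI {X Y S : Scheme.{u}} (f : X ⟶ Y) (g : Y ⟶ S)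
    [IsIntegral S]
    [IsNoetherian S] [LocallyOfFiniteType g] [QuasiCompact g] [LocallyOfFiniteType (f ≫ g)]
    [QuasiCompact (f ≫ g)] : Decided PEI f g := by
  obtain ⟨V, hVne, hV⟩ := isOpen_M_generic g
  apply decided_of_restrict f g isFieldStableMor_PEI V
  obtain ⟨h1, h2, h3, h4, h5, h6⟩ := restrict_props f g V hVne
  -- notation for the restricted family
  set gV := g ∣_ V with hgV
  set fV := f ∣_ (g ⁻¹ᵁ V) with hfV
  have sqY : IsPullback (g ⁻¹ᵁ V).ι gV g V.ι := (isPullback_morphismRestrict g V).flip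
  haveI : LocallyOfFinitePresentation gV :=
    LocallyOfFinitePresentation.iff_locallyOfFiniteType.mpr h3
  haveI hN1 : IsLocallyNoetherian (g ⁻¹ᵁ V : Scheme.{u}) :=
    LocallyOfFiniteType.isLocallyNoetherian gV
  haveI hN2 : CompactSpace ↥(g ⁻¹ᵁ V : Scheme.{u}) :=
    QuasiCompact.compactSpace_of_compactSpace gV
  haveI hN : IsNoetherian (g ⁻¹ᵁ V : Scheme.{u}) := {}
  have hMV : IsOpen (M gV) := by
    have hEq : M gV = (g ⁻¹ᵁ V).ι ⁻¹' (M g ∩ g ⁻¹' (V : Set ↑S)) := by
      ext y
      rw [mem_M_iff_of_isPullback sqY y]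
      constructor
      · intro hy
        exact ⟨hy, y.2⟩
      · intro hy
        exact hy.1
    rw [hEq]
    exact hV.preimage (g ⁻¹ᵁ V).ι.continuous
  have hEIV : IsLocallyConstructible (EI gV) := by
    have hEq : EI gV = Groth.Agent.Helper3.GRO.E gV ∩ M gV := by
      ext y
      exact mem_EI_iff gV y
    rw [hEq]
    exact (lc_geomReduced gV).inter (isConstructible_of_isOpen_noeth hMV).isLocallyConstructible
  exact decided_of_lc fV gV hEIV

theorem isConsMor_PEI : ConsProp.IsConsMor PEI.{u} :=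
  ⟨isFieldStableMor_PEI, fun X Y S f g _ _ _ _ _ _ => decided_PEI f g⟩

set_option maxHeartbeats 1000000 in
/-- the quasi-compact quasi-separated case, by the diagonal trick -/
theorem lc_EI_qcqs {A B : Scheme.{u}} (h : A ⟶ B) [LocallyOfFinitePresentation h]
    [QuasiCompact h] [QuasiSeparated h] :
    IsLocallyConstructible (EI h) := by
  let p₁ : pullback h h ⟶ A := pullback.fst h h
  let p₂ : pullback h h ⟶ A := pullback.snd h h
  let δ : A ⟶ pullback h h := pullback.diagonal h
  have hδ2 : δ ≫ p₂ = 𝟙 A := pullback.diagonal_snd h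
  have hδ1 : δ ≫ p₁ = 𝟙 A := pullback.diagonal_fst h
  haveI : LocallyOfFinitePresentation p₂ := MorphismProperty.pullback_snd _ _ inferInstance
  haveI : QuasiCompact p₂ := MorphismProperty.pullback_snd _ _ inferInstance
  haveI : QuasiSeparated p₂ := MorphismProperty.pullback_snd _ _ inferInstance
  haveI : LocallyOfFinitePresentation (δ ≫ p₂) := by rw [hδ2]; infer_instance
  haveI : QuasiCompact (δ ≫ p₂) := by rw [hδ2]; infer_instance
  haveI : QuasiSeparated (δ ≫ p₂) := by rw [hδ2]; infer_instance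
  have key := s5880 δ p₂ isConsMor_PEI
  have hpt2 : ∀ x : A, p₂ (δ x) = x := by
    intro x
    have h2 := congrArg (fun φ : A ⟶ A => φ x) hδ2
    exact (by simpa only [Scheme.Hom.comp_apply] using h2 : p₂ (δ x) = (𝟙 A :) x)
  have hpt1 : ∀ x : A, p₁ (δ x) = x := by
    intro x
    have h2 := congrArg (fun φ : A ⟶ A => φ x) hδ1
    exact (by simpa only [Scheme.Hom.comp_apply] using h2 : p₁ (δ x) = (𝟙 A :) x)
  have sq : IsPullback p₁ p₂ h h := IsPullback.of_hasPullback h h
  have hiff : ∀ x : A, δ x ∈ EI p₂ ↔ x ∈ EI h := by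
    intro x
    rw [mem_EI_iff_of_isPullback sq (δ x), hpt1]
  convert key using 1
  ext a
  rw [mem_locusMor_PEI_iff]
  constructor
  · intro H x hx
    rw [hpt2] at hx
    subst hx
    exact (hiff x).mpr H
  · intro H
    exact (hiff a).mp (H a (hpt2 a))

theorem dir_of_isOpenEmbedding {A B : Type*} [TopologicalSpace A] [TopologicalSpace B] (φ : A → B)
    (hφ : IsOpenEmbedding φ) (t : A) : Dir (φ t) ↔ Dir t := by
  have hgen : ∀ (a : A) (b : B), b ⤳ φ a → b ∈ Set.range φ := by
    intro a b hb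
    exact hb.mem_open hφ.isOpen_range ⟨a, rfl⟩
  constructor
  · exact dir_of_isInducing φ hφ.isInducing hgen t
  · intro h a b ha hb
    obtain ⟨a', rfl⟩ := hgen t a ha
    obtain ⟨b', rfl⟩ := hgen t b hb
    obtain ⟨c, hca, hcb⟩ := h a' b' (hφ.isInducing.specializes_iff.mp ha)
      (hφ.isInducing.specializes_iff.mp hb)
    exact ⟨φ c, hca.map hφ.continuous, hcb.map hφ.continuous⟩

/-- invariance of the locus `M` under restriction of the source to an open subscheme -/
theorem mem_M_comp_iff {U X Y : Scheme.{u}} (μ : U ⟶ X) [IsOpenImmersion μ] (f : X ⟶ Y) (x' : U) :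
    x' ∈ M (μ ≫ f) ↔ μ x' ∈ M f := by
  have hν : ∀ (K : Type u) [Field K] (a : Spec (CommRingCat.of K) ⟶ Y),
      ∃ ν : pullback (μ ≫ f) a ⟶ pullback f a, IsOpenImmersion ν ∧
        ν ≫ pullback.fst f a = pullback.fst (μ ≫ f) a ≫ μ ∧
        ∀ (t : ↥(pullback f a)) (x' : U), (pullback.fst f a) t = μ x' →
          ∃ t' : ↥(pullback (μ ≫ f) a), ν t' = t ∧ (pullback.fst (μ ≫ f) a) t' = x' := by
    intro K _ a
    let i := pullbackRightPullbackFstIso f a μ
    refine ⟨i.inv ≫ pullback.snd μ (pullback.fst f a), inferInstance, ?_, ?_⟩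
    · rw [Category.assoc, ← pullback.condition, ← Category.assoc]
      congr 1
      exact pullbackRightPullbackFstIso_inv_fst f a μ
    · intro t x' ht
      obtain ⟨p, hp1, hp2⟩ := Scheme.Pullback.exists_preimage_pullback
        (f := μ) (g := pullback.fst f a) x' t ht.symm
      refine ⟨i.hom p, ?_, ?_⟩
      · rw [← Scheme.Hom.comp_apply, ← Category.assoc, Iso.hom_inv_id, Category.id_comp]
        exact hp2
      · rw [← Scheme.Hom.comp_apply, pullbackRightPullbackFstIso_hom_fst]
        exact hp1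
  constructor
  · intro hx K _ a t ht
    obtain ⟨ν, hνo, hν1, hν2⟩ := hν K a
    obtain ⟨t', rfl, ht'⟩ := hν2 t x' ht
    exact (dir_of_isOpenEmbedding ν ν.isOpenEmbedding t').mpr (hx K a t' ht')
  · intro hx K _ a t' ht'
    obtain ⟨ν, hνo, hν1, hν2⟩ := hν K a
    have h1 : (pullback.fst f a) (ν t') = μ x' := by
      rw [← Scheme.Hom.comp_apply, hν1, Scheme.Hom.comp_apply, ht']
    exact (dir_of_isOpenEmbedding ν ν.isOpenEmbedding t').mp (hx K a (ν t') h1)

/-- invariance of the locus under restriction of the source to an open subscheme -/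
theorem mem_EI_comp_iff {U X Y : Scheme.{u}} (μ : U ⟶ X) [IsOpenImmersion μ] (f : X ⟶ Y) (x' : U) :
    x' ∈ EI (μ ≫ f) ↔ μ x' ∈ EI f := by
  rw [mem_EI_iff, mem_EI_iff, Groth.Agent.Helper3.GRO.mem_E_comp_iff, mem_M_comp_iff]

set_option maxHeartbeats 1000000 in
/-- **S3452**: the locus where the fibres are geometrically pointwise integral is locally
constructible -/
theorem lc_EI {X S : Scheme.{u}} (f : X ⟶ S) [LocallyOfFinitePresentation f] :
    IsLocallyConstructible (EI f) := by
  apply IsLocallyConstructible.of_isOpenCover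
    (U := fun i : {p : X.affineOpens × S.affineOpens // p.1.1 ≤ f ⁻¹ᵁ p.2.1} => i.1.1.1)
  · apply IsOpenCover.mk
    rw [eq_top_iff]
    rintro x -
    obtain ⟨_, ⟨V, hV, rfl⟩, hxV, -⟩ :=
      S.isBasis_affineOpens.exists_subset_of_mem_open (Set.mem_univ (f x)) isOpen_univ
    obtain ⟨_, ⟨U, hU, rfl⟩, hxU, hUV⟩ :=
      X.isBasis_affineOpens.exists_subset_of_mem_open (show x ∈ (f ⁻¹ᵁ V : Set X) from hxV)
        (f ⁻¹ᵁ V).2
    exact Opens.mem_iSup.mpr ⟨⟨(⟨U, hU⟩, ⟨V, hV⟩), hUV⟩, hxU⟩
  · rintro ⟨⟨U, V⟩, hUV⟩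
    haveI : IsAffine (U.1 : Scheme.{u}) := U.2
    haveI : IsAffine (V.1 : Scheme.{u}) := V.2
    let h : (U.1 : Scheme.{u}) ⟶ (V.1 : Scheme.{u}) := f.resLE V.1 U.1 hUV
    have hw : h ≫ V.1.ι = U.1.ι ≫ f := f.resLE_comp_ι hUV
    haveI : LocallyOfFinitePresentation h := IsZariskiLocalAtSource.resLE hUV inferInstance
    have key := lc_EI_qcqs h
    have sq : IsPullback (𝟙 (U.1 : Scheme.{u})) h (U.1.ι ≫ f) V.1.ι :=
      IsPullback.of_horiz_isIso_mono ⟨by rw [Category.id_comp, hw]⟩
    have heq : ((U.1.ι : (U.1 : Scheme.{u}) → X) ⁻¹' (EI f)) = EI h := by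
      ext w
      show U.1.ι w ∈ EI f ↔ w ∈ EI h
      rw [mem_EI_iff_of_isPullback sq w]
      exact (mem_EI_comp_iff U.1.ι f w).symm
    rw [← heq] at key
    exact key

end Groth.Agent.Helper5.GPI
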