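import Mathlib
import Groth.Prelude
import Groth.Agent.Helper5.GPIF

/-!
# GPIG: the set of points of the base whose fibre is geometrically pointwise integral is locally
constructible (S4838)
-/

set_option autoImplicit false
set_option linter.unusedSectionVars false
set_option linter.unusedVariables false
set_option linter.style.haveILetI false
universe u

namespace Groth.Agent.Helper5.GPI

open CategoryTheory CategoryTheory.Limits AlgebraicGeometry TopologicalSpace Topology

/-- membership in the locus in terms of a point of a fibre -/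
theorem mem_EI_iff_fiber {X Y : Scheme.{u}} (f : X ⟶ Y) (y : Y) (x₀ : ↥(f.fiber y)) :
    (f.fiberι y) x₀ ∈ EI f ↔ FBase.IsGeomPtIntegralAt (f.fiberToSpecResidueField y) x₀ := by
  have key : ∀ (y' : Y) (hy : y' = y) (x₁ : ↥(f.fiber y')),
      (f.fiberι y') x₁ = (f.fiberι y) x₀ →
      (FBase.IsGeomPtIntegralAt (f.fiberToSpecResidueField y') x₁ ↔
        FBase.IsGeomPtIntegralAt (f.fiberToSpecResidueField y) x₀) := by
    intro y' hy
    subst hy
    intro x₁ h1
    have : x₁ = x₀ := (f.fiberι y').isEmbedding.injective h1
    rw [this]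
  exact key _ (Groth.Agent.Helper5.FibStalk.fiberι_apply f y x₀) _ (f.fiberι_asFiber _)

/-- the set of points of the base over which all points of the fibre are in `EI f` -/
theorem setOf_forall_fiber_eq {X S : Scheme.{u}} (f : X ⟶ S) :
    {s : S | ∀ x : ↥(f.fiber s), FBase.IsGeomPtIntegralAt (f.fiberToSpecResidueField s) x} =
      (f '' (EI f)ᶜ)ᶜ := by
  ext s
  constructor
  · rintro H ⟨x, hx, rfl⟩
    exact hx (H (f.asFiber x))
  · intro H x
    rw [← mem_EI_iff_fiber]
    by_contra hcon
    apply H
    refine ⟨(f.fiberι s) x, hcon, ?_⟩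
    have : (f.fiberι s) x ∈ Set.range (f.fiberι s) := ⟨x, rfl⟩
    rw [Scheme.Hom.range_fiberι] at this
    exact this

/-- **S4838** -/
theorem lc_forall_fiber {X S : Scheme.{u}} (f : X ⟶ S)
    [LocallyOfFinitePresentation f] [QuasiCompact f] [QuasiSeparated f] :
    IsLocallyConstructible {s : S |
      ∀ x : ↥(f.fiber s), FBase.IsGeomPtIntegralAt (f.fiberToSpecResidueField s) x} := by
  rw [setOf_forall_fiber_eq]
  exact Groth.Agent.Helper5.KLem.isLocallyConstructible_compl
    (f.isLocallyConstructible_image (Groth.Agent.Helper5.KLem.isLocallyConstructible_compl (lc_EI f)))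

end Groth.Agent.Helper5.GPI
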