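import Mathlib
import Groth.Prelude
import Groth.Agent.Helper7.InvHt1
import Groth.Agent.Helper5.FibPropB

/-!
# GeoFinA: regularity of the local rings of `A ⊗ L`, `L` algebraic over `k`, from the regularity of
the local rings of `A ⊗ K` for the finite subextensions `K` of `L`
-/

set_option autoImplicit false
set_option linter.unusedSectionVars false
set_option linter.unusedVariables false
set_option linter.style.haveILetI false
universe u

namespace Groth.Agent.Helper5.GeoFin

open TensorProduct IsLocalRing

/-- a Noetherian local ring whose maximal ideal is the extension of the maximal ideal of a regular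
local ring of at most the same dimension is regular -/
theorem regular_of_map_maximalIdeal {R' R : Type*} [CommRing R'] [CommRing R]
    [IsRegularLocalRing R'] [IsLocalRing R] [IsNoetherianRing R]
    (ψ : R' →+* R) (h : (maximalIdeal R').map ψ = maximalIdeal R)
    (hd : ringKrullDim R' ≤ ringKrullDim R) : IsRegularLocalRing R := by
  apply IsRegularLocalRing.of_spanFinrank_maximalIdeal_le
  have h1 : ((maximalIdeal R').map ψ).spanFinrank ≤ (maximalIdeal R').spanFinrank :=
    Ideal.spanFinrank_map_le_of_fg ψ ((isNoetherianRing_iff_ideal_fg R').mp inferInstance _)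
  rw [h] at h1
  calc ((maximalIdeal R).spanFinrank : WithBot ℕ∞)
      ≤ ((maximalIdeal R').spanFinrank : WithBot ℕ∞) := by exact_mod_cast h1
    _ = ringKrullDim R' := IsRegularLocalRing.spanFinrank_maximalIdeal
    _ ≤ ringKrullDim R := hd

/-- regularity of a localization from a prime below whose extension is the given prime -/
theorem regular_localization_of_map_eq {B' B : Type*} [CommRing B'] [CommRing B]
    [IsNoetherianRing B] (φ : B' →+* B) (Q : Ideal B) [Q.IsPrime] (P : Ideal B') [P.IsPrime]
    (hP : P = Q.comap φ) (hmap : P.map φ = Q) [IsRegularLocalRing (Localization.AtPrime P)]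
    (hd : P.height ≤ Q.height) : IsRegularLocalRing (Localization.AtPrime Q) := by
  let ψ : Localization.AtPrime P →+* Localization.AtPrime Q :=
    Localization.localRingHom P Q φ hP
  have hψ : ψ.comp (algebraMap B' (Localization.AtPrime P)) =
      (algebraMap B (Localization.AtPrime Q)).comp φ := by
    ext x
    exact Localization.localRingHom_to_map P Q φ hP x
  have hmax : (maximalIdeal (Localization.AtPrime P)).map ψ =
      maximalIdeal (Localization.AtPrime Q) := by
    rw [← Localization.AtPrime.map_eq_maximalIdeal, ← Localization.AtPrime.map_eq_maximalIdeal,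
      Ideal.map_map, hψ, ← Ideal.map_map, hmap]
  have hd' : ringKrullDim (Localization.AtPrime P) ≤ ringKrullDim (Localization.AtPrime Q) := by
    rw [IsLocalization.AtPrime.ringKrullDim_eq_height P,
      IsLocalization.AtPrime.ringKrullDim_eq_height Q]
    exact_mod_cast hd
  exact regular_of_map_maximalIdeal ψ hmax hd'

section Tensor

variable (k : Type u) [Field k] (A : Type u) [CommRing A] [Algebra k A]
  (L : Type u) [Field L] [Algebra k L]

/-- the map `A ⊗ K → A ⊗ L` for an intermediate field `K` of `L/k` -/
noncomputable def incl (K : IntermediateField k L) : A ⊗[k] K →ₐ[A] A ⊗[k] L :=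
  Algebra.TensorProduct.map (AlgHom.id A A) K.val

@[simp]
theorem incl_tmul (K : IntermediateField k L) (a : A) (c : K) :
    incl k A L K (a ⊗ₜ c) = a ⊗ₜ (c : L) := by
  simp [incl]

theorem range_incl_mono {K K' : IntermediateField k L} (h : K ≤ K') :
    Set.range (incl k A L K) ⊆ Set.range (incl k A L K') := by
  rintro _ ⟨y, rfl⟩
  refine ⟨Algebra.TensorProduct.map (AlgHom.id A A) (IntermediateField.inclusion h) y, ?_⟩
  induction y using TensorProduct.induction_on with
  | zero => simp
  | tmul a c => simp
  | add x y hx hy => simp only [map_add, hx, hy]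

theorem exists_finite_mem_range [Algebra.IsAlgebraic k L] (x : A ⊗[k] L) :
    ∃ K : IntermediateField k L, FiniteDimensional k K ∧ x ∈ Set.range (incl k A L K) := by
  induction x using TensorProduct.induction_on with
  | zero => exact ⟨⊥, inferInstance, 0, map_zero _⟩
  | tmul a c =>
    have hc : IsIntegral k c := Algebra.IsIntegral.isIntegral c
    refine ⟨IntermediateField.adjoin k {c}, IntermediateField.adjoin.finiteDimensional hc,
      a ⊗ₜ ⟨c, IntermediateField.mem_adjoin_simple_self k c⟩, ?_⟩
    simp
  | add x y hx hy =>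
    obtain ⟨K1, hK1, x', hx'⟩ := hx
    obtain ⟨K2, hK2, y', hy'⟩ := hy
    haveI := hK1
    haveI := hK2
    refine ⟨K1 ⊔ K2, inferInstance, ?_⟩
    obtain ⟨x'', hx''⟩ := range_incl_mono k A L (le_sup_left : K1 ≤ K1 ⊔ K2) ⟨x', hx'⟩
    obtain ⟨y'', hy''⟩ := range_incl_mono k A L (le_sup_right : K2 ≤ K1 ⊔ K2) ⟨y', hy'⟩
    exact ⟨x'' + y'', by rw [map_add, hx'', hy'']⟩

theorem exists_finite_forall_mem_range [Algebra.IsAlgebraic k L] (s : Finset (A ⊗[k] L)) :
    ∃ K : IntermediateField k L, FiniteDimensional k K ∧
      ∀ x ∈ s, x ∈ Set.range (incl k A L K) := by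
  classical
  induction s using Finset.induction_on with
  | empty => exact ⟨⊥, inferInstance, by simp⟩
  | insert a s ha ih =>
    obtain ⟨K1, hK1, h1⟩ := ih
    obtain ⟨K2, hK2, h2⟩ := exists_finite_mem_range k A L a
    haveI := hK1
    haveI := hK2
    refine ⟨K1 ⊔ K2, inferInstance, ?_⟩
    intro x hx
    rcases Finset.mem_insert.mp hx with rfl | hx
    · exact range_incl_mono k A L (le_sup_right : K2 ≤ K1 ⊔ K2) h2
    · exact range_incl_mono k A L (le_sup_left : K1 ≤ K1 ⊔ K2) (h1 x hx)

/-- the map `A ⊗ K' → A ⊗ L` for a field `K'` mapping to `L` -/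
noncomputable def inclH (K' : Type u) [Field K'] [Algebra k K'] (j : K' →ₐ[k] L) :
    A ⊗[k] K' →ₐ[A] A ⊗[k] L :=
  Algebra.TensorProduct.map (AlgHom.id A A) j

theorem comap_inclH_comap (K' : Type u) [Field K'] [Algebra k K'] (j : K' →ₐ[k] L)
    (Q : Ideal (A ⊗[k] L)) :
    (Q.comap (inclH k A L K' j).toRingHom).comap (algebraMap A (A ⊗[k] K')) =
      Q.comap (algebraMap A (A ⊗[k] L)) := by
  ext a
  rw [Ideal.mem_comap, Ideal.mem_comap, Ideal.mem_comap]
  have : (inclH k A L K' j).toRingHom (algebraMap A (A ⊗[k] K') a) = algebraMap A (A ⊗[k] L) a :=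
    (inclH k A L K' j).commutes a
  rw [this]

set_option maxHeartbeats 800000 in
theorem regular_tensor_core [Algebra.FiniteType k A] [Algebra.IsAlgebraic k L]
    (K' : Type u) [Field K'] [Algebra k K'] [Module.Finite k K'] (j : K' →ₐ[k] L)
    (Q : Ideal (A ⊗[k] L)) [Q.IsPrime] (s : Finset (A ⊗[k] L)) (hs : Ideal.span (s : Set _) = Q)
    (hKs : ∀ x ∈ s, x ∈ Set.range (inclH k A L K' j))
    (H : ∀ (P : Ideal (A ⊗[k] K')) [P.IsPrime],
        P.comap (algebraMap A (A ⊗[k] K')) = Q.comap (algebraMap A (A ⊗[k] L)) →
        IsRegularLocalRing (Localization.AtPrime P)) :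
    IsRegularLocalRing (Localization.AtPrime Q) := by
  haveI : IsNoetherianRing A := Algebra.FiniteType.isNoetherianRing k A
  haveI hNL : IsNoetherianRing (A ⊗[k] L) := Groth.Agent.Helper5.FibProp.noeth_tensor k L A
  haveI hNK : IsNoetherianRing (A ⊗[k] K') := Groth.Agent.Helper5.FibProp.noeth_tensor k K' A
  set QK := Q.comap (inclH k A L K' j).toRingHom with hQK
  haveI hQKp : QK.IsPrime := Ideal.comap_isPrime _ _
  haveI := H QK (comap_inclH_comap k A L K' j Q)
  have hmap : QK.map (inclH k A L K' j).toRingHom = Q := by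
    apply le_antisymm
    · exact Ideal.map_comap_le
    · rw [← hs, Ideal.span_le]
      intro a ha
      obtain ⟨b, hb'⟩ := hKs a ha
      have hb : b ∈ QK := by
        rw [hQK, Ideal.mem_comap]
        show (inclH k A L K' j) b ∈ Q
        rw [hb', ← hs]
        exact Ideal.subset_span ha
      have := Ideal.mem_map_of_mem (inclH k A L K' j).toRingHom hb
      rw [← hb']
      exact this
  haveI : Algebra.IsIntegral k L := Algebra.IsAlgebraic.isIntegral
  haveI : Algebra.IsIntegral k K' := Algebra.IsIntegral.of_finite k K'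
  have hd : QK.height ≤ Q.height := by
    rw [Groth.Agent.Helper7.InvHt.height_comap_eq_of_flat_integral (R := A) QK,
      Groth.Agent.Helper7.InvHt.height_comap_eq_of_flat_integral (R := A) Q,
      hQK, comap_inclH_comap]
  exact regular_localization_of_map_eq (inclH k A L K' j).toRingHom Q QK rfl hmap hd

/-- **regularity from the finite levels** -/
theorem regular_tensor_of_forall_finite [Algebra.FiniteType k A] [Algebra.IsAlgebraic k L]
    (Q : Ideal (A ⊗[k] L)) [Q.IsPrime]
    (H : ∀ (K : Type u) [Field K] [Algebra k K], Module.Finite k K →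
      ∀ (P : Ideal (A ⊗[k] K)) [P.IsPrime],
        P.comap (algebraMap A (A ⊗[k] K)) = Q.comap (algebraMap A (A ⊗[k] L)) →
        IsRegularLocalRing (Localization.AtPrime P)) :
    IsRegularLocalRing (Localization.AtPrime Q) := by
  haveI hNL : IsNoetherianRing (A ⊗[k] L) := Groth.Agent.Helper5.FibProp.noeth_tensor k L A
  obtain ⟨s, hs⟩ := (isNoetherianRing_iff_ideal_fg (A ⊗[k] L)).mp hNL Q
  obtain ⟨K, hK, hKs⟩ := exists_finite_forall_mem_range k A L s
  haveI := hK
  exact regular_tensor_core k A L K K.val Q s hs hKs (fun P _ hP => H K hK P hP)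

end Tensor

end Groth.Agent.Helper5.GeoFin
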