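import Mathlib
import Groth.Prelude
import Groth.Agent.Helper5.GeoFinA

/-!
# GPIH: the local rings of `A ⊗ L`, `L` algebraic over `k`, are domains if the local rings of
`A ⊗ K` are, for the finite extensions `K` of `k`
-/

set_option autoImplicit false
set_option linter.unusedSectionVars false
set_option linter.unusedVariables false
set_option linter.style.haveILetI false
universe u

namespace Groth.Agent.Helper5.GPI

open TensorProduct IsLocalRing Groth.Agent.Helper5.GeoFin

variable (k : Type u) [Field k] (A : Type u) [CommRing A] [Algebra k A]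
  (L : Type u) [Field L] [Algebra k L]

theorem inclH_injective (K' : Type u) [Field K'] [Algebra k K'] (j : K' →ₐ[k] L) :
    Function.Injective (inclH k A L K' j) := by
  have h1 : Function.Injective (LinearMap.lTensor A (j.toLinearMap)) :=
    Module.Flat.lTensor_preserves_injective_linearMap _ j.injective
  have h2 : ∀ x, inclH k A L K' j x = LinearMap.lTensor A (j.toLinearMap) x := by
    intro x
    induction x using TensorProduct.induction_on with
    | zero => simp
    | tmul a c => simp [inclH]
    | add x y hx hy => simp only [map_add, hx, hy]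
  intro x y hxy
  apply h1
  rw [← h2, ← h2, hxy]

set_option maxHeartbeats 800000 in
theorem isDomain_tensor_core (K' : Type u) [Field K'] [Algebra k K'] (j : K' →ₐ[k] L)
    (Q : Ideal (A ⊗[k] L)) [Q.IsPrime]
    (H : ∀ (P : Ideal (A ⊗[k] K')) [P.IsPrime],
        P.comap (algebraMap A (A ⊗[k] K')) = Q.comap (algebraMap A (A ⊗[k] L)) →
        IsDomain (Localization.AtPrime P))
    (a b u : A ⊗[k] L) (hu : u ∉ Q) (huab : u * (a * b) = 0)
    (ha : a ∈ Set.range (inclH k A L K' j)) (hb : b ∈ Set.range (inclH k A L K' j))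
    (hur : u ∈ Set.range (inclH k A L K' j)) :
    (∃ v : A ⊗[k] L, v ∉ Q ∧ v * a = 0) ∨ (∃ v : A ⊗[k] L, v ∉ Q ∧ v * b = 0) := by
  obtain ⟨a', ha'⟩ := ha
  obtain ⟨b', hb'⟩ := hb
  obtain ⟨u', hu'⟩ := hur
  set P := Q.comap (inclH k A L K' j).toRingHom with hP
  haveI hPp : P.IsPrime := Ideal.comap_isPrime _ _
  haveI := H P (comap_inclH_comap k A L K' j Q)
  have hu'P : u' ∉ P := by
    intro hmem
    have : (inclH k A L K' j) u' ∈ Q := hmem
    rw [hu'] at this
    exact hu this
  have hzero : u' * (a' * b') = 0 := by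
    apply inclH_injective k A L K' j
    rw [map_mul, map_mul, ha', hb', hu', map_zero]
    exact huab
  have h1 : algebraMap (A ⊗[k] K') (Localization.AtPrime P) a' *
      algebraMap (A ⊗[k] K') (Localization.AtPrime P) b' = 0 := by
    rw [← map_mul, IsLocalization.map_eq_zero_iff P.primeCompl]
    exact ⟨⟨u', hu'P⟩, hzero⟩
  have key : ∀ c' : A ⊗[k] K', algebraMap (A ⊗[k] K') (Localization.AtPrime P) c' = 0 →
      ∃ v : A ⊗[k] L, v ∉ Q ∧ v * (inclH k A L K' j) c' = 0 := by
    intro c' hc'
    rw [IsLocalization.map_eq_zero_iff P.primeCompl] at hc'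
    obtain ⟨v, hv⟩ := hc'
    refine ⟨(inclH k A L K' j) (v : A ⊗[k] K'), fun hmem => v.2 hmem, ?_⟩
    rw [← map_mul, hv, map_zero]
  rcases mul_eq_zero.mp h1 with h | h
  · left
    rw [← ha']
    exact key a' h
  · right
    rw [← hb']
    exact key b' h

set_option maxHeartbeats 800000 in
/-- **domains from the finite levels** -/
theorem isDomain_tensor_of_forall_finite [Algebra.IsAlgebraic k L]
    (Q : Ideal (A ⊗[k] L)) [Q.IsPrime]
    (H : ∀ (K : Type u) [Field K] [Algebra k K], Module.Finite k K →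
      ∀ (P : Ideal (A ⊗[k] K)) [P.IsPrime],
        P.comap (algebraMap A (A ⊗[k] K)) = Q.comap (algebraMap A (A ⊗[k] L)) →
        IsDomain (Localization.AtPrime P)) :
    IsDomain (Localization.AtPrime Q) := by
  classical
  haveI : NoZeroDivisors (Localization.AtPrime Q) := by
    refine ⟨fun {x y} hxy => ?_⟩
    obtain ⟨a, s, rfl⟩ := IsLocalization.exists_mk'_eq Q.primeCompl x
    obtain ⟨b, s', rfl⟩ := IsLocalization.exists_mk'_eq Q.primeCompl y
    rw [← IsLocalization.mk'_mul, IsLocalization.mk'_eq_zero_iff] at hxy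
    obtain ⟨u, hu⟩ := hxy
    obtain ⟨K, hK, hKs⟩ := exists_finite_forall_mem_range k A L {a, b, (u : A ⊗[k] L)}
    haveI := hK
    have := isDomain_tensor_core k A L K K.val Q (fun P _ hP => H K hK P hP) a b u u.2 hu
      (hKs a (by simp)) (hKs b (by simp)) (hKs (u : A ⊗[k] L) (by simp))
    rcases this with ⟨v, hv, hva⟩ | ⟨v, hv, hvb⟩
    · left
      rw [IsLocalization.mk'_eq_zero_iff]
      exact ⟨⟨v, hv⟩, hva⟩
    · right
      rw [IsLocalization.mk'_eq_zero_iff]
      exact ⟨⟨v, hv⟩, hvb⟩
  exact NoZeroDivisors.to_isDomain _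

end Groth.Agent.Helper5.GPI
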