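import Mathlib
import Groth.Prelude
import Groth.Agent.Helper5.GeoFinA
import Groth.Agent.Helper5.GeoRkB
import Groth.Agent.Helper2.StalkDict

/-!
# GeoFinB: the local rings of the base changes of a scheme locally of finite type over a field, at
the points over a given point, are the localizations of `A ⊗ K` at the primes over a fixed prime;
a point is smooth as soon as the local rings over it are regular after all finite extensions
-/

set_option autoImplicit false
set_option linter.unusedSectionVars false
set_option linter.unusedVariables false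
set_option linter.style.haveILetI false
universe u

namespace Groth.Agent.Helper5.GeoFin

open CategoryTheory CategoryTheory.Limits AlgebraicGeometry TopologicalSpace Topology TensorProduct
open Groth.Agent.Helper2.StalkDict

section Field

variable (k : Type u) [Field k] {T : Scheme.{u}} (h : T ⟶ Spec (CommRingCat.of k))

theorem localization_congr {R : Type u} [CommRing R] (P P' : Ideal R) [P.IsPrime] [P'.IsPrime]
    (hPP' : P = P') : Nonempty (Localization.AtPrime P ≃+* Localization.AtPrime P') := by
  subst hPP'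
  exact ⟨RingEquiv.refl _⟩

set_option maxHeartbeats 1000000 in
/-- **the dictionary** -/
theorem exists_chart_bc [LocallyOfFiniteType h] (w : T) :
    ∃ (A : Type u) (_ : CommRing A) (_ : Algebra k A) (_ : Algebra.FiniteType k A)
      (q : Ideal A) (_ : q.IsPrime),
      Nonempty (T.presheaf.stalk w ≃+* Localization.AtPrime q) ∧
      (∀ (K : Type u) [Field K] [Algebra k K]
        (ξ : ↥(pullback h (Spec.map (CommRingCat.ofHom (algebraMap k K))))),
        (pullback.fst h (Spec.map (CommRingCat.ofHom (algebraMap k K)))).base ξ = w →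
        ∃ (Q' : Ideal (A ⊗[k] K)) (_ : Q'.IsPrime), Q'.comap (algebraMap A (A ⊗[k] K)) = q ∧
          Nonempty ((pullback h (Spec.map (CommRingCat.ofHom (algebraMap k K)))).presheaf.stalk ξ
            ≃+* Localization.AtPrime Q')) ∧
      (∀ (K : Type u) [Field K] [Algebra k K] (Q' : Ideal (A ⊗[k] K)) [Q'.IsPrime],
        Q'.comap (algebraMap A (A ⊗[k] K)) = q →
        ∃ ξ : ↥(pullback h (Spec.map (CommRingCat.ofHom (algebraMap k K)))),
          (pullback.fst h (Spec.map (CommRingCat.ofHom (algebraMap k K)))).base ξ = w ∧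
          Nonempty ((pullback h (Spec.map (CommRingCat.ofHom (algebraMap k K)))).presheaf.stalk ξ
            ≃+* Localization.AtPrime Q')) := by
  obtain ⟨_, ⟨U, hU, rfl⟩, hxU, -⟩ := T.isBasis_affineOpens.exists_subset_of_mem_open
    (Set.mem_univ w) isOpen_univ
  have hU' : IsAffineOpen U := hU
  let g : Spec Γ(T, U) ⟶ T := hU'.fromSpec
  let φ : CommRingCat.of k ⟶ Γ(T, U) := Spec.preimage (g ≫ h)
  letI : Algebra k Γ(T, U) := φ.hom.toAlgebra
  have hφ : Spec.map (CommRingCat.ofHom (algebraMap k Γ(T, U))) = g ≫ h := Spec.map_preimage _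
  haveI : Algebra.FiniteType k Γ(T, U) := by
    have h1 : LocallyOfFiniteType (Spec.map φ) := by
      rw [show Spec.map φ = g ≫ h from Spec.map_preimage _]; infer_instance
    exact (HasRingHomProperty.Spec_iff (P := @LocallyOfFiniteType)).1 h1
  obtain ⟨u', hu'⟩ : ∃ u' : ↥(Spec Γ(T, U)), g u' = w := by
    have : w ∈ Set.range g := by rw [hU'.range_fromSpec]; exact hxU
    exact this
  obtain ⟨e0⟩ := nonempty_stalkEquiv' g u' w hu'
  refine ⟨Γ(T, U), inferInstance, inferInstance, inferInstance, u'.asIdeal, u'.isPrime,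
    ⟨e0.trans (Spec.stalkIso Γ(T, U) u').commRingCatIsoToRingEquiv⟩, ?_, ?_⟩
  · intro K _ _ ξ hξ
    obtain ⟨z₁, hz1, -, ⟨e1⟩⟩ := stepA h (Spec.map (CommRingCat.ofHom (algebraMap k K))) g _ hφ ξ u'
      (hξ.trans hu'.symm)
    obtain ⟨e2⟩ := nonempty_stalk_pullbackSpec_equiv k Γ(T, U) K z₁
    have hcomap := fst_eq_comap k Γ(T, U) K z₁
    rw [hz1] at hcomap
    exact ⟨((pullbackSpecIso k Γ(T, U) K).hom z₁).asIdeal, inferInstance, hcomap.symm,
      ⟨e1.trans e2⟩⟩
  · intro K _ _ Q' _ hQ'
    obtain ⟨z₁, hz₁⟩ := exists_point k Γ(T, U) K Q'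
    obtain ⟨ξ, hξ, ⟨e1⟩⟩ := stepA_conv h (Spec.map (CommRingCat.ofHom (algebraMap k K))) g _ hφ z₁
    obtain ⟨e2⟩ := nonempty_stalk_pullbackSpec_equiv k Γ(T, U) K z₁
    obtain ⟨e3⟩ := localization_congr _ _ hz₁
    have hcomap := fst_eq_comap k Γ(T, U) K z₁
    rw [hz₁, hQ'] at hcomap
    have hfst : (pullback.fst (Spec.map (CommRingCat.ofHom (algebraMap k Γ(T, U))))
        (Spec.map (CommRingCat.ofHom (algebraMap k K)))) z₁ = u' := PrimeSpectrum.ext hcomap
    refine ⟨ξ, ?_, ⟨e1.trans (e2.trans e3)⟩⟩
    rw [hξ, hfst]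
    exact hu'

variable [LocallyOfFinitePresentation h]

set_option maxHeartbeats 1000000 in
/-- a point over which all the local rings of the base changes to finite extensions are regular is
a smooth point -/
theorem smooth_of_forall_finite_regular (w : T)
    (H : ∀ (K : Type u) [Field K] [Algebra k K], Module.Finite k K →
      ∀ ξ : ↥(pullback h (Spec.map (CommRingCat.ofHom (algebraMap k K)))),
        (pullback.fst h (Spec.map (CommRingCat.ofHom (algebraMap k K)))).base ξ = w →
        IsRegularLocalRing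
          ((pullback h (Spec.map (CommRingCat.ofHom (algebraMap k K)))).presheaf.stalk ξ)) :
    w ∈ h.smoothLocus := by
  haveI : LocallyOfFiniteType h := inferInstance
  obtain ⟨A, _, _, _, q, _, -, hD1, hD2⟩ := exists_chart_bc k h w
  let L := AlgebraicClosure k
  let φ : k →+* L := algebraMap k L
  set π := pullback.fst h (Spec.map (CommRingCat.ofHom φ)) with hπ
  set σ := pullback.snd h (Spec.map (CommRingCat.ofHom φ)) with hσ
  haveI : LocallyOfFinitePresentation σ := MorphismProperty.pullback_snd _ _ inferInstance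
  obtain ⟨ξ, hξ⟩ := π.surjective w
  obtain ⟨Q, _, hQ, ⟨e⟩⟩ := hD1 L ξ hξ
  have hreg : IsRegularLocalRing (Localization.AtPrime Q) := by
    apply regular_tensor_of_forall_finite k A L Q
    intro K _ _ hK P _ hP
    obtain ⟨ξ', hξ', ⟨e'⟩⟩ := hD2 K P (hP.trans hQ)
    haveI := H K hK ξ' hξ'
    exact IsRegularLocalRing.of_ringEquiv e'
  have hreg' : IsRegularLocalRing
      ((pullback h (Spec.map (CommRingCat.ofHom φ))).presheaf.stalk ξ) :=
    IsRegularLocalRing.of_ringEquiv e.symm
  have hsm : ξ ∈ σ.smoothLocus :=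
    (Groth.Agent.Helper2.SmoothDense.mem_smoothLocus_iff_regular L _ σ ξ).mpr hreg'
  have := (Groth.Agent.Helper5.GeoRk.bc_mem_smoothLocus_iff k h L φ ξ).mp hsm
  rw [hξ] at this
  exact this

set_option maxHeartbeats 1000000 in
/-- the dimension of the local ring is preserved under base change to an algebraic extension -/
theorem dim_stalk_bc_of_isAlgebraic (K : Type u) [Field K] [Algebra k K] [Algebra.IsAlgebraic k K]
    (ξ : ↥(pullback h (Spec.map (CommRingCat.ofHom (algebraMap k K))))) :
    ringKrullDim ((pullback h (Spec.map (CommRingCat.ofHom (algebraMap k K)))).presheaf.stalk ξ) =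
      ringKrullDim (T.presheaf.stalk
        ((pullback.fst h (Spec.map (CommRingCat.ofHom (algebraMap k K)))).base ξ)) := by
  haveI : LocallyOfFiniteType h := inferInstance
  obtain ⟨A, _, _, _, q, _, ⟨e0⟩, hD1, -⟩ := exists_chart_bc k h
    ((pullback.fst h (Spec.map (CommRingCat.ofHom (algebraMap k K)))).base ξ)
  obtain ⟨Q, _, hQ, ⟨e⟩⟩ := hD1 K ξ rfl
  haveI : IsNoetherianRing A := Algebra.FiniteType.isNoetherianRing k A
  haveI : IsNoetherianRing (A ⊗[k] K) := Groth.Agent.Helper5.FibProp.noeth_tensor k K A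
  haveI : Algebra.IsIntegral k K := Algebra.IsAlgebraic.isIntegral
  rw [ringKrullDim_eq_of_ringEquiv e, ringKrullDim_eq_of_ringEquiv e0,
    IsLocalization.AtPrime.ringKrullDim_eq_height Q, IsLocalization.AtPrime.ringKrullDim_eq_height q,
    Groth.Agent.Helper7.InvHt.height_comap_eq_of_flat_integral (R := A) Q]
  subst hQ
  rfl

set_option maxHeartbeats 1000000 in
/-- the geometric condition `(R_n)` at a point, tested on the finite extensions of the base field -/
theorem geomRk_finite_iff (t : T) (n : ℕ) :
    (∀ (K : Type u) [Field K] [Algebra k K], Module.Finite k K →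
      ∀ t' : ↥(FBase.bc h K), (FBase.bcπ h K).base t' = t →
        LocCoh.HasRk n ((FBase.bc h K).presheaf.stalk t')) ↔
      ∀ w : T, w ⤳ t → w ∉ h.smoothLocus →
        ¬ ringKrullDim (T.presheaf.stalk w) ≤ (n : WithBot ℕ∞) := by
  constructor
  · intro H w hw hns hd
    apply hns
    apply smooth_of_forall_finite_regular k h w
    intro K _ _ hK ξ hξ
    haveI := hK
    set π := pullback.fst h (Spec.map (CommRingCat.ofHom (algebraMap k K))) with hπ
    haveI : IsIntegralHom (Spec.map (CommRingCat.ofHom (algebraMap k K))) := by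
      rw [IsIntegralHom.SpecMap_iff]
      exact algebraMap_isIntegral_iff.mpr (Algebra.IsIntegral.of_finite k K)
    haveI : IsIntegralHom π := inferInstance
    have hcl : IsClosedMap π.base := π.isClosedMap
    have hsp : π.base ξ ⤳ t := by rw [hξ]; exact hw
    obtain ⟨t', ht'sp, ht'⟩ := hcl.specializingMap hsp
    have hR := H K hK t' ht'
    haveI : Algebra.IsAlgebraic k K := Algebra.IsAlgebraic.of_finite k K
    have hdim := dim_stalk_bc_of_isAlgebraic k h K ξ
    rw [hξ] at hdim
    exact (Groth.Agent.Helper5.GeoRk.hasRk_stalk_iff _ t' n).mp hR ξ ht'sp (by rw [hdim]; exact hd)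
  · intro H K _ _ _ t' ht'
    exact (Groth.Agent.Helper5.GeoRk.geomRk_field_iff k h t n).mpr H K t' ht'

end Field

end Groth.Agent.Helper5.GeoFin
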