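import Mathlib
import Groth.Prelude
import Groth.Agent.Helper5.GPIH
import Groth.Agent.Helper5.GeoFinB
import Groth.Agent.Helper5.GPIC
import Groth.Agent.S4630
import Groth.Agent.S4631

/-!
# GPII: geometric pointwise integrality at a point of a scheme locally of finite type over a field
can be tested on the finite extensions of the base field
-/

set_option autoImplicit false
set_option linter.unusedSectionVars false
set_option linter.unusedVariables false
set_option linter.style.haveILetI false
universe u

namespace Groth.Agent.Helper5.GPI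

open CategoryTheory CategoryTheory.Limits AlgebraicGeometry TopologicalSpace Topology TensorProduct
open Groth.Agent.Helper5.GeoFin

set_option maxHeartbeats 1000000 in
theorem geomPtIntegralAt_of_forall_finite {k : Type u} [Field k] {T : Scheme.{u}}
    (h : T ⟶ Spec (CommRingCat.of k)) [LocallyOfFiniteType h] (w : T)
    (H : ∀ (K : Type u) [Field K] [Algebra k K], Module.Finite k K →
      ∀ ξ : ↥(FBase.bc h K), (FBase.bcπ h K).base ξ = w →
        IsDomain ((FBase.bc h K).presheaf.stalk ξ)) :
    FBase.IsGeomPtIntegralAt h w := by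
  let Ω : Type u := AlgebraicClosure k
  haveI : Subsingleton ↥(Spec (CommRingCat.of k)) :=
    inferInstanceAs (Subsingleton (PrimeSpectrum k))
  obtain ⟨x', hx'1, -⟩ := Scheme.Pullback.exists_preimage_pullback (f := h)
    (g := Spec.map (CommRingCat.ofHom (algebraMap k Ω))) w (IsLocalRing.closedPoint Ω)
    (Subsingleton.elim _ _)
  have hx' : (FBase.bcπ h Ω).base x' = w := hx'1
  obtain ⟨A, _, _, _, q, _, -, hdict1, hdict2⟩ := exists_chart_bc k h w
  obtain ⟨Q', hQ'p, hQ'q, ⟨e⟩⟩ := hdict1 Ω x' hx'1
  haveI := hQ'p
  have hdomQ : IsDomain (Localization.AtPrime Q') := by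
    apply isDomain_tensor_of_forall_finite k A Ω Q'
    intro K _ _ hK P _ hP
    rw [hQ'q] at hP
    obtain ⟨ξ, hξ, ⟨eξ⟩⟩ := hdict2 K P hP
    haveI hdξ : IsDomain ((pullback h (Spec.map (CommRingCat.ofHom
        (algebraMap k K)))).presheaf.stalk ξ) := H K hK ξ hξ
    exact eξ.symm.injective.isDomain eξ.symm.toRingHom
  have hdom' : IsDomain ((pullback h (Spec.map (CommRingCat.ofHom
      (algebraMap k Ω)))).presheaf.stalk x') :=
    e.injective.isDomain e.toRingHom
  have hdom : IsDomain ((FBase.bc h Ω).presheaf.stalk x') := hdom'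
  have h1 := (Groth.Agent.S4630.result h x').mpr
    ((Groth.Agent.S4631.result (FBase.bcStr h Ω) x').mpr hdom)
  rwa [show (FBase.bcπ h Ω) x' = w from hx'] at h1

/-- the finite-extension criterion for the fibres of a morphism locally of finite type -/
theorem mem_EI_of_forall_finite {X Y : Scheme.{u}} (f : X ⟶ Y) [LocallyOfFiniteType f] (z : X)
    (H : ∀ (K : Type u) [Field K] [Algebra (IsLocalRing.ResidueField (Y.presheaf.stalk (f.base z))) K],
      Module.Finite (IsLocalRing.ResidueField (Y.presheaf.stalk (f.base z))) K →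
      ∀ ξ : ↥(FBase.bc (f.fiberToSpecResidueField (f.base z)) K),
        (FBase.bcπ (f.fiberToSpecResidueField (f.base z)) K).base ξ = f.asFiber z →
        IsDomain ((FBase.bc (f.fiberToSpecResidueField (f.base z)) K).presheaf.stalk ξ)) :
    z ∈ EI f := by
  have hlft : LocallyOfFiniteType (f.fiberToSpecResidueField (f.base z)) :=
    MorphismProperty.pullback_snd _ _ inferInstance
  exact @geomPtIntegralAt_of_forall_finite (IsLocalRing.ResidueField (Y.presheaf.stalk (f.base z))) _
    (f.fiber (f.base z)) (f.fiberToSpecResidueField (f.base z)) hlft (f.asFiber z) H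

end Groth.Agent.Helper5.GPI
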