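import Mathlib
import Groth.Prelude
import Groth.Agent.Helper5.GPIC
import Groth.Agent.Helper5.CMFib1
import Groth.Agent.Helper4.GeomBC3

/-!
# GPIJ: a flat family over a discrete valuation ring whose closed fibre is geometrically pointwise
integral at a point has an integral local ring at that point
-/

set_option autoImplicit false
set_option linter.unusedSectionVars false
set_option linter.unusedVariables false
set_option linter.style.haveILetI false
universe u

namespace Groth.Agent.Helper5.GPI

open CategoryTheory CategoryTheory.Limits AlgebraicGeometry TopologicalSpace Topology IsLocalRing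

/-- a Noetherian local ring with a regular element modulo which it is a domain is a domain -/
theorem isDomain_of_regular_of_quotient (O : Type*) [CommRing O] [IsNoetherianRing O]
    [IsLocalRing O] (ϖ : O) (hreg : IsSMulRegular O ϖ)
    (hdom : IsDomain (O ⧸ Ideal.span {ϖ})) : IsDomain O := by
  classical
  set P : Ideal O := Ideal.span {ϖ} with hP
  have hPprime : P.IsPrime := (Ideal.Quotient.isDomain_iff_prime P).mp hdom
  have hPtop : P ≠ ⊤ := hPprime.ne_top
  have hkrull : ⨅ i, P ^ i = ⊥ := Ideal.iInf_pow_eq_bot_of_isLocalRing P hPtop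
  have hpow : ∀ n : ℕ, P ^ n = Ideal.span {ϖ ^ n} := fun n => Ideal.span_singleton_pow ϖ n
  have key : ∀ a : O, a ≠ 0 → ∃ (n : ℕ) (a' : O), a = ϖ ^ n * a' ∧ a' ∉ P := by
    intro a ha
    have hex : ∃ n, a ∉ P ^ n := by
      by_contra hcon
      push Not at hcon
      apply ha
      have : a ∈ ⨅ i, P ^ i := Ideal.mem_iInf.mpr hcon
      rw [hkrull] at this
      exact this
    have hn := Nat.find_spec hex
    have hn0 : Nat.find hex ≠ 0 := by
      intro h0
      rw [h0, pow_zero, Ideal.one_eq_top] at hn
      exact hn trivial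
    obtain ⟨m, hm⟩ := Nat.exists_eq_succ_of_ne_zero hn0
    have hmem : a ∈ P ^ m := by
      by_contra hcon
      have := Nat.find_min' hex hcon
      omega
    rw [hpow, Ideal.mem_span_singleton'] at hmem
    obtain ⟨a', ha'⟩ := hmem
    refine ⟨m, a', by rw [← ha', mul_comm], ?_⟩
    intro ha'P
    rw [hP, Ideal.mem_span_singleton'] at ha'P
    obtain ⟨c, hc⟩ := ha'P
    apply hn
    rw [hm, hpow, Ideal.mem_span_singleton']
    refine ⟨c, ?_⟩
    rw [← ha', ← hc, pow_succ]
    ring
  haveI : NoZeroDivisors O := by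
    refine ⟨fun {a b} hab => ?_⟩
    by_contra hcon
    push Not at hcon
    obtain ⟨n, a', rfl, ha'⟩ := key a hcon.1
    obtain ⟨m, b', rfl, hb'⟩ := key b hcon.2
    have h1 : ϖ ^ (n + m) • (a' * b') = 0 := by
      rw [smul_eq_mul, pow_add]
      calc ϖ ^ n * ϖ ^ m * (a' * b') = ϖ ^ n * a' * (ϖ ^ m * b') := by ring
        _ = 0 := hab
    have h2 : a' * b' = 0 := by
      have hr : IsSMulRegular O (ϖ ^ (n + m)) := hreg.pow _
      apply hr
      show ϖ ^ (n + m) • (a' * b') = ϖ ^ (n + m) • 0
      rw [h1, smul_zero]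
    have h3 : a' * b' ∈ P := by rw [h2]; exact P.zero_mem
    rcases hPprime.mem_or_mem h3 with h | h
    · exact ha' h
    · exact hb' h
  exact NoZeroDivisors.to_isDomain _

set_option maxHeartbeats 800000 in
/-- the local ring of the source at a point where the morphism is flat, the fibre is geometrically
pointwise integral, and the maximal ideal of the local ring of the base is generated by a
nonzerodivisor, is a domain -/
theorem isDomain_stalk_of_principal {X S : Scheme.{u}} (f : X ⟶ S) [LocallyOfFiniteType f]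
    [IsLocallyNoetherian S] (x : X) (hflat : (f.stalkMap x).hom.Flat) (hx : x ∈ EI f)
    (ϖ : S.presheaf.stalk (f x))
    (hϖ : maximalIdeal (S.presheaf.stalk (f x)) = Ideal.span {ϖ})
    (hreg : ϖ ∈ nonZeroDivisors (S.presheaf.stalk (f x))) :
    IsDomain (X.presheaf.stalk x) := by
  haveI : IsLocallyNoetherian X := LocallyOfFiniteType.isLocallyNoetherian f
  obtain ⟨e⟩ := Groth.Agent.Helper5.CMFib.fibre_stalk_equiv' f x
  have hfib : IsDomain ((f.fiber (f x)).presheaf.stalk (f.asFiber x)) :=
    Groth.Agent.Helper4.GeomBC.isDomain_of_geomPtIntegralAt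
      (f.fiberToSpecResidueField (f x)) (f.asFiber x) hx
  have hmap : Ideal.map (f.stalkMap x).hom (maximalIdeal (S.presheaf.stalk (f x))) =
      Ideal.span {(f.stalkMap x).hom ϖ} := by
    rw [hϖ, Ideal.map_span, Set.image_singleton]
  have hq : IsDomain (X.presheaf.stalk x ⧸ Ideal.span {(f.stalkMap x).hom ϖ}) := by
    rw [← hmap]
    exact e.injective.isDomain e.toRingHom
  apply isDomain_of_regular_of_quotient (X.presheaf.stalk x) ((f.stalkMap x).hom ϖ) _ hq
  algebraize [(f.stalkMap x).hom]
  have h1 : IsSMulRegular (X.presheaf.stalk x) ϖ :=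
    Module.Flat.isSMulRegular_of_nonZeroDivisors hreg
  intro a b hab
  apply h1
  show ϖ • a = ϖ • b
  rw [Algebra.smul_def, Algebra.smul_def]
  exact hab

set_option maxHeartbeats 800000 in
/-- the case of a base which is the spectrum of a discrete valuation ring -/
theorem isDomain_stalk_of_dvr {Q : Scheme.{u}} (A : Type u) [CommRing A] [IsDomain A]
    [IsDiscreteValuationRing A] (fT : Q ⟶ Spec (CommRingCat.of A)) [Flat fT]
    [LocallyOfFiniteType fT] (x : Q) (hcl : fT x = IsLocalRing.closedPoint A) (hx : x ∈ EI fT) :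
    IsDomain (Q.presheaf.stalk x) := by
  have key : ∀ y : ↥(Spec (CommRingCat.of A)), y = IsLocalRing.closedPoint A →
      ∃ ϖ : (Spec (CommRingCat.of A)).presheaf.stalk y,
        maximalIdeal ((Spec (CommRingCat.of A)).presheaf.stalk y) = Ideal.span {ϖ} ∧
        ϖ ∈ nonZeroDivisors ((Spec (CommRingCat.of A)).presheaf.stalk y) := by
    rintro y rfl
    let e : (Spec (CommRingCat.of A)).presheaf.stalk (IsLocalRing.closedPoint A) ≃+* A :=
      (stalkClosedPointIso (CommRingCat.of A)).commRingCatIsoToRingEquiv
    obtain ⟨ϖA, hϖA⟩ := IsDiscreteValuationRing.exists_irreducible A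
    have hmA : maximalIdeal A = Ideal.span {ϖA} := hϖA.maximalIdeal_eq
    haveI : IsDomain ((Spec (CommRingCat.of A)).presheaf.stalk (IsLocalRing.closedPoint A)) :=
      e.injective.isDomain e.toRingHom
    refine ⟨e.symm ϖA, ?_, ?_⟩
    · ext z
      rw [Ideal.mem_span_singleton', mem_maximalIdeal, mem_nonunits_iff]
      have h1 : IsUnit z ↔ IsUnit (e z) := ⟨fun h => h.map e, fun h => by
        have := h.map e.symm
        rwa [RingEquiv.symm_apply_apply] at this⟩
      rw [h1, ← mem_nonunits_iff, ← mem_maximalIdeal, hmA, Ideal.mem_span_singleton']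
      constructor
      · rintro ⟨c, hc⟩
        refine ⟨e.symm c, ?_⟩
        apply e.injective
        rw [map_mul, RingEquiv.apply_symm_apply, RingEquiv.apply_symm_apply, hc]
      · rintro ⟨c, hc⟩
        refine ⟨e c, ?_⟩
        rw [← hc, map_mul, RingEquiv.apply_symm_apply]
    · apply mem_nonZeroDivisors_of_ne_zero
      intro h0
      have : ϖA = 0 := by
        have := congrArg e h0
        rwa [RingEquiv.apply_symm_apply, map_zero] at this
      exact hϖA.ne_zero this
  obtain ⟨ϖ, hϖ, hreg⟩ := key (fT x) hcl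
  haveI : IsLocallyNoetherian (Spec (CommRingCat.of A)) := inferInstance
  exact isDomain_stalk_of_principal fT x (Flat.stalkMap fT x) hx ϖ hϖ hreg

end Groth.Agent.Helper5.GPI
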