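import Mathlib
import Groth.Prelude
import Groth.Agent.Helper5.GPIJ
import Groth.Agent.Helper3.GRO4

/-!
# GPIK: the key local statement over a discrete valuation ring for the stability under
generization of the locus where the fibres are geometrically pointwise integral
-/

set_option autoImplicit false
set_option linter.unusedSectionVars false
set_option linter.unusedVariables false
set_option linter.style.haveILetI false
universe u

namespace Groth.Agent.Helper5.GPI

open CategoryTheory CategoryTheory.Limits AlgebraicGeometry TopologicalSpace Topology IsLocalRing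

theorem dir_of_specializes {A : Type*} [TopologicalSpace A] {z t : A} (hz : z ⤳ t) (h : Dir t) :
    Dir z := fun a b ha hb => h a b (ha.trans hz) (hb.trans hz)

/-- integrality of local rings passes to generizations -/
theorem isDomain_stalk_of_specializes' {X : Scheme.{u}} {x x' : X} (hs : x' ⤳ x)
    (h : IsDomain (X.presheaf.stalk x)) : IsDomain (X.presheaf.stalk x') := by
  rw [isDomain_stalk_iff] at h ⊢
  exact ⟨Groth.Agent.Helper3.GRO.isReduced_stalk_of_specializes hs h.1, dir_of_specializes hs h.2⟩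

set_option maxHeartbeats 1600000 in
/-- the key local statement over a discrete valuation ring: given a point `z'` of a base change
`P` of `f` to a field whose image `π z'` specializes to a point `x` of the locus, the local ring
of `P` at `z'` is a domain. -/
theorem isDomain_stalk_of_specializes {X Y : Scheme.{u}} [IsLocallyNoetherian Y] (f : X ⟶ Y)
    [Flat f] [LocallyOfFiniteType f] {K : Type u} [Field K] (s : Spec (CommRingCat.of K) ⟶ Y)
    (z' : ↥(pullback f s))
    (hfin : ∀ (x : X) (hsp : (pullback.fst f s).base z' ⤳ x),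
      (X.presheaf.stalkSpecializes hsp ≫ (pullback.fst f s).stalkMap z' ≫
        (pullback f s).residue z').hom.EssFiniteType)
    (x : X) (hsp : (pullback.fst f s).base z' ⤳ x) (hne : x ≠ (pullback.fst f s).base z')
    (hx : x ∈ EI f) :
    IsDomain ((pullback f s).presheaf.stalk z') := by
  classical
  let P := pullback f s
  let π : P ⟶ X := pullback.fst f s
  haveI : IsLocallyNoetherian X := LocallyOfFiniteType.isLocallyNoetherian f
  haveI : LocallyOfFinitePresentation f :=
    LocallyOfFinitePresentation.iff_locallyOfFiniteType.2 inferInstance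
  -- the discrete valuation ring
  obtain ⟨A, hA, hdvr, hloc⟩ := Groth.Agent.Helper5.DvrSpec.exists_factor_dvr
    (X.presheaf.stalkSpecializes hsp ≫ π.stalkMap z' ≫ P.residue z').hom (hfin x hsp)
    (Groth.Agent.Helper5.DvrSpec.not_isLocalHom π z' x hsp hne)
  obtain ⟨h, hcl, hw⟩ := Groth.Agent.Helper5.DvrSpec.exists_hom_of_factor π z' x hsp A hA hloc
  haveI := hdvr
  let T := Spec (CommRingCat.of A)
  let Q := pullback f (h ≫ f)
  let fT : Q ⟶ T := pullback.snd f (h ≫ f)
  let σ : T ⟶ Q := pullback.lift h (𝟙 T) (by simp)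
  have hσ1 : σ ≫ pullback.fst f (h ≫ f) = h := pullback.lift_fst _ _ _
  have hσ2 : σ ≫ fT = 𝟙 T := pullback.lift_snd _ _ _
  let x'' : Q := σ.base (IsLocalRing.closedPoint A)
  have hfst : (pullback.fst f (h ≫ f)).base x'' = x := by
    show (σ ≫ pullback.fst f (h ≫ f)).base _ = x
    rw [hσ1]; exact hcl
  have hx'' : x'' ∈ EI fT :=
    (mem_EI_iff_of_isPullback (IsPullback.of_hasPullback f (h ≫ f)) x'').2 (by rw [hfst]; exact hx)
  have hclT : fT x'' = IsLocalRing.closedPoint A := by
    show (σ ≫ fT).base _ = _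
    rw [hσ2]; rfl
  have hdomQ : IsDomain (Q.presheaf.stalk x'') := isDomain_stalk_of_dvr A fT x'' hclT hx''
  -- the generic point of the trait
  let j : Spec (P.residueField z') ⟶ T := Spec.map (CommRingCat.ofHom A.subtype)
  have hw' : j ≫ h = P.fromSpecResidueField z' ≫ π := hw
  haveI hjflat : Flat j := by
    rw [Flat.SpecMap_iff]
    show (algebraMap A (P.residueField z')).Flat
    rw [RingHom.flat_algebraMap_iff]
    exact IsLocalization.flat (P.residueField z') (nonZeroDivisors A)
  haveI hjsurj : SurjectiveOnStalks j := by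
    rw [SurjectiveOnStalks.Spec_iff]
    exact RingHom.surjectiveOnStalks_of_isLocalization (M := nonZeroDivisors A)
      (P.residueField z')
  let s₁ : Spec (P.residueField z') ⟶ Y := j ≫ h ≫ f
  let QL := pullback f s₁
  let τ : Spec (P.residueField z') ⟶ QL := pullback.lift (j ≫ h) (𝟙 _) (by simp [s₁])
  have hτ1 : τ ≫ pullback.fst f s₁ = j ≫ h := pullback.lift_fst _ _ _
  have hτ2 : τ ≫ pullback.snd f s₁ = 𝟙 _ := pullback.lift_snd _ _ _
  let pt : ↥(Spec (P.residueField z')) := IsLocalRing.closedPoint _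
  let ζ' : QL := τ.base pt
  let m : QL ⟶ Q := Groth.Agent.Helper1.NodalRed.pbMap₂ f (h ≫ f) j
  have hm1 : m ≫ pullback.fst f (h ≫ f) = pullback.fst f s₁ :=
    Groth.Agent.Helper1.NodalRed.pbMap₂_fst f (h ≫ f) j
  have hm2 : m ≫ fT = pullback.snd f s₁ ≫ j := by
    show ((pullbackLeftPullbackSndIso f (h ≫ f) j).inv ≫ pullback.fst _ _) ≫ pullback.snd f (h ≫ f)
      = _
    rw [Category.assoc, pullbackLeftPullbackSndIso_inv_fst_snd]
  haveI : Flat m := inferInstance
  haveI : SurjectiveOnStalks m := by
    show SurjectiveOnStalks ((pullbackLeftPullbackSndIso f (h ≫ f) j).inv ≫ pullback.fst _ _)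
    haveI : SurjectiveOnStalks (pullback.fst (pullback.snd f (h ≫ f)) j) :=
      MorphismProperty.pullback_fst _ _ hjsurj
    infer_instance
  have hτm : τ ≫ m = j ≫ σ := by
    apply pullback.hom_ext
    · rw [Category.assoc, hm1, hτ1, Category.assoc, hσ1]
    · show (τ ≫ m) ≫ fT = (j ≫ σ) ≫ fT
      rw [Category.assoc, hm2, ← Category.assoc, hτ2, Category.id_comp, Category.assoc, hσ2,
        Category.comp_id]
  have hmζ : m.base ζ' = σ.base (j.base pt) := by
    show (τ ≫ m).base pt = (j ≫ σ).base pt
    rw [hτm]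
  have hspec : m.base ζ' ⤳ x'' := by
    rw [hmζ]
    exact (IsLocalRing.specializes_closedPoint (j.base pt)).map σ.continuous
  have hdomζ : IsDomain (Q.presheaf.stalk (m.base ζ')) :=
    isDomain_stalk_of_specializes' hspec hdomQ
  have hdomζ' : IsDomain (QL.presheaf.stalk ζ') :=
    (Groth.Agent.Helper4.GeomBC.stalk_iff Groth.Agent.Helper4.GeomBC.desc_isDomain m ζ').2 hdomζ
  -- descend to `P`
  let ρ : Spec (P.residueField z') ⟶ Spec (CommRingCat.of K) :=
    P.fromSpecResidueField z' ≫ pullback.snd f s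
  have hs : s₁ = ρ ≫ s := by
    show j ≫ h ≫ f = (P.fromSpecResidueField z' ≫ pullback.snd f s) ≫ s
    rw [← Category.assoc, hw', Category.assoc, Category.assoc, pullback.condition]
  haveI : Flat ρ := by
    have hρe : ρ = Spec.map (Spec.preimage ρ) := (Spec.map_preimage ρ).symm
    rw [hρe, Flat.SpecMap_iff]
    letI := (Spec.preimage ρ).hom.toAlgebra
    show Module.Flat K (P.residueField z')
    infer_instance
  have key : ∀ (s₂ : Spec (P.residueField z') ⟶ Y) (hs₂ : s₂ = ρ ≫ s)
      (τ₂ : Spec (P.residueField z') ⟶ pullback f s₂)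
      (hτ₂1 : τ₂ ≫ pullback.fst f s₂ = P.fromSpecResidueField z' ≫ π)
      (hτ₂2 : τ₂ ≫ pullback.snd f s₂ = 𝟙 _),
      IsDomain ((pullback f s₂).presheaf.stalk (τ₂.base pt)) →
      IsDomain (P.presheaf.stalk z') := by
    intro s₂ hs₂
    subst hs₂
    intro τ₂ hτ₂1 hτ₂2 hdom
    let μ := Groth.Agent.Helper1.NodalRed.pbMap₂ f s ρ
    have h1 := Groth.Agent.Helper4.GeomBC.stalk_of_flat
      Groth.Agent.Helper4.GeomBC.desc_isDomain μ (τ₂.base pt) hdom
    have hμ1 : μ ≫ pullback.fst f s = pullback.fst f (ρ ≫ s) :=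
      Groth.Agent.Helper1.NodalRed.pbMap₂_fst f s ρ
    have hμ2 : μ ≫ pullback.snd f s = pullback.snd f (ρ ≫ s) ≫ ρ := by
      show ((pullbackLeftPullbackSndIso f s ρ).inv ≫ pullback.fst _ _) ≫ pullback.snd f s = _
      exact (Category.assoc _ _ _).trans (pullbackLeftPullbackSndIso_inv_fst_snd f s ρ)
    have hτμ : τ₂ ≫ μ = P.fromSpecResidueField z' := by
      apply pullback.hom_ext
      · rw [Category.assoc, hμ1, hτ₂1]
      · rw [Category.assoc, hμ2, ← Category.assoc, hτ₂2, Category.id_comp]
    have hpt : μ (τ₂.base pt) = z' := by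
      show (τ₂ ≫ μ).base pt = z'
      rw [hτμ]
      exact Scheme.fromSpecResidueField_apply z' pt
    rwa [hpt] at h1
  exact key s₁ hs τ (by rw [hτ1, hw']) hτ2 hdomζ'

end Groth.Agent.Helper5.GPI
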