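import Mathlib
import Groth.Prelude
import Groth.Agent.Helper5.GPIK
import Groth.Agent.Helper5.GPII
import Groth.Agent.Helper5.GPIF
import Groth.Agent.Lead.FD15

/-!
# GPIL: for a flat morphism locally of finite presentation, the locus where the fibres are
geometrically pointwise integral is open (S2550, S2554)
-/

set_option autoImplicit false
set_option linter.unusedSectionVars false
set_option linter.unusedVariables false
set_option linter.style.haveILetI false
universe u

namespace Groth.Agent.Helper5.GPI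

open CategoryTheory CategoryTheory.Limits AlgebraicGeometry TopologicalSpace Topology IsLocalRing
open Groth.Agent.Helper3.GRO

set_option maxHeartbeats 1600000 in
/-- the locus is stable under generization, for a flat morphism locally of finite type to a
locally Noetherian scheme -/
theorem mem_EI_of_specializes {X Y : Scheme.{u}} [IsLocallyNoetherian Y] (f : X ⟶ Y) [Flat f]
    [LocallyOfFiniteType f] (x z : X) (hzx : z ⤳ x) (hx : x ∈ EI f) : z ∈ EI f := by
  by_cases hne : x = z
  · subst hne; exact hx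
  apply mem_EI_of_forall_finite f z
  intro K _ _ hK ξ hξ
  let c : Spec (CommRingCat.of K) ⟶ Spec (Y.residueField (f.base z)) :=
    Spec.map (CommRingCat.ofHom
      (algebraMap (IsLocalRing.ResidueField (Y.presheaf.stalk (f.base z))) K))
  let s : Spec (CommRingCat.of K) ⟶ Y := c ≫ Y.fromSpecResidueField (f.base z)
  let e : pullback (pullback.snd f (Y.fromSpecResidueField (f.base z))) c ≅ pullback f s :=
    pullbackLeftPullbackSndIso f (Y.fromSpecResidueField (f.base z)) c
  haveI : LocallyOfFiniteType c := by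
    rw [HasRingHomProperty.Spec_iff (P := @LocallyOfFiniteType)]
    show (algebraMap (IsLocalRing.ResidueField (Y.presheaf.stalk (f.base z))) K).FiniteType
    exact RingHom.finiteType_algebraMap.2 inferInstance
  change ↥(pullback (pullback.snd f (Y.fromSpecResidueField (f.base z))) c) at ξ
  change (pullback.fst (pullback.snd f (Y.fromSpecResidueField (f.base z))) c) ξ = f.asFiber z at hξ
  show IsDomain ((pullback (pullback.snd f (Y.fromSpecResidueField (f.base z))) c).presheaf.stalk ξ)
  let z' : ↥(pullback f s) := e.hom.base ξ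
  have hπz' : (pullback.fst f s).base z' = z := by
    show (e.hom ≫ pullback.fst f s).base ξ = z
    rw [pullbackLeftPullbackSndIso_hom_fst, Scheme.Hom.comp_base, TopCat.comp_app, hξ]
    exact f.fiberι_asFiber z
  have hfac : pullback.fst f s =
      (e.inv ≫ pullback.fst (pullback.snd f (Y.fromSpecResidueField (f.base z))) c) ≫
        f.fiberι (f.base z) := by
    rw [Category.assoc]
    exact (pullbackLeftPullbackSndIso_inv_fst f (Y.fromSpecResidueField (f.base z)) c).symm
  have hsurj : SurjectiveOnStalks (f.fiberι (f.base z)) :=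
    (inferInstance : IsPreimmersion (f.fiberι (f.base z))).toSurjectiveOnStalks
  have hfin : ∀ (x : X) (hsp : (pullback.fst f s).base z' ⤳ x),
      (X.presheaf.stalkSpecializes hsp ≫ (pullback.fst f s).stalkMap z' ≫
        (pullback f s).residue z').hom.EssFiniteType := fun x hsp =>
    @essFiniteType_of_factor _ _ _ (pullback.fst f s) _ _ hfac inferInstance hsurj z' x hsp
  have hdom := isDomain_stalk_of_specializes f s z' hfin x (by rw [hπz']; exact hzx)
    (by rw [hπz']; exact hne) hx
  exact (Groth.Agent.Helper4.GeomBC.stalk_iff Groth.Agent.Helper4.GeomBC.desc_isDomain e.hom ξ).2 hdom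

/-- the Noetherian case -/
theorem isOpen_EI_of_noetherian {X Y : Scheme.{u}} [IsLocallyNoetherian Y]
    (f : X ⟶ Y) [Flat f] [LocallyOfFiniteType f] : IsOpen (EI f) := by
  haveI : LocallyOfFinitePresentation f :=
    LocallyOfFinitePresentation.iff_locallyOfFiniteType.mpr inferInstance
  rw [isOpen_iff_mem_nhds]
  intro x hx
  exact Groth.Agent.Helper5.KLem.mem_nhds_of_isLocallyConstructible _ (lc_EI f) x
    (fun t ht => mem_EI_of_specializes f x t ht hx)

set_option maxHeartbeats 1600000 in
/-- **S2550**: the locus where the fibres of a flat morphism locally of finite presentation are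
geometrically pointwise integral is open -/
theorem isOpen_EI {X Y : Scheme.{u}} (f : X ⟶ Y) [Flat f] [LocallyOfFinitePresentation f] :
    IsOpen (EI f) := by
  rw [isOpen_iff_forall_mem_open]
  intro x hx
  obtain ⟨_, ⟨V, hV, rfl⟩, hxV, -⟩ :=
    Y.isBasis_affineOpens.exists_subset_of_mem_open (Set.mem_univ (f.base x)) isOpen_univ
  let Vo : Y.Opens := V
  obtain ⟨_, ⟨U, hU, rfl⟩, hxU, hUV⟩ :=
    X.isBasis_affineOpens.exists_subset_of_mem_open (show x ∈ (f ⁻¹ᵁ Vo : Set X) from hxV)
      (f ⁻¹ᵁ Vo).isOpen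
  let Uo : X.Opens := U
  have e : Uo ≤ f ⁻¹ᵁ Vo := hUV
  haveI : IsAffine (Uo : Scheme.{u}) := hU
  haveI : IsAffine (Vo : Scheme.{u}) := hV
  let fU : (Uo : Scheme.{u}) ⟶ (Vo : Scheme.{u}) := f.resLE Vo Uo e
  have hfU : fU ≫ Vo.ι = Uo.ι ≫ f := Scheme.Hom.resLE_comp_ι f e
  haveI : Flat fU := inferInstance
  haveI : LocallyOfFinitePresentation fU := inferInstance
  obtain ⟨X₀, S₀, f₀, g, g', hX₀, hS₀, hpb, hft, hf₀ft, hf₀fl⟩ :=
    Groth.Agent.Lead.FD15.noetherian_approximation_flat fU
  haveI := hX₀
  haveI := hS₀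
  haveI := hf₀ft
  haveI := hf₀fl
  haveI : IsNoetherianRing Γ(S₀, ⊤) := Algebra.FiniteType.isNoetherianRing ℤ _
  haveI : IsLocallyNoetherian S₀ := isLocallyNoetherian_of_isOpenImmersion S₀.isoSpec.hom
  have h0 : IsOpen (EI f₀) := isOpen_EI_of_noetherian f₀
  have h1 : EI fU = g'.base ⁻¹' EI f₀ := by
    ext x'
    exact mem_EI_iff_of_isPullback hpb x'
  have h2 : IsOpen (EI fU) := by rw [h1]; exact h0.preimage g'.continuous
  have hsq : IsPullback (𝟙 (Uo : Scheme.{u})) fU (fU ≫ Vo.ι) Vo.ι := by
    have := (IsPullback.id_horiz fU).paste_vert (IsKernelPair.id_of_mono Vo.ι)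
    simpa using this
  have h3 : ∀ x' : ↥(Uo : Scheme.{u}), x' ∈ EI fU ↔ Uo.ι.base x' ∈ EI f := by
    intro x'
    have h4 := mem_EI_iff_of_isPullback hsq x'
    have h5 := mem_EI_comp_iff Uo.ι f x'
    rw [← hfU] at h5
    rw [h4]
    exact h5
  refine ⟨Uo.ι.base '' EI fU, ?_, Uo.ι.isOpenEmbedding.isOpenMap _ h2, ⟨⟨x, hxU⟩, ?_, rfl⟩⟩
  · rintro _ ⟨x', hx', rfl⟩
    exact (h3 x').1 hx'
  · exact (h3 ⟨x, hxU⟩).2 hx

end Groth.Agent.Helper5.GPI
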