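import Mathlib
import Groth.Prelude
import Groth.Agent.Helper5.GPIL
import Groth.Agent.Helper5.GPIG
import Groth.Agent.Helper5.GCntK

/-!
# GPIM: a fibre is geometrically integral iff it is geometrically pointwise integral, geometrically
reduced and geometrically connected
-/

set_option autoImplicit false
set_option linter.unusedSectionVars false
set_option linter.unusedVariables false
set_option linter.style.haveILetI false
universe u

namespace Groth.Agent.Helper5.GPI

open CategoryTheory CategoryTheory.Limits AlgebraicGeometry TopologicalSpace Topology

/-- a connected Noetherian quasi-sober space in which the generizations of every point are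
directed is irreducible -/
theorem irreducibleSpace_of_dir {F : Type*} [TopologicalSpace F] [NoetherianSpace F] [QuasiSober F]
    [ConnectedSpace F] (h : ∀ t : F, Dir t) : IrreducibleSpace F := by
  have hfin : (irreducibleComponents F).Finite := NoetherianSpace.finite_irreducibleComponents
  have hgen : ∀ C ∈ irreducibleComponents F, ∃ η : F, closure {η} = C := by
    intro C hC
    obtain ⟨η, hη⟩ := QuasiSober.sober hC.1 (isClosed_of_mem_irreducibleComponents C hC)
    exact ⟨η, hη.def⟩
  have hdisj : ∀ C ∈ irreducibleComponents F, ∀ C' ∈ irreducibleComponents F, ∀ t, t ∈ C → t ∈ C' →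
      C = C' := by
    intro C hC C' hC' t ht ht'
    obtain ⟨η, rfl⟩ := hgen C hC
    obtain ⟨η', rfl⟩ := hgen C' hC'
    have h1 : η ⤳ t := specializes_iff_mem_closure.2 ht
    have h2 : η' ⤳ t := specializes_iff_mem_closure.2 ht'
    obtain ⟨c, hc1, hc2⟩ := h t η η' h1 h2
    have hc : c ∈ irreducibleComponent c := mem_irreducibleComponent
    have hcc : irreducibleComponent c ∈ irreducibleComponents F :=
      irreducibleComponent_mem_irreducibleComponents c
    have e1 : closure {η} ⊆ irreducibleComponent c := by
      apply closure_minimal _ isClosed_irreducibleComponent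
      rw [Set.singleton_subset_iff]
      exact hc1.mem_closed isClosed_irreducibleComponent hc
    have e2 : closure {η'} ⊆ irreducibleComponent c := by
      apply closure_minimal _ isClosed_irreducibleComponent
      rw [Set.singleton_subset_iff]
      exact hc2.mem_closed isClosed_irreducibleComponent hc
    rw [hC.eq_of_subset hcc.1 e1, hC'.eq_of_subset hcc.1 e2]
  obtain ⟨t₀⟩ := (inferInstance : Nonempty F)
  have hC₀ : irreducibleComponent t₀ ∈ irreducibleComponents F :=
    irreducibleComponent_mem_irreducibleComponents t₀
  have hcompl : (irreducibleComponent t₀)ᶜ =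
      ⋃ C ∈ ((irreducibleComponents F) \ {irreducibleComponent t₀}), C := by
    ext s
    simp only [Set.mem_compl_iff, Set.mem_iUnion, Set.mem_sdiff, Set.mem_singleton_iff]
    constructor
    · intro hs
      refine ⟨irreducibleComponent s, ⟨irreducibleComponent_mem_irreducibleComponents s, ?_⟩,
        mem_irreducibleComponent⟩
      intro he
      apply hs
      rw [← he]
      exact mem_irreducibleComponent
    · rintro ⟨C, ⟨hC, hne⟩, hsC⟩ hs
      exact hne (hdisj C hC _ hC₀ s hsC hs)
  have hclosed : IsClosed (irreducibleComponent t₀)ᶜ := by
    rw [hcompl]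
    apply Set.Finite.isClosed_biUnion (hfin.subset Set.sdiff_subset)
    intro C hC
    exact isClosed_of_mem_irreducibleComponents C hC.1
  have hclopen : IsClopen (irreducibleComponent t₀) :=
    ⟨isClosed_irreducibleComponent, isClosed_compl_iff.mp hclosed⟩
  have huniv : irreducibleComponent t₀ = Set.univ :=
    hclopen.eq_univ ⟨t₀, mem_irreducibleComponent⟩
  rw [irreducibleSpace_def]
  show IsIrreducible (Set.univ : Set F)
  rw [← huniv]
  exact isIrreducible_irreducibleComponent

theorem noetherianSpace_of_field {K : Type u} [Field K] {Z : Scheme.{u}}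
    (g : Z ⟶ Spec (CommRingCat.of K)) [LocallyOfFiniteType g] [QuasiCompact g] :
    NoetherianSpace Z := by
  haveI : IsLocallyNoetherian Z := LocallyOfFiniteType.isLocallyNoetherian g
  haveI : CompactSpace Z := QuasiCompact.compactSpace_of_compactSpace g
  haveI : IsNoetherian Z := {}
  infer_instance

/-- core statement over a field -/
theorem geometricallyIntegral_field_iff {k : Type u} [Field k] {X : Scheme.{u}}
    (h : X ⟶ Spec (CommRingCat.of k)) [LocallyOfFiniteType h] [QuasiCompact h] :
    GeometricallyIntegral h ↔
      (∀ x : X, FBase.IsGeomPtIntegralAt h x) ∧ GeometricallyReduced h ∧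
        ConnectedSpace ↥(pullback h (Spec.map (CommRingCat.ofHom
          (algebraMap k (SeparableClosure k))))) := by
  constructor
  · intro hI
    refine ⟨?_, inferInstance, ?_⟩
    · intro x K _ _ x' _
      haveI : IsIntegral (FBase.bc h K) :=
        hI.geometrically_isIntegral (Spec.map (CommRingCat.ofHom (algebraMap k K)))
          (pullback.fst _ _) (pullback.snd _ _) (IsPullback.of_hasPullback _ _)
      infer_instance
    · haveI : GeometricallyIrreducible h := inferInstance
      haveI : IrreducibleSpace ↥(pullback h (Spec.map (CommRingCat.ofHom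
          (algebraMap k (SeparableClosure k))))) :=
        GeometricallyIrreducible.geometrically_irreducibleSpace
          (f := h) (Spec.map (CommRingCat.ofHom (algebraMap k (SeparableClosure k)))) _ _
          (IsPullback.of_hasPullback _ _)
      infer_instance
  · rintro ⟨hpt, hred, hconn⟩
    haveI := hred
    haveI : NoetherianSpace ↥(pullback h (Spec.map (CommRingCat.ofHom
          (algebraMap k (SeparableClosure k))))) :=
      noetherianSpace_of_field (pullback.snd h (Spec.map (CommRingCat.ofHom
          (algebraMap k (SeparableClosure k)))))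
    have hdir : ∀ t : ↥(pullback h (Spec.map (CommRingCat.ofHom
          (algebraMap k (SeparableClosure k))))), Dir t := by
      intro t
      have hd : IsDomain ((FBase.bc h (SeparableClosure k)).presheaf.stalk t) :=
        hpt _ (SeparableClosure k) t rfl
      exact ((isDomain_stalk_iff t).mp hd).2
    haveI : IrreducibleSpace ↥(pullback h (Spec.map (CommRingCat.ofHom
          (algebraMap k (SeparableClosure k))))) := irreducibleSpace_of_dir hdir
    haveI : GeometricallyIrreducible h :=
      Groth.Agent.Helper4.GeomIrrSch.geometricallyIrreducible_of_sepClosure h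
    exact GeometricallyIntegral.of_geometricallyReduced_of_geometricallyIrreducible h

theorem geometricallyIntegral_fiber_iff {X Y : Scheme.{u}} (f : X ⟶ Y) [LocallyOfFiniteType f]
    [QuasiCompact f] (y : Y) :
    GeometricallyIntegral (f.fiberToSpecResidueField y) ↔
      (∀ x : ↥(f.fiber y), FBase.IsGeomPtIntegralAt (f.fiberToSpecResidueField y) x) ∧
        (GeometricallyReduced (f.fiberToSpecResidueField y) ∧ MoreMor.nGeomConnComp f y = 1) := by
  haveI : LocallyOfFiniteType (f.fiberToSpecResidueField y) :=
    inferInstanceAs (LocallyOfFiniteType (Limits.pullback.snd f (Y.fromSpecResidueField y)))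
  haveI : QuasiCompact (f.fiberToSpecResidueField y) :=
    inferInstanceAs (QuasiCompact (Limits.pullback.snd f (Y.fromSpecResidueField y)))
  have h1 := @geometricallyIntegral_field_iff (Y.residueField y) _ (f.fiber y)
    (f.fiberToSpecResidueField y) _ _
  have h2 : ConnectedSpace ↥(pullback (f.fiberToSpecResidueField y) (Spec.map (CommRingCat.ofHom
          (algebraMap (Y.residueField y) (SeparableClosure (Y.residueField y)))))) ↔
      MoreMor.nGeomConnComp f y = 1 := GCnt.connectedSpace_iff_card
  constructor
  · intro hI
    obtain ⟨a, b, c⟩ := h1.mp hI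
    exact ⟨a, b, h2.mp c⟩
  · rintro ⟨a, b, c⟩
    exact h1.mpr ⟨a, b, h2.mpr c⟩

end Groth.Agent.Helper5.GPI
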