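import Groth.Agent.S0414
import Groth.Agent.Helper5.GPIM
import Mathlib

set_option autoImplicit false
universe u
open CategoryTheory CategoryTheory.Limits AlgebraicGeometry Opposite TopologicalSpace

namespace Groth.Agent.Helper5.GUH

theorem genericPoint_mem_of_dense {S : Scheme.{u}} [IrreducibleSpace S] (U : S.Opens)
    (hU : Dense (U : Set S)) : genericPoint S ∈ U := by
  have := ((genericPoint_spec S).mem_open_set_iff U.isOpen).mpr
  apply this
  rw [Set.univ_inter]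
  exact hU.nonempty

/-- Spreading out an inclusion of opens from the generic fibre. -/
theorem exists_open_preimage_subset {X S : Scheme.{u}} (h : X ⟶ S) [IsIntegral S]
    [LocallyOfFiniteType h] [QuasiCompact h] (O D : X.Opens)
    (hOD : (O : Set X) ∩ h ⁻¹' {genericPoint S} ⊆ D) :
    ∃ U : S.Opens, genericPoint S ∈ U ∧ (O : Set X) ∩ h ⁻¹' U ⊆ D := by
  let Zc : TopologicalSpace.Closeds X := ⟨(D : Set X)ᶜ, D.isOpen.isClosed_compl⟩
  obtain ⟨I, hI⟩ : ∃ I, I = Scheme.IdealSheafData.vanishingIdeal Zc := ⟨_, rfl⟩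
  have hrange : Set.range I.subschemeι = (D : Set X)ᶜ := by
    rw [Scheme.IdealSheafData.range_subschemeι, hI,
      Scheme.IdealSheafData.coe_support_vanishingIdeal]
    rfl
  obtain ⟨U, hUd, hUf, -⟩ := Groth.Agent.S0414.result (I.subschemeι ≫ h)
  have hξU : genericPoint S ∈ U := genericPoint_mem_of_dense U hUd
  refine ⟨U, hξU, ?_⟩
  rintro x ⟨hxO, hxU⟩
  by_contra hxD
  obtain ⟨z, rfl⟩ : x ∈ Set.range I.subschemeι := by rw [hrange]; exact hxD
  have hgen : GeneralizingMap ((I.subschemeι ≫ h) ∣_ U) := Flat.generalizingMap _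
  let z₀ : ((I.subschemeι ≫ h) ⁻¹ᵁ U).toScheme := ⟨z, hxU⟩
  let y : U.toScheme := ⟨genericPoint S, hξU⟩
  have hy : y ⤳ ((I.subschemeι ≫ h) ∣_ U) z₀ := by
    rw [← U.ι.isEmbedding.isInducing.specializes_iff]
    exact genericPoint_specializes _
  obtain ⟨z', hz'z, hz'y⟩ := hgen hy
  have h1 : I.subschemeι z'.1 ⤳ I.subschemeι z := by
    have : z'.1 ⤳ z := by
      have := hz'z.map ((I.subschemeι ≫ h) ⁻¹ᵁ U).ι.continuous
      exact this
    exact this.map I.subschemeι.continuous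
  have h2 : h (I.subschemeι z'.1) = genericPoint S := by
    have := morphismRestrict_base_coe (I.subschemeι ≫ h) U z'
    rw [hz'y] at this
    exact this.symm
  have h3 : I.subschemeι z'.1 ∈ (O : Set X) := h1.mem_open O.isOpen hxO
  have h4 : I.subschemeι z'.1 ∈ (D : Set X) := hOD ⟨h3, h2⟩
  have h5 : I.subschemeι z'.1 ∈ (D : Set X)ᶜ := by rw [← hrange]; exact ⟨_, rfl⟩
  exact h5 h4

theorem exists_compact_open_between {X : Scheme.{u}} (K : Set X) (hK : IsCompact K) (O : X.Opens)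
    (hKO : K ⊆ O) :
    ∃ D : X.Opens, K ⊆ D ∧ D ≤ O ∧
      ∀ (V : X.Opens) (s : Γ(X, V)), D ≤ V → IsCompact ((D : Set X) ∩ X.basicOpen s) := by
  have h1 : ∀ x ∈ K, ∃ A : X.Opens, IsAffineOpen A ∧ x ∈ A ∧ A ≤ O := by
    intro x hx
    obtain ⟨_, ⟨A, hA, rfl⟩, hxA, hAO⟩ :=
      X.isBasis_affineOpens.exists_subset_of_mem_open (hKO hx) O.isOpen
    exact ⟨A, hA, hxA, hAO⟩
  choose! A hA hxA hAO using h1
  obtain ⟨t, htK, hKt⟩ := hK.elim_nhds_subcover (fun x => (A x : Set X))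
    (fun x hx => (A x).isOpen.mem_nhds (hxA x hx))
  refine ⟨⨆ x ∈ t, A x, ?_, ?_, ?_⟩
  · intro x hx
    have := hKt hx
    simpa using this
  · exact iSup₂_le fun x hx => hAO x (htK x hx)
  · intro V s hDV
    have : ((⨆ x ∈ t, A x : X.Opens) : Set X) ∩ X.basicOpen s =
        ⋃ x ∈ t, ((A x : Set X) ∩ X.basicOpen s) := by
      simp only [Opens.coe_iSup, Set.iUnion₂_inter]
    rw [this]
    refine t.isCompact_biUnion fun x hx => ?_
    have hAV : A x ≤ V := le_trans (le_iSup₂ (f := fun x _ => A x) x hx) hDV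
    have := Scheme.basicOpen_res (X := X) s (homOfLE hAV).op
    have h2 : ((A x : Set X) ∩ X.basicOpen s) =
        (X.basicOpen (X.presheaf.map (homOfLE hAV).op s) : Set X) := by
      rw [this]; rfl
    rw [h2]
    exact ((hA x (htK x hx)).basicOpen _).isCompact

/-- Generic quasi-separatedness. -/
theorem exists_quasiSeparated_restrict {X S : Scheme.{u}} (h : X ⟶ S) [IsIntegral S] [IsAffine S]
    [LocallyOfFiniteType h] [QuasiCompact h] (U₁ : S.Opens) (hU₁ : genericPoint S ∈ U₁) :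
    ∃ U : S.Opens, genericPoint S ∈ U ∧ U ≤ U₁ ∧ QuasiSeparated (h ∣_ U) := by
  haveI : CompactSpace X := QuasiCompact.compactSpace_of_compactSpace h
  obtain ⟨s, hs, hsU⟩ := (isCompact_and_isOpen_iff_finite_and_eq_biUnion_affineOpens
    (X := X) (U := Set.univ)).mp ⟨isCompact_univ, isOpen_univ⟩
  obtain ⟨ξ, hξ⟩ : ∃ ξ, ξ = genericPoint S := ⟨_, rfl⟩
  rw [← hξ] at hU₁ ⊢
  haveI : LocallyOfFiniteType (h.fiberToSpecResidueField ξ) :=
    inferInstanceAs (LocallyOfFiniteType (pullback.snd h (S.fromSpecResidueField ξ)))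
  haveI : QuasiCompact (h.fiberToSpecResidueField ξ) :=
    inferInstanceAs (QuasiCompact (pullback.snd h (S.fromSpecResidueField ξ)))
  haveI : NoetherianSpace (h.fiber ξ) :=
    Groth.Agent.Helper5.GPI.noetherianSpace_of_field (K := S.residueField ξ)
      (h.fiberToSpecResidueField ξ)
  have hK : ∀ i j : X.affineOpens,
      IsCompact (((i.1 ⊓ j.1 : X.Opens) : Set X) ∩ h ⁻¹' {ξ}) := by
    intro i j
    rw [← h.range_fiberι ξ, ← Set.image_preimage_eq_inter_range]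
    exact (NoetherianSpace.isCompact _).image (h.fiberι ξ).continuous
  have hD : ∀ i j : X.affineOpens, ∃ D : X.Opens,
      (((i.1 ⊓ j.1 : X.Opens) : Set X) ∩ h ⁻¹' {ξ} ⊆ D) ∧ D ≤ i.1 ⊓ j.1 ∧
      ∀ (V : X.Opens) (t : Γ(X, V)), D ≤ V → IsCompact ((D : Set X) ∩ X.basicOpen t) :=
    fun i j => exists_compact_open_between _ (hK i j) _ Set.inter_subset_left
  choose D hD1 hD2 hD3 using hD
  have hUij : ∀ i j : X.affineOpens, ∃ U : S.Opens, ξ ∈ U ∧
      ((i.1 ⊓ j.1 : X.Opens) : Set X) ∩ h ⁻¹' U ⊆ D i j := by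
    intro i j
    have := exists_open_preimage_subset h (i.1 ⊓ j.1) (D i j) (by rw [← hξ]; exact hD1 i j)
    rw [← hξ] at this
    exact this
  choose Uij hUij1 hUij2 using hUij
  have hopen : IsOpen ((U₁ : Set S) ∩ ⋂ i ∈ s, ⋂ j ∈ s, (Uij i j : Set S)) :=
    U₁.isOpen.inter (hs.isOpen_biInter fun i _ => hs.isOpen_biInter fun j _ => (Uij i j).isOpen)
  let U₂ : S.Opens := ⟨_, hopen⟩
  have hξU₂ : ξ ∈ U₂ := by
    refine ⟨hU₁, ?_⟩
    simp only [Set.mem_iInter]
    exact fun i _ j _ => hUij1 i j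
  obtain ⟨b, hbU, hξb⟩ := (isAffineOpen_top S).exists_basicOpen_le ⟨ξ, hξU₂⟩ trivial
  refine ⟨S.basicOpen b, hξb, hbU.trans (fun x hx => hx.1), ?_⟩
  rw [HasAffineProperty.iff_of_isAffine (P := @QuasiSeparated)]
  have hpre : h ⁻¹ᵁ S.basicOpen b = X.basicOpen (h.appTop b) := Scheme.preimage_basicOpen_top h b
  rw [hpre]
  obtain ⟨r, hr⟩ : ∃ r, r = h.appTop b := ⟨_, rfl⟩
  rw [← hr] at hpre ⊢
  refine Scheme.quasiSeparatedSpace_of_isOpenCover (X := (X.basicOpen r).toScheme)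
    (fun i : s => (X.basicOpen r).ι ⁻¹ᵁ i.1.1) ?_ (fun i => i.1.2.ι_basicOpen_preimage r) ?_
  · rw [IsOpenCover, eq_top_iff]
    intro x _
    have hx : x.1 ∈ (Set.univ : Set X) := trivial
    rw [hsU] at hx
    simp only [Set.mem_iUnion] at hx
    obtain ⟨i, hi, hxi⟩ := hx
    exact Opens.mem_iSup.mpr ⟨⟨i, hi⟩, hxi⟩
  · intro i j
    have heq : (((X.basicOpen r).ι ⁻¹ᵁ i.1.1 : (X.basicOpen r).toScheme.Opens) : Set (X.basicOpen r).toScheme) ∩
        ((X.basicOpen r).ι ⁻¹ᵁ j.1.1 : (X.basicOpen r).toScheme.Opens) =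
        (X.basicOpen r).ι ⁻¹' ((D i.1 j.1 : Set X) ∩ X.basicOpen r) := by
      ext x
      constructor
      · rintro ⟨hxi, hxj⟩
        refine ⟨?_, x.2⟩
        apply hUij2 i.1 j.1
        refine ⟨⟨hxi, hxj⟩, ?_⟩
        have hx2 : x.1 ∈ h ⁻¹ᵁ S.basicOpen b := by rw [hpre]; exact x.2
        have hx3 : h x.1 ∈ U₂ := hbU hx2
        have := hx3.2
        simp only [Set.mem_iInter] at this
        exact this i.1 i.2 j.1 j.2
      · rintro ⟨hxD, -⟩
        exact hD2 i.1 j.1 hxD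
    rw [heq, (X.basicOpen r).ι.isEmbedding.isInducing.isCompact_preimage_iff]
    · exact hD3 i.1 j.1 ⊤ r le_top
    · rw [Scheme.Opens.range_ι]
      exact Set.inter_subset_right

end Groth.Agent.Helper5.GUH
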