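import Groth.Agent.Helper5.GUHb
import Groth.Agent.Helper5.GUHc
import Groth.Agent.Helper5.GUHd
import Mathlib

set_option autoImplicit false
universe u
open CategoryTheory CategoryTheory.Limits AlgebraicGeometry Opposite TopologicalSpace

namespace Groth.Agent.Helper5.GUH

theorem prop_of_isPullback_of_restrict (P : MorphismProperty Scheme.{u}) [P.IsStableUnderBaseChange]
    {X S T Z : Scheme.{u}} (h : X ⟶ S) (U : S.Opens) (hP : P (h ∣_ U)) (j : T ⟶ S)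
    (hj : Set.range j ⊆ U) (a : Z ⟶ X) (H : Z ⟶ T) (sq : IsPullback a H h j) : P H := by
  obtain ⟨j', rfl⟩ : ∃ j' : T ⟶ U.toScheme, j' ≫ U.ι = j :=
    ⟨IsOpenImmersion.lift U.ι j (by rwa [Scheme.Opens.range_ι]), IsOpenImmersion.lift_fac _ _ _⟩
  exact MorphismProperty.of_isPullback
    (IsPullback.of_right' sq (isPullback_morphismRestrict h U).flip) hP

theorem exists_reduction {X Y S Y' : Scheme.{u}} (f : X ⟶ Y) (s₀ : S ⟶ Y) (j : Y' ⟶ S)
    [IsOpenImmersion j] (t : Y' ⟶ Y) (ht : t = j ≫ s₀) :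
    ∃ (X' : Scheme.{u}) (r : X' ⟶ pullback f t)
      (a : X' ⟶ (pullback f s₀).nilradical.subscheme),
      IsClosedImmersion r ∧ Surjective r ∧ IsReduced X' ∧
      IsPullback a (r ≫ pullback.snd f t)
        ((pullback f s₀).nilradical.subschemeι ≫ pullback.snd f s₀) j := by
  subst ht
  haveI := Groth.Agent.S4370.isReduced_nilradical_subscheme (pullback f s₀)
  haveI := Groth.Agent.S4370.surjective_nilradical_subschemeι (pullback f s₀)
  obtain ⟨ι₀, hι₀⟩ : ∃ ι₀, ι₀ = (pullback f s₀).nilradical.subschemeι := ⟨_, rfl⟩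
  haveI : IsClosedImmersion ι₀ := hι₀ ▸ inferInstance
  haveI : Surjective ι₀ := hι₀ ▸ inferInstance
  rw [← hι₀]
  obtain ⟨a₀, ha₀⟩ : ∃ a₀ : pullback f (j ≫ s₀) ⟶ pullback f s₀,
      a₀ = pullback.lift (pullback.fst f (j ≫ s₀)) (pullback.snd f (j ≫ s₀) ≫ j)
        (by rw [Category.assoc, pullback.condition]) := ⟨_, rfl⟩
  have ha₀1 : a₀ ≫ pullback.fst f s₀ = pullback.fst f (j ≫ s₀) := by
    rw [ha₀, pullback.lift_fst]
  have ha₀2 : a₀ ≫ pullback.snd f s₀ = pullback.snd f (j ≫ s₀) ≫ j := by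
    rw [ha₀, pullback.lift_snd]
  have sqB : IsPullback a₀ (pullback.snd f (j ≫ s₀)) (pullback.snd f s₀) j := by
    refine IsPullback.of_right ?_ ha₀2 (IsPullback.of_hasPullback f s₀)
    rw [ha₀1]
    exact IsPullback.of_hasPullback f (j ≫ s₀)
  obtain ⟨r, hr⟩ : ∃ r : pullback (ι₀ ≫ pullback.snd f s₀) j ⟶ pullback f (j ≫ s₀),
      r = sqB.lift (pullback.fst (ι₀ ≫ pullback.snd f s₀) j ≫ ι₀)
        (pullback.snd (ι₀ ≫ pullback.snd f s₀) j)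
        (by rw [Category.assoc]; exact pullback.condition) := ⟨_, rfl⟩
  have hr1 : r ≫ a₀ = pullback.fst (ι₀ ≫ pullback.snd f s₀) j ≫ ι₀ := by
    rw [hr]; exact sqB.lift_fst _ _ _
  have hr2 : r ≫ pullback.snd f (j ≫ s₀) = pullback.snd (ι₀ ≫ pullback.snd f s₀) j := by
    rw [hr]; exact sqB.lift_snd _ _ _
  have sqT : IsPullback (pullback.fst (ι₀ ≫ pullback.snd f s₀) j) r ι₀ a₀ := by
    refine IsPullback.of_bot ?_ hr1.symm sqB
    rw [hr2]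
    exact IsPullback.of_hasPullback (ι₀ ≫ pullback.snd f s₀) j
  refine ⟨pullback (ι₀ ≫ pullback.snd f s₀) j, r, pullback.fst (ι₀ ≫ pullback.snd f s₀) j,
    MorphismProperty.of_isPullback sqT inferInstance,
    MorphismProperty.of_isPullback sqT inferInstance, ?_, ?_⟩
  · haveI : IsReduced (pullback f s₀).nilradical.subscheme := inferInstance
    exact isReduced_of_isOpenImmersion (pullback.fst (ι₀ ≫ pullback.snd f s₀) j)
  · rw [hr2]
    exact IsPullback.of_hasPullback (ι₀ ≫ pullback.snd f s₀) j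

theorem assemble {X Y : Scheme.{u}} (f : X ⟶ Y) [LocallyOfFiniteType f] [QuasiCompact f]
    (V₀ : Y.Opens) {S : Scheme.{u}} [IsIntegral S] [IsAffine S] (g₀ : S ⟶ V₀.toScheme)
    [IsFinite g₀] (hUH : FlatMor.IsUnivHomeo g₀)
    (hgr : GeometricallyReduced
      (((pullback f (g₀ ≫ V₀.ι)).nilradical.subschemeι ≫
        pullback.snd f (g₀ ≫ V₀.ι)).fiberToSpecResidueField (genericPoint S))) :
    ∃ (V : Y.Opens) (Y' : Scheme.{u}) (g : Y' ⟶ (V : Scheme.{u})) (X' : Scheme.{u})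
      (r : X' ⟶ pullback f (g ≫ V.ι)) (hY' : IsIntegral Y'),
      (V : Set ↑Y).Nonempty ∧ IsAffine Y' ∧ IsFinite g ∧ FlatMor.IsUnivHomeo g ∧
      IsClosedImmersion r ∧ Surjective r ∧ IsReduced X' ∧
      Flat (r ≫ pullback.snd f (g ≫ V.ι)) ∧
      LocallyOfFinitePresentation (r ≫ pullback.snd f (g ≫ V.ι)) ∧
      QuasiCompact (r ≫ pullback.snd f (g ≫ V.ι)) ∧
      QuasiSeparated (r ≫ pullback.snd f (g ≫ V.ι)) ∧
      GeometricallyReduced
        ((r ≫ pullback.snd f (g ≫ V.ι)).fiberToSpecResidueField (genericPoint ↑Y')) := by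
  obtain ⟨s₀, hs₀⟩ : ∃ s₀, s₀ = g₀ ≫ V₀.ι := ⟨_, rfl⟩
  rw [← hs₀] at hgr
  obtain ⟨h₀, hh₀⟩ : ∃ h₀, h₀ = (pullback f s₀).nilradical.subschemeι ≫ pullback.snd f s₀ :=
    ⟨_, rfl⟩
  rw [← hh₀] at hgr
  haveI : LocallyOfFiniteType h₀ := by rw [hh₀]; infer_instance
  haveI : QuasiCompact h₀ := by rw [hh₀]; infer_instance
  obtain ⟨U₁, hU₁d, hU₁f, hU₁p⟩ := Groth.Agent.S0414.result h₀
  have hξU₁ := genericPoint_mem_of_dense U₁ hU₁d
  obtain ⟨U₂, hξU₂, hU₂₁, hU₂q⟩ := exists_quasiSeparated_restrict h₀ U₁ hξU₁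
  have hhomeo : IsHomeomorph g₀ := hUH (𝟙 _) (𝟙 _) g₀ IsPullback.of_id_snd
  have hO : IsOpen (g₀ '' (U₂ : Set S)) := hhomeo.isOpenMap _ U₂.isOpen
  obtain ⟨_, ⟨W, hW, rfl⟩, hξW, hWO⟩ :=
    V₀.toScheme.isBasis_affineOpens.exists_subset_of_mem_open
      (Set.mem_image_of_mem g₀ hξU₂) hO
  have hTU₂ : ((g₀ ⁻¹ᵁ W : S.Opens) : Set S) ⊆ U₂ := by
    intro x hx
    obtain ⟨u, hu, hux⟩ := hWO hx
    rw [← hhomeo.injective hux]
    exact hu
  haveI : Nonempty (g₀ ⁻¹ᵁ W : S.Opens) := ⟨⟨genericPoint S, hξW⟩⟩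
  have hTaff : IsAffineOpen (g₀ ⁻¹ᵁ W) := hW.preimage g₀
  have hrange : Set.range (g₀ ⁻¹ᵁ W).ι ⊆ U₂ := by
    rw [Scheme.Opens.range_ι]; exact hTU₂
  refine ⟨V₀.ι ''ᵁ W, (g₀ ⁻¹ᵁ W).toScheme, (g₀ ∣_ W) ≫ (V₀.ι.isoImage W).hom, ?_⟩
  have hgι : ((g₀ ∣_ W) ≫ (V₀.ι.isoImage W).hom) ≫ (V₀.ι ''ᵁ W).ι = (g₀ ⁻¹ᵁ W).ι ≫ s₀ := by
    rw [Category.assoc, Scheme.Hom.isoImage_hom_ι, ← Category.assoc, morphismRestrict_ι,
      Category.assoc, hs₀]
  obtain ⟨X', r, a, hr1, hr2, hr3, sq⟩ := exists_reduction f s₀ (g₀ ⁻¹ᵁ W).ι _ hgι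
  rw [← hh₀] at sq
  haveI := isUnivHomeo_respectsIso.{u}
  haveI := isUnivHomeo_isStableUnderBaseChange.{u}
  refine ⟨X', r, inferInstance, ?_, hTaff, inferInstance, ?_, hr1, hr2, hr3, ?_, ?_, ?_, ?_, ?_⟩
  · exact ⟨V₀.ι (g₀ (genericPoint S)), ⟨g₀ (genericPoint S), hξW, rfl⟩⟩
  · have h1 : FlatMor.IsUnivHomeo (g₀ ∣_ W) :=
      MorphismProperty.of_isPullback (isPullback_morphismRestrict g₀ W).flip hUH
    exact (MorphismProperty.cancel_right_of_respectsIso _ _ _).mpr h1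
  · exact prop_of_isPullback_of_restrict @Flat h₀ U₁ hU₁f _ (hrange.trans hU₂₁) a _ sq
  · exact prop_of_isPullback_of_restrict @LocallyOfFinitePresentation h₀ U₁ hU₁p _
      (hrange.trans hU₂₁) a _ sq
  · infer_instance
  · exact prop_of_isPullback_of_restrict @QuasiSeparated h₀ U₂ hU₂q _ hrange a _ sq
  · have hj : (g₀ ⁻¹ᵁ W).ι (genericPoint (g₀ ⁻¹ᵁ W).toScheme) = genericPoint S :=
      genericPoint_eq_of_isOpenImmersion _
    have sqF := isPullback_fiberToSpecResidueField_of_isPullback sq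
      (genericPoint (g₀ ⁻¹ᵁ W).toScheme)
    have hgr' : GeometricallyReduced (h₀.fiberToSpecResidueField
        ((g₀ ⁻¹ᵁ W).ι (genericPoint (g₀ ⁻¹ᵁ W).toScheme))) := by
      rw [hj]; exact hgr
    exact MorphismProperty.of_isPullback sqF hgr'

end Groth.Agent.Helper5.GUH
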