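import Groth.Agent.Helper5.GCIb
import Groth.Agent.Helper5.GUHe
import Groth.Agent.S0419
import Groth.Agent.S0434
import Groth.Agent.S0414
import Mathlib

set_option autoImplicit false
set_option linter.style.haveILetI false
universe u
open CategoryTheory CategoryTheory.Limits AlgebraicGeometry Opposite TopologicalSpace

namespace Groth.Agent.Helper5.GCI

theorem range_morphismRestrict {X Y : Scheme.{u}} (f : X ⟶ Y) (U : Y.Opens) :
    Set.range (f ∣_ U) = U.ι ⁻¹' Set.range f := by
  ext y
  constructor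
  · rintro ⟨t, rfl⟩
    show U.ι ((f ∣_ U) t) ∈ Set.range f
    rw [← Scheme.Hom.comp_apply, morphismRestrict_ι, Scheme.Hom.comp_apply]
    exact ⟨_, rfl⟩
  · rintro ⟨z, hz⟩
    have hzO : z ∈ f ⁻¹ᵁ U := by
      show f z ∈ U
      rw [hz]; exact y.2
    let z₀ : (f ⁻¹ᵁ U).toScheme := ⟨z, hzO⟩
    refine ⟨z₀, U.ι.isEmbedding.injective ?_⟩
    rw [← Scheme.Hom.comp_apply, morphismRestrict_ι, Scheme.Hom.comp_apply]
    exact hz

/-- Restricting a property of `g ∣_ V` to a smaller open. -/
theorem restrict_of_le (P : MorphismProperty Scheme.{u}) [P.IsStableUnderBaseChange]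
    {X Y : Scheme.{u}} (g : X ⟶ Y) {V W' : Y.Opens} (hle : W' ≤ V) (h : P (g ∣_ V)) :
    P (g ∣_ W') :=
  Groth.Agent.Helper5.GUH.prop_of_isPullback_of_restrict P g V h W'.ι
    (by rw [Scheme.Opens.range_ι]; exact hle) (g ⁻¹ᵁ W').ι (g ∣_ W')
    (isPullback_morphismRestrict g W').flip

theorem genericPoint_mem_of_nonempty {Y : Scheme.{u}} [IrreducibleSpace Y] (V : Y.Opens)
    (hV : (V : Set Y).Nonempty) : genericPoint Y ∈ V :=
  ((genericPoint_spec Y).mem_open_set_iff V.isOpen).mpr (by rw [Set.univ_inter]; exact hV)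

theorem eq_genericPoint_of_specializes {Y : Scheme.{u}} [IrreducibleSpace Y] (η' : Y)
    (h : η' ⤳ genericPoint Y) : η' = genericPoint Y :=
  (h.antisymm ((genericPoint_spec Y).specializes (Set.mem_univ η'))).eq

/-- The hypothesis (P1): the irreducible components of the generic fibre are geometrically
irreducible. -/
def P1 {T Y : Scheme.{u}} (t : T ⟶ Y) (η : Y) : Prop :=
  ∀ (A : Set ↥(t.fiber η)) (hA : A ∈ irreducibleComponents ↥(t.fiber η)),
    GeometricallyIrreducible
      ((Scheme.IdealSheafData.vanishingIdeal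
        ⟨A, isClosed_of_mem_irreducibleComponents A hA⟩).subschemeι ≫
        t.fiberToSpecResidueField η)

theorem exists_open_component {T Y X₂ : Scheme.{u}} (t : T ⟶ Y) [IsIntegral Y] [IsNoetherian Y]
    [LocallyOfFiniteType t] [QuasiCompact t] (hP1 : P1 t (genericPoint Y))
    (r : X₂ ⟶ T) [IsClosedImmersion r] [Surjective r] [IsReduced X₂]
    [GeometricallyReduced (pullback.snd (r ≫ t) (Y.fromSpecResidueField (genericPoint Y)))]
    (C : Set T) (hC : C ∈ irreducibleComponents T) :
    ∃ W : Y.Opens, genericPoint Y ∈ W ∧ ∀ W' : Y.Opens, W' ≤ W →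
      (t ⁻¹' (W' : Set Y) ∩ C = ∅ ∨
        (Flat (((Scheme.IdealSheafData.vanishingIdeal
            ⟨C, isClosed_of_mem_irreducibleComponents C hC⟩).subschemeι ≫ t) ∣_ W') ∧
         GeometricallyIrreducible (((Scheme.IdealSheafData.vanishingIdeal
            ⟨C, isClosed_of_mem_irreducibleComponents C hC⟩).subschemeι ≫ t) ∣_ W') ∧
         GeometricallyReduced (((Scheme.IdealSheafData.vanishingIdeal
            ⟨C, isClosed_of_mem_irreducibleComponents C hC⟩).subschemeι ≫ t) ∣_ W'))) := by
  obtain ⟨ιC, hιC⟩ : ∃ ιC, ιC = (Scheme.IdealSheafData.vanishingIdeal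
      ⟨C, isClosed_of_mem_irreducibleComponents C hC⟩).subschemeι := ⟨_, rfl⟩
  rw [← hιC]
  haveI : IsClosedImmersion ιC := hιC ▸ inferInstance
  haveI : IsReduced (Scheme.IdealSheafData.vanishingIdeal
      ⟨C, isClosed_of_mem_irreducibleComponents C hC⟩).subscheme :=
    Groth.Agent.Helper5.GSS.isReduced_vanishingIdeal_subscheme _
  have hrC : Set.range ιC = C := by
    rw [hιC]; exact Groth.Agent.Helper5.GSS.range_vanishingIdeal_subschemeι _
  -- the generic point of `C`
  have hCcl : IsClosed C := isClosed_of_mem_irreducibleComponents C hC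
  obtain ⟨ξ, hξ⟩ : ∃ ξ : T, closure {ξ} = C :=
    ⟨hC.1.genericPoint, (hC.1.isGenericPoint_genericPoint hCcl)⟩
  set η := genericPoint Y with hη
  by_cases hξη : t ξ = η
  · -- dominant component
    haveI : IsLocallyNoetherian T := LocallyOfFiniteType.isLocallyNoetherian t
    haveI : CompactSpace T := QuasiCompact.compactSpace_of_compactSpace t
    haveI : IsNoetherian T := ⟨⟩
    haveI : IsLocallyNoetherian X₂ := LocallyOfFiniteType.isLocallyNoetherian (r ≫ t)
    haveI : CompactSpace X₂ := QuasiCompact.compactSpace_of_compactSpace (r ≫ t)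
    haveI : IsNoetherian X₂ := ⟨⟩
    haveI : Finite (irreducibleComponents X₂) := NoetherianSpace.finite_irreducibleComponents
    have hC' : Set.range ιC ∈ irreducibleComponents T := by rw [hrC]; exact hC
    have hgi : GeometricallyIrreducible ((ιC ≫ t).fiberToSpecResidueField η) :=
      geomIrr_component_fiber t η hP1 ιC hC' ξ (hξ.trans hrC.symm) hξη
    -- factor through `X₂`
    haveI : Surjective (pullback.snd r ιC) := inferInstance
    haveI : IsIso (pullback.snd r ιC) := isIso_of_isClosedImmersion_of_surjective _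
    obtain ⟨j, hj⟩ : ∃ j, j = inv (pullback.snd r ιC) ≫ pullback.fst r ιC := ⟨_, rfl⟩
    haveI : IsClosedImmersion j := by rw [hj]; infer_instance
    have hjr : j ≫ r = ιC := by
      rw [hj, Category.assoc, pullback.condition, IsIso.inv_hom_id_assoc]
    have hrinj : Function.Injective r := r.isClosedEmbedding.injective
    have hrange_j : Set.range j = r ⁻¹' C := by
      have h1 : Set.range j = r ⁻¹' (Set.range ιC) := by
        rw [← hjr, Scheme.Hom.comp_base, TopCat.coe_comp, Set.range_comp,
          Set.preimage_image_eq _ hrinj]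
      rw [h1, hrC]
    obtain ⟨ξ₂, hξ₂⟩ := r.surjective ξ
    have hcl₂ : closure {ξ₂} = Set.range j := by
      rw [hrange_j, r.isClosedEmbedding.isInducing.closure_eq_preimage_closure_image,
        Set.image_singleton, hξ₂, hξ]
    have hC₂ : Set.range j ∈ irreducibleComponents X₂ := by
      rw [hrange_j]
      exact preimage_mem_irreducibleComponents_of_isInducing r.isClosedEmbedding.isInducing hC ξ₂
        (by rw [hξ₂]; exact hξ)
    have hηgen : ∀ η' : Y, η' ⤳ η → η' = η := fun η' h => eq_genericPoint_of_specializes η' h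
    have hξ₂η : (r ≫ t) ξ₂ = η := by
      rw [Scheme.Hom.comp_apply, hξ₂, hξη]
    have hcomp : j ≫ r ≫ t = ιC ≫ t := by rw [← Category.assoc, hjr]
    haveI := hgi
    haveI : IrreducibleSpace ↥(pullback (j ≫ r ≫ t) (Y.fromSpecResidueField η)) := by
      rw [hcomp]
      exact @GeometricallyIrreducible.irreducibleSpace_of_subsingleton _ _
        ((ιC ≫ t).fiberToSpecResidueField η) hgi inferInstance inferInstance
    have hgr : GeometricallyReduced ((ιC ≫ t).fiberToSpecResidueField η) := by
      have := geomRed_component_fiber (r ≫ t) η hηgen j hC₂ ξ₂ hcl₂ hξ₂η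
      rw [hcomp] at this
      exact this
    obtain ⟨Va, hVa, hPa⟩ := Groth.Agent.S0419.result (ιC ≫ t) hgi
    obtain ⟨Vb, hVb, hPb⟩ := Groth.Agent.S0434.result (ιC ≫ t) hgr
    obtain ⟨Vc, hVc, hPc, -⟩ := Groth.Agent.S0414.result (ιC ≫ t)
    refine ⟨Va ⊓ Vb ⊓ Vc, ⟨⟨genericPoint_mem_of_nonempty Va hVa,
      genericPoint_mem_of_nonempty Vb hVb⟩, genericPoint_mem_of_nonempty Vc hVc.nonempty⟩,
      fun W' hW' => Or.inr ⟨?_, ?_, ?_⟩⟩
    · exact restrict_of_le @Flat (ιC ≫ t) (hW'.trans inf_le_right) hPc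
    · exact restrict_of_le @GeometricallyIrreducible (ιC ≫ t)
        (hW'.trans (inf_le_left.trans inf_le_left)) hPa
    · exact restrict_of_le @GeometricallyReduced (ιC ≫ t)
        (hW'.trans (inf_le_left.trans inf_le_right)) hPb
  · -- non-dominant component
    refine ⟨⟨(closure {t ξ})ᶜ, isClosed_closure.isOpen_compl⟩, ?_, fun W' hW' => Or.inl ?_⟩
    · intro (hmem : η ∈ closure {t ξ})
      have : t ξ ⤳ η := specializes_iff_mem_closure.mpr hmem
      exact hξη (eq_genericPoint_of_specializes _ this)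
    · rw [Set.eq_empty_iff_forall_notMem]
      rintro x ⟨hxW, hxC⟩
      have h1 : ξ ⤳ x := specializes_iff_mem_closure.mpr (hξ ▸ hxC)
      have h2 : t ξ ⤳ t x := h1.map t.continuous
      exact hW' hxW (specializes_iff_mem_closure.mp h2)

end Groth.Agent.Helper5.GCI
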