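import Groth.Agent.Helper5.GFEd
import Mathlib

set_option autoImplicit false
universe u
open CategoryTheory CategoryTheory.Limits AlgebraicGeometry Opposite

namespace Groth.Agent.Helper5.GFE

open Polynomial

section

variable {Y : Scheme.{u}} {V : Y.Opens} (hV : IsAffineOpen V) (P : Γ(Y, V)[X])

/-- The prime of a point of `Spec A[X]/(P)` over `η` is determined by `η` when the reduction of
`P` at `η` is irreducible. -/
theorem asIdeal_eq_of_strMap_eq (η : Y) (hη : η ∈ V)
    (hirr : Irreducible (P.map (Y.evaluation V η hη).hom))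
    (y : Spec (CommRingCat.of (AdjoinRoot P))) (hy : strMap hV (AdjoinRoot P) y = η) :
    y.asIdeal = RingHom.ker (AdjoinRoot.map (Y.evaluation V η hη).hom P
      (P.map (Y.evaluation V η hη).hom) dvd_rfl) := by
  subst hy
  have hc := evalAt_comp hV (AdjoinRoot P) y
  rw [AdjoinRoot.algebraMap_eq] at hc
  rw [← ker_evalAt]
  exact (ker_eq_of_compat _ P hirr (evalAt (AdjoinRoot P) y) _ hc).1

theorem eq_of_strMap_eq (η : Y) (hη : η ∈ V)
    (hirr : Irreducible (P.map (Y.evaluation V η hη).hom))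
    (y₁ y₂ : Spec (CommRingCat.of (AdjoinRoot P))) (h₁ : strMap hV (AdjoinRoot P) y₁ = η)
    (h₂ : strMap hV (AdjoinRoot P) y₂ = η) : y₁ = y₂ := by
  apply PrimeSpectrum.ext
  exact (asIdeal_eq_of_strMap_eq hV P η hη hirr y₁ h₁).trans
    (asIdeal_eq_of_strMap_eq hV P η hη hirr y₂ h₂).symm

/-- The residue field at a point over `η` receives `K[X]/(p)` compatibly. -/
theorem exists_theta (η : Y) (hη : η ∈ V)
    (hirr : Irreducible (P.map (Y.evaluation V η hη).hom))
    (y : Spec (CommRingCat.of (AdjoinRoot P))) (hy : strMap hV (AdjoinRoot P) y = η) :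
    ∃ θ : AdjoinRoot (P.map (Y.evaluation V η hη).hom) →+*
        (Spec (CommRingCat.of (AdjoinRoot P))).residueField y,
      Spec.map (CommRingCat.ofHom (θ.comp (AdjoinRoot.of (P.map (Y.evaluation V η hη).hom)))) ≫
          Y.fromSpecResidueField η =
        (Spec (CommRingCat.of (AdjoinRoot P))).fromSpecResidueField y ≫
          strMap hV (AdjoinRoot P) := by
  subst hy
  have hc := evalAt_comp hV (AdjoinRoot P) y
  rw [AdjoinRoot.algebraMap_eq] at hc
  obtain ⟨-, θ, hθ, -⟩ := ker_eq_of_compat _ P hirr (evalAt (AdjoinRoot P) y) _ hc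
  refine ⟨θ, ?_⟩
  rw [hθ]
  exact Scheme.Hom.SpecMap_residueFieldMap_fromSpecResidueField (strMap hV (AdjoinRoot P)) y

end

end Groth.Agent.Helper5.GFE

namespace Groth.Agent.Helper5.GFE

open Polynomial

section

variable {Y : Scheme.{u}} {V : Y.Opens} (hV : IsAffineOpen V) (P : Γ(Y, V)[X])

theorem flat_strMap (hP : P.Monic) : Flat (strMap hV (AdjoinRoot P)) := by
  haveI : Flat (Spec.map (CommRingCat.ofHom (algebraMap Γ(Y, V) (AdjoinRoot P)))) := by
    rw [Flat.SpecMap_iff]
    show (algebraMap Γ(Y, V) (AdjoinRoot P)).Flat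
    rw [RingHom.flat_algebraMap_iff]
    haveI := hP.free_adjoinRoot
    infer_instance
  unfold strMap
  infer_instance

theorem exists_strMap_eq (hP : P.Monic) (hdeg : P.natDegree ≠ 0) (η : Y) (hη : η ∈ V) :
    ∃ y₀ : Spec (CommRingCat.of (AdjoinRoot P)), strMap hV (AdjoinRoot P) y₀ = η := by
  haveI := surjective_coverMap hV P hP hdeg
  obtain ⟨y₀, hy₀⟩ := (coverMap hV P).surjective ⟨η, hη⟩
  refine ⟨y₀, ?_⟩
  rw [← coverMap_ι, Scheme.Hom.comp_apply, hy₀]
  rfl

theorem specializes_of_strMap_eq [IrreducibleSpace Y] (hη : genericPoint Y ∈ V) (hP : P.Monic)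
    (hirr : Irreducible (P.map (Y.evaluation V (genericPoint Y) hη).hom))
    (y₀ : Spec (CommRingCat.of (AdjoinRoot P)))
    (hy₀ : strMap hV (AdjoinRoot P) y₀ = genericPoint Y)
    (y : Spec (CommRingCat.of (AdjoinRoot P))) : y₀ ⤳ y := by
  haveI := flat_strMap hV P hP
  have hgen : GeneralizingMap (strMap hV (AdjoinRoot P)) := Flat.generalizingMap _
  have h1 : genericPoint Y ⤳ strMap hV (AdjoinRoot P) y := genericPoint_specializes _
  obtain ⟨y', hy', hy'η⟩ := hgen h1
  rwa [eq_of_strMap_eq hV P _ hη hirr y' y₀ hy'η hy₀] at hy'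

include hV in
theorem irreducibleSpace_cover [IrreducibleSpace Y] (hη : genericPoint Y ∈ V) (hP : P.Monic)
    (hdeg : P.natDegree ≠ 0)
    (hirr : Irreducible (P.map (Y.evaluation V (genericPoint Y) hη).hom)) :
    IrreducibleSpace (Spec (CommRingCat.of (AdjoinRoot P))) := by
  obtain ⟨y₀, hy₀⟩ := exists_strMap_eq hV P hP hdeg (genericPoint Y) hη
  rw [irreducibleSpace_def]
  have : (Set.univ : Set (Spec (CommRingCat.of (AdjoinRoot P)))) = closure {y₀} := by
    symm
    rw [Set.eq_univ_iff_forall]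
    intro y
    exact (specializes_of_strMap_eq hV P hη hP hirr y₀ hy₀ y).mem_closure
  change IsIrreducible Set.univ
  rw [this]
  exact isIrreducible_singleton.closure

theorem strMap_genericPoint [IrreducibleSpace Y] (hη : genericPoint Y ∈ V) (hP : P.Monic)
    (hdeg : P.natDegree ≠ 0)
    [IrreducibleSpace (Spec (CommRingCat.of (AdjoinRoot P)))] :
    strMap hV (AdjoinRoot P) (genericPoint (Spec (CommRingCat.of (AdjoinRoot P)))) =
      genericPoint Y := by
  obtain ⟨y₀, hy₀⟩ := exists_strMap_eq hV P hP hdeg (genericPoint Y) hη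
  have h1 : genericPoint (Spec (CommRingCat.of (AdjoinRoot P))) ⤳ y₀ := genericPoint_specializes _
  have h2 := h1.map (strMap hV (AdjoinRoot P)).continuous
  rw [hy₀] at h2
  exact (h2.antisymm (genericPoint_specializes _)).eq

end

end Groth.Agent.Helper5.GFE
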