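import Groth.Agent.Helper5.GFEb
import Mathlib

set_option autoImplicit false
universe u
open CategoryTheory CategoryTheory.Limits AlgebraicGeometry Opposite

namespace Groth.Agent.Helper5.GFE

open Polynomial

variable (Y : Scheme.{u}) (η : Y)

theorem evaluation_res {U U' : Y.Opens} (hle : U' ≤ U) (hη : η ∈ U') :
    (Y.evaluation U' η hη).hom.comp (Y.presheaf.map (homOfLE hle).op).hom =
      (Y.evaluation U η (hle hη)).hom := by
  rw [← CommRingCat.hom_comp]
  congr 1
  unfold Scheme.evaluation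
  rw [TopCat.Presheaf.germ_res_assoc]

theorem exists_evaluation_eq (x : Y.residueField η) :
    ∃ (U : Y.Opens) (_ : IsAffineOpen U) (hη : η ∈ U) (a : Γ(Y, U)),
      (Y.evaluation U η hη).hom a = x := by
  obtain ⟨s, rfl⟩ := Y.residue_surjective η x
  obtain ⟨U₀, hη₀, a₀, rfl⟩ := Y.presheaf.exists_germ_eq s
  obtain ⟨_, ⟨U, hU, rfl⟩, hηU, hUU₀⟩ :=
    Y.isBasis_affineOpens.exists_subset_of_mem_open hη₀ U₀.isOpen
  refine ⟨U, hU, hηU, Y.presheaf.map (homOfLE hUU₀).op a₀, ?_⟩
  have := evaluation_res Y η (U := U₀) (U' := U) hUU₀ hηU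
  have h2 := RingHom.congr_fun this a₀
  exact h2

theorem lifts_mono {U U' : Y.Opens} (hle : U' ≤ U) (hη : η ∈ U') (q : (Y.residueField η)[X])
    (hq : q ∈ Polynomial.lifts (Y.evaluation U η (hle hη)).hom) :
    q ∈ Polynomial.lifts (Y.evaluation U' η hη).hom := by
  rw [Polynomial.mem_lifts] at hq ⊢
  obtain ⟨Q, rfl⟩ := hq
  refine ⟨Q.map (Y.presheaf.map (homOfLE hle).op).hom, ?_⟩
  rw [Polynomial.map_map, evaluation_res]

theorem exists_lifts (q : (Y.residueField η)[X]) :
    ∃ (U : Y.Opens) (_ : IsAffineOpen U) (hη : η ∈ U),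
      q ∈ Polynomial.lifts (Y.evaluation U η hη).hom := by
  induction q using Polynomial.induction_on' with
  | add q₁ q₂ h₁ h₂ =>
    obtain ⟨U₁, -, hη₁, hq₁⟩ := h₁
    obtain ⟨U₂, -, hη₂, hq₂⟩ := h₂
    obtain ⟨_, ⟨U, hU, rfl⟩, hηU, hUU⟩ :=
      Y.isBasis_affineOpens.exists_subset_of_mem_open
        (show η ∈ (U₁ ⊓ U₂ : Y.Opens) from ⟨hη₁, hη₂⟩) (U₁ ⊓ U₂).isOpen
    have hle₁ : U ≤ U₁ := fun z hz => (hUU hz).1
    have hle₂ : U ≤ U₂ := fun z hz => (hUU hz).2
    exact ⟨U, hU, hηU, Subsemiring.add_mem _ (lifts_mono Y η hle₁ hηU q₁ hq₁)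
      (lifts_mono Y η hle₂ hηU q₂ hq₂)⟩
  | monomial n x =>
    obtain ⟨U, hU, hη, a, ha⟩ := exists_evaluation_eq Y η x
    exact ⟨U, hU, hη, Polynomial.monomial_mem_lifts n ⟨a, ha⟩⟩

/-- A monic polynomial over the residue field lifts to a monic polynomial over an affine open
neighbourhood. -/
theorem exists_monic_lift (p : (Y.residueField η)[X]) (hp : p.Monic) :
    ∃ (U : Y.Opens) (_ : IsAffineOpen U) (hη : η ∈ U) (P : Γ(Y, U)[X]),
      P.Monic ∧ P.map (Y.evaluation U η hη).hom = p := by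
  obtain ⟨U, hU, hη, hl⟩ := exists_lifts Y η p
  obtain ⟨P, hP1, -, hP2⟩ := Polynomial.lifts_and_degree_eq_and_monic hl hp
  exact ⟨U, hU, hη, P, hP2, hP1⟩

/-- A monic separable polynomial over the residue field lifts to a monic separable polynomial
over an affine open neighbourhood. -/
theorem exists_monic_separable_lift (p : (Y.residueField η)[X]) (hp : p.Monic)
    (hsep : p.Separable) (hdeg : p.natDegree ≠ 0) :
    ∃ (V : Y.Opens) (_ : IsAffineOpen V) (hη : η ∈ V) (P : Γ(Y, V)[X]),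
      P.Monic ∧ P.Separable ∧ P.natDegree ≠ 0 ∧ P.map (Y.evaluation V η hη).hom = p := by
  obtain ⟨U, hU, hη, P, hP, hPp⟩ := exists_monic_lift Y η p hp
  set m := P.natDegree with hm
  have hmp : p.natDegree = m := by rw [← hPp, hP.natDegree_map]
  set d := P.resultant (derivative P) m (m - 1) with hd
  have hed : (Y.evaluation U η hη).hom d = p.resultant (derivative p) m (m - 1) := by
    rw [hd, ← resultant_map_map, ← derivative_map, hPp]
  have hed0 : (Y.evaluation U η hη).hom d ≠ 0 := by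
    rw [hed]
    exact resultant_ne_zero_of_separable p hp hsep m hmp
  have hηV : η ∈ Y.basicOpen d := (Y.evaluation_ne_zero_iff_mem_basicOpen η hη d).mp hed0
  have hle : Y.basicOpen d ≤ U := Y.basicOpen_le d
  haveI : Nonempty (Y.basicOpen d) := ⟨⟨η, hηV⟩⟩
  let r := (Y.presheaf.map (homOfLE hle).op).hom
  have hP' : (P.map r).Monic := hP.map r
  have hm' : (P.map r).natDegree = m := hP.natDegree_map r
  refine ⟨Y.basicOpen d, hU.basicOpen d, hηV, P.map r, hP', ?_, ?_, ?_⟩
  · apply separable_of_isUnit_resultant (P.map r) m hm' (by rw [← hmp]; exact hdeg)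
    rw [derivative_map, resultant_map_map]
    exact Y.toRingedSpace.isUnit_res_basicOpen d
  · rw [hm', ← hmp]; exact hdeg
  · rw [Polynomial.map_map, evaluation_res Y η hle hηV, hPp]

end Groth.Agent.Helper5.GFE
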