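import Mathlib

set_option autoImplicit false
universe u
open CategoryTheory CategoryTheory.Limits AlgebraicGeometry Opposite

namespace Groth.Agent.Helper5.GFE

/-- The fibre of a base change `X ×_Y Y' → Y'` at `y'` is a base change of the fibre of
`X → Y` at `η`, whenever `Spec κ(y') → Y' → Y` factors through `Spec κ(η)`. -/
theorem exists_isPullback_fiber_bc {X Y Y' : Scheme.{u}} (f : X ⟶ Y) (h : Y' ⟶ Y) (y' : Y') (η : Y)
    {S₁ : Scheme.{u}} (b : S₁ ⟶ Spec (Y.residueField η)) (c : Spec (Y'.residueField y') ⟶ S₁)
    (hc : c ≫ b ≫ Y.fromSpecResidueField η = Y'.fromSpecResidueField y' ≫ h) :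
    ∃ q : (pullback.snd f h).fiber y' ⟶ pullback (f.fiberToSpecResidueField η) b,
      IsPullback q ((pullback.snd f h).fiberToSpecResidueField y')
        (pullback.snd (f.fiberToSpecResidueField η) b) c := by
  have sqA : IsPullback (pullback.fst f (Y.fromSpecResidueField η))
      (f.fiberToSpecResidueField η) f (Y.fromSpecResidueField η) := IsPullback.of_hasPullback _ _
  have sqB := IsPullback.of_hasPullback (f.fiberToSpecResidueField η) b
  have sqBA := sqB.paste_horiz sqA
  have sqH := IsPullback.of_hasPullback f h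
  have sqD : IsPullback (pullback.fst (pullback.snd f h) (Y'.fromSpecResidueField y'))
      ((pullback.snd f h).fiberToSpecResidueField y') (pullback.snd f h)
      (Y'.fromSpecResidueField y') := IsPullback.of_hasPullback _ _
  have sqDH := sqD.paste_horiz sqH
  have hw : (pullback.fst (pullback.snd f h) (Y'.fromSpecResidueField y') ≫ pullback.fst f h) ≫ f =
      ((pullback.snd f h).fiberToSpecResidueField y' ≫ c) ≫ b ≫ Y.fromSpecResidueField η := by
    rw [Category.assoc _ c, hc]
    exact sqDH.w
  refine ⟨sqBA.lift _ _ hw, ?_⟩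
  refine IsPullback.of_right ?_ (sqBA.lift_snd _ _ hw) sqBA
  rw [sqBA.lift_fst, hc]
  exact sqDH

end Groth.Agent.Helper5.GFE
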