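import Groth.Agent.Helper5.GFEa
import Groth.Agent.Helper5.GFEe
import Groth.Agent.Helper5.GFEf
import Groth.Agent.Helper5.GFEg
import Groth.Agent.Helper5.GPIM
import Groth.Agent.S1654
import Mathlib

set_option autoImplicit false
universe u
open CategoryTheory CategoryTheory.Limits AlgebraicGeometry Opposite

namespace Groth.Agent.Helper5.GFE

open Polynomial

theorem image_mem_irreducibleComponents_of_homeomorph {A B : Type*} [TopologicalSpace A]
    [TopologicalSpace B] (e : A ≃ₜ B) {Z : Set A} (hZ : Z ∈ irreducibleComponents A) :
    e '' Z ∈ irreducibleComponents B :=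
  image_mem_irreducibleComponents_of_isPreirreducible_fiber e e.continuous e.isOpenMap
    (fun _ => (Set.subsingleton_singleton.preimage e.injective).isPreirreducible) e.surjective hZ

/-- Core transfer: if the components of `(X_η)_{k'}` are geometrically irreducible and `k'` maps
to `κ(y')` compatibly, the components of the fibre of the base change at `y'` are geometrically
irreducible. -/
theorem core {X Y Y' : Scheme.{u}} (f : X ⟶ Y) (h : Y' ⟶ Y) (y' : Y') (η : Y)
    (k' : Type u) [Field k'] [Algebra (Y.residueField η) k']
    (hcomp : ∀ (T : Set ↥(pullback (f.fiberToSpecResidueField η)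
        (Spec.map (CommRingCat.ofHom (algebraMap (Y.residueField η) k')))))
      (hT : T ∈ irreducibleComponents ↥(pullback (f.fiberToSpecResidueField η)
        (Spec.map (CommRingCat.ofHom (algebraMap (Y.residueField η) k'))))),
      GeometricallyIrreducible
        ((Scheme.IdealSheafData.vanishingIdeal
          ⟨T, isClosed_of_mem_irreducibleComponents T hT⟩).subschemeι ≫
          pullback.snd (f.fiberToSpecResidueField η)
            (Spec.map (CommRingCat.ofHom (algebraMap (Y.residueField η) k')))))
    (θ : k' →+* Y'.residueField y')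
    (hc : Spec.map (CommRingCat.ofHom θ) ≫
        Spec.map (CommRingCat.ofHom (algebraMap (Y.residueField η) k')) ≫
        Y.fromSpecResidueField η = Y'.fromSpecResidueField y' ≫ h)
    (Z : Set ↥((pullback.snd f h).fiber y'))
    (hZ : Z ∈ irreducibleComponents ↥((pullback.snd f h).fiber y')) :
    GeometricallyIrreducible
      ((Scheme.IdealSheafData.vanishingIdeal
        ⟨Z, isClosed_of_mem_irreducibleComponents Z hZ⟩).subschemeι ≫
        (pullback.snd f h).fiberToSpecResidueField y') := by
  letI : Algebra k' (Y'.residueField y') := θ.toAlgebra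
  obtain ⟨q, hq⟩ := exists_isPullback_fiber_bc f h y' η
    (Spec.map (CommRingCat.ofHom (algebraMap (Y.residueField η) k')))
    (Spec.map (CommRingCat.ofHom θ)) hc
  set h₁ := pullback.snd (f.fiberToSpecResidueField η)
    (Spec.map (CommRingCat.ofHom (algebraMap (Y.residueField η) k'))) with hh₁
  let e : (pullback.snd f h).fiber y' ≅
      pullback h₁ (Spec.map (CommRingCat.ofHom (algebraMap k' (Y'.residueField y')))) :=
    hq.isoPullback
  have he : e.hom ≫ pullback.snd h₁ _ = (pullback.snd f h).fiberToSpecResidueField y' :=
    hq.isoPullback_hom_snd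
  set ιZ := (Scheme.IdealSheafData.vanishingIdeal
    ⟨Z, isClosed_of_mem_irreducibleComponents Z hZ⟩).subschemeι with hιZ
  have hrZ : Set.range ιZ = Z := by
    rw [hιZ, Scheme.IdealSheafData.range_subschemeι]
    simp
  have hW : ∀ (T : Set ↥(pullback (f.fiberToSpecResidueField η)
        (Spec.map (CommRingCat.ofHom (algebraMap (Y.residueField η) k'))))),
      T ∈ irreducibleComponents ↥(pullback (f.fiberToSpecResidueField η)
        (Spec.map (CommRingCat.ofHom (algebraMap (Y.residueField η) k')))) →
      ∃ (Z₁ : Scheme.{u}) (ι : Z₁ ⟶ pullback (f.fiberToSpecResidueField η)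
        (Spec.map (CommRingCat.ofHom (algebraMap (Y.residueField η) k')))),
        Set.range ι = T ∧ GeometricallyIrreducible (ι ≫ h₁) := by
    intro T hT
    refine ⟨_, _, ?_, hcomp T hT⟩
    rw [Scheme.IdealSheafData.range_subschemeι]
    simp
  have key := geometricallyIrreducible_component_bc (k := k') h₁ hW (Y'.residueField y')
    (e.hom '' Z) (image_mem_irreducibleComponents_of_homeomorph e.hom.homeomorph hZ)
    (ιZ ≫ e.hom) (by
      rw [Scheme.Hom.comp_base, TopCat.coe_comp, Set.range_comp, hrZ])
  rw [Category.assoc, he] at key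
  exact key

end Groth.Agent.Helper5.GFE
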