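import Groth.Agent.Helper5.GCIc
import Groth.Agent.Helper5.GFEh
import Mathlib

set_option autoImplicit false
set_option linter.style.haveILetI false
universe u
open CategoryTheory CategoryTheory.Limits AlgebraicGeometry Opposite TopologicalSpace

namespace Groth.Agent.Helper5.GCI

/-- Every irreducible component of `P`, with its reduced structure, is flat over `S'` with
geometrically integral fibres. -/
def GoodSq {P S' : Scheme.{u}} (p : P ⟶ S') : Prop :=
  ∀ (Z : Scheme.{u}) (i : Z ⟶ P) [IsClosedImmersion i] [IsReduced Z],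
    Set.range i ∈ irreducibleComponents P → Flat (i ≫ p) ∧ GeometricallyIntegral (i ≫ p)

theorem GoodSq.of_iso {P P' S' : Scheme.{u}} (p : P ⟶ S') (p' : P' ⟶ S') (e : P' ≅ P)
    (he : e.hom ≫ p = p') (h : GoodSq p) : GoodSq p' := by
  intro Z i _ _ hA
  have hr : Set.range (i ≫ e.hom) ∈ irreducibleComponents P := by
    rw [Scheme.Hom.comp_base, TopCat.coe_comp, Set.range_comp]
    exact Groth.Agent.Helper5.GFE.image_mem_irreducibleComponents_of_homeomorph
      e.hom.homeomorph hA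
  have := h Z (i ≫ e.hom) hr
  rw [Category.assoc, he] at this
  exact this

theorem exists_goodSq {T Y X₂ : Scheme.{u}} (t : T ⟶ Y) [IsIntegral Y] [IsNoetherian Y]
    [LocallyOfFiniteType t] [QuasiCompact t] (hP1 : P1 t (genericPoint Y))
    (r : X₂ ⟶ T) [IsClosedImmersion r] [Surjective r] [IsReduced X₂]
    [GeometricallyReduced (pullback.snd (r ≫ t) (Y.fromSpecResidueField (genericPoint Y)))] :
    ∃ W : Y.Opens, genericPoint Y ∈ W ∧ ∀ W' : Y.Opens, W' ≤ W → GoodSq (t ∣_ W') := by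
  haveI : IsLocallyNoetherian T := LocallyOfFiniteType.isLocallyNoetherian t
  haveI : CompactSpace T := QuasiCompact.compactSpace_of_compactSpace t
  haveI : IsNoetherian T := ⟨⟩
  haveI : Finite (irreducibleComponents T) := NoetherianSpace.finite_irreducibleComponents
  choose Wc hWc1 hWc2 using fun C : irreducibleComponents T =>
    exists_open_component t hP1 r C.1 C.2
  refine ⟨⟨⋂ C, (Wc C : Set Y), isOpen_iInter_of_finite fun C => (Wc C).isOpen⟩,
    Set.mem_iInter.mpr hWc1, fun W' hW' => ?_⟩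
  intro Z i _ _ hA
  obtain ⟨C, hC, hCA⟩ := exists_component_of_isOpenEmbedding (t ⁻¹ᵁ W').ι.isOpenEmbedding hA
  have hle : W' ≤ Wc ⟨C, hC⟩ := fun y hy => Set.mem_iInter.mp (hW' hy) ⟨C, hC⟩
  rcases hWc2 ⟨C, hC⟩ W' hle with hempty | ⟨hfl, hgi, hgr⟩
  · exfalso
    obtain ⟨a, ha⟩ := hA.1.1
    have h1 : (t ⁻¹ᵁ W').ι a ∈ C := by
      have : a ∈ (t ⁻¹ᵁ W').ι ⁻¹' C := hCA ▸ ha
      exact this
    have h2 : (t ⁻¹ᵁ W').ι a ∈ t ⁻¹' (W' : Set Y) := a.2
    have : (t ⁻¹ᵁ W').ι a ∈ t ⁻¹' (W' : Set Y) ∩ C := ⟨h2, h1⟩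
    rw [hempty] at this
    exact this
  · obtain ⟨ιC, hιC⟩ : ∃ ιC, ιC = (Scheme.IdealSheafData.vanishingIdeal
        ⟨C, isClosed_of_mem_irreducibleComponents C hC⟩).subschemeι := ⟨_, rfl⟩
    rw [← hιC] at hfl hgi hgr
    haveI : IsClosedImmersion ιC := hιC ▸ inferInstance
    haveI : IsReduced (Scheme.IdealSheafData.vanishingIdeal
        ⟨C, isClosed_of_mem_irreducibleComponents C hC⟩).subscheme :=
      Groth.Agent.Helper5.GSS.isReduced_vanishingIdeal_subscheme _
    have hrC : Set.range ιC = C := by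
      rw [hιC]; exact Groth.Agent.Helper5.GSS.range_vanishingIdeal_subschemeι _
    haveI : IsReduced (ιC ⁻¹ᵁ (t ⁻¹ᵁ W')).toScheme :=
      isReduced_of_isOpenImmersion (ιC ⁻¹ᵁ (t ⁻¹ᵁ W')).ι
    have hr : Set.range i = Set.range (ιC ∣_ (t ⁻¹ᵁ W')) := by
      rw [range_morphismRestrict, hrC, hCA]
    obtain ⟨e, he⟩ := Groth.Agent.Helper5.GSS.exists_iso_of_reduced_of_range_eq i
      (ιC ∣_ (t ⁻¹ᵁ W')) hr
    have hcomp : i ≫ (t ∣_ W') = e.hom ≫ ((ιC ≫ t) ∣_ W') := by
      rw [morphismRestrict_comp, ← Category.assoc, he]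
    rw [hcomp]
    constructor
    · exact (MorphismProperty.cancel_left_of_respectsIso @Flat e.hom _).mpr hfl
    · have hint : GeometricallyIntegral ((ιC ≫ t) ∣_ W') :=
        @GeometricallyIntegral.of_geometricallyReduced_of_geometricallyIrreducible _ _ _ hgr hgi
      exact (MorphismProperty.cancel_left_of_respectsIso @GeometricallyIntegral e.hom _).mpr hint

end Groth.Agent.Helper5.GCI
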