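import Groth.Agent.Helper5.GCId
import Groth.Agent.Helper5.GFEg
import Mathlib

set_option autoImplicit false
set_option linter.style.haveILetI false
universe u
open CategoryTheory CategoryTheory.Limits AlgebraicGeometry Opposite TopologicalSpace

namespace Groth.Agent.Helper5.GCI

theorem isIso_ι_morphismRestrict {Y : Scheme.{u}} (V U : Y.Opens) (hU : U ≤ V) :
    IsIso (V.ι ∣_ U) := by
  apply isIso_of_isOpenImmersion_of_opensRange_eq_top
  apply TopologicalSpace.Opens.ext
  rw [Scheme.Hom.coe_opensRange, range_morphismRestrict, Scheme.Opens.range_ι]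
  ext y
  simp only [Set.mem_preimage, SetLike.mem_coe, Opens.coe_top, Set.mem_univ, iff_true]
  exact hU y.2

/-- Restricting `g ≫ V.ι` to an open `U ≤ V`. -/
theorem prop_restrict_comp_ι (P : MorphismProperty Scheme.{u}) [P.IsStableUnderBaseChange]
    [P.IsStableUnderComposition] {Y' Y : Scheme.{u}} (V : Y.Opens) (g : Y' ⟶ V.toScheme)
    (F : V.toScheme.Opens) (hg : P (g ∣_ F)) (U : Y.Opens) (hU : U ≤ V) (hUF : V.ι ⁻¹ᵁ U ≤ F) :
    P ((g ≫ V.ι) ∣_ U) := by
  rw [morphismRestrict_comp]
  haveI := isIso_ι_morphismRestrict V U hU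
  exact (P.cancel_right_of_respectsIso _ _).mpr (restrict_of_le P g hUF hg)

theorem prop_restrict_comp_ι_top (P : MorphismProperty Scheme.{u}) [P.IsStableUnderBaseChange]
    [P.IsStableUnderComposition] {Y' Y : Scheme.{u}} (V : Y.Opens) (g : Y' ⟶ V.toScheme)
    (hg : P g) (U : Y.Opens) (hU : U ≤ V) : P ((g ≫ V.ι) ∣_ U) := by
  rw [morphismRestrict_comp]
  haveI := isIso_ι_morphismRestrict V U hU
  exact (P.cancel_right_of_respectsIso _ _).mpr
    (MorphismProperty.of_isPullback (isPullback_morphismRestrict g _).flip hg)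

theorem map_genericPoint_of_denseRange {X Y : Scheme.{u}} [IrreducibleSpace X] [IrreducibleSpace Y]
    (f : X ⟶ Y) (hf : DenseRange f) : f (genericPoint X) = genericPoint Y := by
  have h1 : IsGenericPoint (f (genericPoint X)) (closure (f '' Set.univ)) :=
    (genericPoint_spec X).image f.continuous
  rw [Set.image_univ, hf.closure_range] at h1
  exact h1.eq (genericPoint_spec Y)

/-- Geometric reducedness of a fibre is preserved by base change of the base. -/
theorem geomRed_fiber_bc {X₁ Y₁ Y₂ : Scheme.{u}} (φ₁ : X₁ ⟶ Y₁) (a₂ : Y₂ ⟶ Y₁) (η₂ : Y₂)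
    [GeometricallyReduced (φ₁.fiberToSpecResidueField (a₂ η₂))] :
    GeometricallyReduced ((pullback.snd φ₁ a₂).fiberToSpecResidueField η₂) := by
  obtain ⟨q, hq⟩ := Groth.Agent.Helper5.GFE.exists_isPullback_fiber_bc φ₁ a₂ η₂ (a₂ η₂) (𝟙 _)
    (Spec.map (a₂.residueFieldMap η₂))
    (by rw [Category.id_comp, Scheme.Hom.SpecMap_residueFieldMap_fromSpecResidueField])
  exact MorphismProperty.of_isPullback hq inferInstance

end Groth.Agent.Helper5.GCI
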