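import Groth.Agent.Helper5.GCIe
import Mathlib

set_option autoImplicit false
set_option linter.style.haveILetI false
universe u
open CategoryTheory CategoryTheory.Limits AlgebraicGeometry Opposite TopologicalSpace

namespace Groth.Agent.Helper5.GCI

/-- Transport of `GoodSq` along the tower of base changes. -/
theorem goodSq_of_tower {X S Y₁ Y₂ : Scheme.{u}} (f : X ⟶ S) (a₁ : Y₁ ⟶ S) (a₂ : Y₂ ⟶ Y₁)
    (W' : Y₂.Opens) (b : W'.toScheme ⟶ S) (hb : b = W'.ι ≫ a₂ ≫ a₁)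
    (h : GoodSq ((pullback.snd (pullback.snd f a₁) a₂) ∣_ W')) : GoodSq (pullback.snd f b) := by
  subst hb
  have sq₁ : IsPullback (pullback.fst f a₁) (pullback.snd f a₁) f a₁ := IsPullback.of_hasPullback _ _
  have sq₂ : IsPullback (pullback.fst (pullback.snd f a₁) a₂) (pullback.snd (pullback.snd f a₁) a₂)
      (pullback.snd f a₁) a₂ := IsPullback.of_hasPullback _ _
  have sq₁₂ := sq₂.paste_horiz sq₁
  have sqW := (isPullback_morphismRestrict (pullback.snd (pullback.snd f a₁) a₂) W').flip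
  have sq := sqW.paste_horiz sq₁₂
  exact GoodSq.of_iso _ _ sq.isoPullback.symm sq.isoPullback_inv_snd h

/-- Construction of the open `V` of the base. -/
theorem exists_V {S Y₁ Y₂ : Scheme.{u}} [IrreducibleSpace S] [IrreducibleSpace Y₁]
    [IrreducibleSpace Y₂] (V₁ : S.Opens) (g₁ : Y₁ ⟶ V₁.toScheme) [IsFinite g₁]
    (hg₁ : Function.Surjective g₁) (V₂ : Y₁.Opens) (g₂ : Y₂ ⟶ V₂.toScheme) [IsFinite g₂]
    (hg₂ : Function.Surjective g₂) (hV₂ : (V₂ : Set Y₁).Nonempty)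
    (F₁ : V₁.toScheme.Opens) (hF₁ : (F₁ : Set V₁.toScheme).Nonempty) (W : Y₂.Opens)
    (hW : (W : Set Y₂).Nonempty) :
    ∃ V : S.Opens, (V : Set S).Nonempty ∧ V ≤ V₁ ∧ V₁.ι ⁻¹ᵁ V ≤ F₁ ∧
      (g₁ ≫ V₁.ι) ⁻¹ᵁ V ≤ V₂ ∧ ((g₂ ≫ V₂.ι) ≫ g₁ ≫ V₁.ι) ⁻¹ᵁ V ≤ W ∧
      ((g₂ ≫ V₂.ι) ≫ g₁ ≫ V₁.ι) (genericPoint Y₂) ∈ V := by
  obtain ⟨O₂, hO₂η, hO₂⟩ := exists_open_preimage_le g₂ W hW
  have hN₂ne : ((V₂.ι ''ᵁ O₂ : Y₁.Opens) : Set Y₁).Nonempty :=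
    ⟨V₂.ι (g₂ (genericPoint Y₂)), ⟨_, hO₂η, rfl⟩⟩
  obtain ⟨O₁, hO₁η, hO₁⟩ := exists_open_preimage_le g₁ (V₂.ι ''ᵁ O₂) hN₂ne
  haveI : Nonempty V₁.toScheme := ⟨g₁ (genericPoint Y₁)⟩
  haveI : IrreducibleSpace V₁.toScheme :=
    V₁.ι.isOpenEmbedding.irreducibleSpace
  have hg₁η : g₁ (genericPoint Y₁) = genericPoint V₁.toScheme :=
    map_genericPoint_of_denseRange g₁ hg₁.denseRange
  have hF₁η : g₁ (genericPoint Y₁) ∈ F₁ := by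
    rw [hg₁η]; exact genericPoint_mem_of_nonempty F₁ hF₁
  have hdense₂ : DenseRange (g₂ ≫ V₂.ι) := by
    rw [DenseRange, Scheme.Hom.comp_base, TopCat.coe_comp, Set.range_comp, hg₂.range_eq,
      Set.image_univ, Scheme.Opens.range_ι]
    exact V₂.isOpen.dense hV₂
  have hη₂ : (g₂ ≫ V₂.ι) (genericPoint Y₂) = genericPoint Y₁ :=
    map_genericPoint_of_denseRange _ hdense₂
  refine ⟨V₁.ι ''ᵁ (O₁ ⊓ F₁), ⟨V₁.ι (g₁ (genericPoint Y₁)), ⟨_, ⟨hO₁η, hF₁η⟩, rfl⟩⟩, ?_, ?_, ?_, ?_,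
    ?_⟩
  · rintro _ ⟨y, -, rfl⟩
    exact y.2
  · rw [Scheme.Hom.preimage_image_eq]
    exact inf_le_right
  · intro y hy
    have hy' : g₁ y ∈ V₁.ι ⁻¹ᵁ (V₁.ι ''ᵁ (O₁ ⊓ F₁)) := hy
    rw [Scheme.Hom.preimage_image_eq] at hy'
    have h1 : y ∈ g₁ ⁻¹ᵁ O₁ := hy'.1
    obtain ⟨z, -, hz⟩ := hO₁ h1
    rw [← hz]; exact z.2
  · intro y hy
    have hy' : g₁ ((g₂ ≫ V₂.ι) y) ∈ V₁.ι ⁻¹ᵁ (V₁.ι ''ᵁ (O₁ ⊓ F₁)) := hy
    rw [Scheme.Hom.preimage_image_eq] at hy'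
    have h1 : (g₂ ≫ V₂.ι) y ∈ g₁ ⁻¹ᵁ O₁ := hy'.1
    obtain ⟨z, hzO, hz⟩ := hO₁ h1
    have hz' : z = g₂ y := V₂.ι.isOpenEmbedding.injective
      (by rw [← Scheme.Hom.comp_apply]; exact hz)
    exact hO₂ (show g₂ y ∈ O₂ from hz' ▸ hzO)
  · show V₁.ι (g₁ ((g₂ ≫ V₂.ι) (genericPoint Y₂))) ∈ V₁.ι ''ᵁ (O₁ ⊓ F₁)
    rw [hη₂]
    exact ⟨_, ⟨hO₁η, hF₁η⟩, rfl⟩

end Groth.Agent.Helper5.GCI
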