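import Groth.Agent.Helper5.GFEh
import Mathlib

set_option autoImplicit false
universe u
open CategoryTheory CategoryTheory.Limits AlgebraicGeometry Opposite

namespace Groth.Agent.Helper5.GFE

open Polynomial

theorem main {X Y : Scheme.{u}} (f : X ⟶ Y) [IrreducibleSpace ↑Y] [LocallyOfFiniteType f]
    [QuasiCompact f] :
    ∃ (V : Y.Opens) (Y' : Scheme.{u}) (g : Y' ⟶ (V : Scheme.{u})) (hY' : IrreducibleSpace ↑Y'),
      (V : Set ↑Y).Nonempty ∧ IsAffine Y' ∧ Surjective g ∧ IsFinite g ∧ Etale g ∧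
      ∀ (Z : Set ↑((pullback.snd f (g ≫ V.ι)).fiber (genericPoint ↑Y')))
        (hZ : Z ∈ irreducibleComponents ↑((pullback.snd f (g ≫ V.ι)).fiber (genericPoint ↑Y'))),
        GeometricallyIrreducible ((Scheme.IdealSheafData.vanishingIdeal
          (⟨Z, isClosed_of_mem_irreducibleComponents Z hZ⟩ : TopologicalSpace.Closeds _)).subschemeι ≫
          (pullback.snd f (g ≫ V.ι)).fiberToSpecResidueField (genericPoint ↑Y')) := by
  obtain ⟨η, hηdef⟩ : ∃ η : Y, η = genericPoint Y := ⟨_, rfl⟩
  letI : (f.fiber η).Over (Spec (CommRingCat.of (Y.residueField η))) :=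
    ⟨f.fiberToSpecResidueField η⟩
  haveI : LocallyOfFiniteType ((f.fiber η) ↘ Spec (CommRingCat.of (Y.residueField η))) :=
    inferInstanceAs (LocallyOfFiniteType (pullback.snd f (Y.fromSpecResidueField η)))
  haveI : QuasiCompact ((f.fiber η) ↘ Spec (CommRingCat.of (Y.residueField η))) :=
    inferInstanceAs (QuasiCompact (pullback.snd f (Y.fromSpecResidueField η)))
  haveI : TopologicalSpace.NoetherianSpace (f.fiber η) :=
    Groth.Agent.Helper5.GPI.noetherianSpace_of_field
      ((f.fiber η) ↘ Spec (CommRingCat.of (Y.residueField η)))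
  have hfin : (irreducibleComponents (f.fiber η)).Finite :=
    TopologicalSpace.NoetherianSpace.finite_irreducibleComponents
  obtain ⟨k', _, _, hfd, hsepk, hcomp⟩ := Groth.Agent.S1654.result (Y.residueField η) (f.fiber η) hfin
  -- primitive element
  let pb := Field.powerBasisOfFiniteOfSeparable (Y.residueField η) k'
  have hint : IsIntegral (Y.residueField η) pb.gen := Algebra.IsIntegral.isIntegral _
  obtain ⟨p, hpdef⟩ : ∃ p, p = minpoly (Y.residueField η) pb.gen := ⟨_, rfl⟩
  have hp : p.Monic := by rw [hpdef]; exact minpoly.monic hint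
  have hpirr : Irreducible p := by rw [hpdef]; exact minpoly.irreducible hint
  have hpsep : p.Separable := by
    rw [hpdef]; exact Algebra.IsSeparable.isSeparable' pb.gen
  have hpdeg : p.natDegree ≠ 0 := by rw [hpdef]; exact (minpoly.natDegree_pos hint).ne'
  have hηV₀ : η ∈ (⊤ : Y.Opens) := trivial
  obtain ⟨V, hV, hηV, P, hP, hPsep, hPdeg, hPp⟩ := exists_monic_separable_lift Y η p hp hpsep hpdeg
  subst hηdef
  have hirr : Irreducible (P.map (Y.evaluation V (genericPoint Y) hηV).hom) := hPp ▸ hpirr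
  have hY' := irreducibleSpace_cover hV P hηV hP hPdeg hirr
  refine ⟨V, Spec (CommRingCat.of (AdjoinRoot P)), coverMap hV P, hY', ⟨_, hηV⟩, inferInstance,
    surjective_coverMap hV P hP hPdeg, isFinite_coverMap hV P hP, etale_coverMap hV P hP hPsep, ?_⟩
  intro Z hZ
  have hη' := strMap_genericPoint hV P hηV hP hPdeg
  obtain ⟨θ₀, hθ₀⟩ := exists_theta hV P (genericPoint Y) hηV hirr _ hη'
  -- identify `k'` with `K[X]/(p)`
  let ek : AdjoinRoot (P.map (Y.evaluation V (genericPoint Y) hηV).hom) ≃ₐ[Y.residueField (genericPoint Y)] k' :=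
    AdjoinRoot.equiv' _ pb (by rw [← hpdef, ← hPp, AdjoinRoot.aeval_eq, AdjoinRoot.mk_self])
      (by rw [hPp, hpdef]; exact minpoly.aeval _ _)
  let θ : k' →+* (Spec (CommRingCat.of (AdjoinRoot P))).residueField (genericPoint _) :=
    θ₀.comp (ek.symm : k' →+* AdjoinRoot (P.map (Y.evaluation V (genericPoint Y) hηV).hom))
  have hθ : θ.comp (algebraMap (Y.residueField (genericPoint Y)) k') =
      θ₀.comp (AdjoinRoot.of (P.map (Y.evaluation V (genericPoint Y) hηV).hom)) := by
    ext x
    simp only [θ, RingHom.comp_apply]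
    congr 1
    have := ek.symm.commutes x
    rw [AdjoinRoot.algebraMap_eq] at this
    exact this
  refine core f (coverMap hV P ≫ V.ι) (genericPoint _) (genericPoint Y) k' hcomp θ ?_ Z hZ
  rw [coverMap_ι, ← hθ₀, ← hθ, ← Category.assoc, ← Spec.map_comp]
  rfl

end Groth.Agent.Helper5.GFE
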