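import Groth.Agent.Helper5.GRedC
import Mathlib

set_option autoImplicit false
universe u
open CategoryTheory CategoryTheory.Limits AlgebraicGeometry Opposite

namespace Groth.Agent.Helper5.GRed

theorem main (k : Type u) [Field k] (X : Scheme.{u}) [X.Over (Spec (CommRingCat.of k))]
    [LocallyOfFiniteType (X ↘ (Spec (CommRingCat.of k)))]
    (hirr : (irreducibleComponents (X : Type u)).Finite) :
    ∃ (k' : Type u) (_ : Field k') (_ : Algebra k k'), FiniteDimensional k k' ∧
      IsPurelyInseparable k k' ∧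
      GeometricallyReduced ((Curv2.bc k X k').nilradical.subschemeι ≫ Curv2.bcSnd k X k') := by
  obtain ⟨f, hf⟩ : ∃ f, f = (X ↘ Spec (CommRingCat.of k)) := ⟨_, rfl⟩
  haveI : LocallyOfFiniteType f := hf ▸ inferInstance
  obtain ⟨W, hWc, hWd⟩ := exists_compact_dense_open X hirr
  haveI : CompactSpace W := isCompact_iff_compactSpace.mp hWc
  haveI : QuasiCompact (W.ι ≫ f) := (HasAffineProperty.iff_of_isAffine (P := @QuasiCompact)).mpr inferInstance
  haveI : TopologicalSpace.NoetherianSpace W :=
    Groth.Agent.Helper5.GPI.noetherianSpace_of_field (W.ι ≫ f)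
  obtain ⟨U, hUd, k', _, _, hfin, hpi, Z', hZ'red, i, hicl, hisurj, hsm⟩ :=
    Groth.Agent.S2769.result k (W.ι ≫ f)
  refine ⟨k', inferInstance, inferInstance, hfin, hpi, ?_⟩
  show GeometricallyReduced ((pullback (X ↘ Spec (CommRingCat.of k))
    (Spec.map (CommRingCat.ofHom (algebraMap k k')))).nilradical.subschemeι ≫
    pullback.snd (X ↘ Spec (CommRingCat.of k)) (Spec.map (CommRingCat.ofHom (algebraMap k k'))))
  rw [← hf]
  generalize hb : Spec.map (CommRingCat.ofHom (algebraMap k k')) = b at i hicl hisurj hsm ⊢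
  -- quasi-compactness of everything in sight
  haveI : CompactSpace U :=
    isCompact_iff_compactSpace.mp (TopologicalSpace.NoetherianSpace.isCompact (U : Set W))
  haveI : QuasiCompact (U.ι ≫ W.ι ≫ f) := (HasAffineProperty.iff_of_isAffine (P := @QuasiCompact)).mpr inferInstance
  haveI : LocallyOfFiniteType (i ≫ pullback.snd (U.ι ≫ W.ι ≫ f) b) := inferInstance
  haveI : QuasiCompact (i ≫ pullback.snd (U.ι ≫ W.ι ≫ f) b) := inferInstance
  haveI : TopologicalSpace.NoetherianSpace Z' :=
    Groth.Agent.Helper5.GPI.noetherianSpace_of_field (i ≫ pullback.snd (U.ι ≫ W.ι ≫ f) b)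
  -- the open immersion `U_{k'} → X_{k'}`
  let m : pullback (U.ι ≫ W.ι ≫ f) b ⟶ pullback f b :=
    pullback.map _ _ _ _ (U.ι ≫ W.ι) (𝟙 _) (𝟙 _) (by simp) (by simp)
  have hm_snd : m ≫ pullback.snd f b = pullback.snd _ _ := by
    simp only [m, pullback.map, pullback.lift_snd, Category.comp_id]
  have hrange : Set.range m = (pullback.fst f b) ⁻¹' Set.range (U.ι ≫ W.ι) := by
    have hr := Scheme.Pullback.range_map (f := U.ι ≫ W.ι ≫ f) (g := b) f b (U.ι ≫ W.ι) (𝟙 _)
      (𝟙 _) (by simp) (by simp)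
    show Set.range (pullback.map _ _ _ _ (U.ι ≫ W.ι) (𝟙 _) (𝟙 _) (by simp) (by simp)) = _
    rw [hr]
    simp
  have hdense : Dense (Set.range (U.ι ≫ W.ι)) := by
    rw [Scheme.Hom.comp_base, TopCat.coe_comp, Set.range_comp, Scheme.Opens.range_ι]
    have hWι : DenseRange W.ι := by
      rw [DenseRange, Scheme.Opens.range_ι]; exact hWd
    exact hWι.dense_image W.ι.continuous hUd
  have hopen : IsOpenMap (pullback.fst f b) := by
    rw [← hb]; exact (pullback.fst f _).isOpenMap
  set j₀ : Z' ⟶ pullback f b := i ≫ m with hj₀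
  haveI : QuasiCompact j₀ := ⟨fun V _ _ => TopologicalSpace.NoetherianSpace.isCompact _⟩
  have hd : DenseRange j₀ := by
    rw [DenseRange, hj₀, Scheme.Hom.comp_base, TopCat.coe_comp, Set.range_comp,
      Set.range_eq_univ.mpr hisurj, Set.image_univ, hrange]
    exact hdense.preimage hopen
  obtain ⟨j, hjfac, hjdom⟩ := exists_lift_nilradical j₀ hd
  haveI := Groth.Agent.S4370.isReduced_nilradical_subscheme (pullback f b)
  haveI : QuasiCompact j := ⟨fun V _ _ => TopologicalSpace.NoetherianSpace.isCompact _⟩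
  haveI : GeometricallyReduced (j ≫ (pullback f b).nilradical.subschemeι ≫ pullback.snd f b) := by
    rw [← Category.assoc, hjfac, hj₀, Category.assoc, hm_snd]
    exact Groth.Agent.Helper8.NGC.geometricallyReduced_of_smooth _
  exact geometricallyReduced_of_dominant _ j

end Groth.Agent.Helper5.GRed
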