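import Groth.Agent.Helper5.GUHe
import Groth.Agent.S1629
import Mathlib

set_option autoImplicit false
universe u
open CategoryTheory CategoryTheory.Limits AlgebraicGeometry Opposite TopologicalSpace

namespace Groth.Agent.Helper5.GUH

open Groth.Agent.Helper5.GFE

theorem main {X Y : Scheme.{u}} (f : X ⟶ Y) [IrreducibleSpace ↑Y] [LocallyOfFiniteType f]
    [QuasiCompact f] :
    ∃ (V : Y.Opens) (Y' : Scheme.{u}) (g : Y' ⟶ (V : Scheme.{u})) (X' : Scheme.{u})
      (r : X' ⟶ pullback f (g ≫ V.ι)) (hY' : IsIntegral Y'),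
      (V : Set ↑Y).Nonempty ∧ IsAffine Y' ∧ IsFinite g ∧ FlatMor.IsUnivHomeo g ∧
      IsClosedImmersion r ∧ Surjective r ∧ IsReduced X' ∧
      Flat (r ≫ pullback.snd f (g ≫ V.ι)) ∧
      LocallyOfFinitePresentation (r ≫ pullback.snd f (g ≫ V.ι)) ∧
      QuasiCompact (r ≫ pullback.snd f (g ≫ V.ι)) ∧
      QuasiSeparated (r ≫ pullback.snd f (g ≫ V.ι)) ∧
      GeometricallyReduced
        ((r ≫ pullback.snd f (g ≫ V.ι)).fiberToSpecResidueField (genericPoint ↑Y')) := by
  obtain ⟨η, hηdef⟩ : ∃ η : Y, η = genericPoint Y := ⟨_, rfl⟩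
  letI : (f.fiber η).Over (Spec (CommRingCat.of (Y.residueField η))) :=
    ⟨f.fiberToSpecResidueField η⟩
  haveI : LocallyOfFiniteType ((f.fiber η) ↘ Spec (CommRingCat.of (Y.residueField η))) :=
    inferInstanceAs (LocallyOfFiniteType (pullback.snd f (Y.fromSpecResidueField η)))
  haveI : QuasiCompact ((f.fiber η) ↘ Spec (CommRingCat.of (Y.residueField η))) :=
    inferInstanceAs (QuasiCompact (pullback.snd f (Y.fromSpecResidueField η)))
  haveI : TopologicalSpace.NoetherianSpace (f.fiber η) :=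
    Groth.Agent.Helper5.GPI.noetherianSpace_of_field
      ((f.fiber η) ↘ Spec (CommRingCat.of (Y.residueField η)))
  have hfin : (irreducibleComponents (f.fiber η)).Finite :=
    TopologicalSpace.NoetherianSpace.finite_irreducibleComponents
  obtain ⟨k', _, _, hfd, hpi, hred⟩ := Groth.Agent.S1629.result (Y.residueField η) (f.fiber η) hfin
  -- an affine open neighbourhood of the generic point
  obtain ⟨_, ⟨V₀, hV₀, rfl⟩, hηV₀, -⟩ :=
    Y.isBasis_affineOpens.exists_subset_of_mem_open (Set.mem_univ η) isOpen_univ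
  subst hηdef
  obtain ⟨B, _, _, φ, ι, hι, hιφ, hφfin, hφUH, hfr⟩ :=
    exists_model (k' := k') (Y.evaluation V₀ (genericPoint Y) hηV₀).hom
      (evaluation_frac hV₀ (genericPoint Y) hηV₀)
      (isNilpotent_of_evaluation_genericPoint hV₀ hηV₀)
  letI : Algebra Γ(Y, V₀) B := φ.toAlgebra
  have hφfin' : (algebraMap Γ(Y, V₀) B).Finite := hφfin
  have hφUH' : Groth.Agent.Helper7.UHRing.IsUH (algebraMap Γ(Y, V₀) B) := hφUH
  haveI := isFinite_cov hV₀ B hφfin'
  have hUH := isUnivHomeo_cov hV₀ B hφUH'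
  have hξ0 : (genericPoint (Spec (CommRingCat.of B))).asIdeal = ⊥ := by
    rw [genericPoint_eq_bot_of_affine (CommRingCat.of B)]
    rfl
  have hξη : strMap hV₀ B (genericPoint (Spec (CommRingCat.of B))) = genericPoint Y :=
    strMap_eq_genericPoint hV₀ hηV₀ B hφUH' _ (genericPoint_closure _)
  obtain ⟨θ, hθ⟩ := exists_theta' hV₀ B (genericPoint Y) hηV₀ k' ι hι hιφ hfr _ hξ0 hξη
  have hξgen : ∀ ξ' : Spec (CommRingCat.of B), ξ' ⤳ genericPoint (Spec (CommRingCat.of B)) →
      ξ' = genericPoint (Spec (CommRingCat.of B)) :=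
    fun ξ' h => (h.antisymm (genericPoint_specializes ξ')).eq
  have hgr := geomReduced_fiber f (strMap hV₀ B) (genericPoint (Spec (CommRingCat.of B)))
    (genericPoint Y) hξgen k' hred θ hθ
  rw [← cov_ι] at hgr
  exact assemble f V₀ (cov hV₀ B) hUH hgr

end Groth.Agent.Helper5.GUH
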