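import Groth.Agent.Helper5.GCIf
import Groth.Agent.S1357
import Groth.Agent.S1358
import Groth.Agent.Helper8.StabPts
import Mathlib

set_option autoImplicit false
set_option linter.style.haveILetI false
universe u
open CategoryTheory CategoryTheory.Limits AlgebraicGeometry Opposite TopologicalSpace

namespace Groth.Agent.Helper5.GCI

theorem surjective_of_isUnivHomeo {X Y : Scheme.{u}} (g : X ⟶ Y) (hg : FlatMor.IsUnivHomeo g) :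
    Function.Surjective g := by
  have h : (topologically (fun f => IsHomeomorph f)) g :=
    MorphismProperty.universally_le _ _ hg
  exact IsHomeomorph.surjective h

theorem main {X S : Scheme.{u}} [IsNoetherian S] [IsIntegral S]
    (f : X ⟶ S) [LocallyOfFiniteType f] [QuasiCompact f] :
    ∃ (V : S.Opens) (S' : Scheme.{u}) (h : S' ⟶ (V : Scheme.{u})), (V : Set S).Nonempty ∧
      IsIntegral S' ∧ IsFinite h ∧ Flat h ∧ Surjective h ∧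
      GoodSq (pullback.snd f (h ≫ V.ι)) := by
  -- Step B: geometric reducedness
  obtain ⟨V₁, Y₁, g₁, X₁, r₁, hY₁, hV₁, hY₁aff, hg₁fin, hg₁uh, hr₁cl, hr₁surj, hX₁red, -, -, -, -,
    hgr₁⟩ := Groth.Agent.S1358.result f
  haveI := hY₁aff; haveI := hg₁fin; haveI := hr₁cl; haveI := hr₁surj; haveI := hX₁red
  have hg₁s : Function.Surjective g₁ := surjective_of_isUnivHomeo g₁ hg₁uh
  haveI : IsLocallyNoetherian Y₁ := LocallyOfFiniteType.isLocallyNoetherian (g₁ ≫ V₁.ι)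
  haveI : IsNoetherian Y₁ := ⟨⟩
  -- Step A: geometric irreducibility of the components
  obtain ⟨V₂, Y₂, g₂, hY₂irr, hV₂, hY₂aff, hg₂surj, hg₂fin, hg₂et, hcomp⟩ :=
    Groth.Agent.S1357.result (pullback.snd f (g₁ ≫ V₁.ι))
  haveI := hY₂aff; haveI := hg₂fin; haveI := hg₂et; haveI := hg₂surj
  haveI : IsReduced V₂.toScheme := isReduced_of_isOpenImmersion V₂.ι
  haveI : IsReduced Y₂ := Groth.Agent.Helper8.StabPts.isReduced_of_smooth g₂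
  haveI : IsIntegral Y₂ := isIntegral_of_irreducibleSpace_of_isReduced Y₂
  haveI : IsLocallyNoetherian Y₂ := LocallyOfFiniteType.isLocallyNoetherian (g₂ ≫ V₂.ι)
  haveI : IsNoetherian Y₂ := ⟨⟩
  have hg₂s : Function.Surjective g₂ := hg₂surj.surj
  obtain ⟨t, ht⟩ : ∃ t, t = pullback.snd (pullback.snd f (g₁ ≫ V₁.ι)) (g₂ ≫ V₂.ι) := ⟨_, rfl⟩
  have hP1 : P1 t (genericPoint Y₂) := by
    rw [ht]; exact hcomp
  -- (P2) for `t`
  have e₁ : r₁ ≫ pullback.snd f (g₁ ≫ V₁.ι) = r₁ ≫ pullback.snd f (g₁ ≫ V₁.ι) := rfl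
  have e₂ : g₂ ≫ V₂.ι = 𝟙 _ ≫ g₂ ≫ V₂.ι := (Category.id_comp _).symm
  obtain ⟨r₂, hr₂⟩ : ∃ r₂, r₂ = pullback.map (r₁ ≫ pullback.snd f (g₁ ≫ V₁.ι)) (g₂ ≫ V₂.ι)
    (pullback.snd f (g₁ ≫ V₁.ι)) (g₂ ≫ V₂.ι) r₁ (𝟙 _) (𝟙 _)
    ((Category.comp_id _).trans e₁) ((Category.comp_id _).trans e₂) := ⟨_, rfl⟩
  haveI : IsClosedImmersion r₂ := by
    rw [hr₂]
    exact MorphismProperty.pullbackMap (P := @IsClosedImmersion) inferInstance inferInstance e₁ e₂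
  haveI : Surjective r₂ := by
    rw [hr₂]
    exact MorphismProperty.pullbackMap (P := @Surjective) inferInstance inferInstance e₁ e₂
  have hr₂t : r₂ ≫ t = pullback.snd (r₁ ≫ pullback.snd f (g₁ ≫ V₁.ι)) (g₂ ≫ V₂.ι) := by
    rw [hr₂, ht, pullback.lift_snd, Category.comp_id]
  haveI : IsReduced (pullback (r₁ ≫ pullback.snd f (g₁ ≫ V₁.ι)) (g₂ ≫ V₂.ι)) :=
    Groth.Agent.Helper8.StabPts.isReduced_of_smooth
      (pullback.fst (r₁ ≫ pullback.snd f (g₁ ≫ V₁.ι)) (g₂ ≫ V₂.ι))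
  have hdense₂ : DenseRange (g₂ ≫ V₂.ι) := by
    rw [DenseRange, Scheme.Hom.comp_base, TopCat.coe_comp, Set.range_comp, hg₂s.range_eq,
      Set.image_univ, Scheme.Opens.range_ι]
    exact V₂.isOpen.dense hV₂
  have hη₂ : (g₂ ≫ V₂.ι) (genericPoint Y₂) = genericPoint Y₁ :=
    map_genericPoint_of_denseRange _ hdense₂
  haveI : GeometricallyReduced (pullback.snd (r₂ ≫ t)
      (Y₂.fromSpecResidueField (genericPoint Y₂))) := by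
    rw [hr₂t]
    haveI : GeometricallyReduced ((r₁ ≫ pullback.snd f (g₁ ≫ V₁.ι)).fiberToSpecResidueField
        ((g₂ ≫ V₂.ι) (genericPoint Y₂))) := by
      rw [hη₂]; exact hgr₁
    exact geomRed_fiber_bc (r₁ ≫ pullback.snd f (g₁ ≫ V₁.ι)) (g₂ ≫ V₂.ι) (genericPoint Y₂)
  haveI : LocallyOfFiniteType t := by rw [ht]; infer_instance
  haveI : QuasiCompact t := by rw [ht]; infer_instance
  -- Step C
  obtain ⟨W, hηW, hW⟩ := exists_goodSq t hP1 r₂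
  -- Step D: generic flatness of `g₁` and the choice of `V`
  haveI : Nonempty V₁.toScheme := ⟨g₁ (genericPoint Y₁)⟩
  haveI : IsIntegral V₁.toScheme := isIntegral_of_isOpenImmersion V₁.ι
  obtain ⟨F₁, hF₁d, hF₁fl, -⟩ := Groth.Agent.S0414.result g₁
  obtain ⟨V, hVne, hVV₁, hVF₁, hVV₂, hVW, hVη⟩ :=
    exists_V V₁ g₁ hg₁s V₂ g₂ hg₂s hV₂ F₁ hF₁d.nonempty W ⟨_, hηW⟩
  have hrestr : ((g₂ ≫ V₂.ι) ≫ g₁ ≫ V₁.ι) ∣_ V =
      ((g₂ ≫ V₂.ι) ∣_ ((g₁ ≫ V₁.ι) ⁻¹ᵁ V)) ≫ ((g₁ ≫ V₁.ι) ∣_ V) :=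
    morphismRestrict_comp _ _ _
  refine ⟨V, (((g₂ ≫ V₂.ι) ≫ g₁ ≫ V₁.ι) ⁻¹ᵁ V).toScheme, ((g₂ ≫ V₂.ι) ≫ g₁ ≫ V₁.ι) ∣_ V, hVne,
    ?_, ?_, ?_, ?_, ?_⟩
  · haveI : Nonempty (((g₂ ≫ V₂.ι) ≫ g₁ ≫ V₁.ι) ⁻¹ᵁ V).toScheme := ⟨⟨genericPoint Y₂, hVη⟩⟩
    exact isIntegral_of_isOpenImmersion (((g₂ ≫ V₂.ι) ≫ g₁ ≫ V₁.ι) ⁻¹ᵁ V).ι
  · rw [hrestr]
    exact MorphismProperty.comp_mem _ _ _
      (prop_restrict_comp_ι_top @IsFinite V₂ g₂ inferInstance _ hVV₂)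
      (prop_restrict_comp_ι_top @IsFinite V₁ g₁ inferInstance V hVV₁)
  · rw [hrestr]
    exact MorphismProperty.comp_mem _ _ _
      (prop_restrict_comp_ι_top @Flat V₂ g₂ inferInstance _ hVV₂)
      (prop_restrict_comp_ι @Flat V₁ g₁ F₁ hF₁fl V hVV₁ hVF₁)
  · rw [hrestr]
    exact MorphismProperty.comp_mem _ _ _
      (prop_restrict_comp_ι_top @Surjective V₂ g₂ inferInstance _ hVV₂)
      (prop_restrict_comp_ι_top @Surjective V₁ g₁ ⟨hg₁s⟩ V hVV₁)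
  · refine goodSq_of_tower f (g₁ ≫ V₁.ι) (g₂ ≫ V₂.ι) (((g₂ ≫ V₂.ι) ≫ g₁ ≫ V₁.ι) ⁻¹ᵁ V) _ ?_ ?_
    · rw [morphismRestrict_ι]
    · rw [← ht]
      exact hW _ hVW

end Groth.Agent.Helper5.GCI
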