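import Groth.Agent.Helper4.GalGeomIrr
import Mathlib

set_option autoImplicit false
universe u
open CategoryTheory CategoryTheory.Limits AlgebraicGeometry Opposite

namespace Groth.Agent.Helper5.GFE

open Groth.Agent.Helper4.GeomBC Groth.Agent.Helper4.IrrCompBC Groth.Agent.Helper4.GeomConnSub
  Groth.Agent.Helper4.GeomIrrSch Groth.Agent.Helper4.GalGeom

variable {k : Type u} [Field k]

/-- If `ι ≫ h` is geometrically irreducible, the preimage of `range ι` in any base change to
a field is irreducible. -/
theorem isIrreducible_preimage_range {W Z : Scheme.{u}} (h : W ⟶ Spec (CommRingCat.of k))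
    (ι : Z ⟶ W) [GeometricallyIrreducible (ι ≫ h)] (K : Type u) [Field K] [Algebra k K] :
    IsIrreducible ((pullback.fst h (Spec.map (CommRingCat.ofHom (algebraMap k K)))) ⁻¹'
      Set.range ι) := by
  rw [← range_bcHom]
  haveI : IrreducibleSpace ↥(pullback (ι ≫ h) (Spec.map (CommRingCat.ofHom (algebraMap k K)))) :=
    (Groth.Agent.Helper4.GeomIrrSch.geometricallyIrreducible_iff (ι ≫ h)).mp inferInstance K
  rw [← Set.image_univ]
  exact (IrreducibleSpace.isIrreducible_univ _).image _ (bcHom ι h K).continuous.continuousOn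

/-- If all irreducible components of `W` are geometrically irreducible over `k`, the same holds
for the base change of `W` to any extension field `E`. -/
theorem geometricallyIrreducible_component_bc {W : Scheme.{u}} (h : W ⟶ Spec (CommRingCat.of k))
    (hW : ∀ (T : Set W), T ∈ irreducibleComponents W → ∃ (Z : Scheme.{u}) (ι : Z ⟶ W),
      Set.range ι = T ∧ GeometricallyIrreducible (ι ≫ h))
    (E : Type u) [Field E] [Algebra k E]
    (T' : Set ↥(pullback h (Spec.map (CommRingCat.ofHom (algebraMap k E)))))
    (hT' : T' ∈ irreducibleComponents ↥(pullback h (Spec.map (CommRingCat.ofHom (algebraMap k E)))))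
    {Z' : Scheme.{u}} (ι' : Z' ⟶ pullback h (Spec.map (CommRingCat.ofHom (algebraMap k E))))
    [IsClosedImmersion ι'] (hr : Set.range ι' = T') :
    GeometricallyIrreducible (ι' ≫ pullback.snd h (Spec.map (CommRingCat.ofHom (algebraMap k E)))) := by
  set p := pullback.fst h (Spec.map (CommRingCat.ofHom (algebraMap k E))) with hp
  have hT : p '' T' ∈ irreducibleComponents W := (irreducibleComponents_bc h E).1 T' hT'
  obtain ⟨Z, ι, hrι, hgi⟩ := hW _ hT
  have hTcl : IsClosed (p '' T') := isClosed_of_mem_irreducibleComponents _ hT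
  have heq : T' = p ⁻¹' (p '' T') := by
    apply Set.Subset.antisymm (Set.subset_preimage_image _ _)
    have hirr : IsIrreducible (p ⁻¹' (p '' T')) := by
      rw [← hrι]
      exact isIrreducible_preimage_range h ι E
    exact hT'.2 hirr (Set.subset_preimage_image _ _)
  let Ω := AlgebraicClosure E
  refine geometricallyIrreducible_of_isPullback Ω
    (pullback.snd h (Spec.map (CommRingCat.ofHom (algebraMap k E)))) (bcMap h E Ω)
    (pullback.snd h (Spec.map (CommRingCat.ofHom (algebraMap k Ω)))) (isPullback_bcMap h E Ω) ι' ?_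
  rw [hr, heq, ← hrι]
  have : (bcMap h E Ω) ⁻¹' (p ⁻¹' Set.range ι) =
      (pullback.fst h (Spec.map (CommRingCat.ofHom (algebraMap k Ω)))) ⁻¹' Set.range ι := by
    ext t
    simp only [Set.mem_preimage]
    rw [hp, bcMap_fst_apply]
  rw [this]
  exact isIrreducible_preimage_range h ι Ω

end Groth.Agent.Helper5.GFE
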