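import Groth.Agent.Helper1.MonogenicLocal
import Mathlib

set_option autoImplicit false
universe u

namespace Groth.Agent.Helper5.GFE

open Polynomial

/-- A monic polynomial whose resultant with its derivative is a unit is separable. -/
theorem separable_of_isUnit_resultant {A : Type*} [CommRing A] (P : A[X]) (m : ℕ)
    (hm : P.natDegree = m) (h0 : m ≠ 0)
    (hu : IsUnit (P.resultant (derivative P) m (m - 1))) : P.Separable := by
  have hd : (derivative P).natDegree ≤ m - 1 := by
    rw [← hm]; exact natDegree_derivative_le P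
  obtain ⟨u, v, -, -, huv⟩ := exists_mul_add_mul_eq_C_resultant P (derivative P) (le_of_eq hm) hd
    (Or.inl h0)
  obtain ⟨r, hr⟩ := hu.exists_left_inv
  refine ⟨C r * u, C r * v, ?_⟩
  calc C r * u * P + C r * v * derivative P = C r * (P * u + derivative P * v) := by ring
    _ = C r * C (P.resultant (derivative P) m (m - 1)) := by rw [huv]
    _ = 1 := by rw [← C_mul, hr, C_1]

/-- For a monic separable polynomial over a field, the resultant with the derivative (in the
expected degrees) is nonzero. -/
theorem resultant_ne_zero_of_separable {K : Type*} [Field K] (p : K[X]) (hp : p.Monic)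
    (hsep : p.Separable) (m : ℕ) (hm : p.natDegree = m) :
    p.resultant (derivative p) m (m - 1) ≠ 0 := by
  have hd : (derivative p).natDegree ≤ m - 1 := by
    rw [← hm]; exact natDegree_derivative_le p
  obtain ⟨k, hk⟩ := Nat.exists_eq_add_of_le hd
  have hu : IsUnit (p.resultant (derivative p)) := (isUnit_resultant_iff_isCoprime hp).mpr hsep
  rw [hk, resultant_add_right_deg _ _ _ _ _ le_rfl, ← hm, hp.coeff_natDegree, one_pow, one_mul]
  exact hu.ne_zero

/-- `A[X]/(P)` is étale over `A` when `P` is monic and separable. -/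
theorem etale_adjoinRoot {A : Type u} [CommRing A] (P : A[X]) (hP : P.Monic)
    (hsep : P.Separable) : Algebra.Etale A (AdjoinRoot P) := by
  haveI : Algebra.FormallyEtale A (AdjoinRoot P) :=
    Groth.Agent.Helper1.MonogenicLocal.formallyEtale_quotient P hP hsep
  exact ⟨inferInstance, inferInstance⟩

/-- Let `φ : A → K` be a ring hom to a field with `P.map φ` irreducible. If `χ : A[X]/(P) → L`
and `ρ : K → L` are compatible ring homs to a field, then `ker χ` is the kernel of the canonical
map `A[X]/(P) → K[X]/(P.map φ)`; moreover `ρ` extends to `K[X]/(P.map φ) → L`. -/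
theorem ker_eq_of_compat {A K L : Type*} [CommRing A] [Field K] [Field L] (φ : A →+* K)
    (P : A[X]) (hirr : Irreducible (P.map φ)) (χ : AdjoinRoot P →+* L) (ρ : K →+* L)
    (hc : χ.comp (AdjoinRoot.of P) = ρ.comp φ) :
    RingHom.ker χ = RingHom.ker (AdjoinRoot.map φ P (P.map φ) dvd_rfl) ∧
      ∃ θ : AdjoinRoot (P.map φ) →+* L, θ.comp (AdjoinRoot.of (P.map φ)) = ρ ∧
        θ (AdjoinRoot.root (P.map φ)) = χ (AdjoinRoot.root P) := by
  haveI : Fact (Irreducible (P.map φ)) := ⟨hirr⟩
  have h0 : (P.map φ).eval₂ ρ (χ (AdjoinRoot.root P)) = 0 := by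
    rw [eval₂_map, ← hc, ← hom_eval₂, AdjoinRoot.eval₂_root, map_zero]
  let θ : AdjoinRoot (P.map φ) →+* L := AdjoinRoot.lift ρ (χ (AdjoinRoot.root P)) h0
  have hθ : θ.comp (AdjoinRoot.map φ P (P.map φ) dvd_rfl) = χ := by
    apply AdjoinRoot.ringHom_ext
    · ext a
      simp only [RingHom.comp_apply, AdjoinRoot.map_of]
      rw [show θ (AdjoinRoot.of (P.map φ) (φ a)) = ρ (φ a) from AdjoinRoot.lift_of h0]
      exact (RingHom.congr_fun hc a).symm
    · simp only [RingHom.comp_apply, AdjoinRoot.map_root]
      exact AdjoinRoot.lift_root h0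
  refine ⟨?_, θ, ?_, AdjoinRoot.lift_root h0⟩
  · rw [← hθ]
    ext b
    simp only [RingHom.mem_ker, RingHom.comp_apply]
    exact map_eq_zero_iff θ θ.injective
  · exact AdjoinRoot.lift_comp_of h0

end Groth.Agent.Helper5.GFE
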