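import Groth.Agent.Helper5.GFEb
import Mathlib

set_option autoImplicit false
universe u
open CategoryTheory CategoryTheory.Limits AlgebraicGeometry Opposite

namespace Groth.Agent.Helper5.GFE

open Polynomial

section

variable {Y : Scheme.{u}} {V : Y.Opens} (hV : IsAffineOpen V) (B : Type u) [CommRing B]
  [Algebra Γ(Y, V) B]

/-- The structure morphism `Spec B → Y` for an algebra `B` over the sections of an affine open. -/
noncomputable def strMap : Spec (CommRingCat.of B) ⟶ Y :=
  Spec.map (CommRingCat.ofHom (algebraMap Γ(Y, V) B)) ≫ hV.fromSpec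

theorem strMap_mem (y : Spec (CommRingCat.of B)) : strMap hV B y ∈ V := by
  have : strMap hV B y ∈ Set.range hV.fromSpec := ⟨_, rfl⟩
  rwa [hV.range_fromSpec] at this

theorem strMap_preimage : strMap hV B ⁻¹ᵁ V = ⊤ := by
  exact eq_top_iff.mpr fun y _ => strMap_mem hV B y

theorem strMap_appLE :
    (strMap hV B).appLE V ⊤ (by rw [strMap_preimage]) =
      CommRingCat.ofHom (algebraMap Γ(Y, V) B) ≫ (Scheme.ΓSpecIso (CommRingCat.of B)).inv := by
  have h1 := IsAffineOpen.SpecMap_appLE_fromSpec (strMap hV B) hV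
    (isAffineOpen_top (Spec (CommRingCat.of B))) (by rw [strMap_preimage])
  rw [IsAffineOpen.fromSpec_top, Scheme.isoSpec_Spec_inv] at h1
  unfold strMap at h1 ⊢
  rw [← Spec.map_comp_assoc, cancel_mono] at h1
  exact Spec.map_injective h1

/-- The evaluation of elements of `B` at a point of `Spec B`. -/
noncomputable def evalAt (y : Spec (CommRingCat.of B)) :
    B →+* (Spec (CommRingCat.of B)).residueField y :=
  ((Scheme.ΓSpecIso (CommRingCat.of B)).inv ≫
    (Spec (CommRingCat.of B)).evaluation ⊤ y trivial).hom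

theorem ker_evalAt (y : Spec (CommRingCat.of B)) : RingHom.ker (evalAt B y) = y.asIdeal := by
  ext b
  rw [RingHom.mem_ker]
  unfold evalAt
  rw [CommRingCat.hom_comp, RingHom.comp_apply]
  erw [Scheme.evaluation_eq_zero_iff_notMem_basicOpen]
  rw [basicOpen_eq_of_affine]
  exact not_not

theorem evalAt_comp (y : Spec (CommRingCat.of B)) :
    (evalAt B y).comp (algebraMap Γ(Y, V) B) =
      ((strMap hV B).residueFieldMap y).hom.comp
        (Y.evaluation V (strMap hV B y) (strMap_mem hV B y)).hom := by
  have h1 := Scheme.evaluation_naturality (strMap hV B) y (strMap_mem hV B y)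
  have h2 : (Spec (CommRingCat.of B)).evaluation (strMap hV B ⁻¹ᵁ V) y (strMap_mem hV B y) =
      (Spec (CommRingCat.of B)).presheaf.map
        (homOfLE (by rw [strMap_preimage] : (⊤ : (Spec (CommRingCat.of B)).Opens) ≤ strMap hV B ⁻¹ᵁ V)).op ≫
        (Spec (CommRingCat.of B)).evaluation ⊤ y trivial := by
    unfold Scheme.evaluation
    rw [TopCat.Presheaf.germ_res_assoc]
  rw [h2, ← Category.assoc] at h1
  have h3 : (strMap hV B).app V ≫ (Spec (CommRingCat.of B)).presheaf.map
      (homOfLE (by rw [strMap_preimage] : (⊤ : (Spec (CommRingCat.of B)).Opens) ≤ strMap hV B ⁻¹ᵁ V)).op =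
      (strMap hV B).appLE V ⊤ (by rw [strMap_preimage]) := rfl
  rw [h3, strMap_appLE, Category.assoc] at h1
  have h4 := congrArg (fun t => t.hom) h1
  simp only [CommRingCat.hom_comp] at h4
  rw [h4]
  rfl

end

end Groth.Agent.Helper5.GFE
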