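import Groth.Agent.Helper5.GFEc
import Mathlib

set_option autoImplicit false
universe u
open CategoryTheory CategoryTheory.Limits AlgebraicGeometry Opposite

namespace Groth.Agent.Helper5.GFE

open Polynomial

section

variable {Y : Scheme.{u}} {V : Y.Opens} (hV : IsAffineOpen V) (P : Γ(Y, V)[X])

/-- The finite étale cover of `V` attached to a monic separable polynomial. -/
noncomputable def coverMap : Spec (CommRingCat.of (AdjoinRoot P)) ⟶ (V : Scheme.{u}) :=
  Spec.map (CommRingCat.ofHom (algebraMap Γ(Y, V) (AdjoinRoot P))) ≫ hV.isoSpec.inv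

theorem coverMap_ι : coverMap hV P ≫ V.ι = strMap hV (AdjoinRoot P) := by
  unfold coverMap strMap
  rw [Category.assoc, IsAffineOpen.isoSpec_inv_ι]

theorem isFinite_coverMap (hP : P.Monic) : IsFinite (coverMap hV P) := by
  haveI : IsFinite (Spec.map (CommRingCat.ofHom (algebraMap Γ(Y, V) (AdjoinRoot P)))) := by
    rw [IsFinite.SpecMap_iff]
    show (algebraMap Γ(Y, V) (AdjoinRoot P)).Finite
    rw [RingHom.finite_algebraMap]
    exact hP.finite_adjoinRoot
  unfold coverMap
  infer_instance

theorem etale_coverMap (hP : P.Monic) (hsep : P.Separable) : Etale (coverMap hV P) := by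
  haveI : Etale (Spec.map (CommRingCat.ofHom (algebraMap Γ(Y, V) (AdjoinRoot P)))) := by
    rw [HasRingHomProperty.Spec_iff (P := @Etale)]
    show (algebraMap Γ(Y, V) (AdjoinRoot P)).Etale
    rw [RingHom.etale_algebraMap]
    exact etale_adjoinRoot P hP hsep
  unfold coverMap
  infer_instance

theorem surjective_coverMap (hP : P.Monic) (hdeg : P.natDegree ≠ 0) :
    Surjective (coverMap hV P) := by
  haveI : Surjective (Spec.map (CommRingCat.ofHom (algebraMap Γ(Y, V) (AdjoinRoot P)))) := by
    constructor
    by_cases hnt : Nontrivial Γ(Y, V)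
    · haveI := hP.free_adjoinRoot
      haveI : Nontrivial (AdjoinRoot P) := by
        have b := (AdjoinRoot.powerBasis' hP).basis
        have i : Fin (AdjoinRoot.powerBasis' hP).dim := ⟨0, by
          rw [AdjoinRoot.powerBasis'_dim]; exact Nat.pos_of_ne_zero hdeg⟩
        exact nontrivial_of_ne _ _ (b.ne_zero i)
      exact PrimeSpectrum.comap_surjective_of_faithfullyFlat (A := Γ(Y, V)) (B := AdjoinRoot P)
    · rw [not_nontrivial_iff_subsingleton] at hnt
      intro x
      exact (PrimeSpectrum.instIsEmptyOfSubsingleton.false x).elim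
  unfold coverMap
  infer_instance

end

end Groth.Agent.Helper5.GFE
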