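import Mathlib
import Groth.Agent.Helper5.GFlCc
import Groth.Agent.Lead.RegDimOne

set_option autoImplicit false
universe u
open CategoryTheory CategoryTheory.Limits AlgebraicGeometry Opposite

namespace Groth.Agent.Helper5.GFlC

/-- The scheme-theoretic image of a quasi-compact morphism `g : Z' ⟶ X` with `Z'` flat over `Y`
is flat over `Y`, when the local rings of `Y` are regular of dimension at most one. -/
theorem flat_imageι_comp_of_flat {X Y Z' : Scheme.{u}} [IsIntegral Y]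
    (hY : ∀ y : Y, IsRegularLocalRing (Y.presheaf.stalk y) ∧ ringKrullDim (Y.presheaf.stalk y) ≤ 1)
    (f : X ⟶ Y) (g : Z' ⟶ X) [QuasiCompact g] [Flat (g ≫ f)] :
    Flat (g.imageι ≫ f) := by
  rw [HasRingHomProperty.iff_exists_appLE (P := @Flat)
    (RingHom.Flat.stableUnderComposition.stableUnderCompositionWithLocalizationAway
      RingHom.Flat.holdsForLocalizationAway).left]
  intro x
  obtain ⟨V, hV, hyV, -⟩ := exists_affine_nhd (f (g.imageι x)) ⊤ trivial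
  obtain ⟨U, hU, hxU, hUV⟩ := exists_affine_nhd (g.imageι x) (f ⁻¹ᵁ V) hyV
  have e : g.imageι ⁻¹ᵁ U ≤ (g.imageι ≫ f) ⁻¹ᵁ V := fun p hp => hUV hp
  refine ⟨⟨V, hV⟩, ⟨g.imageι ⁻¹ᵁ U, hU.preimage g.imageι⟩, hxU, e, ?_⟩
  haveI : Nonempty V := ⟨⟨_, hyV⟩⟩
  set ψ := ((g.imageι ≫ f).appLE V (g.imageι ⁻¹ᵁ U) e).hom with hψ
  change ψ.Flat
  letI := ψ.toAlgebra
  refine flat_of_torsion_eq_bot hY hV _ ?_
  rw [eq_bot_iff]
  rintro c ⟨⟨a, ha⟩, hac⟩
  rw [Submodule.mem_bot]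
  have hac' : ψ a * c = 0 := hac
  have hinj := g.toImage_app_injective ⟨U, hU⟩
  apply hinj
  rw [map_zero]
  have h1 : (g.toImage.app (g.imageι ⁻¹ᵁ U)).hom (ψ a) *
      (g.toImage.app (g.imageι ⁻¹ᵁ U)).hom c = 0 := by
    rw [← map_mul, hac', map_zero]
  have hle : g.toImage ⁻¹ᵁ (g.imageι ⁻¹ᵁ U) ≤ (g.toImage ≫ g.imageι ≫ f) ⁻¹ᵁ V :=
    fun p hp => e hp
  have h2 : (g.toImage.app (g.imageι ⁻¹ᵁ U)).hom (ψ a) =
      ((g.toImage ≫ g.imageι ≫ f).appLE V (g.toImage ⁻¹ᵁ (g.imageι ⁻¹ᵁ U)) hle).hom a := by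
    rw [hψ, g.toImage.app_eq_appLE, ← CommRingCat.comp_apply, Scheme.Hom.appLE_comp_appLE]
  rw [h2] at h1
  haveI : Flat (g.toImage ≫ g.imageι ≫ f) := by
    rw [Scheme.Hom.toImage_imageι_assoc]; infer_instance
  set d := (g.toImage.app (g.imageι ⁻¹ᵁ U)).hom c with hd
  change d = 0
  refine Z'.IsSheaf.section_ext fun t ht => ?_
  obtain ⟨W', hW', htW', hW'W⟩ := exists_affine_nhd t _ ht
  refine ⟨W', hW'W, htW', ?_⟩
  rw [map_zero]
  have hle' : W' ≤ (g.toImage ≫ g.imageι ≫ f) ⁻¹ᵁ V := hW'W.trans hle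
  have hfl : ((g.toImage ≫ g.imageι ≫ f).appLE V W' hle').hom.Flat :=
    Scheme.Hom.flat_appLE _ hV hW' hle'
  have h3 : ((g.toImage ≫ g.imageι ≫ f).appLE V W' hle').hom a *
      (Z'.presheaf.map (homOfLE hW'W).op).hom d = 0 := by
    have h4 := congrArg (Z'.presheaf.map (homOfLE hW'W).op).hom h1
    rw [map_mul, map_zero, ← CommRingCat.comp_apply, Scheme.Hom.appLE_map] at h4
    exact h4
  letI := ((g.toImage ≫ g.imageι ≫ f).appLE V W' hle').hom.toAlgebra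
  haveI : Module.Flat Γ(Y, V) Γ(Z', W') := hfl
  have hreg := Module.Flat.isSMulRegular_of_nonZeroDivisors (M := Γ(Z', W')) ha
  apply hreg
  change a • _ = a • (0 : Γ(Z', W'))
  rw [smul_zero, Algebra.smul_def]
  exact h3

/-- Extension of a flat closed subscheme over a dense open of the base to a flat closed
subscheme, with uniqueness. -/
theorem exists_flat_extension {Y B : Scheme.{u}} [IsIntegral Y] [IsLocallyNoetherian Y]
    (hY : ∀ y : Y, IsRegularLocalRing (Y.presheaf.stalk y) ∧ ringKrullDim (Y.presheaf.stalk y) ≤ 1)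
    (b : B ⟶ Y) (U : Y.Opens) (hne : (U : Set Y).Nonempty) {X : Scheme.{u}}
    (i : X ⟶ ↑(b ⁻¹ᵁ U)) [IsClosedImmersion i] [Flat (i ≫ (b ⁻¹ᵁ U).ι ≫ b)] :
    ∃ (X' : Scheme.{u}) (i' : X' ⟶ B) (j : X ⟶ X'),
      IsClosedImmersion i' ∧ Flat (i' ≫ b) ∧ IsPullback j i i' (b ⁻¹ᵁ U).ι ∧
      ∀ (X'' : Scheme.{u}) (i'' : X'' ⟶ B) (j'' : X ⟶ X''),
        IsClosedImmersion i'' → Flat (i'' ≫ b) → IsPullback j'' i i'' (b ⁻¹ᵁ U).ι →
        ∃ e : X' ≅ X'', e.hom ≫ i'' = i' := by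
  haveI : QuasiCompact (b ⁻¹ᵁ U).ι :=
    MorphismProperty.of_isPullback (P := @QuasiCompact) (isPullback_morphismRestrict b U)
      inferInstance
  haveI : Flat ((i ≫ (b ⁻¹ᵁ U).ι) ≫ b) := by rw [Category.assoc]; infer_instance
  haveI : IsDominant U.ι := by
    rw [isDominant_iff, DenseRange, Scheme.Opens.range_ι]
    exact U.isOpen.dense hne
  haveI : IsSchemeTheoreticallyDominant U.ι := IsSchemeTheoreticallyDominant.of_isDominant _
  refine ⟨(i ≫ (b ⁻¹ᵁ U).ι).image, (i ≫ (b ⁻¹ᵁ U).ι).imageι, (i ≫ (b ⁻¹ᵁ U).ι).toImage,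
    inferInstance, flat_imageι_comp_of_flat hY b (i ≫ (b ⁻¹ᵁ U).ι),
    isPullback_image (b ⁻¹ᵁ U).ι i, ?_⟩
  intro X'' i'' j'' _ _ H
  have hP := H.paste_vert (isPullback_morphismRestrict b U).flip
  haveI : IsSchemeTheoreticallyDominant j'' :=
    IsSchemeTheoreticallyDominant.of_isPullback hP.flip
  have hker := ker_eq_of_dominant (b ⁻¹ᵁ U).ι i i'' j'' H.w
  exact exists_iso_of_ker_eq _ _ (by
    rw [hker, Scheme.Hom.imageι, Scheme.IdealSheafData.ker_subschemeι])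

end Groth.Agent.Helper5.GFlC
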