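import Mathlib
import Groth.Agent.Helper5.GFlCa

set_option autoImplicit false
universe u
open CategoryTheory CategoryTheory.Limits AlgebraicGeometry Opposite

namespace Groth.Agent.Helper5.GFlEq

/-- `Spec` of an injective ring map from a ring to a field is scheme-theoretically dominant
when the source ring is a domain. -/
theorem isSchemeTheoreticallyDominant_SpecMap_fractionRing (R K : Type u) [CommRing R] [IsDomain R]
    [Field K] [Algebra R K] [IsFractionRing R K] :
    IsSchemeTheoreticallyDominant (Spec.map (CommRingCat.ofHom (algebraMap R K))) := by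
  haveI : IsReduced (Spec (CommRingCat.of R)) := by
    rw [affine_isReduced_iff]
    infer_instance
  haveI : IsDominant (Spec.map (CommRingCat.ofHom (algebraMap R K))) := by
    rw [isDominant_iff]
    refine (PrimeSpectrum.denseRange_comap_iff_ker_le_nilRadical _).mpr ?_
    have h0 : RingHom.ker (CommRingCat.Hom.hom (CommRingCat.ofHom (algebraMap R K))) = ⊥ :=
      (RingHom.injective_iff_ker_eq_bot _).mp (IsFractionRing.injective R K)
    rw [h0]
    exact bot_le
  exact IsSchemeTheoreticallyDominant.of_isDominant _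

instance quasiCompact_SpecMap_field (R K : Type u) [CommRing R] [Field K] (φ : R →+* K) :
    QuasiCompact (Spec.map (CommRingCat.ofHom φ)) := by
  haveI : Finite ↥(Spec (CommRingCat.of K)) :=
    inferInstanceAs (Finite (PrimeSpectrum K))
  exact Groth.Agent.Helper5.GFlC.quasiCompact_of_finite _

section key

variable {S Sη : Scheme.{u}} (ι : Sη ⟶ S) [IsSchemeTheoreticallyDominant ι] [QuasiCompact ι]

/-- A morphism from a flat `S`-scheme `W` factors through a closed immersion as soon as its
restriction to the generic fibre does. -/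
theorem exists_lift_of_generic {W P Γ : Scheme.{u}} (w : W ⟶ S) [Flat w]
    (γ : Γ ⟶ P) [IsClosedImmersion γ] (φ : W ⟶ P)
    (H : ∃ ψ : pullback w ι ⟶ Γ, ψ ≫ γ = pullback.fst w ι ≫ φ) :
    ∃ μ : W ⟶ Γ, μ ≫ γ = φ := by
  obtain ⟨ψ, hψ⟩ := H
  haveI : IsSchemeTheoreticallyDominant (pullback.fst w ι) :=
    IsSchemeTheoreticallyDominant.of_isPullback (IsPullback.of_hasPullback w ι).flip
  have hker : γ.ker ≤ φ.ker := by
    have h1 : (pullback.fst w ι ≫ φ).ker = φ.ker := by
      rw [Scheme.Hom.ker_comp, Scheme.Hom.ker_eq_bot (pullback.fst w ι),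
        Scheme.IdealSheafData.map_bot]
    rw [← h1, ← hψ]
    exact Scheme.Hom.le_ker_comp _ _
  exact ⟨IsClosedImmersion.lift γ φ hker, IsClosedImmersion.lift_fac _ _ _⟩

end key

end Groth.Agent.Helper5.GFlEq
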