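import Mathlib
import Groth.Prelude

/-!
# GRegA: regular schemes (all stalks regular local rings), basic locality
-/

set_option autoImplicit false
set_option linter.style.haveILetI false
set_option linter.unusedSectionVars false
set_option linter.unusedVariables false
universe u

namespace Groth.Agent.Helper5.GReg

open CategoryTheory CategoryTheory.Limits AlgebraicGeometry TopologicalSpace TensorProduct

/-- all local rings of the scheme are regular local rings -/
def RegSch (Z : Scheme.{u}) : Prop := ∀ z : Z, IsRegularLocalRing (Z.presheaf.stalk z)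

theorem regSch_of_isOpenImmersion {Z' Z : Scheme.{u}} (j : Z' ⟶ Z) [IsOpenImmersion j]
    (h : RegSch Z) : RegSch Z' := by
  intro z
  haveI := h (j z)
  exact IsRegularLocalRing.of_ringEquiv (asIso (j.stalkMap z)).commRingCatIsoToRingEquiv

theorem regSch_of_forall_exists {Z : Scheme.{u}}
    (h : ∀ z : Z, ∃ (Z' : Scheme.{u}) (j : Z' ⟶ Z), IsOpenImmersion j ∧ z ∈ Set.range j ∧
      RegSch Z') : RegSch Z := by
  intro z
  obtain ⟨Z', j, hj, ⟨z', rfl⟩, hZ'⟩ := h z
  haveI := hZ' z'
  exact IsRegularLocalRing.of_ringEquiv (asIso (j.stalkMap z')).commRingCatIsoToRingEquiv.symm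

theorem regSch_of_iso {Z Z' : Scheme.{u}} (e : Z ≅ Z') (h : RegSch Z) : RegSch Z' :=
  regSch_of_isOpenImmersion e.inv h

theorem regSch_Spec_of_isRegularRing (R : Type u) [CommRing R] [IsRegularRing R] :
    RegSch (Spec (CommRingCat.of R)) := by
  intro x
  let k : Algebra R ((Spec (CommRingCat.of R)).presheaf.stalk x) := StructureSheaf.stalkAlgebra R x
  have : IsLocalization.AtPrime ((Spec (CommRingCat.of R)).presheaf.stalk x) x.asIdeal :=
    StructureSheaf.IsLocalization.to_stalk R x
  exact IsRegularLocalRing.of_ringEquiv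
    (IsLocalization.algEquiv x.asIdeal.primeCompl (Localization.AtPrime x.asIdeal)
      ((Spec (CommRingCat.of R)).presheaf.stalk x)).toRingEquiv

theorem isRegularRing_of_regSch_Spec (R : Type u) [CommRing R] [IsNoetherianRing R]
    (h : RegSch (Spec (CommRingCat.of R))) : IsRegularRing R := by
  rw [isRegularRing_iff]
  intro p hp
  let x : Spec (CommRingCat.of R) := ⟨p, hp⟩
  haveI := h x
  let k : Algebra R ((Spec (CommRingCat.of R)).presheaf.stalk x) := StructureSheaf.stalkAlgebra R x
  have : IsLocalization.AtPrime ((Spec (CommRingCat.of R)).presheaf.stalk x) x.asIdeal :=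
    StructureSheaf.IsLocalization.to_stalk R x
  exact IsRegularLocalRing.of_ringEquiv
    (IsLocalization.algEquiv x.asIdeal.primeCompl (Localization.AtPrime x.asIdeal)
      ((Spec (CommRingCat.of R)).presheaf.stalk x)).toRingEquiv.symm

/-- geometric regularity of a morphism to (the spectrum of) a field, in geometric terms:
all base changes along finite morphisms from spectra of fields are regular schemes -/
def GRM {Z T : Scheme.{u}} (g : Z ⟶ T) : Prop :=
  ∀ (k' : Type u) [Field k'] (t : Spec (CommRingCat.of k') ⟶ T), IsFinite t →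
    RegSch (pullback g t)

theorem grm_openImmersion_comp {Z' Z T : Scheme.{u}} (j : Z' ⟶ Z) [IsOpenImmersion j] (g : Z ⟶ T)
    (h : GRM g) : GRM (j ≫ g) := by
  intro k' _ t ht
  have := h k' t ht
  exact regSch_of_isOpenImmersion
    (pullback.map (j ≫ g) t g t j (𝟙 _) (𝟙 _) (by simp) (by simp)) this

theorem grm_of_forall_exists {Z T : Scheme.{u}} (g : Z ⟶ T)
    (h : ∀ z : Z, ∃ (Z' : Scheme.{u}) (j : Z' ⟶ Z), IsOpenImmersion j ∧ z ∈ Set.range j ∧
      GRM (j ≫ g)) : GRM g := by
  intro k' _ t ht
  apply regSch_of_forall_exists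
  intro w
  obtain ⟨Z', j, hj, hz, hZ'⟩ := h (pullback.fst g t w)
  refine ⟨pullback (j ≫ g) t, pullback.map (j ≫ g) t g t j (𝟙 _) (𝟙 _) (by simp) (by simp),
    inferInstance, ?_, hZ' k' t ht⟩
  rw [Scheme.Pullback.range_map]
  refine ⟨hz, ?_⟩
  simp

/-- invariance under isomorphisms of arrows -/
theorem grm_of_arrowIso {Z T Z' T' : Scheme.{u}} (g : Z ⟶ T) (g' : Z' ⟶ T')
    (eZ : Z ≅ Z') (eT : T ≅ T') (w : eZ.hom ≫ g' = g ≫ eT.hom) (h : GRM g) : GRM g' := by
  intro k' _ t ht
  have ht' : IsFinite (t ≫ eT.inv) := inferInstance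
  have := h k' (t ≫ eT.inv) ht'
  refine regSch_of_isOpenImmersion
    (pullback.map g' t g (t ≫ eT.inv) eZ.inv (𝟙 _) eT.inv ?_ (by simp)) this
  rw [← cancel_mono eT.hom, Category.assoc, Category.assoc, Iso.inv_hom_id, Category.comp_id, ← w,
    Iso.inv_hom_id_assoc]

end Groth.Agent.Helper5.GReg
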