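import Mathlib
import Groth.Prelude
import Groth.Agent.Helper5.GRegA

/-!
# GRegC: fibres of a morphism restricted along open immersions
-/

set_option autoImplicit false
set_option linter.style.haveILetI false
set_option linter.unusedSectionVars false
set_option linter.unusedVariables false
universe u

namespace Groth.Agent.Helper5.GReg

open CategoryTheory CategoryTheory.Limits AlgebraicGeometry TopologicalSpace TensorProduct

variable {X Y X' Y' : Scheme.{u}} (f : X ⟶ Y) (f' : X' ⟶ Y') (jX : X' ⟶ X) (jY : Y' ⟶ Y)
  [IsOpenImmersion jX] [IsOpenImmersion jY] (w : jX ≫ f = f' ≫ jY) (y' : Y')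

/-- the open immersion of the fibre of a restricted morphism into the fibre -/
noncomputable def fiberMapOfOpen :
    pullback f' (Y'.fromSpecResidueField y') ⟶ pullback f (Y.fromSpecResidueField (jY y')) :=
  pullback.map f' (Y'.fromSpecResidueField y') f (Y.fromSpecResidueField (jY y')) jX
    (Spec.map (jY.residueFieldMap y')) jY w.symm (by simp)

instance : IsOpenImmersion (fiberMapOfOpen f f' jX jY w y') := by
  unfold fiberMapOfOpen
  infer_instance

theorem fiberMapOfOpen_fst :
    fiberMapOfOpen f f' jX jY w y' ≫ pullback.fst f (Y.fromSpecResidueField (jY y')) =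
      pullback.fst f' (Y'.fromSpecResidueField y') ≫ jX := by
  unfold fiberMapOfOpen
  exact pullback.lift_fst _ _ _

theorem fiberMapOfOpen_snd :
    fiberMapOfOpen f f' jX jY w y' ≫ pullback.snd f (Y.fromSpecResidueField (jY y')) =
      pullback.snd f' (Y'.fromSpecResidueField y') ≫ Spec.map (jY.residueFieldMap y') := by
  unfold fiberMapOfOpen
  exact pullback.lift_snd _ _ _

theorem range_fiberMapOfOpen :
    Set.range (fiberMapOfOpen f f' jX jY w y') =
      (pullback.fst f (Y.fromSpecResidueField (jY y'))) ⁻¹' (Set.range jX) := by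
  unfold fiberMapOfOpen
  rw [Scheme.Pullback.range_map]
  have : Set.range (Spec.map (jY.residueFieldMap y')) = Set.univ :=
    Set.range_eq_univ.mpr (Spec.map (jY.residueFieldMap y')).surjective
  rw [this, Set.preimage_univ, Set.inter_univ]

include jX w in
/-- geometric regularity of the fibre of the restricted morphism, from that of the fibre -/
theorem grm_fiber_of_open (h : GRM (pullback.snd f (Y.fromSpecResidueField (jY y')))) :
    GRM (pullback.snd f' (Y'.fromSpecResidueField y')) := by
  have h1 := grm_openImmersion_comp (fiberMapOfOpen f f' jX jY w y') _ h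
  rw [fiberMapOfOpen_snd] at h1
  refine grm_of_arrowIso _ _ (Iso.refl _) (asIso (Spec.map (jY.residueFieldMap y'))).symm ?_ h1
  simp

theorem grm_fiber_comp_of_open (h : GRM (pullback.snd f' (Y'.fromSpecResidueField y'))) :
    GRM (fiberMapOfOpen f f' jX jY w y' ≫ pullback.snd f (Y.fromSpecResidueField (jY y'))) := by
  rw [fiberMapOfOpen_snd]
  refine grm_of_arrowIso _ _ (Iso.refl _) (asIso (Spec.map (jY.residueFieldMap y'))) ?_ h
  simp

end Groth.Agent.Helper5.GReg
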