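import Mathlib
import Groth.Prelude
import Groth.Agent.Helper5.GRegC

/-!
# GLocA: morphisms with geometrically-`P` fibres, for an isomorphism invariant property `P` of
(local) rings; generic version of `GRegA`–`GRegF`
-/

set_option autoImplicit false
set_option linter.style.haveILetI false
set_option linter.unusedSectionVars false
set_option linter.unusedVariables false
universe u

namespace Groth.Agent.Helper5.GLoc

open CategoryTheory CategoryTheory.Limits AlgebraicGeometry TopologicalSpace TensorProduct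
open Groth.Agent.Helper5.GReg

/-- an isomorphism-invariant property of rings (to be applied to local rings) -/
structure RProp where
  /-- the property -/
  P : ∀ (R : Type u) [CommRing R], Prop
  iso : ∀ (R R' : Type u) [CommRing R] [CommRing R'], (R ≃+* R') → P R → P R'

variable (Pr : RProp.{u})

/-- all local rings of the scheme have `P` -/
def PSch (Z : Scheme.{u}) : Prop := ∀ z : Z, Pr.P (Z.presheaf.stalk z)

/-- all localizations at primes have `P` -/
def RingP (R : Type u) [CommRing R] : Prop :=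
  ∀ (p : Ideal R) [p.IsPrime], Pr.P (Localization.AtPrime p)

/-- geometrically `P` algebra over a field (finite extensions) -/
def GeomP (k : Type u) [Field k] (A : Type u) [CommRing A] [Algebra k A] : Prop :=
  ∀ (k' : Type u) [Field k'] [Algebra k k'], Module.Finite k k' → RingP Pr (k' ⊗[k] A)

/-- ring maps which are flat with geometrically `P` fibres -/
def PHom (A : Type u) [CommRing A] (B : Type u) [CommRing B] [Algebra A B] : Prop :=
  Module.Flat A B ∧ ∀ (p : Ideal A) [p.IsPrime], GeomP Pr p.ResidueField (p.Fiber B)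

/-- all finite field base changes of the morphism have `P` -/
def GPM {Z T : Scheme.{u}} (g : Z ⟶ T) : Prop :=
  ∀ (k' : Type u) [Field k'] (t : Spec (CommRingCat.of k') ⟶ T), IsFinite t →
    PSch Pr (pullback g t)

variable {Pr}

theorem ringP_of_ringEquiv {R R' : Type u} [CommRing R] [CommRing R'] (e : R ≃+* R')
    (h : RingP Pr R) : RingP Pr R' := by
  intro p' hp'
  haveI : (p'.comap (e : R →+* R')).IsPrime := Ideal.comap_isPrime _ _
  exact Pr.iso _ _ (Localization.localRingEquiv (p'.comap (e : R →+* R')) p' e rfl)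
    (h (p'.comap (e : R →+* R')))

theorem psch_of_isOpenImmersion {Z' Z : Scheme.{u}} (j : Z' ⟶ Z) [IsOpenImmersion j]
    (h : PSch Pr Z) : PSch Pr Z' := fun z =>
  Pr.iso _ _ (asIso (j.stalkMap z)).commRingCatIsoToRingEquiv (h (j z))

theorem psch_of_forall_exists {Z : Scheme.{u}}
    (h : ∀ z : Z, ∃ (Z' : Scheme.{u}) (j : Z' ⟶ Z), IsOpenImmersion j ∧ z ∈ Set.range j ∧
      PSch Pr Z') : PSch Pr Z := by
  intro z
  obtain ⟨Z', j, hj, ⟨z', rfl⟩, hZ'⟩ := h z
  exact Pr.iso _ _ (asIso (j.stalkMap z')).commRingCatIsoToRingEquiv.symm (hZ' z')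

theorem psch_of_iso {Z Z' : Scheme.{u}} (e : Z ≅ Z') (h : PSch Pr Z) : PSch Pr Z' :=
  psch_of_isOpenImmersion e.inv h

theorem psch_Spec_iff (R : Type u) [CommRing R] :
    PSch Pr (Spec (CommRingCat.of R)) ↔ RingP Pr R := by
  constructor
  · intro h p hp
    let x : Spec (CommRingCat.of R) := ⟨p, hp⟩
    let k : Algebra R ((Spec (CommRingCat.of R)).presheaf.stalk x) :=
      StructureSheaf.stalkAlgebra R x
    have : IsLocalization.AtPrime ((Spec (CommRingCat.of R)).presheaf.stalk x) x.asIdeal :=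
      StructureSheaf.IsLocalization.to_stalk R x
    exact Pr.iso _ _ (IsLocalization.algEquiv x.asIdeal.primeCompl (Localization.AtPrime x.asIdeal)
      ((Spec (CommRingCat.of R)).presheaf.stalk x)).toRingEquiv.symm (h x)
  · intro h x
    let k : Algebra R ((Spec (CommRingCat.of R)).presheaf.stalk x) :=
      StructureSheaf.stalkAlgebra R x
    have : IsLocalization.AtPrime ((Spec (CommRingCat.of R)).presheaf.stalk x) x.asIdeal :=
      StructureSheaf.IsLocalization.to_stalk R x
    exact Pr.iso _ _ (IsLocalization.algEquiv x.asIdeal.primeCompl (Localization.AtPrime x.asIdeal)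
      ((Spec (CommRingCat.of R)).presheaf.stalk x)).toRingEquiv (h x.asIdeal)

theorem gpm_openImmersion_comp {Z' Z T : Scheme.{u}} (j : Z' ⟶ Z) [IsOpenImmersion j] (g : Z ⟶ T)
    (h : GPM Pr g) : GPM Pr (j ≫ g) := by
  intro k' _ t ht
  have := h k' t ht
  exact psch_of_isOpenImmersion
    (pullback.map (j ≫ g) t g t j (𝟙 _) (𝟙 _) (by simp) (by simp)) this

theorem gpm_of_forall_exists {Z T : Scheme.{u}} (g : Z ⟶ T)
    (h : ∀ z : Z, ∃ (Z' : Scheme.{u}) (j : Z' ⟶ Z), IsOpenImmersion j ∧ z ∈ Set.range j ∧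
      GPM Pr (j ≫ g)) : GPM Pr g := by
  intro k' _ t ht
  apply psch_of_forall_exists
  intro w
  obtain ⟨Z', j, hj, hz, hZ'⟩ := h (pullback.fst g t w)
  refine ⟨pullback (j ≫ g) t, pullback.map (j ≫ g) t g t j (𝟙 _) (𝟙 _) (by simp) (by simp),
    inferInstance, ?_, hZ' k' t ht⟩
  rw [Scheme.Pullback.range_map]
  refine ⟨hz, ?_⟩
  simp

theorem gpm_of_arrowIso {Z T Z' T' : Scheme.{u}} (g : Z ⟶ T) (g' : Z' ⟶ T')
    (eZ : Z ≅ Z') (eT : T ≅ T') (w : eZ.hom ≫ g' = g ≫ eT.hom) (h : GPM Pr g) : GPM Pr g' := by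
  intro k' _ t ht
  have ht' : IsFinite (t ≫ eT.inv) := inferInstance
  have := h k' (t ≫ eT.inv) ht'
  refine psch_of_isOpenImmersion
    (pullback.map g' t g (t ≫ eT.inv) eZ.inv (𝟙 _) eT.inv ?_ (by simp)) this
  rw [← cancel_mono eT.hom, Category.assoc, Category.assoc, Iso.inv_hom_id, Category.comp_id, ← w,
    Iso.inv_hom_id_assoc]

theorem gpm_iff_openCover {Z T : Scheme.{u}} (γ : Z ⟶ T) (𝒰 : Z.OpenCover) :
    GPM Pr γ ↔ ∀ i, GPM Pr (𝒰.f i ≫ γ) := by
  constructor
  · intro h i
    exact gpm_openImmersion_comp _ _ h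
  · intro h
    apply gpm_of_forall_exists
    intro z
    obtain ⟨i, y, hy⟩ := 𝒰.exists_eq z
    exact ⟨_, 𝒰.f i, inferInstance, ⟨y, hy⟩, h i⟩

theorem gpm_pullback_fst_iff_openCover {Z T T' : Scheme.{u}} (t : T' ⟶ T) (γ : Z ⟶ T)
    (𝒰 : Z.OpenCover) :
    GPM Pr (pullback.fst t γ) ↔ ∀ i, GPM Pr (pullback.fst t (𝒰.f i ≫ γ)) := by
  rw [gpm_iff_openCover (pullback.fst t γ) (Scheme.Pullback.openCoverOfRight 𝒰 t γ)]
  refine forall_congr' fun i => ?_
  have : (Scheme.Pullback.openCoverOfRight 𝒰 t γ).f i ≫ pullback.fst t γ =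
      pullback.fst t (𝒰.f i ≫ γ) :=
    (pullback.lift_fst _ _ _).trans (Category.comp_id _)
  rw [this]
  rfl

theorem gpm_SpecMap_iff (k A : Type u) [Field k] [CommRing A] [Algebra k A] :
    GPM Pr (Spec.map (CommRingCat.ofHom (algebraMap k A))) ↔ GeomP Pr k A := by
  constructor
  · intro h k' _ _ hfin
    have ht : IsFinite (Spec.map (CommRingCat.ofHom (algebraMap k k'))) := by
      rw [IsFinite.SpecMap_iff]
      exact RingHom.finite_algebraMap.mpr hfin
    have h1 := h k' _ ht
    have h2 : PSch Pr (Spec (CommRingCat.of (A ⊗[k] k'))) :=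
      psch_of_iso (pullbackSpecIso k A k') h1
    exact ringP_of_ringEquiv (Algebra.TensorProduct.comm k A k').toRingEquiv
      ((psch_Spec_iff _).mp h2)
  · intro h k' _ t ht
    obtain ⟨ψ, rfl⟩ := Spec.map_surjective t
    rw [IsFinite.SpecMap_iff] at ht
    letI : Algebra k k' := ψ.hom.toAlgebra
    have hfin : Module.Finite k k' := RingHom.finite_algebraMap.mp ht
    have h1 : RingP Pr (A ⊗[k] k') :=
      ringP_of_ringEquiv (Algebra.TensorProduct.comm k k' A).toRingEquiv (h k' hfin)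
    exact psch_of_iso (pullbackSpecIso k A k').symm ((psch_Spec_iff _).mpr h1)

section fiberOpen

variable {X Y X' Y' : Scheme.{u}} (f : X ⟶ Y) (f' : X' ⟶ Y') (jX : X' ⟶ X) (jY : Y' ⟶ Y)
  [IsOpenImmersion jX] [IsOpenImmersion jY] (w : jX ≫ f = f' ≫ jY) (y' : Y')

include jX w in
theorem gpm_fiber_of_open (h : GPM Pr (pullback.snd f (Y.fromSpecResidueField (jY y')))) :
    GPM Pr (pullback.snd f' (Y'.fromSpecResidueField y')) := by
  have h1 := gpm_openImmersion_comp (fiberMapOfOpen f f' jX jY w y') _ h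
  rw [fiberMapOfOpen_snd] at h1
  refine gpm_of_arrowIso _ _ (Iso.refl _) (asIso (Spec.map (jY.residueFieldMap y'))).symm ?_ h1
  simp

theorem gpm_fiber_comp_of_open (h : GPM Pr (pullback.snd f' (Y'.fromSpecResidueField y'))) :
    GPM Pr (fiberMapOfOpen f f' jX jY w y' ≫ pullback.snd f (Y.fromSpecResidueField (jY y'))) := by
  rw [fiberMapOfOpen_snd]
  refine gpm_of_arrowIso _ _ (Iso.refl _) (asIso (Spec.map (jY.residueFieldMap y'))) ?_ h
  simp

end fiberOpen

theorem gpm_fiber_Spec_iff (A B : Type u) [CommRing A] [CommRing B] [Algebra A B]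
    (p : PrimeSpectrum A) :
    GPM Pr (pullback.snd (Spec.map (CommRingCat.ofHom (algebraMap A B)))
      ((Spec (CommRingCat.of A)).fromSpecResidueField p)) ↔
    GeomP Pr p.asIdeal.ResidueField (p.asIdeal.Fiber B) := by
  rw [← gpm_SpecMap_iff]
  let e := Spec.fiberToSpecResidueFieldIso A B p
  constructor
  · intro h
    exact gpm_of_arrowIso _ _ (Arrow.leftFunc.mapIso e) (Arrow.rightFunc.mapIso e)
      (Arrow.w e.hom) h
  · intro h
    exact gpm_of_arrowIso _ _ (Arrow.leftFunc.mapIso e.symm) (Arrow.rightFunc.mapIso e.symm)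
      (Arrow.w e.inv) h

end Groth.Agent.Helper5.GLoc
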