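import Mathlib
import Groth.Prelude
import Groth.Agent.Helper5.GRegA

/-!
# GRegB: geometric regularity of an algebra over a field in geometric terms
-/

set_option autoImplicit false
set_option linter.style.haveILetI false
set_option linter.unusedSectionVars false
set_option linter.unusedVariables false
universe u

namespace Groth.Agent.Helper5.GReg

open CategoryTheory CategoryTheory.Limits AlgebraicGeometry TopologicalSpace TensorProduct

theorem isNoetherianRing_tensor_finite (k A k' : Type u) [Field k] [CommRing A] [Algebra k A]
    [IsNoetherianRing A] [Field k'] [Algebra k k'] [Module.Finite k k'] :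
    IsNoetherianRing (A ⊗[k] k') := by
  haveI : Module.Finite A (A ⊗[k] k') := inferInstance
  exact Algebra.FiniteType.isNoetherianRing A (A ⊗[k] k')

theorem grm_SpecMap_iff (k A : Type u) [Field k] [CommRing A] [Algebra k A] [IsNoetherianRing A] :
    GRM (Spec.map (CommRingCat.ofHom (algebraMap k A))) ↔ CAlg.IsGeometricallyRegular k A := by
  constructor
  · intro h k' _ _ hfin
    have ht : IsFinite (Spec.map (CommRingCat.ofHom (algebraMap k k'))) := by
      rw [IsFinite.SpecMap_iff]
      exact RingHom.finite_algebraMap.mpr hfin
    have h1 := h k' _ ht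
    have h2 : RegSch (Spec (CommRingCat.of (A ⊗[k] k'))) :=
      regSch_of_iso (pullbackSpecIso k A k') h1
    haveI := isNoetherianRing_tensor_finite k A k'
    haveI := isRegularRing_of_regSch_Spec _ h2
    exact IsRegularRing.of_ringEquiv (Algebra.TensorProduct.comm k A k').toRingEquiv
  · intro h k' _ t ht
    obtain ⟨ψ, rfl⟩ := Spec.map_surjective t
    rw [IsFinite.SpecMap_iff] at ht
    letI : Algebra k k' := ψ.hom.toAlgebra
    have hfin : Module.Finite k k' := RingHom.finite_algebraMap.mp ht
    haveI : IsRegularRing (k' ⊗[k] A) := h k' hfin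
    haveI : IsRegularRing (A ⊗[k] k') :=
      IsRegularRing.of_ringEquiv (Algebra.TensorProduct.comm k k' A).toRingEquiv
    have h2 : RegSch (Spec (CommRingCat.of (A ⊗[k] k'))) := regSch_Spec_of_isRegularRing _
    exact regSch_of_iso (pullbackSpecIso k A k').symm h2

end Groth.Agent.Helper5.GReg
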