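import Mathlib
import Groth.Prelude
import Groth.Agent.Helper5.GRegB
import Groth.Agent.Helper5.GRegC

/-!
# GRegD: the fibres of `Spec B ⟶ Spec A`
-/

set_option autoImplicit false
set_option linter.style.haveILetI false
set_option linter.unusedSectionVars false
set_option linter.unusedVariables false
universe u

namespace Groth.Agent.Helper5.GReg

open CategoryTheory CategoryTheory.Limits AlgebraicGeometry TopologicalSpace TensorProduct

variable (A B : Type u) [CommRing A] [CommRing B] [Algebra A B] (p : PrimeSpectrum A)

theorem grm_fiber_Spec_iff [IsNoetherianRing (p.asIdeal.Fiber B)] :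
    GRM (pullback.snd (Spec.map (CommRingCat.ofHom (algebraMap A B)))
      ((Spec (CommRingCat.of A)).fromSpecResidueField p)) ↔
    CAlg.IsGeometricallyRegular p.asIdeal.ResidueField (p.asIdeal.Fiber B) := by
  rw [← grm_SpecMap_iff]
  let e := Spec.fiberToSpecResidueFieldIso A B p
  constructor
  · intro h
    exact grm_of_arrowIso _ _ (Arrow.leftFunc.mapIso e) (Arrow.rightFunc.mapIso e)
      (Arrow.w e.hom) h
  · intro h
    exact grm_of_arrowIso _ _ (Arrow.leftFunc.mapIso e.symm) (Arrow.rightFunc.mapIso e.symm)
      (Arrow.w e.inv) h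

theorem fiber_Spec_noetherian_iff :
    IsLocallyNoetherian (pullback (Spec.map (CommRingCat.ofHom (algebraMap A B)))
      ((Spec (CommRingCat.of A)).fromSpecResidueField p)) ↔
    IsNoetherianRing (p.asIdeal.Fiber B) := by
  let e := Spec.fiberToSpecResidueFieldIso A B p
  let eZ : pullback (Spec.map (CommRingCat.ofHom (algebraMap A B)))
      ((Spec (CommRingCat.of A)).fromSpecResidueField p) ≅
      Spec (CommRingCat.of (p.asIdeal.Fiber B)) := Arrow.leftFunc.mapIso e
  constructor
  · intro h
    haveI : IsLocallyNoetherian (Spec (CommRingCat.of (p.asIdeal.Fiber B))) :=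
      isLocallyNoetherian_of_isOpenImmersion eZ.inv
    exact (isLocallyNoetherian_Spec (R := CommRingCat.of (p.asIdeal.Fiber B))).mp this
  · intro h
    haveI : IsLocallyNoetherian (Spec (CommRingCat.of (p.asIdeal.Fiber B))) :=
      (isLocallyNoetherian_Spec (R := CommRingCat.of (p.asIdeal.Fiber B))).mpr h
    exact isLocallyNoetherian_of_isOpenImmersion eZ.hom

end Groth.Agent.Helper5.GReg
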