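import Mathlib
import Groth.Prelude
import Groth.Agent.Helper5.GRegB

/-!
# GRegE: geometric regularity of a scheme over a field in terms of affine opens
-/

set_option autoImplicit false
set_option linter.style.haveILetI false
set_option linter.unusedSectionVars false
set_option linter.unusedVariables false
universe u

namespace Groth.Agent.Helper5.GReg

open CategoryTheory CategoryTheory.Limits AlgebraicGeometry TopologicalSpace TensorProduct

theorem fromSpec_comp_eq {R : CommRingCat.{u}} {Z : Scheme.{u}} (g : Z ⟶ Spec R) {W : Z.Opens}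
    (hW : IsAffineOpen W) :
    hW.fromSpec ≫ g = Spec.map ((Scheme.ΓSpecIso R).inv ≫ g.appTop ≫
      Z.presheaf.map (homOfLE le_top).op) := by
  have h1 : g = Z.toSpecΓ ≫ Spec.map g.appTop ≫ Spec.map (Scheme.ΓSpecIso R).inv := by
    rw [← Scheme.toSpecΓ_naturality_assoc, toSpecΓ_SpecMap_ΓSpecIso_inv, Category.comp_id]
  conv_lhs => rw [h1]
  rw [hW.fromSpec_toSpecΓ_assoc, ← Spec.map_comp, ← Spec.map_comp, Category.assoc]

theorem grm_iff_affineOpens (k : Type u) [Field k] {Z : Scheme.{u}}
    (g : Z ⟶ Spec (CommRingCat.of k)) [IsLocallyNoetherian Z] :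
    GRM g ↔ ∀ W : Z.Opens, IsAffineOpen W →
      letI : Algebra k Γ(Z, W) := ((Scheme.ΓSpecIso (CommRingCat.of k)).inv ≫ g.appTop ≫
        Z.presheaf.map (homOfLE le_top).op).hom.toAlgebra
      IsNoetherianRing Γ(Z, W) ∧ CAlg.IsGeometricallyRegular k Γ(Z, W) := by
  constructor
  · intro h W hW
    letI : Algebra k Γ(Z, W) := ((Scheme.ΓSpecIso (CommRingCat.of k)).inv ≫ g.appTop ≫
        Z.presheaf.map (homOfLE le_top).op).hom.toAlgebra
    haveI : IsNoetherianRing Γ(Z, W) := IsLocallyNoetherian.component_noetherian ⟨W, hW⟩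
    refine ⟨this, (grm_SpecMap_iff k Γ(Z, W)).mp ?_⟩
    have := grm_openImmersion_comp hW.fromSpec g h
    rw [fromSpec_comp_eq] at this
    exact this
  · intro h
    apply grm_of_forall_exists
    intro z
    obtain ⟨_, ⟨W, hW, rfl⟩, hzW, -⟩ :=
      Z.isBasis_affineOpens.exists_subset_of_mem_open (Set.mem_univ z) isOpen_univ
    refine ⟨_, hW.fromSpec, inferInstance, by rw [hW.range_fromSpec]; exact hzW, ?_⟩
    letI : Algebra k Γ(Z, W) := ((Scheme.ΓSpecIso (CommRingCat.of k)).inv ≫ g.appTop ≫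
        Z.presheaf.map (homOfLE le_top).op).hom.toAlgebra
    haveI : IsNoetherianRing Γ(Z, W) := (h W hW).1
    rw [fromSpec_comp_eq]
    exact (grm_SpecMap_iff k Γ(Z, W)).mpr (h W hW).2

end Groth.Agent.Helper5.GReg
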