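import Mathlib
import Groth.Prelude
import Groth.Agent.Helper5.GRegD
import Groth.Agent.Helper5.GRegE

/-!
# GRegF: regular morphisms: affine-locally regular ring maps iff flat with geometrically regular
fibres
-/

set_option autoImplicit false
set_option linter.style.haveILetI false
set_option linter.unusedSectionVars false
set_option linter.unusedVariables false
universe u

namespace Groth.Agent.Helper5.GReg

open CategoryTheory CategoryTheory.Limits AlgebraicGeometry TopologicalSpace TensorProduct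

section piece

variable {X Y : Scheme.{u}} (f : X ⟶ Y) {U : X.Opens} {V : Y.Opens} (hU : IsAffineOpen U)
  (hV : IsAffineOpen V) (hUV : U ≤ f ⁻¹ᵁ V) [Algebra Γ(Y, V) Γ(X, U)]
  (halg : algebraMap Γ(Y, V) Γ(X, U) = (f.appLE V U hUV).hom)

include halg in
theorem sq : hU.fromSpec ≫ f =
    Spec.map (CommRingCat.ofHom (algebraMap Γ(Y, V) Γ(X, U))) ≫ hV.fromSpec := by
  rw [halg]
  exact (IsAffineOpen.SpecMap_appLE_fromSpec f hV hU hUV).symm

theorem grm_piece_of (p : PrimeSpectrum Γ(Y, V))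
    (h1 : IsNoetherianRing (p.asIdeal.Fiber Γ(X, U)))
    (h2 : CAlg.IsGeometricallyRegular p.asIdeal.ResidueField (p.asIdeal.Fiber Γ(X, U))) :
    GRM (fiberMapOfOpen f (Spec.map (CommRingCat.ofHom (algebraMap Γ(Y, V) Γ(X, U))))
      hU.fromSpec hV.fromSpec (sq f hU hV hUV halg) p ≫
        pullback.snd f (Y.fromSpecResidueField (hV.fromSpec p))) :=
  grm_fiber_comp_of_open _ _ _ _ _ _ ((grm_fiber_Spec_iff _ _ p).mpr h2)

include hU halg in
theorem piece_of_grm (p : PrimeSpectrum Γ(Y, V))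
    (hN : IsLocallyNoetherian (pullback f (Y.fromSpecResidueField (hV.fromSpec p))))
    (h : GRM (pullback.snd f (Y.fromSpecResidueField (hV.fromSpec p)))) :
    IsNoetherianRing (p.asIdeal.Fiber Γ(X, U)) ∧
      CAlg.IsGeometricallyRegular p.asIdeal.ResidueField (p.asIdeal.Fiber Γ(X, U)) := by
  have h1 : IsLocallyNoetherian (pullback
      (Spec.map (CommRingCat.ofHom (algebraMap Γ(Y, V) Γ(X, U))))
      ((Spec (CommRingCat.of Γ(Y, V))).fromSpecResidueField p)) :=
    isLocallyNoetherian_of_isOpenImmersion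
      (fiberMapOfOpen f (Spec.map (CommRingCat.ofHom (algebraMap Γ(Y, V) Γ(X, U))))
        hU.fromSpec hV.fromSpec (sq f hU hV hUV halg) p)
  haveI h2 : IsNoetherianRing (p.asIdeal.Fiber Γ(X, U)) :=
    (fiber_Spec_noetherian_iff _ _ p).mp h1
  refine ⟨h2, (grm_fiber_Spec_iff _ _ p).mp ?_⟩
  exact grm_fiber_of_open f _ hU.fromSpec hV.fromSpec (sq f hU hV hUV halg) p h

end piece

theorem regular_iff {X Y : Scheme.{u}} (f : X ⟶ Y)
    (hN : ∀ y : Y, IsLocallyNoetherian (pullback f (Y.fromSpecResidueField y))) :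
    (∀ (U : X.Opens) (V : Y.Opens) (hU : IsAffineOpen U) (hV : IsAffineOpen V)
        (hUV : U ≤ f ⁻¹ᵁ V),
        letI := (f.appLE V U hUV).hom.toAlgebra
        CAlg.IsRegularHom Γ(Y, V) Γ(X, U)) ↔
      Flat f ∧ ∀ y : Y, GRM (pullback.snd f (Y.fromSpecResidueField y)) := by
  constructor
  · intro H
    refine ⟨?_, ?_⟩
    · rw [HasRingHomProperty.iff_appLE (P := @Flat)]
      intro V U e
      exact (H U.1 V.1 U.2 V.2 e).1
    · intro y
      apply grm_of_forall_exists
      intro z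
      have hx : f (pullback.fst f (Y.fromSpecResidueField y) z) = y := by
        have : pullback.fst f (Y.fromSpecResidueField y) z ∈ f ⁻¹' {y} := by
          rw [← f.range_fiberι y]
          exact Set.mem_range_self z
        exact this
      obtain ⟨_, ⟨V, hV, rfl⟩, hyV, -⟩ :=
        Y.isBasis_affineOpens.exists_subset_of_mem_open (Set.mem_univ y) isOpen_univ
      have hxV : pullback.fst f (Y.fromSpecResidueField y) z ∈ f ⁻¹ᵁ V := by
        show f _ ∈ V
        rw [hx]
        exact hyV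
      obtain ⟨_, ⟨U, hU, rfl⟩, hxU, hUV⟩ :=
        X.isBasis_affineOpens.exists_subset_of_mem_open hxV (f ⁻¹ᵁ V).isOpen
      obtain ⟨p, hp⟩ : ∃ p : PrimeSpectrum Γ(Y, V), hV.fromSpec p = y :=
        ⟨hV.primeIdealOf ⟨y, hyV⟩, hV.fromSpec_primeIdealOf _⟩
      subst hp
      letI := (f.appLE V U hUV).hom.toAlgebra
      have HH := (H U V hU hV hUV).2 p.asIdeal
      refine ⟨_, fiberMapOfOpen f (Spec.map (CommRingCat.ofHom (algebraMap Γ(Y, V) Γ(X, U))))
        hU.fromSpec hV.fromSpec (sq f hU hV hUV rfl) p, inferInstance, ?_,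
        grm_piece_of f hU hV hUV rfl p HH.1 HH.2⟩
      rw [range_fiberMapOfOpen, hU.range_fromSpec]
      exact hxU
  · rintro ⟨hfl, hG⟩ U V hU hV hUV
    letI := (f.appLE V U hUV).hom.toAlgebra
    refine ⟨?_, ?_⟩
    · exact (HasRingHomProperty.iff_appLE (P := @Flat)).mp hfl ⟨V, hV⟩ ⟨U, hU⟩ hUV
    · intro p hp
      exact piece_of_grm f hU hV hUV rfl ⟨p, hp⟩ (hN _) (hG _)

end Groth.Agent.Helper5.GReg
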