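import Mathlib

set_option autoImplicit false
universe u
open CategoryTheory CategoryTheory.Limits AlgebraicGeometry Opposite

namespace Groth.Agent.Helper5.NoethDesc

/-- Noetherianity descends along faithfully flat ring maps. -/
theorem isNoetherianRing_of_faithfullyFlat (A B : Type u) [CommRing A] [CommRing B] [Algebra A B]
    [Module.FaithfullyFlat A B] [IsNoetherianRing B] : IsNoetherianRing A := by
  rw [isNoetherianRing_iff, isNoetherian_iff']
  have hB : WellFoundedGT (Ideal B) := by
    have := ‹IsNoetherianRing B›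
    rw [isNoetherianRing_iff, isNoetherian_iff'] at this
    exact this
  have hmono : StrictMono (Ideal.map (algebraMap A B)) :=
    Monotone.strictMono_of_injective (fun _ _ h => Ideal.map_mono h)
      Ideal.map_injective_of_faithfullyFlat
  exact hmono.wellFoundedGT

/-- A flat surjective morphism of affine schemes with locally Noetherian source has Noetherian target ring. -/
theorem isNoetherianRing_of_flat_surjective_affine {T W : Scheme.{u}} [IsAffine T] [IsAffine W] (f : T ⟶ W)
    [Flat f] [Surjective f] [IsLocallyNoetherian T] : IsNoetherianRing Γ(W, ⊤) := by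
  have hff : f.appTop.hom.FaithfullyFlat :=
    (Flat.flat_and_surjective_iff_faithfullyFlat_of_isAffine f).1 ⟨inferInstance, inferInstance⟩
  algebraize [f.appTop.hom]
  have : IsNoetherianRing Γ(T, ⊤) :=
    IsLocallyNoetherian.component_noetherian ⟨⊤, isAffineOpen_top T⟩
  exact isNoetherianRing_of_faithfullyFlat Γ(W, ⊤) Γ(T, ⊤)

set_option backward.isDefEq.respectTransparency.types false in
theorem isLocallyNoetherian_of_flat_lfp_surjective_affine {U V : Scheme.{u}} [IsAffine V] (f : U ⟶ V)
    [Flat f] [LocallyOfFinitePresentation f] [Surjective f] [IsLocallyNoetherian U] :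
    IsLocallyNoetherian V := by
  have hopen : IsOpenMap f := f.isOpenMap
  let 𝒰 := U.affineCover
  have hcov : (Set.univ : Set V) ⊆ ⋃ x : 𝒰.I₀, f '' Set.range (𝒰.f x) := by
    intro v _
    obtain ⟨u, rfl⟩ := f.surjective v
    obtain ⟨y, hy⟩ := 𝒰.covers u
    exact Set.mem_iUnion.2 ⟨_, u, ⟨y, hy⟩, rfl⟩
  obtain ⟨t, ht⟩ := isCompact_univ.elim_finite_subcover (fun x : 𝒰.I₀ => f '' Set.range (𝒰.f x))
    (fun x => hopen _ (𝒰.f x).isOpenEmbedding.isOpen_range) hcov
  let T : Scheme.{u} := ∐ fun x : ↥t => 𝒰.X x.1
  let g : T ⟶ U := Sigma.desc fun x : ↥t => 𝒰.f x.1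
  have hg1 : LocallyOfFiniteType g :=
    IsZariskiLocalAtSource.sigmaDesc (P := @LocallyOfFiniteType) (fun x => inferInstance)
  have hg2 : Flat g := IsZariskiLocalAtSource.sigmaDesc (P := @Flat) (fun x => inferInstance)
  have hT : IsLocallyNoetherian T := LocallyOfFiniteType.isLocallyNoetherian g
  have hTa : IsAffine T := by
    show IsAffine (∐ fun x : ↥t => 𝒰.X x.1)
    infer_instance
  have hs : Surjective (g ≫ f) := by
    refine ⟨fun v => ?_⟩
    have hv := ht (Set.mem_univ v)
    simp only [Set.mem_iUnion] at hv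
    obtain ⟨x, hx, u, ⟨y, rfl⟩, rfl⟩ := hv
    refine ⟨(Sigma.ι (fun x : ↥t => 𝒰.X x.1) ⟨x, hx⟩) y, ?_⟩
    have h1 : Sigma.ι (fun x : ↥t => 𝒰.X x.1) ⟨x, hx⟩ ≫ g ≫ f = 𝒰.f x ≫ f := by
      rw [← Category.assoc]
      congr 1
      exact Sigma.ι_desc _ _
    have h2 := congrArg (fun φ => φ y) h1
    simpa using h2
  have hN : IsNoetherianRing Γ(V, ⊤) := isNoetherianRing_of_flat_surjective_affine (g ≫ f)
  exact isLocallyNoetherian_of_affine_cover (S := fun _ : Unit => ⟨⊤, isAffineOpen_top V⟩)
    (by simp) (fun _ => hN)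

set_option backward.isDefEq.respectTransparency.types false in
/-- Local Noetherianity descends along flat, locally finitely presented, surjective morphisms of schemes. -/
theorem isLocallyNoetherian_of_flat_lfp_surjective {U V : Scheme.{u}} (f : U ⟶ V)
    [Flat f] [LocallyOfFinitePresentation f] [Surjective f] [IsLocallyNoetherian U] :
    IsLocallyNoetherian V := by
  rw [isLocallyNoetherian_iff_openCover V.affineCover]
  intro i
  have : IsLocallyNoetherian (pullback f (V.affineCover.f i)) :=
    LocallyOfFiniteType.isLocallyNoetherian (pullback.fst f (V.affineCover.f i))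
  exact isLocallyNoetherian_of_flat_lfp_surjective_affine (pullback.snd f (V.affineCover.f i))

end Groth.Agent.Helper5.NoethDesc
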