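import Mathlib
import Groth.Prelude
import Groth.Agent.Helper5.GRegB
import Groth.Agent.Helper5.NoethDesc
import Groth.Agent.Helper2.GeomReg
import Groth.Agent.Helper2.RegSch3

/-!
# GRegG: geometric regularity and base change along finitely generated field extensions
-/

set_option autoImplicit false
set_option linter.style.haveILetI false
set_option linter.unusedSectionVars false
set_option linter.unusedVariables false
universe u

namespace Groth.Agent.Helper5.GReg

open CategoryTheory CategoryTheory.Limits AlgebraicGeometry TopologicalSpace TensorProduct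

theorem grm_iff_openCover {Z T : Scheme.{u}} (γ : Z ⟶ T) (𝒰 : Z.OpenCover) :
    GRM γ ↔ ∀ i, GRM (𝒰.f i ≫ γ) := by
  constructor
  · intro h i
    exact grm_openImmersion_comp _ _ h
  · intro h
    apply grm_of_forall_exists
    intro z
    obtain ⟨i, y, hy⟩ := 𝒰.exists_eq z
    exact ⟨_, 𝒰.f i, inferInstance, ⟨y, hy⟩, h i⟩

theorem grm_pullback_fst_iff_openCover {Z T T' : Scheme.{u}} (t : T' ⟶ T) (γ : Z ⟶ T)
    (𝒰 : Z.OpenCover) :
    GRM (pullback.fst t γ) ↔ ∀ i, GRM (pullback.fst t (𝒰.f i ≫ γ)) := by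
  rw [grm_iff_openCover (pullback.fst t γ) (Scheme.Pullback.openCoverOfRight 𝒰 t γ)]
  refine forall_congr' fun i => ?_
  have : (Scheme.Pullback.openCoverOfRight 𝒰 t γ).f i ≫ pullback.fst t γ =
      pullback.fst t (𝒰.f i ≫ γ) :=
    (pullback.lift_fst _ _ _).trans (Category.comp_id _)
  rw [this]
  rfl

section field

variable (k K : Type u) [Field k] [Field K] [Algebra k K]

theorem isNoetherianRing_tensor_essFiniteType [Algebra.EssFiniteType k K] (A : Type u) [CommRing A]
    [Algebra k A] [IsNoetherianRing A] : IsNoetherianRing (K ⊗[k] A) := by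
  haveI : Algebra.EssFiniteType A (A ⊗[k] K) := inferInstance
  haveI : IsNoetherianRing (A ⊗[k] K) :=
    Groth.Agent.Helper2.GeomReg.isNoetherianRing_of_essFiniteType A (A ⊗[k] K)
  exact isNoetherianRing_of_ringEquiv (A ⊗[k] K) (Algebra.TensorProduct.comm k A K).toRingEquiv

theorem isNoetherianRing_of_tensor (A : Type u) [CommRing A]
    [Algebra k A] (h : IsNoetherianRing (K ⊗[k] A)) : IsNoetherianRing A := by
  haveI : IsNoetherianRing (A ⊗[k] K) :=
    isNoetherianRing_of_ringEquiv (K ⊗[k] A) (Algebra.TensorProduct.comm k K A).toRingEquiv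
  haveI : Module.FaithfullyFlat A (A ⊗[k] K) := inferInstance
  exact Groth.Agent.Helper5.NoethDesc.isNoetherianRing_of_faithfullyFlat A (A ⊗[k] K)

/-- the pullback of `Spec A` is `Spec (K ⊗ A)`, over `Spec K` -/
theorem grm_pullback_fst_Spec_iff (A : Type u) [CommRing A] [Algebra k A]
    [IsNoetherianRing (K ⊗[k] A)] :
    GRM (pullback.fst (Spec.map (CommRingCat.ofHom (algebraMap k K)))
      (Spec.map (CommRingCat.ofHom (algebraMap k A)))) ↔
    CAlg.IsGeometricallyRegular K (K ⊗[k] A) := by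
  rw [← grm_SpecMap_iff]
  constructor
  · intro h
    refine grm_of_arrowIso _ _ (pullbackSpecIso k K A) (Iso.refl _) ?_ h
    simp
  · intro h
    refine grm_of_arrowIso _ _ (pullbackSpecIso k K A).symm (Iso.refl _) ?_ h
    simp

theorem grm_bc_affine_iff [Algebra.EssFiniteType k K] (A : Type u) [CommRing A] [Algebra k A]
    [IsNoetherianRing A] :
    GRM (pullback.fst (Spec.map (CommRingCat.ofHom (algebraMap k K)))
      (Spec.map (CommRingCat.ofHom (algebraMap k A)))) ↔
    GRM (Spec.map (CommRingCat.ofHom (algebraMap k A))) := by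
  haveI := isNoetherianRing_tensor_essFiniteType k K A
  rw [grm_pullback_fst_Spec_iff, grm_SpecMap_iff]
  exact ⟨Groth.Agent.Helper2.GeomReg.geomRegular_descent k A K,
    fun h => Groth.Agent.Helper2.GeomReg.geomRegular_ascent k A h K⟩

theorem grm_bc_iff_Spec [Algebra.EssFiniteType k K] (R : CommRingCat.{u}) [IsNoetherianRing R]
    (δ : Spec R ⟶ Spec (CommRingCat.of k)) :
    GRM (pullback.fst (Spec.map (CommRingCat.ofHom (algebraMap k K))) δ) ↔ GRM δ := by
  obtain ⟨ψ, rfl⟩ := Spec.map_surjective δ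
  letI : Algebra k R := ψ.hom.toAlgebra
  exact grm_bc_affine_iff k K R

theorem grm_bc_iff_of_isAffine [Algebra.EssFiniteType k K] {W : Scheme.{u}} [IsAffine W]
    [IsLocallyNoetherian W] (δ : W ⟶ Spec (CommRingCat.of k)) :
    GRM (pullback.fst (Spec.map (CommRingCat.ofHom (algebraMap k K))) δ) ↔ GRM δ := by
  haveI : IsNoetherianRing Γ(W, ⊤) :=
    IsLocallyNoetherian.component_noetherian ⟨⊤, isAffineOpen_top W⟩
  have h1 := grm_bc_iff_Spec k K Γ(W, ⊤) (W.isoSpec.inv ≫ δ)
  have h2 : GRM (W.isoSpec.inv ≫ δ) ↔ GRM δ :=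
    ⟨fun h => grm_of_arrowIso _ _ W.isoSpec.symm (Iso.refl _) (by simp) h,
     fun h => grm_of_arrowIso _ _ W.isoSpec (Iso.refl _) (by simp) h⟩
  let t := Spec.map (CommRingCat.ofHom (algebraMap k K))
  let e : pullback t (W.isoSpec.inv ≫ δ) ≅ pullback t δ :=
    asIso (pullback.map t (W.isoSpec.inv ≫ δ) t δ (𝟙 _) W.isoSpec.inv (𝟙 _) (by simp) (by simp))
  have he : e.hom ≫ pullback.fst t δ = pullback.fst t (W.isoSpec.inv ≫ δ) :=
    (pullback.lift_fst _ _ _).trans (Category.comp_id _)
  have h3 : GRM (pullback.fst t (W.isoSpec.inv ≫ δ)) ↔ GRM (pullback.fst t δ) :=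
    ⟨fun h => grm_of_arrowIso _ _ e (Iso.refl _) (by simp [he]) h,
     fun h => grm_of_arrowIso _ _ e.symm (Iso.refl _) (by simp [← he]) h⟩
  rw [← h3, h1, h2]

theorem grm_bc_iff [Algebra.EssFiniteType k K] {Z : Scheme.{u}}
    (γ : Z ⟶ Spec (CommRingCat.of k)) [IsLocallyNoetherian Z] :
    GRM (pullback.fst (Spec.map (CommRingCat.ofHom (algebraMap k K))) γ) ↔ GRM γ := by
  rw [grm_pullback_fst_iff_openCover _ γ Z.affineCover, grm_iff_openCover γ Z.affineCover]
  exact forall_congr' fun i => grm_bc_iff_of_isAffine k K _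

end field

end Groth.Agent.Helper5.GReg
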