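import Mathlib
import Groth.Prelude
import Groth.Agent.Helper5.GRegG

/-!
# GRegH: locally Noetherian schemes over a field and finitely generated field extensions
-/

set_option autoImplicit false
set_option linter.style.haveILetI false
set_option linter.unusedSectionVars false
set_option linter.unusedVariables false
universe u

namespace Groth.Agent.Helper5.GReg

open CategoryTheory CategoryTheory.Limits AlgebraicGeometry TopologicalSpace TensorProduct

variable (k K : Type u) [Field k] [Field K] [Algebra k K]

theorem ln_iff_of_iso {Z Z' : Scheme.{u}} (e : Z ≅ Z') :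
    IsLocallyNoetherian Z ↔ IsLocallyNoetherian Z' :=
  ⟨fun _ => isLocallyNoetherian_of_isOpenImmersion e.inv,
   fun _ => isLocallyNoetherian_of_isOpenImmersion e.hom⟩

theorem ln_bc_iff_Spec [Algebra.EssFiniteType k K] (R : CommRingCat.{u})
    (δ : Spec R ⟶ Spec (CommRingCat.of k)) :
    IsLocallyNoetherian (pullback (Spec.map (CommRingCat.ofHom (algebraMap k K))) δ) ↔
      IsLocallyNoetherian (Spec R) := by
  obtain ⟨ψ, rfl⟩ := Spec.map_surjective δ
  letI : Algebra k R := ψ.hom.toAlgebra
  have h1 : IsLocallyNoetherian (pullback (Spec.map (CommRingCat.ofHom (algebraMap k K)))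
      (Spec.map (CommRingCat.ofHom (algebraMap k R)))) ↔
      IsLocallyNoetherian (Spec (CommRingCat.of (K ⊗[k] R))) :=
    ln_iff_of_iso (pullbackSpecIso k K R)
  refine h1.trans ?_
  rw [isLocallyNoetherian_Spec, isLocallyNoetherian_Spec]
  exact ⟨fun h => isNoetherianRing_of_tensor k K R h,
    fun h => isNoetherianRing_tensor_essFiniteType k K R⟩

theorem ln_bc_iff_of_isAffine [Algebra.EssFiniteType k K] {W : Scheme.{u}} [IsAffine W]
    (δ : W ⟶ Spec (CommRingCat.of k)) :
    IsLocallyNoetherian (pullback (Spec.map (CommRingCat.ofHom (algebraMap k K))) δ) ↔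
      IsLocallyNoetherian W := by
  have h1 := ln_bc_iff_Spec k K Γ(W, ⊤) (W.isoSpec.inv ≫ δ)
  let t := Spec.map (CommRingCat.ofHom (algebraMap k K))
  let e : pullback t (W.isoSpec.inv ≫ δ) ≅ pullback t δ :=
    asIso (pullback.map t (W.isoSpec.inv ≫ δ) t δ (𝟙 _) W.isoSpec.inv (𝟙 _) (by simp) (by simp))
  rw [← ln_iff_of_iso e, h1, ln_iff_of_iso W.isoSpec]

theorem ln_bc_iff [Algebra.EssFiniteType k K] {Z : Scheme.{u}}
    (γ : Z ⟶ Spec (CommRingCat.of k)) :
    IsLocallyNoetherian (pullback (Spec.map (CommRingCat.ofHom (algebraMap k K))) γ) ↔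
      IsLocallyNoetherian Z := by
  rw [isLocallyNoetherian_iff_openCover
    (Scheme.Pullback.openCoverOfRight Z.affineCover (Spec.map (CommRingCat.ofHom (algebraMap k K))) γ),
    isLocallyNoetherian_iff_openCover Z.affineCover]
  exact forall_congr' fun i => ln_bc_iff_of_isAffine k K _

end Groth.Agent.Helper5.GReg
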