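import Mathlib
import Groth.Prelude
import Groth.Agent.Helper5.GLocA
import Groth.Agent.Helper5.GRegF
import Groth.Agent.Helper5.GRegH
import Groth.Agent.Helper5.FlatCodescent

/-!
# GLocB: generic version of `GRegF`–`GRegI`
-/

set_option autoImplicit false
set_option linter.style.haveILetI false
set_option linter.unusedSectionVars false
set_option linter.unusedVariables false
universe u

namespace Groth.Agent.Helper5.GLoc

open CategoryTheory CategoryTheory.Limits AlgebraicGeometry TopologicalSpace TensorProduct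
open Groth.Agent.Helper5.GReg

variable {Pr : RProp.{u}}

section piece

variable {X Y : Scheme.{u}} (f : X ⟶ Y) {U : X.Opens} {V : Y.Opens} (hU : IsAffineOpen U)
  (hV : IsAffineOpen V) (hUV : U ≤ f ⁻¹ᵁ V) [Algebra Γ(Y, V) Γ(X, U)]
  (halg : algebraMap Γ(Y, V) Γ(X, U) = (f.appLE V U hUV).hom)

theorem gpm_piece_of (p : PrimeSpectrum Γ(Y, V))
    (h2 : GeomP Pr p.asIdeal.ResidueField (p.asIdeal.Fiber Γ(X, U))) :
    GPM Pr (fiberMapOfOpen f (Spec.map (CommRingCat.ofHom (algebraMap Γ(Y, V) Γ(X, U))))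
      hU.fromSpec hV.fromSpec (sq f hU hV hUV halg) p ≫
        pullback.snd f (Y.fromSpecResidueField (hV.fromSpec p))) :=
  gpm_fiber_comp_of_open _ _ _ _ _ _ ((gpm_fiber_Spec_iff _ _ p).mpr h2)

include hU halg in
theorem piece_of_gpm (p : PrimeSpectrum Γ(Y, V))
    (h : GPM Pr (pullback.snd f (Y.fromSpecResidueField (hV.fromSpec p)))) :
    GeomP Pr p.asIdeal.ResidueField (p.asIdeal.Fiber Γ(X, U)) :=
  (gpm_fiber_Spec_iff _ _ p).mp
    (gpm_fiber_of_open f _ hU.fromSpec hV.fromSpec (sq f hU hV hUV halg) p h)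

end piece

theorem phom_iff {X Y : Scheme.{u}} (f : X ⟶ Y) :
    (∀ (U : X.Opens) (V : Y.Opens) (hU : IsAffineOpen U) (hV : IsAffineOpen V)
        (hUV : U ≤ f ⁻¹ᵁ V),
        letI := (f.appLE V U hUV).hom.toAlgebra
        PHom Pr Γ(Y, V) Γ(X, U)) ↔
      Flat f ∧ ∀ y : Y, GPM Pr (pullback.snd f (Y.fromSpecResidueField y)) := by
  constructor
  · intro H
    refine ⟨?_, ?_⟩
    · rw [HasRingHomProperty.iff_appLE (P := @Flat)]
      intro V U e
      exact (H U.1 V.1 U.2 V.2 e).1
    · intro y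
      apply gpm_of_forall_exists
      intro z
      have hx : f (pullback.fst f (Y.fromSpecResidueField y) z) = y := by
        have : pullback.fst f (Y.fromSpecResidueField y) z ∈ f ⁻¹' {y} := by
          rw [← f.range_fiberι y]
          exact Set.mem_range_self z
        exact this
      obtain ⟨_, ⟨V, hV, rfl⟩, hyV, -⟩ :=
        Y.isBasis_affineOpens.exists_subset_of_mem_open (Set.mem_univ y) isOpen_univ
      have hxV : pullback.fst f (Y.fromSpecResidueField y) z ∈ f ⁻¹ᵁ V := by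
        show f _ ∈ V
        rw [hx]
        exact hyV
      obtain ⟨_, ⟨U, hU, rfl⟩, hxU, hUV⟩ :=
        X.isBasis_affineOpens.exists_subset_of_mem_open hxV (f ⁻¹ᵁ V).isOpen
      obtain ⟨p, hp⟩ : ∃ p : PrimeSpectrum Γ(Y, V), hV.fromSpec p = y :=
        ⟨hV.primeIdealOf ⟨y, hyV⟩, hV.fromSpec_primeIdealOf _⟩
      subst hp
      letI := (f.appLE V U hUV).hom.toAlgebra
      have HH := (H U V hU hV hUV).2 p.asIdeal
      refine ⟨_, fiberMapOfOpen f (Spec.map (CommRingCat.ofHom (algebraMap Γ(Y, V) Γ(X, U))))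
        hU.fromSpec hV.fromSpec (sq f hU hV hUV rfl) p, inferInstance, ?_,
        gpm_piece_of f hU hV hUV rfl p HH⟩
      rw [range_fiberMapOfOpen, hU.range_fromSpec]
      exact hxU
  · rintro ⟨hfl, hG⟩ U V hU hV hUV
    letI := (f.appLE V U hUV).hom.toAlgebra
    refine ⟨?_, ?_⟩
    · exact (HasRingHomProperty.iff_appLE (P := @Flat)).mp hfl ⟨V, hV⟩ ⟨U, hU⟩ hUV
    · intro p hp
      exact piece_of_gpm f hU hV hUV rfl ⟨p, hp⟩ (hG _)

/-- the property is compatible with finitely generated extensions of the base field -/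
structure RProp.FieldBC (Pr : RProp.{u}) : Prop where
  ascent : ∀ (k A K : Type u) [Field k] [CommRing A] [Algebra k A] [IsNoetherianRing A] [Field K]
    [Algebra k K] [Algebra.EssFiniteType k K], GeomP Pr k A → GeomP Pr K (K ⊗[k] A)
  descent : ∀ (k A K : Type u) [Field k] [CommRing A] [Algebra k A] [IsNoetherianRing A] [Field K]
    [Algebra k K] [Algebra.EssFiniteType k K], GeomP Pr K (K ⊗[k] A) → GeomP Pr k A

section field

variable (hBC : Pr.FieldBC) (k K : Type u) [Field k] [Field K] [Algebra k K]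

theorem gpm_pullback_fst_Spec_iff (A : Type u) [CommRing A] [Algebra k A] :
    GPM Pr (pullback.fst (Spec.map (CommRingCat.ofHom (algebraMap k K)))
      (Spec.map (CommRingCat.ofHom (algebraMap k A)))) ↔
    GeomP Pr K (K ⊗[k] A) := by
  rw [← gpm_SpecMap_iff]
  constructor
  · intro h
    refine gpm_of_arrowIso _ _ (pullbackSpecIso k K A) (Iso.refl _) ?_ h
    simp
  · intro h
    refine gpm_of_arrowIso _ _ (pullbackSpecIso k K A).symm (Iso.refl _) ?_ h
    simp

include hBC in
theorem gpm_bc_affine_iff [Algebra.EssFiniteType k K] (A : Type u) [CommRing A] [Algebra k A]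
    [IsNoetherianRing A] :
    GPM Pr (pullback.fst (Spec.map (CommRingCat.ofHom (algebraMap k K)))
      (Spec.map (CommRingCat.ofHom (algebraMap k A)))) ↔
    GPM Pr (Spec.map (CommRingCat.ofHom (algebraMap k A))) := by
  rw [gpm_pullback_fst_Spec_iff, gpm_SpecMap_iff]
  exact ⟨hBC.descent k A K, hBC.ascent k A K⟩

include hBC in
theorem gpm_bc_iff_Spec [Algebra.EssFiniteType k K] (R : CommRingCat.{u}) [IsNoetherianRing R]
    (δ : Spec R ⟶ Spec (CommRingCat.of k)) :
    GPM Pr (pullback.fst (Spec.map (CommRingCat.ofHom (algebraMap k K))) δ) ↔ GPM Pr δ := by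
  obtain ⟨ψ, rfl⟩ := Spec.map_surjective δ
  letI : Algebra k R := ψ.hom.toAlgebra
  exact gpm_bc_affine_iff hBC k K R

include hBC in
theorem gpm_bc_iff_of_isAffine [Algebra.EssFiniteType k K] {W : Scheme.{u}} [IsAffine W]
    [IsLocallyNoetherian W] (δ : W ⟶ Spec (CommRingCat.of k)) :
    GPM Pr (pullback.fst (Spec.map (CommRingCat.ofHom (algebraMap k K))) δ) ↔ GPM Pr δ := by
  haveI : IsNoetherianRing Γ(W, ⊤) :=
    IsLocallyNoetherian.component_noetherian ⟨⊤, isAffineOpen_top W⟩
  have h1 := gpm_bc_iff_Spec hBC k K Γ(W, ⊤) (W.isoSpec.inv ≫ δ)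
  have h2 : GPM Pr (W.isoSpec.inv ≫ δ) ↔ GPM Pr δ :=
    ⟨fun h => gpm_of_arrowIso _ _ W.isoSpec.symm (Iso.refl _) (by simp) h,
     fun h => gpm_of_arrowIso _ _ W.isoSpec (Iso.refl _) (by simp) h⟩
  let t := Spec.map (CommRingCat.ofHom (algebraMap k K))
  let e : pullback t (W.isoSpec.inv ≫ δ) ≅ pullback t δ :=
    asIso (pullback.map t (W.isoSpec.inv ≫ δ) t δ (𝟙 _) W.isoSpec.inv (𝟙 _) (by simp) (by simp))
  have he : e.hom ≫ pullback.fst t δ = pullback.fst t (W.isoSpec.inv ≫ δ) :=
    (pullback.lift_fst _ _ _).trans (Category.comp_id _)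
  have h3 : GPM Pr (pullback.fst t (W.isoSpec.inv ≫ δ)) ↔ GPM Pr (pullback.fst t δ) :=
    ⟨fun h => gpm_of_arrowIso _ _ e (Iso.refl _) (by simp [he]) h,
     fun h => gpm_of_arrowIso _ _ e.symm (Iso.refl _) (by simp [← he]) h⟩
  rw [← h3, h1, h2]

include hBC in
theorem gpm_bc_iff [Algebra.EssFiniteType k K] {Z : Scheme.{u}}
    (γ : Z ⟶ Spec (CommRingCat.of k)) [IsLocallyNoetherian Z] :
    GPM Pr (pullback.fst (Spec.map (CommRingCat.ofHom (algebraMap k K))) γ) ↔ GPM Pr γ := by
  rw [gpm_pullback_fst_iff_openCover _ γ Z.affineCover, gpm_iff_openCover γ Z.affineCover]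
  exact forall_congr' fun i => gpm_bc_iff_of_isAffine hBC k K _

end field

section bc

variable (hBC : Pr.FieldBC) {X Y X' Y' : Scheme.{u}} (f : X ⟶ Y) (f' : X' ⟶ Y') (g' : X' ⟶ X)
  (g : Y' ⟶ Y) (hc : IsPullback g' f' f g)

include hBC hc in
theorem fiber_bc [LocallyOfFiniteType g] (y' : Y') :
    (IsLocallyNoetherian (f'.fiber y') ↔ IsLocallyNoetherian (f.fiber (g y'))) ∧
    (IsLocallyNoetherian (f.fiber (g y')) →
      (GPM Pr (f'.fiberToSpecResidueField y') ↔ GPM Pr (f.fiberToSpecResidueField (g y')))) := by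
  letI : Algebra (Y.residueField (g y')) (Y'.residueField y') :=
    (g.residueFieldMap y').hom.toAlgebra
  haveI : Algebra.EssFiniteType (Y.residueField (g y')) (Y'.residueField y') :=
    RingHom.EssFiniteType.residueFieldMap (LocallyOfFiniteType.stalkMap g y')
  let t : Spec (Y'.residueField y') ⟶ Spec (Y.residueField (g y')) :=
    Spec.map (CommRingCat.ofHom (algebraMap (Y.residueField (g y')) (Y'.residueField y')))
  have sq : IsPullback (f'.fiberToSpecResidueField y') _ t (f.fiberToSpecResidueField (g y')) :=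
    (isPullback_fiberToSpecResidueField_of_isPullback hc y').flip
  let e : f'.fiber y' ≅ pullback t (f.fiberToSpecResidueField (g y')) := sq.isoPullback
  have he : e.hom ≫ pullback.fst t (f.fiberToSpecResidueField (g y')) =
      f'.fiberToSpecResidueField y' := sq.isoPullback_hom_fst
  refine ⟨(ln_iff_of_iso e).trans (ln_bc_iff (Y.residueField (g y')) (Y'.residueField y')
    (f.fiberToSpecResidueField (g y'))), ?_⟩
  intro hN
  have h1 : GPM Pr (f'.fiberToSpecResidueField y') ↔
      GPM Pr (pullback.fst t (f.fiberToSpecResidueField (g y'))) :=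
    ⟨fun h => gpm_of_arrowIso _ _ e (Iso.refl _) (by simp [he]) h,
     fun h => gpm_of_arrowIso _ _ e.symm (Iso.refl _) (by simp [← he]) h⟩
  exact h1.trans (gpm_bc_iff hBC (Y.residueField (g y')) (Y'.residueField y')
    (f.fiberToSpecResidueField (g y')))

include hBC hc in
theorem phom_bc_iff [Flat g] [LocallyOfFinitePresentation g] [Surjective g] :
    ((∀ y : Y, IsLocallyNoetherian (f.fiber y)) ∧
      (Flat f ∧ ∀ y : Y, GPM Pr (f.fiberToSpecResidueField y))) ↔
    ((∀ y' : Y', IsLocallyNoetherian (f'.fiber y')) ∧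
      (Flat f' ∧ ∀ y' : Y', GPM Pr (f'.fiberToSpecResidueField y'))) := by
  have hQ : (@Surjective ⊓ @Flat ⊓ @LocallyOfFinitePresentation : MorphismProperty Scheme.{u}) g :=
    ⟨⟨inferInstance, inferInstance⟩, inferInstance⟩
  have hflat : Flat f' ↔ Flat f :=
    MorphismProperty.iff_of_isPullback (P := @Flat) hc.flip hQ
  constructor
  · rintro ⟨hN, hfl, hG⟩
    refine ⟨fun y' => (fiber_bc hBC f f' g' g hc y').1.mpr (hN _), hflat.mpr hfl, fun y' => ?_⟩
    exact ((fiber_bc hBC f f' g' g hc y').2 (hN _)).mpr (hG _)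
  · rintro ⟨hN, hfl, hG⟩
    have hN' : ∀ y : Y, IsLocallyNoetherian (f.fiber y) := by
      intro y
      obtain ⟨y', rfl⟩ := g.surjective y
      exact (fiber_bc hBC f f' g' g hc y').1.mp (hN _)
    refine ⟨hN', hflat.mp hfl, fun y => ?_⟩
    obtain ⟨y', rfl⟩ := g.surjective y
    exact ((fiber_bc hBC f f' g' g hc y').2 (hN' _)).mp (hG _)

end bc

end Groth.Agent.Helper5.GLoc
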