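import Mathlib
import Groth.Prelude
import Groth.Agent.Helper5.GLocB
import Groth.Agent.Helper2.GeomNor

/-!
# GLocC: normal morphisms: fibrewise characterization and fppf base change
-/

set_option autoImplicit false
set_option linter.style.haveILetI false
set_option linter.unusedSectionVars false
set_option linter.unusedVariables false
universe u

namespace Groth.Agent.Helper5.GLoc

open CategoryTheory CategoryTheory.Limits AlgebraicGeometry TopologicalSpace TensorProduct

/-- integrally closed domains -/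
def normalProp : RProp.{u} where
  P R _ := IsDomain R ∧ IsIntegrallyClosed R
  iso R R' _ _ e h := by
    obtain ⟨h1, h2⟩ := h
    exact ⟨e.symm.toMulEquiv.isDomain, IsIntegrallyClosed.of_equiv e⟩

theorem ringP_normal_iff (R : Type u) [CommRing R] :
    RingP normalProp R ↔ EGA4.IsNormalRing R := Iff.rfl

theorem geomP_normal_iff (k A : Type u) [Field k] [CommRing A] [Algebra k A] :
    GeomP normalProp k A ↔ EGA4.IsGeomNormal k A := Iff.rfl

theorem phom_normal_iff (A B : Type u) [CommRing A] [CommRing B] [Algebra A B] :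
    PHom normalProp A B ↔ EGA4.IsNormalHom A B := Iff.rfl

theorem normal_fieldBC : normalProp.{u}.FieldBC where
  ascent k A K _ _ _ _ _ _ _ h := Groth.Agent.Helper2.GeomNor.geomNormal_ascent k A h K
  descent k A K _ _ _ _ _ _ _ h := Groth.Agent.Helper2.GeomNor.geomNormal_descent k A K h

theorem normal_iff {X Y : Scheme.{u}} (f : X ⟶ Y) :
    (∀ (U : X.Opens) (V : Y.Opens) (hU : IsAffineOpen U) (hV : IsAffineOpen V)
        (hUV : U ≤ f ⁻¹ᵁ V),
        letI := (f.appLE V U hUV).hom.toAlgebra
        EGA4.IsNormalHom Γ(Y, V) Γ(X, U)) ↔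
      Flat f ∧ ∀ y : Y, GPM normalProp (pullback.snd f (Y.fromSpecResidueField y)) :=
  phom_iff (Pr := normalProp) f

theorem normal_bc_iff {X Y X' Y' : Scheme.{u}} (f : X ⟶ Y) (f' : X' ⟶ Y') (g' : X' ⟶ X)
    (g : Y' ⟶ Y) [Flat g] [LocallyOfFinitePresentation g] [Surjective g]
    (hc : IsPullback g' f' f g) :
    ((∀ y : Y, IsLocallyNoetherian (f.fiber y)) ∧
      (∀ (U : X.Opens) (V : Y.Opens) (hU : IsAffineOpen U) (hV : IsAffineOpen V)
        (hUV : U ≤ f ⁻¹ᵁ V),
        letI := (f.appLE V U hUV).hom.toAlgebra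
        EGA4.IsNormalHom Γ(Y, V) Γ(X, U))) ↔
      ((∀ y' : Y', IsLocallyNoetherian (f'.fiber y')) ∧
      (∀ (U : X'.Opens) (V : Y'.Opens) (hU : IsAffineOpen U) (hV : IsAffineOpen V)
        (hUV : U ≤ f' ⁻¹ᵁ V),
        letI := (f'.appLE V U hUV).hom.toAlgebra
        EGA4.IsNormalHom Γ(Y', V) Γ(X', U))) := by
  rw [normal_iff f, normal_iff f']
  exact phom_bc_iff normal_fieldBC f f' g' g hc

end Groth.Agent.Helper5.GLoc
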