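import Groth.Agent.Helper5.GSSc

set_option autoImplicit false
set_option linter.style.haveILetI false
universe u
open CategoryTheory CategoryTheory.Limits AlgebraicGeometry Opposite TopologicalSpace

namespace Groth.Agent.Helper5.GSS

variable {k : Type u} [Field k] {X : Scheme.{u}} (f : X ⟶ Spec (CommRingCat.of k))

/-- The chain property. -/
def Chain (D : Closeds X) : Prop :=
  ∃ (k' : Type u) (_ : Field k') (_ : Algebra k k') (_ : FiniteDimensional k k')
    (_ : IsPurelyInseparable k k') (t : ℕ) (C : Fin (t + 1) → Closeds X),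
    (∀ i : Fin t, C i.succ ≤ C i.castSucc) ∧ C 0 = D ∧ C (Fin.last t) = ⊥ ∧
      ∀ i : Fin t, Str f k' (C i.castSucc) (C i.succ)

theorem chain_all [LocallyOfFiniteType f] [QuasiCompact f] (D : Closeds X) : Chain f D := by
  haveI : IsLocallyNoetherian X := LocallyOfFiniteType.isLocallyNoetherian f
  haveI : CompactSpace X := QuasiCompact.compactSpace_of_compactSpace f
  haveI : IsNoetherian X := ⟨⟩
  induction D using WellFoundedLT.induction with
  | ind D ih =>
    by_cases hD : D = ⊥
    · subst hD
      refine ⟨k, inferInstance, inferInstance, inferInstance, inferInstance, 0, fun _ => ⊥,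
        ?_, rfl, rfl, ?_⟩
      · intro i; exact i.elim0
      · intro i; exact i.elim0
    · obtain ⟨D', hlt, k₁, _, _, _, _, hstr⟩ := exists_step f D hD
      obtain ⟨k₂, _, _, _, _, t, C, hC, hC0, hCl, hCs⟩ := ih D' hlt
      obtain ⟨k', _, _, _, _, φ₁, φ₂, -⟩ := exists_common_ext k k₁ k₂
      refine ⟨k', inferInstance, inferInstance, inferInstance, inferInstance, t + 1,
        Fin.cons D C, ?_, ?_, ?_, ?_⟩
      · intro i
        refine Fin.cases ?_ (fun j => ?_) i
        · rw [Fin.cons_succ, Fin.castSucc_zero, Fin.cons_zero, hC0]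
          exact hlt.le
        · rw [Fin.cons_succ, ← Fin.succ_castSucc, Fin.cons_succ]
          exact hC j
      · rw [Fin.cons_zero]
      · rw [← Fin.succ_last, Fin.cons_succ]
        exact hCl
      · intro i
        refine Fin.cases ?_ (fun j => ?_) i
        · rw [Fin.cons_succ, Fin.castSucc_zero, Fin.cons_zero, hC0]
          exact Str.of_algHom f φ₁ hstr
        · rw [Fin.cons_succ, ← Fin.succ_castSucc, Fin.cons_succ]
          exact Str.of_algHom f φ₂ (hCs j)

end Groth.Agent.Helper5.GSS
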