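import Groth.Agent.Helper5.GCIg
import Groth.Agent.Helper5.GSSd
import Mathlib

set_option autoImplicit false
set_option linter.style.haveILetI false
universe u
open CategoryTheory CategoryTheory.Limits AlgebraicGeometry Opposite TopologicalSpace Topology

namespace Groth.Agent.Helper5.GNS

/-- Universally (topologically) an open embedding. -/
def UOE : MorphismProperty Scheme.{u} :=
  MorphismProperty.universally (topologically IsOpenEmbedding)

instance : (UOE.{u}).IsStableUnderBaseChange :=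
  MorphismProperty.universally_isStableUnderBaseChange _

instance : (topologically IsOpenEmbedding : MorphismProperty Scheme.{u}).IsStableUnderComposition :=
  topologically_isStableUnderComposition _ (fun _ _ hf hg => hg.comp hf)

instance : (UOE.{u}).IsStableUnderComposition :=
  MorphismProperty.IsStableUnderComposition.universally _

instance : (UOE.{u}).RespectsIso := MorphismProperty.universally_respectsIso _

instance : (FlatMor.IsUnivHomeo.{u}).IsStableUnderBaseChange :=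
  MorphismProperty.universally_isStableUnderBaseChange _

instance : (topologically (fun f => IsHomeomorph f) :
    MorphismProperty Scheme.{u}).IsStableUnderComposition :=
  topologically_isStableUnderComposition _ (fun _ _ hf hg => hg.comp hf)

instance : (FlatMor.IsUnivHomeo.{u}).IsStableUnderComposition :=
  MorphismProperty.IsStableUnderComposition.universally _

theorem UOE.of_isOpenImmersion {X Y : Scheme.{u}} (f : X ⟶ Y) [IsOpenImmersion f] : UOE f := by
  intro X' Y' i₁ i₂ f' sq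
  haveI : IsOpenImmersion f' := MorphismProperty.of_isPullback sq.flip inferInstance
  exact f'.isOpenEmbedding

theorem UOE.of_isUnivHomeo {X Y : Scheme.{u}} (f : X ⟶ Y) (hf : FlatMor.IsUnivHomeo f) :
    UOE f := by
  intro X' Y' i₁ i₂ f' sq
  have h : IsHomeomorph f' := hf i₁ i₂ f' sq
  exact h.isOpenEmbedding

theorem UOE.isOpenEmbedding {X Y : Scheme.{u}} {f : X ⟶ Y} (hf : UOE f) : IsOpenEmbedding f :=
  MorphismProperty.universally_le _ _ hf

theorem UOE.isOpenEmbedding_fst {X Y Z : Scheme.{u}} {f : X ⟶ Y} (hf : UOE f) (g : Z ⟶ Y) :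
    IsOpenEmbedding (pullback.fst g f) :=
  UOE.isOpenEmbedding (MorphismProperty.pullback_fst g f hf)

theorem univInj_of_isUnivHomeo {X Y : Scheme.{u}} (f : X ⟶ Y) (hf : FlatMor.IsUnivHomeo f) :
    UniversallyInjective f := by
  rw [universallyInjective_eq]
  intro X' Y' i₁ i₂ f' sq
  have h : IsHomeomorph f' := hf i₁ i₂ f' sq
  exact h.injective

/-- The class of generically finite purely inseparable covers. -/
structure Cov {Y' Y : Scheme.{u}} (s : Y' ⟶ Y) : Prop where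
  int : IsIntegral Y'
  uoe : UOE s
  gen : ∃ U : Y.Opens, ((s ⁻¹ᵁ U : Y'.Opens) : Set Y').Nonempty ∧ IsFinite (s ∣_ U) ∧
    FlatMor.IsUnivHomeo (s ∣_ U)

theorem Cov.id (Y : Scheme.{u}) [IsIntegral Y] : Cov (𝟙 Y) where
  int := inferInstance
  uoe := UOE.of_isOpenImmersion _
  gen := by
    refine ⟨⊤, ⟨genericPoint Y, trivial⟩, inferInstance, ?_⟩
    intro X' Y' i₁ i₂ f' sq
    haveI : IsIso f' := MorphismProperty.of_isPullback (P := MorphismProperty.isomorphisms _)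
      sq.flip (by
        show IsIso (𝟙 Y ∣_ ⊤)
        infer_instance)
    exact f'.homeomorph.isHomeomorph

theorem Cov.of_finite_uh {Y₁ Y : Scheme.{u}} [IsIntegral Y₁] (V : Y.Opens) (g : Y₁ ⟶ V.toScheme)
    [IsFinite g] (hg : FlatMor.IsUnivHomeo g) : Cov (g ≫ V.ι) where
  int := inferInstance
  uoe := MorphismProperty.comp_mem _ _ _ (UOE.of_isUnivHomeo g hg) (UOE.of_isOpenImmersion _)
  gen := by
    refine ⟨V, ⟨genericPoint Y₁, ?_⟩, ?_, ?_⟩
    · show V.ι (g (genericPoint Y₁)) ∈ V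
      exact (g (genericPoint Y₁)).2
    · exact Groth.Agent.Helper5.GCI.prop_restrict_comp_ι_top @IsFinite V g inferInstance V le_rfl
    · exact Groth.Agent.Helper5.GCI.prop_restrict_comp_ι_top FlatMor.IsUnivHomeo V g hg V le_rfl

theorem surjective_of_isUnivHomeo {X Y : Scheme.{u}} (g : X ⟶ Y) (hg : FlatMor.IsUnivHomeo g) :
    Function.Surjective g :=
  Groth.Agent.Helper5.GCI.surjective_of_isUnivHomeo g hg

theorem Cov.comp {Y₁ Y' Y : Scheme.{u}} {s₁ : Y₁ ⟶ Y'} {s : Y' ⟶ Y} (h₁ : Cov s₁) (h : Cov s) :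
    Cov (s₁ ≫ s) := by
  haveI := h.int
  haveI := h₁.int
  refine ⟨h₁.int, MorphismProperty.comp_mem _ _ _ h₁.uoe h.uoe, ?_⟩
  obtain ⟨U, ⟨y₀, hy₀⟩, hfin, huh⟩ := h.gen
  obtain ⟨U₁, ⟨y₁, hy₁⟩, hfin₁, huh₁⟩ := h₁.gen
  haveI : Nonempty (s ⁻¹ᵁ U).toScheme := ⟨⟨y₀, hy₀⟩⟩
  haveI : IsIntegral (s ⁻¹ᵁ U).toScheme := isIntegral_of_isOpenImmersion (s ⁻¹ᵁ U).ι
  have hηU : genericPoint Y' ∈ s ⁻¹ᵁ U :=
    Groth.Agent.Helper5.GCI.genericPoint_mem_of_nonempty _ ⟨y₀, hy₀⟩
  have hηU₁ : genericPoint Y' ∈ U₁ :=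
    Groth.Agent.Helper5.GCI.genericPoint_mem_of_nonempty _ ⟨s₁ y₁, hy₁⟩
  obtain ⟨O, hOη, hO⟩ := Groth.Agent.Helper5.GCI.exists_open_preimage_le (s ∣_ U)
    ((s ⁻¹ᵁ U).ι ⁻¹ᵁ U₁) ⟨⟨genericPoint Y', hηU⟩, hηU₁⟩
  have hle : U.ι ''ᵁ O ≤ U := by
    rintro _ ⟨y, -, rfl⟩
    exact y.2
  have hpre : s ⁻¹ᵁ (U.ι ''ᵁ O) ≤ U₁ := by
    intro y hy
    obtain ⟨o, ho, hoy⟩ := hy
    have hyU : y ∈ s ⁻¹ᵁ U := by
      show s y ∈ U
      rw [← hoy]; exact o.2
    let y' : (s ⁻¹ᵁ U).toScheme := ⟨y, hyU⟩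
    have hy' : (s ∣_ U) y' = o := by
      apply U.ι.isOpenEmbedding.injective
      rw [← Scheme.Hom.comp_apply, morphismRestrict_ι, Scheme.Hom.comp_apply]
      exact hoy.symm
    have : y' ∈ (s ∣_ U) ⁻¹ᵁ O := by
      show (s ∣_ U) y' ∈ O
      rw [hy']; exact ho
    exact hO this
  have hrestr : (s₁ ≫ s) ∣_ (U.ι ''ᵁ O) = (s₁ ∣_ (s ⁻¹ᵁ (U.ι ''ᵁ O))) ≫ (s ∣_ (U.ι ''ᵁ O)) :=
    morphismRestrict_comp _ _ _
  refine ⟨U.ι ''ᵁ O, ?_, ?_, ?_⟩
  · -- nonemptiness
    have hs₁ : Function.Surjective (s₁ ∣_ U₁) := surjective_of_isUnivHomeo _ huh₁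
    have hmem : genericPoint Y' ∈ s ⁻¹ᵁ (U.ι ''ᵁ O) := by
      refine ⟨(s ∣_ U) (genericPoint (s ⁻¹ᵁ U).toScheme), hOη, ?_⟩
      show U.ι ((s ∣_ U) (genericPoint (s ⁻¹ᵁ U).toScheme)) = s (genericPoint Y')
      rw [← Scheme.Hom.comp_apply, morphismRestrict_ι, Scheme.Hom.comp_apply]
      congr 1
      exact Groth.Agent.Helper5.GCI.map_genericPoint_of_denseRange (s ⁻¹ᵁ U).ι
        (by
          rw [DenseRange, Scheme.Opens.range_ι]
          exact (s ⁻¹ᵁ U).isOpen.dense ⟨y₀, hy₀⟩)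
    obtain ⟨z, hz⟩ := hs₁ ⟨genericPoint Y', hpre hmem⟩
    refine ⟨z.1, ?_⟩
    show s (s₁ z.1) ∈ U.ι ''ᵁ O
    have : s₁ z.1 = genericPoint Y' := by
      have := congrArg (fun w => U₁.ι w) hz
      simp only at this
      rw [← Scheme.Hom.comp_apply, morphismRestrict_ι, Scheme.Hom.comp_apply] at this
      exact this
    rw [this]
    exact hmem
  · rw [hrestr]
    exact MorphismProperty.comp_mem _ _ _
      (Groth.Agent.Helper5.GCI.restrict_of_le @IsFinite s₁ hpre hfin₁)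
      (Groth.Agent.Helper5.GCI.restrict_of_le @IsFinite s hle hfin)
  · rw [hrestr]
    exact MorphismProperty.comp_mem _ _ _
      (Groth.Agent.Helper5.GCI.restrict_of_le FlatMor.IsUnivHomeo s₁ hpre huh₁)
      (Groth.Agent.Helper5.GCI.restrict_of_le FlatMor.IsUnivHomeo s hle huh)

end Groth.Agent.Helper5.GNS
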