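import Groth.Agent.Helper5.GNSa
import Groth.Agent.Helper3.GenSmDense
import Mathlib

set_option autoImplicit false
set_option linter.style.haveILetI false
universe u
open CategoryTheory CategoryTheory.Limits AlgebraicGeometry Opposite TopologicalSpace Topology

namespace Groth.Agent.Helper5.GNS
open Groth.Agent.Helper5.GSS

theorem smooth_ι_comp_of_le_smoothLocus {X Y : Scheme.{u}} (ψ : X ⟶ Y)
    [LocallyOfFinitePresentation ψ] (Ω : X.Opens) (h : Ω ≤ ψ.smoothLocus) :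
    Smooth (Ω.ι ≫ ψ) := by
  rw [← Scheme.Hom.smoothLocus_eq_top_iff, ← Scheme.Hom.preimage_smoothLocus_eq]
  apply top_le_iff.mp
  intro x _
  exact h x.2

theorem smoothLocus_nonempty {X Y : Scheme.{u}} [IsIntegral Y] (ψ : X ⟶ Y) [Flat ψ]
    [LocallyOfFinitePresentation ψ] [Nonempty X]
    [GeometricallyReduced (ψ.fiberToSpecResidueField (genericPoint Y))] :
    (ψ.smoothLocus : Set X).Nonempty := by
  obtain ⟨x⟩ := ‹Nonempty X›
  have hsp : genericPoint Y ⤳ ψ x := (genericPoint_spec Y).specializes trivial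
  obtain ⟨x', -, hx'e⟩ := (Flat.generalizingMap ψ) hsp
  have hx'r : x' ∈ Set.range (ψ.fiberι (genericPoint Y)) := by
    rw [Scheme.Hom.range_fiberι]; exact hx'e
  obtain ⟨z₀, -⟩ := hx'r
  haveI : Nonempty (ψ.fiber (genericPoint Y)) := ⟨z₀⟩
  have hfield : IsField (Y.presheaf.stalk (genericPoint Y)) := Field.toIsField Y.functionField
  have hd : Dense ((ψ.fiberToSpecResidueField (genericPoint Y)).smoothLocus :
      Set (ψ.fiber (genericPoint Y))) :=
    Groth.Agent.Helper3.GeomRedSm.dense_smoothLocus (Y.residueField (genericPoint Y))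
      (ψ.fiberToSpecResidueField (genericPoint Y))
  obtain ⟨z, hz⟩ := hd.nonempty
  exact ⟨_, Groth.Agent.Helper3.GenSmDense.fiberι_mem_smoothLocus ψ (genericPoint Y) hfield z hz⟩

theorem range_snd_of_isPullback {P A B C : Scheme.{u}} {a : P ⟶ A} {b : P ⟶ B} {c : A ⟶ C}
    {d : B ⟶ C} (hsq : IsPullback a b c d) : Set.range b = d ⁻¹' Set.range c := by
  rw [← Scheme.Pullback.range_snd c d]
  have e : b = hsq.isoPullback.hom ≫ pullback.snd c d := hsq.isoPullback_hom_snd.symm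
  rw [e, Scheme.Hom.comp_base, TopCat.coe_comp, Set.range_comp]
  have hs : Function.Surjective hsq.isoPullback.hom := by
    intro y
    refine ⟨hsq.isoPullback.inv y, ?_⟩
    rw [← Scheme.Hom.comp_apply, Iso.inv_hom_id]
    rfl
  rw [hs.range_eq, Set.image_univ]

/-- The geometric core of the step. -/
theorem strG_of_cover {T Y Y' Y₁ TD X' : Scheme.{u}} (t : T ⟶ Y) (s : Y' ⟶ Y) (s₁ : Y₁ ⟶ Y')
    (D : Closeds T) (ιD : TD ⟶ T) [IsClosedImmersion ιD] (hrange : Set.range ιD = D)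
    (r : X' ⟶ pullback (pullback.snd (ιD ≫ t) s) s₁) [IsClosedImmersion r] [Surjective r]
    [IsReduced X']
    [LocallyOfFinitePresentation (r ≫ pullback.snd (pullback.snd (ιD ≫ t) s) s₁)]
    (Ω : X'.Opens) (hΩ : Ω ≤ (r ≫ pullback.snd (pullback.snd (ιD ≫ t) s) s₁).smoothLocus)
    (D' : Closeds T)
    (hD' : ∀ x : X', x ∈ Ω ↔
      (r ≫ pullback.fst (pullback.snd (ιD ≫ t) s) s₁ ≫ pullback.fst (ιD ≫ t) s ≫ ιD) x ∉
        (D' : Set T)) :
    StrG t (s₁ ≫ s) D D' := by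
  unfold StrG
  obtain ⟨q, hq⟩ : ∃ q, q = pullback.snd (ιD ≫ t) s := ⟨_, rfl⟩
  subst hq
  have hcond : (pullback.fst (pullback.snd (ιD ≫ t) s) s₁ ≫ pullback.fst (ιD ≫ t) s ≫ ιD) ≫ t =
      pullback.snd (pullback.snd (ιD ≫ t) s) s₁ ≫ s₁ ≫ s := by
    rw [Category.assoc, Category.assoc, pullback.condition, ← Category.assoc,
      pullback.condition, Category.assoc]
  obtain ⟨m₁, hm₁⟩ : ∃ m₁ : pullback (pullback.snd (ιD ≫ t) s) s₁ ⟶ pullback t (s₁ ≫ s),
      m₁ = pullback.lift _ _ hcond := ⟨_, rfl⟩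
  have hm₁f : m₁ ≫ pullback.fst t (s₁ ≫ s) =
      pullback.fst (pullback.snd (ιD ≫ t) s) s₁ ≫ pullback.fst (ιD ≫ t) s ≫ ιD := by
    rw [hm₁, pullback.lift_fst]
  have hm₁s : m₁ ≫ pullback.snd t (s₁ ≫ s) = pullback.snd (pullback.snd (ιD ≫ t) s) s₁ := by
    rw [hm₁, pullback.lift_snd]
  have sqA : IsPullback (pullback.fst (pullback.snd (ιD ≫ t) s) s₁)
      (pullback.snd (pullback.snd (ιD ≫ t) s) s₁) (pullback.snd (ιD ≫ t) s) s₁ :=
    IsPullback.of_hasPullback _ _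
  have sqB : IsPullback (pullback.fst (ιD ≫ t) s) (pullback.snd (ιD ≫ t) s) (ιD ≫ t) s :=
    IsPullback.of_hasPullback _ _
  have sqAB : IsPullback (pullback.fst (pullback.snd (ιD ≫ t) s) s₁ ≫ pullback.fst (ιD ≫ t) s)
      (pullback.snd (pullback.snd (ιD ≫ t) s) s₁) (ιD ≫ t) (s₁ ≫ s) :=
    (sqA.flip.paste_vert sqB.flip).flip
  have sqR : IsPullback (pullback.fst t (s₁ ≫ s)) (pullback.snd t (s₁ ≫ s)) t (s₁ ≫ s) :=
    IsPullback.of_hasPullback _ _
  have sqM : IsPullback (pullback.fst (pullback.snd (ιD ≫ t) s) s₁ ≫ pullback.fst (ιD ≫ t) s) m₁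
      ιD (pullback.fst t (s₁ ≫ s)) := by
    refine IsPullback.of_bot ?_ ?_ sqR
    · rw [hm₁s]; exact sqAB
    · rw [hm₁f, Category.assoc]
  haveI : IsClosedImmersion m₁ := MorphismProperty.of_isPullback sqM inferInstance
  have hrm₁ : Set.range m₁ = pullback.fst t (s₁ ≫ s) ⁻¹' (D : Set T) := by
    rw [range_snd_of_isPullback sqM, hrange]
  -- the immersion of the smooth part
  haveI : IsReduced Ω.toScheme := isReduced_of_isOpenImmersion Ω.ι
  refine smooth_stratum_of_preimmersion (pullback.snd t (s₁ ≫ s)) _ _ (Ω.ι ≫ r ≫ m₁) ?_ ?_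
  · ext w
    constructor
    · rintro ⟨x, rfl⟩
      have h1 : (Ω.ι ≫ r ≫ m₁) x = m₁ (r (Ω.ι x)) := by
        rw [Scheme.Hom.comp_apply, Scheme.Hom.comp_apply]
      have h2 : pullback.fst t (s₁ ≫ s) (m₁ (r (Ω.ι x))) =
          (r ≫ pullback.fst (pullback.snd (ιD ≫ t) s) s₁ ≫ pullback.fst (ιD ≫ t) s ≫ ιD)
            (Ω.ι x) := by
        rw [← hm₁f, Scheme.Hom.comp_apply, Scheme.Hom.comp_apply]
      refine ⟨?_, ?_⟩
      · show pullback.fst t (s₁ ≫ s) ((Ω.ι ≫ r ≫ m₁) x) ∈ (D : Set T)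
        have : (Ω.ι ≫ r ≫ m₁) x ∈ Set.range m₁ := by rw [h1]; exact ⟨_, rfl⟩
        rw [hrm₁] at this
        exact this
      · show pullback.fst t (s₁ ≫ s) ((Ω.ι ≫ r ≫ m₁) x) ∉ (D' : Set T)
        rw [h1, h2]
        exact (hD' (Ω.ι x)).mp x.2
    · rintro ⟨hwD, hwD'⟩
      have hw : w ∈ Set.range m₁ := by rw [hrm₁]; exact hwD
      obtain ⟨p, rfl⟩ := hw
      obtain ⟨x, rfl⟩ := r.surjective p
      have h2 : pullback.fst t (s₁ ≫ s) (m₁ (r x)) =
          (r ≫ pullback.fst (pullback.snd (ιD ≫ t) s) s₁ ≫ pullback.fst (ιD ≫ t) s ≫ ιD) x := by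
        rw [← hm₁f, Scheme.Hom.comp_apply, Scheme.Hom.comp_apply]
      have hxΩ : x ∈ Ω := by
        rw [hD' x, ← h2]
        exact hwD'
      refine ⟨⟨x, hxΩ⟩, ?_⟩
      rw [Scheme.Hom.comp_apply, Scheme.Hom.comp_apply]
      rfl
  · have : (Ω.ι ≫ r ≫ m₁) ≫ pullback.snd t (s₁ ≫ s) =
        Ω.ι ≫ r ≫ pullback.snd (pullback.snd (ιD ≫ t) s) s₁ := by
      rw [Category.assoc, Category.assoc, hm₁s]
    rw [this]
    exact smooth_ι_comp_of_le_smoothLocus _ Ω hΩ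

end Groth.Agent.Helper5.GNS
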