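import Groth.Agent.Helper5.GNSb
import Mathlib

set_option autoImplicit false
set_option linter.style.haveILetI false
universe u
open CategoryTheory CategoryTheory.Limits AlgebraicGeometry Opposite TopologicalSpace Topology

namespace Groth.Agent.Helper5.GNS
open Groth.Agent.Helper5.GSS

/-- One step of the relative stratification. -/
theorem exists_step_rel {T Y Y' : Scheme.{u}} (t : T ⟶ Y) [LocallyOfFiniteType t] [QuasiCompact t]
    (s : Y' ⟶ Y) (hs : Cov s) (D : Closeds T) (hD : D ≠ ⊥) :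
    ∃ (D' : Closeds T) (_ : D' < D) (Y₁ : Scheme.{u}) (s₁ : Y₁ ⟶ Y'),
      Cov s₁ ∧ StrG t (s₁ ≫ s) D D' := by
  haveI := hs.int
  obtain ⟨ιD, hιD⟩ : ∃ ιD, ιD = (Scheme.IdealSheafData.vanishingIdeal D).subschemeι := ⟨_, rfl⟩
  haveI : IsClosedImmersion ιD := hιD ▸ inferInstance
  have hrange : Set.range ιD = D := hιD ▸ range_vanishingIdeal_subschemeι D
  obtain ⟨V, Y₁, g, X', r, hY₁, hV, hY₁aff, hgfin, hguh, hrcl, hrsurj, hX'red, hflat, hlfp, hqc,
    hqs, hgr⟩ := Groth.Agent.S1358.result (pullback.snd (ιD ≫ t) s)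
  haveI := hY₁; haveI := hgfin; haveI := hrcl; haveI := hrsurj; haveI := hX'red
  haveI := hflat; haveI := hlfp; haveI := hgr
  have hcov₁ : Cov (g ≫ V.ι) := Cov.of_finite_uh V g hguh
  by_cases hne : Nonempty X'
  · haveI := hne
    obtain ⟨Ω, hΩ⟩ : ∃ Ω, Ω =
      (r ≫ pullback.snd (pullback.snd (ιD ≫ t) s) (g ≫ V.ι)).smoothLocus := ⟨_, rfl⟩
    have hΩne : (Ω : Set X').Nonempty := hΩ ▸ smoothLocus_nonempty _
    obtain ⟨π₀, hπ₀d⟩ : ∃ π₀, π₀ = r ≫ pullback.fst (pullback.snd (ιD ≫ t) s) (g ≫ V.ι) ≫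
      pullback.fst (ιD ≫ t) s := ⟨_, rfl⟩
    have hπ₀ : IsOpenEmbedding π₀ := by
      have h1 : IsOpenEmbedding r :=
        (isHomeomorph_iff_isEmbedding_surjective.mpr
          ⟨r.isClosedEmbedding.isEmbedding, r.surjective⟩).isOpenEmbedding
      have h2 : IsOpenEmbedding (pullback.fst (pullback.snd (ιD ≫ t) s) (g ≫ V.ι)) :=
        hcov₁.uoe.isOpenEmbedding_fst _
      have h3 : IsOpenEmbedding (pullback.fst (ιD ≫ t) s) := hs.uoe.isOpenEmbedding_fst _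
      rw [hπ₀d]
      exact h3.comp (h2.comp h1)
    have hπ : ∀ x, (r ≫ pullback.fst (pullback.snd (ιD ≫ t) s) (g ≫ V.ι) ≫
        pullback.fst (ιD ≫ t) s ≫ ιD) x = ιD (π₀ x) := by
      intro x
      rw [hπ₀d]
      simp only [Scheme.Hom.comp_apply]
    have hUo : IsOpen (π₀ '' (Ω : Set X')) := hπ₀.isOpenMap _ Ω.isOpen
    have hcl : IsClosed (ιD '' (π₀ '' (Ω : Set X'))ᶜ) :=
      ιD.isClosedEmbedding.isClosedMap _ hUo.isClosed_compl
    obtain ⟨D', hD'⟩ : ∃ D' : Closeds T, (D' : Set T) = ιD '' (π₀ '' (Ω : Set X'))ᶜ :=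
      ⟨⟨_, hcl⟩, rfl⟩
    have hinj : Function.Injective ιD := ιD.isClosedEmbedding.injective
    have hkey : ∀ x : X', x ∈ Ω ↔ ιD (π₀ x) ∉ (D' : Set T) := by
      intro x
      rw [hD']
      constructor
      · rintro hx ⟨y, hy, hyx⟩
        exact hy ⟨x, hx, (hinj hyx).symm⟩
      · intro hx
        by_contra hxΩ
        refine hx ⟨π₀ x, ?_, rfl⟩
        rintro ⟨x', hx', hxx'⟩
        exact hxΩ (hπ₀.injective hxx' ▸ hx')
    refine ⟨D', ?_, Y₁, g ≫ V.ι, hcov₁, ?_⟩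
    · refine lt_of_le_of_ne ?_ ?_
      · intro y hy
        have hy' : y ∈ ιD '' (π₀ '' (Ω : Set X'))ᶜ := hD' ▸ hy
        obtain ⟨z, -, rfl⟩ := hy'
        show ιD z ∈ (D : Set T)
        rw [← hrange]; exact ⟨z, rfl⟩
      · intro heq
        obtain ⟨x, hx⟩ := hΩne
        have h1 : ιD (π₀ x) ∉ (D' : Set T) := (hkey x).mp hx
        apply h1
        rw [heq, ← hrange]
        exact ⟨_, rfl⟩
    · refine strG_of_cover t s (g ≫ V.ι) D ιD hrange r Ω (hΩ ▸ le_rfl) D' ?_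
      intro x
      rw [hπ x]
      exact hkey x
  · refine ⟨⊥, bot_lt_iff_ne_bot.mpr hD, Y₁, g ≫ V.ι, hcov₁, ?_⟩
    refine strG_of_cover t s (g ≫ V.ι) D ιD hrange r ⊥ bot_le ⊥ ?_
    intro x
    exact (hne ⟨x⟩).elim

end Groth.Agent.Helper5.GNS
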