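import Groth.Agent.Helper5.GNSc
import Groth.Agent.S0414
import Mathlib

set_option autoImplicit false
set_option linter.style.haveILetI false
universe u
open CategoryTheory CategoryTheory.Limits AlgebraicGeometry Opposite TopologicalSpace Topology

namespace Groth.Agent.Helper5.GNS
open Groth.Agent.Helper5.GSS

/-- Chain property, relative to an arbitrary cover of the base. -/
def ChainR {T Y : Scheme.{u}} (t : T ⟶ Y) (D : Closeds T) : Prop :=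
  ∀ (Y' : Scheme.{u}) (s : Y' ⟶ Y), Cov s →
    ∃ (Y'' : Scheme.{u}) (s' : Y'' ⟶ Y'), Cov s' ∧ ∃ (n : ℕ) (C : Fin (n + 1) → Closeds T),
      (∀ i : Fin n, C i.succ ≤ C i.castSucc) ∧ C 0 = D ∧ C (Fin.last n) = ⊥ ∧
      ∀ i : Fin n, StrG t (s' ≫ s) (C i.castSucc) (C i.succ)

theorem chainR_all {T Y : Scheme.{u}} [IsNoetherian Y] (t : T ⟶ Y) [LocallyOfFiniteType t]
    [QuasiCompact t] (D : Closeds T) : ChainR t D := by
  haveI : IsLocallyNoetherian T := LocallyOfFiniteType.isLocallyNoetherian t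
  haveI : CompactSpace T := QuasiCompact.compactSpace_of_compactSpace t
  haveI : IsNoetherian T := ⟨⟩
  induction D using WellFoundedLT.induction with
  | ind D ih =>
    intro Y' s hs
    haveI := hs.int
    by_cases hD : D = ⊥
    · subst hD
      refine ⟨Y', 𝟙 Y', Cov.id Y', 0, fun _ => ⊥, ?_, rfl, rfl, ?_⟩
      · intro i; exact i.elim0
      · intro i; exact i.elim0
    · obtain ⟨D', hlt, Y₁, s₁, hcov₁, hstr⟩ := exists_step_rel t s hs D hD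
      obtain ⟨Y₂, s₂, hcov₂, n, C, hC, hC0, hCl, hCs⟩ := ih D' hlt Y₁ (s₁ ≫ s) (hcov₁.comp hs)
      haveI := hcov₂.int
      refine ⟨Y₂, s₂ ≫ s₁, hcov₂.comp hcov₁, n + 1, Fin.cons D C, ?_, ?_, ?_, ?_⟩
      · intro i
        refine Fin.cases ?_ (fun j => ?_) i
        · rw [Fin.cons_succ, Fin.castSucc_zero, Fin.cons_zero, hC0]
          exact hlt.le
        · rw [Fin.cons_succ, ← Fin.succ_castSucc, Fin.cons_succ]
          exact hC j
      · rw [Fin.cons_zero]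
      · rw [← Fin.succ_last, Fin.cons_succ]
        exact hCl
      · intro i
        refine Fin.cases ?_ (fun j => ?_) i
        · rw [Fin.cons_succ, Fin.castSucc_zero, Fin.cons_zero, hC0]
          exact StrG.of_comp t (s₁ ≫ s) ((s₂ ≫ s₁) ≫ s) s₂ (Category.assoc _ _ _).symm hstr
        · rw [Fin.cons_succ, ← Fin.succ_castSucc, Fin.cons_succ, Category.assoc]
          exact hCs j

/-- Stratification into smooth strata over a generically finite locally free, purely inseparable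
cover of an integral noetherian base. -/
theorem noethGen {T Y : Scheme.{u}} [IsNoetherian Y] [IsIntegral Y] (t : T ⟶ Y)
    [LocallyOfFiniteType t] [QuasiCompact t] :
    ∃ (U : Y.Opens) (V : Scheme.{u}) (v : V ⟶ U.toScheme), (U : Set Y).Nonempty ∧ IsIntegral V ∧
      IsFinite v ∧ Flat v ∧ LocallyOfFinitePresentation v ∧ Surjective v ∧
      UniversallyInjective v ∧
      ∃ (n : ℕ) (C : Fin (n + 1) → Closeds T), (∀ i : Fin n, C i.succ ≤ C i.castSucc) ∧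
        C 0 = ⊤ ∧ C (Fin.last n) = ⊥ ∧
        ∀ i : Fin n, StrG t (v ≫ U.ι) (C i.castSucc) (C i.succ) := by
  obtain ⟨Y'', s', hcov, n, C, hC, hC0, hCl, hCs⟩ := chainR_all t ⊤ Y (𝟙 Y) (Cov.id Y)
  haveI := hcov.int
  obtain ⟨U₀, ⟨y₀, hy₀⟩, hfin, huh⟩ := hcov.gen
  haveI := hfin
  haveI : Nonempty U₀.toScheme := ⟨⟨s' y₀, hy₀⟩⟩
  haveI : IsIntegral U₀.toScheme := isIntegral_of_isOpenImmersion U₀.ι
  obtain ⟨F, hFd, hFfl, hFfp⟩ := Groth.Agent.S0414.result (s' ∣_ U₀)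
  obtain ⟨y₁, hy₁⟩ := hFd.nonempty
  have hle : U₀.ι ''ᵁ F ≤ U₀ := by
    rintro _ ⟨y, -, rfl⟩
    exact y.2
  have hfin' : IsFinite (s' ∣_ (U₀.ι ''ᵁ F)) :=
    Groth.Agent.Helper5.GCI.restrict_of_le @IsFinite s' hle hfin
  have huh' : FlatMor.IsUnivHomeo (s' ∣_ (U₀.ι ''ᵁ F)) :=
    Groth.Agent.Helper5.GCI.restrict_of_le FlatMor.IsUnivHomeo s' hle huh
  have hsurj : Function.Surjective (s' ∣_ (U₀.ι ''ᵁ F)) := surjective_of_isUnivHomeo _ huh'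
  have hflat : Flat (s' ∣_ (U₀.ι ''ᵁ F)) :=
    (MorphismProperty.arrow_mk_iso_iff @Flat (morphismRestrictRestrict s' U₀ F)).mp hFfl
  have hfp : LocallyOfFinitePresentation (s' ∣_ (U₀.ι ''ᵁ F)) :=
    (MorphismProperty.arrow_mk_iso_iff @LocallyOfFinitePresentation
      (morphismRestrictRestrict s' U₀ F)).mp hFfp
  obtain ⟨z, hz⟩ := hsurj ⟨U₀.ι y₁, ⟨y₁, hy₁, rfl⟩⟩
  haveI : Nonempty (s' ⁻¹ᵁ (U₀.ι ''ᵁ F)).toScheme := ⟨z⟩
  haveI : IsIntegral (s' ⁻¹ᵁ (U₀.ι ''ᵁ F)).toScheme :=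
    isIntegral_of_isOpenImmersion (s' ⁻¹ᵁ (U₀.ι ''ᵁ F)).ι
  refine ⟨U₀.ι ''ᵁ F, (s' ⁻¹ᵁ (U₀.ι ''ᵁ F)).toScheme, s' ∣_ (U₀.ι ''ᵁ F),
    ⟨U₀.ι y₁, ⟨y₁, hy₁, rfl⟩⟩, inferInstance, hfin', hflat, hfp, ⟨hsurj⟩,
    univInj_of_isUnivHomeo _ huh', n, C, hC, hC0, hCl, ?_⟩
  intro i
  refine StrG.of_comp t (s' ≫ 𝟙 Y) _ (s' ⁻¹ᵁ (U₀.ι ''ᵁ F)).ι ?_ (hCs i)
  rw [morphismRestrict_ι, Category.comp_id]

end Groth.Agent.Helper5.GNS
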