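import Groth.Agent.Helper5.GNSd
import Groth.Agent.Helper2.ArtSch
import Mathlib

set_option autoImplicit false
set_option linter.style.haveILetI false
universe u
open CategoryTheory CategoryTheory.Limits AlgebraicGeometry Opposite TopologicalSpace Topology

namespace Groth.Agent.Helper5.GNS
open Groth.Agent.Helper5.GSS

/-- The kernel of a closed immersion locally of finite presentation is of finite type. -/
theorem fg_ker_of_lfp {Z X : Scheme.{u}} (z : Z ⟶ X) [IsClosedImmersion z]
    [LocallyOfFinitePresentation z] (O : X.affineOpens) : (z.ker.ideal O).FG := by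
  rw [Scheme.Hom.ker_apply]
  have hsurj : Function.Surjective (z.app O.1) := z.app_surjective O.1 O.2
  have hfp : (z.app O.1).hom.FinitePresentation := by
    have := Scheme.Hom.finitePresentation_appLE z O.2 (O.2.preimage z) le_rfl
    rwa [← Scheme.Hom.app_eq_appLE] at this
  letI := (z.app O.1).hom.toAlgebra
  haveI : Algebra.FinitePresentation Γ(X, O.1) Γ(Z, z ⁻¹ᵁ O.1) := hfp
  exact Algebra.FinitePresentation.ker_fG_of_surjective
    (Algebra.ofId Γ(X, O.1) Γ(Z, z ⁻¹ᵁ O.1)) hsurj

/-- Pullbacks of ideal sheaves on locally noetherian schemes are of finite type. -/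
theorem fg_comap {X T' : Scheme.{u}} [IsLocallyNoetherian T'] (I : T'.IdealSheafData)
    (p : X ⟶ T') (O : X.affineOpens) : ((I.comap p).ideal O).FG := by
  haveI : LocallyOfFinitePresentation I.subschemeι :=
    Groth.Agent.Helper2.ArtSch.lfp_of_lft_noeth _
  exact fg_ker_of_lfp (pullback.fst p I.subschemeι) O

/-- Base change of a smooth stratum, expressed with pullbacks of ideal sheaves. -/
theorem smooth_comap_stratum {X T' V V₀ : Scheme.{u}} (h : T' ⟶ V₀) (p : X ⟶ T') (h' : X ⟶ V)
    (γ' : V ⟶ V₀) (sq : IsPullback p h' h γ') (A B : Closeds T')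
    (hs : Smooth (stratumι T' A B ≫ h)) :
    Smooth ((((Scheme.IdealSheafData.vanishingIdeal A).comap p).subschemeι ⁻¹ᵁ
      ((Scheme.IdealSheafData.vanishingIdeal B).comap p).support.compl).ι ≫
      ((Scheme.IdealSheafData.vanishingIdeal A).comap p).subschemeι ≫ h') := by
  obtain ⟨IA, hIA⟩ : ∃ IA, IA = Scheme.IdealSheafData.vanishingIdeal A := ⟨_, rfl⟩
  replace hs : Smooth ((((Scheme.IdealSheafData.vanishingIdeal A).subschemeι ⁻¹ᵁ B.compl).ι ≫
      (Scheme.IdealSheafData.vanishingIdeal A).subschemeι) ≫ h) := hs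
  rw [← hIA] at hs ⊢
  obtain ⟨σ, hσ⟩ : ∃ σ, σ = (IA.comapIso p).hom ≫ pullback.snd p IA.subschemeι := ⟨_, rfl⟩
  have sqσ : IsPullback (IA.comap p).subschemeι σ p IA.subschemeι := by
    refine IsPullback.of_iso_pullback ⟨?_⟩ (IA.comapIso p) ?_ hσ.symm
    · rw [hσ, Category.assoc, ← pullback.condition, ← Category.assoc,
        Scheme.IdealSheafData.comapIso_hom_fst]
    · exact Scheme.IdealSheafData.comapIso_hom_fst IA p
  obtain ⟨O, hO⟩ : ∃ O : IA.subscheme.Opens, O = IA.subschemeι ⁻¹ᵁ B.compl := ⟨_, rfl⟩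
  have hs' : Smooth ((O.ι ≫ IA.subschemeι) ≫ h) := by
    rw [hO]; exact hs
  have hopen : (IA.comap p).subschemeι ⁻¹ᵁ
      ((Scheme.IdealSheafData.vanishingIdeal B).comap p).support.compl = σ ⁻¹ᵁ O := by
    ext x
    have hw : p ((IA.comap p).subschemeι x) = IA.subschemeι (σ x) := by
      rw [← Scheme.Hom.comp_apply, ← Scheme.Hom.comp_apply, sqσ.w]
    rw [hO]
    show (IA.comap p).subschemeι x ∉
      (((Scheme.IdealSheafData.vanishingIdeal B).comap p).support : Set X) ↔
      IA.subschemeι (σ x) ∉ (B : Set T')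
    rw [Scheme.IdealSheafData.support_comap, support_vanishingIdeal, ← hw]
    rfl
  have key : ∀ O' : (IA.comap p).subscheme.Opens, O' = σ ⁻¹ᵁ O →
      Smooth (O'.ι ≫ (IA.comap p).subschemeι ≫ h') := by
    rintro _ rfl
    have sq1 := isPullback_morphismRestrict σ O
    have sq12 := sq1.paste_vert sqσ.flip
    have sq123 := sq12.paste_vert sq
    have := MorphismProperty.of_isPullback (P := @Smooth) sq123 hs'
    rwa [Category.assoc] at this
  exact key _ hopen

end Groth.Agent.Helper5.GNS
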