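import Groth.Agent.Helper5.GNSe
import Mathlib

set_option autoImplicit false
set_option linter.style.haveILetI false
universe u
open CategoryTheory CategoryTheory.Limits AlgebraicGeometry Opposite TopologicalSpace Topology

namespace Groth.Agent.Helper5.GNS
open Groth.Agent.Helper5.GSS

/-- A section vanishing at a point whose local ring is a field vanishes on a neighbourhood. -/
theorem exists_open_disjoint_basicOpen {X : Scheme.{u}} (x : X)
    (hx : IsField (X.presheaf.stalk x)) (O : X.Opens) (hxO : x ∈ O) (a : Γ(X, O))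
    (ha : x ∉ X.basicOpen a) : ∃ N : X.Opens, x ∈ N ∧ N ⊓ X.basicOpen a = ⊥ := by
  rw [Scheme.mem_basicOpen _ _ _ hxO] at ha
  letI := hx.toField
  have h0 : X.presheaf.germ O x hxO a = 0 := by
    by_contra hne
    exact ha (isUnit_iff_ne_zero.mpr hne)
  have h1 : X.presheaf.germ O x hxO a = X.presheaf.germ O x hxO 0 := by
    rw [h0, map_zero]
  obtain ⟨W, hxW, iU, iV, e⟩ := X.presheaf.germ_eq x hxO hxO a 0 h1
  refine ⟨W, hxW, ?_⟩
  rw [← Scheme.basicOpen_res X a iU.op, e, map_zero, Scheme.basicOpen_zero]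

theorem exists_open_forall_finset {X : Scheme.{u}} {ι : Type*} (x : X) (F : Finset ι)
    (B : ι → X.Opens) (h : ∀ a ∈ F, ∃ N : X.Opens, x ∈ N ∧ N ⊓ B a = ⊥) :
    ∃ N : X.Opens, x ∈ N ∧ ∀ a ∈ F, N ⊓ B a = ⊥ := by
  classical
  induction F using Finset.induction_on with
  | empty => exact ⟨⊤, trivial, fun a ha => absurd ha (Finset.notMem_empty a)⟩
  | insert a F ha ih =>
    obtain ⟨N₁, hx₁, hN₁⟩ := ih (fun b hb => h b (Finset.mem_insert_of_mem hb))
    obtain ⟨N₂, hx₂, hN₂⟩ := h a (Finset.mem_insert_self a F)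
    refine ⟨N₁ ⊓ N₂, ⟨hx₁, hx₂⟩, ?_⟩
    intro b hb
    rcases Finset.mem_insert.mp hb with rfl | hb
    · exact le_bot_iff.mp ((inf_le_inf_right _ inf_le_right).trans hN₂.le)
    · exact le_bot_iff.mp ((inf_le_inf_right _ inf_le_left).trans (hN₁ b hb).le)

/-- A morphism to a locally noetherian scheme maps a neighbourhood of a point with field local
ring into any closed subset containing the image of the point. -/
theorem exists_open_map_subset_closed {X S₀ : Scheme.{u}} [IsLocallyNoetherian S₀] (g : X ⟶ S₀)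
    (x : X) (hx : IsField (X.presheaf.stalk x)) (A : Closeds S₀) (hA : g x ∈ (A : Set S₀)) :
    ∃ N : X.Opens, x ∈ N ∧ ∀ y ∈ N, g y ∈ (A : Set S₀) := by
  obtain ⟨_, ⟨O₂, hO₂, rfl⟩, hxO₂, -⟩ :=
    S₀.isBasis_affineOpens.exists_subset_of_mem_open (Set.mem_univ (g x)) isOpen_univ
  obtain ⟨O₂', hO₂'⟩ : ∃ O₂' : S₀.affineOpens, O₂'.1 = O₂ := ⟨⟨O₂, hO₂⟩, rfl⟩
  subst hO₂'
  haveI : IsNoetherianRing Γ(S₀, O₂'.1) := IsLocallyNoetherian.component_noetherian O₂'
  obtain ⟨F, hF⟩ : ((Scheme.IdealSheafData.vanishingIdeal A).ideal O₂').FG :=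
    IsNoetherian.noetherian _
  have hsupp : (Scheme.IdealSheafData.vanishingIdeal A).support = A := support_vanishingIdeal A
  have hgx : g x ∈ S₀.zeroLocus (U := O₂'.1)
      ((Scheme.IdealSheafData.vanishingIdeal A).ideal O₂') := by
    rw [← Scheme.IdealSheafData.mem_support_iff_of_mem (U := O₂') hxO₂, hsupp]; exact hA
  have hNa : ∀ a ∈ F, ∃ N : X.Opens, x ∈ N ∧ N ⊓ g ⁻¹ᵁ S₀.basicOpen a = ⊥ := by
    intro a haF
    have h1 : g x ∉ S₀.basicOpen a := by
      rw [Scheme.mem_zeroLocus_iff] at hgx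
      exact hgx a (hF ▸ Ideal.subset_span haF)
    rw [Scheme.preimage_basicOpen]
    exact exists_open_disjoint_basicOpen x hx (g ⁻¹ᵁ O₂'.1) hxO₂ _
      (by rw [← Scheme.preimage_basicOpen]; exact h1)
  obtain ⟨N, hxN, hN⟩ := exists_open_forall_finset x F (fun a => g ⁻¹ᵁ S₀.basicOpen a) hNa
  refine ⟨g ⁻¹ᵁ O₂'.1 ⊓ N, ⟨hxO₂, hxN⟩, ?_⟩
  rintro y ⟨hyO₂, hyN⟩
  have hy : g y ∈ (Scheme.IdealSheafData.vanishingIdeal A).support := by
    rw [Scheme.IdealSheafData.mem_support_iff_of_mem (U := O₂') hyO₂, ← hF, Scheme.zeroLocus_span,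
      Scheme.mem_zeroLocus_iff]
    intro a haF hya
    have : y ∈ N ⊓ g ⁻¹ᵁ S₀.basicOpen a := ⟨hyN, hya⟩
    rw [hN a haF] at this
    exact this
  rw [hsupp] at hy
  exact hy

/-- A morphism from a reduced scheme with range in a closed subset factors through the reduced
closed subscheme. -/
theorem exists_lift_vanishingIdeal {U S₀ : Scheme.{u}} [IsReduced U] (h : U ⟶ S₀)
    (A : Closeds S₀) (hA : ∀ y, h y ∈ (A : Set S₀)) :
    ∃ γ₀ : U ⟶ (Scheme.IdealSheafData.vanishingIdeal A).subscheme,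
      γ₀ ≫ (Scheme.IdealSheafData.vanishingIdeal A).subschemeι = h := by
  have hker : h.ker = Scheme.IdealSheafData.vanishingIdeal
      (Closeds.closure (h '' ((⊤ : Closeds U) : Set U))) := by
    rw [← Scheme.IdealSheafData.map_vanishingIdeal, Scheme.IdealSheafData.vanishingIdeal_top,
      Scheme.nilradical_eq_bot, Scheme.IdealSheafData.map_bot]
  have hle : (Scheme.IdealSheafData.vanishingIdeal A).subschemeι.ker ≤ h.ker := by
    rw [Scheme.IdealSheafData.ker_subschemeι, hker]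
    apply Scheme.IdealSheafData.vanishingIdeal_antimono
    rw [Closeds.closure_le]
    rintro _ ⟨y, -, rfl⟩
    exact hA y
  exact ⟨IsClosedImmersion.lift _ h hle, IsClosedImmersion.lift_fac _ _ _⟩

end Groth.Agent.Helper5.GNS
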