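import Groth.Agent.Helper5.GNSf
import Groth.Agent.S0590
import Groth.Agent.S0591
import Mathlib

set_option autoImplicit false
set_option linter.style.haveILetI false
universe u
open CategoryTheory CategoryTheory.Limits AlgebraicGeometry Opposite TopologicalSpace Topology

namespace Groth.Agent.Helper5.GNS
open Groth.Agent.Helper5.GSS

/-- Noetherian approximation of a morphism of finite presentation over a qcqs base. -/
theorem exists_noeth_model {X S : Scheme.{u}} (f : X ⟶ S) [LocallyOfFinitePresentation f]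
    [QuasiCompact f] [QuasiSeparated f] [CompactSpace ↑S] [QuasiSeparatedSpace ↑S] :
    ∃ (X₀ S₀ : Scheme.{u}) (f₀ : X₀ ⟶ S₀) (g' : X ⟶ X₀) (g : S ⟶ S₀),
      LocallyOfFinitePresentation f₀ ∧ QuasiCompact f₀ ∧ IsNoetherian S₀ ∧
      IsPullback g' f f₀ g := by
  obtain ⟨I, _, _, _, D, c, hc, haff, hD, ⟨e⟩⟩ := Groth.Agent.S0590.result S
  haveI : ∀ (i j : Iᵒᵖ) (f : i ⟶ j), IsAffineHom (D.map f) := haff
  haveI : ∀ i, CompactSpace (D.obj i) := fun i ↦ (hD i).1
  have hnoeth : ∀ i, IsNoetherian (D.obj i) := by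
    intro i
    haveI := (hD i).2
    haveI : IsNoetherianRing (ULift.{u} ℤ) :=
      isNoetherianRing_of_ringEquiv ℤ (ULift.ringEquiv : ULift.{u} ℤ ≃+* ℤ).symm
    haveI : IsLocallyNoetherian (Spec (CommRingCat.of (ULift.{u} ℤ))) := inferInstance
    haveI : IsLocallyNoetherian (D.obj i) :=
      LocallyOfFiniteType.isLocallyNoetherian (specULiftZIsTerminal.from (D.obj i))
    exact {}
  haveI hqs : ∀ i, QuasiSeparatedSpace (D.obj i) := fun i => by
    haveI := hnoeth i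
    infer_instance
  haveI : IsFiltered I := inferInstance
  obtain ⟨i, Xi, fi, gX, hfi1, hfi2, hfi3, hsq⟩ :=
    Groth.Agent.S0591.result D c hc X (f ≫ e.inv)
  refine ⟨Xi, D.obj i, fi, gX, e.inv ≫ c.π.app i, hfi1, hfi2, hnoeth i, ?_⟩
  have h1 : IsPullback (𝟙 X) f (f ≫ e.inv) e.inv :=
    IsPullback.of_horiz_isIso ⟨by rw [Category.id_comp]⟩
  have := h1.paste_horiz hsq
  rwa [Category.id_comp] at this

/-- Transport of the stratification along a base change of the base. -/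
theorem transport {X S X₀ S₀ Z₀ V₀ V : Scheme.{u}} (f : X ⟶ S) (w : V ⟶ S)
    (f₀ : X₀ ⟶ S₀) (ι₀ : Z₀ ⟶ S₀) (w₀ : V₀ ⟶ Z₀) (γ' : V ⟶ V₀) (gX : pullback f w ⟶ X₀)
    (sq : IsPullback gX (pullback.snd f w) f₀ (γ' ≫ w₀ ≫ ι₀))
    [IsLocallyNoetherian (pullback (pullback.snd f₀ ι₀) w₀)]
    (n : ℕ) (C : Fin (n + 1) → Closeds ↥(pullback f₀ ι₀ : Scheme.{u}))
    (hC : ∀ i : Fin n, C i.succ ≤ C i.castSucc) (hC0 : C 0 = ⊤) (hCl : C (Fin.last n) = ⊥)
    (hCs : ∀ i : Fin n, StrG (pullback.snd f₀ ι₀) w₀ (C i.castSucc) (C i.succ)) :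
    ∃ (J : Fin (n + 1) → (pullback f w).IdealSheafData), Monotone J ∧ J (Fin.last n) = ⊤ ∧
      ((J 0).support : Set ↑(pullback f w)) = Set.univ ∧
      (∀ i, ∀ O : (pullback f w).affineOpens, ((J i).ideal O).FG) ∧
      ∀ i : Fin n, Smooth (((J i.castSucc).subschemeι ⁻¹ᵁ (J i.succ).support.compl).ι ≫
        (J i.castSucc).subschemeι ≫ pullback.snd f w) := by
  have sqT : IsPullback (pullback.fst f₀ ι₀) (pullback.snd f₀ ι₀) f₀ ι₀ :=
    IsPullback.of_hasPullback _ _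
  have sqT' : IsPullback (pullback.fst (pullback.snd f₀ ι₀) w₀) (pullback.snd (pullback.snd f₀ ι₀) w₀)
      (pullback.snd f₀ ι₀) w₀ := IsPullback.of_hasPullback _ _
  have sq4 := sqT'.paste_horiz sqT
  obtain ⟨p, hp⟩ : ∃ p, p = sq4.lift gX (pullback.snd f w ≫ γ')
    (by rw [sq.w, Category.assoc]) := ⟨_, rfl⟩
  have hp1 : p ≫ pullback.fst (pullback.snd f₀ ι₀) w₀ ≫ pullback.fst f₀ ι₀ = gX := by
    rw [hp]; exact sq4.lift_fst _ _ _
  have hp2 : p ≫ pullback.snd (pullback.snd f₀ ι₀) w₀ = pullback.snd f w ≫ γ' := by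
    rw [hp]; exact sq4.lift_snd _ _ _
  have sqp : IsPullback p (pullback.snd f w) (pullback.snd (pullback.snd f₀ ι₀) w₀) γ' :=
    IsPullback.of_right (by rw [hp1]; exact sq) hp2 sq4
  refine ⟨fun i => (Scheme.IdealSheafData.vanishingIdeal
    (pre (pullback.fst (pullback.snd f₀ ι₀) w₀) (C i))).comap p, ?_, ?_, ?_, ?_, ?_⟩
  · rw [Fin.monotone_iff_le_succ]
    intro i
    apply Scheme.IdealSheafData.comap_mono
    apply Scheme.IdealSheafData.vanishingIdeal_antimono
    intro x hx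
    exact hC i hx
  · show (Scheme.IdealSheafData.vanishingIdeal
      (pre (pullback.fst (pullback.snd f₀ ι₀) w₀) (C (Fin.last n)))).comap p = ⊤
    rw [hCl]
    have h0 : pre (pullback.fst (pullback.snd f₀ ι₀) w₀) ⊥ = ⊥ := Closeds.ext rfl
    rw [h0, Scheme.IdealSheafData.vanishingIdeal_bot, Scheme.IdealSheafData.comap_top]
  · show (((Scheme.IdealSheafData.vanishingIdeal
      (pre (pullback.fst (pullback.snd f₀ ι₀) w₀) (C 0))).comap p).support :
        Set ↥(pullback f w : Scheme.{u})) = Set.univ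
    rw [Scheme.IdealSheafData.support_comap, support_vanishingIdeal, hC0]
    rfl
  · intro i O
    exact fg_comap _ p O
  · intro i
    exact smooth_comap_stratum (pullback.snd (pullback.snd f₀ ι₀) w₀) p (pullback.snd f w) γ' sqp
      _ _ (hCs i)

end Groth.Agent.Helper5.GNS
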