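import Groth.Agent.Helper5.GNSg
import Mathlib

set_option autoImplicit false
set_option linter.style.haveILetI false
universe u
open CategoryTheory CategoryTheory.Limits AlgebraicGeometry Opposite TopologicalSpace Topology

namespace Groth.Agent.Helper5.GNS
open Groth.Agent.Helper5.GSS

/-- The reduced closed subscheme on a closed subset, with its universal property. -/
theorem exists_reduced_closed {S₀ : Scheme.{u}} (A : Closeds S₀) :
    ∃ (Z₀ : Scheme.{u}) (ι₀ : Z₀ ⟶ S₀), IsClosedImmersion ι₀ ∧ IsReduced Z₀ ∧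
      Set.range ι₀ = (A : Set S₀) ∧
      ∀ (U : Scheme.{u}) [IsReduced U] (h : U ⟶ S₀), (∀ y, h y ∈ (A : Set S₀)) →
        ∃ γ₀ : U ⟶ Z₀, γ₀ ≫ ι₀ = h :=
  ⟨_, (Scheme.IdealSheafData.vanishingIdeal A).subschemeι, inferInstance, inferInstance,
    range_vanishingIdeal_subschemeι A, fun _ _ h hA => exists_lift_vanishingIdeal h A hA⟩

theorem main {X S : Scheme.{u}} (f : X ⟶ S) [LocallyOfFinitePresentation f] [QuasiCompact f]
    [QuasiSeparated f] [IsReduced S]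
    (η : S) (W : Set ↑S) (hW : W ∈ irreducibleComponents ↑S) (hη : IsGenericPoint η W) :
    ∃ (U : S.Opens) (V : Scheme.{u}) (v : V ⟶ (U : Scheme.{u})), η ∈ U ∧ Surjective v ∧
      UniversallyInjective v ∧ Mor2.IsFinLocFree v ∧
      ∃ (t : ℕ) (J : Fin (t + 1) → (pullback f (v ≫ U.ι)).IdealSheafData), Monotone J ∧
        J (Fin.last t) = ⊤ ∧
        ((J 0).support : Set ↑(pullback f (v ≫ U.ι))) = Set.univ ∧
        (∀ i, ∀ O : (pullback f (v ≫ U.ι)).affineOpens, ((J i).ideal O).FG) ∧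
        ∀ i : Fin t, Smooth (((J i.castSucc).subschemeι ⁻¹ᵁ (J i.succ).support.compl).ι ≫
          (J i.castSucc).subschemeι ≫ pullback.snd f (v ≫ U.ι)) := by
  -- Step 1: an affine neighbourhood and a noetherian model
  obtain ⟨U₀, hU₀', hηU₀⟩ : ∃ U₀ : S.Opens, IsAffineOpen U₀ ∧ η ∈ U₀ := by
    obtain ⟨_, ⟨U, hU, rfl⟩, h, -⟩ :=
      S.isBasis_affineOpens.exists_subset_of_mem_open (Set.mem_univ η) isOpen_univ
    exact ⟨U, hU, h⟩
  haveI : IsAffine U₀.toScheme := hU₀'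
  have sqB := (isPullback_morphismRestrict f U₀).flip
  haveI : LocallyOfFinitePresentation (f ∣_ U₀) := MorphismProperty.of_isPullback sqB inferInstance
  haveI : QuasiCompact (f ∣_ U₀) := MorphismProperty.of_isPullback sqB inferInstance
  haveI : QuasiSeparated (f ∣_ U₀) := MorphismProperty.of_isPullback sqB inferInstance
  obtain ⟨X₀, S₀, f₀, gX, g, hf₀1, hf₀2, hS₀, hsq⟩ := exists_noeth_model (f ∣_ U₀)
  haveI := hf₀1; haveI := hf₀2; haveI := hS₀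
  -- Step 2: the point and its closure
  obtain ⟨η₀, hη₀⟩ : ∃ η₀ : U₀.toScheme, U₀.ι η₀ = η := ⟨⟨η, hηU₀⟩, rfl⟩
  have hfield : IsField (U₀.toScheme.presheaf.stalk η₀) := by
    have h1 : IsField (S.presheaf.stalk (U₀.ι η₀)) := by
      rw [hη₀]
      exact isField_stalk_of_closure_mem_irreducibleComponents S η (by rw [hη.def]; exact hW)
    exact (asIso (U₀.ι.stalkMap η₀)).commRingCatIsoToRingEquiv.symm.isField h1
  obtain ⟨A, hA⟩ : ∃ A : Closeds S₀, (A : Set S₀) = closure {g η₀} :=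
    ⟨⟨_, isClosed_closure⟩, rfl⟩
  have hs₀A : g η₀ ∈ (A : Set S₀) := hA ▸ subset_closure rfl
  obtain ⟨N, hη₀N, hN⟩ := exists_open_map_subset_closed g η₀ hfield A hs₀A
  obtain ⟨Z₀, ι₀, hι₀cl, hZ₀red, hrange, hlift⟩ := exists_reduced_closed A
  haveI := hι₀cl; haveI := hZ₀red
  obtain ⟨z₀, hz₀⟩ : g η₀ ∈ Set.range ι₀ := hrange ▸ hs₀A
  have hz₀cl : closure {z₀} = Set.univ := by
    rw [ι₀.isClosedEmbedding.isInducing.closure_eq_preimage_closure_image, Set.image_singleton,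
      hz₀, ← hA, ← hrange]
    exact Set.preimage_range _
  haveI : IrreducibleSpace Z₀ := by
    have h1 : IsIrreducible (closure {z₀}) := isIrreducible_singleton.closure
    rw [hz₀cl] at h1
    exact (irreducibleSpace_def _).mpr h1
  haveI : IsIntegral Z₀ := isIntegral_of_irreducibleSpace_of_isReduced Z₀
  haveI : IsLocallyNoetherian Z₀ := LocallyOfFiniteType.isLocallyNoetherian ι₀
  haveI : CompactSpace Z₀ := QuasiCompact.compactSpace_of_compactSpace ι₀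
  haveI : IsNoetherian Z₀ := ⟨⟩
  -- Step 3: stratification over the noetherian integral base
  obtain ⟨U₁, V₀, v₀, hU₁ne, hV₀int, hv₀fin, hv₀fl, hv₀fp, hv₀surj, hv₀ui, n, C, hC, hC0, hCl,
    hCs⟩ := noethGen (pullback.snd f₀ ι₀)
  haveI := hv₀fin; haveI := hv₀fl; haveI := hv₀fp; haveI := hv₀surj; haveI := hv₀ui
  have hz₀U₁ : z₀ ∈ U₁ := by
    have hgen : IsGenericPoint z₀ Set.univ := hz₀cl
    exact (hgen.mem_open_set_iff U₁.isOpen).mpr (by rw [Set.univ_inter]; exact hU₁ne)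
  obtain ⟨O₁s, hO₁o, hO₁⟩ := ι₀.isClosedEmbedding.isInducing.isOpen_iff.mp U₁.isOpen
  obtain ⟨O₁, hO₁d⟩ : ∃ O₁ : S₀.Opens, (O₁ : Set S₀) = O₁s := ⟨⟨O₁s, hO₁o⟩, rfl⟩
  have hmemO₁ : ∀ z : Z₀, z ∈ U₁ ↔ ι₀ z ∈ O₁ := by
    intro z
    have : z ∈ ι₀ ⁻¹' O₁s ↔ z ∈ (U₁ : Set Z₀) := by rw [hO₁]
    rw [← SetLike.mem_coe, ← this, ← hO₁d]
    rfl
  have hs₀O₁ : g η₀ ∈ O₁ := by
    rw [← hz₀]; exact (hmemO₁ z₀).mp hz₀U₁
  -- Step 4: the open neighbourhood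
  obtain ⟨N', hN'⟩ : ∃ N' : U₀.toScheme.Opens, N' = N ⊓ g ⁻¹ᵁ O₁ := ⟨_, rfl⟩
  have hη₀N' : η₀ ∈ N' := hN' ▸ ⟨hη₀N, hs₀O₁⟩
  obtain ⟨U, hU⟩ : ∃ U : S.Opens, U = U₀.ι ''ᵁ N' := ⟨_, rfl⟩
  have hUle : U ≤ U₀ := by
    rw [hU]; rintro _ ⟨y, -, rfl⟩; exact y.2
  have hηU : η ∈ U := by
    rw [hU, ← hη₀]; exact ⟨η₀, hη₀N', rfl⟩
  obtain ⟨k, hk⟩ : ∃ k : U.toScheme ⟶ U₀.toScheme, k = S.homOfLE hUle := ⟨_, rfl⟩
  have hkι : k ≫ U₀.ι = U.ι := by rw [hk]; exact S.homOfLE_ι hUle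
  have hkN : ∀ y : U.toScheme, k y ∈ N' := by
    intro y
    have h1 : U.ι y ∈ U₀.ι ''ᵁ N' := hU ▸ y.2
    obtain ⟨y', hy', hyy'⟩ := h1
    have : k y = y' := U₀.ι.isOpenEmbedding.injective
      (by rw [← Scheme.Hom.comp_apply, hkι]; exact hyy'.symm)
    rw [this]; exact hy'
  haveI : IsReduced U.toScheme := isReduced_of_isOpenImmersion U.ι
  obtain ⟨γ₀, hγ₀⟩ := hlift U.toScheme (k ≫ g) (fun y => by
    rw [Scheme.Hom.comp_apply]
    have := hkN y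
    rw [hN'] at this
    exact hN _ this.1)
  have hγ₀U₁ : Set.range γ₀ ⊆ Set.range U₁.ι := by
    rw [Scheme.Opens.range_ι]
    rintro _ ⟨y, rfl⟩
    show γ₀ y ∈ U₁
    rw [hmemO₁, ← Scheme.Hom.comp_apply, hγ₀, Scheme.Hom.comp_apply]
    have := hkN y
    rw [hN'] at this
    exact this.2
  obtain ⟨γ, hγ⟩ : ∃ γ : U.toScheme ⟶ U₁.toScheme, γ ≫ U₁.ι = γ₀ :=
    ⟨IsOpenImmersion.lift U₁.ι γ₀ hγ₀U₁, IsOpenImmersion.lift_fac _ _ _⟩
  -- Step 5: the pullback square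
  have hcond : pullback.fst f (pullback.snd v₀ γ ≫ U.ι) ≫ f =
      (pullback.snd f (pullback.snd v₀ γ ≫ U.ι) ≫ pullback.snd v₀ γ ≫ k) ≫ U₀.ι := by
    rw [Category.assoc, Category.assoc, hkι]; exact pullback.condition
  obtain ⟨a, ha⟩ : ∃ a, a = sqB.lift _ _ hcond := ⟨_, rfl⟩
  have ha1 : a ≫ (f ⁻¹ᵁ U₀).ι = pullback.fst f (pullback.snd v₀ γ ≫ U.ι) := by
    rw [ha]; exact sqB.lift_fst _ _ _
  have ha2 : a ≫ (f ∣_ U₀) =
      pullback.snd f (pullback.snd v₀ γ ≫ U.ι) ≫ pullback.snd v₀ γ ≫ k := by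
    rw [ha]; exact sqB.lift_snd _ _ _
  have sqa : IsPullback a (pullback.snd f (pullback.snd v₀ γ ≫ U.ι)) (f ∣_ U₀)
      (pullback.snd v₀ γ ≫ k) := by
    refine IsPullback.of_right ?_ ha2 sqB
    rw [ha1, Category.assoc, hkι]
    exact IsPullback.of_hasPullback _ _
  have sq2 := sqa.paste_horiz hsq
  have heq : (pullback.snd v₀ γ ≫ k) ≫ g = pullback.fst v₀ γ ≫ (v₀ ≫ U₁.ι) ≫ ι₀ := by
    rw [Category.assoc, ← hγ₀, ← hγ, Category.assoc, ← Category.assoc (pullback.snd v₀ γ),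
      ← pullback.condition, Category.assoc, Category.assoc]
  rw [heq] at sq2
  -- Step 6: conclusion
  haveI : IsLocallyNoetherian U₁.toScheme := LocallyOfFiniteType.isLocallyNoetherian U₁.ι
  haveI : IsLocallyNoetherian V₀ := LocallyOfFiniteType.isLocallyNoetherian v₀
  haveI : IsLocallyNoetherian (pullback (pullback.snd f₀ ι₀) (v₀ ≫ U₁.ι)) :=
    LocallyOfFiniteType.isLocallyNoetherian (pullback.snd (pullback.snd f₀ ι₀) (v₀ ≫ U₁.ι))
  refine ⟨U, pullback v₀ γ, pullback.snd v₀ γ, hηU, inferInstance,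
    MorphismProperty.pullback_snd (P := @UniversallyInjective) _ _ hv₀ui,
    ⟨inferInstance, inferInstance, inferInstance⟩, n, ?_⟩
  exact transport f (pullback.snd v₀ γ ≫ U.ι) f₀ ι₀ (v₀ ≫ U₁.ι) (pullback.fst v₀ γ) (a ≫ gX) sq2
    n C hC hC0 hCl hCs

end Groth.Agent.Helper5.GNS
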