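import Groth.Agent.Helper5.GCntL
import Groth.Agent.S2501
import Mathlib

set_option autoImplicit false
set_option linter.style.haveILetI false
universe u
open CategoryTheory CategoryTheory.Limits AlgebraicGeometry Opposite TopologicalSpace Topology

namespace Groth.Agent.Helper5.GPC
open Groth.Agent.Helper5.GCnt

theorem isEmpty_geomFiber_iff {X Y : Scheme.{u}} (f : X ⟶ Y) (y : Y) :
    IsEmpty ↥(MoreMor.geomFiber f y) ↔ IsEmpty ↥(f.fiber y) := by
  constructor
  · intro h
    constructor
    intro z
    haveI : Subsingleton ↥(Spec (Y.residueField y)) := inferInstance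
    obtain ⟨w, -, -⟩ := Scheme.Pullback.exists_preimage_pullback
      (f := f.fiberToSpecResidueField y)
      (g := Spec.map (CommRingCat.ofHom (algebraMap (Y.residueField y)
        (SeparableClosure (Y.residueField y))))) z
      (Classical.arbitrary _) (Subsingleton.elim _ _)
    exact h.false w
  · intro h
    constructor
    intro w
    exact h.false ((pullback.fst (f.fiberToSpecResidueField y) _) w)

theorem nGeomConnComp_eq_zero_iff {X Y : Scheme.{u}} (f : X ⟶ Y) (y : Y) :
    MoreMor.nGeomConnComp f y = 0 ↔ IsEmpty ↥(f.fiber y) := by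
  rw [← isEmpty_geomFiber_iff]
  show ENat.card (_root_.ConnectedComponents ↥(MoreMor.geomFiber f y)) = 0 ↔ _
  rw [ENat.card_eq_zero_iff_empty]
  constructor
  · intro h
    exact ⟨fun w => h.false (ConnectedComponents.mk w)⟩
  · intro h
    constructor
    intro c
    obtain ⟨w, -⟩ := ConnectedComponents.surjective_coe c
    exact h.false w

theorem le_one_iff (n : ℕ∞) : n ≤ 1 ↔ n = 0 ∨ n = 1 := by
  constructor
  · intro h
    rcases lt_or_eq_of_le h with h | h
    · left; exact Order.lt_one_iff.mp h
    · right; exact h
  · rintro (h | h) <;> simp [h]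

variable {Ω : Type u} [Field Ω] [IsAlgClosed Ω] {Z : Scheme.{u}} (h : Z ⟶ Spec (CommRingCat.of Ω))

theorem count_le_one_of_preconnected [PreconnectedSpace Z] (pt : ↥(Spec (CommRingCat.of Ω))) :
    MoreMor.nGeomConnComp h pt ≤ 1 := by
  rw [le_one_iff]
  by_cases hZ : Nonempty Z
  · right
    haveI : ConnectedSpace Z := { toPreconnectedSpace := inferInstance, toNonempty := hZ }
    haveI : GeometricallyConnected h := Groth.Agent.S2501.result h
    rw [← geomConn_fiber_iff_count]
    exact MorphismProperty.pullback_snd (P := @GeometricallyConnected) _ _ inferInstance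
  · left
    rw [nGeomConnComp_eq_zero_iff]
    exact ⟨fun z => hZ ⟨(h.fiberι pt) z⟩⟩

omit [IsAlgClosed Ω] in
theorem preconnected_of_count_le_one (pt : ↥(Spec (CommRingCat.of Ω)))
    (hn : MoreMor.nGeomConnComp h pt ≤ 1) : PreconnectedSpace Z := by
  have hrange : Set.range (h.fiberι pt) = Set.univ := by
    rw [Scheme.Hom.range_fiberι]
    ext z
    simp only [Set.mem_preimage, Set.mem_singleton_iff, Set.mem_univ, iff_true]
    exact Subsingleton.elim _ _
  rw [le_one_iff] at hn
  rcases hn with hn | hn
  · rw [nGeomConnComp_eq_zero_iff] at hn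
    haveI : IsEmpty Z := by
      constructor
      intro z
      have : z ∈ Set.range (h.fiberι pt) := hrange ▸ Set.mem_univ z
      obtain ⟨w, -⟩ := this
      exact hn.false w
    infer_instance
  · rw [← geomConn_fiber_iff_count] at hn
    haveI := hn
    haveI : ConnectedSpace ↥(h.fiber pt) :=
      GeometricallyConnected.connectedSpace_of_subsingleton (f := h.fiberToSpecResidueField pt)
    have h1 : _root_.IsPreconnected (Set.range (h.fiberι pt)) :=
      isPreconnected_range (h.fiberι pt).continuous
    rw [hrange] at h1
    exact ⟨h1⟩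

end Groth.Agent.Helper5.GPC
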