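import Groth.Agent.Helper5.GPCa
import Groth.Agent.Helper2.ArtSch
import Mathlib

set_option autoImplicit false
set_option linter.style.haveILetI false
universe u
open CategoryTheory CategoryTheory.Limits AlgebraicGeometry Opposite TopologicalSpace Topology

namespace Groth.Agent.Helper5.GPC
open Groth.Agent.Helper5.GCnt Groth.Agent.Helper5.ConsLc Groth.Agent.Lead

theorem count_pullback {X Y : Scheme.{u}} (f : X ⟶ Y) {Ω : Type u} [Field Ω]
    (t : Spec (CommRingCat.of Ω) ⟶ Y) (pt : ↥(Spec (CommRingCat.of Ω))) :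
    MoreMor.nGeomConnComp (pullback.snd f t) pt = MoreMor.nGeomConnComp f (t pt) :=
  Groth.Agent.S1335.result f (pullback.snd f t) (pullback.fst f t) t
    (IsPullback.of_hasPullback f t) pt

theorem main {I : Type u} [SmallCategory I] [IsCofiltered I]
    (D : I ⥤ Scheme.{u}) (c : Limits.Cone D) (hc : Limits.IsLimit c)
    [∀ (i j : I) (a : i ⟶ j), IsAffineHom (D.map a)]
    [∀ i : I, AlgebraicGeometry.IsNoetherian (D.obj i)]
    (i₀ : I) {X₀ : Scheme.{u}} (f₀ : X₀ ⟶ D.obj i₀) [QuasiCompact f₀] [LocallyOfFiniteType f₀]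
    {X : Scheme.{u}} (f : X ⟶ c.pt) (q : X ⟶ X₀) (hX : IsPullback q f f₀ (c.π.app i₀))
    (hconn : ∀ (Ω : Type u) [Field Ω] [IsAlgClosed Ω] (t : Spec (CommRingCat.of Ω) ⟶ c.pt),
      PreconnectedSpace ↥(Limits.pullback f t)) :
    ∃ (i : I) (a : i ⟶ i₀), ∀ (Ω : Type u) [Field Ω] [IsAlgClosed Ω]
      (t : Spec (CommRingCat.of Ω) ⟶ D.obj i),
      PreconnectedSpace ↥(Limits.pullback f₀ (t ≫ D.map a)) := by
  haveI hA : ∀ {i j : I} (f : i ⟶ j), IsAffineHom (D.map f) := fun f => inferInstance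
  haveI : LocallyOfFinitePresentation f₀ := Groth.Agent.Helper2.ArtSch.lfp_of_lft_noeth f₀
  haveI : IsLocallyNoetherian X₀ := LocallyOfFiniteType.isLocallyNoetherian f₀
  haveI : QuasiSeparatedSpace X₀ := inferInstance
  haveI : QuasiSeparated f₀ := inferInstance
  obtain ⟨E, hEd⟩ : ∃ E : Set (D.obj i₀), E = {y | cnt f₀ y ∈ {p : ℕ∞ × ℕ∞ | p.2 ≤ 1}} := ⟨_, rfl⟩
  have hE : ProCons.IsIndConstructible E := by
    rw [hEd]
    exact ProConsLib.ind_of_isLocallyConstructible (isLocallyConstructible_cnt _ f₀)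
  have hmemE : ∀ y : D.obj i₀, y ∈ E ↔ MoreMor.nGeomConnComp f₀ y ≤ 1 := by
    intro y; rw [hEd]; rfl
  have hmem : ∀ s : c.pt, c.π.app i₀ s ∈ E := by
    intro s
    rw [hmemE, ← Groth.Agent.S1335.result f₀ f q (c.π.app i₀) hX s]
    -- a geometric point over `s`
    let Ω := AlgebraicClosure (c.pt.residueField s)
    let t : Spec (CommRingCat.of Ω) ⟶ c.pt :=
      Spec.map (CommRingCat.ofHom (algebraMap (c.pt.residueField s) Ω)) ≫
        c.pt.fromSpecResidueField s
    haveI := hconn Ω t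
    have pt : ↥(Spec (CommRingCat.of Ω)) := Classical.arbitrary _
    have h1 := count_le_one_of_preconnected (pullback.snd f t) pt
    rw [count_pullback] at h1
    have h2 : t pt = s := by
      have : t pt ∈ Set.range (c.pt.fromSpecResidueField s) := by
        rw [Scheme.Hom.comp_apply]; exact ⟨_, rfl⟩
      rw [Scheme.range_fromSpecResidueField] at this
      exact this
    rw [h2] at h1
    exact h1
  obtain ⟨j, φ, hj⟩ := exists_stage_forall_mem hc i₀ E hE hmem
  refine ⟨j, φ, ?_⟩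
  intro Ω _ _ t
  have pt : ↥(Spec (CommRingCat.of Ω)) := Classical.arbitrary _
  apply preconnected_of_count_le_one (pullback.snd f₀ (t ≫ D.map φ)) pt
  rw [count_pullback, Scheme.Hom.comp_apply, ← hmemE]
  exact hj _

end Groth.Agent.Helper5.GPC
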