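import Mathlib
import Groth.Prelude
import Groth.Agent.Helper5.SecNbK
import Groth.Agent.Helper5.SecCompH
import Groth.Agent.Helper5.SecCompC
import Groth.Agent.Helper5.SecCompA
import Groth.Agent.Helper5.GCntK
import Groth.Agent.Helper5.FibDpD
import Groth.Agent.Helper4.GeomConnSch

/-!
# GQSa: general lemmas on section components and geometric connectedness of fibres (towards S1453)
-/

set_option autoImplicit false
set_option linter.unusedSectionVars false
set_option linter.unusedVariables false
set_option linter.style.haveILetI false
universe u
open CategoryTheory CategoryTheory.Limits AlgebraicGeometry TopologicalSpace Topology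

namespace Groth.Agent.Helper5.GQS

/-- section components of a flat finitely presented morphism with geometrically reduced fibres
are open -/
theorem isOpen_sectionComponents {X Y : Scheme.{u}} (f : X ⟶ Y) (s : Y ⟶ X) (hs : s ≫ f = 𝟙 Y)
    [LocallyOfFinitePresentation f] [QuasiCompact f] [QuasiSeparated f] [Flat f]
    [GeometricallyReduced f] :
    IsOpen (MoreMor.sectionComponents f s) := by
  rw [← subset_interior_iff_isOpen]
  intro x hx
  exact Groth.Agent.Helper5.SecNb.s1327 f s hs (f x) inferInstance hx

/-- a geometrically connected fibre is connected as a subset -/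
theorem isConnected_fiber_of_geomConn {A B : Scheme.{u}} (h : A ⟶ B) (b : B)
    (hb : GeometricallyConnected (h.fiberToSpecResidueField b)) :
    _root_.IsConnected (h ⁻¹' {b}) := by
  haveI : Nonempty ↥(Spec (B.residueField b)) :=
    inferInstanceAs (Nonempty (PrimeSpectrum (B.residueField b)))
  haveI : Subsingleton ↥(Spec (B.residueField b)) :=
    inferInstanceAs (Subsingleton (PrimeSpectrum (B.residueField b)))
  haveI : ConnectedSpace ↥(h.fiber b) :=
    GeometricallyConnected.connectedSpace_of_subsingleton (f := h.fiberToSpecResidueField b)
  rw [← h.range_fiberι, ← Set.image_univ]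
  exact isConnected_univ.image _ (h.fiberι _).continuous.continuousOn

/-- a preconnected fibre with a rational point is geometrically connected -/
theorem geomConn_fiber_of_section {A B : Scheme.{u}} (h : A ⟶ B) (b : B)
    (t : Spec (B.residueField b) ⟶ A) (ht : t ≫ h = B.fromSpecResidueField b)
    (hconn : _root_.IsPreconnected (h ⁻¹' {b})) :
    GeometricallyConnected (h.fiberToSpecResidueField b) := by
  let g' : Spec (B.residueField b) ⟶ h.fiber b :=
    pullback.lift t (𝟙 _) (by rw [ht, Category.id_comp])
  have hg' : g' ≫ h.fiberToSpecResidueField b = 𝟙 _ := pullback.lift_snd _ _ _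
  haveI : Nonempty ↥(Spec (B.residueField b)) :=
    inferInstanceAs (Nonempty (PrimeSpectrum (B.residueField b)))
  haveI : PreconnectedSpace ↥(h.fiber b) := by
    haveI : PreconnectedSpace ↥(h ⁻¹' {b}) := isPreconnected_iff_preconnectedSpace.1 hconn
    exact (h.fiberHomeo b).symm.surjective.denseRange.preconnectedSpace
      (h.fiberHomeo b).symm.continuous
  haveI : ConnectedSpace ↥(h.fiber b) := ⟨⟨g' (Classical.arbitrary _)⟩⟩
  haveI : GeometricallyConnected (g' ≫ h.fiberToSpecResidueField b) :=
    Groth.Agent.Helper5.SecComp.geometricallyConnected_of_eq_id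
      (k := B.residueField b) hg'
  exact Groth.Agent.Helper4.GeomConnSch.geometricallyConnected_of_source
    (k := B.residueField b) g' (h.fiberToSpecResidueField b)

/-- preimage of a preconnected set under an open embedding covering it -/
theorem isPreconnected_preimage_of_isEmbedding {A B : Type*} [TopologicalSpace A]
    [TopologicalSpace B] {ι : A → B} (hι : IsInducing ι) {C : Set B}
    (hC : _root_.IsPreconnected C) (hCr : C ⊆ Set.range ι) : _root_.IsPreconnected (ι ⁻¹' C) := by
  rw [← hι.isPreconnected_image, Set.image_preimage_eq_inter_range,
    Set.inter_eq_left.2 hCr]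
  exact hC

end Groth.Agent.Helper5.GQS
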