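import Mathlib
import Groth.Prelude
import Groth.Agent.Helper5.GQSa

/-!
# GQSb: base change of a multisection along the finite cover and the double cover (towards S1453)
-/

set_option autoImplicit false
set_option linter.unusedSectionVars false
set_option linter.unusedVariables false
set_option linter.style.haveILetI false
universe u
open CategoryTheory CategoryTheory.Limits AlgebraicGeometry TopologicalSpace Topology

namespace Groth.Agent.Helper5.GQS

variable {X Y Z : Scheme.{u}} (f : X ⟶ Y) (g : Z ⟶ Y) (σ : Z ⟶ X) (hσ : σ ≫ f = g)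

/-- the tautological section of the base change of `f` along `g` given by a `Y`-morphism `σ` -/
noncomputable def sec : Z ⟶ pullback f g :=
  pullback.lift σ (𝟙 Z) (by rw [hσ, Category.id_comp])

@[reassoc (attr := simp)]
theorem sec_snd : sec f g σ hσ ≫ pullback.snd f g = 𝟙 Z := pullback.lift_snd _ _ _

@[reassoc (attr := simp)]
theorem sec_fst : sec f g σ hσ ≫ pullback.fst f g = σ := pullback.lift_fst _ _ _

variable {T : Scheme.{u}} (r : T ⟶ Z) (gT : T ⟶ Y) (hr : r ≫ g = gT)

/-- the projection between base changes -/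
noncomputable def piR : pullback f gT ⟶ pullback f g :=
  pullback.lift (pullback.fst f gT) (pullback.snd f gT ≫ r)
    (by rw [pullback.condition, Category.assoc, hr])

@[reassoc (attr := simp)]
theorem piR_fst : piR f g r gT hr ≫ pullback.fst f g = pullback.fst f gT :=
  pullback.lift_fst _ _ _

@[reassoc (attr := simp)]
theorem piR_snd : piR f g r gT hr ≫ pullback.snd f g = pullback.snd f gT ≫ r :=
  pullback.lift_snd _ _ _

theorem isPullback_piR :
    IsPullback (piR f g r gT hr) (pullback.snd f gT) (pullback.snd f g) r := by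
  subst hr
  refine IsPullback.of_right ?_ (piR_snd f g r _ rfl) (IsPullback.of_hasPullback f g)
  rw [piR_fst]
  exact IsPullback.of_hasPullback f (r ≫ g)

include hσ hr in
theorem comp_sigma : (r ≫ σ) ≫ f = gT := by rw [Category.assoc, hσ, hr]

theorem sec_piR :
    sec f gT (r ≫ σ) (comp_sigma f g σ hσ r gT hr) ≫ piR f g r gT hr = r ≫ sec f g σ hσ := by
  apply pullback.hom_ext
  · simp
  · simp

/-- the section components upstairs are the preimage of the section components downstairs -/
theorem sc_eq :
    MoreMor.sectionComponents (pullback.snd f gT)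
        (sec f gT (r ≫ σ) (comp_sigma f g σ hσ r gT hr)) =
      (piR f g r gT hr) ⁻¹' MoreMor.sectionComponents (pullback.snd f g) (sec f g σ hσ) :=
  Groth.Agent.Helper5.SecComp.s1324 (pullback.snd f g) (sec f g σ hσ) (sec_snd f g σ hσ)
    (pullback.snd f gT) (piR f g r gT hr) r (isPullback_piR f g r gT hr)
    (sec f gT (r ≫ σ) (comp_sigma f g σ hσ r gT hr)) (sec_snd f gT _ _)
    (sec_piR f g σ hσ r gT hr)

/-- two points of the base change with the same image in `X` come from a point of the base change
to the double cover -/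
theorem exists_triple (r₁ r₂ : T ⟶ Z) (hpb : IsPullback r₁ r₂ g g) (gT : T ⟶ Y)
    (hr₁ : r₁ ≫ g = gT) (hr₂ : r₂ ≫ g = gT) (ξ ξ' : ↥(pullback f g))
    (h : pullback.fst f g ξ = pullback.fst f g ξ') :
    ∃ ζ : ↥(pullback f gT), piR f g r₁ gT hr₁ ζ = ξ ∧ piR f g r₂ gT hr₂ ζ = ξ' := by
  obtain ⟨t, ht1, ht2⟩ := Scheme.Pullback.exists_preimage_pullback ξ ξ' h
  set a := pullback.fst (pullback.fst f g) (pullback.fst f g) with ha
  set b := pullback.snd (pullback.fst f g) (pullback.fst f g) with hb
  have hab : a ≫ pullback.fst f g = b ≫ pullback.fst f g := pullback.condition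
  have hc1 : (a ≫ pullback.snd f g) ≫ g = (b ≫ pullback.snd f g) ≫ g := by
    rw [Category.assoc, Category.assoc, ← pullback.condition, reassoc_of% hab]
  let w : pullback (pullback.fst f g) (pullback.fst f g) ⟶ T :=
    hpb.lift (a ≫ pullback.snd f g) (b ≫ pullback.snd f g) hc1
  have hw1 : w ≫ r₁ = a ≫ pullback.snd f g := hpb.lift_fst _ _ _
  have hw2 : w ≫ r₂ = b ≫ pullback.snd f g := hpb.lift_snd _ _ _
  have hc2 : (a ≫ pullback.fst f g) ≫ f = w ≫ gT := by
    rw [← hr₁, reassoc_of% hw1, Category.assoc, pullback.condition]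
  let m : pullback (pullback.fst f g) (pullback.fst f g) ⟶ pullback f gT :=
    pullback.lift (a ≫ pullback.fst f g) w hc2
  have hm1 : m ≫ piR f g r₁ gT hr₁ = a := by
    apply pullback.hom_ext
    · rw [Category.assoc, piR_fst]; exact pullback.lift_fst _ _ _
    · rw [Category.assoc, piR_snd, ← hw1]
      exact (pullback.lift_snd_assoc _ _ _ _)
  have hm2 : m ≫ piR f g r₂ gT hr₂ = b := by
    apply pullback.hom_ext
    · rw [Category.assoc, piR_fst, ← hab]; exact pullback.lift_fst _ _ _
    · rw [Category.assoc, piR_snd, ← hw2]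
      exact (pullback.lift_snd_assoc _ _ _ _)
  refine ⟨m t, ?_, ?_⟩
  · rw [← Scheme.Hom.comp_apply, hm1]; exact ht1
  · rw [← Scheme.Hom.comp_apply, hm2]; exact ht2

end Groth.Agent.Helper5.GQS
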