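import Mathlib
import Groth.Prelude
import Groth.Agent.Helper5.GQSb

/-!
# GQSc: a quasi-compact open neighbourhood of a geometrically connected fibre with geometrically
connected fibres, given a finite locally free multisection (S1453)
-/

set_option autoImplicit false
set_option linter.unusedSectionVars false
set_option linter.unusedVariables false
set_option linter.style.haveILetI false
universe u
open CategoryTheory CategoryTheory.Limits AlgebraicGeometry TopologicalSpace Topology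

namespace Groth.Agent.Helper5.GQS

set_option maxHeartbeats 1600000 in
theorem main {X Y Z : Scheme.{u}} (f : X ⟶ Y) [Flat f] [LocallyOfFinitePresentation f]
    [QuasiCompact f] [QuasiSeparated f] [GeometricallyReduced f] (g : Z ⟶ Y)
    (hg : Mor2.IsFinLocFree g) (σ : Z ⟶ X) (hσ : σ ≫ f = g) (y : Y) (hZy : y ∈ Set.range ⇑g)
    (hXy : GeometricallyConnected (f.fiberToSpecResidueField y)) :
    ∃ U : X.Opens, IsCompact (U : Set ↑X) ∧ f ⁻¹' {y} ⊆ (U : Set ↑X) ∧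
      ∀ y' : Y, (∃ x ∈ U, f x = y') →
        GeometricallyConnected ((U.ι ≫ f).fiberToSpecResidueField y') := by
  obtain ⟨hgfin, hgflat, hglfp⟩ := hg
  haveI := hgfin
  haveI := hgflat
  haveI := hglfp
  obtain ⟨p, hp⟩ : ∃ p : pullback f g ⟶ X, p = pullback.fst f g := ⟨_, rfl⟩
  obtain ⟨q, hq⟩ : ∃ q : pullback f g ⟶ Z, q = pullback.snd f g := ⟨_, rfl⟩
  obtain ⟨sZ, hsZ⟩ : ∃ sZ : Z ⟶ pullback f g, sZ = sec f g σ hσ := ⟨_, rfl⟩
  have hsq : sZ ≫ q = 𝟙 Z := by rw [hsZ, hq]; exact sec_snd f g σ hσ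
  have hpq : p ≫ f = q ≫ g := by rw [hp, hq]; exact pullback.condition
  haveI : Flat q := by rw [hq]; infer_instance
  haveI : LocallyOfFinitePresentation q := by rw [hq]; infer_instance
  haveI : QuasiCompact q := by rw [hq]; infer_instance
  haveI : QuasiSeparated q := by rw [hq]; infer_instance
  haveI : GeometricallyReduced q := by rw [hq]; infer_instance
  haveI : Flat p := by rw [hp]; infer_instance
  haveI : LocallyOfFinitePresentation p := by rw [hp]; infer_instance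
  have hsqa : ∀ z : Z, q (sZ z) = z := by
    intro z
    rw [← Scheme.Hom.comp_apply, hsq]; rfl
  obtain ⟨SC, hSC⟩ : ∃ SC : Set ↥(pullback f g), SC = MoreMor.sectionComponents q sZ := ⟨_, rfl⟩
  have hSCo : IsOpen SC := by rw [hSC]; exact isOpen_sectionComponents q sZ hsq
  have hSClc : IsLocallyConstructible SC := by
    rw [hSC]; exact Groth.Agent.Helper5.SecComp.s1326 q sZ hsq
  have hmemSC : ∀ (ξ : ↥(pullback f g)) (z : Z), q ξ = z →
      (ξ ∈ SC ↔ ξ ∈ connectedComponentIn (q ⁻¹' {z}) (sZ z)) := by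
    intro ξ z hz
    rw [hSC]
    exact Groth.Agent.Helper5.SecNb.mem_sectionComponents_iff q sZ hz
  -- the double cover
  obtain ⟨r₁, hr₁d⟩ : ∃ r₁ : pullback g g ⟶ Z, r₁ = pullback.fst g g := ⟨_, rfl⟩
  obtain ⟨r₂, hr₂d⟩ : ∃ r₂ : pullback g g ⟶ Z, r₂ = pullback.snd g g := ⟨_, rfl⟩
  have hpb : IsPullback r₁ r₂ g g := by rw [hr₁d, hr₂d]; exact IsPullback.of_hasPullback g g
  obtain ⟨gT, hgT⟩ : ∃ gT : pullback g g ⟶ Y, gT = r₁ ≫ g := ⟨_, rfl⟩
  have hr₁ : r₁ ≫ g = gT := hgT.symm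
  have hr₂ : r₂ ≫ g = gT := by rw [hgT]; exact hpb.w.symm
  haveI : IsFinite r₁ := by rw [hr₁d]; infer_instance
  haveI : IsFinite gT := by rw [hgT]; infer_instance
  obtain ⟨q₂, hq₂⟩ : ∃ q₂ : pullback f gT ⟶ pullback g g, q₂ = pullback.snd f gT := ⟨_, rfl⟩
  obtain ⟨s₁, hs₁⟩ : ∃ s₁ : pullback g g ⟶ pullback f gT,
    s₁ = sec f gT (r₁ ≫ σ) (comp_sigma f g σ hσ r₁ gT hr₁) := ⟨_, rfl⟩
  obtain ⟨s₂, hs₂⟩ : ∃ s₂ : pullback g g ⟶ pullback f gT,
    s₂ = sec f gT (r₂ ≫ σ) (comp_sigma f g σ hσ r₂ gT hr₂) := ⟨_, rfl⟩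
  have hs₁q : ∀ w, q₂ (s₁ w) = w := by
    intro w
    rw [← Scheme.Hom.comp_apply, hs₁, hq₂, sec_snd]; rfl
  have hs₂q : ∀ w, q₂ (s₂ w) = w := by
    intro w
    rw [← Scheme.Hom.comp_apply, hs₂, hq₂, sec_snd]; rfl
  obtain ⟨π₁, hπ₁⟩ : ∃ π₁ : pullback f gT ⟶ pullback f g, π₁ = piR f g r₁ gT hr₁ := ⟨_, rfl⟩
  obtain ⟨π₂, hπ₂⟩ : ∃ π₂ : pullback f gT ⟶ pullback f g, π₂ = piR f g r₂ gT hr₂ := ⟨_, rfl⟩
  have hsc₁ : MoreMor.sectionComponents q₂ s₁ = π₁ ⁻¹' SC := by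
    rw [hq₂, hs₁, hπ₁, hSC, hq, hsZ]
    exact sc_eq f g σ hσ r₁ gT hr₁
  have hsc₂ : MoreMor.sectionComponents q₂ s₂ = π₂ ⁻¹' SC := by
    rw [hq₂, hs₂, hπ₂, hSC, hq, hsZ]
    exact sc_eq f g σ hσ r₂ gT hr₂
  have hπ₁q : ∀ ζ, q (π₁ ζ) = r₁ (q₂ ζ) := by
    intro ζ
    rw [← Scheme.Hom.comp_apply, ← Scheme.Hom.comp_apply, hq, hπ₁, hq₂, piR_snd]
  -- connectedness of the fibres over `y`
  have hfib : ∀ {T : Scheme.{u}} (gT' : T ⟶ Y) (t : T), gT' t = y →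
      _root_.IsConnected ((pullback.snd f gT') ⁻¹' {t}) := by
    intro T gT' t ht
    apply isConnected_fiber_of_geomConn
    rw [Groth.Agent.Helper5.GCnt.geomConn_fiber_iff (IsPullback.of_hasPullback f gT') t, ht]
    exact hXy
  obtain ⟨B, hB⟩ : ∃ B : Set ↥(pullback g g), B = s₂ ⁻¹' (MoreMor.sectionComponents q₂ s₁) :=
    ⟨_, rfl⟩
  have hBo : IsOpen B := by
    rw [hB, hsc₁]
    exact (hSCo.preimage π₁.continuous).preimage s₂.continuous
  have hBy : gT ⁻¹' {y} ⊆ B := by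
    intro w hw
    have hconn := hfib gT w hw
    rw [← hq₂] at hconn
    rw [hB]
    show s₂ w ∈ MoreMor.sectionComponents q₂ s₁
    rw [Groth.Agent.Helper5.SecNb.mem_sectionComponents_iff q₂ s₁ (hs₂q w),
      hconn.isPreconnected.connectedComponentIn (hs₁q w)]
    exact hs₂q w
  have hcl : IsClosed (gT '' Bᶜ) := gT.isClosedMap _ hBo.isClosed_compl
  obtain ⟨W, hW⟩ : ∃ W : Set Y, W = (gT '' Bᶜ)ᶜ := ⟨_, rfl⟩
  have hWo : IsOpen W := by rw [hW]; exact hcl.isOpen_compl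
  have hyW : y ∈ W := by
    rw [hW]
    rintro ⟨w, hwB, hw⟩
    exact hwB (hBy hw)
  -- the key claim
  have hclaim : ∀ η ξ' : ↥(pullback f g), g (q η) ∈ W → ξ' ∈ SC → p η = p ξ' → η ∈ SC := by
    intro η ξ' hηW hξ' hpp
    rw [hp] at hpp
    obtain ⟨ζ, hζ1, hζ2⟩ := exists_triple f g r₁ r₂ hpb gT hr₁ hr₂ η ξ' hpp
    rw [← hπ₁] at hζ1
    rw [← hπ₂] at hζ2
    obtain ⟨w, hw⟩ : ∃ w, w = q₂ ζ := ⟨_, rfl⟩
    have hwB : w ∈ B := by
      by_contra hnB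
      rw [hW] at hηW
      apply hηW
      refine ⟨w, hnB, ?_⟩
      rw [hgT, Scheme.Hom.comp_apply, hw, ← hπ₁q, hζ1]
    have h1 : ζ ∈ MoreMor.sectionComponents q₂ s₂ := by
      rw [hsc₂]
      show π₂ ζ ∈ SC
      rw [hζ2]; exact hξ'
    have h2 : s₂ w ∈ MoreMor.sectionComponents q₂ s₁ := by
      rw [hB] at hwB
      exact hwB
    have h3 : ζ ∈ MoreMor.sectionComponents q₂ s₁ := by
      rw [Groth.Agent.Helper5.SecNb.mem_sectionComponents_iff q₂ s₁ hw.symm]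
      rw [Groth.Agent.Helper5.SecNb.mem_sectionComponents_iff q₂ s₂ hw.symm] at h1
      rw [Groth.Agent.Helper5.SecNb.mem_sectionComponents_iff q₂ s₁ (hs₂q w)] at h2
      rw [connectedComponentIn_eq h2]
      exact h1
    rw [hsc₁] at h3
    have h4 : π₁ ζ ∈ SC := h3
    rwa [hζ1] at h4
  -- an affine neighbourhood
  obtain ⟨_, ⟨W', hW'aff, rfl⟩, hyW', hW'W⟩ :=
    Y.isBasis_affineOpens.exists_subset_of_mem_open hyW hWo
  obtain ⟨K, hK⟩ : ∃ K : (pullback f g).Opens, K = q ⁻¹ᵁ (g ⁻¹ᵁ W') := ⟨_, rfl⟩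
  have hKc : IsCompact (K : Set ↥(pullback f g)) := by
    have h1 : IsCompact ((g ⁻¹ᵁ W' : Z.Opens) : Set Z) := (hW'aff.preimage g).isCompact
    rw [hK]
    exact QuasiCompact.isCompact_preimage (f := q) _ (g ⁻¹ᵁ W').isOpen h1
  have hmemK : ∀ ξ : ↥(pullback f g), ξ ∈ K ↔ g (q ξ) ∈ W' := by
    intro ξ
    rw [hK]; rfl
  have hSK : IsCompact (SC ∩ (K : Set ↥(pullback f g))) :=
    Groth.Agent.Helper5.FibDp.isRetrocompact_of_isLocallyConstructible SC hSClc hKc K.isOpen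
  have hpo : IsOpenMap p := p.isOpenMap
  obtain ⟨U, hU⟩ : ∃ U : X.Opens, (U : Set X) = p '' (SC ∩ (K : Set ↥(pullback f g))) :=
    ⟨⟨_, hpo _ (hSCo.inter K.isOpen)⟩, rfl⟩
  refine ⟨U, ?_, ?_, ?_⟩
  · rw [hU]; exact hSK.image p.continuous
  · intro x hx
    obtain ⟨z, hz⟩ := hZy
    have hx' : f x = g z := by rw [hz]; exact hx
    obtain ⟨ξ, hξ1, hξ2⟩ := Scheme.Pullback.exists_preimage_pullback x z hx'
    rw [← hp] at hξ1
    rw [← hq] at hξ2
    rw [hU]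
    refine ⟨ξ, ⟨?_, ?_⟩, hξ1⟩
    · have hconn := hfib g z hz
      rw [← hq] at hconn
      rw [hmemSC ξ z hξ2, hconn.isPreconnected.connectedComponentIn (hsqa z)]
      exact hξ2
    · show ξ ∈ K
      rw [hmemK, hξ2, hz]; exact hyW'
  · rintro y' ⟨x, hxU, rfl⟩
    have hxU' : x ∈ (U : Set X) := hxU
    rw [hU] at hxU'
    obtain ⟨ξ, ⟨hξSC, hξK⟩, rfl⟩ := hxU'
    obtain ⟨z, hz⟩ : ∃ z, z = q ξ := ⟨_, rfl⟩
    have hgz : g z = f (p ξ) := by
      rw [hz, ← Scheme.Hom.comp_apply, ← Scheme.Hom.comp_apply, hpq]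
    have hzW' : g z ∈ W' := by rw [hz]; exact (hmemK ξ).1 hξK
    rw [← hgz]
    have hc : IsPullback (p ∣_ U) ((p ⁻¹ᵁ U).ι ≫ q) (U.ι ≫ f) g := by
      have h2 : IsPullback p q f g := by rw [hp, hq]; exact IsPullback.of_hasPullback f g
      exact (isPullback_morphismRestrict p U).paste_vert h2
    rw [← Groth.Agent.Helper5.GCnt.geomConn_fiber_iff hc z]
    -- the fibre of `p ⁻¹ᵁ U` over `z`
    have hfibre : ∀ η : ↥(pullback f g), q η = z →
        (η ∈ p ⁻¹ᵁ U ↔ η ∈ connectedComponentIn (q ⁻¹' {z}) (sZ z)) := by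
      intro η hη
      constructor
      · intro hηU
        have hηU' : p η ∈ (U : Set X) := hηU
        rw [hU] at hηU'
        obtain ⟨ξ', ⟨hξ'SC, -⟩, hξ'⟩ := hηU'
        have h5 : η ∈ SC := hclaim η ξ' (hW'W (by rw [hη]; exact hzW')) hξ'SC hξ'.symm
        exact (hmemSC η z hη).1 h5
      · intro hηC
        have h5 : η ∈ SC := (hmemSC η z hη).2 hηC
        show p η ∈ (U : Set X)
        rw [hU]
        exact ⟨η, ⟨h5, (hmemK η).2 (by rw [hη]; exact hzW')⟩, rfl⟩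
    have hsZU : sZ z ∈ p ⁻¹ᵁ U :=
      (hfibre (sZ z) (hsqa z)).2 (mem_connectedComponentIn (hsqa z))
    have hrange : Set.range ⇑(Z.fromSpecResidueField z ≫ sZ) ⊆ Set.range ⇑(p ⁻¹ᵁ U).ι := by
      rintro _ ⟨a, rfl⟩
      rw [Scheme.Hom.comp_apply, Scheme.fromSpecResidueField_apply, Scheme.Opens.range_ι]
      exact hsZU
    refine geomConn_fiber_of_section ((p ⁻¹ᵁ U).ι ≫ q) z
      (IsOpenImmersion.lift (p ⁻¹ᵁ U).ι (Z.fromSpecResidueField z ≫ sZ) hrange) ?_ ?_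
    · rw [← Category.assoc, IsOpenImmersion.lift_fac, Category.assoc, hsq, Category.comp_id]
    · have hset : ((p ⁻¹ᵁ U).ι ≫ q) ⁻¹' {z} =
          (p ⁻¹ᵁ U).ι ⁻¹' (connectedComponentIn (q ⁻¹' {z}) (sZ z)) := by
        ext η'
        constructor
        · intro hη'
          have h6 : q ((p ⁻¹ᵁ U).ι η') = z := hη'
          exact (hfibre _ h6).1 η'.2
        · intro hη'
          have h6 : (p ⁻¹ᵁ U).ι η' ∈ q ⁻¹' {z} := connectedComponentIn_subset _ _ hη'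
          exact h6
      rw [hset]
      refine isPreconnected_preimage_of_isEmbedding (p ⁻¹ᵁ U).ι.isEmbedding.isInducing
        isPreconnected_connectedComponentIn ?_
      intro η hη
      rw [Scheme.Opens.range_ι]
      have h6 : η ∈ q ⁻¹' {z} := connectedComponentIn_subset _ _ hη
      exact (hfibre η h6).2 hη

end Groth.Agent.Helper5.GQS
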