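import Mathlib
import Groth.Prelude
import Groth.Agent.Helper5.GQSc
import Groth.Agent.Helper5.GCIa
import Groth.Agent.Helper5.GenDim1
import Groth.Agent.Helper3.GeomRedSm
import Groth.Agent.Helper2.RegCM
import Groth.Agent.Lead.SmOmegaB

/-!
# GQSd: general lemmas towards S1356 (étale-local geometrically connected neighbourhoods)
-/

set_option autoImplicit false
set_option linter.unusedSectionVars false
set_option linter.unusedVariables false
set_option linter.style.haveILetI false
universe u
open CategoryTheory CategoryTheory.Limits AlgebraicGeometry TopologicalSpace Topology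

namespace Groth.Agent.Helper5.GQS

/-- geometric connectedness of a fibre only depends on an open neighbourhood of the fibre -/
theorem geomConn_fiber_iff_of_isOpenImmersion {X₁ X₂ B : Scheme.{u}} (a : X₁ ⟶ X₂)
    [IsOpenImmersion a] (f₂ : X₂ ⟶ B) (f₁ : X₁ ⟶ B) (hf : a ≫ f₂ = f₁) (b : B)
    (hrange : f₂ ⁻¹' {b} ⊆ Set.range a) :
    GeometricallyConnected (f₁.fiberToSpecResidueField b) ↔
      GeometricallyConnected (f₂.fiberToSpecResidueField b) := by
  subst hf
  let m : (a ≫ f₂).fiber b ⟶ f₂.fiber b :=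
    pullback.lift ((a ≫ f₂).fiberι b ≫ a) ((a ≫ f₂).fiberToSpecResidueField b)
      (by rw [Category.assoc]; exact pullback.condition)
  have hm1 : m ≫ f₂.fiberι b = (a ≫ f₂).fiberι b ≫ a := pullback.lift_fst _ _ _
  have hm2 : m ≫ f₂.fiberToSpecResidueField b = (a ≫ f₂).fiberToSpecResidueField b :=
    pullback.lift_snd _ _ _
  have sq : IsPullback m ((a ≫ f₂).fiberι b) (f₂.fiberι b) a := by
    have hm2' : m ≫ pullback.snd f₂ (B.fromSpecResidueField b) =
        pullback.snd (a ≫ f₂) (B.fromSpecResidueField b) := pullback.lift_snd _ _ _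
    refine IsPullback.of_right ?_ hm1 (IsPullback.of_hasPullback f₂ (B.fromSpecResidueField b)).flip
    rw [hm2']
    exact (IsPullback.of_hasPullback (a ≫ f₂) (B.fromSpecResidueField b)).flip
  haveI : IsOpenImmersion m := MorphismProperty.of_isPullback sq.flip inferInstance
  haveI : Surjective m := by
    refine ⟨fun z => ?_⟩
    have hz : f₂.fiberι b z ∈ f₂ ⁻¹' {b} := by
      rw [← f₂.range_fiberι b]; exact ⟨z, rfl⟩
    obtain ⟨x₁, hx₁⟩ := hrange hz
    obtain ⟨w, hw1, hw2⟩ := Scheme.Pullback.exists_preimage_pullback (f := f₂.fiberι b) (g := a)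
      z x₁ hx₁.symm
    refine ⟨sq.isoPullback.inv w, ?_⟩
    rw [← Scheme.Hom.comp_apply, sq.isoPullback_inv_fst]
    exact hw1
  haveI : IsIso m := (isIso_iff_isOpenImmersion_and_surjective m).2 ⟨inferInstance, inferInstance⟩
  rw [← hm2]
  exact MorphismProperty.cancel_left_of_respectsIso @GeometricallyConnected m _

/-- restriction of an elementary étale neighbourhood to an open neighbourhood of the point -/
theorem isEtaleNbhd_restrict {U S : Scheme.{u}} {g : U ⟶ S} {u : U} {s : S}
    (hg : Hens2.IsEtaleNbhd g u s) (W : U.Opens) (hu : u ∈ W) :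
    Hens2.IsEtaleNbhd (W.ι ≫ g) (⟨u, hu⟩ : ↥W) s := by
  haveI := hg.etale
  refine ⟨inferInstance, ?_, ?_⟩
  · show g.base (W.ι ⟨u, hu⟩) = s
    exact hg.base_eq
  · rw [Scheme.residueFieldMap_comp]
    have h1 : Function.Bijective (g.residueFieldMap (W.ι ⟨u, hu⟩)) := hg.residue_bijective
    have h2 : Function.Bijective (W.ι.residueFieldMap ⟨u, hu⟩) :=
      ConcreteCategory.bijective_of_isIso _
    exact h2.comp h1

/-- a morphism which is flat and whose fibre is smooth at a closed point of the fibre is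
Cohen–Macaulay there, and the point is closed in its fibre -/
theorem isCMAt_of_smooth_fiber_point {Y S : Scheme.{u}} (h : Y ⟶ S) [Flat h]
    [LocallyOfFinitePresentation h] (s : S) (t₀ : ↥(h.fiber s))
    (hz : t₀ ∈ (h.fiberToSpecResidueField s).smoothLocus)
    (hcl : IsClosed ({t₀} : Set ↥(h.fiber s))) :
    MoreMor.IsCMAt h (h.fiberι s t₀) ∧
      IsClosed ({h.asFiber (h.fiberι s t₀)} : Set ↥(h.fiber (h (h.fiberι s t₀)))) := by
  obtain ⟨t, ht⟩ : ∃ t : Y, t = h.fiberι s t₀ := ⟨_, rfl⟩
  have hs : h t = s := by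
    have h0 : t ∈ h ⁻¹' {s} := by
      rw [← h.range_fiberι s, ht]; exact ⟨t₀, rfl⟩
    exact h0
  rw [← ht]
  subst hs
  have ht₀ : t₀ = h.asFiber t := by
    apply (h.fiberι (h t)).isEmbedding.injective
    rw [← ht, h.fiberι_asFiber]
  subst ht₀
  refine ⟨⟨Flat.stalkMap h t, ?_⟩, hcl⟩
  haveI : LocallyOfFinitePresentation (h.fiberToSpecResidueField (h t)) :=
    inferInstanceAs (LocallyOfFinitePresentation (pullback.snd h (S.fromSpecResidueField (h t))))
  haveI hreg : IsRegularLocalRing ((h.fiber (h t)).presheaf.stalk (h.asFiber t)) :=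
    Groth.Agent.Lead.SmOmegaB.regular_stalk_of_mem_smoothLocus (S.residueField (h t))
      (h.fiber (h t)) (h.fiberToSpecResidueField (h t)) (h.asFiber t) hz
  exact { supportDim_eq_depth := Groth.Agent.Helper2.RegCM.cm_of_isRegularLocalRing _ }

/-- a nonempty open of a geometrically reduced fibre contains a closed point of the fibre at
which the fibre is smooth -/
theorem exists_closed_smooth_point {Y S : Scheme.{u}} (h : Y ⟶ S) [LocallyOfFinitePresentation h]
    [GeometricallyReduced h] (s : S) (T : (h.fiber s).Opens) (hT : (T : Set ↥(h.fiber s)).Nonempty) :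
    ∃ t₀ : ↥(h.fiber s), t₀ ∈ T ∧ t₀ ∈ (h.fiberToSpecResidueField s).smoothLocus ∧
      IsClosed ({t₀} : Set ↥(h.fiber s)) := by
  haveI : LocallyOfFinitePresentation (h.fiberToSpecResidueField s) :=
    inferInstanceAs (LocallyOfFinitePresentation (pullback.snd h (S.fromSpecResidueField s)))
  have hd : Dense ((h.fiberToSpecResidueField s).smoothLocus : Set ↥(h.fiber s)) :=
    Groth.Agent.Helper3.GeomRedSm.dense_smoothLocus (S.residueField s)
      (h.fiberToSpecResidueField s)
  have hne : ((T : Set ↥(h.fiber s)) ∩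
      ((h.fiberToSpecResidueField s).smoothLocus : Set ↥(h.fiber s))).Nonempty :=
    hd.inter_open_nonempty _ T.isOpen hT
  have hlc : IsLocallyClosed ((T : Set ↥(h.fiber s)) ∩
      ((h.fiberToSpecResidueField s).smoothLocus : Set ↥(h.fiber s))) :=
    (T.isOpen.inter (h.fiberToSpecResidueField s).smoothLocus.isOpen).isLocallyClosed
  obtain ⟨t₀, ⟨h1, h2⟩, h3⟩ :=
    (jacobsonSpace_iff_locallyClosed.1 (inferInstance : JacobsonSpace ↥(h.fiber s))) _ hne hlc
  exact ⟨t₀, h1, h2, h3⟩

/-- subsets of a fibre of a quasi-compact morphism locally of finite type are quasi-compact -/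
theorem isCompact_of_subset_fiber {X B : Scheme.{u}} (f : X ⟶ B) [LocallyOfFiniteType f]
    [QuasiCompact f] (b : B) (A : Set X) (hA : A ⊆ f ⁻¹' {b}) : IsCompact A := by
  haveI : IsLocallyNoetherian (f.fiber b) :=
    Groth.Agent.Helper5.GenDim.isLocallyNoetherian_fiber f b
  haveI : IsNoetherian (f.fiber b) := {}
  haveI : NoetherianSpace ↥(Set.range (f.fiberι b)) :=
    NoetherianSpace.range (f.fiberι b) (f.fiberι b).continuous
  rw [f.range_fiberι b] at this
  have h1 : IsCompact ((Subtype.val : ↥(f ⁻¹' {b}) → X) ⁻¹' A) := NoetherianSpace.isCompact _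
  have h2 := h1.image continuous_subtype_val
  rwa [Subtype.image_preimage_coe, Set.inter_eq_right.2 hA] at h2

end Groth.Agent.Helper5.GQS
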