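import Mathlib
import Groth.Prelude
import Groth.Agent.Helper5.GQSd
import Groth.Agent.Helper5.GNSb

/-!
# GQSe: the core construction over an affine étale neighbourhood (towards S1356)
-/

set_option autoImplicit false
set_option linter.unusedSectionVars false
set_option linter.unusedVariables false
set_option linter.style.haveILetI false
universe u
open CategoryTheory CategoryTheory.Limits AlgebraicGeometry TopologicalSpace Topology

namespace Groth.Agent.Helper5.GQS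

set_option maxHeartbeats 1600000 in
theorem core {Y S U Z : Scheme.{u}} (h : Y ⟶ S) [Flat h] [LocallyOfFinitePresentation h]
    [QuasiCompact h] [QuasiSeparated h] [GeometricallyReduced h]
    (g : U ⟶ S) [IsAffine U] (u : U) (s : S) (hgu : g u = s) (OY : Y.Opens)
    (hGC : GeometricallyConnected ((OY.ι ≫ h).fiberToSpecResidueField s))
    (gZ : Z ⟶ U) [IsFinite gZ] [Flat gZ] [LocallyOfFinitePresentation gZ] (σY : Z ⟶ Y)
    (hσ : σY ≫ h = gZ ≫ g) (hσO : Set.range σY ⊆ (OY : Set Y)) (hu : u ∈ Set.range gZ) :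
    ∃ (U' : U.Opens) (hU' : IsAffineOpen U') (huU' : u ∈ U')
      (V : (pullback h (U'.ι ≫ g)).Opens), IsCompact (V : Set ↥(pullback h (U'.ι ≫ g))) ∧
        GeometricallyConnected (V.ι ≫ pullback.snd h (U'.ι ≫ g)) ∧
        ∀ y' : ↥(pullback h (U'.ι ≫ g)), pullback.snd h (U'.ι ≫ g) y' = ⟨u, huU'⟩ →
          (y' ∈ V ↔ pullback.fst h (U'.ι ≫ g) y' ∈ OY) := by
  subst hgu
  obtain ⟨hU, hhU⟩ : ∃ hU : pullback h g ⟶ U, hU = pullback.snd h g := ⟨_, rfl⟩
  obtain ⟨pY, hpY⟩ : ∃ pY : pullback h g ⟶ Y, pY = pullback.fst h g := ⟨_, rfl⟩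
  have hcond : pY ≫ h = hU ≫ g := by rw [hpY, hhU]; exact pullback.condition
  have hsq0 : IsPullback pY hU h g := by rw [hpY, hhU]; exact IsPullback.of_hasPullback h g
  haveI : Flat hU := by rw [hhU]; infer_instance
  haveI : LocallyOfFinitePresentation hU := by rw [hhU]; infer_instance
  haveI : QuasiCompact hU := by rw [hhU]; infer_instance
  haveI : QuasiSeparated hU := by rw [hhU]; infer_instance
  haveI : GeometricallyReduced hU := by rw [hhU]; infer_instance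
  haveI : QuasiSeparatedSpace ↥(pullback h g) := quasiSeparatedSpace_of_quasiSeparated hU
  obtain ⟨O, hO⟩ : ∃ O : (pullback h g).Opens, O = pY ⁻¹ᵁ OY := ⟨_, rfl⟩
  have hmemO : ∀ x : ↥(pullback h g), x ∈ O ↔ pY x ∈ OY := by
    intro x; rw [hO]; rfl
  -- the multisection
  obtain ⟨σ, hσd⟩ : ∃ σ : Z ⟶ pullback h g, σ = pullback.lift σY gZ hσ := ⟨_, rfl⟩
  have hσ1 : σ ≫ pY = σY := by rw [hσd, hpY]; exact pullback.lift_fst _ _ _
  have hσ2 : σ ≫ hU = gZ := by rw [hσd, hhU]; exact pullback.lift_snd _ _ _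
  have hσO' : Set.range σ ⊆ (O : Set ↥(pullback h g)) := by
    rintro _ ⟨z, rfl⟩
    show σ z ∈ O
    rw [hmemO, ← Scheme.Hom.comp_apply, hσ1]
    exact hσO ⟨z, rfl⟩
  haveI : IsAffine Z := isAffine_of_isAffineHom gZ
  have hc1 : IsCompact (Set.range σ) := isCompact_range σ.continuous
  have hc2 : IsCompact ((O : Set ↥(pullback h g)) ∩ hU ⁻¹' {u}) :=
    isCompact_of_subset_fiber hU u _ Set.inter_subset_right
  obtain ⟨Q, hQc, hQo, hKQ, hQO⟩ := PrespectralSpace.exists_isCompact_and_isOpen_between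
    (hc1.union hc2) O.isOpen (Set.union_subset hσO' Set.inter_subset_left)
  obtain ⟨X, hX⟩ : ∃ X : (pullback h g).Opens, (X : Set ↥(pullback h g)) = Q :=
    ⟨⟨Q, hQo⟩, rfl⟩
  have hXO : X ≤ O := by
    intro x hx
    have : x ∈ (X : Set ↥(pullback h g)) := hx
    rw [hX] at this
    exact hQO this
  have hXfib : ∀ x : ↥(pullback h g), x ∈ O → hU x = u → x ∈ X := by
    intro x hxO hxu
    show x ∈ (X : Set ↥(pullback h g))
    rw [hX]
    exact hKQ (Or.inr ⟨hxO, hxu⟩)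
  have hXσ : ∀ z : Z, σ z ∈ X := by
    intro z
    show σ z ∈ (X : Set ↥(pullback h g))
    rw [hX]
    exact hKQ (Or.inl ⟨z, rfl⟩)
  -- the family `f`
  obtain ⟨f, hf⟩ : ∃ f : (X : Scheme.{u}) ⟶ U, f = X.ι ≫ hU := ⟨_, rfl⟩
  haveI : Flat f := by rw [hf]; infer_instance
  haveI : LocallyOfFinitePresentation f := by rw [hf]; infer_instance
  haveI : QuasiSeparated f := by rw [hf]; infer_instance
  haveI : GeometricallyReduced f := by
    rw [hf]; exact Groth.Agent.Helper5.GCI.geometricallyReduced_comp_of_isOpenImmersion X.ι hU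
  haveI : CompactSpace ↥(X : Scheme.{u}) := by
    apply isCompact_iff_compactSpace.1
    show IsCompact (X : Set ↥(pullback h g))
    rw [hX]; exact hQc
  haveI : QuasiCompact f := (HasAffineProperty.iff_of_isAffine (P := @QuasiCompact)).2 inferInstance
  have hσX : Set.range ⇑σ ⊆ Set.range ⇑X.ι := by
    rw [Scheme.Opens.range_ι]
    rintro _ ⟨z, rfl⟩
    exact hXσ z
  obtain ⟨σX, hσXd⟩ : ∃ σX : Z ⟶ (X : Scheme.{u}), σX = IsOpenImmersion.lift X.ι σ hσX := ⟨_, rfl⟩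
  have hσX1 : σX ≫ X.ι = σ := by rw [hσXd]; exact IsOpenImmersion.lift_fac _ _ _
  have hσXf : σX ≫ f = gZ := by rw [hf, ← Category.assoc, hσX1, hσ2]
  -- geometric connectedness of the fibre of `f` over `u`
  have hGCO : GeometricallyConnected ((O.ι ≫ hU).fiberToSpecResidueField u) := by
    have sq : IsPullback (pY ∣_ OY) ((pY ⁻¹ᵁ OY).ι ≫ hU) (OY.ι ≫ h) g :=
      (isPullback_morphismRestrict pY OY).paste_vert hsq0
    rw [hO, Groth.Agent.Helper5.GCnt.geomConn_fiber_iff sq u]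
    exact hGC
  have hGCf : GeometricallyConnected (f.fiberToSpecResidueField u) := by
    rw [geomConn_fiber_iff_of_isOpenImmersion ((pullback h g).homOfLE hXO) (O.ι ≫ hU) f
      (by rw [hf, ← Category.assoc, Scheme.homOfLE_ι]) u ?_]
    · exact hGCO
    · intro o ho
      have ho' : hU (O.ι o) = u := ho
      have h1 : O.ι o ∈ X := hXfib _ o.2 ho'
      refine ⟨⟨O.ι o, h1⟩, ?_⟩
      apply Subtype.ext
      rw [Scheme.homOfLE_apply]
      rfl
  -- apply the main theorem of S1453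
  obtain ⟨X0, hX0c, hX0f, hX0GC⟩ := main f gZ ⟨inferInstance, inferInstance, inferInstance⟩ σX hσXf
    u hu hGCf
  have hfo : IsOpenMap f := f.isOpenMap
  have hIm : IsOpen (f '' (X0 : Set ↥(X : Scheme.{u}))) := hfo _ X0.isOpen
  have huIm : u ∈ f '' (X0 : Set ↥(X : Scheme.{u})) := by
    obtain ⟨z, hz⟩ := hu
    have h1 : f (σX z) = u := by rw [← Scheme.Hom.comp_apply, hσXf]; exact hz
    exact ⟨σX z, hX0f h1, h1⟩
  obtain ⟨U', hU'aff, huU', hU'Im⟩ : ∃ U' : U.Opens, IsAffineOpen U' ∧ u ∈ U' ∧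
      (U' : Set U) ⊆ f '' (X0 : Set ↥(X : Scheme.{u})) := by
    obtain ⟨_, ⟨U', hU'aff, rfl⟩, huU', hU'Im⟩ :=
      U.isBasis_affineOpens.exists_subset_of_mem_open huIm hIm
    exact ⟨U', hU'aff, huU', hU'Im⟩
  refine ⟨U', hU'aff, huU', ?_⟩
  obtain ⟨m', hm'⟩ : ∃ m' : pullback h (U'.ι ≫ g) ⟶ pullback h g,
    m' = piR h g U'.ι (U'.ι ≫ g) rfl := ⟨_, rfl⟩
  have sqm : IsPullback m' (pullback.snd h (U'.ι ≫ g)) hU U'.ι := by
    rw [hm', hhU]; exact isPullback_piR h g U'.ι (U'.ι ≫ g) rfl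
  haveI : IsOpenImmersion m' := MorphismProperty.of_isPullback sqm.flip inferInstance
  have hm'fst : m' ≫ pY = pullback.fst h (U'.ι ≫ g) := by
    rw [hm', hpY]; exact piR_fst h g U'.ι (U'.ι ≫ g) rfl
  have hm'snd : ∀ y', hU (m' y') = U'.ι (pullback.snd h (U'.ι ≫ g) y') := by
    intro y'
    rw [← Scheme.Hom.comp_apply, ← Scheme.Hom.comp_apply, sqm.w]
  have hrm' : Set.range m' = hU ⁻¹' (U' : Set U) := by
    rw [Groth.Agent.Helper5.GNS.range_snd_of_isPullback sqm.flip, Scheme.Opens.range_ι]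
  obtain ⟨X0', hX0'⟩ : ∃ X0' : (pullback h g).Opens, X0' = X.ι ''ᵁ X0 := ⟨_, rfl⟩
  have hmemX0' : ∀ x : ↥(pullback h g), x ∈ X0' ↔ ∃ x0 : ↥(X : Scheme.{u}), x0 ∈ X0 ∧ X.ι x0 = x := by
    intro x; rw [hX0']; rfl
  refine ⟨m' ⁻¹ᵁ X0', ?_, ?_, ?_⟩
  · -- compactness
    have hk1 : IsCompact (X0' : Set ↥(pullback h g)) := by
      rw [hX0']
      exact hX0c.image X.ι.continuous
    have hk2 : IsCompact (hU ⁻¹' (U' : Set U)) :=
      QuasiCompact.isCompact_preimage (f := hU) _ U'.isOpen hU'aff.isCompact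
    have hk3 : IsCompact ((X0' : Set ↥(pullback h g)) ∩ hU ⁻¹' (U' : Set U)) :=
      QuasiSeparatedSpace.inter_isCompact _ _ X0'.isOpen hk1 (U'.isOpen.preimage hU.continuous) hk2
    have hk4 : (m' ⁻¹ᵁ X0' : Set ↥(pullback h (U'.ι ≫ g))) =
        m' ⁻¹' ((X0' : Set ↥(pullback h g)) ∩ hU ⁻¹' (U' : Set U)) := by
      ext y'
      constructor
      · intro hy'
        refine ⟨hy', ?_⟩
        show hU (m' y') ∈ U'
        rw [hm'snd]
        exact (pullback.snd h (U'.ι ≫ g) y').2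
      · intro hy'
        exact hy'.1
    rw [hk4]
    exact m'.isOpenEmbedding.isInducing.isCompact_preimage' hk3
      (by rw [hrm']; exact Set.inter_subset_right)
  · -- geometric connectedness of the fibres
    rw [GeometricallyConnected.iff_geometricallyConnected_fiber]
    intro w
    have sqV : IsPullback (m' ∣_ X0') ((m' ⁻¹ᵁ X0').ι ≫ pullback.snd h (U'.ι ≫ g))
        (X0'.ι ≫ hU) U'.ι := (isPullback_morphismRestrict m' X0').paste_vert sqm
    rw [Groth.Agent.Helper5.GCnt.geomConn_fiber_iff sqV w]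
    subst hX0'
    have he : (X.ι.isoImage X0).hom ≫ (X.ι ''ᵁ X0).ι ≫ hU = X0.ι ≫ f := by
      rw [hf, ← Category.assoc, Scheme.Hom.isoImage_hom_ι, Category.assoc]
    rw [← geomConn_fiber_iff_of_isOpenImmersion (X.ι.isoImage X0).hom ((X.ι ''ᵁ X0).ι ≫ hU)
      (X0.ι ≫ f) he (U'.ι w) ?_]
    · obtain ⟨x, hx, hxw⟩ := hU'Im w.2
      exact hX0GC (U'.ι w) ⟨x, hx, hxw⟩
    · intro o _
      refine ⟨(X.ι.isoImage X0).inv o, ?_⟩
      rw [← Scheme.Hom.comp_apply, Iso.inv_hom_id]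
      rfl
  · -- the fibre over `u`
    intro y' hy'
    have hyu : hU (m' y') = u := by
      rw [hm'snd, hy']; rfl
    have hfst : pullback.fst h (U'.ι ≫ g) y' = pY (m' y') := by
      rw [← hm'fst, Scheme.Hom.comp_apply]
    rw [hfst]
    show m' y' ∈ X0' ↔ _
    rw [hmemX0']
    constructor
    · rintro ⟨x0, hx0, hx0e⟩
      rw [← hx0e, ← hmemO]
      exact hXO x0.2
    · intro hyO
      have h1 : m' y' ∈ X := hXfib _ ((hmemO _).2 hyO) hyu
      refine ⟨⟨m' y', h1⟩, ?_, rfl⟩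
      apply hX0f
      show f ⟨m' y', h1⟩ = u
      rw [hf, Scheme.Hom.comp_apply]
      exact hyu

end Groth.Agent.Helper5.GQS
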