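import Mathlib
import Groth.Prelude
import Groth.Agent.Helper5.GQSe
import Groth.Agent.Helper8.SliceE
import Groth.Agent.S1353

/-!
# GQSf: étale-local quasi-compact opens with geometrically connected fibres (S1356)
-/

set_option autoImplicit false
set_option linter.unusedSectionVars false
set_option linter.unusedVariables false
set_option linter.style.haveILetI false
universe u
open CategoryTheory CategoryTheory.Limits AlgebraicGeometry TopologicalSpace Topology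

namespace Groth.Agent.Helper5.GQS

set_option maxHeartbeats 1600000 in
theorem s1356 {Y S : Scheme.{u}} (h : Y ⟶ S) [Flat h] [LocallyOfFinitePresentation h]
    [QuasiCompact h] [QuasiSeparated h] [GeometricallyReduced h] (s : S) (T : (h.fiber s).Opens)
    (hT : GeometricallyConnected (T.ι ≫ h.fiberToSpecResidueField s)) :
    ∃ (S' : Scheme.{u}) (g : S' ⟶ S) (s' : S'), IsAffine S' ∧ Hens2.IsEtaleNbhd g s' s ∧
      ∃ V : (pullback h g).Opens, IsCompact (V : Set ↑(pullback h g)) ∧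
        GeometricallyConnected (V.ι ≫ pullback.snd h g) ∧
        ∀ y' : ↑(pullback h g), pullback.snd h g y' = s' →
          (y' ∈ V ↔ pullback.fst h g y' ∈ (h.fiberι s) '' (T : Set ↑(h.fiber s))) := by
  -- `T` is nonempty
  have hTne : (T : Set ↥(h.fiber s)).Nonempty := by
    haveI : Nonempty ↥(Spec (S.residueField s)) :=
      inferInstanceAs (Nonempty (PrimeSpectrum (S.residueField s)))
    obtain ⟨x, -⟩ := (T.ι ≫ h.fiberToSpecResidueField s).surjective (Classical.arbitrary _)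
    exact ⟨T.ι x, x.2⟩
  -- an open of `Y` cutting out `T`
  obtain ⟨OY, hOY⟩ : ∃ OY : Y.Opens, (h.fiberι s) ⁻¹ᵁ OY = T := by
    obtain ⟨O', hO', hO'e⟩ := (h.fiberι s).isEmbedding.isInducing.isOpen_iff.1 T.isOpen
    exact ⟨⟨O', hO'⟩, Opens.ext hO'e⟩
  subst hOY
  have hGC : GeometricallyConnected ((OY.ι ≫ h).fiberToSpecResidueField s) := by
    have sq : IsPullback ((h.fiberι s) ∣_ OY)
        (((h.fiberι s) ⁻¹ᵁ OY).ι ≫ h.fiberToSpecResidueField s) (OY.ι ≫ h)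
        (S.fromSpecResidueField s) :=
      (isPullback_morphismRestrict (h.fiberι s) OY).paste_vert
        (IsPullback.of_hasPullback h (S.fromSpecResidueField s))
    have h1 := (Groth.Agent.Helper5.GCnt.geomConn_fiber_iff sq
      (IsLocalRing.closedPoint (S.residueField s))).1 inferInstance
    rwa [Scheme.fromSpecResidueField_apply] at h1
  -- a closed smooth point of the fibre in `T`
  obtain ⟨t₀, ht₀T, ht₀sm, ht₀cl⟩ := exists_closed_smooth_point h s ((h.fiberι s) ⁻¹ᵁ OY) hTne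
  obtain ⟨hcm, hcl⟩ := isCMAt_of_smooth_fiber_point h s t₀ ht₀sm ht₀cl
  obtain ⟨t, ht⟩ : ∃ t : Y, t = h.fiberι s t₀ := ⟨_, rfl⟩
  rw [← ht] at hcm hcl
  have hts : h t = s := by
    have h0 : t ∈ h ⁻¹' {s} := by
      rw [← h.range_fiberι s, ht]; exact ⟨t₀, rfl⟩
    exact h0
  have htO : t ∈ OY := by rw [ht]; exact ht₀T
  -- the quasi-finite flat slice through `t`
  obtain ⟨V₁, Z₀, i, -, ⟨z₀, hz₀⟩, hfl, hlfp, hlqf, -⟩ :=
    Groth.Agent.Helper8.SliceE.main h t hcm hcl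
  haveI := hfl
  haveI := hlfp
  haveI := hlqf
  obtain ⟨N, hN⟩ : ∃ N : Z₀.Opens, N = (i ≫ V₁.ι) ⁻¹ᵁ OY := ⟨_, rfl⟩
  have hmemN : ∀ w : Z₀, w ∈ N → (i ≫ V₁.ι) w ∈ OY := by
    intro w hw
    rw [hN] at hw
    exact hw
  have hz₀N : z₀ ∈ N := by
    rw [hN]
    show (i ≫ V₁.ι) z₀ ∈ OY
    rw [hz₀]; exact htO
  obtain ⟨φ', hφ'⟩ : ∃ φ' : (N : Scheme.{u}) ⟶ S, φ' = N.ι ≫ i ≫ V₁.ι ≫ h := ⟨_, rfl⟩
  haveI : Flat φ' := by rw [hφ']; infer_instance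
  haveI : LocallyOfFinitePresentation φ' := by rw [hφ']; infer_instance
  haveI : LocallyQuasiFinite φ' := by rw [hφ']; infer_instance
  have hφs : φ' ⟨z₀, hz₀N⟩ = s := by
    rw [hφ', ← Category.assoc, ← Category.assoc, Scheme.Hom.comp_apply]
    have h1 : (N.ι ≫ i ≫ V₁.ι) ⟨z₀, hz₀N⟩ = t := by
      rw [Scheme.Hom.comp_apply]
      exact hz₀
    rw [Category.assoc, h1, hts]
  -- the étale neighbourhood
  obtain ⟨U, g, u, hg, V₀, v, hvV₀, hfin, hsnd, -, -, -⟩ :=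
    Groth.Agent.S1353.result φ' ⟨z₀, hz₀N⟩ (φ'.quasiFiniteAt _)
  rw [hφs] at hg
  haveI := hfin
  obtain ⟨gZ, hgZ⟩ : ∃ gZ : (V₀ : Scheme.{u}) ⟶ U, gZ = V₀.ι ≫ pullback.snd φ' g := ⟨_, rfl⟩
  haveI : IsFinite gZ := by rw [hgZ]; exact hfin
  haveI : Flat gZ := by rw [hgZ]; infer_instance
  haveI : LocallyOfFinitePresentation gZ := by rw [hgZ]; infer_instance
  obtain ⟨σY, hσY⟩ : ∃ σY : (V₀ : Scheme.{u}) ⟶ Y,
    σY = V₀.ι ≫ pullback.fst φ' g ≫ N.ι ≫ i ≫ V₁.ι := ⟨_, rfl⟩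
  have hσ : σY ≫ h = gZ ≫ g := by
    rw [hσY, hgZ]
    simp only [Category.assoc]
    rw [← hφ', pullback.condition]
  have hσO : Set.range σY ⊆ (OY : Set Y) := by
    rintro _ ⟨z, rfl⟩
    rw [hσY, ← Category.assoc, ← Category.assoc, Scheme.Hom.comp_apply]
    have h1 : ((V₀.ι ≫ pullback.fst φ' g) ≫ N.ι) z ∈ N := by
      rw [Scheme.Hom.comp_apply]
      exact ((V₀.ι ≫ pullback.fst φ' g) z).2
    exact hmemN _ h1
  have hu : u ∈ Set.range gZ := by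
    refine ⟨⟨v, hvV₀⟩, ?_⟩
    rw [hgZ, Scheme.Hom.comp_apply]
    exact hsnd
  -- restriction to an affine neighbourhood of `u`
  obtain ⟨U₁, hU₁aff, huU₁⟩ : ∃ U₁ : U.Opens, IsAffineOpen U₁ ∧ u ∈ U₁ := by
    obtain ⟨_, ⟨U₁, hU₁aff, rfl⟩, huU₁, -⟩ :=
      U.isBasis_affineOpens.exists_subset_of_mem_open (Set.mem_univ u) isOpen_univ
    exact ⟨U₁, hU₁aff, huU₁⟩
  haveI : IsAffine (U₁ : Scheme.{u}) := hU₁aff
  have hg₁ : Hens2.IsEtaleNbhd (U₁.ι ≫ g) (⟨u, huU₁⟩ : ↥U₁) s := isEtaleNbhd_restrict hg U₁ huU₁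
  have hσ₁ : (pullback.fst gZ U₁.ι ≫ σY) ≫ h = pullback.snd gZ U₁.ι ≫ U₁.ι ≫ g := by
    rw [Category.assoc, hσ, ← Category.assoc, pullback.condition, Category.assoc]
  have hσO₁ : Set.range (pullback.fst gZ U₁.ι ≫ σY) ⊆ (OY : Set Y) := by
    rintro _ ⟨z, rfl⟩
    rw [Scheme.Hom.comp_apply]
    exact hσO ⟨_, rfl⟩
  have hu₁ : (⟨u, huU₁⟩ : ↥U₁) ∈ Set.range (pullback.snd gZ U₁.ι) := by
    obtain ⟨z, hz⟩ := hu
    obtain ⟨w, -, hw⟩ := Scheme.Pullback.exists_preimage_pullback (f := gZ) (g := U₁.ι) z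
      (⟨u, huU₁⟩ : ↥U₁) hz
    exact ⟨w, hw⟩
  obtain ⟨U', hU'aff, huU', V, hVc, hVGC, hVfib⟩ := core h (U₁.ι ≫ g) (⟨u, huU₁⟩ : ↥U₁) s
    hg₁.base_eq OY hGC (pullback.snd gZ U₁.ι) (pullback.fst gZ U₁.ι ≫ σY) hσ₁ hσO₁ hu₁
  have hg' := isEtaleNbhd_restrict hg₁ U' huU'
  refine ⟨(U' : Scheme.{u}), U'.ι ≫ U₁.ι ≫ g, ⟨⟨u, huU₁⟩, huU'⟩, hU'aff, hg', V, hVc, hVGC, ?_⟩
  intro y' hy'
  rw [hVfib y' hy']
  have hhy : h (pullback.fst h (U'.ι ≫ U₁.ι ≫ g) y') = s := by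
    rw [← Scheme.Hom.comp_apply, pullback.condition, Scheme.Hom.comp_apply, hy']
    exact hg'.base_eq
  constructor
  · intro hyO
    have h1 : pullback.fst h (U'.ι ≫ U₁.ι ≫ g) y' ∈ Set.range (h.fiberι s) := by
      rw [h.range_fiberι s]; exact hhy
    obtain ⟨τ, hτ⟩ := h1
    refine ⟨τ, ?_, hτ⟩
    show h.fiberι s τ ∈ OY
    rw [hτ]; exact hyO
  · rintro ⟨τ, hτT, hτ⟩
    rw [← hτ]
    exact hτT

end Groth.Agent.Helper5.GQS
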