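import Mathlib
import Groth.Prelude
import Groth.Agent.Helper5.GQSf
import Groth.Agent.Helper5.GLocC
import Groth.Agent.Helper2.GeomNor2
import Groth.Agent.Helper4.SN42
import Groth.Agent.Helper4.GeomIrrSch

/-!
# GQSg: normal morphisms have geometrically normal fibres over arbitrary fields; geometrically
connected + geometrically normal ⇒ geometrically integral (towards S1472)
-/

set_option autoImplicit false
set_option linter.unusedSectionVars false
set_option linter.unusedVariables false
set_option linter.style.haveILetI false
universe u
open CategoryTheory CategoryTheory.Limits AlgebraicGeometry TopologicalSpace Topology TensorProduct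

namespace Groth.Agent.Helper5.GQS

open Groth.Agent.Helper5.GLoc

/-- all local rings are integrally closed domains -/
def Pn : ObjectProperty Scheme.{u} := fun Z => PSch normalProp Z

instance : Pn.{u}.IsClosedUnderIsomorphisms := ⟨fun e h => psch_of_iso e h⟩

/-- affine case of `psch_bc_of_gpm` -/
theorem psch_bc_affine {k : Type u} [Field k] {R : CommRingCat.{u}}
    (δ : Spec R ⟶ Spec (CommRingCat.of k)) [h2 : LocallyOfFiniteType δ]
    (h1 : GPM normalProp δ) (K : Type u) [Field K] [Algebra k K] :
    PSch normalProp (pullback δ (Spec.map (CommRingCat.ofHom (algebraMap k K)))) := by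
  obtain ⟨ψ, rfl⟩ := Spec.map_surjective δ
  letI : Algebra k R := ψ.hom.toAlgebra
  have h3 : EGA4.IsGeomNormal k R := (gpm_SpecMap_iff k R).1 h1
  haveI : Algebra.FiniteType k R := by
    have := (HasRingHomProperty.Spec_iff (P := @LocallyOfFiniteType)).1 h2
    exact this
  have h4 : EGA4.IsNormalRing (R ⊗[k] K) :=
    Groth.Agent.Helper2.GeomNor2.normal_tensor_of_finiteType' k R K h3
  have h5 : PSch normalProp (Spec (CommRingCat.of (R ⊗[k] K))) := (psch_Spec_iff _).2 h4
  exact psch_of_iso (pullbackSpecIso k R K).symm h5

/-- a scheme locally of finite type over a field all of whose finite base changes are normal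
stays normal after arbitrary field extensions -/
theorem psch_bc_of_gpm {k : Type u} [Field k] {Z : Scheme.{u}} (γ : Z ⟶ Spec (CommRingCat.of k))
    [LocallyOfFiniteType γ] (hγ : GPM normalProp γ) (K : Type u) [Field K] [Algebra k K] :
    PSch normalProp (pullback γ (Spec.map (CommRingCat.ofHom (algebraMap k K)))) := by
  apply psch_of_forall_exists
  intro z
  obtain ⟨i, x, hx⟩ := (Scheme.Pullback.openCoverOfLeft Z.affineCover γ
    (Spec.map (CommRingCat.ofHom (algebraMap k K)))).exists_eq z
  refine ⟨_, (Scheme.Pullback.openCoverOfLeft Z.affineCover γ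
    (Spec.map (CommRingCat.ofHom (algebraMap k K)))).f i, inferInstance, ⟨x, hx⟩, ?_⟩
  show PSch normalProp (pullback (Z.affineCover.f i ≫ γ)
    (Spec.map (CommRingCat.ofHom (algebraMap k K))))
  have h1 : GPM normalProp (Z.affineCover.f i ≫ γ) := gpm_openImmersion_comp _ _ hγ
  haveI h2 : LocallyOfFiniteType (Z.affineCover.f i ≫ γ) := inferInstance
  exact psch_bc_affine (R := _) (Z.affineCover.f i ≫ γ) (h2 := h2) h1 K

/-- a morphism locally of finite type whose fibres are geometrically normal (for finite
extensions) is geometrically normal for arbitrary field-valued points -/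
theorem geometrically_Pn {X Y : Scheme.{u}} (f : X ⟶ Y) [LocallyOfFiniteType f]
    (hn : ∀ y : Y, GPM normalProp (pullback.snd f (Y.fromSpecResidueField y))) :
    geometrically Pn f := by
  rw [geometrically_iff_forall_fiberToSpecResidueField]
  intro y
  haveI : LocallyOfFiniteType (f.fiberToSpecResidueField y) :=
    inferInstanceAs (LocallyOfFiniteType (pullback.snd f (Y.fromSpecResidueField y)))
  rw [geometrically_iff_of_commRing_of_isClosedUnderIsomorphisms (R := Y.residueField y)]
  intro K _ _
  exact psch_bc_of_gpm (k := Y.residueField y) (f.fiberToSpecResidueField y) (hn y) K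

/-- geometric normality passes to open subschemes -/
theorem geometrically_Pn_comp_of_isOpenImmersion {U G S : Scheme.{u}} (j : U ⟶ G) (g : G ⟶ S)
    [IsOpenImmersion j] (hg : geometrically Pn g) : geometrically Pn (j ≫ g) := by
  intro K _ y Z fst snd h
  obtain ⟨l, hl⟩ : ∃ l : Z ⟶ pullback g y, l = pullback.lift (fst ≫ j) snd
      (by rw [Category.assoc]; exact h.w) := ⟨_, rfl⟩
  have hl1 : l ≫ pullback.fst g y = fst ≫ j := by rw [hl, pullback.lift_fst]
  have hl2 : l ≫ pullback.snd g y = snd := by rw [hl, pullback.lift_snd]
  have sq : IsPullback fst l j (pullback.fst g y) := by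
    refine IsPullback.of_bot ?_ hl1.symm (IsPullback.of_hasPullback g y)
    rw [hl2]
    exact h
  haveI : IsOpenImmersion l := MorphismProperty.of_isPullback sq inferInstance
  exact psch_of_isOpenImmersion l (pullback_of_geometrically hg K y)

/-- geometric normality implies geometric reducedness -/
theorem geometricallyReduced_of_geometrically_Pn {X Y : Scheme.{u}} (f : X ⟶ Y)
    (hf : geometrically Pn f) : GeometricallyReduced f := by
  refine ⟨fun K _ y Z fst snd h => ?_⟩
  have h1 : PSch normalProp Z := hf y fst snd h
  haveI : ∀ z : Z, _root_.IsReduced (Z.presheaf.stalk z) := fun z => by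
    haveI := (h1 z).1
    infer_instance
  exact isReduced_of_isReduced_stalk Z

/-- a quasi-compact morphism locally of finite type which is geometrically connected and
geometrically normal is geometrically integral -/
theorem geometricallyIntegral_of_geomConn_of_Pn {X Y : Scheme.{u}} (f : X ⟶ Y)
    [LocallyOfFiniteType f] [QuasiCompact f] [GeometricallyConnected f]
    (hf : geometrically Pn f) : GeometricallyIntegral f := by
  haveI := geometricallyReduced_of_geometrically_Pn f hf
  haveI : GeometricallyIrreducible f := by
    rw [GeometricallyIrreducible.iff_geometricallyIrreducible_fiber]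
    intro y
    haveI : LocallyOfFiniteType (f.fiberToSpecResidueField y) :=
      inferInstanceAs (LocallyOfFiniteType (pullback.snd f (Y.fromSpecResidueField y)))
    haveI : QuasiCompact (f.fiberToSpecResidueField y) :=
      inferInstanceAs (QuasiCompact (pullback.snd f (Y.fromSpecResidueField y)))
    have hfy : geometrically Pn (f.fiberToSpecResidueField y) :=
      (geometrically_iff_forall_fiberToSpecResidueField.1 hf) y
    obtain ⟨t, ht⟩ : ∃ t : Spec (CommRingCat.of (SeparableClosure (Y.residueField y))) ⟶
        Spec (Y.residueField y),
      t = Spec.map (CommRingCat.ofHom (algebraMap (Y.residueField y)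
        (SeparableClosure (Y.residueField y)))) := ⟨_, rfl⟩
    have h1 : PSch normalProp (pullback (f.fiberToSpecResidueField y) t) :=
      pullback_of_geometrically hfy _ t
    haveI : ConnectedSpace ↥(pullback (f.fiberToSpecResidueField y) t) :=
      GeometricallyConnected.geometrically_connectedSpace
        (f := f.fiberToSpecResidueField y) t _ _ (IsPullback.of_hasPullback _ _)
    haveI : IsLocallyNoetherian (pullback (f.fiberToSpecResidueField y) t) :=
      LocallyOfFiniteType.isLocallyNoetherian (pullback.snd (f.fiberToSpecResidueField y) t)
    haveI : CompactSpace ↥(pullback (f.fiberToSpecResidueField y) t) :=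
      QuasiCompact.compactSpace_of_compactSpace (pullback.snd (f.fiberToSpecResidueField y) t)
    haveI : IsNoetherian (pullback (f.fiberToSpecResidueField y) t) := {}
    haveI : IsIntegral (pullback (f.fiberToSpecResidueField y) t) :=
      Groth.Agent.Helper4.SN.isIntegral_of_connected_of_isDomain_stalk _ (fun z => (h1 z).1)
    have hirr : IrreducibleSpace ↥(pullback (f.fiberToSpecResidueField y) t) := inferInstance
    subst ht
    exact @Groth.Agent.Helper4.GeomIrrSch.geometricallyIrreducible_of_sepClosure
      (Y.residueField y) _ _ (f.fiberToSpecResidueField y) hirr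
  exact GeometricallyIntegral.of_geometricallyReduced_of_geometricallyIrreducible f

end Groth.Agent.Helper5.GQS
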