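import Mathlib
import Groth.Prelude
import Groth.Agent.Helper5.GQSg

/-!
# GQSh: étale-local quasi-compact opens with geometrically integral fibres for normal
morphisms (S1472)
-/

set_option autoImplicit false
set_option linter.unusedSectionVars false
set_option linter.unusedVariables false
set_option linter.style.haveILetI false
universe u
open CategoryTheory CategoryTheory.Limits AlgebraicGeometry TopologicalSpace Topology TensorProduct

namespace Groth.Agent.Helper5.GQS

open Groth.Agent.Helper5.GLoc

theorem s1472 {Y S : Scheme.{u}} (h : Y ⟶ S) [LocallyOfFinitePresentation h] [QuasiCompact h]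
    [QuasiSeparated h]
    (hn : ∀ (U : Y.Opens) (V : S.Opens) (hU : IsAffineOpen U) (hV : IsAffineOpen V)
      (hUV : U ≤ h ⁻¹ᵁ V),
      letI := (h.appLE V U hUV).hom.toAlgebra
      EGA4.IsNormalHom Γ(S, V) Γ(Y, U))
    (s : S) (T : (h.fiber s).Opens)
    (hT : GeometricallyIrreducible (T.ι ≫ h.fiberToSpecResidueField s)) :
    ∃ (S' : Scheme.{u}) (g : S' ⟶ S) (s' : S'), IsAffine S' ∧ Hens2.IsEtaleNbhd g s' s ∧
      ∃ V : (pullback h g).Opens, IsCompact (V : Set ↑(pullback h g)) ∧
        GeometricallyIntegral (V.ι ≫ pullback.snd h g) ∧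
        ∀ y' : ↑(pullback h g), pullback.snd h g y' = s' →
          (y' ∈ V ↔ pullback.fst h g y' ∈ (h.fiberι s) '' (T : Set ↑(h.fiber s))) := by
  obtain ⟨hflat, hfib⟩ := (normal_iff h).1 hn
  haveI := hflat
  have hPn : geometrically Pn h := geometrically_Pn h hfib
  haveI : GeometricallyReduced h := geometricallyReduced_of_geometrically_Pn h hPn
  haveI : GeometricallyConnected (T.ι ≫ h.fiberToSpecResidueField s) :=
    ⟨fun K _ y Z fst snd hp => by
      haveI : IrreducibleSpace Z :=
        GeometricallyIrreducible.geometrically_irreducibleSpace y fst snd hp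
      infer_instance⟩
  obtain ⟨S', g, s', hS', hg, V, hVc, hVGC, hVf⟩ := s1356 h s T inferInstance
  refine ⟨S', g, s', hS', hg, V, hVc, ?_, hVf⟩
  haveI := hVGC
  haveI : IsAffine S' := hS'
  haveI : CompactSpace ↥(V : Scheme.{u}) := isCompact_iff_compactSpace.1 hVc
  haveI : QuasiCompact (V.ι ≫ pullback.snd h g) :=
    (HasAffineProperty.iff_of_isAffine (P := @QuasiCompact)).2 inferInstance
  apply geometricallyIntegral_of_geomConn_of_Pn
  apply geometrically_Pn_comp_of_isOpenImmersion
  exact MorphismProperty.pullback_snd _ _ hPn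

end Groth.Agent.Helper5.GQS
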