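import Mathlib
import Groth.Prelude
import Groth.Agent.Helper5.GQSd
import Groth.Agent.Helper5.GNSb
import Groth.Agent.Helper5.PbFibre
import Groth.Agent.Helper2.FiberSmooth2
import Groth.Agent.Helper3.SmoothEtSec
import Groth.Agent.Helper1.FinCondTop
import Groth.Agent.Helper4.SchLQF

/-!
# GQSi: étale-local structure of flat morphisms with geometrically reduced fibres: geometrically
connected fibres after étale localization (S1361)
-/

set_option autoImplicit false
set_option linter.unusedSectionVars false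
set_option linter.unusedVariables false
set_option linter.style.haveILetI false
universe u
open CategoryTheory CategoryTheory.Limits AlgebraicGeometry TopologicalSpace Topology

namespace Groth.Agent.Helper5.GQS

/-- the open subscheme of section components has geometrically connected fibres -/
theorem geomConn_sectionComponents {A Z : Scheme.{u}} (q : A ⟶ Z) (sZ : Z ⟶ A)
    (hsq : sZ ≫ q = 𝟙 Z) (V : A.Opens)
    (hV : (V : Set A) = MoreMor.sectionComponents q sZ) :
    GeometricallyConnected (V.ι ≫ q) := by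
  have hsqa : ∀ z : Z, q (sZ z) = z := by
    intro z
    rw [← Scheme.Hom.comp_apply, hsq]; rfl
  have hmem : ∀ (ξ : A) (z : Z), q ξ = z →
      (ξ ∈ V ↔ ξ ∈ connectedComponentIn (q ⁻¹' {z}) (sZ z)) := by
    intro ξ z hz
    show ξ ∈ (V : Set A) ↔ _
    rw [hV]
    exact Groth.Agent.Helper5.SecNb.mem_sectionComponents_iff q sZ hz
  rw [GeometricallyConnected.iff_geometricallyConnected_fiber]
  intro z
  have hsZV : sZ z ∈ V := (hmem (sZ z) z (hsqa z)).2 (mem_connectedComponentIn (hsqa z))
  have hrange : Set.range ⇑(Z.fromSpecResidueField z ≫ sZ) ⊆ Set.range ⇑V.ι := by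
    rintro _ ⟨a, rfl⟩
    rw [Scheme.Hom.comp_apply, Scheme.fromSpecResidueField_apply, Scheme.Opens.range_ι]
    exact hsZV
  refine geomConn_fiber_of_section (V.ι ≫ q) z
    (IsOpenImmersion.lift V.ι (Z.fromSpecResidueField z ≫ sZ) hrange) ?_ ?_
  · rw [← Category.assoc, IsOpenImmersion.lift_fac, Category.assoc, hsq, Category.comp_id]
  · have hset : (V.ι ≫ q) ⁻¹' {z} =
        V.ι ⁻¹' (connectedComponentIn (q ⁻¹' {z}) (sZ z)) := by
      ext η'
      constructor
      · intro hη'
        have h6 : q (V.ι η') = z := hη'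
        exact (hmem _ z h6).1 η'.2
      · intro hη'
        have h6 : V.ι η' ∈ q ⁻¹' {z} := connectedComponentIn_subset _ _ hη'
        exact h6
    rw [hset]
    refine isPreconnected_preimage_of_isEmbedding V.ι.isEmbedding.isInducing
      isPreconnected_connectedComponentIn ?_
    intro η hη
    rw [Scheme.Opens.range_ι]
    have h6 : η ∈ q ⁻¹' {z} := connectedComponentIn_subset _ _ hη
    exact (hmem η z h6).2 hη

/-- smooth points of a fibre of a flat morphism locally of finite presentation are smooth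
points of the morphism -/
theorem mem_smoothLocus_of_smooth_fiber_point {Y S : Scheme.{u}} (h : Y ⟶ S) [Flat h]
    [LocallyOfFinitePresentation h] (s : S) (t₀ : ↥(h.fiber s))
    (hz : t₀ ∈ (h.fiberToSpecResidueField s).smoothLocus) :
    h.fiberι s t₀ ∈ h.smoothLocus := by
  obtain ⟨t, ht⟩ : ∃ t : Y, t = h.fiberι s t₀ := ⟨_, rfl⟩
  have hs : h t = s := by
    have h0 : t ∈ h ⁻¹' {s} := by
      rw [← h.range_fiberι s, ht]; exact ⟨t₀, rfl⟩
    exact h0
  rw [← ht]
  subst hs
  have ht₀ : t₀ = h.asFiber t := by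
    apply (h.fiberι (h t)).isEmbedding.injective
    rw [← ht, h.fiberι_asFiber]
  subst ht₀
  haveI : LocallyOfFinitePresentation (h.fiberToSpecResidueField (h t)) :=
    inferInstanceAs (LocallyOfFinitePresentation (pullback.snd h (S.fromSpecResidueField (h t))))
  exact (Groth.Agent.Helper2.FiberSmooth2.mem_smoothLocus_iff_flat_and_fiber h t).2
    ⟨Flat.stalkMap h t, hz⟩

set_option maxHeartbeats 1600000 in
/-- the quasi-compact quasi-separated case of S1361 -/
theorem s1361_qcqs {X S : Scheme.{u}} (f : X ⟶ S) [Flat f] [LocallyOfFinitePresentation f]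
    [QuasiCompact f] [QuasiSeparated f] [GeometricallyReduced f] (x : X) :
    ∃ (S' : Scheme.{u}) (g : S' ⟶ S) (X' : (pullback f g).Opens), Etale g ∧
      x ∈ Set.range ⇑(X'.ι ≫ pullback.fst f g) ∧
      QuasiCompact (X'.ι ≫ pullback.snd f g) ∧
      GeometricallyConnected (X'.ι ≫ pullback.snd f g) := by
  obtain ⟨s, hs⟩ : ∃ s : S, s = f x := ⟨_, rfl⟩
  -- the fibre through `x`
  haveI : IsLocallyNoetherian (f.fiber s) := Groth.Agent.Helper5.GenDim.isLocallyNoetherian_fiber f s
  haveI : IsNoetherian (f.fiber s) := {}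
  obtain ⟨xt, hxt⟩ : ∃ xt : ↥(f.fiber s), f.fiberι s xt = x := by
    have h0 : x ∈ Set.range (f.fiberι s) := by
      rw [f.range_fiberι s]; exact hs.symm
    exact h0
  obtain ⟨T, hT⟩ : ∃ T : (f.fiber s).Opens, (T : Set ↥(f.fiber s)) = connectedComponent xt :=
    ⟨⟨_, Groth.Agent.Helper1.FinCondTop.isOpen_connectedComponent_of_noetherian xt⟩, rfl⟩
  have hTne : (T : Set ↥(f.fiber s)).Nonempty := ⟨xt, by rw [hT]; exact mem_connectedComponent⟩
  obtain ⟨t₀, ht₀T, ht₀sm, -⟩ := exists_closed_smooth_point f s T hTne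
  obtain ⟨OY, hOY⟩ : ∃ OY : X.Opens, (f.fiberι s) ⁻¹ᵁ OY = T := by
    obtain ⟨O', hO', hO'e⟩ := (f.fiberι s).isEmbedding.isInducing.isOpen_iff.1 T.isOpen
    exact ⟨⟨O', hO'⟩, Opens.ext hO'e⟩
  have hmemOY : ∀ τ : ↥(f.fiber s), f.fiberι s τ ∈ OY ↔ τ ∈ connectedComponent xt := by
    intro τ
    have : τ ∈ (f.fiberι s) ⁻¹ᵁ OY ↔ τ ∈ (T : Set ↥(f.fiber s)) := by rw [hOY]; rfl
    rw [hT] at this
    exact this
  -- the smooth part near the component
  obtain ⟨W, hW⟩ : ∃ W : X.Opens, W = f.smoothLocus ⊓ OY := ⟨_, rfl⟩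
  have hWsm : Smooth (W.ι ≫ f) :=
    Groth.Agent.Helper5.GNS.smooth_ι_comp_of_le_smoothLocus f W (by rw [hW]; exact inf_le_left)
  have hWle : ∀ w : X, w ∈ W → w ∈ OY := by
    intro w hw
    rw [hW] at hw
    exact hw.2
  have hWO : ∀ w : ↥W, W.ι w ∈ OY := fun w => hWle _ w.2
  have hsW : s ∈ Set.range ⇑(W.ι ≫ f) := by
    have h1 : f.fiberι s t₀ ∈ W := by
      rw [hW]
      refine ⟨mem_smoothLocus_of_smooth_fiber_point f s t₀ ht₀sm, ?_⟩
      exact (hmemOY t₀).2 (by rw [← hT]; exact ht₀T)
    refine ⟨⟨f.fiberι s t₀, h1⟩, ?_⟩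
    rw [Scheme.Hom.comp_apply]
    have h0 : f.fiberι s t₀ ∈ f ⁻¹' {s} := by
      rw [← f.range_fiberι s]; exact ⟨t₀, rfl⟩
    exact h0
  -- the étale quasi-section
  obtain ⟨S', g, s', hget, hgs, hsec, hsecf⟩ :=
    Groth.Agent.Helper3.SmoothEtSec.main (W.ι ≫ f) s hsW
  haveI := hget
  subst hgs
  obtain ⟨σY, hσY⟩ : ∃ σY : S' ⟶ X, σY = hsec ≫ W.ι := ⟨_, rfl⟩
  have hσYf : σY ≫ f = g := by rw [hσY, Category.assoc]; exact hsecf
  obtain ⟨q, hq⟩ : ∃ q : pullback f g ⟶ S', q = pullback.snd f g := ⟨_, rfl⟩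
  obtain ⟨p, hp⟩ : ∃ p : pullback f g ⟶ X, p = pullback.fst f g := ⟨_, rfl⟩
  obtain ⟨σ, hσ⟩ : ∃ σ : S' ⟶ pullback f g, σ = sec f g σY hσYf := ⟨_, rfl⟩
  have hσq : σ ≫ q = 𝟙 S' := by rw [hσ, hq]; exact sec_snd f g σY hσYf
  have hσp : σ ≫ p = σY := by rw [hσ, hp]; exact sec_fst f g σY hσYf
  have hσqa : ∀ z : S', q (σ z) = z := by
    intro z
    rw [← Scheme.Hom.comp_apply, hσq]; rfl
  haveI : Flat q := by rw [hq]; infer_instance
  haveI : LocallyOfFinitePresentation q := by rw [hq]; infer_instance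
  haveI : QuasiCompact q := by rw [hq]; infer_instance
  haveI : QuasiSeparated q := by rw [hq]; infer_instance
  haveI : GeometricallyReduced q := by rw [hq]; infer_instance
  have hSCo : IsOpen (MoreMor.sectionComponents q σ) := isOpen_sectionComponents q σ hσq
  have hSClc : IsLocallyConstructible (MoreMor.sectionComponents q σ) :=
    Groth.Agent.Helper5.SecComp.s1326 q σ hσq
  obtain ⟨X', hX'⟩ : ∃ X' : (pullback f g).Opens,
    (X' : Set ↥(pullback f g)) = MoreMor.sectionComponents q σ := ⟨⟨_, hSCo⟩, rfl⟩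
  refine ⟨S', g, X', hget, ?_, ?_, ?_⟩
  · -- `x` is in the image
    -- the map on fibres
    have H := isPullback_fiberToSpecResidueField_of_isPullback
      (IsPullback.of_hasPullback f g) s'
    obtain ⟨ψ, hψfst, H'⟩ : ∃ ψ : (pullback.snd f g).fiber s' ⟶ f.fiber (g s'),
        ψ ≫ f.fiberι (g s') = (pullback.snd f g).fiberι s' ≫ pullback.fst f g ∧
        IsPullback ψ ((pullback.snd f g).fiberToSpecResidueField s')
          (f.fiberToSpecResidueField (g s')) (Spec.map (g.residueFieldMap s')) :=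
      ⟨_, pullback.lift_fst _ _ _, H⟩
    have hσp' : σ ≫ pullback.fst f g = σY := by rw [← hp]; exact hσp
    haveI : LocallyQuasiFinite g := Groth.Agent.Helper4.SchLQF.locallyQuasiFinite_of_etale g
    haveI : IsFinite (Spec.map (g.residueFieldMap s')) := by
      rw [IsFinite.SpecMap_iff]
      exact Groth.Agent.Helper5.PbFibre.finite_residueFieldMap_of_lqf g s'
    haveI : IsFinite ψ := MorphismProperty.of_isPullback H'.flip inferInstance
    haveI : UniversallyOpen ψ := MorphismProperty.of_isPullback H'.flip inferInstance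
    have hψo : IsOpenMap ψ := ψ.isOpenMap
    have hψc : IsClosedMap ψ := ψ.isClosedMap
    haveI : IsLocallyNoetherian ((pullback.snd f g).fiber s') :=
      Groth.Agent.Helper5.GenDim.isLocallyNoetherian_fiber (pullback.snd f g) s'
    haveI : IsNoetherian ((pullback.snd f g).fiber s') := {}
    -- the section point in the fibre
    obtain ⟨zt, hzt⟩ : ∃ zt : ↥((pullback.snd f g).fiber s'),
        (pullback.snd f g).fiberι s' zt = σ s' := by
      have h0 : σ s' ∈ Set.range ((pullback.snd f g).fiberι s') := by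
        rw [(pullback.snd f g).range_fiberι s', ← hq]; exact hσqa s'
      exact h0
    have hD : IsClopen (connectedComponent zt) :=
      ⟨isClosed_connectedComponent,
        Groth.Agent.Helper1.FinCondTop.isOpen_connectedComponent_of_noetherian zt⟩
    have hψD : IsClopen (ψ '' connectedComponent zt) := ⟨hψc _ hD.1, hψo _ hD.2⟩
    have hψzt : ψ zt ∈ connectedComponent xt := by
      rw [← hmemOY, ← Scheme.Hom.comp_apply, hψfst, Scheme.Hom.comp_apply, hzt,
        ← Scheme.Hom.comp_apply, hσp', hσY, Scheme.Hom.comp_apply]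
      exact hWO _
    have hsub : connectedComponent xt ⊆ ψ '' connectedComponent zt :=
      isPreconnected_connectedComponent.subset_isClopen hψD
        ⟨ψ zt, hψzt, zt, mem_connectedComponent, rfl⟩
    obtain ⟨d, hd, hdx⟩ := hsub mem_connectedComponent
    have hξ : (pullback.snd f g).fiberι s' d ∈ X' := by
      show _ ∈ (X' : Set ↥(pullback f g))
      rw [hX']
      have hqd : q ((pullback.snd f g).fiberι s' d) = s' := by
        have h0 : (pullback.snd f g).fiberι s' d ∈ (pullback.snd f g) ⁻¹' {s'} := by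
          rw [← (pullback.snd f g).range_fiberι s']; exact ⟨d, rfl⟩
        rw [hq]; exact h0
      rw [Groth.Agent.Helper5.SecNb.mem_sectionComponents_iff q σ hqd]
      have himg : _root_.IsPreconnected ((pullback.snd f g).fiberι s' '' connectedComponent zt) :=
        isPreconnected_connectedComponent.image _
          ((pullback.snd f g).fiberι s').continuous.continuousOn
      refine himg.subset_connectedComponentIn ⟨zt, mem_connectedComponent, hzt⟩ ?_ ⟨d, hd, rfl⟩
      rintro _ ⟨e, -, rfl⟩
      have h0 : (pullback.snd f g).fiberι s' e ∈ (pullback.snd f g) ⁻¹' {s'} := by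
        rw [← (pullback.snd f g).range_fiberι s']; exact ⟨e, rfl⟩
      rw [hq]; exact h0
    refine ⟨⟨(pullback.snd f g).fiberι s' d, hξ⟩, ?_⟩
    rw [Scheme.Hom.comp_apply]
    show pullback.fst f g ((pullback.snd f g).fiberι s' d) = x
    rw [← Scheme.Hom.comp_apply, ← hψfst, Scheme.Hom.comp_apply, hdx]
    exact hxt
  · -- quasi-compactness
    haveI : QuasiCompact X'.ι := by
      refine ⟨fun U hU hUc => ?_⟩
      have hretro : IsRetrocompact (X' : Set ↥(pullback f g)) := by
        rw [hX']
        exact Groth.Agent.Helper5.FibDp.isRetrocompact_of_isLocallyConstructible _ hSClc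
      have h1 : IsCompact ((X' : Set ↥(pullback f g)) ∩ U) := hretro hUc hU
      have h2 : X'.ι ⁻¹' U = X'.ι ⁻¹' ((X' : Set ↥(pullback f g)) ∩ U) := by
        ext η
        constructor
        · intro hη
          exact ⟨η.2, hη⟩
        · intro hη
          exact hη.2
      rw [h2]
      exact X'.ι.isEmbedding.isInducing.isCompact_preimage' h1
        (by rw [Scheme.Opens.range_ι]; exact Set.inter_subset_left)
    rw [← hq]; infer_instance
  · rw [← hq]
    exact geomConn_sectionComponents q σ hσq X' hX'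

end Groth.Agent.Helper5.GQS
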