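import Mathlib
import Groth.Prelude
import Groth.Agent.Helper5.GQSi

/-!
# GQSj: S1361
-/

set_option autoImplicit false
set_option linter.unusedSectionVars false
set_option linter.unusedVariables false
set_option linter.style.haveILetI false
universe u
open CategoryTheory CategoryTheory.Limits AlgebraicGeometry TopologicalSpace Topology

namespace Groth.Agent.Helper5.GQS

theorem s1361 {X S : Scheme.{u}} (f : X ⟶ S) [Flat f] [LocallyOfFinitePresentation f]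
    [GeometricallyReduced f] (x : X) :
    ∃ (X' S' : Scheme.{u}) (a : X' ⟶ X) (b : X' ⟶ S') (c : S' ⟶ S), Etale a ∧
      x ∈ Set.range ⇑a ∧ Etale c ∧ a ≫ f = b ≫ c ∧
      Flat b ∧ LocallyOfFinitePresentation b ∧ QuasiCompact b ∧ QuasiSeparated b ∧
      GeometricallyConnected b ∧ GeometricallyReduced b := by
  obtain ⟨S₀, hS₀, hxS₀⟩ : ∃ S₀ : S.Opens, IsAffineOpen S₀ ∧ f x ∈ S₀ := by
    obtain ⟨_, ⟨S₀, hS₀, rfl⟩, hx, -⟩ :=
      S.isBasis_affineOpens.exists_subset_of_mem_open (Set.mem_univ (f x)) isOpen_univ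
    exact ⟨S₀, hS₀, hx⟩
  obtain ⟨X₀, hX₀, hxX₀, hle⟩ : ∃ X₀ : X.Opens, IsAffineOpen X₀ ∧ x ∈ X₀ ∧ X₀ ≤ f ⁻¹ᵁ S₀ := by
    obtain ⟨_, ⟨X₀, hX₀, rfl⟩, hx, hsub⟩ :=
      X.isBasis_affineOpens.exists_subset_of_mem_open (show x ∈ (f ⁻¹ᵁ S₀ : Set X) from hxS₀)
        (f ⁻¹ᵁ S₀).isOpen
    exact ⟨X₀, hX₀, hx, hsub⟩
  obtain ⟨f₀, hf₀d⟩ : ∃ f₀ : (X₀ : Scheme.{u}) ⟶ (S₀ : Scheme.{u}), f₀ = f.resLE S₀ X₀ hle :=
    ⟨_, rfl⟩
  have hf₀ : f₀ ≫ S₀.ι = X₀.ι ≫ f := by rw [hf₀d]; exact Scheme.Hom.resLE_comp_ι f hle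
  haveI : IsAffine (X₀ : Scheme.{u}) := hX₀
  haveI : IsAffine (S₀ : Scheme.{u}) := hS₀
  haveI : Flat f₀ := by rw [hf₀d]; exact IsZariskiLocalAtSource.resLE hle inferInstance
  haveI : LocallyOfFinitePresentation f₀ := by
    rw [hf₀d]; exact IsZariskiLocalAtSource.resLE hle inferInstance
  haveI : QuasiCompact f₀ := (HasAffineProperty.iff_of_isAffine (P := @QuasiCompact)).2 inferInstance
  haveI : QuasiSeparated f₀ := by rw [hf₀d]; infer_instance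
  haveI : GeometricallyReduced f₀ := by
    rw [hf₀d]
    exact Groth.Agent.Helper5.GCI.geometricallyReduced_comp_of_isOpenImmersion
      (X.homOfLE hle) (f ∣_ S₀)
  obtain ⟨S', g, X', hget, ⟨ξ, hξ⟩, hqc, hgc⟩ := s1361_qcqs f₀ ⟨x, hxX₀⟩
  haveI := hget
  refine ⟨X', S', X'.ι ≫ pullback.fst f₀ g ≫ X₀.ι, X'.ι ≫ pullback.snd f₀ g, g ≫ S₀.ι,
    inferInstance, ?_, inferInstance, ?_, inferInstance, inferInstance, hqc, inferInstance, hgc, ?_⟩
  · refine ⟨ξ, ?_⟩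
    rw [← Category.assoc, Scheme.Hom.comp_apply, hξ]
    rfl
  · simp only [Category.assoc]
    rw [← hf₀, pullback.condition_assoc]
  · exact Groth.Agent.Helper5.GCI.geometricallyReduced_comp_of_isOpenImmersion X'.ι
      (pullback.snd f₀ g)

end Groth.Agent.Helper5.GQS
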