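import Mathlib

set_option autoImplicit false
universe u
open CategoryTheory CategoryTheory.Limits AlgebraicGeometry Opposite

namespace Groth.Agent.Helper5.GRed

/-- A reduced scheme over a field which receives a dominant quasi-compact morphism from a
geometrically reduced scheme is geometrically reduced. -/
theorem geometricallyReduced_of_dominant {k : Type u} [Field k] {Z D : Scheme.{u}}
    (g : Z ⟶ Spec (CommRingCat.of k)) (j : D ⟶ Z) [IsReduced Z] [IsDominant j] [QuasiCompact j]
    [GeometricallyReduced (j ≫ g)] : GeometricallyReduced g := by
  refine ⟨fun K _ y T fst snd h => ?_⟩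
  haveI : IsSchemeTheoreticallyDominant j := .of_isDominant j
  haveI : Flat y := by
    obtain ⟨φ, rfl⟩ := Spec.map_surjective y
    rw [Flat.SpecMap_iff]
    algebraize [φ.hom]
    exact (RingHom.flat_algebraMap_iff).mpr inferInstance
  haveI : Flat fst := MorphismProperty.of_isPullback (P := @Flat) h.flip inferInstance
  have hsq : IsPullback (pullback.snd fst j) (pullback.fst fst j ≫ snd) (j ≫ g) y :=
    (IsPullback.of_hasPullback fst j).flip.paste_vert h
  haveI : IsReduced (pullback fst j) :=
    GeometricallyReduced.geometrically_isReduced (f := j ≫ g) y _ _ hsq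
  exact IsSchemeTheoreticallyDominant.isReduced (pullback.fst fst j)

end Groth.Agent.Helper5.GRed
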