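import Mathlib

set_option autoImplicit false
universe u
open CategoryTheory CategoryTheory.Limits AlgebraicGeometry Opposite

namespace Groth.Agent.Helper5.GRed

/-- A scheme with finitely many irreducible components has a quasi-compact dense open. -/
theorem exists_compact_dense_open (X : Scheme.{u}) (hirr : (irreducibleComponents X).Finite) :
    ∃ W : X.Opens, IsCompact (W : Set X) ∧ Dense (W : Set X) := by
  haveI : Finite (irreducibleComponents X) := hirr.to_subtype
  have key : ∀ T : irreducibleComponents X, ∃ U : X.Opens, IsAffineOpen U ∧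
      T.2.1.genericPoint ∈ U := by
    intro T
    obtain ⟨_, ⟨U, hU, rfl⟩, hxU, -⟩ := X.isBasis_affineOpens.exists_subset_of_mem_open
      (Set.mem_univ T.2.1.genericPoint) isOpen_univ
    exact ⟨U, hU, hxU⟩
  choose U hU hxU using key
  refine ⟨⨆ T, U T, ?_, ?_⟩
  · rw [TopologicalSpace.Opens.coe_iSup]
    exact isCompact_iUnion fun T => (hU T).isCompact
  · rw [dense_iff_closure_eq, Set.eq_univ_iff_forall]
    intro x
    obtain ⟨T, hT, hxT⟩ : ∃ T ∈ irreducibleComponents X, x ∈ T :=
      ⟨irreducibleComponent x, irreducibleComponent_mem_irreducibleComponents x,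
        mem_irreducibleComponent⟩
    have hcl : IsClosed T := isClosed_of_mem_irreducibleComponents T hT
    have hgen : closure {(hT.1.genericPoint)} = T := by
      have := hT.1.isGenericPoint_genericPoint_closure
      rw [hcl.closure_eq] at this
      exact this
    have hmem : hT.1.genericPoint ∈ ((⨆ T, U T : X.Opens) : Set X) := by
      rw [TopologicalSpace.Opens.coe_iSup]
      exact Set.mem_iUnion.mpr ⟨⟨T, hT⟩, hxU ⟨T, hT⟩⟩
    have : T ⊆ closure ((⨆ T, U T : X.Opens) : Set X) := by
      rw [← hgen]
      exact closure_mono (Set.singleton_subset_iff.mpr hmem)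
    exact this hxT

end Groth.Agent.Helper5.GRed
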