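import Groth.Agent.Helper5.GRedA
import Groth.Agent.Helper5.GRedB
import Groth.Agent.Helper5.GPIM
import Groth.Agent.Helper8.NGC3
import Groth.Agent.S2769
import Groth.Agent.S4370
import Mathlib

set_option autoImplicit false
universe u
open CategoryTheory CategoryTheory.Limits AlgebraicGeometry Opposite

namespace Groth.Agent.Helper5.GRed

theorem nilradical_le_ker {T B : Scheme.{u}} (j₀ : T ⟶ B) [IsReduced T] [QuasiCompact j₀] :
    B.nilradical ≤ j₀.ker := by
  intro U
  rw [Scheme.Hom.ker_apply]
  intro x hx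
  rw [RingHom.mem_ker]
  have hx' : x ∈ (⊥ : Ideal Γ(B, U.1)).radical := hx
  have hnil : IsNilpotent x := by
    obtain ⟨n, hn⟩ := hx'
    exact ⟨n, by simpa using hn⟩
  exact (hnil.map (j₀.app U.1).hom).eq_zero

/-- A quasi-compact morphism with dense range from a reduced scheme into `B` induces a
dominant quasi-compact morphism to `B_red`. -/
theorem exists_lift_nilradical {T B : Scheme.{u}} (j₀ : T ⟶ B) [IsReduced T] [QuasiCompact j₀]
    (hd : DenseRange j₀) :
    ∃ j : T ⟶ B.nilradical.subscheme, j ≫ B.nilradical.subschemeι = j₀ ∧ IsDominant j := by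
  have hle : B.nilradical.subschemeι.ker ≤ j₀.ker := by
    rw [Scheme.IdealSheafData.ker_subschemeι]; exact nilradical_le_ker j₀
  refine ⟨IsClosedImmersion.lift B.nilradical.subschemeι j₀ hle,
    IsClosedImmersion.lift_fac _ _ _, ⟨?_⟩⟩
  set j := IsClosedImmersion.lift B.nilradical.subschemeι j₀ hle with hj
  have hfac : j ≫ B.nilradical.subschemeι = j₀ := IsClosedImmersion.lift_fac _ _ _
  rw [DenseRange, dense_iff_closure_eq, Set.eq_univ_iff_forall]
  intro z
  have hcl : Topology.IsClosedEmbedding B.nilradical.subschemeι :=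
    B.nilradical.subschemeι.isClosedEmbedding
  have h1 : B.nilradical.subschemeι z ∈ closure (Set.range j₀) := hd _
  rw [← hfac, Scheme.Hom.comp_base, TopCat.coe_comp, Set.range_comp,
    hcl.closure_image_eq] at h1
  obtain ⟨z', hz', hzz'⟩ := h1
  rwa [← hcl.injective hzz']

end Groth.Agent.Helper5.GRed
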