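import Mathlib
import Groth.Prelude
import Groth.Agent.Helper5.GRegF
import Groth.Agent.Helper5.GRegH
import Groth.Agent.Helper5.FlatCodescent

/-!
# GRegI: regular morphisms and fppf base change
-/

set_option autoImplicit false
set_option linter.style.haveILetI false
set_option linter.unusedSectionVars false
set_option linter.unusedVariables false
universe u

namespace Groth.Agent.Helper5.GReg

open CategoryTheory CategoryTheory.Limits AlgebraicGeometry TopologicalSpace TensorProduct

variable {X Y X' Y' : Scheme.{u}} (f : X ⟶ Y) (f' : X' ⟶ Y') (g' : X' ⟶ X) (g : Y' ⟶ Y)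
  (hc : IsPullback g' f' f g)

include hc in
theorem fiber_bc [LocallyOfFiniteType g] (y' : Y') :
    (IsLocallyNoetherian (f'.fiber y') ↔ IsLocallyNoetherian (f.fiber (g y'))) ∧
    (IsLocallyNoetherian (f.fiber (g y')) →
      (GRM (f'.fiberToSpecResidueField y') ↔ GRM (f.fiberToSpecResidueField (g y')))) := by
  letI : Algebra (Y.residueField (g y')) (Y'.residueField y') :=
    (g.residueFieldMap y').hom.toAlgebra
  haveI : Algebra.EssFiniteType (Y.residueField (g y')) (Y'.residueField y') :=
    RingHom.EssFiniteType.residueFieldMap (LocallyOfFiniteType.stalkMap g y')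
  let t : Spec (Y'.residueField y') ⟶ Spec (Y.residueField (g y')) :=
    Spec.map (CommRingCat.ofHom (algebraMap (Y.residueField (g y')) (Y'.residueField y')))
  have sq : IsPullback (f'.fiberToSpecResidueField y') _ t (f.fiberToSpecResidueField (g y')) :=
    (isPullback_fiberToSpecResidueField_of_isPullback hc y').flip
  let e : f'.fiber y' ≅ pullback t (f.fiberToSpecResidueField (g y')) := sq.isoPullback
  have he : e.hom ≫ pullback.fst t (f.fiberToSpecResidueField (g y')) =
      f'.fiberToSpecResidueField y' := sq.isoPullback_hom_fst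
  refine ⟨(ln_iff_of_iso e).trans (ln_bc_iff (Y.residueField (g y')) (Y'.residueField y')
    (f.fiberToSpecResidueField (g y'))), ?_⟩
  intro hN
  have h1 : GRM (f'.fiberToSpecResidueField y') ↔
      GRM (pullback.fst t (f.fiberToSpecResidueField (g y'))) :=
    ⟨fun h => grm_of_arrowIso _ _ e (Iso.refl _) (by simp [he]) h,
     fun h => grm_of_arrowIso _ _ e.symm (Iso.refl _) (by simp [← he]) h⟩
  exact h1.trans (grm_bc_iff (Y.residueField (g y')) (Y'.residueField y')
    (f.fiberToSpecResidueField (g y')))

include hc in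
theorem regular_bc_iff [Flat g] [LocallyOfFinitePresentation g] [Surjective g] :
    ((∀ y : Y, IsLocallyNoetherian (f.fiber y)) ∧
      (Flat f ∧ ∀ y : Y, GRM (f.fiberToSpecResidueField y))) ↔
    ((∀ y' : Y', IsLocallyNoetherian (f'.fiber y')) ∧
      (Flat f' ∧ ∀ y' : Y', GRM (f'.fiberToSpecResidueField y'))) := by
  have hQ : (@Surjective ⊓ @Flat ⊓ @LocallyOfFinitePresentation : MorphismProperty Scheme.{u}) g :=
    ⟨⟨inferInstance, inferInstance⟩, inferInstance⟩
  have hflat : Flat f' ↔ Flat f :=
    MorphismProperty.iff_of_isPullback (P := @Flat) hc.flip hQ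
  constructor
  · rintro ⟨hN, hfl, hG⟩
    refine ⟨fun y' => (fiber_bc f f' g' g hc y').1.mpr (hN _), hflat.mpr hfl, fun y' => ?_⟩
    exact ((fiber_bc f f' g' g hc y').2 (hN _)).mpr (hG _)
  · rintro ⟨hN, hfl, hG⟩
    have hN' : ∀ y : Y, IsLocallyNoetherian (f.fiber y) := by
      intro y
      obtain ⟨y', rfl⟩ := g.surjective y
      exact (fiber_bc f f' g' g hc y').1.mp (hN _)
    refine ⟨hN', hflat.mp hfl, fun y => ?_⟩
    obtain ⟨y', rfl⟩ := g.surjective y
    exact ((fiber_bc f f' g' g hc y').2 (hN' _)).mp (hG _)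

end Groth.Agent.Helper5.GReg
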