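import Groth.Agent.Helper5.GSSa
import Groth.Agent.S2769
import Groth.Agent.Helper8.StabPts

set_option autoImplicit false
set_option linter.style.haveILetI false
universe u
open CategoryTheory CategoryTheory.Limits AlgebraicGeometry Opposite TopologicalSpace

namespace Groth.Agent.Helper5.GSS

theorem exists_common_ext (k : Type u) [Field k] (k₁ k₂ : Type u) [Field k₁] [Field k₂]
    [Algebra k k₁] [Algebra k k₂] [FiniteDimensional k k₁] [FiniteDimensional k k₂]
    [IsPurelyInseparable k k₁] [IsPurelyInseparable k k₂] :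
    ∃ (k' : Type u) (_ : Field k') (_ : Algebra k k') (_ : FiniteDimensional k k')
      (_ : IsPurelyInseparable k k') (_ : k₁ →ₐ[k] k') (_ : k₂ →ₐ[k] k'), True := by
  let Ω := AlgebraicClosure k
  let ψ₁ : k₁ →ₐ[k] Ω := IsAlgClosed.lift
  let ψ₂ : k₂ →ₐ[k] Ω := IsAlgClosed.lift
  let e₁ : k₁ ≃ₐ[k] ψ₁.fieldRange := AlgEquiv.ofInjectiveField ψ₁
  let e₂ : k₂ ≃ₐ[k] ψ₂.fieldRange := AlgEquiv.ofInjectiveField ψ₂
  haveI : FiniteDimensional k ψ₁.fieldRange := e₁.toLinearEquiv.finiteDimensional
  haveI : FiniteDimensional k ψ₂.fieldRange := e₂.toLinearEquiv.finiteDimensional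
  haveI : IsPurelyInseparable k ψ₁.fieldRange := e₁.isPurelyInseparable
  haveI : IsPurelyInseparable k ψ₂.fieldRange := e₂.isPurelyInseparable
  refine ⟨↥(ψ₁.fieldRange ⊔ ψ₂.fieldRange), inferInstance, inferInstance, inferInstance,
    inferInstance, ?_, ?_, trivial⟩
  · exact (IntermediateField.inclusion le_sup_left).comp e₁.toAlgHom
  · exact (IntermediateField.inclusion le_sup_right).comp e₂.toAlgHom

/-- Preimage of a closed subset under a morphism of schemes. -/
noncomputable abbrev pre {X' X : Scheme.{u}} (π : X' ⟶ X) (A : Closeds X) : Closeds X' :=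
  A.preimage π.continuous

/-- Transfer of smoothness to the stratum along an immersion from a reduced scheme with the
right range. -/
theorem smooth_stratum_of_preimmersion {Y S T : Scheme.{u}} (σ : Y ⟶ S) (A B : Closeds Y)
    (j : T ⟶ Y) [IsPreimmersion j] [IsReduced T] (hj : Set.range j = (A : Set Y) \ B)
    (hs : Smooth (j ≫ σ)) : Smooth (stratumι Y A B ≫ σ) := by
  obtain ⟨e, he⟩ := exists_iso_stratum A B j hj
  have h : stratumι Y A B ≫ σ = e.inv ≫ j ≫ σ := by
    rw [← he, ← Category.assoc, ← Category.assoc, Iso.inv_hom_id, Category.id_comp]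
  rw [h]
  infer_instance

/-- The stratum `A \ B` (with its reduced structure), base changed along `s` as a set, is
smooth over the new base. -/
def StrG {X S S' : Scheme.{u}} (f : X ⟶ S) (s : S' ⟶ S) (A B : Closeds X) : Prop :=
  Smooth (stratumι (pullback f s) (pre (pullback.fst f s) A) (pre (pullback.fst f s) B) ≫
    pullback.snd f s)

/-- Base enlargement. -/
theorem StrG.of_comp {X S S₁ S' : Scheme.{u}} (f : X ⟶ S) (s₁ : S₁ ⟶ S) (s' : S' ⟶ S)
    (t : S' ⟶ S₁) (hts : t ≫ s₁ = s') [IsReduced S'] {A B : Closeds X} (h : StrG f s₁ A B) :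
    StrG f s' A B := by
  unfold StrG at h ⊢
  -- the comparison morphism
  obtain ⟨q, hq⟩ : ∃ q : pullback f s' ⟶ pullback f s₁,
      q = pullback.map f s' f s₁ (𝟙 X) t (𝟙 _) (by simp) (by simp [hts]) := ⟨_, rfl⟩
  have hq1 : q ≫ pullback.fst f s₁ = pullback.fst f s' := by
    rw [hq, pullback.lift_fst, Category.comp_id]
  have hq2 : q ≫ pullback.snd f s₁ = pullback.snd f s' ≫ t := by
    rw [hq, pullback.lift_snd]
  have sqR : IsPullback q (pullback.snd f s') (pullback.snd f s₁) t := by
    refine IsPullback.of_right ?_ hq2 (IsPullback.of_hasPullback f s₁)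
    rw [hq1, hts]
    exact IsPullback.of_hasPullback f s'
  obtain ⟨sι, hsι⟩ : ∃ sι, sι = stratumι (pullback f s₁) (pre (pullback.fst f s₁) A)
      (pre (pullback.fst f s₁) B) := ⟨_, rfl⟩
  rw [← hsι] at h
  haveI : IsPreimmersion sι := by rw [hsι]; infer_instance
  have hrs : Set.range sι = pullback.fst f s₁ ⁻¹' ((A : Set X) \ B) := by
    rw [hsι, range_stratumι]; rfl
  have sqL : IsPullback (pullback.snd sι q) (pullback.fst sι q) q sι :=
    (IsPullback.of_hasPullback sι q).flip
  have sqB : IsPullback (pullback.fst sι q) (pullback.snd sι q ≫ pullback.snd f s')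
      (sι ≫ pullback.snd f s₁) t := (sqL.paste_horiz sqR.flip).flip
  have hsm : Smooth (pullback.snd sι q ≫ pullback.snd f s') :=
    MorphismProperty.of_isPullback sqB h
  haveI : IsReduced (pullback sι q) :=
    Groth.Agent.Helper8.StabPts.isReduced_of_smooth (pullback.snd sι q ≫ pullback.snd f s')
  refine smooth_stratum_of_preimmersion (pullback.snd f s') _ _ (pullback.snd sι q) ?_ hsm
  rw [Scheme.Pullback.range_snd, hrs, ← Set.preimage_comp, ← TopCat.coe_comp,
    ← Scheme.Hom.comp_base, hq1]
  rfl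

variable {k : Type u} [Field k] {X : Scheme.{u}} (f : X ⟶ Spec (CommRingCat.of k))

/-- The stratum `A \ B` (with its reduced structure), base changed to `k'` as a set, is smooth
over `k'`. -/
def Str (k' : Type u) [Field k'] [Algebra k k'] (A B : Closeds X) : Prop :=
  StrG f (Spec.map (CommRingCat.ofHom (algebraMap k k'))) A B

/-- Field enlargement. -/
theorem Str.of_algHom {k₁ k' : Type u} [Field k₁] [Field k'] [Algebra k k₁] [Algebra k k']
    (φ : k₁ →ₐ[k] k') {A B : Closeds X} (h : Str f k₁ A B) : Str f k' A B := by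
  refine StrG.of_comp f _ _ (Spec.map (CommRingCat.ofHom φ.toRingHom)) ?_ h
  rw [← Spec.map_comp, ← CommRingCat.ofHom_comp]
  congr 2
  exact φ.comp_algebraMap

end Groth.Agent.Helper5.GSS
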