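import Groth.Agent.Helper5.GSSb

set_option autoImplicit false
set_option linter.style.haveILetI false
universe u
open CategoryTheory CategoryTheory.Limits AlgebraicGeometry Opposite TopologicalSpace

namespace Groth.Agent.Helper5.GSS

theorem StrG.of_cover {X S S' Z XD : Scheme.{u}} (f : X ⟶ S) (s : S' ⟶ S) (D D' : Closeds X)
    (ιD : XD ⟶ X) [IsClosedImmersion ιD] (U : XD.Opens)
    (hdiff : (D : Set X) \ D' = ιD '' (U : Set XD)) [IsReduced Z]
    (i : Z ⟶ pullback (U.ι ≫ ιD ≫ f) s) [IsClosedImmersion i]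
    (his : Function.Surjective i) (hsm : Smooth (i ≫ pullback.snd (U.ι ≫ ιD ≫ f) s)) :
    StrG f s D D' := by
  unfold StrG
  have e₁ : U.ι ≫ ιD ≫ f = (U.ι ≫ ιD) ≫ f := (Category.assoc _ _ _).symm
  have e₂ : s = 𝟙 _ ≫ s := (Category.id_comp _).symm
  obtain ⟨m, hm⟩ : ∃ m, m = pullback.map (U.ι ≫ ιD ≫ f) s f s (U.ι ≫ ιD) (𝟙 _) (𝟙 _)
    ((Category.comp_id _).trans e₁) ((Category.comp_id _).trans e₂) := ⟨_, rfl⟩
  haveI : IsPreimmersion m := by
    rw [hm]
    exact MorphismProperty.pullbackMap (P := @IsPreimmersion) inferInstance inferInstance e₁ e₂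
  have hm2 : m ≫ pullback.snd f s = pullback.snd (U.ι ≫ ιD ≫ f) s := by
    rw [hm, pullback.lift_snd, Category.comp_id]
  have hrm : Set.range m = pullback.fst f s ⁻¹' ((D : Set X) \ D') := by
    rw [hm, Scheme.Pullback.range_map, hdiff]
    simp only [Scheme.Hom.id_base, TopCat.hom_id, ContinuousMap.coe_id,
      Set.range_id, Set.preimage_univ, Set.inter_univ]
    rw [Scheme.Hom.comp_base, TopCat.coe_comp, Set.range_comp, Scheme.Opens.range_ι]
  refine smooth_stratum_of_preimmersion (pullback.snd f s) _ _ (i ≫ m) ?_ ?_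
  · rw [Scheme.Hom.comp_base, TopCat.coe_comp, Set.range_comp, Set.range_eq_univ.mpr his,
      Set.image_univ, hrm]
    rfl
  · rw [Category.assoc, hm2]
    exact hsm

variable {k : Type u} [Field k] {X : Scheme.{u}} (f : X ⟶ Spec (CommRingCat.of k))

/-- One step: a nonempty closed subset contains a strictly smaller closed subset with smooth
complement after a finite purely inseparable extension. -/
theorem exists_step [LocallyOfFiniteType f] [QuasiCompact f] (D : Closeds X) (hD : D ≠ ⊥) :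
    ∃ (D' : Closeds X) (_ : D' < D) (k' : Type u) (_ : Field k') (_ : Algebra k k')
      (_ : Module.Finite k k') (_ : IsPurelyInseparable k k'), Str f k' D D' := by
  obtain ⟨ιD, hιD⟩ : ∃ ιD, ιD = (Scheme.IdealSheafData.vanishingIdeal D).subschemeι := ⟨_, rfl⟩
  haveI : IsClosedImmersion ιD := hιD ▸ inferInstance
  haveI : IsReduced (Scheme.IdealSheafData.vanishingIdeal D).subscheme := inferInstance
  have hrange : Set.range ιD = D := hιD ▸ range_vanishingIdeal_subschemeι D
  obtain ⟨U, hU, k', _, _, _, _, Z, _, i, hi, his, hsm⟩ := Groth.Agent.S2769.result k (ιD ≫ f)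
  -- the smaller closed subset
  have hcl : IsClosed (ιD '' ((U : Set _)ᶜ)) :=
    ιD.isClosedEmbedding.isClosedMap _ U.isOpen.isClosed_compl
  obtain ⟨D', hD'⟩ : ∃ D' : Closeds X, (D' : Set X) = ιD '' ((U : Set _)ᶜ) := ⟨⟨_, hcl⟩, rfl⟩
  have hinj : Function.Injective ιD := ιD.isClosedEmbedding.injective
  have hdiff : (D : Set X) \ D' = ιD '' (U : Set _) := by
    rw [hD', ← hrange, ← Set.image_univ, ← Set.image_sdiff hinj, Set.sdiff_compl,
      Set.univ_inter]
  have hlt : D' < D := by
    refine lt_of_le_of_ne ?_ ?_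
    · intro x hx
      have hx' : x ∈ ιD '' ((U : Set _)ᶜ) := hD' ▸ hx
      obtain ⟨z, -, rfl⟩ := hx'
      show ιD z ∈ (D : Set X)
      rw [← hrange]; exact ⟨z, rfl⟩
    · intro heq
      have hne : (D : Set X).Nonempty := by
        rw [Set.nonempty_iff_ne_empty]
        intro h0
        exact hD (Closeds.ext h0)
      obtain ⟨x, hx⟩ := hne
      rw [← hrange] at hx
      obtain ⟨z, rfl⟩ := hx
      obtain ⟨u, hu⟩ := hU.nonempty_iff.mpr ⟨z⟩
      have : ιD u ∈ (D : Set X) \ D' := by rw [hdiff]; exact ⟨u, hu, rfl⟩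
      rw [heq] at this
      exact this.2 this.1
  refine ⟨D', hlt, k', inferInstance, inferInstance, inferInstance, inferInstance, ?_⟩
  exact StrG.of_cover f _ D D' ιD U hdiff i his hsm

end Groth.Agent.Helper5.GSS
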