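import Mathlib
import Groth.Prelude

/-!
# GSpA: a Noetherian local ring `O` with a regular element `ϖ` such that `O ⧸ ϖ` is reduced, and a
minimal prime `𝔭` such that the maximal ideal is the only prime containing `𝔭` and `ϖ`: then
the maximal ideal is generated by `ϖ`.
-/

set_option autoImplicit false
set_option linter.unusedSectionVars false
set_option linter.unusedVariables false
set_option linter.style.haveILetI false
universe u

namespace Groth.Agent.Helper5.GSp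

open IsLocalRing

/-- Krull: every nonzero element is `ϖ ^ n * a'` with `a' ∉ (ϖ)` -/
theorem exists_eq_pow_mul (O : Type*) [CommRing O] [IsNoetherianRing O] [IsLocalRing O] (ϖ : O)
    (hϖ : ϖ ∈ maximalIdeal O) (a : O) (ha : a ≠ 0) :
    ∃ (n : ℕ) (a' : O), a = ϖ ^ n * a' ∧ a' ∉ Ideal.span {ϖ} := by
  classical
  set P : Ideal O := Ideal.span {ϖ} with hP
  have hPle : P ≤ maximalIdeal O := by
    rw [hP, Ideal.span_singleton_le_iff_mem]; exact hϖ
  have hPtop : P ≠ ⊤ := fun h => (maximalIdeal.isMaximal O).ne_top (top_le_iff.mp (h ▸ hPle))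
  have hkrull : ⨅ i, P ^ i = ⊥ := Ideal.iInf_pow_eq_bot_of_isLocalRing P hPtop
  have hpow : ∀ n : ℕ, P ^ n = Ideal.span {ϖ ^ n} := fun n => Ideal.span_singleton_pow ϖ n
  have hex : ∃ n, a ∉ P ^ n := by
    by_contra hcon
    push Not at hcon
    apply ha
    have : a ∈ ⨅ i, P ^ i := Ideal.mem_iInf.mpr hcon
    rw [hkrull] at this
    exact this
  have hn := Nat.find_spec hex
  have hn0 : Nat.find hex ≠ 0 := by
    intro h0
    rw [h0, pow_zero, Ideal.one_eq_top] at hn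
    exact hn trivial
  obtain ⟨m, hm⟩ := Nat.exists_eq_succ_of_ne_zero hn0
  have hmem : a ∈ P ^ m := by
    by_contra hcon
    have := Nat.find_min' hex hcon
    omega
  rw [hpow, Ideal.mem_span_singleton'] at hmem
  obtain ⟨a', ha'⟩ := hmem
  refine ⟨m, a', by rw [← ha', mul_comm], ?_⟩
  intro ha'P
  rw [Ideal.mem_span_singleton'] at ha'P
  obtain ⟨c, hc⟩ := ha'P
  apply hn
  rw [hm, hpow, Ideal.mem_span_singleton']
  refine ⟨c, ?_⟩
  rw [← ha', ← hc, pow_succ]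
  ring

/-- `O` is reduced when `O ⧸ ϖ` is and `ϖ` is regular -/
theorem isReduced_of_quotient (O : Type*) [CommRing O] [IsNoetherianRing O] [IsLocalRing O] (ϖ : O)
    (hϖ : ϖ ∈ maximalIdeal O) (hreg : IsSMulRegular O ϖ)
    (hred : IsReduced (O ⧸ Ideal.span {ϖ})) : IsReduced O := by
  constructor
  intro x hx
  by_contra hx0
  obtain ⟨n, x', rfl, hx'⟩ := exists_eq_pow_mul O ϖ hϖ x hx0
  apply hx'
  obtain ⟨k, hk⟩ := hx
  have h1 : x' ^ k = 0 := by
    have hr : IsSMulRegular O ((ϖ ^ n) ^ k) := (hreg.pow n).pow k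
    apply hr
    show (ϖ ^ n) ^ k • x' ^ k = (ϖ ^ n) ^ k • 0
    rw [smul_zero, smul_eq_mul, ← mul_pow]
    exact hk
  have h2 : IsNilpotent (Ideal.Quotient.mk (Ideal.span {ϖ}) x') :=
    ⟨k, by rw [← map_pow, h1, map_zero]⟩
  have h3 := hred.eq_zero _ h2
  rwa [Ideal.Quotient.eq_zero_iff_mem] at h3

/-- in a reduced ring, an element of a minimal prime is killed by an element outside it -/
theorem exists_notMem_mul_eq_zero {O : Type*} [CommRing O] [IsReduced O] (𝔭 : Ideal O)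
    (h𝔭 : 𝔭 ∈ minimalPrimes O) (x : O) (hx : x ∈ 𝔭) : ∃ s ∉ 𝔭, s * x = 0 := by
  haveI : 𝔭.IsPrime := Ideal.IsMinimalPrime.isPrime h𝔭
  have h1 := IsLocalization.AtPrime.radical_map_of_mem_minimalPrimes
    (A := Localization.AtPrime 𝔭) 𝔭 ⊥ h𝔭
  rw [Ideal.map_bot] at h1
  have h2 : algebraMap O (Localization.AtPrime 𝔭) x ∈ (⊥ : Ideal (Localization.AtPrime 𝔭)).radical := by
    rw [h1]; exact Ideal.mem_map_of_mem _ hx
  obtain ⟨n, hn⟩ := h2
  rw [Ideal.mem_bot, ← map_pow, IsLocalization.map_eq_zero_iff 𝔭.primeCompl] at hn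
  obtain ⟨s, hs⟩ := hn
  refine ⟨s.1, s.2, ?_⟩
  apply IsReduced.eq_zero
  refine ⟨n + 1, ?_⟩
  calc (s.1 * x) ^ (n + 1) = s.1 ^ n * x * (s.1 * x ^ n) := by ring
    _ = 0 := by rw [hs, mul_zero]

/-- in a reduced Noetherian ring, a minimal prime is killed by an element outside it -/
theorem exists_notMem_forall_mul_eq_zero {O : Type*} [CommRing O] [IsNoetherianRing O]
    [IsReduced O] (𝔭 : Ideal O) (h𝔭 : 𝔭 ∈ minimalPrimes O) :
    ∃ s ∉ 𝔭, ∀ x ∈ 𝔭, s * x = 0 := by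
  haveI : 𝔭.IsPrime := Ideal.IsMinimalPrime.isPrime h𝔭
  have hfg : 𝔭.FG := IsNoetherian.noetherian 𝔭
  suffices H : ∀ J : Ideal O, J.FG → J ≤ 𝔭 → ∃ s ∉ 𝔭, ∀ x ∈ J, s * x = 0 from H 𝔭 hfg le_rfl
  intro J hJ
  induction J, hJ using Submodule.fg_induction with
  | singleton x =>
    intro hx
    have hx' : x ∈ 𝔭 := hx (Submodule.mem_span_singleton_self x)
    obtain ⟨s, hs, hsx⟩ := exists_notMem_mul_eq_zero 𝔭 h𝔭 x hx'
    refine ⟨s, hs, fun y hy => ?_⟩
    obtain ⟨c, rfl⟩ := Submodule.mem_span_singleton.mp hy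
    rw [smul_eq_mul, mul_left_comm, hsx, mul_zero]
  | sup J₁ J₂ _ _ ih₁ ih₂ =>
    intro hJ
    obtain ⟨s₁, hs₁, h₁⟩ := ih₁ (le_sup_left.trans hJ)
    obtain ⟨s₂, hs₂, h₂⟩ := ih₂ (le_sup_right.trans hJ)
    refine ⟨s₁ * s₂, fun h => (Ideal.IsPrime.mem_or_mem inferInstance h).elim hs₁ hs₂, ?_⟩
    intro x hx
    obtain ⟨y, hy, z, hz, rfl⟩ := Submodule.mem_sup.mp hx
    rw [mul_add]
    have e1 : s₁ * s₂ * y = s₂ * (s₁ * y) := by ring
    have e2 : s₁ * s₂ * z = s₁ * (s₂ * z) := by ring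
    rw [e1, e2, h₁ y hy, h₂ z hz, mul_zero, mul_zero, add_zero]

/-- the main local statement -/
theorem maximalIdeal_eq_span (O : Type*) [CommRing O] [IsNoetherianRing O] [IsLocalRing O] (ϖ : O)
    (hϖ : ϖ ∈ maximalIdeal O) (hreg : IsSMulRegular O ϖ)
    (hred : IsReduced (O ⧸ Ideal.span {ϖ}))
    (𝔭 : Ideal O) (h𝔭 : 𝔭 ∈ minimalPrimes O)
    (hmin : ∀ 𝔯 : Ideal O, 𝔯.IsPrime → 𝔭 ≤ 𝔯 → ϖ ∈ 𝔯 → 𝔯 = maximalIdeal O) :
    maximalIdeal O = Ideal.span {ϖ} := by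
  classical
  set P : Ideal O := Ideal.span {ϖ} with hP
  have hPle : P ≤ maximalIdeal O := by
    rw [hP, Ideal.span_singleton_le_iff_mem]; exact hϖ
  haveI : IsReduced O := isReduced_of_quotient O ϖ hϖ hreg hred
  haveI : 𝔭.IsPrime := Ideal.IsMinimalPrime.isPrime h𝔭
  -- the radical of `𝔭 + (ϖ)` is the maximal ideal
  have hrad : (𝔭 ⊔ P).radical = maximalIdeal O := by
    rw [Ideal.radical_eq_sInf]
    apply le_antisymm
    · apply sInf_le
      refine ⟨?_, inferInstance⟩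
      apply sup_le
      · exact le_maximalIdeal (Ideal.IsPrime.ne_top inferInstance)
      · exact hPle
    · apply le_sInf
      rintro 𝔯 ⟨h1, h2⟩
      have := hmin 𝔯 h2 (le_sup_left.trans h1)
        (h1 (Ideal.mem_sup_right (Ideal.mem_span_singleton_self ϖ)))
      rw [this]
  obtain ⟨m, hm⟩ := Ideal.exists_radical_pow_le_of_fg (𝔭 ⊔ P)
    (IsNoetherian.noetherian _)
  rw [hrad] at hm
  -- an element killing `𝔭`
  obtain ⟨a, ha𝔭, ha⟩ := exists_notMem_forall_mul_eq_zero 𝔭 h𝔭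
  have ha0 : a ≠ 0 := fun h => ha𝔭 (h ▸ 𝔭.zero_mem)
  obtain ⟨k, a', rfl, ha'⟩ := exists_eq_pow_mul O ϖ hϖ a ha0
  have ha'𝔭 : ∀ x ∈ 𝔭, a' * x = 0 := by
    intro x hx
    have hr : IsSMulRegular O (ϖ ^ k) := hreg.pow k
    apply hr
    show ϖ ^ k • (a' * x) = ϖ ^ k • 0
    rw [smul_zero, smul_eq_mul, ← mul_assoc]
    exact ha x hx
  -- `a' * 𝔪 ^ m ⊆ P`
  have hex : ∃ j, ∀ c ∈ maximalIdeal O ^ j, a' * c ∈ P := by
    refine ⟨m, fun c hc => ?_⟩
    obtain ⟨y, hy, z, hz, rfl⟩ := Submodule.mem_sup.mp (hm hc)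
    rw [mul_add, ha'𝔭 y hy, zero_add]
    exact P.mul_mem_left _ hz
  have hj := Nat.find_spec hex
  have hj0 : Nat.find hex ≠ 0 := by
    intro h0
    rw [h0, pow_zero, Ideal.one_eq_top] at hj
    apply ha'
    have := hj 1 trivial
    rwa [mul_one] at this
  obtain ⟨j, hjs⟩ := Nat.exists_eq_succ_of_ne_zero hj0
  have hnot : ¬ ∀ c ∈ maximalIdeal O ^ j, a' * c ∈ P := by
    intro hcon
    have := Nat.find_min' hex hcon
    omega
  push Not at hnot
  obtain ⟨c, hc, hb⟩ := hnot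
  -- `b = a' * c ∉ P` and `b * 𝔪 ⊆ P`
  have hb𝔪 : ∀ t ∈ maximalIdeal O, a' * c * t ∈ P := by
    intro t ht
    have hct : c * t ∈ maximalIdeal O ^ (Nat.find hex) := by
      rw [hjs, pow_succ]
      exact Ideal.mul_mem_mul hc ht
    have := hj (c * t) hct
    rwa [← mul_assoc] at this
  have hbunit : IsUnit (a' * c) := by
    by_contra hnu
    have hbm : a' * c ∈ maximalIdeal O := (mem_maximalIdeal _).mpr hnu
    have h1 := hb𝔪 (a' * c) hbm
    apply hb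
    have h2 : IsNilpotent (Ideal.Quotient.mk P (a' * c)) := by
      refine ⟨2, ?_⟩
      rw [← map_pow, Ideal.Quotient.eq_zero_iff_mem, pow_two]
      exact h1
    have h3 := hred.eq_zero _ h2
    rwa [Ideal.Quotient.eq_zero_iff_mem] at h3
  apply le_antisymm _ hPle
  intro t ht
  have h1 := hb𝔪 t ht
  obtain ⟨u, hu⟩ := hbunit
  have : t = (↑u⁻¹ : O) * (a' * c * t) := by
    rw [← hu, ← mul_assoc, Units.inv_mul, one_mul]
  rw [this]
  exact P.mul_mem_left _ h1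

end Groth.Agent.Helper5.GSp
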