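import Mathlib
import Groth.Prelude
import Groth.Agent.Helper5.GPIB

/-!
# GSpB: maximal points, generic points and a comparison of the numbers of irreducible components
-/

set_option autoImplicit false
set_option linter.unusedSectionVars false
set_option linter.unusedVariables false
set_option linter.style.haveILetI false
universe u

namespace Groth.Agent.Helper5.GSp

open TopologicalSpace Topology Groth.Agent.Helper5.GPI

/-- a point with no proper generization -/
def IsMaxPt {F : Type*} [TopologicalSpace F] (x : F) : Prop := ∀ x' : F, x' ⤳ x → x' = x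

theorem mem_genericPoints_iff {F : Type*} [TopologicalSpace F] [QuasiSober F] [T0Space F] (x : F) :
    x ∈ genericPoints F ↔ IsMaxPt x := by
  constructor
  · intro hx x' hx'
    have h1 : closure {x} ⊆ closure {x'} := by
      apply closure_minimal _ isClosed_closure
      rw [Set.singleton_subset_iff]
      exact hx'.mem_closure
    have h2 : closure {x} = closure {x'} :=
      hx.eq_of_subset (isIrreducible_singleton.closure) h1
    have h3 : x ⤳ x' := by
      rw [specializes_iff_mem_closure, h2]
      exact subset_closure rfl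
    exact (hx'.antisymm h3).eq
  · intro hx
    have hirr : IsIrreducible (closure {x}) := isIrreducible_singleton.closure
    obtain ⟨C, hC, hxC⟩ := exists_mem_irreducibleComponents_subset_of_isIrreducible _ hirr
    obtain ⟨ζ, hζ⟩ := QuasiSober.sober hC.1 (isClosed_of_mem_irreducibleComponents C hC)
    have hζx : ζ ⤳ x := by
      rw [specializes_iff_mem_closure, hζ.def]
      exact hxC (subset_closure rfl)
    have := hx ζ hζx
    subst this
    show closure {ζ} ∈ irreducibleComponents F
    rw [hζ.def]
    exact hC

theorem IsMaxPt.of_isInducing {A B : Type*} [TopologicalSpace A] [TopologicalSpace B] (φ : A → B)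
    (hφ : IsInducing φ) (hinj : Function.Injective φ)
    (hgen : ∀ (a : A) (b : B), b ⤳ φ a → b ∈ Set.range φ) (a : A) (h : IsMaxPt a) :
    IsMaxPt (φ a) := by
  intro b hb
  obtain ⟨a', rfl⟩ := hgen a b hb
  rw [h a' (hφ.specializes_iff.mp hb)]

/-- comparison of the numbers of irreducible components -/
theorem encard_irreducibleComponents_le {P Q W : Type*} [TopologicalSpace P] [TopologicalSpace Q]
    [TopologicalSpace W] [QuasiSober P] [T0Space P] [QuasiSober Q] [T0Space Q]
    (iP : P → W) (iQ : Q → W)
    (hex : ∀ ζ : P, IsMaxPt ζ → ∃ ξ : Q, IsMaxPt ξ ∧ iP ζ ⤳ iQ ξ)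
    (huniq : ∀ (ξ : Q) (ζ ζ' : P), IsMaxPt ξ → IsMaxPt ζ → IsMaxPt ζ' → iP ζ ⤳ iQ ξ → iP ζ' ⤳ iQ ξ →
      ζ = ζ') :
    (irreducibleComponents P).encard ≤ (irreducibleComponents Q).encard := by
  classical
  have hex' : ∀ ζ : genericPoints P, ∃ ξ : genericPoints Q, iP ζ.1 ⤳ iQ ξ.1 := by
    intro ζ
    obtain ⟨ξ, hξ, h⟩ := hex ζ.1 ((mem_genericPoints_iff ζ.1).mp ζ.2)
    exact ⟨⟨ξ, (mem_genericPoints_iff ξ).mpr hξ⟩, h⟩
  choose φ hφ using hex'
  have hinj : Function.Injective φ := by
    intro ζ ζ' h
    apply Subtype.ext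
    apply huniq (φ ζ).1 ζ.1 ζ'.1 ((mem_genericPoints_iff _).mp (φ ζ).2)
      ((mem_genericPoints_iff _).mp ζ.2) ((mem_genericPoints_iff _).mp ζ'.2) (hφ ζ)
    rw [h]
    exact hφ ζ'
  let ψ : irreducibleComponents P → irreducibleComponents Q :=
    fun C => genericPoints.equiv (φ (genericPoints.equiv.symm C))
  have hψ : Function.Injective ψ := by
    intro C C' h
    have h1 := genericPoints.equiv.injective h
    have h2 := hinj h1
    exact genericPoints.equiv.symm.injective h2
  rw [← ENat.card_coe_set_eq, ← ENat.card_coe_set_eq]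
  exact ENat.card_le_card_of_injective hψ

end Groth.Agent.Helper5.GSp
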