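import Mathlib
import Groth.Prelude
import Groth.Agent.Helper5.GSpA
import Groth.Agent.Helper5.GSpB
import Groth.Agent.Helper5.GPIJ

/-!
# GSpC: the local structure of a flat morphism with reduced fibres at the generic points of the
fibres, when the maximal ideal of the local ring of the base is generated by a nonzerodivisor
-/

set_option autoImplicit false
set_option linter.unusedSectionVars false
set_option linter.unusedVariables false
set_option linter.style.haveILetI false
universe u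

namespace Groth.Agent.Helper5.GSp

open CategoryTheory CategoryTheory.Limits AlgebraicGeometry TopologicalSpace Topology IsLocalRing
open Groth.Agent.Helper5.GPI

section StalkPts

variable {W : Scheme.{u}} (x : W)

theorem exists_prime_of_specializes {w : W} (h : w ⤳ x) :
    ∃ 𝔭 : ↥(Spec (W.presheaf.stalk x)), W.fromSpecStalk x 𝔭 = w := by
  have : w ∈ Set.range (W.fromSpecStalk x) := by
    rw [Scheme.range_fromSpecStalk]; exact h
  exact this

theorem fromSpecStalk_specializes (𝔭 : ↥(Spec (W.presheaf.stalk x))) :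
    W.fromSpecStalk x 𝔭 ⤳ x := by
  have : W.fromSpecStalk x 𝔭 ∈ Set.range (W.fromSpecStalk x) := ⟨𝔭, rfl⟩
  rw [Scheme.range_fromSpecStalk] at this
  exact this

theorem fromSpecStalk_injective : Function.Injective (W.fromSpecStalk x) :=
  (W.fromSpecStalk x).isEmbedding.injective

theorem fromSpecStalk_specializes_iff (𝔭 𝔯 : PrimeSpectrum (W.presheaf.stalk x)) :
    W.fromSpecStalk x 𝔭 ⤳ W.fromSpecStalk x 𝔯 ↔ 𝔭.asIdeal ≤ 𝔯.asIdeal := by
  rw [(W.fromSpecStalk x).isEmbedding.isInducing.specializes_iff]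
  exact (PrimeSpectrum.le_iff_specializes 𝔭 𝔯).symm

theorem fromSpecStalk_eq_self_iff (𝔯 : PrimeSpectrum (W.presheaf.stalk x)) :
    W.fromSpecStalk x 𝔯 = x ↔ 𝔯.asIdeal = maximalIdeal (W.presheaf.stalk x) := by
  have h1 : W.fromSpecStalk x (closedPoint (W.presheaf.stalk x)) = x :=
    Scheme.fromSpecStalk_closedPoint
  constructor
  · intro h
    have : 𝔯 = closedPoint (W.presheaf.stalk x) := by
      apply fromSpecStalk_injective x
      rw [h, h1]
    rw [this]
    rfl
  · intro h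
    have : 𝔯 = closedPoint (W.presheaf.stalk x) := PrimeSpectrum.ext h
    rw [this, h1]

end StalkPts

section Map

variable {W T : Scheme.{u}} (g : W ⟶ T) (x : W)

theorem map_fromSpecStalk (𝔯 : ↥(Spec (W.presheaf.stalk x))) :
    g (W.fromSpecStalk x 𝔯) = T.fromSpecStalk (g x) (Spec.map (g.stalkMap x) 𝔯) := by
  rw [← Scheme.Hom.comp_apply, ← Scheme.Hom.comp_apply, Scheme.SpecMap_stalkMap_fromSpecStalk]

/-- a generization of `x` lies in the fibre through `x` iff its prime contains the image of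
a generator of the maximal ideal of the local ring of the base -/
theorem map_fromSpecStalk_eq_iff (ϖ₀ : T.presheaf.stalk (g x))
    (hϖ₀ : maximalIdeal (T.presheaf.stalk (g x)) = Ideal.span {ϖ₀})
    (𝔯 : PrimeSpectrum (W.presheaf.stalk x)) :
    g (W.fromSpecStalk x 𝔯) = g x ↔ (g.stalkMap x).hom ϖ₀ ∈ 𝔯.asIdeal := by
  rw [map_fromSpecStalk, fromSpecStalk_eq_self_iff]
  show Ideal.comap (g.stalkMap x).hom 𝔯.asIdeal = _ ↔ _
  constructor
  · intro h
    have : ϖ₀ ∈ Ideal.comap (g.stalkMap x).hom 𝔯.asIdeal := by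
      rw [h, hϖ₀]; exact Ideal.mem_span_singleton_self ϖ₀
    exact this
  · intro h
    have hle : maximalIdeal (T.presheaf.stalk (g x)) ≤ Ideal.comap (g.stalkMap x).hom 𝔯.asIdeal := by
      rw [hϖ₀, Ideal.span_singleton_le_iff_mem]
      exact h
    haveI : (Ideal.comap (g.stalkMap x).hom 𝔯.asIdeal).IsPrime := Ideal.comap_isPrime _ _
    exact ((maximalIdeal.isMaximal _).eq_of_le (Ideal.IsPrime.ne_top inferInstance) hle).symm

end Map

section Main

variable {W T : Scheme.{u}} (g : W ⟶ T) [LocallyOfFiniteType g] [IsLocallyNoetherian T]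

set_option maxHeartbeats 800000 in
/-- the quotient of the local ring at `x` by the image of a generator of the maximal ideal of the
base is the local ring of the fibre -/
theorem nonempty_quotient_equiv (x : W) (ϖ₀ : T.presheaf.stalk (g x))
    (hϖ₀ : maximalIdeal (T.presheaf.stalk (g x)) = Ideal.span {ϖ₀}) :
    Nonempty ((W.presheaf.stalk x ⧸ Ideal.span {(g.stalkMap x).hom ϖ₀}) ≃+*
      (g.fiber (g x)).presheaf.stalk (g.asFiber x)) := by
  obtain ⟨e⟩ := Groth.Agent.Helper5.CMFib.fibre_stalk_equiv' g x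
  have hmap : Ideal.map (g.stalkMap x).hom (maximalIdeal (T.presheaf.stalk (g x))) =
      Ideal.span {(g.stalkMap x).hom ϖ₀} := by
    rw [hϖ₀, Ideal.map_span, Set.image_singleton]
  exact ⟨(Ideal.quotEquivOfEq hmap.symm).trans e⟩

theorem isSMulRegular_stalkMap (x : W) (hflat : (g.stalkMap x).hom.Flat)
    (ϖ₀ : T.presheaf.stalk (g x)) (hreg : ϖ₀ ∈ nonZeroDivisors (T.presheaf.stalk (g x))) :
    IsSMulRegular (W.presheaf.stalk x) ((g.stalkMap x).hom ϖ₀) := by
  algebraize [(g.stalkMap x).hom]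
  have h1 : IsSMulRegular (W.presheaf.stalk x) ϖ₀ :=
    Module.Flat.isSMulRegular_of_nonZeroDivisors hreg
  intro a b hab
  apply h1
  show ϖ₀ • a = ϖ₀ • b
  rw [Algebra.smul_def, Algebra.smul_def]
  exact hab

set_option maxHeartbeats 800000 in
/-- existence: a maximal point `w` of `W` specializing to a point `x` which is maximal among the
points of the fibre through `x` in the closure of `w`: then `x` is a maximal point of its fibre -/
theorem maximalIdeal_eq_span_of_maximal (x : W) (hflat : (g.stalkMap x).hom.Flat)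
    (ϖ₀ : T.presheaf.stalk (g x))
    (hϖ₀ : maximalIdeal (T.presheaf.stalk (g x)) = Ideal.span {ϖ₀})
    (hreg : ϖ₀ ∈ nonZeroDivisors (T.presheaf.stalk (g x)))
    (hred : IsReduced (g.fiber (g x))) (w : W) (hw : IsMaxPt w) (hwx : w ⤳ x)
    (hmax : ∀ r : W, w ⤳ r → r ⤳ x → g r = g x → r = x) :
    maximalIdeal (W.presheaf.stalk x) = Ideal.span {(g.stalkMap x).hom ϖ₀} := by
  haveI : IsLocallyNoetherian W := LocallyOfFiniteType.isLocallyNoetherian g
  obtain ⟨e⟩ := nonempty_quotient_equiv g x ϖ₀ hϖ₀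
  have hredq : _root_.IsReduced (W.presheaf.stalk x ⧸ Ideal.span {(g.stalkMap x).hom ϖ₀}) := by
    haveI : _root_.IsReduced ((g.fiber (g x)).presheaf.stalk (g.asFiber x)) := inferInstance
    exact isReduced_of_injective e.toRingHom e.injective
  obtain ⟨𝔭, h𝔭⟩ := exists_prime_of_specializes x hwx
  have hϖm : (g.stalkMap x).hom ϖ₀ ∈ maximalIdeal (W.presheaf.stalk x) := by
    have h1 : ϖ₀ ∈ maximalIdeal (T.presheaf.stalk (g x)) := by
      rw [hϖ₀]; exact Ideal.mem_span_singleton_self ϖ₀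
    rw [mem_maximalIdeal, mem_nonunits_iff] at h1 ⊢
    intro hu
    exact h1 (isUnit_of_map_unit (g.stalkMap x).hom ϖ₀ hu)
  apply maximalIdeal_eq_span (W.presheaf.stalk x) _ hϖm
    (isSMulRegular_stalkMap g x hflat ϖ₀ hreg) hredq 𝔭.asIdeal
  · -- minimality of `𝔭`
    refine ⟨⟨𝔭.2, bot_le⟩, ?_⟩
    rintro 𝔯 ⟨h𝔯, -⟩ hle
    have h1 : W.fromSpecStalk x ⟨𝔯, h𝔯⟩ ⤳ W.fromSpecStalk x 𝔭 :=
      (fromSpecStalk_specializes_iff x ⟨𝔯, h𝔯⟩ 𝔭).mpr hle
    rw [h𝔭] at h1
    have h2 := hw _ h1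
    rw [← h𝔭] at h2
    have h3 := fromSpecStalk_injective x h2
    rw [← h3]
  · intro 𝔯 h𝔯 hle hmem
    have h1 : w ⤳ W.fromSpecStalk x ⟨𝔯, h𝔯⟩ := by
      rw [← h𝔭]
      exact (fromSpecStalk_specializes_iff x 𝔭 ⟨𝔯, h𝔯⟩).mpr hle
    have h2 : W.fromSpecStalk x ⟨𝔯, h𝔯⟩ ⤳ x := fromSpecStalk_specializes x _
    have h3 : g (W.fromSpecStalk x ⟨𝔯, h𝔯⟩) = g x :=
      (map_fromSpecStalk_eq_iff g x ϖ₀ hϖ₀ ⟨𝔯, h𝔯⟩).mpr hmem
    have h4 := hmax _ h1 h2 h3
    exact (fromSpecStalk_eq_self_iff x ⟨𝔯, h𝔯⟩).mp h4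

/-- if the maximal ideal at `x` is generated by the image of the generator of the maximal ideal of
the base, `x` has no proper generization in its fibre -/
theorem eq_of_specializes_of_maximalIdeal_eq (x : W) (ϖ₀ : T.presheaf.stalk (g x))
    (hϖ₀ : maximalIdeal (T.presheaf.stalk (g x)) = Ideal.span {ϖ₀})
    (hm : maximalIdeal (W.presheaf.stalk x) = Ideal.span {(g.stalkMap x).hom ϖ₀})
    (x' : W) (hx' : x' ⤳ x) (hg : g x' = g x) : x' = x := by
  obtain ⟨𝔯, rfl⟩ := exists_prime_of_specializes x hx'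
  have h1 := (map_fromSpecStalk_eq_iff g x ϖ₀ hϖ₀ 𝔯).mp hg
  rw [fromSpecStalk_eq_self_iff]
  have hle : maximalIdeal (W.presheaf.stalk x) ≤ 𝔯.asIdeal := by
    rw [hm, Ideal.span_singleton_le_iff_mem]; exact h1
  exact ((maximalIdeal.isMaximal _).eq_of_le 𝔯.2.ne_top hle).symm

set_option maxHeartbeats 800000 in
/-- uniqueness: the local ring at a maximal point of a reduced fibre is a domain -/
theorem isDomain_stalk_of_isMaxPt (x : W) (hflat : (g.stalkMap x).hom.Flat)
    (ϖ₀ : T.presheaf.stalk (g x))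
    (hϖ₀ : maximalIdeal (T.presheaf.stalk (g x)) = Ideal.span {ϖ₀})
    (hreg : ϖ₀ ∈ nonZeroDivisors (T.presheaf.stalk (g x)))
    (hred : IsReduced (g.fiber (g x))) (hx : IsMaxPt (g.asFiber x)) :
    IsDomain (W.presheaf.stalk x) := by
  haveI : IsLocallyNoetherian W := LocallyOfFiniteType.isLocallyNoetherian g
  obtain ⟨e⟩ := nonempty_quotient_equiv g x ϖ₀ hϖ₀
  have hfib : IsDomain ((g.fiber (g x)).presheaf.stalk (g.asFiber x)) := by
    rw [isDomain_stalk_iff]
    refine ⟨inferInstance, ?_⟩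
    intro a b ha hb
    rw [hx a ha, hx b hb]
    exact ⟨_, specializes_rfl, specializes_rfl⟩
  have hq : IsDomain (W.presheaf.stalk x ⧸ Ideal.span {(g.stalkMap x).hom ϖ₀}) :=
    e.injective.isDomain e.toRingHom
  exact isDomain_of_regular_of_quotient (W.presheaf.stalk x) ((g.stalkMap x).hom ϖ₀)
    (isSMulRegular_stalkMap g x hflat ϖ₀ hreg) hq

end Main

end Groth.Agent.Helper5.GSp
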