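import Mathlib
import Groth.Prelude
import Groth.Agent.Helper5.GSpC
import Groth.Agent.Helper5.SecNbB

/-!
# GSpD: for a proper flat morphism to the spectrum of a discrete valuation ring with reduced closed
fibre, the generic fibre has at most as many irreducible components as the closed fibre
-/

set_option autoImplicit false
set_option linter.unusedSectionVars false
set_option linter.unusedVariables false
set_option linter.style.haveILetI false
universe u

namespace Groth.Agent.Helper5.GSp

open CategoryTheory CategoryTheory.Limits AlgebraicGeometry TopologicalSpace Topology IsLocalRing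
open Groth.Agent.Helper5.GPI Groth.Agent.Helper5.SecNb

/-- a uniformizer in the local ring of the closed point -/
theorem exists_uniformizer_stalk (A : Type u) [CommRing A] [IsDomain A]
    [IsDiscreteValuationRing A] (y : ↥(Spec (CommRingCat.of A))) (hy : y = closedPoint A) :
    ∃ ϖ : (Spec (CommRingCat.of A)).presheaf.stalk y,
      maximalIdeal ((Spec (CommRingCat.of A)).presheaf.stalk y) = Ideal.span {ϖ} ∧
      ϖ ∈ nonZeroDivisors ((Spec (CommRingCat.of A)).presheaf.stalk y) := by
  subst hy
  let e : (Spec (CommRingCat.of A)).presheaf.stalk (closedPoint A) ≃+* A :=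
    (stalkClosedPointIso (CommRingCat.of A)).commRingCatIsoToRingEquiv
  obtain ⟨ϖA, hϖA⟩ := IsDiscreteValuationRing.exists_irreducible A
  have hmA : maximalIdeal A = Ideal.span {ϖA} := hϖA.maximalIdeal_eq
  haveI : IsDomain ((Spec (CommRingCat.of A)).presheaf.stalk (closedPoint A)) :=
    e.injective.isDomain e.toRingHom
  refine ⟨e.symm ϖA, ?_, ?_⟩
  · ext z
    rw [Ideal.mem_span_singleton', mem_maximalIdeal, mem_nonunits_iff]
    have h1 : IsUnit z ↔ IsUnit (e z) := ⟨fun h => h.map e, fun h => by
      have := h.map e.symm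
      rwa [RingEquiv.symm_apply_apply] at this⟩
    rw [h1, ← mem_nonunits_iff, ← mem_maximalIdeal, hmA, Ideal.mem_span_singleton']
    constructor
    · rintro ⟨c, hc⟩
      refine ⟨e.symm c, ?_⟩
      apply e.injective
      rw [map_mul, RingEquiv.apply_symm_apply, RingEquiv.apply_symm_apply, hc]
    · rintro ⟨c, hc⟩
      refine ⟨e c, ?_⟩
      rw [← hc, map_mul, RingEquiv.apply_symm_apply]
  · apply mem_nonZeroDivisors_of_ne_zero
    intro h0
    have : ϖA = 0 := by
      have := congrArg e h0
      rwa [RingEquiv.apply_symm_apply, map_zero] at this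
    exact hϖA.ne_zero this

/-- a nonempty closed subset of a quasi-sober T0 space has a point which is maximal in it -/
theorem exists_isMaxPt_in_closed {F : Type*} [TopologicalSpace F] [QuasiSober F] [T0Space F]
    (T : Set F) (hT : IsClosed T) (hne : T.Nonempty) :
    ∃ x ∈ T, ∀ r ∈ T, r ⤳ x → r = x := by
  obtain ⟨t, ht⟩ := hne
  haveI : QuasiSober ↥T := hT.isClosedEmbedding_subtypeVal.quasiSober
  have hirr : IsIrreducible (closure ({⟨t, ht⟩} : Set ↥T)) := isIrreducible_singleton.closure
  obtain ⟨C, hC, -⟩ := exists_mem_irreducibleComponents_subset_of_isIrreducible _ hirr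
  obtain ⟨ζ, hζ⟩ := QuasiSober.sober hC.1 (isClosed_of_mem_irreducibleComponents C hC)
  have hgen : ζ ∈ genericPoints ↥T := by
    show closure {ζ} ∈ irreducibleComponents ↥T
    rw [hζ.def]; exact hC
  have hmax := (mem_genericPoints_iff ζ).mp hgen
  refine ⟨ζ.1, ζ.2, fun r hr hrx => ?_⟩
  have : (⟨r, hr⟩ : ↥T) ⤳ ζ := Topology.IsInducing.subtypeVal.specializes_iff.mp hrx
  have := hmax _ this
  exact congrArg Subtype.val this

variable {W : Scheme.{u}} (A : Type u) [CommRing A] [IsDomain A] [IsDiscreteValuationRing A]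
  (g : W ⟶ Spec (CommRingCat.of A))

set_option maxHeartbeats 1600000 in
/-- the comparison over a discrete valuation ring -/
theorem encard_le_of_dvr [IsProper g] [Flat g]
    (hred : IsReduced (g.fiber (closedPoint A)))
    {P : Scheme.{u}} (i : P ⟶ W) (hemb : IsEmbedding i) (hi : Set.range i = g ⁻¹' {gen A}) :
    (irreducibleComponents ↥P).encard ≤
      (irreducibleComponents ↥(g.fiber (closedPoint A))).encard := by
  haveI : IsLocallyNoetherian (Spec (CommRingCat.of A)) := inferInstance
  set s : ↥(Spec (CommRingCat.of A)) := closedPoint A with hs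
  have hopen : IsOpen (Set.range i) := by
    rw [hi]; exact isOpen_gen.preimage g.continuous
  have hmaxP : ∀ ζ : P, IsMaxPt ζ → IsMaxPt (i ζ) := fun ζ hζ =>
    IsMaxPt.of_isInducing i hemb.isInducing hemb.injective
      (fun a b hb => hb.mem_open hopen ⟨a, rfl⟩) ζ hζ
  have hfibmax : ∀ ξ : ↥(g.fiber s), IsMaxPt ξ →
      ∀ x' : W, x' ⤳ g.fiberι s ξ → g x' = g (g.fiberι s ξ) → x' = g.fiberι s ξ := by
    intro ξ hξ x' hx' hg
    have hgξ : g (g.fiberι s ξ) = s := by
      have : g.fiberι s ξ ∈ Set.range (g.fiberι s) := ⟨ξ, rfl⟩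
      rw [Scheme.Hom.range_fiberι] at this
      exact this
    have hx's : x' ∈ Set.range (g.fiberι s) := by
      rw [Scheme.Hom.range_fiberι]
      show g x' = s
      rw [hg, hgξ]
    obtain ⟨ξ', rfl⟩ := hx's
    have := hξ ξ' ((g.fiberι s).isEmbedding.isInducing.specializes_iff.mp hx')
    rw [this]
  apply encard_irreducibleComponents_le (i : P → W) (g.fiberι s : ↥(g.fiber s) → W)
  · -- existence
    intro ζ hζ
    set w : W := i ζ with hw
    have hwmax : IsMaxPt w := hmaxP ζ hζ
    have hgw : g w = gen A := by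
      have : w ∈ Set.range i := ⟨ζ, rfl⟩
      rw [hi] at this
      exact this
    -- the closure of `w` meets the closed fibre
    have hcl : IsClosed (g '' closure {w}) := g.isClosedMap _ isClosed_closure
    have hsmem : s ∈ g '' closure {w} := by
      have h1 : gen A ∈ g '' closure {w} := ⟨w, subset_closure rfl, hgw⟩
      exact (gen_specializes s).mem_closed hcl h1
    obtain ⟨z, hzw, hzs⟩ := hsmem
    have hTcl : IsClosed (closure {w} ∩ g ⁻¹' {s}) :=
      isClosed_closure.inter ((IsLocalRing.isClosed_singleton_closedPoint A).preimage g.continuous)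
    obtain ⟨x, hxT, hxmax⟩ := exists_isMaxPt_in_closed _ hTcl ⟨z, hzw, hzs⟩
    have hgx : g x = s := hxT.2
    have hwx : w ⤳ x := specializes_iff_mem_closure.mpr hxT.1
    obtain ⟨ϖ₀, hϖ₀, hreg⟩ := exists_uniformizer_stalk A (g x) hgx
    have hredx : IsReduced (g.fiber (g x)) := by rw [hgx]; exact hred
    have hm := maximalIdeal_eq_span_of_maximal g x (Flat.stalkMap g x) ϖ₀ hϖ₀ hreg hredx w hwmax hwx
      (fun r hwr hrx hgr => hxmax r ⟨specializes_iff_mem_closure.mp hwr, hgr.trans hgx⟩ hrx)
    have hxmaxfib := eq_of_specializes_of_maximalIdeal_eq g x ϖ₀ hϖ₀ hm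
    refine ⟨(g.fiberHomeo s).symm ⟨x, hgx⟩, ?_, ?_⟩
    · intro ξ' hξ'
      apply (g.fiberι s).isEmbedding.injective
      rw [Scheme.Hom.fiberι_fiberHomeo_symm]
      apply hxmaxfib
      · have := hξ'.map (g.fiberι s).continuous
        rwa [Scheme.Hom.fiberι_fiberHomeo_symm] at this
      · have : g.fiberι s ξ' ∈ Set.range (g.fiberι s) := ⟨ξ', rfl⟩
        rw [Scheme.Hom.range_fiberι] at this
        exact this.trans hgx.symm
    · rw [Scheme.Hom.fiberι_fiberHomeo_symm]
      exact hwx
  · -- uniqueness
    intro ξ ζ ζ' hξ hζ hζ' h1 h2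
    set x : W := g.fiberι s ξ with hx
    have hgx : g x = s := by
      have : x ∈ Set.range (g.fiberι s) := ⟨ξ, rfl⟩
      rw [Scheme.Hom.range_fiberι] at this
      exact this
    obtain ⟨ϖ₀, hϖ₀, hreg⟩ := exists_uniformizer_stalk A (g x) hgx
    have hredx : IsReduced (g.fiber (g x)) := by rw [hgx]; exact hred
    have hmaxx : IsMaxPt (g.asFiber x) := by
      intro a ha
      apply (g.fiberι (g x)).isEmbedding.injective
      rw [Scheme.Hom.fiberι_asFiber]
      apply hfibmax ξ hξ
      · have := ha.map (g.fiberι (g x)).continuous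
        rwa [Scheme.Hom.fiberι_asFiber] at this
      · have : g.fiberι (g x) a ∈ Set.range (g.fiberι (g x)) := ⟨a, rfl⟩
        rw [Scheme.Hom.range_fiberι] at this
        exact this
    have hdom := isDomain_stalk_of_isMaxPt g x (Flat.stalkMap g x) ϖ₀ hϖ₀ hreg hredx hmaxx
    have hdir : Dir x := ((isDomain_stalk_iff x).mp hdom).2
    obtain ⟨c, hc1, hc2⟩ := hdir (i ζ) (i ζ') h1 h2
    have e1 := hmaxP ζ hζ c hc1
    have e2 := hmaxP ζ' hζ' c hc2
    exact hemb.injective (e1.symm.trans e2)

end Groth.Agent.Helper5.GSp
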