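import Mathlib
import Groth.Prelude

/-!
# GSpE: two comparisons of numbers of irreducible components along a continuous map
-/

set_option autoImplicit false
set_option linter.unusedSectionVars false
set_option linter.unusedVariables false
set_option linter.style.haveILetI false
universe u

namespace Groth.Agent.Helper5.GSp

open TopologicalSpace Topology

/-- if the inverse images of the (finitely many) irreducible components of `F` under `q : F' → F`
are irreducible, `F'` has at most as many irreducible components as `F` -/
theorem encard_le_of_preimage_irreducible {F' F : Type*} [TopologicalSpace F'] [TopologicalSpace F]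
    (q : F' → F) (hq : Continuous q) (hfin : (irreducibleComponents F).Finite)
    (hirr : ∀ T ∈ irreducibleComponents F, IsIrreducible (q ⁻¹' T)) :
    (irreducibleComponents F').encard ≤ (irreducibleComponents F).encard := by
  classical
  have hcov : ∀ C' ∈ irreducibleComponents F', ∃ T ∈ irreducibleComponents F, C' = q ⁻¹' T := by
    intro C' hC'
    have hsub : C' ⊆ ⋃₀ ((hfin.toFinset.image (fun T => q ⁻¹' T) : Finset (Set F')) : Set (Set F')) := by
      intro c _
      have : q c ∈ ⋃₀ irreducibleComponents F := by
        rw [sUnion_irreducibleComponents]; trivial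
      obtain ⟨T, hT, hcT⟩ := this
      refine ⟨q ⁻¹' T, ?_, hcT⟩
      rw [Finset.coe_image]
      exact ⟨T, hfin.mem_toFinset.mpr hT, rfl⟩
    obtain ⟨z, hz, hCz⟩ := isIrreducible_iff_sUnion_isClosed.mp hC'.1 _ (by
      intro z hz
      obtain ⟨T, hT, rfl⟩ := Finset.mem_image.mp hz
      exact (isClosed_of_mem_irreducibleComponents T (hfin.mem_toFinset.mp hT)).preimage hq) hsub
    obtain ⟨T, hT, rfl⟩ := Finset.mem_image.mp hz
    have hT' := hfin.mem_toFinset.mp hT
    exact ⟨T, hT', hC'.eq_of_subset (hirr T hT') hCz⟩
  choose! τ hτ1 hτ2 using hcov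
  have hinj : Set.InjOn τ (irreducibleComponents F') := by
    intro C hC C' hC' h
    rw [hτ2 C hC, hτ2 C' hC', h]
  exact Set.encard_le_encard_of_injOn (fun C hC => hτ1 C hC) hinj

/-- a surjective continuous map does not increase the number of irreducible components -/
theorem encard_le_of_surjective {F' F : Type*} [TopologicalSpace F'] [TopologicalSpace F]
    (q : F' → F) (hq : Continuous q) (hsurj : Function.Surjective q) :
    (irreducibleComponents F).encard ≤ (irreducibleComponents F').encard := by
  classical
  by_cases hfin : (irreducibleComponents F').Finite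
  swap
  · rw [Set.encard_eq_top_iff.mpr hfin]
    exact le_top
  have hcov : ∀ T ∈ irreducibleComponents F, ∃ C' ∈ irreducibleComponents F', T = closure (q '' C') := by
    intro T hT
    have hsub : T ⊆ ⋃₀ ((hfin.toFinset.image (fun C' => closure (q '' C')) : Finset (Set F)) :
        Set (Set F)) := by
      intro t _
      obtain ⟨c, rfl⟩ := hsurj t
      have : c ∈ ⋃₀ irreducibleComponents F' := by
        rw [sUnion_irreducibleComponents]; trivial
      obtain ⟨C', hC', hcC'⟩ := this
      refine ⟨closure (q '' C'), ?_, subset_closure ⟨c, hcC', rfl⟩⟩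
      rw [Finset.coe_image]
      exact ⟨C', hfin.mem_toFinset.mpr hC', rfl⟩
    obtain ⟨z, hz, hTz⟩ := isIrreducible_iff_sUnion_isClosed.mp hT.1 _ (by
      intro z hz
      obtain ⟨C', -, rfl⟩ := Finset.mem_image.mp hz
      exact isClosed_closure) hsub
    obtain ⟨C', hC', rfl⟩ := Finset.mem_image.mp hz
    have hC'' := hfin.mem_toFinset.mp hC'
    refine ⟨C', hC'', hT.eq_of_subset ?_ hTz⟩
    exact (hC''.1.image q hq.continuousOn).closure
  choose! σ hσ1 hσ2 using hcov
  have hinj : Set.InjOn σ (irreducibleComponents F) := by
    intro T hT T' hT' h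
    rw [hσ2 T hT, hσ2 T' hT', h]
  exact Set.encard_le_encard_of_injOn (fun T hT => hσ1 T hT) hinj

end Groth.Agent.Helper5.GSp
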