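import Mathlib
import Groth.Prelude
import Groth.Agent.Helper5.GSpE
import Groth.Agent.Helper5.BCMin6

/-!
# GSpF: numbers of irreducible components of base changes of a scheme over a field
-/

set_option autoImplicit false
set_option linter.unusedSectionVars false
set_option linter.unusedVariables false
set_option linter.style.haveILetI false
universe u

namespace Groth.Agent.Helper5.GSp

open CategoryTheory CategoryTheory.Limits AlgebraicGeometry TopologicalSpace Topology

theorem encard_eq_of_homeomorph {F F' : Type*} [TopologicalSpace F] [TopologicalSpace F']
    (e : F ≃ₜ F') : (irreducibleComponents F).encard = (irreducibleComponents F').encard :=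
  le_antisymm (encard_le_of_surjective e.symm e.symm.continuous e.symm.surjective)
    (encard_le_of_surjective e e.continuous e.surjective)

theorem encard_eq_of_iso {Z Z' : Scheme.{u}} (e : Z ≅ Z') :
    (irreducibleComponents ↥Z).encard = (irreducibleComponents ↥Z').encard :=
  encard_eq_of_homeomorph e.hom.homeomorph

/-- the inverse image, in a base change, of a closed subset whose reduced subscheme is
geometrically irreducible is irreducible -/
theorem isIrreducible_preimage_of_geomIrr' {F B : Scheme.{u}} (str : F ⟶ B)
    (T : Set F) (hT : IsClosed T)
    (hgeo : GeometricallyIrreducible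
      ((Scheme.IdealSheafData.vanishingIdeal (⟨T, hT⟩ : Closeds F)).subschemeι ≫ str))
    {K : Type u} [Field K] (b : Spec (CommRingCat.of K) ⟶ B) :
    IsIrreducible ((pullback.fst str b) ⁻¹' T) := by
  let C : Closeds F := ⟨T, hT⟩
  let I := Scheme.IdealSheafData.vanishingIdeal C
  have hrange : Set.range I.subschemeι = T := by
    rw [Scheme.IdealSheafData.range_subschemeι, Scheme.IdealSheafData.coe_support_vanishingIdeal]
    rfl
  let ι := I.subschemeι
  let q := pullback.fst str b
  have big : IsPullback (pullback.fst ι q) (pullback.snd ι q ≫ pullback.snd str b) (ι ≫ str) b :=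
    (IsPullback.of_hasPullback ι q).paste_vert (IsPullback.of_hasPullback str b)
  haveI h2 : IrreducibleSpace ↥(pullback ι q) :=
    GeometricallyIrreducible.geometrically_irreducibleSpace (f := ι ≫ str) b _ _ big
  have h3 : Set.range (pullback.snd ι q) = q ⁻¹' T := by
    rw [Scheme.Pullback.range_snd, hrange]
  rw [← h3, ← Set.image_univ]
  exact (IrreducibleSpace.isIrreducible_univ _).image _ (pullback.snd ι q).continuous.continuousOn

/-- if the irreducible components of a base change are geometrically irreducible, a further base
change to a field has at most as many irreducible components -/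
theorem encard_pullback_comp_le {Z B B' : Scheme.{u}} {K : Type u} [Field K] (h : Z ⟶ B)
    (a : B' ⟶ B) (b : Spec (CommRingCat.of K) ⟶ B')
    (hfin : (irreducibleComponents ↥(pullback h a)).Finite)
    (GI : ∀ (T : Set ↥(pullback h a)) (hT : T ∈ irreducibleComponents ↥(pullback h a)),
      GeometricallyIrreducible
        ((Scheme.IdealSheafData.vanishingIdeal
          (⟨T, isClosed_of_mem_irreducibleComponents T hT⟩ : Closeds _)).subschemeι ≫
          pullback.snd h a)) :
    (irreducibleComponents ↥(pullback h (b ≫ a))).encard ≤
      (irreducibleComponents ↥(pullback h a)).encard := by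
  let e : pullback (pullback.snd h a) b ≅ pullback h (b ≫ a) := pullbackLeftPullbackSndIso h a b
  rw [← encard_eq_of_iso e]
  apply encard_le_of_preimage_irreducible (pullback.fst (pullback.snd h a) b)
    (pullback.fst (pullback.snd h a) b).continuous hfin
  intro T hT
  exact isIrreducible_preimage_of_geomIrr' (pullback.snd h a) T
    (isClosed_of_mem_irreducibleComponents T hT) (GI T hT) b

/-- if the irreducible components of `Z_L` are geometrically irreducible, a further base change
has at most as many irreducible components -/
theorem encard_bc_le_of_geomIrr {k L K : Type u} [Field k] [Field L] [Field K] [Algebra k L]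
    [Algebra L K] [Algebra k K] [IsScalarTower k L K] {Z : Scheme.{u}}
    (h : Z ⟶ Spec (CommRingCat.of k))
    (hfin : (irreducibleComponents
      ↥(pullback h (Spec.map (CommRingCat.ofHom (algebraMap k L))))).Finite)
    (GI : ∀ (T : Set ↥(pullback h (Spec.map (CommRingCat.ofHom (algebraMap k L)))))
      (hT : T ∈ irreducibleComponents ↥(pullback h (Spec.map (CommRingCat.ofHom (algebraMap k L))))),
      GeometricallyIrreducible
        ((Scheme.IdealSheafData.vanishingIdeal
          (⟨T, isClosed_of_mem_irreducibleComponents T hT⟩ : Closeds _)).subschemeι ≫
          pullback.snd h (Spec.map (CommRingCat.ofHom (algebraMap k L))))) :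
    (irreducibleComponents ↥(pullback h (Spec.map (CommRingCat.ofHom (algebraMap k K))))).encard ≤
      (irreducibleComponents ↥(pullback h (Spec.map (CommRingCat.ofHom (algebraMap k L))))).encard := by
  have hba : Spec.map (CommRingCat.ofHom (algebraMap L K)) ≫
      Spec.map (CommRingCat.ofHom (algebraMap k L)) =
      Spec.map (CommRingCat.ofHom (algebraMap k K)) := by
    rw [← Spec.map_comp, ← CommRingCat.ofHom_comp, ← IsScalarTower.algebraMap_eq]
  rw [← hba]
  exact encard_pullback_comp_le h _ _ hfin GI

/-- a fibre has at most as many irreducible components as the geometric fibre -/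
theorem encard_fiber_le_nGeomIrredComp {X Y : Scheme.{u}} (f : X ⟶ Y) (y : Y) :
    (irreducibleComponents ↥(f.fiber y)).encard ≤ MoreMor.nGeomIrredComp f y := by
  show _ ≤ (irreducibleComponents ↥(MoreMor.geomFiber f y)).encard
  let q : MoreMor.geomFiber f y ⟶ f.fiber y :=
    pullback.fst (f.fiberToSpecResidueField y) (Spec.map (CommRingCat.ofHom
      (algebraMap (Y.residueField y) (SeparableClosure (Y.residueField y)))))
  have h1 : Surjective (Spec.map (CommRingCat.ofHom
      (algebraMap (Y.residueField y) (SeparableClosure (Y.residueField y))))) :=
    Groth.Agent.Helper5.BCMin.surjective_SpecMap_field _ _ _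
  haveI h2 : Surjective (pullback.fst (f.fiberToSpecResidueField y) (Spec.map (CommRingCat.ofHom
      (algebraMap (Y.residueField y) (SeparableClosure (Y.residueField y)))))) := inferInstance
  exact encard_le_of_surjective q q.continuous h2.surj

end Groth.Agent.Helper5.GSp
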