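import Mathlib
import Groth.Prelude
import Groth.Agent.Helper5.DvrSpec

/-!
# GSpG: a discrete valuation ring of a finite extension of the residue field of a generization,
dominating the local ring of a point of a locally Noetherian scheme
-/

set_option autoImplicit false
set_option linter.unusedSectionVars false
set_option linter.unusedVariables false
set_option linter.style.haveILetI false
universe u

namespace Groth.Agent.Helper5.GSp

open CategoryTheory CategoryTheory.Limits AlgebraicGeometry TopologicalSpace Topology IsLocalRing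

theorem not_isLocalHom_stalkSpecializes {Y : Scheme.{u}} {y y' : Y} (hsp : y' ⤳ y) (hne : y' ≠ y) :
    ¬ IsLocalHom (Y.presheaf.stalkSpecializes hsp).hom := by
  intro hloc
  apply hne
  have h1 : Spec.map (Y.presheaf.stalkSpecializes hsp) (closedPoint (Y.presheaf.stalk y')) =
      closedPoint (Y.presheaf.stalk y) := comap_closedPoint (Y.presheaf.stalkSpecializes hsp).hom
  have h2 := congrArg (fun g => g.base (closedPoint (Y.presheaf.stalk y')))
    (Scheme.SpecMap_stalkSpecializes_fromSpecStalk hsp)
  simp only [Scheme.Hom.comp_apply] at h2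
  rw [h1, Scheme.fromSpecStalk_closedPoint, Scheme.fromSpecStalk_closedPoint] at h2
  exact h2.symm

set_option maxHeartbeats 800000 in
theorem exists_dvr_hom {Y : Scheme.{u}} [IsLocallyNoetherian Y] {y y' : Y} (hsp : y' ⤳ y)
    (hne : y' ≠ y) (L : Type u) [Field L] [Algebra (Y.residueField y') L]
    [FiniteDimensional (Y.residueField y') L] :
    ∃ (A : ValuationSubring L) (hY : Spec (CommRingCat.of A) ⟶ Y), IsDiscreteValuationRing A ∧
      hY (closedPoint A) = y ∧
      Spec.map (CommRingCat.ofHom A.subtype) ≫ hY =
        Spec.map (CommRingCat.ofHom (algebraMap (Y.residueField y') L)) ≫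
          Y.fromSpecResidueField y' := by
  let ψ₀ : Y.presheaf.stalk y ⟶ Y.residueField y' :=
    Y.presheaf.stalkSpecializes hsp ≫ Y.residue y'
  let ψ : Y.presheaf.stalk y →+* L := (algebraMap (Y.residueField y') L).comp ψ₀.hom
  have hfin : ψ.EssFiniteType := by
    refine RingHom.EssFiniteType.comp ?_ ?_
    · show ψ₀.hom.EssFiniteType
      dsimp only [ψ₀]
      rw [CommRingCat.hom_comp]
      refine RingHom.EssFiniteType.comp
        (Groth.Agent.Helper5.DvrSpec.essFiniteType_stalkSpecializes hsp) ?_
      apply RingHom.FiniteType.essFiniteType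
      apply RingHom.FiniteType.of_surjective
      exact Ideal.Quotient.mk_surjective
    · apply RingHom.FiniteType.essFiniteType
      apply RingHom.Finite.finiteType
      exact RingHom.finite_algebraMap.mpr inferInstance
  have hnl : ¬ IsLocalHom ψ := by
    intro hloc
    apply not_isLocalHom_stalkSpecializes hsp hne
    constructor
    intro a ha
    apply hloc.map_nonunit
    have h1 : IsUnit (Y.residue y' ((Y.presheaf.stalkSpecializes hsp).hom a)) :=
      ha.map (Y.residue y').hom
    exact h1.map (algebraMap (Y.residueField y') L)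
  obtain ⟨A, hA, hdvr, hloc⟩ := Groth.Agent.Helper5.DvrSpec.exists_factor_dvr ψ hfin hnl
  let stalk_to_A : Y.presheaf.stalk y ⟶ .of A := CommRingCat.ofHom (ψ.codRestrict _ hA)
  refine ⟨A, Spec.map stalk_to_A ≫ Y.fromSpecStalk y, hdvr, ?_, ?_⟩
  · rw [Scheme.Hom.comp_apply]
    have : Spec.map stalk_to_A (closedPoint A) = closedPoint (Y.presheaf.stalk y) :=
      comap_closedPoint (S := A) (ψ.codRestrict A.toSubring hA)
    rw [this, Y.fromSpecStalk_closedPoint]
  · rw [Scheme.fromSpecResidueField, ← Scheme.SpecMap_stalkSpecializes_fromSpecStalk hsp]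
    simp_rw [← Spec.map_comp_assoc]
    rfl

end Groth.Agent.Helper5.GSp
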