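import Mathlib
import Groth.Prelude
import Groth.Agent.Helper5.GSpD
import Groth.Agent.Helper5.GSpF
import Groth.Agent.Helper5.GSpG
import Groth.Agent.Helper5.GPIM
import Groth.Agent.Helper4.GalGeomIrr
import Groth.Agent.S1334

/-!
# GSpH: for a proper flat morphism with geometrically reduced fibres over a locally Noetherian
base, the number of geometric irreducible components of the fibres does not decrease under
specialization
-/

set_option autoImplicit false
set_option linter.unusedSectionVars false
set_option linter.unusedVariables false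
set_option linter.style.haveILetI false
universe u

namespace Groth.Agent.Helper5.GSp

open CategoryTheory CategoryTheory.Limits AlgebraicGeometry TopologicalSpace Topology IsLocalRing
open Groth.Agent.Helper5.GPI Groth.Agent.Helper5.SecNb

theorem range_SpecMap_subtype {L : Type u} [Field L] (A : ValuationSubring L) :
    Set.range (Spec.map (CommRingCat.ofHom A.subtype)) = {gen A} := by
  ext p
  simp only [Set.mem_range, Set.mem_singleton_iff]
  constructor
  · rintro ⟨q, rfl⟩
    apply PrimeSpectrum.ext
    show Ideal.comap A.subtype _ = ⊥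
    rw [eq_bot_iff]
    intro a ha
    have h1 : A.subtype a ∈ (q : PrimeSpectrum L).asIdeal := ha
    have h2 : (q : PrimeSpectrum L).asIdeal = ⊥ :=
      ((Ideal.eq_bot_or_top _).resolve_right (q : PrimeSpectrum L).isPrime.ne_top)
    rw [h2, Ideal.mem_bot] at h1
    rw [Ideal.mem_bot]
    exact Subtype.ext h1
  · rintro rfl
    refine ⟨(⊥ : PrimeSpectrum L), ?_⟩
    apply PrimeSpectrum.ext
    show Ideal.comap A.subtype ⊥ = ⊥
    rw [eq_bot_iff]
    intro a ha
    rw [Ideal.mem_comap, Ideal.mem_bot] at ha
    rw [Ideal.mem_bot]
    exact Subtype.ext ha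

set_option maxHeartbeats 1600000 in
theorem nGeomIrredComp_le_of_specializes {X Y : Scheme.{u}} [IsLocallyNoetherian Y] (f : X ⟶ Y)
    [IsProper f] [Flat f] [GeometricallyReduced f] {y y' : Y} (hsp : y' ⤳ y) :
    MoreMor.nGeomIrredComp f y' ≤ MoreMor.nGeomIrredComp f y := by
  classical
  by_cases hne : y' = y
  · subst hne; exact le_rfl
  haveI hlft : LocallyOfFiniteType (f.fiberToSpecResidueField y') :=
    inferInstanceAs (LocallyOfFiniteType (pullback.snd f (Y.fromSpecResidueField y')))
  haveI hqc : QuasiCompact (f.fiberToSpecResidueField y') :=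
    inferInstanceAs (QuasiCompact (pullback.snd f (Y.fromSpecResidueField y')))
  letI : (f.fiber y').Over (Spec (CommRingCat.of (Y.residueField y'))) :=
    ⟨f.fiberToSpecResidueField y'⟩
  haveI : LocallyOfFiniteType ((f.fiber y') ↘ Spec (CommRingCat.of (Y.residueField y'))) := hlft
  haveI : NoetherianSpace ↥(f.fiber y') :=
    @noetherianSpace_of_field (Y.residueField y') _ (f.fiber y') (f.fiberToSpecResidueField y') _ _
  obtain ⟨E, hE, hGI⟩ := Groth.Agent.Helper4.GalGeomIrr.main (Y.residueField y') (f.fiber y')
    NoetherianSpace.finite_irreducibleComponents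
  obtain ⟨A, hY, hdvr, hcl, hw⟩ := exists_dvr_hom hsp hne ↥E
  -- the base change to the discrete valuation ring
  obtain ⟨g, hg⟩ : ∃ g : pullback f hY ⟶ Spec (CommRingCat.of A), g = pullback.snd f hY := ⟨_, rfl⟩
  haveI : IsProper g := by rw [hg]; infer_instance
  haveI : Flat g := by rw [hg]; infer_instance
  haveI : GeometricallyReduced g := by rw [hg]; infer_instance
  have hred : IsReduced (g.fiber (closedPoint A)) := inferInstance
  obtain ⟨j, hj⟩ : ∃ j : Spec (CommRingCat.of ↥E) ⟶ Spec (CommRingCat.of A),
      j = Spec.map (CommRingCat.ofHom A.subtype) := ⟨_, rfl⟩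
  haveI : IsPreimmersion j := by
    rw [hj]
    exact IsPreimmersion.of_isLocalization (R := A) (S := ↥E) (nonZeroDivisors A)
  haveI : IsPreimmersion (pullback.fst g j) := inferInstance
  have hemb : IsEmbedding (pullback.fst g j) := (pullback.fst g j).isEmbedding
  have hi : Set.range (pullback.fst g j) = g ⁻¹' {gen A} := by
    rw [Scheme.Pullback.range_fst, hj, range_SpecMap_subtype]
  have hstep1 := encard_le_of_dvr A g hred (pullback.fst g j) hemb hi
  -- the closed fibre
  have hstep2 : (irreducibleComponents ↥(g.fiber (closedPoint A))).encard ≤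
      MoreMor.nGeomIrredComp f y := by
    refine (encard_fiber_le_nGeomIrredComp g (closedPoint A)).trans ?_
    rw [hg, Groth.Agent.S1334.result f (pullback.snd f hY) (pullback.fst f hY) hY
      (IsPullback.of_hasPullback f hY) (closedPoint A), hcl]
  -- the generic fibre
  have hstep3 : (irreducibleComponents ↥(pullback g j)).encard =
      (irreducibleComponents ↥(pullback (f.fiberToSpecResidueField y')
        (Spec.map (CommRingCat.ofHom (algebraMap (Y.residueField y') ↥E))))).encard := by
    have hw' : j ≫ hY = Spec.map (CommRingCat.ofHom (algebraMap (Y.residueField y') ↥E)) ≫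
        Y.fromSpecResidueField y' := by rw [hj]; exact hw
    let e1 : pullback (pullback.snd f hY) j ≅ pullback f (j ≫ hY) :=
      pullbackLeftPullbackSndIso f hY j
    let e2 : pullback (pullback.snd f (Y.fromSpecResidueField y'))
        (Spec.map (CommRingCat.ofHom (algebraMap (Y.residueField y') ↥E))) ≅
        pullback f (Spec.map (CommRingCat.ofHom (algebraMap (Y.residueField y') ↥E)) ≫
          Y.fromSpecResidueField y') :=
      pullbackLeftPullbackSndIso f (Y.fromSpecResidueField y') _
    let e3 : pullback f (j ≫ hY) ≅
        pullback f (Spec.map (CommRingCat.ofHom (algebraMap (Y.residueField y') ↥E)) ≫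
          Y.fromSpecResidueField y') := pullback.congrHom rfl hw'
    rw [hg]
    exact encard_eq_of_iso (e1 ≪≫ e3 ≪≫ e2.symm)
  have hfin : (irreducibleComponents ↥(pullback (f.fiberToSpecResidueField y')
      (Spec.map (CommRingCat.ofHom (algebraMap (Y.residueField y') ↥E))))).Finite := by
    haveI : NoetherianSpace ↥(pullback (f.fiberToSpecResidueField y')
        (Spec.map (CommRingCat.ofHom (algebraMap (Y.residueField y') ↥E)))) :=
      noetherianSpace_of_field (pullback.snd (f.fiberToSpecResidueField y')
        (Spec.map (CommRingCat.ofHom (algebraMap (Y.residueField y') ↥E))))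
    exact NoetherianSpace.finite_irreducibleComponents
  have hstep4 : MoreMor.nGeomIrredComp f y' ≤
      (irreducibleComponents ↥(pullback (f.fiberToSpecResidueField y')
        (Spec.map (CommRingCat.ofHom (algebraMap (Y.residueField y') ↥E))))).encard :=
    encard_bc_le_of_geomIrr (k := Y.residueField y') (L := ↥E)
      (K := SeparableClosure (Y.residueField y')) (f.fiberToSpecResidueField y') hfin
      (fun T hT => hGI T hT)
  calc MoreMor.nGeomIrredComp f y' ≤ _ := hstep4
    _ = _ := hstep3.symm
    _ ≤ _ := hstep1
    _ ≤ _ := hstep2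

end Groth.Agent.Helper5.GSp
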