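import Mathlib
import Groth.Prelude
import Groth.Agent.Helper5.GSpH
import Groth.Agent.Helper5.GCntJ
import Groth.Agent.Helper5.KLem6
import Groth.Agent.Helper3.GRO9
import Groth.Agent.Helper4.GeomFibBC

/-!
# GSpI: upper semicontinuity of the number of geometric irreducible components of the fibres of a
proper flat morphism with geometrically reduced fibres
-/

set_option autoImplicit false
set_option linter.unusedSectionVars false
set_option linter.unusedVariables false
set_option linter.style.haveILetI false
universe u

namespace Groth.Agent.Helper5.GSp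

open CategoryTheory CategoryTheory.Limits AlgebraicGeometry TopologicalSpace Topology IsLocalRing
open Groth.Agent.Helper5.GPI

set_option maxHeartbeats 800000 in
/-- the number of irreducible components of the base change of the fibre to an algebraic closure
of the residue field -/
theorem encard_algClosure_eq {X Y : Scheme.{u}} (f : X ⟶ Y) (y : Y) :
    (irreducibleComponents ↥(pullback f
      (Spec.map (CommRingCat.ofHom (algebraMap (Y.residueField y)
        (AlgebraicClosure (Y.residueField y)))) ≫ Y.fromSpecResidueField y))).encard =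
      MoreMor.nGeomIrredComp f y := by
  refine (encard_eq_of_iso (pullbackLeftPullbackSndIso f (Y.fromSpecResidueField y)
    (Spec.map (CommRingCat.ofHom (algebraMap (Y.residueField y)
        (AlgebraicClosure (Y.residueField y))))))).symm.trans ?_
  let lift : SeparableClosure (Y.residueField y) →ₐ[Y.residueField y]
      AlgebraicClosure (Y.residueField y) := IsAlgClosed.lift
  have hpb : IsPullback (𝟙 (f.fiber y)) (f.fiberToSpecResidueField y)
      (f.fiberToSpecResidueField y) (Spec.map (𝟙 (Y.residueField y))) := by
    rw [Spec.map_id]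
    exact IsPullback.of_horiz_isIso ⟨by simp⟩
  obtain ⟨n, hn⟩ := Groth.Agent.Helper4.GeomFibBC.exists_isPullback_bc
    (f.fiberToSpecResidueField y) (f.fiberToSpecResidueField y) (𝟙 _) (𝟙 _) hpb
    (CommRingCat.ofHom (algebraMap (Y.residueField y) (SeparableClosure (Y.residueField y))))
    (CommRingCat.ofHom (algebraMap (Y.residueField y) (AlgebraicClosure (Y.residueField y))))
    (CommRingCat.ofHom lift.toRingHom) (by
      rw [Category.id_comp]
      ext a
      exact lift.commutes a)
  exact (Groth.Agent.Helper4.GeomFibBC.card_components_eq lift.toRingHom _ _ n hn).1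

theorem noetherianSpace_bc {k K : Type u} [Field k] [Field K] [Algebra k K] {Z : Scheme.{u}}
    (h : Z ⟶ Spec (CommRingCat.of k)) [LocallyOfFiniteType h] [QuasiCompact h] :
    NoetherianSpace ↥(pullback h (Spec.map (CommRingCat.ofHom (algebraMap k K)))) :=
  noetherianSpace_of_field (pullback.snd h (Spec.map (CommRingCat.ofHom (algebraMap k K))))

theorem nGeomIrredComp_lt_top {X Y : Scheme.{u}} (f : X ⟶ Y) [LocallyOfFiniteType f]
    [QuasiCompact f] (y : Y) : MoreMor.nGeomIrredComp f y < ⊤ := by
  have hlft : LocallyOfFiniteType (f.fiberToSpecResidueField y) :=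
    inferInstanceAs (LocallyOfFiniteType (pullback.snd f (Y.fromSpecResidueField y)))
  have hqc : QuasiCompact (f.fiberToSpecResidueField y) :=
    inferInstanceAs (QuasiCompact (pullback.snd f (Y.fromSpecResidueField y)))
  haveI : NoetherianSpace ↥(MoreMor.geomFiber f y) :=
    @noetherianSpace_bc (Y.residueField y) (SeparableClosure (Y.residueField y)) _ _ _
      (f.fiber y) (f.fiberToSpecResidueField y) hlft hqc
  show (irreducibleComponents ↥(MoreMor.geomFiber f y)).encard < ⊤
  rw [Set.encard_lt_top_iff]
  exact NoetherianSpace.finite_irreducibleComponents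

/-- all fibres are geometrically reduced if those over the closed points are -/
theorem geometricallyReduced_of_closedPoints {X Y : Scheme.{u}} [CompactSpace ↥Y] (f : X ⟶ Y)
    [IsProper f] [Flat f] [LocallyOfFinitePresentation f]
    (hred : ∀ y : ↥Y, IsClosed ({y} : Set ↥Y) →
      GeometricallyReduced (f.fiberToSpecResidueField y)) : GeometricallyReduced f := by
  have hopen := Groth.Agent.Helper3.GRO.isOpen_geometricallyReduced_fiber f f.isClosedMap
  have hall : ∀ y : Y, GeometricallyReduced (f.fiberToSpecResidueField y) := by
    by_contra hcon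
    push Not at hcon
    obtain ⟨y₀, hy₀⟩ := hcon
    obtain ⟨y, hy, hycl⟩ := hopen.isClosed_compl.exists_closed_singleton ⟨y₀, hy₀⟩
    exact hy (hred y hycl)
  refine ⟨?_⟩
  rw [geometrically_iff_forall_fiberToSpecResidueField]
  exact fun y => (hall y).geometrically_isReduced

set_option maxHeartbeats 800000 in
theorem upperSemicontinuous_card {X Y : Scheme.{u}} [IsLocallyNoetherian Y] [CompactSpace ↥Y]
    (f : X ⟶ Y) [IsProper f] [Flat f]
    (hred : ∀ y : ↥Y, IsClosed ({y} : Set ↥Y) →
      GeometricallyReduced (f.fiberToSpecResidueField y)) :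
    UpperSemicontinuous (fun y : ↥Y =>
      Nat.card ↥(irreducibleComponents (↥(pullback f
        (Spec.map (CommRingCat.ofHom (algebraMap (Y.residueField y)
          (AlgebraicClosure (Y.residueField y)))) ≫ Y.fromSpecResidueField y)) : Type u))) := by
  haveI : LocallyOfFinitePresentation f :=
    LocallyOfFinitePresentation.iff_locallyOfFiniteType.2 inferInstance
  haveI : GeometricallyReduced f := geometricallyReduced_of_closedPoints f hred
  have hN : ∀ y : Y, Nat.card ↥(irreducibleComponents (↥(pullback f
        (Spec.map (CommRingCat.ofHom (algebraMap (Y.residueField y)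
          (AlgebraicClosure (Y.residueField y)))) ≫ Y.fromSpecResidueField y)) : Type u)) =
      (MoreMor.nGeomIrredComp f y).toNat := by
    intro y
    rw [Nat.card_coe_set_eq, Set.ncard_def, encard_algClosure_eq]
  intro y₀ c hc
  simp only [hN] at hc ⊢
  have hlc : IsLocallyConstructible {y : Y | MoreMor.nGeomIrredComp f y < (c : ℕ∞)} :=
    Groth.Agent.Helper5.GCnt.isLocallyConstructible_cnt {p | p.1 < (c : ℕ∞)} f
  have hmem : {y : Y | MoreMor.nGeomIrredComp f y < (c : ℕ∞)} ∈ nhds y₀ := by
    apply Groth.Agent.Helper5.KLem.mem_nhds_of_isLocallyConstructible _ hlc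
    intro t ht
    have h1 := nGeomIrredComp_le_of_specializes f ht
    refine lt_of_le_of_lt h1 ?_
    obtain ⟨m, hm⟩ := ENat.ne_top_iff_exists.mp (nGeomIrredComp_lt_top f y₀).ne
    rw [← hm] at hc ⊢
    rw [ENat.toNat_natCast] at hc
    exact_mod_cast hc
  refine Filter.mem_of_superset hmem ?_
  intro y hy
  obtain ⟨m, hm⟩ := ENat.ne_top_iff_exists.mp (nGeomIrredComp_lt_top f y).ne
  have hy' : MoreMor.nGeomIrredComp f y < (c : ℕ∞) := hy
  rw [← hm] at hy'
  show (MoreMor.nGeomIrredComp f y).toNat < c
  rw [← hm, ENat.toNat_natCast]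
  exact_mod_cast hy'

end Groth.Agent.Helper5.GSp
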