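import Groth.Agent.Helper7.UHRing
import Mathlib

set_option autoImplicit false
universe u

namespace Groth.Agent.Helper5.GUH

open Groth.Agent.Helper7.UHRing

theorem pow_expChar_mem_of_le {A : Type*} [CommRing A] (S : Subring A) (q : ℕ) {x : A} {m m' : ℕ}
    (h : x ^ q ^ m ∈ S) (hm : m ≤ m') : x ^ q ^ m' ∈ S := by
  obtain ⟨l, rfl⟩ := Nat.exists_eq_add_of_le hm
  rw [pow_add, pow_mul]
  exact pow_mem h _

/-- Two ring homs from a field agreeing on a ring of fractions generators agree. -/
theorem ringHom_eq_of_frac {R k L : Type*} [CommRing R] [Field k] [Field L] (ev : R →+* k)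
    (hfrac : ∀ x : k, ∃ a s : R, ev s ≠ 0 ∧ x * ev s = ev a) (f g : k →+* L)
    (h : f.comp ev = g.comp ev) : f = g := by
  ext x
  obtain ⟨a, s, hs, has⟩ := hfrac x
  have h1 : ∀ r, f (ev r) = g (ev r) := fun r => congrArg (fun t => t r) h
  have h2 : f x * f (ev s) = g x * f (ev s) := by
    rw [← map_mul, has, h1 a, ← has, map_mul, h1 s]
  have h3 : f (ev s) ≠ 0 := (map_ne_zero f).mpr hs
  exact mul_right_cancel₀ h3 h2

/-- Spreading out a finite purely inseparable extension of the "fraction field" `k` of `R` to a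
finite universal homeomorphism `R → B` with `B` a domain with fraction field `k'`. -/
theorem exists_model {R k k' : Type u} [CommRing R] [Field k] [Field k'] [Algebra k k']
    [FiniteDimensional k k'] [IsPurelyInseparable k k'] (ev : R →+* k)
    (hfrac : ∀ x : k, ∃ a s : R, ev s ≠ 0 ∧ x * ev s = ev a)
    (hker : ∀ a : R, ev a = 0 → IsNilpotent a) :
    ∃ (B : Type u) (_ : CommRing B) (_ : IsDomain B) (φ : R →+* B) (ι : B →+* k'),
      Function.Injective ι ∧ ι.comp φ = (algebraMap k k').comp ev ∧ φ.Finite ∧ IsUH φ ∧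
      ∀ z : k', ∃ x y : B, y ≠ 0 ∧ z * ι y = ι x := by
  classical
  obtain ⟨q, hq⟩ : ∃ q, ExpChar k q := ⟨ringExpChar k, inferInstance⟩
  haveI : ExpChar k' q := expChar_of_injective_algebraMap (algebraMap k k').injective q
  letI : Algebra R k' := ((algebraMap k k').comp ev).toAlgebra
  have halg : ∀ r : R, algebraMap R k' r = algebraMap k k' (ev r) := fun _ => rfl
  have hqpos : ∀ m : ℕ, q ^ m ≠ 0 := fun m => pow_ne_zero _ (expChar_pos k q).ne'
  let bas := Module.finBasis k k'
  have h1 : ∀ i, ∃ (n : ℕ) (a s : R), ev s ≠ 0 ∧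
      (bas i) ^ q ^ n * algebraMap k k' (ev s) = algebraMap k k' (ev a) := by
    intro i
    obtain ⟨n, y, hy⟩ := IsPurelyInseparable.pow_mem k q (bas i)
    obtain ⟨a, s, hs, has⟩ := hfrac y
    refine ⟨n, a, s, hs, ?_⟩
    rw [← hy, ← map_mul, has]
  choose n a s hs has using h1
  let β : Fin (Module.finrank k k') → k' := fun i => algebraMap k k' (ev (s i)) * bas i
  have hβ : ∀ i, (β i) ^ q ^ (n i) ∈ (algebraMap R k').range := by
    intro i
    refine ⟨s i ^ (q ^ n i - 1) * a i, ?_⟩
    rw [halg, map_mul, map_mul, map_pow, map_pow, ← has i]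
    simp only [β]
    rw [mul_pow, ← pow_sub_one_mul (hqpos (n i)) (algebraMap k k' (ev (s i)))]
    ring
  let B : Subalgebra R k' := Algebra.adjoin R (Set.range β)
  have hBpow : ∀ x ∈ B, ∃ m : ℕ, x ^ q ^ m ∈ (algebraMap R k').range := by
    intro x hx
    induction hx using Algebra.adjoin_induction with
    | mem x hx =>
      obtain ⟨i, rfl⟩ := hx
      exact ⟨n i, hβ i⟩
    | algebraMap r => exact ⟨0, r, by simp⟩
    | add x y _ _ hx hy =>
      obtain ⟨m₁, h₁⟩ := hx
      obtain ⟨m₂, h₂⟩ := hy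
      refine ⟨max m₁ m₂, ?_⟩
      rw [add_pow_expChar_pow]
      exact add_mem (pow_expChar_mem_of_le _ q h₁ (le_max_left _ _))
        (pow_expChar_mem_of_le _ q h₂ (le_max_right _ _))
    | mul x y _ _ hx hy =>
      obtain ⟨m₁, h₁⟩ := hx
      obtain ⟨m₂, h₂⟩ := hy
      refine ⟨max m₁ m₂, ?_⟩
      rw [mul_pow]
      exact mul_mem (pow_expChar_mem_of_le _ q h₁ (le_max_left _ _))
        (pow_expChar_mem_of_le _ q h₂ (le_max_right _ _))
  have hβint : ∀ x ∈ Set.range β, IsIntegral R x := by
    rintro _ ⟨i, rfl⟩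
    obtain ⟨r, hr⟩ := hβ i
    refine IsIntegral.of_pow (Nat.pos_of_ne_zero (hqpos (n i))) ?_
    rw [← hr]
    exact isIntegral_algebraMap
  have hfin : Module.Finite R B := by
    have : (Subalgebra.toSubmodule B).FG := fg_adjoin_of_finite (Set.finite_range β) hβint
    exact Module.Finite.iff_fg.mpr this
  have hιφ : (B.val : B →+* k').comp (algebraMap R B) = (algebraMap k k').comp ev := by
    ext r; rfl
  refine ⟨B, inferInstance, inferInstance, algebraMap R B, (B.val : B →+* k'),
    Subtype.val_injective, hιφ, RingHom.finite_algebraMap.mpr hfin, ⟨?_, ?_, ?_⟩, ?_⟩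
  · exact RingHom.IsIntegral.of_finite (RingHom.finite_algebraMap.mpr hfin)
  · intro K _ h₁ h₂ h12
    ext x
    obtain ⟨m, r, hr⟩ := hBpow x.1 x.2
    have hxr : x ^ q ^ m = algebraMap R B r := Subtype.ext hr.symm
    have hpow : h₁ x ^ q ^ m = h₂ x ^ q ^ m := by
      rw [← map_pow, ← map_pow, hxr]
      exact congrArg (fun t => t r) h12
    cases hq with
    | zero =>
      simpa using hpow
    | prime hprime =>
      have hq0 : ((q : ℕ) : K) = 0 := by
        have h0 : ((q : ℕ) : k') = 0 := by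
          have : ((q : ℕ) : k) = 0 := CharP.cast_eq_zero k q
          rw [← map_natCast (algebraMap k k'), this, map_zero]
        have h0B : ((q : ℕ) : B) = 0 := Subtype.ext (by simpa using h0)
        rw [← map_natCast h₁, h0B, map_zero]
      haveI : CharP K q := (CharP.charP_iff_prime_eq_zero hprime).mpr hq0
      haveI : ExpChar K q := ExpChar.prime hprime
      have : (h₁ x - h₂ x) ^ q ^ m = 0 := by
        rw [sub_pow_expChar_pow, hpow, sub_self]
      exact sub_eq_zero.mp (pow_eq_zero_iff (hqpos m) |>.mp this)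
  · intro r hr
    apply hker
    have : algebraMap k k' (ev r) = 0 := congrArg Subtype.val hr
    exact (map_eq_zero (algebraMap k k')).mp this
  · intro z
    rw [← bas.sum_repr z]
    refine Finset.sum_induction _ (fun z => ∃ x y : B, y ≠ 0 ∧ z * (B.val : B →+* k') y =
      (B.val : B →+* k') x) ?_ ?_ ?_
    · rintro z₁ z₂ ⟨x₁, y₁, hy₁, h₁⟩ ⟨x₂, y₂, hy₂, h₂⟩
      refine ⟨x₁ * y₂ + x₂ * y₁, y₁ * y₂, mul_ne_zero hy₁ hy₂, ?_⟩
      rw [map_mul, map_add, map_mul, map_mul, ← h₁, ← h₂]
      ring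
    · exact ⟨0, 1, one_ne_zero, by simp⟩
    · intro i _
      obtain ⟨a', t, ht, hat⟩ := hfrac (bas.repr z i)
      refine ⟨algebraMap R B a' * ⟨β i, Algebra.subset_adjoin ⟨i, rfl⟩⟩,
        algebraMap R B (t * s i), ?_, ?_⟩
      · intro h0
        have : algebraMap k k' (ev (t * s i)) = 0 := congrArg Subtype.val h0
        rw [map_eq_zero, map_mul] at this
        exact mul_ne_zero ht (hs i) this
      · show bas.repr z i • bas i * algebraMap k k' (ev (t * s i)) =
          algebraMap k k' (ev a') * β i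
        rw [← hat, Algebra.smul_def, map_mul, map_mul, map_mul]
        simp only [β]
        ring

end Groth.Agent.Helper5.GUH
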