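import Groth.Agent.Helper5.GUHa
import Groth.Agent.Helper5.GFEc
import Mathlib

set_option autoImplicit false
universe u
open CategoryTheory CategoryTheory.Limits AlgebraicGeometry Opposite

namespace Groth.Agent.Helper5.GUH

open Groth.Agent.Helper7.UHRing Groth.Agent.Helper5.GFE

theorem isUnivHomeo_respectsIso :
    (FlatMor.IsUnivHomeo : MorphismProperty Scheme.{u}).RespectsIso := by
  unfold FlatMor.IsUnivHomeo
  infer_instance

theorem isUnivHomeo_isStableUnderBaseChange :
    (FlatMor.IsUnivHomeo : MorphismProperty Scheme.{u}).IsStableUnderBaseChange := by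
  unfold FlatMor.IsUnivHomeo
  infer_instance

section

variable {Y : Scheme.{u}} {V : Y.Opens} (hV : IsAffineOpen V)

include hV in
theorem evaluation_frac (η : Y) (hη : η ∈ V) (x : Y.residueField η) :
    ∃ a s : Γ(Y, V), (Y.evaluation V η hη).hom s ≠ 0 ∧
      x * (Y.evaluation V η hη).hom s = (Y.evaluation V η hη).hom a := by
  obtain ⟨t, rfl⟩ := Y.residue_surjective η x
  letI := Y.presheaf.algebra_section_stalk ⟨η, hη⟩
  haveI := hV.isLocalization_stalk ⟨η, hη⟩
  obtain ⟨⟨a, s⟩, hs⟩ := IsLocalization.surj (hV.primeIdealOf ⟨η, hη⟩).asIdeal.primeCompl t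
  have hunit : IsUnit (algebraMap Γ(Y, V) (Y.presheaf.stalk η) s) :=
    IsLocalization.map_units _ s
  refine ⟨a, s, ?_, ?_⟩
  · have : IsUnit ((Y.residue η).hom (algebraMap Γ(Y, V) (Y.presheaf.stalk η) s)) :=
      hunit.map _
    exact this.ne_zero
  · have := congrArg (Y.residue η).hom hs
    rw [map_mul] at this
    exact this

include hV in
theorem isNilpotent_of_evaluation_genericPoint [IrreducibleSpace Y] (hη : genericPoint Y ∈ V)
    (a : Γ(Y, V)) (h : (Y.evaluation V (genericPoint Y) hη).hom a = 0) : IsNilpotent a := by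
  rw [Scheme.isNilpotent_iff_basicOpen_eq_bot_of_isCompact hV.isCompact]
  have h1 : genericPoint Y ∉ Y.basicOpen a := by
    have := (Scheme.evaluation_eq_zero_iff_notMem_basicOpen Y (genericPoint Y) hη a).mp
    exact this h
  by_contra hne
  have hne' : (Y.basicOpen a : Set Y).Nonempty := by
    rw [Set.nonempty_iff_ne_empty]
    intro h0
    exact hne (TopologicalSpace.Opens.ext (by rw [h0]; rfl))
  apply h1
  have := ((genericPoint_spec Y).mem_open_set_iff (Y.basicOpen a).isOpen).mpr
  exact this (by simpa using hne')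

/-- The morphism `Spec B → V` attached to an algebra over the sections of an affine open. -/
noncomputable def cov (B : Type u) [CommRing B] [Algebra Γ(Y, V) B] :
    Spec (CommRingCat.of B) ⟶ (V : Scheme.{u}) :=
  Spec.map (CommRingCat.ofHom (algebraMap Γ(Y, V) B)) ≫ hV.isoSpec.inv

theorem cov_ι (B : Type u) [CommRing B] [Algebra Γ(Y, V) B] :
    cov hV B ≫ V.ι = strMap hV B := by
  unfold cov strMap
  rw [Category.assoc, IsAffineOpen.isoSpec_inv_ι]

theorem isFinite_cov (B : Type u) [CommRing B] [Algebra Γ(Y, V) B]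
    (h : (algebraMap Γ(Y, V) B).Finite) : IsFinite (cov hV B) := by
  haveI : IsFinite (Spec.map (CommRingCat.ofHom (algebraMap Γ(Y, V) B))) := by
    rw [IsFinite.SpecMap_iff]
    exact h
  unfold cov
  infer_instance

theorem isUnivHomeo_cov (B : Type u) [CommRing B] [Algebra Γ(Y, V) B]
    (h : IsUH (algebraMap Γ(Y, V) B)) : FlatMor.IsUnivHomeo (cov hV B) := by
  have h1 := (isUH_iff _).mp h
  haveI := isUnivHomeo_respectsIso.{u}
  unfold cov
  exact (MorphismProperty.cancel_right_of_respectsIso _ _ _).mpr h1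

theorem range_strMap (B : Type u) [CommRing B] [Algebra Γ(Y, V) B]
    (h : IsUH (algebraMap Γ(Y, V) B)) : Set.range (strMap hV B) = V := by
  unfold strMap
  rw [Scheme.Hom.comp_base, TopCat.coe_comp, Set.range_comp]
  have : Set.range (Spec.map (CommRingCat.ofHom (algebraMap Γ(Y, V) B))) = Set.univ :=
    Set.range_eq_univ.mpr h.comap_bijective.2
  rw [this, Set.image_univ, hV.range_fromSpec]

theorem strMap_eq_genericPoint [IrreducibleSpace Y] (hη : genericPoint Y ∈ V)
    (B : Type u) [CommRing B] [Algebra Γ(Y, V) B] (h : IsUH (algebraMap Γ(Y, V) B))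
    (y : Spec (CommRingCat.of B)) (hy : closure ({y} : Set (Spec (CommRingCat.of B))) = Set.univ) :
    strMap hV B y = genericPoint Y := by
  have h1 : genericPoint Y ⤳ strMap hV B y := genericPoint_specializes _
  have h2 : strMap hV B y ⤳ genericPoint Y := by
    rw [specializes_iff_mem_closure]
    have h3 : genericPoint Y ∈ Set.range (strMap hV B) := by rw [range_strMap hV B h]; exact hη
    rw [← Set.image_univ, ← hy] at h3
    have := image_closure_subset_closure_image (strMap hV B).continuous h3
    rwa [Set.image_singleton] at this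
  exact (h2.antisymm h1).eq

theorem exists_theta' (B : Type u) [CommRing B] [Algebra Γ(Y, V) B] (η : Y) (hη : η ∈ V)
    (k' : Type u) [Field k'] [Algebra (Y.residueField η) k'] (ι : B →+* k')
    (hι : Function.Injective ι)
    (hιφ : ι.comp (algebraMap Γ(Y, V) B) =
      (algebraMap (Y.residueField η) k').comp (Y.evaluation V η hη).hom)
    (hfr : ∀ z : k', ∃ x y : B, y ≠ 0 ∧ z * ι y = ι x)
    (y : Spec (CommRingCat.of B)) (hy0 : y.asIdeal = ⊥) (hy : strMap hV B y = η) :
    ∃ θ : k' →+* (Spec (CommRingCat.of B)).residueField y,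
      Spec.map (CommRingCat.ofHom (θ.comp (algebraMap (Y.residueField η) k'))) ≫
          Y.fromSpecResidueField η =
        (Spec (CommRingCat.of B)).fromSpecResidueField y ≫ strMap hV B := by
  subst hy
  letI : Algebra B k' := ι.toAlgebra
  haveI : FaithfulSMul B k' := (faithfulSMul_iff_algebraMap_injective B k').mpr hι
  haveI : IsFractionRing B k' := by
    refine IsFractionRing.of_field B k' ?_
    intro z
    obtain ⟨x, y', hy', hxy⟩ := hfr z
    refine ⟨x, y', ?_⟩
    have : ι y' ≠ 0 := (map_ne_zero_iff ι hι).mpr hy'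
    exact (eq_div_iff this).mpr hxy
  have hinj : Function.Injective (evalAt B y) := by
    rw [RingHom.injective_iff_ker_eq_bot, ker_evalAt, hy0]
  obtain ⟨θ, hθ⟩ : ∃ θ : k' →+* (Spec (CommRingCat.of B)).residueField y,
      ∀ b : B, θ (algebraMap B k' b) = evalAt B y b :=
    ⟨IsFractionRing.lift hinj, fun b => IsFractionRing.lift_algebraMap hinj b⟩
  have hθι : θ.comp ι = evalAt B y := by
    ext b
    exact hθ b
  refine ⟨θ, ?_⟩
  have hcomp : θ.comp (algebraMap (Y.residueField (strMap hV B y)) k') =
      ((strMap hV B).residueFieldMap y).hom := by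
    apply ringHom_eq_of_frac (Y.evaluation V (strMap hV B y) hη).hom
      (evaluation_frac hV (strMap hV B y) hη)
    rw [RingHom.comp_assoc, ← hιφ, ← RingHom.comp_assoc, hθι]
    exact evalAt_comp hV B y
  rw [hcomp]
  exact Scheme.Hom.SpecMap_residueFieldMap_fromSpecResidueField (strMap hV B) y

end

end Groth.Agent.Helper5.GUH
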