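import Mathlib
import Groth.Agent.Helper4.GeomRedMin
import Groth.Agent.Helper5.GRed6
import Groth.Agent.S4368

set_option autoImplicit false
universe u
open CategoryTheory CategoryTheory.Limits AlgebraicGeometry Opposite TensorProduct

namespace Groth.Agent.Helper5.GVan

/-- If `L ⊗ K` is reduced for every field `L`, then `R ⊗ K` is reduced for every reduced `R`. -/
theorem isReduced_tensor_of_forall_field {k K : Type u} [Field k] [Field K] [Algebra k K]
    (hK : ∀ (L : Type u) [Field L] [Algebra k L], IsReduced (L ⊗[k] K))
    (R : Type u) [CommRing R] [Algebra k R] [IsReduced R] : IsReduced (R ⊗[k] K) := by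
  let 𝓑 := Module.Free.chooseBasis k K
  constructor
  intro z hz
  have hcoord : ∀ i, (Algebra.TensorProduct.basis R 𝓑).repr z i = 0 := by
    intro i
    have hmem : (Algebra.TensorProduct.basis R 𝓑).repr z i ∈ nilradical R := by
      rw [nilradical_eq_sInf, Ideal.mem_sInf]
      intro 𝔮 h𝔮
      haveI : 𝔮.IsPrime := h𝔮
      let L := FractionRing (R ⧸ 𝔮)
      let φ : R →ₐ[k] L :=
        (IsScalarTower.toAlgHom k (R ⧸ 𝔮) L).comp (Ideal.Quotient.mkₐ k 𝔮)
      have hφ : ∀ r : R, φ r = 0 → r ∈ 𝔮 := by
        intro r hr
        have h1 : algebraMap (R ⧸ 𝔮) L (Ideal.Quotient.mk 𝔮 r) = 0 := hr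
        have h2 : Ideal.Quotient.mk 𝔮 r = 0 :=
          (IsFractionRing.injective (R ⧸ 𝔮) L) (by rw [h1, map_zero])
        exact Ideal.Quotient.eq_zero_iff_mem.mp h2
      apply hφ
      rw [← Groth.Agent.Helper4.GeomRedMin.repr_map 𝓑 φ z i]
      have h1 : IsNilpotent (Algebra.TensorProduct.map φ (AlgHom.id k K) z) := hz.map _
      rw [(hK L).eq_zero _ h1]
      simp
    rw [nilradical_eq_zero] at hmem
    exact hmem
  apply (Algebra.TensorProduct.basis R 𝓑).repr.injective
  ext i
  rw [hcoord i]
  simp

/-- A geometrically reduced field extension stays reduced after tensoring with any field. -/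
theorem forall_field_of_geometricallyReduced {k K : Type u} [Field k] [Field K] [Algebra k K]
    [GeometricallyReduced (Spec.map (CommRingCat.ofHom (algebraMap k K)))]
    (L : Type u) [Field L] [Algebra k L] : IsReduced (L ⊗[k] K) := by
  have h1 : IsReduced (pullback (Spec.map (CommRingCat.ofHom (algebraMap k K)))
      (Spec.map (CommRingCat.ofHom (algebraMap k L)))) :=
    GeometricallyReduced.geometrically_isReduced _ _ _ (IsPullback.of_hasPullback _ _)
  have h2 : IsReduced (Spec (CommRingCat.of (K ⊗[k] L))) :=
    isReduced_of_isOpenImmersion (pullbackSpecIso k K L).inv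
  rw [affine_isReduced_iff] at h2
  exact isReduced_of_injective (Algebra.TensorProduct.comm k L K).toRingHom
    (Algebra.TensorProduct.comm k L K).injective

/-- Base change of a reduced scheme along a geometrically reduced field extension is reduced. -/
theorem isReduced_pullback_field {k K : Type u} [Field k] [Field K] [Algebra k K]
    (hK : ∀ (L : Type u) [Field L] [Algebra k L], IsReduced (L ⊗[k] K))
    {Z : Scheme.{u}} [IsReduced Z] (p : Z ⟶ Spec (CommRingCat.of k)) :
    IsReduced (pullback p (Spec.map (CommRingCat.ofHom (algebraMap k K)))) := by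
  refine Groth.Agent.Helper5.GRed.isReduced_pullback_of_cover p
    (CommRingCat.ofHom (algebraMap k K)) (fun i => Z.affineOpenCover.X i)
    (fun i => Z.affineOpenCover.f i) (fun x => ?_) (fun i => ?_)
  · obtain ⟨y, hy⟩ := Z.affineOpenCover.openCover.covers x
    exact ⟨_, y, hy⟩
  · letI : Algebra (CommRingCat.of k) (Z.affineOpenCover.X i) :=
      (Spec.preimage (Z.affineOpenCover.f i ≫ p)).hom.toAlgebra
    haveI : IsReduced (Spec (Z.affineOpenCover.X i)) :=
      isReduced_of_isOpenImmersion (Z.affineOpenCover.f i)
    haveI : _root_.IsReduced (Z.affineOpenCover.X i) := (affine_isReduced_iff _).mp inferInstance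
    have hA : (CommRingCat.Hom.hom (CommRingCat.ofHom (algebraMap k K))).toAlgebra =
        ‹Algebra k K› := Algebra.algebra_ext _ _ (fun r => rfl)
    have h3 := isReduced_tensor_of_forall_field (k := k) (K := K) hK (Z.affineOpenCover.X i)
    rw [hA]
    exact h3

end Groth.Agent.Helper5.GVan
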