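import Groth.Agent.Helper5.GenComp1
import Groth.Agent.Helper5.ProdDim

set_option autoImplicit false
universe u

namespace Groth.Agent.Helper5.GenComp

open CategoryTheory CategoryTheory.Limits AlgebraicGeometry TopologicalSpace Topology
open Groth.Agent.Helper5.PtOpen Groth.Agent.Helper5.GenDim Groth.Agent.Helper5.KLem

theorem s4702 {X Y : Scheme.{u}} (f : X ⟶ Y) [IsLocallyNoetherian Y]
    [IrreducibleSpace Y] [IrreducibleSpace X] (hY : topologicalKrullDim Y = 1) [LocallyOfFiniteType f]
    [QuasiCompact f] (hf : DenseRange f.base) (y : Y) (hy : y ∈ Set.range f.base)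
    (Z : Set ↥(f.fiber y)) (hZ : Z ∈ irreducibleComponents ↥(f.fiber y)) :
    topologicalKrullDim Z = topologicalKrullDim ↥(f.fiber (genericPoint Y)) := by
  let ξ := genericPoint X
  have hfξ : f ξ = genericPoint Y := map_genericPoint f hf
  have hmem : topologicalKrullDim ↥Z ∈ compDims f y := ⟨Z, hZ, rfl⟩
  obtain ⟨x, hx, hxd⟩ := exists_point_of_mem_compDims f y _ hmem
  have hξmax : ∀ w : X, f w = f ξ → w ⤳ ξ → w = ξ := by
    intro w _ hw
    have h2 : ξ ⤳ w := by
      rw [specializes_iff_mem_closure, (genericPoint_spec X).def]; exact Set.mem_univ _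
    exact (hw.antisymm h2).eq
  obtain ⟨d, -, hd2⟩ := Groth.Agent.Helper5.MaxPt.fibreDimAt_of_maximal f ξ
    (Groth.Agent.Helper5.MaxPt.coheight_asFiber_eq_zero f ξ hξmax)
  have hdim1 : ringKrullDim (Y.presheaf.stalk (f x)) ≤ 1 := by
    rw [ringKrullDim_stalk_eq_coheight, ← hY]
    exact (Groth.Agent.Helper5.OverField.coheight_le_localDim Y (f x)).trans
      (Groth.Agent.Helper5.OverField.localDim_le_dim Y (f x))
  have hgen : ∀ Z' ∈ irreducibleComponents (X : Type u), x ∈ Z' → ∀ η : X, IsGenericPoint η Z' →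
      FlatMor.fibreDimAt f η = d := by
    intro Z' hZ' _ η hη
    rw [irreducibleComponents_eq_singleton, Set.mem_singleton_iff] at hZ'
    subst hZ'
    have : η = ξ := hη.eq (genericPoint_spec X)
    rw [this]
    exact hd2
  have h1 := Groth.Agent.Helper5.NoeStalk.s1554 f x hdim1 d hgen
  rw [← hxd, h1, ← hd2, fibreDimAt_genericPoint f, dim_fiber_eq_preimage]
  show topologicalKrullDim ↥(f ⁻¹' {f ξ}) = topologicalKrullDim ↥(f ⁻¹' {genericPoint Y})
  rw [hfξ]

end Groth.Agent.Helper5.GenComp
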