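import Groth.Agent.Helper5.GenDim3
import Groth.Agent.Helper5.OpenGen
import Groth.Agent.Lead.ValSpec
import Mathlib

set_option autoImplicit false
universe u
open CategoryTheory CategoryTheory.Limits AlgebraicGeometry TopologicalSpace

namespace Groth.Agent.Helper5.GenDim

open Groth.Agent.Helper5.VarDim

/-- (N) In the closure of a subset of a fibre of a quasi-compact morphism locally of finite type,
every point is a specialisation of a point of the fibre lying in that closure. -/
theorem exists_generic_in_closure {X' T : Scheme.{u}} (f' : X' ⟶ T) [LocallyOfFiniteType f']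
    [QuasiCompact f'] (η : T) (B : Set X') (hB : B ⊆ f' ⁻¹' {η}) (ζ' : X')
    (hζ' : ζ' ∈ closure B) : ∃ γ : X', γ ∈ closure B ∧ f' γ = η ∧ γ ⤳ ζ' := by
  let j := f'.fiberι η
  have hemb : Topology.IsEmbedding j := (f'.fiberι η).isEmbedding
  have hLN : IsLocallyNoetherian (f'.fiber η) := isLocallyNoetherian_fiber f' η
  have hcpt : CompactSpace ↥(f'.fiber η) :=
    inferInstanceAs (CompactSpace ↥(pullback f' (T.fromSpecResidueField η)))
  have hN : IsNoetherian (f'.fiber η) := { }
  have hNS : NoetherianSpace ↥(f'.fiber η) := inferInstance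
  let B₀ : Set ↥(f'.fiber η) := j ⁻¹' B
  have himg : j '' B₀ = B := by
    rw [Set.image_preimage_eq_inter_range, Scheme.Hom.range_fiberι]
    exact Set.inter_eq_left.2 hB
  obtain ⟨Sf, hfin, hcl, hirr, hU⟩ :=
    NoetherianSpace.exists_finite_set_isClosed_irreducible (isClosed_closure (s := B₀))
  have h1 : B ⊆ ⋃ t ∈ Sf, j '' t := by
    rw [← himg]
    rintro _ ⟨b, hb, rfl⟩
    have : b ∈ ⋃₀ Sf := hU ▸ subset_closure hb
    obtain ⟨t, ht, hbt⟩ := this
    exact Set.mem_biUnion ht ⟨b, hbt, rfl⟩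
  have h2 : ζ' ∈ ⋃ t ∈ Sf, closure (j '' t) := by
    rw [← hfin.closure_biUnion]
    exact closure_mono h1 hζ'
  obtain ⟨t, ht, hζt⟩ := Set.mem_iUnion₂.1 h2
  obtain ⟨γF, hγF⟩ := QuasiSober.sober (hirr t ht) (hcl t ht)
  have hsub : j '' t ⊆ closure {j γF} := by
    rintro _ ⟨z, hz, rfl⟩
    have : γF ⤳ z := hγF.specializes hz
    exact (this.map j.continuous).mem_closure
  have h3 : ζ' ∈ closure ({j γF} : Set X') := by
    have := closure_mono hsub hζt
    rwa [closure_closure] at this
  refine ⟨j γF, ?_, apply_fiberι f' η γF, specializes_iff_mem_closure.2 h3⟩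
  have h4 : γF ∈ closure B₀ := by
    rw [hU]; exact ⟨t, ht, hγF.mem⟩
  have h5 : j γF ∈ closure (j '' B₀) :=
    image_closure_subset_closure_image j.continuous ⟨γF, h4, rfl⟩
  rwa [himg] at h5

/-- (G) Points of the image of a universally open family over a specialisation lie in the closure of
the points over the generisation. -/
theorem subset_closure_of_universallyOpen {X S X' S' : Scheme.{u}} (f : X ⟶ S) (c : S' ⟶ S)
    (pX : X' ⟶ X) (f' : X' ⟶ S') (hsq : IsPullback pX f' f c) {Y : Scheme.{u}} (g : Y ⟶ S)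
    [UniversallyOpen g] (v : Y ⟶ X) (hv : v ≫ f = g) (o η : S') (hηo : η ⤳ o) (x' : X')
    (hx'1 : pX x' ∈ Set.range v) (hx'2 : f' x' = o) :
    x' ∈ closure (pX ⁻¹' (Set.range v) ∩ f' ⁻¹' {η}) := by
  obtain ⟨y, hy⟩ := hx'1
  let a : pullback v pX ⟶ Y := pullback.fst v pX
  let b : pullback v pX ⟶ X' := pullback.snd v pX
  have hsq1 : IsPullback a b v pX := IsPullback.of_hasPullback v pX
  have hsq2 : IsPullback a (b ≫ f') (v ≫ f) c := hsq1.paste_vert hsq
  rw [hv] at hsq2
  have huo : UniversallyOpen (b ≫ f') := MorphismProperty.of_isPullback hsq2 ‹_›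
  have hgen : GeneralizingMap (b ≫ f').base :=
    Groth.Agent.Helper5.OpenGen.main (b ≫ f') (b ≫ f').isOpenMap
  obtain ⟨w, hw1, hw2⟩ := Scheme.Pullback.exists_preimage_pullback (f := v) (g := pX) y x' hy
  have hbw : (b ≫ f') w = o := by
    show f' (b w) = o
    rw [show b w = x' from hw2, hx'2]
  obtain ⟨w₁, hw₁1, hw₁2⟩ := hgen (hbw ▸ hηo)
  have hspec : b w₁ ⤳ x' := by
    have := hw₁1.map b.continuous
    rwa [show b w = x' from hw2] at this
  refine closure_mono ?_ hspec.mem_closure
  rintro _ rfl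
  refine ⟨⟨a w₁, ?_⟩, ?_⟩
  · have := congrArg (fun ψ : pullback v pX ⟶ X => ψ w₁) hsq1.w
    exact this
  · exact hw₁2

end Groth.Agent.Helper5.GenDim
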