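import Groth.Agent.Helper5.GenDim4
import Mathlib

set_option autoImplicit false
universe u
open CategoryTheory CategoryTheory.Limits AlgebraicGeometry TopologicalSpace

namespace Groth.Agent.Helper5.GenDim

open Groth.Agent.Helper5.VarDim

theorem main {X S : Scheme.{u}} (f : X ⟶ S) [LocallyOfFiniteType f]
    [QuasiCompact f] {ι : Type u} (Y : ι → Scheme.{u}) (g : ∀ i, Y i ⟶ S)
    [∀ i, UniversallyOpen (g i)]
    (v : ∀ i, Y i ⟶ X) (hv : ∀ i, v i ≫ f = g i) (s s' : S) (hs : s' ⤳ s) :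
    topologicalKrullDim ↥(f ⁻¹' {s} ∩ closure ((⋃ i, Set.range (v i)) ∩ f ⁻¹' {s})) ≤
      topologicalKrullDim ↥(f ⁻¹' {s'} ∩ closure ((⋃ i, Set.range (v i)) ∩ f ⁻¹' {s'})) := by
  set E : Set X := ⋃ i, Set.range (v i) with hE
  refine dim_fibre_inter_closed_le f s _ isClosed_closure _ ?_
  intro ζ hζ n hn
  obtain ⟨V, _, _, _, c, hc1, hc2⟩ :=
    Groth.Agent.Lead.ValSpec.exists_valuationRing_of_specializes hs
  let pX : pullback f c ⟶ X := pullback.fst f c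
  let f' : pullback f c ⟶ Spec (CommRingCat.of V) := pullback.snd f c
  have hsq : IsPullback pX f' f c := IsPullback.of_hasPullback f c
  have hlft' : LocallyOfFiniteType f' := inferInstanceAs (LocallyOfFiniteType (pullback.snd f c))
  have hqc' : QuasiCompact f' := inferInstanceAs (QuasiCompact (pullback.snd f c))
  let o : ↥(Spec (CommRingCat.of V)) := IsLocalRing.closedPoint V
  let η : ↥(Spec (CommRingCat.of V)) := (⊥ : PrimeSpectrum V)
  have hco : c o = s := hc1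
  have hcη : c η = s' := hc2
  have hηo : η ⤳ o :=
    (PrimeSpectrum.le_iff_specializes (⊥ : PrimeSpectrum V) (IsLocalRing.closedPoint V)).1 bot_le
  have hfζ : f ζ = s := hζ.1
  obtain ⟨ζ', hζ'1, hζ'2, hζ'3⟩ :=
    exists_resTrdeg_eq_of_isPullback f c pX f' hsq ζ o (hco.trans hfζ.symm)
  -- (Open)
  have hA : E ∩ f ⁻¹' {s} ⊆ f ⁻¹' {c o} := by
    intro z hz
    show f z = c o
    rw [hco]; exact hz.2
  have hmem := mem_closure_preimage_of_isPullback f c pX f' hsq o (E ∩ f ⁻¹' {s}) hA ζ' hζ'2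
    (by rw [hζ'1]; exact hζ.2)
  -- (G)
  have hG : pX ⁻¹' E ∩ f' ⁻¹' {o} ⊆ closure (pX ⁻¹' E ∩ f' ⁻¹' {η}) := by
    rintro x' ⟨hx'1, hx'2⟩
    obtain ⟨i, hi⟩ := Set.mem_iUnion.1 hx'1
    have := subset_closure_of_universallyOpen f c pX f' hsq (g i) (v i) (hv i) o η hηo x' hi hx'2
    refine closure_mono ?_ this
    rintro z ⟨hz1, hz2⟩
    exact ⟨Set.mem_iUnion.2 ⟨i, hz1⟩, hz2⟩
  have hζ'cl : ζ' ∈ closure (pX ⁻¹' E ∩ f' ⁻¹' {η}) := by
    have h1 : pX ⁻¹' (E ∩ f ⁻¹' {s}) ∩ f' ⁻¹' {o} ⊆ pX ⁻¹' E ∩ f' ⁻¹' {o} :=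
      fun z hz => ⟨hz.1.1, hz.2⟩
    have := closure_mono (h1.trans hG) hmem
    rwa [closure_closure] at this
  -- (N)
  obtain ⟨γ, hγ1, hγ2, hγ3⟩ := exists_generic_in_closure f' η (pX ⁻¹' E ∩ f' ⁻¹' {η})
    Set.inter_subset_right ζ' hζ'cl
  have hV := resTrdeg_le_of_specializes_valuation f' γ ζ' hγ3 hγ2
  have hF1 := resTrdeg_le_of_isPullback f c pX f' hsq γ
  obtain ⟨m, hm1, -⟩ := dim_fibre_closure_point f (pX γ)
  have hnm : n ≤ m := by
    have : (n : Cardinal.{u}) ≤ (m : Cardinal.{u}) := by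
      rw [← hm1, ← hn, ← hζ'3]; exact hV.trans hF1
    exact_mod_cast this
  have hcomm : ∀ z : ↥(pullback f c), f (pX z) = c (f' z) := by
    intro z
    exact congrArg (fun ψ : pullback f c ⟶ S => ψ z) hsq.w
  have hmem' : pX γ ∈ f ⁻¹' {s'} ∩ closure (E ∩ f ⁻¹' {s'}) := by
    refine ⟨?_, ?_⟩
    · show f (pX γ) = s'
      rw [hcomm, hγ2]; exact hcη
    · have h1 : pX γ ∈ closure (pX '' (pX ⁻¹' E ∩ f' ⁻¹' {η})) :=
        image_closure_subset_closure_image pX.continuous ⟨γ, hγ1, rfl⟩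
      refine closure_mono ?_ h1
      rintro _ ⟨z, ⟨hz1, hz2⟩, rfl⟩
      refine ⟨hz1, ?_⟩
      show f (pX z) = s'
      rw [hcomm, show f' z = η from hz2]; exact hcη
  have := le_dim_of_mem f s' _ isClosed_closure (pX γ) hmem' m hm1
  exact le_trans (by exact_mod_cast hnm) this

end Groth.Agent.Helper5.GenDim
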