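import Mathlib
import Groth.Agent.Helper5.GenDim5

set_option autoImplicit false
universe u
open CategoryTheory CategoryTheory.Limits AlgebraicGeometry TopologicalSpace

namespace Groth.Agent.Helper5.GenDim

theorem s5444 (S Y : Scheme.{u}) (f : Y ⟶ S) [QuasiCompact f] [QuasiSeparated f] [LocallyOfFinitePresentation f]
    (ι : Type u) (a : ι → (S ⟶ Y)) (ha : ∀ i, a i ≫ f = 𝟙 S) (s₀ s₁ : S) (h : s₁ ⤳ s₀) :
    topologicalKrullDim ↥(f.base ⁻¹' {s₀} ∩ closure (Set.range fun i => (a i).base s₀)) ≤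
      topologicalKrullDim ↥(f.base ⁻¹' {s₁} ∩ closure (Set.range fun i => (a i).base s₁)) := by
  have hfa : ∀ i (t : S), f (a i t) = t := fun i t =>
    congrArg (fun ψ : S ⟶ S => ψ t) (ha i)
  have key : ∀ t : S, (⋃ i, Set.range (a i)) ∩ f ⁻¹' {t} = Set.range fun i => (a i).base t := by
    intro t
    ext z
    constructor
    · rintro ⟨hz1, hz2⟩
      obtain ⟨i, t', rfl⟩ := Set.mem_iUnion.1 hz1
      have : t' = t := by
        have h0 : f (a i t') = t := hz2
        rwa [hfa] at h0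
      exact ⟨i, by rw [this]⟩
    · rintro ⟨i, rfl⟩
      exact ⟨Set.mem_iUnion.2 ⟨i, ⟨t, rfl⟩⟩, hfa i t⟩
  have := main f (fun _ : ι => S) (fun _ => 𝟙 S) a ha s₀ s₁ h
  rw [key, key] at this
  exact this

end Groth.Agent.Helper5.GenDim
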