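import Mathlib
import Groth.Prelude
import Groth.Agent.Helper5.GenFib4

set_option autoImplicit false
set_option linter.unusedSectionVars false
set_option linter.style.haveILetI false
universe u

open AlgebraicGeometry CategoryTheory CategoryTheory.Limits TopologicalSpace

namespace Groth.Agent.Helper5.GenFib

/-- a finite partition into non-empty closed subsets bounds the number of connected components
from below -/
theorem le_card_connectedComponents {F : Type*} [TopologicalSpace F] (n : ℕ)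
    (A : Fin n → Set F) (hcl : ∀ i, IsClosed (A i)) (hne : ∀ i, (A i).Nonempty)
    (hcov : ∀ x : F, ∃ i, x ∈ A i) (hdisj : ∀ i k, i ≠ k → Disjoint (A i) (A k)) :
    (n : ℕ∞) ≤ ENat.card (ConnectedComponents F) := by
  choose φ hφ using hcov
  have hφ' : ∀ x i, x ∈ A i → φ x = i := by
    intro x i hx
    by_contra hne'
    exact Set.disjoint_left.1 (hdisj _ _ hne') (hφ x) hx
  have hpre : ∀ i, φ ⁻¹' {i} = A i := by
    intro i
    ext x
    simp only [Set.mem_preimage, Set.mem_singleton_iff]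
    exact ⟨fun h => h ▸ hφ x, hφ' x i⟩
  have hcont : Continuous φ := by
    rw [continuous_discrete_rng]
    intro i
    rw [hpre]
    have : A i = (⋃ k : {k : Fin n // k ≠ i}, A k.1)ᶜ := by
      ext x
      simp only [Set.mem_compl_iff, Set.mem_iUnion, not_exists]
      constructor
      · rintro hx ⟨k, hk⟩ hxk
        exact Set.disjoint_left.1 (hdisj _ _ hk) hxk hx
      · intro hx
        by_contra hxi
        have := hφ x
        exact hx ⟨φ x, fun h => hxi (h ▸ this)⟩ this
    rw [this]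
    exact (isClosed_iUnion_of_finite fun k : {k : Fin n // k ≠ i} => hcl k.1).isOpen_compl
  let ψ : ConnectedComponents F → Fin n := hcont.connectedComponentsLift
  have hψ : Function.Surjective ψ := by
    intro i
    obtain ⟨x, hx⟩ := hne i
    refine ⟨(x : ConnectedComponents F), ?_⟩
    show hcont.connectedComponentsLift (x : ConnectedComponents F) = i
    rw [Continuous.connectedComponentsLift_apply_coe]
    exact hφ' x i hx
  have := ENat.card_le_card_of_injective (Function.injective_surjInv hψ)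
  rw [ENat.card_eq_coe_fintype_card, Fintype.card_fin] at this
  exact this

end Groth.Agent.Helper5.GenFib

namespace Groth.Agent.Helper5.GenFib

open AlgebraicGeometry CategoryTheory CategoryTheory.Limits TopologicalSpace

set_option maxHeartbeats 1000000 in
theorem s1329 {X Y : Scheme.{u}} (f : X ⟶ Y) [IrreducibleSpace ↑Y] [LocallyOfFiniteType f]
    [QuasiCompact f] (n : ℕ)
    (h : ENat.card (_root_.ConnectedComponents ↑(f.fiber (genericPoint ↑Y))) = n) :
    ∃ V : Y.Opens, (V : Set ↑Y).Nonempty ∧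
      ∀ y ∈ V, (n : ℕ∞) ≤ ENat.card (_root_.ConnectedComponents ↑(f.fiber y)) := by
  set η := genericPoint ↑Y with hηdef
  haveI hfinQ : Finite (_root_.ConnectedComponents ↑(f.fiber η)) := by
    rw [← ENat.card_lt_top, h]; exact ENat.coe_lt_top n
  have hcard : Nat.card (_root_.ConnectedComponents ↑(f.fiber η)) = n := by
    have := ENat.card_eq_coe_natCard (_root_.ConnectedComponents ↑(f.fiber η))
    rw [h] at this
    exact_mod_cast this.symm
  let e : _root_.ConnectedComponents ↑(f.fiber η) ≃ Fin n := Finite.equivFinOfCardEq hcard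
  let C : Fin n → Set ↥(f.fiber η) := fun i => ConnectedComponents.mk ⁻¹' {e.symm i}
  have hCcl : ∀ i, IsClosed (C i) := by
    intro i
    obtain ⟨x, hx⟩ := ConnectedComponents.surjective_coe (e.symm i)
    have : C i = connectedComponent x := by
      show ConnectedComponents.mk ⁻¹' {e.symm i} = _
      rw [← hx]
      exact connectedComponents_preimage_singleton
    rw [this]
    exact isClosed_connectedComponent
  have hCne : ∀ i, (C i).Nonempty := by
    intro i
    obtain ⟨x, hx⟩ := ConnectedComponents.surjective_coe (e.symm i)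
    exact ⟨x, hx⟩
  have hCmem : ∀ p : ↥(f.fiber η), p ∈ C (e (ConnectedComponents.mk p)) := by
    intro p
    show ConnectedComponents.mk p = e.symm (e (ConnectedComponents.mk p))
    rw [Equiv.symm_apply_apply]
  have hCdisj : ∀ i k, ∀ p, p ∈ C i → p ∈ C k → i = k := by
    intro i k p hi hk
    have h1 : ConnectedComponents.mk p = e.symm i := hi
    have h2 : ConnectedComponents.mk p = e.symm k := hk
    exact e.symm.injective (h1.symm.trans h2)
  let Xc : Fin n → Set X := fun i => closure (f.fiberι η '' C i)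
  have hXc : ∀ i, IsClosed (Xc i) := fun i => isClosed_closure
  -- (K)
  have hK : ∀ i, ∀ x ∈ Xc i, f x = η → ∃ p ∈ C i, f.fiberι η p = x := by
    intro i x hx hfx
    have : x ∈ Set.range (f.fiberι η) := by rw [f.range_fiberι]; exact hfx
    obtain ⟨p, rfl⟩ := this
    refine ⟨p, ?_, rfl⟩
    have h1 : p ∈ closure (C i) := by
      rw [(f.fiberι η).isEmbedding.isInducing.closure_eq_preimage_closure_image]
      exact hx
    rwa [(hCcl i).closure_eq] at h1
  have ha : f ⁻¹' {η} ⊆ ⋃ i, Xc i := by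
    intro x hx
    have : x ∈ Set.range (f.fiberι η) := by rw [f.range_fiberι]; exact hx
    obtain ⟨p, rfl⟩ := this
    exact Set.mem_iUnion.2 ⟨_, subset_closure ⟨p, hCmem p, rfl⟩⟩
  have hb : ∀ i k, i ≠ k → ∀ z ∈ Xc i ∩ Xc k, f z ≠ η := by
    intro i k hik z hz hfz
    obtain ⟨p, hp, hpz⟩ := hK i z hz.1 hfz
    obtain ⟨p', hp', hpz'⟩ := hK k z hz.2 hfz
    have : p = p' := (f.fiberι η).isEmbedding.injective (hpz.trans hpz'.symm)
    subst this
    exact hik (hCdisj i k p hp hp')
  -- covering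
  obtain ⟨V₀, hV₀ne, hV₀⟩ := exists_open_preimage_subset f (⋃ i, Xc i)
    (isClosed_iUnion_of_finite hXc) ha
  -- disjointness
  let Zb : Set X := ⋃ q : {q : Fin n × Fin n // q.1 ≠ q.2}, Xc q.1.1 ∩ Xc q.1.2
  have hZb : IsClosed Zb :=
    isClosed_iUnion_of_finite fun q : {q : Fin n × Fin n // q.1 ≠ q.2} =>
      (hXc q.1.1).inter (hXc q.1.2)
  obtain ⟨V₁, hV₁ne, hV₁⟩ := exists_open_disjoint f Zb hZb (by
    intro z hz
    obtain ⟨⟨⟨i, k⟩, hik⟩, hzq⟩ := Set.mem_iUnion.1 hz
    exact hb i k hik z hzq)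
  -- open pieces
  let W : Fin n → Set X := fun i => (⋃ k : {k : Fin n // k ≠ i}, Xc k.1)ᶜ
  have hW : ∀ i, IsOpen (W i) := fun i =>
    (isClosed_iUnion_of_finite fun k : {k : Fin n // k ≠ i} => hXc k.1).isOpen_compl
  have hηW : ∀ i, η ∈ f '' (W i) := by
    intro i
    obtain ⟨p, hp⟩ := hCne i
    refine ⟨f.fiberι η p, ?_, Groth.Agent.Helper5.VarDim.apply_fiberι f η p⟩
    intro hmem
    obtain ⟨⟨k, hk⟩, hpk⟩ := Set.mem_iUnion.1 hmem
    exact hb i k (Ne.symm hk) _ ⟨subset_closure ⟨p, hp, rfl⟩, hpk⟩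
      (Groth.Agent.Helper5.VarDim.apply_fiberι f η p)
  have hVi : ∀ i, ∃ V : Y.Opens, (V : Set Y).Nonempty ∧ (V : Set Y) ⊆ f '' (W i) := fun i =>
    exists_open_subset_image f (W i) (hW i) (hηW i)
  choose Vi hVine hVi using hVi
  refine ⟨⟨(V₀ : Set Y) ∩ (V₁ : Set Y) ∩ ⋂ i, (Vi i : Set Y),
    (V₀.2.inter V₁.2).inter (isOpen_iInter_of_finite fun i => (Vi i).2)⟩, ?_, ?_⟩
  · refine ⟨η, ⟨genericPoint_mem_of_isOpen _ V₀.2 hV₀ne,
      genericPoint_mem_of_isOpen _ V₁.2 hV₁ne⟩, Set.mem_iInter.2 fun i => ?_⟩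
    exact genericPoint_mem_of_isOpen _ (Vi i).2 (hVine i)
  · rintro y ⟨⟨hy₀, hy₁⟩, hyi⟩
    have hfp : ∀ p : ↥(f.fiber y), f (f.fiberι y p) = y :=
      Groth.Agent.Helper5.VarDim.apply_fiberι f y
    apply le_card_connectedComponents n (fun i => (f.fiberι y) ⁻¹' (Xc i))
    · exact fun i => (hXc i).preimage (f.fiberι y).continuous
    · intro i
      obtain ⟨a, haW, hfa⟩ := hVi i (Set.mem_iInter.1 hyi i)
      have : a ∈ Set.range (f.fiberι y) := by rw [f.range_fiberι]; exact hfa
      obtain ⟨p, rfl⟩ := this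
      refine ⟨p, ?_⟩
      have h1 : f.fiberι y p ∈ ⋃ k, Xc k := hV₀ (show f _ ∈ (V₀ : Set Y) by rw [hfp]; exact hy₀)
      obtain ⟨k, hk⟩ := Set.mem_iUnion.1 h1
      by_cases hki : k = i
      · subst hki; exact hk
      · exact absurd (Set.mem_iUnion.2 ⟨⟨k, hki⟩, hk⟩) haW
    · intro p
      have h1 : f.fiberι y p ∈ ⋃ k, Xc k := hV₀ (show f _ ∈ (V₀ : Set Y) by rw [hfp]; exact hy₀)
      obtain ⟨k, hk⟩ := Set.mem_iUnion.1 h1
      exact ⟨k, hk⟩
    · intro i k hik
      rw [Set.disjoint_left]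
      intro p hpi hpk
      apply hV₁ (f.fiberι y p) (Set.mem_iUnion.2 ⟨⟨⟨i, k⟩, hik⟩, ⟨hpi, hpk⟩⟩)
      rw [hfp]; exact hy₁

end Groth.Agent.Helper5.GenFib
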