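import Mathlib
import Groth.Prelude
import Groth.Agent.Helper5.FibMod2F

/-!
# GeoFinC: ring-level openness of the locus where the fibre is equidimensional without embedded
components and a given closed subset has codimension greater than `k` in the fibre
-/

set_option autoImplicit false
set_option linter.unusedSectionVars false
set_option linter.unusedVariables false
set_option linter.style.haveILetI false
universe u
open CategoryTheory TensorProduct IsLocalRing AlgebraicGeometry

namespace Groth.Agent.Helper5.GeoFin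

open Groth.Agent.Helper1 Groth.Agent.Helper2 Groth.Agent.Helper5.FibPd Groth.Agent.Helper5.FibMod

attribute [local instance] Algebra.TensorProduct.rightAlgebra

section Open

variable (A B : Type u) [CommRing A] [CommRing B] [Algebra A B]
  [Algebra.FinitePresentation A B] [Module.Flat A B]

theorem support_self : Module.support B B = Set.univ := by
  rw [Module.support_of_algebra]
  have : RingHom.ker (algebraMap B B) = ⊥ := by
    rw [RingHom.ker_eq_bot_iff_eq_zero]
    intro x hx
    exact hx
  rw [this]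
  simp

theorem isOpen_eskCond (k D : ℕ) : IsOpen {q : PrimeSpectrum B | eskCond A B B k D q} := by
  have h1 := isOpen_assDims A B B {D}
  have h2 := isOpen_skCond A B B k D
  have hEq2 : {q | eskCond A B B k D q} =
      {q : PrimeSpectrum B | ∀ q' : PrimeSpectrum B, q' ≤ q →
        PrimeSpectrum.comap (algebraMap A B) q' = PrimeSpectrum.comap (algebraMap A B) q →
        depthB A B B q' = 0 → ∃ n ∈ ({D} : Finset ℕ), cB A B q' = (n : ℕ∞)} ∩
      {q : PrimeSpectrum B | ∀ q' : PrimeSpectrum B, q' ≤ q →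
        PrimeSpectrum.comap (algebraMap A B) q' = PrimeSpectrum.comap (algebraMap A B) q →
        q' ∈ Module.support B B →
        min ((k : ℕ∞) + cB A B q') (D : ℕ∞) ≤ depthB A B B q' + cB A B q'} := by
    ext q
    simp only [eskCond, Set.mem_ofPred_eq, Set.mem_inter_iff, Finset.mem_singleton,
      exists_eq_left]
  rw [hEq2]
  exact h1.inter h2

/-- under the numerical condition, dimension plus dimension of the closure is constant -/
theorem sdB_add_cB_of_eskCond (k D : ℕ) (q : PrimeSpectrum B) (hq : eskCond A B B k D q)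
    (q' : PrimeSpectrum B) (hle : q' ≤ q)
    (hc : PrimeSpectrum.comap (algebraMap A B) q' = PrimeSpectrum.comap (algebraMap A B) q) :
    ∃ h c : ℕ, sdB A B B q' = (h : WithBot ℕ∞) ∧ cB A B q' = (c : ℕ∞) ∧ h + c = D := by
  haveI : Algebra.FiniteType A B := inferInstance
  have hs' : q' ∈ Module.support B B := by rw [support_self]; trivial
  obtain ⟨c, hcc⟩ := exists_cB_nat A B q'
  obtain ⟨h, hh⟩ := exists_sdB_nat A B B q' hs'
  refine ⟨h, c, hh, hcc, ?_⟩
  refine sdB_add_cB_eq A B B q D ?_ q' hle hc hs' h c hh hcc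
  intro q₀ hle₀ hc₀ hs₀ hmin₀
  exact hq.1 q₀ hle₀ hc₀ (depthB_of_minimal A B B q₀ hs₀ hmin₀)

set_option maxHeartbeats 1600000 in
/-- **ring version of S5931** -/
theorem isOpen_esk_codim (Z : Set (PrimeSpectrum B)) (hZ : IsClosed Z) (k : ℕ) :
    IsOpen {q : PrimeSpectrum B |
      (eqIso.P (EGA4.FibLocRing A B q.asIdeal) ((EGA4.FibLocRing A B q.asIdeal) ⊗[B] B) ∧
        (skIso 1).P (EGA4.FibLocRing A B q.asIdeal) ((EGA4.FibLocRing A B q.asIdeal) ⊗[B] B)) ∧
      ∀ q' : PrimeSpectrum B, q' ≤ q →
        PrimeSpectrum.comap (algebraMap A B) q' = PrimeSpectrum.comap (algebraMap A B) q →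
        q' ∈ Z → ¬ sdB A B B q' ≤ (k : WithBot ℕ∞)} := by
  haveI : Algebra.FiniteType A B := inferInstance
  have hEq : {q : PrimeSpectrum B |
      (eqIso.P (EGA4.FibLocRing A B q.asIdeal) ((EGA4.FibLocRing A B q.asIdeal) ⊗[B] B) ∧
        (skIso 1).P (EGA4.FibLocRing A B q.asIdeal) ((EGA4.FibLocRing A B q.asIdeal) ⊗[B] B)) ∧
      ∀ q' : PrimeSpectrum B, q' ≤ q →
        PrimeSpectrum.comap (algebraMap A B) q' = PrimeSpectrum.comap (algebraMap A B) q →
        q' ∈ Z → ¬ sdB A B B q' ≤ (k : WithBot ℕ∞)} =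
      ⋃ D : ℕ, ({q | eskCond A B B 1 D q} ∩
        (chevSet A B (PrimeSpectrum.vanishingIdeal Z) (D - k))ᶜ) := by
    ext q
    have hqs : q ∈ Module.support B B := by rw [support_self]; trivial
    simp only [Set.mem_ofPred_eq, Set.mem_iUnion, Set.mem_inter_iff, Set.mem_compl_iff]
    rw [esk_iff A B B 1 le_rfl q hqs]
    constructor
    · rintro ⟨⟨D, hD⟩, hcod⟩
      refine ⟨D, hD, ?_⟩
      intro hmem
      rw [mem_chevSet_closed_iff A B Z hZ] at hmem
      obtain ⟨q', hle, hc, hqZ, hm⟩ := hmem
      obtain ⟨h, c, hh, hcc, hsum⟩ := sdB_add_cB_of_eskCond A B 1 D q hD q' hle hc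
      apply hcod q' hle hc hqZ
      rw [hh]
      rw [hcc] at hm
      have hm' : D - k ≤ c := by exact_mod_cast hm
      exact_mod_cast (by omega : h ≤ k)
    · rintro ⟨D, hD, hnot⟩
      refine ⟨⟨D, hD⟩, ?_⟩
      intro q' hle hc hqZ hsd
      apply hnot
      rw [mem_chevSet_closed_iff A B Z hZ]
      obtain ⟨h, c, hh, hcc, hsum⟩ := sdB_add_cB_of_eskCond A B 1 D q hD q' hle hc
      refine ⟨q', hle, hc, hqZ, ?_⟩
      rw [hh] at hsd
      have hsd' : h ≤ k := by exact_mod_cast hsd
      rw [hcc]
      exact_mod_cast (by omega : D - k ≤ c)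
  rw [hEq]
  refine isOpen_iUnion fun D => ?_
  exact (isOpen_eskCond A B 1 D).inter (isClosed_chevSet A B _ _).isOpen_compl

end Open

end Groth.Agent.Helper5.GeoFin
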