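import Mathlib
import Groth.Prelude
import Groth.Agent.Helper5.GeoFinC
import Groth.Agent.Helper5.FibModT
import Groth.Agent.Helper5.SkOne1
import Groth.Agent.Helper1.FLFAnn3

/-!
# GeoFinD: affine charts for properties of the local rings of the fibres; the module-theoretic
conditions of `FibMod` for the structure sheaf, in terms of rings
-/

set_option autoImplicit false
set_option linter.unusedSectionVars false
set_option linter.unusedVariables false
set_option linter.style.haveILetI false
universe u
open CategoryTheory CategoryTheory.Limits AlgebraicGeometry TopologicalSpace Topology TensorProduct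
open IsLocalRing

namespace Groth.Agent.Helper5.GeoFin

open Groth.Agent.Helper5.FibMod Groth.Agent.Helper5.FibPd

/-- an isomorphism-invariant property of local rings, as a property of pairs -/
def ofRing (P : ∀ (R : Type u) [CommRing R] [IsLocalRing R], Prop)
    (hP : ∀ (R R' : Type u) [CommRing R] [CommRing R'] [IsLocalRing R] [IsLocalRing R'],
      (R ≃+* R') → P R → P R') : LocModIso.{u} where
  P R _ _ N _ _ := P R
  iso R R' _ _ _ _ N N' _ _ _ _ e eN h hR := hP R R' e hR

section Chart

variable {X Y : Scheme.{u}} (f : X ⟶ Y)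
  {U : X.Opens} (hU : IsAffineOpen U) {V : Y.Opens} (hV : IsAffineOpen V) (e : U ≤ f ⁻¹ᵁ V)

include hV in
/-- the chart description of a property of the local ring of the fibre -/
theorem chartRing (P : ∀ (R : Type u) [CommRing R] [IsLocalRing R], Prop)
    (hP : ∀ (R R' : Type u) [CommRing R] [CommRing R'] [IsLocalRing R] [IsLocalRing R'],
      (R ≃+* R') → P R → P R') (x : X) (hxU : x ∈ U) :
    letI : Algebra Γ(Y, V) Γ(X, U) := (f.appLE V U e).hom.toAlgebra
    P ((f.fiber (f.base x)).presheaf.stalk (f.asFiber x)) ↔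
      P (EGA4.FibLocRing Γ(Y, V) Γ(X, U) (hU.primeIdealOf ⟨x, hxU⟩).asIdeal) := by
  letI : Algebra Γ(Y, V) Γ(X, U) := (f.appLE V U e).hom.toAlgebra
  haveI : (Coh.structureModule X).IsQuasicoherent :=
    Groth.Agent.Helper1.FLFAnn.isQuasicoherent_unit X
  exact fibModAt_iff (ofRing P hP) f (Coh.structureModule X) hU hV e x hxU

end Chart

section Ring

variable (R : Type u) [CommRing R] [IsNoetherianRing R]

theorem isEquidimModule_self_iff : EGA4.IsEquidimModule R R ↔ EGA4.IsEquidim R := by
  unfold EGA4.IsEquidimModule EGA4.IsEquidim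
  have h1 : Module.annihilator R R = ⊥ := by
    rw [eq_bot_iff]
    intro r hr
    have := Module.mem_annihilator.mp hr (1 : R)
    rw [smul_eq_mul, mul_one] at this
    rw [this]
    exact Submodule.zero_mem _
  rw [h1, Module.supportDim_self_eq_ringKrullDim]

theorem hasSk_one_self_iff :
    LocCoh.HasSk 1 R R ↔ ∀ p ∈ associatedPrimes R R, p ∈ minimalPrimes R := by
  rw [Groth.Agent.Helper5.SkOne.hasSk_one_iff]
  have hsupp : Module.support R R = Set.univ := by
    rw [Module.support_of_algebra]
    have : RingHom.ker (algebraMap R R) = ⊥ := by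
      rw [RingHom.ker_eq_bot_iff_eq_zero]
      intro x hx
      exact hx
    rw [this]
    simp
  constructor
  · intro h p hp
    have hpp : p.IsPrime := (AssociatedPrimes.mem_iff.mp hp).isPrime
    have h0 := h ⟨p, hpp⟩ hp
    refine ⟨⟨hpp, bot_le⟩, ?_⟩
    intro p' ⟨hp'p, _⟩ hle
    exact h0 ⟨p', hp'p⟩ (by rw [hsupp]; trivial) hle
  · intro h q hq
    have h0 := h q.asIdeal hq
    intro q' _ hle
    exact h0.2 ⟨q'.2, bot_le⟩ hle

end Ring

section Fib

attribute [local instance] Algebra.TensorProduct.rightAlgebra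

variable (A B : Type u) [CommRing A] [CommRing B] [Algebra A B] [Algebra.FiniteType A B]
  (q : PrimeSpectrum B)

/-- the base change of `B` to the fibre local ring is the fibre local ring -/
noncomputable def ridFib :
    (EGA4.FibLocRing A B q.asIdeal) ⊗[B] B ≃ₗ[EGA4.FibLocRing A B q.asIdeal]
      EGA4.FibLocRing A B q.asIdeal :=
  TensorProduct.AlgebraTensorModule.rid B (EGA4.FibLocRing A B q.asIdeal)
    (EGA4.FibLocRing A B q.asIdeal)

theorem sdB_self : sdB A B B q = ringKrullDim (EGA4.FibLocRing A B q.asIdeal) := by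
  unfold sdB
  rw [Module.supportDim_eq_of_equiv (ridFib A B q), Module.supportDim_self_eq_ringKrullDim]

theorem eqIso_self_iff :
    eqIso.P (EGA4.FibLocRing A B q.asIdeal) ((EGA4.FibLocRing A B q.asIdeal) ⊗[B] B) ↔
      EGA4.IsEquidim (EGA4.FibLocRing A B q.asIdeal) := by
  haveI := q.2
  haveI : IsNoetherianRing (EGA4.FibLocRing A B q.asIdeal) := noeth_fibLocRing_ft A B q.asIdeal
  rw [eqIso.lin_iff _ _ _ (ridFib A B q)]
  show (IsNoetherianRing _ ∧ Module.Finite _ _ ∧ EGA4.IsEquidimModule _ _) ↔ _
  rw [isEquidimModule_self_iff]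
  exact ⟨fun h => h.2.2, fun h => ⟨inferInstance, inferInstance, h⟩⟩

theorem skIso_one_self_iff :
    (skIso 1).P (EGA4.FibLocRing A B q.asIdeal) ((EGA4.FibLocRing A B q.asIdeal) ⊗[B] B) ↔
      ∀ p ∈ associatedPrimes (EGA4.FibLocRing A B q.asIdeal) (EGA4.FibLocRing A B q.asIdeal),
        p ∈ minimalPrimes (EGA4.FibLocRing A B q.asIdeal) := by
  haveI := q.2
  haveI : IsNoetherianRing (EGA4.FibLocRing A B q.asIdeal) := noeth_fibLocRing_ft A B q.asIdeal
  rw [(skIso 1).lin_iff _ _ _ (ridFib A B q)]
  show (IsNoetherianRing _ ∧ Module.Finite _ _ ∧ LocCoh.HasSk 1 _ _) ↔ _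
  rw [hasSk_one_self_iff]
  exact ⟨fun h => h.2.2, fun h => ⟨inferInstance, inferInstance, h⟩⟩

end Fib

end Groth.Agent.Helper5.GeoFin
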