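import Mathlib
import Groth.Prelude
import Groth.Agent.Helper5.GeoFinB
import Groth.Agent.Helper5.GeoFinD
import Groth.Agent.Helper5.GeoRkD
import Groth.Agent.Helper5.FibModX
import Groth.Agent.Helper5.FibPropD

/-!
# GeoFinE: the locus where the fibre has the geometric property `(R_k)`, is equidimensional and has
no embedded component is open, for flat morphisms locally of finite presentation (S5931)
-/

set_option autoImplicit false
set_option linter.unusedSectionVars false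
set_option linter.unusedVariables false
set_option linter.style.haveILetI false
universe u
open CategoryTheory CategoryTheory.Limits AlgebraicGeometry TopologicalSpace Topology TensorProduct
open IsLocalRing

namespace Groth.Agent.Helper5.GeoFin

open Groth.Agent.Helper5.FibMod Groth.Agent.Helper5.FibPd Groth.Agent.Helper5.GeoRk
  Groth.Agent.Helper5.VarDim

variable {X Y : Scheme.{u}} (f : X ⟶ Y)

set_option maxHeartbeats 800000 in
/-- the fibre through `x` has the geometric property `(R_k)` at `x`, tested on finite extensions,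
iff no non-smooth generization of `x` in the fibre has codimension at most `k` -/
theorem geomRk_finite_iff_notMem_cN [LocallyOfFinitePresentation f] (k : ℕ) (x : X) :
    (∀ (K : Type u) [Field K] [Algebra (IsLocalRing.ResidueField (Y.presheaf.stalk (f.base x))) K],
        Module.Finite (IsLocalRing.ResidueField (Y.presheaf.stalk (f.base x))) K →
        ∀ x' : ↥(FBase.bc (f.fiberToSpecResidueField (f.base x)) K),
          (FBase.bcπ (f.fiberToSpecResidueField (f.base x)) K).base x' = f.asFiber x →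
          LocCoh.HasRk k ((FBase.bc (f.fiberToSpecResidueField (f.base x)) K).presheaf.stalk x')) ↔
      x ∉ cN f (Groth.Agent.Helper5.SmUp.Efib f)ᶜ k := by
  have key := @geomRk_finite_iff (IsLocalRing.ResidueField (Y.presheaf.stalk (f.base x))) _
    (f.fiber (f.base x)) (f.fiberToSpecResidueField (f.base x))
    (Groth.Agent.Helper5.SmUp.lfp_fiberToSpec f _) (f.asFiber x) k
  refine key.trans ?_
  constructor
  · rintro H ⟨w, hwT, hwsp, hwd⟩
    exact H w hwsp (fun hsm => hwT ((Groth.Agent.Helper5.SmUp.fiber_mem_iff f _ w).mp hsm)) hwd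
  · intro H w hwsp hns hwd
    exact H ⟨w, fun hE => hns ((Groth.Agent.Helper5.SmUp.fiber_mem_iff f _ w).mpr hE), hwsp, hwd⟩

theorem stalk_dim_eq_of_eq {s s' : Y} (hs : s = s') (w : ↥(f.fiber s)) (w' : ↥(f.fiber s'))
    (hw : (f.fiberι s).base w = (f.fiberι s').base w') :
    ringKrullDim ((f.fiber s).presheaf.stalk w) = ringKrullDim ((f.fiber s').presheaf.stalk w') := by
  subst hs
  have : w = w' := (f.fiberι s).isEmbedding.injective hw
  rw [this]

/-- pointwise form of the sets `cN` -/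
theorem mem_cN_iff' (T : Set X) (c : ℕ) (x : X) :
    x ∈ cN f T c ↔ ∃ z ∈ T, z ⤳ x ∧ f.base z = f.base x ∧
      ringKrullDim ((f.fiber (f.base z)).presheaf.stalk (f.asFiber z)) ≤ (c : WithBot ℕ∞) := by
  constructor
  · rintro ⟨w, hwT, hwsp, hwd⟩
    refine ⟨(f.fiberι (f.base x)).base w, hwT, ?_, apply_fiberι f (f.base x) w, ?_⟩
    · have := hwsp.map (f.fiberι (f.base x)).continuous
      rwa [f.fiberι_asFiber] at this
    · rw [← stalk_dim_eq_of_eq f (apply_fiberι f (f.base x) w).symm w (f.asFiber _)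
        (f.fiberι_asFiber _).symm]
      exact hwd
  · rintro ⟨z, hzT, hzsp, hzf, hd⟩
    have hzr : z ∈ Set.range (f.fiberι (f.base x)).base := by
      rw [Scheme.Hom.range_fiberι]; exact hzf
    obtain ⟨w, rfl⟩ := hzr
    refine ⟨w, hzT, ?_, ?_⟩
    · rw [← (f.fiberι (f.base x)).isEmbedding.toIsInducing.specializes_iff, f.fiberι_asFiber]
      exact hzsp
    · rw [stalk_dim_eq_of_eq f (apply_fiberι f (f.base x) w).symm w (f.asFiber _)
        (f.fiberι_asFiber _).symm]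
      exact hd

section Chart

variable {U : X.Opens} (hU : IsAffineOpen U) {V : Y.Opens} (hV : IsAffineOpen V) (e : U ≤ f ⁻¹ᵁ V)

include hV in
set_option maxHeartbeats 1600000 in
/-- the chart description of the sets `cN` -/
theorem chart_cN [LocallyOfFiniteType f] (T : Set X) (c : ℕ) (x : X) (hxU : x ∈ U) :
    letI : Algebra Γ(Y, V) Γ(X, U) := (f.appLE V U e).hom.toAlgebra
    x ∈ cN f T c ↔ ∃ q' : PrimeSpectrum Γ(X, U), q' ≤ hU.primeIdealOf ⟨x, hxU⟩ ∧
      PrimeSpectrum.comap (algebraMap Γ(Y, V) Γ(X, U)) q' =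
        PrimeSpectrum.comap (algebraMap Γ(Y, V) Γ(X, U)) (hU.primeIdealOf ⟨x, hxU⟩) ∧
      q' ∈ (hU.fromSpec : ↥(Spec Γ(X, U)) → X) ⁻¹' T ∧
      sdB Γ(Y, V) Γ(X, U) Γ(X, U) q' ≤ (c : WithBot ℕ∞) := by
  letI : Algebra Γ(Y, V) Γ(X, U) := (f.appLE V U e).hom.toAlgebra
  haveI : Algebra.FiniteType Γ(Y, V) Γ(X, U) :=
    RingHom.finiteType_algebraMap.1 <|
      HasRingHomProperty.appLE (P := @LocallyOfFiniteType) f inferInstance ⟨V, hV⟩ ⟨U, hU⟩ e
  have hP : ∀ (R R' : Type u) [CommRing R] [CommRing R'] [IsLocalRing R] [IsLocalRing R'],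
      (R ≃+* R') → ringKrullDim R ≤ (c : WithBot ℕ∞) → ringKrullDim R' ≤ (c : WithBot ℕ∞) := by
    intro R R' _ _ _ _ e' h
    rwa [← ringKrullDim_eq_of_ringEquiv e']
  rw [mem_cN_iff']
  constructor
  · rintro ⟨z, hzT, hzsp, hzf, hd⟩
    have hzU : z ∈ U := hzsp.mem_open U.2 hxU
    refine ⟨hU.primeIdealOf ⟨z, hzU⟩, (specializes_chart_iff hU z x hzU hxU).mp hzsp,
      (same_fibre_chart_iff f hU hV e z x hzU hxU).mp hzf, ?_, ?_⟩
    · show hU.fromSpec (hU.primeIdealOf ⟨z, hzU⟩) ∈ T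
      rw [hU.fromSpec_primeIdealOf ⟨z, hzU⟩]
      exact hzT
    · rw [sdB_self]
      exact (chartRing f hU hV e (fun R _ _ => ringKrullDim R ≤ (c : WithBot ℕ∞)) hP z hzU).mp hd
  · rintro ⟨q', hle, hc, hqT, hd⟩
    obtain ⟨z, hzU, rfl⟩ := chart_point hU q'
    refine ⟨z, ?_, (specializes_chart_iff hU z x hzU hxU).mpr hle,
      (same_fibre_chart_iff f hU hV e z x hzU hxU).mpr hc, ?_⟩
    · have : hU.fromSpec (hU.primeIdealOf ⟨z, hzU⟩) ∈ T := hqT
      rwa [hU.fromSpec_primeIdealOf ⟨z, hzU⟩] at this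
    · rw [sdB_self] at hd
      exact (chartRing f hU hV e (fun R _ _ => ringKrullDim R ≤ (c : WithBot ℕ∞)) hP z hzU).mpr hd

end Chart

section Final

theorem eqIso_ring_iff (R : Type u) [CommRing R] [IsLocalRing R] [IsNoetherianRing R] :
    eqIso.P R R ↔ EGA4.IsEquidim R := by
  show (IsNoetherianRing R ∧ Module.Finite R R ∧ EGA4.IsEquidimModule R R) ↔ _
  rw [isEquidimModule_self_iff]
  exact ⟨fun h => h.2.2, fun h => ⟨inferInstance, inferInstance, h⟩⟩

theorem skIso_ring_iff (R : Type u) [CommRing R] [IsLocalRing R] [IsNoetherianRing R] :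
    (skIso 1).P R R ↔ ∀ p ∈ associatedPrimes R R, p ∈ minimalPrimes R := by
  show (IsNoetherianRing R ∧ Module.Finite R R ∧ LocCoh.HasSk 1 R R) ↔ _
  rw [hasSk_one_self_iff]
  exact ⟨fun h => h.2.2, fun h => ⟨inferInstance, inferInstance, h⟩⟩

theorem ring_iso_of_pair (Pi : LocModIso.{u}) (R R' : Type u) [CommRing R] [CommRing R']
    [IsLocalRing R] [IsLocalRing R'] (e : R ≃+* R') (h : Pi.P R R) : Pi.P R' R' :=
  Pi.iso R R' R R' e e.toAddEquiv (fun r n => by simp) h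

/-- the set of S5931, with the geometric condition expressed by the sets `cN` -/
def setRkE [LocallyOfFinitePresentation f] (k : ℕ) : Set X :=
  {x | x ∉ cN f (f.smoothLocus : Set X)ᶜ k ∧
    EGA4.IsEquidim ↑((f.fiber (f.base x)).presheaf.stalk (f.asFiber x)) ∧
    (∀ p ∈ associatedPrimes ↑((f.fiber (f.base x)).presheaf.stalk (f.asFiber x))
      ↑((f.fiber (f.base x)).presheaf.stalk (f.asFiber x)),
      p ∈ minimalPrimes ↑((f.fiber (f.base x)).presheaf.stalk (f.asFiber x)))}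

set_option maxHeartbeats 1600000 in
theorem isOpen_setRkE [Flat f] [LocallyOfFinitePresentation f] (k : ℕ) : IsOpen (setRkE f k) := by
  rw [isOpen_iff_forall_mem_open]
  intro x hx
  obtain ⟨Vo, hVo, Uo, hUo, e, hxU, -⟩ := exists_chart f x Set.univ isOpen_univ (Set.mem_univ x)
  letI algAB : Algebra Γ(Y, Vo) Γ(X, Uo) := (f.appLE Vo Uo e).hom.toAlgebra
  haveI : Algebra.FinitePresentation Γ(Y, Vo) Γ(X, Uo) :=
    RingHom.finitePresentation_algebraMap.1 <|
      HasRingHomProperty.appLE (P := @LocallyOfFinitePresentation) f inferInstance ⟨Vo, hVo⟩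
        ⟨Uo, hUo⟩ e
  haveI : Algebra.FiniteType Γ(Y, Vo) Γ(X, Uo) := inferInstance
  haveI : Module.Flat Γ(Y, Vo) Γ(X, Uo) :=
    RingHom.flat_algebraMap_iff.1 <|
      HasRingHomProperty.appLE (P := @Flat) f inferInstance ⟨Vo, hVo⟩ ⟨Uo, hUo⟩ e
  set Z : Set (PrimeSpectrum Γ(X, Uo)) :=
    (hUo.fromSpec : ↥(Spec Γ(X, Uo)) → X) ⁻¹' (f.smoothLocus : Set X)ᶜ with hZdef
  have hZ : IsClosed Z := (f.smoothLocus.isOpen.isClosed_compl).preimage hUo.fromSpec.continuous
  have hT := isOpen_esk_codim Γ(Y, Vo) Γ(X, Uo) Z hZ k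
  set T : Set (PrimeSpectrum Γ(X, Uo)) := {q |
      (eqIso.P (EGA4.FibLocRing Γ(Y, Vo) Γ(X, Uo) q.asIdeal)
          ((EGA4.FibLocRing Γ(Y, Vo) Γ(X, Uo) q.asIdeal) ⊗[Γ(X, Uo)] Γ(X, Uo)) ∧
        (skIso 1).P (EGA4.FibLocRing Γ(Y, Vo) Γ(X, Uo) q.asIdeal)
          ((EGA4.FibLocRing Γ(Y, Vo) Γ(X, Uo) q.asIdeal) ⊗[Γ(X, Uo)] Γ(X, Uo))) ∧
      ∀ q' : PrimeSpectrum Γ(X, Uo), q' ≤ q →
        PrimeSpectrum.comap (algebraMap Γ(Y, Vo) Γ(X, Uo)) q' =
          PrimeSpectrum.comap (algebraMap Γ(Y, Vo) Γ(X, Uo)) q →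
        q' ∈ Z → ¬ sdB Γ(Y, Vo) Γ(X, Uo) Γ(X, Uo) q' ≤ (k : WithBot ℕ∞)} with hTdef
  have hchart : ∀ (y : X) (hy : y ∈ Uo), y ∈ setRkE f k ↔ hUo.primeIdealOf ⟨y, hy⟩ ∈ T := by
    intro y hy
    haveI hNy : IsNoetherianRing ((f.fiber (f.base y)).presheaf.stalk (f.asFiber y)) :=
      Groth.Agent.Helper5.FibProp.noeth_fibre_stalk f _ _
    haveI := (hUo.primeIdealOf ⟨y, hy⟩).2
    haveI : IsNoetherianRing (EGA4.FibLocRing Γ(Y, Vo) Γ(X, Uo) (hUo.primeIdealOf ⟨y, hy⟩).asIdeal) :=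
      noeth_fibLocRing_ft Γ(Y, Vo) Γ(X, Uo) (hUo.primeIdealOf ⟨y, hy⟩).asIdeal
    have h1 := chart_cN f hUo hVo e (f.smoothLocus : Set X)ᶜ k y hy
    have h2 : EGA4.IsEquidim ↑((f.fiber (f.base y)).presheaf.stalk (f.asFiber y)) ↔
        eqIso.P (EGA4.FibLocRing Γ(Y, Vo) Γ(X, Uo) (hUo.primeIdealOf ⟨y, hy⟩).asIdeal)
          ((EGA4.FibLocRing Γ(Y, Vo) Γ(X, Uo) (hUo.primeIdealOf ⟨y, hy⟩).asIdeal)
            ⊗[Γ(X, Uo)] Γ(X, Uo)) := by
      rw [eqIso_self_iff, ← eqIso_ring_iff, ← eqIso_ring_iff]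
      exact chartRing f hUo hVo e (fun R _ _ => eqIso.P R R)
        (fun R R' _ _ _ _ e' h => ring_iso_of_pair eqIso R R' e' h) y hy
    have h3 : (∀ p ∈ associatedPrimes ↑((f.fiber (f.base y)).presheaf.stalk (f.asFiber y))
        ↑((f.fiber (f.base y)).presheaf.stalk (f.asFiber y)),
        p ∈ minimalPrimes ↑((f.fiber (f.base y)).presheaf.stalk (f.asFiber y))) ↔
        (skIso 1).P (EGA4.FibLocRing Γ(Y, Vo) Γ(X, Uo) (hUo.primeIdealOf ⟨y, hy⟩).asIdeal)
          ((EGA4.FibLocRing Γ(Y, Vo) Γ(X, Uo) (hUo.primeIdealOf ⟨y, hy⟩).asIdeal)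
            ⊗[Γ(X, Uo)] Γ(X, Uo)) := by
      rw [skIso_one_self_iff, ← skIso_ring_iff, ← skIso_ring_iff]
      exact chartRing f hUo hVo e (fun R _ _ => (skIso 1).P R R)
        (fun R R' _ _ _ _ e' h => ring_iso_of_pair (skIso 1) R R' e' h) y hy
    unfold setRkE
    rw [Set.mem_ofPred_eq, h1, h2, h3, hTdef, Set.mem_ofPred_eq]
    constructor
    · rintro ⟨hn, hE, hS⟩
      refine ⟨⟨hE, hS⟩, ?_⟩
      intro q' hle hc hqZ hd
      exact hn ⟨q', hle, hc, hqZ, hd⟩
    · rintro ⟨⟨hE, hS⟩, hn⟩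
      refine ⟨?_, hE, hS⟩
      rintro ⟨q', hle, hc, hqZ, hd⟩
      exact hn q' hle hc hqZ hd
  refine ⟨Subtype.val '' ((fun y : Uo => hUo.primeIdealOf y) ⁻¹' T), ?_, ?_, ?_⟩
  · rintro _ ⟨y, hy, rfl⟩
    exact (hchart y.1 y.2).mpr hy
  · exact Uo.isOpen.isOpenMap_subtype_val _ (hT.preimage (continuous_primeIdealOf hUo))
  · exact ⟨⟨x, hxU⟩, (hchart x hxU).mp hx, rfl⟩

/-- S5931 -/
theorem s5931 [Flat f] [LocallyOfFinitePresentation f] (k : ℕ) :
    IsOpen {x : X | (∀ (K : Type u) [Field K] [Algebra (IsLocalRing.ResidueField (Y.presheaf.stalk (f.base x))) K],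
        Module.Finite (IsLocalRing.ResidueField (Y.presheaf.stalk (f.base x))) K →
        ∀ x' : ↥(FBase.bc (f.fiberToSpecResidueField (f.base x)) K),
          (FBase.bcπ (f.fiberToSpecResidueField (f.base x)) K).base x' = f.asFiber x →
          LocCoh.HasRk k ((FBase.bc (f.fiberToSpecResidueField (f.base x)) K).presheaf.stalk x')) ∧
      EGA4.IsEquidim ↑((f.fiber (f.base x)).presheaf.stalk (f.asFiber x)) ∧ (∀ p ∈ associatedPrimes ↑((f.fiber (f.base x)).presheaf.stalk (f.asFiber x)) ↑((f.fiber (f.base x)).presheaf.stalk (f.asFiber x)), p ∈ minimalPrimes ↑((f.fiber (f.base x)).presheaf.stalk (f.asFiber x)))} := by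
  have h := isOpen_setRkE f k
  convert h using 1
  ext x
  unfold setRkE
  rw [Set.mem_ofPred_eq, Set.mem_ofPred_eq, geomRk_finite_iff_notMem_cN,
    Groth.Agent.Helper5.SmUp.Efib_eq_smoothLocus]

end Final

end Groth.Agent.Helper5.GeoFin
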