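import Mathlib
import Groth.Prelude
import Groth.Agent.Helper5.GeoFinE

/-!
# GeoFinF: the proper case (S5932)
-/

set_option autoImplicit false
set_option linter.unusedSectionVars false
set_option linter.unusedVariables false
set_option linter.style.haveILetI false
universe u
open CategoryTheory CategoryTheory.Limits AlgebraicGeometry TopologicalSpace Topology TensorProduct
open IsLocalRing

namespace Groth.Agent.Helper5.GeoFin

open Groth.Agent.Helper5.VarDim

variable {X Y : Scheme.{u}} (f : X ⟶ Y)

/-- the condition of S5931/S5932 at a point of a fibre -/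
def RkEAt (k : ℕ) (y : Y) (x : ↥(f.fiber y)) : Prop :=
  (∀ (K : Type u) [Field K] [Algebra (IsLocalRing.ResidueField (Y.presheaf.stalk y)) K],
        Module.Finite (IsLocalRing.ResidueField (Y.presheaf.stalk y)) K →
        ∀ x' : ↥(FBase.bc (f.fiberToSpecResidueField y) K),
          (FBase.bcπ (f.fiberToSpecResidueField y) K).base x' = x →
          LocCoh.HasRk k ((FBase.bc (f.fiberToSpecResidueField y) K).presheaf.stalk x')) ∧
      EGA4.IsEquidim ↑((f.fiber y).presheaf.stalk x) ∧ (∀ p ∈ associatedPrimes ↑((f.fiber y).presheaf.stalk x) ↑((f.fiber y).presheaf.stalk x), p ∈ minimalPrimes ↑((f.fiber y).presheaf.stalk x))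

theorem rkEAt_fiber_iff (k : ℕ) (s : Y) (w : ↥(f.fiber s)) :
    RkEAt f k s w ↔
      RkEAt f k (f.base ((f.fiberι s).base w)) (f.asFiber ((f.fiberι s).base w)) := by
  have key : ∀ (s s' : Y) (_ : s = s') (w : ↥(f.fiber s)) (w' : ↥(f.fiber s')),
      (f.fiberι s).base w = (f.fiberι s').base w' → (RkEAt f k s w ↔ RkEAt f k s' w') := by
    intro s s' h
    subst h
    intro w w' hww'
    have : w = w' := (f.fiberι s).isEmbedding.injective hww'
    rw [this]
  have hs : f.base ((f.fiberι s).base w) = s := apply_fiberι f s w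
  exact key s _ hs.symm w (f.asFiber _) (f.fiberι_asFiber _).symm

/-- S5932 -/
theorem s5932 [IsProper f] [Flat f] [LocallyOfFinitePresentation f] (k : ℕ) :
    IsOpen {y : Y | ∀ x : ↥(f.fiber y), (∀ (K : Type u) [Field K] [Algebra (IsLocalRing.ResidueField (Y.presheaf.stalk y)) K],
        Module.Finite (IsLocalRing.ResidueField (Y.presheaf.stalk y)) K →
        ∀ x' : ↥(FBase.bc (f.fiberToSpecResidueField y) K),
          (FBase.bcπ (f.fiberToSpecResidueField y) K).base x' = x →
          LocCoh.HasRk k ((FBase.bc (f.fiberToSpecResidueField y) K).presheaf.stalk x')) ∧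
      EGA4.IsEquidim ↑((f.fiber y).presheaf.stalk x) ∧ (∀ p ∈ associatedPrimes ↑((f.fiber y).presheaf.stalk x) ↑((f.fiber y).presheaf.stalk x), p ∈ minimalPrimes ↑((f.fiber y).presheaf.stalk x))} := by
  have hopen := s5931 f k
  have hcl : IsClosedMap f.base := f.isClosedMap
  have h2 := isOpen_compl_iff.mpr (hcl _ (isClosed_compl_iff.mpr hopen))
  convert h2 using 1
  ext y
  constructor
  · rintro H ⟨x, hx, rfl⟩
    apply hx
    exact H (f.asFiber x)
  · intro H x
    by_contra hcon
    apply H
    refine ⟨(f.fiberι y).base x, ?_, apply_fiberι f y x⟩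
    intro hG
    have h4 : RkEAt f k y x := (rkEAt_fiber_iff f k y x).mpr hG
    exact hcon h4

end Groth.Agent.Helper5.GeoFin
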