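import Mathlib
import Groth.Prelude
import Groth.Agent.Helper5.GeoNorA
import Groth.Agent.Helper5.GeoRkD
import Groth.Agent.Helper5.FibPropH

/-!
# GeoNorB: the locus where the fibres are geometrically normal is locally constructible
(S3455, S4827)
-/

set_option autoImplicit false
set_option linter.unusedSectionVars false
set_option linter.unusedVariables false
set_option linter.style.haveILetI false
universe u

namespace Groth.Agent.Helper5.GeoNor

open CategoryTheory CategoryTheory.Limits AlgebraicGeometry TopologicalSpace Topology
open Groth.Agent.Helper5.GeoRk Groth.Agent.Helper5.VarDim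

variable {X S : Scheme.{u}} (f : X ⟶ S)

set_option maxHeartbeats 800000 in
/-- the fibre through `x` is geometrically normal at `x` iff it has the geometric property `(R_1)`
at `x` and its local ring at `x` has the property `(S_2)` -/
theorem geomNormal_iff [LocallyOfFinitePresentation f] (x : X) :
    (∀ (K : Type u) [Field K] [Algebra (IsLocalRing.ResidueField (S.presheaf.stalk (f.base x))) K]
        (x' : ↥(FBase.bc (f.fiberToSpecResidueField (f.base x)) K)),
        (FBase.bcπ (f.fiberToSpecResidueField (f.base x)) K).base x' = f.asFiber x →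
          (IsDomain ((FBase.bc (f.fiberToSpecResidueField (f.base x)) K).presheaf.stalk x') ∧
            IsIntegrallyClosed
              ((FBase.bc (f.fiberToSpecResidueField (f.base x)) K).presheaf.stalk x'))) ↔
      (∀ (K : Type u) [Field K]
        [Algebra (IsLocalRing.ResidueField (S.presheaf.stalk (f.base x))) K]
        (x' : ↥(FBase.bc (f.fiberToSpecResidueField (f.base x)) K)),
        (FBase.bcπ (f.fiberToSpecResidueField (f.base x)) K).base x' = f.asFiber x →
          LocCoh.HasRk 1 ((FBase.bc (f.fiberToSpecResidueField (f.base x)) K).presheaf.stalk x')) ∧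
      LocCoh.HasSk 2 ((f.fiber (f.base x)).presheaf.stalk (f.asFiber x))
        ((f.fiber (f.base x)).presheaf.stalk (f.asFiber x)) :=
  @geomNormal_field_iff (IsLocalRing.ResidueField (S.presheaf.stalk (f.base x))) _
    (f.fiber (f.base x)) (f.fiberToSpecResidueField (f.base x))
    (Groth.Agent.Helper5.SmUp.lfp_fiberToSpec f _) (f.asFiber x)

/-- S3455 -/
theorem s3455 [LocallyOfFinitePresentation f] :
    Topology.IsLocallyConstructible {x : X |
      ∀ (K : Type u) [Field K] [Algebra (IsLocalRing.ResidueField (S.presheaf.stalk (f.base x))) K]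
        (x' : ↥(FBase.bc (f.fiberToSpecResidueField (f.base x)) K)),
        (FBase.bcπ (f.fiberToSpecResidueField (f.base x)) K).base x' = f.asFiber x →
          (IsDomain ((FBase.bc (f.fiberToSpecResidueField (f.base x)) K).presheaf.stalk x') ∧ IsIntegrallyClosed ((FBase.bc (f.fiberToSpecResidueField (f.base x)) K).presheaf.stalk x'))} := by
  have h := (s3454 f 1).inter (Groth.Agent.Helper5.FibProp.s3422 f 2)
  convert h using 1
  ext x
  exact geomNormal_iff f x

/-- geometric normality at a point of a fibre -/
def GeomNormalAt (s : S) (w : ↥(f.fiber s)) : Prop :=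
  ∀ (K : Type u) [Field K] [Algebra (IsLocalRing.ResidueField (S.presheaf.stalk s)) K]
    (x' : ↥(FBase.bc (f.fiberToSpecResidueField s) K)),
    (FBase.bcπ (f.fiberToSpecResidueField s) K).base x' = w →
      (IsDomain ((FBase.bc (f.fiberToSpecResidueField s) K).presheaf.stalk x') ∧
        IsIntegrallyClosed ((FBase.bc (f.fiberToSpecResidueField s) K).presheaf.stalk x'))

theorem geomNormalAt_fiber_iff (s : S) (w : ↥(f.fiber s)) :
    GeomNormalAt f s w ↔
      GeomNormalAt f (f.base ((f.fiberι s).base w)) (f.asFiber ((f.fiberι s).base w)) := by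
  have key : ∀ (s s' : S) (_ : s = s') (w : ↥(f.fiber s)) (w' : ↥(f.fiber s')),
      (f.fiberι s).base w = (f.fiberι s').base w' →
        (GeomNormalAt f s w ↔ GeomNormalAt f s' w') := by
    intro s s' h
    subst h
    intro w w' hww'
    have : w = w' := (f.fiberι s).isEmbedding.injective hww'
    rw [this]
  have hs : f.base ((f.fiberι s).base w) = s := apply_fiberι f s w
  exact key s _ hs.symm w (f.asFiber _) (f.fiberι_asFiber _).symm

/-- S4827 -/
theorem s4827 [LocallyOfFinitePresentation f] [QuasiCompact f] [QuasiSeparated f] :
    Topology.IsLocallyConstructible {s : S |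
      ∀ (K : Type u) [Field K] [Algebra (IsLocalRing.ResidueField (S.presheaf.stalk s)) K]
        (x' : ↥(FBase.bc (f.fiberToSpecResidueField s) K)),
        IsDomain ((FBase.bc (f.fiberToSpecResidueField s) K).presheaf.stalk x') ∧
          IsIntegrallyClosed ((FBase.bc (f.fiberToSpecResidueField s) K).presheaf.stalk x')} := by
  have h1 := Groth.Agent.Helper5.KLem.isLocallyConstructible_compl (s3455 f)
  have h2 := Groth.Agent.Helper5.KLem.isLocallyConstructible_compl
    (f.isLocallyConstructible_image h1)
  convert h2 using 1
  ext s
  constructor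
  · rintro H ⟨x, hx, rfl⟩
    apply hx
    intro K _ _ x' _
    exact H K x'
  · intro H K _ _ x'
    by_contra hcon
    apply H
    refine ⟨(f.fiberι s).base ((FBase.bcπ (f.fiberToSpecResidueField s) K).base x'), ?_,
      apply_fiberι f s _⟩
    intro hG
    have h4 : GeomNormalAt f s ((FBase.bcπ (f.fiberToSpecResidueField s) K).base x') :=
      (geomNormalAt_fiber_iff f s _).mpr hG
    exact hcon (h4 K x' rfl)

end Groth.Agent.Helper5.GeoNor
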