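import Mathlib
import Groth.Prelude
import Groth.Agent.Helper5.GeoNorB
import Groth.Agent.Helper5.GeoFinF
import Groth.Agent.Helper5.FibPropE
import Groth.Agent.Helper2.SkEmb3

/-!
# GeoNorC: geometric normality tested on finite extensions; openness of the geometrically normal
locus for flat morphisms (S5933) and on the flat locus (S5923)
-/

set_option autoImplicit false
set_option linter.unusedSectionVars false
set_option linter.unusedVariables false
set_option linter.style.haveILetI false
universe u

namespace Groth.Agent.Helper5.GeoNor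

open CategoryTheory CategoryTheory.Limits AlgebraicGeometry TopologicalSpace Topology
open Groth.Agent.Helper5.GeoRk Groth.Agent.Helper5.GeoFin Groth.Agent.Helper5.VarDim

section Field

variable (k : Type u) [Field k] {T : Scheme.{u}} (h : T ⟶ Spec (CommRingCat.of k))
  [LocallyOfFinitePresentation h]

/-- the geometric condition `(R_n)`, tested on finite extensions, implies `(R_n)` -/
theorem hasRk_of_geomRk_finite (t : T) (n : ℕ)
    (H : ∀ (K : Type u) [Field K] [Algebra k K], Module.Finite k K →
      ∀ t' : ↥(FBase.bc h K), (FBase.bcπ h K).base t' = t →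
        LocCoh.HasRk n ((FBase.bc h K).presheaf.stalk t')) :
    LocCoh.HasRk n (T.presheaf.stalk t) := by
  have hs := (geomRk_finite_iff k h t n).mp H
  rw [hasRk_stalk_iff]
  intro ξ hξ hd
  have hsm : ξ ∈ h.smoothLocus := by
    by_contra hns
    exact hs ξ hξ hns hd
  exact regular_of_mem_smoothLocus k h ξ hsm

set_option maxHeartbeats 800000 in
/-- geometric normality tested on finite extensions -/
theorem geomNormal_finite_iff (t : T) :
    (∀ (K : Type u) [Field K] [Algebra k K], Module.Finite k K →
      ∀ t' : ↥(FBase.bc h K), (FBase.bcπ h K).base t' = t →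
        IsDomain ((FBase.bc h K).presheaf.stalk t') ∧
          IsIntegrallyClosed ((FBase.bc h K).presheaf.stalk t')) ↔
      (∀ (K : Type u) [Field K] [Algebra k K], Module.Finite k K →
        ∀ t' : ↥(FBase.bc h K), (FBase.bcπ h K).base t' = t →
          LocCoh.HasRk 1 ((FBase.bc h K).presheaf.stalk t')) ∧
      LocCoh.HasSk 2 (T.presheaf.stalk t) (T.presheaf.stalk t) := by
  haveI : LocallyOfFiniteType h := inferInstance
  haveI hTN : IsLocallyNoetherian T := LocallyOfFiniteType.isLocallyNoetherian h
  constructor
  · intro H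
    refine ⟨fun K _ _ hK t' ht' => ?_, ?_⟩
    · haveI := isLocallyNoetherian_bc k h K (algebraMap k K)
      obtain ⟨hd, hic⟩ := H K hK t' ht'
      have := (normal_iff_r1_s2
        ((pullback h (Spec.map (CommRingCat.ofHom (algebraMap k K)))).presheaf.stalk t')).mp
        ⟨hd, hic⟩
      exact this.1
    · let φ : k →+* k := algebraMap k k
      haveI := isLocallyNoetherian_bc k h k φ
      set π := pullback.fst h (Spec.map (CommRingCat.ofHom φ)) with hπ
      obtain ⟨t', ht'⟩ := π.surjective t
      obtain ⟨hd, hic⟩ := H k (Module.Finite.self k) t' ht'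
      have hS := ((normal_iff_r1_s2
        ((pullback h (Spec.map (CommRingCat.ofHom φ))).presheaf.stalk t')).mp ⟨hd, hic⟩).2
      subst ht'
      haveI : Flat π := inferInstance
      letI : Algebra (T.presheaf.stalk (π.base t'))
          ((pullback h (Spec.map (CommRingCat.ofHom φ))).presheaf.stalk t') :=
        (π.stalkMap t').hom.toAlgebra
      haveI : IsLocalHom (algebraMap (T.presheaf.stalk (π.base t'))
          ((pullback h (Spec.map (CommRingCat.ofHom φ))).presheaf.stalk t')) :=
        inferInstanceAs (IsLocalHom (π.stalkMap t').hom)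
      haveI : Module.Flat (T.presheaf.stalk (π.base t'))
          ((pullback h (Spec.map (CommRingCat.ofHom φ))).presheaf.stalk t') := Flat.stalkMap π t'
      haveI : Module.FaithfullyFlat (T.presheaf.stalk (π.base t'))
          ((pullback h (Spec.map (CommRingCat.ofHom φ))).presheaf.stalk t') :=
        Module.FaithfullyFlat.of_flat_of_isLocalHom
      exact (Groth.Agent.S9437.result 2 _ _ hS).2
  · rintro ⟨HR, HS⟩ K _ _ hK t' ht'
    have hall := (geomRk_field_iff k h t 1).mpr ((geomRk_finite_iff k h t 1).mp HR)
    exact (geomNormal_field_iff k h t).mpr ⟨hall, HS⟩ K t' ht'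

end Field

variable {X Y : Scheme.{u}} (f : X ⟶ Y)

/-- geometric normality, tested on finite extensions, at a point of a fibre -/
def GeomNormalFinAt (s : Y) (w : ↥(f.fiber s)) : Prop :=
  ∀ (K : Type u) [Field K] [Algebra (IsLocalRing.ResidueField (Y.presheaf.stalk s)) K],
    Module.Finite (IsLocalRing.ResidueField (Y.presheaf.stalk s)) K →
    ∀ x' : ↥(FBase.bc (f.fiberToSpecResidueField s) K),
      (FBase.bcπ (f.fiberToSpecResidueField s) K).base x' = w →
      IsDomain ((FBase.bc (f.fiberToSpecResidueField s) K).presheaf.stalk x') ∧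
        IsIntegrallyClosed ((FBase.bc (f.fiberToSpecResidueField s) K).presheaf.stalk x')

theorem geomNormalFinAt_fiber_iff (s : Y) (w : ↥(f.fiber s)) :
    GeomNormalFinAt f s w ↔
      GeomNormalFinAt f (f.base ((f.fiberι s).base w)) (f.asFiber ((f.fiberι s).base w)) := by
  have key : ∀ (s s' : Y) (_ : s = s') (w : ↥(f.fiber s)) (w' : ↥(f.fiber s')),
      (f.fiberι s).base w = (f.fiberι s').base w' →
        (GeomNormalFinAt f s w ↔ GeomNormalFinAt f s' w') := by
    intro s s' h
    subst h
    intro w w' hww'
    have : w = w' := (f.fiberι s).isEmbedding.injective hww'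
    rw [this]
  have hs : f.base ((f.fiberι s).base w) = s := apply_fiberι f s w
  exact key s _ hs.symm w (f.asFiber _) (f.fiberι_asFiber _).symm

set_option maxHeartbeats 800000 in
/-- geometric normality of the fibre at `x`, tested on finite extensions: the geometric condition
`(R_1)` with `(S_2)`, and then the local ring of the fibre is equidimensional without embedded
primes -/
theorem geomNormalFin_iff [LocallyOfFinitePresentation f] (x : X) :
    GeomNormalFinAt f (f.base x) (f.asFiber x) ↔
      ((∀ (K : Type u) [Field K]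
        [Algebra (IsLocalRing.ResidueField (Y.presheaf.stalk (f.base x))) K],
        Module.Finite (IsLocalRing.ResidueField (Y.presheaf.stalk (f.base x))) K →
        ∀ x' : ↥(FBase.bc (f.fiberToSpecResidueField (f.base x)) K),
          (FBase.bcπ (f.fiberToSpecResidueField (f.base x)) K).base x' = f.asFiber x →
          LocCoh.HasRk 1 ((FBase.bc (f.fiberToSpecResidueField (f.base x)) K).presheaf.stalk x')) ∧
        EGA4.IsEquidim ↑((f.fiber (f.base x)).presheaf.stalk (f.asFiber x)) ∧
        (∀ p ∈ associatedPrimes ↑((f.fiber (f.base x)).presheaf.stalk (f.asFiber x))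
          ↑((f.fiber (f.base x)).presheaf.stalk (f.asFiber x)),
          p ∈ minimalPrimes ↑((f.fiber (f.base x)).presheaf.stalk (f.asFiber x)))) ∧
      LocCoh.HasSk 2 ((f.fiber (f.base x)).presheaf.stalk (f.asFiber x))
        ((f.fiber (f.base x)).presheaf.stalk (f.asFiber x)) := by
  haveI hlfp := Groth.Agent.Helper5.SmUp.lfp_fiberToSpec f (f.base x)
  have key := @geomNormal_finite_iff (IsLocalRing.ResidueField (Y.presheaf.stalk (f.base x))) _
    (f.fiber (f.base x)) (f.fiberToSpecResidueField (f.base x)) hlfp (f.asFiber x)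
  haveI hN : IsNoetherianRing ((f.fiber (f.base x)).presheaf.stalk (f.asFiber x)) :=
    Groth.Agent.Helper5.FibProp.noeth_fibre_stalk f _ _
  constructor
  · intro H
    obtain ⟨HR, HS⟩ := key.mp H
    refine ⟨⟨HR, ?_, ?_⟩, HS⟩
    · have hR1 := @hasRk_of_geomRk_finite (IsLocalRing.ResidueField (Y.presheaf.stalk (f.base x))) _
        (f.fiber (f.base x)) (f.fiberToSpecResidueField (f.base x)) hlfp (f.asFiber x) 1 HR
      obtain ⟨hd, -⟩ := (normal_iff_r1_s2 _).mpr ⟨hR1, HS⟩
      haveI := hd
      exact Groth.Agent.Helper2.NorLift.isEquidim_of_isDomain _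
    · exact (hasSk_one_self_iff _).mp
        (Groth.Agent.Helper2.SkEmb.hasSk_mono (by norm_num : 1 ≤ 2) HS)
  · rintro ⟨⟨HR, -, -⟩, HS⟩
    exact key.mpr ⟨HR, HS⟩

/-- the geometrically normal locus of a flat morphism locally of finite presentation is open -/
theorem isOpen_geomNormalFin [Flat f] [LocallyOfFinitePresentation f] :
    IsOpen {x : X | GeomNormalFinAt f (f.base x) (f.asFiber x)} := by
  have h := (s5931 f 1).inter (Groth.Agent.Helper5.FibProp.s2551 f 2)
  convert h using 1
  ext x
  exact geomNormalFin_iff f x

/-- S5933 -/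
theorem s5933 [IsProper f] [Flat f] [LocallyOfFinitePresentation f] :
    IsOpen {y : Y | ∀ x : ↥(f.fiber y), (∀ (K : Type u) [Field K] [Algebra (IsLocalRing.ResidueField (Y.presheaf.stalk y)) K],
        Module.Finite (IsLocalRing.ResidueField (Y.presheaf.stalk y)) K →
        ∀ x' : ↥(FBase.bc (f.fiberToSpecResidueField y) K),
          (FBase.bcπ (f.fiberToSpecResidueField y) K).base x' = x →
          IsDomain ((FBase.bc (f.fiberToSpecResidueField y) K).presheaf.stalk x') ∧
            IsIntegrallyClosed ((FBase.bc (f.fiberToSpecResidueField y) K).presheaf.stalk x'))} := by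
  have hopen := isOpen_geomNormalFin f
  have hcl : IsClosedMap f.base := f.isClosedMap
  have h2 := isOpen_compl_iff.mpr (hcl _ (isClosed_compl_iff.mpr hopen))
  convert h2 using 1
  ext y
  constructor
  · rintro H ⟨x, hx, rfl⟩
    apply hx
    exact H (f.asFiber x)
  · intro H x
    by_contra hcon
    apply H
    refine ⟨(f.fiberι y).base x, ?_, apply_fiberι f y x⟩
    intro hG
    have h4 : GeomNormalFinAt f y x := (geomNormalFinAt_fiber_iff f y x).mpr hG
    exact hcon h4

end Groth.Agent.Helper5.GeoNor
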