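import Mathlib
import Groth.Prelude
import Groth.Agent.Helper5.GeoNorC
import Groth.Agent.Helper5.SpecFib2
import Groth.Agent.Helper5.SmUp2
import Groth.Agent.Helper2.FlatLocusSch
import Groth.Agent.Helper3.GRO6

/-!
# GeoNorD: the locus where the morphism is flat and the fibre is geometrically normal is open
(S5923)
-/

set_option autoImplicit false
set_option linter.unusedSectionVars false
set_option linter.unusedVariables false
set_option linter.style.haveILetI false
universe u

namespace Groth.Agent.Helper5.GeoNor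

open CategoryTheory CategoryTheory.Limits AlgebraicGeometry TopologicalSpace Topology
open Groth.Agent.Helper5.GeoRk Groth.Agent.Helper5.GeoFin Groth.Agent.Helper5.VarDim

variable {X Y : Scheme.{u}} (f : X ⟶ Y)

/-- the sets `cN` and open immersions into the source -/
theorem mem_cN_comp_iff {U : Scheme.{u}} (j : U ⟶ X) [IsOpenImmersion j] (T : Set X) (c : ℕ)
    (u : U) : u ∈ cN (j ≫ f) (j.base ⁻¹' T) c ↔ j.base u ∈ cN f T c := by
  rw [mem_cN_iff', mem_cN_iff']
  constructor
  · rintro ⟨z', hzT, hsp, hf, hd⟩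
    obtain ⟨e⟩ := Groth.Agent.Helper5.SpecFib.fibre_stalk_openImmersion_comp j f z'
    refine ⟨j.base z', hzT, hsp.map j.continuous, ?_, ?_⟩
    · have : (j ≫ f).base z' = f.base (j.base z') := by simp
      rw [← this, hf]
      simp
    · rw [← ringKrullDim_eq_of_ringEquiv e]
      exact hd
  · rintro ⟨z, hzT, hsp, hf, hd⟩
    have hzr : z ∈ Set.range j.base :=
      hsp.mem_open j.isOpenEmbedding.isOpen_range ⟨u, rfl⟩
    obtain ⟨z', rfl⟩ := hzr
    obtain ⟨e⟩ := Groth.Agent.Helper5.SpecFib.fibre_stalk_openImmersion_comp j f z'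
    refine ⟨z', hzT, j.isOpenEmbedding.isEmbedding.toIsInducing.specializes_iff.mp hsp, ?_, ?_⟩
    · have h1 : (j ≫ f).base z' = f.base (j.base z') := by simp
      have h2 : (j ≫ f).base u = f.base (j.base u) := by simp
      rw [h1, h2, hf]
    · rw [ringKrullDim_eq_of_ringEquiv e]
      exact hd

set_option maxHeartbeats 800000 in
/-- geometric normality of the fibre at `x`, tested on finite extensions, in terms of the sets
`cN` -/
theorem geomNormalFin_iff_cN [LocallyOfFinitePresentation f] (x : X) :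
    GeomNormalFinAt f (f.base x) (f.asFiber x) ↔
      x ∉ cN f (Groth.Agent.Helper5.SmUp.Efib f)ᶜ 1 ∧
      LocCoh.HasSk 2 ((f.fiber (f.base x)).presheaf.stalk (f.asFiber x))
        ((f.fiber (f.base x)).presheaf.stalk (f.asFiber x)) := by
  haveI hlfp := Groth.Agent.Helper5.SmUp.lfp_fiberToSpec f (f.base x)
  have key := @geomNormal_finite_iff (IsLocalRing.ResidueField (Y.presheaf.stalk (f.base x))) _
    (f.fiber (f.base x)) (f.fiberToSpecResidueField (f.base x)) hlfp (f.asFiber x)
  rw [← geomRk_finite_iff_notMem_cN]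
  exact key

set_option maxHeartbeats 800000 in
/-- geometric normality of the fibre and open immersions into the source -/
theorem geomNormalFin_comp_iff [LocallyOfFinitePresentation f] {U : Scheme.{u}} (j : U ⟶ X)
    [IsOpenImmersion j] (u : U) :
    GeomNormalFinAt (j ≫ f) ((j ≫ f).base u) ((j ≫ f).asFiber u) ↔
      GeomNormalFinAt f (f.base (j.base u)) (f.asFiber (j.base u)) := by
  haveI : LocallyOfFinitePresentation (j ≫ f) := inferInstance
  haveI : LocallyOfFiniteType f := inferInstance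
  haveI : LocallyOfFiniteType (j ≫ f) := inferInstance
  rw [geomNormalFin_iff_cN, geomNormalFin_iff_cN]
  have hE : (Groth.Agent.Helper5.SmUp.Efib (j ≫ f))ᶜ =
      j.base ⁻¹' (Groth.Agent.Helper5.SmUp.Efib f)ᶜ := by
    ext v
    simp only [Set.mem_compl_iff, Set.mem_preimage]
    exact not_congr (Groth.Agent.Helper5.SmUp.mem_Efib_of_isOpenImmersion j f v)
  rw [hE, mem_cN_comp_iff]
  obtain ⟨e⟩ := Groth.Agent.Helper5.SpecFib.fibre_stalk_openImmersion_comp j f u
  haveI : IsNoetherianRing (((j ≫ f).fiber ((j ≫ f).base u)).presheaf.stalk ((j ≫ f).asFiber u)) :=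
    Groth.Agent.Helper5.FibProp.noeth_fibre_stalk (j ≫ f) _ _
  haveI : IsNoetherianRing ((f.fiber (f.base (j.base u))).presheaf.stalk (f.asFiber (j.base u))) :=
    Groth.Agent.Helper5.FibProp.noeth_fibre_stalk f _ _
  have hS : LocCoh.HasSk 2
      (((j ≫ f).fiber ((j ≫ f).base u)).presheaf.stalk ((j ≫ f).asFiber u))
      (((j ≫ f).fiber ((j ≫ f).base u)).presheaf.stalk ((j ≫ f).asFiber u)) ↔
      LocCoh.HasSk 2 ((f.fiber (f.base (j.base u))).presheaf.stalk (f.asFiber (j.base u)))
        ((f.fiber (f.base (j.base u))).presheaf.stalk (f.asFiber (j.base u))) :=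
    ⟨fun h => Groth.Agent.Helper2.SkFlat.hasSk_of_ringEquiv e 2 h,
      fun h => Groth.Agent.Helper2.SkFlat.hasSk_of_ringEquiv e.symm 2 h⟩
  rw [hS]

set_option maxHeartbeats 800000 in
/-- S5923 -/
theorem s5923 [LocallyOfFinitePresentation f] :
    IsOpen {x : X | (f.stalkMap x).hom.Flat ∧
      ∀ (K : Type u) [Field K] [Algebra (IsLocalRing.ResidueField (Y.presheaf.stalk (f.base x))) K],
        Module.Finite (IsLocalRing.ResidueField (Y.presheaf.stalk (f.base x))) K →
        ∀ x' : ↥(FBase.bc (f.fiberToSpecResidueField (f.base x)) K),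
          (FBase.bcπ (f.fiberToSpecResidueField (f.base x)) K).base x' = f.asFiber x →
          IsDomain ((FBase.bc (f.fiberToSpecResidueField (f.base x)) K).presheaf.stalk x') ∧
            IsIntegrallyClosed ((FBase.bc (f.fiberToSpecResidueField (f.base x)) K).presheaf.stalk x')} := by
  have hfl := Groth.Agent.Helper2.FlatLocusSch.isOpen_flat_locus f
  let Uo : X.Opens := ⟨_, hfl⟩
  haveI : Flat (Uo.ι ≫ f) := by
    rw [Flat.iff_flat_stalkMap]
    intro x'
    rw [Groth.Agent.Helper3.GRO.flat_stalkMap_comp_iff]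
    exact x'.2
  haveI : LocallyOfFinitePresentation (Uo.ι ≫ f) := inferInstance
  have h1 := isOpen_geomNormalFin (Uo.ι ≫ f)
  have h2 : {x : X | (f.stalkMap x).hom.Flat ∧ GeomNormalFinAt f (f.base x) (f.asFiber x)} =
      Uo.ι.base '' {w : ↥(Uo : Scheme.{u}) |
        GeomNormalFinAt (Uo.ι ≫ f) ((Uo.ι ≫ f).base w) ((Uo.ι ≫ f).asFiber w)} := by
    ext x
    constructor
    · rintro ⟨hx1, hx2⟩
      exact ⟨⟨x, hx1⟩, (geomNormalFin_comp_iff f Uo.ι ⟨x, hx1⟩).2 hx2, rfl⟩
    · rintro ⟨x', hx', rfl⟩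
      exact ⟨x'.2, (geomNormalFin_comp_iff f Uo.ι x').1 hx'⟩
  have h3 := Uo.ι.isOpenEmbedding.isOpenMap _ h1
  rw [← h2] at h3
  exact h3

end Groth.Agent.Helper5.GeoNor
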