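import Groth.Prelude.Def_AlgSp2
import Groth.Prelude.Def_AlgSpDec
import Groth.Agent.Helper4.AlgSpPtsDesc
import Groth.Agent.Helper4.AlgSpQC2
import Groth.Agent.Helper4.GeomRedSp2
import Mathlib

set_option autoImplicit false
universe u
open CategoryTheory CategoryTheory.Limits AlgebraicGeometry Opposite

namespace Groth.Agent.Helper5.GeomConnSp1

open AlgSp Groth.Agent.Helper4.AlgSpPtsDesc Groth.Agent.Helper4.GeomRedSp2

variable {S : Scheme.{u}}

/-- The fibre of `p` over the point defined by `ξ : h_T ⟶ G` with `T` a one-point scheme is the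
image of the points of the fibre product. -/
theorem range_fst_eq_fibre {F G P : Sp S} {p : F ⟶ G} {T : Over S} [Subsingleton ↥T.left]
    {ξ : (yon S).obj T ⟶ G} {fst : P ⟶ F} {snd : P ⟶ (yon S).obj T}
    (sq : IsPullback fst snd p ξ) (t : ↥T.left) :
    Set.range (Points.map fst) = Points.map p ⁻¹' {Points.ofPt ξ t} := by
  ext x
  simp only [Set.mem_range, Set.mem_preimage, Set.mem_singleton_iff]
  constructor
  · rintro ⟨w, rfl⟩
    rw [← Points.map_comp, sq.w, Points.map_comp]
    obtain ⟨t', ht'⟩ := (Points.schemeHomeo T).surjective (Points.map snd w)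
    rw [← ht', Groth.Agent.Helper4.AlgSpQC2.ofPt_eq_map_schemeHomeo, Subsingleton.elim t t']
  · intro hx
    rw [← Groth.Agent.Helper4.AlgSpQC2.ofPt_eq_map_schemeHomeo] at hx
    obtain ⟨w, hw, -⟩ := exists_point_of_isPullback sq x _ hx
    exact ⟨w, hw⟩

theorem isConnected_fibre {F G P : Sp S} {p : F ⟶ G} {T : Over S} [Subsingleton ↥T.left]
    {ξ : (yon S).obj T ⟶ G} {fst : P ⟶ F} {snd : P ⟶ (yon S).obj T}
    (sq : IsPullback fst snd p ξ) (t : ↥T.left) [ConnectedSpace (Points P)] :
    IsConnected (Points.map p ⁻¹' {Points.ofPt ξ t}) := by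
  rw [← range_fst_eq_fibre sq t]
  exact isConnected_range (Points.continuous_map fst)

/-- A morphism which is open on points and whose fibres over field valued points have connected
spaces of points induces a bijection on connected components. -/
theorem connectedComponentsMap_bijective {F G : Sp S} (p : F ⟶ G)
    (hopen : IsOpenMap (Points.map p))
    (hfib : ∀ y : FieldPt G, ∃ (P : Sp S) (fst : P ⟶ F) (snd : P ⟶ (yon S).obj y.pt),
      IsPullback fst snd p y.toHom ∧ ConnectedSpace (Points P)) :
    Function.Bijective (Continuous.connectedComponentsMap (Points.continuous_map p)) := by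
  have hfibre : ∀ x : Points G, IsConnected (Points.map p ⁻¹' {x}) := by
    intro x
    induction x using Points.ind with
    | h y =>
      obtain ⟨P, fst, snd, sq, hP⟩ := hfib y
      haveI : Subsingleton ↥y.pt.left := inferInstanceAs (Subsingleton (PrimeSpectrum y.K))
      have := isConnected_fibre sq (IsLocalRing.closedPoint y.K)
      rwa [Points.ofPt_toHom] at this
  have hsurj : Function.Surjective (Points.map p) := fun x => by
    obtain ⟨w, hw⟩ := (hfibre x).nonempty
    exact ⟨w, hw⟩
  have hco := (hopen.isQuotientMap (Points.continuous_map p) hsurj).isCoinducing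
  exact hco.connectedComponentsMap_bijective hfibre

end Groth.Agent.Helper5.GeomConnSp1
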