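import Groth.Agent.Helper5.GeomConnSp9
import Groth.Agent.Helper5.Decent3
import Groth.Agent.Helper4.FinLevelOpen
import Mathlib

set_option autoImplicit false
universe u
open CategoryTheory CategoryTheory.Limits AlgebraicGeometry Opposite

namespace Groth.Agent.Helper5.GeomConnSp10

open AlgSp Groth.Agent.Helper4.AlgSpPtsDesc Groth.Agent.Helper4.GeomRedSp2
  Groth.Agent.Helper4.AlgSpPts Groth.Agent.Helper5.GeomConnSp1 Groth.Agent.Helper5.GeomConnSp2
  Groth.Agent.Helper5.GeomConnSp3 Groth.Agent.Helper5.GeomConnSp3b Groth.Agent.Helper5.GeomConnSp4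
  Groth.Agent.Helper5.GeomConnSp5 Groth.Agent.Helper5.GeomConnSp6 Groth.Agent.Helper5.GeomConnSp7
  Groth.Agent.Helper5.GeomConnSp8 Groth.Agent.Helper5.GeomConnSp9
  Groth.Agent.Helper4.GeomBC

variable {k : Type u} [Field k] (X : AlgSp.Space (Spec (CommRingCat.of k)))
  (K : Type u) [Field K] [Algebra k K]

/-- `Spec K ⟶ Spec E` for an intermediate field. -/
noncomputable abbrev tE (E : IntermediateField k K) : ptOver k K ⟶ ptOver k E :=
  bcMor (IsScalarTower.toAlgHom k E K)

/-- `Spec E' ⟶ Spec E` for `E ≤ E'`. -/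
noncomputable abbrev tEE {E E' : IntermediateField k K} (h : E ≤ E') : ptOver k E' ⟶ ptOver k E :=
  bcMor (IntermediateField.inclusion h)

theorem bcMor_comp {K₁ K₂ K₃ : Type u} [Field K₁] [Field K₂] [Field K₃] [Algebra k K₁]
    [Algebra k K₂] [Algebra k K₃] (ψ : K₁ →ₐ[k] K₂) (ψ' : K₂ →ₐ[k] K₃) :
    bcMor ψ' ≫ bcMor ψ = bcMor (ψ'.comp ψ) := by
  apply Over.OverMorphism.ext
  show Spec.map _ ≫ Spec.map _ = Spec.map _
  rw [← Spec.map_comp]
  rfl

theorem tE_comp {E E' : IntermediateField k K} (h : E ≤ E') : tE K E' ≫ tEE K h = tE K E := by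
  rw [bcMor_comp]
  rfl

theorem bcHom_comp {T T' T'' : Over (Spec (CommRingCat.of k))} (t : T'' ⟶ T') (t' : T' ⟶ T) :
    bcHom X (t ≫ t') = bcHom X t ≫ bcHom X t' := by
  show prod.map (𝟙 X.obj) ((yon _).map (t ≫ t')) = _
  rw [Functor.map_comp, prod.map_id_comp]

variable [Algebra.IsAlgebraic k K]

set_option backward.isDefEq.respectTransparency.types false in
/-- Finite level open neighbourhoods. -/
theorem exists_fd_nhd
    (V : Set (Points (X.obj ⨯ (yon _).obj (ptOver k K)))) (hV : IsOpen V)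
    (b : Points (X.obj ⨯ (yon _).obj (ptOver k K))) (hb : b ∈ V) :
    ∃ E : IntermediateField k K, FiniteDimensional k E ∧
      ∃ N' : Set (Points (X.obj ⨯ (yon _).obj (ptOver k E))), IsOpen N' ∧
        b ∈ Points.map (bcHom X (tE K E)) ⁻¹' N' ∧ Points.map (bcHom X (tE K E)) ⁻¹' N' ⊆ V := by
  obtain ⟨R, g, a, hae, u, hu⟩ := exists_spec_chart X (Points.map prod.fst b)
  obtain ⟨w, hw1, hw2⟩ := exists_point_chartProd a (ptOver k K) u b hu
  have hVw : IsOpen (Points.ofPt (chartProd a (ptOver k K)) ⁻¹' V) :=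
    hV.preimage (Points.continuous_ofPt _)
  obtain ⟨E, hE, C', hC', hbC', hsub⟩ :=
    Groth.Agent.Helper4.FinLevelOpen.exists_fd_open_Spec R g K _ hVw w
      (by show Points.ofPt (chartProd a (ptOver k K)) w ∈ V; rw [hw2]; exact hb)
  refine ⟨E, hE, Points.ofPt (chartProd a (ptOver k E)) '' C', ?_, ?_, ?_⟩
  · exact Groth.Agent.Helper5.Decent3.isOpenMap_ofPt
      (isAlgSpace_prod X.property (IsAlgSpace.yon_obj _)) (chartProd a (ptOver k E))
      (repWith_chartProd @Etale a hae _) C' hC'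
  · refine ⟨bcMap g E K w, hbC', ?_⟩
    rw [← hw2, Points.map_ofPt, ← chartProd_pbMap, ofPt_yon_map_comp, pbMap_left,
      pbMapLeft_eq_bcMap]
  · rintro z ⟨c, hc, hcz⟩
    have sq := isPullback_chartProd_pbMap a (tE K E)
    have hcomm : Points.map (chartProd a (ptOver k E)) (Points.schemeHomeo _ c) =
        Points.map (bcHom X (tE K E)) z := by
      rw [Groth.Agent.Helper4.AlgSpQC2.ofPt_eq_map_schemeHomeo]
      exact hcz
    obtain ⟨p, hp1, hp2⟩ := exists_point_of_isPullback sq _ _ hcomm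
    obtain ⟨w', rfl⟩ := (Points.schemeHomeo _).surjective p
    rw [Points.map_yon_map_apply] at hp1
    have hp1' := (Points.schemeHomeo _).injective hp1
    rw [Groth.Agent.Helper4.AlgSpQC2.ofPt_eq_map_schemeHomeo] at hp2
    rw [pbMap_left, pbMapLeft_eq_bcMap] at hp1'
    have h1 : w' ∈ (bcMap g E K) ⁻¹' C' := by
      show bcMap g E K w' ∈ C'
      rw [hp1']; exact hc
    have h2 := hsub h1
    rw [← hp2]
    exact h2

set_option backward.isDefEq.respectTransparency.types false in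
/-- Quasi-compact opens come from a finite level. -/
theorem exists_fd_descent
    (V : Set (Points (X.obj ⨯ (yon _).obj (ptOver k K)))) (hV : IsOpen V) (hVc : IsCompact V) :
    ∃ E : IntermediateField k K, FiniteDimensional k E ∧
      ∃ V' : Set (Points (X.obj ⨯ (yon _).obj (ptOver k E))), IsOpen V' ∧ IsCompact V' ∧
        Points.map (bcHom X (tE K E)) ⁻¹' V' = V := by
  choose! E hE N' hN'o hbN' hN'V using fun b (hb : b ∈ V) => exists_fd_nhd X K V hV b hb
  obtain ⟨t, htV, htfin, hcov⟩ := hVc.elim_finite_subcover_image (b := V)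
    (c := fun b => Points.map (bcHom X (tE K (E b))) ⁻¹' N' b)
    (fun b hb => (hN'o b hb).preimage (Points.continuous_map _))
    (fun b hb => Set.mem_biUnion hb (hbN' b hb))
  obtain ⟨E₀, hE₀, hle⟩ := Groth.Agent.Helper4.FinLevelOpen.exists_fd_sup t htfin E
    (fun b hb => hE b (htV hb))
  let V' : Set (Points (X.obj ⨯ (yon _).obj (ptOver k E₀))) :=
    ⋃ b : t, Points.map (bcHom X (tEE K (hle b.1 b.2))) ⁻¹' N' b.1
  have hpre : Points.map (bcHom X (tE K E₀)) ⁻¹' V' = V := by
    have h1 : ∀ b : t, Points.map (bcHom X (tE K E₀)) ⁻¹'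
        (Points.map (bcHom X (tEE K (hle b.1 b.2))) ⁻¹' N' b.1) =
        Points.map (bcHom X (tE K (E b.1))) ⁻¹' N' b.1 := by
      intro b
      ext z
      simp only [Set.mem_preimage]
      rw [← Points.map_comp, ← bcHom_comp, tE_comp]
    show Points.map (bcHom X (tE K E₀)) ⁻¹' (⋃ b : t, _) = V
    rw [Set.preimage_iUnion]
    simp_rw [h1]
    apply Set.Subset.antisymm
    · intro z hz
      obtain ⟨b, hb⟩ := Set.mem_iUnion.1 hz
      exact hN'V b.1 (htV b.2) hb
    · intro z hz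
      obtain ⟨b, hbt, hzb⟩ := Set.mem_iUnion₂.1 (hcov hz)
      exact Set.mem_iUnion.2 ⟨⟨b, hbt⟩, hzb⟩
  refine ⟨E₀, hE₀, V', ?_, ?_, hpre⟩
  · exact isOpen_iUnion fun b => (hN'o _ (htV b.2)).preimage (Points.continuous_map _)
  · have hsurj := surjective_bcHom X (tE K E₀) (surjective_Spec_map_field _)
    have : V' = Points.map (bcHom X (tE K E₀)) '' V := by
      rw [← hpre, Set.image_preimage_eq _ hsurj]
    rw [this]
    exact hVc.image (Points.continuous_map _)

end Groth.Agent.Helper5.GeomConnSp10
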