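import Groth.Agent.Helper5.GeomConnSp10
import Mathlib

set_option autoImplicit false
universe u
open CategoryTheory CategoryTheory.Limits AlgebraicGeometry Opposite

namespace Groth.Agent.Helper5.GeomConnSp11

open AlgSp Groth.Agent.Helper4.AlgSpPtsDesc Groth.Agent.Helper4.GeomRedSp2
  Groth.Agent.Helper4.AlgSpPts Groth.Agent.Helper5.GeomConnSp1 Groth.Agent.Helper5.GeomConnSp2
  Groth.Agent.Helper5.GeomConnSp3 Groth.Agent.Helper5.GeomConnSp3b Groth.Agent.Helper5.GeomConnSp4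
  Groth.Agent.Helper5.GeomConnSp5 Groth.Agent.Helper5.GeomConnSp6 Groth.Agent.Helper5.GeomConnSp7
  Groth.Agent.Helper5.GeomConnSp8 Groth.Agent.Helper5.GeomConnSp9 Groth.Agent.Helper5.GeomConnSp10
  Groth.Agent.Helper4.GeomBC

variable {k : Type u} [Field k] (X : AlgSp.Space (Spec (CommRingCat.of k)))
  (K : Type u) [Field K] [Algebra k K]

theorem s10472 [IsGalois k K] (V : Set (AlgSp.Points (X.obj ⨯ (AlgSp.yon (Spec (CommRingCat.of k))).obj (Over.mk (Spec.map (CommRingCat.ofHom (algebraMap k K))))))) (hV : IsOpen V) (hVc : IsCompact V) :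
    ∃ (k' : IntermediateField k K) (_ : FiniteDimensional k k')
      (g : (Over.mk (Spec.map (CommRingCat.ofHom (algebraMap k K))) : Over (Spec (CommRingCat.of k))) ⟶ Over.mk (Spec.map (CommRingCat.ofHom (algebraMap k k')))),
      g.left = Spec.map (CommRingCat.ofHom (algebraMap k' K)) ∧
      ∃ V' : Set (AlgSp.Points (X.obj ⨯ (AlgSp.yon (Spec (CommRingCat.of k))).obj (Over.mk (Spec.map (CommRingCat.ofHom (algebraMap k k')))))), IsOpen V' ∧ IsCompact V' ∧
        AlgSp.Points.map (Limits.prod.map (𝟙 X.obj) ((AlgSp.yon (Spec (CommRingCat.of k))).map g)) ⁻¹' V' = V := by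
  obtain ⟨E, hE, V', hV'o, hV'c, hpre⟩ := exists_fd_descent X K V hV hVc
  exact ⟨E, hE, tE K E, rfl, V', hV'o, hV'c, hpre⟩

theorem galMor_comp_tE (E : IntermediateField k K) (σ : K ≃ₐ[k] K) (hσ : σ ∈ E.fixingSubgroup) :
    galMor K σ ≫ tE K E = tE K E := by
  rw [galMor, bcMor_comp]
  congr 1
  ext x
  exact (IntermediateField.mem_fixingSubgroup_iff E σ).1 hσ x x.2

theorem galMor_inv_comp (σ : K ≃ₐ[k] K) : galMor K σ⁻¹ ≫ galMor K σ = 𝟙 _ := by
  rw [galMor, galMor, bcMor_comp]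
  apply Over.OverMorphism.ext
  show Spec.map _ = 𝟙 _
  rw [← Spec.map_id]
  congr 1
  ext x
  exact σ.symm_apply_apply x

theorem s10471 [IsGalois k K] (V : Set (AlgSp.Points (X.obj ⨯ (AlgSp.yon (Spec (CommRingCat.of k))).obj (Over.mk (Spec.map (CommRingCat.ofHom (algebraMap k K))))))) (hV : IsOpen V) (hVc : IsCompact V) :
    ∃ H : Subgroup (K ≃ₐ[k] K), IsOpen (H : Set (K ≃ₐ[k] K)) ∧
      ∀ σ ∈ H, ∀ (g : (Over.mk (Spec.map (CommRingCat.ofHom (algebraMap k K))) : Over (Spec (CommRingCat.of k))) ⟶ Over.mk (Spec.map (CommRingCat.ofHom (algebraMap k K)))),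
        g.left = Spec.map (CommRingCat.ofHom (σ : K ≃ₐ[k] K).toRingHom) →
          AlgSp.Points.map (Limits.prod.map (𝟙 X.obj) ((AlgSp.yon (Spec (CommRingCat.of k))).map g)) '' V = V := by
  obtain ⟨E, hE, V', hV'o, hV'c, hpre⟩ := exists_fd_descent X K V hV hVc
  refine ⟨E.fixingSubgroup, IntermediateField.fixingSubgroup_isOpen E, ?_⟩
  have key : ∀ σ ∈ E.fixingSubgroup, ∀ v ∈ V, Points.map (bcHom X (galMor K σ)) v ∈ V := by
    intro σ hσ v hv
    rw [← hpre] at hv ⊢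
    show Points.map (bcHom X (tE K E)) (Points.map (bcHom X (galMor K σ)) v) ∈ V'
    rw [← Points.map_comp, ← bcHom_comp, galMor_comp_tE K E σ hσ]
    exact hv
  intro σ hσ g hg
  obtain rfl := eq_galMor K σ g hg
  apply Set.Subset.antisymm
  · rintro _ ⟨v, hv, rfl⟩
    exact key σ hσ v hv
  · intro v hv
    refine ⟨Points.map (bcHom X (galMor K σ⁻¹)) v, key σ⁻¹ (inv_mem hσ) v hv, ?_⟩
    show Points.map (bcHom X (galMor K σ)) (Points.map (bcHom X (galMor K σ⁻¹)) v) = v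
    rw [← Points.map_comp, ← bcHom_comp, galMor_inv_comp]
    show Points.map (prod.map (𝟙 _) ((yon _).map (𝟙 _))) v = v
    rw [CategoryTheory.Functor.map_id, prod.map_id_id, Points.map_id]

end Groth.Agent.Helper5.GeomConnSp11
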