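import Groth.Agent.Helper5.GeomConnSp6
import Mathlib

set_option autoImplicit false
universe u
open CategoryTheory CategoryTheory.Limits AlgebraicGeometry Opposite

namespace Groth.Agent.Helper5.GeomConnSp12

open AlgSp Groth.Agent.Helper4.AlgSpPtsDesc Groth.Agent.Helper4.GeomRedSp2
  Groth.Agent.Helper4.AlgSpPts Groth.Agent.Helper5.GeomConnSp1 Groth.Agent.Helper5.GeomConnSp2
  Groth.Agent.Helper5.GeomConnSp3 Groth.Agent.Helper5.GeomConnSp3b Groth.Agent.Helper5.GeomConnSp4
  Groth.Agent.Helper5.GeomConnSp5 Groth.Agent.Helper5.GeomConnSp6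

variable {S : Scheme.{u}}

theorem connectedSpace_points_yon' (W : Over S) [ConnectedSpace ↥W.left] :
    ConnectedSpace (Points ((yon S).obj W)) :=
  (Points.schemeHomeo W).surjective.connectedSpace (Points.schemeHomeo W).continuous

set_option backward.isDefEq.respectTransparency.types false in
/-- Base change of an algebraic space over a separably closed field point along a field
extension induces a bijection on connected components (relative version over any base). -/
theorem bijective_of_sepClosed {F P : Sp S} (hF : IsAlgSpace F) {k Ω : Type u} [Field k] [Field Ω]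
    [IsSepClosed k] {s : Spec (CommRingCat.of k) ⟶ S} {s' : Spec (CommRingCat.of Ω) ⟶ S}
    (t : Over.mk s' ⟶ Over.mk s) (b : F ⟶ (yon S).obj (Over.mk s))
    (pr' : P ⟶ (yon S).obj (Over.mk s')) (pr : P ⟶ F) (sq : IsPullback pr' pr ((yon S).map t) b) :
    Function.Bijective (Continuous.connectedComponentsMap (Points.continuous_map pr)) := by
  obtain ⟨φ, hφ⟩ : ∃ φ : CommRingCat.of k ⟶ CommRingCat.of Ω, Spec.map φ = t.left :=
    ⟨Spec.preimage t.left, Spec.map_preimage _⟩
  letI : Algebra k Ω := φ.hom.toAlgebra
  have hφ' : t.left = Spec.map (CommRingCat.ofHom (algebraMap k Ω)) := hφ.symm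
  apply connectedComponentsMap_bijective
  · haveI : UniversallyOpen t.left := by
      rw [hφ']; infer_instance
    have hrep : RepWith @UniversallyOpen ((yon S).map t) :=
      (repWith_yon_map_iff _ _).2 (inferInstance : UniversallyOpen t.left)
    exact isUnivOpenMor_of_repWith _ hrep hF _ _ _ sq
  · intro y
    obtain ⟨e, he⟩ := (yon S).map_surjective (y.toHom ≫ b)
    obtain ⟨Q, q1, q2, hO, hQ⟩ := exists_over_pullback e t
    have big := hO.map (yon S)
    rw [he] at big
    obtain ⟨fst, -, hpb⟩ := exists_lift_isPullback sq big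
    refine ⟨_, fst, _, hpb, ?_⟩
    haveI : ConnectedSpace ↥Q.left := by
      rw [hQ, hφ']
      haveI := Groth.Agent.Helper4.GeomConnSch.geometricallyConnected_Spec_of_isSepClosed
        (k := k) Ω
      haveI : ConnectedSpace ↥y.pt.left :=
        inferInstanceAs (ConnectedSpace (PrimeSpectrum y.K))
      infer_instance
    exact connectedSpace_points_yon' _

end Groth.Agent.Helper5.GeomConnSp12
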