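import Groth.Agent.Helper5.GeomConnSp12
import Groth.Agent.Helper4.AlgSpPB
import Mathlib

set_option autoImplicit false
universe u
open CategoryTheory CategoryTheory.Limits AlgebraicGeometry Opposite

namespace Groth.Agent.Helper5.GeomConnSp13

open AlgSp Groth.Agent.Helper4.AlgSpPtsDesc Groth.Agent.Helper4.GeomRedSp2
  Groth.Agent.Helper4.AlgSpPts Groth.Agent.Helper5.GeomConnSp1 Groth.Agent.Helper5.GeomConnSp2
  Groth.Agent.Helper5.GeomConnSp5 Groth.Agent.Helper5.GeomConnSp12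

variable {S : Scheme.{u}}

theorem uliftYonedaEquiv_map_comp_toHom {F : Sp S} (p : FieldPt F) {Z : Over S} (γ : Z ⟶ p.pt) :
    (J S).uliftYonedaEquiv ((yon S).map γ ≫ p.toHom) = F.obj.map γ.op p.val := by
  rw [GrothendieckTopology.uliftYonedaEquiv_comp,
    GrothendieckTopology.uliftYonedaEquiv_uliftYoneda_map]
  exact p.toHom_app γ

set_option backward.isDefEq.respectTransparency.types false in
theorem s10670 {X Y X' Y' : AlgSp.Space S} (f : X ⟶ Y) (g : Y' ⟶ Y) (gX : X' ⟶ X) (f' : X' ⟶ Y')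
    (hsq : IsPullback gX.hom f'.hom f.hom g.hom)
    (k' : AlgSp.FieldPt Y'.obj) (hk' : k'.IsGeometric) (k : AlgSp.FieldPt Y.obj) (hk : k.IsGeometric)
    (hkk : AlgSp.Points.mk k = AlgSp.Points.map g.hom (AlgSp.Points.mk k'))
    (Xk' : AlgSp.Sp S) (a' : Xk' ⟶ X'.obj) (b' : Xk' ⟶ (AlgSp.yon S).obj k'.pt) (h' : IsPullback a' b' f'.hom k'.toHom)
    (Xk : AlgSp.Sp S) (a : Xk ⟶ X.obj) (b : Xk ⟶ (AlgSp.yon S).obj k.pt) (h : IsPullback a b f.hom k.toHom) :
    ENat.card (_root_.ConnectedComponents (AlgSp.Points Xk')) = ENat.card (_root_.ConnectedComponents (AlgSp.Points Xk)) := by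
  rw [Points.map_mk, Points.mk_eq_mk_iff] at hkk
  obtain ⟨Ω, _, w, α, α₀, hα⟩ := hkk
  obtain ⟨α', rfl⟩ : ∃ α'' : Over.mk w ⟶ k'.pt, α'' = α₀ := ⟨α₀, rfl⟩
  haveI : IsAlgClosed k.K := hk
  haveI : IsAlgClosed k'.K := hk'
  have hcomp : (yon S).map α ≫ k.toHom = (yon S).map α' ≫ k'.toHom ≫ g.hom := by
    apply (J S).uliftYonedaEquiv.injective
    rw [uliftYonedaEquiv_map_comp_toHom k α, ← Category.assoc,
      GrothendieckTopology.uliftYonedaEquiv_comp, uliftYonedaEquiv_map_comp_toHom k' α']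
    refine hα.trans ?_
    exact (NatTrans.naturality_apply g.hom.hom α'.op k'.val).symm
  have hXk : IsAlgSpace Xk := Groth.Agent.Helper4.AlgSpPB.isAlgSpace_of_isPullback Y.property.diag
    X.property (IsAlgSpace.yon_obj _) f.hom k.toHom a b h
  have hXk' : IsAlgSpace Xk' := Groth.Agent.Helper4.AlgSpPB.isAlgSpace_of_isPullback
    Y'.property.diag X'.property (IsAlgSpace.yon_obj _) f'.hom k'.toHom a' b' h'
  have sq₁ : IsPullback (pullback.fst b ((yon S).map α)) (pullback.snd b ((yon S).map α)) b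
      ((yon S).map α) := IsPullback.of_hasPullback _ _
  have bij₁ := bijective_of_sepClosed hXk α b _ _ sq₁.flip
  have big : IsPullback (pullback.fst b ((yon S).map α) ≫ a) (pullback.snd b ((yon S).map α))
      f.hom ((yon S).map α' ≫ k'.toHom ≫ g.hom) := by
    rw [← hcomp]
    exact sq₁.paste_horiz h
  have right' : IsPullback (a' ≫ gX.hom) b' f.hom (k'.toHom ≫ g.hom) := h'.paste_horiz hsq
  obtain ⟨u, -, sq₂⟩ := exists_lift_isPullback right' big
  have bij₂ := bijective_of_sepClosed hXk' α' b' _ _ sq₂.flip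
  rw [← ENat.card_congr (Equiv.ofBijective _ bij₁), ← ENat.card_congr (Equiv.ofBijective _ bij₂)]

end Groth.Agent.Helper5.GeomConnSp13
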