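import Groth.Agent.Helper5.GeomConnSp1
import Groth.Agent.Helper4.AlgSpPts
import Mathlib

set_option autoImplicit false
universe u
open CategoryTheory CategoryTheory.Limits AlgebraicGeometry Opposite

namespace Groth.Agent.Helper5.GeomConnSp2

open AlgSp Groth.Agent.Helper4.AlgSpPtsDesc Groth.Agent.Helper4.GeomRedSp2
  Groth.Agent.Helper4.AlgSpPts

variable {k : Type u} [Field k]

instance universallyOpen_to_field' {X : Scheme.{u}} (f : X ⟶ Spec (CommRingCat.of k)) :
    UniversallyOpen f := by
  haveI : Subsingleton ↥(Spec (CommRingCat.of k)) :=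
    inferInstanceAs (Subsingleton (PrimeSpectrum k))
  infer_instance

/-- The terminal object of `Sp S`. -/
noncomputable def isTerminalOne (S : Scheme.{u}) : IsTerminal ((yon S).obj (Over.mk (𝟙 S))) :=
  IsTerminal.isTerminalObj (yon S) _ Over.mkIdTerminal

set_option backward.isDefEq.respectTransparency.types false in
/-- An algebraic space over a field is universally open over the field. -/
theorem isUnivOpenMor_to_terminal {X : Sp (Spec (CommRingCat.of k))} (hX : IsAlgSpace X)
    (f : X ⟶ (yon (Spec (CommRingCat.of k))).obj (Over.mk (𝟙 _))) : IsUnivOpenMor f := by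
  have hT := isTerminalOne (Spec (CommRingCat.of k))
  apply univOpen_of_affine
  intro Z _ g P fst snd sq
  obtain ⟨U, a, hae, has⟩ := hX.atlas
  let c : (yon _).obj (pbOver U Z) ⟶ P :=
    sq.lift ((yon _).map (pbFst U Z) ≫ a) ((yon _).map (pbSnd U Z)) (hT.hom_ext _ _)
  have hc1 : c ≫ fst = (yon _).map (pbFst U Z) ≫ a := sq.lift_fst _ _ _
  have hc2 : c ≫ snd = (yon _).map (pbSnd U Z) := sq.lift_snd _ _ _
  have hbig0 := (isPullback_over U Z).map (yon _)
  have hbig : IsPullback (c ≫ snd) ((yon _).map (pbFst U Z)) g (a ≫ f) := by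
    rw [hc2, hT.hom_ext (a ≫ f) ((yon _).map (Over.mkIdTerminal.from U)),
      hT.hom_ext g ((yon _).map (Over.mkIdTerminal.from Z))]
    exact hbig0.flip
  have hpb : IsPullback c ((yon _).map (pbFst U Z)) fst a := IsPullback.of_right hbig hc1 sq.flip
  have hcs : IsSurjectiveMor c :=
    isSurjectiveMor_of_isPullback hpb.flip (isSurjectiveMor_of_repWith a has)
  intro O hO
  have himg : Points.map snd '' O =
      Points.map ((yon _).map (pbSnd U Z)) '' (Points.map c ⁻¹' O) := by
    rw [← hc2]
    ext z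
    constructor
    · rintro ⟨w, hw, rfl⟩
      obtain ⟨w', rfl⟩ := hcs w
      exact ⟨w', hw, Points.map_comp _ _ _⟩
    · rintro ⟨w', hw', rfl⟩
      exact ⟨Points.map c w', hw', (Points.map_comp _ _ _).symm⟩
  rw [himg]
  have hop : IsOpenMap (Points.map ((yon _).map (pbSnd U Z))) :=
    (isOpenMap_points_yon_map_iff _).2 (pullback.snd U.hom Z.hom).isOpenMap
  exact hop _ (hO.preimage (Points.continuous_map c))

/-- The second projection from a product with an algebraic space over a field is open. -/
theorem isOpenMap_prod_snd {X Y : Sp (Spec (CommRingCat.of k))} (hX : IsAlgSpace X)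
    (hY : IsAlgSpace Y) : IsOpenMap (Points.map (prod.snd : X ⨯ Y ⟶ Y)) := by
  have hT := isTerminalOne (Spec (CommRingCat.of k))
  have sq : IsPullback (prod.fst : X ⨯ Y ⟶ X) prod.snd (hT.from X) (hT.from Y) :=
    IsPullback.of_is_product (prodIsProd X Y) hT
  exact isUnivOpenMor_to_terminal hX (hT.from X) hY _ _ _ sq

theorem isOpenMap_prod_fst {X Y : Sp (Spec (CommRingCat.of k))} (hX : IsAlgSpace X)
    (hY : IsAlgSpace Y) : IsOpenMap (Points.map (prod.fst : X ⨯ Y ⟶ X)) := by
  have hT := isTerminalOne (Spec (CommRingCat.of k))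
  have sq : IsPullback (prod.fst : X ⨯ Y ⟶ X) prod.snd (hT.from X) (hT.from Y) :=
    IsPullback.of_is_product (prodIsProd X Y) hT
  exact isUnivOpenMor_to_terminal hY (hT.from Y) hX _ _ _ sq.flip

end Groth.Agent.Helper5.GeomConnSp2
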