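import Groth.Agent.Helper5.GeomConnSp2
import Groth.Agent.Helper4.GeomConnSch
import Mathlib

set_option autoImplicit false
universe u
open CategoryTheory CategoryTheory.Limits AlgebraicGeometry Opposite

namespace Groth.Agent.Helper5.GeomConnSp3

open AlgSp Groth.Agent.Helper4.AlgSpPtsDesc Groth.Agent.Helper4.GeomRedSp2
  Groth.Agent.Helper4.AlgSpPts Groth.Agent.Helper5.GeomConnSp1 Groth.Agent.Helper5.GeomConnSp2

variable {k : Type u} [Field k]

theorem connectedSpace_points_yon (W : Over (Spec (CommRingCat.of k))) [ConnectedSpace ↥W.left] :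
    ConnectedSpace (Points ((yon _).obj W)) :=
  (Points.schemeHomeo W).surjective.connectedSpace (Points.schemeHomeo W).continuous

set_option backward.isDefEq.respectTransparency.types false in
theorem s10467 [IsSepClosed k]
    (X : AlgSp.Space (Spec (CommRingCat.of k))) (K : Type u) [Field K] [Algebra k K] :
    Function.Bijective (Continuous.connectedComponentsMap
      (AlgSp.Points.continuous_map (Limits.prod.fst : (X.obj ⨯ (AlgSp.yon (Spec (CommRingCat.of k))).obj (Over.mk (Spec.map (CommRingCat.ofHom (algebraMap k K))))) ⟶ X.obj))) := by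
  apply connectedComponentsMap_bijective
  · exact isOpenMap_prod_fst X.property (IsAlgSpace.yon_obj _)
  · intro y
    refine ⟨_, chartProd y.toHom _, (yon _).map (pbFst y.pt _),
      (isPullback_chartProd y.toHom _).flip, ?_⟩
    haveI := Groth.Agent.Helper4.GeomConnSch.geometricallyConnected_Spec_of_isSepClosed (k := k) K
    haveI : ConnectedSpace ↥(Spec (CommRingCat.of y.K)) :=
      inferInstanceAs (ConnectedSpace (PrimeSpectrum y.K))
    haveI : ConnectedSpace ↥(pbOver y.pt (Over.mk (Spec.map (CommRingCat.ofHom (algebraMap k K))))).left := by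
      show ConnectedSpace ↥(pullback y.str (Spec.map (CommRingCat.ofHom (algebraMap k K))))
      infer_instance
    exact connectedSpace_points_yon _

end Groth.Agent.Helper5.GeomConnSp3
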