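import Groth.Agent.Helper5.GeomConnSp2
import Mathlib

set_option autoImplicit false
universe u
open CategoryTheory CategoryTheory.Limits AlgebraicGeometry Opposite

namespace Groth.Agent.Helper5.GeomConnSp3b

open AlgSp Groth.Agent.Helper4.AlgSpPtsDesc Groth.Agent.Helper4.GeomRedSp2
  Groth.Agent.Helper4.AlgSpPts Groth.Agent.Helper5.GeomConnSp1 Groth.Agent.Helper5.GeomConnSp2

variable {k : Type u} [Field k]

/-- Base change of the second projection. -/
theorem isPullback_prod_map_snd {S : Scheme.{u}} (X : Sp S) {Y Y' : Sp S} (ξ : Y' ⟶ Y) :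
    IsPullback (prod.map (𝟙 X) ξ) (prod.snd : X ⨯ Y' ⟶ Y') (prod.snd : X ⨯ Y ⟶ Y) ξ := by
  have hT := isTerminalOne S
  have hright : IsPullback (prod.fst : X ⨯ Y ⟶ X) prod.snd (hT.from X) (hT.from Y) :=
    IsPullback.of_is_product (prodIsProd X Y) hT
  have hbig : IsPullback (prod.map (𝟙 X) ξ ≫ prod.fst) (prod.snd : X ⨯ Y' ⟶ Y') (hT.from X)
      (ξ ≫ hT.from Y) := by
    rw [prod.map_fst, Category.comp_id, hT.hom_ext (ξ ≫ hT.from Y) (hT.from _)]
    exact IsPullback.of_is_product (prodIsProd X Y') hT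
  exact IsPullback.of_right hbig (prod.map_snd _ _) hright

/-- Every field valued point of a sheaf over `Spec k` lives over `Spec` of a `k`-algebra. -/
theorem exists_algebra_pt {F : Sp (Spec (CommRingCat.of k))} (y : FieldPt F) :
    ∃ (_ : Algebra k y.K), y.pt = Over.mk (Spec.map (CommRingCat.ofHom (algebraMap k y.K))) := by
  refine ⟨(Spec.preimage y.str).hom.toAlgebra, ?_⟩
  show Over.mk y.str = _
  congr 1
  exact (Spec.map_preimage y.str).symm

set_option backward.isDefEq.respectTransparency.types false in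
theorem s10466
    (X Y : AlgSp.Space (Spec (CommRingCat.of k))) (hX : (∀ (K : Type u) [Field K] [Algebra k K], ConnectedSpace (AlgSp.Points (X.obj ⨯ (AlgSp.yon (Spec (CommRingCat.of k))).obj (Over.mk (Spec.map (CommRingCat.ofHom (algebraMap k K)))))))) :
    Function.Bijective (Continuous.connectedComponentsMap
      (AlgSp.Points.continuous_map (Limits.prod.snd : X.obj ⨯ Y.obj ⟶ Y.obj))) := by
  apply connectedComponentsMap_bijective
  · exact isOpenMap_prod_snd X.property Y.property
  · intro y
    refine ⟨X.obj ⨯ (yon _).obj y.pt, prod.map (𝟙 _) y.toHom, prod.snd,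
      isPullback_prod_map_snd X.obj y.toHom, ?_⟩
    obtain ⟨_, hy⟩ := exists_algebra_pt y
    rw [hy]
    exact hX y.K

end Groth.Agent.Helper5.GeomConnSp3b
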