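import Groth.Agent.Helper5.GeomConnSp3
import Mathlib

set_option autoImplicit false
universe u
open CategoryTheory CategoryTheory.Limits AlgebraicGeometry Opposite

namespace Groth.Agent.Helper5.GeomConnSp4

open AlgSp

theorem connectedSpace_iff_pi0 {γ : Type*} [TopologicalSpace γ] :
    ConnectedSpace γ ↔
      Nonempty (ConnectedComponents γ) ∧ Subsingleton (ConnectedComponents γ) := by
  constructor
  · intro h
    exact ⟨inferInstance, inferInstance⟩
  · rintro ⟨h1, h2⟩
    haveI : Nonempty γ := ConnectedComponents.nonempty_iff_nonempty.1 h1
    haveI : PreconnectedSpace γ := by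
      rw [preconnectedSpace_iff_connectedComponent]
      intro x
      rw [Set.eq_univ_iff_forall]
      intro y
      have : connectedComponent y = connectedComponent x :=
        ConnectedComponents.coe_eq_coe.1 (Subsingleton.elim _ _)
      rw [← this]
      exact mem_connectedComponent
    exact ⟨inferInstance⟩

theorem connectedSpace_iff_of_bijective {α β : Type*} [TopologicalSpace α] [TopologicalSpace β]
    {f : α → β} (hf : Continuous f) (hb : Function.Bijective hf.connectedComponentsMap) :
    ConnectedSpace α ↔ ConnectedSpace β := by
  rw [connectedSpace_iff_pi0, connectedSpace_iff_pi0]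
  let e := Equiv.ofBijective _ hb
  exact and_congr e.nonempty_congr e.subsingleton_congr

variable {k : Type u} [Field k]

theorem s10501 [IsSepClosed k]
    (X : AlgSp.Space (Spec (CommRingCat.of k))) :
    (∀ (K : Type u) [Field K] [Algebra k K], ConnectedSpace (AlgSp.Points (X.obj ⨯ (AlgSp.yon (Spec (CommRingCat.of k))).obj (Over.mk (Spec.map (CommRingCat.ofHom (algebraMap k K))))))) ↔ ConnectedSpace (AlgSp.Points X.obj) := by
  constructor
  · intro h
    exact (connectedSpace_iff_of_bijective _ (GeomConnSp3.s10467 X k)).1 (h k)
  · intro h K _ _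
    exact (connectedSpace_iff_of_bijective _ (GeomConnSp3.s10467 X K)).2 h

end Groth.Agent.Helper5.GeomConnSp4
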