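import Groth.Agent.Helper5.GeomConnSp4
import Groth.Agent.Helper5.GeomConnSp3b
import Groth.Agent.Helper4.AlgSpPB
import Mathlib

set_option autoImplicit false
universe u
open CategoryTheory CategoryTheory.Limits AlgebraicGeometry Opposite

namespace Groth.Agent.Helper5.GeomConnSp5

open AlgSp Groth.Agent.Helper4.AlgSpPtsDesc Groth.Agent.Helper4.GeomRedSp2
  Groth.Agent.Helper4.AlgSpPts Groth.Agent.Helper5.GeomConnSp1 Groth.Agent.Helper5.GeomConnSp2
  Groth.Agent.Helper5.GeomConnSp3 Groth.Agent.Helper5.GeomConnSp3b Groth.Agent.Helper5.GeomConnSp4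

variable {k : Type u} [Field k]

/-- The object `Spec K` over `Spec k`. -/
noncomputable abbrev ptOver (k : Type u) [Field k] (K : Type u) [Field K] [Algebra k K] :
    Over (Spec (CommRingCat.of k)) :=
  Over.mk (Spec.map (CommRingCat.ofHom (algebraMap k K)))

/-- The morphism `Spec K' ⟶ Spec K` over `Spec k` induced by a `k`-algebra map. -/
noncomputable def bcMor {K K' : Type u} [Field K] [Field K'] [Algebra k K] [Algebra k K']
    (ψ : K →ₐ[k] K') : ptOver k K' ⟶ ptOver k K :=
  Over.homMk (Spec.map (CommRingCat.ofHom ψ.toRingHom)) (by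
    show Spec.map _ ≫ Spec.map _ = Spec.map _
    rw [← Spec.map_comp]
    congr 1
    ext x
    exact ψ.commutes x)

theorem bcMor_left {K K' : Type u} [Field K] [Field K'] [Algebra k K] [Algebra k K']
    (ψ : K →ₐ[k] K') : (bcMor ψ).left = Spec.map (CommRingCat.ofHom ψ.toRingHom) := rfl

theorem isAlgSpace_prod {S : Scheme.{u}} {X Y : Sp S} (hX : IsAlgSpace X) (hY : IsAlgSpace Y) :
    IsAlgSpace (X ⨯ Y) := by
  have hT := isTerminalOne S
  exact Groth.Agent.Helper4.AlgSpPB.isAlgSpace_of_isPullback (IsAlgSpace.yon_obj _).diag hX hY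
    (hT.from X) (hT.from Y) prod.fst prod.snd (IsPullback.of_is_product (prodIsProd X Y) hT)

/-- Generic: the base change of a base change. -/
theorem exists_lift_isPullback {C : Type*} [Category C] {A B B' D D' E : C}
    {h₁₂ : B' ⟶ D'} {v₁₂ : B' ⟶ B} {v₁₃ : D' ⟶ D} {h₂₂ : B ⟶ D}
    (t : IsPullback h₁₂ v₁₂ v₁₃ h₂₂) {a : A ⟶ D'} {v₁₁ : A ⟶ E} {h₂₁ : E ⟶ B}
    (s : IsPullback a v₁₁ v₁₃ (h₂₁ ≫ h₂₂)) :
    ∃ h₁₁ : A ⟶ B', h₁₁ ≫ h₁₂ = a ∧ IsPullback h₁₁ v₁₁ v₁₂ h₂₁ := by
  have hw : a ≫ v₁₃ = (v₁₁ ≫ h₂₁) ≫ h₂₂ := by rw [s.w, Category.assoc]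
  refine ⟨t.lift a (v₁₁ ≫ h₂₁) hw, t.lift_fst _ _ _, ?_⟩
  have s' : IsPullback (t.lift a (v₁₁ ≫ h₂₁) hw ≫ h₁₂) v₁₁ v₁₃ (h₂₁ ≫ h₂₂) := by
    rw [t.lift_fst]; exact s
  exact IsPullback.of_right s' (t.lift_snd _ _ _) t

variable (X : AlgSp.Space (Spec (CommRingCat.of k)))

/-- The map between base changes induced by a morphism of one-point schemes. -/
noncomputable abbrev bcHom {T T' : Over (Spec (CommRingCat.of k))} (t : T' ⟶ T) :
    X.obj ⨯ (yon _).obj T' ⟶ X.obj ⨯ (yon _).obj T :=
  prod.map (𝟙 X.obj) ((yon _).map t)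

theorem isPullback_bcHom {T T' : Over (Spec (CommRingCat.of k))} (t : T' ⟶ T) :
    IsPullback (prod.snd : X.obj ⨯ (yon _).obj T' ⟶ _) (bcHom X t) ((yon _).map t) prod.snd :=
  (isPullback_prod_map_snd X.obj ((yon _).map t)).flip

theorem surjective_bcHom {T T' : Over (Spec (CommRingCat.of k))} (t : T' ⟶ T)
    (ht : Function.Surjective (fun x => t.left x)) :
    Function.Surjective (Points.map (bcHom X t)) := by
  apply isSurjectiveMor_of_isPullback (isPullback_bcHom X t)
  show Function.Surjective (Points.map ((yon _).map t))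
  rw [Points.map_yon_map_eq]
  exact (Points.schemeHomeo T).surjective.comp (ht.comp (Points.schemeHomeo T').symm.surjective)

theorem surjective_Spec_map_field {K K' : Type u} [Field K] [Field K'] (φ : K →+* K') :
    Function.Surjective (fun x => (Spec.map (CommRingCat.ofHom φ)) x) := by
  intro y
  haveI : Subsingleton ↥(Spec (CommRingCat.of K)) :=
    inferInstanceAs (Subsingleton (PrimeSpectrum K))
  haveI : Nonempty ↥(Spec (CommRingCat.of K')) := inferInstanceAs (Nonempty (PrimeSpectrum K'))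
  obtain ⟨s⟩ := (inferInstance : Nonempty ↥(Spec (CommRingCat.of K')))
  exact ⟨s, Subsingleton.elim _ _⟩

theorem connectedSpace_of_algHom {K K' : Type u} [Field K] [Field K'] [Algebra k K]
    [Algebra k K'] (ψ : K →ₐ[k] K')
    [h : ConnectedSpace (Points (X.obj ⨯ (yon _).obj (ptOver k K')))] :
    ConnectedSpace (Points (X.obj ⨯ (yon _).obj (ptOver k K))) :=
  (surjective_bcHom X (bcMor ψ) (surjective_Spec_map_field _)).connectedSpace
    (Points.continuous_map _)

theorem s10465 (k' : Type u) [Field k'] [Algebra k k'] :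
    (∀ (K : Type u) [Field K] [Algebra k K], ConnectedSpace (AlgSp.Points (X.obj ⨯ (AlgSp.yon (Spec (CommRingCat.of k))).obj (Over.mk (Spec.map (CommRingCat.ofHom (algebraMap k K))))))) ↔
      ∀ (K : Type u) [Field K] [Algebra k K] [Algebra k' K] [IsScalarTower k k' K],
        ConnectedSpace (AlgSp.Points (X.obj ⨯ (AlgSp.yon (Spec (CommRingCat.of k))).obj (Over.mk (Spec.map (CommRingCat.ofHom (algebraMap k K)))))) := by
  constructor
  · intro h K _ _ _ _
    exact h K
  · intro h K _ _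
    haveI : Nontrivial (TensorProduct k k' K) :=
      Algebra.TensorProduct.nontrivial_of_algebraMap_injective_of_isDomain k k' K
        (algebraMap k k').injective (algebraMap k K).injective
    obtain ⟨m, hm⟩ := Ideal.exists_maximal (TensorProduct k k' K)
    letI : Field (TensorProduct k k' K ⧸ m) := Ideal.Quotient.field m
    let ψ : K →ₐ[k] (TensorProduct k k' K ⧸ m) :=
      (Ideal.Quotient.mkₐ k m).comp Algebra.TensorProduct.includeRight
    haveI := h (TensorProduct k k' K ⧸ m)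
    exact connectedSpace_of_algHom X ψ

end Groth.Agent.Helper5.GeomConnSp5
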