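import Groth.Agent.Helper5.GeomConnSp5
import Mathlib

set_option autoImplicit false
universe u
open CategoryTheory CategoryTheory.Limits AlgebraicGeometry Opposite

namespace Groth.Agent.Helper5.GeomConnSp6

open AlgSp Groth.Agent.Helper4.AlgSpPtsDesc Groth.Agent.Helper4.GeomRedSp2
  Groth.Agent.Helper4.AlgSpPts Groth.Agent.Helper5.GeomConnSp1 Groth.Agent.Helper5.GeomConnSp2
  Groth.Agent.Helper5.GeomConnSp3 Groth.Agent.Helper5.GeomConnSp3b Groth.Agent.Helper5.GeomConnSp4
  Groth.Agent.Helper5.GeomConnSp5

variable {k : Type u} [Field k] (X : AlgSp.Space (Spec (CommRingCat.of k)))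

/-- The pullback in `Over S`. -/
theorem exists_over_pullback {S : Scheme.{u}} {A B T : Over S} (e : A ⟶ T) (t : B ⟶ T) :
    ∃ (Q : Over S) (q1 : Q ⟶ A) (q2 : Q ⟶ B), IsPullback q2 q1 t e ∧
      Q.left = pullback e.left t.left := by
  have hw : pullback.snd e.left t.left ≫ B.hom = pullback.fst e.left t.left ≫ A.hom := by
    rw [← Over.w t, ← Over.w e, ← Category.assoc, ← Category.assoc, pullback.condition]
  refine ⟨Over.mk (pullback.fst e.left t.left ≫ A.hom), Over.homMk (pullback.fst _ _) rfl,
    Over.homMk (pullback.snd _ _) hw, ?_, rfl⟩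
  exact IsPullback.of_map (Over.forget S) (by ext; exact pullback.condition.symm)
    (IsPullback.of_hasPullback e.left t.left).flip

set_option backward.isDefEq.respectTransparency.types false in
theorem isOpenMap_bcHom {T T' : Over (Spec (CommRingCat.of k))} (t : T' ⟶ T)
    [UniversallyOpen t.left] : IsOpenMap (Points.map (bcHom X t)) := by
  have hrep : RepWith @UniversallyOpen ((yon _).map t) :=
    (repWith_yon_map_iff _ _).2 (inferInstance : UniversallyOpen t.left)
  exact isUnivOpenMor_of_repWith _ hrep (isAlgSpace_prod X.property (IsAlgSpace.yon_obj _)) _ _ _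
    (isPullback_bcHom X t)

set_option backward.isDefEq.respectTransparency.types false in
/-- Base change between two extensions, the smaller one separably closed, induces a bijection on
connected components. -/
theorem bijective_bc {L K' : Type u} [Field L] [Field K'] [Algebra k L] [Algebra k K']
    [IsSepClosed L] (ψ : L →ₐ[k] K') :
    Function.Bijective (Continuous.connectedComponentsMap
      (Points.continuous_map (bcHom X (bcMor ψ)))) := by
  apply connectedComponentsMap_bijective
  · haveI : UniversallyOpen (bcMor ψ).left := by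
      rw [bcMor_left]; infer_instance
    exact isOpenMap_bcHom X (bcMor ψ)
  · intro y
    obtain ⟨e, he⟩ := (yon _).map_surjective (y.toHom ≫ prod.snd)
    obtain ⟨Q, q1, q2, hO, hQ⟩ := exists_over_pullback e (bcMor ψ)
    have big := hO.map (yon _)
    rw [he] at big
    obtain ⟨fst, -, hpb⟩ := exists_lift_isPullback (isPullback_bcHom X (bcMor ψ)) big
    refine ⟨_, fst, _, hpb, ?_⟩
    haveI : ConnectedSpace ↥Q.left := by
      rw [hQ, bcMor_left]
      letI := ψ.toRingHom.toAlgebra
      haveI := Groth.Agent.Helper4.GeomConnSch.geometricallyConnected_Spec_of_isSepClosed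
        (k := L) K'
      haveI : ConnectedSpace ↥y.pt.left :=
        inferInstanceAs (ConnectedSpace (PrimeSpectrum y.K))
      show ConnectedSpace ↥(pullback e.left (Spec.map (CommRingCat.ofHom (algebraMap L K'))))
      infer_instance
    exact connectedSpace_points_yon _

theorem s10468
    (kbar : Type u) [Field kbar] [Algebra k kbar] [IsSepClosure k kbar] :
    (∀ (K : Type u) [Field K] [Algebra k K], ConnectedSpace (AlgSp.Points (X.obj ⨯ (AlgSp.yon (Spec (CommRingCat.of k))).obj (Over.mk (Spec.map (CommRingCat.ofHom (algebraMap k K))))))) ↔ ConnectedSpace (AlgSp.Points (X.obj ⨯ (AlgSp.yon (Spec (CommRingCat.of k))).obj (Over.mk (Spec.map (CommRingCat.ofHom (algebraMap k kbar)))))) := by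
  constructor
  · intro h
    exact h kbar
  · intro h K _ _
    haveI : IsSepClosed kbar := IsSepClosure.sep_closed k
    haveI : Algebra.IsSeparable k kbar := IsSepClosure.separable
    let ψ₁ : K →ₐ[k] AlgebraicClosure K := IsScalarTower.toAlgHom k K (AlgebraicClosure K)
    let ψ₂ : kbar →ₐ[k] AlgebraicClosure K := IsAlgClosed.lift
    haveI : ConnectedSpace (Points (X.obj ⨯ (yon _).obj (ptOver k (AlgebraicClosure K)))) :=
      (connectedSpace_iff_of_bijective _ (bijective_bc X ψ₂)).2 h
    exact connectedSpace_of_algHom X ψ₁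

end Groth.Agent.Helper5.GeomConnSp6
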