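import Groth.Agent.Helper5.GeomConnSp6
import Groth.Agent.Helper4.ConnFinSep
import Groth.Agent.Helper4.UB10
import Mathlib

set_option autoImplicit false
universe u
open CategoryTheory CategoryTheory.Limits AlgebraicGeometry Opposite

namespace Groth.Agent.Helper5.GeomConnSp7

open AlgSp Groth.Agent.Helper4.AlgSpPtsDesc Groth.Agent.Helper4.GeomRedSp2
  Groth.Agent.Helper4.AlgSpPts Groth.Agent.Helper5.GeomConnSp1 Groth.Agent.Helper5.GeomConnSp2
  Groth.Agent.Helper5.GeomConnSp3 Groth.Agent.Helper5.GeomConnSp3b Groth.Agent.Helper5.GeomConnSp4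
  Groth.Agent.Helper5.GeomConnSp5 Groth.Agent.Helper5.GeomConnSp6

variable {k : Type u} [Field k] (X : AlgSp.Space (Spec (CommRingCat.of k)))

set_option backward.isDefEq.respectTransparency.types false in
theorem isClosedMap_bcHom {T T' : Over (Spec (CommRingCat.of k))} (t : T' ⟶ T)
    [UniversallyClosed t.left] : IsClosedMap (Points.map (bcHom X t)) := by
  have hrep : RepWith @UniversallyClosed ((yon _).map t) :=
    (repWith_yon_map_iff _ _).2 (inferInstance : UniversallyClosed t.left)
  exact isUnivClosedMor_of_repWith _ hrep (isAlgSpace_prod X.property (IsAlgSpace.yon_obj _)) _ _ _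
    (isPullback_bcHom X t)

section pbMap
variable {S : Scheme.{u}}

/-- The map `U ×_S T' ⟶ U ×_S T` on underlying schemes. -/
noncomputable def pbMapLeft (U : Over S) {T T' : Over S} (t : T' ⟶ T) :
    pullback U.hom T'.hom ⟶ pullback U.hom T.hom :=
  pullback.lift (pullback.fst _ _) (pullback.snd _ _ ≫ t.left)
    (by rw [Category.assoc, Over.w t, pullback.condition])

theorem pbMapLeft_fst (U : Over S) {T T' : Over S} (t : T' ⟶ T) :
    pbMapLeft U t ≫ pullback.fst _ _ = pullback.fst _ _ := pullback.lift_fst _ _ _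

theorem pbMapLeft_snd (U : Over S) {T T' : Over S} (t : T' ⟶ T) :
    pbMapLeft U t ≫ pullback.snd _ _ = pullback.snd _ _ ≫ t.left := pullback.lift_snd _ _ _

/-- The map `U ×_S T' ⟶ U ×_S T`. -/
noncomputable def pbMap (U : Over S) {T T' : Over S} (t : T' ⟶ T) : pbOver U T' ⟶ pbOver U T :=
  Over.homMk (pbMapLeft U t) (by
    show pbMapLeft U t ≫ pullback.fst _ _ ≫ U.hom = pullback.fst _ _ ≫ U.hom
    rw [← Category.assoc, pbMapLeft_fst])

theorem pbMap_left (U : Over S) {T T' : Over S} (t : T' ⟶ T) :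
    (pbMap U t).left = pbMapLeft U t := rfl

theorem pbMap_fst (U : Over S) {T T' : Over S} (t : T' ⟶ T) :
    pbMap U t ≫ pbFst U T = pbFst U T' := by
  ext
  exact pbMapLeft_fst U t

theorem pbMap_snd (U : Over S) {T T' : Over S} (t : T' ⟶ T) :
    pbMap U t ≫ pbSnd U T = pbSnd U T' ≫ t := by
  ext
  exact pbMapLeft_snd U t

theorem chartProd_pbMap {X : Sp S} {U : Over S} (a : (yon S).obj U ⟶ X) {T T' : Over S}
    (t : T' ⟶ T) :
    (yon S).map (pbMap U t) ≫ chartProd a T =
      chartProd a T' ≫ prod.map (𝟙 X) ((yon S).map t) := by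
  apply Limits.prod.hom_ext
  · simp only [chartProd, Category.assoc, prod.lift_fst, prod.map_fst, Category.comp_id]
    rw [← Category.assoc, ← Functor.map_comp, pbMap_fst]
  · simp only [chartProd, Category.assoc, prod.lift_snd, prod.map_snd]
    rw [← Functor.map_comp, pbMap_snd, Functor.map_comp, ← Category.assoc, prod.lift_snd]

theorem isPullback_chartProd_pbMap {X : Sp S} {U : Over S} (a : (yon S).obj U ⟶ X)
    {T T' : Over S} (t : T' ⟶ T) :
    IsPullback ((yon S).map (pbMap U t)) (chartProd a T') (chartProd a T)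
      (prod.map (𝟙 X) ((yon S).map t)) := by
  have right := isPullback_chartProd a T
  have big : IsPullback ((yon S).map (pbMap U t) ≫ (yon S).map (pbFst U T)) (chartProd a T') a
      (prod.map (𝟙 X) ((yon S).map t) ≫ prod.fst) := by
    rw [← Functor.map_comp, pbMap_fst, prod.map_fst, Category.comp_id]
    exact isPullback_chartProd a T'
  exact IsPullback.of_right big (chartProd_pbMap a t) right

end pbMap

/-- An affine étale chart (of the form `Spec R`) through a given point. -/
theorem exists_spec_chart (x : Points X.obj) :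
    ∃ (R : CommRingCat.{u}) (g : Spec R ⟶ Spec (CommRingCat.of k))
      (a : (yon _).obj (Over.mk g) ⟶ X.obj), RepWith @Etale a ∧
        ∃ u : ↥(Spec R), Points.ofPt a u = x := by
  obtain ⟨κ, W, w, hW, hwe, hcov⟩ := Groth.Agent.Helper4.UB10.exists_affine_etale_cover X
  obtain ⟨i, v, hv⟩ := hcov x
  haveI := hW i
  let e : Spec Γ((W i).left, ⊤) ≅ (W i).left := (W i).left.isoSpec.symm
  let j : Over.mk (e.hom ≫ (W i).hom) ⟶ W i := Over.homMk e.hom rfl
  refine ⟨Γ((W i).left, ⊤), e.hom ≫ (W i).hom, (yon _).map j ≫ w i, ?_, e.inv v, ?_⟩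
  · refine (RepWith @Etale).comp_mem _ _ ?_ (hwe i)
    rw [repWith_yon_map_iff]
    show Etale e.hom
    infer_instance
  · rw [ofPt_yon_map_comp]
    show Points.ofPt (w i) (e.hom (e.inv v)) = x
    rw [← Scheme.Hom.comp_apply, e.inv_hom_id]
    exact hv

end Groth.Agent.Helper5.GeomConnSp7
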