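import Groth.Agent.Helper5.GeomConnSp7
import Mathlib

set_option autoImplicit false
universe u
open CategoryTheory CategoryTheory.Limits AlgebraicGeometry Opposite

namespace Groth.Agent.Helper5.GeomConnSp8

open AlgSp Groth.Agent.Helper4.AlgSpPtsDesc Groth.Agent.Helper4.GeomRedSp2
  Groth.Agent.Helper4.AlgSpPts Groth.Agent.Helper5.GeomConnSp1 Groth.Agent.Helper5.GeomConnSp2
  Groth.Agent.Helper5.GeomConnSp3 Groth.Agent.Helper5.GeomConnSp3b Groth.Agent.Helper5.GeomConnSp4
  Groth.Agent.Helper5.GeomConnSp5 Groth.Agent.Helper5.GeomConnSp6 Groth.Agent.Helper5.GeomConnSp7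
  Groth.Agent.Helper4.GeomBC

variable {k : Type u} [Field k] (X : AlgSp.Space (Spec (CommRingCat.of k)))

/-- The map of `GeomConnSp7` agrees with `bcMap`. -/
theorem pbMapLeft_eq_bcMap {U : Scheme.{u}} (g : U ⟶ Spec (CommRingCat.of k))
    (K Ω : Type u) [Field K] [Field Ω] [Algebra k K] [Algebra k Ω]
    [Algebra K Ω] [IsScalarTower k K Ω] :
    pbMapLeft (Over.mk g) (bcMor (IsScalarTower.toAlgHom k K Ω)) = bcMap g K Ω := by
  apply pullback.hom_ext
  · exact (pbMapLeft_fst _ _).trans (bcMap_fst g K Ω).symm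
  · exact (pbMapLeft_snd _ _).trans (bcMap_snd g K Ω).symm

set_option backward.isDefEq.respectTransparency.types false in
theorem connectedSpace_bc_of_forall_fd (Ω : Type u) [Field Ω] [Algebra k Ω]
    [Algebra.IsAlgebraic k Ω]
    (h : ∀ E : IntermediateField k Ω, FiniteDimensional k E →
      ConnectedSpace (Points (X.obj ⨯ (yon _).obj (ptOver k E)))) :
    ConnectedSpace (Points (X.obj ⨯ (yon _).obj (ptOver k Ω))) := by
  let tE : ∀ E : IntermediateField k Ω, ptOver k Ω ⟶ ptOver k E :=
    fun E => bcMor (IsScalarTower.toAlgHom k E Ω)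
  rw [connectedSpace_iff_clopen]
  constructor
  · haveI := h ⊥ inferInstance
    obtain ⟨z⟩ := (inferInstance : Nonempty
      (Points (X.obj ⨯ (yon _).obj (ptOver k (⊥ : IntermediateField k Ω)))))
    obtain ⟨w, -⟩ := surjective_bcHom X (tE ⊥) (surjective_Spec_map_field _) z
    exact ⟨w⟩
  intro A hA
  by_cases hne : A = ∅
  · exact Or.inl hne
  right
  have hAne : A.Nonempty := Set.nonempty_iff_ne_empty.mpr hne
  have hsurj : ∀ E : IntermediateField k Ω, FiniteDimensional k E →
      Points.map (bcHom X (tE E)) '' A = Set.univ := by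
    intro E hE
    haveI := h E hE
    haveI : UniversallyOpen (tE E).left := by
      show UniversallyOpen (Spec.map _)
      infer_instance
    haveI : UniversallyClosed (tE E).left := by
      haveI : IsIntegralHom (Spec.map (CommRingCat.ofHom (algebraMap E Ω))) := by
        rw [IsIntegralHom.SpecMap_iff]
        show (algebraMap E Ω).IsIntegral
        exact algebraMap_isIntegral_iff.mpr inferInstance
      show UniversallyClosed (Spec.map (CommRingCat.ofHom (algebraMap E Ω)))
      infer_instance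
    have hcl : IsClopen (Points.map (bcHom X (tE E)) '' A) :=
      ⟨isClosedMap_bcHom X (tE E) A hA.1, isOpenMap_bcHom X (tE E) A hA.2⟩
    exact hcl.eq_univ (hAne.image _)
  rw [Set.eq_univ_iff_forall]
  intro b
  obtain ⟨R, g, a, hae, u, hu⟩ := exists_spec_chart X (Points.map prod.fst b)
  obtain ⟨w, hw1, hw2⟩ := exists_point_chartProd a (ptOver k Ω) u b hu
  have hC : IsClopen (Points.ofPt (chartProd a (ptOver k Ω)) ⁻¹' A) :=
    hA.preimage (Points.continuous_ofPt _)
  obtain ⟨E, hE, C', hC', hCC'⟩ :=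
    Groth.Agent.Helper4.ConnFinSep.exists_fd_clopen_Spec R g Ω _ hC
  have hmem : Points.map (bcHom X (tE E)) b ∈ Points.map (bcHom X (tE E)) '' A := by
    rw [hsurj E hE]; trivial
  obtain ⟨a₁, ha₁A, ha₁⟩ := hmem
  have sq := isPullback_chartProd_pbMap a (tE E)
  have hcomm : Points.map (chartProd a (ptOver k E))
      (Points.schemeHomeo _ ((pbMap (Over.mk g) (tE E)).left w)) =
      Points.map (bcHom X (tE E)) a₁ := by
    rw [ha₁, ← hw2, Points.map_ofPt, ← chartProd_pbMap, ofPt_yon_map_comp,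
      Groth.Agent.Helper4.AlgSpQC2.ofPt_eq_map_schemeHomeo]
  obtain ⟨p, hp1, hp2⟩ := exists_point_of_isPullback sq _ _ hcomm
  obtain ⟨w', rfl⟩ := (Points.schemeHomeo _).surjective p
  rw [Points.map_yon_map_apply] at hp1
  have hp1' := (Points.schemeHomeo _).injective hp1
  rw [Groth.Agent.Helper4.AlgSpQC2.ofPt_eq_map_schemeHomeo] at hp2
  rw [pbMap_left, pbMapLeft_eq_bcMap] at hp1'
  have h1 : w' ∈ Points.ofPt (chartProd a (ptOver k Ω)) ⁻¹' A := by
    show Points.ofPt (chartProd a (ptOver k Ω)) w' ∈ A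
    rw [hp2]; exact ha₁A
  rw [hCC'] at h1
  have h2 : w ∈ Points.ofPt (chartProd a (ptOver k Ω)) ⁻¹' A := by
    rw [hCC']
    show bcMap g E Ω w ∈ C'
    rw [← hp1']
    exact h1
  rw [← hw2]
  exact h2

theorem s10469 :
    (∀ (K : Type u) [Field K] [Algebra k K], ConnectedSpace (AlgSp.Points (X.obj ⨯ (AlgSp.yon (Spec (CommRingCat.of k))).obj (Over.mk (Spec.map (CommRingCat.ofHom (algebraMap k K))))))) ↔
      ∀ (k' : Type u) [Field k'] [Algebra k k'], Module.Finite k k' → Algebra.IsSeparable k k' →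
        ConnectedSpace (AlgSp.Points (X.obj ⨯ (AlgSp.yon (Spec (CommRingCat.of k))).obj (Over.mk (Spec.map (CommRingCat.ofHom (algebraMap k k')))))) := by
  constructor
  · intro h k' _ _ _ _
    exact h k'
  · intro h
    rw [s10468 X (SeparableClosure k)]
    apply connectedSpace_bc_of_forall_fd X (SeparableClosure k)
    intro E hE
    exact h E hE inferInstance

end Groth.Agent.Helper5.GeomConnSp8
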