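import Groth.Agent.Helper5.GeomConnSp8
import Groth.Agent.Helper5.GeomRed
import Groth.Agent.Helper4.GalTrans
import Mathlib

set_option autoImplicit false
universe u
open CategoryTheory CategoryTheory.Limits AlgebraicGeometry Opposite

namespace Groth.Agent.Helper5.GeomConnSp9

open AlgSp Groth.Agent.Helper4.AlgSpPtsDesc Groth.Agent.Helper4.GeomRedSp2
  Groth.Agent.Helper4.AlgSpPts Groth.Agent.Helper5.GeomConnSp1 Groth.Agent.Helper5.GeomConnSp2
  Groth.Agent.Helper5.GeomConnSp3 Groth.Agent.Helper5.GeomConnSp3b Groth.Agent.Helper5.GeomConnSp4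
  Groth.Agent.Helper5.GeomConnSp5 Groth.Agent.Helper5.GeomConnSp6 Groth.Agent.Helper5.GeomConnSp7
  Groth.Agent.Helper4.GeomBC

variable {k : Type u} [Field k] (X : AlgSp.Space (Spec (CommRingCat.of k)))
  (K : Type u) [Field K] [Algebra k K]

/-- The automorphism of `Spec K` over `Spec k` given by `σ`. -/
noncomputable def galMor (σ : K ≃ₐ[k] K) : ptOver k K ⟶ ptOver k K := bcMor (σ : K →ₐ[k] K)

theorem galMor_left (σ : K ≃ₐ[k] K) :
    (galMor K σ).left = Spec.map (CommRingCat.ofHom (σ : K ≃ₐ[k] K).toRingHom) := rfl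

theorem eq_galMor (σ : K ≃ₐ[k] K) (g : ptOver k K ⟶ ptOver k K)
    (hg : g.left = Spec.map (CommRingCat.ofHom (σ : K ≃ₐ[k] K).toRingHom)) : g = galMor K σ :=
  Over.OverMorphism.ext hg

set_option backward.isDefEq.respectTransparency.types false in
theorem isClosedMap_prod_fst_of_isAlgebraic [Algebra.IsAlgebraic k K] :
    IsClosedMap (Points.map (prod.fst : X.obj ⨯ (yon _).obj (ptOver k K) ⟶ X.obj)) := by
  have hT := isTerminalOne (Spec (CommRingCat.of k))
  have hleft : (Over.mkIdTerminal.from (ptOver k K)).left =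
      Spec.map (CommRingCat.ofHom (algebraMap k K)) := by
    have := Over.w (Over.mkIdTerminal.from (ptOver k K))
    simpa using this
  haveI : UniversallyClosed (Over.mkIdTerminal.from (ptOver k K)).left := by
    haveI : IsIntegralHom (Spec.map (CommRingCat.ofHom (algebraMap k K))) := by
      rw [IsIntegralHom.SpecMap_iff]
      show (algebraMap k K).IsIntegral
      exact algebraMap_isIntegral_iff.mpr inferInstance
    rw [hleft]; infer_instance
  have hrep : RepWith @UniversallyClosed ((yon _).map (Over.mkIdTerminal.from (ptOver k K))) :=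
    (repWith_yon_map_iff _ _).2 inferInstance
  have sq : IsPullback (prod.snd : X.obj ⨯ (yon _).obj (ptOver k K) ⟶ _) prod.fst
      ((yon _).map (Over.mkIdTerminal.from (ptOver k K))) (hT.from X.obj) := by
    rw [hT.hom_ext ((yon _).map (Over.mkIdTerminal.from (ptOver k K))) (hT.from _)]
    exact (IsPullback.of_is_product (prodIsProd _ _) hT).flip
  exact isUnivClosedMor_of_repWith _ hrep X.property _ _ _ sq

set_option backward.isDefEq.respectTransparency.types false in
theorem s10470 [IsGalois k K]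
    (T : Set (AlgSp.Points (X.obj ⨯ (AlgSp.yon (Spec (CommRingCat.of k))).obj (Over.mk (Spec.map (CommRingCat.ofHom (algebraMap k K))))))) (hT : IsClosed T)
    (hσ : ∀ (σ : K ≃ₐ[k] K) (g : (Over.mk (Spec.map (CommRingCat.ofHom (algebraMap k K))) : Over (Spec (CommRingCat.of k))) ⟶ Over.mk (Spec.map (CommRingCat.ofHom (algebraMap k K)))),
      g.left = Spec.map (CommRingCat.ofHom (σ : K ≃ₐ[k] K).toRingHom) →
        AlgSp.Points.map (Limits.prod.map (𝟙 X.obj) ((AlgSp.yon (Spec (CommRingCat.of k))).map g)) '' T = T) :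
    ∃ T₀ : Set (AlgSp.Points X.obj), IsClosed T₀ ∧
      AlgSp.Points.map (Limits.prod.fst : (X.obj ⨯ (AlgSp.yon (Spec (CommRingCat.of k))).obj (Over.mk (Spec.map (CommRingCat.ofHom (algebraMap k K))))) ⟶ X.obj) ⁻¹' T₀ = T := by
  refine ⟨Points.map prod.fst '' T, isClosedMap_prod_fst_of_isAlgebraic X K T hT, ?_⟩
  refine Set.Subset.antisymm ?_ (Set.subset_preimage_image _ _)
  rintro y ⟨x, hxT, hxy⟩
  obtain ⟨U, a, u, hae, hu⟩ :=
    Groth.Agent.Helper5.GeomRed.exists_chart_point X.property (Points.map prod.fst x)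
  obtain ⟨wx, hwx1, hwx2⟩ := exists_point_chartProd a (ptOver k K) u x hu
  obtain ⟨wy, hwy1, hwy2⟩ := exists_point_chartProd a (ptOver k K) u y (hu.trans hxy)
  letI : U.left.Over (Spec (CommRingCat.of k)) := ⟨U.hom⟩
  obtain ⟨σ, hσ'⟩ := Groth.Agent.Helper4.GalTrans.exists_galAct_eq k U.left K wx wy
    (hwx1.trans hwy1.symm)
  have hgal : pbMapLeft U (galMor K σ) = Curv2.galAct k U.left K σ := by
    apply pullback.hom_ext
    · exact (pbMapLeft_fst _ _).trans (Groth.Agent.Helper4.GalTrans.galAct_fst k U.left K σ).symm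
    · exact (pbMapLeft_snd _ _).trans (Groth.Agent.Helper4.GalTrans.galAct_snd k U.left K σ).symm
  have hy : y = Points.map (bcHom X (galMor K σ)) x := by
    rw [← hwx2, ← hwy2, Points.map_ofPt, ← chartProd_pbMap, ofPt_yon_map_comp, pbMap_left, hgal]
    exact congrArg (Points.ofPt (chartProd a (ptOver k K))) hσ'.symm
  rw [hy, ← hσ σ (galMor K σ) rfl]
  exact ⟨x, hxT, rfl⟩

end Groth.Agent.Helper5.GeomConnSp9
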