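import Groth.Agent.Helper5.RedDesc
import Groth.Agent.S9777
import Mathlib

set_option autoImplicit false
set_option linter.style.haveILetI false
universe u
open CategoryTheory CategoryTheory.Limits AlgebraicGeometry Opposite

namespace Groth.Agent.Helper5.GeomFibSp

theorem flat_surj_spec_algClosure (K : Type u) [Field K] :
    Flat (Spec.map (CommRingCat.ofHom (algebraMap K (AlgebraicClosure K)))) ∧
      Surjective (Spec.map (CommRingCat.ofHom (algebraMap K (AlgebraicClosure K)))) := by
  rw [flat_and_surjective_SpecMap_iff]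
  rw [CommRingCat.hom_ofHom, RingHom.faithfullyFlat_algebraMap_iff]
  infer_instance

/-- geometric points suffice: if a property of schemes descends along flat surjective morphisms
then "all geometric fibres have `Q`" implies "geometrically `Q`" -/
theorem geometrically_of_algClosed (Q : ObjectProperty Scheme.{u})
    (hdesc : ∀ {A B : Scheme.{u}} (g : A ⟶ B), Flat g → Surjective g → Q A → Q B)
    {X Y : Scheme.{u}} (p : X ⟶ Y)
    (H : ∀ (Ω : Type u) [Field Ω] [IsAlgClosed Ω] (t : Spec (CommRingCat.of Ω) ⟶ Y)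
      (X' : Scheme.{u}) (q : X' ⟶ Spec (CommRingCat.of Ω)) (i₀ : X' ⟶ X),
      IsPullback i₀ q p t → Q X') :
    geometrically Q p := by
  intro K _ y Z fst snd h
  obtain ⟨hfl, hsurj⟩ := flat_surj_spec_algClosure K
  obtain ⟨j, hj⟩ : ∃ j : Spec (CommRingCat.of (AlgebraicClosure K)) ⟶ Spec (CommRingCat.of K),
    j = Spec.map (CommRingCat.ofHom (algebraMap K (AlgebraicClosure K))) := ⟨_, rfl⟩
  rw [← hj] at hfl hsurj
  have hpb := IsPullback.of_hasPullback snd j
  have hbig : IsPullback (pullback.fst snd j ≫ fst) (pullback.snd snd j) p (j ≫ y) :=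
    hpb.paste_horiz h
  have hQ := H (AlgebraicClosure K) (j ≫ y) _ _ _ hbig
  exact hdesc (pullback.fst snd j) inferInstance inferInstance hQ

theorem geomReduced_iff_algClosed {X Y : Scheme.{u}} (p : X ⟶ Y) :
    (∀ (Ω : Type u) [Field Ω] [IsAlgClosed Ω] (t : Spec (CommRingCat.of Ω) ⟶ Y)
      (X' : Scheme.{u}) (q : X' ⟶ Spec (CommRingCat.of Ω)) (i₀ : X' ⟶ X),
      IsPullback i₀ q p t → IsReduced X') ↔ GeometricallyReduced p := by
  constructor
  · intro H
    refine ⟨geometrically_of_algClosed IsReduced ?_ p H⟩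
    intro A B g hg hs hA
    exact Groth.Agent.Helper5.RedDesc.isReduced_of_flat_surjective g
  · intro H Ω _ _ t X' q i₀ h
    exact H.1 t i₀ q h

theorem geomConnected_iff_algClosed {X Y : Scheme.{u}} (p : X ⟶ Y) :
    (∀ (Ω : Type u) [Field Ω] [IsAlgClosed Ω] (t : Spec (CommRingCat.of Ω) ⟶ Y)
      (X' : Scheme.{u}) (q : X' ⟶ Spec (CommRingCat.of Ω)) (i₀ : X' ⟶ X),
      IsPullback i₀ q p t → ConnectedSpace ↥X') ↔ GeometricallyConnected p := by
  constructor
  · intro H
    refine ⟨geometrically_of_algClosed (fun Z => ConnectedSpace ↥Z) ?_ p H⟩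
    intro A B g hg hs hA
    have hA' : ConnectedSpace ↥A := hA
    have h1 : _root_.IsConnected (Set.range g) :=
      isConnected_range g.continuous
    rw [g.surjective.range_eq] at h1
    exact connectedSpace_iff_univ.2 h1
  · intro H Ω _ _ t X' q i₀ h
    exact H.1 t i₀ q h

/-- over a one-point base, a fibre is the whole scheme -/
theorem dim_fiber_of_subsingleton {X Y : Scheme.{u}} (f : X ⟶ Y) [Subsingleton ↥Y] (y : Y) :
    topologicalKrullDim ↥(f.fiber y) = topologicalKrullDim ↥X := by
  apply IsHomeomorph.topologicalKrullDim_eq (f.fiberι y)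
  rw [isHomeomorph_iff_isEmbedding_surjective]
  refine ⟨(f.fiberι y).isEmbedding, ?_⟩
  rw [← Set.range_eq_univ, f.range_fiberι]
  ext x
  simp only [Set.mem_preimage, Set.mem_singleton_iff, Set.mem_univ, iff_true]
  exact Subsingleton.elim _ _

/-- the dimension of a scheme of finite type over a field is invariant under extension of the
base field -/
theorem dim_eq_of_isPullback_field {k Ω : Type u} [Field k] [Field Ω] {X X' : Scheme.{u}}
    (p : X ⟶ Spec (CommRingCat.of k)) [QuasiCompact p] [LocallyOfFiniteType p]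
    (t : Spec (CommRingCat.of Ω) ⟶ Spec (CommRingCat.of k))
    (q : X' ⟶ Spec (CommRingCat.of Ω)) (i₀ : X' ⟶ X) (h : IsPullback i₀ q p t) :
    topologicalKrullDim ↥X' = topologicalKrullDim ↥X := by
  have y' : ↥(Spec (CommRingCat.of Ω)) := (inferInstance : Nonempty (PrimeSpectrum Ω)).some
  have h1 := Groth.Agent.S9777.result p t q i₀ h y'
  haveI : Subsingleton ↥(Spec (CommRingCat.of Ω)) :=
    inferInstanceAs (Subsingleton (PrimeSpectrum Ω))
  haveI : Subsingleton ↥(Spec (CommRingCat.of k)) :=
    inferInstanceAs (Subsingleton (PrimeSpectrum k))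
  rw [dim_fiber_of_subsingleton, dim_fiber_of_subsingleton] at h1
  exact h1

end Groth.Agent.Helper5.GeomFibSp
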