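import Groth.Agent.Helper5.GeomFibSp1
import Groth.Agent.Helper5.GeomFibSp2
import Mathlib

set_option autoImplicit false
set_option linter.style.haveILetI false
universe u
open CategoryTheory CategoryTheory.Limits AlgebraicGeometry Opposite

namespace Groth.Agent.Helper5.GeomFibSp

theorem s17309 (S : Scheme.{u}) (k : Type u) [Field k] (t : Spec (CommRingCat.of k) ⟶ S)
    (X : Scheme.{u}) (p : X ⟶ Spec (CommRingCat.of k)) :
    CurvSt.GeomFib (fun _ _ _ X' _ _ => IsReduced X')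
      ((CurvSt.toSpFam S 0).obj ⟨Over.mk t, X, p, Fin.elim0, fun i => i.elim0⟩) ↔
      GeometricallyReduced p :=
  (geomFib_toSpFam_iff (S := S) (n := 0) ⟨Over.mk t, X, p, Fin.elim0, fun i => i.elim0⟩
    (fun _ _ _ X' _ => IsReduced X')).trans (geomReduced_iff_algClosed p)

theorem s17310 (S : Scheme.{u}) (k : Type u) [Field k] (t : Spec (CommRingCat.of k) ⟶ S)
    (X : Scheme.{u}) (p : X ⟶ Spec (CommRingCat.of k)) [QuasiCompact p] [LocallyOfFiniteType p] :
    CurvSt.GeomFib (fun _ _ _ X' _ _ => IsReduced X' ∧ ConnectedSpace ↥X' ∧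
        topologicalKrullDim ↥X' = 1)
      ((CurvSt.toSpFam S 0).obj ⟨Over.mk t, X, p, Fin.elim0, fun i => i.elim0⟩) ↔
      GeometricallyReduced p ∧ GeometricallyConnected p ∧ topologicalKrullDim ↥X = 1 := by
  refine (geomFib_toSpFam_iff (S := S) (n := 0) ⟨Over.mk t, X, p, Fin.elim0, fun i => i.elim0⟩
    (fun _ _ _ X' _ => IsReduced X' ∧ ConnectedSpace ↥X' ∧
        topologicalKrullDim ↥X' = 1)).trans ?_
  constructor
  · intro H
    refine ⟨(geomReduced_iff_algClosed p).1 (fun Ω _ _ t' X' q i₀ h => (H Ω t' X' q i₀ h).1),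
      (geomConnected_iff_algClosed p).1 (fun Ω _ _ t' X' q i₀ h => (H Ω t' X' q i₀ h).2.1), ?_⟩
    have hpb := IsPullback.of_hasPullback p
      (Spec.map (CommRingCat.ofHom (algebraMap k (AlgebraicClosure k))))
    have h1 := (H (AlgebraicClosure k) _ _ _ _ hpb).2.2
    rw [dim_eq_of_isPullback_field p _ _ _ hpb] at h1
    exact h1
  · rintro ⟨h1, h2, h3⟩ Ω _ _ t' X' q i₀ h
    refine ⟨(geomReduced_iff_algClosed p).2 h1 Ω t' X' q i₀ h,
      (geomConnected_iff_algClosed p).2 h2 Ω t' X' q i₀ h, ?_⟩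
    rw [dim_eq_of_isPullback_field p t' q i₀ h]
    exact h3

end Groth.Agent.Helper5.GeomFibSp
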