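import Groth.Agent.Helper5.GeomFibSp1
import Groth.Agent.Helper5.GeomFibSp2
import Groth.Agent.Helper2.SmoothBC
import Mathlib

set_option autoImplicit false
set_option linter.style.haveILetI false
universe u
open CategoryTheory CategoryTheory.Limits AlgebraicGeometry Opposite

namespace Groth.Agent.Helper5.GeomFibSp

/-- in a Jacobson space the points of a finite closed set are closed -/
theorem isClosed_singleton_of_finite_closed {T : Type*} [TopologicalSpace T] [JacobsonSpace T]
    {Z : Set T} (hfin : Z.Finite) (hcl : IsClosed Z) {x : T} (hx : x ∈ Z) : IsClosed {x} := by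
  have hsub : closure {x} ⊆ Z := hcl.closure_subset_iff.2 (Set.singleton_subset_iff.2 hx)
  have hfin' : (closure {x} ∩ closedPoints T).Finite :=
    (hfin.subset hsub).subset Set.inter_subset_left
  have hcl' : IsClosed (closure {x} ∩ closedPoints T) := by
    have : closure {x} ∩ closedPoints T = ⋃ y ∈ closure {x} ∩ closedPoints T, {y} := by
      ext z
      simp only [Set.mem_iUnion, Set.mem_singleton_iff, exists_prop, exists_eq_right']
    rw [this]
    exact hfin'.isClosed_biUnion (fun y hy => hy.2)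
  have h1 := JacobsonSpace.closure_inter_closedPoints (X := T) (isClosed_closure (s := {x}))
  rw [hcl'.closure_eq] at h1
  have hx' : x ∈ closure {x} ∩ closedPoints T := by
    rw [h1]
    exact subset_closure rfl
  exact hx'.2

/-- the non-smooth locus as a set -/
def sing {X Y : Scheme.{u}} (f : X ⟶ Y) : Set ↥X :=
  {x : ↥X | ¬ ∃ U : X.Opens, x ∈ U ∧ Smooth (U.ι ≫ f)}

theorem sing_eq_compl {X Y : Scheme.{u}} (f : X ⟶ Y) [LocallyOfFinitePresentation f] :
    sing f = ((f.smoothLocus : Set ↥X))ᶜ := by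
  ext x
  simp only [sing, Set.mem_ofPred_eq, Set.mem_compl_iff, SetLike.mem_coe]
  rw [Groth.Agent.Helper2.PtDesc.smooth_nbhd_iff f x, Scheme.Hom.mem_smoothLocus]

theorem sing_eq_preimage {k Ω : Type u} [Field k] [Field Ω] {X X' : Scheme.{u}}
    (p : X ⟶ Spec (CommRingCat.of k)) [LocallyOfFiniteType p]
    (t : Spec (CommRingCat.of Ω) ⟶ Spec (CommRingCat.of k))
    (q : X' ⟶ Spec (CommRingCat.of Ω)) (i₀ : X' ⟶ X) (h : IsPullback i₀ q p t) :
    sing q = i₀ ⁻¹' (sing p) := by
  haveI : LocallyOfFinitePresentation p :=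
    LocallyOfFinitePresentation.iff_locallyOfFiniteType.2 inferInstance
  haveI : LocallyOfFinitePresentation q :=
    MorphismProperty.of_isPullback (P := @LocallyOfFinitePresentation) h inferInstance
  have hflat : Flat t := by
    obtain ⟨φ, rfl⟩ := Spec.map_surjective t
    rw [Flat.SpecMap_iff]
    algebraize [φ.hom]
    show Module.Flat k Ω
    infer_instance
  rw [sing_eq_compl, sing_eq_compl,
    Groth.Agent.Helper2.SmoothBC.smoothLocus_baseChange p t q i₀ h (Or.inr hflat)]
  rfl

/-- the fibre of a base field extension over a closed point is finite -/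
theorem finite_preimage_of_isClosed {k Ω : Type u} [Field k] [Field Ω] {X X' : Scheme.{u}}
    (p : X ⟶ Spec (CommRingCat.of k)) [LocallyOfFiniteType p]
    (t : Spec (CommRingCat.of Ω) ⟶ Spec (CommRingCat.of k))
    (q : X' ⟶ Spec (CommRingCat.of Ω)) (i₀ : X' ⟶ X) (h : IsPullback i₀ q p t)
    (x : X) (hx : IsClosed ({x} : Set ↥X)) : (i₀ ⁻¹' {x}).Finite := by
  haveI : IsClosedImmersion (X.fromSpecResidueField x) :=
    isClosed_singleton_iff_isClosedImmersion.mp hx
  haveI : JacobsonSpace ↥(Spec (CommRingCat.of k)) := inferInstance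
  haveI hfin : IsFinite (X.fromSpecResidueField x ≫ p) :=
    (isFinite_iff_locallyOfFiniteType_of_jacobsonSpace
      (f := X.fromSpecResidueField x ≫ p)).mpr inferInstance
  have hleft : IsPullback (i₀.fiberι x) (i₀.fiberToSpecResidueField x) i₀
      (X.fromSpecResidueField x) := IsPullback.of_hasPullback _ _
  have hbig : IsPullback (i₀.fiberι x ≫ q) (i₀.fiberToSpecResidueField x) t
      (X.fromSpecResidueField x ≫ p) := hleft.paste_horiz h.flip
  haveI hfin' : IsFinite (i₀.fiberι x ≫ q) :=
    MorphismProperty.of_isPullback (P := @IsFinite) hbig.flip hfin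
  haveI : Subsingleton ↥(Spec (CommRingCat.of Ω)) :=
    inferInstanceAs (Subsingleton (PrimeSpectrum Ω))
  have y' : ↥(Spec (CommRingCat.of Ω)) := (inferInstance : Nonempty (PrimeSpectrum Ω)).some
  have h1 := (i₀.fiberι x ≫ q).finite_preimage_singleton y'
  have h2 : (i₀.fiberι x ≫ q) ⁻¹' {y'} = Set.univ := by
    ext z
    simp only [Set.mem_preimage, Set.mem_singleton_iff, Set.mem_univ, iff_true]
    exact Subsingleton.elim _ _
  rw [h2] at h1
  rw [← i₀.range_fiberι x, ← Set.image_univ]
  exact h1.image _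

theorem finite_sing_iff {k : Type u} [Field k] {X : Scheme.{u}}
    (p : X ⟶ Spec (CommRingCat.of k)) [LocallyOfFiniteType p] :
    (∀ (Ω : Type u) [Field Ω] [IsAlgClosed Ω]
      (t : Spec (CommRingCat.of Ω) ⟶ Spec (CommRingCat.of k))
      (X' : Scheme.{u}) (q : X' ⟶ Spec (CommRingCat.of Ω)) (i₀ : X' ⟶ X),
      IsPullback i₀ q p t → (sing q).Finite) ↔ (sing p).Finite := by
  constructor
  · intro H
    obtain ⟨hfl, hsurj⟩ := flat_surj_spec_algClosure k
    have hpb := IsPullback.of_hasPullback p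
      (Spec.map (CommRingCat.ofHom (algebraMap k (AlgebraicClosure k))))
    have h1 := H (AlgebraicClosure k) _ _ _ _ hpb
    rw [sing_eq_preimage p _ _ _ hpb] at h1
    have hs : Function.Surjective (pullback.fst p
        (Spec.map (CommRingCat.ofHom (algebraMap k (AlgebraicClosure k))))) :=
      (pullback.fst p _).surjective
    rw [← Set.image_preimage_eq (sing p) hs]
    exact h1.image _
  · intro hfin Ω _ _ t X' q i₀ h
    haveI : LocallyOfFinitePresentation p :=
      LocallyOfFinitePresentation.iff_locallyOfFiniteType.2 inferInstance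
    haveI : JacobsonSpace ↥X := LocallyOfFiniteType.jacobsonSpace p
    have hcl : IsClosed (sing p) := by
      rw [sing_eq_compl]
      exact p.smoothLocus.isOpen.isClosed_compl
    rw [sing_eq_preimage p t q i₀ h]
    have : i₀ ⁻¹' (sing p) = ⋃ x ∈ sing p, i₀ ⁻¹' {x} := by
      ext z
      simp
    rw [this]
    exact hfin.biUnion (fun x hx => finite_preimage_of_isClosed p t q i₀ h x
      (isClosed_singleton_of_finite_closed hfin hcl hx))

theorem s17311 (S : Scheme.{u}) (k : Type u) [Field k] (t : Spec (CommRingCat.of k) ⟶ S)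
    (X : Scheme.{u}) (p : X ⟶ Spec (CommRingCat.of k)) [LocallyOfFiniteType p] :
    CurvSt.GeomFib (fun _ _ _ X' q _ =>
        Set.Finite {x : ↥X' | ¬ ∃ U : X'.Opens, x ∈ U ∧ Smooth (U.ι ≫ q)})
      ((CurvSt.toSpFam S 0).obj ⟨Over.mk t, X, p, Fin.elim0, fun i => i.elim0⟩) ↔
      Set.Finite {x : ↥X | ¬ ∃ U : X.Opens, x ∈ U ∧ Smooth (U.ι ≫ p)} :=
  (geomFib_toSpFam_iff (S := S) (n := 0) ⟨Over.mk t, X, p, Fin.elim0, fun i => i.elim0⟩
    (fun _ _ _ X' q => Set.Finite {x : ↥X' | ¬ ∃ U : X'.Opens, x ∈ U ∧ Smooth (U.ι ≫ q)})).trans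
    (finite_sing_iff p)

end Groth.Agent.Helper5.GeomFibSp
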