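import Groth.Agent.Helper5.GeomConnSp2
import Groth.Agent.Helper5.GeomRed
import Groth.Agent.Helper5.Decent1
import Groth.Agent.Helper4.GeomRedSp
import Mathlib

set_option autoImplicit false
universe u
open CategoryTheory CategoryTheory.Limits AlgebraicGeometry Opposite

namespace Groth.Agent.Helper5.GeomIntSp1

open AlgSp Groth.Agent.Helper5.GeomConnSp2

variable {k : Type u} [Field k]

/-- Geometric reducedness in terms of reducedness of all base changes (any characteristic). -/
theorem geomReduced_iff (X : AlgSp.Space (Spec (CommRingCat.of k))) :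
    (∀ x : AlgSp.Points X.obj, (∃ (U : Over (Spec (CommRingCat.of k))) (a : (AlgSp.yon (Spec (CommRingCat.of k))).obj U ⟶ X.obj) (u : ↥U.left),
      AlgSp.RepWith @Etale a ∧ AlgSp.Points.ofPt a u = x ∧ FBase.IsGeomReducedAt U.hom u)) ↔
      ∀ (K : Type u) [Field K] [Algebra k K], AlgSp.EtaleLocally (fun U => IsReduced U) (X.obj ⨯ (AlgSp.yon (Spec (CommRingCat.of k))).obj (Over.mk (Spec.map (CommRingCat.ofHom (algebraMap k K))))) := by
  obtain ⟨U, a, hae, has⟩ := X.property.atlas
  constructor
  · intro h K _ _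
    refine (Groth.Agent.Helper4.GeomRedSp.etaleLocally_isReduced_prod_iff a hae has K).mpr ?_
    have hU : ∀ u : ↥U.left, FBase.IsGeomReducedAt U.hom u := by
      intro u
      obtain ⟨V, b, v, hb, hv, hg⟩ := h (AlgSp.Points.ofPt a u)
      exact Groth.Agent.Helper5.GeomRed.geomReducedAt_chart_indep b a hb hae v u hv hg
    haveI : ∀ x' : ↥(FBase.bc U.hom K), _root_.IsReduced ((FBase.bc U.hom K).presheaf.stalk x') :=
      fun x' => hU _ K x' rfl
    exact isReduced_of_isReduced_stalk _
  · intro h x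
    obtain ⟨r, hr⟩ := Groth.Agent.Helper4.AlgSpPts.isSurjectiveMor_of_repWith _ has x
    obtain ⟨u, rfl⟩ := (AlgSp.Points.schemeHomeo U).surjective r
    refine ⟨U, a, u, hae, ?_, ?_⟩
    · rw [← Groth.Agent.Helper4.AlgSpQC2.ofPt_eq_map_schemeHomeo, hr]
    · intro K _ _ x' _
      haveI : AlgebraicGeometry.IsReduced (FBase.bc U.hom K) :=
        (Groth.Agent.Helper4.GeomRedSp.etaleLocally_isReduced_prod_iff a hae has K).mp (h K)
      infer_instance

theorem representable_prod_fst {S : Scheme.{u}} (X : Sp S) (T : Over S) :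
    Representable (prod.fst : X ⨯ (yon S).obj T ⟶ X) := by
  have hT := isTerminalOne S
  have sq : IsPullback (prod.snd : X ⨯ (yon S).obj T ⟶ _) prod.fst (hT.from _) (hT.from X) :=
    (IsPullback.of_is_product (prodIsProd _ _) hT).flip
  have h1 : Representable (hT.from ((yon S).obj T)) := by
    rw [hT.hom_ext (hT.from ((yon S).obj T)) ((yon S).map (Over.mkIdTerminal.from T))]
    exact representable_yon_map _
  exact MorphismProperty.of_isPullback sq h1

theorem s10497 (X : AlgSp.Space (Spec (CommRingCat.of k))) (hX : AlgSp.IsDecent X.obj) :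
    (∀ (K : Type u) [Field K] [Algebra k K], AlgSp.IsIntegralSp (X.obj ⨯ (AlgSp.yon (Spec (CommRingCat.of k))).obj (Over.mk (Spec.map (CommRingCat.ofHom (algebraMap k K)))))) ↔
      (∀ x : AlgSp.Points X.obj, (∃ (U : Over (Spec (CommRingCat.of k))) (a : (AlgSp.yon (Spec (CommRingCat.of k))).obj U ⟶ X.obj) (u : ↥U.left),
      AlgSp.RepWith @Etale a ∧ AlgSp.Points.ofPt a u = x ∧ FBase.IsGeomReducedAt U.hom u)) ∧
        ∀ (K : Type u) [Field K] [Algebra k K], IrreducibleSpace (AlgSp.Points (X.obj ⨯ (AlgSp.yon (Spec (CommRingCat.of k))).obj (Over.mk (Spec.map (CommRingCat.ofHom (algebraMap k K)))))) := by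
  constructor
  · intro h
    exact ⟨(geomReduced_iff X).2 fun K _ _ => (h K).1, fun K _ _ => (h K).2.2⟩
  · rintro ⟨hred, hirr⟩ K _ _
    exact ⟨(geomReduced_iff X).1 hred K,
      Groth.Agent.Helper5.Decent1.isDecent_of_representable _ (representable_prod_fst _ _) hX,
      hirr K⟩

end Groth.Agent.Helper5.GeomIntSp1
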