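import Mathlib
import Groth.Prelude

set_option autoImplicit false
universe u

namespace Groth.Agent.Helper5.GeomIrr

open CategoryTheory CategoryTheory.Limits AlgebraicGeometry TopologicalSpace Topology

/-- a flat morphism to an irreducible scheme with irreducible generic fibre has irreducible source -/
theorem irreducibleSpace_of_flat {X C : Scheme.{u}} (f : X ⟶ C) [Flat f] [IrreducibleSpace C]
    [IrreducibleSpace (f.fiber (genericPoint C))] : IrreducibleSpace X := by
  set η := genericPoint C with hη
  have hirr : IsIrreducible (f ⁻¹' {η}) := by
    rw [← f.range_fiberι, ← Set.image_univ]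
    exact (IrreducibleSpace.isIrreducible_univ _).image _ (f.fiberι _).continuous.continuousOn
  have hcl : closure (f ⁻¹' {η}) = Set.univ := by
    rw [Set.eq_univ_iff_forall]
    intro x
    have h1 : η ⤳ f x := genericPoint_specializes (f x)
    obtain ⟨x', hx', hfx'⟩ := Flat.generalizingMap (f := f) h1
    exact closure_mono (Set.singleton_subset_iff.mpr (show x' ∈ f ⁻¹' {η} from hfx'))
      (specializes_iff_mem_closure.mp hx')
  have := hirr.closure
  rw [hcl] at this
  exact (irreducibleSpace_def X).mpr this

/-- the generic point of the source of a surjective morphism of irreducible schemes maps to the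
generic point -/
theorem map_genericPoint {D C : Scheme.{u}} (g : D ⟶ C) [Surjective g] [IrreducibleSpace D]
    [IrreducibleSpace C] : g (genericPoint D) = genericPoint C := by
  obtain ⟨c, hc⟩ := g.surjective (genericPoint C)
  have h1 : g (genericPoint D) ⤳ genericPoint C := by
    rw [← hc]
    exact (genericPoint_specializes c).map g.continuous
  exact (h1.antisymm (genericPoint_specializes _)).eq

end Groth.Agent.Helper5.GeomIrr
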