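import Mathlib
import Groth.Prelude
import Groth.Agent.Helper5.GeomIrr1

set_option autoImplicit false
universe u

namespace Groth.Agent.Helper5.GeomIrr

open CategoryTheory CategoryTheory.Limits AlgebraicGeometry TopologicalSpace Topology

set_option backward.isDefEq.respectTransparency false in
theorem s17181 (k : Type u) [Field k]
    (X C : Scheme.{u}) [X.Over (Spec (CommRingCat.of k))] [C.Over (Spec (CommRingCat.of k))]
    (f : X ⟶ C) [f.IsOver (Spec (CommRingCat.of k))] [IrreducibleSpace X] [IrreducibleSpace C]
    [GeometricallyIrreducible (C ↘ Spec (CommRingCat.of k))] [Flat f] [LocallyOfFiniteType f]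
    [GeometricallyIrreducible (f.fiberToSpecResidueField (genericPoint C))] :
    GeometricallyIrreducible (X ↘ Spec (CommRingCat.of k)) := by
  refine ⟨geometrically_iff_of_isClosedUnderIsomorphisms.mpr fun K _ y => ?_⟩
  set p := X ↘ Spec (.of k) with hp
  set q := C ↘ Spec (.of k) with hq
  have hpq : f ≫ q = p := comp_over f _
  let fK : pullback p y ⟶ pullback q y :=
    pullback.map p y q y f (𝟙 _) (𝟙 _) (by simp [hpq]) (by simp)
  have hfK : fK ≫ pullback.snd q y = pullback.snd p y := by simp [fK]
  have sq : IsPullback (pullback.fst p y) fK f (pullback.fst q y) := by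
    refine IsPullback.of_bot (v₂₁ := pullback.snd q y) (v₂₂ := q) (h₃₁ := y) ?_ ?_
      (IsPullback.of_hasPullback q y)
    · rw [hfK, hpq]
      exact IsPullback.of_hasPullback p y
    · simp [fK]
  haveI : Flat fK := MorphismProperty.of_isPullback sq inferInstance
  haveI : IrreducibleSpace ↥(pullback q y) :=
    pullback_of_geometrically
      (GeometricallyIrreducible.geometrically_irreducibleSpace (f := q)) K y
  haveI : Surjective y := by
    refine ⟨fun s => ?_⟩
    haveI : Nonempty (Spec (.of K)) := inferInstanceAs (Nonempty (PrimeSpectrum K))
    haveI : Subsingleton (Spec (.of k)) := inferInstanceAs (Subsingleton (PrimeSpectrum k))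
    exact ⟨Classical.arbitrary _, Subsingleton.elim _ _⟩
  haveI : Surjective (pullback.fst q y) := inferInstance
  have hη := map_genericPoint (pullback.fst q y)
  haveI : GeometricallyIrreducible
      (f.fiberToSpecResidueField ((pullback.fst q y) (genericPoint ↥(pullback q y)))) := by
    rw [hη]; infer_instance
  haveI : IrreducibleSpace ↥(fK.fiber (genericPoint ↥(pullback q y))) := by
    have h1 := isPullback_fiberToSpecResidueField_of_isPullback sq (genericPoint ↥(pullback q y))
    exact GeometricallyIrreducible.geometrically_irreducibleSpace
      (f := f.fiberToSpecResidueField ((pullback.fst q y) (genericPoint ↥(pullback q y))))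
      (K := (pullback q y).residueField (genericPoint ↥(pullback q y))) _ _ _ h1
  exact irreducibleSpace_of_flat fK

end Groth.Agent.Helper5.GeomIrr
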