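import Mathlib
import Groth.Agent.Helper5.CPair8
import Groth.Agent.Helper2.ArtSch

set_option autoImplicit false
universe u

namespace Groth.Agent.Helper5.GeomIso

open CategoryTheory CategoryTheory.Limits AlgebraicGeometry TopologicalSpace Topology
open Groth.Agent.Helper5.CPair

set_option maxHeartbeats 1600000 in
/-- S4839: geometrically isomorphic schemes of finite type become isomorphic over a finite
extension -/
theorem s4839 {k : Type u} [Field k] {X Y : Scheme.{u}}
    (p : X ⟶ Spec (CommRingCat.of k)) (q : Y ⟶ Spec (CommRingCat.of k))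
    [LocallyOfFiniteType p] [QuasiCompact p] [LocallyOfFiniteType q] [QuasiCompact q]
    (K : Type u) [Field K] [Algebra k K]
    (e : pullback p (Spec.map (CommRingCat.ofHom (algebraMap k K))) ≅
      pullback q (Spec.map (CommRingCat.ofHom (algebraMap k K))))
    (he : e.hom ≫ pullback.snd q (Spec.map (CommRingCat.ofHom (algebraMap k K))) =
      pullback.snd p (Spec.map (CommRingCat.ofHom (algebraMap k K)))) :
    ∃ (k' : Type u) (_ : Field k') (_ : Algebra k k') (_ : Module.Finite k k')
      (e' : pullback p (Spec.map (CommRingCat.ofHom (algebraMap k k'))) ≅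
        pullback q (Spec.map (CommRingCat.ofHom (algebraMap k k')))),
      e'.hom ≫ pullback.snd q (Spec.map (CommRingCat.ofHom (algebraMap k k'))) =
        pullback.snd p (Spec.map (CommRingCat.ofHom (algebraMap k k'))) := by
  haveI : IsLocallyNoetherian X := LocallyOfFiniteType.isLocallyNoetherian p
  haveI : IsLocallyNoetherian Y := LocallyOfFiniteType.isLocallyNoetherian q
  haveI : LocallyOfFinitePresentation p := Groth.Agent.Helper2.ArtSch.lfp_of_lft_noeth p
  haveI : LocallyOfFinitePresentation q := Groth.Agent.Helper2.ArtSch.lfp_of_lft_noeth q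
  haveI : QuasiSeparated p := inferInstance
  haveI : QuasiSeparated q := inferInstance
  have sqX : IsPullback (pullback.fst p (Spec.map (CommRingCat.ofHom (algebraMap k K))))
      (pullback.snd p (Spec.map (CommRingCat.ofHom (algebraMap k K)))) p (top k K ≫ 𝟙 _) := by
    rw [Category.comp_id]
    exact IsPullback.of_hasPullback _ _
  have sqY : IsPullback (pullback.fst q (Spec.map (CommRingCat.ofHom (algebraMap k K))))
      (pullback.snd q (Spec.map (CommRingCat.ofHom (algebraMap k K)))) q (top k K ≫ 𝟙 _) := by
    rw [Category.comp_id]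
    exact IsPullback.of_hasPullback _ _
  obtain ⟨i, XB, YB, gXB, gYB, eXB, eYB, hXB, hYB, gB, hgB, hiso⟩ :=
    exists_fg_model' k K (MorphismProperty.isomorphisms Scheme.{u}) stageDescent'_isIso p q (𝟙 _)
      (pullback.snd p _) (pullback.snd q _) (pullback.fst p _) (pullback.fst q _) sqX sqY
      e.hom he (inferInstance : IsIso e.hom)
  haveI : IsIso gB := hiso
  let A : Subalgebra k K := i.unop.1
  have hAfg : A.FG := i.unop.2
  obtain ⟨m, hm⟩ := Ideal.exists_maximal A
  let k' : Type u := A ⧸ m
  letI : Field k' := Ideal.Quotient.field m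
  haveI : Algebra.FiniteType k A := (Subalgebra.fg_iff_finiteType A).1 hAfg
  haveI : Algebra.FiniteType k k' :=
    Algebra.FiniteType.of_surjective (Ideal.Quotient.mkₐ k m) (Ideal.Quotient.mkₐ_surjective k m)
  haveI : Module.Finite k k' := finite_of_finite_type_of_isJacobsonRing k k'
  refine ⟨k', inferInstance, inferInstance, inferInstance, ?_⟩
  let t : Spec (CommRingCat.of k') ⟶ (D k K).obj i :=
    Spec.map (CommRingCat.ofHom (Ideal.Quotient.mk m))
  have ht : t ≫ (str k K i ≫ 𝟙 _) = Spec.map (CommRingCat.ofHom (algebraMap k k')) := by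
    rw [Category.comp_id]
    show Spec.map _ ≫ Spec.map _ = _
    rw [← Spec.map_comp]
    rfl
  have PX : IsPullback (pullback.fst gXB t ≫ eXB) (pullback.snd gXB t) p
      (Spec.map (CommRingCat.ofHom (algebraMap k k'))) := by
    have := (IsPullback.of_hasPullback gXB t).paste_horiz hXB
    rw [ht] at this
    exact this
  have PY : IsPullback (pullback.fst gYB t ≫ eYB) (pullback.snd gYB t) q
      (Spec.map (CommRingCat.ofHom (algebraMap k k'))) := by
    have := (IsPullback.of_hasPullback gYB t).paste_horiz hYB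
    rw [ht] at this
    exact this
  have hc1 : gXB ≫ 𝟙 _ = gB ≫ gYB := by rw [Category.comp_id, hgB]
  have hc2 : t ≫ 𝟙 _ = 𝟙 _ ≫ t := by rw [Category.comp_id, Category.id_comp]
  let φ : pullback gXB t ≅ pullback gYB t :=
    asIso (pullback.map gXB t gYB t gB (𝟙 _) (𝟙 _) hc1 hc2)
  refine ⟨PX.isoPullback.symm ≪≫ φ ≪≫ PY.isoPullback, ?_⟩
  simp only [Iso.trans_hom, Iso.symm_hom, Category.assoc, IsPullback.isoPullback_hom_snd]
  have h1 : φ.hom ≫ pullback.snd gYB t = pullback.snd gXB t := by
    show pullback.map gXB t gYB t gB (𝟙 _) (𝟙 _) hc1 hc2 ≫ pullback.snd gYB t = _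
    exact (pullback.lift_snd _ _ _).trans (Category.comp_id _)
  rw [h1, IsPullback.isoPullback_inv_snd]

end Groth.Agent.Helper5.GeomIso
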