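import Mathlib

set_option autoImplicit false
set_option linter.style.haveILetI false
set_option linter.unusedSectionVars false
set_option linter.unusedVariables false
universe u
open Cardinal

namespace Groth.Agent.Helper5.GeomLift

/-- A field extension `L/F` of cardinality smaller than an algebraically closed extension `K/F`
embeds into `K` over `F`. -/
theorem nonempty_algHom_of_card_lt (F L K : Type u) [Field F] [Field L] [Field K] [Algebra F L]
    [Algebra F K] [IsAlgClosed K] (h : #L < #K) : Nonempty (L →ₐ[F] K) := by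
  obtain ⟨ι, x, hx⟩ := exists_isTranscendenceBasis' F L
  obtain ⟨ι', y, hy⟩ := exists_isTranscendenceBasis' F K
  have hcard : #ι ≤ #ι' := by
    have h1 : #ι ≤ #L := Cardinal.mk_le_of_injective hx.1.injective
    have h2 : #F ≤ #L := Cardinal.mk_le_of_injective (algebraMap F L).injective
    have h3 := IsAlgClosed.cardinal_le_max_transcendence_basis' y hy
    by_contra hlt
    rw [not_le] at hlt
    have h4 : #K ≤ ℵ₀ := by
      rcases le_max_iff.1 h3 with h5 | h5
      · rcases le_max_iff.1 h5 with h6 | h6
        · exact absurd (h6.trans h2) (not_le.2 h)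
        · exact absurd (h6.trans (hlt.le.trans h1)) (not_le.2 h)
      · exact h5
    have h5 : #L < ℵ₀ := h.trans_le h4
    haveI : Finite L := Cardinal.lt_aleph0_iff_finite.1 h5
    haveI : Nonempty ι := by
      by_contra hne
      rw [not_nonempty_iff] at hne
      have : #ι = 0 := Cardinal.mk_eq_zero ι
      rw [this] at hlt
      exact absurd hlt (not_lt.2 zero_le)
    obtain ⟨i⟩ := ‹Nonempty ι›
    have htr : Transcendental F (x i) := hx.1.transcendental i
    haveI : Module.Finite F L := Module.Finite.of_finite
    exact htr (Algebra.IsAlgebraic.isAlgebraic (x i))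
  obtain ⟨e⟩ : Nonempty (ι ↪ ι') := by
    rwa [← Cardinal.le_def]
  have hy' : AlgebraicIndependent F (y ∘ e) := hy.1.comp e e.injective
  let R := Algebra.adjoin F (Set.range x)
  let φ₀ : R →ₐ[F] K := (MvPolynomial.aeval (y ∘ e)).comp hx.1.aevalEquiv.symm.toAlgHom
  have hφ₀ : Function.Injective φ₀ := by
    show Function.Injective ((MvPolynomial.aeval (y ∘ e)) ∘ hx.1.aevalEquiv.symm)
    exact Function.Injective.comp hy' hx.1.aevalEquiv.symm.injective
  letI : Algebra R K := φ₀.toRingHom.toAlgebra
  haveI : IsScalarTower F R K := IsScalarTower.of_algebraMap_eq (fun a => (φ₀.commutes a).symm)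
  haveI : Algebra.IsAlgebraic R L := hx.isAlgebraic
  haveI : FaithfulSMul R K := (faithfulSMul_iff_algebraMap_injective R K).2 hφ₀
  let ψ : L →ₐ[R] K := IsAlgClosed.lift
  exact ⟨ψ.restrictScalars F⟩

/-- a finite extension of a field of cardinality smaller than the infinite `K` is still smaller -/
theorem card_lt_of_finite (κ L K : Type u) [Field κ] [Field L] [Field K] [Algebra κ L]
    [Module.Finite κ L] [Infinite K] (h : #κ < #K) : #L < #K := by
  obtain ⟨n, f, hf⟩ := Module.Finite.exists_fin' κ L
  have h1 : #L ≤ #(Fin n → κ) := Cardinal.mk_le_of_surjective hf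
  have h2 : #(Fin n → κ) = #κ ^ (n : Cardinal.{u}) := by
    rw [Cardinal.mk_pi]
    simp
  rcases lt_or_ge #κ ℵ₀ with hfin | hinf
  · haveI : Finite κ := Cardinal.lt_aleph0_iff_finite.1 hfin
    haveI : Finite L := Module.finite_of_finite κ
    exact (Cardinal.lt_aleph0_of_finite L).trans_le (Cardinal.aleph0_le_mk K)
  · have h3 : #κ ^ (n : Cardinal.{u}) ≤ #κ := by
      exact_mod_cast Cardinal.power_nat_le hinf
    exact (h1.trans (h2.le.trans h3)).trans_lt h

open CategoryTheory AlgebraicGeometry

/-- Lifting a geometric point along a morphism, through a point with small residue field. -/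
theorem exists_lift_of_card_lt {E V : Scheme.{u}} (q : E ⟶ V) (e : E) (K : Type u) [Field K]
    [IsAlgClosed K] (vbar : Spec (CommRingCat.of K) ⟶ V) (s : ↥(Spec (CommRingCat.of K)))
    (hv' : vbar s = q e) (hcard : #(E.residueField e) < #K) :
    ∃ τ : Spec (CommRingCat.of K) ⟶ E, τ ≫ q = vbar ∧ τ s = e := by
  have hs : s = IsLocalRing.closedPoint K := Subsingleton.elim _ _
  have hv : vbar (IsLocalRing.closedPoint K) = q e := by rw [← hs]; exact hv'
  let φ : V.residueField (q e) ⟶ CommRingCat.of K :=
    (V.residueFieldCongr hv).inv ≫ V.descResidueField (Scheme.stalkClosedPointTo vbar)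
  have hφ : Spec.map φ ≫ V.fromSpecResidueField (q e) = vbar := by
    have h1 := Scheme.descResidueField_stalkClosedPointTo_fromSpecResidueField K V vbar
    have h2 := V.residueFieldCongr_fromSpecResidueField hv
    have h3 : Spec.map (V.residueFieldCongr hv).inv ≫ V.fromSpecResidueField (q e) =
        V.fromSpecResidueField (vbar (IsLocalRing.closedPoint K)) := by
      rw [← h2, ← Category.assoc, ← Spec.map_comp, Iso.hom_inv_id, Spec.map_id, Category.id_comp]
    show Spec.map ((V.residueFieldCongr hv).inv ≫ _) ≫ _ = _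
    rw [Spec.map_comp, Category.assoc, h3, h1]
  letI : Algebra (V.residueField (q e)) (E.residueField e) := (q.residueFieldMap e).hom.toAlgebra
  letI : Algebra (V.residueField (q e)) K := φ.hom.toAlgebra
  obtain ⟨ψ⟩ := nonempty_algHom_of_card_lt (V.residueField (q e)) (E.residueField e) K hcard
  let ψ' : E.residueField e ⟶ CommRingCat.of K := CommRingCat.ofHom ψ.toRingHom
  have hψ : q.residueFieldMap e ≫ ψ' = φ := by
    ext t
    exact ψ.commutes t
  refine ⟨Spec.map ψ' ≫ E.fromSpecResidueField e, ?_, ?_⟩
  · rw [Category.assoc, ← Scheme.Hom.SpecMap_residueFieldMap_fromSpecResidueField, ← Category.assoc,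
      ← Spec.map_comp, hψ, hφ]
  · change (E.fromSpecResidueField e) ((Spec.map ψ') s) = e
    exact Scheme.fromSpecResidueField_apply _ _

end Groth.Agent.Helper5.GeomLift
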