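import Groth.Agent.Helper5.GeomLift1
import Groth.Agent.Helper5.AlgSpOpen
import Groth.Agent.Helper5.PbFibre
import Groth.Agent.Helper4.AlgSpPtsDesc
import Groth.Agent.Helper4.SchLQF
import Groth.Agent.Helper2.ProEtCovI
import Groth.Prelude.Def_AlgSpDec
import Mathlib

set_option autoImplicit false
set_option linter.style.haveILetI false
set_option linter.unusedSectionVars false
set_option linter.unusedVariables false
universe u
open CategoryTheory CategoryTheory.Limits AlgebraicGeometry Opposite Cardinal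

namespace Groth.Agent.Helper5.GeomLift

open AlgSp Groth.Agent.Helper4 Groth.Agent.Helper4.AlgSpPtsDesc

variable {S : Scheme.{u}}

/-- A geometric point of an algebraic space lifts to any étale surjective chart. -/
theorem exists_lift_chart {Y : Sp S} {V : Over S} (b : (yon S).obj V ⟶ Y) (hbe : RepWith @Etale b)
    (hbs : RepWith @Surjective b) (ybar : FieldPt Y) (hy : ybar.IsGeometric) :
    ∃ vbar : ybar.pt ⟶ V, (yon S).map vbar ≫ b = ybar.toHom := by
  have hb := hbe.rep
  have hpb := hb.isPullback ybar.toHom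
  haveI : Etale (hb.snd ybar.toHom).left := hbe.property _ _ _ hpb
  haveI : Surjective (hb.snd ybar.toHom).left := hbs.property _ _ _ hpb
  haveI : IsAlgClosed ybar.K := hy
  have s : ↥(Spec (CommRingCat.of ybar.K)) := IsLocalRing.closedPoint ybar.K
  obtain ⟨z, hz⟩ := (hb.snd ybar.toHom).left.surjective s
  obtain ⟨ξ', hξ'⟩ := Groth.Agent.Helper2.ProEtCov.exists_lift_geometric_point
    (hb.snd ybar.toHom).left (𝟙 (Spec (CommRingCat.of ybar.K))) s z (by rw [hz]; rfl)
  obtain ⟨φ, hφ⟩ := (yon S).map_surjective (hb.fst ybar.toHom)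
  have hw : ξ' ≫ (hb.pullback ybar.toHom).hom = ybar.pt.hom := by
    rw [← Over.w (hb.snd ybar.toHom), ← Category.assoc, hξ', Category.id_comp]
  let ξO : ybar.pt ⟶ hb.pullback ybar.toHom := Over.homMk ξ' hw
  have hξO : ξO ≫ hb.snd ybar.toHom = 𝟙 _ := by
    apply Over.OverMorphism.ext
    exact hξ'
  refine ⟨ξO ≫ φ, ?_⟩
  rw [Functor.map_comp, Category.assoc, hφ, hpb.w, ← Category.assoc, ← Functor.map_comp, hξO,
    CategoryTheory.Functor.map_id, Category.id_comp]

theorem s10000 {X Y : Space S} (f : X ⟶ Y)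
    {U : Over S} (a : (yon S).obj U ⟶ X.obj) (ha : RepWith @Etale a) (has : RepWith @Surjective a)
    (ybar : FieldPt Y.obj) (hy : ybar.IsGeometric)
    (hk : ∀ u : ↥U.left, #↥(U.left.residueField u) < #ybar.K)
    (x : Points X.obj) (hx : Points.map f.hom x = Points.mk ybar) :
    ∃ xbar : (yon S).obj ybar.pt ⟶ X.obj, xbar ≫ f.hom = ybar.toHom ∧
      Points.ofPt xbar (IsLocalRing.closedPoint ybar.K) = x := by
  haveI : IsAlgClosed ybar.K := hy
  obtain ⟨u, hu⟩ := Groth.Agent.Helper5.AlgSpOpen.ofPt_surjective_of_repWith a has x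
  obtain ⟨V, b, hbe, hbs⟩ := Y.property.atlas
  obtain ⟨vbar, hvbar⟩ := exists_lift_chart b hbe hbs ybar hy
  -- the residue field point of `u`
  let κu : Over S := Over.mk (U.left.fromSpecResidueField u ≫ U.hom)
  let ιu : κu ⟶ U := Over.homMk (U.left.fromSpecResidueField u) rfl
  let ξ : (yon S).obj κu ⟶ Y.obj := (yon S).map ιu ≫ a ≫ f.hom
  have hb := hbe.rep
  have hpb := hb.isPullback ξ
  obtain ⟨q, hq⟩ := (yon S).map_surjective (hb.fst ξ)
  rw [← hq] at hpb
  haveI : Etale (hb.snd ξ).left := hbe.property _ _ _ (hb.isPullback ξ)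
  -- a point of `E` over `v` and the point of `Spec κ(u)`
  let s : ↥(Spec (CommRingCat.of ybar.K)) := IsLocalRing.closedPoint ybar.K
  let v : ↥V.left := vbar.left s
  let pt : ↥κu.left := IsLocalRing.closedPoint (U.left.residueField u)
  have hιu : ιu.left pt = u := Scheme.fromSpecResidueField_apply _ _
  have h1 : Points.map b (Points.ofScheme V v) = Points.mk ybar := by
    rw [← Points.ofPt_eq_map_ofScheme, ← ofPt_yon_map_comp vbar b s, hvbar, Points.ofPt_toHom]
  have h2 : Points.map ξ (Points.ofScheme κu pt) = Points.mk ybar := by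
    rw [← Points.ofPt_eq_map_ofScheme, ofPt_yon_map_comp ιu (a ≫ f.hom) pt, hιu, ← Points.map_ofPt,
      hu, hx]
  obtain ⟨p, hp1, hp2⟩ := exists_point_of_isPullback hpb (Points.ofScheme V v)
    (Points.ofScheme κu pt) (h1.trans h2.symm)
  obtain ⟨e, rfl⟩ := (Points.schemeHomeo (hb.pullback ξ)).surjective p
  have he : q.left e = v := by
    have h3 := Points.map_yon_map_apply q e
    change Points.map ((yon S).map q) (Points.ofScheme _ e) = Points.ofScheme V (q.left e) at h3
    have h4 : Points.ofScheme V (q.left e) = Points.ofScheme V v := h3.symm.trans hp1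
    have := congrArg (Points.toScheme V) h4
    rwa [Points.toScheme_ofScheme, Points.toScheme_ofScheme] at this
  -- cardinality of the residue field of `e`
  let h : (hb.pullback ξ).left ⟶ U.left := (hb.snd ξ).left ≫ U.left.fromSpecResidueField u
  haveI : LocallyQuasiFinite (hb.snd ξ).left := SchLQF.locallyQuasiFinite_of_etale _
  haveI : LocallyQuasiFinite h := inferInstance
  have hfin := Groth.Agent.Helper5.PbFibre.finite_residueFieldMap_of_lqf h e
  have hcard : #((hb.pullback ξ).left.residueField e) < #ybar.K := by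
    letI : Algebra (U.left.residueField (h e)) ((hb.pullback ξ).left.residueField e) :=
      (h.residueFieldMap e).hom.toAlgebra
    haveI : Module.Finite (U.left.residueField (h e)) ((hb.pullback ξ).left.residueField e) := hfin
    haveI : Infinite ybar.K := IsAlgClosed.instInfinite
    exact card_lt_of_finite (U.left.residueField (h e)) _ ybar.K (hk (h e))
  obtain ⟨τ, hτ1, hτ2⟩ := exists_lift_of_card_lt q.left e ybar.K vbar.left s he.symm hcard
  have hw : τ ≫ (hb.pullback ξ).hom = ybar.pt.hom := by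
    rw [← Over.w q, ← Category.assoc, hτ1, Over.w vbar]
  let τO : ybar.pt ⟶ hb.pullback ξ := Over.homMk τ hw
  have hτO : τO ≫ q = vbar := by
    apply Over.OverMorphism.ext
    exact hτ1
  refine ⟨(yon S).map (τO ≫ hb.snd ξ ≫ ιu) ≫ a, ?_, ?_⟩
  · have e1 : (yon S).map (τO ≫ hb.snd ξ ≫ ιu) ≫ a ≫ f.hom =
        (yon S).map τO ≫ (yon S).map (hb.snd ξ) ≫ ξ := by
      simp only [Functor.map_comp, Category.assoc, ξ]
    rw [Category.assoc, e1, ← hpb.w, ← Category.assoc, ← Functor.map_comp, hτO, hvbar]
  · rw [ofPt_yon_map_comp, ← hu]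
    congr 1
    show (U.left.fromSpecResidueField u) _ = u
    exact Scheme.fromSpecResidueField_apply _ _

end Groth.Agent.Helper5.GeomLift
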