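import Mathlib

set_option autoImplicit false
universe u
open CategoryTheory CategoryTheory.Limits AlgebraicGeometry

namespace Groth.Agent.Helper5.Glue

variable {K : Type u} [Field K]

/-- `A` is the localization of `A ⊓ B` away from `x`. -/
theorem isLocalization_away_left (A B : Subring K) (x : K) (hxA : x ∈ A) (hxB : x ∈ B)
    (hxiA : x⁻¹ ∈ A) (hx0 : x ≠ 0) (hAB : ∀ a ∈ A, ∃ n : ℕ, a * x ^ n ∈ B) :
    letI : Algebra (A ⊓ B : Subring K) A := (Subring.inclusion (inf_le_left : A ⊓ B ≤ A)).toAlgebra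
    IsLocalization.Away (⟨x, ⟨hxA, hxB⟩⟩ : (A ⊓ B : Subring K)) A := by
  let _ : Algebra (A ⊓ B : Subring K) A := (Subring.inclusion (inf_le_left : A ⊓ B ≤ A)).toAlgebra
  have halg : ∀ r : (A ⊓ B : Subring K), ((algebraMap (A ⊓ B : Subring K) A r : A) : K) = (r : K) :=
    fun r => rfl
  refine ⟨?_, ?_, ?_⟩
  · rintro ⟨_, n, rfl⟩
    refine ⟨⟨algebraMap (A ⊓ B : Subring K) A (⟨x, ⟨hxA, hxB⟩⟩ ^ n), ⟨x⁻¹, hxiA⟩ ^ n, ?_, ?_⟩, rfl⟩
    · apply Subtype.ext
      simp only [map_pow, Subring.coe_mul, Subring.coe_pow, halg, Subring.coe_one]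
      rw [← mul_pow, mul_inv_cancel₀ hx0, one_pow]
    · apply Subtype.ext
      simp only [map_pow, Subring.coe_mul, Subring.coe_pow, halg, Subring.coe_one]
      rw [← mul_pow, inv_mul_cancel₀ hx0, one_pow]
  · intro a
    obtain ⟨n, hn⟩ := hAB a a.2
    refine ⟨⟨⟨(a : K) * x ^ n, ⟨A.mul_mem a.2 (A.pow_mem hxA n), hn⟩⟩,
      ⟨⟨x, ⟨hxA, hxB⟩⟩ ^ n, n, rfl⟩⟩, ?_⟩
    apply Subtype.ext
    simp only [map_pow, Subring.coe_mul, Subring.coe_pow, halg]
  · intro r s h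
    refine ⟨1, ?_⟩
    have : (r : K) = (s : K) := by
      have := congrArg (fun t : A => (t : K)) h
      simpa [halg] using this
    simp only [OneMemClass.coe_one, one_mul]
    exact Subtype.ext this

/-- `B` is the localization of `A ⊓ B` away from `y`. -/
theorem isLocalization_away_right (A B : Subring K) (y : K) (hyA : y ∈ A) (hyB : y ∈ B)
    (hyiB : y⁻¹ ∈ B) (hy0 : y ≠ 0) (hBA : ∀ b ∈ B, ∃ n : ℕ, b * y ^ n ∈ A) :
    letI : Algebra (A ⊓ B : Subring K) B := (Subring.inclusion (inf_le_right : A ⊓ B ≤ B)).toAlgebra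
    IsLocalization.Away (⟨y, ⟨hyA, hyB⟩⟩ : (A ⊓ B : Subring K)) B := by
  let _ : Algebra (A ⊓ B : Subring K) B := (Subring.inclusion (inf_le_right : A ⊓ B ≤ B)).toAlgebra
  have halg : ∀ r : (A ⊓ B : Subring K), ((algebraMap (A ⊓ B : Subring K) B r : B) : K) = (r : K) :=
    fun r => rfl
  refine ⟨?_, ?_, ?_⟩
  · rintro ⟨_, n, rfl⟩
    refine ⟨⟨algebraMap (A ⊓ B : Subring K) B (⟨y, ⟨hyA, hyB⟩⟩ ^ n), ⟨y⁻¹, hyiB⟩ ^ n, ?_, ?_⟩, rfl⟩
    · apply Subtype.ext
      simp only [map_pow, Subring.coe_mul, Subring.coe_pow, halg, Subring.coe_one]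
      rw [← mul_pow, mul_inv_cancel₀ hy0, one_pow]
    · apply Subtype.ext
      simp only [map_pow, Subring.coe_mul, Subring.coe_pow, halg, Subring.coe_one]
      rw [← mul_pow, inv_mul_cancel₀ hy0, one_pow]
  · intro b
    obtain ⟨n, hn⟩ := hBA b b.2
    refine ⟨⟨⟨(b : K) * y ^ n, ⟨hn, B.mul_mem b.2 (B.pow_mem hyB n)⟩⟩,
      ⟨⟨y, ⟨hyA, hyB⟩⟩ ^ n, n, rfl⟩⟩, ?_⟩
    apply Subtype.ext
    simp only [map_pow, Subring.coe_mul, Subring.coe_pow, halg]
  · intro r s h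
    refine ⟨1, ?_⟩
    have : (r : K) = (s : K) := by
      have := congrArg (fun t : B => (t : K)) h
      simpa [halg] using this
    simp only [OneMemClass.coe_one, one_mul]
    exact Subtype.ext this

/-- `K` is the localization of `A` away from `y`. -/
theorem isLocalization_away_field (A : Subring K) (y : K) (hyA : y ∈ A) (hy0 : y ≠ 0)
    (hK : ∀ k : K, ∃ n : ℕ, k * y ^ n ∈ A) :
    letI : Algebra A K := A.subtype.toAlgebra
    IsLocalization.Away (⟨y, hyA⟩ : A) K := by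
  let _ : Algebra A K := A.subtype.toAlgebra
  have halg : ∀ r : A, algebraMap A K r = (r : K) := fun r => rfl
  refine ⟨?_, ?_, ?_⟩
  · rintro ⟨_, n, rfl⟩
    rw [halg]
    exact IsUnit.mk0 _ (by simpa using pow_ne_zero n hy0)
  · intro k
    obtain ⟨n, hn⟩ := hK k
    refine ⟨⟨⟨k * y ^ n, hn⟩, ⟨⟨y, hyA⟩ ^ n, n, rfl⟩⟩, ?_⟩
    simp only [halg, Subring.coe_pow]
  · intro r s h
    refine ⟨1, ?_⟩
    have : (r : K) = (s : K) := by simpa [halg] using h
    simp only [OneMemClass.coe_one, one_mul]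
    exact Subtype.ext this

theorem glue (A B : Subring K) (x y : K) (hxy : x + y = 1)
    (hxA : x ∈ A) (hxB : x ∈ B) (hxiA : x⁻¹ ∈ A) (hyiB : y⁻¹ ∈ B)
    (hx0 : x ≠ 0) (hy0 : y ≠ 0)
    (hAB : ∀ a ∈ A, ∃ n : ℕ, a * x ^ n ∈ B)
    (hK : ∀ k : K, ∃ n : ℕ, k * y ^ n ∈ A) :
    IsOpenImmersion (Spec.map (CommRingCat.ofHom (Subring.inclusion (inf_le_left : A ⊓ B ≤ A)))) ∧
    IsOpenImmersion (Spec.map (CommRingCat.ofHom (Subring.inclusion (inf_le_right : A ⊓ B ≤ B)))) ∧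
    Set.range (Spec.map (CommRingCat.ofHom (Subring.inclusion (inf_le_left : A ⊓ B ≤ A)))).base ∪
      Set.range (Spec.map (CommRingCat.ofHom (Subring.inclusion (inf_le_right : A ⊓ B ≤ B)))).base
        = Set.univ ∧
    IsPushout (CommRingCat.ofHom (Subring.inclusion (inf_le_left : A ⊓ B ≤ A)))
      (CommRingCat.ofHom (Subring.inclusion (inf_le_right : A ⊓ B ≤ B)))
      (CommRingCat.ofHom A.subtype) (CommRingCat.ofHom B.subtype) := by
  have hy : y = 1 - x := by rw [← hxy]; ring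
  have hyA : y ∈ A := by rw [hy]; exact A.sub_mem A.one_mem hxA
  have hyB : y ∈ B := by rw [hy]; exact B.sub_mem B.one_mem hxB
  have hBA : ∀ b ∈ B, ∃ n : ℕ, b * y ^ n ∈ A := fun b _ => hK b
  let _ : Algebra (A ⊓ B : Subring K) A := (Subring.inclusion (inf_le_left : A ⊓ B ≤ A)).toAlgebra
  let _ : Algebra (A ⊓ B : Subring K) B := (Subring.inclusion (inf_le_right : A ⊓ B ≤ B)).toAlgebra
  let _ : Algebra A K := A.subtype.toAlgebra
  have h1 : IsLocalization.Away (⟨x, ⟨hxA, hxB⟩⟩ : (A ⊓ B : Subring K)) A :=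
    isLocalization_away_left A B x hxA hxB hxiA hx0 hAB
  have h2 : IsLocalization.Away (⟨y, ⟨hyA, hyB⟩⟩ : (A ⊓ B : Subring K)) B :=
    isLocalization_away_right A B y hyA hyB hyiB hy0 hBA
  have h3 : IsLocalization.Away (⟨y, hyA⟩ : A) K := isLocalization_away_field A y hyA hy0 hK
  refine ⟨?_, ?_, ?_, ?_⟩
  · exact IsOpenImmersion.of_isLocalization (R := (A ⊓ B : Subring K)) (S := A) ⟨x, ⟨hxA, hxB⟩⟩
  · exact IsOpenImmersion.of_isLocalization (R := (A ⊓ B : Subring K)) (S := B) ⟨y, ⟨hyA, hyB⟩⟩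
  · rw [Set.eq_univ_iff_forall]
    intro p
    have e1 : Set.range (PrimeSpectrum.comap (algebraMap (A ⊓ B : Subring K) A)) =
        (PrimeSpectrum.basicOpen (⟨x, ⟨hxA, hxB⟩⟩ : (A ⊓ B : Subring K)) : Set _) :=
      PrimeSpectrum.localization_away_comap_range A (⟨x, ⟨hxA, hxB⟩⟩ : (A ⊓ B : Subring K))
    have e2 : Set.range (PrimeSpectrum.comap (algebraMap (A ⊓ B : Subring K) B)) =
        (PrimeSpectrum.basicOpen (⟨y, ⟨hyA, hyB⟩⟩ : (A ⊓ B : Subring K)) : Set _) :=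
      PrimeSpectrum.localization_away_comap_range B (⟨y, ⟨hyA, hyB⟩⟩ : (A ⊓ B : Subring K))
    let p' : PrimeSpectrum (A ⊓ B : Subring K) := p
    by_cases hp : (⟨x, ⟨hxA, hxB⟩⟩ : (A ⊓ B : Subring K)) ∈ p'.asIdeal
    · right
      have hyp : (⟨y, ⟨hyA, hyB⟩⟩ : (A ⊓ B : Subring K)) ∉ p'.asIdeal := by
        intro hyp
        have h1' : (1 : (A ⊓ B : Subring K)) ∈ p'.asIdeal := by
          have : (1 : (A ⊓ B : Subring K)) = ⟨x, ⟨hxA, hxB⟩⟩ + ⟨y, ⟨hyA, hyB⟩⟩ := by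
            apply Subtype.ext
            simp [hxy]
          rw [this]
          exact p'.asIdeal.add_mem hp hyp
        exact p'.2.ne_top ((Ideal.eq_top_iff_one _).2 h1')
      have : p' ∈ Set.range (PrimeSpectrum.comap (algebraMap (A ⊓ B : Subring K) B)) := by
        rw [e2]; exact hyp
      obtain ⟨q, hq⟩ := this
      exact ⟨q, hq⟩
    · left
      have : p' ∈ Set.range (PrimeSpectrum.comap (algebraMap (A ⊓ B : Subring K) A)) := by
        rw [e1]; exact hp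
      obtain ⟨q, hq⟩ := this
      exact ⟨q, hq⟩
  · have hM : IsLocalization ((Submonoid.powers (⟨y, ⟨hyA, hyB⟩⟩ : (A ⊓ B : Subring K))).map
        (Subring.inclusion (inf_le_left : A ⊓ B ≤ A))) K := by
      have : (Submonoid.powers (⟨y, ⟨hyA, hyB⟩⟩ : (A ⊓ B : Subring K))).map
        (Subring.inclusion (inf_le_left : A ⊓ B ≤ A)) = Submonoid.powers (⟨y, hyA⟩ : A) := by
        rw [Submonoid.map_powers]
        rfl
      rw [this]
      exact h3
    exact CommRingCat.isPushout_of_isLocalization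
      (Subring.inclusion (inf_le_left : A ⊓ B ≤ A)) B.subtype (by ext; rfl)
      (Submonoid.powers (⟨y, ⟨hyA, hyB⟩⟩ : (A ⊓ B : Subring K)))

end Groth.Agent.Helper5.Glue
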