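import Mathlib

set_option autoImplicit false
universe u
open CategoryTheory CategoryTheory.Limits AlgebraicGeometry

namespace Groth.Agent.Helper5.Glue

section Q2
variable {R : Type*} [CommRing R] [IsDomain R] {K : Type*} [Field K] [Algebra R K]
  [IsFractionRing R K]

/-- In a one-dimensional domain, a nonzero element of the Jacobson radical has `R[1/y] = K`. -/
theorem exists_pow_mul_eq (hdim : ringKrullDim R ≤ 1) (y : R)
    (hy : y ∈ Ideal.jacobson (⊥ : Ideal R)) (k : K) :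
    ∃ (n : ℕ) (r : R), k * algebraMap R K y ^ n = algebraMap R K r := by
  have hKD : Ring.KrullDimLE 1 R := Ring.krullDimLE_iff.2 hdim
  obtain ⟨p, q, hq, rfl⟩ := IsFractionRing.div_surjective (A := R) k
  have hq0 : (q : R) ≠ 0 := nonZeroDivisors.ne_zero hq
  have hrad : y ∈ (Ideal.span {q}).radical := by
    rw [Ideal.radical_eq_sInf, Ideal.mem_sInf]
    rintro P ⟨hqP, hP⟩
    have hPbot : P ≠ ⊥ := by
      intro h
      have : q ∈ P := hqP (Ideal.mem_span_singleton_self q)
      rw [h, Ideal.mem_bot] at this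
      exact hq0 this
    have hPmax : P.IsMaximal :=
      (Ring.krullDimLE_one_iff_of_noZeroDivisors.1 hKD) P hPbot hP
    exact (sInf_le (show P ∈ {J : Ideal R | ⊥ ≤ J ∧ J.IsMaximal} from ⟨bot_le, hPmax⟩) :
      Ideal.jacobson ⊥ ≤ P) hy
  obtain ⟨n, hn⟩ := hrad
  obtain ⟨c, hc⟩ := Ideal.mem_span_singleton'.1 hn
  refine ⟨n, p * c, ?_⟩
  have hqK : algebraMap R K q ≠ 0 := by
    simpa using (IsFractionRing.injective R K).ne hq0
  rw [← map_pow, ← hc, map_mul, map_mul]
  field_simp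

end Q2

section J1
variable {R : Type*} [CommRing R] [IsDomain R]

theorem exists_ne_zero_mem_jacobson (hdim : ringKrullDim R = 1) (hsl : Finite (MaximalSpectrum R)) :
    ∃ z : R, z ∈ Ideal.jacobson (⊥ : Ideal R) ∧ z ≠ 0 := by
  classical
  have hnf : ¬ IsField R := by
    intro h
    have := ringKrullDim_eq_zero_of_isField h
    rw [hdim] at this
    exact one_ne_zero this
  have : Fintype (MaximalSpectrum R) := Fintype.ofFinite _
  have hex : ∀ m : MaximalSpectrum R, ∃ t : R, t ∈ m.asIdeal ∧ t ≠ 0 := by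
    intro m
    have hbot : m.asIdeal ≠ ⊥ := Ring.ne_bot_of_isMaximal_of_not_isField m.2 hnf
    obtain ⟨t, ht, ht0⟩ := Submodule.exists_mem_ne_zero_of_ne_bot hbot
    exact ⟨t, ht, ht0⟩
  choose t ht ht0 using hex
  refine ⟨∏ m, t m, ?_, Finset.prod_ne_zero_iff.2 fun m _ => ht0 m⟩
  rw [Ideal.jacobson, Ideal.mem_sInf]
  rintro P ⟨-, hP⟩
  have : t ⟨P, hP⟩ ∣ ∏ m, t m := Finset.dvd_prod_of_mem t (Finset.mem_univ _)
  exact Ideal.mem_of_dvd _ this (ht ⟨P, hP⟩)

end J1

end Groth.Agent.Helper5.Glue
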