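import Mathlib
import Groth.Agent.Helper5.Glue2

set_option autoImplicit false
universe u
open CategoryTheory CategoryTheory.Limits AlgebraicGeometry

namespace Groth.Agent.Helper5.Glue

variable {K : Type u} [Field K]

/-- Archimedean property of the valuation of a discrete valuation subring. -/
theorem arch (O : ValuationSubring K) [IsDiscreteValuationRing O] (t k : K)
    (ht : O.valuation t < 1) (ht0 : t ≠ 0) (hk : k ≠ 0) :
    ∃ n : ℕ, ∀ m, n ≤ m → O.valuation t ^ m < O.valuation k := by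
  have htO : t ∈ O := (O.valuation_le_one_iff t).1 ht.le
  have hmax : (⟨t, htO⟩ : O) ∈ IsLocalRing.maximalIdeal O := (O.valuation_lt_one_iff ⟨t, htO⟩).2 ht
  have hjac : (⟨t, htO⟩ : O) ∈ Ideal.jacobson (⊥ : Ideal O) := by
    rw [IsLocalRing.jacobson_eq_maximalIdeal ⊥ bot_ne_top]; exact hmax
  have hdim : ringKrullDim O ≤ 1 := Ring.krullDimLE_iff.1 inferInstance
  obtain ⟨n, r, hr⟩ := exists_pow_mul_eq (R := O) (K := K) hdim ⟨t, htO⟩ hjac k⁻¹
  have hvt0 : O.valuation t ≠ 0 := (Valuation.ne_zero_iff _).2 ht0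
  have hvk0 : O.valuation k ≠ 0 := (Valuation.ne_zero_iff _).2 hk
  have h1 : O.valuation t ^ n ≤ O.valuation k := by
    have h2 : O.valuation (k⁻¹ * t ^ n) ≤ 1 := by
      have : k⁻¹ * t ^ n = (r : K) := hr
      rw [this]
      exact O.valuation_le_one r
    rw [map_mul, map_inv₀, map_pow] at h2
    rwa [inv_mul_le_iff₀ (zero_lt_iff.2 hvk0), mul_one] at h2
  refine ⟨n + 1, fun m hm => ?_⟩
  have h3 : O.valuation t ^ m ≤ O.valuation t ^ (n + 1) := pow_le_pow_right_of_le_one' ht.le hm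
  have h4 : O.valuation t ^ (n + 1) < O.valuation t ^ n := by
    rw [pow_succ]
    calc O.valuation t ^ n * O.valuation t < O.valuation t ^ n * 1 := by
          exact mul_lt_mul_of_pos_left ht (zero_lt_iff.2 (pow_ne_zero n hvt0))
      _ = O.valuation t ^ n := mul_one _
  exact lt_of_le_of_lt h3 (lt_of_lt_of_le h4 h1)


theorem inv_mem_of_isUnit {A : Subring K} {u : A} (h : IsUnit u) : ((u : K))⁻¹ ∈ A := by
  obtain ⟨⟨u, v, huv, hvu⟩, rfl⟩ := h
  have h1 : (u : K) * (v : K) = 1 := congrArg Subtype.val huv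
  have : ((u : K))⁻¹ = (v : K) := (eq_inv_of_mul_eq_one_right h1).symm
  simp only [this, SetLike.coe_mem]

theorem isUnit_of_inv_mem {A : Subring K} {u : A} (h0 : (u : K) ≠ 0) (h : ((u : K))⁻¹ ∈ A) :
    IsUnit u := by
  refine ⟨⟨u, ⟨_, h⟩, ?_, ?_⟩, rfl⟩
  · apply Subtype.ext; simp [mul_inv_cancel₀ h0]
  · apply Subtype.ext; simp [inv_mul_cancel₀ h0]

/-- The `ψ`-construction: from a unit `x₀` of `A` with positive valuations, produce an element
`X ∈ 1 + J(A)` with positive valuations. -/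
theorem exists_psi (A : Subring K) (z : A) (hz : z ∈ Ideal.jacobson (⊥ : Ideal A)) (hz0 : z ≠ 0)
    (x₀ : K) (hx₀ : x₀ ∈ A) (hx₀i : x₀⁻¹ ∈ A) (hx₀0 : x₀ ≠ 0)
    (s : Finset (ValuationSubring K)) (hs : ∀ O ∈ s, IsDiscreteValuationRing O)
    (hv : ∀ O ∈ s, O.valuation x₀ < 1) :
    ∃ (X : K) (j : A), X ∈ A ∧ X⁻¹ ∈ A ∧ X ≠ 0 ∧ j ∈ Ideal.jacobson (⊥ : Ideal A) ∧
      (j : K) = 1 - X ∧ ∀ O ∈ s, O.valuation X < 1 := by
  classical
  have hzK : (z : K) ≠ 0 := fun h => hz0 (Subtype.ext h)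
  have hN : ∃ N : ℕ, ∀ O ∈ s, O.valuation x₀ ^ N < O.valuation (z : K) := by
    have : ∀ O ∈ s, ∃ n : ℕ, ∀ m, n ≤ m → O.valuation x₀ ^ m < O.valuation (z : K) := by
      intro O hO
      have := hs O hO
      exact arch O x₀ z (hv O hO) hx₀0 hzK
    choose! n hn using this
    exact ⟨s.sup n, fun O hO => hn O hO _ (Finset.le_sup hO)⟩
  obtain ⟨N, hN⟩ := hN
  -- the unit `1 + z * x₀⁻ᴺ`
  have hu : IsUnit (z * (⟨x₀⁻¹, hx₀i⟩ : A) ^ N + 1) := Ideal.mem_jacobson_bot.1 hz _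
  have hui := inv_mem_of_isUnit hu
  have hval : ((z * (⟨x₀⁻¹, hx₀i⟩ : A) ^ N + 1 : A) : K) = ((z : K) + x₀ ^ N) / x₀ ^ N := by
    have : x₀ ^ N ≠ 0 := pow_ne_zero N hx₀0
    simp only [Subring.coe_add, Subring.coe_mul, Subring.coe_pow, Subring.coe_one]
    rw [eq_div_iff this, add_mul, one_mul, mul_assoc, ← mul_pow, inv_mul_cancel₀ hx₀0, one_pow,
      mul_one]
  rw [hval] at hui
  have hD0 : (z : K) + x₀ ^ N ≠ 0 := by
    intro h
    have h1 : ((z * (⟨x₀⁻¹, hx₀i⟩ : A) ^ N + 1 : A) : K) = 0 := by rw [hval, h, zero_div]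
    exact hu.ne_zero (Subtype.ext h1)
  have hxN : x₀ ^ N ≠ 0 := pow_ne_zero N hx₀0
  have hDi : ((z : K) + x₀ ^ N)⁻¹ ∈ A := by
    have : ((z : K) + x₀ ^ N)⁻¹ = (((z : K) + x₀ ^ N) / x₀ ^ N)⁻¹ * (x₀⁻¹) ^ N := by
      rw [inv_div, div_mul_eq_mul_div, ← mul_pow, mul_inv_cancel₀ hx₀0, one_pow, one_div]
    rw [this]
    exact A.mul_mem hui (A.pow_mem hx₀i N)
  refine ⟨x₀ ^ N / ((z : K) + x₀ ^ N), z * ⟨_, hDi⟩, ?_, ?_, ?_, ?_, ?_, ?_⟩
  · rw [div_eq_mul_inv]; exact A.mul_mem (A.pow_mem hx₀ N) hDi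
  · rw [inv_div, div_eq_mul_inv, ← inv_pow]
    exact A.mul_mem (A.add_mem z.2 (A.pow_mem hx₀ N)) (A.pow_mem hx₀i N)
  · exact div_ne_zero hxN hD0
  · exact Ideal.mul_mem_right _ _ hz
  · simp only [Subring.coe_mul]
    field_simp
    ring
  · intro O hO
    have h1 := hN O hO
    have h2 : O.valuation ((z : K) + x₀ ^ N) = O.valuation (z : K) := by
      apply Valuation.map_add_eq_of_lt_left
      rwa [map_pow]
    rw [map_div₀, h2, map_pow]
    have hvz : O.valuation (z : K) ≠ 0 := (Valuation.ne_zero_iff _).2 hzK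
    rwa [div_lt_one₀ (zero_lt_iff.2 hvz)]

end Groth.Agent.Helper5.Glue
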