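import Mathlib
import Groth.Agent.Helper5.Glue3

set_option autoImplicit false
universe u
open CategoryTheory CategoryTheory.Limits AlgebraicGeometry

namespace Groth.Agent.Helper5.Glue

variable {K : Type u} [Field K]

/-- If `A ⊄ O` then some element of `J(A)` has valuation `> 1`. -/
theorem exists_jac_val_gt (A : Subring K) (z : A) (hz : z ∈ Ideal.jacobson (⊥ : Ideal A))
    (hz0 : z ≠ 0) (O : ValuationSubring K) [IsDiscreteValuationRing O]
    (hA : ¬ A ≤ O.toSubring) :
    ∃ α : A, α ∈ Ideal.jacobson (⊥ : Ideal A) ∧ 1 < O.valuation (α : K) := by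
  by_contra h
  push Not at h
  apply hA
  intro a ha
  rw [ValuationSubring.mem_toSubring, ← ValuationSubring.valuation_le_one_iff]
  by_contra hlt
  rw [not_le] at hlt
  have ha0 : a ≠ 0 := by
    rintro rfl
    simp at hlt
  have hzK : (z : K) ≠ 0 := fun h => hz0 (Subtype.ext h)
  have hva0 : 0 < O.valuation a := lt_trans zero_lt_one hlt
  have hvt : O.valuation a⁻¹ < 1 := by
    rw [map_inv₀, inv_lt_one₀ hva0]; exact hlt
  obtain ⟨n, hn⟩ := arch O a⁻¹ z hvt (inv_ne_zero ha0) hzK
  have h1 := hn n le_rfl
  have h2 := h ((⟨a, ha⟩ : A) ^ n * z) (Ideal.mul_mem_left _ _ hz)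
  simp only [Subring.coe_mul, Subring.coe_pow, map_mul, map_pow] at h2
  rw [map_inv₀, inv_pow] at h1
  have h3 : 1 < O.valuation a ^ n * O.valuation (z : K) := by
    have hpos : 0 < O.valuation a ^ n := pow_pos hva0 n
    rw [inv_lt_iff_one_lt_mul₀' hpos] at h1
    exact h1
  exact absurd h2 (not_le.2 h3)

/-- Combine elements of `J(A)` with big valuation at each of finitely many DVRs into one. -/
theorem exists_jac_val_gt_all (A : Subring K) (s : Finset (ValuationSubring K))
    (hs : ∀ O ∈ s, IsDiscreteValuationRing O)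
    (h : ∀ O ∈ s, ∃ α : A, α ∈ Ideal.jacobson (⊥ : Ideal A) ∧ 1 < O.valuation (α : K)) :
    ∃ α : A, α ∈ Ideal.jacobson (⊥ : Ideal A) ∧ ∀ O ∈ s, 1 < O.valuation (α : K) := by
  classical
  induction s using Finset.induction_on with
  | empty => exact ⟨0, Ideal.zero_mem _, by simp⟩
  | insert O s' hO ih =>
    obtain ⟨α, hα, hαv⟩ := ih (fun O' hO' => hs O' (Finset.mem_insert_of_mem hO'))
      (fun O' hO' => h O' (Finset.mem_insert_of_mem hO'))
    obtain ⟨β, hβ, hβv⟩ := h O (Finset.mem_insert_self O s')
    by_cases hαO : 1 < O.valuation (α : K)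
    · refine ⟨α, hα, fun O' hO' => ?_⟩
      rcases Finset.mem_insert.1 hO' with rfl | hO'
      · exact hαO
      · exact hαv O' hO'
    · rw [not_lt] at hαO
      have hβ0 : (β : K) ≠ 0 := by
        intro h0
        rw [h0, map_zero] at hβv
        exact not_lt.2 zero_le_one hβv
      have hN : ∃ N : ℕ, ∀ O' ∈ s', 1 < O'.valuation (β : K) →
          O'.valuation (α : K) < O'.valuation (β : K) ^ N := by
        have : ∀ O' ∈ s', ∃ n : ℕ, ∀ m, n ≤ m → 1 < O'.valuation (β : K) →
            O'.valuation (α : K) < O'.valuation (β : K) ^ m := by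
          intro O' hO'
          have := hs O' (Finset.mem_insert_of_mem hO')
          by_cases hb : 1 < O'.valuation (β : K)
          · have hα0 : (α : K) ≠ 0 := by
              intro h0
              have := hαv O' hO'
              rw [h0, map_zero] at this
              exact not_lt.2 zero_le_one this
            have hvb0 : 0 < O'.valuation (β : K) := lt_trans zero_lt_one hb
            have hvt : O'.valuation (β : K)⁻¹ < 1 := by
              rw [map_inv₀, inv_lt_one₀ hvb0]; exact hb
            obtain ⟨n, hn⟩ := arch O' (β : K)⁻¹ (α : K)⁻¹ hvt (inv_ne_zero hβ0) (inv_ne_zero hα0)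
            refine ⟨n, fun m hm _ => ?_⟩
            have := hn m hm
            rw [map_inv₀, map_inv₀, inv_pow] at this
            have hva0 : 0 < O'.valuation (α : K) := lt_trans zero_lt_one (hαv O' hO')
            rwa [inv_lt_inv₀ (pow_pos hvb0 m) hva0] at this
          · exact ⟨0, fun m _ hb' => absurd hb' hb⟩
        choose! n hn using this
        exact ⟨s'.sup n, fun O' hO' hb => hn O' hO' _ (Finset.le_sup hO') hb⟩
      obtain ⟨N, hN⟩ := hN
      refine ⟨α + β ^ (N + 1), Ideal.add_mem _ hα (Ideal.pow_mem_of_mem _ hβ _ (Nat.succ_pos N)),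
        fun O' hO' => ?_⟩
      simp only [Subring.coe_add, Subring.coe_pow]
      rcases Finset.mem_insert.1 hO' with rfl | hO'
      · have h1 : 1 < O'.valuation (β : K) ^ (N + 1) := one_lt_pow₀ hβv (Nat.succ_ne_zero N)
        have h2 : O'.valuation (α : K) < O'.valuation ((β : K) ^ (N + 1)) := by
          rw [map_pow]; exact lt_of_le_of_lt hαO h1
        rw [Valuation.map_add_eq_of_lt_right _ h2, map_pow]
        exact h1
      · by_cases hb : 1 < O'.valuation (β : K)
        · have h1 : O'.valuation (α : K) < O'.valuation (β : K) ^ (N + 1) := by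
            have h2 := hN O' hO' hb
            have hvb0 : 0 < O'.valuation (β : K) := lt_trans zero_lt_one hb
            calc O'.valuation (α : K) < O'.valuation (β : K) ^ N := h2
              _ ≤ O'.valuation (β : K) ^ (N + 1) :=
                pow_le_pow_right₀ hb.le (Nat.le_succ N)
          have h2 : O'.valuation (α : K) < O'.valuation ((β : K) ^ (N + 1)) := by
            rw [map_pow]; exact h1
          rw [Valuation.map_add_eq_of_lt_right _ h2, map_pow]
          exact lt_trans (hαv O' hO') h1
        · rw [not_lt] at hb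
          have h1 : O'.valuation ((β : K) ^ (N + 1)) < O'.valuation (α : K) := by
            rw [map_pow]
            exact lt_of_le_of_lt (pow_le_one₀ zero_le hb) (hαv O' hO')
          rw [Valuation.map_add_eq_of_lt_left _ h1]
          exact hαv O' hO'

end Groth.Agent.Helper5.Glue
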