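import Mathlib
import Groth.Agent.Helper5.Glue4

set_option autoImplicit false
universe u
open CategoryTheory CategoryTheory.Limits AlgebraicGeometry

namespace Groth.Agent.Helper5.Glue

variable {K : Type u} [Field K]

/-- Key lemma for a finite family of DVRs none of which contains `A`. -/
theorem exists_key (A : Subring K) (hdim : ringKrullDim A = 1)
    (hsl : Finite (MaximalSpectrum A))
    (s : Finset (ValuationSubring K)) (hs : ∀ O ∈ s, IsDiscreteValuationRing O)
    (hA : ∀ O ∈ s, ¬ A ≤ O.toSubring) :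
    ∃ (X : K) (j : A), X ∈ A ∧ X⁻¹ ∈ A ∧ X ≠ 0 ∧ j ∈ Ideal.jacobson (⊥ : Ideal A) ∧
      (j : K) = 1 - X ∧ ∀ O ∈ s, O.valuation X < 1 := by
  obtain ⟨z, hz, hz0⟩ := exists_ne_zero_mem_jacobson hdim hsl
  have h1 : ∀ O ∈ s, ∃ α : A, α ∈ Ideal.jacobson (⊥ : Ideal A) ∧ 1 < O.valuation (α : K) := by
    intro O hO
    have := hs O hO
    exact exists_jac_val_gt A z hz hz0 O (hA O hO)
  obtain ⟨α, hα, hαv⟩ := exists_jac_val_gt_all A s hs h1
  have hu : IsUnit (α * 1 + 1) := Ideal.mem_jacobson_bot.1 hα 1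
  have hui := inv_mem_of_isUnit hu
  have hu0 : ((α * 1 + 1 : A) : K) ≠ 0 := fun h => hu.ne_zero (Subtype.ext h)
  refine exists_psi A z hz hz0 ((α * 1 + 1 : A) : K)⁻¹ hui ?_ (inv_ne_zero hu0) s hs ?_
  · rw [inv_inv]; exact (α * 1 + 1 : A).2
  · intro O hO
    have h2 : O.valuation ((α * 1 + 1 : A) : K) = O.valuation (α : K) := by
      simp only [mul_one, Subring.coe_add, Subring.coe_one]
      apply Valuation.map_add_eq_of_lt_left
      rw [map_one]; exact hαv O hO
    rw [map_inv₀, h2, inv_lt_one₀ (lt_trans zero_lt_one (hαv O hO))]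
    exact hαv O hO

/-- Gluing a one-dimensional semilocal domain with a DVR not containing it. -/
theorem glue_dvr (A : Subring K) [IsFractionRing A K] (hdim : ringKrullDim A = 1)
    (hsl : Finite (MaximalSpectrum A)) (B : ValuationSubring K) [IsDiscreteValuationRing B]
    (hAB : ¬ A ≤ B.toSubring) :
    ∃ x y : K, x + y = 1 ∧ x ∈ A ∧ x ∈ B.toSubring ∧ x⁻¹ ∈ A ∧ y⁻¹ ∈ B.toSubring ∧ x ≠ 0 ∧ y ≠ 0 ∧
      (∀ a ∈ A, ∃ n : ℕ, a * x ^ n ∈ B.toSubring) ∧ (∀ k : K, ∃ n : ℕ, k * y ^ n ∈ A) := by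
  classical
  obtain ⟨X, j, hXA, hXi, hX0, hj, hjX, hXv⟩ := exists_key A hdim hsl {B}
    (by intro O hO; rw [Finset.mem_singleton] at hO; subst hO; infer_instance)
    (by intro O hO; rw [Finset.mem_singleton] at hO; subst hO; exact hAB)
  have hXB : B.valuation X < 1 := hXv B (Finset.mem_singleton_self B)
  have hy1 : B.valuation (1 - X) = 1 := Valuation.map_one_sub_of_lt _ hXB
  have hy0 : (1 - X) ≠ 0 := by
    intro h
    rw [h, map_zero] at hy1
    exact zero_ne_one hy1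
  refine ⟨X, 1 - X, by ring, hXA, ?_, hXi, ?_, hX0, hy0, ?_, ?_⟩
  · exact (B.valuation_le_one_iff X).1 hXB.le
  · rw [ValuationSubring.mem_toSubring, ← B.valuation_le_one_iff, map_inv₀, hy1, inv_one]
  · intro a ha
    by_cases ha0 : a = 0
    · exact ⟨0, by rw [ha0, zero_mul]; exact B.toSubring.zero_mem⟩
    · obtain ⟨n, hn⟩ := arch B X a⁻¹ hXB hX0 (inv_ne_zero ha0)
      refine ⟨n, ?_⟩
      rw [ValuationSubring.mem_toSubring, ← B.valuation_le_one_iff, map_mul, map_pow]
      have := hn n le_rfl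
      rw [map_inv₀] at this
      have hva0 : 0 < B.valuation a := zero_lt_iff.2 ((Valuation.ne_zero_iff _).2 ha0)
      have h3 : B.valuation a * B.valuation X ^ n < B.valuation a * (B.valuation a)⁻¹ :=
        mul_lt_mul_of_pos_left this hva0
      rw [mul_inv_cancel₀ hva0.ne'] at h3
      exact h3.le
  · intro k
    have hj0 : j ≠ 0 := by
      intro h
      apply hy0
      rw [← hjX, h]; rfl
    obtain ⟨n, r, hr⟩ := exists_pow_mul_eq (R := A) (K := K) hdim.le j hj k
    refine ⟨n, ?_⟩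
    rw [← hjX]
    have : k * (j : K) ^ n = (r : K) := hr
    rw [this]
    exact r.2

end Groth.Agent.Helper5.Glue
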