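import Mathlib
import Groth.Agent.Helper5.Glue5
import Groth.Agent.Helper5.KA4

set_option autoImplicit false
universe u
open CategoryTheory CategoryTheory.Limits AlgebraicGeometry IsDedekindDomain

namespace Groth.Agent.Helper5.Glue

variable {K : Type u} [Field K]

theorem toSubring_ne_top (B : ValuationSubring K) [IsDiscreteValuationRing B] :
    B.toSubring ≠ ⊤ := by
  intro htop
  apply IsDiscreteValuationRing.not_isField B
  refine ⟨⟨0, 1, zero_ne_one⟩, mul_comm, fun {a} ha => ?_⟩
  have hmem : ((a : K))⁻¹ ∈ B := by
    rw [← ValuationSubring.mem_toSubring, htop]; trivial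
  refine ⟨⟨_, hmem⟩, ?_⟩
  apply Subtype.ext
  have ha' : (a : K) ≠ 0 := fun h => ha (Subtype.ext h)
  simp [mul_inv_cancel₀ ha']

theorem valuation_lt_one_congr {O O' : ValuationSubring K} (h : O = O') (X : K) :
    O.valuation X < 1 ↔ O'.valuation X < 1 := by
  subst h; rfl

/-- The finitely many DVRs over a one-dimensional Noetherian semilocal domain. -/
theorem exists_dvrs (B : Subring K) [IsFractionRing B K] [IsNoetherianRing B]
    (hdim : ringKrullDim B = 1) (hsl : Finite (MaximalSpectrum B)) :
    ∃ s : Finset (ValuationSubring K), (∀ O ∈ s, IsDiscreteValuationRing O) ∧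
      (∀ O ∈ s, B ≤ O.toSubring) ∧
      ∀ X : K, (∀ O ∈ s, O.valuation X < 1) →
        ∃ (M : ℕ) (j : B), 0 < M ∧ j ∈ Ideal.jacobson (⊥ : Ideal B) ∧ (j : K) = X ^ M := by
  classical
  have hKD : Ring.KrullDimLE 1 B := Ring.krullDimLE_iff.2 hdim.le
  have hinjB : Function.Injective (algebraMap B K) := IsFractionRing.injective B K
  have hD : IsDedekindDomain (integralClosure B K) :=
    KA.isDedekindDomain_integralClosure B K B hinjB
  have hinj' : Function.Injective (algebraMap (integralClosure B K) K) := Subtype.val_injective
  have hFr : IsFractionRing (integralClosure B K) K :=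
    KA.isFractionRing_of_between B K (integralClosure B K) hinj'
  have hinjBB' : Function.Injective (algebraMap B (integralClosure B K)) := by
    intro x y hxy
    apply hinjB
    have := congrArg (algebraMap (integralClosure B K) K) hxy
    rwa [← IsScalarTower.algebraMap_apply, ← IsScalarTower.algebraMap_apply] at this
  have hBnf : ¬ IsField B := by
    intro h
    have := ringKrullDim_eq_zero_of_isField h
    rw [hdim] at this
    exact one_ne_zero this
  have hDnf : ¬ IsField (integralClosure B K) := fun h =>
    hBnf (isField_of_isIntegral_of_isField hinjBB' h)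
  obtain ⟨w, hw, hw0⟩ := exists_ne_zero_mem_jacobson hdim hsl
  have hwv : ∀ v : HeightOneSpectrum (integralClosure B K),
      algebraMap B (integralClosure B K) w ∈ v.asIdeal := by
    intro v
    obtain ⟨a, ha0, ha⟩ := KA.exists_ne_zero_mem B K K (integralClosure B K) hinj' v.asIdeal v.ne_bot
    have hP : (v.asIdeal.comap (algebraMap B (integralClosure B K))).IsPrime :=
      Ideal.comap_isPrime _ _
    have hPbot : v.asIdeal.comap (algebraMap B (integralClosure B K)) ≠ ⊥ := by
      intro h
      have : a ∈ v.asIdeal.comap (algebraMap B (integralClosure B K)) := ha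
      rw [h, Ideal.mem_bot] at this
      exact ha0 this
    have hPmax := (Ring.krullDimLE_one_iff_of_noZeroDivisors.1 hKD) _ hPbot hP
    exact (sInf_le (show _ ∈ {J : Ideal B | ⊥ ≤ J ∧ J.IsMaximal} from ⟨bot_le, hPmax⟩) :
      Ideal.jacobson ⊥ ≤ _) hw
  have hfin : Finite (HeightOneSpectrum (integralClosure B K)) := by
    have hw'0 : algebraMap B (integralClosure B K) w ≠ 0 := by
      intro h
      exact hw0 (hinjBB' (by rw [h, map_zero]))
    have h1 := Ideal.finite_factors
      (I := Ideal.span {algebraMap B (integralClosure B K) w})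
      (by simpa [Ideal.span_singleton_eq_bot] using hw'0)
    have h2 : (Set.univ : Set (HeightOneSpectrum (integralClosure B K))) ⊆
        {v | v.asIdeal ∣ Ideal.span {algebraMap B (integralClosure B K) w}} := fun v _ => by
      rw [Set.mem_ofPred_eq, Ideal.dvd_iff_le, Ideal.span_singleton_le_iff_mem]
      exact hwv v
    exact Set.finite_univ_iff.1 (h1.subset h2)
  have hft : Fintype (HeightOneSpectrum (integralClosure B K)) := Fintype.ofFinite _
  refine ⟨Finset.univ.image (fun v : HeightOneSpectrum (integralClosure B K) =>
    HeightOneSpectrum.valuationSubringAtPrime K v), ?_, ?_, ?_⟩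
  · intro O hO
    obtain ⟨v, -, rfl⟩ := Finset.mem_image.1 hO
    have hloc : IsLocalization.AtPrime
        (HeightOneSpectrum.valuationSubringAtPrime K v) v.asIdeal :=
      (inferInstance : IsLocalization v.asIdeal.primeCompl
        (HeightOneSpectrum.valuationSubringAtPrime K v))
    exact IsLocalization.AtPrime.isDiscreteValuationRing_of_dedekind_domain
      (integralClosure B K) v.ne_bot _
  · intro O hO
    obtain ⟨v, -, rfl⟩ := Finset.mem_image.1 hO
    intro b hb
    have h1 : b = algebraMap (integralClosure B K) K
        (algebraMap B (integralClosure B K) ⟨b, hb⟩) := rfl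
    rw [h1, HeightOneSpectrum.valuationSubringAtPrime_toSubring]
    exact Subalgebra.algebraMap_mem _ _
  · intro X hX
    have hXv : ∀ v : HeightOneSpectrum (integralClosure B K), v.valuation K X < 1 := by
      intro v
      have h1 := hX _ (Finset.mem_image_of_mem _ (Finset.mem_univ v))
      rw [valuation_lt_one_congr
        (HeightOneSpectrum.valuationSubringAtPrime_eq_valuationSubring v)] at h1
      exact (Valuation.isEquiv_valuation_valuationSubring (v.valuation K)).lt_one_iff_lt_one.2 h1
    obtain ⟨X', hX'⟩ := HeightOneSpectrum.mem_integers_of_valuation_le_one K X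
      (fun v => (hXv v).le)
    have hX'K : (X' : K) = X := hX'
    have hX'J : X' ∈ Ideal.jacobson (⊥ : Ideal (integralClosure B K)) := by
      rw [Ideal.jacobson, Ideal.mem_sInf]
      rintro P ⟨-, hP⟩
      have hPbot : P ≠ ⊥ := Ring.ne_bot_of_isMaximal_of_not_isField hP hDnf
      have := hXv ⟨P, hP.isPrime, hPbot⟩
      rw [← hX'] at this
      exact (HeightOneSpectrum.valuation_lt_one_iff_mem (K := K) ⟨P, hP.isPrime, hPbot⟩ X').1 this
    -- the local homomorphism `B → B'`
    have hgint : (algebraMap B (integralClosure B K)).IsIntegral :=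
      algebraMap_isIntegral_iff.2 inferInstance
    have hgloc : IsLocalHom (algebraMap B (integralClosure B K)) :=
      hgint.isLocalHom hinjBB'
    -- the ring `B₁ = B[X]`
    have hXint : IsIntegral B X := by rw [← hX'K]; exact X'.2
    have h1le : Algebra.adjoin B {X} ≤ integralClosure B K :=
      Algebra.adjoin_le (by
        intro t ht
        rw [Set.mem_singleton_iff] at ht
        rw [ht]; exact hXint)
    have hfint : ((Subalgebra.inclusion h1le).toRingHom).IsIntegral := by
      apply RingHom.IsIntegral.tower_top (algebraMap B (Algebra.adjoin B {X}))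
      have : ((Subalgebra.inclusion h1le).toRingHom).comp (algebraMap B (Algebra.adjoin B {X}))
          = algebraMap B (integralClosure B K) := by
        ext b; rfl
      rw [this]; exact hgint
    have hfinj : Function.Injective ((Subalgebra.inclusion h1le).toRingHom) :=
      Subalgebra.inclusion_injective h1le
    have hfloc : IsLocalHom ((Subalgebra.inclusion h1le).toRingHom) := hfint.isLocalHom hfinj
    have hinj₁ : Function.Injective (algebraMap (Algebra.adjoin B {X}) K) := Subtype.val_injective
    have hFr₁ : IsFractionRing (Algebra.adjoin B {X}) K :=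
      KA.isFractionRing_of_between B K (Algebra.adjoin B {X}) hinj₁
    have hdim₁ : ringKrullDim (Algebra.adjoin B {X}) ≤ 1 :=
      Ring.krullDimLE_iff.1 (Ring.krullDimLE_one_iff_of_noZeroDivisors.2 fun P hP hPp =>
        KA.isMaximal_of_ne_bot B K K (Algebra.adjoin B {X}) hinj₁ P hP)
    let X₁ : Algebra.adjoin B {X} := ⟨X, Algebra.subset_adjoin (Set.mem_singleton X)⟩
    have hfX₁ : (Subalgebra.inclusion h1le).toRingHom X₁ = X' := Subtype.ext hX'K.symm
    have hX₁J : X₁ ∈ Ideal.jacobson (⊥ : Ideal (Algebra.adjoin B {X})) := by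
      rw [Ideal.mem_jacobson_bot]
      intro c
      rw [← isUnit_map_iff ((Subalgebra.inclusion h1le).toRingHom), map_add, map_mul, map_one, hfX₁]
      exact Ideal.mem_jacobson_bot.1 hX'J _
    -- a common denominator
    obtain ⟨t, ht⟩ := hXint.fg_adjoin_singleton
    obtain ⟨d, hd⟩ := IsLocalization.exist_integer_multiples_of_finset (nonZeroDivisors B) t
    have hd0 : ((d : B) : K) ≠ 0 := fun h => nonZeroDivisors.ne_zero d.2 (Subtype.ext h)
    have hdB' : ∀ c ∈ Submodule.span B (t : Set K), ((d : B) : K) * c ∈ B := by
      intro c hc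
      induction hc using Submodule.span_induction with
      | mem x hx =>
        obtain ⟨b, hb⟩ := hd x hx
        have : ((d : B) : K) * x = (b : K) := by
          rw [show ((d : B) : K) * x = (d : B) • x from rfl, ← hb]; rfl
        rw [this]; exact b.2
      | zero => rw [mul_zero]; exact B.zero_mem
      | add x y _ _ hx hy =>
        rw [mul_add]
        exact B.add_mem hx hy
      | smul a x _ hx =>
        have : ((d : B) : K) * (a • x) = (a : K) * (((d : B) : K) * x) := by
          rw [show a • x = (a : K) * x from rfl]; ring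
        rw [this]
        exact B.mul_mem a.2 hx
    have hdB : ∀ c ∈ Algebra.adjoin B {X}, ((d : B) : K) * c ∈ B := by
      intro c hc
      apply hdB'
      rw [ht]; exact hc
    obtain ⟨n, r, hr⟩ := exists_pow_mul_eq (R := Algebra.adjoin B {X}) (K := K) hdim₁ X₁ hX₁J
      (((d : B) : K))⁻¹
    have hr' : (((d : B) : K))⁻¹ * X ^ n = (r : K) := hr
    have hXn : X ^ (n + 1) = ((d : B) : K) * ((r * X₁ : Algebra.adjoin B {X}) : K) := by
      have : ((r * X₁ : Algebra.adjoin B {X}) : K) = (r : K) * X := rfl
      rw [this, ← hr', pow_succ]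
      field_simp
    have hXnB : X ^ (n + 1) ∈ B := by
      rw [hXn]; exact hdB _ (r * X₁).2
    refine ⟨n + 1, ⟨X ^ (n + 1), hXnB⟩, Nat.succ_pos n, ?_, rfl⟩
    rw [Ideal.mem_jacobson_bot]
    intro b
    rw [← isUnit_map_iff (algebraMap B (integralClosure B K)), map_add, map_mul, map_one]
    have : algebraMap B (integralClosure B K) ⟨X ^ (n + 1), hXnB⟩ = X' ^ (n + 1) := by
      apply Subtype.ext
      simp only [SubmonoidClass.coe_pow, hX'K]
      rfl
    rw [this]
    exact Ideal.mem_jacobson_bot.1 (Ideal.pow_mem_of_mem _ hX'J _ (Nat.succ_pos n)) _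

end Groth.Agent.Helper5.Glue
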