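import Mathlib
import Groth.Agent.Helper5.Glue6

set_option autoImplicit false
universe u
open CategoryTheory CategoryTheory.Limits AlgebraicGeometry IsDedekindDomain

namespace Groth.Agent.Helper5.Glue

variable {K : Type u} [Field K]

/-- The partition of unity gluing two one-dimensional Noetherian semilocal subrings of `K`
generating `K`. -/
theorem exists_glue (A B : Subring K) [IsFractionRing A K] [IsFractionRing B K]
    [IsNoetherianRing B]
    (hdimA : ringKrullDim A = 1) (hdimB : ringKrullDim B = 1)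
    (hslA : Finite (MaximalSpectrum A)) (hslB : Finite (MaximalSpectrum B)) (hgen : A ⊔ B = ⊤) :
    ∃ (x y : K) (jA : A) (jB : B), x + y = 1 ∧ (jA : K) = y ∧ (jB : K) = x ∧
      jA ∈ Ideal.jacobson (⊥ : Ideal A) ∧ jB ∈ Ideal.jacobson (⊥ : Ideal B) ∧
      x ∈ A ∧ x ∈ B ∧ x⁻¹ ∈ A ∧ y⁻¹ ∈ B ∧ x ≠ 0 ∧ y ≠ 0 ∧
      (∀ a ∈ A, ∃ n : ℕ, a * x ^ n ∈ B) ∧ (∀ k : K, ∃ n : ℕ, k * y ^ n ∈ A) := by
  classical
  obtain ⟨s, hs, hsB, hsX⟩ := exists_dvrs B hdimB hslB
  have hsA : ∀ O ∈ s, ¬ A ≤ O.toSubring := by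
    intro O hO hAO
    have := hs O hO
    apply toSubring_ne_top O
    rw [eq_top_iff, ← hgen]
    exact sup_le hAO (hsB O hO)
  obtain ⟨X, jA, hXA, hXiA, hX0, hjA, hjAX, hXv⟩ := exists_key A hdimA hslA s hs hsA
  obtain ⟨M, jB, hM, hjB, hjBX⟩ := hsX X hXv
  -- `1 - X ^ M = (1 - X) * (1 + X + ... + X ^ (M - 1))`
  let g : A := ∑ i ∈ Finset.range M, (⟨X, hXA⟩ : A) ^ i
  have hgeom : ((jA * g : A) : K) = 1 - X ^ M := by
    have h1 : ((g : A) : K) = ∑ i ∈ Finset.range M, X ^ i := by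
      simp only [g, AddSubmonoidClass.coe_finsetSum, Subring.coe_pow]
    rw [Subring.coe_mul, h1, hjAX]
    have := geom_sum_mul X M
    linear_combination -this
  have hjAg : jA * g ∈ Ideal.jacobson (⊥ : Ideal A) := Ideal.mul_mem_right _ _ hjA
  have huB : IsUnit (jB * (-1) + 1) := Ideal.mem_jacobson_bot.1 hjB (-1)
  have huBK : ((jB * (-1) + 1 : B) : K) = 1 - X ^ M := by
    simp only [Subring.coe_add, Subring.coe_mul, Subring.coe_neg, Subring.coe_one, hjBX]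
    ring
  have hy0 : (1 - X ^ M) ≠ 0 := by
    rw [← huBK]
    exact fun h => huB.ne_zero (Subtype.ext h)
  refine ⟨X ^ M, 1 - X ^ M, jA * g, jB, by ring, hgeom, hjBX, hjAg, hjB, A.pow_mem hXA M, ?_, ?_, ?_,
    pow_ne_zero M hX0, hy0, ?_, ?_⟩
  · rw [← hjBX]; exact jB.2
  · rw [← inv_pow]; exact A.pow_mem hXiA M
  · rw [← huBK]; exact inv_mem_of_isUnit huB
  · intro a _
    obtain ⟨n, r, hr⟩ := exists_pow_mul_eq (R := B) (K := K) hdimB.le jB hjB a
    refine ⟨n, ?_⟩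
    have : a * (jB : K) ^ n = (r : K) := hr
    rw [← hjBX, this]
    exact r.2
  · intro k
    obtain ⟨n, r, hr⟩ := exists_pow_mul_eq (R := A) (K := K) hdimA.le (jA * g) hjAg k
    refine ⟨n, ?_⟩
    have : k * ((jA * g : A) : K) ^ n = (r : K) := hr
    rw [← hgeom, this]
    exact r.2

end Groth.Agent.Helper5.Glue
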