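import Mathlib
import Groth.Agent.Helper5.Glue7

set_option autoImplicit false
universe u
open CategoryTheory CategoryTheory.Limits AlgebraicGeometry IsDedekindDomain

namespace Groth.Agent.Helper5.Glue

variable {K : Type u} [Field K]

/-- `D = C[1/x]` as subrings of the field `K`. -/
structure IsAwayIn (C D : Subring K) (x : K) : Prop where
  mem : x ∈ C
  ne_zero : x ≠ 0
  le : C ≤ D
  inv_mem : x⁻¹ ∈ D
  exists_pow : ∀ a ∈ D, ∃ n : ℕ, a * x ^ n ∈ C

namespace IsAwayIn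

variable {C D E : Subring K} {x y : K}

theorem isLocalization (h : IsAwayIn C D x) :
    letI : Algebra C D := (Subring.inclusion h.le).toAlgebra
    IsLocalization.Away (⟨x, h.mem⟩ : C) D := by
  let _ : Algebra C D := (Subring.inclusion h.le).toAlgebra
  have halg : ∀ r : C, ((algebraMap C D r : D) : K) = (r : K) := fun r => rfl
  refine ⟨?_, ?_, ?_⟩
  · rintro ⟨_, n, rfl⟩
    refine ⟨⟨algebraMap C D (⟨x, h.mem⟩ ^ n), ⟨x⁻¹, h.inv_mem⟩ ^ n, ?_, ?_⟩, rfl⟩
    · apply Subtype.ext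
      simp only [map_pow, Subring.coe_mul, Subring.coe_pow, halg, Subring.coe_one]
      rw [← mul_pow, mul_inv_cancel₀ h.ne_zero, one_pow]
    · apply Subtype.ext
      simp only [map_pow, Subring.coe_mul, Subring.coe_pow, halg, Subring.coe_one]
      rw [← mul_pow, inv_mul_cancel₀ h.ne_zero, one_pow]
  · intro a
    obtain ⟨n, hn⟩ := h.exists_pow a a.2
    refine ⟨⟨⟨(a : K) * x ^ n, hn⟩, ⟨⟨x, h.mem⟩ ^ n, n, rfl⟩⟩, ?_⟩
    apply Subtype.ext
    simp only [map_pow, Subring.coe_mul, Subring.coe_pow, halg]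
  · intro r s hrs
    refine ⟨1, ?_⟩
    have : (r : K) = (s : K) := by
      have := congrArg (fun t : D => (t : K)) hrs
      simpa [halg] using this
    simp only [OneMemClass.coe_one, one_mul]
    exact Subtype.ext this

theorem exists_pow_ge (h : IsAwayIn C D x) (a : K) (ha : a ∈ D) :
    ∃ n : ℕ, ∀ m, n ≤ m → a * x ^ m ∈ C := by
  obtain ⟨n, hn⟩ := h.exists_pow a ha
  refine ⟨n, fun m hm => ?_⟩
  obtain ⟨k, rfl⟩ := Nat.exists_eq_add_of_le hm
  rw [pow_add, ← mul_assoc]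
  exact C.mul_mem hn (C.pow_mem h.mem k)

theorem refl (C : Subring K) : IsAwayIn C C 1 :=
  ⟨C.one_mem, one_ne_zero, le_rfl, by rw [inv_one]; exact C.one_mem,
    fun a ha => ⟨0, by simpa using ha⟩⟩

/-- Transitivity: `D = C[1/x]`, `E = D[1/y]` gives `E = C[1/(y x^(e+1))]`. -/
theorem trans (h₁ : IsAwayIn C D x) (h₂ : IsAwayIn D E y) :
    ∃ e : ℕ, IsAwayIn C E (y * x ^ (e + 1)) := by
  obtain ⟨e, he⟩ := h₁.exists_pow y h₂.mem
  refine ⟨e, ?_, ?_, h₁.le.trans h₂.le, ?_, ?_⟩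
  · rw [pow_succ, ← mul_assoc]
    exact C.mul_mem he h₁.mem
  · exact mul_ne_zero h₂.ne_zero (pow_ne_zero _ h₁.ne_zero)
  · rw [mul_inv, ← inv_pow]
    exact E.mul_mem h₂.inv_mem (E.pow_mem (h₂.le h₁.inv_mem) _)
  · intro a ha
    obtain ⟨m, hm⟩ := h₂.exists_pow a ha
    obtain ⟨p, hp⟩ := h₁.exists_pow _ hm
    refine ⟨m + p, ?_⟩
    have : a * (y * x ^ (e + 1)) ^ (m + p) =
        (a * y ^ m * x ^ p) * (y * x ^ e) ^ p * x ^ (m * (e + 1)) := by
      ring
    rw [this]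
    exact C.mul_mem (C.mul_mem hp (C.pow_mem he p)) (C.pow_mem h₁.mem _)

end IsAwayIn

end Groth.Agent.Helper5.Glue
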