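import Mathlib
import Groth.Agent.Helper5.JacSch

set_option autoImplicit false
universe u

namespace Groth.Agent.Helper5.Jac

open AlgebraicGeometry TopologicalSpace

/-- S9832 -/
theorem s9832 (R : Type u) [CommRing R] [IsNoetherianRing R]
    (I : Ideal R) (hI : I ≤ (⊥ : Ideal R).jacobson) :
    JacobsonSpace ↥((PrimeSpectrum.zeroLocus (I : Set R))ᶜ) := by
  refine jacobsonSpace_compl (X := Spec (CommRingCat.of R)) (PrimeSpectrum.zeroLocus (I : Set R))
    (PrimeSpectrum.isClosed_zeroLocus _) ?_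
  intro Z hZ hne
  obtain ⟨m, hmZ, hm⟩ := exists_isClosed_singleton_mem (R := R) Z hZ hne
  refine ⟨m, hmZ, ?_⟩
  rw [PrimeSpectrum.isClosed_singleton_iff_isMaximal] at hm
  exact (PrimeSpectrum.mem_zeroLocus (R := R) m _).mpr (hI.trans (sInf_le ⟨bot_le, hm⟩))

lemma ringKrullDim_eq_one_iff_of_isDomain {B : Type*} [CommRing B] [IsDomain B] :
    ringKrullDim B = 1 ↔ ¬ IsField B ∧ ∀ I : Ideal B, I ≠ ⊥ → I.IsPrime → I.IsMaximal := by
  constructor
  · intro h
    refine ⟨fun h' => zero_ne_one ((ringKrullDim_eq_zero_of_isField h') ▸ h), ?_⟩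
    exact Ring.krullDimLE_one_iff_of_noZeroDivisors.mp (Ring.krullDimLE_iff.mpr (by simp [h]))
  · rintro ⟨hB, h⟩
    have h1 : Ring.KrullDimLE 1 B := Ring.krullDimLE_one_iff_of_noZeroDivisors.mpr h
    have : ¬ ringKrullDim B ≤ 0 := fun h0 => by
      have : Ring.KrullDimLE 0 B := Ring.krullDimLE_iff.mpr h0
      exact hB Ring.KrullDimLE.isField_of_isDomain
    rw [Ring.krullDimLE_iff] at h1
    exact le_antisymm h1 (Order.succ_le_of_lt (lt_of_not_ge this))

lemma ringKrullDim_quotient_eq_one_iff {A : Type*} [CommRing A] (p : Ideal A) [hp : p.IsPrime] :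
    ringKrullDim (A ⧸ p) = 1 ↔
      ¬ p.IsMaximal ∧ ∀ q : Ideal A, q.IsPrime → p < q → q.IsMaximal := by
  have hsurj : Function.Surjective (Ideal.Quotient.mk p) := Ideal.Quotient.mk_surjective
  have hker : RingHom.ker (Ideal.Quotient.mk p) = p := Ideal.mk_ker
  rw [ringKrullDim_eq_one_iff_of_isDomain, ← Ideal.Quotient.maximal_ideal_iff_isField_quotient]
  refine and_congr_right fun _ => ⟨fun h q hq hpq => ?_, fun h Q hQ0 hQ => ?_⟩
  · have e1 : (q.map (Ideal.Quotient.mk p)).comap (Ideal.Quotient.mk p) = q := by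
      rw [Ideal.comap_map_of_surjective _ hsurj, ← RingHom.ker_eq_comap_bot, hker, sup_eq_left]
      exact hpq.le
    have hQ : (q.map (Ideal.Quotient.mk p)).IsPrime :=
      Ideal.map_isPrime_of_surjective hsurj (hker.le.trans hpq.le)
    have hne : q.map (Ideal.Quotient.mk p) ≠ ⊥ := by
      intro e
      rw [e, ← RingHom.ker_eq_comap_bot, hker] at e1
      exact hpq.ne e1
    have := h _ hne hQ
    rw [← e1]
    exact Ideal.comap_isMaximal_of_surjective _ hsurj
  · have e1 : (Q.comap (Ideal.Quotient.mk p)).map (Ideal.Quotient.mk p) = Q :=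
      Ideal.map_comap_of_surjective _ hsurj Q
    have hq : (Q.comap (Ideal.Quotient.mk p)).IsPrime := Ideal.IsPrime.comap _
    have hle : p ≤ Q.comap (Ideal.Quotient.mk p) := by
      refine le_trans (le_of_eq hker.symm) ?_
      rw [RingHom.ker_eq_comap_bot]
      exact Ideal.comap_mono bot_le
    have hne : p ≠ Q.comap (Ideal.Quotient.mk p) := by
      intro e
      apply hQ0
      rw [← e1, Ideal.map_eq_bot_iff_le_ker, hker]
      exact le_of_eq e.symm
    have hmax := h _ hq (lt_of_le_of_ne hle hne)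
    rcases Ideal.map_eq_top_or_isMaximal_of_surjective (Ideal.Quotient.mk p) hsurj hmax with h1 | h1
    · rw [e1] at h1
      exact absurd h1 hQ.ne_top
    · rwa [e1] at h1

/-- S3433 -/
theorem s3433 (A : Type u) [CommRing A] [IsNoetherianRing A] [IsLocalRing A] :
    JacobsonSpace ↥({IsLocalRing.closedPoint A}ᶜ : Set (PrimeSpectrum A)) ∧
      ∀ p : ↥({IsLocalRing.closedPoint A}ᶜ : Set (PrimeSpectrum A)),
        IsClosed ({p} : Set ↥({IsLocalRing.closedPoint A}ᶜ : Set (PrimeSpectrum A))) ↔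
          ringKrullDim (A ⧸ p.1.asIdeal) = 1 := by
  have hmax : ∀ q : Ideal A, q.IsMaximal → q = IsLocalRing.maximalIdeal A :=
    fun q hq => IsLocalRing.eq_maximalIdeal hq
  constructor
  · have e : ({IsLocalRing.closedPoint A} : Set (PrimeSpectrum A)) =
        PrimeSpectrum.zeroLocus ((IsLocalRing.maximalIdeal A : Ideal A) : Set A) := by
      ext q
      rw [Set.mem_singleton_iff, PrimeSpectrum.mem_zeroLocus, SetLike.coe_subset_coe]
      constructor
      · rintro rfl; exact le_rfl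
      · intro hq
        apply PrimeSpectrum.ext
        exact ((IsLocalRing.maximalIdeal.isMaximal A).eq_of_le q.isPrime.ne_top hq).symm
    rw [e]
    refine s9832 A _ ?_
    rw [IsLocalRing.jacobson_eq_maximalIdeal ⊥ bot_ne_top]
  · intro p
    have hp : p.1.asIdeal ≠ IsLocalRing.maximalIdeal A := fun e => p.2 (PrimeSpectrum.ext e)
    rw [ringKrullDim_quotient_eq_one_iff]
    constructor
    · intro hcl
      refine ⟨fun hm => hp (hmax _ hm), fun q hq hpq => ?_⟩
      by_contra hqm
      have hqY : (⟨q, hq⟩ : PrimeSpectrum A) ∈ ({IsLocalRing.closedPoint A}ᶜ : Set (PrimeSpectrum A)) := by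
        intro e
        apply hqm
        have : q = IsLocalRing.maximalIdeal A := congrArg PrimeSpectrum.asIdeal e
        rw [this]
        exact IsLocalRing.maximalIdeal.isMaximal A
      have hsp : p ⤳ (⟨⟨q, hq⟩, hqY⟩ : ↥({IsLocalRing.closedPoint A}ᶜ : Set (PrimeSpectrum A))) := by
        rw [← Topology.IsInducing.subtypeVal.specializes_iff, ← PrimeSpectrum.le_iff_specializes]
        exact hpq.le
      have := hsp.mem_closed hcl rfl
      rw [Set.mem_singleton_iff] at this
      exact hpq.ne (congrArg (fun t : ↥({IsLocalRing.closedPoint A}ᶜ : Set (PrimeSpectrum A)) => t.1.asIdeal) this).symm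
    · rintro ⟨-, h⟩
      rw [← closure_subset_iff_isClosed]
      intro q hq
      rw [← specializes_iff_mem_closure, ← Topology.IsInducing.subtypeVal.specializes_iff,
        ← PrimeSpectrum.le_iff_specializes] at hq
      by_contra hne
      have hlt : p.1.asIdeal < q.1.asIdeal := by
        refine lt_of_le_of_ne hq fun e => hne ?_
        rw [Set.mem_singleton_iff]
        exact (Subtype.ext (PrimeSpectrum.ext e)).symm
      have := hmax _ (h _ q.1.isPrime hlt)
      exact q.2 (PrimeSpectrum.ext this)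

theorem semilocal_dim_one_of_forall_mem {B : Type*} [CommRing B] [IsDomain B] [IsNoetherianRing B]
    (f : B) (hf : f ≠ 0) (h : ∀ p : Ideal B, p.IsPrime → p ≠ ⊥ → f ∈ p) (hB : ¬ IsField B) :
    Finite (MaximalSpectrum B) ∧ ringKrullDim B = 1 := by
  constructor
  · have := finite_primeSpectrum_of_forall_mem f hf h
    exact Finite.of_injective MaximalSpectrum.toPrimeSpectrum MaximalSpectrum.toPrimeSpectrum_injective
  · rw [ringKrullDim_eq_one_iff_of_isDomain]
    refine ⟨hB, fun Q hQ0 hQ => ?_⟩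
    obtain ⟨M, hM, hQM⟩ := Ideal.exists_le_maximal Q hQ.ne_top
    have : M.IsPrime := hM.isPrime
    rw [eq_of_le_of_forall_mem f hf h Q M hQ0 hQM]
    exact hM

/-- a Jacobson domain which is not a field has infinitely many maximal ideals -/
theorem not_finite_maximalSpectrum_of_isJacobsonRing {B : Type*} [CommRing B] [IsDomain B]
    [IsJacobsonRing B] (hB : ¬ IsField B) : ¬ Finite (MaximalSpectrum B) := by
  classical
  intro hfin
  have := Fintype.ofFinite (MaximalSpectrum B)
  have hex : ∀ m : MaximalSpectrum B, ∃ x ∈ m.asIdeal, x ≠ 0 := by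
    intro m
    by_contra hcon
    push Not at hcon
    have hm0 : m.asIdeal = ⊥ := by
      rw [eq_bot_iff]; intro x hx; exact (Ideal.mem_bot).mpr (hcon x hx)
    have := m.isMaximal
    rw [hm0] at this
    exact hB (Ring.isField_iff_maximal_bot.mpr this)
  choose x hxm hx0 using hex
  have hprod : ∏ m, x m ≠ 0 := Finset.prod_ne_zero_iff.mpr fun m _ => hx0 m
  apply hprod
  have hjac : (⊥ : Ideal B).jacobson = ⊥ :=
    IsJacobsonRing.out' ⊥ (Ideal.isRadical_bot)
  rw [← Ideal.mem_bot, ← hjac, Ideal.jacobson, Ideal.mem_sInf]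
  rintro M ⟨-, hM⟩
  exact Ideal.prod_mem M (i := (⟨M, hM⟩ : MaximalSpectrum B)) (Finset.mem_univ _) (hxm ⟨M, hM⟩)

/-- in a Noetherian ring which is not Jacobson, some prime quotient is semi-local of dimension 1 -/
theorem exists_prime_semilocal_dim_one (A : Type*) [CommRing A] [IsNoetherianRing A]
    (hA : ¬ IsJacobsonRing A) :
    ∃ q : Ideal A, q.IsPrime ∧ Finite (MaximalSpectrum (A ⧸ q)) ∧ ringKrullDim (A ⧸ q) = 1 := by
  rw [isJacobsonRing_iff_prime_eq] at hA
  push Not at hA
  obtain ⟨P, hP, hPj⟩ := hA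
  obtain ⟨g, hgj, hgP⟩ : ∃ g ∈ P.jacobson, g ∉ P := by
    by_contra hcon
    push Not at hcon
    exact hPj (le_antisymm hcon Ideal.le_jacobson)
  let S : Set (Ideal A) := {q | q.IsPrime ∧ P ≤ q ∧ g ∉ q}
  have hS : S.Nonempty := ⟨P, hP, le_rfl, hgP⟩
  obtain ⟨q, ⟨hq, hPq, hgq⟩, hqmax⟩ := WellFounded.has_min (wellFounded_gt (α := Ideal A)) S hS
  have hqnm : ¬ q.IsMaximal := by
    intro hm
    apply hgq
    have : P.jacobson ≤ q := sInf_le ⟨hPq, hm⟩
    exact this hgj
  have hsurj : Function.Surjective (Ideal.Quotient.mk q) := Ideal.Quotient.mk_surjective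
  have hker : RingHom.ker (Ideal.Quotient.mk q) = q := Ideal.mk_ker
  have hB : ¬ IsField (A ⧸ q) := by
    rwa [← Ideal.Quotient.maximal_ideal_iff_isField_quotient]
  have hf : Ideal.Quotient.mk q g ≠ 0 := by
    rwa [Ne, Ideal.Quotient.eq_zero_iff_mem]
  have h : ∀ Q : Ideal (A ⧸ q), Q.IsPrime → Q ≠ ⊥ → Ideal.Quotient.mk q g ∈ Q := by
    intro Q hQ hQ0
    have e1 : (Q.comap (Ideal.Quotient.mk q)).map (Ideal.Quotient.mk q) = Q :=
      Ideal.map_comap_of_surjective _ hsurj Q
    have hq' : (Q.comap (Ideal.Quotient.mk q)).IsPrime := Ideal.IsPrime.comap _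
    have hle : q ≤ Q.comap (Ideal.Quotient.mk q) := by
      refine le_trans (le_of_eq hker.symm) ?_
      rw [RingHom.ker_eq_comap_bot]
      exact Ideal.comap_mono bot_le
    have hne : q ≠ Q.comap (Ideal.Quotient.mk q) := by
      intro e
      apply hQ0
      rw [← e1, Ideal.map_eq_bot_iff_le_ker, hker]
      exact le_of_eq e.symm
    by_contra hgQ
    exact hqmax (Q.comap (Ideal.Quotient.mk q)) ⟨hq', hPq.trans hle, fun hg => hgQ hg⟩
      (lt_of_le_of_ne hle hne)
  obtain ⟨h1, h2⟩ := semilocal_dim_one_of_forall_mem _ hf h hB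
  exact ⟨q, hq, h1, h2⟩

/-- S3431 -/
theorem s3431 (A : Type u) [CommRing A] [IsNoetherianRing A] :
    IsJacobsonRing A ↔
      ∀ (p : Ideal A) [p.IsPrime], ¬ (Finite (MaximalSpectrum (A ⧸ p)) ∧ ringKrullDim (A ⧸ p) = 1) := by
  constructor
  · intro hA p hp ⟨hfin, hdim⟩
    have hB : ¬ IsField (A ⧸ p) := (ringKrullDim_eq_one_iff_of_isDomain.mp hdim).1
    exact not_finite_maximalSpectrum_of_isJacobsonRing hB hfin
  · intro h
    by_contra hA
    obtain ⟨q, hq, h1, h2⟩ := exists_prime_semilocal_dim_one A hA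
    exact h q ⟨h1, h2⟩

end Groth.Agent.Helper5.Jac
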