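import Mathlib
import Groth.Agent.Helper5.Glue8
import Groth.Agent.Helper5.JacRing

set_option autoImplicit false
universe u
open CategoryTheory CategoryTheory.Limits AlgebraicGeometry IsDedekindDomain

namespace Groth.Agent.Helper5.Glue

variable {K : Type u} [Field K] {ι : Type*}

/-- The subrings `A i = C[1/x i]`, `i ∈ s`, cover `Spec C`. -/
structure IsCover (C : Subring K) (A : ι → Subring K) (s : Finset ι) (x : ι → K) : Prop where
  away : ∀ i ∈ s, IsAwayIn C (A i) (x i)
  cover : ∀ P : Ideal C, P.IsPrime → ∃ i, ∃ hi : i ∈ s, (⟨x i, (away i hi).mem⟩ : C) ∉ P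

namespace IsCover

variable {C : Subring K} {A : ι → Subring K} {s : Finset ι} {x : ι → K}

theorem isFractionRing (h : IsCover C A s x) (hs : s.Nonempty) [∀ i, IsFractionRing (A i) K] :
    IsFractionRing C K := by
  obtain ⟨i, hi⟩ := hs
  have hA := h.away i hi
  have : FaithfulSMul C K :=
    (faithfulSMul_iff_algebraMap_injective C K).2 Subtype.val_injective
  refine IsFractionRing.of_field (R := C) (K := K) fun z => ?_
  obtain ⟨p, q, hq, rfl⟩ := IsFractionRing.div_surjective (A := A i) z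
  obtain ⟨n, hn⟩ := hA.exists_pow_ge p p.2
  obtain ⟨m, hm⟩ := hA.exists_pow_ge q q.2
  refine ⟨⟨_, hn (n + m) (Nat.le_add_right n m)⟩, ⟨_, hm (n + m) (Nat.le_add_left m n)⟩, ?_⟩
  have hx : x i ^ (n + m) ≠ 0 := pow_ne_zero _ hA.ne_zero
  show algebraMap (A i) K p / algebraMap (A i) K q = ((p : K) * x i ^ (n + m)) / ((q : K) * x i ^ (n + m))
  rw [mul_div_mul_right _ _ hx]
  rfl

/-- the prime of `A i` corresponding to a prime of `C` not containing `x i` -/
theorem exists_prime (h : IsCover C A s x) {i : ι} (hi : i ∈ s) (P : Ideal C) [hP : P.IsPrime]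
    (hxP : (⟨x i, (h.away i hi).mem⟩ : C) ∉ P) :
    ∃ Q : Ideal (A i), Q.IsPrime ∧ Q.comap (Subring.inclusion (h.away i hi).le) = P ∧
      (P ≠ ⊥ → Q ≠ ⊥) := by
  let _ : Algebra C (A i) := (Subring.inclusion (h.away i hi).le).toAlgebra
  have hloc : IsLocalization.Away (⟨x i, (h.away i hi).mem⟩ : C) (A i) := (h.away i hi).isLocalization
  have hdisj : Disjoint (Submonoid.powers (⟨x i, (h.away i hi).mem⟩ : C) : Set C) (P : Set C) := by
    rw [Ideal.disjoint_powers_iff_notMem _ hP.isRadical]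
    exact hxP
  refine ⟨P.map (algebraMap C (A i)),
    IsLocalization.isPrime_of_isPrime_disjoint _ (A i) P hP hdisj,
    IsLocalization.comap_map_of_isPrime_disjoint _ (A i) hP hdisj, ?_⟩
  intro hPbot hQ
  apply hPbot
  rw [eq_bot_iff]
  intro t ht
  have : algebraMap C (A i) t ∈ P.map (algebraMap C (A i)) := Ideal.mem_map_of_mem _ ht
  rw [hQ, Ideal.mem_bot] at this
  rw [Ideal.mem_bot]
  apply Subtype.ext
  exact congrArg (fun t : A i => (t : K)) this

theorem not_isField (h : IsCover C A s x) (hs : s.Nonempty)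
    (hdim : ∀ i, ringKrullDim (A i) = 1) : ¬ IsField C := by
  intro hC
  obtain ⟨i, hi⟩ := hs
  have hA := h.away i hi
  have hAf : IsField (A i) := by
    refine ⟨⟨0, 1, zero_ne_one⟩, mul_comm, fun {a} ha => ?_⟩
    have ha' : (a : K) ≠ 0 := fun h0 => ha (Subtype.ext h0)
    -- `a⁻¹ ∈ C ⊆ A i`
    obtain ⟨n, hn⟩ := hA.exists_pow a a.2
    have hne : (⟨(a : K) * x i ^ n, hn⟩ : C) ≠ 0 := by
      intro h0
      have := congrArg (fun t : C => (t : K)) h0
      exact mul_ne_zero ha' (pow_ne_zero n hA.ne_zero) this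
    obtain ⟨b, hb⟩ := hC.mul_inv_cancel hne
    have hb' : (a : K) * x i ^ n * (b : K) = 1 := congrArg (fun t : C => (t : K)) hb
    refine ⟨⟨x i ^ n * (b : K), (A i).mul_mem ((A i).pow_mem (hA.le hA.mem) n) (hA.le b.2)⟩, ?_⟩
    apply Subtype.ext
    simp only [Subring.coe_mul, Subring.coe_one]
    rw [← mul_assoc]; exact hb'
  have := ringKrullDim_eq_zero_of_isField hAf
  rw [hdim i] at this
  exact one_ne_zero this

theorem isMaximal_of_ne_bot (h : IsCover C A s x) (hdim : ∀ i, ringKrullDim (A i) = 1)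
    (P : Ideal C) [hP : P.IsPrime] (hPbot : P ≠ ⊥) : P.IsMaximal := by
  obtain ⟨M, hM, hPM⟩ := Ideal.exists_le_maximal P hP.ne_top
  have hMp : M.IsPrime := hM.isPrime
  obtain ⟨i, hi, hxM⟩ := h.cover M hMp
  have hxP : (⟨x i, (h.away i hi).mem⟩ : C) ∉ P := fun hx => hxM (hPM hx)
  obtain ⟨Q, hQ, hQc, hQbot⟩ := h.exists_prime hi P hxP
  obtain ⟨Q', hQ', hQ'c, -⟩ := h.exists_prime hi M hxM
  have hKD : Ring.KrullDimLE 1 (A i) := Ring.krullDimLE_iff.2 (hdim i).le
  have hQmax : Q.IsMaximal :=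
    (Ring.krullDimLE_one_iff_of_noZeroDivisors.1 hKD) Q (hQbot hPbot) hQ
  -- `Q ≤ Q'`
  have hQQ' : Q ≤ Q' := by
    let _ : Algebra C (A i) := (Subring.inclusion (h.away i hi).le).toAlgebra
    have hloc : IsLocalization.Away (⟨x i, (h.away i hi).mem⟩ : C) (A i) :=
      (h.away i hi).isLocalization
    have e1 : Q = (Q.comap (algebraMap C (A i))).map (algebraMap C (A i)) :=
      (IsLocalization.map_comap (Submonoid.powers (⟨x i, (h.away i hi).mem⟩ : C)) (A i) Q).symm
    have e2 : Q' = (Q'.comap (algebraMap C (A i))).map (algebraMap C (A i)) :=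
      (IsLocalization.map_comap (Submonoid.powers (⟨x i, (h.away i hi).mem⟩ : C)) (A i) Q').symm
    rw [e1, e2]
    apply Ideal.map_mono
    show Q.comap (Subring.inclusion (h.away i hi).le) ≤ Q'.comap (Subring.inclusion (h.away i hi).le)
    rw [hQc, hQ'c]
    exact hPM
  have hQeq : Q = Q' := hQmax.eq_of_le hQ'.ne_top hQQ'
  have : P = M := by rw [← hQc, ← hQ'c, hQeq]
  rw [this]; exact hM

theorem ringKrullDim_eq_one (h : IsCover C A s x) (hs : s.Nonempty)
    (hdim : ∀ i, ringKrullDim (A i) = 1) : ringKrullDim C = 1 := by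
  rw [Groth.Agent.Helper5.Jac.ringKrullDim_eq_one_iff_of_isDomain]
  exact ⟨h.not_isField hs hdim, fun P hPbot hP => h.isMaximal_of_ne_bot hdim P hPbot⟩

end IsCover

end Groth.Agent.Helper5.Glue
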