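import Mathlib
import Groth.Agent.Helper5.Glue9

set_option autoImplicit false
universe u
open CategoryTheory CategoryTheory.Limits AlgebraicGeometry IsDedekindDomain

namespace Groth.Agent.Helper5.Glue

variable {K : Type u} [Field K] {ι : Type*}

namespace IsCover

variable {C : Subring K} {A : ι → Subring K} {s : Finset ι} {x : ι → K}

theorem isNoetherianRing (h : IsCover C A s x) [∀ i, IsNoetherianRing (A i)] :
    IsNoetherianRing C := by
  classical
  let S : Finset C := s.attach.image fun i => ⟨x i.1, (h.away i.1 i.2).mem⟩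
  have hS : Ideal.span (S : Set C) = ⊤ := by
    by_contra hne
    obtain ⟨M, hM, hSM⟩ := Ideal.exists_le_maximal _ hne
    obtain ⟨i, hi, hxM⟩ := h.cover M hM.isPrime
    apply hxM
    apply hSM
    apply Ideal.subset_span
    exact Finset.mem_coe.2 (Finset.mem_image.2 ⟨⟨i, hi⟩, Finset.mem_attach _ _, rfl⟩)
  apply AlgebraicGeometry.isNoetherianRing_of_away S hS
  rintro ⟨t, ht⟩
  obtain ⟨⟨i, hi⟩, -, rfl⟩ := Finset.mem_image.1 ht
  let _ : Algebra C (A i) := (Subring.inclusion (h.away i hi).le).toAlgebra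
  have hloc : IsLocalization.Away (⟨x i, (h.away i hi).mem⟩ : C) (A i) :=
    (h.away i hi).isLocalization
  have e := IsLocalization.algEquiv (Submonoid.powers (⟨x i, (h.away i hi).mem⟩ : C)) (A i)
    (Localization.Away (⟨x i, (h.away i hi).mem⟩ : C))
  exact isNoetherianRing_of_ringEquiv (A i) e.toRingEquiv

theorem finite_maximalSpectrum (h : IsCover C A s x) (hs : s.Nonempty)
    (hdim : ∀ i, ringKrullDim (A i) = 1) (hsl : ∀ i, Finite (MaximalSpectrum (A i))) :
    Finite (MaximalSpectrum C) := by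
  classical
  have hCnf := h.not_isField hs hdim
  let φ : (Σ i : s, MaximalSpectrum (A i.1)) → Ideal C := fun p =>
    p.2.asIdeal.comap (Subring.inclusion (h.away p.1.1 p.1.2).le)
  have hfin : (Set.range φ).Finite := Set.finite_range φ
  have hsub : ∀ m : MaximalSpectrum C, m.asIdeal ∈ Set.range φ := by
    intro m
    have hmp : m.asIdeal.IsPrime := m.2.isPrime
    obtain ⟨i, hi, hxM⟩ := h.cover m.asIdeal hmp
    obtain ⟨Q, hQ, hQc, hQbot⟩ := h.exists_prime hi m.asIdeal hxM
    have hKD : Ring.KrullDimLE 1 (A i) := Ring.krullDimLE_iff.2 (hdim i).le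
    have hmbot : m.asIdeal ≠ ⊥ := Ring.ne_bot_of_isMaximal_of_not_isField m.2 hCnf
    have hQmax : Q.IsMaximal :=
      (Ring.krullDimLE_one_iff_of_noZeroDivisors.1 hKD) Q (hQbot hmbot) hQ
    exact ⟨⟨⟨i, hi⟩, ⟨Q, hQmax⟩⟩, hQc⟩
  have : Finite (Set.range φ) := hfin.to_subtype
  exact Finite.of_injective (fun m : MaximalSpectrum C => (⟨m.asIdeal, hsub m⟩ : Set.range φ))
    (fun m m' hmm' => MaximalSpectrum.ext (congrArg Subtype.val hmm'))

end IsCover

end Groth.Agent.Helper5.Glue
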