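import Mathlib
import Groth.Agent.Helper5.Glue10
import Groth.Agent.S7663

set_option autoImplicit false
universe u
open CategoryTheory CategoryTheory.Limits AlgebraicGeometry IsDedekindDomain

namespace Groth.Agent.Helper5.Glue

variable {K : Type u} [Field K] {ι : Type*}

/-- the prime of `D = C[1/x]` corresponding to a prime of `C` not containing `x` -/
theorem IsAwayIn.exists_prime {C D : Subring K} {x : K} (h : IsAwayIn C D x) (P : Ideal C)
    [hP : P.IsPrime] (hxP : (⟨x, h.mem⟩ : C) ∉ P) :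
    ∃ Q : Ideal D, Q.IsPrime ∧ Q.comap (Subring.inclusion h.le) = P := by
  let _ : Algebra C D := (Subring.inclusion h.le).toAlgebra
  have hloc : IsLocalization.Away (⟨x, h.mem⟩ : C) D := h.isLocalization
  have hdisj : Disjoint (Submonoid.powers (⟨x, h.mem⟩ : C) : Set C) (P : Set C) := by
    rw [Ideal.disjoint_powers_iff_notMem _ hP.isRadical]
    exact hxP
  exact ⟨P.map (algebraMap C D),
    IsLocalization.isPrime_of_isPrime_disjoint _ D P hP hdisj,
    IsLocalization.under_map_of_isPrime_disjoint _ D hP hdisj⟩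

namespace IsCover

variable {C : Subring K} {A : ι → Subring K} {s : Finset ι} {x : ι → K}

theorem sup_eq_top (h : IsCover C A s x) (hs : s.Nonempty) [∀ i, IsNoetherianRing (A i)]
    [∀ i, IsFractionRing (A i) K] (hdim : ∀ i, ringKrullDim (A i) = 1) {j : ι}
    (hgen : ∀ i ∈ s, A i ⊔ A j = ⊤) : C ⊔ A j = ⊤ := by
  have := h.isFractionRing hs
  have := h.isNoetherianRing
  by_contra hne
  obtain ⟨O, hO, hCO, hjO⟩ :=
    (Groth.Agent.S7663.result K C (A j) (h.ringKrullDim_eq_one hs hdim)).1 hne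
  let P : Ideal C := (IsLocalRing.maximalIdeal O).comap (Subring.inclusion hCO)
  have hP : P.IsPrime := Ideal.comap_isPrime _ _
  obtain ⟨i, hi, hxP⟩ := h.cover P hP
  have hxO : x i ∈ O := hCO (h.away i hi).mem
  have hxu : (x i)⁻¹ ∈ O := by
    have hnm : (⟨x i, hxO⟩ : O) ∉ IsLocalRing.maximalIdeal O := fun hm => hxP hm
    have hu : IsUnit (⟨x i, hxO⟩ : O) := by
      by_contra hnu
      exact hnm ((IsLocalRing.mem_maximalIdeal _).2 hnu)
    obtain ⟨⟨u, v, huv, hvu⟩, hu'⟩ := hu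
    have h1 : (u : K) * (v : K) = 1 := congrArg Subtype.val huv
    have h2 : (u : K) = x i := congrArg Subtype.val hu'
    rw [h2] at h1
    have : (x i)⁻¹ = (v : K) := (eq_inv_of_mul_eq_one_right h1).symm
    rw [this]; exact v.2
  have hAO : A i ≤ O.toSubring := by
    intro a ha
    obtain ⟨n, hn⟩ := (h.away i hi).exists_pow a ha
    have hx0 := (h.away i hi).ne_zero
    have : a = (a * x i ^ n) * ((x i)⁻¹) ^ n := by
      rw [mul_assoc, ← mul_pow, mul_inv_cancel₀ hx0, one_pow, mul_one]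
    rw [this]
    exact O.toSubring.mul_mem (hCO hn) (O.toSubring.pow_mem hxu n)
  apply toSubring_ne_top O
  rw [eq_top_iff, ← hgen i hi]
  exact sup_le hAO hjO

theorem step [DecidableEq ι] (h : IsCover C A s x) {j : ι} (hj : j ∉ s) {x₀ y₀ : K}
    (hxy : x₀ + y₀ = 1) (hx : IsAwayIn (C ⊓ A j) C x₀) (hy : IsAwayIn (C ⊓ A j) (A j) y₀) :
    ∃ x' : ι → K, IsCover (C ⊓ A j) A (insert j s) x' := by
  have hex : ∀ i, ∃ e : ℕ, i ∈ s → IsAwayIn (C ⊓ A j) (A i) (x i * x₀ ^ (e + 1)) := by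
    intro i
    by_cases hi : i ∈ s
    · obtain ⟨e, he⟩ := hx.trans (h.away i hi)
      exact ⟨e, fun _ => he⟩
    · exact ⟨0, fun hi' => absurd hi' hi⟩
  choose e he using hex
  let x' : ι → K := fun i => if i = j then y₀ else x i * x₀ ^ (e i + 1)
  have hx'j : x' j = y₀ := if_pos rfl
  have hx'i : ∀ i ∈ s, x' i = x i * x₀ ^ (e i + 1) := by
    intro i hi
    have : i ≠ j := by rintro rfl; exact hj hi
    exact if_neg this
  have haway : ∀ i ∈ insert j s, IsAwayIn (C ⊓ A j) (A i) (x' i) := by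
    intro i hi
    rcases Finset.mem_insert.1 hi with rfl | hi
    · rw [hx'j]; exact hy
    · rw [hx'i i hi]; exact he i hi
  refine ⟨x', haway, ?_⟩
  intro P hP
  by_cases hyP : (⟨y₀, hy.mem⟩ : (C ⊓ A j : Subring K)) ∈ P
  · have hxP : (⟨x₀, hx.mem⟩ : (C ⊓ A j : Subring K)) ∉ P := by
      intro hxP
      have h1' : (1 : (C ⊓ A j : Subring K)) ∈ P := by
        have : (1 : (C ⊓ A j : Subring K)) = ⟨x₀, hx.mem⟩ + ⟨y₀, hy.mem⟩ := by
          apply Subtype.ext
          simp [hxy]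
        rw [this]
        exact P.add_mem hxP hyP
      exact hP.ne_top ((Ideal.eq_top_iff_one _).2 h1')
    obtain ⟨Q, hQ, hQc⟩ := hx.exists_prime P hxP
    obtain ⟨i, hi, hxQ⟩ := h.cover Q hQ
    refine ⟨i, Finset.mem_insert_of_mem hi, ?_⟩
    intro hmem
    rw [← hQc, Ideal.mem_comap] at hmem
    have h2 : Subring.inclusion hx.le ⟨x' i, (haway i (Finset.mem_insert_of_mem hi)).mem⟩ =
        (⟨x i, (h.away i hi).mem⟩ : C) * (⟨x₀, hx.le hx.mem⟩ : C) ^ (e i + 1) := by
      apply Subtype.ext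
      simp only [Subring.coe_mul, Subring.coe_pow]
      exact hx'i i hi
    rw [h2] at hmem
    rcases hQ.mem_or_mem hmem with h3 | h3
    · exact hxQ h3
    · have h4 := hQ.mem_of_pow_mem _ h3
      apply hxP
      rw [← hQc, Ideal.mem_comap]
      exact h4
  · refine ⟨j, Finset.mem_insert_self j s, ?_⟩
    have : (⟨x' j, (haway j (Finset.mem_insert_self j s)).mem⟩ : (C ⊓ A j : Subring K)) =
        ⟨y₀, hy.mem⟩ := Subtype.ext hx'j
    rw [this]
    exact hyP

end IsCover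

/-- Main inductive construction: the intersection of pairwise independent one-dimensional
semilocal Noetherian subrings is covered by them. -/
theorem exists_cover [DecidableEq ι] (A : ι → Subring K) [∀ i, IsNoetherianRing (A i)]
    [∀ i, IsFractionRing (A i) K] (hdim : ∀ i, ringKrullDim (A i) = 1)
    (hsl : ∀ i, Finite (MaximalSpectrum (A i))) (hgen : ∀ i j, i ≠ j → A i ⊔ A j = ⊤)
    (s : Finset ι) (hs : s.Nonempty) :
    ∃ x : ι → K, IsCover (⨅ i ∈ s, A i) A s x := by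
  induction hs using Finset.Nonempty.cons_induction with
  | singleton i =>
    refine ⟨fun _ => 1, ?_⟩
    have : (⨅ i' ∈ ({i} : Finset ι), A i') = A i := by simp
    rw [this]
    refine ⟨fun i' hi' => ?_, fun P hP => ⟨i, Finset.mem_singleton_self i, fun h1 =>
      hP.ne_top ((Ideal.eq_top_iff_one _).2 h1)⟩⟩
    rw [Finset.mem_singleton] at hi'
    subst hi'
    exact IsAwayIn.refl _
  | cons j s' hj hs' ih =>
    obtain ⟨x, hx⟩ := ih
    have e : (⨅ i ∈ Finset.cons j s' hj, A i) = (⨅ i ∈ s', A i) ⊓ A j := by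
      rw [Finset.cons_eq_insert, Finset.iInf_insert, inf_comm]
    rw [e, Finset.cons_eq_insert]
    have hFr := hx.isFractionRing hs'
    have hNoeth := hx.isNoetherianRing
    have hdimC := hx.ringKrullDim_eq_one hs' hdim
    have hslC := hx.finite_maximalSpectrum hs' hdim hsl
    have hsup : (⨅ i ∈ s', A i) ⊔ A j = ⊤ :=
      hx.sup_eq_top hs' hdim (fun i hi => hgen i j (by rintro rfl; exact hj hi))
    obtain ⟨x₀, y₀, jA, jB, hxy, hjA, hjB, hjAm, hjBm, hxC, hxA, hxiC, hyiA, hx0, hy0, h1, h2⟩ :=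
      exists_glue (⨅ i ∈ s', A i) (A j) hdimC (hdim j) hslC (hsl j) hsup
    have hyC : y₀ ∈ (⨅ i ∈ s', A i) := by rw [← hjA]; exact jA.2
    have hyA : y₀ ∈ A j := by
      have : y₀ = 1 - x₀ := by rw [← hxy]; ring
      rw [this]; exact (A j).sub_mem (A j).one_mem hxA
    have hX : IsAwayIn ((⨅ i ∈ s', A i) ⊓ A j) (⨅ i ∈ s', A i) x₀ :=
      ⟨⟨hxC, hxA⟩, hx0, inf_le_left, hxiC, fun a ha => by
        obtain ⟨n, hn⟩ := h1 a ha
        exact ⟨n, ⟨Subring.mul_mem _ ha (Subring.pow_mem _ hxC n), hn⟩⟩⟩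
    have hY : IsAwayIn ((⨅ i ∈ s', A i) ⊓ A j) (A j) y₀ :=
      ⟨⟨hyC, hyA⟩, hy0, inf_le_right, hyiA, fun a ha => by
        obtain ⟨n, hn⟩ := h2 a
        exact ⟨n, ⟨hn, (A j).mul_mem ha ((A j).pow_mem hyA n)⟩⟩⟩
    exact hx.step hj hxy hX hY

end Groth.Agent.Helper5.Glue
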