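import Mathlib
import Groth.Agent.Helper5.Glue11

set_option autoImplicit false
universe u
open CategoryTheory CategoryTheory.Limits AlgebraicGeometry IsDedekindDomain

namespace Groth.Agent.Helper5.Glue

variable {K : Type u} [Field K] {ι : Type*}

theorem IsAwayIn.le_of_inv_mem {C D S : Subring K} {x : K} (h : IsAwayIn C D x) (hCS : C ≤ S)
    (hx : x⁻¹ ∈ S) : D ≤ S := by
  intro a ha
  obtain ⟨n, hn⟩ := h.exists_pow a ha
  have : a = (a * x ^ n) * (x⁻¹) ^ n := by
    rw [mul_assoc, ← mul_pow, mul_inv_cancel₀ h.ne_zero, one_pow, mul_one]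
  rw [this]
  exact S.mul_mem (hCS hn) (S.pow_mem hx n)

theorem IsAwayIn.isOpenImmersion {C D : Subring K} {x : K} (h : IsAwayIn C D x) :
    IsOpenImmersion (Spec.map (CommRingCat.ofHom (Subring.inclusion h.le))) := by
  let _ : Algebra C D := (Subring.inclusion h.le).toAlgebra
  have hloc : IsLocalization.Away (⟨x, h.mem⟩ : C) D := h.isLocalization
  exact IsOpenImmersion.of_isLocalization (R := C) (S := D) ⟨x, h.mem⟩

theorem IsAwayIn.mem_range_iff {C D : Subring K} {x : K} (h : IsAwayIn C D x)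
    (p : PrimeSpectrum C) :
    p ∈ Set.range (Spec.map (CommRingCat.ofHom (Subring.inclusion h.le))).base ↔
      (⟨x, h.mem⟩ : C) ∉ p.asIdeal := by
  let _ : Algebra C D := (Subring.inclusion h.le).toAlgebra
  have hloc : IsLocalization.Away (⟨x, h.mem⟩ : C) D := h.isLocalization
  have e1 : Set.range (PrimeSpectrum.comap (algebraMap C D)) =
      (PrimeSpectrum.basicOpen (⟨x, h.mem⟩ : C) : Set _) :=
    PrimeSpectrum.localization_away_comap_range D (⟨x, h.mem⟩ : C)
  constructor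
  · rintro ⟨q, hq⟩
    have : p ∈ Set.range (PrimeSpectrum.comap (algebraMap C D)) := ⟨q, hq⟩
    rw [e1] at this
    exact this
  · intro hp
    have : p ∈ Set.range (PrimeSpectrum.comap (algebraMap C D)) := by
      rw [e1]; exact hp
    obtain ⟨q, hq⟩ := this
    exact ⟨q, hq⟩

namespace IsCover

variable {C : Subring K} {A : ι → Subring K} {s : Finset ι} {x : ι → K}

theorem eq_of_maximal (h : IsCover C A s x) (hs : s.Nonempty)
    (hdim : ∀ i, ringKrullDim (A i) = 1)
    (hgen : ∀ i j, i ≠ j → A i ⊔ A j = ⊤) (m : Ideal C) (hm : m.IsMaximal)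
    {i j : ι} (hi : i ∈ s) (hj : j ∈ s)
    (hxi : (⟨x i, (h.away i hi).mem⟩ : C) ∉ m) (hxj : (⟨x j, (h.away j hj).mem⟩ : C) ∉ m) :
    i = j := by
  by_contra hij
  obtain ⟨O, hCO, hmO⟩ := Ideal.image_subset_nonunits_valuationSubring m hm.ne_top
  let Q : Ideal C := (IsLocalRing.maximalIdeal O).comap (Subring.inclusion hCO)
  have hQ : Q.IsPrime := Ideal.comap_isPrime _ _
  have hmQ : m ≤ Q := by
    intro t ht
    have h1 : (t : K) ∈ O.nonunits := hmO ⟨t, ht, rfl⟩
    obtain ⟨ha, h2⟩ := ValuationSubring.mem_nonunits_iff_exists_mem_maximalIdeal.1 h1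
    exact h2
  have hQm : m = Q := hm.eq_of_le hQ.ne_top hmQ
  have hunit : ∀ k (hk : k ∈ s), (⟨x k, (h.away k hk).mem⟩ : C) ∉ m → (x k)⁻¹ ∈ O.toSubring := by
    intro k hk hxk
    rw [hQm] at hxk
    have hxO : x k ∈ O := hCO (h.away k hk).mem
    have hnm : (⟨x k, hxO⟩ : O) ∉ IsLocalRing.maximalIdeal O := fun hmm => hxk hmm
    have hu : IsUnit (⟨x k, hxO⟩ : O) := by
      by_contra hnu
      exact hnm ((IsLocalRing.mem_maximalIdeal _).2 hnu)
    obtain ⟨⟨u, v, huv, hvu⟩, hu'⟩ := hu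
    have h1 : (u : K) * (v : K) = 1 := congrArg Subtype.val huv
    have h2 : (u : K) = x k := congrArg Subtype.val hu'
    rw [h2] at h1
    have : (x k)⁻¹ = (v : K) := (eq_inv_of_mul_eq_one_right h1).symm
    rw [this]; exact v.2
  have hAi : A i ≤ O.toSubring := (h.away i hi).le_of_inv_mem hCO (hunit i hi hxi)
  have hAj : A j ≤ O.toSubring := (h.away j hj).le_of_inv_mem hCO (hunit j hj hxj)
  have htop : O.toSubring = ⊤ := by
    rw [eq_top_iff, ← hgen i j hij]
    exact sup_le hAi hAj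
  have hmbot : m ≠ ⊥ := Ring.ne_bot_of_isMaximal_of_not_isField hm (h.not_isField hs hdim)
  obtain ⟨t, ht, ht0⟩ := Submodule.exists_mem_ne_zero_of_ne_bot hmbot
  have h1 : (t : K) ∈ O.nonunits := hmO ⟨t, ht, rfl⟩
  rw [ValuationSubring.mem_nonunits_iff_or] at h1
  rcases h1 with h1 | h1
  · exact ht0 (Subtype.ext h1)
  · apply h1
    rw [← ValuationSubring.mem_toSubring, htop]
    trivial

end IsCover

end Groth.Agent.Helper5.Glue
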