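import Mathlib
import Groth.Prelude.Def_EtGlue

/-!
Helpers on glueing pairs `(R → R', f)`: an `f`-power torsion module `C` with `C ⊗ R' = 0` is zero.
-/

namespace Groth.Agent.Helper5.GluePair

open TensorProduct

universe u v

variable {R R' : Type u} [CommRing R] [CommRing R'] [Algebra R R'] {f : R}

/-- If `f ^ n` kills `Q` (and `R/f^n ≃ R'/f^n R'`) then `q ↦ q ⊗ 1` has an `R`-linear retraction. -/
theorem exists_retraction (hq : EtGlue.QuotPowBijective R R' f)
    (Q : Type v) [AddCommGroup Q] [Module R Q] (n : ℕ) (hn : 0 < n)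
    (hQ : ∀ q : Q, f ^ n • q = 0) :
    ∃ ρ : Q ⊗[R] R' →ₗ[R] Q, ∀ q, ρ (q ⊗ₜ[R] (1 : R')) = q := by
  obtain ⟨I, hI⟩ : ∃ I : Ideal R, I = Ideal.span {f ^ n} := ⟨_, rfl⟩
  obtain ⟨I', hI'⟩ : ∃ I' : Ideal R', I' = Ideal.map (algebraMap R R') I := ⟨_, rfl⟩
  have hle : I ≤ I'.comap (Algebra.ofId R R') := by
    rw [hI']; exact Ideal.le_comap_map
  have hbij : Function.Bijective (Ideal.quotientMapₐ I' (Algebra.ofId R R') hle) := by
    subst hI'; subst hI
    exact hq n hn
  let e : (R ⧸ I) ≃ₗ[R] (R' ⧸ I') :=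
    LinearEquiv.ofBijective (Ideal.quotientMapₐ I' (Algebra.ofId R R') hle).toLinearMap hbij
  have hker : I ≤ LinearMap.ker (LinearMap.lsmul R Q) := by
    rw [hI, Ideal.span_le]
    intro x hx
    rw [Set.mem_singleton_iff] at hx
    subst hx
    rw [SetLike.mem_coe, LinearMap.mem_ker]
    ext q
    simpa using hQ q
  let μ : (R ⧸ I) →ₗ[R] Module.End R Q := Submodule.liftQ I (LinearMap.lsmul R Q) hker
  let π' : R' →ₗ[R] (R' ⧸ I') := (Ideal.Quotient.mkₐ R I').toLinearMap
  let g : R' →ₗ[R] Module.End R Q := μ ∘ₗ e.symm.toLinearMap ∘ₗ π'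
  have hg1 : g 1 = LinearMap.id := by
    have h1 : e.symm (π' 1) = 1 := by
      rw [LinearEquiv.symm_apply_eq]
      change (Ideal.Quotient.mk I' 1) = (Ideal.quotientMapₐ I' (Algebra.ofId R R') hle) 1
      rw [map_one, map_one]
    change μ (e.symm (π' 1)) = _
    rw [h1]
    change μ (Submodule.Quotient.mk 1) = _
    rw [Submodule.liftQ_apply]
    ext q
    simp
  refine ⟨TensorProduct.lift g.flip, fun q => ?_⟩
  rw [TensorProduct.lift.tmul, LinearMap.flip_apply, hg1, LinearMap.id_apply]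

theorem subsingleton_of_torsion (hq : EtGlue.QuotPowBijective R R' f)
    (C : Type v) [AddCommGroup C] [Module R C] (htors : ∀ c : C, ∃ n : ℕ, f ^ n • c = 0)
    (h0 : Subsingleton (C ⊗[R] R')) : Subsingleton C := by
  refine ⟨fun a b => ?_⟩
  suffices h : ∀ c : C, c = 0 by rw [h a, h b]
  intro c
  have hP : (Submodule.span R {c}).FG := Submodule.fg_span_singleton c
  have hc : c ∈ Submodule.span R {c} := Submodule.mem_span_singleton_self c
  have ht : LinearMap.rTensor R' (Submodule.span R {c}).subtype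
      ((⟨c, hc⟩ : Submodule.span R {c}) ⊗ₜ[R] (1 : R')) = 0 := Subsingleton.elim _ _
  obtain ⟨Q, hPQ, hQfg, hQ0⟩ := TensorProduct.eq_zero_of_fg_of_subtype_eq_zero hP ht
  rw [LinearMap.rTensor_tmul] at hQ0
  -- a uniform exponent on Q
  obtain ⟨S, hS⟩ := hQfg
  have hn : ∃ n : ℕ, 0 < n ∧ ∀ s ∈ S, f ^ n • s = 0 := by
    classical
    choose! m hm using htors
    refine ⟨S.sup m + 1, Nat.succ_pos _, fun s hs => ?_⟩
    have hle : m s ≤ S.sup m + 1 := (Finset.le_sup hs).trans (Nat.le_succ _)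
    obtain ⟨k, hk⟩ := Nat.exists_eq_add_of_le hle
    rw [hk, pow_add, mul_comm, mul_smul, hm, smul_zero]
  obtain ⟨n, hn0, hnS⟩ := hn
  have hQkill : ∀ q : Q, f ^ n • q = 0 := by
    rintro ⟨q, hqQ⟩
    apply Subtype.ext
    rw [Submodule.coe_smul, Submodule.coe_mk, Submodule.coe_zero]
    rw [← hS] at hqQ
    induction hqQ using Submodule.span_induction with
    | mem x hx => exact hnS x hx
    | zero => exact smul_zero _
    | add x y _ _ hx hy => rw [smul_add, hx, hy, add_zero]
    | smul a x _ hx => rw [smul_comm, hx, smul_zero]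
  obtain ⟨ρ, hρ⟩ := exists_retraction hq Q n hn0 hQkill
  have := hρ (Submodule.inclusion hPQ ⟨c, hc⟩)
  rw [hQ0, map_zero] at this
  have h2 := congrArg Subtype.val this
  simpa using h2.symm

/-- Descent of "being everything" for a submodule along a glueing pair: if `B/N` is `f`-power torsion
and `R' ⊗ N → R' ⊗ B` is surjective then `N = ⊤`. -/
theorem eq_top_of_torsion_of_surjective (hq : EtGlue.QuotPowBijective R R' f)
    (B : Type v) [AddCommGroup B] [Module R B] (N : Submodule R B)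
    (htors : ∀ b : B, ∃ m : ℕ, f ^ m • b ∈ N)
    (hsurj : Function.Surjective (LinearMap.lTensor R' N.subtype)) : N = ⊤ := by
  have hsub : Subsingleton (B ⧸ N) := by
    apply subsingleton_of_torsion hq
    · intro c
      obtain ⟨b, rfl⟩ := Submodule.Quotient.mk_surjective N c
      obtain ⟨m, hm⟩ := htors b
      exact ⟨m, by rw [← Submodule.Quotient.mk_smul, Submodule.Quotient.mk_eq_zero]; exact hm⟩
    · refine (TensorProduct.comm R (B ⧸ N) R').toEquiv.subsingleton_congr.mpr ?_
      refine ⟨fun x y => ?_⟩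
      suffices h : ∀ z : R' ⊗[R] (B ⧸ N), z = 0 by rw [h x, h y]
      intro z
      obtain ⟨w, rfl⟩ := LinearMap.lTensor_surjective R' (Submodule.mkQ_surjective N) z
      obtain ⟨y, rfl⟩ := hsurj w
      rw [← LinearMap.comp_apply, ← LinearMap.lTensor_comp]
      have : N.mkQ ∘ₗ N.subtype = 0 := by
        ext a
        simp
      rw [this, LinearMap.lTensor_zero, LinearMap.zero_apply]
  rw [eq_top_iff]
  intro b _
  have : Submodule.Quotient.mk (p := N) b = 0 := Subsingleton.elim _ _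
  rwa [Submodule.Quotient.mk_eq_zero] at this

end Groth.Agent.Helper5.GluePair
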