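import Mathlib
import Groth.Agent.Helper5.GluePair

namespace Groth.Agent.Helper5.GlueFT

universe u
open TensorProduct

/-- base change of finite type along `R' ⊗ -` -/
theorem ft_lTensor (R : Type u) [CommRing R] (R' : Type u) [CommRing R'] [Algebra R R']
    (A B : Type u) [CommRing A] [Algebra R A] [CommRing B] [Algebra R B] (φ : A →ₐ[R] B)
    (h : φ.toRingHom.FiniteType) :
    (Algebra.TensorProduct.map (AlgHom.id R R') φ).toRingHom.FiniteType := by
  classical
  letI := φ.toRingHom.toAlgebra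
  have hft : Algebra.FiniteType A B := h
  obtain ⟨S, hS⟩ := hft.out
  obtain ⟨T, hT⟩ : ∃ T, T = (Algebra.TensorProduct.map (AlgHom.id R R') φ).toRingHom := ⟨_, rfl⟩
  rw [← hT]
  letI := T.toAlgebra
  change Algebra.FiniteType (R' ⊗[R] A) (R' ⊗[R] B)
  refine ⟨⟨S.image (fun b => (1 : R') ⊗ₜ[R] b), ?_⟩⟩
  rw [eq_top_iff]
  have hT' : ∀ z : R' ⊗[R] A, algebraMap (R' ⊗[R] A) (R' ⊗[R] B) z = T z := fun _ => rfl
  have hφ' : ∀ a : A, algebraMap A B a = φ a := fun _ => rfl
  -- 1 ⊗ b is in the adjoin for all b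
  have h1 : ∀ b : B, (1 : R') ⊗ₜ[R] b ∈ Algebra.adjoin (R' ⊗[R] A)
      ((S.image (fun b => (1 : R') ⊗ₜ[R] b) : Finset (R' ⊗[R] B)) : Set (R' ⊗[R] B)) := by
    intro b
    have hb : b ∈ Algebra.adjoin A (S : Set B) := by rw [hS]; trivial
    induction hb using Algebra.adjoin_induction with
    | mem x hx =>
      apply Algebra.subset_adjoin
      rw [Finset.coe_image]
      exact ⟨x, hx, rfl⟩
    | algebraMap a =>
      have : (1 : R') ⊗ₜ[R] (algebraMap A B a) = algebraMap (R' ⊗[R] A) (R' ⊗[R] B) ((1 : R') ⊗ₜ[R] a) := by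
        rw [hT', hT, hφ']; simp
      rw [this]
      exact Subalgebra.algebraMap_mem _ _
    | add x y _ _ hx hy =>
      rw [TensorProduct.tmul_add]; exact Subalgebra.add_mem _ hx hy
    | mul x y _ _ hx hy =>
      have : (1 : R') ⊗ₜ[R] (x * y) = ((1 : R') ⊗ₜ[R] x) * ((1 : R') ⊗ₜ[R] y) := by simp
      rw [this]; exact Subalgebra.mul_mem _ hx hy
  rintro z -
  induction z with
  | zero => exact Subalgebra.zero_mem _
  | tmul r b =>
    have : r ⊗ₜ[R] b = algebraMap (R' ⊗[R] A) (R' ⊗[R] B) (r ⊗ₜ[R] (1 : A)) * ((1 : R') ⊗ₜ[R] b) := by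
      rw [hT', hT]; simp
    rw [this]
    exact Subalgebra.mul_mem _ (Subalgebra.algebraMap_mem _ _) (h1 b)
  | add x y hx hy => exact Subalgebra.add_mem _ hx hy


theorem away_ft {A B : Type u} [CommRing A] [CommRing B] (g : A →+* B) (r : A)
    (h : (Localization.awayMap g r).FiniteType) :
    letI := g.toAlgebra
    ∃ S1 : Finset B, ∀ b : B, ∃ m : ℕ, g r ^ m * b ∈ Algebra.adjoin A (S1 : Set B) := by
  classical
  letI := g.toAlgebra
  have hcomp : ((Localization.awayMap g r).comp (algebraMap A (Localization.Away r))).FiniteType :=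
    h.comp (RingHom.finiteType_holdsForLocalizationAway (Localization.Away r) r)
  have heq : (Localization.awayMap g r).comp (algebraMap A (Localization.Away r)) =
      (algebraMap B (Localization.Away (g r))).comp g := IsLocalization.map_comp _
  have hft : Algebra.FiniteType A (Localization.Away (g r)) := by
    rw [heq] at hcomp
    rw [← RingHom.finiteType_algebraMap, IsScalarTower.algebraMap_eq A B (Localization.Away (g r))]
    exact hcomp
  obtain ⟨s, hs⟩ := hft.out
  refine ⟨IsLocalization.finsetIntegerMultiple (Submonoid.powers (g r)) s, fun b => ?_⟩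
  have hle : Submonoid.powers (g r) ≤ (Algebra.adjoin A
      ((IsLocalization.finsetIntegerMultiple (Submonoid.powers (g r)) s : Finset B) : Set B)).toSubmonoid := by
    rw [Submonoid.powers_le]
    exact Subalgebra.algebraMap_mem _ r
  obtain ⟨⟨_, m, rfl⟩, hm⟩ := IsLocalization.exists_smul_mem_of_mem_adjoin (Submonoid.powers (g r)) b s
    (Algebra.adjoin A _) Algebra.subset_adjoin hle (by rw [hs]; trivial)
  exact ⟨m, hm⟩

theorem tensor_gens (R : Type u) [CommRing R] (R' : Type u) [CommRing R'] [Algebra R R']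
    (A B : Type u) [CommRing A] [Algebra R A] [CommRing B] [Algebra R B] (φ : A →ₐ[R] B)
    (h : (Algebra.TensorProduct.map (AlgHom.id R R') φ).toRingHom.FiniteType) :
    letI := (Algebra.TensorProduct.map (AlgHom.id R R') φ).toRingHom.toAlgebra
    ∃ S2 : Finset B, Algebra.adjoin (R' ⊗[R] A)
      ((fun b => (1 : R') ⊗ₜ[R] b) '' (S2 : Set B)) = ⊤ := by
  classical
  obtain ⟨T, hT⟩ : ∃ T, T = (Algebra.TensorProduct.map (AlgHom.id R R') φ).toRingHom := ⟨_, rfl⟩
  rw [← hT] at h ⊢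
  letI := T.toAlgebra
  have hT' : ∀ z : R' ⊗[R] A, algebraMap (R' ⊗[R] A) (R' ⊗[R] B) z = T z := fun _ => rfl
  have hft : Algebra.FiniteType (R' ⊗[R] A) (R' ⊗[R] B) := h
  obtain ⟨t, ht⟩ := hft.out
  choose P hP using fun y : R' ⊗[R] B => TensorProduct.exists_finset y
  refine ⟨t.biUnion (fun y => (P y).image Prod.snd), ?_⟩
  rw [eq_top_iff, ← ht]
  apply Algebra.adjoin_le
  intro y hy
  rw [hP y]
  apply Subalgebra.sum_mem
  intro i hi
  have : i.1 ⊗ₜ[R] i.2 = algebraMap (R' ⊗[R] A) (R' ⊗[R] B) (i.1 ⊗ₜ[R] (1 : A)) * ((1 : R') ⊗ₜ[R] i.2) := by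
    rw [hT', hT]; simp
  rw [this]
  refine Subalgebra.mul_mem _ (Subalgebra.algebraMap_mem _ _) (Algebra.subset_adjoin ?_)
  refine ⟨i.2, ?_, rfl⟩
  rw [Finset.coe_biUnion]
  simp only [Set.mem_iUnion]
  exact ⟨y, hy, by rw [Finset.coe_image]; exact ⟨i, hi, rfl⟩⟩

end Groth.Agent.Helper5.GlueFT
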