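import Mathlib
import Groth.Prelude
import Groth.Agent.Helper5.GoodQ3

set_option autoImplicit false
set_option linter.unusedSectionVars false
set_option linter.style.haveILetI false
set_option linter.unusedVariables false
universe u

open AlgebraicGeometry CategoryTheory CategoryTheory.Limits
open MonoidalCategory CartesianMonoidalCategory MonObj

namespace Groth.Agent.Helper5.GoodQ

open Groth.Agent.Helper5.FlatOrbit Groth.Agent.Helper5.GrpDense Groth.Agent.Helper5.OrbFl
open Groth.Agent.Helper5.OpenOrb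

variable {k : Type u} [Field k] [IsAlgClosed k] {G X Y : Over (Spec (CommRingCat.of k))} [GrpObj G]
  (a : AlgGrp.Action G X)

/-- the comparison of the unit object with the `k`-point object -/
noncomputable def eTK : 𝟙_ (Over (Spec (CommRingCat.of k))) ⟶ TK k k :=
  Over.homMk (𝟙 _) (by
    show 𝟙 _ ≫ Spec.map (CommRingCat.ofHom (algebraMap k k)) = 𝟙 _
    rw [Category.id_comp, Algebra.algebraMap_self]
    exact Spec.map_id _)

/-- rational points of an orbit closure intersection: two sections whose closed orbits meet are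
translates of each other -/
theorem exists_translate_of_orbits_meet [LocallyOfFiniteType G.hom] [LocallyOfFiniteType X.hom]
    (x₁ x₂ : 𝟙_ (Over (Spec (CommRingCat.of k))) ⟶ X)
    (hc₁ : IsClosed (Set.range (a.orbitMap x₁).left.base))
    (hc₂ : IsClosed (Set.range (a.orbitMap x₂).left.base))
    (hne : (Set.range (a.orbitMap x₁).left.base ∩ Set.range (a.orbitMap x₂).left.base).Nonempty) :
    ∃ g : 𝟙_ (Over (Spec (CommRingCat.of k))) ⟶ G, lift g x₁ ≫ a.act = x₂ := by
  haveI : JacobsonSpace X.left := LocallyOfFiniteType.jacobsonSpace X.hom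
  obtain ⟨z, ⟨hz1, hz2⟩, hzc⟩ := nonempty_inter_closedPoints hne (hc₁.inter hc₂).isLocallyClosed
  obtain ⟨zb, hzb⟩ := exists_Kpoint_of_isClosed k k X z hzc
  have hlift : ∀ x : 𝟙_ (Over (Spec (CommRingCat.of k))) ⟶ X,
      z ∈ Set.range (a.orbitMap x).left.base →
      ∃ g : 𝟙_ (Over (Spec (CommRingCat.of k))) ⟶ G, sm a g x = eTK ≫ zb := by
    intro x hzx
    haveI : LocallyOfFiniteType ((a.orbitMap x).left ≫ X.hom) := by
      rw [Over.w]; infer_instance
    haveI : LocallyOfFiniteType (a.orbitMap x).left :=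
      locallyOfFiniteType_of_comp (a.orbitMap x).left X.hom
    obtain ⟨w, hw⟩ := exists_Kpoint_lift_of_mem k k G X (a.orbitMap x) zb
      (by rw [hzb]; exact hzx)
    refine ⟨eTK ≫ w, ?_⟩
    have h1 := comp_orbitMap a x (eTK ≫ w)
    have h2 : toUnit (𝟙_ (Over (Spec (CommRingCat.of k)))) = 𝟙 _ := toUnit_unique _ _
    rw [h2, Category.id_comp] at h1
    rw [← h1, Category.assoc, hw]
  obtain ⟨g₁, hg₁⟩ := hlift x₁ hz1
  obtain ⟨g₂, hg₂⟩ := hlift x₂ hz2
  refine ⟨g₂⁻¹ * g₁, ?_⟩
  show sm a (g₂⁻¹ * g₁) x₁ = x₂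
  rw [mul_sm, hg₁, ← hg₂, ← mul_sm, inv_mul_cancel, one_sm]

/-- **A good quotient with closed orbits has orbits as fibres on rational points.** -/
theorem s18981 [LocallyOfFiniteType G.hom] [LocallyOfFiniteType X.hom] (φ : X ⟶ Y)
    (h : NRQuot.IsGoodQuot a φ)
    (hcl : ∀ x : 𝟙_ (Over (Spec (CommRingCat.of k))) ⟶ X,
      IsClosed (Set.range (a.orbitMap x).left.base))
    (x₁ x₂ : 𝟙_ (Over (Spec (CommRingCat.of k))) ⟶ X) (hφ : x₁ ≫ φ = x₂ ≫ φ) :
    ∃ g : 𝟙_ (Over (Spec (CommRingCat.of k))) ⟶ G, lift g x₁ ≫ a.act = x₂ := by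
  have h1 := (s19424 a φ h x₁ x₂).2 hφ
  rw [(hcl x₁).closure_eq, (hcl x₂).closure_eq] at h1
  exact exists_translate_of_orbits_meet a x₁ x₂ (hcl x₁) (hcl x₂) h1

end Groth.Agent.Helper5.GoodQ
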