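import Mathlib
import Groth.Prelude
import Groth.Agent.Helper5.OrbQ1

set_option autoImplicit false
set_option linter.unusedSectionVars false
set_option linter.style.haveILetI false
set_option linter.unusedVariables false
universe u

open AlgebraicGeometry CategoryTheory CategoryTheory.Limits
open MonoidalCategory CartesianMonoidalCategory MonObj

namespace Groth.Agent.Helper5.OrbQ

open Groth.Agent.Helper5.FlatOrbit Groth.Agent.Helper5.GrpDense Groth.Agent.Helper5.GoodQ

/-- the image of a quasi-compact morphism of finite type over a field, contained in a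
quasi-compact open, contains a nonempty open subset of its closure -/
theorem exists_open_inter_closure_subset {k : Type u} [Field k] {Gs Xs : Scheme.{u}}
    (f : Gs ⟶ Xs) (p : Xs ⟶ Spec (CommRingCat.of k)) [LocallyOfFiniteType (f ≫ p)]
    [QuasiCompact (f ≫ p)] [LocallyOfFiniteType p] (U : Xs.Opens)
    (hU : IsCompact (U : Set Xs)) (hfU : Set.range f.base ⊆ U) [Nonempty Gs] :
    ∃ W : Set Xs, IsOpen W ∧ (Set.range f.base ∩ W).Nonempty ∧
      closure (Set.range f.base) ∩ W ⊆ Set.range f.base := by
  have hfU' : Set.range f.base ⊆ Set.range U.ι.base := by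
    rw [Scheme.Opens.range_ι]; exact hfU
  let f' : Gs ⟶ U.toScheme := IsOpenImmersion.lift U.ι f hfU'
  have hf' : f' ≫ U.ι = f := IsOpenImmersion.lift_fac U.ι f hfU'
  haveI : LocallyOfFiniteType (U.ι ≫ p) := inferInstance
  haveI : LocallyOfFiniteType (f' ≫ U.ι ≫ p) := by
    rw [← Category.assoc, hf']; infer_instance
  haveI : LocallyOfFiniteType f' := locallyOfFiniteType_of_comp f' (U.ι ≫ p)
  haveI : IsLocallyNoetherian U.toScheme := LocallyOfFiniteType.isLocallyNoetherian (U.ι ≫ p)
  haveI : LocallyOfFinitePresentation f' := inferInstance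
  haveI : QuasiSeparated (U.ι ≫ p) := inferInstance
  haveI : QuasiCompact (f' ≫ U.ι ≫ p) := by
    rw [← Category.assoc, hf']; infer_instance
  haveI : QuasiCompact f' := QuasiCompact.of_comp f' (U.ι ≫ p)
  haveI : CompactSpace U.toScheme := isCompact_iff_compactSpace.mp hU
  haveI : QuasiSeparatedSpace U.toScheme := inferInstance
  haveI : IsNoetherian U.toScheme := { }
  have hcons : Topology.IsConstructible (Set.range f'.base) := by
    rw [← Set.image_univ]
    exact f'.isConstructible_image Topology.IsConstructible.univ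
  have hne : (Set.range f'.base).Nonempty := Set.range_nonempty _
  obtain ⟨W', hW'o, ⟨w, hwE, hwW⟩, hsub⟩ :=
    Groth.Agent.Helper3.TopConstr.exists_open_of_noetherian hcons hne
  have hrange : ∀ z : U.toScheme, U.ι.base z ∈ Set.range f.base → z ∈ Set.range f'.base := by
    rintro z ⟨g, hg⟩
    refine ⟨g, ?_⟩
    apply U.ι.isOpenEmbedding.injective
    rw [← hg, ← hf']
    rfl
  refine ⟨U.ι.base '' W', U.ι.isOpenEmbedding.isOpenMap _ hW'o, ?_, ?_⟩
  · obtain ⟨g, rfl⟩ := hwE
    refine ⟨f.base g, ⟨g, rfl⟩, f'.base g, hwW, ?_⟩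
    rw [← hf']
    rfl
  · rintro _ ⟨hz1, z, hzW, rfl⟩
    have h1 : z ∈ closure (Set.range f'.base) := by
      have h2 : z ∈ U.ι.base ⁻¹' closure (Set.range f.base) := hz1
      rw [U.ι.isOpenEmbedding.isOpenMap.preimage_closure_eq_closure_preimage
        U.ι.base.hom.continuous] at h2
      refine closure_mono ?_ h2
      intro z' hz'
      exact hrange z' hz'
    obtain ⟨g, rfl⟩ := hsub ⟨h1, hzW⟩
    refine ⟨g, ?_⟩
    rw [← hf']
    rfl

variable {k : Type u} [Field k] {G X : Over (Spec (CommRingCat.of k))} [GrpObj G]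
  (a : AlgGrp.Action G X)

/-- **Orbits of rational points are locally closed** (no quasi-compactness on `X`). -/
theorem isLocallyClosed_range_orbitMap' [LocallyOfFiniteType G.hom] [QuasiCompact G.hom]
    [LocallyOfFiniteType X.hom] (o : 𝟙_ (Over (Spec (CommRingCat.of k))) ⟶ X)
    (U : X.left.Opens) (hU : IsCompact (U : Set X.left))
    (hOU : Set.range (a.orbitMap o).left.base ⊆ U) :
    IsLocallyClosed (Set.range (a.orbitMap o).left.base) := by
  haveI : Flat G.hom := Groth.Agent.Helper4.SN.flat_of_field k G.hom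
  haveI : LocallyOfFinitePresentation G.hom := inferInstance
  haveI : UniversallyOpen G.hom := UniversallyOpen.of_flat G.hom
  set orb := a.orbitMap o with horb
  haveI : LocallyOfFiniteType (orb.left ≫ X.hom) := by
    rw [Over.w]; infer_instance
  haveI : QuasiCompact (orb.left ≫ X.hom) := by rw [Over.w]; infer_instance
  have hOinv : NRQuot.IsInvariantSet a (Set.range orb.left.base) :=
    isInvariantSet_range_orbitMap a o
  have hTinv := isInvariantSet_closure a _ hOinv
  have hpt : Nonempty (𝟙_ (Over (Spec (CommRingCat.of k)))).left :=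
    ⟨(show Spec (CommRingCat.of k) from IsLocalRing.closedPoint k)⟩
  obtain ⟨pt⟩ := hpt
  haveI : Nonempty G.left := ⟨η[G].left.base pt⟩
  obtain ⟨W, hWo, ⟨w, hwO, hwW⟩, hsub⟩ :=
    exists_open_inter_closure_subset orb.left X.hom U hU hOU
  have hS : ∀ g g' : G.left, G.hom.base g = G.hom.base g' := fun g g' =>
    Subsingleton.elim (α := PrimeSpectrum k) _ _
  refine ⟨a.act.left.base '' ((snd G X).left.base ⁻¹' W), closure (Set.range orb.left.base),
    isOpenMap_act a _ (hWo.preimage (snd G X).left.base.hom.continuous), isClosed_closure, ?_⟩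
  apply Set.Subset.antisymm
  · intro x hx
    refine ⟨?_, subset_closure hx⟩
    obtain ⟨q, hq1, hq2⟩ := exists_point_of_mem_orbit a o x w hx hwO hS
    exact ⟨q, by rw [Set.mem_preimage, hq1]; exact hwW, hq2⟩
  · rintro x ⟨⟨q, hqW, rfl⟩, hxT⟩
    have h1 : (snd G X).left.base q ∈ closure (Set.range orb.left.base) :=
      snd_mem_of_act_mem a _ hTinv q hxT
    exact hOinv q (hsub ⟨h1, hqW⟩)

end Groth.Agent.Helper5.OrbQ
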