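import Mathlib
import Groth.Prelude
import Groth.Agent.Helper5.GoodQ4
import Groth.Agent.Helper5.OrbQ6

set_option autoImplicit false
set_option linter.unusedSectionVars false
set_option linter.style.haveILetI false
set_option linter.unusedVariables false
universe u

open AlgebraicGeometry CategoryTheory CategoryTheory.Limits
open MonoidalCategory CartesianMonoidalCategory MonObj

namespace Groth.Agent.Helper5.GoodQ

open Groth.Agent.Helper5.FlatOrbit Groth.Agent.Helper5.GrpDense Groth.Agent.Helper5.OrbFl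
open Groth.Agent.Helper5.OpenOrb Groth.Agent.Helper5.OrbQ

section General

variable {k : Type u} [Field k] {G X Y : Over (Spec (CommRingCat.of k))} [GrpObj G]
  (a : AlgGrp.Action G X)

/-- an invariant set containing a rational point contains its orbit -/
theorem orbit_subset_of_mem (Z : Set X.left) (hZ : NRQuot.IsInvariantSet a Z)
    (x : 𝟙_ (Over (Spec (CommRingCat.of k))) ⟶ X) (hx : x.left pt0 ∈ Z) :
    Set.range (a.orbitMap x).left.base ⊆ Z := by
  rintro _ ⟨g, rfl⟩
  let q : (G ⊗ X).left := (lift (𝟙 G) (toUnit G ≫ x)).left g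
  have h1 : (snd G X).left.base q = x.left pt0 := by
    show (lift (𝟙 G) (toUnit G ≫ x) ≫ snd G X).left g = _
    rw [lift_snd]
    show x.left ((toUnit G).left g) = _
    rw [eq_pt0 ((toUnit G).left g)]
  exact hZ q (by rw [h1]; exact hx)

/-- a minimal nonempty closed invariant subset of a compact closed invariant subset -/
theorem exists_minimal_invariant (F : Set X.left) (hFc : IsCompact F) (hFcl : IsClosed F)
    (hFinv : NRQuot.IsInvariantSet a F) (hFne : F.Nonempty) :
    ∃ Z : Set X.left, IsClosed Z ∧ Z.Nonempty ∧ Z ⊆ F ∧ NRQuot.IsInvariantSet a Z ∧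
      ∀ Z' : Set X.left, IsClosed Z' → Z'.Nonempty → Z' ⊆ Z → NRQuot.IsInvariantSet a Z' →
        Z' = Z := by
  let S : Set (Set X.left) :=
    {Z | IsClosed Z ∧ Z.Nonempty ∧ Z ⊆ F ∧ NRQuot.IsInvariantSet a Z}
  have H : ∀ c ⊆ S, IsChain (· ⊆ ·) c → c.Nonempty → ∃ lb ∈ S, ∀ s ∈ c, lb ⊆ s := by
    intro c hcS hchain hcne
    refine ⟨⋂₀ c, ⟨?_, ?_, ?_, ?_⟩, fun s hs => Set.sInter_subset_of_mem hs⟩
    · exact isClosed_sInter (fun s hs => (hcS hs).1)
    · haveI : Nonempty c := hcne.to_subtype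
      apply IsCompact.nonempty_sInter_of_directed_nonempty_isCompact_isClosed
      · intro s hs t ht
        rcases hchain.total hs ht with h | h
        · exact ⟨s, hs, subset_rfl, h⟩
        · exact ⟨t, ht, h, subset_rfl⟩
      · exact fun s hs => (hcS hs).2.1
      · exact fun s hs => hFc.of_isClosed_subset (hcS hs).1 (hcS hs).2.2.1
      · exact fun s hs => (hcS hs).1
    · obtain ⟨s, hs⟩ := hcne
      exact (Set.sInter_subset_of_mem hs).trans (hcS hs).2.2.1
    · intro p hp
      rw [Set.mem_sInter] at hp ⊢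
      intro s hs
      exact (hcS hs).2.2.2 p (hp s hs)
  obtain ⟨Z, hZF, hZmin⟩ := zorn_superset_nonempty S H F ⟨hFcl, hFne, subset_rfl, hFinv⟩
  refine ⟨Z, hZmin.prop.1, hZmin.prop.2.1, hZF, hZmin.prop.2.2.2, ?_⟩
  intro Z' h1 h2 h3 h4
  exact hZmin.eq_of_subset ⟨h1, h2, h3.trans hZF, h4⟩ h3

end General

variable {k : Type u} [Field k] [IsAlgClosed k] {G X Y : Over (Spec (CommRingCat.of k))} [GrpObj G]
  (a : AlgGrp.Action G X)

/-- a good quotient is surjective -/
theorem surjective_of_isGoodQuot (φ : X ⟶ Y) (h : NRQuot.IsGoodQuot a φ) :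
    Function.Surjective φ.left.base := by
  have h1 := h.inter PEmpty.{u+1} (fun i => i.elim) (fun i => i.elim) (fun i => i.elim)
  rw [Set.iInter_of_empty, Set.iInter_of_empty, Set.image_univ] at h1
  exact Set.range_eq_univ.1 h1

/-- **every fibre of a good quotient over a rational point contains a closed orbit** -/
theorem exists_closed_orbit [LocallyOfFiniteType G.hom] [QuasiCompact G.hom]
    [LocallyOfFiniteType X.hom] (φ : X ⟶ Y) (h : NRQuot.IsGoodQuot a φ)
    (y : 𝟙_ (Over (Spec (CommRingCat.of k))) ⟶ Y) :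
    ∃ x : 𝟙_ (Over (Spec (CommRingCat.of k))) ⟶ X, x ≫ φ = y ∧
      IsClosed (Set.range (a.orbitMap x).left.base) := by
  haveI : Flat G.hom := Groth.Agent.Helper4.SN.flat_of_field k G.hom
  haveI : LocallyOfFinitePresentation G.hom := inferInstance
  haveI : UniversallyOpen G.hom := inferInstance
  haveI : JacobsonSpace X.left := LocallyOfFiniteType.jacobsonSpace X.hom
  set y₀ := y.left pt0 with hy₀
  let F : Set X.left := φ.left.base ⁻¹' {y₀}
  have hFcl : IsClosed F := (isClosed_section Y y).preimage φ.left.base.hom.continuous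
  have hFinv : NRQuot.IsInvariantSet a F := by
    intro p hp
    have h1 : φ.left.base (a.act.left.base p) = (a.act.left ≫ φ.left).base p := rfl
    show φ.left.base (a.act.left.base p) = y₀
    rw [h1, h.inv.left]
    exact hp
  obtain ⟨x₁, hx₁⟩ := surjective_of_isGoodQuot a φ h y₀
  have hFne : F.Nonempty := ⟨x₁, hx₁⟩
  obtain ⟨_, ⟨V, hV, rfl⟩, hyV, -⟩ :=
    Y.left.isBasis_affineOpens.exists_subset_of_mem_open (Set.mem_univ y₀) isOpen_univ
  have hV' : IsAffineOpen (V : Y.left.Opens) := hV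
  haveI := h.affine
  have hU : IsAffineOpen (φ.left ⁻¹ᵁ V) := hV'.preimage φ.left
  have hFU : F ⊆ ((φ.left ⁻¹ᵁ V : X.left.Opens) : Set X.left) := by
    intro z hz
    show φ.left.base z ∈ V
    have : φ.left.base z = y₀ := hz
    rw [this]
    exact hyV
  have hFc : IsCompact F := hU.isCompact.of_isClosed_subset hFcl hFU
  obtain ⟨Z, hZcl, hZne, hZF, hZinv, hZmin⟩ := exists_minimal_invariant a F hFc hFcl hFinv hFne
  obtain ⟨z, hzZ, hzc⟩ := nonempty_inter_closedPoints hZne hZcl.isLocallyClosed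
  obtain ⟨zb, hzb⟩ := exists_Kpoint_of_isClosed k k X z hzc
  let x : 𝟙_ (Over (Spec (CommRingCat.of k))) ⟶ X := eTK ≫ zb
  have hx0 : x.left pt0 = z := hzb _
  have hxφ : x ≫ φ = y := by
    apply section_ext
    show φ.left.base (x.left pt0) = y₀
    rw [hx0]
    exact hZF hzZ
  refine ⟨x, hxφ, ?_⟩
  set O := Set.range (a.orbitMap x).left.base with hO
  have hzO : z ∈ O := hx0 ▸ section_mem_orbit a x
  have hOZ : O ⊆ Z := orbit_subset_of_mem a Z hZinv x (hx0 ▸ hzZ)
  have hOinv : NRQuot.IsInvariantSet a O := isInvariantSet_range_orbitMap a x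
  have hTinv := isInvariantSet_closure a _ hOinv
  have hTZ : closure O = Z :=
    hZmin _ isClosed_closure ⟨z, subset_closure hzO⟩ (closure_minimal hOZ hZcl) hTinv
  have hlc : IsLocallyClosed O := isLocallyClosed_range_orbitMap' a x (φ.left ⁻¹ᵁ V)
    hU.isCompact (hOZ.trans (hZF.trans hFU))
  have hBcl : IsClosed (closure O \ O) := by
    obtain ⟨N, T, hN, hT, hOeq⟩ := hlc
    have hOT : closure O ⊆ T := closure_minimal (hOeq ▸ Set.inter_subset_right) hT
    have : closure O \ O = closure O ∩ Nᶜ := by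
      ext w
      constructor
      · rintro ⟨hw1, hw2⟩
        refine ⟨hw1, fun hwN => hw2 ?_⟩
        rw [hOeq]
        exact ⟨hwN, hOT hw1⟩
      · rintro ⟨hw1, hw2⟩
        refine ⟨hw1, fun hwO => hw2 ?_⟩
        rw [hOeq] at hwO
        exact hwO.1
    rw [this]
    exact isClosed_closure.inter hN.isClosed_compl
  have hBinv : NRQuot.IsInvariantSet a (closure O \ O) := by
    intro p hp
    exact ⟨hTinv p hp.1, fun hact => hp.2 (snd_mem_of_act_mem a _ hOinv p hact)⟩
  have hBempty : closure O \ O = ∅ := by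
    by_contra hB
    have hBne := Set.nonempty_iff_ne_empty.2 hB
    have hBZ := hZmin _ hBcl hBne (hTZ ▸ Set.sdiff_subset) hBinv
    have hzB : z ∈ closure O \ O := hBZ ▸ hzZ
    exact hzB.2 hzO
  rw [Set.sdiff_eq_empty] at hBempty
  exact closure_subset_iff_isClosed.1 hBempty

/-- **each fibre of a good quotient over a rational point contains a unique closed orbit** -/
theorem s19409 [LocallyOfFiniteType G.hom] [QuasiCompact G.hom] [LocallyOfFiniteType X.hom]
    (φ : X ⟶ Y) (h : NRQuot.IsGoodQuot a φ)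
    (y : 𝟙_ (Over (Spec (CommRingCat.of k))) ⟶ Y) :
    ∃ x : 𝟙_ (Over (Spec (CommRingCat.of k))) ⟶ X, x ≫ φ = y ∧
      IsClosed (Set.range (a.orbitMap x).left.base) ∧
      ∀ x' : 𝟙_ (Over (Spec (CommRingCat.of k))) ⟶ X, x' ≫ φ = y →
        IsClosed (Set.range (a.orbitMap x').left.base) →
        ∃ g : 𝟙_ (Over (Spec (CommRingCat.of k))) ⟶ G, lift g x ≫ a.act = x' := by
  obtain ⟨x, hx, hc⟩ := exists_closed_orbit a φ h y
  refine ⟨x, hx, hc, ?_⟩
  intro x' hx' hc'
  have h1 := (s19424 a φ h x x').2 (hx.trans hx'.symm)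
  rw [hc.closure_eq, hc'.closure_eq] at h1
  exact exists_translate_of_orbits_meet a x x' hc hc' h1

end Groth.Agent.Helper5.GoodQ
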