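import Mathlib
import Groth.Prelude
import Groth.Agent.Helper5.GoodQ1

set_option autoImplicit false
set_option linter.unusedSectionVars false
set_option linter.style.haveILetI false
set_option linter.unusedVariables false
universe u

open AlgebraicGeometry CategoryTheory CategoryTheory.Limits
open MonoidalCategory CartesianMonoidalCategory MonObj

namespace Groth.Agent.Helper5.GoodQ

open Groth.Agent.Helper5.FlatOrbit Groth.Agent.Helper5.GrpDense

section Restrict

variable {S : Scheme.{u}} {G X Y XU YU : Over S} [GrpObj G] (a : AlgGrp.Action G X) (φ : X ⟶ Y)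
  (aU : AlgGrp.Action G XU) (jU : XU ⟶ X) [IsOpenImmersion jU.left]
  (haU : aU.act ≫ jU = (G ◁ jU) ≫ a.act)
  (jY : YU ⟶ Y) [IsOpenImmersion jY.left] (φU : XU ⟶ YU) (hφU : φU ≫ jY = jU ≫ φ)
  (hcart : ∀ x : X.left, φ.left.base x ∈ Set.range jY.left.base → x ∈ Set.range jU.left.base)

include haU in
/-- the image of an invariant subset under an equivariant open immersion is invariant -/
theorem isInvariantSet_image (W : Set XU.left) (hW : NRQuot.IsInvariantSet aU W) :
    NRQuot.IsInvariantSet a (jU.left.base '' W) := by
  intro p hp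
  obtain ⟨w, hwW, hw⟩ := hp
  have h2 : p ∈ Set.range (G ◁ jU).left := by
    rw [range_whiskerLeft]
    exact ⟨w, hw⟩
  obtain ⟨q, rfl⟩ := h2
  have h3 : (snd G XU).left.base q = w := by
    apply jU.left.isOpenEmbedding.injective
    rw [hw]
    show ((snd G XU) ≫ jU).left.base q = ((G ◁ jU) ≫ snd G X).left.base q
    rw [whiskerLeft_snd]
  refine ⟨aU.act.left.base q, hW q (h3 ▸ hwW), ?_⟩
  show (aU.act ≫ jU).left.base q = ((G ◁ jU) ≫ a.act).left.base q
  rw [haU]

include hφU hcart in
/-- preimages of images under the restricted quotient map -/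
theorem preimage_image_eq (Z : Set X.left) :
    jY.left.base ⁻¹' (φ.left.base '' Z) = φU.left.base '' (jU.left.base ⁻¹' Z) := by
  have hφU' : ∀ t : XU.left, jY.left.base (φU.left.base t) = φ.left.base (jU.left.base t) := by
    intro t
    show (φU ≫ jY).left.base t = (jU ≫ φ).left.base t
    rw [hφU]
  ext y
  constructor
  · rintro ⟨z, hzZ, hz⟩
    obtain ⟨t, rfl⟩ := hcart z (hz ▸ ⟨y, rfl⟩)
    refine ⟨t, hzZ, ?_⟩
    apply jY.left.isOpenEmbedding.injective
    rw [hφU', hz]
  · rintro ⟨t, htZ, rfl⟩
    exact ⟨jU.left.base t, htZ, (hφU' t).symm⟩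

/-- a closed subset of the open subscheme is the trace of the closure of its image -/
theorem preimage_closure_image (W : Set XU.left) (hW : IsClosed W) :
    jU.left.base ⁻¹' closure (jU.left.base '' W) = W := by
  rw [jU.left.isOpenEmbedding.isOpenMap.preimage_closure_eq_closure_preimage
    jU.left.base.hom.continuous, Set.preimage_image_eq _ jU.left.isOpenEmbedding.injective,
    hW.closure_eq]

include haU hφU hcart in
theorem restrict_closed [UniversallyOpen G.hom] (h : NRQuot.IsGoodQuot a φ) (W : Set XU.left)
    (hW : IsClosed W) (hWi : NRQuot.IsInvariantSet aU W) : IsClosed (φU.left.base '' W) := by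
  have h1 := h.closed (closure (jU.left.base '' W)) isClosed_closure
    (isInvariantSet_closure a _ (isInvariantSet_image a aU jU haU W hWi))
  have h2 := h1.preimage jY.left.base.hom.continuous
  rw [preimage_image_eq φ jU jY φU hφU hcart, preimage_closure_image jU W hW] at h2
  exact h2

include haU hφU hcart in
theorem restrict_inter [UniversallyOpen G.hom] (h : NRQuot.IsGoodQuot a φ) (J : Type u)
    (W : J → Set XU.left) (hW : ∀ i, IsClosed (W i)) (hWi : ∀ i, NRQuot.IsInvariantSet aU (W i)) :
    φU.left.base '' (⋂ i, W i) = ⋂ i, φU.left.base '' (W i) := by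
  have h1 := h.inter J (fun i => closure (jU.left.base '' W i)) (fun i => isClosed_closure)
    (fun i => isInvariantSet_closure a _ (isInvariantSet_image a aU jU haU (W i) (hWi i)))
  have h2 := congrArg (fun T => jY.left.base ⁻¹' T) h1
  simp only [Set.preimage_iInter] at h2
  rw [preimage_image_eq φ jU jY φU hφU hcart, Set.preimage_iInter] at h2
  simp only [preimage_image_eq φ jU jY φU hφU hcart, preimage_closure_image jU _ (hW _)] at h2
  exact h2

include haU hφU in
theorem restrict_inv (h : GIT.IsInvariant a φ) : GIT.IsInvariant aU φU := by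
  haveI : Mono jY.left := inferInstance
  haveI : Mono jY := Over.mono_of_mono_left _
  unfold GIT.IsInvariant at h ⊢
  rw [← cancel_mono jY, Category.assoc, Category.assoc, hφU, reassoc_of% haU, h,
    whiskerLeft_snd_assoc]

end Restrict

end Groth.Agent.Helper5.GoodQ
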