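import Mathlib
import Groth.Prelude
import Groth.Agent.Helper5.GoodQ6

set_option autoImplicit false
set_option linter.unusedSectionVars false
set_option linter.style.haveILetI false
set_option linter.unusedVariables false
universe u

open AlgebraicGeometry CategoryTheory CategoryTheory.Limits
open MonoidalCategory CartesianMonoidalCategory MonObj

namespace Groth.Agent.Helper5.GoodQ

open Groth.Agent.Helper5.FlatOrbit Groth.Agent.Helper5.GrpDense

/-- restriction of sections along an open immersion onto its image is bijective -/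
theorem bijective_appLE {XU X : Scheme.{u}} (j : XU ⟶ X) [IsOpenImmersion j] (A : X.Opens)
    (AU : XU.Opens) (hA : j ''ᵁ AU = A) (e : AU ≤ j ⁻¹ᵁ A) :
    Function.Bijective (j.appLE A AU e) := by
  subst hA
  have h1 : j.appLE (j ''ᵁ AU) AU e = (j.appIso AU).hom := (j.appIso_hom' AU).symm
  rw [h1]
  exact ConcreteCategory.bijective_of_isIso (j.appIso AU).hom

/-- `appLE` only depends on the morphism -/
theorem appLE_congr_hom {P X : Scheme.{u}} (m₁ m₂ : P ⟶ X) (hm : m₁ = m₂) (A : X.Opens)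
    (B : P.Opens) (e₁ : B ≤ m₁ ⁻¹ᵁ A) (e₂ : B ≤ m₂ ⁻¹ᵁ A) :
    m₁.appLE A B e₁ = m₂.appLE A B e₂ := by
  subst hm; rfl

/-- transfer of the invariance equation along an open immersion of "action groupoids" -/
theorem inv_iff_of_openImmersion {P PU X XU : Scheme.{u}} (σ p : P ⟶ X) (σU pU : PU ⟶ XU)
    (w : PU ⟶ P) (j : XU ⟶ X) [IsOpenImmersion w] [IsOpenImmersion j]
    (hσ : σU ≫ j = w ≫ σ) (hp : pU ≫ j = w ≫ p)
    (A : X.Opens) (AU : XU.Opens) (hA : j ''ᵁ AU = A)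
    (hB : w ''ᵁ (σU ⁻¹ᵁ AU ⊓ pU ⁻¹ᵁ AU) = σ ⁻¹ᵁ A ⊓ p ⁻¹ᵁ A)
    (e : AU ≤ j ⁻¹ᵁ A) (f' : Γ(X, A)) :
    (σ.appLE A (σ ⁻¹ᵁ A ⊓ p ⁻¹ᵁ A) inf_le_left f' =
        p.appLE A (σ ⁻¹ᵁ A ⊓ p ⁻¹ᵁ A) inf_le_right f') ↔
      (σU.appLE AU (σU ⁻¹ᵁ AU ⊓ pU ⁻¹ᵁ AU) inf_le_left (j.appLE A AU e f') =
        pU.appLE AU (σU ⁻¹ᵁ AU ⊓ pU ⁻¹ᵁ AU) inf_le_right (j.appLE A AU e f')) := by
  set B := σ ⁻¹ᵁ A ⊓ p ⁻¹ᵁ A with hBdef
  set BU := σU ⁻¹ᵁ AU ⊓ pU ⁻¹ᵁ AU with hBUdef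
  have eB : BU ≤ w ⁻¹ᵁ B := by
    rw [← hB]
    exact (w.preimage_image_eq BU).ge
  have hbij := bijective_appLE w B BU hB eB
  have h1 : σU.appLE AU BU inf_le_left (j.appLE A AU e f') =
      w.appLE B BU eB (σ.appLE A B inf_le_left f') := by
    rw [← CommRingCat.comp_apply, ← CommRingCat.comp_apply, Scheme.Hom.appLE_comp_appLE,
      Scheme.Hom.appLE_comp_appLE]
    exact congrArg (fun m => m f') (appLE_congr_hom _ _ hσ A BU _ _)
  have h2 : pU.appLE AU BU inf_le_right (j.appLE A AU e f') =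
      w.appLE B BU eB (p.appLE A B inf_le_right f') := by
    rw [← CommRingCat.comp_apply, ← CommRingCat.comp_apply, Scheme.Hom.appLE_comp_appLE,
      Scheme.Hom.appLE_comp_appLE]
    exact congrArg (fun m => m f') (appLE_congr_hom _ _ hp A BU _ _)
  rw [h1, h2]
  exact ⟨fun h => congrArg _ h, fun h => hbij.1 h⟩

end Groth.Agent.Helper5.GoodQ
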