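import Mathlib
import Groth.Prelude
import Groth.Agent.Helper5.GoodQ7

set_option autoImplicit false
set_option linter.unusedSectionVars false
set_option linter.style.haveILetI false
set_option linter.unusedVariables false
universe u

open AlgebraicGeometry CategoryTheory CategoryTheory.Limits
open MonoidalCategory CartesianMonoidalCategory MonObj

namespace Groth.Agent.Helper5.GoodQ

open Groth.Agent.Helper5.FlatOrbit Groth.Agent.Helper5.GrpDense

section Restrict

variable {S : Scheme.{u}} {G X Y XU YU : Over S} [GrpObj G] (a : AlgGrp.Action G X) (φ : X ⟶ Y)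
  (aU : AlgGrp.Action G XU) (jU : XU ⟶ X) [IsOpenImmersion jU.left]
  (haU : aU.act ≫ jU = (G ◁ jU) ≫ a.act)
  (jY : YU ⟶ Y) [IsOpenImmersion jY.left] (φU : XU ⟶ YU) (hφU : φU ≫ jY = jU ≫ φ)
  (hcart : ∀ x : X.left, φ.left.base x ∈ Set.range jY.left.base → x ∈ Set.range jU.left.base)

instance isOpenImmersion_whiskerLeft : IsOpenImmersion (G ◁ jU).left :=
  MorphismProperty.of_isPullback (P := @IsOpenImmersion) (isPullback_whiskerLeft G jU).flip
    ‹IsOpenImmersion jU.left›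

include hφU hcart in
theorem image_preimage_eq' (W : YU.left.Opens) :
    jU.left ''ᵁ (φU.left ⁻¹ᵁ W) = φ.left ⁻¹ᵁ (jY.left ''ᵁ W) := by
  have hφU' : ∀ t : XU.left, jY.left.base (φU.left.base t) = φ.left.base (jU.left.base t) := by
    intro t
    show (φU ≫ jY).left.base t = (jU ≫ φ).left.base t
    rw [hφU]
  ext x
  constructor
  · rintro ⟨t, ht, rfl⟩
    exact ⟨φU.left.base t, ht, hφU' t⟩
  · rintro ⟨y, hy, hyx⟩
    obtain ⟨t, rfl⟩ := hcart x ⟨y, hyx⟩
    refine ⟨t, ?_, rfl⟩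
    have : φU.left.base t = y := by
      apply jY.left.isOpenEmbedding.injective
      rw [hφU']
      exact hyx.symm
    show φU.left.base t ∈ W
    rw [this]
    exact hy

include haU in
theorem image_inf_eq (A : X.left.Opens) (AU : XU.left.Opens) (hA : jU.left ''ᵁ AU = A) :
    (G ◁ jU).left ''ᵁ (aU.act.left ⁻¹ᵁ AU ⊓ (snd G XU).left ⁻¹ᵁ AU) =
      a.act.left ⁻¹ᵁ A ⊓ (snd G X).left ⁻¹ᵁ A := by
  have hσ : ∀ q : (G ⊗ XU).left,
      jU.left.base (aU.act.left.base q) = a.act.left.base ((G ◁ jU).left.base q) := by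
    intro q
    show (aU.act ≫ jU).left.base q = ((G ◁ jU) ≫ a.act).left.base q
    rw [haU]
  have hp : ∀ q : (G ⊗ XU).left,
      jU.left.base ((snd G XU).left.base q) = (snd G X).left.base ((G ◁ jU).left.base q) := by
    intro q
    show ((snd G XU) ≫ jU).left.base q = ((G ◁ jU) ≫ snd G X).left.base q
    rw [whiskerLeft_snd]
  have hmem : ∀ t : XU.left, jU.left.base t ∈ A ↔ t ∈ AU := by
    intro t
    rw [← hA]
    constructor
    · rintro ⟨t', ht', h⟩
      rw [← jU.left.isOpenEmbedding.injective h]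
      exact ht'
    · intro ht
      exact ⟨t, ht, rfl⟩
  ext z
  constructor
  · rintro ⟨q, ⟨hq1, hq2⟩, rfl⟩
    refine ⟨?_, ?_⟩
    · show a.act.left.base ((G ◁ jU).left.base q) ∈ A
      rw [← hσ, hmem]
      exact hq1
    · show (snd G X).left.base ((G ◁ jU).left.base q) ∈ A
      rw [← hp, hmem]
      exact hq2
  · rintro ⟨hz1, hz2⟩
    have hz3 : z ∈ Set.range (G ◁ jU).left := by
      rw [range_whiskerLeft]
      have : (snd G X).left.base z ∈ A := hz2
      rw [← hA] at this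
      obtain ⟨t, -, ht⟩ := this
      exact ⟨t, ht⟩
    obtain ⟨q, rfl⟩ := hz3
    refine ⟨q, ⟨?_, ?_⟩, rfl⟩
    · show aU.act.left.base q ∈ AU
      rw [← hmem, hσ]
      exact hz1
    · show (snd G XU).left.base q ∈ AU
      rw [← hmem, hp]
      exact hz2

include haU hφU hcart in
theorem isInvSection_iff (W : YU.left.Opens)
    (e : φU.left ⁻¹ᵁ W ≤ jU.left ⁻¹ᵁ (φ.left ⁻¹ᵁ (jY.left ''ᵁ W)))
    (f' : Γ(X.left, φ.left ⁻¹ᵁ (jY.left ''ᵁ W))) :
    GIT.IsInvSection a φ (jY.left ''ᵁ W) f' ↔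
      GIT.IsInvSection aU φU W (jU.left.appLE _ _ e f') := by
  have hA := image_preimage_eq' φ jU jY φU hφU hcart W
  have hσ : aU.act.left ≫ jU.left = (G ◁ jU).left ≫ a.act.left := by
    rw [← Over.comp_left, haU, Over.comp_left]
  have hp : (snd G XU).left ≫ jU.left = (G ◁ jU).left ≫ (snd G X).left := by
    rw [← Over.comp_left, ← whiskerLeft_snd, Over.comp_left]
  exact inv_iff_of_openImmersion a.act.left (snd G X).left aU.act.left (snd G XU).left
    (G ◁ jU).left jU.left hσ hp _ _ hA (image_inf_eq a aU jU haU _ _ hA) e f'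

include haU hφU hcart in
theorem restrict_sections
    (h : ∀ U : Y.left.Opens, Function.Injective (φ.left.app U) ∧
      Set.range (φ.left.app U) = {f | GIT.IsInvSection a φ U f})
    (W : YU.left.Opens) :
    Function.Injective (φU.left.app W) ∧
      Set.range (φU.left.app W) = {f | GIT.IsInvSection aU φU W f} := by
  have hA := image_preimage_eq' φ jU jY φU hφU hcart W
  have e : φU.left ⁻¹ᵁ W ≤ jU.left ⁻¹ᵁ (φ.left ⁻¹ᵁ (jY.left ''ᵁ W)) := by
    rw [← hA]
    exact (jU.left.preimage_image_eq _).ge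
  have eY : W ≤ jY.left ⁻¹ᵁ (jY.left ''ᵁ W) := (jY.left.preimage_image_eq _).ge
  have hbX := bijective_appLE jU.left _ _ hA e
  have hbY := bijective_appLE jY.left (jY.left ''ᵁ W) W rfl eY
  have hsq : ∀ t : Γ(Y.left, jY.left ''ᵁ W),
      φU.left.app W (jY.left.appLE _ _ eY t) =
        jU.left.appLE _ _ e (φ.left.app (jY.left ''ᵁ W) t) := by
    intro t
    rw [Scheme.Hom.app_eq_appLE, Scheme.Hom.app_eq_appLE, ← CommRingCat.comp_apply,
      ← CommRingCat.comp_apply, Scheme.Hom.appLE_comp_appLE, Scheme.Hom.appLE_comp_appLE]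
    have hm : φU.left ≫ jY.left = jU.left ≫ φ.left := by
      rw [← Over.comp_left, hφU, Over.comp_left]
    exact congrArg (fun (m : Γ(Y.left, jY.left ''ᵁ W) ⟶ Γ(XU.left, φU.left ⁻¹ᵁ W)) => m t)
      (appLE_congr_hom _ _ hm _ _ _ _)
  obtain ⟨hinj, hrange⟩ := h (jY.left ''ᵁ W)
  constructor
  · intro s₁ s₂ hs
    obtain ⟨t₁, rfl⟩ := hbY.2 s₁
    obtain ⟨t₂, rfl⟩ := hbY.2 s₂
    rw [hsq, hsq] at hs
    rw [hinj (hbX.1 hs)]
  · ext f
    obtain ⟨f', rfl⟩ := hbX.2 f
    rw [Set.mem_ofPred_eq, ← isInvSection_iff a φ aU jU haU jY φU hφU hcart W e f']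
    have h1 : GIT.IsInvSection a φ (jY.left ''ᵁ W) f' ↔ f' ∈ Set.range (φ.left.app (jY.left ''ᵁ W)) := by
      rw [hrange]; rfl
    rw [h1]
    constructor
    · rintro ⟨s, hs⟩
      obtain ⟨t, rfl⟩ := hbY.2 s
      rw [hsq] at hs
      exact ⟨t, hbX.1 hs⟩
    · rintro ⟨t, rfl⟩
      exact ⟨_, hsq t⟩

end Restrict

end Groth.Agent.Helper5.GoodQ
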