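import Mathlib
import Groth.Prelude
import Groth.Agent.Helper5.GoodQ8
import Groth.Agent.Helper4.SN144

set_option autoImplicit false
set_option linter.unusedSectionVars false
set_option linter.style.haveILetI false
set_option linter.unusedVariables false
universe u

open AlgebraicGeometry CategoryTheory CategoryTheory.Limits
open MonoidalCategory CartesianMonoidalCategory MonObj

namespace Groth.Agent.Helper5.GoodQ

open Groth.Agent.Helper5.FlatOrbit Groth.Agent.Helper5.GrpDense

set_option backward.isDefEq.respectTransparency.types false in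
/-- **A good quotient restricts to a good quotient over every open of the base.** -/
theorem s19425 (k : Type u) [Field k]
    (G X Y : Over (Spec (CommRingCat.of k))) [GrpObj G] [LocallyOfFiniteType G.hom]
    (a : AlgGrp.Action G X) (φ : X ⟶ Y) (h : NRQuot.IsGoodQuot a φ)
    (U : Y.left.Opens)
    (aU : AlgGrp.Action G (Over.mk ((φ.left ⁻¹ᵁ U).ι ≫ X.hom)))
    (jU : Over.mk ((φ.left ⁻¹ᵁ U).ι ≫ X.hom) ⟶ X) (hjU : jU.left = (φ.left ⁻¹ᵁ U).ι)
    (haU : aU.act ≫ jU = (G ◁ jU) ≫ a.act)
    (φU : Over.mk ((φ.left ⁻¹ᵁ U).ι ≫ X.hom) ⟶ Over.mk (U.ι ≫ Y.hom))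
    (hφU : φU.left ≫ U.ι = (φ.left ⁻¹ᵁ U).ι ≫ φ.left) :
    NRQuot.IsGoodQuot aU φU := by
  haveI : Flat G.hom := Groth.Agent.Helper4.SN.flat_of_field k G.hom
  haveI : LocallyOfFinitePresentation G.hom := inferInstance
  haveI : UniversallyOpen G.hom := inferInstance
  let jY : Over.mk (U.ι ≫ Y.hom) ⟶ Y := Over.homMk U.ι rfl
  haveI : IsOpenImmersion jU.left := by rw [hjU]; infer_instance
  haveI : IsOpenImmersion jY.left := inferInstanceAs (IsOpenImmersion U.ι)
  have hφU' : φU ≫ jY = jU ≫ φ := by
    ext1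
    show φU.left ≫ U.ι = jU.left ≫ φ.left
    rw [hjU]
    exact hφU
  have hcart : ∀ x : X.left, φ.left.base x ∈ Set.range jY.left.base →
      x ∈ Set.range jU.left.base := by
    intro x hx
    rw [hjU, Scheme.Opens.range_ι]
    have : Set.range jY.left.base = U := Scheme.Opens.range_ι U
    rw [this] at hx
    exact hx
  refine ⟨?_, restrict_inv a φ aU jU haU jY φU hφU' h.inv,
    restrict_sections a φ aU jU haU jY φU hφU' hcart h.sections,
    fun W hW hWi => restrict_closed a φ aU jU haU jY φU hφU' hcart h W hW hWi,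
    fun J W hW hWi => restrict_inter a φ aU jU haU jY φU hφU' hcart h J W hW hWi⟩
  have h1 : φU.left = φ.left ∣_ U := by
    rw [← cancel_mono U.ι, hφU, morphismRestrict_ι]
  rw [h1]
  haveI := h.affine
  exact IsZariskiLocalAtTarget.restrict ‹IsAffineHom φ.left› U

end Groth.Agent.Helper5.GoodQ
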