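import Groth.Agent.Helper5.NoethChart
import Groth.Agent.Helper5.FpqcF2
import Groth.Agent.Helper4.AlgSpPB
import Groth.Prelude.Def_AlgSpDec
import Groth.Prelude.Def_AlgSpMor5
import Mathlib

set_option autoImplicit false
set_option linter.style.haveILetI false
universe u
open CategoryTheory CategoryTheory.Limits AlgebraicGeometry Opposite

namespace Groth.Agent.Helper5.GorSp

open AlgSp Groth.Agent.Helper4

variable {S : Scheme.{u}}

/-- the hypothesis "the fibres of `f` over field points are locally Noetherian" -/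
def NoethFib {X Y : Sp S} (f : X ⟶ Y) : Prop :=
  ∀ (k : FieldPt Y) (Xk : Sp S) (a : Xk ⟶ X) (b : Xk ⟶ (yon S).obj k.pt),
    IsPullback a b f k.toHom → IsLocNoethSp Xk

set_option backward.isDefEq.respectTransparency.types false in
/-- the fibres of the top arrow of a chart diagram of a morphism with locally Noetherian fibres are
locally Noetherian schemes -/
theorem isLocallyNoetherian_chart_fiber {X Y : Sp S} (hX : IsAlgSpace X) (hY : IsAlgSpace Y)
    (f : X ⟶ Y) (hf : NoethFib f) {U V : Over S} (a : (yon S).obj U ⟶ X)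
    (b : (yon S).obj V ⟶ Y) (h : U ⟶ V) (ha : RepWith @Etale a) (hb : RepWith @Etale b)
    (comm : a ≫ f = (yon S).map h ≫ b) (v : ↥V.left) :
    IsLocallyNoetherian (h.left.fiber v) := by
  -- the field point
  obtain ⟨k, hk⟩ : ∃ k : FieldPt Y, k = FieldPt.ofPt b v := ⟨_, rfl⟩
  obtain ⟨ιv, hιv⟩ : ∃ ιv : Over.mk (V.left.fromSpecResidueField v ≫ V.hom) ⟶ V,
    ιv = Over.homMk (V.left.fromSpecResidueField v) rfl := ⟨_, rfl⟩
  have hkt : (FieldPt.ofPt b v).toHom = (yon S).map ιv ≫ b := by
    rw [hιv]; exact FieldPt.toHom_ofPt b v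
  -- the fibre of `f`
  have sqk : IsPullback (pullback.fst f ((yon S).map ιv ≫ b))
      (pullback.snd f ((yon S).map ιv ≫ b)) f ((yon S).map ιv ≫ b) :=
    IsPullback.of_hasPullback _ _
  have hXk : IsLocNoethSp (pullback f ((yon S).map ιv ≫ b)) := by
    refine hf (FieldPt.ofPt b v) _ (pullback.fst f ((yon S).map ιv ≫ b))
      (pullback.snd f ((yon S).map ιv ≫ b)) ?_
    rw [hkt]
    exact sqk
  -- `P = X ×_Y V`
  have sqP : IsPullback (pullback.fst f b) (pullback.snd f b) f b := IsPullback.of_hasPullback _ _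
  have hPa : IsAlgSpace (pullback f b) :=
    AlgSpPB.isAlgSpace_of_isPullback hY.diag hX (IsAlgSpace.yon_obj V) f b _ _ sqP
  have hq₁ : RepWith @Etale (pullback.fst f b) :=
    MorphismProperty.of_isPullback (P := RepWith @Etale) sqP.flip hb
  obtain ⟨n, hn⟩ : ∃ n : (yon S).obj U ⟶ pullback f b, n = pullback.lift a ((yon S).map h) comm :=
    ⟨_, rfl⟩
  have hn1 : n ≫ pullback.fst f b = a := by rw [hn]; exact pullback.lift_fst _ _ _
  have hn2 : n ≫ pullback.snd f b = (yon S).map h := by rw [hn]; exact pullback.lift_snd _ _ _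
  have hne : RepWith @Etale n :=
    Groth.Agent.Helper5.FpqcF.repWith_etale_of_comp hPa n (pullback.fst f b) hq₁ (by rwa [hn1])
  -- `r : X_k ⟶ P`
  obtain ⟨r, hr⟩ : ∃ r : pullback f ((yon S).map ιv ≫ b) ⟶ pullback f b,
      r = pullback.lift (pullback.fst f ((yon S).map ιv ≫ b))
        (pullback.snd f ((yon S).map ιv ≫ b) ≫ (yon S).map ιv)
        (by rw [Category.assoc]; exact pullback.condition) := ⟨_, rfl⟩
  have hr1 : r ≫ pullback.fst f b = pullback.fst f ((yon S).map ιv ≫ b) := by
    rw [hr]; exact pullback.lift_fst _ _ _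
  have hr2 : r ≫ pullback.snd f b = pullback.snd f ((yon S).map ιv ≫ b) ≫ (yon S).map ιv := by
    rw [hr]; exact pullback.lift_snd _ _ _
  have sqA : IsPullback r (pullback.snd f ((yon S).map ιv ≫ b)) (pullback.snd f b)
      ((yon S).map ιv) := by
    refine IsPullback.of_right ?_ hr2 sqP
    rw [hr1]
    exact sqk
  -- the fibre of `h`
  let FO : Over S := Over.mk (h.left.fiberι v ≫ U.hom)
  let φ₁ : FO ⟶ U := Over.homMk (h.left.fiberι v) rfl
  let φ₂ : FO ⟶ Over.mk (V.left.fromSpecResidueField v ≫ V.hom) :=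
    Over.homMk (h.left.fiberToSpecResidueField v) (by
      show h.left.fiberToSpecResidueField v ≫ V.left.fromSpecResidueField v ≫ V.hom =
        h.left.fiberι v ≫ U.hom
      rw [← Category.assoc, ← h.left.fiber_fac v, Category.assoc, Over.w h])
  have hφ : φ₁ ≫ h = φ₂ ≫ ιv := by
    rw [hιv]
    ext
    exact h.left.fiber_fac v
  have sqC0 : IsPullback φ₁ φ₂ h ιv := by
    apply IsPullback.of_map (Over.forget S) hφ
    rw [hιv]
    exact IsPullback.of_hasPullback h.left (V.left.fromSpecResidueField v)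
  have sqC : IsPullback ((yon S).map φ₁) ((yon S).map φ₂) ((yon S).map h) ((yon S).map ιv) :=
    sqC0.map (yon S)
  have hw : ((yon S).map φ₁ ≫ a) ≫ f = (yon S).map φ₂ ≫ (yon S).map ιv ≫ b := by
    rw [Category.assoc, comm, ← Category.assoc, ← Functor.map_comp, hφ, Functor.map_comp,
      Category.assoc]
  obtain ⟨m, hm⟩ : ∃ m : (yon S).obj FO ⟶ pullback f ((yon S).map ιv ≫ b),
      m = pullback.lift ((yon S).map φ₁ ≫ a) ((yon S).map φ₂) hw := ⟨_, rfl⟩
  have hm1 : m ≫ pullback.fst f ((yon S).map ιv ≫ b) = (yon S).map φ₁ ≫ a := by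
    rw [hm]; exact pullback.lift_fst _ _ _
  have hm2 : m ≫ pullback.snd f ((yon S).map ιv ≫ b) = (yon S).map φ₂ := by
    rw [hm]; exact pullback.lift_snd _ _ _
  have hmr : m ≫ r = (yon S).map φ₁ ≫ n := by
    apply pullback.hom_ext
    · rw [Category.assoc, hr1, hm1, Category.assoc, hn1]
    · rw [Category.assoc, hr2, ← Category.assoc, hm2, Category.assoc, hn2, ← Functor.map_comp,
        ← Functor.map_comp, hφ]
  have sqB : IsPullback m ((yon S).map φ₁) r n := by
    refine IsPullback.of_right ?_ hmr sqA.flip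
    rw [hm2, hn2]
    exact sqC.flip
  have hme : RepWith @Etale m :=
    MorphismProperty.of_isPullback (P := RepWith @Etale) sqB.flip hne
  exact Groth.Agent.Helper5.NoethChart.isLocallyNoetherian_of_etale_chart hXk m hme

end Groth.Agent.Helper5.GorSp
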