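import Groth.Agent.Helper5.GorYon1
import Groth.Agent.Helper3.GorBC1
import Groth.Agent.Helper4.SDClasses
import Mathlib

set_option autoImplicit false
set_option linter.style.haveILetI false
set_option linter.unusedSectionVars false
set_option linter.unusedVariables false
universe u
open CategoryTheory CategoryTheory.Limits AlgebraicGeometry Opposite IsLocalRing

namespace Groth.Agent.Helper5.GorSp

open Groth.Agent.Helper7.SegGor Groth.Agent.Helper3.GorSch2

/-- the local ring at `x` of the fibre of `f` through `x` is Noetherian -/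
def NStalk {X Y : Scheme.{u}} (f : X ⟶ Y) (x : X) : Prop :=
  IsNoetherianRing ((f.fiber (f x)).presheaf.stalk (f.asFiber x))

theorem nStalk_of_fiber {X Y : Scheme.{u}} (f : X ⟶ Y) (x : X)
    (h : IsLocallyNoetherian (f.fiber (f x))) : NStalk f x := by
  unfold NStalk
  infer_instance

theorem nStalk_of_gor {X Y : Scheme.{u}} (f : X ⟶ Y) (x : X) (h : Dual3.IsGorensteinAt f x) :
    NStalk f x := h.2.toIsNoetherian

theorem nStalk_of_lft {X Y : Scheme.{u}} (f : X ⟶ Y) [LocallyOfFiniteType f] (x : X) :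
    NStalk f x :=
  nStalk_of_fiber f x (Groth.Agent.Helper5.GorYon.isLocallyNoetherian_fiber_of_lft f _)

theorem nStalk_congr {X Y : Scheme.{u}} {f g : X ⟶ Y} (h : f = g) (x : X) (hf : NStalk f x) :
    NStalk g x := by subst h; exact hf

theorem gor_congr {X Y : Scheme.{u}} {f g : X ⟶ Y} (h : f = g) (x : X)
    (hf : Dual3.IsGorensteinAt f x) : Dual3.IsGorensteinAt g x := by subst h; exact hf

section comp

variable {X Y Z : Scheme.{u}} (f : X ⟶ Y) (g : Y ⟶ Z) (x : X)

/-- composition, with pointwise Noetherian hypotheses -/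
theorem gor_comp_cancel (hNg : NStalk g (f x)) (hNfg : NStalk (f ≫ g) x) :
    (Dual3.IsGorensteinAt f x → Dual3.IsGorensteinAt g (f x) →
      Dual3.IsGorensteinAt (f ≫ g) x) ∧
    (Dual3.IsGorensteinAt (f ≫ g) x → (f.stalkMap x).hom.Flat →
      Dual3.IsGorensteinAt f x ∧ Dual3.IsGorensteinAt g (f x)) := by
  letI algAB : Algebra (Z.presheaf.stalk (g (f x))) (Y.presheaf.stalk (f x)) :=
    (g.stalkMap (f x)).hom.toAlgebra
  letI algBC : Algebra (Y.presheaf.stalk (f x)) (X.presheaf.stalk x) :=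
    (f.stalkMap x).hom.toAlgebra
  letI algAC : Algebra (Z.presheaf.stalk (g (f x))) (X.presheaf.stalk x) :=
    ((f ≫ g).stalkMap x).hom.toAlgebra
  haveI : IsLocalHom (algebraMap (Y.presheaf.stalk (f x)) (X.presheaf.stalk x)) :=
    inferInstanceAs (IsLocalHom (f.stalkMap x).hom)
  haveI : IsLocalHom (algebraMap (Z.presheaf.stalk (g (f x))) (Y.presheaf.stalk (f x))) :=
    inferInstanceAs (IsLocalHom (g.stalkMap (f x)).hom)
  haveI : IsScalarTower (Z.presheaf.stalk (g (f x))) (Y.presheaf.stalk (f x))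
      (X.presheaf.stalk x) :=
    IsScalarTower.of_algebraMap_eq (fun a => by
      change ((f ≫ g).stalkMap x).hom a = (f.stalkMap x).hom ((g.stalkMap (f x)).hom a)
      rw [Scheme.Hom.stalkMap_comp]
      rfl)
  obtain ⟨ef⟩ := Groth.Agent.Helper5.CMFib.fibre_stalk_equiv' f x
  obtain ⟨eg⟩ := Groth.Agent.Helper5.CMFib.fibre_stalk_equiv' g (f x)
  obtain ⟨efg⟩ := Groth.Agent.Helper5.CMFib.fibre_stalk_equiv' (f ≫ g) x
  haveI : IsNoetherianRing ((g.fiber (g (f x))).presheaf.stalk (g.asFiber (f x))) := hNg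
  haveI : IsNoetherianRing (((f ≫ g).fiber ((f ≫ g) x)).presheaf.stalk ((f ≫ g).asFiber x)) :=
    hNfg
  haveI : IsNoetherianRing (Y.presheaf.stalk (f x) ⧸
      (maximalIdeal (Z.presheaf.stalk (g (f x)))).map
        (algebraMap (Z.presheaf.stalk (g (f x))) (Y.presheaf.stalk (f x)))) :=
    isNoetherianRing_of_ringEquiv _ eg.symm
  haveI : IsNoetherianRing (X.presheaf.stalk x ⧸
      (maximalIdeal (Z.presheaf.stalk (g (f x)))).map
        (algebraMap (Z.presheaf.stalk (g (f x))) (X.presheaf.stalk x))) :=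
    isNoetherianRing_of_ringEquiv _ efg.symm
  constructor
  · rintro ⟨hf1, hf2⟩ ⟨hg1, hg2⟩
    haveI : Module.Flat (Y.presheaf.stalk (f x)) (X.presheaf.stalk x) := hf1
    haveI : Module.Flat (Z.presheaf.stalk (g (f x))) (Y.presheaf.stalk (f x)) := hg1
    refine ⟨?_, ?_⟩
    · exact Module.Flat.trans (Z.presheaf.stalk (g (f x))) (Y.presheaf.stalk (f x))
        (X.presheaf.stalk x)
    · refine gorLocal_of_ringEquiv efg ?_
      exact (gor_three (Z.presheaf.stalk (g (f x))) (Y.presheaf.stalk (f x))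
        (X.presheaf.stalk x)).2 ⟨gorLocal_of_ringEquiv eg.symm hg2,
          gorLocal_of_ringEquiv ef.symm hf2⟩
  · rintro ⟨hfg1, hfg2⟩ hf1
    haveI : Module.Flat (Y.presheaf.stalk (f x)) (X.presheaf.stalk x) := hf1
    haveI : Module.Flat (Z.presheaf.stalk (g (f x))) (X.presheaf.stalk x) := hfg1
    haveI : Module.FaithfullyFlat (Y.presheaf.stalk (f x)) (X.presheaf.stalk x) :=
      Module.FaithfullyFlat.of_flat_of_isLocalHom
    have hg1 : Module.Flat (Z.presheaf.stalk (g (f x))) (Y.presheaf.stalk (f x)) :=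
      Groth.Agent.Helper2.FFDesc.flat_of_flat_comp _ _ (X.presheaf.stalk x)
    obtain ⟨h1, h2⟩ := (gor_three (Z.presheaf.stalk (g (f x))) (Y.presheaf.stalk (f x))
        (X.presheaf.stalk x)).1 (gorLocal_of_ringEquiv efg.symm hfg2)
    exact ⟨⟨hf1, gorLocal_of_ringEquiv ef h2⟩, ⟨hg1, gorLocal_of_ringEquiv eg h1⟩⟩

theorem gor_comp (hNfg : NStalk (f ≫ g) x) (hf : Dual3.IsGorensteinAt f x)
    (hg : Dual3.IsGorensteinAt g (f x)) : Dual3.IsGorensteinAt (f ≫ g) x :=
  (gor_comp_cancel f g x (nStalk_of_gor g (f x) hg) hNfg).1 hf hg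

theorem gor_cancel (hNg : NStalk g (f x)) (hfg : Dual3.IsGorensteinAt (f ≫ g) x)
    (hfl : (f.stalkMap x).hom.Flat) :
    Dual3.IsGorensteinAt f x ∧ Dual3.IsGorensteinAt g (f x) :=
  (gor_comp_cancel f g x hNg (nStalk_of_gor _ x hfg)).2 hfg hfl

end comp

/-- precomposition with an étale morphism -/
theorem gor_precomp_etale_iff {A' A B : Scheme.{u}} (e : A' ⟶ A) [Etale e] (s : A ⟶ B) (x' : A')
    (hN1 : NStalk (e ≫ s) x') (hN2 : NStalk s (e x')) :
    Dual3.IsGorensteinAt (e ≫ s) x' ↔ Dual3.IsGorensteinAt s (e x') := by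
  constructor
  · intro h
    exact (gor_cancel e s x' hN2 h (Flat.stalkMap e x')).2
  · intro h
    exact gor_comp e s x' hN1 (Groth.Agent.Helper5.GorYon.isGorAt_of_smooth e x') h

/-- postcomposition with an étale morphism -/
theorem gor_postcomp_etale {A B C : Scheme.{u}} (s : A ⟶ B) (e : B ⟶ C) [Etale e] (x : A)
    (hN : NStalk (s ≫ e) x) (h : Dual3.IsGorensteinAt s x) : Dual3.IsGorensteinAt (s ≫ e) x :=
  gor_comp s e x hN h (Groth.Agent.Helper5.GorYon.isGorAt_of_smooth e (s x))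

set_option backward.isDefEq.respectTransparency false in
/-- cancellation of an étale second factor -/
theorem gor_of_postcomp_etale {A B C : Scheme.{u}} (s : A ⟶ B) (e : B ⟶ C) [Etale e] (x : A)
    (hfib : ∀ y, IsLocallyNoetherian ((s ≫ e).fiber y)) (hN : NStalk s x)
    (h : Dual3.IsGorensteinAt (s ≫ e) x) : Dual3.IsGorensteinAt s x := by
  obtain ⟨gr, hgr⟩ : ∃ gr : A ⟶ pullback (s ≫ e) e, gr = pullback.lift (𝟙 A) s (by simp) :=
    ⟨_, rfl⟩
  have hgr1 : gr ≫ pullback.fst (s ≫ e) e = 𝟙 A := by rw [hgr]; exact pullback.lift_fst _ _ _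
  have hgr2 : gr ≫ pullback.snd (s ≫ e) e = s := by rw [hgr]; exact pullback.lift_snd _ _ _
  haveI : Etale gr := by
    rw [hgr]
    exact MorphismProperty.of_isPullback (P := @Etale) (pullback_lift_diagonal_isPullback s e)
      (inferInstanceAs <| Etale (pullback.diagonal e))
  have hx : pullback.fst (s ≫ e) e (gr x) = x := by
    rw [← Scheme.Hom.comp_apply, hgr1]
    rfl
  have h1 : Dual3.IsGorensteinAt (pullback.snd (s ≫ e) e) (gr x) := by
    refine (Groth.Agent.Helper3.GorBC1.s3625 _ _ _ _ (s ≫ e) e (pullback.snd (s ≫ e) e)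
      (pullback.fst (s ≫ e) e) (IsPullback.of_hasPullback _ _) hfib (gr x)).1 ?_
    rw [hx]
    exact h
  have h2 : Dual3.IsGorensteinAt (gr ≫ pullback.snd (s ≫ e) e) x :=
    gor_comp gr (pullback.snd (s ≫ e) e) x (nStalk_congr hgr2.symm x hN)
      (Groth.Agent.Helper5.GorYon.isGorAt_of_smooth gr x) h1
  exact gor_congr hgr2 x h2

end Groth.Agent.Helper5.GorSp
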