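import Groth.Agent.Helper5.GorSp1
import Groth.Agent.Helper5.GorSp2
import Groth.Agent.Helper4.AlgSpLocPFam
import Mathlib

set_option autoImplicit false
set_option linter.style.haveILetI false
set_option linter.unusedSectionVars false
set_option linter.unusedVariables false
universe u
open CategoryTheory CategoryTheory.Limits AlgebraicGeometry Opposite

namespace Groth.Agent.Helper5.GorSp

open AlgSp Groth.Agent.Helper4

variable {S : Scheme.{u}} {X Y : Sp S}

/-- the fibre local rings of the top arrow of a chart diagram are Noetherian -/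
theorem nStalk_chart (hX : IsAlgSpace X) (hY : IsAlgSpace Y)
    (f : X ⟶ Y) (hf : NoethFib f) {U V : Over S} (a : (yon S).obj U ⟶ X)
    (b : (yon S).obj V ⟶ Y) (h : U ⟶ V) (ha : RepWith @Etale a) (hb : RepWith @Etale b)
    (comm : a ≫ f = (yon S).map h ≫ b) (u : ↥U.left) : NStalk h.left u :=
  nStalk_of_fiber _ _ (isLocallyNoetherian_chart_fiber hX hY f hf a b h ha hb comm _)

theorem repWith_etale_yon_comp {U' U : Over S} (p : U' ⟶ U) (hp : Etale p.left)
    (a : (yon S).obj U ⟶ X) (ha : RepWith @Etale a) : RepWith @Etale ((yon S).map p ≫ a) :=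
  Groth.Agent.Helper4.AlgSpSrc.repWith_comp _ ((repWith_yon_map_iff _ _).2 hp) ha

set_option backward.isDefEq.respectTransparency.types false in
/-- being Gorenstein at a point does not depend on the chart diagram -/
theorem gor_chart_indep (hX : IsAlgSpace X) (hY : IsAlgSpace Y)
    (f : X ⟶ Y) (hf : NoethFib f) {U V : Over S} (a : (yon S).obj U ⟶ X)
    (b : (yon S).obj V ⟶ Y) (h : U ⟶ V) (ha : RepWith @Etale a) (hb : RepWith @Etale b)
    (comm : a ≫ f = (yon S).map h ≫ b) (u : ↥U.left) (hG : Dual3.IsGorensteinAt h.left u)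
    {U' V' : Over S} (a' : (yon S).obj U' ⟶ X) (b' : (yon S).obj V' ⟶ Y) (h' : U' ⟶ V')
    (ha' : RepWith @Etale a') (hb' : RepWith @Etale b')
    (comm' : a' ≫ f = (yon S).map h' ≫ b') (u' : ↥U'.left)
    (hpt : Points.ofPt a u = Points.ofPt a' u') : Dual3.IsGorensteinAt h'.left u' := by
  have har := ha.rep
  have hpbU : IsPullback (har.fst a') ((yon S).map (har.snd a')) a a' := har.isPullback a'
  obtain ⟨p₁, hp₁⟩ := (yon S).map_surjective (har.fst a')
  rw [← hp₁] at hpbU
  have hp₂e : Etale (har.snd a').left := ha.property _ _ _ hpbU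
  have hp₁e : Etale p₁.left := ha'.property _ _ _ hpbU.flip
  generalize har.snd a' = p₂ at hpbU hp₂e
  have hbr := hb.rep
  have hpbV : IsPullback (hbr.fst b') ((yon S).map (hbr.snd b')) b b' := hbr.isPullback b'
  obtain ⟨q₁, hq₁⟩ := (yon S).map_surjective (hbr.fst b')
  rw [← hq₁] at hpbV
  have hq₂e : Etale (hbr.snd b').left := hb.property _ _ _ hpbV
  have hq₁e : Etale q₁.left := hb'.property _ _ _ hpbV.flip
  generalize hbr.snd b' = q₂ at hpbV hq₂e
  have hw : (yon S).map (p₁ ≫ h) ≫ b = (yon S).map (p₂ ≫ h') ≫ b' := by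
    rw [Functor.map_comp, Category.assoc, ← comm, ← Category.assoc, hpbU.w, Category.assoc,
      comm', Functor.map_comp, Category.assoc]
  obtain ⟨s, hs⟩ := (yon S).map_surjective (hpbV.lift _ _ hw)
  have hs1 : s ≫ q₁ = p₁ ≫ h := by
    apply (yon S).map_injective
    rw [Functor.map_comp, hs]; exact hpbV.lift_fst _ _ hw
  have hs2 : s ≫ q₂ = p₂ ≫ h' := by
    apply (yon S).map_injective
    rw [Functor.map_comp, hs]; exact hpbV.lift_snd _ _ hw
  have hs1' : s.left ≫ q₁.left = p₁.left ≫ h.left := by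
    rw [← Over.comp_left, hs1, Over.comp_left]
  have hs2' : s.left ≫ q₂.left = p₂.left ≫ h'.left := by
    rw [← Over.comp_left, hs2, Over.comp_left]
  -- the point
  obtain ⟨u'', hu1, hu2⟩ :=
    Groth.Agent.Helper4.AlgSpLocPFam.exists_point_of_isPullback_yon a a' p₁ p₂ hpbU u u' hpt
  -- charts
  have ha1 : RepWith @Etale ((yon S).map p₁ ≫ a) := repWith_etale_yon_comp p₁ hp₁e a ha
  have ha2 : RepWith @Etale ((yon S).map p₂ ≫ a') := repWith_etale_yon_comp p₂ hp₂e a' ha'
  have hb1 : RepWith @Etale ((yon S).map q₁ ≫ b) := repWith_etale_yon_comp q₁ hq₁e b hb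
  have c1 : ((yon S).map p₁ ≫ a) ≫ f = (yon S).map (p₁ ≫ h) ≫ b := by
    rw [Category.assoc, comm, Functor.map_comp, Category.assoc]
  have c2 : ((yon S).map p₁ ≫ a) ≫ f = (yon S).map s ≫ ((yon S).map q₁ ≫ b) := by
    rw [c1, ← hs1, Functor.map_comp, Category.assoc]
  have c3 : ((yon S).map p₂ ≫ a') ≫ f = (yon S).map (p₂ ≫ h') ≫ b' := by
    rw [Category.assoc, comm', Functor.map_comp, Category.assoc]
  haveI := hp₁e
  haveI := hp₂e
  haveI := hq₁e
  haveI := hq₂e
  -- step 1
  have g1 : Dual3.IsGorensteinAt (p₁.left ≫ h.left) u'' := by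
    refine (gor_precomp_etale_iff p₁.left h.left u'' ?_ ?_).2 ?_
    · exact nStalk_chart hX hY f hf _ b (p₁ ≫ h) ha1 hb c1 u''
    · exact nStalk_chart hX hY f hf a b h ha hb comm _
    · rw [hu1]; exact hG
  -- step 2
  have g2 : Dual3.IsGorensteinAt s.left u'' := by
    refine gor_of_postcomp_etale s.left q₁.left u'' ?_ ?_ ?_
    · intro y
      rw [hs1']
      exact isLocallyNoetherian_chart_fiber hX hY f hf _ b (p₁ ≫ h) ha1 hb c1 y
    · exact nStalk_chart hX hY f hf _ _ s ha1 hb1 c2 u''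
    · exact gor_congr hs1'.symm u'' g1
  -- step 3
  have g3 : Dual3.IsGorensteinAt (s.left ≫ q₂.left) u'' := by
    refine gor_postcomp_etale s.left q₂.left u'' ?_ g2
    exact nStalk_congr hs2'.symm u'' (nStalk_chart hX hY f hf _ b' (p₂ ≫ h') ha2 hb' c3 u'')
  -- step 4
  have g4 : Dual3.IsGorensteinAt (p₂.left ≫ h'.left) u'' := gor_congr hs2' u'' g3
  have g5 := (gor_precomp_etale_iff p₂.left h'.left u''
    (nStalk_chart hX hY f hf _ b' (p₂ ≫ h') ha2 hb' c3 u'')
    (nStalk_chart hX hY f hf a' b' h' ha' hb' comm' _)).1 g4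
  rw [hu2] at g5
  exact g5

/-- being Gorenstein at a point of an algebraic space can be checked on one chart diagram -/
theorem locPAt_gor_of_chart (hX : IsAlgSpace X) (hY : IsAlgSpace Y)
    (f : X ⟶ Y) (hf : NoethFib f) (x : Points X) {U V : Over S} (a : (yon S).obj U ⟶ X)
    (b : (yon S).obj V ⟶ Y) (h : U ⟶ V) (ha : RepWith @Etale a) (hb : RepWith @Etale b)
    (comm : a ≫ f = (yon S).map h ≫ b) (u : ↥U.left) (hu : Points.ofPt a u = x)
    (hG : Dual3.IsGorensteinAt h.left u) :
    LocPAt (fun h u => Dual3.IsGorensteinAt h u) f x := by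
  intro U' V' a' b' h' u' ha' hb' comm' hu'
  exact gor_chart_indep hX hY f hf a b h ha hb comm u hG a' b' h' ha' hb' comm' u'
    (hu.trans hu'.symm)

end Groth.Agent.Helper5.GorSp
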