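import Groth.Agent.Helper5.GorSp3
import Groth.Agent.Helper5.AlgSpOpen
import Mathlib

set_option autoImplicit false
set_option linter.style.haveILetI false
set_option linter.unusedSectionVars false
set_option linter.unusedVariables false
universe u
open CategoryTheory CategoryTheory.Limits AlgebraicGeometry Opposite

namespace Groth.Agent.Helper5.GorSp

open AlgSp Groth.Agent.Helper4

variable {S : Scheme.{u}} {X Y Z : Sp S}

set_option backward.isDefEq.respectTransparency.types false in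
/-- a pair of compatible chart diagrams for a composite through a given point -/
theorem exists_chart_comp (hX : IsAlgSpace X) (hY : IsAlgSpace Y) (hZ : IsAlgSpace Z)
    (f : X ⟶ Y) (g : Y ⟶ Z) (x : Points X) :
    ∃ (U V W : Over S) (a : (yon S).obj U ⟶ X) (b : (yon S).obj V ⟶ Y) (c : (yon S).obj W ⟶ Z)
      (s : U ⟶ V) (t : V ⟶ W) (u : ↥U.left),
      RepWith @Etale a ∧ RepWith @Etale b ∧ RepWith @Etale c ∧
        a ≫ f = (yon S).map s ≫ b ∧ b ≫ g = (yon S).map t ≫ c ∧ Points.ofPt a u = x := by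
  obtain ⟨U₀, a₀, ha₀e, ha₀s⟩ := hX.atlas
  obtain ⟨V₀, b₀, hb₀e, hb₀s⟩ := hY.atlas
  obtain ⟨W₀, c₀, hc₀e, hc₀s⟩ := hZ.atlas
  -- `V = W₀ ×_Z V₀`
  have hcr := hc₀e.rep
  have sqV : IsPullback (hcr.fst (b₀ ≫ g)) ((yon S).map (hcr.snd (b₀ ≫ g))) c₀ (b₀ ≫ g) :=
    hcr.isPullback _
  obtain ⟨t, ht⟩ := (yon S).map_surjective (hcr.fst (b₀ ≫ g))
  rw [← ht] at sqV
  have hee : Etale (hcr.snd (b₀ ≫ g)).left := hc₀e.property _ _ _ sqV
  have hes : Surjective (hcr.snd (b₀ ≫ g)).left := hc₀s.property _ _ _ sqV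
  generalize hcr.snd (b₀ ≫ g) = e at sqV hee hes
  have hbe : RepWith @Etale ((yon S).map e ≫ b₀) := repWith_etale_yon_comp e hee b₀ hb₀e
  have hbs : RepWith @Surjective ((yon S).map e ≫ b₀) :=
    Groth.Agent.Helper4.AlgSpSrc.repWith_comp _ ((repWith_yon_map_iff _ _).2 hes) hb₀s
  -- `U = V ×_Y U₀`
  have hbr := hbe.rep
  have sqU : IsPullback (hbr.fst (a₀ ≫ f)) ((yon S).map (hbr.snd (a₀ ≫ f)))
      ((yon S).map e ≫ b₀) (a₀ ≫ f) := hbr.isPullback _
  obtain ⟨s, hs⟩ := (yon S).map_surjective (hbr.fst (a₀ ≫ f))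
  rw [← hs] at sqU
  have hre : Etale (hbr.snd (a₀ ≫ f)).left := hbe.property _ _ _ sqU
  have hrs : Surjective (hbr.snd (a₀ ≫ f)).left := hbs.property _ _ _ sqU
  generalize hbr.snd (a₀ ≫ f) = r at sqU hre hrs
  obtain ⟨u₀, hu₀⟩ := Groth.Agent.Helper5.AlgSpOpen.ofPt_surjective_of_repWith a₀ ha₀s x
  obtain ⟨u, hu⟩ := hrs.surj u₀
  refine ⟨_, _, W₀, (yon S).map r ≫ a₀, (yon S).map e ≫ b₀, c₀, s, t, u,
    repWith_etale_yon_comp r hre a₀ ha₀e, hbe, hc₀e, ?_, ?_, ?_⟩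
  · rw [Category.assoc]
    exact sqU.w.symm
  · rw [Category.assoc]
    exact sqV.w.symm
  · rw [Groth.Agent.Helper4.AlgSpPtsDesc.ofPt_yon_map_comp, hu, hu₀]

set_option backward.isDefEq.respectTransparency.types false in
theorem gorensteinAt_comp (hX : IsAlgSpace X) (hY : IsAlgSpace Y) (hZ : IsAlgSpace Z)
    (f : X ⟶ Y) (g : Y ⟶ Z) (hf : NoethFib f) (hg : NoethFib g) (hfg : NoethFib (f ≫ g))
    (x : Points X) :
    (LocPAt (fun h u => Dual3.IsGorensteinAt h u) f x →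
      LocPAt (fun h u => Dual3.IsGorensteinAt h u) g (Points.map f x) →
        LocPAt (fun h u => Dual3.IsGorensteinAt h u) (f ≫ g) x) ∧
      (LocPAt (fun h u => Dual3.IsGorensteinAt h u) (f ≫ g) x → IsFlatAtMor f x →
        LocPAt (fun h u => Dual3.IsGorensteinAt h u) f x ∧
          LocPAt (fun h u => Dual3.IsGorensteinAt h u) g (Points.map f x)) := by
  obtain ⟨U, V, W, a, b, c, s, t, u, ha, hb, hc, c1, c2, hu⟩ := exists_chart_comp hX hY hZ f g x
  have c3 : a ≫ (f ≫ g) = (yon S).map (s ≫ t) ≫ c := by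
    rw [← Category.assoc, c1, Category.assoc, c2, Functor.map_comp, Category.assoc]
  have hpt : Points.ofPt b (s.left u) = Points.map f x := by
    rw [← hu, Points.map_ofPt, c1, Groth.Agent.Helper4.AlgSpPtsDesc.ofPt_yon_map_comp]
  constructor
  · intro h1 h2
    have g1 : Dual3.IsGorensteinAt s.left u := h1 a b s u ha hb c1 hu
    have g2 : Dual3.IsGorensteinAt t.left (s.left u) := h2 b c t (s.left u) hb hc c2 hpt
    have g3 : Dual3.IsGorensteinAt (s.left ≫ t.left) u :=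
      gor_comp s.left t.left u (nStalk_chart hX hZ (f ≫ g) hfg a c (s ≫ t) ha hc c3 u) g1 g2
    exact locPAt_gor_of_chart hX hZ (f ≫ g) hfg x a c (s ≫ t) ha hc c3 u hu g3
  · intro h1 h2
    have g3 : Dual3.IsGorensteinAt (s.left ≫ t.left) u := h1 a c (s ≫ t) u ha hc c3 hu
    have hfl : (s.left.stalkMap u).hom.Flat := h2 a b s u ha hb c1 hu
    obtain ⟨g1, g2⟩ := gor_cancel s.left t.left u
      (nStalk_chart hY hZ g hg b c t hb hc c2 _) g3 hfl
    exact ⟨locPAt_gor_of_chart hX hY f hf x a b s ha hb c1 u hu g1,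
      locPAt_gor_of_chart hY hZ g hg _ b c t hb hc c2 (s.left u) hpt g2⟩

theorem s10687 {X Y Z : AlgSp.Space S} (f : X ⟶ Y) (g : Y ⟶ Z)
    (hf : ∀ (k : AlgSp.FieldPt Y.obj) (Xk : AlgSp.Sp S) (a : Xk ⟶ X.obj)
        (b : Xk ⟶ (AlgSp.yon S).obj k.pt), IsPullback a b f.hom k.toHom → AlgSp.IsLocNoethSp Xk)
    (hg : ∀ (k : AlgSp.FieldPt Z.obj) (Xk : AlgSp.Sp S) (a : Xk ⟶ Y.obj)
        (b : Xk ⟶ (AlgSp.yon S).obj k.pt), IsPullback a b g.hom k.toHom → AlgSp.IsLocNoethSp Xk)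
    (hfg : ∀ (k : AlgSp.FieldPt Z.obj) (Xk : AlgSp.Sp S) (a : Xk ⟶ X.obj)
        (b : Xk ⟶ (AlgSp.yon S).obj k.pt), IsPullback a b (f ≫ g).hom k.toHom →
          AlgSp.IsLocNoethSp Xk)
    (x : AlgSp.Points X.obj) :
    (AlgSp.LocPAt (fun h u => Dual3.IsGorensteinAt h u) f.hom x →
      AlgSp.LocPAt (fun h u => Dual3.IsGorensteinAt h u) g.hom (AlgSp.Points.map f.hom x) →
        AlgSp.LocPAt (fun h u => Dual3.IsGorensteinAt h u) (f ≫ g).hom x) ∧
      (AlgSp.LocPAt (fun h u => Dual3.IsGorensteinAt h u) (f ≫ g).hom x →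
        AlgSp.IsFlatAtMor f.hom x →
        AlgSp.LocPAt (fun h u => Dual3.IsGorensteinAt h u) f.hom x ∧
          AlgSp.LocPAt (fun h u => Dual3.IsGorensteinAt h u) g.hom (AlgSp.Points.map f.hom x)) :=
  gorensteinAt_comp X.property Y.property Z.property f.hom g.hom hf hg hfg x

end Groth.Agent.Helper5.GorSp
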