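import Groth.Agent.Helper5.GorSp4
import Groth.Agent.Helper3.GorBC1
import Mathlib

set_option autoImplicit false
set_option linter.style.haveILetI false
set_option linter.unusedSectionVars false
set_option linter.unusedVariables false
universe u
open CategoryTheory CategoryTheory.Limits AlgebraicGeometry Opposite

namespace Groth.Agent.Helper5.GorSp

open AlgSp Groth.Agent.Helper4

variable {S : Scheme.{u}} {X Y X' Y' : Sp S}

/-- the fibres of a base change are fibres of the original morphism -/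
theorem noethFib_of_isPullback {f : X ⟶ Y} {g : Y' ⟶ Y} {g' : X' ⟶ X} {f' : X' ⟶ Y'}
    (hsq : IsPullback g' f' f g) (hf : NoethFib f) : NoethFib f' := by
  intro k Xk a b sq
  refine hf (k.map g) Xk (a ≫ g') b ?_
  rw [FieldPt.toHom_map]
  exact sq.paste_horiz hsq

set_option backward.isDefEq.respectTransparency.types false in
/-- in a cube of chart diagrams over a pullback square whose source face is a pullback of schemes,
the induced chart of the fibre product inherits `RepWith Q` -/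
theorem repWith_cube (Q : MorphismProperty Scheme.{u}) [Q.IsStableUnderBaseChange]
    [Q.IsMultiplicative]
    {f : X ⟶ Y} {g : Y' ⟶ Y} {g' : X' ⟶ X} {f' : X' ⟶ Y'}
    (hsq : IsPullback g' f' f g)
    {U V V' U' : Over S} (a : (yon S).obj U ⟶ X) (b : (yon S).obj V ⟶ Y)
    (b' : (yon S).obj V' ⟶ Y') (h : U ⟶ V) (g₀ : V' ⟶ V)
    (comm : a ≫ f = (yon S).map h ≫ b) (comm' : b' ≫ g = (yon S).map g₀ ≫ b)
    (p₁ : U' ⟶ U) (p₂ : U' ⟶ V') (sq : IsPullback p₁ p₂ h g₀)
    (a' : (yon S).obj U' ⟶ X') (ha'1 : a' ≫ g' = (yon S).map p₁ ≫ a)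
    (ha'2 : a' ≫ f' = (yon S).map p₂ ≫ b')
    (hn : RepWith Q (pullback.lift a ((yon S).map h) comm)) (hb' : RepWith Q b') :
    RepWith Q a' := by
  have sqP : IsPullback (pullback.fst f b) (pullback.snd f b) f b := IsPullback.of_hasPullback _ _
  have sqP' : IsPullback (pullback.fst f' b') (pullback.snd f' b') f' b' :=
    IsPullback.of_hasPullback _ _
  obtain ⟨n, hn0⟩ : ∃ n : (yon S).obj U ⟶ pullback f b,
      n = pullback.lift a ((yon S).map h) comm := ⟨_, rfl⟩
  rw [← hn0] at hn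
  have hn1 : n ≫ pullback.fst f b = a := by rw [hn0]; exact pullback.lift_fst _ _ _
  have hn2 : n ≫ pullback.snd f b = (yon S).map h := by rw [hn0]; exact pullback.lift_snd _ _ _
  have hw : (pullback.fst f' b' ≫ g') ≫ f = (pullback.snd f' b' ≫ (yon S).map g₀) ≫ b := by
    rw [Category.assoc, hsq.w, ← Category.assoc, sqP'.w, Category.assoc, comm', Category.assoc]
  obtain ⟨r, hr⟩ : ∃ r : pullback f' b' ⟶ pullback f b,
      r = pullback.lift (pullback.fst f' b' ≫ g') (pullback.snd f' b' ≫ (yon S).map g₀) hw :=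
    ⟨_, rfl⟩
  have hr1 : r ≫ pullback.fst f b = pullback.fst f' b' ≫ g' := by
    rw [hr]; exact pullback.lift_fst _ _ _
  have hr2 : r ≫ pullback.snd f b = pullback.snd f' b' ≫ (yon S).map g₀ := by
    rw [hr]; exact pullback.lift_snd _ _ _
  have sqA : IsPullback r (pullback.snd f' b') (pullback.snd f b) ((yon S).map g₀) := by
    refine IsPullback.of_right ?_ hr2 sqP
    rw [hr1, ← comm']
    exact sqP'.paste_horiz hsq
  obtain ⟨n', hn'0⟩ : ∃ n' : (yon S).obj U' ⟶ pullback f' b',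
      n' = pullback.lift a' ((yon S).map p₂) ha'2 := ⟨_, rfl⟩
  have hn'1 : n' ≫ pullback.fst f' b' = a' := by rw [hn'0]; exact pullback.lift_fst _ _ _
  have hn'2 : n' ≫ pullback.snd f' b' = (yon S).map p₂ := by
    rw [hn'0]; exact pullback.lift_snd _ _ _
  have hn'r : n' ≫ r = (yon S).map p₁ ≫ n := by
    apply pullback.hom_ext
    · rw [Category.assoc, hr1, ← Category.assoc, hn'1, ha'1, Category.assoc, hn1]
    · rw [Category.assoc, hr2, ← Category.assoc, hn'2, Category.assoc, hn2, ← Functor.map_comp,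
        ← Functor.map_comp, sq.w]
  have sqB : IsPullback n' ((yon S).map p₁) r n := by
    refine IsPullback.of_right ?_ hn'r sqA.flip
    rw [hn'2, hn2]
    exact (sq.map (yon S)).flip
  have i1 := repWith_isStableUnderBaseChange (S := S) Q
  have hn' : RepWith Q n' := MorphismProperty.of_isPullback (P := RepWith Q) sqB.flip hn
  have hq : RepWith Q (pullback.fst f' b') :=
    MorphismProperty.of_isPullback (P := RepWith Q) sqP'.flip hb'
  rw [← hn'1]
  exact Groth.Agent.Helper4.AlgSpSrc.repWith_comp Q hn' hq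

set_option backward.isDefEq.respectTransparency.types false in
/-- a cube of chart diagrams over a pullback square through a given point of the fibre product -/
theorem exists_chart_cube (hX : IsAlgSpace X) (hY : IsAlgSpace Y) (hY' : IsAlgSpace Y')
    {f : X ⟶ Y} {g : Y' ⟶ Y} {g' : X' ⟶ X} {f' : X' ⟶ Y'}
    (hsq : IsPullback g' f' f g) (x' : Points X') :
    ∃ (U V V' U' : Over S) (a : (yon S).obj U ⟶ X) (b : (yon S).obj V ⟶ Y)
      (b' : (yon S).obj V' ⟶ Y') (a' : (yon S).obj U' ⟶ X') (h : U ⟶ V) (g₀ : V' ⟶ V)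
      (p₁ : U' ⟶ U) (p₂ : U' ⟶ V') (u' : ↥U'.left),
      RepWith @Etale a ∧ RepWith @Etale b ∧ RepWith @Etale b' ∧ RepWith @Etale a' ∧
        a ≫ f = (yon S).map h ≫ b ∧ b' ≫ g = (yon S).map g₀ ≫ b ∧
        IsPullback p₁ p₂ h g₀ ∧ a' ≫ g' = (yon S).map p₁ ≫ a ∧
        a' ≫ f' = (yon S).map p₂ ≫ b' ∧ Points.ofPt a' u' = x' := by
  obtain ⟨U₀, a₀, ha₀e, ha₀s⟩ := hX.atlas
  obtain ⟨V, b, hbe, hbs⟩ := hY.atlas
  obtain ⟨V'₀, b'₀, hb'₀e, hb'₀s⟩ := hY'.atlas
  have hbr := hbe.rep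
  -- `V' = V ×_Y V'₀`
  have sqV : IsPullback (hbr.fst (b'₀ ≫ g)) ((yon S).map (hbr.snd (b'₀ ≫ g))) b (b'₀ ≫ g) :=
    hbr.isPullback _
  obtain ⟨g₀, hg₀⟩ := (yon S).map_surjective (hbr.fst (b'₀ ≫ g))
  rw [← hg₀] at sqV
  have hee : Etale (hbr.snd (b'₀ ≫ g)).left := hbe.property _ _ _ sqV
  have hes : Surjective (hbr.snd (b'₀ ≫ g)).left := hbs.property _ _ _ sqV
  generalize hbr.snd (b'₀ ≫ g) = e at sqV hee hes
  have hb'e : RepWith @Etale ((yon S).map e ≫ b'₀) := repWith_etale_yon_comp e hee b'₀ hb'₀e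
  have hb's : RepWith @Surjective ((yon S).map e ≫ b'₀) :=
    Groth.Agent.Helper4.AlgSpSrc.repWith_comp _ ((repWith_yon_map_iff _ _).2 hes) hb'₀s
  have comm' : ((yon S).map e ≫ b'₀) ≫ g = (yon S).map g₀ ≫ b := by
    rw [Category.assoc]; exact sqV.w.symm
  -- `U = V ×_Y U₀`
  have sqU : IsPullback (hbr.fst (a₀ ≫ f)) ((yon S).map (hbr.snd (a₀ ≫ f))) b (a₀ ≫ f) :=
    hbr.isPullback _
  obtain ⟨h, hh⟩ := (yon S).map_surjective (hbr.fst (a₀ ≫ f))
  rw [← hh] at sqU
  have hre : Etale (hbr.snd (a₀ ≫ f)).left := hbe.property _ _ _ sqU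
  generalize hbr.snd (a₀ ≫ f) = r at sqU hre
  have hae : RepWith @Etale ((yon S).map r ≫ a₀) := repWith_etale_yon_comp r hre a₀ ha₀e
  have comm : ((yon S).map r ≫ a₀) ≫ f = (yon S).map h ≫ b := by
    rw [Category.assoc]; exact sqU.w.symm
  -- `n : U ⟶ X ×_Y V` is a base change of `a₀`
  have sqP : IsPullback (pullback.fst f b) (pullback.snd f b) f b := IsPullback.of_hasPullback _ _
  have sqN : IsPullback (pullback.lift ((yon S).map r ≫ a₀) ((yon S).map h) comm) ((yon S).map r)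
      (pullback.fst f b) a₀ := by
    refine IsPullback.of_right ?_ (pullback.lift_fst _ _ _) sqP.flip
    rw [pullback.lift_snd]
    exact sqU
  have i1 := repWith_isStableUnderBaseChange (S := S) @Etale
  have i2 := repWith_isStableUnderBaseChange (S := S) @Surjective
  have hne : RepWith @Etale (pullback.lift ((yon S).map r ≫ a₀) ((yon S).map h) comm) :=
    MorphismProperty.of_isPullback (P := RepWith @Etale) sqN.flip ha₀e
  have hns : RepWith @Surjective (pullback.lift ((yon S).map r ≫ a₀) ((yon S).map h) comm) :=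
    MorphismProperty.of_isPullback (P := RepWith @Surjective) sqN.flip ha₀s
  -- `U' = U ×_V V'`
  have sq : IsPullback (pullback.fst h g₀) (pullback.snd h g₀) h g₀ := IsPullback.of_hasPullback _ _
  generalize pullback.fst h g₀ = p₁ at sq
  generalize pullback.snd h g₀ = p₂ at sq
  generalize pullback h g₀ = U' at p₁ p₂ sq
  have hw : ((yon S).map p₁ ≫ (yon S).map r ≫ a₀) ≫ f =
      ((yon S).map p₂ ≫ (yon S).map e ≫ b'₀) ≫ g := by
    rw [Category.assoc, comm, Category.assoc, comm', ← Category.assoc, ← Category.assoc,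
      ← Functor.map_comp, ← Functor.map_comp, sq.w]
  obtain ⟨a', ha'⟩ : ∃ a' : (yon S).obj U' ⟶ X', a' = hsq.lift _ _ hw := ⟨_, rfl⟩
  have ha'1 : a' ≫ g' = (yon S).map p₁ ≫ (yon S).map r ≫ a₀ := by
    rw [ha']; exact hsq.lift_fst _ _ hw
  have ha'2 : a' ≫ f' = (yon S).map p₂ ≫ (yon S).map e ≫ b'₀ := by
    rw [ha']; exact hsq.lift_snd _ _ hw
  have ha'e : RepWith @Etale a' :=
    repWith_cube @Etale hsq _ b _ h g₀ comm comm' p₁ p₂ sq a' ha'1 ha'2 hne hb'e
  have ha's : RepWith @Surjective a' :=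
    repWith_cube @Surjective hsq _ b _ h g₀ comm comm' p₁ p₂ sq a' ha'1 ha'2 hns hb's
  obtain ⟨u', hu'⟩ := Groth.Agent.Helper5.AlgSpOpen.ofPt_surjective_of_repWith a' ha's x'
  exact ⟨_, V, _, U', _, b, _, a', h, g₀, p₁, p₂, u', hae, hbe, hb'e, ha'e, comm, comm', sq,
    ha'1, ha'2, hu'⟩

set_option backward.isDefEq.respectTransparency.types false in
theorem gorensteinAt_baseChange (hX : IsAlgSpace X) (hY : IsAlgSpace Y) (hX' : IsAlgSpace X')
    (hY' : IsAlgSpace Y')
    (f : X ⟶ Y) (g : Y' ⟶ Y) (g' : X' ⟶ X) (f' : X' ⟶ Y')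
    (hsq : IsPullback g' f' f g) (hf : NoethFib f) (hg : LocP @LocallyOfFiniteType g)
    (x' : Points X') :
    (LocPAt (fun h u => Dual3.IsGorensteinAt h u) f (Points.map g' x') →
        LocPAt (fun h u => Dual3.IsGorensteinAt h u) f' x') ∧
      (IsFlatAtMor f (Points.map g' x') → LocPAt (fun h u => Dual3.IsGorensteinAt h u) f' x' →
        LocPAt (fun h u => Dual3.IsGorensteinAt h u) f (Points.map g' x')) ∧
      (IsFlatAtMor g (Points.map f' x') → LocPAt (fun h u => Dual3.IsGorensteinAt h u) f' x' →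
        LocPAt (fun h u => Dual3.IsGorensteinAt h u) f (Points.map g' x')) := by
  have hf' : NoethFib f' := noethFib_of_isPullback hsq hf
  obtain ⟨U, V, V', U', a, b, b', a', h, g₀, p₁, p₂, u', hae, hbe, hb'e, ha'e, comm, comm', sq,
    ha'1, ha'2, hu'⟩ := exists_chart_cube hX hY hY' hsq x'
  have hlft : LocallyOfFiniteType g₀.left := hg b' b g₀ hb'e hbe comm'
  have sqS : IsPullback p₁.left p₂.left h.left g₀.left := sq.map (Over.forget S)
  have hfib : ∀ y, IsLocallyNoetherian (h.left.fiber y) :=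
    fun y => isLocallyNoetherian_chart_fiber hX hY f hf a b h hae hbe comm y
  have hpt1 : Points.ofPt a (p₁.left u') = Points.map g' x' := by
    rw [← hu', Points.map_ofPt, ha'1, Groth.Agent.Helper4.AlgSpPtsDesc.ofPt_yon_map_comp]
  have hpt2 : Points.ofPt b' (p₂.left u') = Points.map f' x' := by
    rw [← hu', Points.map_ofPt, ha'2, Groth.Agent.Helper4.AlgSpPtsDesc.ofPt_yon_map_comp]
  obtain ⟨k1, k2, k3⟩ := Groth.Agent.Helper3.GorBC1.s3625 U.left V.left U'.left V'.left h.left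
    g₀.left p₂.left p₁.left sqS hfib u'
  refine ⟨?_, ?_, ?_⟩
  · intro h1
    exact locPAt_gor_of_chart hX' hY' f' hf' x' a' b' p₂ ha'e hb'e ha'2 u' hu'
      (k1 (h1 a b h (p₁.left u') hae hbe comm hpt1))
  · intro h1 h2
    exact locPAt_gor_of_chart hX hY f hf _ a b h hae hbe comm (p₁.left u') hpt1
      (k2 (h1 a b h (p₁.left u') hae hbe comm hpt1) (h2 a' b' p₂ u' ha'e hb'e ha'2 hu'))
  · intro h1 h2
    exact locPAt_gor_of_chart hX hY f hf _ a b h hae hbe comm (p₁.left u') hpt1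
      (k3 (h1 b' b g₀ (p₂.left u') hb'e hbe comm' hpt2) (h2 a' b' p₂ u' ha'e hb'e ha'2 hu'))

theorem s10688 {X Y X' Y' : AlgSp.Space S} (f : X ⟶ Y) (g : Y' ⟶ Y) (g' : X' ⟶ X)
    (f' : X' ⟶ Y')
    (hsq : IsPullback g'.hom f'.hom f.hom g.hom)
    (hf : ∀ (k : AlgSp.FieldPt Y.obj) (Xk : AlgSp.Sp S) (a : Xk ⟶ X.obj)
        (b : Xk ⟶ (AlgSp.yon S).obj k.pt), IsPullback a b f.hom k.toHom → AlgSp.IsLocNoethSp Xk)
    (hg : AlgSp.LocP @LocallyOfFiniteType g.hom) (x' : AlgSp.Points X'.obj) :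
    (AlgSp.LocPAt (fun h u => Dual3.IsGorensteinAt h u) f.hom (AlgSp.Points.map g'.hom x') →
        AlgSp.LocPAt (fun h u => Dual3.IsGorensteinAt h u) f'.hom x') ∧
      (AlgSp.IsFlatAtMor f.hom (AlgSp.Points.map g'.hom x') →
        AlgSp.LocPAt (fun h u => Dual3.IsGorensteinAt h u) f'.hom x' →
        AlgSp.LocPAt (fun h u => Dual3.IsGorensteinAt h u) f.hom (AlgSp.Points.map g'.hom x')) ∧
      (AlgSp.IsFlatAtMor g.hom (AlgSp.Points.map f'.hom x') →
        AlgSp.LocPAt (fun h u => Dual3.IsGorensteinAt h u) f'.hom x' →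
        AlgSp.LocPAt (fun h u => Dual3.IsGorensteinAt h u) f.hom (AlgSp.Points.map g'.hom x')) :=
  gorensteinAt_baseChange X.property Y.property X'.property Y'.property f.hom g.hom g'.hom f'.hom
    hsq hf hg x'

end Groth.Agent.Helper5.GorSp
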