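import Mathlib
import Groth.Prelude.Def_AlgSpGpd

set_option autoImplicit false
universe u
open CategoryTheory CategoryTheory.Limits AlgebraicGeometry Opposite

namespace Groth.Agent.Helper5.Gpd1

open AlgSp

variable {S : Scheme.{u}} {B : Sp S} (G : GroupoidSp B)

/-- Composition of `T`-valued arrows. -/
noncomputable def comp {T : Sp S} (α β : T ⟶ G.R) (h : α ≫ G.s = β ≫ G.t) : T ⟶ G.R :=
  pullback.lift α β h ≫ G.c

theorem comp_congr {T : Sp S} {α α' β β' : T ⟶ G.R} (hα : α = α') (hβ : β = β')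
    (h : α ≫ G.s = β ≫ G.t) (h' : α' ≫ G.s = β' ≫ G.t) : comp G α β h = comp G α' β' h' := by
  subst hα hβ
  rfl

theorem pre_comp {T T' : Sp S} (f : T' ⟶ T) (α β : T ⟶ G.R) (h : α ≫ G.s = β ≫ G.t) :
    f ≫ comp G α β h = comp G (f ≫ α) (f ≫ β)
      (by rw [Category.assoc, Category.assoc, h]) := by
  unfold comp
  rw [← Category.assoc]
  congr 1
  apply pullback.hom_ext
  · rw [Category.assoc, pullback.lift_fst, pullback.lift_fst]
  · rw [Category.assoc, pullback.lift_snd, pullback.lift_snd]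

theorem comp_s {T : Sp S} (α β : T ⟶ G.R) (h : α ≫ G.s = β ≫ G.t) :
    comp G α β h ≫ G.s = β ≫ G.s := G.comp_s α β h

theorem comp_t {T : Sp S} (α β : T ⟶ G.R) (h : α ≫ G.s = β ≫ G.t) :
    comp G α β h ≫ G.t = α ≫ G.t := G.comp_t α β h

theorem assoc {T : Sp S} (α β γ : T ⟶ G.R) (h₁ : α ≫ G.s = β ≫ G.t) (h₂ : β ≫ G.s = γ ≫ G.t) :
    comp G (comp G α β h₁) γ ((comp_s G α β h₁).trans h₂) =
      comp G α (comp G β γ h₂) (h₁.trans (comp_t G β γ h₂).symm) :=
  G.assoc α β γ h₁ h₂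

theorem comp_e {T : Sp S} (α : T ⟶ G.R) (u : T ⟶ G.U) (hu : α ≫ G.s = u) :
    comp G α (u ≫ G.e) (by rw [Category.assoc, G.e_t, Category.comp_id, hu]) = α := by
  subst hu
  have := G.comp_e α
  simpa [comp] using this

theorem e_comp {T : Sp S} (α : T ⟶ G.R) (u : T ⟶ G.U) (hu : α ≫ G.t = u) :
    comp G (u ≫ G.e) α (by rw [Category.assoc, G.e_s, Category.comp_id, hu]) = α := by
  subst hu
  have := G.e_comp α
  simpa [comp] using this

theorem comp_i {T : Sp S} (α : T ⟶ G.R) :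
    comp G α (α ≫ G.i) (by rw [Category.assoc, G.i_t]) = α ≫ G.t ≫ G.e := G.comp_i α

theorem i_comp {T : Sp S} (α : T ⟶ G.R) :
    comp G (α ≫ G.i) α (by rw [Category.assoc, G.i_s]) = α ≫ G.s ≫ G.e := G.i_comp α

/-- `(α ∘ β⁻¹) ∘ β = α` when `s α = s β`. -/
theorem comp_inv_comp {T : Sp S} (α β : T ⟶ G.R) (h : α ≫ G.s = β ≫ G.s) :
    comp G (comp G α (β ≫ G.i) (by rw [Category.assoc, G.i_t, h])) β
      (by rw [comp_s, Category.assoc, G.i_s]) = α := by
  rw [assoc G α (β ≫ G.i) β (by rw [Category.assoc, G.i_t, h]) (by rw [Category.assoc, G.i_s])]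
  rw [comp_congr G rfl (i_comp G β) _ (by rw [Category.assoc, Category.assoc, G.e_t, Category.comp_id, h])]
  have := comp_e G α (β ≫ G.s) h
  simpa using this

/-- `(α ∘ β) ∘ β⁻¹ = α` when `s α = t β`. -/
theorem comp_comp_inv {T : Sp S} (α β : T ⟶ G.R) (h : α ≫ G.s = β ≫ G.t) :
    comp G (comp G α β h) (β ≫ G.i) (by rw [comp_s, Category.assoc, G.i_t]) = α := by
  rw [assoc G α β (β ≫ G.i) h (by rw [Category.assoc, G.i_t])]
  rw [comp_congr G rfl (comp_i G β) _ (by rw [Category.assoc, Category.assoc, G.e_t, Category.comp_id, h])]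
  have := comp_e G α (β ≫ G.t) h
  simpa using this

/-- `α⁻¹ ∘ (α ∘ β) = β` when `s α = t β`. -/
theorem inv_comp_comp {T : Sp S} (α β : T ⟶ G.R) (h : α ≫ G.s = β ≫ G.t) :
    comp G (α ≫ G.i) (comp G α β h) (by rw [comp_t, Category.assoc, G.i_s]) = β := by
  rw [← assoc G (α ≫ G.i) α β (by rw [Category.assoc, G.i_s]) h]
  rw [comp_congr G (i_comp G α) rfl _ (by rw [Category.assoc, Category.assoc, G.e_s, Category.comp_id, h])]
  have := e_comp G β (α ≫ G.s) h.symm
  simpa using this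

/-- `α ∘ (α⁻¹ ∘ β) = β` when `t α = t β`. -/
theorem comp_inv_comp' {T : Sp S} (α β : T ⟶ G.R) (h : α ≫ G.t = β ≫ G.t) :
    comp G α (comp G (α ≫ G.i) β (by rw [Category.assoc, G.i_s, h]))
      (by rw [comp_t, Category.assoc, G.i_t]) = β := by
  rw [← assoc G α (α ≫ G.i) β (by rw [Category.assoc, G.i_t]) (by rw [Category.assoc, G.i_s, h])]
  rw [comp_congr G (comp_i G α) rfl _ (by rw [Category.assoc, Category.assoc, G.e_s, Category.comp_id, h])]
  have := e_comp G β (α ≫ G.t) h.symm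
  simpa using this

end Groth.Agent.Helper5.Gpd1
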