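import Groth.Agent.Helper5.Gpd2

set_option autoImplicit false
universe u
open CategoryTheory CategoryTheory.Limits AlgebraicGeometry Opposite

namespace Groth.Agent.Helper5.Gpd1

open AlgSp

variable {S : Scheme.{u}} {B : Sp S} (G : GroupoidSp B)

section fibres
variable {K : Sp S} (r r' : K ⟶ G.R) (h : r ≫ G.t = r' ≫ G.t)

/-- `γ = r⁻¹ ∘ r'`. -/
noncomputable def gam : K ⟶ G.R :=
  comp G (r ≫ G.i) r' (by rw [Category.assoc, G.i_s, h])

theorem gam_s : gam G r r' h ≫ G.s = r' ≫ G.s := by
  unfold gam; rw [comp_s]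

theorem gam_t : gam G r r' h ≫ G.t = r ≫ G.s := by
  unfold gam; rw [comp_t, Category.assoc, G.i_t]

/-- Right translation by `γ` : fibre of `s` over `s r` to fibre of `s` over `s r'`. -/
noncomputable def fibMap : pullback (r ≫ G.s) G.s ⟶ pullback (r' ≫ G.s) G.s :=
  pullback.lift (pullback.fst (r ≫ G.s) G.s)
    (comp G (pullback.snd (r ≫ G.s) G.s) (pullback.fst (r ≫ G.s) G.s ≫ gam G r r' h)
      (by rw [Category.assoc, gam_t, ← pullback.condition]))
    (by rw [comp_s, Category.assoc, gam_s])

noncomputable def fibInv : pullback (r' ≫ G.s) G.s ⟶ pullback (r ≫ G.s) G.s :=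
  pullback.lift (pullback.fst (r' ≫ G.s) G.s)
    (comp G (pullback.snd (r' ≫ G.s) G.s) ((pullback.fst (r' ≫ G.s) G.s ≫ gam G r r' h) ≫ G.i)
      (by rw [Category.assoc, Category.assoc, G.i_t, gam_s, ← pullback.condition]))
    (by rw [comp_s, Category.assoc, Category.assoc, G.i_s, gam_t])

theorem fibMap_fibInv : fibMap G r r' h ≫ fibInv G r r' h = 𝟙 _ := by
  apply pullback.hom_ext
  · unfold fibMap fibInv
    rw [Category.assoc, pullback.lift_fst, pullback.lift_fst, Category.id_comp]
  · have h1 : fibMap G r r' h ≫ pullback.snd (r' ≫ G.s) G.s =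
        comp G (pullback.snd (r ≫ G.s) G.s) (pullback.fst (r ≫ G.s) G.s ≫ gam G r r' h)
          (by rw [Category.assoc, gam_t, ← pullback.condition]) := by
      unfold fibMap; rw [pullback.lift_snd]
    have h2 : fibMap G r r' h ≫ (pullback.fst (r' ≫ G.s) G.s ≫ gam G r r' h) ≫ G.i =
        (pullback.fst (r ≫ G.s) G.s ≫ gam G r r' h) ≫ G.i := by
      have : fibMap G r r' h ≫ pullback.fst (r' ≫ G.s) G.s = pullback.fst (r ≫ G.s) G.s := by
        unfold fibMap; rw [pullback.lift_fst]
      simp only [← Category.assoc]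
      rw [this]
    have h3 : fibInv G r r' h ≫ pullback.snd (r ≫ G.s) G.s =
        comp G (pullback.snd (r' ≫ G.s) G.s) ((pullback.fst (r' ≫ G.s) G.s ≫ gam G r r' h) ≫ G.i)
          (by rw [Category.assoc, Category.assoc, G.i_t, gam_s, ← pullback.condition]) := by
      unfold fibInv; rw [pullback.lift_snd]
    rw [Category.assoc, h3, pre_comp, Category.id_comp]
    rw [comp_congr G h1 h2 _ (by simp only [comp_s, Category.assoc, G.i_t])]
    exact comp_comp_inv G _ _ _

theorem fibInv_fibMap : fibInv G r r' h ≫ fibMap G r r' h = 𝟙 _ := by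
  apply pullback.hom_ext
  · unfold fibMap fibInv
    rw [Category.assoc, pullback.lift_fst, pullback.lift_fst, Category.id_comp]
  · have h1 : fibInv G r r' h ≫ pullback.snd (r ≫ G.s) G.s =
        comp G (pullback.snd (r' ≫ G.s) G.s) ((pullback.fst (r' ≫ G.s) G.s ≫ gam G r r' h) ≫ G.i)
          (by rw [Category.assoc, Category.assoc, G.i_t, gam_s, ← pullback.condition]) := by
      unfold fibInv; rw [pullback.lift_snd]
    have h2 : fibInv G r r' h ≫ pullback.fst (r ≫ G.s) G.s ≫ gam G r r' h =
        pullback.fst (r' ≫ G.s) G.s ≫ gam G r r' h := by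
      have : fibInv G r r' h ≫ pullback.fst (r ≫ G.s) G.s = pullback.fst (r' ≫ G.s) G.s := by
        unfold fibInv; rw [pullback.lift_fst]
      rw [← Category.assoc, this]
    have h3 : fibMap G r r' h ≫ pullback.snd (r' ≫ G.s) G.s =
        comp G (pullback.snd (r ≫ G.s) G.s) (pullback.fst (r ≫ G.s) G.s ≫ gam G r r' h)
          (by rw [Category.assoc, gam_t, ← pullback.condition]) := by
      unfold fibMap; rw [pullback.lift_snd]
    rw [Category.assoc, h3, pre_comp, Category.id_comp]
    rw [comp_congr G h1 h2 _ (by simp only [comp_s, Category.assoc, G.i_s])]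
    exact comp_inv_comp G _ _ (by rw [Category.assoc, gam_s, ← pullback.condition])

include h in
theorem nonempty_fibre_iso :
    Nonempty (Over.mk (pullback.fst (r ≫ G.s) G.s) ≅ Over.mk (pullback.fst (r' ≫ G.s) G.s)) :=
  ⟨Over.isoMk ⟨fibMap G r r' h, fibInv G r r' h, fibMap_fibInv G r r' h, fibInv_fibMap G r r' h⟩
    (by unfold fibMap; exact pullback.lift_fst _ _ _)⟩

end fibres

end Groth.Agent.Helper5.Gpd1
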