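import Groth.Agent.Helper5.Gpd2
import Groth.Agent.Helper4.AlgSpLocPChart
import Groth.Agent.Helper4.AlgSpLocPBC
import Groth.Agent.Helper4.AlgSpLocPComp
import Groth.Agent.Helper4.AlgSpPB

set_option autoImplicit false
universe u
open CategoryTheory CategoryTheory.Limits AlgebraicGeometry Opposite MorphismProperty

namespace Groth.Agent.Helper5.Restr1

open AlgSp Groth.Agent.Helper4.SDClasses

variable {S : Scheme.{u}}

/-- Two-step decomposition of a "joint" pullback. -/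
theorem two_step {X₁ X₂ Y₁ Y₂ R R' : Sp S} (g₁ : X₁ ⟶ Y₁) (g₂ : X₂ ⟶ Y₂) (a₁ : R ⟶ Y₁) (a₂ : R ⟶ Y₂)
    (b₁ : R' ⟶ X₁) (b₂ : R' ⟶ X₂) (f : R' ⟶ R) (h1 : b₁ ≫ g₁ = f ≫ a₁) (h2 : b₂ ≫ g₂ = f ≫ a₂)
    (lift : ∀ {T : Sp S} (x₁ : T ⟶ X₁) (x₂ : T ⟶ X₂) (r : T ⟶ R), x₁ ≫ g₁ = r ≫ a₁ → x₂ ≫ g₂ = r ≫ a₂ →
      ∃ m : T ⟶ R', m ≫ b₁ = x₁ ∧ m ≫ b₂ = x₂ ∧ m ≫ f = r)
    (ext : ∀ {T : Sp S} (m m' : T ⟶ R'), m ≫ b₁ = m' ≫ b₁ → m ≫ b₂ = m' ≫ b₂ → m ≫ f = m' ≫ f → m = m') :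
    IsPullback (pullback.lift b₂ f h2) b₁ (pullback.snd g₂ a₂ ≫ a₁) g₁ := by
  refine ⟨⟨?_⟩, ⟨PullbackCone.IsLimit.mk _ ?_ ?_ ?_ ?_⟩⟩
  · rw [pullback.lift_snd_assoc, h1]
  · intro c
    exact (lift c.snd (c.fst ≫ pullback.fst g₂ a₂) (c.fst ≫ pullback.snd g₂ a₂)
      (by rw [← c.condition, Category.assoc])
      (by rw [Category.assoc, Category.assoc, pullback.condition])).choose
  · intro c
    have h := (lift c.snd (c.fst ≫ pullback.fst g₂ a₂) (c.fst ≫ pullback.snd g₂ a₂)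
      (by rw [← c.condition, Category.assoc])
      (by rw [Category.assoc, Category.assoc, pullback.condition])).choose_spec
    apply pullback.hom_ext
    · rw [Category.assoc, pullback.lift_fst]; exact h.2.1
    · rw [Category.assoc, pullback.lift_snd]; exact h.2.2
  · intro c
    exact (lift c.snd (c.fst ≫ pullback.fst g₂ a₂) (c.fst ≫ pullback.snd g₂ a₂)
      (by rw [← c.condition, Category.assoc])
      (by rw [Category.assoc, Category.assoc, pullback.condition])).choose_spec.1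
  · intro c m hm1 hm2
    have h := (lift c.snd (c.fst ≫ pullback.fst g₂ a₂) (c.fst ≫ pullback.snd g₂ a₂)
      (by rw [← c.condition, Category.assoc])
      (by rw [Category.assoc, Category.assoc, pullback.condition])).choose_spec
    apply ext
    · rw [hm2, h.1]
    · rw [h.2.1, ← hm1, Category.assoc, pullback.lift_fst]
    · rw [h.2.2, ← hm1, Category.assoc, pullback.lift_snd]

variable {B : Sp S} {G G' : GroupoidSp B} (φ : GroupoidSp.Hom G' G)

theorem joint_lift (hφ : φ.IsRestriction) {T : Sp S} (x₁ x₂ : T ⟶ G'.U) (r : T ⟶ G.R)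
    (h₁ : x₁ ≫ φ.fU = r ≫ G.t) (h₂ : x₂ ≫ φ.fU = r ≫ G.s) :
    ∃ m : T ⟶ G'.R, m ≫ G'.t = x₁ ∧ m ≫ G'.s = x₂ ∧ m ≫ φ.fR = r := by
  have hB : x₁ ≫ G'.pU = x₂ ≫ G'.pU := by
    rw [← φ.fU_over, ← Category.assoc, h₁, ← Category.assoc, h₂, Category.assoc, Category.assoc,
      G.t_over, G.s_over]
  have hw : r ≫ G.j = pullback.lift x₁ x₂ hB ≫ φ.prodMap := by
    apply pullback.hom_ext
    · rw [Category.assoc, G.j_fst, Category.assoc]
      unfold GroupoidSp.Hom.prodMap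
      rw [pullback.lift_fst, pullback.lift_fst_assoc, h₁]
    · rw [Category.assoc, G.j_snd, Category.assoc]
      unfold GroupoidSp.Hom.prodMap
      rw [pullback.lift_snd, pullback.lift_snd_assoc, h₂]
  refine ⟨hφ.lift r _ hw, ?_, ?_, hφ.lift_fst _ _ hw⟩
  · rw [← G'.j_fst, ← Category.assoc, hφ.lift_snd, pullback.lift_fst]
  · rw [← G'.j_snd, ← Category.assoc, hφ.lift_snd, pullback.lift_snd]

theorem joint_ext (hφ : φ.IsRestriction) {T : Sp S} (m m' : T ⟶ G'.R)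
    (ht : m ≫ G'.t = m' ≫ G'.t) (hs : m ≫ G'.s = m' ≫ G'.s) (hr : m ≫ φ.fR = m' ≫ φ.fR) : m = m' := by
  apply hφ.hom_ext hr
  apply pullback.hom_ext
  · rw [Category.assoc, Category.assoc, G'.j_fst, ht]
  · rw [Category.assoc, Category.assoc, G'.j_snd, hs]

/-- `s'` decomposes as (base change of `g`) then (base change of `s`). -/
theorem sq_s (hφ : φ.IsRestriction) :
    IsPullback (pullback.lift G'.s φ.fR φ.comm_s.symm) G'.t (pullback.snd φ.fU G.s ≫ G.t) φ.fU :=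
  two_step φ.fU φ.fU G.t G.s G'.t G'.s φ.fR φ.comm_t.symm φ.comm_s.symm
    (fun x₁ x₂ r h₁ h₂ => joint_lift φ hφ x₁ x₂ r h₁ h₂)
    (fun m m' h₁ h₂ h₃ => joint_ext φ hφ m m' h₁ h₂ h₃)

theorem sq_t (hφ : φ.IsRestriction) :
    IsPullback (pullback.lift G'.t φ.fR φ.comm_t.symm) G'.s (pullback.snd φ.fU G.t ≫ G.s) φ.fU :=
  two_step φ.fU φ.fU G.s G.t G'.s G'.t φ.fR φ.comm_s.symm φ.comm_t.symm
    (fun x₁ x₂ r h₁ h₂ => by
      obtain ⟨m, hm1, hm2, hm3⟩ := joint_lift φ hφ x₂ x₁ r h₂ h₁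
      exact ⟨m, hm2, hm1, hm3⟩)
    (fun m m' h₁ h₂ h₃ => joint_ext φ hφ m m' h₂ h₁ h₃)

theorem locP_restrict (P : MorphismProperty Scheme.{u}) (hG : Good P)
    (hU : IsAlgSpace G.U) (hR : IsAlgSpace G.R) (hU' : IsAlgSpace G'.U)
    (hφ : φ.IsRestriction) (hs : LocP P G.s) (ht : LocP P G.t) (hg : LocP P φ.fU) :
    LocP P G'.s ∧ LocP P G'.t := by
  have := hG.bc
  have := hG.comp
  constructor
  · have hmid : IsAlgSpace (pullback φ.fU G.s) :=
      Groth.Agent.Helper4.AlgSpPB.isAlgSpace_of_isPullback hU.diag hU' hR φ.fU G.s _ _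
        (IsPullback.of_hasPullback _ _)
    have h1 : LocP P (pullback.lift G'.s φ.fR φ.comm_s.symm) :=
      Groth.Agent.Helper4.AlgSpLocPBC.locP_of_isPullback P hG.etale_le hG.sd hU' hU φ.fU _ _ _
        (sq_s φ hφ).flip hg
    have h2 : LocP P (pullback.fst φ.fU G.s) :=
      Groth.Agent.Helper4.AlgSpLocPBC.locP_of_isPullback P hG.etale_le hG.sd hR hU G.s φ.fU _ _
        (IsPullback.of_hasPullback φ.fU G.s).flip hs
    have := Groth.Agent.Helper4.AlgSpLocPComp.locP_comp P hG hmid _ _ h1 h2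
    rwa [pullback.lift_fst] at this
  · have hmid : IsAlgSpace (pullback φ.fU G.t) :=
      Groth.Agent.Helper4.AlgSpPB.isAlgSpace_of_isPullback hU.diag hU' hR φ.fU G.t _ _
        (IsPullback.of_hasPullback _ _)
    have h1 : LocP P (pullback.lift G'.t φ.fR φ.comm_t.symm) :=
      Groth.Agent.Helper4.AlgSpLocPBC.locP_of_isPullback P hG.etale_le hG.sd hU' hU φ.fU _ _ _
        (sq_t φ hφ).flip hg
    have h2 : LocP P (pullback.fst φ.fU G.t) :=
      Groth.Agent.Helper4.AlgSpLocPBC.locP_of_isPullback P hG.etale_le hG.sd hR hU G.t φ.fU _ _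
        (IsPullback.of_hasPullback φ.fU G.t).flip ht
    have := Groth.Agent.Helper4.AlgSpLocPComp.locP_comp P hG hmid _ _ h1 h2
    rwa [pullback.lift_fst] at this

end Groth.Agent.Helper5.Restr1
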