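import Groth.Agent.Helper5.AlgClosedIso
import Groth.Agent.Helper5.Restr1
import Groth.Agent.Helper4.AlgSpQC2
import Groth.Prelude.Def_AlgSpDec
import Mathlib

set_option autoImplicit false
set_option linter.style.haveILetI false
set_option linter.unusedSectionVars false
set_option linter.unusedVariables false
universe u
open CategoryTheory CategoryTheory.Limits AlgebraicGeometry Opposite Cardinal

namespace Groth.Agent.Helper5.GpdAlgCl

open AlgSp Groth.Agent.Helper4.AlgSpQC2 Groth.Agent.Helper5.AlgClosedIso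

variable {S : Scheme.{u}}

/-- all points of the spectrum of the field of a field valued point map to its class -/
theorem map_toHom_const {F : Sp S} (ρ : FieldPt F) (s : Points ((yon S).obj ρ.pt)) :
    Points.map ρ.toHom s = Points.mk ρ := by
  obtain ⟨s₀, rfl⟩ := (Points.schemeHomeo ρ.pt).surjective s
  rw [ofPt_eq_map_schemeHomeo]
  exact Points.ofPt_toHom ρ s₀

set_option backward.isDefEq.respectTransparency.types false in
theorem s10146 (B : AlgSp.Sp S) (hB : AlgSp.IsAlgSpace B)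
    (G : AlgSp.GroupoidSp B) (hR : AlgSp.IsAlgSpace G.R) (k : Type u) [Field k]
    (σ : Spec (CommRingCat.of k) ⟶ S) (eU : G.U ≅ (AlgSp.yon S).obj (Over.mk σ)) (r : AlgSp.Points G.R) :
    ∃ (k' : Type u) (_ : Field k') (_ : Algebra k k'), IsAlgClosed k' ∧
      ∀ (G' : AlgSp.GroupoidSp B) (φ : AlgSp.GroupoidSp.Hom G' G), φ.IsRestriction → AlgSp.IsAlgSpace G'.R →
        ∀ (eU' : G'.U ≅ (AlgSp.yon S).obj (Over.mk (Spec.map (CommRingCat.ofHom (algebraMap k k')) ≫ σ))),
          φ.fU = eU'.hom ≫ (AlgSp.yon S).map (Over.homMk (Spec.map (CommRingCat.ofHom (algebraMap k k'))) rfl :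
            Over.mk (Spec.map (CommRingCat.ofHom (algebraMap k k')) ≫ σ) ⟶ Over.mk σ) ≫ eU.inv →
          ∃ r' : G'.U ⟶ G'.R, (∀ x : AlgSp.Points G'.U, AlgSp.Points.map (r' ≫ φ.fR) x = r) ∧
            IsIso (r' ≫ G'.s) ∧ IsIso (r' ≫ G'.t) := by
  induction r using Points.ind with
  | h ρ =>
  -- the two embeddings of `k` into the field of the point
  obtain ⟨h_t, hh_t⟩ := (yon S).map_surjective (X := ρ.pt) (Y := Over.mk σ) (ρ.toHom ≫ G.t ≫ eU.hom)
  obtain ⟨h_s, hh_s⟩ := (yon S).map_surjective (X := ρ.pt) (Y := Over.mk σ) (ρ.toHom ≫ G.s ≫ eU.hom)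
  have hwt : h_t.left ≫ σ = ρ.str := Over.w h_t
  have hws : h_s.left ≫ σ = ρ.str := Over.w h_s
  let τc : CommRingCat.of k ⟶ CommRingCat.of ρ.K := Spec.preimage h_t.left
  let ςc : CommRingCat.of k ⟶ CommRingCat.of ρ.K := Spec.preimage h_s.left
  have hτ : Spec.map τc = h_t.left := Spec.map_preimage _
  have hς : Spec.map ςc = h_s.left := Spec.map_preimage _
  let τ : k →+* ρ.K := τc.hom
  let ς : k →+* ρ.K := ςc.hom
  obtain ⟨k', fk', algK, hac, hcard⟩ := exists_big_algClosed ρ.K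
  let ι : ρ.K →+* k' := algebraMap ρ.K k'
  letI alg1 : Algebra k k' := (ι.comp τ).toAlgebra
  have hcard' : max #k ℵ₀ < #k' := by
    refine lt_of_le_of_lt (max_le_max ?_ le_rfl) hcard
    exact Cardinal.mk_le_of_injective τ.injective
  obtain ⟨β, hβ⟩ := @exists_ringEquiv_of_card k k' k' _ _ _ alg1 (ι.comp ς).toAlgebra hac hac rfl
    hcard'
  have hβ' : ∀ a : k, β (ι (τ a)) = ι (ς a) := hβ
  refine ⟨k', fk', alg1, hac, ?_⟩
  intro G' φ hφ hR' eU' hfU
  -- ring level identities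
  have eτ : CommRingCat.ofHom (algebraMap k k') = τc ≫ CommRingCat.ofHom ι := by
    ext a; rfl
  have e1 : Spec.map (CommRingCat.ofHom (algebraMap k k')) =
      Spec.map (CommRingCat.ofHom ι) ≫ h_t.left := by
    rw [eτ, Spec.map_comp, hτ]
  have eβ : τc ≫ CommRingCat.ofHom ι ≫ CommRingCat.ofHom β.toRingHom =
      ςc ≫ CommRingCat.ofHom ι := by
    ext a; exact hβ' a
  have e2 : Spec.map (CommRingCat.ofHom β.toRingHom) ≫
      Spec.map (CommRingCat.ofHom (algebraMap k k')) =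
      Spec.map (CommRingCat.ofHom ι) ≫ h_s.left := by
    rw [eτ, ← Spec.map_comp, Category.assoc, eβ, Spec.map_comp, hς]
  let T' : Over S := Over.mk (Spec.map (CommRingCat.ofHom (algebraMap k k')) ≫ σ)
  let π : T' ⟶ Over.mk σ := Over.homMk (Spec.map (CommRingCat.ofHom (algebraMap k k'))) rfl
  let jι : T' ⟶ ρ.pt := Over.homMk (Spec.map (CommRingCat.ofHom ι)) (by
    show Spec.map (CommRingCat.ofHom ι) ≫ ρ.str =
      Spec.map (CommRingCat.ofHom (algebraMap k k')) ≫ σ
    rw [e1, Category.assoc, hwt])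
  let bβ : T' ⟶ T' := Over.homMk (Spec.map (CommRingCat.ofHom β.toRingHom)) (by
    show Spec.map (CommRingCat.ofHom β.toRingHom) ≫
      Spec.map (CommRingCat.ofHom (algebraMap k k')) ≫ σ =
      Spec.map (CommRingCat.ofHom (algebraMap k k')) ≫ σ
    rw [← Category.assoc, e2, e1, Category.assoc, Category.assoc, hws, hwt])
  have hjt : jι ≫ h_t = π := by
    ext
    show Spec.map (CommRingCat.ofHom ι) ≫ h_t.left = _
    exact e1.symm
  have hbs : bβ ≫ π = jι ≫ h_s := by
    ext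
    exact e2
  haveI : IsIso (CommRingCat.ofHom β.toRingHom) :=
    ⟨CommRingCat.ofHom β.symm.toRingHom, by ext a; exact β.symm_apply_apply a,
      by ext a; exact β.apply_symm_apply a⟩
  haveI : IsIso bβ.left := by
    show IsIso (Spec.map (CommRingCat.ofHom β.toRingHom))
    infer_instance
  haveI : IsIso ((Over.forget S).map bβ) := ‹IsIso bβ.left›
  haveI : IsIso bβ := isIso_of_reflects_iso bβ (Over.forget S)
  let rr : G'.U ⟶ G.R := eU'.hom ≫ (yon S).map jι ≫ ρ.toHom
  let x₂ : G'.U ⟶ G'.U := eU'.hom ≫ (yon S).map bβ ≫ eU'.inv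
  have ht' : ρ.toHom ≫ G.t = (yon S).map h_t ≫ eU.inv := by
    rw [hh_t, Category.assoc, Category.assoc, eU.hom_inv_id, Category.comp_id]
  have hs' : ρ.toHom ≫ G.s = (yon S).map h_s ≫ eU.inv := by
    rw [hh_s, Category.assoc, Category.assoc, eU.hom_inv_id, Category.comp_id]
  have h₁ : 𝟙 G'.U ≫ φ.fU = rr ≫ G.t := by
    rw [Category.id_comp, hfU]
    show _ = (eU'.hom ≫ (yon S).map jι ≫ ρ.toHom) ≫ G.t
    rw [Category.assoc, Category.assoc, ht', ← Category.assoc ((yon S).map jι),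
      ← Functor.map_comp, hjt]
  have h₂ : x₂ ≫ φ.fU = rr ≫ G.s := by
    rw [hfU]
    show (eU'.hom ≫ (yon S).map bβ ≫ eU'.inv) ≫ _ = (eU'.hom ≫ (yon S).map jι ≫ ρ.toHom) ≫ G.s
    rw [Category.assoc, Category.assoc, Category.assoc, Category.assoc, hs',
      eU'.inv_hom_id_assoc, ← Category.assoc ((yon S).map jι), ← Functor.map_comp,
      ← Category.assoc ((yon S).map bβ), ← Functor.map_comp, hbs]
  obtain ⟨m, hm1, hm2, hm3⟩ := Groth.Agent.Helper5.Restr1.joint_lift φ hφ (𝟙 G'.U) x₂ rr h₁ h₂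
  refine ⟨m, fun x => ?_, ?_, ?_⟩
  · rw [hm3]
    show Points.map (eU'.hom ≫ (yon S).map jι ≫ ρ.toHom) x = Points.mk ρ
    rw [← Category.assoc, Points.map_comp]
    exact map_toHom_const ρ _
  · rw [hm2]
    infer_instance
  · rw [hm1]
    infer_instance

end Groth.Agent.Helper5.GpdAlgCl
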