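import Groth.Agent.Helper5.Gpd2
import Groth.Agent.Helper5.AlgSpOpen
import Groth.Agent.Helper5.AlgSpOpen2
import Groth.Agent.Helper4.AlgSpInj

set_option autoImplicit false
universe u
open CategoryTheory CategoryTheory.Limits AlgebraicGeometry Opposite MorphismProperty

namespace Groth.Agent.Helper5.GpdInv

open AlgSp Groth.Agent.Helper5.Gpd1 Groth.Agent.Helper4.AlgSpOpenImage Groth.Agent.Helper4.AlgSpQC2
  Groth.Agent.Helper4.AlgSpPtsDesc Groth.Agent.Helper5.AlgSpOpen

variable {S : Scheme.{u}} {B : Sp S} (G : GroupoidSp B)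

theorem mem_of_t_mem (A : Set (Points G.U)) (ρ : Points G.R)
    (h : Points.map G.t ρ ∈ Points.map G.s '' (Points.map G.t ⁻¹' A)) :
    Points.map G.s ρ ∈ Points.map G.s '' (Points.map G.t ⁻¹' A) := by
  obtain ⟨ρ₁, hρ₁, h1⟩ := h
  obtain ⟨ζ, hζ1, hζ2⟩ := exists_point_of_isPullback (IsPullback.of_hasPullback G.s G.t) ρ₁ ρ h1
  refine ⟨Points.map G.c ζ, ?_, ?_⟩
  · show Points.map G.t (Points.map G.c ζ) ∈ A
    rw [← Points.map_comp, c_t, Points.map_comp, hζ1]
    exact hρ₁
  · rw [← Points.map_comp, c_s, Points.map_comp, hζ2]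

theorem mem_of_s_mem (A : Set (Points G.U)) (ρ : Points G.R)
    (h : Points.map G.s ρ ∈ Points.map G.s '' (Points.map G.t ⁻¹' A)) :
    Points.map G.t ρ ∈ Points.map G.s '' (Points.map G.t ⁻¹' A) := by
  have h1 : Points.map G.t (Points.map G.i ρ) ∈ Points.map G.s '' (Points.map G.t ⁻¹' A) := by
    rw [← Points.map_comp, G.i_t]; exact h
  have h2 := mem_of_t_mem G A _ h1
  rwa [← Points.map_comp, G.i_s] at h2

theorem isInvariant_of_range {W' : Sp S} (w' : W' ⟶ G.U) (hw' : RepWith @IsOpenImmersion w')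
    (A : Set (Points G.U))
    (himg : Set.range (Points.map w') = Points.map G.s '' (Points.map G.t ⁻¹' A)) :
    G.IsInvariant w' := by
  intro T r
  have key : ∀ (b : (yon S).obj T ⟶ G.U), (∃ a : (yon S).obj T ⟶ W', a ≫ w' = b) ↔
      Set.range (Points.map b) ⊆ Set.range (Points.map w') := fun b =>
    ⟨fun ⟨a, ha⟩ => Groth.Agent.Helper5.AlgSpIso.range_subset_of_factor w' b a ha,
      Groth.Agent.Helper5.AlgSpIso.exists_factor_open w' hw' b⟩
  rw [key, key, himg]
  constructor
  · rintro h _ ⟨y, rfl⟩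
    have h1 := h ⟨y, rfl⟩
    rw [Points.map_comp] at h1 ⊢
    exact mem_of_t_mem G A _ h1
  · rintro h _ ⟨y, rfl⟩
    have h1 := h ⟨y, rfl⟩
    rw [Points.map_comp] at h1 ⊢
    exact mem_of_s_mem G A _ h1

theorem s10131 (hU : IsAlgSpace G.U)
    (hs : IsOpenMor G.s) (ht : IsQuasiCompactMor G.t)
    (x : Points G.U) :
    ∃ (W : Sp S) (w : W ⟶ G.U), RepWith @IsOpenImmersion w ∧ G.IsInvariant w ∧
      IsQuasiCompactSp W ∧ x ∈ Set.range (Points.map w) := by
  obtain ⟨V, p, hpe, hps⟩ := hU.atlas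
  obtain ⟨v, rfl⟩ := ofPt_surjective_of_repWith p hps x
  obtain ⟨O, hO, hvO, -⟩ := exists_isAffineOpen_mem_and_subset (X := V.left) (x := v)
    (U := ⊤) trivial
  let a : (yon S).obj (opOver V O) ⟶ G.U := (yon S).map (opι V O) ≫ p
  have hae : RepWith @Etale a :=
    Groth.Agent.Helper4.AlgSpSrc.repWith_comp _
      ((repWith_yon_map_iff _ _).2 (by
        show Etale O.ι
        infer_instance)) hpe
  have hW₀ : IsAlgSpace (img a) := isAlgSpace_img a hU.diag hae
  have hW₀qc : IsQuasiCompactSp (img a) := by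
    refine ⟨opOver V O, toImg a, toImg_etale a hae, toImg_surjective a hae, ?_⟩
    show CompactSpace ↥O
    exact isCompact_iff_compactSpace.1 hO.isCompact
  set A₀ : Set (Points G.U) := Set.range (Points.map (imgι a)) with hA₀
  have hioe : RepWith @Etale (imgι a) :=
    Groth.Agent.Helper4.AlgSpSrc.repWith_mono (fun g hg => by
      have : IsOpenImmersion g := hg
      infer_instance) (imgι_isOpenImmersion a hae)
  have hA₀open : IsOpen A₀ := (isOpenMor_of_repWith_etale hU _ hioe).isOpen_range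
  have hΩ : IsOpen (Points.map G.s '' (Points.map G.t ⁻¹' A₀)) :=
    hs _ (hA₀open.preimage (Points.continuous_map G.t))
  obtain ⟨W, w, hW, hw, hrange⟩ := exists_open_subspace hU _ hΩ
  have hmono : Mono w := Groth.Agent.Helper4.AlgSpBasic.mono_of_repWith
    (P := @IsOpenImmersion) (fun g hg => by
      have : IsOpenImmersion g := hg
      infer_instance) w hw
  have hinj : Function.Injective (Points.map w) :=
    Groth.Agent.Helper4.AlgSpInj.injective_points_of_injective_fieldPts w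
      (fun K _ str c₁ c₂ h => (cancel_mono w).1 h)
  refine ⟨W, w, hw, isInvariant_of_range G w hw A₀ hrange, ?_, ?_⟩
  · have hZqc : IsQuasiCompactSp (pullback G.t (imgι a)) :=
      ht hW₀ hW₀qc (imgι a) _ _ (IsPullback.of_hasPullback G.t (imgι a))
    have hsub : Set.range (Points.map (pullback.fst G.t (imgι a) ≫ G.s)) ⊆
        Set.range (Points.map w) := by
      rw [hrange]
      rintro _ ⟨ζ, rfl⟩
      rw [Points.map_comp]
      refine ⟨_, ?_, rfl⟩
      show Points.map G.t (Points.map (pullback.fst G.t (imgι a)) ζ) ∈ A₀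
      rw [← Points.map_comp, pullback.condition, Points.map_comp]
      exact ⟨_, rfl⟩
    obtain ⟨k, hk⟩ := Groth.Agent.Helper5.AlgSpIso.exists_factor_open w hw _ hsub
    refine isQuasiCompactSp_of_surjective hW k ?_ hZqc
    intro ω
    have hω : Points.map w ω ∈ Points.map G.s '' (Points.map G.t ⁻¹' A₀) := by
      rw [← hrange]; exact ⟨ω, rfl⟩
    obtain ⟨ρ, ⟨α, hα⟩, hρ⟩ := hω
    obtain ⟨ζ, hζ1, hζ2⟩ := exists_point_of_isPullback
      (IsPullback.of_hasPullback G.t (imgι a)) ρ α hα.symm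
    refine ⟨ζ, hinj ?_⟩
    rw [← Points.map_comp, hk, Points.map_comp, hζ1, hρ]
  · rw [hrange]
    refine ⟨Points.map G.e (Points.ofPt p v), ?_, ?_⟩
    · show Points.map G.t (Points.map G.e _) ∈ A₀
      rw [← Points.map_comp, G.e_t, Points.map_id, hA₀, range_imgι a hae]
      exact ⟨(⟨v, hvO⟩ : ↥O), ofPt_yon_map_comp (opι V O) p _⟩
    · rw [← Points.map_comp, G.e_s, Points.map_id]

end Groth.Agent.Helper5.GpdInv
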