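import Groth.Agent.Helper5.DecJac6
import Mathlib

/-!
# A section of a decent space over a field-point is a closed immersion
-/

set_option autoImplicit false
universe u

namespace Groth.Agent.Helper5.GpdSep

open CategoryTheory CategoryTheory.Limits AlgebraicGeometry Opposite AlgSp Topology
open Groth.Agent.Helper4.AlgSpPtsDesc Groth.Agent.Helper4.AlgSpQC2
open Groth.Agent.Helper5.DecJac

variable {S : Scheme.{u}}

/-- the image of a section of `X ⟶ Spec k` is a closed point of the decent space `X` -/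
theorem isClosed_singleton_of_section (X : Space S) (hX : IsDecent X.obj) (k : Type u) [Field k]
    (σ : Spec (CommRingCat.of k) ⟶ S)
    (g : X.obj ⟶ (yon S).obj (Over.mk σ)) (p : (yon S).obj (Over.mk σ) ⟶ X.obj)
    (hpg : p ≫ g = 𝟙 _) (t : ↥(Spec (CommRingCat.of k))) :
    IsClosed ({Points.ofPt p t} : Set (Points X.obj)) := by
  obtain ⟨U₀, a₀, ha₀e, ha₀s⟩ := X.property.atlas
  refine isClosed_singleton_of_forall_isClosed X.property hX a₀ ha₀e ha₀s _ ?_
  intro u' hu'
  apply isClosed_singleton_of_affine_opens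
  intro O hO hu'O
  let O' : Over S := Over.mk (O.ι ≫ U₀.hom)
  let aO : (yon S).obj O' ⟶ X.obj := (yon S).map (Over.homMk O.ι rfl : O' ⟶ U₀) ≫ a₀
  have haO : RepWith @Etale aO := Groth.Agent.Helper5.MonoQuot.repWith_etale_restrict a₀ ha₀e O
  obtain ⟨hOk, hhOk⟩ := (yon S).map_surjective (aO ≫ g)
  have sq := haO.rep.isPullback p
  obtain ⟨π₂, hπ₂⟩ := (yon S).map_surjective (haO.rep.fst p)
  rw [← hπ₂] at sq
  have het : Etale (haO.rep.snd p).left := haO.property p _ _ sq
  clear hπ₂
  generalize haO.rep.snd p = π₁ at sq het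
  generalize haO.rep.pullback p = W at π₁ π₂ sq het
  obtain ⟨w, hw2, hw1⟩ := Groth.Agent.Helper5.Decent2.exists_scheme_point_of_isPullback sq
    (⟨u', hu'O⟩ : ↥O) t (by
      show Points.ofPt ((yon S).map (Over.homMk O.ι rfl : O' ⟶ U₀) ≫ a₀) _ = _
      rw [ofPt_yon_map_comp]
      exact hu')
  haveI : DiscreteTopology ↥W.left :=
    Groth.Agent.Helper5.MonoQuot.discreteTopology_of_etale_field (k := k) π₁.left
  let W₁ : W.left.Opens := ⟨{w}, isOpen_discrete _⟩
  let j : (W₁ : Scheme.{u}) ⟶ W.left := W₁.ι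
  haveI : Finite ↥(W₁ : Scheme.{u}) := (Set.finite_singleton w).to_subtype
  have hqc : QuasiCompact (j ≫ π₁.left) := Groth.Agent.Helper5.Decent1.quasiCompact_of_finite _
  haveI : Etale (j ≫ π₁.left) := inferInstance
  have hlqf : LocallyQuasiFinite (j ≫ π₁.left) :=
    Groth.Agent.Helper5.UnramLqf.locallyQuasiFinite_of_unramified _
  haveI : IsLocallyArtinian (Over.mk σ).left :=
    inferInstanceAs (IsLocallyArtinian (Spec (CommRingCat.of k)))
  haveI : IsFinite (j ≫ π₁.left) := IsFinite.of_locallyQuasiFinite _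
  haveI : IsAffine (O : Scheme.{u}) := hO
  have hcomp : π₂ ≫ hOk = π₁ := by
    apply (yon S).map_injective
    rw [Functor.map_comp, hhOk, ← Category.assoc, sq.w, Category.assoc, hpg, Category.comp_id]
  have hcomp' : (j ≫ π₂.left) ≫ hOk.left = j ≫ π₁.left := by
    rw [Category.assoc, ← Over.comp_left, hcomp]
  haveI : IsAffine O'.left := hO
  haveI : IsAffine (Over.mk σ).left := inferInstanceAs (IsAffine (Spec (CommRingCat.of k)))
  haveI : IsAffineHom hOk.left := inferInstance
  haveI : IsFinite ((j ≫ π₂.left) ≫ hOk.left) := by rw [hcomp']; infer_instance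
  haveI : IsFinite (j ≫ π₂.left) := IsFinite.of_comp (j ≫ π₂.left) hOk.left
  have hcm : IsClosedMap (j ≫ π₂.left) := (j ≫ π₂.left).isClosedMap
  have hrange : Set.range (j ≫ π₂.left) = {(⟨u', hu'O⟩ : ↥O)} := by
    ext y
    constructor
    · rintro ⟨⟨w', hw'⟩, rfl⟩
      have : w' = w := hw'
      subst this
      exact hw2
    · rintro rfl
      exact ⟨⟨w, rfl⟩, hw2⟩
  have hfinal := hcm.isClosed_range
  rw [hrange] at hfinal
  exact hfinal

/-- a section of a decent space over a field-point is a closed immersion -/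
theorem closedImmersion_of_section (X : Space S) (hX : IsDecent X.obj) (k : Type u) [Field k]
    (σ : Spec (CommRingCat.of k) ⟶ S)
    (g : X.obj ⟶ (yon S).obj (Over.mk σ)) (p : (yon S).obj (Over.mk σ) ⟶ X.obj)
    (hpg : p ≫ g = 𝟙 _) : RepWith @IsClosedImmersion p := by
  let t : ↥(Spec (CommRingCat.of k)) := (IsLocalRing.closedPoint k : PrimeSpectrum k)
  have hcl : IsClosed ({Points.ofPt p t} : Set (Points X.obj)) :=
    isClosed_singleton_of_section X hX k σ g p hpg t
  obtain ⟨r, hr, hrci⟩ := Groth.Agent.Helper5.MonoQuot.s10359 X hX _ hcl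
  haveI : Mono r.toHom := Groth.Agent.Helper5.ProperImg.mono_of_closedImmersion r.toHom hrci
  let p₀ : FieldPt X.obj := ⟨k, σ, (J S).uliftYonedaEquiv p⟩
  have hp₀ : p₀.toHom = p := (J S).uliftYonedaEquiv.symm_apply_apply _
  have hmk : Points.mk r = Points.mk p₀ := by
    rw [hr, ← Points.ofPt_toHom p₀ t, hp₀]
  obtain ⟨c, hc, -⟩ := Groth.Agent.Helper5.AlgSpMonoPt.existsUnique_factor X.property r p₀ hmk
  rw [hp₀] at hc
  obtain ⟨d, hd⟩ := (yon S).map_surjective (r.toHom ≫ g)
  have hcd : c ≫ d = 𝟙 _ := by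
    apply (yon S).map_injective
    rw [Functor.map_comp, hd, ← Category.assoc, hc, hpg, CategoryTheory.Functor.map_id]
  have hcd' : c.left ≫ d.left = 𝟙 _ := by
    rw [← Over.comp_left, hcd]; rfl
  -- ring level
  obtain ⟨φc, hφc⟩ := Spec.map_surjective (show Spec (CommRingCat.of k) ⟶ Spec (CommRingCat.of r.K) from c.left)
  obtain ⟨φd, hφd⟩ := Spec.map_surjective (show Spec (CommRingCat.of r.K) ⟶ Spec (CommRingCat.of k) from d.left)
  have hφ : φd ≫ φc = 𝟙 _ := by
    apply Spec.map_injective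
    rw [Spec.map_comp, hφc, hφd, Spec.map_id]
    exact hcd'
  have hbij : Function.Bijective φc.hom := by
    constructor
    · exact φc.hom.injective
    · intro y
      refine ⟨φd.hom y, ?_⟩
      have := congrArg (fun f => f.hom y) hφ
      simpa using this
  haveI : IsIso φc := (ConcreteCategory.isIso_iff_bijective φc).2 hbij
  haveI : IsIso (show Spec (CommRingCat.of k) ⟶ Spec (CommRingCat.of r.K) from c.left) := by
    rw [← hφc]; infer_instance
  haveI : IsIso c.left := ‹_›
  haveI : IsIso c := by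
    haveI : IsIso ((Over.forget S).map c) := ‹IsIso c.left›
    exact isIso_of_reflects_iso _ (Over.forget S)
  rw [← hc]
  exact (MorphismProperty.cancel_left_of_respectsIso (RepWith (S := S) @IsClosedImmersion) _ _).2 hrci

end Groth.Agent.Helper5.GpdSep
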