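import Mathlib.Topology.Algebra.GroupCompletion
import Mathlib.Topology.Algebra.LinearTopology
import Mathlib.Topology.Algebra.Group.Quotient
import Mathlib.Topology.Algebra.IsUniformGroup.Defs
import Mathlib.Topology.Algebra.Nonarchimedean.Completion
import Mathlib.Topology.Algebra.InfiniteSum.Nonarchimedean
import Mathlib.LinearAlgebra.Quotient.Defs

set_option autoImplicit false
set_option linter.unusedSectionVars false
universe u v w

namespace Groth.Agent.Helper5.GC

open Filter Topology UniformSpace

/-- A linearly topologized module is a nonarchimedean additive group. -/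
theorem nonarchimedeanAddGroup_of_isLinearTopology (R : Type*) [Ring R] (M : Type*)
    [AddCommGroup M] [Module R M] [TopologicalSpace M] [IsTopologicalAddGroup M]
    [IsLinearTopology R M] : NonarchimedeanAddGroup M where
  is_nonarchimedean := by
    intro U hU
    obtain ⟨K, hK, hKU⟩ := (IsLinearTopology.hasBasis_open_submodule R (M := M)).mem_iff.mp hU
    exact ⟨⟨K.toAddSubgroup, hK⟩, hKU⟩

section Basis

variable {G : Type*} [AddCommGroup G] [UniformSpace G] [IsUniformAddGroup G]

theorem closure_image_coe_mem_nhds {V : Set G} (hV : V ∈ 𝓝 (0 : G)) :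
    closure ((fun g : G => (g : Completion G)) '' V) ∈ 𝓝 (0 : Completion G) := by
  have := (Completion.isDenseInducing_coe (α := G)).closure_image_mem_nhds hV
  rw [Completion.coe_zero] at this
  exact this

theorem exists_closure_image_coe_subset {W : Set (Completion G)} (hW : W ∈ 𝓝 (0 : Completion G)) :
    ∃ V ∈ 𝓝 (0 : G), closure ((fun g : G => (g : Completion G)) '' V) ⊆ W := by
  obtain ⟨W', hW', hW'c, hW'W⟩ := exists_mem_nhds_isClosed_subset hW
  refine ⟨(fun g : G => (g : Completion G)) ⁻¹' W', ?_, ?_⟩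
  · have hc : Continuous (fun g : G => (g : Completion G)) := Completion.continuous_coe G
    have := hc.tendsto 0
    rw [Completion.coe_zero] at this
    exact this hW'
  · refine (closure_minimal ?_ hW'c).trans hW'W
    rintro _ ⟨g, hg, rfl⟩
    exact hg

end Basis

section Quot

variable {G : Type*} [AddCommGroup G] [UniformSpace G] [IsUniformAddGroup G]
  [NonarchimedeanAddGroup G] (N : AddSubgroup G)

theorem preimage_zero_completion_map_mk :
    (@UniformSpace.Completion.map G _ (G ⧸ N)
        (IsTopologicalAddGroup.rightUniformSpace (G ⧸ N))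
        (QuotientAddGroup.mk' N)) ⁻¹' {0} =
      closure ((fun g : G => (g : Completion G)) '' (N : Set G)) := by
  let uQ : UniformSpace (G ⧸ N) := IsTopologicalAddGroup.rightUniformSpace (G ⧸ N)
  have : IsUniformAddGroup (G ⧸ N) := isUniformAddGroup_of_addCommGroup
  set π : G →+ G ⧸ N := QuotientAddGroup.mk' N with hπdef
  have hπ : Continuous π := QuotientAddGroup.continuous_mk
  have hπu : UniformContinuous π := uniformContinuous_addMonoidHom_of_continuous hπ
  set f : Completion G →+ Completion (G ⧸ N) := AddMonoidHom.completion π hπ with hfdef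
  have hfcoe : (f : Completion G → Completion (G ⧸ N)) = Completion.map π := rfl
  have hfc : Continuous f := AddMonoidHom.continuous_completion π hπ
  rw [← hfcoe]
  apply Set.Subset.antisymm
  · intro x hx
    have hx0 : f x = 0 := hx
    rw [mem_closure_iff_nhds]
    intro W hW
    -- W - x is a nbhd of 0
    have hW0 : {z | x + z ∈ W} ∈ 𝓝 (0 : Completion G) := by
      have hc : Continuous fun z : Completion G => x + z := by fun_prop
      have := hc.tendsto 0
      rw [add_zero] at this
      exact this hW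
    obtain ⟨V, hV, hVW⟩ := exists_closure_image_coe_subset hW0
    obtain ⟨U, hUV⟩ := NonarchimedeanAddGroup.is_nonarchimedean V hV
    -- the closure of the image of U, as a subgroup
    let Uc : AddSubgroup (Completion G) :=
      (U.toAddSubgroup.map (Completion.toCompl : G →+ Completion G)).topologicalClosure
    have hUc : (Uc : Set (Completion G)) = closure ((fun g : G => (g : Completion G)) '' (U : Set G)) := rfl
    have hUcW : (Uc : Set (Completion G)) ⊆ {z | x + z ∈ W} := by
      rw [hUc]
      exact (closure_mono (Set.image_mono hUV)).trans hVW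
    have hUcn : (Uc : Set (Completion G)) ∈ 𝓝 (0 : Completion G) := by
      rw [hUc]
      exact closure_image_coe_mem_nhds (U.mem_nhds_zero)
    -- pick m with ↑m ∈ x + Uc
    have hxU : {y | y - x ∈ Uc} ∈ 𝓝 x := by
      have hc : Continuous fun y : Completion G => y - x := by fun_prop
      have := hc.tendsto x
      rw [sub_self] at this
      exact this hUcn
    obtain ⟨m, hm⟩ := (Completion.denseRange_coe (α := G)).mem_nhds hxU
    have hm' : (m : Completion G) - x ∈ Uc := hm
    -- f (↑m) ∈ closure (↑(π U))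
    have hfm : f (m : Completion G) ∈ closure ((fun q : G ⧸ N => (q : Completion (G ⧸ N))) '' (π '' (U : Set G))) := by
      have h1 : f (m : Completion G) = f ((m : Completion G) - x) := by
        rw [map_sub, hx0, sub_zero]
      rw [h1]
      have h2 : f '' (Uc : Set (Completion G)) ⊆
          closure ((fun q : G ⧸ N => (q : Completion (G ⧸ N))) '' (π '' (U : Set G))) := by
        rw [hUc]
        refine (image_closure_subset_closure_image hfc).trans (closure_mono ?_)
        rintro _ ⟨_, ⟨g, hg, rfl⟩, rfl⟩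
        refine ⟨π g, ⟨g, hg, rfl⟩, ?_⟩
        exact (AddMonoidHom.completion_coe π hπ g).symm
      exact h2 ⟨_, hm', rfl⟩
    rw [AddMonoidHom.completion_coe π hπ m] at hfm
    -- π U is open hence closed
    have hπU_open : IsOpen (π '' (U : Set G)) := QuotientAddGroup.isOpenMap_coe _ U.isOpen
    have hπU_closed : IsClosed (π '' (U : Set G)) := by
      have : π '' (U : Set G) = ((U.toAddSubgroup.map π : AddSubgroup (G ⧸ N)) : Set (G ⧸ N)) := by
        ext; simp
      rw [this] at hπU_open ⊢
      exact AddSubgroup.isClosed_of_isOpen _ hπU_open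
    have hind : IsInducing (fun q : G ⧸ N => (q : Completion (G ⧸ N))) :=
      (Completion.isUniformInducing_coe (G ⧸ N)).isInducing
    have hπm : π m ∈ π '' (U : Set G) := by
      have := hind.closure_eq_preimage_closure_image (π '' (U : Set G))
      rw [hπU_closed.closure_eq] at this
      rw [this]
      exact hfm
    obtain ⟨u, hu, hum⟩ := hπm
    -- m - u ∈ N
    have hmuN : m - u ∈ N := by
      have : π (m - u) = 0 := by rw [map_sub, hum, sub_self]
      rwa [hπdef, QuotientAddGroup.mk'_apply, QuotientAddGroup.eq_zero_iff] at this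
    refine ⟨((m - u : G) : Completion G), ?_, ⟨m - u, hmuN, rfl⟩⟩
    -- ↑(m-u) = x + ((↑m - x) - ↑u)
    have hmem : ((m : Completion G) - x) - (u : Completion G) ∈ Uc := by
      refine Uc.sub_mem hm' ?_
      rw [← SetLike.mem_coe, hUc]
      exact subset_closure ⟨u, hu, rfl⟩
    have := hUcW hmem
    simp only [Set.mem_ofPred_eq] at this
    have heq : x + ((m : Completion G) - x - (u : Completion G)) = ((m - u : G) : Completion G) := by
      rw [Completion.coe_sub]; abel
    rwa [heq] at this
  · apply closure_minimal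
    · rintro _ ⟨n, hn, rfl⟩
      show f (n : Completion G) = 0
      rw [AddMonoidHom.completion_coe π hπ n]
      have : π n = 0 := by
        rw [hπdef, QuotientAddGroup.mk'_apply, QuotientAddGroup.eq_zero_iff]; exact hn
      rw [this, Completion.coe_zero]
    · exact isClosed_singleton.preimage hfc

end Quot

theorem exists_add_of_mem_closure_of_mem_nhds {G : Type*} [AddCommGroup G] [TopologicalSpace G]
    [IsTopologicalAddGroup G] {S V : Set G} (hV : V ∈ 𝓝 (0 : G)) {b : G} (hb : b ∈ closure S) :
    ∃ s ∈ S, ∃ v ∈ V, b = s + v := by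
  have hnhd : {y | b - y ∈ V} ∈ 𝓝 b := by
    have hc : Continuous fun y : G => b - y := by fun_prop
    have ht : Tendsto (fun y : G => b - y) (𝓝 b) (𝓝 0) := by
      have := hc.tendsto b
      simpa using this
    exact ht hV
  obtain ⟨y, hy, hyS⟩ := mem_closure_iff_nhds.mp hb _ hnhd
  exact ⟨y, hyS, b - y, hy, by abel⟩

section OpenMapping

variable {A : Type u} [AddCommGroup A] [UniformSpace A] [IsUniformAddGroup A]
  [NonarchimedeanAddGroup A] [T2Space A] [CompleteSpace A]
variable {B : Type v} [AddCommGroup B] [TopologicalSpace B] [IsTopologicalAddGroup B] [T2Space B]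

/-- Open mapping principle for nonarchimedean groups. -/
theorem closure_image_subset_image (hA : (𝓝 (0 : A)).IsCountablyGenerated)
    (φ : A →+ B) (hφ : Continuous φ)
    (H : ∀ I : OpenAddSubgroup A, closure (φ '' (I : Set A)) ∈ 𝓝 (0 : B))
    (I : OpenAddSubgroup A) :
    closure (φ '' (I : Set A)) ⊆ φ '' (I : Set A) := by
  classical
  obtain ⟨x, hbasis⟩ := (𝓝 (0 : A)).exists_antitone_basis
  have hxn : ∀ k, x k ∈ 𝓝 (0 : A) := fun k => hbasis.1.mem_of_mem trivial
  choose V hV using fun k => NonarchimedeanAddGroup.is_nonarchimedean (x k) (hxn k)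
  let M : ℕ → OpenAddSubgroup A := fun k => I ⊓ V k
  have hMI : ∀ k, (M k : Set A) ⊆ (I : Set A) := fun k a ha => ha.1
  have hMtend : ∀ U ∈ 𝓝 (0 : A), ∃ m, ∀ k, m ≤ k → (M k : Set A) ⊆ U := by
    intro U hU
    obtain ⟨m, -, hm⟩ := hbasis.1.mem_iff.mp hU
    refine ⟨m, fun k hk => ?_⟩
    intro a ha
    exact hm (hbasis.2 hk (hV k ha.2))
  intro b hb
  let P : ℕ → B → Prop := fun k y => y ∈ closure (φ '' (M k : Set A))
  have step : ∀ k y, P k y → ∃ (a : A) (y' : B), a ∈ M k ∧ P (k + 1) y' ∧ y = φ a + y' := by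
    intro k y hy
    obtain ⟨s, ⟨a, ha, rfl⟩, v, hv, hsv⟩ :=
      exists_add_of_mem_closure_of_mem_nhds (H (M (k + 1))) hy
    exact ⟨a, v, ha, hv, hsv⟩
  obtain ⟨s₀, ⟨a₀, ha₀, rfl⟩, y₀, hy₀, hb₀⟩ :=
    exists_add_of_mem_closure_of_mem_nhds (H (M 0)) hb
  choose fa fy hfa hfy hfeq using step
  let seq : ∀ k, {y // P k y} := fun k =>
    Nat.rec (motive := fun k => {y // P k y}) ⟨y₀, hy₀⟩ (fun k p => ⟨fy k p.1 p.2, hfy k p.1 p.2⟩) k
  let y : ℕ → B := fun k => (seq k).1
  let a : ℕ → A := fun k => fa k (seq k).1 (seq k).2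
  have hy0 : y 0 = y₀ := rfl
  have hstep : ∀ k, y k = φ (a k) + y (k + 1) := fun k => hfeq k (seq k).1 (seq k).2
  have ha : ∀ k, a k ∈ M k := fun k => hfa k (seq k).1 (seq k).2
  have hyP : ∀ k, P k (y k) := fun k => (seq k).2
  have htel : ∀ k, y₀ = φ (∑ j ∈ Finset.range k, a j) + y k := by
    intro k
    induction k with
    | zero => simp [hy0]
    | succ k ih =>
      rw [Finset.sum_range_succ, map_add, add_assoc, ← hstep k]
      exact ih
  -- y k → 0
  have hy_tend : Tendsto y atTop (𝓝 0) := by
    rw [tendsto_def]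
    intro U hU
    obtain ⟨W, hW, hWc, hWU⟩ := exists_mem_nhds_isClosed_subset hU
    have hpre : φ ⁻¹' W ∈ 𝓝 (0 : A) := by
      have := hφ.tendsto 0
      rw [map_zero] at this
      exact this hW
    obtain ⟨m, hm⟩ := hMtend _ hpre
    rw [mem_atTop_sets]
    refine ⟨m, fun k hk => hWU ?_⟩
    have : closure (φ '' (M k : Set A)) ⊆ W := by
      apply closure_minimal _ hWc
      rintro _ ⟨c, hc, rfl⟩
      exact hm k hk hc
    exact this (hyP k)
  have hsum : Summable a := by
    apply NonarchimedeanAddGroup.summable_of_tendsto_cofinite_zero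
    rw [Nat.cofinite_eq_atTop, tendsto_def]
    intro U hU
    obtain ⟨m, hm⟩ := hMtend U hU
    rw [mem_atTop_sets]
    exact ⟨m, fun k hk => hm k hk (ha k)⟩
  set s := ∑' k, a k with hs
  have hs_tend : Tendsto (fun k => ∑ j ∈ Finset.range k, a j) atTop (𝓝 s) :=
    hsum.hasSum.tendsto_sum_nat
  have hsI : s ∈ I := by
    have hcl : IsClosed (I : Set A) := I.isClosed
    refine hcl.mem_of_tendsto hs_tend (Filter.Eventually.of_forall fun k => ?_)
    exact I.toAddSubgroup.sum_mem (fun j _ => hMI j (ha j))
  have h1 : Tendsto (fun k => φ (∑ j ∈ Finset.range k, a j)) atTop (𝓝 (φ s)) :=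
    (hφ.tendsto s).comp hs_tend
  have h2 : Tendsto (fun k => φ (∑ j ∈ Finset.range k, a j)) atTop (𝓝 y₀) := by
    have : (fun k => φ (∑ j ∈ Finset.range k, a j)) = fun k => y₀ - y k := by
      funext k
      have := htel k
      rw [eq_sub_iff_add_eq]; exact this.symm
    rw [this]
    have := (tendsto_const_nhds (x := y₀)).sub hy_tend
    simpa using this
  have hy₀eq : y₀ = φ s := tendsto_nhds_unique h2 h1
  refine ⟨a₀ + s, I.toAddSubgroup.add_mem ha₀ hsI, ?_⟩
  rw [map_add, hb₀, hy₀eq]

theorem isOpen_image_of_isOpen (hA : (𝓝 (0 : A)).IsCountablyGenerated)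
    (φ : A →+ B) (hφ : Continuous φ)
    (H : ∀ I : OpenAddSubgroup A, closure (φ '' (I : Set A)) ∈ 𝓝 (0 : B))
    (I : OpenAddSubgroup A) : IsOpen (φ '' (I : Set A)) := by
  have h1 : φ '' (I : Set A) ∈ 𝓝 (0 : B) :=
    Filter.mem_of_superset (H I) (closure_image_subset_image hA φ hφ H I)
  have : φ '' (I : Set A) = ((I.toAddSubgroup.map φ : AddSubgroup B) : Set B) := by
    ext; simp
  rw [this]
  apply AddSubgroup.isOpen_of_mem_nhds (g := 0)
  rw [← this]; exact h1

theorem isOpenMap_of_closure_image_mem_nhds (hA : (𝓝 (0 : A)).IsCountablyGenerated)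
    (φ : A →+ B) (hφ : Continuous φ)
    (H : ∀ I : OpenAddSubgroup A, closure (φ '' (I : Set A)) ∈ 𝓝 (0 : B)) :
    IsOpenMap φ := by
  intro U hU
  rw [isOpen_iff_mem_nhds]
  rintro _ ⟨a, ha, rfl⟩
  -- a + I ⊆ U
  have h0 : {z | a + z ∈ U} ∈ 𝓝 (0 : A) := by
    have hc : Continuous fun z : A => a + z := by fun_prop
    have := hc.tendsto 0
    rw [add_zero] at this
    exact this (hU.mem_nhds ha)
  obtain ⟨I, hIU⟩ := NonarchimedeanAddGroup.is_nonarchimedean _ h0
  have hopen := isOpen_image_of_isOpen hA φ hφ H I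
  have h1 : (fun b => φ a + b) '' (φ '' (I : Set A)) ∈ 𝓝 (φ a) := by
    have hh : (fun b => φ a + b) '' (φ '' (I : Set A)) = (Homeomorph.addLeft (φ a)) '' (φ '' (I : Set A)) := rfl
    rw [hh]
    have : IsOpen ((Homeomorph.addLeft (φ a)) '' (φ '' (I : Set A))) :=
      (Homeomorph.addLeft (φ a)).isOpenMap _ hopen
    exact this.mem_nhds ⟨0, ⟨0, I.zero_mem, map_zero φ⟩, by simp⟩
  refine Filter.mem_of_superset h1 ?_
  rintro _ ⟨_, ⟨z, hz, rfl⟩, rfl⟩
  exact ⟨a + z, hIU hz, by simp⟩

theorem surjective_of_denseRange (hA : (𝓝 (0 : A)).IsCountablyGenerated)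
    (φ : A →+ B) (hφ : Continuous φ)
    (H : ∀ I : OpenAddSubgroup A, closure (φ '' (I : Set A)) ∈ 𝓝 (0 : B))
    (hd : DenseRange φ) : Function.Surjective φ := by
  intro b
  have h1 := closure_image_subset_image hA φ hφ H ⊤
  have h2 : b ∈ closure (φ '' ((⊤ : OpenAddSubgroup A) : Set A)) := by
    have : φ '' ((⊤ : OpenAddSubgroup A) : Set A) = Set.range φ := by simp
    rw [this]; exact hd b
  obtain ⟨a, -, rfl⟩ := h1 h2
  exact ⟨a, rfl⟩

end OpenMapping

section QuotSurj

variable {G : Type*} [AddCommGroup G] [UniformSpace G] [IsUniformAddGroup G]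

theorem isCountablyGenerated_nhds_zero_completion (hc : (𝓝 (0 : G)).IsCountablyGenerated) :
    (𝓝 (0 : Completion G)).IsCountablyGenerated := by
  obtain ⟨x, hx⟩ := (𝓝 (0 : G)).exists_antitone_basis
  have : (𝓝 (0 : Completion G)).HasBasis (fun _ : ℕ => True)
      (fun k => closure ((fun g : G => (g : Completion G)) '' x k)) := by
    constructor
    intro W
    constructor
    · intro hW
      obtain ⟨V, hV, hVW⟩ := exists_closure_image_coe_subset hW
      obtain ⟨k, -, hk⟩ := hx.1.mem_iff.mp hV
      exact ⟨k, trivial, (closure_mono (Set.image_mono hk)).trans hVW⟩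
    · rintro ⟨k, -, hk⟩
      exact mem_of_superset (closure_image_coe_mem_nhds (hx.1.mem_of_mem trivial)) hk
  exact this.isCountablyGenerated

variable [NonarchimedeanAddGroup G] (N : AddSubgroup G)

theorem completion_map_mk_surjective_and_isOpenMap (hc : (𝓝 (0 : G)).IsCountablyGenerated) :
    Function.Surjective (@UniformSpace.Completion.map G _ (G ⧸ N)
        (IsTopologicalAddGroup.rightUniformSpace (G ⧸ N))
        (QuotientAddGroup.mk' N)) ∧
      IsOpenMap (@UniformSpace.Completion.map G _ (G ⧸ N)
        (IsTopologicalAddGroup.rightUniformSpace (G ⧸ N))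
        (QuotientAddGroup.mk' N)) := by
  let uQ : UniformSpace (G ⧸ N) := IsTopologicalAddGroup.rightUniformSpace (G ⧸ N)
  have : IsUniformAddGroup (G ⧸ N) := isUniformAddGroup_of_addCommGroup
  set π : G →+ G ⧸ N := QuotientAddGroup.mk' N with hπdef
  have hπ : Continuous π := QuotientAddGroup.continuous_mk
  set f : Completion G →+ Completion (G ⧸ N) := AddMonoidHom.completion π hπ with hfdef
  have hfcoe : (f : Completion G → Completion (G ⧸ N)) = Completion.map π := rfl
  have hfc : Continuous f := AddMonoidHom.continuous_completion π hπ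
  rw [← hfcoe]
  have hcG := isCountablyGenerated_nhds_zero_completion hc
  have H : ∀ I : OpenAddSubgroup (Completion G), closure (f '' (I : Set (Completion G))) ∈
      𝓝 (0 : Completion (G ⧸ N)) := by
    intro I
    -- V := preimage of I in G
    have hV : (fun g : G => (g : Completion G)) ⁻¹' (I : Set (Completion G)) ∈ 𝓝 (0 : G) := by
      have hcc : Continuous (fun g : G => (g : Completion G)) := Completion.continuous_coe G
      have := hcc.tendsto 0
      rw [Completion.coe_zero] at this
      exact this I.mem_nhds_zero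
    obtain ⟨U, hU⟩ := NonarchimedeanAddGroup.is_nonarchimedean _ hV
    have hπU : π '' (U : Set G) ∈ 𝓝 (0 : G ⧸ N) := by
      have : IsOpen (π '' (U : Set G)) := QuotientAddGroup.isOpenMap_coe _ U.isOpen
      exact this.mem_nhds ⟨0, U.zero_mem, map_zero π⟩
    refine mem_of_superset (closure_image_coe_mem_nhds hπU) (closure_mono ?_)
    rintro _ ⟨_, ⟨g, hg, rfl⟩, rfl⟩
    exact ⟨(g : Completion G), hU hg, AddMonoidHom.completion_coe π hπ g⟩
  have hd : DenseRange f := by
    have h1 : DenseRange (fun q : G ⧸ N => (q : Completion (G ⧸ N))) := Completion.denseRange_coe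
    have h2 : Set.range (fun q : G ⧸ N => (q : Completion (G ⧸ N))) ⊆ Set.range f := by
      rintro _ ⟨q, rfl⟩
      obtain ⟨g, rfl⟩ := QuotientAddGroup.mk'_surjective N q
      exact ⟨(g : Completion G), AddMonoidHom.completion_coe π hπ g⟩
    exact h1.mono h2
  exact ⟨surjective_of_denseRange hcG f hfc H hd, isOpenMap_of_closure_image_mem_nhds hcG f hfc H⟩

end QuotSurj

end Groth.Agent.Helper5.GC
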