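import Mathlib
import Groth.Prelude
import Groth.Agent.Helper5.FlatOrbit2

/-!
# Group schemes over a field are Cohen–Macaulay: preliminaries
-/

set_option autoImplicit false
set_option linter.unusedSectionVars false
set_option linter.style.haveILetI false
set_option linter.unusedVariables false
universe u

open AlgebraicGeometry CategoryTheory CategoryTheory.Limits
open MonoidalCategory CartesianMonoidalCategory MonObj

namespace Groth.Agent.Helper5.GrpCM

open Groth.Agent.Helper5.FlatOrbit

section shear2

variable {S : Scheme.{u}} {G : Over S} [GrpObj G]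

/-- the inverse right shear `(c, b) ↦ (c b⁻¹, b)` -/
noncomputable def ρ : G ⊗ G ⟶ G ⊗ G := lift (fst G G * (snd G G)⁻¹) (snd G G)

/-- the right shear `(a, b) ↦ (a b, b)` -/
noncomputable def Ψ : G ⊗ G ⟶ G ⊗ G := lift (fst G G * snd G G) (snd G G)

theorem ρ_snd : ρ (G := G) ≫ snd G G = snd G G := by simp [ρ]

theorem ρ_fst : ρ (G := G) ≫ fst G G = fst G G * (snd G G)⁻¹ := by simp [ρ]

theorem ρ_mul : ρ (G := G) ≫ μ[G] = fst G G := by
  have : ρ (G := G) ≫ μ[G] = (fst G G * (snd G G)⁻¹) * snd G G := by
    rw [Hom.mul_def (fst G G * (snd G G)⁻¹)]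
    rfl
  rw [this, inv_mul_cancel_right]

theorem Ψ_snd : Ψ (G := G) ≫ snd G G = snd G G := by simp [Ψ]

theorem Ψ_fst : Ψ (G := G) ≫ fst G G = fst G G * snd G G := by simp [Ψ]

theorem ρ_Ψ : ρ (G := G) ≫ Ψ = 𝟙 _ := by
  apply CartesianMonoidalCategory.hom_ext
  · rw [Category.assoc, Ψ_fst, MonObj.comp_mul, ρ_fst, ρ_snd, inv_mul_cancel_right,
      Category.id_comp]
  · rw [Category.assoc, Ψ_snd, ρ_snd, Category.id_comp]

theorem Ψ_ρ : Ψ (G := G) ≫ ρ = 𝟙 _ := by
  apply CartesianMonoidalCategory.hom_ext
  · rw [Category.assoc, ρ_fst, MonObj.comp_mul, GrpObj.comp_inv, Ψ_fst, Ψ_snd,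
      mul_inv_cancel_right, Category.id_comp]
  · rw [Category.assoc, ρ_snd, Ψ_snd, Category.id_comp]

instance : IsIso (ρ (G := G)) := ⟨Ψ, ρ_Ψ, Ψ_ρ⟩

/-- the multiplication and the second projection form a cartesian square -/
theorem isPullback_mul_snd : IsPullback (μ[G]).left (snd G G).left G.hom G.hom := by
  have hpb : IsPullback (fst G G).left (snd G G).left G.hom G.hom :=
    IsPullback.of_hasPullback G.hom G.hom
  haveI : IsIso (ρ (G := G)).left := (Over.forget _).map_isIso ρ
  refine IsPullback.of_iso hpb (asIso (ρ (G := G)).left) (Iso.refl _) (Iso.refl _) (Iso.refl _)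
    ?_ ?_ (by simp) (by simp)
  · simp only [Iso.refl_hom, Category.comp_id, asIso_hom]
    rw [← Over.comp_left, ρ_mul]
  · simp only [Iso.refl_hom, Category.comp_id, asIso_hom]
    rw [← Over.comp_left, ρ_snd]

end shear2

section top

/-- a point without proper generizations -/
def IsMin {Z : Type*} [TopologicalSpace Z] (z : Z) : Prop := ∀ z' : Z, z' ⤳ z → z' = z

/-- a nonempty scheme has a point without proper generizations -/
theorem exists_isMin (Z : Scheme.{u}) [Nonempty Z] : ∃ z : Z, IsMin z := by
  obtain ⟨z₀⟩ := ‹Nonempty Z›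
  have hirr : IsIrreducible (irreducibleComponent z₀) := isIrreducible_irreducibleComponent
  have hcl : IsClosed (irreducibleComponent z₀) := isClosed_irreducibleComponent
  refine ⟨hirr.genericPoint, ?_⟩
  have hgen : IsGenericPoint hirr.genericPoint (irreducibleComponent z₀) :=
    hirr.isGenericPoint_genericPoint hcl
  intro z' hz'
  have h1 : irreducibleComponent z₀ ⊆ closure {z'} := by
    rw [← hgen.def]
    exact hz'.closure_subset  -- closure {w} ⊆ closure {z'}
  have h2 : IsPreirreducible (closure ({z'} : Set Z)) := isPreirreducible_singleton.closure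
  have h3 : closure ({z'} : Set Z) = irreducibleComponent z₀ :=
    (irreducibleComponent_property z₀).2.2 _ h2 h1
  have h4 : IsGenericPoint z' (irreducibleComponent z₀) := h3
  exact h4.eq hgen

/-- a flat morphism maps points without proper generizations to such points -/
theorem isMin_of_flat {X Y : Scheme.{u}} (f : X ⟶ Y) [Flat f] (x : X) (hx : IsMin x) :
    IsMin (f x) := by
  intro y hy
  obtain ⟨x', hx', rfl⟩ := Flat.generalizingMap f hy
  rw [hx x' hx']

end top

end Groth.Agent.Helper5.GrpCM
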