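import Mathlib
import Groth.Prelude
import Groth.Agent.Helper5.GrpCM1
import Groth.Agent.Helper5.CMAff7
import Groth.Agent.Helper5.CMYon1
import Groth.Agent.Helper5.CMFib3
import Groth.Agent.Helper5.GrpDim1

/-!
# Group schemes locally of finite type over a field are Cohen–Macaulay
-/

set_option autoImplicit false
set_option linter.unusedSectionVars false
set_option linter.style.haveILetI false
set_option linter.unusedVariables false
universe u

open AlgebraicGeometry CategoryTheory CategoryTheory.Limits
open MonoidalCategory CartesianMonoidalCategory MonObj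

namespace Groth.Agent.Helper5.GrpCM

open Groth.Agent.Helper5.FlatOrbit Groth.Agent.Helper5.CMFib Groth.Agent.Helper5.CMAff
  Groth.Agent.Helper5.CMYon

section general

/-- a point without proper generizations of a locally Noetherian scheme has a Cohen–Macaulay
local ring -/
theorem cm_of_isMin (X : Scheme.{u}) [IsLocallyNoetherian X] (x : X) (hx : IsMin x) :
    LocCoh.IsCohenMacaulayLocalRing (X.presheaf.stalk x) := by
  apply cm_of_dim_zero
  have hsub : Subsingleton (PrimeSpectrum (X.presheaf.stalk x)) := by
    refine ⟨fun p q => ?_⟩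
    have hinj : Function.Injective (X.fromSpecStalk x) :=
      (X.fromSpecStalk x).isEmbedding.injective
    apply hinj
    have hp : X.fromSpecStalk x p ∈ Set.range (X.fromSpecStalk x) := ⟨p, rfl⟩
    have hq : X.fromSpecStalk x q ∈ Set.range (X.fromSpecStalk x) := ⟨q, rfl⟩
    rw [Scheme.range_fromSpecStalk] at hp hq
    rw [hx _ hp, hx _ hq]
  show Order.krullDim (PrimeSpectrum (X.presheaf.stalk x)) = 0
  exact Order.krullDim_eq_zero

/-- ascent of the Cohen–Macaulay property along a morphism which is Cohen–Macaulay at a point -/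
theorem cm_of_isCMAt {X Y : Scheme.{u}} (f : X ⟶ Y) [IsLocallyNoetherian X]
    [IsLocallyNoetherian Y] (x : X) (h : MoreMor.IsCMAt f x)
    (hY : LocCoh.IsCohenMacaulayLocalRing (Y.presheaf.stalk (f x))) :
    LocCoh.IsCohenMacaulayLocalRing (X.presheaf.stalk x) := by
  letI : Algebra (Y.presheaf.stalk (f x)) (X.presheaf.stalk x) := (f.stalkMap x).hom.toAlgebra
  haveI : IsLocalHom (algebraMap (Y.presheaf.stalk (f x)) (X.presheaf.stalk x)) :=
    inferInstanceAs (IsLocalHom (f.stalkMap x).hom)
  obtain ⟨e⟩ := fibre_stalk_equiv' f x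
  obtain ⟨hfl, hfib⟩ := h
  haveI : Module.Flat (Y.presheaf.stalk (f x)) (X.presheaf.stalk x) := hfl
  have hF : LocCoh.IsCohenMacaulayLocalRing (X.presheaf.stalk x ⧸
      (IsLocalRing.maximalIdeal (Y.presheaf.stalk (f x))).map
        (algebraMap (Y.presheaf.stalk (f x)) (X.presheaf.stalk x))) :=
    Groth.Agent.Lead.CMCl.cm_of_ringEquiv e.symm (h := hfib)
  exact cm_of_flat_of_fibre (Y.presheaf.stalk (f x)) (X.presheaf.stalk x) hY hF

theorem cm_congr {X : Scheme.{u}} {x y : X} (h : x = y)
    (hx : LocCoh.IsCohenMacaulayLocalRing (X.presheaf.stalk x)) :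
    LocCoh.IsCohenMacaulayLocalRing (X.presheaf.stalk y) := by
  subst h
  exact hx

end general

end Groth.Agent.Helper5.GrpCM
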