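import Mathlib
import Groth.Prelude
import Groth.Agent.Helper5.GrpCM2

/-!
# Group schemes locally of finite type over a field are Cohen–Macaulay: main theorem
-/

set_option autoImplicit false
set_option linter.unusedSectionVars false
set_option linter.style.haveILetI false
set_option linter.unusedVariables false
universe u

open AlgebraicGeometry CategoryTheory CategoryTheory.Limits
open MonoidalCategory CartesianMonoidalCategory MonObj

namespace Groth.Agent.Helper5.GrpCM

open Groth.Agent.Helper5.FlatOrbit Groth.Agent.Helper5.CMFib Groth.Agent.Helper5.CMAff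
  Groth.Agent.Helper5.CMYon

variable (k : Type u) [Field k] (G : Over (Spec (CommRingCat.of k))) [GrpObj G]
  [LocallyOfFiniteType G.hom]

set_option maxHeartbeats 1000000 in
theorem main (g : G.left) : LocCoh.IsCohenMacaulayLocalRing (G.left.presheaf.stalk g) := by
  haveI hsub : Subsingleton ↥(Spec (CommRingCat.of k)) :=
    inferInstanceAs (Subsingleton (PrimeSpectrum k))
  haveI : IsLocallyNoetherian G.left := LocallyOfFiniteType.isLocallyNoetherian G.hom
  haveI : LocallyOfFinitePresentation G.hom := Groth.Agent.Helper2.ArtSch.lfp_of_lft_noeth G.hom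
  -- the projections
  set pf : (G ⊗ G).left ⟶ G.left := (fst G G).left with hpf
  set ps : (G ⊗ G).left ⟶ G.left := (snd G G).left with hps
  set pm : (G ⊗ G).left ⟶ G.left := (μ[G]).left with hpm
  have hpb : IsPullback pf ps G.hom G.hom := IsPullback.of_hasPullback G.hom G.hom
  haveI : Flat pf := MorphismProperty.of_isPullback hpb.flip inferInstance
  haveI : Flat ps := MorphismProperty.of_isPullback hpb inferInstance
  haveI : LocallyOfFiniteType pf := MorphismProperty.of_isPullback hpb.flip inferInstance
  haveI : LocallyOfFiniteType (pf ≫ G.hom) := inferInstance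
  haveI : IsLocallyNoetherian (G ⊗ G).left :=
    LocallyOfFiniteType.isLocallyNoetherian (pf ≫ G.hom)
  -- the fibre of `pf` over `g`
  let jF : pf.fiber g ⟶ (G ⊗ G).left := pf.fiberι g
  have hrange : Set.range jF = pf ⁻¹' {g} := pf.range_fiberι g
  obtain ⟨z₀, hz₀, -⟩ := Scheme.Pullback.exists_preimage_pullback (f := G.hom) (g := G.hom)
    g g rfl
  have hz₀' : z₀ ∈ Set.range jF := by rw [hrange]; exact hz₀
  obtain ⟨w₀, -⟩ := hz₀'
  haveI : Nonempty ↥(pf.fiber g) := ⟨w₀⟩
  -- flatness of the fibre over the second factor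
  have hsqF : IsPullback jF (pf.fiberToSpecResidueField g) pf (G.left.fromSpecResidueField g) :=
    IsPullback.of_hasPullback _ _
  have hsq2 : IsPullback (jF ≫ ps) (pf.fiberToSpecResidueField g) G.hom
      (G.left.fromSpecResidueField g ≫ G.hom) := hsqF.paste_horiz hpb.flip
  haveI : Flat (jF ≫ ps) := MorphismProperty.of_isPullback hsq2.flip inferInstance
  -- a point of the fibre without proper generizations
  obtain ⟨w, hw⟩ := exists_isMin (pf.fiber g)
  set z : (G ⊗ G).left := jF w with hz
  have hzg : pf z = g := by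
    have : z ∈ Set.range jF := ⟨w, rfl⟩
    rw [hrange] at this
    exact this
  have hb : IsMin (ps z) := isMin_of_flat (jF ≫ ps) w hw
  -- the shear
  let Φ : G ⊗ G ⟶ G ⊗ G := shear (regular G)
  haveI : IsIso Φ.left := (Over.forget _).map_isIso Φ
  let e : (G ⊗ G).left ≃ₜ (G ⊗ G).left := (asIso Φ.left).schemeIsoToHomeo
  have hΦf : Φ.left ≫ pf = pf := by
    rw [hpf, ← Over.comp_left]
    simp [Φ, shear]
  have hΦs : Φ.left ≫ ps = pm := by
    rw [hps, hpm, ← Over.comp_left, shear_snd]
    rfl
  have hef : ∀ y, pf (e y) = pf y := fun y => by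
    show pf (Φ.left y) = _
    rw [← Scheme.Hom.comp_apply, hΦf]
  have hes : ∀ y, ps (e y) = pm y := fun y => by
    show ps (Φ.left y) = _
    rw [← Scheme.Hom.comp_apply, hΦs]
  have hefs : ∀ y, pf (e.symm y) = pf y := fun y => by
    have := hef (e.symm y)
    rw [e.apply_symm_apply] at this
    exact this.symm
  -- the image of `z` under the shear is again a minimal point of the fibre
  have hez : e z ∈ Set.range jF := by
    rw [hrange]
    show pf (e z) = g
    rw [hef, hzg]
  obtain ⟨w₂, hw₂⟩ := hez
  have hjFinj : Function.Injective jF := (pf.fiberι g).isEmbedding.injective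
  have hw₂min : IsMin w₂ := by
    intro w' hw'
    have h1 : jF w' ⤳ e z := by
      rw [← hw₂]
      exact hw'.map jF.continuous
    have h2 : e.symm (jF w') ⤳ z := by
      have := h1.map e.symm.continuous
      rwa [e.symm_apply_apply] at this
    have h3 : e.symm (jF w') ∈ Set.range jF := by
      rw [hrange]
      show pf (e.symm (jF w')) = g
      rw [hefs]
      have : jF w' ∈ Set.range jF := ⟨w', rfl⟩
      rw [hrange] at this
      exact this
    obtain ⟨w'', hw''⟩ := h3
    have h4 : w'' ⤳ w := by
      rw [← (pf.fiberι g).isEmbedding.toIsInducing.specializes_iff]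
      show jF w'' ⤳ jF w
      rw [hw'']
      exact h2
    have h5 : w'' = w := hw w'' h4
    have h6 : e.symm (jF w') = z := by rw [← hw'', h5]
    have h7 : jF w' = e z := by rw [← h6, e.apply_symm_apply]
    exact hjFinj (h7.trans hw₂.symm)
  have hm : IsMin (pm z) := by
    have h1 : IsMin ((jF ≫ ps) w₂) := isMin_of_flat (jF ≫ ps) w₂ hw₂min
    have h2 : (jF ≫ ps) w₂ = pm z := by
      rw [Scheme.Hom.comp_apply, hw₂, hes]
    rwa [h2] at h1
  -- Cohen–Macaulayness
  have Pb : LocCoh.IsCohenMacaulayLocalRing (G.left.presheaf.stalk (ps z)) :=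
    cm_of_isMin G.left _ hb
  have Pm : LocCoh.IsCohenMacaulayLocalRing (G.left.presheaf.stalk (pm z)) :=
    cm_of_isMin G.left _ hm
  have h1 : MoreMor.IsCMAt G.hom (pm z) :=
    (isCMAt_iff_of_isField G.hom (pm z) (isField_stalk_spec_field k _)).mpr Pm
  have h2 : MoreMor.IsCMAt ps z :=
    isCMAt_baseChange G.hom ps pm G.hom isPullback_mul_snd z h1
  have Pz : LocCoh.IsCohenMacaulayLocalRing ((G ⊗ G).left.presheaf.stalk z) :=
    cm_of_isCMAt ps z h2 Pb
  have h3 := (isCMAt_of_flat_of_cm pf z (Flat.stalkMap pf z) Pz).2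
  exact cm_congr hzg h3

end Groth.Agent.Helper5.GrpCM
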