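import Mathlib
import Groth.Agent.Helper3.SchDenseExt
import Groth.Prelude

set_option autoImplicit false
set_option linter.unusedSectionVars false
set_option linter.style.haveILetI false
universe u

open AlgebraicGeometry CategoryTheory CategoryTheory.Limits TopologicalSpace

namespace Groth.Agent.Helper5.RelDense

open Groth.Agent.Helper3.SchDenseExt

/-- schematic density transfers along an isomorphism -/
theorem isSchematicallyDense_of_iso {P X : Scheme.{u}} (φ : P ⟶ X) [IsIso φ] (U : X.Opens)
    (h : CInt.IsSchematicallyDense (φ ⁻¹ᵁ U)) : CInt.IsSchematicallyDense U := by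
  intro V
  rw [injective_iff_map_eq_zero]
  intro a ha
  have hle : φ ⁻¹ᵁ (V ⊓ U) ≤ φ ⁻¹ᵁ V := fun _ hx => hx.1
  let r2 : Γ(P, φ ⁻¹ᵁ V) ⟶ Γ(P, φ ⁻¹ᵁ (V ⊓ U)) := P.presheaf.map (homOfLE hle).op
  have h1 : Function.Injective r2.hom := h (φ ⁻¹ᵁ V)
  have hnat : φ.app V ≫ r2 =
      X.presheaf.map (homOfLE (inf_le_left : V ⊓ U ≤ V)).op ≫ φ.app (V ⊓ U) :=
    (φ.naturality (homOfLE (inf_le_left : V ⊓ U ≤ V)).op).symm
  have h2 : r2.hom ((φ.app V).hom a) = 0 := by
    have h3 := congrArg (fun m => m.hom a) hnat
    simp only [CommRingCat.hom_comp, RingHom.coe_comp, Function.comp_apply] at h3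
    rw [h3]
    have ha' : (X.presheaf.map (homOfLE (inf_le_left : V ⊓ U ≤ V)).op).hom a = 0 := ha
    rw [ha', map_zero]
  have h3 : (φ.app V).hom a = 0 := h1 (h2.trans (map_zero _).symm)
  have hinj : Function.Injective (φ.app V).hom :=
    ((ConcreteCategory.isIso_iff_bijective (φ.app V)).1 inferInstance).1
  exact hinj (h3.trans (map_zero _).symm)

theorem s5434 (S : Scheme.{u}) (X Y : Over S) (U : X.left.Opens)
    (hU : (∀ (S' : Scheme.{u}) (g : S' ⟶ S),
      CInt.IsSchematicallyDense ((pullback.fst X.hom g) ⁻¹ᵁ U)))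
    (hY : ∀ s : S, IsSeparated (pullback.snd Y.hom (S.fromSpecResidueField s)))
    (f g : X ⟶ Y) (h : U.ι ≫ f.left = U.ι ≫ g.left) : f = g := by
  -- absolute density
  have hU0 : CInt.IsSchematicallyDense U :=
    isSchematicallyDense_of_iso (pullback.fst X.hom (𝟙 S)) U (hU S (𝟙 S))
  let z := equalizer.ι f.left g.left
  -- surjectivity of the equalizer
  have hsurj : Function.Surjective z := by
    intro x
    let s : S := X.hom x
    let ρ := S.fromSpecResidueField s
    let Xs := pullback X.hom ρ
    let Ys := pullback Y.hom ρ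
    let fs : Xs ⟶ Ys := ((Over.pullback ρ).map f).left
    let gs : Xs ⟶ Ys := ((Over.pullback ρ).map g).left
    have hfs1 : fs ≫ pullback.fst Y.hom ρ = pullback.fst X.hom ρ ≫ f.left := by
      simp only [fs, Over.pullback_map_left]
      exact pullback.lift_fst _ _ _
    have hfs2 : fs ≫ pullback.snd Y.hom ρ = pullback.snd X.hom ρ := by
      simp only [fs, Over.pullback_map_left]
      exact pullback.lift_snd _ _ _
    have hgs1 : gs ≫ pullback.fst Y.hom ρ = pullback.fst X.hom ρ ≫ g.left := by
      simp only [gs, Over.pullback_map_left]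
      exact pullback.lift_fst _ _ _
    have hgs2 : gs ≫ pullback.snd Y.hom ρ = pullback.snd X.hom ρ := by
      simp only [gs, Over.pullback_map_left]
      exact pullback.lift_snd _ _ _
    let Us : Xs.Opens := (pullback.fst X.hom ρ) ⁻¹ᵁ U
    have hUs : CInt.IsSchematicallyDense Us := hU _ ρ
    haveI : IsSeparated (pullback.snd Y.hom ρ) := hY s
    have hfg : fs = gs := by
      refine ext_of_schDense Us hUs (pullback.snd Y.hom ρ) (by rw [hfs2, hgs2]) ?_
      apply pullback.hom_ext
      · rw [Category.assoc, Category.assoc, hfs1, hgs1, ← morphismRestrict_ι_assoc,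
          ← morphismRestrict_ι_assoc, h]
      · rw [Category.assoc, Category.assoc, hfs2, hgs2]
    -- the point `x` as a `κ(x)`-point of the fibre
    let xs : Spec (X.left.residueField x) ⟶ Xs :=
      pullback.lift (X.left.fromSpecResidueField x) (Spec.map (X.hom.residueFieldMap x))
        (Scheme.Hom.SpecMap_residueFieldMap_fromSpecResidueField X.hom x).symm
    have hxs : xs ≫ pullback.fst X.hom ρ = X.left.fromSpecResidueField x := pullback.lift_fst _ _ _
    have hab : X.left.fromSpecResidueField x ≫ f.left = X.left.fromSpecResidueField x ≫ g.left := by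
      rw [← hxs, Category.assoc, Category.assoc, ← hfs1, ← hgs1, hfg]
    refine ⟨(equalizer.lift (X.left.fromSpecResidueField x) hab) (IsLocalRing.closedPoint _), ?_⟩
    rw [← Scheme.Hom.comp_apply, equalizer.lift_ι, Scheme.fromSpecResidueField_apply]
  haveI : IsClosedImmersion z :=
    IsClosedImmersion.of_isPreimmersion z (by rw [hsurj.range_eq]; exact isClosed_univ)
  have hfac : equalizer.lift U.ι h ≫ z = U.ι := equalizer.lift_ι _ _
  have hker : z.ker = ⊥ := by
    rw [eq_bot_iff, ← ker_ι_eq_bot U hU0, ← hfac]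
    exact Scheme.Hom.le_ker_comp _ _
  haveI : IsIso z := IsClosedImmersion.isIso_iff_ker_eq_bot.mpr hker
  apply Over.OverMorphism.ext
  rw [← cancel_epi z]
  exact equalizer.condition f.left g.left

end Groth.Agent.Helper5.RelDense
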