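import Mathlib
import Groth.Agent.Helper5.GrpDense1
import Groth.Agent.Helper5.RelDense1
import Groth.Agent.Helper5.SchD2
import Groth.Prelude

set_option autoImplicit false
set_option linter.unusedSectionVars false
set_option linter.style.haveILetI false
universe u

open AlgebraicGeometry CategoryTheory CategoryTheory.Limits TopologicalSpace
open MonoidalCategory CartesianMonoidalCategory MonObj GrpObj

namespace Groth.Agent.Helper5.GrpDense

open Groth.Agent.Helper3.SchDenseExt

/-- a morphism between spectra of fields is an epimorphism of schemes -/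
theorem epi_of_fields {K k : Type u} [Field K] [Field k]
    (φ : Spec (.of K) ⟶ Spec (.of k)) : Epi φ := by
  haveI : Subsingleton (Spec (.of k)) := by
    show Subsingleton (PrimeSpectrum k)
    infer_instance
  haveI : Nonempty (Spec (.of K)) := by
    show Nonempty (PrimeSpectrum K)
    infer_instance
  haveI : Surjective φ := ⟨fun y => by
    obtain ⟨x⟩ := (inferInstance : Nonempty (Spec (.of K)))
    exact ⟨x, Subsingleton.elim _ _⟩⟩
  exact Flat.epi_of_flat_of_surjective φ

/-- a `T`-point of `G` landing in `U` is sent to the same point by `f` and `g` -/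
theorem comp_eq_of_range_subset {S : Scheme.{u}} {G H T : Over S} (U : G.left.Opens)
    (f g : G ⟶ H) (h : U.ι ≫ f.left = U.ι ≫ g.left) (p : T ⟶ G)
    (hp : Set.range p.left ⊆ (U : Set G.left)) : p ≫ f = p ≫ g := by
  apply Over.OverMorphism.ext
  have hr : Set.range p.left ⊆ Set.range U.ι := by
    rw [Scheme.Opens.range_ι]; exact hp
  have h1 : IsOpenImmersion.lift U.ι p.left hr ≫ U.ι = p.left := IsOpenImmersion.lift_fac _ _ _
  rw [Over.comp_left, Over.comp_left, ← h1, Category.assoc, Category.assoc, h]

end Groth.Agent.Helper5.GrpDense
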