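import Mathlib
import Groth.Agent.Helper5.GrpDense2
import Groth.Prelude

set_option autoImplicit false
set_option linter.unusedSectionVars false
set_option linter.style.haveILetI false
universe u

open AlgebraicGeometry CategoryTheory CategoryTheory.Limits TopologicalSpace
open MonoidalCategory CartesianMonoidalCategory MonObj GrpObj

namespace Groth.Agent.Helper5.GrpDense

open Groth.Agent.Helper3.SchDenseExt

/-- key step: `f` and `g` agree on every point of `G` -/
theorem pointwise_eq (S : Scheme.{u}) (G H : Over S) [GrpObj G] [GrpObj H]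
    (U : G.left.Opens)
    (hU : (∀ (S' : Scheme.{u}) (g : S' ⟶ S),
      CInt.IsSchematicallyDense ((pullback.fst G.hom g) ⁻¹ᵁ U)))
    (f g : G ⟶ H) [IsMonHom f] [IsMonHom g] (h : U.ι ≫ f.left = U.ι ≫ g.left) (x : G.left) :
    G.left.fromSpecResidueField x ≫ f.left = G.left.fromSpecResidueField x ≫ g.left := by
  let T₀ : Over S := Over.mk (G.left.fromSpecResidueField x ≫ G.hom)
  let x₀ : T₀ ⟶ G := Over.homMk (G.left.fromSpecResidueField x) rfl
  let P : Over S := G ⊗ T₀
  let W1 : P.left.Opens := (fst G T₀).left ⁻¹ᵁ U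
  have hW1s : CInt.IsSchematicallyDense W1 := hU T₀.left T₀.hom
  have hW1 : Dense (W1 : Set P.left) := SchD.dense_of_isSchematicallyDense W1 hW1s
  let τ : P ⟶ P := transl G T₀ x₀
  haveI : IsIso τ.left := inferInstanceAs (IsIso ((Over.forget S).map τ))
  let W2 : P.left.Opens := τ.left ⁻¹ᵁ W1
  have hW2 : Dense (W2 : Set P.left) := by
    have hh : IsOpenMap τ.left := (Scheme.Hom.homeomorph τ.left).isOpenMap
    exact hW1.preimage hh
  -- a point of `P`
  have hne : Nonempty P.left := by
    let p0 : T₀.left ⟶ P.left := pullback.lift (G.left.fromSpecResidueField x) (𝟙 _)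
      (by simp [T₀])
    exact ⟨p0 (IsLocalRing.closedPoint _)⟩
  have hW12 : Dense ((W1 : Set P.left) ∩ (W2 : Set P.left)) :=
    hW1.inter_of_isOpen_right hW2 W2.isOpen
  obtain ⟨w, hw1, hw2⟩ := hW12.nonempty
  let T₁ : Over S := Over.mk (P.left.fromSpecResidueField w ≫ P.hom)
  let w₀ : T₁ ⟶ P := Over.homMk (P.left.fromSpecResidueField w) rfl
  let a : T₁ ⟶ G := w₀ ≫ fst G T₀
  let c : T₁ ⟶ G := (w₀ ≫ snd G T₀) ≫ x₀
  have ha : a ≫ f = a ≫ g := by
    refine comp_eq_of_range_subset U f g h a ?_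
    rintro _ ⟨t, rfl⟩
    have : a.left t = (fst G T₀).left w := by
      show (P.left.fromSpecResidueField w ≫ (fst G T₀).left) t = _
      rw [Scheme.Hom.comp_apply, Scheme.fromSpecResidueField_apply]
    rw [this]; exact hw1
  have hb : (c * a) ≫ f = (c * a) ≫ g := by
    have hca : c * a = w₀ ≫ τ ≫ fst G T₀ := by
      show (w₀ ≫ snd G T₀) ≫ x₀ * w₀ ≫ fst G T₀ = w₀ ≫ transl G T₀ x₀ ≫ fst G T₀
      rw [transl_fst, MonObj.comp_mul, Category.assoc]
    refine comp_eq_of_range_subset U f g h (c * a) ?_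
    rintro _ ⟨t, rfl⟩
    have : (c * a).left t = (fst G T₀).left (τ.left w) := by
      rw [hca]
      show (P.left.fromSpecResidueField w ≫ τ.left ≫ (fst G T₀).left) t = _
      rw [Scheme.Hom.comp_apply, Scheme.Hom.comp_apply, Scheme.fromSpecResidueField_apply]
    rw [this]; exact hw2
  have hc : c ≫ f = c ≫ g := by
    rw [MonObj.mul_comp, MonObj.mul_comp, ha] at hb
    exact mul_right_cancel hb
  -- `w₀ ≫ snd` is an epimorphism
  have hc' : (w₀ ≫ snd G T₀).left ≫ (x₀ ≫ f).left = (w₀ ≫ snd G T₀).left ≫ (x₀ ≫ g).left := by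
    rw [← Over.comp_left, ← Over.comp_left, ← Category.assoc, ← Category.assoc]
    exact congrArg (fun m => m.left) hc
  haveI : Epi (w₀ ≫ snd G T₀).left :=
    epi_of_fields (K := P.left.residueField w) (k := G.left.residueField x) _
  exact (cancel_epi _).1 hc'

theorem s5435 (S : Scheme.{u}) (G H : Over S) [GrpObj G] [GrpObj H]
    (U : G.left.Opens)
    (hU : (∀ (S' : Scheme.{u}) (g : S' ⟶ S),
      CInt.IsSchematicallyDense ((pullback.fst G.hom g) ⁻¹ᵁ U)))
    (f g : G ⟶ H) [IsMonHom f] [IsMonHom g] (h : U.ι ≫ f.left = U.ι ≫ g.left) : f = g := by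
  have hU0 : CInt.IsSchematicallyDense U :=
    RelDense.isSchematicallyDense_of_iso (pullback.fst G.hom (𝟙 S)) U (hU S (𝟙 S))
  let z := equalizer.ι f.left g.left
  have hsurj : Function.Surjective z := by
    intro x
    have hab := pointwise_eq S G H U hU f g h x
    refine ⟨(equalizer.lift (G.left.fromSpecResidueField x) hab) (IsLocalRing.closedPoint _), ?_⟩
    rw [← Scheme.Hom.comp_apply, equalizer.lift_ι, Scheme.fromSpecResidueField_apply]
  haveI : IsClosedImmersion z :=
    IsClosedImmersion.of_isPreimmersion z (by rw [hsurj.range_eq]; exact isClosed_univ)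
  have hfac : equalizer.lift U.ι h ≫ z = U.ι := equalizer.lift_ι _ _
  have hker : z.ker = ⊥ := by
    rw [eq_bot_iff, ← ker_ι_eq_bot U hU0, ← hfac]
    exact Scheme.Hom.le_ker_comp _ _
  haveI : IsIso z := IsClosedImmersion.isIso_iff_ker_eq_bot.mpr hker
  apply Over.OverMorphism.ext
  rw [← cancel_epi z]
  exact equalizer.condition f.left g.left

end Groth.Agent.Helper5.GrpDense
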