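import Mathlib
import Groth.Prelude
import Groth.Agent.Helper5.LscDim6
import Groth.Agent.Helper5.FibDim7

set_option autoImplicit false
set_option linter.unusedSectionVars false
set_option linter.style.haveILetI false
universe u

open AlgebraicGeometry CategoryTheory CategoryTheory.Limits TopologicalSpace

namespace Groth.Agent.Helper5.LscDim

theorem dim_preimage_eq_zero_iff {X Y : Scheme.{u}} (f : X ⟶ Y) [LocallyOfFiniteType f] (y : Y) :
    topologicalKrullDim ↥(f ⁻¹' {y}) = 0 ↔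
      (∃ x : X, f x = y) ∧ ∀ x : X, f x = y → FlatMor.fibreDimAt f x = 0 := by
  rw [dim_preimage_eq_iSup]
  constructor
  · intro h
    have hne : Nonempty ↥(f ⁻¹' {y}) := by
      by_contra hcon
      rw [not_nonempty_iff] at hcon
      rw [iSup_of_empty] at h
      exact absurd h (by decide)
    refine ⟨⟨hne.some.1, hne.some.2⟩, fun x hx => ?_⟩
    obtain ⟨m, hm⟩ := Groth.Agent.Helper5.SubDim.fibreDimAt_nat f x
    have hle : FlatMor.fibreDimAt f x ≤ 0 := by
      rw [← h]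
      exact le_iSup (fun x : ↥(f ⁻¹' {y}) => FlatMor.fibreDimAt f x.1) ⟨x, hx⟩
    rw [hm] at hle ⊢
    have : m ≤ 0 := by exact_mod_cast hle
    have : m = 0 := by omega
    rw [this]; rfl
  · rintro ⟨⟨x, hx⟩, h⟩
    haveI : Nonempty ↥(f ⁻¹' {y}) := ⟨⟨x, hx⟩⟩
    have : (fun x : ↥(f ⁻¹' {y}) => FlatMor.fibreDimAt f x.1) = fun _ => 0 := by
      funext x
      exact h x.1 x.2
    rw [this, iSup_const]

theorem s10889 {X Y : Scheme.{u}} (f : X ⟶ Y) [IsProper f] [Flat f]
    [LocallyOfFinitePresentation f] :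
    IsClopen {y : Y | topologicalKrullDim ↥(f ⁻¹' {y}) = 0} ∧
      ∀ U : Y.Opens, (U : Set Y) ⊆ {y : Y | topologicalKrullDim ↥(f ⁻¹' {y}) = 0} →
        IsFinite (f ∣_ U) := by
  let E : Set X := {x | FlatMor.fibreDimAt f x ≤ 0}
  have hE : IsOpen E := Groth.Agent.Helper5.FibDim.isOpen_fibreDimAt_le f 0
  have hEiff : ∀ x : X, x ∈ E ↔ FlatMor.fibreDimAt f x = 0 := by
    intro x
    obtain ⟨m, hm⟩ := Groth.Agent.Helper5.SubDim.fibreDimAt_nat f x
    show FlatMor.fibreDimAt f x ≤ 0 ↔ _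
    rw [hm]
    constructor
    · intro hle
      have : m ≤ 0 := by exact_mod_cast hle
      have : m = 0 := by omega
      rw [this]; rfl
    · intro h; rw [h]
  have hV : {y : Y | topologicalKrullDim ↥(f ⁻¹' {y}) = 0} = Set.range f ∩ (f '' Eᶜ)ᶜ := by
    ext y
    rw [Set.mem_setOf_eq, dim_preimage_eq_zero_iff]
    constructor
    · rintro ⟨⟨x, hx⟩, h⟩
      refine ⟨⟨x, hx⟩, ?_⟩
      rintro ⟨x', hx'E, hx'⟩
      exact hx'E ((hEiff x').2 (h x' hx'))
    · rintro ⟨⟨x, hx⟩, h⟩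
      refine ⟨⟨x, hx⟩, fun x' hx' => (hEiff x').1 ?_⟩
      by_contra hcon
      exact h ⟨x', hcon, hx'⟩
  have hrange_open : IsOpen (Set.range f) := f.isOpenMap.isOpen_range
  have hrange_closed : IsClosed (Set.range f) := f.isClosedMap.isClosed_range
  have himg_closed : IsClosed (f '' Eᶜ) := f.isClosedMap _ hE.isClosed_compl
  refine ⟨⟨?_, ?_⟩, ?_⟩
  · -- closed
    rw [← isOpen_compl_iff, isOpen_iff_forall_mem_open]
    intro y₀ hy₀
    by_cases hr : y₀ ∈ Set.range f
    · have : ∃ x : X, f x = y₀ ∧ FlatMor.fibreDimAt f x ≠ 0 := by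
        by_contra hcon
        push_neg at hcon
        apply hy₀
        show topologicalKrullDim ↥(f ⁻¹' {y₀}) = 0
        rw [dim_preimage_eq_zero_iff]
        exact ⟨hr, hcon⟩
      obtain ⟨x, hx, hne⟩ := this
      obtain ⟨N, hN, h⟩ := exists_nhd f x
      refine ⟨N, ?_, N.2, hx ▸ hN⟩
      intro y' hy' hy'V
      obtain ⟨x', hx', hle⟩ := h y' hy'
      have h0 : topologicalKrullDim ↥(f ⁻¹' {y'}) = 0 := hy'V
      rw [dim_preimage_eq_zero_iff] at h0
      rw [h0.2 x' hx'] at hle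
      obtain ⟨m, hm⟩ := Groth.Agent.Helper5.SubDim.fibreDimAt_nat f x
      rw [hm] at hle hne
      have : m ≤ 0 := by exact_mod_cast hle
      have : m = 0 := by omega
      apply hne
      rw [this]; rfl
    · refine ⟨(Set.range f)ᶜ, ?_, hrange_closed.isOpen_compl, hr⟩
      intro y' hy' hy'V
      have h0 : topologicalKrullDim ↥(f ⁻¹' {y'}) = 0 := hy'V
      rw [dim_preimage_eq_zero_iff] at h0
      exact hy' h0.1
  · rw [hV]
    exact hrange_open.inter himg_closed.isOpen_compl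
  · intro U hU
    rw [IsFinite.iff_isProper_and_locallyQuasiFinite]
    refine ⟨inferInstance, ?_⟩
    apply Groth.Agent.Helper5.RelDim.locallyQuasiFinite_of_fibreDimAt_eq_zero
    intro x
    rw [fibreDimAt_morphismRestrict]
    have hx : f ((f ⁻¹ᵁ U).ι x) ∈ (U : Set Y) := x.2
    have h0 : topologicalKrullDim ↥(f ⁻¹' {f ((f ⁻¹ᵁ U).ι x)}) = 0 := hU hx
    rw [dim_preimage_eq_zero_iff] at h0
    exact h0.2 _ rfl

end Groth.Agent.Helper5.LscDim
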