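import Mathlib
import Groth.Prelude
import Groth.Agent.Helper5.LscDim7
import Groth.Agent.Helper5.FibGrp7

set_option autoImplicit false
set_option linter.unusedSectionVars false
set_option linter.style.haveILetI false
universe u

open AlgebraicGeometry CategoryTheory CategoryTheory.Limits TopologicalSpace
open MonoidalCategory CartesianMonoidalCategory MonObj GrpObj

namespace Groth.Agent.Helper5.LscDim

variable {S : Scheme.{u}} (G : Over S) [GrpObj G]

theorem isKernel_id : AlgGrp.IsKernel (𝟙 G) (toUnit G) := by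
  unfold AlgGrp.IsKernel
  have h : η[𝟙_ (Over S)] = 𝟙 _ := toUnit_unique _ _
  rw [h]
  exact IsPullback.of_horiz_isIso ⟨by simp⟩

/-- the local fibre dimension of a group scheme is constant on fibres -/
theorem fibreDimAt_eq_unit [LocallyOfFiniteType G.hom] (x : G.left) :
    FlatMor.fibreDimAt G.hom x = FlatMor.fibreDimAt G.hom (η[G].left (G.hom x)) := by
  haveI : LocallyOfFiniteType (toUnit G).left := by
    rw [Groth.Agent.Helper5.FibGrp.toUnit_left]; infer_instance
  have h1 := Groth.Agent.Helper5.FibGrp.fibreDimAt_eq_kdim G (𝟙_ (Over S)) (toUnit G) G (𝟙 G)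
    (isKernel_id G) x
  have h2 : Groth.Agent.Helper5.IsogInj.e (toUnit G) (𝟙 G) (isKernel_id G) = η[G] := by
    have := Groth.Agent.Helper5.IsogInj.e_i (toUnit G) (𝟙 G) (isKernel_id G)
    rwa [Category.comp_id] at this
  unfold Groth.Agent.Helper5.FibGrp.kdim at h1
  rw [h2] at h1
  have h3 : ∀ (q : G.left ⟶ S), q = G.hom → FlatMor.fibreDimAt q x = FlatMor.fibreDimAt G.hom x := by
    rintro q rfl; rfl
  rw [← h3 _ (Groth.Agent.Helper5.FibGrp.toUnit_left G)]
  exact h1

theorem unit_apply (s : S) : G.hom (η[G].left s) = s := by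
  have h1 : η[G].left ≫ G.hom = 𝟙 S := Over.w η[G]
  change (η[G].left ≫ G.hom) s = s
  rw [h1]
  rfl

theorem dim_preimage_grp [LocallyOfFiniteType G.hom] (s : S) :
    topologicalKrullDim ↥(G.hom ⁻¹' {s}) = FlatMor.fibreDimAt G.hom (η[G].left s) := by
  rw [dim_preimage_eq_iSup]
  haveI : Nonempty ↥(G.hom ⁻¹' {s}) := ⟨⟨η[G].left s, unit_apply G s⟩⟩
  have : (fun x : ↥(G.hom ⁻¹' {s}) => FlatMor.fibreDimAt G.hom x.1) =
      fun _ => FlatMor.fibreDimAt G.hom (η[G].left s) := by
    funext x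
    rw [fibreDimAt_eq_unit G x.1]
    have : G.hom x.1 = s := x.2
    rw [this]
  rw [this, iSup_const]

theorem s3022 [Flat G.hom] [LocallyOfFinitePresentation G.hom] :
    IsLocallyConstant (fun s : S => topologicalKrullDim ↥(G.hom ⁻¹' {s})) := by
  rw [IsLocallyConstant.iff_exists_open]
  intro s₀
  let E : Set G.left :=
    {x | FlatMor.fibreDimAt G.hom x ≤ FlatMor.fibreDimAt G.hom (η[G].left s₀)}
  have hE : IsOpen E := Groth.Agent.Helper5.FibDim.isOpen_fibreDimAt_le G.hom _
  obtain ⟨N, hN, h⟩ := exists_nhd G.hom (η[G].left s₀)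
  rw [unit_apply] at hN
  refine ⟨(η[G].left ⁻¹' E) ∩ N, (hE.preimage η[G].left.continuous).inter N.2,
    ⟨show FlatMor.fibreDimAt G.hom (η[G].left s₀) ≤ _ from le_refl _, hN⟩, ?_⟩
  rintro s ⟨hs1, hs2⟩
  show topologicalKrullDim ↥(G.hom ⁻¹' {s}) = topologicalKrullDim ↥(G.hom ⁻¹' {s₀})
  rw [dim_preimage_grp, dim_preimage_grp]
  apply le_antisymm hs1
  obtain ⟨x', hx', hle⟩ := h s hs2
  rw [fibreDimAt_eq_unit G x', hx'] at hle
  exact hle

end Groth.Agent.Helper5.LscDim
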