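import Mathlib
import Groth.Prelude
import Groth.Agent.Helper5.LscDim8
import Groth.Agent.Helper5.SecUO7
import Groth.Agent.Helper5.FibBound
import Groth.Agent.Helper7.PC

/-!
# Semicontinuity and constructibility of the fibre dimension of a group scheme
-/

set_option autoImplicit false
set_option linter.style.haveILetI false
universe u

open AlgebraicGeometry CategoryTheory CategoryTheory.Limits TopologicalSpace Topology
open MonoidalCategory CartesianMonoidalCategory MonObj GrpObj

namespace Groth.Agent.Helper5.GrpDimSc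

variable {S : Scheme.{u}} (G : Over S) [GrpObj G]

/-- the unit section as a map of topological spaces on `S` -/
noncomputable def e : S ⟶ G.left := η[G].left

theorem dim_eq [LocallyOfFiniteType G.hom] :
    (fun s : S => topologicalKrullDim ↥(G.hom ⁻¹' {s})) =
      fun s : S => FlatMor.fibreDimAt G.hom ((e G) s) := by
  funext s
  exact Groth.Agent.Helper5.LscDim.dim_preimage_grp G s

theorem usc [LocallyOfFiniteType G.hom] :
    UpperSemicontinuous (fun s : S => topologicalKrullDim ↥(G.hom ⁻¹' {s})) := by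
  rw [dim_eq]
  exact Groth.Agent.Helper5.SecComp.upperSemicontinuous_fibreDimAt_comp G.hom (e G)
    (e G).continuous

theorem lc_le [LocallyOfFinitePresentation G.hom] (n : ℕ) :
    IsLocallyConstructible {s : S | (n : WithBot ℕ∞) ≤ FlatMor.fibreDimAt G.hom ((e G) s)} :=
  Groth.Agent.Helper7.PC.lc_preimage (e G)
    (Groth.Agent.Helper5.SecUO.isLocallyConstructible_le_fibreDimAt G.hom n)

theorem s5329 [LocallyOfFiniteType G.hom] :
    UpperSemicontinuous (fun s : S => topologicalKrullDim ↥(G.hom ⁻¹' {s})) ∧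
    (LocallyOfFinitePresentation G.hom → ∀ s : S, ∃ V : S.Opens, s ∈ V ∧
      ((fun t : S => topologicalKrullDim ↥(G.hom ⁻¹' {t})) '' (V : Set S)).Finite ∧
      ∀ d : WithBot ℕ∞, IsConstructible
        {t : V | topologicalKrullDim ↥(G.hom ⁻¹' {(t : S)}) = d}) := by
  refine ⟨usc G, ?_⟩
  intro hfp s
  rw [dim_eq]
  have hnat := fun t : S => Groth.Agent.Helper5.SubDim.fibreDimAt_nat G.hom ((e G) t)
  obtain ⟨n₀, hn₀⟩ := hnat s
  have husc := Groth.Agent.Helper5.SecComp.upperSemicontinuous_fibreDimAt_comp G.hom (e G)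
    (e G).continuous
  have hopen : IsOpen {t : S | FlatMor.fibreDimAt G.hom ((e G) t) < ((n₀ + 1 : ℕ) : WithBot ℕ∞)} :=
    (upperSemicontinuous_iff_isOpen_preimage.1 husc) _
  have hs0 : s ∈ (⟨_, hopen⟩ : S.Opens) := by
    show FlatMor.fibreDimAt G.hom ((e G) s) < ((n₀ + 1 : ℕ) : WithBot ℕ∞)
    rw [hn₀]
    exact_mod_cast Nat.lt_succ_self n₀
  obtain ⟨V, hV, hsV, hVle⟩ := (Opens.isBasis_iff_nbhd.1 S.isBasis_affineOpens) hs0
  refine ⟨V, hsV, ?_, ?_⟩
  · refine Set.Finite.subset
      ((Finset.range (n₀ + 1)).image (fun m : ℕ => (m : WithBot ℕ∞))).finite_toSet ?_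
    rintro _ ⟨t, ht, rfl⟩
    obtain ⟨m, hm⟩ := hnat t
    have h1 : FlatMor.fibreDimAt G.hom ((e G) t) < ((n₀ + 1 : ℕ) : WithBot ℕ∞) := hVle ht
    show FlatMor.fibreDimAt G.hom ((e G) t) ∈ _
    rw [hm] at h1 ⊢
    have h2 : m < n₀ + 1 := by exact_mod_cast h1
    simp only [Finset.coe_image, Finset.coe_range, Set.mem_image, Set.mem_Iio]
    exact ⟨m, h2, rfl⟩
  · intro d
    have hset : {t : V | topologicalKrullDim ↥(G.hom ⁻¹' {(t : S)}) = d} =
        {t : V | FlatMor.fibreDimAt G.hom ((e G) (t : S)) = d} := by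
      ext t
      simp only [Set.mem_ofPred_eq]
      rw [Groth.Agent.Helper5.LscDim.dim_preimage_grp G (t : S)]
      rfl
    rw [hset]
    haveI : CompactSpace ↥V := isCompact_iff_compactSpace.1 hV.isCompact
    haveI : IsAffine (V : Scheme.{u}) := hV
    haveI : QuasiSeparatedSpace ↥V := inferInstanceAs (QuasiSeparatedSpace ↥(V : Scheme.{u}))
    haveI : PrespectralSpace ↥V := inferInstanceAs (PrespectralSpace ↥(V : Scheme.{u}))
    have hlc : ∀ n : ℕ, IsConstructible
        {t : V | (n : WithBot ℕ∞) ≤ FlatMor.fibreDimAt G.hom ((e G) (t : S))} := by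
      intro n
      have h1 := (lc_le G n).preimage_of_isOpenEmbedding V.isOpenEmbedding'
      exact h1.isConstructible
    by_cases hd : ∃ m : ℕ, d = (m : WithBot ℕ∞)
    · obtain ⟨m, rfl⟩ := hd
      have heq : {t : V | FlatMor.fibreDimAt G.hom ((e G) (t : S)) = (m : WithBot ℕ∞)} =
          {t : V | (m : WithBot ℕ∞) ≤ FlatMor.fibreDimAt G.hom ((e G) (t : S))} \
            {t : V | ((m + 1 : ℕ) : WithBot ℕ∞) ≤ FlatMor.fibreDimAt G.hom ((e G) (t : S))} := by
        ext t
        obtain ⟨k, hk⟩ := hnat (t : S)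
        simp only [Set.mem_ofPred_eq, Set.mem_sdiff, hk]
        constructor
        · intro h
          have : k = m := by exact_mod_cast h
          subst this
          refine ⟨le_rfl, ?_⟩
          intro h2
          have : k + 1 ≤ k := by exact_mod_cast h2
          omega
        · rintro ⟨h1, h2⟩
          have h1' : m ≤ k := by exact_mod_cast h1
          have h2' : ¬ (m + 1 ≤ k) := fun h => h2 (by exact_mod_cast h)
          have : k = m := by omega
          rw [this]
      rw [heq]
      exact (hlc m).sdiff (hlc (m + 1))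
    · have heq : {t : V | FlatMor.fibreDimAt G.hom ((e G) (t : S)) = d} = ∅ := by
        ext t
        simp only [Set.mem_ofPred_eq, Set.mem_empty_iff_false, iff_false]
        intro h
        obtain ⟨k, hk⟩ := hnat (t : S)
        exact hd ⟨k, by rw [← h, hk]⟩
      rw [heq]
      exact IsConstructible.empty

end Groth.Agent.Helper5.GrpDimSc
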