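import Groth.Prelude.Def_AlgSpGpd
import Groth.Agent.Helper5.FieldTgt

set_option autoImplicit false
universe u
open CategoryTheory CategoryTheory.Limits AlgebraicGeometry Opposite MorphismProperty
open MonoidalCategory CartesianMonoidalCategory MonObj

namespace Groth.Agent.Helper5.GrpFld

section General

variable {C : Type*} [Category C] [CartesianMonoidalCategory C]

/-- `(μ, fst) : A ⊗ A ⟶ A × A` is an isomorphism: the multiplication is a base change of `A ⟶ 1`. -/
theorem isPullback_mul_fst (A : C) [GrpObj A] :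
    IsPullback μ[A] (fst A A) (toUnit A) (toUnit A) where
  w := toUnit_unique _ _
  isLimit' := Nonempty.intro <| PullbackCone.IsLimit.mk _
    (fun s => lift s.snd (lift (s.snd ≫ ι) s.fst ≫ μ))
    (by
      intro s
      rw [← lift_lift_assoc, GrpObj.lift_comp_inv_right, lift_comp_one_left])
    (by intro s; simp)
    (by
      intro s m hm₁ hm₂
      apply CartesianMonoidalCategory.hom_ext
      · rw [lift_fst, hm₂]
      · rw [lift_snd, GrpObj.eq_lift_inv_left, ← hm₂, lift_comp_fst_snd, hm₁])

end General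

open AlgSp Groth.Agent.Helper4.SDClasses Groth.Agent.Helper5.FieldTgt

theorem s10125 (k : Type u) [Field k]
    (G : Over ((AlgSp.yon (Spec (CommRingCat.of k))).obj (Over.mk (𝟙 _)))) [GrpObj G]
    (hG : AlgSp.IsAlgSpace G.left) :
    AlgSp.LocP @Flat (μ[G]).left ∧ AlgSp.IsUnivOpenMor (μ[G]).left := by
  have sq0 := (isPullback_mul_fst G).map (Over.forget _)
  have sq : IsPullback (fst G G).left (μ[G]).left (toUnit G).left (toUnit G).left := sq0.flip
  have eU : (𝟙_ (Over ((AlgSp.yon (Spec (CommRingCat.of k))).obj (Over.mk (𝟙 _))))).left ≅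
      (AlgSp.yon (Spec (CommRingCat.of k))).obj (Over.mk (𝟙 (Spec (CommRingCat.of k)))) := Iso.refl _
  have hU : IsAlgSpace (𝟙_ (Over ((AlgSp.yon (Spec (CommRingCat.of k))).obj (Over.mk (𝟙 _))))).left :=
    (IsAlgSpace.yon_obj _).of_iso eU.symm
  refine ⟨?_, ?_⟩
  · exact Groth.Agent.Helper4.AlgSpLocPBC.locP_of_isPullback @Flat good_flat.etale_le good_flat.sd hG hU
      _ _ _ _ sq (locP_flat_to_field hG k (𝟙 _) eU _)
  · exact univOpen_of_isPullback _ _ _ _ sq (univOpen_to_field hG k (𝟙 _) eU _)

end Groth.Agent.Helper5.GrpFld
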