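import Groth.Prelude.Def_AlgSpGpd
import Groth.Agent.Helper4.AlgSpBasic

set_option autoImplicit false
universe u
open CategoryTheory CategoryTheory.Limits AlgebraicGeometry Opposite MorphismProperty
open MonoidalCategory CartesianMonoidalCategory MonObj

namespace Groth.Agent.Helper5.GrpFree

open AlgSp

variable {S : Scheme.{u}} {B : Sp S} {G X : Over B} [GrpObj G] (a : GAction G X)

theorem act_mul {T : Over B} (g g' : T ⟶ G) (x : T ⟶ X) :
    lift (lift g g' ≫ μ[G]) x ≫ a.act = lift g (lift g' x ≫ a.act) ≫ a.act := by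
  have h := lift (lift g g') x ≫= a.mul_act
  rw [lift_whiskerRight_assoc, lift_lift_associator_hom_assoc, lift_whiskerLeft_assoc] at h
  exact h

theorem act_one {T : Over B} (x : T ⟶ X) :
    lift (toUnit T ≫ η[G]) x ≫ a.act = x := by
  have h := lift (toUnit T) x ≫= a.one_act
  rw [lift_whiskerRight_assoc, lift_leftUnitor_hom] at h
  exact h

theorem eq_of_act_eq (ha : a.IsFree) {T : Over S} (β : (yon S).obj T ⟶ B)
    (g g' : Over.mk β ⟶ G) (x : Over.mk β ⟶ X) (h : lift g x ≫ a.act = lift g' x ≫ a.act) :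
    g = g' := by
  have h1 : lift (lift (g' ≫ ι[G]) g ≫ μ[G]) x ≫ a.act = x := by
    rw [act_mul, h, ← act_mul, GrpObj.lift_comp_inv_left, act_one]
  have h2 := ha β _ x h1
  rw [GrpObj.lift_inv_left_eq, lift_comp_one_right] at h2
  exact h2

theorem s10117 (ha : a.IsFree) : Mono (lift a.act (snd G X)).left := by
  apply Groth.Agent.Helper4.AlgSpBasic.mono_of_yon
  intro T p q hpq
  have hβ : q ≫ (G ⊗ X).hom = p ≫ (G ⊗ X).hom := by
    rw [← Over.w (lift a.act (snd G X)), ← Category.assoc, ← Category.assoc, hpq]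
  let p' : Over.mk (p ≫ (G ⊗ X).hom) ⟶ G ⊗ X := Over.homMk p rfl
  let q' : Over.mk (p ≫ (G ⊗ X).hom) ⟶ G ⊗ X := Over.homMk q hβ
  have hpq' : p' ≫ lift a.act (snd G X) = q' ≫ lift a.act (snd G X) := by
    apply Over.OverMorphism.ext
    exact hpq
  have hx : p' ≫ snd G X = q' ≫ snd G X := by
    have := hpq' =≫ snd X X
    simpa only [Category.assoc, lift_snd] using this
  have hact : p' ≫ a.act = q' ≫ a.act := by
    have := hpq' =≫ fst X X
    simpa only [Category.assoc, lift_fst] using this
  have hp' : p' = lift (p' ≫ fst G X) (p' ≫ snd G X) := by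
    apply CartesianMonoidalCategory.hom_ext <;> simp
  have hq' : q' = lift (q' ≫ fst G X) (p' ≫ snd G X) := by
    apply CartesianMonoidalCategory.hom_ext
    · simp
    · rw [lift_snd, hx]
  have hg : p' ≫ fst G X = q' ≫ fst G X := by
    apply eq_of_act_eq a ha _ _ _ (p' ≫ snd G X)
    rw [← hp', ← hq', hact]
  have : p' = q' := by rw [hp', hq', hg]
  exact congrArg (fun m => m.left) this

end Groth.Agent.Helper5.GrpFree
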