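import Groth.Prelude.Def_AlgSpGpd
import Groth.Agent.Helper5.UnrLoc3
import Groth.Agent.Helper5.RelDimSp2
import Groth.Agent.Helper4.AlgSpPB
import Mathlib

set_option autoImplicit false
set_option linter.style.haveILetI false
set_option linter.unusedSectionVars false
set_option linter.unusedVariables false
universe u
open CategoryTheory CategoryTheory.Limits AlgebraicGeometry Opposite
open MonoidalCategory CartesianMonoidalCategory MonObj

namespace Groth.Agent.Helper5.GrpLoc

section General

variable {C : Type*} [Category C] [CartesianMonoidalCategory C]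

theorem isPullback_fst_snd (A : C) : IsPullback (fst A A) (snd A A) (toUnit A) (toUnit A) where
  w := toUnit_unique _ _
  isLimit' := Nonempty.intro <| PullbackCone.IsLimit.mk _
    (fun s => lift s.fst s.snd)
    (by intro s; simp)
    (by intro s; simp)
    (by
      intro s m hm₁ hm₂
      apply CartesianMonoidalCategory.hom_ext
      · rw [lift_fst, hm₁]
      · rw [lift_snd, hm₂])

variable (A : C) [GrpObj A]

/-- the shear map `(g, h) ↦ (g, g h)` -/
noncomputable def shear : A ⊗ A ⟶ A ⊗ A := lift (fst A A) (fst A A * snd A A)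

noncomputable def shearInv : A ⊗ A ⟶ A ⊗ A := lift (fst A A) ((fst A A)⁻¹ * snd A A)

theorem shear_shearInv : shear A ≫ shearInv A = 𝟙 _ := by
  apply CartesianMonoidalCategory.hom_ext
  · simp [shear, shearInv]
  · simp only [shear, shearInv, Category.assoc, lift_snd, Category.id_comp]
    rw [MonObj.comp_mul, GrpObj.comp_inv, lift_fst, lift_snd]
    simp

theorem shearInv_shear : shearInv A ≫ shear A = 𝟙 _ := by
  apply CartesianMonoidalCategory.hom_ext
  · simp [shear, shearInv]
  · simp only [shear, shearInv, Category.assoc, lift_snd, Category.id_comp]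
    rw [MonObj.comp_mul, lift_fst, lift_snd]
    simp

theorem shear_fst : shear A ≫ fst A A = fst A A := by simp [shear]

theorem shearInv_fst : shearInv A ≫ fst A A = fst A A := by simp [shearInv]

/-- the section `g ↦ (g, e)` -/
noncomputable def unitSec : A ⟶ A ⊗ A := lift (𝟙 A) (toUnit A ≫ η[A])

theorem unitSec_snd : unitSec A ≫ snd A A = toUnit A ≫ η[A] := by simp [unitSec]

theorem unitSec_shear_snd : unitSec A ≫ shear A ≫ snd A A = 𝟙 A := by
  simp only [unitSec, shear, lift_snd]
  rw [MonObj.comp_mul, lift_fst, lift_snd, ← Hom.one_def, _root_.mul_one]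

end General

open AlgSp Groth.Agent.Helper4 Groth.Agent.Helper5.PtLoc

variable {S : Scheme.{u}}

/-- invariance of `HasAtMor` under an automorphism of the source over the target -/
theorem hasAtMor_map_of_iso (Q : ∀ (U V : Scheme.{u}), (U ⟶ V) → ↥U → Prop) {X Y : Sp S} (f : X ⟶ Y)
    (τ : X ⟶ X) [IsIso τ] (hτ : τ ≫ f = f) (x : Points X) (h : HasAtMor Q f x) :
    HasAtMor Q f (Points.map τ x) := by
  obtain ⟨U, V, a, b, s, u, ha, hb, comm, hu, hG⟩ := h
  refine ⟨U, V, a ≫ τ, b, s, u, ?_, hb, ?_, ?_, hG⟩
  · exact MorphismProperty.RespectsIso.postcomp _ τ a ha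
  · rw [Category.assoc, hτ, comm]
  · rw [← Points.map_ofPt, hu]

set_option backward.isDefEq.respectTransparency.types false in
/-- homogeneity: a base-change-compatible pointwise property of a group space over `B` holds at a
point if and only if it holds at the corresponding point of the unit section -/
theorem hasAtMor_iff_unit (Q : ∀ (U V : Scheme.{u}), (U ⟶ V) → ↥U → Prop) {B : Sp S}
    (hB : IsAlgSpace B) (G : Over B) [GrpObj G] (hG : IsAlgSpace G.left)
    (hbc : ∀ (P : Sp S) (p₁ p₂ : P ⟶ G.left), IsPullback p₂ p₁ G.hom G.hom →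
      ∀ x : Points P, HasAtMor Q p₁ x ↔ HasAtMor Q G.hom (Points.map p₂ x))
    (g : Points G.left) :
    HasAtMor Q G.hom g ↔ HasAtMor Q G.hom (Points.map (η[G]).left (Points.map G.hom g)) := by
  have sq0 := (isPullback_fst_snd G).map (Over.forget _)
  have sq : IsPullback (snd G G).left (fst G G).left G.hom G.hom := sq0.flip
  have H := hbc _ _ _ sq
  haveI i1 : IsIso (shear G) := ⟨shearInv G, shear_shearInv G, shearInv_shear G⟩
  haveI i2 : IsIso (shear G).left := (Over.forget B).map_isIso (shear G)
  haveI i3 : IsIso (shearInv G) := ⟨shear G, shearInv_shear G, shear_shearInv G⟩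
  haveI i4 : IsIso (shearInv G).left := (Over.forget B).map_isIso (shearInv G)
  have e1 : (shear G).left ≫ (fst G G).left = (fst G G).left := by
    rw [← Over.comp_left, shear_fst]
  have e2 : (shearInv G).left ≫ (fst G G).left = (fst G G).left := by
    rw [← Over.comp_left, shearInv_fst]
  have e3 : (unitSec G).left ≫ (snd G G).left = G.hom ≫ (η[G]).left := by
    rw [← Over.comp_left, unitSec_snd, Over.comp_left]
    rfl
  have e4 : (unitSec G).left ≫ (shear G).left ≫ (snd G G).left = 𝟙 _ := by
    rw [← Over.comp_left, ← Over.comp_left, unitSec_shear_snd]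
    rfl
  have e5 : (shear G).left ≫ (shearInv G).left = 𝟙 _ := by
    rw [← Over.comp_left, shear_shearInv]; rfl
  obtain ⟨x₁, hx₁⟩ : ∃ x₁, x₁ = Points.map (unitSec G).left g := ⟨_, rfl⟩
  obtain ⟨x₂, hx₂⟩ : ∃ x₂, x₂ = Points.map (shear G).left x₁ := ⟨_, rfl⟩
  have h1 : Points.map (snd G G).left x₁ = Points.map (η[G]).left (Points.map G.hom g) := by
    rw [hx₁, ← Points.map_comp, e3, Points.map_comp]
  have h2 : Points.map (snd G G).left x₂ = g := by
    rw [hx₂, hx₁, ← Points.map_comp, ← Points.map_comp, e4, Points.map_id]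
  have h3 : Points.map (shearInv G).left x₂ = x₁ := by
    rw [hx₂, ← Points.map_comp, e5, Points.map_id]
  rw [← h1, ← H x₁]
  conv_lhs => rw [← h2, ← H x₂]
  constructor
  · intro h
    rw [← h3]
    exact hasAtMor_map_of_iso Q _ _ e2 _ h
  · intro h
    rw [hx₂]
    exact hasAtMor_map_of_iso Q _ _ e1 _ h

end Groth.Agent.Helper5.GrpLoc
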