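import Groth.Agent.Helper5.GrpLoc2
import Groth.Agent.Helper4.AlgSpPtsDesc
import Mathlib

set_option autoImplicit false
set_option linter.style.haveILetI false
set_option linter.unusedSectionVars false
set_option linter.unusedVariables false
universe u
open CategoryTheory CategoryTheory.Limits AlgebraicGeometry Opposite
open MonoidalCategory CartesianMonoidalCategory MonObj

namespace Groth.Agent.Helper5.GrpLoc

open AlgSp Groth.Agent.Helper4 Groth.Agent.Helper5.PtLoc Groth.Agent.Helper5.RelDimSp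
  Groth.Agent.Helper5.UnrLoc

variable {S : Scheme.{u}}

/-- a pointwise property with good base change, on a group space locally of finite type -/
structure GoodLocus (Q : ∀ (U V : Scheme.{u}), (U ⟶ V) → ↥U → Prop)
    (Pm : MorphismProperty (Sp S)) : Prop where
  bc : ∀ {X Y X' Y' : AlgSp.Space S} (f : X ⟶ Y), LocP @LocallyOfFiniteType f.hom →
    ∀ (g : Y' ⟶ Y) (g' : X' ⟶ X) (f' : X' ⟶ Y'), IsPullback g'.hom f'.hom f.hom g.hom →
    ∀ x' : Points X'.obj, HasAtMor Q f'.hom x' ↔ HasAtMor Q f.hom (Points.map g'.hom x')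
  isOpen : ∀ {X Y : AlgSp.Space S} (f : X ⟶ Y), LocP @LocallyOfFiniteType f.hom →
    IsOpen {x : Points X.obj | HasAtMor Q f.hom x}
  all : ∀ {X Y : AlgSp.Space S} (f : X ⟶ Y), LocP @LocallyOfFiniteType f.hom →
    (Pm f.hom ↔ ∀ x : Points X.obj, HasAtMor Q f.hom x)

theorem goodLocus_unram :
    GoodLocus (S := S) QnU (LocP (@LocallyOfFiniteType ⊓ @FormallyUnramified)) :=
  ⟨fun f hf g g' f' sq x' => unram_bc f hf g g' f' sq x', fun f hf => unram_open f hf,
    fun f hf => unram_all f hf⟩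

theorem goodLocus_lqf :
    GoodLocus (S := S) QnQ (LocP (@LocallyQuasiFinite ⊓ @LocallyOfFiniteType)) :=
  ⟨fun f hf g g' f' sq x' => lqf_bc f hf g g' f' sq x', fun f hf => lqf_open f hf,
    fun f hf => lqf_all f hf⟩

section

variable {Q : ∀ (U V : Scheme.{u}), (U ⟶ V) → ↥U → Prop} {Pm : MorphismProperty (Sp S)}
  (hQ : GoodLocus (S := S) Q Pm) {B : Sp S} (hB : IsAlgSpace B) (G : Over B) [GrpObj G]
  (hG : IsAlgSpace G.left) (hlft : LocP @LocallyOfFiniteType G.hom)

include hQ hB hG hlft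

set_option backward.isDefEq.respectTransparency.types false in
theorem mem_iff_unit (g : Points G.left) :
    HasAtMor Q G.hom g ↔ HasAtMor Q G.hom (Points.map (η[G]).left (Points.map G.hom g)) := by
  refine hasAtMor_iff_unit Q hB G hG ?_ g
  intro P p₁ p₂ sq x
  have hP : IsAlgSpace P :=
    Groth.Agent.Helper4.AlgSpPB.isAlgSpace_of_isPullback hB.diag hG hG _ _ _ _ sq
  exact hQ.bc (X := ⟨G.left, hG⟩) (Y := ⟨B, hB⟩) (X' := ⟨P, hP⟩) (Y' := ⟨G.left, hG⟩)
    (ObjectProperty.homMk G.hom) hlft (ObjectProperty.homMk G.hom) (ObjectProperty.homMk p₂)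
    (ObjectProperty.homMk p₁) sq x

theorem unit_comp : (η[G]).left ≫ G.hom = 𝟙 B := Over.w η[G]

set_option backward.isDefEq.respectTransparency.types false in
/-- the property holds for `G ⟶ B` iff it holds at the points of the unit section -/
theorem pm_iff_unit :
    Pm G.hom ↔ ∀ b : Points B, HasAtMor Q G.hom (Points.map (η[G]).left b) := by
  have h1 := hQ.all (X := ⟨G.left, hG⟩) (Y := ⟨B, hB⟩) (ObjectProperty.homMk G.hom) hlft
  rw [show Pm G.hom ↔ _ from h1]
  constructor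
  · intro H b
    exact H _
  · intro H g
    exact (mem_iff_unit hQ hB G hG hlft g).2 (H _)

set_option backward.isDefEq.respectTransparency.types false in
/-- base changes of `G ⟶ B` with the property are those landing in the open set of points of `B`
where the unit section lies in the locus -/
theorem pm_baseChange_iff {T P : Sp S} (hT : IsAlgSpace T) (t : T ⟶ B) (p₁ : P ⟶ G.left)
    (p₂ : P ⟶ T) (sq : IsPullback p₁ p₂ G.hom t) :
    Pm p₂ ↔ Set.range (Points.map t) ⊆
      {b : Points B | HasAtMor Q G.hom (Points.map (η[G]).left b)} := by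
  have hP : IsAlgSpace P :=
    Groth.Agent.Helper4.AlgSpPB.isAlgSpace_of_isPullback hB.diag hG hT _ _ _ _ sq
  let GS : AlgSp.Space S := ⟨G.left, hG⟩
  let BS : AlgSp.Space S := ⟨B, hB⟩
  let PS : AlgSp.Space S := ⟨P, hP⟩
  let TS : AlgSp.Space S := ⟨T, hT⟩
  let π : GS ⟶ BS := ObjectProperty.homMk G.hom
  let t' : TS ⟶ BS := ObjectProperty.homMk t
  let q₁ : PS ⟶ GS := ObjectProperty.homMk p₁
  let q₂ : PS ⟶ TS := ObjectProperty.homMk p₂
  have sq' : IsPullback q₁.hom q₂.hom π.hom t'.hom := sq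
  have hlft' : LocP @LocallyOfFiniteType q₂.hom := locP_lft_of_isPullback π t' q₁ q₂ sq' hlft
  rw [show Pm p₂ ↔ _ from hQ.all q₂ hlft']
  constructor
  · rintro H _ ⟨τ, rfl⟩
    have hπe : Points.map G.hom (Points.map (η[G]).left (Points.map t τ)) = Points.map t τ := by
      rw [← Points.map_comp, unit_comp hQ hB G hG hlft]
      exact Points.map_id _
    obtain ⟨x', hx1, hx2⟩ :=
      Groth.Agent.Helper4.AlgSpPtsDesc.exists_point_of_isPullback sq _ τ hπe
    have := (hQ.bc π hlft t' q₁ q₂ sq' x').1 (H x')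
    rw [show Points.map q₁.hom x' = _ from hx1] at this
    exact this
  · intro H x'
    rw [hQ.bc π hlft t' q₁ q₂ sq' x']
    rw [show HasAtMor Q π.hom (Points.map q₁.hom x') ↔ _ from
      mem_iff_unit hQ hB G hG hlft (Points.map p₁ x')]
    have e : Points.map G.hom (Points.map p₁ x') = Points.map t (Points.map p₂ x') := by
      rw [← Points.map_comp, ← Points.map_comp, sq.w]
    rw [e]
    exact H ⟨_, rfl⟩

set_option backward.isDefEq.respectTransparency.types false in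
theorem largest_open :
    ∃ (W : AlgSp.Sp S) (w : W ⟶ B), AlgSp.RepWith @IsOpenImmersion w ∧
      (∀ (W' : AlgSp.Sp S) (w' : W' ⟶ B), AlgSp.RepWith @IsOpenImmersion w' →
        (Pm (pullback.snd G.hom w') ↔ ∃ k : W' ⟶ W, k ≫ w = w')) ∧
      (∀ (B' : AlgSp.Sp S), AlgSp.IsAlgSpace B' → ∀ (f : B' ⟶ B) (W'' : AlgSp.Sp S) (w'' : W'' ⟶ B'),
        AlgSp.RepWith @IsOpenImmersion w'' →
        (Pm (pullback.snd (pullback.snd G.hom f) w'') ↔
          ∃ k : W'' ⟶ pullback w f, k ≫ pullback.snd w f = w'')) := by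
  have hL := hQ.isOpen (X := ⟨G.left, hG⟩) (Y := ⟨B, hB⟩) (ObjectProperty.homMk G.hom) hlft
  have hO : IsOpen {b : Points B | HasAtMor Q G.hom (Points.map (η[G]).left b)} :=
    hL.preimage (Points.continuous_map (η[G]).left)
  obtain ⟨W, w, hW, hw, hrange⟩ := Groth.Agent.Helper5.AlgSpOpen.exists_open_subspace hB _ hO
  refine ⟨W, w, hw, ?_, ?_⟩
  · intro W' w' hw'
    have hW' : IsAlgSpace W' := isAlgSpace_of_openImmersion w' hw' hB
    rw [pm_baseChange_iff hQ hB G hG hlft hW' w' _ _ (IsPullback.of_hasPullback G.hom w'), ← hrange]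
    constructor
    · intro h
      exact Groth.Agent.Helper5.AlgSpIso.exists_factor_open w hw w' h
    · rintro ⟨k, hk⟩
      exact Groth.Agent.Helper5.AlgSpIso.range_subset_of_factor w w' k hk
  · intro B' hB' f W'' w'' hw''
    have hW'' : IsAlgSpace W'' := isAlgSpace_of_openImmersion w'' hw'' hB'
    have sq1 : IsPullback (pullback.fst (pullback.snd G.hom f) w'')
        (pullback.snd (pullback.snd G.hom f) w'') (pullback.snd G.hom f) w'' :=
      IsPullback.of_hasPullback _ _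
    have sq2 : IsPullback (pullback.fst G.hom f) (pullback.snd G.hom f) G.hom f :=
      IsPullback.of_hasPullback _ _
    rw [pm_baseChange_iff hQ hB G hG hlft hW'' (w'' ≫ f) _ _ (sq1.paste_horiz sq2), ← hrange]
    constructor
    · intro h
      obtain ⟨k₀, hk₀⟩ := Groth.Agent.Helper5.AlgSpIso.exists_factor_open w hw (w'' ≫ f) h
      exact ⟨pullback.lift k₀ w'' hk₀, pullback.lift_snd _ _ _⟩
    · rintro ⟨k, hk⟩
      refine Groth.Agent.Helper5.AlgSpIso.range_subset_of_factor w (w'' ≫ f)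
        (k ≫ pullback.fst w f) ?_
      rw [Category.assoc, pullback.condition, ← Category.assoc, hk]

end

theorem s12199 (S : Scheme.{u}) (B : AlgSp.Sp S) (hB : AlgSp.IsAlgSpace B)
    (G : Over B) [GrpObj G] (hG : AlgSp.IsAlgSpace G.left) (hlft : AlgSp.LocP @LocallyOfFiniteType G.hom) :
    (AlgSp.LocP (@LocallyOfFiniteType ⊓ @FormallyUnramified) G.hom ↔
        ∀ b : AlgSp.Points B, AlgSp.HasAtMor
          (fun U _ h u => ∃ W : U.Opens, u ∈ W ∧ LocallyOfFiniteType (W.ι ≫ h) ∧ FormallyUnramified (W.ι ≫ h))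
          G.hom (AlgSp.Points.map (η[G]).left b)) ∧
    (AlgSp.LocP (@LocallyQuasiFinite ⊓ @LocallyOfFiniteType) G.hom ↔
        ∀ b : AlgSp.Points B, AlgSp.HasAtMor
          (fun U _ h u => ∃ W : U.Opens, u ∈ W ∧ LocallyQuasiFinite (W.ι ≫ h) ∧ LocallyOfFiniteType (W.ι ≫ h))
          G.hom (AlgSp.Points.map (η[G]).left b)) :=
  ⟨pm_iff_unit goodLocus_unram hB G hG hlft, pm_iff_unit goodLocus_lqf hB G hG hlft⟩

theorem s10143 (S : Scheme.{u}) (B : AlgSp.Sp S) (hB : AlgSp.IsAlgSpace B)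
    (G : Over B) [GrpObj G] (hG : AlgSp.IsAlgSpace G.left) (hlft : AlgSp.LocP @LocallyOfFiniteType G.hom) :
    ∃ (W : AlgSp.Sp S) (w : W ⟶ B), AlgSp.RepWith @IsOpenImmersion w ∧
      (∀ (W' : AlgSp.Sp S) (w' : W' ⟶ B), AlgSp.RepWith @IsOpenImmersion w' →
        (AlgSp.LocP (@LocallyOfFiniteType ⊓ @FormallyUnramified) (pullback.snd G.hom w') ↔ ∃ k : W' ⟶ W, k ≫ w = w')) ∧
      (∀ (B' : AlgSp.Sp S), AlgSp.IsAlgSpace B' → ∀ (f : B' ⟶ B) (W'' : AlgSp.Sp S) (w'' : W'' ⟶ B'),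
        AlgSp.RepWith @IsOpenImmersion w'' →
        (AlgSp.LocP (@LocallyOfFiniteType ⊓ @FormallyUnramified) (pullback.snd (pullback.snd G.hom f) w'') ↔
          ∃ k : W'' ⟶ pullback w f, k ≫ pullback.snd w f = w'')) :=
  largest_open goodLocus_unram hB G hG hlft

theorem s10144 (S : Scheme.{u}) (B : AlgSp.Sp S) (hB : AlgSp.IsAlgSpace B)
    (G : Over B) [GrpObj G] (hG : AlgSp.IsAlgSpace G.left) (hlft : AlgSp.LocP @LocallyOfFiniteType G.hom) :
    ∃ (W : AlgSp.Sp S) (w : W ⟶ B), AlgSp.RepWith @IsOpenImmersion w ∧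
      (∀ (W' : AlgSp.Sp S) (w' : W' ⟶ B), AlgSp.RepWith @IsOpenImmersion w' →
        (AlgSp.LocP (@LocallyQuasiFinite ⊓ @LocallyOfFiniteType) (pullback.snd G.hom w') ↔ ∃ k : W' ⟶ W, k ≫ w = w')) ∧
      (∀ (B' : AlgSp.Sp S), AlgSp.IsAlgSpace B' → ∀ (f : B' ⟶ B) (W'' : AlgSp.Sp S) (w'' : W'' ⟶ B'),
        AlgSp.RepWith @IsOpenImmersion w'' →
        (AlgSp.LocP (@LocallyQuasiFinite ⊓ @LocallyOfFiniteType) (pullback.snd (pullback.snd G.hom f) w'') ↔
          ∃ k : W'' ⟶ pullback w f, k ≫ pullback.snd w f = w'')) :=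
  largest_open goodLocus_lqf hB G hG hlft

end Groth.Agent.Helper5.GrpLoc
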