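import Groth.Prelude.Def_AlgSpGpd
import Groth.Agent.Helper4.AlgSpQC
import Groth.Agent.Helper4.AlgSpDesc2

set_option autoImplicit false
universe u
open CategoryTheory CategoryTheory.Limits AlgebraicGeometry Opposite MorphismProperty
open MonoidalCategory CartesianMonoidalCategory MonObj

namespace Groth.Agent.Helper5.GrpSep

section General

variable {C : Type*} [Category C] [CartesianMonoidalCategory C]

/-- The unit section is the base change of the diagonal along `g ↦ (g, e)`. -/
theorem isPullback_unit_diag (A : C) [GrpObj A] :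
    IsPullback η[A] η[A] (lift (𝟙 A) (toUnit A ≫ η[A])) (lift (𝟙 A) (𝟙 A)) where
  w := by
    apply CartesianMonoidalCategory.hom_ext
    · simp
    · simp only [Category.assoc, lift_snd, Category.comp_id]
      rw [← Category.assoc, toUnit_unique (η[A] ≫ toUnit A) (𝟙 _), Category.id_comp]
  isLimit' := Nonempty.intro <| PullbackCone.IsLimit.mk _
    (fun s => toUnit _)
    (by
      intro s
      have h1 := s.condition =≫ fst A A
      have h2 := s.condition =≫ snd A A
      simp only [Category.assoc, lift_fst, lift_snd, Category.comp_id] at h1 h2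
      rw [h1, ← h2, ← Category.assoc, toUnit_unique (s.fst ≫ toUnit A) (toUnit _)])
    (by
      intro s
      have h2 := s.condition =≫ snd A A
      simp only [Category.assoc, lift_snd, Category.comp_id] at h2
      rw [← h2, ← Category.assoc, toUnit_unique (s.fst ≫ toUnit A) (toUnit _)])
    (by
      intro s m _ _
      exact toUnit_unique _ _)

/-- The diagonal is the base change of the unit section along `(g, h) ↦ g h⁻¹`. -/
theorem isPullback_diag_unit (A : C) [GrpObj A] :
    IsPullback (lift (𝟙 A) (𝟙 A)) (toUnit A) (lift (fst A A) (snd A A ≫ ι[A]) ≫ μ[A]) η[A] where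
  w := by
    rw [comp_lift_assoc, lift_fst, ← Category.assoc, lift_snd, Category.id_comp]
    have := GrpObj.lift_comp_inv_right (𝟙 A)
    rwa [Category.id_comp] at this
  isLimit' := Nonempty.intro <| PullbackCone.IsLimit.mk _
    (fun s => s.fst ≫ fst A A)
    (by
      intro s
      have h := s.condition
      rw [comp_lift_assoc, ← Category.assoc, GrpObj.lift_inv_right_eq] at h
      rw [comp_lift, Category.comp_id]
      apply CartesianMonoidalCategory.hom_ext
      · rw [lift_fst]
      · rw [lift_snd, h, lift_comp_one_left])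
    (by intro s; exact toUnit_unique _ _)
    (by
      intro s m hm₁ _
      rw [← hm₁, Category.assoc, lift_fst, Category.comp_id])

end General

open AlgSp

variable {S : Scheme.{u}}

theorem isQuasiCompactMor_of_isPullback {X Y Y' X' : Sp S} (f : X ⟶ Y) (g : Y' ⟶ Y)
    (fst : X' ⟶ X) (f' : X' ⟶ Y') (sq : IsPullback fst f' f g) (hf : IsQuasiCompactMor f) :
    IsQuasiCompactMor f' := by
  intro Z Z' hZ hqc g' fst' snd' sq'
  exact hf hZ hqc (g' ≫ g) (fst' ≫ fst) snd' (sq'.paste_horiz sq)

theorem s10116 (B : Sp S) (G : Over B) [GrpObj G] (hG : IsAlgSpace G.left) :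
    (IsSeparatedMor G.hom ↔ RepWith @IsClosedImmersion (η[G]).left) ∧
      (IsQuasiSeparatedMor G.hom ↔ IsQuasiCompactMor (η[G]).left) ∧
      (IsLocallySeparatedMor G.hom → RepWith @IsImmersion (η[G]).left) := by
  have sqA0 := (isPullback_unit_diag G).map (Over.forget _)
  have sqB0 := (isPullback_diag_unit G).map (Over.forget _)
  have sqA : IsPullback (η[G]).left (η[G]).left (pullback.diagonal G.hom)
      (lift (𝟙 G) (toUnit G ≫ η[G])).left := sqA0.flip
  have sqB : IsPullback G.hom (pullback.diagonal G.hom) (η[G]).left
      (lift (fst G G) (snd G G ≫ ι[G]) ≫ μ[G]).left := sqB0.flip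
  have hrepD : Representable (pullback.diagonal G.hom) :=
    Groth.Agent.Helper4.AlgSpDesc2.representable_diagonal hG.diag G.hom
  have i1 := repWith_isStableUnderBaseChange (S := S) @IsClosedImmersion
  have i2 := repWith_isStableUnderBaseChange (S := S) @IsImmersion
  have i3 := repWith_isStableUnderBaseChange (S := S) @QuasiCompact
  refine ⟨⟨fun h => ?_, fun h => ?_⟩, ⟨fun h => ?_, fun h => ?_⟩, fun h => ?_⟩
  · exact MorphismProperty.of_isPullback (P := RepWith @IsClosedImmersion) sqA h
  · exact MorphismProperty.of_isPullback (P := RepWith @IsClosedImmersion) sqB h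
  · exact Groth.Agent.Helper4.AlgSpQC.isQuasiCompactMor_of_repWith _
      (MorphismProperty.of_isPullback (P := RepWith @QuasiCompact) sqA h)
  · exact Groth.Agent.Helper4.AlgSpQC.repWith_of_isQuasiCompactMor _ hrepD
      (isQuasiCompactMor_of_isPullback _ _ _ _ sqB h)
  · exact MorphismProperty.of_isPullback (P := RepWith @IsImmersion) sqA h

end Groth.Agent.Helper5.GrpSep
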