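import Groth.Prelude.Def_AlgSpGpd
import Groth.Agent.Helper5.GrpFld
import Groth.Agent.Helper5.DecJac6
import Groth.Agent.Helper5.SpCoprod1
import Mathlib

/-!
# S10127: decent group algebraic spaces over a field are separated
-/

set_option autoImplicit false
universe u
open CategoryTheory CategoryTheory.Limits AlgebraicGeometry Opposite MorphismProperty
open MonoidalCategory CartesianMonoidalCategory MonObj

namespace Groth.Agent.Helper5.GrpSep

section General

variable {C : Type*} [Category C] [CartesianMonoidalCategory C]

/-- the diagonal of a group object is the base change of the unit along `(g, h) ↦ g⁻¹ h` -/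
theorem isPullback_diag_unit (A : C) [GrpObj A] :
    IsPullback (lift (𝟙 A) (𝟙 A)) (toUnit A) (lift (fst A A ≫ ι) (snd A A) ≫ μ) η[A] where
  w := by
    rw [comp_lift_assoc, lift_fst_assoc, lift_snd]
    exact GrpObj.lift_comp_inv_left (𝟙 A)
  isLimit' := Nonempty.intro <| PullbackCone.IsLimit.mk _
    (fun s => s.fst ≫ fst A A)
    (by
      intro s
      have hc := s.condition
      rw [comp_lift_assoc, ← Category.assoc, toUnit_unique (s.snd) (toUnit _),
        GrpObj.lift_inv_left_eq, lift_comp_one_right] at hc
      apply CartesianMonoidalCategory.hom_ext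
      · rw [Category.assoc, lift_fst, Category.comp_id]
      · rw [Category.assoc, lift_snd, Category.comp_id, hc])
    (by intro s; exact toUnit_unique _ _)
    (by
      intro s m hm₁ _
      rw [← hm₁, Category.assoc, lift_fst, Category.comp_id])

end General

end Groth.Agent.Helper5.GrpSep

namespace Groth.Agent.Helper5.GrpSep

open AlgSp

/-- the structure map of the spectrum of the residue field of the point of the spectrum of a
field is an isomorphism -/
theorem isIso_fromSpecResidueField_field (k : Type u) [Field k]
    (s : ↥(Spec (CommRingCat.of k))) :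
    IsIso ((Spec (CommRingCat.of k)).fromSpecResidueField s) := by
  have hs : IsClosed ({s} : Set ↥(Spec (CommRingCat.of k))) := by
    have : ({s} : Set ↥(Spec (CommRingCat.of k))) = Set.univ := by
      ext z
      simp only [Set.mem_singleton_iff, Set.mem_univ, iff_true]
      exact (inferInstance : Subsingleton (PrimeSpectrum k)).elim _ _
    rw [this]
    exact isClosed_univ
  haveI : IsClosedImmersion ((Spec (CommRingCat.of k)).fromSpecResidueField s) :=
    isClosed_singleton_iff_isClosedImmersion.1 hs
  haveI : Surjective ((Spec (CommRingCat.of k)).fromSpecResidueField s) :=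
    ⟨fun z => ⟨(IsLocalRing.closedPoint _ : PrimeSpectrum _),
      (inferInstance : Subsingleton (PrimeSpectrum k)).elim _ _⟩⟩
  exact isIso_of_isClosedImmersion_of_surjective _

/-- a morphism from the terminal sheaf over a field to a decent space is a closed immersion -/
theorem repWith_closedImmersion_of_field (k : Type u) [Field k]
    (X : Space (Spec (CommRingCat.of k))) (hd : IsDecent X.obj)
    (e : (yon (Spec (CommRingCat.of k))).obj (Over.mk (𝟙 _)) ⟶ X.obj) :
    RepWith @IsClosedImmersion e := by
  let S₀ : Scheme.{u} := Spec (CommRingCat.of k)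
  let s : ↥S₀ := (IsLocalRing.closedPoint k : PrimeSpectrum k)
  have hs : IsClosed ({s} : Set ↥S₀) := by
    have : ({s} : Set ↥S₀) = Set.univ := by
      ext z
      simp only [Set.mem_singleton_iff, Set.mem_univ, iff_true]
      exact (inferInstance : Subsingleton (PrimeSpectrum k)).elim _ _
    rw [this]
    exact isClosed_univ
  let φ : S₀.residueField s ⟶ CommRingCat.of ↥(S₀.residueField s) := 𝟙 _
  haveI : IsIso (S₀.fromSpecResidueField s) := isIso_fromSpecResidueField_field k s
  haveI : IsIso (Spec.map φ ≫ S₀.fromSpecResidueField s) := by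
    haveI : IsIso (Spec.map φ) := by
      show IsIso (Spec.map (𝟙 _))
      rw [Spec.map_id]
      infer_instance
    infer_instance
  let T' : Over S₀ := Over.mk (Spec.map φ ≫ S₀.fromSpecResidueField s)
  let eT : T' ≅ Over.mk (𝟙 S₀) :=
    Over.isoMk (asIso (Spec.map φ ≫ S₀.fromSpecResidueField s)) (by simp [T'])
  let p : (yon S₀).obj T' ⟶ X.obj := (yon S₀).map eT.hom ≫ e
  have hfin : φ.hom.Finite := RingHom.Finite.id _
  have hbij : Function.Bijective φ.hom := Function.bijective_id
  have hp : RepWith @IsClosedImmersion p :=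
    (Groth.Agent.Helper5.DecJac.s10358 X hd s hs _ φ hfin p).2 hbij
  have he : e = (yon S₀).map eT.inv ≫ p := by
    show e = (yon S₀).map eT.inv ≫ (yon S₀).map eT.hom ≫ e
    rw [← Category.assoc, ← CategoryTheory.Functor.map_comp, Iso.inv_hom_id,
      CategoryTheory.Functor.map_id, Category.id_comp]
  rw [he]
  exact ((RepWith (S := S₀) @IsClosedImmersion).cancel_left_of_respectsIso _ _).2 hp

/-- S10127 -/
theorem s10127 (k : Type u) [Field k]
    (G : Over ((AlgSp.yon (Spec (CommRingCat.of k))).obj (Over.mk (𝟙 _)))) [GrpObj G]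
    (hG : AlgSp.IsAlgSpace G.left) (hd : AlgSp.IsDecent G.left) : AlgSp.IsSeparatedSp G.left := by
  have hη : RepWith @IsClosedImmersion (η[G]).left :=
    repWith_closedImmersion_of_field k ⟨G.left, hG⟩ hd (η[G]).left
  have sq0 := (isPullback_diag_unit G).map (Over.forget _)
  have sq : IsPullback (lift (𝟙 G) (𝟙 G)).left (toUnit G).left
      (lift (fst G G ≫ ι) (snd G G) ≫ μ).left (η[G]).left := sq0
  have i3 := repWith_isStableUnderBaseChange (S := Spec (CommRingCat.of k)) @IsClosedImmersion
  have hΔ : RepWith @IsClosedImmersion (lift (𝟙 G) (𝟙 G)).left :=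
    MorphismProperty.of_isPullback sq.flip hη
  -- comparison with the product
  let c : (G ⊗ G).left ⟶ G.left ⨯ G.left := prod.lift (fst G G).left (snd G G).left
  have hterm := Groth.Agent.Helper5.SpCoprod.isTerminalYon (S := Spec (CommRingCat.of k))
  have hpb : IsPullback (fst G G).left (snd G G).left G.hom G.hom :=
    IsPullback.of_hasPullback G.hom G.hom
  let d : G.left ⨯ G.left ⟶ (G ⊗ G).left :=
    hpb.lift prod.fst prod.snd (hterm.hom_ext _ _)
  haveI : IsIso c := by
    refine ⟨d, ?_, ?_⟩
    · apply hpb.hom_ext
      · rw [Category.assoc, hpb.lift_fst, prod.lift_fst, Category.id_comp]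
      · rw [Category.assoc, hpb.lift_snd, prod.lift_snd, Category.id_comp]
    · apply Limits.prod.hom_ext
      · rw [Category.assoc, prod.lift_fst, hpb.lift_fst, Category.id_comp]
      · rw [Category.assoc, prod.lift_snd, hpb.lift_snd, Category.id_comp]
  have hdiag : Limits.diag G.left = (lift (𝟙 G) (𝟙 G)).left ≫ c := by
    apply Limits.prod.hom_ext
    · rw [Category.assoc]
      show prod.lift (𝟙 G.left) (𝟙 G.left) ≫ prod.fst =
        (lift (𝟙 G) (𝟙 G)).left ≫ prod.lift (fst G G).left (snd G G).left ≫ prod.fst
      rw [prod.lift_fst]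
      rw [prod.lift_fst, ← Over.comp_left, lift_fst]
      simp [Limits.diag]
    · rw [Category.assoc]
      show prod.lift (𝟙 G.left) (𝟙 G.left) ≫ prod.snd =
        (lift (𝟙 G) (𝟙 G)).left ≫ prod.lift (fst G G).left (snd G G).left ≫ prod.snd
      rw [prod.lift_snd]
      rw [prod.lift_snd, ← Over.comp_left, lift_snd]
      simp [Limits.diag]
  show RepWith @IsClosedImmersion (Limits.diag G.left)
  rw [hdiag]
  exact ((RepWith (S := Spec (CommRingCat.of k)) @IsClosedImmersion).cancel_right_of_respectsIso
    _ _).2 hΔ

end Groth.Agent.Helper5.GrpSep
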