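import Mathlib

/-!
# Helper5: a global function on a quasi-compact scheme is integral as soon as the graph of its
inverse has closed image in the affine line
-/

set_option autoImplicit false
universe u
open CategoryTheory AlgebraicGeometry Opposite Polynomial

namespace Groth.Agent.Helper5.GsInt

/-- the prime of `R[t]` cut out by `t ↦ c` in a field -/
noncomputable def evalPrime {R : Type u} [CommRing R] {κ : Type u} [Field κ] (ψ : R →+* κ) (c : κ) :
    PrimeSpectrum R[X] :=
  ⟨RingHom.ker (eval₂RingHom ψ c), RingHom.ker_isPrime _⟩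

theorem mem_evalPrime_iff {R : Type u} [CommRing R] {κ : Type u} [Field κ] (ψ : R →+* κ) (c : κ)
    (a : R[X]) : a ∈ (evalPrime ψ c).asIdeal ↔ eval₂ ψ c a = 0 := by
  change a ∈ RingHom.ker (eval₂RingHom ψ c) ↔ _
  rw [RingHom.mem_ker]
  rfl

theorem exists_monic_of_closed {U : Scheme.{u}} [CompactSpace U] {R : Type u} [CommRing R]
    (φ : R →+* Γ(U, ⊤)) (s : Γ(U, ⊤)) (Z : Set (PrimeSpectrum R[X])) (hZ : IsClosed Z)
    (hZt : ∀ z ∈ Z, (X : R[X]) ∉ z.asIdeal)
    (hmem : ∀ x : U, (U.Γevaluation x).hom s ≠ 0 →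
      evalPrime ((U.Γevaluation x).hom.comp φ) ((U.Γevaluation x).hom s)⁻¹ ∈ Z) :
    ∃ p : R[X], p.Monic ∧ eval₂ φ s p = 0 := by
  classical
  rcases subsingleton_or_nontrivial R with hR | hR
  · exact ⟨1, monic_one, by
      rw [eval₂_one]
      have : (1 : R) = 0 := Subsingleton.elim _ _
      have h2 : φ 1 = φ 0 := by rw [this]
      rw [map_one, map_zero] at h2
      exact h2⟩
  -- the ideal of `Z`
  obtain ⟨I, hI⟩ : ∃ I : Ideal R[X], Z = PrimeSpectrum.zeroLocus (I : Set R[X]) := by
    refine ⟨PrimeSpectrum.vanishingIdeal Z, ?_⟩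
    rw [PrimeSpectrum.zeroLocus_vanishingIdeal_eq_closure, hZ.closure_eq]
  have htop : I ⊔ Ideal.span {(X : R[X])} = ⊤ := by
    rw [← PrimeSpectrum.zeroLocus_empty_iff_eq_top, PrimeSpectrum.zeroLocus_sup,
      Set.eq_empty_iff_forall_notMem]
    rintro z ⟨hz1, hz2⟩
    rw [← hI] at hz1
    apply hZt z hz1
    exact hz2 (Ideal.subset_span (Set.mem_singleton _))
  obtain ⟨a, ha, c, hc, hac⟩ := Submodule.mem_sup.mp ((Ideal.eq_top_iff_one _).mp htop)
  obtain ⟨b, rfl⟩ := Ideal.mem_span_singleton'.mp hc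
  -- `a = 1 - b * X`
  have ha0 : a.coeff 0 = 1 := by
    have h1 := congrArg (fun q : R[X] => q.coeff 0) hac
    simp only [coeff_add, coeff_mul_X_zero, add_zero, coeff_one_zero] at h1
    exact h1
  have hmon : (reverse a).Monic := by
    change (reverse a).leadingCoeff = 1
    rw [reverse_leadingCoeff, trailingCoeff]
    have h0 : a.natTrailingDegree = 0 := by
      rw [natTrailingDegree_eq_zero]
      right
      rw [ha0]; exact one_ne_zero
    rw [h0, ha0]
  have hP : (X * reverse a).Monic := monic_X.mul hmon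
  -- the function `s * (reverse a)(s)` vanishes everywhere
  have hvan : U.basicOpen (eval₂ φ s (X * reverse a)) = ⊥ := by
    rw [eq_bot_iff]
    intro x hx
    exfalso
    rw [← Scheme.evaluation_ne_zero_iff_mem_basicOpen (X := U) (U := ⊤) x trivial] at hx
    apply hx
    change (U.Γevaluation x).hom (eval₂ φ s (X * reverse a)) = 0
    rw [hom_eval₂, eval₂_mul, eval₂_X]
    by_cases hs : (U.Γevaluation x).hom s = 0
    · rw [hs, zero_mul]
    · have hz := hmem x hs
      rw [hI] at hz
      have hz' : a ∈ (evalPrime ((U.Γevaluation x).hom.comp φ)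
          ((U.Γevaluation x).hom s)⁻¹).asIdeal := hz ha
      rw [mem_evalPrime_iff] at hz'
      letI : Invertible ((U.Γevaluation x).hom s)⁻¹ := invertibleOfNonzero (inv_ne_zero hs)
      have h1 := (eval₂_reverse_eq_zero_iff ((U.Γevaluation x).hom.comp φ)
        ((U.Γevaluation x).hom s)⁻¹ a).mpr hz'
      have h2 : ⅟((U.Γevaluation x).hom s)⁻¹ = (U.Γevaluation x).hom s := by
        rw [invOf_eq_inv, inv_inv]
      rw [h2] at h1
      rw [h1, mul_zero]
  obtain ⟨n, hn⟩ := (Scheme.isNilpotent_iff_basicOpen_eq_bot _).mpr hvan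
  exact ⟨(X * reverse a) ^ n, hP.pow n, by rw [eval₂_pow, hn]⟩

end Groth.Agent.Helper5.GsInt
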