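import Groth.Agent.Helper5.GsInt1

/-!
# Helper5: points of the affine line over an affine scheme, pulled back to a scheme over it
-/

set_option autoImplicit false
universe u
open CategoryTheory CategoryTheory.Limits AlgebraicGeometry Opposite Polynomial

namespace Groth.Agent.Helper5.GsInt

/-- the ring map to a field defined by a field-valued point -/
noncomputable def ptEval {U : Scheme.{u}} {κ : Type u} [Field κ]
    (α : Spec (CommRingCat.of κ) ⟶ U) : Γ(U, ⊤) →+* κ :=
  (Scheme.ΓSpecIso (CommRingCat.of κ)).hom.hom.comp α.appTop.hom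

theorem ptEval_comp {U W : Scheme.{u}} {κ : Type u} [Field κ]
    (α : Spec (CommRingCat.of κ) ⟶ U) (m : U ⟶ W) :
    ptEval (α ≫ m) = (ptEval α).comp m.appTop.hom := by
  ext r
  simp only [ptEval, RingHom.comp_apply]
  rfl

theorem ptEval_specMap {R κ : Type u} [CommRing R] [Field κ] (ρ : R →+* κ) (r : R) :
    ptEval (Spec.map (CommRingCat.ofHom ρ))
      ((Scheme.ΓSpecIso (CommRingCat.of R)).inv.hom r) = ρ r := by
  have h := Scheme.ΓSpecIso_inv_naturality (CommRingCat.ofHom ρ)
  have h2 := congrArg (fun k => (Scheme.ΓSpecIso (CommRingCat.of κ)).hom.hom (k.hom r)) h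
  simp only [CommRingCat.hom_comp, RingHom.comp_apply] at h2
  change (Scheme.ΓSpecIso (CommRingCat.of κ)).hom.hom
    ((Spec.map (CommRingCat.ofHom ρ)).appTop.hom
      ((Scheme.ΓSpecIso (CommRingCat.of R)).inv.hom r)) = ρ r
  rw [← h2]
  change ((Scheme.ΓSpecIso (CommRingCat.of κ)).inv ≫ (Scheme.ΓSpecIso (CommRingCat.of κ)).hom).hom
    (ρ r) = ρ r
  rw [Iso.inv_hom_id]
  rfl

theorem eq_specMap_ptEval {W : Scheme.{u}} [IsAffine W] {κ : Type u} [Field κ]
    (h : Spec (CommRingCat.of κ) ⟶ W) :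
    h = Spec.map (CommRingCat.ofHom (ptEval h)) ≫ W.isoSpec.inv := by
  have h1 := Scheme.isoSpec_inv_naturality h
  rw [Scheme.isoSpec_Spec_inv] at h1
  have h2 : Spec.map (CommRingCat.ofHom (ptEval h)) =
      Spec.map (Scheme.ΓSpecIso (CommRingCat.of κ)).hom ≫ Spec.map h.appTop := by
    rw [← Spec.map_comp]
    rfl
  rw [h2, Category.assoc, h1, ← Category.assoc, ← Spec.map_comp, Iso.inv_hom_id, Spec.map_id,
    Category.id_comp]

theorem ptEval_fromSpecResidueField {U : Scheme.{u}} (x : U) :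
    ptEval (U.fromSpecResidueField x) = (U.Γevaluation x).hom := by
  have key : (U.fromSpecResidueField x).appTop ≫
      (Scheme.ΓSpecIso (CommRingCat.of (U.residueField x))).hom = U.Γevaluation x := by
    rw [Scheme.fromSpecResidueField, Scheme.Hom.comp_appTop, Category.assoc]
    erw [Scheme.ΓSpecIso_naturality]
    rw [Scheme.fromSpecStalk_appTop, Category.assoc, Category.assoc]
    have e : (Spec (U.presheaf.stalk x)).presheaf.map
        (homOfLE (le_top : (⊤ : (Spec (U.presheaf.stalk x)).Opens) ≤ ⊤)).op = 𝟙 _ := by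
      rw [show homOfLE (le_top : (⊤ : (Spec (U.presheaf.stalk x)).Opens) ≤ ⊤) = 𝟙 _ from
        Subsingleton.elim _ _, op_id, CategoryTheory.Functor.map_id]
    rw [e, Category.id_comp, Iso.inv_hom_id_assoc]
    rfl
  exact congrArg CommRingCat.Hom.hom key

end Groth.Agent.Helper5.GsInt
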