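import Groth.Agent.Helper5.GsInt2

/-!
# Helper5: the graph of the inverse of a function, inside the affine line over a scheme
-/

set_option autoImplicit false
universe u
open CategoryTheory CategoryTheory.Limits AlgebraicGeometry Opposite Polynomial

namespace Groth.Agent.Helper5.GsInt

section

variable {U W P : Scheme.{u}} [IsAffine W] (m : U ⟶ W)
  (q₁ : P ⟶ U) (q₂ : P ⟶ Spec (CommRingCat.of Γ(W, ⊤)[X]))
  (s : Γ(U, ⊤))

/-- the coordinate function of the affine line -/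
noncomputable def tΓ (R : Type u) [CommRing R] : Γ(Spec (CommRingCat.of R[X]), ⊤) :=
  (Scheme.ΓSpecIso (CommRingCat.of R[X])).inv.hom X

/-- the equation `t * s = 1` -/
noncomputable def gP : Γ(P, ⊤) := q₂.appTop.hom (tΓ Γ(W, ⊤)) * q₁.appTop.hom s - 1

/-- the locus `t * s = 1` -/
def T₀ : Set P := (P.basicOpen (gP q₁ q₂ s) : Set P)ᶜ

theorem isClosed_T₀ : IsClosed (T₀ q₁ q₂ s) :=
  (P.basicOpen (gP q₁ q₂ s)).isOpen.isClosed_compl

theorem X_notMem_of_mem_T₀ (u : P) (hu : u ∈ T₀ q₁ q₂ s) :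
    (X : Γ(W, ⊤)[X]) ∉ (q₂ u : PrimeSpectrum Γ(W, ⊤)[X]).asIdeal := by
  intro hX
  apply hu
  -- `t` vanishes at `u`
  have h1 : u ∉ P.basicOpen (q₂.appTop.hom (tΓ Γ(W, ⊤))) := by
    intro h
    have h2 : u ∈ q₂ ⁻¹ᵁ (Spec (CommRingCat.of Γ(W, ⊤)[X])).basicOpen (tΓ Γ(W, ⊤)) := by
      rw [Scheme.preimage_basicOpen_top]; exact h
    have h3 : q₂ u ∈ (Spec (CommRingCat.of Γ(W, ⊤)[X])).basicOpen (tΓ Γ(W, ⊤)) := h2
    rw [tΓ] at h3
    erw [basicOpen_eq_of_affine] at h3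
    exact h3 hX
  have e1 : (P.Γevaluation u).hom (q₂.appTop.hom (tΓ Γ(W, ⊤))) = 0 :=
    (Scheme.evaluation_eq_zero_iff_notMem_basicOpen (X := P) (U := ⊤) u trivial _).mpr h1
  change u ∈ P.basicOpen (gP q₁ q₂ s)
  rw [← Scheme.evaluation_ne_zero_iff_mem_basicOpen (X := P) (U := ⊤) u trivial]
  change (P.Γevaluation u).hom (gP q₁ q₂ s) ≠ 0
  rw [gP, map_sub, map_mul, e1, zero_mul, map_one, zero_sub]
  exact neg_ne_zero.mpr one_ne_zero

variable (sq : IsPullback q₁ q₂ m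
  (Spec.map (CommRingCat.ofHom (C : Γ(W, ⊤) →+* Γ(W, ⊤)[X])) ≫ W.isoSpec.inv))

include sq in
theorem evalPrime_mem_image (x : U) (hs : (U.Γevaluation x).hom s ≠ 0) :
    evalPrime ((U.Γevaluation x).hom.comp m.appTop.hom) ((U.Γevaluation x).hom s)⁻¹ ∈
      (fun u : P => (q₂ u : PrimeSpectrum Γ(W, ⊤)[X])) '' T₀ q₁ q₂ s := by
  let ψ : Γ(U, ⊤) →+* U.residueField x := (U.Γevaluation x).hom
  let α : Spec (CommRingCat.of (U.residueField x)) ⟶ U := U.fromSpecResidueField x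
  let ρ : Γ(W, ⊤)[X] →+* U.residueField x := eval₂RingHom (ψ.comp m.appTop.hom) (ψ s)⁻¹
  let β : Spec (CommRingCat.of (U.residueField x)) ⟶ Spec (CommRingCat.of Γ(W, ⊤)[X]) :=
    Spec.map (CommRingCat.ofHom ρ)
  have hα : ptEval α = ψ := ptEval_fromSpecResidueField x
  have hcompat : α ≫ m =
      β ≫ (Spec.map (CommRingCat.ofHom (C : Γ(W, ⊤) →+* Γ(W, ⊤)[X])) ≫ W.isoSpec.inv) := by
    rw [eq_specMap_ptEval (α ≫ m), ptEval_comp, hα, ← Category.assoc]
    congr 1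
    change _ = Spec.map (CommRingCat.ofHom ρ) ≫ Spec.map (CommRingCat.ofHom C)
    rw [← Spec.map_comp]
    congr 2
    ext r
    change ψ (m.appTop.hom r) = eval₂ (ψ.comp m.appTop.hom) (ψ s)⁻¹ (C r)
    rw [eval₂_C]
    rfl
  let γ : Spec (CommRingCat.of (U.residueField x)) ⟶ P := sq.lift α β hcompat
  have hγ1 : γ ≫ q₁ = α := sq.lift_fst _ _ _
  have hγ2 : γ ≫ q₂ = β := sq.lift_snd _ _ _
  let c : Spec (CommRingCat.of (U.residueField x)) := IsLocalRing.closedPoint (U.residueField x)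
  refine ⟨γ c, ?_, ?_⟩
  · -- membership in `T₀`
    intro hmem
    have h2 : c ∈ γ ⁻¹ᵁ P.basicOpen (gP q₁ q₂ s) := hmem
    rw [Scheme.preimage_basicOpen_top, basicOpen_eq_of_affine'] at h2
    apply h2
    change (ptEval γ) (gP q₁ q₂ s) ∈ IsLocalRing.maximalIdeal (U.residueField x)
    have h3 : (ptEval γ) (gP q₁ q₂ s) = 0 := by
      rw [gP, map_sub, map_mul, map_one]
      have e1 : (ptEval γ) (q₂.appTop.hom (tΓ Γ(W, ⊤))) = (ψ s)⁻¹ := by
        have := congrArg (fun k => k (tΓ Γ(W, ⊤))) (ptEval_comp γ q₂)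
        simp only [RingHom.comp_apply] at this
        rw [← this, hγ2, tΓ, ptEval_specMap]
        change eval₂ (ψ.comp m.appTop.hom) (ψ s)⁻¹ X = _
        rw [eval₂_X]
      have e2 : (ptEval γ) (q₁.appTop.hom s) = ψ s := by
        have := congrArg (fun k => k s) (ptEval_comp γ q₁)
        simp only [RingHom.comp_apply] at this
        rw [← this, hγ1, hα]
      rw [e1, e2, inv_mul_cancel₀ hs, sub_self]
    rw [h3]
    exact Ideal.zero_mem _
  · -- the image point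
    have h4 : q₂ (γ c) = β c := by
      rw [← hγ2]; rfl
    change (q₂ (γ c) : PrimeSpectrum Γ(W, ⊤)[X]) = _
    rw [h4]
    apply PrimeSpectrum.ext
    change Ideal.comap ρ (IsLocalRing.maximalIdeal (U.residueField x)) = RingHom.ker _
    rw [IsLocalRing.maximalIdeal_eq_bot]
    rfl

end

end Groth.Agent.Helper5.GsInt
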