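import Groth.Agent.Helper5.GsInt3
import Groth.Agent.Helper4.AlgSpPtsDesc
import Groth.Agent.Helper4.AlgSpLocPFam
import Groth.Agent.Helper4.AlgSpPB
import Groth.Agent.Helper4.AlgSpQC2

/-!
# Helper5: the closed subset of the affine line produced by a universally closed morphism
-/

set_option autoImplicit false
universe u
open CategoryTheory CategoryTheory.Limits AlgebraicGeometry Opposite Polynomial

namespace Groth.Agent.Helper5.GsInt

open AlgSp

variable {S : Scheme.{u}}

/-- the structure map of the affine line over an affine scheme -/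
noncomputable def lineMap (W : Scheme.{u}) [IsAffine W] :
    Spec (CommRingCat.of Γ(W, ⊤)[X]) ⟶ W :=
  Spec.map (CommRingCat.ofHom (C : Γ(W, ⊤) →+* Γ(W, ⊤)[X])) ≫ W.isoSpec.inv

/-- the affine line over an affine `S`-scheme -/
noncomputable def lineOver (V : Over S) [IsAffine V.left] : Over S :=
  Over.mk (lineMap V.left ≫ V.hom)

/-- its projection -/
noncomputable def lineProj (V : Over S) [IsAffine V.left] : lineOver V ⟶ V :=
  Over.homMk (lineMap V.left) rfl

theorem exists_closed_of_univClosed (V : Over S) [IsAffine V.left] {F : Sp S} (hX : IsAlgSpace F)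
    (f : F ⟶ (yon S).obj V) (huc : IsUnivClosedMor f) {U₁ : Over S}
    (p₁ : (yon S).obj U₁ ⟶ F) (hp₁e : RepWith @Etale p₁) (hp₁s : RepWith @Surjective p₁)
    (m₁ : U₁ ⟶ V) (hm₁ : (yon S).map m₁ = p₁ ≫ f) (s₁ : Γ(U₁.left, ⊤))
    (hcompat : ∀ (R₀ : Over S) (r₁ r₂ : R₀ ⟶ U₁),
      (yon S).map r₁ ≫ p₁ = (yon S).map r₂ ≫ p₁ →
        r₁.left.appTop.hom s₁ = r₂.left.appTop.hom s₁) :
    ∃ Z : Set (PrimeSpectrum Γ(V.left, ⊤)[X]), IsClosed Z ∧
      (∀ z ∈ Z, (X : Γ(V.left, ⊤)[X]) ∉ z.asIdeal) ∧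
      ∀ x : U₁.left, (U₁.left.Γevaluation x).hom s₁ ≠ 0 →
        evalPrime ((U₁.left.Γevaluation x).hom.comp m₁.left.appTop.hom)
          ((U₁.left.Γevaluation x).hom s₁)⁻¹ ∈ Z := by
  let AV : Over S := lineOver V
  let b : AV ⟶ V := lineProj V
  let U₁' : Over S := pullback m₁ b
  let q₁ : U₁' ⟶ U₁ := pullback.fst m₁ b
  let q₂ : U₁' ⟶ AV := pullback.snd m₁ b
  have sqO : IsPullback q₁ q₂ m₁ b := IsPullback.of_hasPullback m₁ b
  have sqL : IsPullback q₁.left q₂.left m₁.left (lineMap V.left) := sqO.map (Over.forget S)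
  have sqY : IsPullback ((yon S).map q₁) ((yon S).map q₂) ((yon S).map m₁) ((yon S).map b) :=
    sqO.map (yon S)
  let X' : Sp S := pullback f ((yon S).map b)
  let fst' : X' ⟶ F := pullback.fst f ((yon S).map b)
  let snd' : X' ⟶ (yon S).obj AV := pullback.snd f ((yon S).map b)
  have sqX : IsPullback fst' snd' f ((yon S).map b) := IsPullback.of_hasPullback _ _
  have hπc : ((yon S).map q₁ ≫ p₁) ≫ f = (yon S).map q₂ ≫ (yon S).map b := by
    rw [Category.assoc, ← hm₁]; exact sqY.w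
  let π : (yon S).obj U₁' ⟶ X' := sqX.lift ((yon S).map q₁ ≫ p₁) ((yon S).map q₂) hπc
  have hπ1 : π ≫ fst' = (yon S).map q₁ ≫ p₁ := sqX.lift_fst _ _ _
  have hπ2 : π ≫ snd' = (yon S).map q₂ := sqX.lift_snd _ _ _
  have sqπ : IsPullback π ((yon S).map q₁) fst' p₁ := by
    refine IsPullback.of_right ?_ hπ1 sqX.flip
    rw [hπ2, ← hm₁]
    exact sqY.flip
  have hπe : RepWith @Etale π :=
    (repWith_isStableUnderBaseChange (S := S) @Etale).of_isPullback sqπ.flip hp₁e
  have hπs : RepWith @Surjective π :=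
    (repWith_isStableUnderBaseChange (S := S) @Surjective).of_isPullback sqπ.flip hp₁s
  have hX' : IsAlgSpace X' :=
    Groth.Agent.Helper4.AlgSpPB.isAlgSpace_of_isPullback (IsAlgSpace.yon_obj V).diag hX
      (IsAlgSpace.yon_obj AV) f ((yon S).map b) fst' snd' sqX
  have hcl : IsClosedMap (Points.map snd') :=
    huc (IsAlgSpace.yon_obj AV) ((yon S).map b) fst' snd' sqX
  -- the closed subset of the chart
  let T₀' : Set U₁'.left := T₀ q₁.left q₂.left s₁
  have hT₀ : IsClosed T₀' := isClosed_T₀ q₁.left q₂.left s₁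
  let T : Set (Points X') := Points.ofPt π '' T₀'
  -- saturation
  have hsat : ∀ u u₀ : U₁'.left, Points.ofPt π u = Points.ofPt π u₀ → u₀ ∈ T₀' → u ∈ T₀' := by
    intro u u₀ h hu₀
    have hrep := hπe.rep
    let R₀ : Over S := hrep.pullback π
    let r₁ : R₀ ⟶ U₁' := hrep.fst' π
    let r₂ : R₀ ⟶ U₁' := hrep.snd π
    have sqR : IsPullback ((yon S).map r₁) ((yon S).map r₂) π π := hrep.isPullback' π
    obtain ⟨u'', hu1, hu2⟩ :=
      Groth.Agent.Helper4.AlgSpLocPFam.exists_point_of_isPullback_yon π π r₁ r₂ sqR u u₀ h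
    have e1 : r₁ ≫ q₂ = r₂ ≫ q₂ := by
      apply (yon S).map_injective
      rw [Functor.map_comp, Functor.map_comp, ← hπ2, ← Category.assoc, ← Category.assoc, sqR.w]
    have e2 : (r₁ ≫ q₁).left.appTop.hom s₁ = (r₂ ≫ q₁).left.appTop.hom s₁ := by
      apply hcompat
      rw [Functor.map_comp, Functor.map_comp, Category.assoc, Category.assoc, ← hπ1,
        ← Category.assoc, ← Category.assoc, sqR.w]
    have e3 : r₁.left.appTop.hom (gP q₁.left q₂.left s₁) =
        r₂.left.appTop.hom (gP q₁.left q₂.left s₁) := by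
      have a1 : ∀ r : R₀ ⟶ U₁', r.left.appTop.hom (gP q₁.left q₂.left s₁) =
          (r ≫ q₂).left.appTop.hom (tΓ Γ(V.left, ⊤)) * (r ≫ q₁).left.appTop.hom s₁ - 1 := by
        intro r
        change r.left.appTop.hom (q₂.left.appTop.hom (tΓ Γ(V.left, ⊤)) *
          q₁.left.appTop.hom s₁ - 1) = _
        rw [map_sub, map_mul, map_one]
        rfl
      rw [a1, a1, e1, e2]
    intro hmem
    apply hu₀
    change u₀ ∈ U₁'.left.basicOpen (gP q₁.left q₂.left s₁)
    change u ∈ U₁'.left.basicOpen (gP q₁.left q₂.left s₁) at hmem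
    rw [← hu1] at hmem
    rw [← hu2]
    have h1 : u'' ∈ r₁.left ⁻¹ᵁ U₁'.left.basicOpen (gP q₁.left q₂.left s₁) := hmem
    rw [Scheme.preimage_basicOpen_top, e3, ← Scheme.preimage_basicOpen_top] at h1
    exact h1
  -- `T` is closed
  have hTcl : IsClosed T := by
    rw [← isOpen_compl_iff]
    apply Groth.Agent.Helper4.AlgSpPtsDesc.isOpen_of_isOpen_preimage π hπe hπs
    have h1 : Points.map π ⁻¹' Tᶜ = (Points.schemeHomeo U₁').symm ⁻¹' T₀'ᶜ := by
      ext y
      obtain ⟨u, rfl⟩ := (Points.schemeHomeo U₁').surjective y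
      simp only [Set.mem_preimage, Set.mem_compl_iff, Homeomorph.symm_apply_apply]
      have h2 : Points.map π (Points.schemeHomeo U₁' u) = Points.ofPt π u :=
        (Points.ofPt_eq_map_ofScheme π u).symm
      rw [h2]
      constructor
      · intro h hu
        exact h ⟨u, hu, rfl⟩
      · rintro h ⟨u₀, hu₀, hu₀'⟩
        exact h (hsat u u₀ hu₀'.symm hu₀)
    rw [h1]
    exact hT₀.isOpen_compl.preimage (Points.schemeHomeo U₁').symm.continuous
  -- the closed subset of the line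
  let Z : Set (PrimeSpectrum Γ(V.left, ⊤)[X]) :=
    (fun u : U₁'.left => (q₂.left u : PrimeSpectrum Γ(V.left, ⊤)[X])) '' T₀'
  have hZcl : IsClosed Z := by
    have h1 : Points.schemeHomeo AV '' Z = Points.map snd' '' T := by
      ext y
      constructor
      · rintro ⟨z, ⟨u, hu, rfl⟩, rfl⟩
        refine ⟨Points.ofPt π u, ⟨u, hu, rfl⟩, ?_⟩
        rw [Points.map_ofPt, hπ2, Points.ofPt_eq_map_ofScheme]
        exact Points.map_yon_map_apply q₂ u
      · rintro ⟨t, ⟨u, hu, rfl⟩, rfl⟩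
        refine ⟨q₂.left u, ⟨u, hu, rfl⟩, ?_⟩
        rw [Points.map_ofPt, hπ2, Points.ofPt_eq_map_ofScheme]
        exact (Points.map_yon_map_apply q₂ u).symm
    have h2 : IsClosed (Points.schemeHomeo AV '' Z) := by
      rw [h1]; exact hcl _ hTcl
    exact (Points.schemeHomeo AV).isClosed_image.mp h2
  refine ⟨Z, hZcl, ?_, ?_⟩
  · rintro z ⟨u, hu, rfl⟩
    exact X_notMem_of_mem_T₀ q₁.left q₂.left s₁ u hu
  · intro x hs
    exact evalPrime_mem_image m₁.left q₁.left q₂.left s₁ sqL x hs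

end Groth.Agent.Helper5.GsInt
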