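import Groth.Agent.Helper5.EtPt13
import Groth.Agent.Helper5.Decent3
import Groth.Agent.Helper4.AlgSpLocPFam
import Mathlib

set_option autoImplicit false
universe u
open CategoryTheory CategoryTheory.Limits AlgebraicGeometry Opposite

namespace Groth.Agent.Helper5.GsectDom

open AlgSp Groth.Agent.Helper4

variable {S : Scheme.{u}}

set_option backward.isDefEq.respectTransparency false

/-- restriction of a global section of the structure sheaf to an object of the small étale site -/
noncomputable def res (X : Space S) (E : EtOver X.obj) :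
    ↥(gsectEt (OEt X.obj)) →+* Γ(E.obj.left.left, ⊤) :=
  (ULift.ringEquiv.{u, u + 1} (R := Γ(E.obj.left.left, ⊤))).toRingHom.comp
    (limit.π (OEt X.obj).obj (op E)).hom

theorem res_apply (X : Space S) (E : EtOver X.obj) (f : ↥(gsectEt (OEt X.obj))) :
    res X E f = ((limit.π (OEt X.obj).obj (op E)) f).down := rfl

theorem res_map (X : Space S) {E' E : EtOver X.obj} (g : E' ⟶ E) (f : ↥(gsectEt (OEt X.obj))) :
    g.hom.left.left.appTop.hom (res X E f) = res X E' f := by
  have hw := limit.w (OEt X.obj).obj g.op
  have h2 := congrArg (fun m => (m.hom f).down) hw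
  exact h2

/-- the non-vanishing locus of a global section, as a subset of the space of points -/
def nonvanishing (X : Space S) (f : ↥(gsectEt (OEt X.obj))) : Set (Points X.obj) :=
  {x | ∃ (E : EtOver X.obj) (e : ↥E.obj.left.left),
    e ∈ E.obj.left.left.basicOpen (res X E f) ∧ Points.ofPt E.obj.hom e = x}

theorem isOpen_nonvanishing (X : Space S) (f : ↥(gsectEt (OEt X.obj))) :
    IsOpen (nonvanishing X f) := by
  have h : nonvanishing X f = ⋃ E : EtOver X.obj,
      Points.ofPt E.obj.hom '' (E.obj.left.left.basicOpen (res X E f) : Set ↥E.obj.left.left) := by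
    ext x
    simp only [nonvanishing, Set.mem_iUnion, Set.mem_image]
    constructor
    · rintro ⟨E, e, he, hx⟩; exact ⟨E, e, he, hx⟩
    · rintro ⟨E, e, he, hx⟩; exact ⟨E, e, he, hx⟩
  rw [h]
  refine isOpen_iUnion fun E => ?_
  exact Groth.Agent.Helper5.Decent3.isOpenMap_ofPt X.property E.obj.hom E.property _
    (E.obj.left.left.basicOpen (res X E f)).isOpen

theorem nonvanishing_inter_subset (X : Space S) (f g : ↥(gsectEt (OEt X.obj))) :
    nonvanishing X f ∩ nonvanishing X g ⊆ nonvanishing X (f * g) := by
  rintro x ⟨⟨E, e, he, hx⟩, ⟨E', e', he', hx'⟩⟩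
  have sq := E'.property.1.isPullback E.obj.hom
  obtain ⟨d, hd⟩ := (yon S).map_surjective (E'.property.1.fst E.obj.hom)
  rw [← hd] at sq
  obtain ⟨r, hr1, hr2⟩ := AlgSpLocPFam.exists_point_of_isPullback_yon E'.obj.hom E.obj.hom d
    (E'.property.1.snd E.obj.hom) sq e' e (hx'.trans hx.symm)
  refine ⟨EtOver.prodObj E E', r, ?_, ?_⟩
  · rw [map_mul, Scheme.basicOpen_mul]
    constructor
    · have h1 := res_map X (EtOver.prodFst E E') f
      rw [← h1]
      have : r ∈ (EtOver.prodFst E E').hom.left.left ⁻¹ᵁ E.obj.left.left.basicOpen (res X E f) := by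
        show (EtOver.prodFst E E').hom.left.left r ∈ E.obj.left.left.basicOpen (res X E f)
        have : (EtOver.prodFst E E').hom.left.left r = e := hr2
        rw [this]; exact he
      rw [Scheme.preimage_basicOpen_top] at this
      exact this
    · have h1 := res_map X (EtOver.prodSnd E E') g
      rw [← h1]
      have : r ∈ (EtOver.prodSnd E E').hom.left.left ⁻¹ᵁ E'.obj.left.left.basicOpen (res X E' g) := by
        show (EtOver.prodSnd E E').hom.left.left r ∈ E'.obj.left.left.basicOpen (res X E' g)
        have h3 : (EtOver.prodSnd E E').hom.left.left = d.left := by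
          have : (yon S).map (EtOver.prodSnd E E').hom.left = (yon S).map d := by
            rw [hd]
            show (yon S).map (E'.property.1.fst' E.obj.hom) = _
            exact Functor.relativelyRepresentable.map_fst' _ _
          exact congrArg (fun k => k.left) ((yon S).map_injective this)
        rw [h3]
        have h5 := he'
        rw [← hr1] at h5
        exact h5
      rw [Scheme.preimage_basicOpen_top] at this
      exact this
  · show Points.ofPt ((yon S).map (E'.property.1.snd E.obj.hom) ≫ E.obj.hom) r = x
    rw [AlgSpPtsDesc.ofPt_yon_map_comp, hr2, hx]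

theorem nonvanishing_zero (X : Space S) : nonvanishing X (0 : ↥(gsectEt (OEt X.obj))) = ∅ := by
  ext x
  simp only [nonvanishing, Set.mem_ofPred_eq, Set.mem_empty_iff_false, iff_false]
  rintro ⟨E, e, he, -⟩
  rw [map_zero, Scheme.basicOpen_zero] at he
  exact he

theorem eq_zero_of_nonvanishing_eq_empty (X : Space S) (hX : IsReducedSp X.obj)
    (f : ↥(gsectEt (OEt X.obj))) (h : nonvanishing X f = ∅) : f = 0 := by
  apply (EtPt.isReduced_gsectEt X hX).2
  intro E
  rw [eq_bot_iff]
  intro e he
  have : Points.ofPt E.obj.hom e ∈ nonvanishing X f := ⟨E, e, he, rfl⟩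
  rw [h] at this
  exact this.elim

theorem isDomain_gsectEt (X : Space S) (hred : IsReducedSp X.obj)
    (hirr : IrreducibleSpace (Points X.obj)) : IsDomain ↥(gsectEt (OEt X.obj)) := by
  have hnt : Nontrivial ↥(gsectEt (OEt X.obj)) := by
    obtain ⟨x⟩ := hirr.toNonempty
    induction x using Points.ind with
    | h p =>
      obtain ⟨A, a, hae, has⟩ := X.property.atlas
      have hs := AlgSpPts.isSurjectiveMor_of_repWith a has
      obtain ⟨y, hy⟩ := hs (Points.mk p)
      obtain ⟨t, rfl⟩ := (Points.schemeHomeo A).surjective y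
      refine ⟨⟨0, 1, fun h01 => ?_⟩⟩
      have h1 := congrArg (res X (EtOver.mk a hae)) h01
      rw [map_zero, map_one] at h1
      have hne : Nonempty ↥(⊤ : (EtOver.mk a hae).obj.left.left.Opens) := ⟨⟨t, trivial⟩⟩
      have hnt' : Nontrivial Γ((EtOver.mk a hae).obj.left.left, ⊤) :=
        @Scheme.component_nontrivial _ _ hne
      exact zero_ne_one h1
  have hnzd : NoZeroDivisors ↥(gsectEt (OEt X.obj)) := by
    constructor
    intro f g hfg
    by_contra hcon
    push Not at hcon
    have hf : (nonvanishing X f).Nonempty := by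
      rw [Set.nonempty_iff_ne_empty]
      exact fun h => hcon.1 (eq_zero_of_nonvanishing_eq_empty X hred f h)
    have hg : (nonvanishing X g).Nonempty := by
      rw [Set.nonempty_iff_ne_empty]
      exact fun h => hcon.2 (eq_zero_of_nonvanishing_eq_empty X hred g h)
    obtain ⟨x, hx⟩ := nonempty_preirreducible_inter (isOpen_nonvanishing X f)
      (isOpen_nonvanishing X g) hf hg
    have := nonvanishing_inter_subset X f g hx
    rw [hfg, nonvanishing_zero] at this
    exact this
  exact NoZeroDivisors.to_isDomain _

end Groth.Agent.Helper5.GsectDom
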