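import Groth.Agent.Helper5.GsInt4
import Groth.Agent.Helper5.GsectDom

/-!
# Helper5: global sections of a quasi-compact universally closed space over an affine scheme are
integral over the functions of the base
-/

set_option autoImplicit false
universe u
open CategoryTheory CategoryTheory.Limits AlgebraicGeometry Opposite Polynomial

namespace Groth.Agent.Helper5.GsInt

open AlgSp Groth.Agent.Helper5.GsectDom

/-- pulling back functions along a flat surjective morphism is injective -/
theorem appTop_injective_of_flat_of_surjective {Y Z : Scheme.{u}} (g : Y ⟶ Z) [Flat g]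
    [Surjective g] : Function.Injective g.appTop.hom := by
  rw [injective_iff_map_eq_zero]
  intro a ha
  apply TopCat.Presheaf.section_ext Z.sheaf ⊤
  intro x hx
  obtain ⟨y, rfl⟩ := Surjective.surj (f := g) x
  have hinj : Function.Injective (g.stalkMap y).hom := by
    algebraize [(g.stalkMap y).hom]
    have : Module.FaithfullyFlat (Z.presheaf.stalk (g y)) (Y.presheaf.stalk y) :=
      @Module.FaithfullyFlat.of_flat_of_isLocalHom _ _ _ _ _ _ _
        (Flat.stalkMap g y) (g.toLRSHom.prop y)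
    exact ‹RingHom.FaithfullyFlat _›.injective
  apply hinj
  have h1 := congrArg (fun k => k.hom a) (Scheme.Hom.germ_stalkMap g ⊤ y trivial)
  simp only [CommRingCat.hom_comp, RingHom.comp_apply] at h1
  change (g.stalkMap y).hom ((Z.presheaf.germ ⊤ (g y) trivial).hom a) =
    (g.stalkMap y).hom ((Z.presheaf.germ ⊤ (g y) trivial).hom 0)
  rw [h1, map_zero, map_zero]
  change (Y.presheaf.germ (g ⁻¹ᵁ ⊤) y trivial).hom (g.appTop.hom a) = 0
  rw [ha]
  exact map_zero _

variable {S : Scheme.{u}}

set_option backward.isDefEq.respectTransparency false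

/-- the morphism to the base underlying an object of the small étale site -/
noncomputable def mOf (V : Over S) (X : Space S) (f : X ⟶ (ofScheme S).obj V) (E : EtOver X.obj) :
    E.obj.left ⟶ V :=
  (yon S).preimage (E.obj.hom ≫ f.hom)

theorem map_mOf (V : Over S) (X : Space S) (f : X ⟶ (ofScheme S).obj V) (E : EtOver X.obj) :
    (yon S).map (mOf V X f E) = E.obj.hom ≫ f.hom :=
  (yon S).map_preimage _

theorem mOf_map (V : Over S) (X : Space S) (f : X ⟶ (ofScheme S).obj V) {E' E : EtOver X.obj}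
    (g : E' ⟶ E) : g.hom.left ≫ mOf V X f E = mOf V X f E' := by
  apply (yon S).map_injective
  rw [Functor.map_comp, map_mOf, map_mOf, ← Category.assoc, EtOver.w]

/-- the value of a polynomial on a global section, on an object of the small étale site -/
noncomputable def evalE (V : Over S) (X : Space S) (f : X ⟶ (ofScheme S).obj V)
    (s : ↥(gsectEt (OEt X.obj))) (p : Γ(V.left, ⊤)[X]) (E : EtOver X.obj) :
    Γ(E.obj.left.left, ⊤) :=
  eval₂ (mOf V X f E).left.appTop.hom (res X E s) p

theorem evalE_map (V : Over S) (X : Space S) (f : X ⟶ (ofScheme S).obj V)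
    (s : ↥(gsectEt (OEt X.obj))) (p : Γ(V.left, ⊤)[X]) {E' E : EtOver X.obj} (g : E' ⟶ E) :
    g.hom.left.left.appTop.hom (evalE V X f s p E) = evalE V X f s p E' := by
  rw [evalE, evalE, hom_eval₂, res_map, ← mOf_map V X f g]
  rfl

theorem exists_monic (V : Over S) [IsAffine V.left] (X : Space S)
    (f : X ⟶ (ofScheme S).obj V) (hqc : IsQuasiCompactMor f.hom) (huc : IsUnivClosedMor f.hom)
    (s : ↥(gsectEt (OEt X.obj))) :
    ∃ p : Γ(V.left, ⊤)[X], p.Monic ∧ ∀ E : EtOver X.obj, evalE V X f s p E = 0 := by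
  -- `X` is quasi-compact
  have hqV : IsQuasiCompactSp ((yon S).obj V) := Groth.Agent.Helper4.AlgSpQC2.isQuasiCompactSp_yon V
  have hqX : IsQuasiCompactSp X.obj :=
    hqc (IsAlgSpace.yon_obj V) hqV (𝟙 _) (𝟙 _) f.hom (IsPullback.id_horiz f.hom)
  obtain ⟨U₁, p₁, hp₁e, hp₁s, hU₁c⟩ := hqX
  have : CompactSpace U₁.left := hU₁c
  let E₁ : EtOver X.obj := EtOver.mk p₁ hp₁e
  let s₁ : Γ(U₁.left, ⊤) := res X E₁ s
  let m₁ : U₁ ⟶ V := mOf V X f E₁
  have hm₁ : (yon S).map m₁ = p₁ ≫ f.hom := map_mOf V X f E₁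
  have hcompat : ∀ (R₀ : Over S) (r₁ r₂ : R₀ ⟶ U₁),
      (yon S).map r₁ ≫ p₁ = (yon S).map r₂ ≫ p₁ →
        r₁.left.appTop.hom s₁ = r₂.left.appTop.hom s₁ := by
    intro R₀ r₁ r₂ h
    let t : R₀ ⟶ E₁.property.1.pullback E₁.obj.hom := E₁.property.1.lift' r₂ r₁ h.symm
    have ht1 : t ≫ (EtOver.prodFst E₁ E₁).hom.left = r₁ :=
      Functor.relativelyRepresentable.lift'_snd _ _ _ _
    have ht2 : t ≫ (EtOver.prodSnd E₁ E₁).hom.left = r₂ :=
      Functor.relativelyRepresentable.lift'_fst _ _ _ _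
    have a1 : r₁.left.appTop.hom s₁ = t.left.appTop.hom (res X (EtOver.prodObj E₁ E₁) s) := by
      rw [← res_map X (EtOver.prodFst E₁ E₁) s, ← ht1]
      rfl
    have a2 : r₂.left.appTop.hom s₁ = t.left.appTop.hom (res X (EtOver.prodObj E₁ E₁) s) := by
      rw [← res_map X (EtOver.prodSnd E₁ E₁) s, ← ht2]
      rfl
    rw [a1, a2]
  obtain ⟨Z, hZcl, hZt, hZmem⟩ := exists_closed_of_univClosed V X.property f.hom huc p₁ hp₁e hp₁s
    m₁ hm₁ s₁ hcompat
  obtain ⟨p, hpm, hp⟩ := exists_monic_of_closed m₁.left.appTop.hom s₁ Z hZcl hZt hZmem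
  refine ⟨p, hpm, fun E => ?_⟩
  have h1 : evalE V X f s p E₁ = 0 := hp
  let P := EtOver.prodObj E E₁
  have h2 : evalE V X f s p P = 0 := by
    rw [← evalE_map V X f s p (EtOver.prodSnd E E₁), h1, map_zero]
  have h3 : (EtOver.prodFst E E₁).hom.left.left.appTop.hom (evalE V X f s p E) = 0 := by
    rw [evalE_map, h2]
  have sq := E₁.property.1.isPullback E.obj.hom
  have hsurj : Surjective (EtOver.prodFst E E₁).hom.left.left := hp₁s.property _ _ _ sq
  have het : Etale (EtOver.prodFst E E₁).hom.left.left := EtOver.etale_left _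
  have hflat : Flat (EtOver.prodFst E E₁).hom.left.left := inferInstance
  exact appTop_injective_of_flat_of_surjective _ (h3.trans (map_zero _).symm)

end Groth.Agent.Helper5.GsInt
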