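import Groth.Agent.Helper5.PSTaylor

set_option autoImplicit false

namespace Groth.Agent.Helper5.LSTaylor
open LaurentSeries HahnSeries

variable {F : Type*} [Field F]

theorem hasseDeriv_coe (m : ℕ) (G : PowerSeries F) :
    LaurentSeries.hasseDeriv F m (G : F⸨X⸩) = ((PSTaylor.hd m G : PowerSeries F) : F⸨X⸩) := by
  ext n
  rw [LaurentSeries.hasseDeriv_coeff, PowerSeries.coeff_coe, PowerSeries.coeff_coe]
  by_cases hn : n < 0
  · rw [if_pos hn]
    by_cases hnm : n + m < 0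
    · rw [if_pos hnm, smul_zero]
    · rw [if_neg hnm]
      obtain ⟨q, hq⟩ : ∃ q : ℕ, n + m = q := ⟨(n + m).toNat, by omega⟩
      rw [hq, Ring.choose_natCast, Nat.choose_eq_zero_of_lt (by omega)]
      simp
  · rw [if_neg hn]
    obtain ⟨n', rfl⟩ : ∃ n' : ℕ, n = n' := ⟨n.toNat, by omega⟩
    have h1 : ¬ ((n' : ℤ) + m < 0) := by omega
    rw [if_neg h1, PSTaylor.coeff_hd]
    have h2 : ((n' : ℤ) + (m : ℤ)) = ((n' + m : ℕ) : ℤ) := by push_cast; rfl
    rw [h2, Ring.choose_natCast, Int.natAbs_natCast, Int.natAbs_natCast]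
    simp [zsmul_eq_mul]

/-- The Taylor map on Laurent series as a plain function. -/
noncomputable def TLfun (f : F⸨X⸩) : PowerSeries (F⸨X⸩) :=
  PowerSeries.mk fun m => LaurentSeries.hasseDeriv F m f

@[simp] theorem coeff_TLfun (m : ℕ) (f : F⸨X⸩) :
    PowerSeries.coeff m (TLfun f) = LaurentSeries.hasseDeriv F m f := by
  simp [TLfun]

theorem TLfun_coe (G : PowerSeries F) :
    TLfun (G : F⸨X⸩) = PowerSeries.map (HahnSeries.ofPowerSeries ℤ F) (PSTaylor.taylor G) := by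
  ext m : 1
  rw [coeff_TLfun, PowerSeries.coeff_map, PSTaylor.coeff_taylor, hasseDeriv_coe]

theorem TLfun_coe_mul (G₁ G₂ : PowerSeries F) :
    TLfun ((G₁ : F⸨X⸩) * (G₂ : F⸨X⸩)) = TLfun (G₁ : F⸨X⸩) * TLfun (G₂ : F⸨X⸩) := by
  rw [← PowerSeries.coe_mul, TLfun_coe, TLfun_coe, TLfun_coe, map_mul, map_mul]

theorem TLfun_single_mul (a : ℤ) (h : F⸨X⸩) :
    TLfun (single a (1 : F) * h) = TLfun (single a (1 : F)) * TLfun h := by
  ext m : 1
  rw [coeff_TLfun, PowerSeries.coeff_mul]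
  ext n
  rw [LaurentSeries.hasseDeriv_coeff, HahnSeries.coeff_single_mul, one_mul, HahnSeries.coeff_sum]
  have h1 : ∀ p ∈ Finset.HasAntidiagonal.antidiagonal m,
      ((PowerSeries.coeff p.1) (TLfun (single a (1 : F))) * (PowerSeries.coeff p.2) (TLfun h)).coeff n =
      ((Ring.choose a p.1 * Ring.choose (n + m - a) p.2 : ℤ) : F) * h.coeff (n + m - a) := by
    rintro ⟨i, j⟩ hij
    rw [Finset.HasAntidiagonal.mem_antidiagonal] at hij
    simp only at hij
    simp only [coeff_TLfun]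
    rw [LaurentSeries.hasseDeriv_single, HahnSeries.coeff_single_mul, LaurentSeries.hasseDeriv_coeff]
    have e1 : n - (a - (i : ℤ)) + (j : ℤ) = n + m - a := by
      have : (m : ℤ) = i + j := by exact_mod_cast hij.symm
      rw [this]; ring
    rw [e1]
    simp only [zsmul_eq_mul, mul_one, Int.cast_mul]
    ring
  rw [Finset.sum_congr rfl h1, ← Finset.sum_mul, ← Int.cast_sum]
  have h2 := Ring.add_choose_eq (R := ℤ) (r := a) (s := n + m - a) m (Commute.all _ _)
  rw [← h2]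
  have e2 : a + (n + (m : ℤ) - a) = n + m := by ring
  rw [e2, zsmul_eq_mul]

theorem TLfun_single_add (a b : ℤ) :
    TLfun (single (a + b) (1 : F)) = TLfun (single a (1 : F)) * TLfun (single b (1 : F)) := by
  rw [← TLfun_single_mul, HahnSeries.single_mul_single, one_mul]

theorem TLfun_mul (f g : F⸨X⸩) : TLfun (f * g) = TLfun f * TLfun g := by
  obtain ⟨a, G₁, rfl⟩ : ∃ (a : ℤ) (G : PowerSeries F), f = single a 1 * (G : F⸨X⸩) :=
    ⟨_, _, f.single_order_mul_powerSeriesPart.symm⟩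
  obtain ⟨b, G₂, rfl⟩ : ∃ (b : ℤ) (G : PowerSeries F), g = single b 1 * (G : F⸨X⸩) :=
    ⟨_, _, g.single_order_mul_powerSeriesPart.symm⟩
  have e1 : single a (1 : F) * (G₁ : F⸨X⸩) * (single b 1 * (G₂ : F⸨X⸩)) =
      single (a + b) 1 * ((G₁ : F⸨X⸩) * (G₂ : F⸨X⸩)) := by
    rw [← one_mul (1 : F), ← HahnSeries.single_mul_single, one_mul]
    ring
  rw [e1, TLfun_single_mul, TLfun_coe_mul, TLfun_single_add, TLfun_single_mul, TLfun_single_mul]
  ring

theorem TLfun_one : TLfun (1 : F⸨X⸩) = 1 := by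
  have : (1 : F⸨X⸩) = ((1 : PowerSeries F) : F⸨X⸩) := by simp
  rw [this, TLfun_coe, map_one, map_one]

theorem TLfun_add (f g : F⸨X⸩) : TLfun (f + g) = TLfun f + TLfun g := by
  ext m : 1
  simp

theorem TLfun_zero : TLfun (0 : F⸨X⸩) = 0 := by
  ext m : 1
  simp

/-- The Taylor homomorphism on Laurent series: `f(X) ↦ f(X + T) = ∑ D^(m) f · T^m`. -/
noncomputable def TL : F⸨X⸩ →+* PowerSeries (F⸨X⸩) where
  toFun := TLfun
  map_one' := TLfun_one
  map_mul' := TLfun_mul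
  map_zero' := TLfun_zero
  map_add' := TLfun_add

@[simp] theorem coeff_TL (m : ℕ) (f : F⸨X⸩) :
    PowerSeries.coeff m (TL f) = LaurentSeries.hasseDeriv F m f := coeff_TLfun m f

theorem constantCoeff_TL (f : F⸨X⸩) : PowerSeries.constantCoeff (TL f) = f := by
  rw [← PowerSeries.coeff_zero_eq_constantCoeff_apply, coeff_TL, LaurentSeries.hasseDeriv_zero]
  rfl

theorem TL_C (c : F) : TL (HahnSeries.C c) = PowerSeries.C (HahnSeries.C c) := by
  have : (HahnSeries.C c : F⸨X⸩) = ((PowerSeries.C c : PowerSeries F) : F⸨X⸩) := by simp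
  show TLfun _ = _
  rw [this, TLfun_coe, PSTaylor.taylor_C, PowerSeries.map_C]

theorem TL_X : TL (single 1 (1 : F)) = PowerSeries.C (single 1 (1 : F)) + PowerSeries.X := by
  have : (single 1 (1 : F) : F⸨X⸩) = ((PowerSeries.X : PowerSeries F) : F⸨X⸩) := by simp
  show TLfun _ = _
  rw [this, TLfun_coe, PSTaylor.taylor_X, map_add, PowerSeries.map_C, PowerSeries.map_X]

end Groth.Agent.Helper5.LSTaylor
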