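import Groth.Agent.Helper5.HasseChain
import Groth.Agent.Helper5.LSTaylor

set_option autoImplicit false

namespace Groth.Agent.Helper5.Hs
open FunFld LocRes LaurentSeries HahnSeries
open scoped IntermediateField

variable {k K F : Type*} [Field k] [Field K] [Algebra k K] [Field F] [Algebra k F]

/-- The local comparison theorem: through an expansion `φ` with `φ t = X`, the Hasse derivatives with
respect to `t` become the Hasse derivatives of Laurent series. -/
theorem expansion_hasseD (hK : IsFunctionField k K) (φ : K →ₐ[k] F⸨X⸩) {t : K}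
    (ht : φ t = HahnSeries.single 1 1) {H : K →ₐ[k] PowerSeries K} (hH : IsHasseFamily t H)
    (y : K) (n : ℕ) :
    φ (hasseD H n y) = LaurentSeries.hasseDeriv F n (φ y) := by
  have := isAlgebraic_of_isHasseFamily hK hH
  let A : K →+* PowerSeries (F⸨X⸩) :=
    (PowerSeries.map (φ : K →+* F⸨X⸩)).comp (H : K →+* PowerSeries K)
  let B : K →+* PowerSeries (F⸨X⸩) := LSTaylor.TL.comp (φ : K →+* F⸨X⸩)
  have key : A = B := by
    apply ringHom_ext_of_eq_on_gen (k := k) t
    · intro z
      simp only [A, B, RingHom.comp_apply, RingHom.coe_coe]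
      rw [LSTaylor.constantCoeff_TL, ← PowerSeries.coeff_zero_eq_constantCoeff_apply,
        PowerSeries.coeff_map, PowerSeries.coeff_zero_eq_constantCoeff_apply, hH.2 z]
      rfl
    · intro c
      simp only [A, B, RingHom.comp_apply, RingHom.coe_coe]
      rw [H.commutes, PowerSeries.algebraMap_apply, PowerSeries.map_C, RingHom.coe_coe,
        LocRes.map_algebraMap, LSTaylor.TL_C]
    · simp only [A, B, RingHom.comp_apply, RingHom.coe_coe]
      rw [hH.1, map_add, PowerSeries.map_C, PowerSeries.map_X, RingHom.coe_coe, ht, LSTaylor.TL_X]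
  have h1 := congrArg (PowerSeries.coeff n) (congrFun (congrArg DFunLike.coe key) y)
  simp only [A, B, RingHom.comp_apply, RingHom.coe_coe] at h1
  rw [PowerSeries.coeff_map, LSTaylor.coeff_TL] at h1
  exact h1

end Groth.Agent.Helper5.Hs
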