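import Groth.Agent.Helper5.FFExpand2
import Groth.Agent.Helper5.HasseLocal

set_option autoImplicit false

namespace Groth.Agent.Helper5.Hs
open FunFld LocRes LaurentSeries

variable {k K : Type*} [Field k] [Field K] [Algebra k K]

theorem val_hasseD_le (hK : IsFunctionField k K) (P : Place k K) (hP : P.deg = 1) {t : K}
    (ht : P.1 t = WithZero.exp (-1 : ℤ)) {H : K →ₐ[k] PowerSeries K} (hH : IsHasseFamily t H)
    (y : K) (a : ℤ) (hy : P.1 y ≤ WithZero.exp (-a)) (i : ℕ) :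
    P.1 (hasseD H i y) ≤ WithZero.exp (-(a - i)) := by
  rw [Ex.val_le_iff_coeff P hP ht] at hy ⊢
  intro n hn
  rw [expansion_hasseD hK (Ex.Φ P hP ht) (Ex.Φ_t P hP ht) hH y i, LaurentSeries.hasseDeriv_coeff,
    hy (n + i) (by omega), smul_zero]

theorem evalP_hasseD (hK : IsFunctionField k K) (P : Place k K) (hP : P.deg = 1) {t : K}
    (ht : P.1 t = WithZero.exp (-1 : ℤ)) {H : K →ₐ[k] PowerSeries K} (hH : IsHasseFamily t H)
    (y : K) (a : ℤ) (hy : P.1 y ≤ WithZero.exp (-a)) (i : ℕ) :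
    evalP P (hasseD H i y * t ^ (-(a - i))) =
      ((Ring.choose a i : ℤ) : IsLocalRing.ResidueField P.O) * evalP P (y * t ^ (-a)) := by
  rw [Ex.evalP_mul_zpow P hP ht _ _ (val_hasseD_le hK P hP ht hH y a hy i),
    Ex.evalP_mul_zpow P hP ht _ _ hy,
    expansion_hasseD hK (Ex.Φ P hP ht) (Ex.Φ_t P hP ht) hH y i, LaurentSeries.hasseDeriv_coeff]
  have : a - (i : ℤ) + i = a := by ring
  rw [this, zsmul_eq_mul, map_mul, map_intCast]

theorem coeff_Φ_of_le (P : Place k K) (hP : P.deg = 1) {t : K}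
    (ht : P.1 t = WithZero.exp (-1 : ℤ)) {y : K} (hy : P.1 y ≤ 1) (n : ℤ) :
    (Ex.Φ P hP ht y).coeff n = if n < 0 then 0 else PowerSeries.coeff n.natAbs (Ex.Φ₀ P t y) := by
  rw [Ex.Φ_of_le P hP ht hy, PowerSeries.coeff_coe]

theorem val_hasseD_le_one (hK : IsFunctionField k K) (P : Place k K) (hP : P.deg = 1) {t : K}
    (ht : P.1 t = WithZero.exp (-1 : ℤ)) {H : K →ₐ[k] PowerSeries K} (hH : IsHasseFamily t H)
    (y : K) (hy : P.1 y ≤ 1) (i : ℕ) : P.1 (hasseD H i y) ≤ 1 := by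
  suffices h : P.1 (hasseD H i y) ≤ WithZero.exp (-(0 : ℤ)) by simpa using h
  rw [Ex.val_le_iff_coeff P hP ht]
  intro n hn
  rw [expansion_hasseD hK (Ex.Φ P hP ht) (Ex.Φ_t P hP ht) hH y i, LaurentSeries.hasseDeriv_coeff]
  by_cases hni : n + i < 0
  · rw [coeff_Φ_of_le P hP ht hy, if_pos hni, smul_zero]
  · obtain ⟨q, hq⟩ : ∃ q : ℕ, n + i = q := ⟨(n + i).toNat, by omega⟩
    rw [hq, Ring.choose_natCast, Nat.choose_eq_zero_of_lt (by omega)]
    simp

theorem evalP_hasseD_of_le_one (hK : IsFunctionField k K) (P : Place k K) (hP : P.deg = 1) {t : K}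
    (ht : P.1 t = WithZero.exp (-1 : ℤ)) {H : K →ₐ[k] PowerSeries K} (hH : IsHasseFamily t H)
    (y : K) (hy : P.1 y ≤ 1) (i : ℕ) :
    evalP P (hasseD H i y) =
      algebraMap k (IsLocalRing.ResidueField P.O) (PowerSeries.coeff i (Ex.Φ₀ P t y)) := by
  have h1 := val_hasseD_le_one hK P hP ht hH y hy i
  have h2 := Ex.evalP_mul_zpow P hP ht (hasseD H i y) 0 (by simpa using h1)
  rw [neg_zero, zpow_zero, mul_one] at h2
  rw [h2, expansion_hasseD hK (Ex.Φ P hP ht) (Ex.Φ_t P hP ht) hH y i,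
    LaurentSeries.hasseDeriv_coeff, coeff_Φ_of_le P hP ht hy, if_neg (by omega)]
  have h3 : ((0 : ℤ) + (i : ℤ)) = ((i : ℕ) : ℤ) := by simp
  rw [h3, Ring.choose_natCast, Nat.choose_self, Int.natAbs_natCast]
  simp

end Groth.Agent.Helper5.Hs
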