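import Groth.Prelude.Def_W4bk4goldsch45p2
import Mathlib

set_option autoImplicit false

namespace Groth.Agent.Helper5.Hs
open FunFld LocRes

variable {k K : Type*} [Field k] [Field K] [Algebra k K]

theorem hasseD_zero {s : K} {H : K →ₐ[k] PowerSeries K} (hH : IsHasseFamily s H) (y : K) :
    hasseD H 0 y = y := by
  rw [hasseD_apply, PowerSeries.coeff_zero_eq_constantCoeff_apply]
  exact hH.2 y

theorem hasseD_add (H : K →ₐ[k] PowerSeries K) (j : ℕ) (x y : K) :
    hasseD H j (x + y) = hasseD H j x + hasseD H j y := by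
  simp [hasseD_apply]

theorem hasseD_smul (H : K →ₐ[k] PowerSeries K) (j : ℕ) (c : k) (y : K) :
    hasseD H j (c • y) = c • hasseD H j y := by
  rw [hasseD_apply, hasseD_apply, map_smul, ← algebraMap_smul K c (H y), map_smul,
    algebraMap_smul]

/-- The `j`-th Hasse derivative as a `k`-linear map. -/
noncomputable def hasseDₗ (H : K →ₐ[k] PowerSeries K) (j : ℕ) : K →ₗ[k] K where
  toFun := hasseD H j
  map_add' := hasseD_add H j
  map_smul' := hasseD_smul H j

@[simp] theorem hasseDₗ_apply (H : K →ₐ[k] PowerSeries K) (j : ℕ) (y : K) :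
    hasseDₗ H j y = hasseD H j y := rfl

theorem hasseD_sum (H : K →ₐ[k] PowerSeries K) (j : ℕ) {ι : Type*} (s : Finset ι) (f : ι → K) :
    hasseD H j (∑ i ∈ s, f i) = ∑ i ∈ s, hasseD H j (f i) := by
  simpa only [hasseDₗ_apply] using map_sum (hasseDₗ H j) f s

theorem hasseD_mul (H : K →ₐ[k] PowerSeries K) (j : ℕ) (x y : K) :
    hasseD H j (x * y) = ∑ p ∈ Finset.HasAntidiagonal.antidiagonal j, hasseD H p.1 x * hasseD H p.2 y := by
  simp only [hasseD_apply, map_mul, PowerSeries.coeff_mul]

theorem hasseD_algebraMap (H : K →ₐ[k] PowerSeries K) (j : ℕ) (c : k) :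
    hasseD H j (algebraMap k K c) = if j = 0 then algebraMap k K c else 0 := by
  rw [hasseD_apply, H.commutes, PowerSeries.algebraMap_apply, PowerSeries.coeff_C]

theorem hasseD_one (H : K →ₐ[k] PowerSeries K) (j : ℕ) :
    hasseD H j (1 : K) = if j = 0 then 1 else 0 := by
  rw [hasseD_apply, map_one, PowerSeries.coeff_one]

end Groth.Agent.Helper5.Hs
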