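import Groth.Agent.Helper5.HasseUniq
import Groth.Agent.Helper5.FFBasic

set_option autoImplicit false

namespace Groth.Agent.Helper5.Hs
open FunFld LocRes
open scoped IntermediateField

variable {k K : Type*} [Field k] [Field K] [Algebra k K]

theorem transcendental_of_isHasseFamily (hK : IsFunctionField k K) {t : K}
    {H : K →ₐ[k] PowerSeries K} (hH : IsHasseFamily t H) : Transcendental k t := by
  intro halg
  obtain ⟨c, rfl⟩ := hK.2 t halg
  have h1 := hH.1
  rw [H.commutes, PowerSeries.algebraMap_apply] at h1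
  have h2 : (PowerSeries.X : PowerSeries K) = 0 := by
    have := sub_eq_zero.mpr h1.symm
    simpa using this
  exact PowerSeries.X_ne_zero h2

theorem isAlgebraic_of_isHasseFamily (hK : IsFunctionField k K) {t : K}
    {H : K →ₐ[k] PowerSeries K} (hH : IsHasseFamily t H) : Algebra.IsAlgebraic k⟮t⟯ K := by
  have := FF.finiteDimensional_adjoin hK (transcendental_of_isHasseFamily hK hH)
  exact Algebra.IsAlgebraic.of_finite _ _

theorem constantCoeff_subst_of_constantCoeff_zero {θ : PowerSeries K}
    (hθ : PowerSeries.constantCoeff θ = 0) (f : PowerSeries K) :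
    PowerSeries.constantCoeff (PowerSeries.subst θ f) = PowerSeries.constantCoeff f := by
  have hs : PowerSeries.HasSubst θ := PowerSeries.HasSubst.of_constantCoeff_zero' hθ
  have h1 : f = PowerSeries.C (PowerSeries.constantCoeff f) +
      PowerSeries.X * PowerSeries.mk (fun n => PowerSeries.coeff (n + 1) f) := by
    ext n
    cases n with
    | zero => simp
    | succ n => simp [PowerSeries.coeff_succ_X_mul]
  conv_lhs => rw [h1]
  rw [PowerSeries.subst_add hs, PowerSeries.subst_mul hs, PowerSeries.subst_X hs]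
  have h2 : PowerSeries.subst θ (PowerSeries.C (PowerSeries.constantCoeff f) : PowerSeries K) =
      PowerSeries.C (PowerSeries.constantCoeff f) := by
    rw [PowerSeries.subst_C]; rfl
  rw [h2, map_add, map_mul, hθ, zero_mul, add_zero, PowerSeries.constantCoeff_C]

/-- The chain rule: the Hasse family for `t` is obtained from the one for `s` by substituting
`θ = Ht s - s`. -/
theorem chain_rule (hK : IsFunctionField k K) {s t : K} {Hs Ht : K →ₐ[k] PowerSeries K}
    (hHs : IsHasseFamily s Hs) (hHt : IsHasseFamily t Ht) (y : K) :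
    Ht y = PowerSeries.subst (Ht s - PowerSeries.C s) (Hs y) := by
  set θ := Ht s - PowerSeries.C s with hθdef
  have hθ : PowerSeries.constantCoeff θ = 0 := by
    rw [hθdef, map_sub, hHt.2 s, PowerSeries.constantCoeff_C, sub_self]
  have hs : PowerSeries.HasSubst θ := PowerSeries.HasSubst.of_constantCoeff_zero' hθ
  have := isAlgebraic_of_isHasseFamily hK hHs
  let B : K →+* PowerSeries K :=
    ((PowerSeries.substAlgHom (R := K) hs : PowerSeries K →ₐ[K] PowerSeries K) : PowerSeries K →+* PowerSeries K).comp
      (Hs : K →+* PowerSeries K)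
  have hB : ∀ z, B z = PowerSeries.subst θ (Hs z) := by
    intro z
    simp only [B, RingHom.comp_apply, RingHom.coe_coe]
    rw [PowerSeries.coe_substAlgHom]
  have key : (Ht : K →+* PowerSeries K) = B := by
    apply ringHom_ext_of_eq_on_gen (k := k) s
    · intro z
      rw [hB, constantCoeff_subst_of_constantCoeff_zero hθ, RingHom.coe_coe, hHt.2, hHs.2]
    · intro c
      rw [hB, RingHom.coe_coe, Ht.commutes, Hs.commutes, PowerSeries.algebraMap_apply,
        PowerSeries.subst_C]
      rfl
    · rw [hB, hHs.1, PowerSeries.subst_add hs, PowerSeries.subst_X hs, PowerSeries.subst_C,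
        RingHom.coe_coe, hθdef]
      show Ht s = PowerSeries.C s + (Ht s - PowerSeries.C s)
      ring
  have := congrFun (congrArg DFunLike.coe key) y
  rw [hB] at this
  exact this

theorem coeff_pow_of_constantCoeff_zero {θ : PowerSeries K}
    (hθ : PowerSeries.constantCoeff θ = 0) (d j : ℕ) :
    PowerSeries.coeff j (θ ^ d) =
      if j < d then 0 else if j = d then (PowerSeries.coeff 1 θ) ^ d else PowerSeries.coeff j (θ ^ d) := by
  obtain ⟨η, hη⟩ : PowerSeries.X ∣ θ := PowerSeries.X_dvd_iff.mpr hθ
  by_cases h1 : j < d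
  · rw [if_pos h1, hη, mul_pow, PowerSeries.coeff_X_pow_mul', if_neg (by omega)]
  · rw [if_neg h1]
    by_cases h2 : j = d
    · rw [if_pos h2, h2, hη, mul_pow, PowerSeries.coeff_X_pow_mul', if_pos le_rfl, Nat.sub_self,
        PowerSeries.coeff_zero_eq_constantCoeff_apply, map_pow]
      congr 1
      rw [show (1 : ℕ) = 0 + 1 from rfl, PowerSeries.coeff_succ_X_mul,
        PowerSeries.coeff_zero_eq_constantCoeff_apply]
    · rw [if_neg h2]

/-- Coefficient form of the chain rule. -/
theorem hasseD_chain (hK : IsFunctionField k K) {s t : K} {Hs Ht : K →ₐ[k] PowerSeries K}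
    (hHs : IsHasseFamily s Hs) (hHt : IsHasseFamily t Ht) (y : K) (j : ℕ) :
    hasseD Ht j y = ∑ d ∈ Finset.range (j + 1),
      hasseD Hs d y * PowerSeries.coeff j ((Ht s - PowerSeries.C s) ^ d) := by
  set θ := Ht s - PowerSeries.C s with hθdef
  have hθ : PowerSeries.constantCoeff θ = 0 := by
    rw [hθdef, map_sub, hHt.2 s, PowerSeries.constantCoeff_C, sub_self]
  have hs : PowerSeries.HasSubst θ := PowerSeries.HasSubst.of_constantCoeff_zero' hθ
  rw [hasseD_apply, chain_rule hK hHs hHt y, PowerSeries.coeff_subst' hs]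
  rw [finsum_eq_sum_of_support_subset]
  · rfl
  · intro d hd
    simp only [Function.mem_support, ne_eq] at hd
    simp only [Finset.coe_range, Set.mem_Iio]
    by_contra hlt
    apply hd
    rw [coeff_pow_of_constantCoeff_zero hθ, if_pos (by omega), smul_zero]

theorem hasseD_one_mul_hasseD_one (hK : IsFunctionField k K) {s t : K}
    {Hs Ht : K →ₐ[k] PowerSeries K}
    (hHs : IsHasseFamily s Hs) (hHt : IsHasseFamily t Ht) :
    hasseD Hs 1 t * hasseD Ht 1 s = 1 := by
  have h := hasseD_chain hK hHs hHt t 1
  have h1 : hasseD Ht 1 t = 1 := by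
    rw [hasseD_apply, hHt.1]; simp
  rw [h1, Finset.sum_range_succ, Finset.sum_range_one, pow_zero, pow_one] at h
  simp only [PowerSeries.coeff_one, one_ne_zero, if_false, mul_zero, zero_add] at h
  rw [h]
  congr 1
  rw [hasseD_apply, map_sub, PowerSeries.coeff_C, if_neg one_ne_zero, sub_zero]

theorem hasseD_one_ne_zero (hK : IsFunctionField k K) {s t : K}
    {Hs Ht : K →ₐ[k] PowerSeries K}
    (hHs : IsHasseFamily s Hs) (hHt : IsHasseFamily t Ht) : hasseD Ht 1 s ≠ 0 := by
  intro h
  have := hasseD_one_mul_hasseD_one hK hHs hHt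
  rw [h, mul_zero] at this
  exact zero_ne_one this

end Groth.Agent.Helper5.Hs
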