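import Groth.Agent.Helper5.PSInv
import Groth.Agent.Helper5.HasseLocal

set_option autoImplicit false

namespace Groth.Agent.Helper5.Hs
open FunFld LocRes LaurentSeries HahnSeries
open scoped IntermediateField

variable {k K F : Type*} [Field k] [Field K] [Algebra k K] [Field F] [Algebra k F]

/-- Changing the variable of a Hasse family by substitution with a compositional inverse. -/
theorem exists_isHasseFamily_of_hasseD_one_ne_zero {s t : K} {Hs : K →ₐ[k] PowerSeries K}
    (hHs : IsHasseFamily s Hs) (h1 : hasseD Hs 1 t ≠ 0) :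
    ∃ Ht : K →ₐ[k] PowerSeries K, IsHasseFamily t Ht := by
  set u : PowerSeries K := Hs t - PowerSeries.C t with hu
  have hu0 : PowerSeries.constantCoeff u = 0 := by
    rw [hu, map_sub, hHs.2 t, PowerSeries.constantCoeff_C, sub_self]
  have hu1 : PowerSeries.coeff 1 u ≠ 0 := by
    rw [hu, map_sub, PowerSeries.coeff_C, if_neg one_ne_zero, sub_zero]
    exact h1
  obtain ⟨w, hw0, hwu, -⟩ := PSInv.exists_comp_inverse hu0 hu1
  have hsw : PowerSeries.HasSubst w := PowerSeries.HasSubst.of_constantCoeff_zero' hw0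
  refine ⟨((PowerSeries.substAlgHom (R := K) hsw).restrictScalars k).comp Hs, ?_, ?_⟩
  · show PowerSeries.substAlgHom (R := K) hsw (Hs t) = _
    rw [PowerSeries.coe_substAlgHom]
    have : Hs t = PowerSeries.C t + u := by rw [hu]; ring
    rw [this, PowerSeries.subst_add hsw, hwu, PowerSeries.subst_C]
    rfl
  · intro y
    show PowerSeries.constantCoeff (PowerSeries.substAlgHom (R := K) hsw (Hs y)) = y
    rw [PowerSeries.coe_substAlgHom, constantCoeff_subst_of_constantCoeff_zero hw0, hHs.2]

/-- Through an expansion `φ` in which `t` becomes the variable, the first Hasse derivative of `t` with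
respect to any `s` is nonzero. -/
theorem hasseD_one_ne_zero_of_expansion (hK : IsFunctionField k K) (φ : K →ₐ[k] F⸨X⸩) {t : K}
    (ht : φ t = HahnSeries.single 1 1) {s : K} {Hs : K →ₐ[k] PowerSeries K}
    (hHs : IsHasseFamily s Hs) : hasseD Hs 1 t ≠ 0 := by
  have := isAlgebraic_of_isHasseFamily hK hHs
  set σ : F⸨X⸩ := φ s with hσ
  set θ : PowerSeries (F⸨X⸩) := LSTaylor.TL σ - PowerSeries.C σ with hθ
  have hθ0 : PowerSeries.constantCoeff θ = 0 := by
    rw [hθ, map_sub, LSTaylor.constantCoeff_TL, PowerSeries.constantCoeff_C, sub_self]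
  have hsθ : PowerSeries.HasSubst θ := PowerSeries.HasSubst.of_constantCoeff_zero' hθ0
  let A : K →+* PowerSeries (F⸨X⸩) :=
    ((PowerSeries.substAlgHom (R := F⸨X⸩) hsθ : PowerSeries (F⸨X⸩) →ₐ[F⸨X⸩] PowerSeries (F⸨X⸩)) :
      PowerSeries (F⸨X⸩) →+* PowerSeries (F⸨X⸩)).comp
      ((PowerSeries.map (φ : K →+* F⸨X⸩)).comp (Hs : K →+* PowerSeries K))
  let B : K →+* PowerSeries (F⸨X⸩) := LSTaylor.TL.comp (φ : K →+* F⸨X⸩)
  have hA : ∀ z, A z = PowerSeries.subst θ (PowerSeries.map (φ : K →+* F⸨X⸩) (Hs z)) := by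
    intro z
    simp only [A, RingHom.comp_apply, RingHom.coe_coe]
    rw [PowerSeries.coe_substAlgHom]
  have key : A = B := by
    apply ringHom_ext_of_eq_on_gen (k := k) s
    · intro z
      rw [hA, constantCoeff_subst_of_constantCoeff_zero hθ0]
      simp only [B, RingHom.comp_apply, RingHom.coe_coe]
      rw [LSTaylor.constantCoeff_TL, ← PowerSeries.coeff_zero_eq_constantCoeff_apply,
        PowerSeries.coeff_map, PowerSeries.coeff_zero_eq_constantCoeff_apply, hHs.2 z]
      rfl
    · intro c
      rw [hA]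
      simp only [B, RingHom.comp_apply, RingHom.coe_coe]
      rw [Hs.commutes, PowerSeries.algebraMap_apply, PowerSeries.map_C, RingHom.coe_coe,
        LocRes.map_algebraMap, LSTaylor.TL_C, PowerSeries.subst_C]
      rfl
    · rw [hA]
      simp only [B, RingHom.comp_apply, RingHom.coe_coe]
      rw [hHs.1, map_add, PowerSeries.map_C, PowerSeries.map_X, RingHom.coe_coe,
        PowerSeries.subst_add hsθ, PowerSeries.subst_X hsθ, PowerSeries.subst_C, hθ]
      show PowerSeries.C σ + (LSTaylor.TL σ - PowerSeries.C σ) = LSTaylor.TL σ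
      ring
  have h1 := congrArg (PowerSeries.coeff 1) (congrFun (congrArg DFunLike.coe key) t)
  rw [hA, PSInv.coeff_one_subst hθ0] at h1
  simp only [B, RingHom.comp_apply, RingHom.coe_coe] at h1
  rw [ht, LSTaylor.TL_X, map_add, PowerSeries.coeff_C, if_neg one_ne_zero, zero_add,
    PowerSeries.coeff_one_X, PowerSeries.coeff_map] at h1
  intro h0
  rw [hasseD_apply] at h0
  rw [h0, RingHom.coe_coe, map_zero, zero_mul] at h1
  exact zero_ne_one h1

end Groth.Agent.Helper5.Hs
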