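import Mathlib

set_option autoImplicit false

namespace Groth.Agent.Helper5.PSTaylor
open PowerSeries

variable {R : Type*} [CommRing R]

/-- The `m`-th Hasse derivative of a power series. -/
noncomputable def hd (m : ℕ) (f : PowerSeries R) : PowerSeries R :=
  PowerSeries.mk fun d => ((d + m).choose m : R) * PowerSeries.coeff (d + m) f

@[simp] theorem coeff_hd (m d : ℕ) (f : PowerSeries R) :
    PowerSeries.coeff d (hd m f) = ((d + m).choose m : R) * PowerSeries.coeff (d + m) f := by
  simp [hd]

theorem coeff_hd_eq_trunc (m d N : ℕ) (h : d + m < N) (f : PowerSeries R) :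
    PowerSeries.coeff d (hd m f) = (Polynomial.hasseDeriv m (PowerSeries.trunc N f)).coeff d := by
  rw [coeff_hd, Polynomial.hasseDeriv_coeff, PowerSeries.coeff_trunc, if_pos h]

theorem hd_zero (f : PowerSeries R) : hd 0 f = f := by
  ext d; simp

theorem hd_add (m : ℕ) (f g : PowerSeries R) : hd m (f + g) = hd m f + hd m g := by
  ext d; simp [mul_add]

theorem hd_mul (m : ℕ) (f g : PowerSeries R) :
    hd m (f * g) = ∑ ij ∈ Finset.HasAntidiagonal.antidiagonal m, hd ij.1 f * hd ij.2 g := by
  ext d
  set N := d + m + 1 with hN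
  rw [coeff_hd, PowerSeries.coeff_mul_eq_coeff_trunc_mul_trunc f g (show d + m < N by omega),
    ← Polynomial.coe_mul, Polynomial.coeff_coe, ← Polynomial.hasseDeriv_coeff,
    Polynomial.hasseDeriv_mul, Polynomial.finsetSum_coeff, map_sum]
  apply Finset.sum_congr rfl
  rintro ⟨i, j⟩ hij
  rw [Finset.HasAntidiagonal.mem_antidiagonal] at hij
  simp only at hij
  rw [Polynomial.coeff_mul, PowerSeries.coeff_mul]
  apply Finset.sum_congr rfl
  rintro ⟨a, b⟩ hab
  rw [Finset.HasAntidiagonal.mem_antidiagonal] at hab
  simp only at hab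
  rw [coeff_hd_eq_trunc i a N (by omega), coeff_hd_eq_trunc j b N (by omega)]

theorem hd_one (m : ℕ) : hd m (1 : PowerSeries R) = if m = 0 then 1 else 0 := by
  ext d
  rw [coeff_hd, PowerSeries.coeff_one]
  by_cases hm : m = 0
  · subst hm
    simp [PowerSeries.coeff_one]
  · rw [if_neg hm, if_neg (by omega), mul_zero, map_zero]

theorem hd_C (m : ℕ) (r : R) : hd m (PowerSeries.C r) = if m = 0 then PowerSeries.C r else 0 := by
  ext d
  rw [coeff_hd, PowerSeries.coeff_C]
  by_cases hm : m = 0
  · subst hm
    simp [PowerSeries.coeff_C]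
  · rw [if_neg hm, if_neg (by omega), mul_zero, map_zero]

theorem hd_X (m : ℕ) : hd m (PowerSeries.X : PowerSeries R) =
    if m = 0 then PowerSeries.X else if m = 1 then 1 else 0 := by
  ext d
  rw [coeff_hd, PowerSeries.coeff_X]
  by_cases hm : m = 0
  · subst hm
    simp [PowerSeries.coeff_X]
  · rw [if_neg hm]
    by_cases hm1 : m = 1
    · subst hm1
      rw [if_pos rfl, PowerSeries.coeff_one]
      by_cases hd : d = 0
      · subst hd; simp
      · rw [if_neg (by omega), if_neg hd, mul_zero]
    · rw [if_neg hm1, if_neg (by omega), mul_zero, map_zero]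

/-- The Taylor homomorphism `f(X) ↦ f(X + T)`, with values in power series in `T` over power series
in `X`. -/
noncomputable def taylor : PowerSeries R →+* PowerSeries (PowerSeries R) where
  toFun f := PowerSeries.mk fun m => hd m f
  map_one' := by
    ext m : 1
    rw [PowerSeries.coeff_mk, hd_one, PowerSeries.coeff_one]
  map_mul' f g := by
    ext m : 1
    rw [PowerSeries.coeff_mk, hd_mul, PowerSeries.coeff_mul]
    apply Finset.sum_congr rfl
    intro ij _
    rw [PowerSeries.coeff_mk, PowerSeries.coeff_mk]
  map_zero' := by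
    ext m : 1
    rw [PowerSeries.coeff_mk, map_zero]
    ext d
    simp
  map_add' f g := by
    ext m : 1
    rw [PowerSeries.coeff_mk, hd_add, map_add, PowerSeries.coeff_mk, PowerSeries.coeff_mk]

@[simp] theorem coeff_taylor (m : ℕ) (f : PowerSeries R) :
    PowerSeries.coeff m (taylor f) = hd m f := by
  simp [taylor]

theorem constantCoeff_taylor (f : PowerSeries R) :
    PowerSeries.constantCoeff (taylor f) = f := by
  rw [← PowerSeries.coeff_zero_eq_constantCoeff_apply, coeff_taylor, hd_zero]

theorem taylor_C (r : R) : taylor (PowerSeries.C r) = PowerSeries.C (PowerSeries.C r) := by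
  ext m : 1
  rw [coeff_taylor, hd_C, PowerSeries.coeff_C]

theorem taylor_X : taylor (PowerSeries.X : PowerSeries R) =
    PowerSeries.C PowerSeries.X + PowerSeries.X := by
  ext m : 1
  rw [coeff_taylor, hd_X, map_add, PowerSeries.coeff_C, PowerSeries.coeff_X]
  by_cases hm : m = 0
  · subst hm; simp
  · rw [if_neg hm, if_neg hm, zero_add]

end Groth.Agent.Helper5.PSTaylor
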