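import Groth.Agent.Helper5.HasseChain
import Groth.Agent.Helper5.PSTaylor

set_option autoImplicit false

namespace Groth.Agent.Helper5.Hs
open FunFld LocRes
open scoped IntermediateField

variable {k K : Type*} [Field k] [Field K] [Algebra k K]

/-- Iterativity in power series form: applying `H` to the coefficients of `H y` is the Taylor shift. -/
theorem map_H_eq_hd (hK : IsFunctionField k K) {s : K} {H : K →ₐ[k] PowerSeries K}
    (hH : IsHasseFamily s H) (y : K) (m : ℕ) :
    H (hasseD H m y) = PSTaylor.hd m (H y) := by
  have := isAlgebraic_of_isHasseFamily hK hH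
  let ι : PowerSeries K →+* LaurentSeries K := HahnSeries.ofPowerSeries ℤ K
  have hι : Function.Injective ι := HahnSeries.ofPowerSeries_injective
  let A : K →+* PowerSeries (LaurentSeries K) :=
    (PowerSeries.map (ι.comp (H : K →+* PowerSeries K))).comp (H : K →+* PowerSeries K)
  let B : K →+* PowerSeries (LaurentSeries K) :=
    (PowerSeries.map ι).comp (PSTaylor.taylor.comp (H : K →+* PowerSeries K))
  have key : A = B := by
    apply ringHom_ext_of_eq_on_gen (k := k) s
    · intro z
      simp only [A, B, RingHom.comp_apply, RingHom.coe_coe]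
      rw [← PowerSeries.coeff_zero_eq_constantCoeff_apply, ← PowerSeries.coeff_zero_eq_constantCoeff_apply,
        PowerSeries.coeff_map, PowerSeries.coeff_map, PSTaylor.coeff_taylor, PSTaylor.hd_zero,
        PowerSeries.coeff_zero_eq_constantCoeff_apply, hH.2 z]
      rfl
    · intro c
      simp only [A, B, RingHom.comp_apply, RingHom.coe_coe]
      rw [H.commutes, PowerSeries.algebraMap_apply, PSTaylor.taylor_C, PowerSeries.map_C,
        PowerSeries.map_C]
      simp only [RingHom.comp_apply, RingHom.coe_coe]
      rw [H.commutes, PowerSeries.algebraMap_apply]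
    · simp only [A, B, RingHom.comp_apply, RingHom.coe_coe]
      rw [hH.1, map_add, map_add (PSTaylor.taylor), PSTaylor.taylor_C, PSTaylor.taylor_X, map_add,
        map_add, PowerSeries.map_C, PowerSeries.map_C, PowerSeries.map_C, PowerSeries.map_X,
        PowerSeries.map_X]
      simp only [RingHom.comp_apply, RingHom.coe_coe]
      rw [hH.1, map_add, map_add, add_assoc]
  have h1 := congrArg (PowerSeries.coeff m) (congrFun (congrArg DFunLike.coe key) y)
  simp only [A, B, RingHom.comp_apply, RingHom.coe_coe] at h1
  rw [PowerSeries.coeff_map, PowerSeries.coeff_map, PSTaylor.coeff_taylor] at h1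
  exact hι h1

/-- Iterativity of Hasse derivatives. -/
theorem hasseD_hasseD (hK : IsFunctionField k K) {s : K} {H : K →ₐ[k] PowerSeries K}
    (hH : IsHasseFamily s H) (y : K) (m d : ℕ) :
    hasseD H d (hasseD H m y) = ((d + m).choose m : K) * hasseD H (d + m) y := by
  rw [hasseD_apply, map_H_eq_hd hK hH, PSTaylor.coeff_hd]
  rfl

/-- The constants of a Hasse family are the elements of `k`. -/
theorem mem_range_of_hasseD_eq_zero (hK : IsFunctionField k K) {s : K} {H : K →ₐ[k] PowerSeries K}
    (hH : IsHasseFamily s H) (a : K) (ha : ∀ m, 1 ≤ m → hasseD H m a = 0) :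
    a ∈ Set.range (algebraMap k K) := by
  apply hK.2
  by_contra hna
  have htr : Transcendental k a := hna
  have : Algebra.IsAlgebraic k⟮a⟯ K := by
    have := FF.finiteDimensional_adjoin hK htr
    exact Algebra.IsAlgebraic.of_finite _ _
  have hHa : H a = PowerSeries.C a := by
    ext m
    rw [PowerSeries.coeff_C]
    by_cases hm : m = 0
    · rw [if_pos hm, hm, PowerSeries.coeff_zero_eq_constantCoeff_apply, hH.2]
    · rw [if_neg hm]
      exact ha m (by omega)
  have key : (H : K →+* PowerSeries K) = (PowerSeries.C : K →+* PowerSeries K) := by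
    apply ringHom_ext_of_eq_on_gen (k := k) a
    · intro z
      rw [RingHom.coe_coe, hH.2, PowerSeries.constantCoeff_C]
    · intro c
      rw [RingHom.coe_coe, H.commutes, PowerSeries.algebraMap_apply]
    · exact hHa
  have h1 := congrFun (congrArg DFunLike.coe key) s
  rw [RingHom.coe_coe, hH.1] at h1
  have h2 : (PowerSeries.X : PowerSeries K) = 0 := by
    have := sub_eq_zero.mpr h1
    simpa using this
  exact PowerSeries.X_ne_zero h2

end Groth.Agent.Helper5.Hs
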