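import Groth.Agent.Helper5.HasseExist

set_option autoImplicit false

namespace Groth.Agent.Helper5.Hs
open FunFld LocRes LaurentSeries HahnSeries
open scoped IntermediateField

variable {k K F : Type*} [Field k] [Field K] [Algebra k K] [Field F] [Algebra k F]

/-- The Taylor expansion of `Ψ y` is obtained from the Hasse family of `s` by substitution. -/
theorem TL_expansion_eq_subst (hK : IsFunctionField k K) (Ψ : K →ₐ[k] F⸨X⸩) {s : K}
    {Hs : K →ₐ[k] PowerSeries K} (hHs : IsHasseFamily s Hs) (y : K) :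
    LSTaylor.TL (Ψ y) = PowerSeries.subst (LSTaylor.TL (Ψ s) - PowerSeries.C (Ψ s))
      (PowerSeries.map (Ψ : K →+* F⸨X⸩) (Hs y)) := by
  have := isAlgebraic_of_isHasseFamily hK hHs
  set σ : F⸨X⸩ := Ψ s with hσ
  set θ : PowerSeries (F⸨X⸩) := LSTaylor.TL σ - PowerSeries.C σ with hθ
  have hθ0 : PowerSeries.constantCoeff θ = 0 := by
    rw [hθ, map_sub, LSTaylor.constantCoeff_TL, PowerSeries.constantCoeff_C, sub_self]
  have hsθ : PowerSeries.HasSubst θ := PowerSeries.HasSubst.of_constantCoeff_zero' hθ0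
  let A : K →+* PowerSeries (F⸨X⸩) :=
    ((PowerSeries.substAlgHom (R := F⸨X⸩) hsθ : PowerSeries (F⸨X⸩) →ₐ[F⸨X⸩] PowerSeries (F⸨X⸩)) :
      PowerSeries (F⸨X⸩) →+* PowerSeries (F⸨X⸩)).comp
      ((PowerSeries.map (Ψ : K →+* F⸨X⸩)).comp (Hs : K →+* PowerSeries K))
  let B : K →+* PowerSeries (F⸨X⸩) := LSTaylor.TL.comp (Ψ : K →+* F⸨X⸩)
  have hA : ∀ z, A z = PowerSeries.subst θ (PowerSeries.map (Ψ : K →+* F⸨X⸩) (Hs z)) := by
    intro z
    simp only [A, RingHom.comp_apply, RingHom.coe_coe]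
    rw [PowerSeries.coe_substAlgHom]
  have key : A = B := by
    apply ringHom_ext_of_eq_on_gen (k := k) s
    · intro z
      rw [hA, constantCoeff_subst_of_constantCoeff_zero hθ0]
      simp only [B, RingHom.comp_apply, RingHom.coe_coe]
      rw [LSTaylor.constantCoeff_TL, ← PowerSeries.coeff_zero_eq_constantCoeff_apply,
        PowerSeries.coeff_map, PowerSeries.coeff_zero_eq_constantCoeff_apply, hHs.2 z]
      rfl
    · intro c
      rw [hA]
      simp only [B, RingHom.comp_apply, RingHom.coe_coe]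
      rw [Hs.commutes, PowerSeries.algebraMap_apply, PowerSeries.map_C, RingHom.coe_coe,
        LocRes.map_algebraMap, LSTaylor.TL_C, PowerSeries.subst_C]
      rfl
    · rw [hA]
      simp only [B, RingHom.comp_apply, RingHom.coe_coe]
      rw [hHs.1, map_add, PowerSeries.map_C, PowerSeries.map_X, RingHom.coe_coe,
        PowerSeries.subst_add hsθ, PowerSeries.subst_X hsθ, PowerSeries.subst_C, hθ]
      show PowerSeries.C σ + (LSTaylor.TL σ - PowerSeries.C σ) = LSTaylor.TL σ
      ring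
  have h1 := congrFun (congrArg DFunLike.coe key) y
  rw [hA] at h1
  exact h1.symm

/-- The chain rule through an expansion: `(Ψ y)' = Ψ (D_s y) · (Ψ s)'`. -/
theorem D_expansion (hK : IsFunctionField k K) (Ψ : K →ₐ[k] F⸨X⸩) {s : K}
    {Hs : K →ₐ[k] PowerSeries K} (hHs : IsHasseFamily s Hs) (y : K) :
    LocRes.D F (Ψ y) = Ψ (hasseD Hs 1 y) * LocRes.D F (Ψ s) := by
  have hθ0 : PowerSeries.constantCoeff (LSTaylor.TL (Ψ s) - PowerSeries.C (Ψ s)) = 0 := by
    rw [map_sub, LSTaylor.constantCoeff_TL, PowerSeries.constantCoeff_C, sub_self]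
  have h := congrArg (PowerSeries.coeff 1) (TL_expansion_eq_subst hK Ψ hHs y)
  rw [PSInv.coeff_one_subst hθ0, LSTaylor.coeff_TL, PowerSeries.coeff_map, map_sub,
    LSTaylor.coeff_TL, PowerSeries.coeff_C, if_neg one_ne_zero, sub_zero] at h
  rw [LocRes.D_apply, LocRes.D_apply, LaurentSeries.derivative_apply, LaurentSeries.derivative_apply]
  exact h

end Groth.Agent.Helper5.Hs
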