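import Groth.Agent.Helper5.HasseLocal2
import Groth.Agent.Helper5.FFKp2
import Groth.Agent.Helper5.FFGeom2

set_option autoImplicit false

namespace Groth.Agent.Helper5.Hs
open FunFld LocRes
open scoped IntermediateField

universe u v
variable {k : Type u} {K : Type v} [Field k] [Field K] [Algebra k K]

/-- The first Hasse derivative as a derivation. -/
noncomputable def hasseDer {s : K} {H : K →ₐ[k] PowerSeries K} (hH : IsHasseFamily s H) :
    Derivation k K K where
  toLinearMap := hasseDₗ H 1
  map_one_eq_zero' := by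
    show hasseD H 1 (1 : K) = 0
    rw [hasseD_one, if_neg one_ne_zero]
  leibniz' a b := by
    show hasseD H 1 (a * b) = a • hasseD H 1 b + b • hasseD H 1 a
    rw [hasseD_mul, Finset.Nat.sum_antidiagonal_eq_sum_range_succ_mk, Finset.sum_range_succ,
      Finset.sum_range_one]
    simp only [Nat.sub_zero, Nat.sub_self, hasseD_zero hH, smul_eq_mul]
    ring

@[simp] theorem hasseDer_apply {s : K} {H : K →ₐ[k] PowerSeries K} (hH : IsHasseFamily s H) (y : K) :
    hasseDer hH y = hasseD H 1 y := rfl

theorem hasseD_one_self {s : K} {H : K →ₐ[k] PowerSeries K} (hH : IsHasseFamily s H) :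
    hasseD H 1 s = 1 := by
  rw [hasseD_apply, hH.1]; simp

theorem D_ne_zero_of_isHasseFamily {s : K} {H : K →ₐ[k] PowerSeries K} (hH : IsHasseFamily s H) :
    KaehlerDifferential.D k K s ≠ 0 := by
  intro h0
  have h1 := Derivation.liftKaehlerDifferential_comp_D (hasseDer hH) s
  rw [h0, map_zero, hasseDer_apply, hasseD_one_self hH] at h1
  exact zero_ne_one h1

theorem isSeparable_of_isHasseFamily [PerfectField k] (hK : IsFunctionField k K) {s : K}
    {H : K →ₐ[k] PowerSeries K} (hH : IsHasseFamily s H) : Algebra.IsSeparable k⟮s⟯ K :=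
  FF.isSeparable_of_D_ne_zero hK (FF.isGeometric_of_perfectField k K hK)
    (D_ne_zero_of_isHasseFamily hH)

end Groth.Agent.Helper5.Hs
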