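import Groth.Agent.Helper5.HasseBasic

set_option autoImplicit false

namespace Groth.Agent.Helper5.Hs
open Polynomial

section
variable {F K L : Type*} [Field F] [Field K] [Field L] [Algebra F K]

theorem exists_pow_isSeparable (q : ℕ) [ExpChar F q] (x : K) (hx : IsIntegral F x) :
    ∃ n : ℕ, IsSeparable F (x ^ q ^ n) := by
  obtain ⟨g, h1, n, h2⟩ := (minpoly.irreducible hx).hasSeparableContraction q
  refine ⟨n, ?_⟩
  unfold IsSeparable
  apply h1.of_dvd
  apply minpoly.dvd
  have := congr_arg (aeval x) h2
  simpa only [expand_aeval, minpoly.aeval] using this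

/-- Hensel-type uniqueness for a separable element. -/
theorem eq_of_isSeparable (A B : K →+* PowerSeries L)
    (h0 : ∀ y, PowerSeries.constantCoeff (A y) = PowerSeries.constantCoeff (B y))
    (hF : ∀ c : F, A (algebraMap F K c) = B (algebraMap F K c))
    (y : K) (hy : IsSeparable F y) : A y = B y := by
  set f := minpoly F y with hf
  let g : (PowerSeries L)[X] := f.map (B.comp (algebraMap F K))
  have hgA : g = f.map (A.comp (algebraMap F K)) := by
    have : A.comp (algebraMap F K) = B.comp (algebraMap F K) := RingHom.ext hF
    rw [this]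
  have hB : g.eval (B y) = 0 := by
    simp only [g]
    rw [← Polynomial.map_map, Polynomial.eval_map, Polynomial.eval₂_hom,
      Polynomial.eval_map_algebraMap, hf, minpoly.aeval, map_zero]
  have hA : g.eval (A y) = 0 := by
    rw [hgA]
    rw [← Polynomial.map_map, Polynomial.eval_map, Polynomial.eval₂_hom,
      Polynomial.eval_map_algebraMap, hf, minpoly.aeval, map_zero]
  obtain ⟨κ, hκ⟩ := Polynomial.binomExpansion g (B y) (A y - B y)
  rw [add_sub_cancel, hA, hB, zero_add] at hκ
  have h1 : (A y - B y) * (g.derivative.eval (B y) + κ * (A y - B y)) = 0 := by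
    rw [hκ]; ring
  rcases mul_eq_zero.mp h1 with h2 | h2
  · exact sub_eq_zero.mp h2
  · exfalso
    have h3 := congr_arg PowerSeries.constantCoeff h2
    rw [map_add, map_mul, map_sub, h0 y, sub_self, mul_zero, add_zero, map_zero] at h3
    have h4 : g.derivative.eval (B y) = B (aeval y f.derivative) := by
      simp only [g]
      rw [Polynomial.derivative_map, ← Polynomial.map_map, Polynomial.eval_map,
        Polynomial.eval₂_hom, Polynomial.eval_map_algebraMap]
    rw [h4] at h3
    have h5 : aeval y f.derivative ≠ 0 := hy.aeval_derivative_ne_zero (minpoly.aeval F y)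
    have h6 : ((PowerSeries.constantCoeff (R := L)).comp B) (aeval y f.derivative) = 0 := h3
    rw [map_eq_zero] at h6
    exact h5 h6

theorem ringHom_ext_of_algebraic [Algebra.IsAlgebraic F K] (A B : K →+* PowerSeries L)
    (h0 : ∀ y, PowerSeries.constantCoeff (A y) = PowerSeries.constantCoeff (B y))
    (hF : ∀ c : F, A (algebraMap F K c) = B (algebraMap F K c)) : A = B := by
  obtain ⟨q, hq⟩ := ExpChar.exists F
  have : ExpChar K q := expChar_of_injective_algebraMap (algebraMap F K).injective q
  have hinjKL : Function.Injective ((PowerSeries.constantCoeff (R := L)).comp A) :=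
    RingHom.injective _
  have : ExpChar L q := expChar_of_injective_ringHom hinjKL q
  have : ExpChar (PowerSeries L) q :=
    expChar_of_injective_ringHom (PowerSeries.C_injective (R := L)) q
  ext1 y
  obtain ⟨n, hn⟩ := exists_pow_isSeparable (F := F) q y (Algebra.IsIntegral.isIntegral y)
  have h1 := eq_of_isSeparable A B h0 hF (y ^ q ^ n) hn
  rw [map_pow, map_pow] at h1
  exact iterateFrobenius_inj (PowerSeries L) q n h1

end

section
variable {k K L : Type*} [Field k] [Field K] [Field L] [Algebra k K]

/-- The uniqueness theorem: two ring homomorphisms `K → L⟦T⟧` with the same constant-coefficient map,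
agreeing on `k` and on an element `t` over which `K` is algebraic, are equal. -/
theorem ringHom_ext_of_eq_on_gen (t : K) [Algebra.IsAlgebraic (IntermediateField.adjoin k ({t} : Set K)) K]
    (A B : K →+* PowerSeries L)
    (h0 : ∀ y, PowerSeries.constantCoeff (A y) = PowerSeries.constantCoeff (B y))
    (hk : ∀ c : k, A (algebraMap k K c) = B (algebraMap k K c)) (ht : A t = B t) : A = B := by
  apply ringHom_ext_of_algebraic (F := IntermediateField.adjoin k ({t} : Set K)) A B h0
  rintro ⟨x, hx⟩
  show A x = B x
  induction hx using IntermediateField.adjoin_induction with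
  | mem x hx => 
    rw [Set.mem_singleton_iff] at hx
    rw [hx, ht]
  | algebraMap c => exact hk c
  | add x y _ _ hx hy => rw [map_add, map_add, hx, hy]
  | inv x _ hx => 
    by_cases hx0 : x = 0
    · rw [hx0, inv_zero, map_zero, map_zero]
    · have h1 : A x⁻¹ * A x = 1 := by rw [← map_mul, inv_mul_cancel₀ hx0, map_one]
      have h2 : B x⁻¹ * A x = 1 := by rw [hx, ← map_mul, inv_mul_cancel₀ hx0, map_one]
      have h3 : A x ≠ 0 := by
        intro h; rw [h, mul_zero] at h1; exact zero_ne_one h1
      exact mul_right_cancel₀ h3 (h1.trans h2.symm)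
  | mul x y _ _ hx hy => rw [map_mul, map_mul, hx, hy]

end

end Groth.Agent.Helper5.Hs
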