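import Mathlib

set_option autoImplicit false
universe v u v' u'
open CategoryTheory CategoryTheory.Limits CategoryTheory.Pretriangulated CategoryTheory.Triangulated
open ZeroObject

namespace Groth.Agent.Helper5.HeartAb

section General

variable {H : Type u'} [Category.{v'} H] [Preadditive H] {C : Type u} [Category.{v} C] [Preadditive C]
  (ι : H ⥤ C) [ι.Full] [ι.Faithful] [ι.Additive]

omit [ι.Full] in
lemma hasZeroObject_of_essImage [HasZeroObject C] (h0 : ι.essImage (0 : C)) : HasZeroObject H := by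
  obtain ⟨Z, ⟨e⟩⟩ := h0
  refine ⟨Z, ?_⟩
  rw [IsZero.iff_id_eq_zero]
  apply ι.map_injective
  rw [ι.map_id, ι.map_zero]
  exact (IsZero.of_iso (isZero_zero C) e).eq_of_src _ _

lemma hasBinaryBiproducts_of_essImage [HasBinaryBiproducts C]
    (h2 : ∀ X Y : H, ι.essImage (ι.obj X ⊞ ι.obj Y)) : HasBinaryBiproducts H := by
  refine ⟨fun X Y => ?_⟩
  obtain ⟨Z, ⟨e⟩⟩ := h2 X Y
  refine HasBinaryBiproduct.mk ⟨{
      pt := Z
      fst := ι.preimage (e.hom ≫ biprod.fst)
      snd := ι.preimage (e.hom ≫ biprod.snd)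
      inl := ι.preimage (biprod.inl ≫ e.inv)
      inr := ι.preimage (biprod.inr ≫ e.inv)
      inl_fst := ι.map_injective (by simp)
      inl_snd := ι.map_injective (by simp)
      inr_fst := ι.map_injective (by simp)
      inr_snd := ι.map_injective (by simp) }, ?_⟩
  refine isBinaryBilimitOfTotal _ (ι.map_injective ?_)
  simp only [ι.map_add, ι.map_comp, ι.map_preimage, ι.map_id, Category.assoc]
  rw [← cancel_epi e.inv, ← cancel_mono e.hom]
  simp [← Preadditive.comp_add]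

lemma hasFiniteProducts_of_essImage [HasZeroObject C] [HasBinaryBiproducts C]
    (h0 : ι.essImage (0 : C))
    (h2 : ∀ X Y : H, ι.essImage (ι.obj X ⊞ ι.obj Y)) : HasFiniteProducts H := by
  have := hasZeroObject_of_essImage ι h0
  have := hasBinaryBiproducts_of_essImage ι h2
  exact hasFiniteProducts_of_has_binary_and_terminal

end General

variable {C : Type u} [Category.{v} C] [Preadditive C] [HasZeroObject C] [HasShift C ℤ]
  [∀ n : ℤ, (shiftFunctor C n).Additive] [Pretriangulated C] (t : TStructure C)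
  {H : Type u'} [Category.{v'} H] [Preadditive H] [t.Heart H]

lemma hι ⦃X Y : H⦄ ⦃n : ℤ⦄ (f : t.ιHeart.obj X ⟶ (t.ιHeart.obj Y)⟦n⟧) (hn : n < 0) : f = 0 := by
  have : t.IsGE ((t.ιHeart.obj Y)⟦n⟧) (-n) := t.isGE_shift _ 0 n (-n) (by omega)
  exact t.zero f 0 (-n) (by omega)

lemma essImage_of_isLE_isGE (X : C) [t.IsLE X 0] [t.IsGE X 0] : (t.ιHeart (H := H)).essImage X := by
  rw [t.essImage_ιHeart H, t.mem_heart_iff]
  exact ⟨inferInstance, inferInstance⟩

include t in
lemma hasFiniteProducts : HasFiniteProducts H := by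
  apply hasFiniteProducts_of_essImage (t.ιHeart (H := H))
  · exact essImage_of_isLE_isGE t _
  · intro X Y
    have hT := binaryBiproductTriangle_distinguished (t.ιHeart.obj X) (t.ιHeart.obj Y)
    have h1 : t.IsLE (t.ιHeart.obj X ⊞ t.ιHeart.obj Y) 0 :=
      t.isLE₂ _ hT 0 (show t.IsLE (t.ιHeart.obj X) 0 by infer_instance)
        (show t.IsLE (t.ιHeart.obj Y) 0 by infer_instance)
    have h2 : t.IsGE (t.ιHeart.obj X ⊞ t.ιHeart.obj Y) 0 :=
      t.isGE₂ _ hT 0 (show t.IsGE (t.ιHeart.obj X) 0 by infer_instance)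
        (show t.IsGE (t.ιHeart.obj Y) 0 by infer_instance)
    exact essImage_of_isLE_isGE t _

variable [IsTriangulated C]

set_option backward.defeqAttrib.useBackward true in
set_option backward.isDefEq.respectTransparency false in
lemma hA : AbelianSubcategory.admissibleMorphism (t.ιHeart (H := H)) = ⊤ := by
  ext X₁ X₂ f₁
  simp only [MorphismProperty.top_apply, iff_true]
  intro X₃ f₂ f₃ hT
  have hT' := rot_of_distTriang _ hT
  have h1 : t.IsLE X₃ 0 :=
    t.isLE₂ _ hT' 0 (show t.IsLE (t.ιHeart.obj X₂) 0 by infer_instance)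
      (show t.IsLE ((t.ιHeart.obj X₁)⟦(1 : ℤ)⟧) 0 by
        have := t.isLE_shift (t.ιHeart.obj X₁) 0 1 (-1) (by omega)
        exact t.isLE_of_le _ (-1) 0 (by omega))
  have h2 : t.IsGE X₃ (-1) :=
    t.isGE₂ _ hT' (-1) (show t.IsGE (t.ιHeart.obj X₂) (-1) from t.isGE_of_ge _ (-1) 0 (by omega))
      (show t.IsGE ((t.ιHeart.obj X₁)⟦(1 : ℤ)⟧) (-1) from t.isGE_shift _ 0 1 (-1) (by omega))
  have hA1 : t.IsLE ((t.truncLT 0).obj X₃) (-1) := t.isLE_truncLT_obj X₃ 0 (-1)
  have hA2 : t.IsGE ((t.truncLT 0).obj X₃) (-1) := inferInstance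
  have hA3 : t.IsLE (((t.truncLT 0).obj X₃)⟦(-1 : ℤ)⟧) 0 := t.isLE_shift _ (-1) (-1) 0 (by omega)
  have hA4 : t.IsGE (((t.truncLT 0).obj X₃)⟦(-1 : ℤ)⟧) 0 := t.isGE_shift _ (-1) (-1) 0 (by omega)
  have hB1 : t.IsLE ((t.truncGE 0).obj X₃) 0 := inferInstance
  have hB2 : t.IsGE ((t.truncGE 0).obj X₃) 0 := inferInstance
  obtain ⟨K, ⟨eK⟩⟩ := essImage_of_isLE_isGE (H := H) t (((t.truncLT 0).obj X₃)⟦(-1 : ℤ)⟧)
  obtain ⟨Q, ⟨eQ⟩⟩ := essImage_of_isLE_isGE (H := H) t ((t.truncGE 0).obj X₃)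
  obtain ⟨eA⟩ : Nonempty ((t.ιHeart.obj K)⟦(1 : ℤ)⟧ ≅ (t.truncLT 0).obj X₃) :=
    ⟨(shiftFunctor C (1 : ℤ)).mapIso eK ≪≫ (shiftEquiv C (1 : ℤ)).counitIso.app _⟩
  refine ⟨K, Q, eA.hom ≫ (t.truncLTι 0).app X₃, (t.truncGEπ 0).app X₃ ≫ eQ.inv,
    eQ.hom ≫ (t.truncGEδLT 0).app X₃ ≫ (eA.inv)⟦(1 : ℤ)⟧', ?_⟩
  refine isomorphic_distinguished _ (t.triangleLTGE_distinguished 0 X₃) _ ?_
  refine Triangle.isoMk _ _ eA (Iso.refl _) eQ ?_ ?_ ?_
  · simp
  · simp
  · simp [← Functor.map_comp]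

theorem s11520 (t : TStructure C) {H : Type u'} [Category.{v'} H] [inst : Preadditive H] [t.Heart H] :
    ∃ a : Abelian H, @Abelian.toPreadditive H _ a = inst := by
  have := hasFiniteProducts t (H := H)
  exact ⟨AbelianSubcategory.abelian t.ιHeart (hι t) (hA t), rfl⟩

set_option backward.defeqAttrib.useBackward true in
set_option backward.isDefEq.respectTransparency false in
theorem s11521 (t : TStructure C) {H : Type u'} [Category.{v'} H] [Abelian H] [t.Heart H]
    {X Y Z : H} (u : X ⟶ Y) (v : Y ⟶ Z) :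
    (∃ huv : u ≫ v = 0, (ShortComplex.mk u v huv).ShortExact) ↔
      ∃ (w : t.ιHeart.obj Z ⟶ (t.ιHeart.obj X)⟦(1 : ℤ)⟧),
        Triangle.mk (t.ιHeart.map u) (t.ιHeart.map v) w ∈ distTriang C := by
  constructor
  · rintro ⟨huv, hS⟩
    have : Epi v := hS.epi_g
    obtain ⟨X₁, i, δ, hT⟩ :=
      AbelianSubcategory.exists_distinguished_triangle_of_epi (hι t) (hA t) v
    have hk := AbelianSubcategory.isLimitKernelForkOfDistTriang (hι t) i v δ hT
    have hk' := hS.fIsKernel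
    let e : X ≅ X₁ := IsLimit.conePointUniqueUpToIso hk' hk
    have he : e.hom ≫ i = u := IsLimit.conePointUniqueUpToIso_hom_comp hk' hk WalkingParallelPair.zero
    refine ⟨δ ≫ (t.ιHeart.map e.inv)⟦(1 : ℤ)⟧', ?_⟩
    refine isomorphic_distinguished _ hT _ ?_
    refine Triangle.isoMk _ _ (t.ιHeart.mapIso e) (Iso.refl _) (Iso.refl _) ?_ ?_ ?_
    · simp [← he]
    · simp
    · simp [← Functor.map_comp]
  · rintro ⟨w, hT⟩
    have hk := AbelianSubcategory.isLimitKernelForkOfDistTriang (hι t) u v w hT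
    have hc := AbelianSubcategory.isColimitCokernelCoforkOfDistTriang (hι t) u v w hT
    have huv : u ≫ v = 0 := t.ιHeart.map_injective (by
      have := comp_distTriang_mor_zero₁₂ _ hT
      dsimp at this
      rw [Functor.map_comp, this, Functor.map_zero])
    refine ⟨huv, ?_⟩
    have : Mono u := mono_of_isLimit_fork hk
    have : Epi v := epi_of_isColimit_cofork hc
    exact ShortComplex.ShortExact.mk' ((ShortComplex.mk u v huv).exact_of_f_is_kernel hk)
      inferInstance inferInstance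

end Groth.Agent.Helper5.HeartAb
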