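import Groth.Agent.Helper1.EssEtHensel
import Groth.Agent.Helper5.UnrLoc1
import Mathlib

set_option autoImplicit false
universe u

namespace Groth.Agent.Helper5.HensLift

open CategoryTheory AlgebraicGeometry IsLocalRing

/-- lifting a local homomorphism to a henselian local ring along the stalk map of an etale
morphism, with prescribed residue field map -/
theorem exists_lift_stalk {X Y : Scheme.{u}} (g : X ⟶ Y) [Etale g] (x : X)
    (T : Type u) [CommRing T] [HenselianLocalRing T]
    (f : Y.presheaf.stalk (g x) →+* T) [IsLocalHom f]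
    (α : ResidueField (X.presheaf.stalk x) →+* ResidueField T)
    (hα : α.comp (ResidueField.map (g.stalkMap x).hom) = ResidueField.map f) :
    ∃ f' : X.presheaf.stalk x →+* T, f'.comp (g.stalkMap x).hom = f := by
  obtain ⟨V, hV, hxV, -⟩ := exists_isAffineOpen_mem_and_subset (x := g x) (U := ⊤) trivial
  obtain ⟨W, hW, hxW, hWV⟩ := exists_isAffineOpen_mem_and_subset (x := x) (U := g ⁻¹ᵁ V) hxV
  have hρ : (g.appLE V W hWV).hom.Etale := g.etale_appLE hV hW hWV
  letI : Algebra Γ(Y, V) Γ(X, W) := (g.appLE V W hWV).hom.toAlgebra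
  haveI : Algebra.Etale Γ(Y, V) Γ(X, W) := hρ
  let gV : Γ(Y, V) →+* Y.presheaf.stalk (g x) := (Y.presheaf.germ V (g x) hxV).hom
  let gW : Γ(X, W) →+* X.presheaf.stalk x := (X.presheaf.germ W x hxW).hom
  have hcompat : ∀ a : Γ(Y, V), (g.stalkMap x).hom (gV a) = gW (algebraMap Γ(Y, V) Γ(X, W) a) := by
    intro a
    have := Scheme.Hom.germ_stalkMap_apply g V x hxV a
    refine this.trans ?_
    change _ = (X.presheaf.germ W x hxW) ((g.appLE V W hWV) a)
    rw [Scheme.Hom.appLE]
    simp
  letI : Algebra Γ(Y, V) T := (f.comp gV).toAlgebra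
  let β₀ : Γ(X, W) →+* ResidueField T := α.comp ((residue _).comp gW)
  let β : Γ(X, W) →ₐ[Γ(Y, V)] ResidueField T :=
    { β₀ with
      commutes' := by
        intro a
        change α (residue _ (gW (algebraMap Γ(Y, V) Γ(X, W) a))) = _
        rw [← hcompat]
        have h1 := congrArg (fun m => m (residue _ (gV a))) hα
        simp only [RingHom.comp_apply, ResidueField.map_residue] at h1
        rw [h1]
        rfl }
  obtain ⟨χ, hχ⟩ := Groth.Agent.Helper1.EssEt.exists_lift_of_etale β
  have hunit : ∀ c : Γ(X, W), IsUnit (gW c) → IsUnit (χ c) := by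
    intro c hc
    have h1 : IsUnit (β c) := ((hc.map (residue _)).map α)
    by_contra hnu
    have h2 : χ c ∈ maximalIdeal T := (mem_maximalIdeal _).2 hnu
    rw [← residue_eq_zero_iff, hχ] at h2
    rw [h2] at h1
    exact not_isUnit_zero h1
  letI := X.presheaf.algebra_section_stalk ⟨x, hxW⟩
  haveI := hW.isLocalization_stalk ⟨x, hxW⟩
  have halgW : ∀ c, algebraMap Γ(X, W) (X.presheaf.stalk x) c = gW c := fun c => rfl
  let f' : X.presheaf.stalk x →+* T :=
    IsLocalization.lift (M := (hW.primeIdealOf ⟨x, hxW⟩).asIdeal.primeCompl) (g := χ.toRingHom)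
      (fun y => hunit y (by
        rw [← halgW]
        exact IsLocalization.map_units (X.presheaf.stalk x) y))
  have hf' : ∀ c, f' (gW c) = χ c := by
    intro c
    rw [← halgW]
    exact IsLocalization.lift_eq _ c
  refine ⟨f', ?_⟩
  letI := Y.presheaf.algebra_section_stalk ⟨g x, hxV⟩
  haveI := hV.isLocalization_stalk ⟨g x, hxV⟩
  apply IsLocalization.ringHom_ext (hV.primeIdealOf ⟨g x, hxV⟩).asIdeal.primeCompl
  ext a
  change f' ((g.stalkMap x).hom (gV a)) = f (gV a)
  rw [hcompat, hf', AlgHom.commutes]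
  rfl

end Groth.Agent.Helper5.HensLift
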