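import Mathlib

set_option autoImplicit false
universe u

namespace Groth.Agent.Helper5.HomogComp

open MvPolynomial

theorem hc_mul {σ R : Type*} [CommSemiring R] (g z : MvPolynomial σ R) (d : ℕ)
    (hz : z.IsHomogeneous d) (e : ℕ) :
    homogeneousComponent e (g * z) = if d ≤ e then homogeneousComponent (e - d) g * z else 0 := by
  classical
  conv_lhs => rw [← sum_homogeneousComponent g]
  rw [Finset.sum_mul, map_sum]
  have hterm : ∀ j, homogeneousComponent e (homogeneousComponent j g * z) =
      if e = j + d then homogeneousComponent j g * z else 0 := by
    intro j
    exact homogeneousComponent_of_mem ((homogeneousComponent_isHomogeneous j g).mul hz)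
  rw [Finset.sum_congr rfl (fun j _ => hterm j)]
  by_cases hde : d ≤ e
  · rw [if_pos hde]
    by_cases hj : e - d ∈ Finset.range (g.totalDegree + 1)
    · rw [Finset.sum_eq_single (e - d)]
      · rw [if_pos (by omega)]
      · intro j _ hj'
        rw [if_neg (by omega)]
      · intro h; exact absurd hj h
    · rw [Finset.sum_eq_zero]
      · rw [homogeneousComponent_eq_zero, zero_mul]
        rw [Finset.mem_range] at hj
        omega
      · intro j hj'
        rw [if_neg]
        intro h
        apply hj
        have : e - d = j := by omega
        rw [this]; exact hj'
  · rw [if_neg hde]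
    apply Finset.sum_eq_zero
    intro j _
    rw [if_neg (by omega)]

end Groth.Agent.Helper5.HomogComp
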