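import Mathlib
import Groth.Prelude
import Groth.Agent.Helper5.GrpDim1
import Groth.Agent.Helper5.VarDim11
import Groth.Agent.Helper5.FlatOrbit1

set_option autoImplicit false
set_option linter.unusedSectionVars false
set_option linter.style.haveILetI false
universe u

open AlgebraicGeometry CategoryTheory CategoryTheory.Limits TopologicalSpace
open MonoidalCategory CartesianMonoidalCategory MonObj GrpObj

namespace Groth.Agent.Helper5.HomogDim

section top

theorem localDim_subspace_le {T : Type*} [TopologicalSpace T] (C : Set T) (c : ↥C) :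
    FlatMor.localDim ↥C c ≤ FlatMor.localDim T c.1 := by
  unfold FlatMor.localDim
  refine le_iInf fun U => ?_
  let V : Opens ↥C := ⟨Subtype.val ⁻¹' (U.1 : Set T), U.1.2.preimage continuous_subtype_val⟩
  refine iInf_le_of_le ⟨V, U.2⟩ ?_
  let φ : ↥(V : Set ↥C) → ↥(U.1 : Set T) := fun z => ⟨z.1.1, z.2⟩
  have hφ : Topology.IsInducing φ := by
    have h1 : Topology.IsInducing (fun z : ↥(V : Set ↥C) => (z.1.1 : T)) :=
      Topology.IsInducing.subtypeVal.comp Topology.IsInducing.subtypeVal
    exact Topology.IsInducing.of_comp (by fun_prop) continuous_subtype_val h1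
  exact hφ.topologicalKrullDim_le

theorem image_connectedComponent_homeo {X Y : Type*} [TopologicalSpace X] [TopologicalSpace Y]
    (e : X ≃ₜ Y) (x : X) : e '' connectedComponent x = connectedComponent (e x) := by
  apply subset_antisymm (e.continuous.image_connectedComponent_subset x)
  intro y hy
  have h := e.symm.continuous.image_connectedComponent_subset (e x) ⟨y, hy, rfl⟩
  rw [e.symm_apply_apply] at h
  exact ⟨e.symm y, h, e.apply_symm_apply y⟩

end top

variable (k : Type u) [Field k] (G X : Over (Spec (CommRingCat.of k))) [GrpObj G]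
  [LocallyOfFiniteType G.hom] [LocallyOfFiniteType X.hom] (a : AlgGrp.Action G X)
  (hΦ : Surjective (lift a.act (snd G X)).left)

include hΦ in
theorem localDim_const (x y : X.left) :
    FlatMor.localDim X.left x = FlatMor.localDim X.left y := by
  have hsub : Subsingleton ↥(Spec (CommRingCat.of k)) :=
    inferInstanceAs (Subsingleton (PrimeSpectrum k))
  obtain ⟨w, hw1, hw2⟩ := Scheme.Pullback.exists_preimage_pullback (f := X.hom) (g := X.hom)
    y x (Subsingleton.elim _ _)
  obtain ⟨z, hz⟩ := hΦ.1 w
  have hact : a.act.left z = y := by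
    have : (lift a.act (snd G X) ≫ fst X X).left z = y := by
      rw [Over.comp_left, Scheme.Hom.comp_apply, hz]
      exact hw1
    rwa [lift_fst] at this
  have hsnd : (snd G X).left z = x := by
    have : (lift a.act (snd G X) ≫ snd X X).left z = x := by
      rw [Over.comp_left, Scheme.Hom.comp_apply, hz]
      exact hw2
    rwa [lift_snd] at this
  let Ψ : G ⊗ X ⟶ G ⊗ X := Groth.Agent.Helper5.FlatOrbit.shear a
  haveI : IsIso Ψ.left := (Over.forget _).map_isIso Ψ
  let e : (G ⊗ X).left ≃ₜ (G ⊗ X).left := (asIso Ψ.left).schemeIsoToHomeo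
  have h1 := Groth.Agent.Helper5.SubDim.localDim_homeomorph e z
  have hfst : (fst G X).left (e z) = (fst G X).left z := by
    show (fst G X).left (Ψ.left z) = _
    rw [← Scheme.Hom.comp_apply, ← Over.comp_left]
    simp [Ψ, Groth.Agent.Helper5.FlatOrbit.shear]
  have hsnd' : (snd G X).left (e z) = y := by
    show (snd G X).left (Ψ.left z) = _
    rw [← Scheme.Hom.comp_apply, ← Over.comp_left, Groth.Agent.Helper5.FlatOrbit.shear_snd]
    exact hact
  have h2 := Groth.Agent.Helper5.OverField.localDim_pullback k G.hom X.hom z
  have h3 := Groth.Agent.Helper5.OverField.localDim_pullback k G.hom X.hom (e z)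
  have h2' : FlatMor.localDim ↥(G ⊗ X).left z =
      FlatMor.localDim ↥G.left ((fst G X).left z) + FlatMor.localDim ↥X.left x := by
    rw [← hsnd]; exact h2
  have h3' : FlatMor.localDim ↥(G ⊗ X).left (e z) =
      FlatMor.localDim ↥G.left ((fst G X).left z) + FlatMor.localDim ↥X.left y := by
    rw [← hsnd', ← hfst]; exact h3
  rw [h2', h3'] at h1
  obtain ⟨a', ha⟩ := Groth.Agent.Helper5.GrpDim.exists_nat_localDim k G.hom ((fst G X).left z)
  obtain ⟨b, hb⟩ := Groth.Agent.Helper5.GrpDim.exists_nat_localDim k X.hom x
  obtain ⟨c, hc⟩ := Groth.Agent.Helper5.GrpDim.exists_nat_localDim k X.hom y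
  rw [ha, hb, hc] at h1
  rw [hb, hc]
  have : a' + b = a' + c := by exact_mod_cast h1
  have : b = c := by omega
  rw [this]

include hΦ in
theorem dim_connectedComponent (x : X.left) :
    topologicalKrullDim ↥(connectedComponent x) = FlatMor.localDim X.left x := by
  apply le_antisymm
  · rw [Groth.Agent.Helper2.TopDim.dim_eq_iSup_localDim]
    refine iSup_le fun c => ?_
    refine (localDim_subspace_le _ c).trans ?_
    exact (localDim_const k G X a hΦ c.1 x).le
  · obtain ⟨ξ, hξ, hle⟩ := Groth.Agent.Helper5.VarDim.exists_generization_localDim_le k X.hom x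
    refine hle.trans (Groth.Agent.Helper5.FibDim.dim_subset_le ?_)
    have hx : x ∈ closure ({ξ} : Set X.left) := specializes_iff_mem_closure.1 hξ
    exact (isIrreducible_singleton.closure.isConnected.isPreconnected).subset_connectedComponent hx

include hΦ in
theorem dim_connectedComponent_eq (x y : X.left) :
    topologicalKrullDim ↥(connectedComponent x) = topologicalKrullDim ↥(connectedComponent y) := by
  rw [dim_connectedComponent k G X a hΦ x, dim_connectedComponent k G X a hΦ y]
  exact localDim_const k G X a hΦ x y

end Groth.Agent.Helper5.HomogDim
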