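import Mathlib
import Groth.Prelude
import Groth.Agent.Helper5.HomogDim1
import Groth.Agent.Helper5.RedGrp16

set_option autoImplicit false
set_option linter.unusedSectionVars false
set_option linter.style.haveILetI false
universe u

open AlgebraicGeometry CategoryTheory CategoryTheory.Limits TopologicalSpace
open MonoidalCategory CartesianMonoidalCategory MonObj GrpObj

namespace Groth.Agent.Helper5.HomogDim

section bc

variable {S S' : Scheme.{u}} (j : S' ⟶ S) (G X : Over S) [GrpObj G] (a : AlgGrp.Action G X)

theorem shear_bc :
    lift (a.bc j).act (snd (Red.bc j G) (Red.bc j X)) ≫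
        Functor.LaxMonoidal.μ (Over.pullback j) X X =
      Functor.LaxMonoidal.μ (Over.pullback j) G X ≫
        (Over.pullback j).map (lift a.act (snd G X)) := by
  rw [← Functor.Monoidal.lift_μ, ← Category.assoc, comp_lift, Functor.Monoidal.μ_snd]
  rfl

theorem surjective_shear_bc (hΦ : Surjective (lift a.act (snd G X)).left) :
    Surjective (lift (a.bc j).act (snd (Red.bc j G) (Red.bc j X))).left := by
  have h := congrArg Over.Hom.left (shear_bc j G X a)
  rw [Over.comp_left, Over.comp_left] at h
  haveI : IsIso (Functor.LaxMonoidal.μ (Over.pullback j) X X) :=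
    inferInstanceAs (IsIso (Functor.Monoidal.μIso (Over.pullback j) X X).hom)
  haveI : IsIso (Functor.LaxMonoidal.μ (Over.pullback j) G X) :=
    inferInstanceAs (IsIso (Functor.Monoidal.μIso (Over.pullback j) G X).hom)
  haveI : IsIso (Functor.LaxMonoidal.μ (Over.pullback j) X X).left :=
    (Over.forget _).map_isIso _
  haveI : IsIso (Functor.LaxMonoidal.μ (Over.pullback j) G X).left :=
    (Over.forget _).map_isIso _
  have sq := Groth.Agent.Helper5.Homog.isPullback_bcm (G ⊗ X) (X ⊗ X) (lift a.act (snd G X)) j
  haveI : Surjective ((Over.pullback j).map (lift a.act (snd G X))).left :=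
    MorphismProperty.of_isPullback (P := @Surjective) sq hΦ
  have h2 : (lift (a.bc j).act (snd (Red.bc j G) (Red.bc j X))).left =
      ((Functor.LaxMonoidal.μ (Over.pullback j) G X).left ≫
        ((Over.pullback j).map (lift a.act (snd G X))).left) ≫
        inv (Functor.LaxMonoidal.μ (Over.pullback j) X X).left := by
    rw [← h, Category.assoc, IsIso.hom_inv_id, Category.comp_id]
  rw [h2]
  infer_instance

end bc

theorem s3033 (A : Type u) [CommRing A] [IsArtinianRing A] [IsLocalRing A]
    (G X : Over (Spec (CommRingCat.of A))) [GrpObj G] [LocallyOfFiniteType G.hom]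
    [LocallyOfFiniteType X.hom]
    (a : AlgGrp.Action G X) (hΦ : Surjective (lift a.act (snd G X)).left) (x y : X.left) :
    topologicalKrullDim ↥(connectedComponent x) = topologicalKrullDim ↥(connectedComponent y) := by
  let k := IsLocalRing.ResidueField A
  let j : Spec (CommRingCat.of k) ⟶ Spec (CommRingCat.of A) :=
    Spec.map (CommRingCat.ofHom (IsLocalRing.residue A))
  haveI : IsClosedImmersion j :=
    IsClosedImmersion.spec_of_surjective _ Ideal.Quotient.mk_surjective
  haveI : Surjective j := by
    constructor
    intro y
    haveI : Subsingleton (Spec (.of A)) := by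
      show Subsingleton (PrimeSpectrum A)
      infer_instance
    haveI : Nonempty (Spec (.of k)) := by
      show Nonempty (PrimeSpectrum k)
      infer_instance
    obtain ⟨x⟩ := (inferInstance : Nonempty (Spec (.of k)))
    exact ⟨x, Subsingleton.elim _ _⟩
  let Gk : Over (Spec (CommRingCat.of k)) := Red.bc j G
  let Xk : Over (Spec (CommRingCat.of k)) := Red.bc j X
  haveI : LocallyOfFiniteType Gk.hom :=
    inferInstanceAs (LocallyOfFiniteType (pullback.snd G.hom j))
  haveI : LocallyOfFiniteType Xk.hom :=
    inferInstanceAs (LocallyOfFiniteType (pullback.snd X.hom j))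
  have hk := surjective_shear_bc j G X a hΦ
  haveI : Surjective (pullback.fst X.hom j) :=
    MorphismProperty.pullback_fst (P := @Surjective) _ _ ‹_›
  let eX : Xk.left ≃ₜ X.left :=
    Groth.Agent.Helper5.RedGrp.homeoOfSurjClosedImm (pullback.fst X.hom j)
  have key : ∀ x' : Xk.left, topologicalKrullDim ↥(connectedComponent (eX x')) =
      topologicalKrullDim ↥(connectedComponent x') := by
    intro x'
    rw [← image_connectedComponent_homeo eX x']
    exact (Groth.Agent.Helper5.RedGrp.dim_eq_of_homeo (eX.image (connectedComponent x'))).symm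
  have hx := key (eX.symm x)
  have hy := key (eX.symm y)
  rw [eX.apply_symm_apply] at hx hy
  rw [hx, hy]
  exact dim_connectedComponent_eq k Gk Xk (a.bc j) hk _ _

end Groth.Agent.Helper5.HomogDim
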