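import Groth.Agent.Helper5.EffCart5
import Groth.Agent.Helper9.IdealComap
import Groth.Agent.Lead.CartProdA
import Mathlib

/-! Ideal sheaves on the small étale site of an algebraic space versus ideal sheaves on a chart. -/

set_option autoImplicit false
set_option linter.style.haveILetI false
universe u
open CategoryTheory CategoryTheory.Limits AlgebraicGeometry Opposite MorphismProperty

namespace Groth.Agent.Helper5.IdealEtChart

open AlgSp

variable {S : Scheme.{u}}

set_option backward.isDefEq.respectTransparency.types false in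
/-- the kernel of the chosen base change of a closed subspace to an object of the small étale site
which factors through a chart is the inverse image of the ideal of the chart -/
theorem ker_bcπ_eq_comap {X D : Sp S} (i : D ⟶ X) (hi : Representable i) {V : Over S}
    (φ : (yon S).obj V ⟶ X)
    (K : V.left.IdealSheafData) (fstK : (yon S).obj (Over.mk (K.subschemeι ≫ V.hom)) ⟶ D)
    (sqK : IsPullback fstK ((yon S).map (Over.homMk K.subschemeι rfl :
      Over.mk (K.subschemeι ≫ V.hom) ⟶ V)) i φ)
    (E : EtOver X) (r : E.obj.left ⟶ V) (hr : (yon S).map r ≫ φ = E.obj.hom) :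
    (EtOver.bcπ hi E).left.ker = K.comap r.left := by
  have big : IsPullback (EtOver.bcObj hi E).obj.hom ((yon S).map (EtOver.bcπ hi E)) i
      ((yon S).map r ≫ φ) := by
    rw [hr]
    exact EtOver.isPullback_bcObj hi E
  let l := sqK.lift (EtOver.bcObj hi E).obj.hom ((yon S).map (EtOver.bcπ hi E) ≫ (yon S).map r) (by
    have := big.w
    simp only [Category.assoc] at this ⊢
    exact this)
  have h1 : l ≫ fstK = (EtOver.bcObj hi E).obj.hom := sqK.lift_fst _ _ _
  have h2 : l ≫ (yon S).map (Over.homMk K.subschemeι rfl : Over.mk (K.subschemeι ≫ V.hom) ⟶ V) =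
      (yon S).map (EtOver.bcπ hi E) ≫ (yon S).map r := sqK.lift_snd _ _ _
  have sqL : IsPullback l ((yon S).map (EtOver.bcπ hi E))
      ((yon S).map (Over.homMk K.subschemeι rfl : Over.mk (K.subschemeι ≫ V.hom) ⟶ V))
      ((yon S).map r) := by
    refine IsPullback.of_right ?_ h2 sqK
    rw [h1]
    exact big
  obtain ⟨l₀, hl₀⟩ := (yon S).map_surjective l
  rw [← hl₀] at sqL
  have sqL' := Groth.Agent.Helper5.GeomFibSp.isPullback_left
    (Groth.Agent.Helper5.GeomFibSp.isPullback_of_yon_map sqL)
  have sqL'' : IsPullback l₀.left (EtOver.bcπ hi E).left K.subschemeι r.left := sqL'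
  have := Groth.Agent.Helper5.SchImg.ker_of_isPullback sqL''
  simpa using this

/-- the object of the small étale site given by an open of an étale chart -/
noncomputable abbrev chartObj {X : Sp S} {V : Over S} (φ : (yon S).obj V ⟶ X)
    (hφ : RepWith @Etale φ) (U : V.left.Opens) : EtOver X :=
  EtOver.mk ((yon S).map (Over.homMk U.ι rfl : Over.mk (U.ι ≫ V.hom) ⟶ V) ≫ φ)
    ((repWith_isMultiplicative (S := S) @Etale).comp_mem _ _
      ((repWith_yon_map_iff _ _).2 (show Etale U.ι from inferInstance)) hφ)

set_option backward.isDefEq.respectTransparency.types false in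
/-- the value of the ideal of a closed subspace on an affine open of a chart -/
theorem idealOfRep_chartObj {X D : Sp S} (i : D ⟶ X) (hi : RepWith @IsClosedImmersion i)
    {V : Over S} (φ : (yon S).obj V ⟶ X) (hφ : RepWith @Etale φ)
    (K : V.left.IdealSheafData) (fstK : (yon S).obj (Over.mk (K.subschemeι ≫ V.hom)) ⟶ D)
    (sqK : IsPullback fstK ((yon S).map (Over.homMk K.subschemeι rfl :
      Over.mk (K.subschemeι ≫ V.hom) ⟶ V)) i φ)
    (U : V.left.affineOpens) (hU : IsAffine (chartObj φ hφ U.1).obj.left.left) :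
    (idealOfRep hi.1).ideal (chartObj φ hφ U.1) hU =
      Ideal.map U.1.topIso.inv.hom (K.ideal U) := by
  have hker := ker_bcπ_eq_comap i hi.1 φ K fstK sqK (chartObj φ hφ U.1)
    (Over.homMk U.1.ι rfl : Over.mk (U.1.ι ≫ V.hom) ⟶ V) rfl
  haveI : IsClosedImmersion (EtOver.bcπ hi.1 (chartObj φ hφ U.1)).left :=
    hi.2 _ _ _ (EtOver.isPullback_bcObj hi.1 (chartObj φ hφ U.1))
  have hT : IsAffineOpen (⊤ : U.1.toScheme.Opens) := by
    haveI : IsAffine U.1.toScheme := U.2
    exact isAffineOpen_top _
  have h1 := congrArg (fun J : U.1.toScheme.IdealSheafData => J.ideal ⟨⊤, hT⟩) hker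
  simp only [Over.homMk_left] at h1
  rw [Groth.Agent.Helper9.IdealComap.ideal_comap_ι] at h1
  rw [← h1]
  exact (Scheme.Hom.ker_apply _ ⟨⊤, hT⟩).symm

end Groth.Agent.Helper5.IdealEtChart
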