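import Groth.Agent.Helper5.IdealEtChart1
import Mathlib

/-! Sums of effective Cartier divisors on algebraic spaces. -/

set_option autoImplicit false
set_option linter.style.haveILetI false
universe u
open CategoryTheory CategoryTheory.Limits AlgebraicGeometry Opposite MorphismProperty

namespace Groth.Agent.Helper5.IdealEtChart

open AlgSp Groth.Agent.Helper5.EffCart

variable {S : Scheme.{u}}

theorem map_hom_map_inv {V : Scheme.{u}} (U : V.Opens) (𝔞 : Ideal Γ(V, U)) :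
    Ideal.map U.topIso.hom.hom (Ideal.map U.topIso.inv.hom 𝔞) = 𝔞 := by
  rw [Ideal.map_map, ← CommRingCat.hom_comp, Iso.inv_hom_id, CommRingCat.hom_id, Ideal.map_id]

/-- the chart ideal of the closed subspace cut out by a product is the product of chart ideals -/
theorem chart_ideal_mul {X D₁ D₂ D : Sp S}
    (i₁ : D₁ ⟶ X) (i₂ : D₂ ⟶ X) (i : D ⟶ X)
    (hi₁ : RepWith @IsClosedImmersion i₁) (hi₂ : RepWith @IsClosedImmersion i₂)
    (hi : RepWith @IsClosedImmersion i)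
    (hI : idealOfRep hi.1 = idealOfRep hi₁.1 * idealOfRep hi₂.1)
    {V : Over S} (φ : (yon S).obj V ⟶ X) (hφ : RepWith @Etale φ)
    (K₁ : V.left.IdealSheafData) (fst₁ : (yon S).obj (Over.mk (K₁.subschemeι ≫ V.hom)) ⟶ D₁)
    (sq₁ : IsPullback fst₁ ((yon S).map (Over.homMk K₁.subschemeι rfl :
      Over.mk (K₁.subschemeι ≫ V.hom) ⟶ V)) i₁ φ)
    (K₂ : V.left.IdealSheafData) (fst₂ : (yon S).obj (Over.mk (K₂.subschemeι ≫ V.hom)) ⟶ D₂)
    (sq₂ : IsPullback fst₂ ((yon S).map (Over.homMk K₂.subschemeι rfl :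
      Over.mk (K₂.subschemeι ≫ V.hom) ⟶ V)) i₂ φ)
    (K : V.left.IdealSheafData) (fst : (yon S).obj (Over.mk (K.subschemeι ≫ V.hom)) ⟶ D)
    (sq : IsPullback fst ((yon S).map (Over.homMk K.subschemeι rfl :
      Over.mk (K.subschemeι ≫ V.hom) ⟶ V)) i φ) :
    K = K₁ * K₂ := by
  apply Scheme.IdealSheafData.ext
  funext U
  rw [Scheme.IdealSheafData.ideal_mul, Pi.mul_apply]
  have hU : IsAffine (chartObj φ hφ U.1).obj.left.left := U.2
  have a := idealOfRep_chartObj i hi φ hφ K fst sq U hU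
  have a₁ := idealOfRep_chartObj i₁ hi₁ φ hφ K₁ fst₁ sq₁ U hU
  have a₂ := idealOfRep_chartObj i₂ hi₂ φ hφ K₂ fst₂ sq₂ U hU
  have b := congrArg (fun I : IdealEt X => I.ideal (chartObj φ hφ U.1) hU) hI
  simp only [IdealEt.mul_ideal] at b
  rw [a, a₁, a₂, ← Ideal.map_mul] at b
  have c := congrArg (Ideal.map U.1.topIso.hom.hom) b
  rwa [map_hom_map_inv, map_hom_map_inv] at c

/-- S10814 -/
theorem s10814 (X D₁ D₂ D : AlgSp.Space S)
    (i₁ : D₁ ⟶ X) (i₂ : D₂ ⟶ X) (i : D ⟶ X) (I₁ I₂ : AlgSp.IdealEt X.obj)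
    (h₁ : AlgSp.IsCutOutBy I₁ i₁.hom) (h₂ : AlgSp.IsCutOutBy I₂ i₂.hom)
    (hD : AlgSp.IsCutOutBy (I₁ * I₂) i.hom)
    (e₁ : AlgSp.IsEffCartierSub i₁.hom) (e₂ : AlgSp.IsEffCartierSub i₂.hom) :
    AlgSp.IsEffCartierSub i.hom := by
  obtain ⟨hi₁, rfl⟩ := h₁
  obtain ⟨hi₂, rfl⟩ := h₂
  obtain ⟨hi, hI⟩ := hD
  obtain ⟨V, φ, hφ, hφs⟩ := X.property.atlas
  obtain ⟨K₁, fst₁, sq₁⟩ := exists_isPullback_subscheme i₁.hom hi₁ φ
  obtain ⟨K₂, fst₂, sq₂⟩ := exists_isPullback_subscheme i₂.hom hi₂ φ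
  obtain ⟨K, fst, sq⟩ := exists_isPullback_subscheme i.hom hi φ
  have c₁ : BlowUp.IsEffCartierIdeal K₁ :=
    (s10791 X.property i₁.hom hi₁).1 e₁ V φ hφ K₁ fst₁ sq₁
  have c₂ : BlowUp.IsEffCartierIdeal K₂ :=
    (s10791 X.property i₂.hom hi₂).1 e₂ V φ hφ K₂ fst₂ sq₂
  have hK : K = K₁ * K₂ :=
    chart_ideal_mul i₁.hom i₂.hom i.hom hi₁ hi₂ hi hI φ hφ K₁ fst₁ sq₁ K₂ fst₂ sq₂ K fst sq
  refine ⟨hi, V, φ, K, fst, hφ, hφs, sq, ?_⟩
  rw [hK]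
  exact Groth.Agent.Lead.CartProdA.isEffCartier_mul c₁ c₂

end Groth.Agent.Helper5.IdealEtChart
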