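import Groth.Agent.Helper5.IdealEtChart2
import Mathlib

/-! Factors of effective Cartier divisors are effective Cartier. -/

set_option autoImplicit false
set_option linter.style.haveILetI false
universe u
open CategoryTheory CategoryTheory.Limits AlgebraicGeometry Opposite MorphismProperty

namespace Groth.Agent.Helper5.IdealEtChart

open AlgSp Groth.Agent.Helper5.EffCart

/-- if `I J = (a)` with `a` a nonzerodivisor, then near every prime there are `x ∈ I`, `y ∈ J` with
`x y = a c`, `c` a unit at the prime -/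
theorem exists_of_mul_eq_span {R : Type u} [CommRing R] (I J : Ideal R) (a : R)
    (ha : a ∈ nonZeroDivisors R) (h : I * J = Ideal.span {a}) (p : Ideal R) [hp : p.IsPrime] :
    ∃ c x y : R, c ∉ p ∧ x ∈ I ∧ y ∈ J ∧ x * y = a * c := by
  by_contra hcon
  push_neg at hcon
  have h1 : I * J ≤ Ideal.span {a} * p := by
    rw [Ideal.mul_le]
    intro x hx y hy
    have hxy : x * y ∈ Ideal.span {a} := by
      rw [← h]
      exact Ideal.mul_mem_mul hx hy
    obtain ⟨c, hc⟩ := Ideal.mem_span_singleton'.1 hxy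
    have hc' : x * y = a * c := by rw [← hc, mul_comm]
    have hcp : c ∈ p := by
      by_contra hcp
      exact hcon c x y hcp hx hy hc'
    rw [hc']
    exact Ideal.mem_span_singleton_mul.2 ⟨c, hcp, rfl⟩
  have h2 : a ∈ Ideal.span {a} * p := by
    apply h1
    rw [h]
    exact Ideal.mem_span_singleton_self a
  obtain ⟨q, hq, hq'⟩ := Ideal.mem_span_singleton_mul.1 h2
  have h3 : (q - 1) * a = 0 := by
    rw [sub_mul, one_mul, mul_comm, hq', sub_self]
  have h4 : q = 1 := sub_eq_zero.1 ((mem_nonZeroDivisors_iff_right.1 ha) _ h3)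
  rw [h4] at hq
  exact hp.ne_top ((Ideal.eq_top_iff_one p).2 hq)

/-- after inverting `c`, `I` is generated by the nonzerodivisor `x` -/
theorem span_of_mul_eq {R A : Type u} [CommRing R] [CommRing A] [Algebra R A] (I J : Ideal R)
    (a c x y : R) (ha : a ∈ nonZeroDivisors R) (h : I * J = Ideal.span {a}) (hx : x ∈ I)
    (hy : y ∈ J) (hxy : x * y = a * c) [IsLocalization.Away c A] :
    algebraMap R A x ∈ nonZeroDivisors A ∧
      I.map (algebraMap R A) = Ideal.span {algebraMap R A x} := by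
  have hu : IsUnit (algebraMap R A c) := IsLocalization.Away.algebraMap_isUnit c
  have ha' : algebraMap R A a ∈ nonZeroDivisors A :=
    IsLocalization.map_nonZeroDivisors_le (Submonoid.powers c) A (Submonoid.mem_map_of_mem _ ha)
  have hxy' : algebraMap R A x * algebraMap R A y = algebraMap R A a * algebraMap R A c := by
    rw [← map_mul, ← map_mul, hxy]
  have hnz : algebraMap R A x * algebraMap R A y ∈ nonZeroDivisors A := by
    rw [hxy']
    exact mul_mem ha' hu.mem_nonZeroDivisors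
  refine ⟨(mul_mem_nonZeroDivisors.1 hnz).1, le_antisymm ?_ ?_⟩
  · rw [Ideal.map_le_iff_le_comap]
    intro z hz
    rw [Ideal.mem_comap]
    have hzy : z * y ∈ Ideal.span {a} := by
      rw [← h]
      exact Ideal.mul_mem_mul hz hy
    obtain ⟨d, hd⟩ := Ideal.mem_span_singleton'.1 hzy
    have h1 : (z * c - x * d) * a = 0 := by
      linear_combination (-z) * hxy - x * hd
    have h2 : z * c = x * d := sub_eq_zero.1 ((mem_nonZeroDivisors_iff_right.1 ha) _ h1)
    have h3 : algebraMap R A z * algebraMap R A c = algebraMap R A x * algebraMap R A d := by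
      rw [← map_mul, ← map_mul, h2]
    obtain ⟨u, hu'⟩ := hu
    rw [Ideal.mem_span_singleton']
    refine ⟨algebraMap R A d * ↑u⁻¹, ?_⟩
    rw [← hu'] at h3
    calc algebraMap R A d * ↑u⁻¹ * algebraMap R A x
        = (algebraMap R A x * algebraMap R A d) * ↑u⁻¹ := by ring
      _ = algebraMap R A z * ↑u * ↑u⁻¹ := by rw [← h3]
      _ = algebraMap R A z := by rw [mul_assoc, Units.mul_inv, mul_one]
  · rw [Ideal.span_singleton_le_iff_mem]
    exact Ideal.mem_map_of_mem _ hx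

/-- a factor of an effective Cartier ideal sheaf is effective Cartier -/
theorem isEffCartier_left_of_mul {X : Scheme.{u}} {I J : X.IdealSheafData}
    (h : BlowUp.IsEffCartierIdeal (I * J)) : BlowUp.IsEffCartierIdeal I := by
  intro x
  obtain ⟨U, hxU, a, ha, hIJ⟩ := h x
  have hIJ' : I.ideal U * J.ideal U = Ideal.span {a} := hIJ
  let p : Ideal Γ(X, U.1) := Ideal.comap (X.presheaf.germ U.1 x hxU).hom
    (IsLocalRing.maximalIdeal (X.presheaf.stalk x))
  haveI : p.IsPrime := Ideal.comap_isPrime _ _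
  obtain ⟨c, x₀, y₀, hc, hx₀, hy₀, hxy⟩ := exists_of_mul_eq_span (I.ideal U) (J.ideal U) a ha hIJ' p
  have hxc : x ∈ X.basicOpen c := by
    rw [Scheme.mem_basicOpen _ _ _ hxU]
    by_contra hnu
    apply hc
    show (X.presheaf.germ U.1 x hxU).hom c ∈ IsLocalRing.maximalIdeal (X.presheaf.stalk x)
    exact (IsLocalRing.mem_maximalIdeal _).2 hnu
  haveI : IsLocalization.Away c Γ(X, X.basicOpen c) := U.2.isLocalization_basicOpen c
  obtain ⟨h1, h2⟩ := span_of_mul_eq (A := Γ(X, X.basicOpen c)) (I.ideal U) (J.ideal U) a c x₀ y₀ ha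
    hIJ' hx₀ hy₀ hxy
  refine ⟨X.affineBasicOpen c, hxc, algebraMap Γ(X, U.1) Γ(X, X.basicOpen c) x₀, h1, ?_⟩
  rw [← I.map_ideal_basicOpen U c]
  exact h2

theorem isEffCartier_of_mul {X : Scheme.{u}} {I J : X.IdealSheafData}
    (h : BlowUp.IsEffCartierIdeal (I * J)) :
    BlowUp.IsEffCartierIdeal I ∧ BlowUp.IsEffCartierIdeal J :=
  ⟨isEffCartier_left_of_mul h, isEffCartier_left_of_mul (by rwa [mul_comm] at h)⟩

variable {S : Scheme.{u}}

/-- S10813 -/
theorem s10813 (X Z Y D : AlgSp.Space S)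
    (iZ : Z ⟶ X) (iY : Y ⟶ X) (iD : D ⟶ X) (I J : AlgSp.IdealEt X.obj)
    (hZ : AlgSp.IsCutOutBy I iZ.hom) (hY : AlgSp.IsCutOutBy J iY.hom)
    (hD : AlgSp.IsCutOutBy (I * J) iD.hom)
    (hDc : AlgSp.IsEffCartierSub iD.hom) :
    AlgSp.IsEffCartierSub iZ.hom ∧ AlgSp.IsEffCartierSub iY.hom := by
  obtain ⟨hi₁, rfl⟩ := hZ
  obtain ⟨hi₂, rfl⟩ := hY
  obtain ⟨hi, hI⟩ := hD
  obtain ⟨V, φ, hφ, hφs⟩ := X.property.atlas
  obtain ⟨K₁, fst₁, sq₁⟩ := exists_isPullback_subscheme iZ.hom hi₁ φ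
  obtain ⟨K₂, fst₂, sq₂⟩ := exists_isPullback_subscheme iY.hom hi₂ φ
  obtain ⟨K, fst, sq⟩ := exists_isPullback_subscheme iD.hom hi φ
  have c : BlowUp.IsEffCartierIdeal K :=
    (s10791 X.property iD.hom hi).1 hDc V φ hφ K fst sq
  have hK : K = K₁ * K₂ :=
    chart_ideal_mul iZ.hom iY.hom iD.hom hi₁ hi₂ hi hI φ hφ K₁ fst₁ sq₁ K₂ fst₂ sq₂ K fst sq
  rw [hK] at c
  obtain ⟨c₁, c₂⟩ := isEffCartier_of_mul c
  exact ⟨⟨hi₁, V, φ, K₁, fst₁, hφ, hφs, sq₁, c₁⟩, ⟨hi₂, V, φ, K₂, fst₂, hφ, hφs, sq₂, c₂⟩⟩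

end Groth.Agent.Helper5.IdealEtChart
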