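import Groth.Agent.Helper5.IdealEtFactor1
import Mathlib

/-! The ideal sheaf on a chart attached to a quasi-coherent sheaf of ideals on the small étale site. -/

set_option autoImplicit false
set_option linter.style.haveILetI false
universe u
open CategoryTheory CategoryTheory.Limits AlgebraicGeometry Opposite MorphismProperty

namespace Groth.Agent.Helper5.IdealEtChart

open AlgSp Groth.Agent.Helper5.EffCart Groth.Agent.Helper5.SchImg

variable {S : Scheme.{u}}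

/-- quasi-coherence as an equality -/
theorem ideal_eq_of_isQCoh {X : Sp S} (I : IdealEt X) (hI : I.IsQCoh) {E E' : EtOver X}
    (g : E' ⟶ E) (hE : IsAffine E.obj.left.left) (hE' : IsAffine E'.obj.left.left) :
    I.ideal E' hE' = (I.ideal E hE).map g.hom.left.left.appTop.hom :=
  le_antisymm (hI g hE hE') (I.map_le g hE hE')

theorem map_inv_map_hom {V : Scheme.{u}} (U : V.Opens) (𝔞 : Ideal Γ(U, ⊤)) :
    Ideal.map U.topIso.inv.hom (Ideal.map U.topIso.hom.hom 𝔞) = 𝔞 := by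
  rw [Ideal.map_map, ← CommRingCat.hom_comp, Iso.hom_inv_id, CommRingCat.hom_id, Ideal.map_id]

/-- inclusion of opens of a chart as a morphism of the small étale site -/
noncomputable def chartHom {X : Sp S} {V : Over S} (φ : (yon S).obj V ⟶ X)
    (hφ : RepWith @Etale φ) {U' U : V.left.Opens} (h : U' ≤ U) :
    chartObj φ hφ U' ⟶ chartObj φ hφ U :=
  EtOver.homMk (Over.homMk (V.left.homOfLE h) (by
      show V.left.homOfLE h ≫ U.ι ≫ V.hom = U'.ι ≫ V.hom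
      rw [← Category.assoc, Scheme.homOfLE_ι]) :
      Over.mk (U'.ι ≫ V.hom) ⟶ Over.mk (U.ι ≫ V.hom)) (by
    show (yon S).map _ ≫ (yon S).map _ ≫ φ = (yon S).map _ ≫ φ
    rw [← Category.assoc, ← Functor.map_comp]
    congr 2
    ext
    exact Scheme.homOfLE_ι _ h)

theorem chartHom_left {X : Sp S} {V : Over S} (φ : (yon S).obj V ⟶ X)
    (hφ : RepWith @Etale φ) {U' U : V.left.Opens} (h : U' ≤ U) :
    (chartHom φ hφ h).hom.left.left = V.left.homOfLE h := rfl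

set_option backward.isDefEq.respectTransparency false in
theorem topIso_hom_res {V : Scheme.{u}} {U' U : V.Opens} (h : U' ≤ U) :
    U.topIso.hom ≫ V.presheaf.map (homOfLE h).op = (V.homOfLE h).appTop ≫ U'.topIso.hom := by
  rw [Scheme.homOfLE_appTop, Scheme.Opens.topIso_hom, Scheme.Opens.topIso_hom,
    ← Functor.map_comp, ← Functor.map_comp]
  rfl

/-- the ideal sheaf on the chart `V` given by a quasi-coherent sheaf of ideals on the small étale
site -/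
noncomputable def chartIdeal {X : Sp S} (I : IdealEt X) (hI : I.IsQCoh) {V : Over S}
    (φ : (yon S).obj V ⟶ X) (hφ : RepWith @Etale φ) : V.left.IdealSheafData where
  ideal U := Ideal.map U.1.topIso.hom.hom (I.ideal (chartObj φ hφ U.1) U.2)
  map_ideal_basicOpen U f := by
    have h := V.left.basicOpen_le f
    have e := ideal_eq_of_isQCoh I hI (chartHom φ hφ h) U.2 (V.left.affineBasicOpen f).2
    show Ideal.map _ (Ideal.map U.1.topIso.hom.hom (I.ideal (chartObj φ hφ U.1) U.2)) =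
      Ideal.map (V.left.basicOpen f).topIso.hom.hom
        (I.ideal (chartObj φ hφ (V.left.basicOpen f)) (V.left.affineBasicOpen f).2)
    rw [e, Ideal.map_map, Ideal.map_map, ← CommRingCat.hom_comp, ← CommRingCat.hom_comp,
      topIso_hom_res h, chartHom_left]

theorem chartIdeal_ideal {X : Sp S} (I : IdealEt X) (hI : I.IsQCoh) {V : Over S}
    (φ : (yon S).obj V ⟶ X) (hφ : RepWith @Etale φ) (U : V.left.affineOpens) :
    (chartIdeal I hI φ hφ).ideal U =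
      Ideal.map U.1.topIso.hom.hom (I.ideal (chartObj φ hφ U.1) U.2) := rfl

set_option backward.isDefEq.respectTransparency.types false in
/-- the inverse image of the chart ideal on a small affine over the chart -/
theorem chartIdeal_comap_top {X : Sp S} (I : IdealEt X) (hI : I.IsQCoh) {V : Over S}
    (φ : (yon S).obj V ⟶ X) (hφ : RepWith @Etale φ) {W' : Over S} (hW' : IsAffine W'.left)
    (U : V.left.affineOpens) (r₀ : W' ⟶ Over.mk (U.1.ι ≫ V.hom))
    (a : (yon S).obj W' ⟶ X) (ha : RepWith @Etale a)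
    (hra : (yon S).map (r₀ ≫ (Over.homMk U.1.ι rfl : Over.mk (U.1.ι ≫ V.hom) ⟶ V)) ≫ φ = a) :
    ((chartIdeal I hI φ hφ).comap (r₀.left ≫ U.1.ι)).ideal
      ⟨⊤, @isAffineOpen_top W'.left hW'⟩ = I.ideal (EtOver.mk a ha) hW' := by
  subst hra
  haveI := hW'
  haveI hUa : IsAffine (Over.mk (U.1.ι ≫ V.hom)).left := U.2
  let g : EtOver.mk _ ha ⟶ chartObj φ hφ U.1 :=
    EtOver.homMk r₀ (by
      show (yon S).map r₀ ≫ ((yon S).map _ ≫ φ) = (yon S).map (r₀ ≫ _) ≫ φ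
      rw [← Category.assoc, ← Functor.map_comp])
  rw [ideal_eq_of_isQCoh I hI g U.2 hW', Scheme.IdealSheafData.comap_comp]
  have h1 := Groth.Agent.Helper9.IdealComap.ideal_comap_top_of_isAffine r₀.left
    ((chartIdeal I hI φ hφ).comap U.1.ι)
  have h2 := Groth.Agent.Helper9.IdealComap.ideal_comap_ι (chartIdeal I hI φ hφ) U
    (@isAffineOpen_top _ hUa)
  rw [chartIdeal_ideal, map_inv_map_hom] at h2
  rw [h1]
  congr 1

set_option backward.isDefEq.respectTransparency.types false in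
/-- the chart ideal is invariant under the étale equivalence relation of the chart -/
theorem chartIdeal_invariant {X : Sp S} (I : IdealEt X) (hI : I.IsQCoh) {V : Over S}
    (φ : (yon S).obj V ⟶ X) (hφ : RepWith @Etale φ) {R : Over S} (pr₁ pr₂ : R ⟶ V)
    (hpr : (yon S).map pr₁ ≫ φ = (yon S).map pr₂ ≫ φ) (h₁ : Etale pr₁.left) :
    (chartIdeal I hI φ hφ).comap pr₁.left = (chartIdeal I hI φ hφ).comap pr₂.left := by
  have H : ∀ x : R.left, ∃ (U₁ U₂ : V.left.affineOpens) (W : R.left.affineOpens),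
      x ∈ W.1 ∧ W.1 ≤ pr₁.left ⁻¹ᵁ U₁.1 ∧ W.1 ≤ pr₂.left ⁻¹ᵁ U₂.1 := by
    intro x
    obtain ⟨_, ⟨U₁, hU₁, rfl⟩, hx₁, -⟩ :=
      V.left.isBasis_affineOpens.exists_subset_of_mem_open (Set.mem_univ (pr₁.left x)) isOpen_univ
    obtain ⟨_, ⟨U₂, hU₂, rfl⟩, hx₂, -⟩ :=
      V.left.isBasis_affineOpens.exists_subset_of_mem_open (Set.mem_univ (pr₂.left x)) isOpen_univ
    obtain ⟨_, ⟨W, hW, rfl⟩, hxW, hWle⟩ :=
      R.left.isBasis_affineOpens.exists_subset_of_mem_open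
        (show x ∈ ((pr₁.left ⁻¹ᵁ U₁ ⊓ pr₂.left ⁻¹ᵁ U₂ : R.left.Opens) : Set R.left) from
          ⟨hx₁, hx₂⟩) (pr₁.left ⁻¹ᵁ U₁ ⊓ pr₂.left ⁻¹ᵁ U₂ : R.left.Opens).2
    exact ⟨⟨U₁, hU₁⟩, ⟨U₂, hU₂⟩, ⟨W, hW⟩, hxW, fun y hy => (hWle hy).1, fun y hy => (hWle hy).2⟩
  choose U₁ U₂ W hxW hW₁ hW₂ using H
  refine Scheme.IdealSheafData.ext_of_iSup_eq_top W
    (eq_top_iff.2 fun y _ => TopologicalSpace.Opens.mem_iSup.2 ⟨y, hxW y⟩) (fun x => ?_)
  let WO : Over S := Over.mk ((W x).1.ι ≫ R.hom)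
  let ιW : WO ⟶ R := Over.homMk (W x).1.ι rfl
  have hWO : IsAffine WO.left := (W x).2
  let r₁₀ : WO ⟶ Over.mk ((U₁ x).1.ι ≫ V.hom) :=
    Over.homMk (pr₁.left.resLE (U₁ x).1 (W x).1 (hW₁ x)) (by
      show pr₁.left.resLE (U₁ x).1 (W x).1 (hW₁ x) ≫ (U₁ x).1.ι ≫ V.hom = (W x).1.ι ≫ R.hom
      rw [← Category.assoc, Scheme.Hom.resLE_comp_ι, Category.assoc, CategoryTheory.Over.w pr₁])
  let r₂₀ : WO ⟶ Over.mk ((U₂ x).1.ι ≫ V.hom) :=
    Over.homMk (pr₂.left.resLE (U₂ x).1 (W x).1 (hW₂ x)) (by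
      show pr₂.left.resLE (U₂ x).1 (W x).1 (hW₂ x) ≫ (U₂ x).1.ι ≫ V.hom = (W x).1.ι ≫ R.hom
      rw [← Category.assoc, Scheme.Hom.resLE_comp_ι, Category.assoc, CategoryTheory.Over.w pr₂])
  have e₁ : r₁₀ ≫ (Over.homMk (U₁ x).1.ι rfl : Over.mk ((U₁ x).1.ι ≫ V.hom) ⟶ V) = ιW ≫ pr₁ := by
    ext
    exact Scheme.Hom.resLE_comp_ι _ _
  have e₂ : r₂₀ ≫ (Over.homMk (U₂ x).1.ι rfl : Over.mk ((U₂ x).1.ι ≫ V.hom) ⟶ V) = ιW ≫ pr₂ := by
    ext
    exact Scheme.Hom.resLE_comp_ι _ _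
  let a : (yon S).obj WO ⟶ X := (yon S).map (ιW ≫ pr₁) ≫ φ
  have ha : RepWith @Etale a :=
    (repWith_isMultiplicative (S := S) @Etale).comp_mem _ _
      ((repWith_yon_map_iff _ _).2 (show Etale ((W x).1.ι ≫ pr₁.left) from inferInstance)) hφ
  have hra₁ : (yon S).map (r₁₀ ≫ (Over.homMk (U₁ x).1.ι rfl :
      Over.mk ((U₁ x).1.ι ≫ V.hom) ⟶ V)) ≫ φ = a := by rw [e₁]
  have hra₂ : (yon S).map (r₂₀ ≫ (Over.homMk (U₂ x).1.ι rfl :
      Over.mk ((U₂ x).1.ι ≫ V.hom) ⟶ V)) ≫ φ = a := by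
    rw [e₂, Functor.map_comp, Category.assoc, ← hpr, ← Category.assoc, ← Functor.map_comp]
  have k₁ := chartIdeal_comap_top I hI φ hφ hWO (U₁ x) r₁₀ a ha hra₁
  have k₂ := chartIdeal_comap_top I hI φ hφ hWO (U₂ x) r₂₀ a ha hra₂
  have f₁ : r₁₀.left ≫ (U₁ x).1.ι = (W x).1.ι ≫ pr₁.left := Scheme.Hom.resLE_comp_ι _ _
  have f₂ : r₂₀.left ≫ (U₂ x).1.ι = (W x).1.ι ≫ pr₂.left := Scheme.Hom.resLE_comp_ι _ _
  rw [f₁, Scheme.IdealSheafData.comap_comp, Groth.Agent.Helper9.IdealComap.ideal_comap_ι] at k₁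
  rw [f₂, Scheme.IdealSheafData.comap_comp, Groth.Agent.Helper9.IdealComap.ideal_comap_ι] at k₂
  have k := congrArg (Ideal.map (W x).1.topIso.hom.hom) (k₁.trans k₂.symm)
  rwa [map_hom_map_inv, map_hom_map_inv] at k

end Groth.Agent.Helper5.IdealEtChart
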