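import Mathlib

/-! Descent of inclusions of ideals along jointly surjective flat families. -/

set_option autoImplicit false
set_option linter.style.haveILetI false
universe u
open CategoryTheory CategoryTheory.Limits AlgebraicGeometry Opposite TensorProduct

namespace Groth.Agent.Helper5.IdealDesc

/-- elements of the extended ideal kill `1` of the quotient after tensoring -/
theorem tmul_mk_one_eq_zero {A B : Type u} [CommRing A] [CommRing B] [Algebra A B] (𝔟 : Ideal A)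
    (y : B) (hy : y ∈ 𝔟.map (algebraMap A B)) :
    y ⊗ₜ[A] (1 : A ⧸ 𝔟) = 0 := by
  refine Submodule.span_induction ?_ ?_ ?_ ?_ hy
  · rintro _ ⟨β, hβ, rfl⟩
    have : algebraMap A B β = β • (1 : B) := by rw [Algebra.smul_def, mul_one]
    have e : β • (1 : A ⧸ 𝔟) = 0 := by
      rw [Algebra.smul_def, mul_one, Ideal.Quotient.algebraMap_eq]
      exact Ideal.Quotient.eq_zero_iff_mem.2 hβ
    rw [this, TensorProduct.smul_tmul, e, tmul_zero]
  · exact zero_tmul _ _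
  · intro x y _ _ hx hy
    rw [add_tmul, hx, hy, add_zero]
  · intro b x _ hx
    have : (b • x) ⊗ₜ[A] (1 : A ⧸ 𝔟) = b • (x ⊗ₜ[A] (1 : A ⧸ 𝔟)) :=
      (TensorProduct.smul_tmul' b x _).symm
    rw [this, hx, smul_zero]

/-- descent of inclusions of ideals along a jointly surjective family of flat ring maps -/
theorem le_of_flat_family {A : Type u} [CommRing A] (𝔞 𝔟 : Ideal A) {ι : Type*}
    (B : ι → Type u) [∀ j, CommRing (B j)] (g : ∀ j, A →+* B j) (hflat : ∀ j, (g j).Flat)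
    (hsurj : ∀ p : PrimeSpectrum A, ∃ j, p ∈ Set.range (PrimeSpectrum.comap (g j)))
    (H : ∀ j, 𝔞.map (g j) ≤ 𝔟.map (g j)) : 𝔞 ≤ 𝔟 := by
  intro a ha
  by_contra hne
  let f : A →ₗ[A] A ⧸ 𝔟 := LinearMap.toSpanSingleton A (A ⧸ 𝔟) (Ideal.Quotient.mk 𝔟 a)
  let c : Ideal A := LinearMap.ker f
  have hc : c ≠ ⊤ := by
    intro h
    have h1 : (1 : A) ∈ c := h ▸ Submodule.mem_top
    have h2 : f 1 = 0 := h1
    rw [LinearMap.toSpanSingleton_apply, one_smul, Ideal.Quotient.eq_zero_iff_mem] at h2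
    exact hne h2
  obtain ⟨m, hm, hcm⟩ := Ideal.exists_le_maximal c hc
  obtain ⟨j, q, hq⟩ := hsurj ⟨m, hm.isPrime⟩
  algebraize [g j]
  haveI : Module.Flat A (B j) := hflat j
  have hex : Function.Exact (c.subtype.lTensor (B j)) (f.lTensor (B j)) :=
    Module.Flat.lTensor_exact (B j) (LinearMap.exact_subtype_ker_map f)
  have h0 : (f.lTensor (B j)) ((1 : B j) ⊗ₜ[A] (1 : A)) = 0 := by
    rw [LinearMap.lTensor_tmul, LinearMap.toSpanSingleton_apply, one_smul]
    have e1 : (Ideal.Quotient.mk 𝔟 a : A ⧸ 𝔟) = a • (1 : A ⧸ 𝔟) := by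
      rw [Algebra.smul_def, mul_one, Ideal.Quotient.algebraMap_eq]
    rw [e1, ← TensorProduct.smul_tmul, Algebra.smul_def, mul_one]
    exact tmul_mk_one_eq_zero 𝔟 _ (H j (Ideal.mem_map_of_mem _ ha))
  obtain ⟨t, ht⟩ := (hex _).1 h0
  let μ : B j ⊗[A] A →ₗ[A] B j := (TensorProduct.rid A (B j)).toLinearMap
  have hμ : ∀ t : B j ⊗[A] c, μ ((c.subtype.lTensor (B j)) t) ∈ c.map (algebraMap A (B j)) := by
    intro t
    induction t using TensorProduct.induction_on with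
    | zero => simp
    | tmul b x =>
      rw [LinearMap.lTensor_tmul]
      show (TensorProduct.rid A (B j)) (b ⊗ₜ[A] (x : A)) ∈ _
      rw [TensorProduct.rid_tmul, Algebra.smul_def]
      exact Ideal.mul_mem_right _ _ (Ideal.mem_map_of_mem _ x.2)
    | add x y hx hy =>
      rw [map_add, map_add]
      exact Ideal.add_mem _ hx hy
  have h1 : (1 : B j) ∈ c.map (algebraMap A (B j)) := by
    have := hμ t
    rw [ht] at this
    have e : μ ((1 : B j) ⊗ₜ[A] (1 : A)) = 1 := by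
      show (TensorProduct.rid A (B j)) ((1 : B j) ⊗ₜ[A] (1 : A)) = 1
      rw [TensorProduct.rid_tmul, one_smul]
    rwa [e] at this
  have h2 : c.map (algebraMap A (B j)) ≤ q.asIdeal := by
    rw [Ideal.map_le_iff_le_comap]
    have : m = q.asIdeal.comap (g j) := congrArg PrimeSpectrum.asIdeal hq.symm
    exact hcm.trans this.le
  exact q.2.ne_top ((Ideal.eq_top_iff_one _).2 (h2 h1))

/-- descent of inclusions of ideals of an affine scheme along a jointly surjective family of flat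
morphisms from affine schemes -/
theorem le_of_flat_cover {Y : Scheme.{u}} [IsAffine Y] (𝔞 𝔟 : Ideal Γ(Y, ⊤)) {ι : Type*}
    (W : ι → Scheme.{u}) [∀ j, IsAffine (W j)] (s : ∀ j, W j ⟶ Y) [∀ j, Flat (s j)]
    (hs : ∀ y : Y, ∃ j, y ∈ Set.range (s j))
    (H : ∀ j, 𝔞.map (s j).appTop.hom ≤ 𝔟.map (s j).appTop.hom) : 𝔞 ≤ 𝔟 := by
  refine le_of_flat_family 𝔞 𝔟 (fun j => Γ(W j, ⊤)) (fun j => (s j).appTop.hom)
    (fun j => Scheme.Hom.flat_appTop (s j)) ?_ H
  intro p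
  let p' : ↥(Spec Γ(Y, ⊤)) := p
  obtain ⟨j, w, hw⟩ := hs (Y.isoSpec.inv p')
  refine ⟨j, (W j).isoSpec.hom w, ?_⟩
  have nat := Scheme.isoSpec_hom_naturality (s j)
  have h1 : (Spec.map (s j).appTop) ((W j).isoSpec.hom w) = Y.isoSpec.hom ((s j) w) := by
    rw [← Scheme.Hom.comp_apply, ← Scheme.Hom.comp_apply, nat]
  have h2 : Y.isoSpec.hom ((s j) w) = p' := by
    rw [hw, ← Scheme.Hom.comp_apply, Iso.inv_hom_id]
    rfl
  exact h1.trans h2

theorem eq_of_flat_cover {Y : Scheme.{u}} [IsAffine Y] (𝔞 𝔟 : Ideal Γ(Y, ⊤)) {ι : Type*}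
    (W : ι → Scheme.{u}) [∀ j, IsAffine (W j)] (s : ∀ j, W j ⟶ Y) [∀ j, Flat (s j)]
    (hs : ∀ y : Y, ∃ j, y ∈ Set.range (s j))
    (H : ∀ j, 𝔞.map (s j).appTop.hom = 𝔟.map (s j).appTop.hom) : 𝔞 = 𝔟 :=
  le_antisymm (le_of_flat_cover 𝔞 𝔟 W s hs fun j => (H j).le)
    (le_of_flat_cover 𝔟 𝔞 W s hs fun j => (H j).ge)

end Groth.Agent.Helper5.IdealDesc
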