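import Groth.Agent.Helper5.IdealEtCut1
import Groth.Agent.Helper5.IdealEtCut2
import Mathlib

/-! The closed subspace cut out by a quasi-coherent sheaf of ideals on the small étale site. -/

set_option autoImplicit false
set_option linter.style.haveILetI false
universe u
open CategoryTheory CategoryTheory.Limits AlgebraicGeometry Opposite MorphismProperty

namespace Groth.Agent.Helper5.IdealEtChart

open AlgSp Groth.Agent.Helper5.EffCart Groth.Agent.Helper5.SchImg Groth.Agent.Helper5.ClosedSub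
  Groth.Agent.Helper5.RedInd Groth.Agent.Helper4.AlgSpOpenImage

variable {S : Scheme.{u}}

set_option backward.isDefEq.respectTransparency.types false in
/-- the ideal of a closed subspace is quasi-coherent, as an equality -/
theorem idealOfRep_map_eq {X Z : Sp S} (i : Z ⟶ X) (hi : RepWith @IsClosedImmersion i)
    {E E' : EtOver X} (g : E' ⟶ E) (hE : IsAffine E.obj.left.left)
    (hE' : IsAffine E'.obj.left.left) :
    (idealOfRep hi.1).ideal E' hE' =
      ((idealOfRep hi.1).ideal E hE).map g.hom.left.left.appTop.hom := by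
  haveI := hE
  haveI := hE'
  haveI : IsClosedImmersion (EtOver.bcπ hi.1 E).left :=
    hi.2 _ _ _ (EtOver.isPullback_bcObj hi.1 E)
  haveI : IsClosedImmersion (EtOver.bcπ hi.1 E').left :=
    hi.2 _ _ _ (EtOver.isPullback_bcObj hi.1 E')
  have sq := EtOver.isPullback_bcMap_left hi.1 g
  have hk : (EtOver.bcπ hi.1 E').left.ker =
      (EtOver.bcπ hi.1 E).left.ker.comap g.hom.left.left := ker_of_isPullback sq
  have h1 := congrArg (fun J : E'.obj.left.left.IdealSheafData =>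
    J.ideal ⟨⊤, isAffineOpen_top _⟩) hk
  simp only at h1
  rw [Groth.Agent.Helper9.IdealComap.ideal_comap_top_of_isAffine, Scheme.Hom.ker_apply,
    Scheme.Hom.ker_apply] at h1
  exact h1

theorem idealOfRep_isQCoh {X Z : Sp S} (i : Z ⟶ X) (hi : RepWith @IsClosedImmersion i) :
    (idealOfRep hi.1).IsQCoh := fun _ _ g hE hE' => (idealOfRep_map_eq i hi g hE hE').le

set_option backward.isDefEq.respectTransparency.types false in
/-- every quasi-coherent sheaf of ideals cuts out a closed subspace -/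
theorem exists_isCutOutBy {X : Sp S} (hX : IsAlgSpace X) (I : IdealEt X) (hI : I.IsQCoh) :
    ∃ (Z : Sp S) (i : Z ⟶ X), IsAlgSpace Z ∧ IsCutOutBy I i := by
  obtain ⟨V, φ, hφ, hφs⟩ := hX.atlas
  obtain ⟨R₀, pr₂, pr₁', sqR⟩ := hφ.1 φ
  obtain ⟨pr₁, rfl⟩ := (yon S).map_surjective pr₁'
  have hpr₁e : Etale pr₁.left := hφ.2 _ _ _ sqR.flip
  let K := chartIdeal I hI φ hφ
  have hKinv : K.comap pr₁.left = K.comap pr₂.left :=
    chartIdeal_invariant I hI φ hφ pr₁ pr₂ sqR.w hpr₁e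
  have hinv := points_invariant φ pr₁ pr₂ sqR K hKinv
  obtain ⟨sqK, hci, hte, hts, hZalg⟩ :=
    closedSubspace_of_invariant hX.diag φ hφ hφs (subι K) inferInstance hinv
  refine ⟨_, imgι _, hZalg, hci, ?_⟩
  apply IdealEt.ext
  funext E hE
  haveI := hE
  obtain ⟨Q, q₁, q₂', sqQ⟩ := hφ.1 E.obj.hom
  obtain ⟨q₂, rfl⟩ := (yon S).map_surjective q₂'
  haveI : Etale q₁.left := hφ.2 _ _ _ sqQ
  haveI : Surjective q₁.left := hφs.2 _ _ _ sqQ
  have H : ∀ x : Q.left, ∃ (U : V.left.affineOpens) (W : Q.left.affineOpens),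
      x ∈ W.1 ∧ W.1 ≤ q₂.left ⁻¹ᵁ U.1 := by
    intro x
    obtain ⟨_, ⟨U, hU, rfl⟩, hx₁, -⟩ :=
      V.left.isBasis_affineOpens.exists_subset_of_mem_open (Set.mem_univ (q₂.left x)) isOpen_univ
    obtain ⟨_, ⟨W, hW, rfl⟩, hxW, hWle⟩ :=
      Q.left.isBasis_affineOpens.exists_subset_of_mem_open
        (show x ∈ ((q₂.left ⁻¹ᵁ U : Q.left.Opens) : Set Q.left) from hx₁)
        (q₂.left ⁻¹ᵁ U : Q.left.Opens).2
    exact ⟨⟨U, hU⟩, ⟨W, hW⟩, hxW, hWle⟩
  choose U W hxW hWU using H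
  haveI : ∀ x, IsAffine ((W x).1.toScheme) := fun x => (W x).2
  haveI : ∀ x, Flat ((W x).1.ι ≫ q₁.left) := fun x => inferInstance
  refine Groth.Agent.Helper5.IdealDesc.eq_of_flat_cover _ _ (fun x => (W x).1.toScheme)
    (fun x => (W x).1.ι ≫ q₁.left) (fun y => ?_) (fun x => ?_)
  · obtain ⟨x, rfl⟩ := q₁.left.surjective y
    exact ⟨x, ⟨⟨x, hxW x⟩, rfl⟩⟩
  · let WO : Over S := Over.mk ((W x).1.ι ≫ Q.hom)
    let ιW : WO ⟶ Q := Over.homMk (W x).1.ι rfl
    have hE' : IsAffine WO.left := (W x).2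
    let s : WO ⟶ E.obj.left := ιW ≫ q₁
    let a : (yon S).obj WO ⟶ X := (yon S).map s ≫ E.obj.hom
    have ha : RepWith @Etale a :=
      (repWith_isMultiplicative (S := S) @Etale).comp_mem _ _
        ((repWith_yon_map_iff _ _).2 (show Etale ((W x).1.ι ≫ q₁.left) from inferInstance))
        E.property
    let E' : EtOver X := EtOver.mk a ha
    let g : E' ⟶ E := EtOver.homMk s rfl
    have e1 := idealOfRep_map_eq (imgι ((yon S).map (subι K) ≫ φ)) hci g hE hE'
    have e2 := ideal_eq_of_isQCoh I hI g hE hE'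
    show Ideal.map g.hom.left.left.appTop.hom _ = Ideal.map g.hom.left.left.appTop.hom _
    rw [← e1, ← e2]
    let r₀ : WO ⟶ Over.mk ((U x).1.ι ≫ V.hom) :=
      Over.homMk (q₂.left.resLE (U x).1 (W x).1 (hWU x)) (by
        show q₂.left.resLE (U x).1 (W x).1 (hWU x) ≫ (U x).1.ι ≫ V.hom = (W x).1.ι ≫ Q.hom
        rw [← Category.assoc, Scheme.Hom.resLE_comp_ι, Category.assoc, CategoryTheory.Over.w q₂])
    have e₀ : r₀ ≫ (Over.homMk (U x).1.ι rfl : Over.mk ((U x).1.ι ≫ V.hom) ⟶ V) = ιW ≫ q₂ := by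
      ext
      exact Scheme.Hom.resLE_comp_ι _ _
    have hra : (yon S).map (r₀ ≫ (Over.homMk (U x).1.ι rfl :
        Over.mk ((U x).1.ι ≫ V.hom) ⟶ V)) ≫ φ = a := by
      rw [e₀, Functor.map_comp, Category.assoc, sqQ.w, ← Category.assoc, ← Functor.map_comp]
    have k := chartIdeal_comap_top I hI φ hφ hE' (U x) r₀ a ha hra
    have kb := ker_bcπ_eq_comap (imgι ((yon S).map (subι K) ≫ φ)) hci.1 φ K
      (toImg ((yon S).map (subι K) ≫ φ)) sqK E'
      (r₀ ≫ (Over.homMk (U x).1.ι rfl : Over.mk ((U x).1.ι ≫ V.hom) ⟶ V)) hra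
    haveI : IsClosedImmersion (EtOver.bcπ hci.1 E').left :=
      hci.2 _ _ _ (EtOver.isPullback_bcObj hci.1 E')
    have hT : IsAffineOpen (⊤ : WO.left.Opens) := @isAffineOpen_top _ hE'
    have k2 := congrArg (fun J : WO.left.IdealSheafData => J.ideal ⟨⊤, hT⟩) kb
    simp only at k2
    rw [Scheme.Hom.ker_apply] at k2
    exact k2.trans k

/-- S9988 -/
theorem s9988 (X : AlgSp.Space S) (I : AlgSp.IdealEt X.obj) (hI : I.IsQCoh) :
    ∃ (Z : AlgSp.Space S) (i : Z ⟶ X), AlgSp.IsCutOutBy I i.hom := by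
  obtain ⟨Z, i, hZ, hc⟩ := exists_isCutOutBy X.property I hI
  exact ⟨⟨Z, hZ⟩, ObjectProperty.homMk i, hc⟩

end Groth.Agent.Helper5.IdealEtChart
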