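import Groth.Agent.Helper5.IdealEtChart3
import Groth.Agent.Helper5.SchImg3
import Groth.Agent.Helper5.AlgSpOpen
import Groth.Agent.Helper5.FppfLift
import Mathlib

/-! Factoring through the closed subspace cut out by a sheaf of ideals. -/

set_option autoImplicit false
set_option linter.style.haveILetI false
universe u
open CategoryTheory CategoryTheory.Limits AlgebraicGeometry Opposite MorphismProperty

namespace Groth.Agent.Helper5.IdealEtChart

open AlgSp Groth.Agent.Helper5.EffCart Groth.Agent.Helper5.SchImg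

variable {S : Scheme.{u}}

set_option backward.isDefEq.respectTransparency.types false in
/-- if `h` factors through `i` then the ideal of `i` is contained in the ideal of `h` -/
theorem le_idealOfRep_of_factor {X Z Y : Sp S} (i : Z ⟶ X) (hi : Representable i) (h : Y ⟶ X)
    (hh : Representable h) (k : Y ⟶ Z) (hk : k ≫ i = h) : idealOfRep hi ≤ idealOfRep hh := by
  intro E hE a ha
  rw [mem_idealOfRep_iff] at ha ⊢
  have sqh := EtOver.isPullback_bcObj hh E
  have sqi := EtOver.isPullback_bcObj hi E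
  let l := sqi.lift ((EtOver.bcObj hh E).obj.hom ≫ k) ((yon S).map (EtOver.bcπ hh E)) (by
    rw [Category.assoc, hk, sqh.w])
  have h2 : l ≫ (yon S).map (EtOver.bcπ hi E) = (yon S).map (EtOver.bcπ hh E) :=
    sqi.lift_snd _ _ _
  obtain ⟨l₀, hl₀⟩ := (yon S).map_surjective l
  rw [← hl₀, ← Functor.map_comp] at h2
  have h3 : l₀ ≫ EtOver.bcπ hi E = EtOver.bcπ hh E := (yon S).map_injective h2
  have h4 : (EtOver.bcπ hh E).left = l₀.left ≫ (EtOver.bcπ hi E).left := by
    rw [← h3]
    rfl
  rw [h4, Scheme.Hom.comp_appTop, CommRingCat.hom_comp, RingHom.comp_apply, ha, map_zero]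

theorem ofIdealTop_mono {Y : Scheme.{u}} {I J : Ideal Γ(Y, ⊤)} (H : I ≤ J) :
    Scheme.IdealSheafData.ofIdealTop I ≤ Scheme.IdealSheafData.ofIdealTop J := by
  intro U
  simp only [Scheme.IdealSheafData.ofIdealTop_ideal]
  exact Ideal.map_mono H

set_option backward.isDefEq.respectTransparency.types false in
/-- over an affine object of the small étale site, the base change of `h` factors through the
base change of the closed subspace -/
theorem exists_local_factor {X Z Y : Sp S} (i : Z ⟶ X) (hi : RepWith @IsClosedImmersion i)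
    (h : Y ⟶ X) (hh : Representable h) (H : idealOfRep hi.1 ≤ idealOfRep hh)
    (E : EtOver X) (hE : IsAffine E.obj.left.left) :
    ∃ a : (yon S).obj (EtOver.bcObj hh E).obj.left ⟶ Z,
      a ≫ i = (EtOver.bcObj hh E).obj.hom ≫ h := by
  haveI := hE
  haveI : IsClosedImmersion (EtOver.bcπ hi.1 E).left :=
    hi.2 _ _ _ (EtOver.isPullback_bcObj hi.1 E)
  have hk : (EtOver.bcπ hi.1 E).left.ker ≤ (EtOver.bcπ hh E).left.ker := by
    rw [Scheme.ker_of_isAffine, Scheme.ker_of_isAffine]
    exact ofIdealTop_mono (H E hE)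
  obtain ⟨l, hl⟩ := exists_over_lift (EtOver.bcπ hi.1 E) (EtOver.bcπ hh E) hk
  refine ⟨(yon S).map l ≫ (EtOver.bcObj hi.1 E).obj.hom, ?_⟩
  rw [Category.assoc, (EtOver.isPullback_bcObj hi.1 E).w, ← Category.assoc, ← Functor.map_comp,
    hl, (EtOver.isPullback_bcObj hh E).w]

set_option backward.isDefEq.respectTransparency.types false in
/-- a morphism from a scheme whose ideal contains the ideal of a closed subspace factors through
the closed subspace -/
theorem exists_factor_of_le {X Z : Sp S} (hX : IsAlgSpace X) (i : Z ⟶ X)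
    (hi : RepWith @IsClosedImmersion i) {T : Over S} (h : (yon S).obj T ⟶ X)
    (hh : Representable h) (H : idealOfRep hi.1 ≤ idealOfRep hh) :
    ∃ k : (yon S).obj T ⟶ Z, k ≫ i = h := by
  haveI : Mono i := mono_of_closedImmersion i hi
  obtain ⟨V, φ, hφ, hφs⟩ := hX.atlas
  let E : V.left.affineOpens → EtOver X := fun U => chartObj φ hφ U.1
  have hE : ∀ U, IsAffine (E U).obj.left.left := fun U => U.2
  let Tk : V.left.affineOpens → Over S := fun U => (EtOver.bcObj hh (E U)).obj.left
  have hc : ∀ U, ∃ c : Tk U ⟶ T, (yon S).map c = (EtOver.bcObj hh (E U)).obj.hom :=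
    fun U => (yon S).map_surjective _
  choose c hc using hc
  have sq : ∀ U, IsPullback ((yon S).map (c U)) ((yon S).map (EtOver.bcπ hh (E U))) h
      (E U).obj.hom := by
    intro U
    rw [hc U]
    exact EtOver.isPullback_bcObj hh (E U)
  have hce : ∀ U, Etale (c U).left := fun U => (E U).property.2 _ _ _ (sq U).flip
  have hcov : Sieve.ofArrows Tk c ∈ J S T := by
    refine Groth.Agent.Helper5.FppfLift.ofArrows_mem_J Tk c (fun U => ?_) (fun U => ?_)
      (fun z => ?_)
    · haveI := hce U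
      infer_instance
    · haveI := hce U
      infer_instance
    · obtain ⟨ξ, hξ⟩ := Groth.Agent.Helper4.AlgSpPts.isSurjectiveMor_of_repWith φ hφs
        (Points.map h (Points.schemeHomeo T z))
      obtain ⟨v, rfl⟩ := (Points.schemeHomeo V).surjective ξ
      obtain ⟨_, ⟨U, hU, rfl⟩, hvU, -⟩ :=
        V.left.isBasis_affineOpens.exists_subset_of_mem_open (Set.mem_univ v) isOpen_univ
      let U' : V.left.affineOpens := ⟨U, hU⟩
      refine ⟨U', ?_⟩
      rw [mem_range_iff_of_isPullback (E U').obj.hom h (c U')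
        ((yon S).map (EtOver.bcπ hh (E U'))) (sq U').flip z, ← hξ]
      refine ⟨Points.schemeHomeo (Over.mk (U'.1.ι ≫ V.hom)) ⟨v, hvU⟩, ?_⟩
      show Points.map ((yon S).map (Over.homMk U'.1.ι rfl : Over.mk (U'.1.ι ≫ V.hom) ⟶ V) ≫ φ) _ = _
      rw [Points.map_comp, Points.map_yon_map_apply]
      rfl
  apply Groth.Agent.Helper5.SpCoprod.exists_lift_of_local_lift i h _ hcov
  rintro W γ ⟨W', g, f, ⟨U⟩, rfl⟩
  obtain ⟨a, ha⟩ := exists_local_factor i hi h hh H (E U) (hE U)
  refine ⟨(yon S).map g ≫ a, ?_⟩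
  rw [Category.assoc, ha, ← hc U, Functor.map_comp, Category.assoc]

/-- S10001 -/
theorem s10001 {Z X : AlgSp.Space S} (i : Z ⟶ X) (I : AlgSp.IdealEt X.obj)
    (hZ : AlgSp.IsCutOutBy I i.hom) {T : Over S} (h : (AlgSp.yon S).obj T ⟶ X.obj)
    (hh : AlgSp.Representable h) :
    (∃ k : (AlgSp.yon S).obj T ⟶ Z.obj, k ≫ i.hom = h) ↔ I ≤ AlgSp.idealOfRep hh := by
  obtain ⟨hi, rfl⟩ := hZ
  constructor
  · rintro ⟨k, hk⟩
    exact le_idealOfRep_of_factor i.hom hi.1 h hh k hk
  · intro H
    exact exists_factor_of_le X.property i.hom hi h hh H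

/-- S9989 -/
theorem s9989 {X Z Z' : AlgSp.Space S} (i : Z ⟶ X) (i' : Z' ⟶ X)
    (I I' : AlgSp.IdealEt X.obj) (h : AlgSp.IsCutOutBy I i.hom) (h' : AlgSp.IsCutOutBy I' i'.hom) :
    I ≤ I' ↔ ∃ k : Z' ⟶ Z, k ≫ i = i' := by
  obtain ⟨hi, rfl⟩ := h
  obtain ⟨hi', rfl⟩ := h'
  constructor
  · intro H
    haveI : Mono i.hom := mono_of_closedImmersion i.hom hi
    obtain ⟨l, hl⟩ := Groth.Agent.Helper4.AlgSpOpenImage.exists_lift_of_mono i.hom i'.hom
      (fun U s => by
        have hh : Representable (s ≫ i'.hom) := X.property.representable_from_yon _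
        have H2 : idealOfRep hi'.1 ≤ idealOfRep hh :=
          le_idealOfRep_of_factor i'.hom hi'.1 (s ≫ i'.hom) hh s rfl
        exact exists_factor_of_le X.property i.hom hi (s ≫ i'.hom) hh
          (fun E hE => (H E hE).trans (H2 E hE)))
    exact ⟨ObjectProperty.homMk l, ObjectProperty.hom_ext _ hl⟩
  · rintro ⟨k, hk⟩
    exact le_idealOfRep_of_factor i.hom hi.1 i'.hom hi'.1 k.hom (congrArg (fun f => f.hom) hk)

end Groth.Agent.Helper5.IdealEtChart
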