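import Groth.Agent.Helper5.IdealEtCut3
import Groth.Agent.Helper4.AlgSpQC
import Mathlib

/-! The scheme theoretic image of a quasi-compact representable morphism is cut out by the kernel
ideal. -/

set_option autoImplicit false
set_option linter.style.haveILetI false
universe u
open CategoryTheory CategoryTheory.Limits AlgebraicGeometry Opposite MorphismProperty

namespace Groth.Agent.Helper5.IdealEtChart

open AlgSp Groth.Agent.Helper5.EffCart Groth.Agent.Helper5.SchImg Groth.Agent.Helper5.ClosedSub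
  Groth.Agent.Helper5.RedInd Groth.Agent.Helper4.AlgSpOpenImage

variable {S : Scheme.{u}}

set_option backward.isDefEq.respectTransparency.types false in
/-- the kernel ideal of a quasi-compact representable morphism is quasi-coherent, as an equality -/
theorem idealOfRep_map_eq_of_qc {X Y : Sp S} (f : X ⟶ Y) (hf : RepWith @QuasiCompact f)
    {E E' : EtOver Y} (g : E' ⟶ E) (hE : IsAffine E.obj.left.left)
    (hE' : IsAffine E'.obj.left.left) :
    (idealOfRep hf.1).ideal E' hE' =
      ((idealOfRep hf.1).ideal E hE).map g.hom.left.left.appTop.hom := by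
  haveI := hE
  haveI := hE'
  haveI : QuasiCompact (EtOver.bcπ hf.1 E).left :=
    hf.2 _ _ _ (EtOver.isPullback_bcObj hf.1 E)
  haveI : QuasiCompact (EtOver.bcπ hf.1 E').left :=
    hf.2 _ _ _ (EtOver.isPullback_bcObj hf.1 E')
  haveI : Etale g.hom.left.left := EtOver.etale_left g
  have sq := EtOver.isPullback_bcMap_left hf.1 g
  have hk : (EtOver.bcπ hf.1 E').left.ker =
      (EtOver.bcπ hf.1 E).left.ker.comap g.hom.left.left :=
    ker_comap_of_flat _ _ _ _ sq
  have h1 := congrArg (fun J : E'.obj.left.left.IdealSheafData =>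
    J.ideal ⟨⊤, isAffineOpen_top _⟩) hk
  simp only at h1
  rw [Groth.Agent.Helper9.IdealComap.ideal_comap_top_of_isAffine, Scheme.Hom.ker_apply,
    Scheme.Hom.ker_apply] at h1
  exact h1

theorem idealOfRep_isQCoh_of_qc {X Y : Sp S} (f : X ⟶ Y) (hf : RepWith @QuasiCompact f) :
    (idealOfRep hf.1).IsQCoh := fun _ _ g hE hE' => (idealOfRep_map_eq_of_qc f hf g hE hE').le

/-- a representable morphism whose ideal contains the ideal of a closed subspace factors through
it -/
theorem exists_factor_of_idealOfRep_le {X Z Z' : Sp S} (hX : IsAlgSpace X) (i : Z ⟶ X)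
    (hi : RepWith @IsClosedImmersion i) (j : Z' ⟶ X) (hj : Representable j)
    (H : idealOfRep hi.1 ≤ idealOfRep hj) : ∃ k : Z' ⟶ Z, k ≫ i = j := by
  haveI : Mono i := mono_of_closedImmersion i hi
  refine exists_lift_of_mono i j (fun U s => ?_)
  have hh : Representable (s ≫ j) := hX.representable_from_yon _
  have H2 : idealOfRep hj ≤ idealOfRep hh := le_idealOfRep_of_factor j hj (s ≫ j) hh s rfl
  exact exists_factor_of_le hX i hi (s ≫ j) hh (fun E hE => (H E hE).trans (H2 E hE))

theorem idealOfRep_eq_of_iso {X Z Z' : Sp S} (i : Z ⟶ X) (hi : Representable i) (i' : Z' ⟶ X)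
    (hi' : Representable i') (e : Z ≅ Z') (he : e.hom ≫ i' = i) :
    idealOfRep hi = idealOfRep hi' := by
  apply IdealEt.ext
  funext E hE
  apply le_antisymm
  · exact le_idealOfRep_of_factor i hi i' hi' e.inv (by rw [← he, Iso.inv_hom_id_assoc]) E hE
  · exact le_idealOfRep_of_factor i' hi' i hi e.hom he E hE

theorem isSchImage_of_isCutOutBy {X Y Z : Sp S} (hY : IsAlgSpace Y) (f : X ⟶ Y)
    (hf : Representable f) (i : Z ⟶ Y) (h : IsCutOutBy (idealOfRep hf) i) : IsSchImage f i := by
  obtain ⟨hi, hI⟩ := h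
  refine ⟨hi, ?_, ?_⟩
  · exact exists_factor_of_idealOfRep_le hY i hi f hf (fun E hE => (congrArg
      (fun J : IdealEt Y => J.ideal E hE) hI).le)
  · rintro Z' i' - hi' ⟨f'', hf''⟩
    refine exists_factor_of_idealOfRep_le hY i' hi' i hi.1 (fun E hE => ?_)
    have h1 := le_idealOfRep_of_factor i' hi'.1 f hf f'' hf'' E hE
    exact h1.trans (congrArg (fun J : IdealEt Y => J.ideal E hE) hI).ge

/-- S10003 -/
theorem s10003 {X Y : AlgSp.Space S} (f : X ⟶ Y)
    (hf : AlgSp.Representable f.hom) (hqc : AlgSp.IsQuasiCompactMor f.hom) :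
    (AlgSp.idealOfRep hf).IsQCoh ∧
      ∀ (Z : AlgSp.Space S) (i : Z ⟶ Y), AlgSp.IsSchImage f.hom i.hom ↔
        AlgSp.IsCutOutBy (AlgSp.idealOfRep hf) i.hom := by
  have hfq : RepWith @QuasiCompact f.hom :=
    Groth.Agent.Helper4.AlgSpQC.repWith_of_isQuasiCompactMor f.hom hf hqc
  have hq : (idealOfRep hf).IsQCoh := idealOfRep_isQCoh_of_qc f.hom hfq
  refine ⟨hq, fun Z i => ⟨fun h => ?_, fun h => isSchImage_of_isCutOutBy Y.property f.hom hf i.hom h⟩⟩
  obtain ⟨Z₀, i₀, hZ₀, hc₀⟩ := exists_isCutOutBy Y.property (idealOfRep hf) hq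
  have h₀ : IsSchImage f.hom i₀ := isSchImage_of_isCutOutBy Y.property f.hom hf i₀ hc₀
  obtain ⟨e, he⟩ := isSchImage_unique Z.property hZ₀ f.hom i.hom i₀ h h₀
  obtain ⟨hi₀, hI₀⟩ := hc₀
  exact ⟨h.1, (idealOfRep_eq_of_iso i.hom h.1.1 i₀ hi₀.1 e he).trans hI₀⟩

end Groth.Agent.Helper5.IdealEtChart
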