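import Mathlib
import Groth.Agent.Helper5.ImmCons1
import Groth.Agent.Lead.SchDescent4

set_option autoImplicit false
universe u

namespace Groth.Agent.Helper5.ImmCons

open CategoryTheory CategoryTheory.Limits AlgebraicGeometry TopologicalSpace Topology MorphismProperty

/-- Lemma N: base changes of `f` and of its restriction to an open subscheme of the source agree
when everything lying over the new base is contained in that open subscheme -/
theorem snd_iff_of_openImmersion (P : MorphismProperty Scheme.{u}) [P.RespectsIso]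
    {X₀ X Y Y₁ : Scheme.{u}} (jX : X₀ ⟶ X) [IsOpenImmersion jX] (f : X ⟶ Y) (ι : Y₁ ⟶ Y)
    (hcov : ∀ x : X, f.base x ∈ Set.range ι.base → x ∈ Set.range jX.base) :
    P (pullback.snd f ι) ↔ P (pullback.snd (jX ≫ f) ι) := by
  let φ : pullback (jX ≫ f) ι ⟶ pullback f ι :=
    pullback.map (jX ≫ f) ι f ι jX (𝟙 Y₁) (𝟙 Y) (by simp) (by simp)
  haveI : IsOpenImmersion φ := by
    dsimp only [φ]
    infer_instance
  have hfst : φ ≫ pullback.fst f ι = pullback.fst (jX ≫ f) ι ≫ jX := pullback.lift_fst _ _ _
  have hsnd : φ ≫ pullback.snd f ι = pullback.snd (jX ≫ f) ι :=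
    (pullback.lift_snd _ _ _).trans (Category.comp_id _)
  have sq : IsPullback φ (pullback.fst (jX ≫ f) ι) (pullback.fst f ι) jX := by
    refine IsPullback.of_right ?_ hfst (IsPullback.of_hasPullback f ι).flip
    rw [hsnd]
    exact (IsPullback.of_hasPullback (jX ≫ f) ι).flip
  haveI : Surjective φ := by
    refine ⟨fun w => ?_⟩
    have h1 : f.base ((pullback.fst f ι).base w) ∈ Set.range ι.base := by
      refine ⟨(pullback.snd f ι).base w, ?_⟩
      have := congrArg (fun ψ : pullback f ι ⟶ Y => ψ.base w) (pullback.condition (f := f) (g := ι))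
      simp only [Scheme.Hom.comp_apply] at this
      exact this.symm
    obtain ⟨x₀, hx₀⟩ := hcov _ h1
    obtain ⟨v, hv, -⟩ := Scheme.exists_preimage_of_isPullback sq w x₀ hx₀.symm
    exact ⟨v, hv⟩
  haveI : IsIso φ := (isIso_iff_isOpenImmersion_and_surjective φ).mpr ⟨inferInstance, inferInstance⟩
  rw [← hsnd]
  exact (MorphismProperty.cancel_left_of_respectsIso (P := P) φ _).symm

/-- Lemma M: for `f = f_V ≫ j` with `j` an open immersion and `f_V` of closed range, a base change
of `f` is an immersion iff the corresponding base change of `f_V` is a closed immersion -/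
theorem immersion_iff_closedImmersion {X V Y Y₁ : Scheme.{u}} (fV : X ⟶ V) (j : V ⟶ Y)
    [IsOpenImmersion j] (hcl : IsClosed (Set.range fV.base)) (ι : Y₁ ⟶ Y) :
    IsImmersion (pullback.snd (fV ≫ j) ι) ↔
      IsClosedImmersion (pullback.snd fV (pullback.fst j ι)) := by
  let b := pullback.fst j ι
  let j₁ := pullback.snd j ι
  let fV₁ := pullback.snd fV b
  have big : IsPullback (pullback.fst fV b) (fV₁ ≫ j₁) (fV ≫ j) ι :=
    (IsPullback.of_hasPullback fV b).paste_vert (IsPullback.of_hasPullback j ι)
  let e := big.isoPullback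
  have he : e.hom ≫ pullback.snd (fV ≫ j) ι = fV₁ ≫ j₁ := big.isoPullback_hom_snd
  have h1 : IsImmersion (pullback.snd (fV ≫ j) ι) ↔ IsImmersion (fV₁ ≫ j₁) := by
    rw [← he]
    exact (MorphismProperty.cancel_left_of_respectsIso (P := @IsImmersion) e.hom _).symm
  rw [h1]
  constructor
  · intro h
    haveI : IsImmersion (fV₁ ≫ j₁) := h
    haveI : IsImmersion fV₁ := IsImmersion.of_comp fV₁ j₁
    refine IsClosedImmersion.of_isPreimmersion _ ?_
    have hr : Set.range fV₁.base = b.base ⁻¹' Set.range fV.base :=
      Groth.Agent.Lead.SchDescent4.range_fst_of_isPullback (IsPullback.of_hasPullback fV b).flip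
    rw [hr]
    exact hcl.preimage b.continuous
  · intro h
    haveI : IsClosedImmersion fV₁ := h
    infer_instance

end Groth.Agent.Helper5.ImmCons
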