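import Mathlib
import Groth.Agent.Helper5.ImmCons2

set_option autoImplicit false
universe u

namespace Groth.Agent.Helper5.ImmCons

open CategoryTheory CategoryTheory.Limits AlgebraicGeometry TopologicalSpace Topology MorphismProperty
open Groth.Agent.Helper5.FibTop

section Top

variable {Y : Type*} [TopologicalSpace Y] (F A : Set Y)

/-- if closures commute with passing to the subspace `F` for `A` and for its border `B`, and the
trace of `A` on `F` is locally closed in `F`, then every point of `F` in the closure of `B`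
lies in `B` -/
theorem mem_border_of_mem_closure
    (h2 : closure A ∩ F ⊆ closure (A ∩ F))
    (h3 : closure (closure A \ A) ∩ F ⊆ closure ((closure A \ A) ∩ F))
    (h1 : IsLocallyClosed (Subtype.val ⁻¹' A : Set F)) {y : Y} (hyF : y ∈ F)
    (hy : y ∈ closure (closure A \ A)) : y ∈ closure A \ A := by
  set B := closure A \ A with hB
  have hBF : (Subtype.val ⁻¹' B : Set F) =
      closure (Subtype.val ⁻¹' A : Set F) \ (Subtype.val ⁻¹' A : Set F) := by
    ext z
    constructor
    · rintro ⟨hz1, hz2⟩
      exact ⟨(mem_closure_subtype_iff F A z).mpr (h2 ⟨hz1, z.2⟩), hz2⟩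
    · rintro ⟨hz1, hz2⟩
      exact ⟨closure_mono Set.inter_subset_left ((mem_closure_subtype_iff F A z).mp hz1), hz2⟩
  have hcl : IsClosed (Subtype.val ⁻¹' B : Set F) := by
    rw [hBF]
    have := ((isLocallyClosed_tfae (Subtype.val ⁻¹' A : Set F)).out 0 1).mp h1
    rw [coborder, isOpen_compl_iff] at this
    exact this
  exact (subtype_closed_iff F B).mp hcl ⟨h3 ⟨hy, hyF⟩, hyF⟩

end Top

open Groth.Agent.Lead.FibLocus Groth.Agent.Helper5.EtCons Groth.Agent.Helper5.PropCons

variable {X Y S : Scheme.{u}} (f : X ⟶ Y) (g : Y ⟶ S)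

theorem locus_imm_eq :
    ConsProp.locusMor PImm f g = {s : S | IsImmersion (fibMap f g s)} := rfl

/-- if the fibre map is an immersion, the trace of the range on the fibre is locally closed -/
theorem mem_locus_lc_of_isImmersion (s : S) (h : IsImmersion (fibMap f g s)) :
    s ∈ locus ΦLC g (Set.range f.base) (Set.range f.base) := by
  show IsLocallyClosed (Subtype.val ⁻¹' (Set.range f.base) : Set ↥(g.base ⁻¹' {s}))
  rw [← image_range_fibMap f g s, Homeomorph.image_eq_preimage_symm]
  exact (fibMap f g s).isLocallyClosed_range.preimage (fibHomeo g s).symm.continuous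

/-- Claim 3: over a point `s` all of whose fibre in `X` lies in `X₀`, the fibre map of `f` is an
immersion iff the fibre map of `f_V : X₀ ⟶ V` (of closed range) is a closed immersion -/
theorem imm_fibMap_iff (X₀ : X.Opens) (V : Y.Opens) (fV : (X₀ : Scheme.{u}) ⟶ V)
    (hfV : fV ≫ V.ι = X₀.ι ≫ f) (hcl : IsClosed (Set.range fV.base)) (s : S)
    (hs : ∀ x : X, g.base (f.base x) = s → x ∈ X₀) :
    IsImmersion (fibMap f g s) ↔ IsClosedImmersion (fibMap fV (V.ι ≫ g) s) := by
  have hcov : ∀ x : X, f.base x ∈ Set.range (g.fiberι s).base → x ∈ Set.range X₀.ι.base := by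
    intro x hx
    rw [Scheme.Opens.range_ι]
    apply hs
    have := g.range_fiberι s
    rw [this] at hx
    exact hx
  rw [← snd_iff_fibMap f g (@IsImmersion) s, ← snd_iff_fibMap fV (V.ι ≫ g) (@IsClosedImmersion) s,
    snd_iff_of_openImmersion (@IsImmersion) X₀.ι f (g.fiberι s) hcov, ← hfV,
    immersion_iff_closedImmersion fV V.ι hcl (g.fiberι s)]
  let e := pullbackRightPullbackFstIso g (S.fromSpecResidueField s) V.ι
  have he : e.hom ≫ (V.ι ≫ g).fiberι s = pullback.fst V.ι (g.fiberι s) :=
    pullbackRightPullbackFstIso_hom_fst _ _ _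
  exact snd_iff_of_iso (@IsClosedImmersion) fV _ _ e he

end Groth.Agent.Helper5.ImmCons
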