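import Mathlib
import Groth.Agent.Helper5.ImmCons3

set_option autoImplicit false
universe u

namespace Groth.Agent.Helper5.ImmCons

open CategoryTheory CategoryTheory.Limits AlgebraicGeometry TopologicalSpace Topology MorphismProperty
open Groth.Agent.Lead.FibLocus Groth.Agent.Lead.LimDiag
open Groth.Agent.Helper5.ConsPr Groth.Agent.Helper5.ConsLc Groth.Agent.Helper5.FlatCons
open Groth.Agent.Helper5.SmCons Groth.Agent.Helper5.FibTop Groth.Agent.Helper5.PropCons

variable {X Y S : Scheme.{u}} (f : X ⟶ Y) (g : Y ⟶ S)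

set_option maxHeartbeats 800000 in
/-- over an integral Noetherian base, being an immersion is generically decided for the fibre
maps -/
theorem imm_decided [IsIntegral S] [IsNoetherian S]
    [LocallyOfFiniteType g] [QuasiCompact g] [LocallyOfFiniteType (f ≫ g)] [QuasiCompact (f ≫ g)] :
    SmCons.Decided PImm f g := by
  obtain ⟨hYN, hlft, hqc⟩ := noeth_of_comp f g
  obtain ⟨hXN, hfgfp⟩ := noeth_instances (f ≫ g)
  obtain ⟨-, hgfp⟩ := noeth_instances g
  haveI : NoetherianSpace Y := inferInstance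
  haveI : QuasiSeparatedSpace Y := ⟨fun U V _ _ _ _ => NoetherianSpace.isCompact _⟩
  haveI : LocallyOfFinitePresentation f :=
    LocallyOfFinitePresentation.iff_locallyOfFiniteType.mpr hlft
  let A : Set Y := Set.range f.base
  have hAlc : IsLocallyConstructible A := by
    have := f.isLocallyConstructible_image IsLocallyConstructible.univ
    rwa [Set.image_univ] at this
  have hA : IsConstructible A := hAlc.isConstructible
  let B : Set Y := closure A \ A
  have hB : IsConstructible B := (isConstructible_of_isClosed_noeth isClosed_closure).sdiff hA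
  have hElc := isLocallyConstructible_locus g invOpenSurj_lc decided_lc A A hAlc hAlc
  rcases cons_decide _ hElc with h | h
  swap
  · right
    refine h.mono (interior_mono ?_)
    intro s hs hp
    exact hs (mem_locus_lc_of_isImmersion f g s hp)
  obtain ⟨U₂, hU₂, hU₂ne, h₂⟩ := exists_open_closure_fibre g A hA
  obtain ⟨U₃, hU₃, hU₃ne, h₃⟩ := exists_open_closure_fibre g B hB
  let U₁ : Set S := interior (locus ΦLC g A A)
  let U : S.Opens := ⟨U₁ ∩ U₂ ∩ U₃, (isOpen_interior.inter hU₂).inter hU₃⟩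
  have hUne : (U : Set S).Nonempty :=
    nonempty_preirreducible_inter (isOpen_interior.inter hU₂) hU₃
      (nonempty_preirreducible_inter isOpen_interior hU₂ h hU₂ne) hU₃ne
  -- Claim 1
  have hB1 : ∀ y : Y, y ∈ closure B → g.base y ∈ U → y ∈ B := by
    intro y hy hyU
    obtain ⟨⟨hy1, hy2⟩, hy3⟩ := hyU
    have hy1' : g.base y ∈ locus ΦLC g A A :=
      interior_subset (s := locus ΦLC g A A) hy1
    exact mem_border_of_mem_closure (g.base ⁻¹' {g.base y}) A (h₂ _ hy2) (h₃ _ hy3)
      hy1' rfl hy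
  -- the open subschemes
  let V : Y.Opens := g ⁻¹ᵁ U ⊓ ⟨(closure B)ᶜ, isClosed_closure.isOpen_compl⟩
  let X₀ : X.Opens := f ⁻¹ᵁ (g ⁻¹ᵁ U)
  have hXV : ∀ x : X₀, f.base x.1 ∈ V := by
    intro x
    refine ⟨x.2, fun hcl => ?_⟩
    exact (hB1 _ hcl x.2).2 ⟨x.1, rfl⟩
  have hrange : Set.range (X₀.ι ≫ f).base ⊆ Set.range V.ι.base := by
    rintro _ ⟨x, rfl⟩
    rw [Scheme.Opens.range_ι]
    exact hXV x
  let fV : (X₀ : Scheme.{u}) ⟶ V := IsOpenImmersion.lift V.ι (X₀.ι ≫ f) hrange
  have hfV : fV ≫ V.ι = X₀.ι ≫ f := IsOpenImmersion.lift_fac _ _ _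
  have hfVpt : ∀ x : X₀, (fV.base x).1 = f.base x.1 := by
    intro x
    have := congrArg (fun ψ : (X₀ : Scheme.{u}) ⟶ Y => ψ.base x) hfV
    simp only [Scheme.Hom.comp_apply] at this
    exact this
  -- Claim 2: closed range
  have hclV : IsClosed (Set.range fV.base) := by
    have hr : Set.range fV.base = V.ι.base ⁻¹' closure A := by
      ext v
      constructor
      · rintro ⟨x, rfl⟩
        apply subset_closure
        exact ⟨x.1, (hfVpt x).symm⟩
      · intro hv
        have hvA : v.1 ∈ A := by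
          by_contra hnA
          exact v.2.2 (subset_closure ⟨hv, hnA⟩)
        obtain ⟨x, hx⟩ := hvA
        have hx0 : x ∈ X₀ := by
          show g.base (f.base x) ∈ U
          rw [hx]
          exact v.2.1
        refine ⟨⟨x, hx0⟩, ?_⟩
        apply Subtype.ext
        rw [hfVpt]
        exact hx
    rw [hr]
    exact isClosed_closure.preimage V.ι.continuous
  -- finiteness instances
  haveI : LocallyOfFiniteType (V.ι ≫ g) := inferInstance
  haveI : IsNoetherian (V : Scheme.{u}) := by
    haveI : IsLocallyNoetherian (V : Scheme.{u}) := isLocallyNoetherian_of_isOpenImmersion V.ι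
    haveI : CompactSpace ↥(V : Scheme.{u}) :=
      isCompact_iff_compactSpace.mp (NoetherianSpace.isCompact (V : Set Y))
    exact {}
  haveI : IsNoetherian (X₀ : Scheme.{u}) := by
    haveI : IsLocallyNoetherian (X₀ : Scheme.{u}) := isLocallyNoetherian_of_isOpenImmersion X₀.ι
    haveI : CompactSpace ↥(X₀ : Scheme.{u}) :=
      isCompact_iff_compactSpace.mp (NoetherianSpace.isCompact (X₀ : Set X))
    exact {}
  haveI : QuasiCompact (V.ι ≫ g) := ⟨fun W _ _ => NoetherianSpace.isCompact _⟩
  have e : fV ≫ V.ι ≫ g = X₀.ι ≫ f ≫ g := by rw [← Category.assoc, hfV, Category.assoc]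
  haveI : LocallyOfFiniteType (fV ≫ V.ι ≫ g) := by rw [e]; infer_instance
  haveI : QuasiCompact (fV ≫ V.ι ≫ g) := ⟨fun W _ _ => NoetherianSpace.isCompact _⟩
  obtain ⟨-, hVfp⟩ := noeth_instances (V.ι ≫ g)
  obtain ⟨-, hX₀fp⟩ := noeth_instances (fV ≫ V.ι ≫ g)
  have hlc := Groth.Agent.Helper5.PropCons.lc_closedImmersion fV (V.ι ≫ g)
  have hdec := cons_decide _ hlc
  refine decided_of_eqOn (ConsProp.locusMor PImm f g) _ (U : Set S) U.2 hUne ?_ hdec
  intro s hs
  refine imm_fibMap_iff f g X₀ V fV hfV hclV s ?_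
  intro x hx
  show g.base (f.base x) ∈ U
  rw [hx]
  exact hs

theorem isConsMor_imm : ConsProp.IsConsMor (PImm.{u}) := by
  refine ⟨fieldStable_imm, ?_⟩
  intro X Y S f g _ _ _ _ _ _
  exact imm_decided f g

/-- S3446 -/
theorem lc_immersion [LocallyOfFinitePresentation g] [QuasiCompact g] [QuasiSeparated g]
    [LocallyOfFinitePresentation (f ≫ g)] [QuasiCompact (f ≫ g)] [QuasiSeparated (f ≫ g)] :
    IsLocallyConstructible {s : S | IsImmersion (fibMap f g s)} :=
  s5880 f g isConsMor_imm

end Groth.Agent.Helper5.ImmCons
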