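import Groth.Prelude.Def_CInt
import Mathlib

set_option autoImplicit false
universe u
open CategoryTheory CategoryTheory.Limits AlgebraicGeometry Opposite

namespace Groth.Agent.Helper5.ImmRed

theorem isOpen_of_isLocallyClosed_of_dense {α : Type*} [TopologicalSpace α] {s : Set α}
    (h : IsLocallyClosed s) (hd : Dense s) : IsOpen s := by
  obtain ⟨O, Z, hO, hZ, rfl⟩ := h
  have : Z = Set.univ := by
    rw [← hZ.closure_eq]
    exact Dense.closure_eq (hd.mono Set.inter_subset_right)
  rw [this, Set.inter_univ]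
  exact hO

theorem isOpenImmersion_of_isOpen_range {A B : Scheme.{u}} (w' : A ⟶ B) [IsImmersion w']
    [IsReduced B] (ho : IsOpen (Set.range w')) : IsOpenImmersion w' := by
  let O : B.Opens := ⟨Set.range w', ho⟩
  have hsub : Set.range w' ⊆ Set.range O.ι := by
    rw [Scheme.Opens.range_ι]
    exact subset_rfl
  let w'' : A ⟶ O := IsOpenImmersion.lift O.ι w' hsub
  have hw'' : w'' ≫ O.ι = w' := IsOpenImmersion.lift_fac _ _ _
  haveI : IsImmersion (w'' ≫ O.ι) := by rw [hw'']; infer_instance
  haveI : IsImmersion w'' := IsImmersion.of_comp w'' O.ι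
  have hsurj : Function.Surjective w'' := by
    intro x
    obtain ⟨a, ha⟩ : (O.ι x) ∈ Set.range w' := by
      have := x.2
      exact this
    refine ⟨a, ?_⟩
    apply O.ι.isOpenEmbedding.injective
    rw [← ha, ← hw'']
    rfl
  haveI : Surjective w'' := ⟨hsurj⟩
  haveI : IsClosedImmersion w'' :=
    .of_isPreimmersion _ (by rw [hsurj.range_eq]; exact isClosed_univ)
  haveI : IsIso w'' := isIso_of_isClosedImmersion_of_surjective w''
  rw [← hw'']
  infer_instance

theorem range_eq_preimage {A B U : Scheme.{u}} (w : A ⟶ U) (c : B ⟶ U)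
    (w' : A ⟶ B) [IsClosedImmersion c] (hw : w' ≫ c = w) :
    Set.range w' = c ⁻¹' Set.range w := by
  have hinj : Function.Injective c := c.isClosedEmbedding.injective
  ext x
  constructor
  · rintro ⟨a, rfl⟩
    exact ⟨a, by rw [← hw]; rfl⟩
  · rintro ⟨a, ha⟩
    refine ⟨a, hinj ?_⟩
    rw [← ha, ← hw]
    rfl

theorem dense_range_of_range_eq_closure {A B U : Scheme.{u}} (w : A ⟶ U) (c : B ⟶ U)
    (w' : A ⟶ B) [IsClosedImmersion c] (hw : w' ≫ c = w)
    (hr : Set.range c = closure (Set.range w)) : Dense (Set.range w') := by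
  rw [range_eq_preimage w c w' hw]
  rw [dense_iff_closure_eq, c.isClosedEmbedding.isInducing.closure_eq_preimage_closure_image,
    Set.image_preimage_eq_inter_range, hr,
    Set.inter_eq_left.2 subset_closure, ← hr]
  exact Set.preimage_range c

theorem isOpenImmersion_of_range_eq_closure {A B U : Scheme.{u}} (w : A ⟶ U) (c : B ⟶ U)
    (w' : A ⟶ B) [IsImmersion w] [IsClosedImmersion c] [IsReduced B] (hw : w' ≫ c = w)
    (hr : Set.range c = closure (Set.range w)) : IsOpenImmersion w' := by
  haveI : IsImmersion (w' ≫ c) := by rw [hw]; infer_instance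
  haveI : IsImmersion w' := IsImmersion.of_comp w' c
  have hlc : IsLocallyClosed (c ⁻¹' Set.range w) :=
    w.isLocallyClosed_range.preimage c.continuous
  have hd := dense_range_of_range_eq_closure w c w' hw hr
  apply isOpenImmersion_of_isOpen_range
  rw [range_eq_preimage w c w' hw] at hd ⊢
  exact isOpen_of_isLocallyClosed_of_dense hlc hd

/-- A dense open subscheme of a reduced scheme is schematically dense. -/
theorem isSchematicallyDense_of_isReduced {B : Scheme.{u}} [IsReduced B] (O : B.Opens)
    (hO : Dense (O : Set B)) : CInt.IsSchematicallyDense O := by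
  intro V
  rw [injective_iff_map_eq_zero]
  intro f hf
  rw [← AlgebraicGeometry.basicOpen_eq_bot_iff]
  have h1 : B.basicOpen (B.presheaf.map (homOfLE (inf_le_left : V ⊓ O ≤ V)).op f) = ⊥ := by
    rw [hf]
    simp
  rw [Scheme.basicOpen_res] at h1
  by_contra hne
  obtain ⟨x, hx⟩ : (B.basicOpen f : Set B).Nonempty := by
    rw [Set.nonempty_iff_ne_empty]
    intro h0
    apply hne
    ext y
    simp only [TopologicalSpace.Opens.coe_bot, Set.mem_empty_iff_false, iff_false]
    intro hy
    have : y ∈ (B.basicOpen f : Set B) := hy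
    rw [h0] at this
    exact this
  obtain ⟨y, hy1, hy2⟩ := hO.inter_open_nonempty _ (B.basicOpen f).2 ⟨x, hx⟩
  have hyV : y ∈ V := B.basicOpen_le f hy1
  have : y ∈ ((V ⊓ O) ⊓ B.basicOpen f : B.Opens) := ⟨⟨hyV, hy2⟩, hy1⟩
  rw [h1] at this
  exact this

end Groth.Agent.Helper5.ImmRed
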