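import Groth.Agent.Helper5.ClosedSub1
import Groth.Agent.Helper5.ImgFlat1
import Groth.Agent.Helper4.AlgSpQC
import Mathlib

/-! A quasi-compact immersion of algebraic spaces factors as an open immersion followed by a
closed immersion. -/

set_option autoImplicit false
universe u
open CategoryTheory CategoryTheory.Limits AlgebraicGeometry Opposite MorphismProperty

namespace Groth.Agent.Helper5.QcImm

open AlgSp Groth.Agent.Helper4.AlgSpOpenImage Groth.Agent.Helper4.AlgSpBasic
  Groth.Agent.Helper5.RedInd Groth.Agent.Helper5.ClosedSub Groth.Agent.Helper5.ImgFlat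
  Groth.Agent.Helper5.GeomFibSp

variable {S : Scheme.{u}}

set_option backward.isDefEq.respectTransparency.types false in
/-- S9935 -/
theorem s9935 {Z X : Sp S} (hX : IsAlgSpace X) (i : Z ⟶ X)
    (hi : RepWith @IsImmersion i) (hq : IsQuasiCompactMor i) :
    ∃ (Zbar : Sp S) (j : Z ⟶ Zbar) (c : Zbar ⟶ X), IsAlgSpace Zbar ∧ j ≫ c = i ∧
      RepWith @IsOpenImmersion j ∧ RepWith @IsClosedImmersion c := by
  obtain ⟨U, p, hp, hps⟩ := hX.atlas
  obtain ⟨ZU, w, b, sqZ⟩ := hi.1 p
  have hwi : IsImmersion w.left := hi.2 _ _ _ sqZ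
  have hqc : RepWith @QuasiCompact i :=
    Groth.Agent.Helper4.AlgSpQC.repWith_of_isQuasiCompactMor i hi.1 hq
  have hwq : QuasiCompact w.left := hqc.2 _ _ _ sqZ
  -- the scheme theoretic image in the chart
  let Zb : Over S := Over.mk (w.left.imageι ≫ U.hom)
  let ī : Zb ⟶ U := Over.homMk w.left.imageι rfl
  let j₀ : ZU ⟶ Zb := Over.homMk w.left.toImage (by
    show w.left.toImage ≫ w.left.imageι ≫ U.hom = ZU.hom
    rw [← Category.assoc, Scheme.Hom.toImage_imageι]
    exact CategoryTheory.Over.w w)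
  have hj₀ : j₀ ≫ ī = w := by
    ext
    exact w.left.toImage_imageι
  have hj₀l : j₀.left ≫ ī.left = w.left := w.left.toImage_imageι
  have hīc : IsClosedImmersion ī.left := inferInstanceAs (IsClosedImmersion w.left.imageι)
  have hj₀o : IsOpenImmersion j₀.left := inferInstanceAs (IsOpenImmersion w.left.toImage)
  have hj₀d : IsSchemeTheoreticallyDominant j₀.left :=
    inferInstanceAs (IsSchemeTheoreticallyDominant w.left.toImage)
  have hj₀q : QuasiCompact j₀.left := inferInstanceAs (QuasiCompact w.left.toImage)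
  have hmono_ī : Mono ī := by
    have : Mono ((Over.forget S).map ī) := by
      show Mono ī.left
      infer_instance
    exact (Over.forget S).mono_of_mono_map this
  have hymono : Mono ((yon S).map ī) := mono_yon_map ī
  -- the scheme `R₀ = U ×_X U`
  obtain ⟨R₀, pr₂, pr₁', sqR⟩ := hp.1 p
  obtain ⟨pr₁, rfl⟩ := (yon S).map_surjective pr₁'
  have hpr₁ : Etale pr₁.left := hp.2 _ _ _ sqR.flip
  have hpr₂ : Etale pr₂.left := hp.2 _ _ _ sqR
  -- the pullback of `i` to `R₀`
  obtain ⟨ZR, zR, bR, sqZR⟩ := hi.1 ((yon S).map pr₁ ≫ p)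
  have key : ∀ (pr : R₀ ⟶ U), Flat pr.left → (yon S).map pr ≫ p = (yon S).map pr₁ ≫ p →
      (pullback.snd ī.left pr.left).ker = zR.left.ker := by
    intro pr hprf hpr
    have hcomm : bR ≫ i = ((yon S).map zR ≫ (yon S).map pr) ≫ p := by
      rw [sqZR.w, Category.assoc, hpr]
    obtain ⟨q, hq⟩ := (yon S).map_surjective (sqZ.lift bR ((yon S).map zR ≫ (yon S).map pr) hcomm)
    have big : IsPullback ((yon S).map q ≫ b) ((yon S).map zR) i ((yon S).map pr ≫ p) := by
      rw [hq, sqZ.lift_fst, hpr]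
      exact sqZR
    have sq' : IsPullback ((yon S).map q) ((yon S).map zR) ((yon S).map w) ((yon S).map pr) :=
      IsPullback.of_right big (by rw [hq, sqZ.lift_snd]) sqZ
    have sqS : IsPullback q.left zR.left w.left pr.left :=
      isPullback_left (isPullback_of_yon_map sq')
    exact ker_snd_eq_of_flat w.left ī.left j₀.left hj₀l pr.left q.left zR.left sqS
  have hk1 := key pr₁ inferInstance rfl
  have hk2 := key pr₂ inferInstance sqR.w.symm
  -- invariance
  have hinv : ∀ (T'' : Over S) (α β : T'' ⟶ U), (yon S).map α ≫ p = (yon S).map β ≫ p →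
      (∃ z₀ : T'' ⟶ Zb, z₀ ≫ ī = α) → ∃ z₁ : T'' ⟶ Zb, z₁ ≫ ī = β := by
    rintro T'' α β hαβ ⟨z₀, hz₀⟩
    obtain ⟨ρ, hρ⟩ := (yon S).map_surjective (sqR.lift _ _ hαβ)
    have hρ1 : ρ ≫ pr₁ = α := by
      apply (yon S).map_injective
      rw [Functor.map_comp, hρ, sqR.lift_fst]
    have hρ2 : ρ ≫ pr₂ = β := by
      apply (yon S).map_injective
      rw [Functor.map_comp, hρ, sqR.lift_snd]
    let ρ₁ : T''.left ⟶ pullback ī.left pr₁.left := pullback.lift z₀.left ρ.left (by
      rw [← Over.comp_left, ← Over.comp_left, hz₀, hρ1])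
    have hρ₁ : ρ₁ ≫ pullback.snd ī.left pr₁.left = ρ.left := pullback.lift_snd _ _ _
    have hle : (pullback.snd ī.left pr₂.left).ker ≤ ρ.left.ker := by
      rw [hk2, ← hk1, ← hρ₁, Scheme.Hom.ker_comp, ← Scheme.IdealSheafData.map_bot]
      exact Scheme.IdealSheafData.map_mono _ bot_le
    let ρ₂ : T''.left ⟶ pullback ī.left pr₂.left :=
      IsClosedImmersion.lift (pullback.snd ī.left pr₂.left) ρ.left hle
    have hρ₂ : ρ₂ ≫ pullback.snd ī.left pr₂.left = ρ.left := IsClosedImmersion.lift_fac _ _ hle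
    have e1 : (ρ₂ ≫ pullback.fst ī.left pr₂.left) ≫ ī.left = β.left := by
      rw [Category.assoc, pullback.condition, ← Category.assoc, hρ₂, ← Over.comp_left, hρ2]
    refine ⟨Over.homMk (ρ₂ ≫ pullback.fst ī.left pr₂.left) ?_, ?_⟩
    · show (ρ₂ ≫ pullback.fst ī.left pr₂.left) ≫ w.left.imageι ≫ U.hom = T''.hom
      rw [← Category.assoc]
      erw [e1]
      exact CategoryTheory.Over.w β
    · ext
      exact e1
  obtain ⟨sqK, hci, hte, hts, hZbalg⟩ :=
    closedSubspace_of_invariant hX.diag p hp hps ī hīc hinv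
  generalize ha : (yon S).map ī ≫ p = a at sqK hci hte hts hZbalg
  -- the factorisation
  obtain ⟨j, hj⟩ : ∃ j : Z ⟶ img a, j ≫ imgι a = i := by
    apply exists_lift_of_mono
    intro T s
    obtain ⟨T', t, pf, sqT⟩ := hp.1 (s ≫ i)
    have ht : Etale t.left := hp.2 _ pf t sqT
    have hts' : Surjective t.left := hps.2 _ pf t sqT
    let m : (yon S).obj T' ⟶ (yon S).obj ZU :=
      sqZ.lift ((yon S).map t ≫ s) pf (by rw [Category.assoc]; exact sqT.w.symm)
    let a' : (yon S).obj T' ⟶ img a := m ≫ (yon S).map j₀ ≫ toImg a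
    have ha' : a' ≫ imgι a = (yon S).map t ≫ s ≫ i := by
      simp only [a', Category.assoc, toImg_ι]
      rw [← ha, ← Category.assoc ((yon S).map j₀), ← Functor.map_comp, hj₀, sqZ.lift_snd_assoc]
      exact sqT.w.symm ▸ rfl
    have : Flat t.left := inferInstance
    have : LocallyOfFinitePresentation t.left := inferInstance
    apply Groth.Agent.Helper5.SpCoprod.exists_lift_of_local_lift (imgι a) (s ≫ i)
      (Sieve.generate (Presieve.singleton t)) (generate_singleton_mem_J t)
    rintro V' γ ⟨Z', γ', _, ⟨⟩, rfl⟩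
    exact ⟨(yon S).map γ' ≫ a', by rw [Category.assoc, ha', Functor.map_comp, Category.assoc]⟩
  -- `j` is an open immersion
  have sq1 : IsPullback ((yon S).map j₀) (𝟙 _) ((yon S).map ī) ((yon S).map j₀ ≫ (yon S).map ī) :=
    (Groth.Agent.Helper4.AlgSpPB.isPullback_of_mono ((yon S).map j₀) ((yon S).map ī)).flip
  rw [← Functor.map_comp, hj₀] at sq1
  have bigJ : IsPullback ((yon S).map j₀) (𝟙 _ ≫ b) ((yon S).map ī ≫ p) i :=
    sq1.paste_vert sqZ.flip
  rw [Category.id_comp, ha] at bigJ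
  have bigJ' : IsPullback (b ≫ 𝟙 Z) ((yon S).map j₀) (j ≫ imgι a) (toImg a ≫ imgι a) := by
    rw [Category.comp_id, hj, toImg_ι]
    exact bigJ.flip
  have sqJ : IsPullback b ((yon S).map j₀) j (toImg a) := by
    refine IsPullback.of_right bigJ' ?_ (Groth.Agent.Helper4.AlgSpPB.isPullback_of_mono j (imgι a))
    rw [← cancel_mono (imgι a), Category.assoc, Category.assoc, hj, toImg_ι]
    exact bigJ.flip.w
  have hjo : RepWith @IsOpenImmersion j :=
    Groth.Agent.Helper5.AffDesc12.openImmersion_of_etale_chart j Zb (toImg a) hte hts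
      b ((yon S).map j₀) sqJ ((repWith_yon_map_iff _ j₀).2 hj₀o)
  exact ⟨img a, j, imgι a, hZbalg, hj, hjo, hci⟩

end Groth.Agent.Helper5.QcImm
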