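import Groth.Agent.Helper5.KerIdeal3
import Mathlib

/-! Etale base change of the scheme theoretic image of a quasi-compact morphism; density. -/

set_option autoImplicit false
set_option linter.style.haveILetI false
universe u
open CategoryTheory CategoryTheory.Limits AlgebraicGeometry Opposite MorphismProperty

namespace Groth.Agent.Helper5.KerIdeal

open AlgSp Groth.Agent.Helper5.IdealEtChart Groth.Agent.Helper5.SchImg
  Groth.Agent.Helper5.EffCart

variable {S : Scheme.{u}}

/-- an étale morphism is flat, in the chart sense -/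
theorem locP_flat_of_isEtaleMor {V Y : Sp S} (b : V ⟶ Y) (hb : IsEtaleMor b) : LocP @Flat b := by
  intro U W a c h ha hc hcomm
  let EU : EtOver Y := EtOver.mk (a ≫ b) (hb a ha)
  let EW : EtOver Y := EtOver.mk c hc
  let m : EU ⟶ EW := EtOver.homMk h hcomm.symm
  haveI : Etale h.left := EtOver.etale_left m
  infer_instance

set_option backward.isDefEq.respectTransparency.types false in
/-- the image of `f` is dense in the closed subspace cut out by its kernel ideal -/
theorem range_subset_closure_of_isCutOutBy {X Y Z : Sp S} (hY : IsAlgSpace Y) (f : X ⟶ Y)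
    (hq : IsQuasiCompactMor f) (i : Z ⟶ Y) (hc : IsCutOutBy (kerIdeal f) i) :
    Set.range (Points.map i) ⊆ closure (Set.range (Points.map f)) := by
  obtain ⟨hi, hI⟩ := hc
  rintro y hy
  rw [mem_closure_iff]
  intro O hO hyO
  obtain ⟨VY, φ, hφ, hφs⟩ := hY.atlas
  obtain ⟨ξ, hξ⟩ := Groth.Agent.Helper4.AlgSpPts.isSurjectiveMor_of_repWith φ hφs y
  obtain ⟨v, rfl⟩ := (Points.schemeHomeo VY).surjective ξ
  obtain ⟨_, ⟨U, hU, rfl⟩, hvU, -⟩ :=
    VY.left.isBasis_affineOpens.exists_subset_of_mem_open (Set.mem_univ v) isOpen_univ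
  let U' : VY.left.affineOpens := ⟨U, hU⟩
  let E₀ : EtOver Y := chartObj φ hφ U'.1
  have hE₀ : IsAffine E₀.obj.left.left := U'.2
  haveI := hE₀
  let e : E₀.obj.left.left := ⟨v, hvU⟩
  have he : Points.map E₀.obj.hom (Points.schemeHomeo E₀.obj.left e) = y := by
    show Points.map ((yon S).map (Over.homMk U'.1.ι rfl : Over.mk (U'.1.ι ≫ VY.hom) ⟶ VY) ≫ φ)
      (Points.schemeHomeo (Over.mk (U'.1.ι ≫ VY.hom)) ⟨v, hvU⟩) = _
    rw [Points.map_comp, Points.map_yon_map_apply, ← hξ]
    rfl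
  -- the covering chart
  obtain ⟨Q, q, hQ, hcq⟩ := exists_isCoverChart f hq E₀ hE₀
  haveI := hQ
  obtain ⟨t, ht⟩ := hcq.exists_map
  -- `e` lies in the range of the closed immersion
  have sq0 := EtOver.isPullback_bcObj hi.1 E₀
  haveI : IsClosedImmersion (EtOver.bcπ hi.1 E₀).left := hi.2 _ _ _ sq0
  have he1 : e ∈ Set.range (EtOver.bcπ hi.1 E₀).left := by
    rw [mem_range_iff_of_isPullback i E₀.obj.hom (EtOver.bcπ hi.1 E₀) _ sq0 e, he]
    exact hy
  -- the two kernels agree
  have hker : (EtOver.bcπ hi.1 E₀).left.ker = q.left.ker := by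
    rw [Scheme.ker_of_isAffine, Scheme.ker_of_isAffine]
    congr 1
    have h1 := congrArg (fun J : IdealEt Y => J.ideal E₀ hE₀) hI
    exact h1.trans (kerIdeal_eq_ker f E₀ q hcq hE₀)
  have h2 : Set.range (EtOver.bcπ hi.1 E₀).left = closure (Set.range q.left) := by
    have h3 := Scheme.Hom.support_ker (EtOver.bcπ hi.1 E₀).left
    have h4 := Scheme.Hom.support_ker q.left
    rw [hker, h4] at h3
    rw [h3]
    exact ((EtOver.bcπ hi.1 E₀).left.isClosedEmbedding.isClosed_range.closure_eq).symm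
  rw [h2, mem_closure_iff] at he1
  let O' : Set E₀.obj.left.left :=
    (fun x => Points.map E₀.obj.hom (Points.schemeHomeo E₀.obj.left x)) ⁻¹' O
  have hO' : IsOpen O' :=
    hO.preimage ((Points.continuous_map E₀.obj.hom).comp (Points.schemeHomeo E₀.obj.left).continuous)
  obtain ⟨_, hw1, ⟨w, rfl⟩⟩ := he1 O' hO'
    (show Points.map E₀.obj.hom (Points.schemeHomeo E₀.obj.left e) ∈ O from he.symm ▸ hyO)
  refine ⟨_, hw1, ⟨Points.map t (Points.schemeHomeo Q w), ?_⟩⟩
  rw [← Points.map_comp, ht, Points.map_comp, Points.map_yon_map_apply]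

/-- S9965 -/
theorem s9965 {X Y Z : AlgSp.Space S} (f : X ⟶ Y) (i : Z ⟶ Y)
    (hq : AlgSp.IsQuasiCompactMor f.hom) (hZ : AlgSp.IsSchImage f.hom i.hom) :
    (∀ (V XV ZV : AlgSp.Space S) (b : V ⟶ Y), AlgSp.IsEtaleMor b.hom →
      ∀ (f₁ : XV ⟶ X) (fV : XV ⟶ V) (i₁ : ZV ⟶ Z) (iV : ZV ⟶ V),
        IsPullback f₁.hom fV.hom f.hom b.hom → IsPullback i₁.hom iV.hom i.hom b.hom →
        AlgSp.IsSchImage fV.hom iV.hom) ∧
    Set.range (AlgSp.Points.map i.hom) ⊆ closure (Set.range (AlgSp.Points.map f.hom)) := by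
  have hc := (isSchImage_iff_isCutOutBy_kerIdeal Y.property Z.property f.hom hq i.hom).1 hZ
  refine ⟨?_, range_subset_closure_of_isCutOutBy Y.property f.hom hq i.hom hc⟩
  intro V XV ZV b hb f₁ fV i₁ iV sqX sqZ
  exact isSchImage_of_isCutOutBy_kerIdeal V.property fV.hom iV.hom
    (isCutOutBy_kerIdeal_of_flat Y.property b.hom (locP_flat_of_isEtaleMor b.hom hb) f.hom hq i.hom
      hc sqX sqZ)

end Groth.Agent.Helper5.KerIdeal
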