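import Groth.Agent.Helper5.RedImg2
import Groth.Agent.Helper5.QcImm1
import Groth.Agent.Helper5.ImmRed1
import Groth.Agent.Helper5.SchImg3
import Groth.Agent.Helper4.AlgSpPB
import Groth.Agent.S9969
import Groth.Agent.S9965
import Mathlib

set_option autoImplicit false
universe u
open CategoryTheory CategoryTheory.Limits AlgebraicGeometry Opposite

namespace Groth.Agent.Helper5.ImmImg

open AlgSp

variable {S : Scheme.{u}}

/-- If `Zbar` is the scheme theoretic image of `h = h' ≫ c`, then the scheme theoretic image of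
`h'` is all of `Zbar`. -/
theorem isSchImage_id {Z X Zbar : Sp S} (h : Z ⟶ X) (c : Zbar ⟶ X) (hc : IsSchImage h c)
    (h' : Z ⟶ Zbar) (fac : h' ≫ c = h) : IsSchImage h' (𝟙 Zbar) := by
  have hm : Mono c := Groth.Agent.Helper5.ProperImg.mono_of_closedImmersion c hc.1
  refine ⟨(repWith_isMultiplicative (S := S) @IsClosedImmersion).id_mem _, ⟨h', by simp⟩, ?_⟩
  intro Z' i' hZ' hi' ⟨f'', hf''⟩
  have := (repWith_isMultiplicative (S := S) @IsClosedImmersion).toIsStableUnderComposition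
  have hcomp : RepWith @IsClosedImmersion (i' ≫ c) :=
    MorphismProperty.comp_mem _ _ _ hi' hc.1
  obtain ⟨k, hk⟩ := hc.2.2 (i' ≫ c) hZ' hcomp ⟨f'', by rw [← Category.assoc, hf'', fac]⟩
  refine ⟨k, ?_⟩
  rw [← cancel_mono c, Category.assoc, hk, Category.id_comp]

theorem qc_case {Z X Zbar : Space S} (h : Z ⟶ X)
    (hh : RepWith @IsImmersion h.hom) (hq : IsQuasiCompactMor h.hom)
    (c : Zbar ⟶ X) (hc : IsSchImage h.hom c.hom) (h' : Z ⟶ Zbar) (fac : h' ≫ c = h) :
    RepWith @IsOpenImmersion h'.hom ∧ IsSchDense h'.hom ∧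
      Dense (Set.range (Points.map h'.hom)) := by
  have fac' : h'.hom ≫ c.hom = h.hom := by rw [← fac]; rfl
  have hm : Mono c.hom := Groth.Agent.Helper5.ProperImg.mono_of_closedImmersion c.hom hc.1
  obtain ⟨Z0, j, c0, hZ0, hjc, hj, hc0⟩ := Groth.Agent.Helper5.QcImm.s9935 X.property h.hom hh hq
  obtain ⟨k, hk⟩ := hc.2.2 c0 hZ0 hc0 ⟨j, hjc⟩
  have hm0 : Mono c0 := Groth.Agent.Helper5.ProperImg.mono_of_closedImmersion c0 hc0
  have hmk : Mono k := by
    have : Mono (k ≫ c0) := by rw [hk]; exact hm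
    exact mono_of_mono k c0
  have e : h'.hom ≫ k = j := by
    rw [← cancel_mono c0, Category.assoc, hk, hjc, fac']
  have sq1 : IsPullback (𝟙 Z.obj) h'.hom (h'.hom ≫ k) k :=
    Groth.Agent.Helper4.AlgSpPB.isPullback_of_mono h'.hom k
  rw [e] at sq1
  have ho : RepWith @IsOpenImmersion h'.hom :=
    (RepWith (S := S) @IsOpenImmersion).of_isPullback sq1 hj
  have sq2 : IsPullback (𝟙 Z.obj) h'.hom (h'.hom ≫ c.hom) c.hom :=
    Groth.Agent.Helper4.AlgSpPB.isPullback_of_mono h'.hom c.hom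
  rw [fac'] at sq2
  have hq' : IsQuasiCompactMor h'.hom :=
    Groth.Agent.Helper4.AlgSpQC.isQuasiCompactMor_of_isPullback sq2 hq
  have himg : IsSchImage h'.hom (𝟙 Zbar.obj) := isSchImage_id h.hom c.hom hc h'.hom fac'
  refine ⟨ho, (Groth.Agent.S9969.result h' ho hq').2 himg, ?_⟩
  have := (Groth.Agent.S9965.result h' (𝟙 Zbar) hq' himg).2
  rw [dense_iff_closure_eq]
  apply Set.eq_univ_of_univ_subset
  refine subset_trans ?_ this
  intro z _
  exact ⟨z, by
    show Points.map (𝟙 Zbar.obj) z = z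
    rw [Points.map_id]⟩

end Groth.Agent.Helper5.ImmImg
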