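import Groth.Agent.Helper5.ImmImg1
import Groth.Agent.Helper5.EtPt13
import Groth.Agent.Helper5.AffDesc12
import Mathlib

set_option autoImplicit false
universe u
open CategoryTheory CategoryTheory.Limits AlgebraicGeometry Opposite

namespace Groth.Agent.Helper5.ImmImg

open AlgSp

variable {S : Scheme.{u}}

theorem range_map_yon {T T' : Over S} (φ : T ⟶ T') :
    Set.range (Points.map ((yon S).map φ)) = Points.schemeHomeo T' '' Set.range φ.left := by
  ext y
  constructor
  · rintro ⟨x, rfl⟩
    obtain ⟨t, rfl⟩ := (Points.schemeHomeo T).surjective x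
    exact ⟨φ.left t, ⟨t, rfl⟩, (Points.map_yon_map_apply φ t).symm⟩
  · rintro ⟨_, ⟨t, rfl⟩, rfl⟩
    exact ⟨Points.schemeHomeo T t, Points.map_yon_map_apply φ t⟩

theorem isEtaleMor_of_repWith {F G : Sp S} (p : F ⟶ G) (hp : RepWith @Etale p) : IsEtaleMor p :=
  fun _ _ hφ => Groth.Agent.Helper4.AlgSpSrc.repWith_comp _ hφ hp

set_option backward.isDefEq.respectTransparency.types false in
theorem red_case {Z X Zbar : Space S} (h : Z ⟶ X)
    (hh : RepWith @IsImmersion h.hom) (hred : IsReducedSp Z.obj)
    (c : Zbar ⟶ X) (hc : IsSchImage h.hom c.hom) (h' : Z ⟶ Zbar) (fac : h' ≫ c = h) :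
    RepWith @IsOpenImmersion h'.hom ∧ IsSchDense h'.hom ∧
      Dense (Set.range (Points.map h'.hom)) := by
  have fac' : h'.hom ≫ c.hom = h.hom := by rw [← fac]; rfl
  have hR := Groth.Agent.Helper5.RedImg.s9966 h c hred hc
  obtain ⟨U, p, hp, hps⟩ := X.property.atlas
  obtain ⟨A, w, a, sqA⟩ := hh.1 p
  obtain ⟨B, cU, b', sqB⟩ := hc.1.1 p
  have hwi : IsImmersion w.left := hh.2 _ _ _ sqA
  have hci : IsClosedImmersion cU.left := hc.1.2 _ _ _ sqB
  have hb'e : RepWith @Etale b' := (RepWith (S := S) @Etale).of_isPullback sqB.flip hp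
  have hb's : RepWith @Surjective b' := (RepWith (S := S) @Surjective).of_isPullback sqB.flip hps
  obtain ⟨w', hw'⟩ := (yon S).map_surjective (sqB.lift (a ≫ h'.hom) ((yon S).map w) (by
    rw [Category.assoc, fac', sqA.w]))
  have hw'1 : (yon S).map w' ≫ b' = a ≫ h'.hom := by rw [hw', sqB.lift_fst]
  have hw'2 : w' ≫ cU = w := by
    apply (yon S).map_injective
    rw [Functor.map_comp, hw', sqB.lift_snd]
  have big : IsPullback a ((yon S).map w' ≫ (yon S).map cU) (h'.hom ≫ c.hom) p := by
    rw [← Functor.map_comp, hw'2, fac']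
    exact sqA
  have sqh' : IsPullback a ((yon S).map w') h'.hom b' :=
    (IsPullback.of_right big.flip hw'1 sqB.flip).flip
  have hBred : IsReduced B.left :=
    Groth.Agent.Helper5.EtPt.isReduced_of_isReducedSp Zbar hR.2.2 (EtOver.mk b' hb'e)
  -- the range of `cU` is the closure of the range of `w`
  have hpo : IsOpenMap (Points.map p) :=
    Groth.Agent.Helper5.RedImg.isOpenMap_of_isEtaleMor (IsAlgSpace.yon_obj U) X.property p
      (isEtaleMor_of_repWith p hp)
  have hrange : Set.range cU.left = closure (Set.range w.left) := by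
    apply Set.image_injective.2 (Points.schemeHomeo U).injective
    rw [← range_map_yon, (Points.schemeHomeo U).image_closure, ← range_map_yon,
      Groth.Agent.Helper5.RedImg.range_eq_preimage_of_isPullback sqB,
      Groth.Agent.Helper5.RedImg.range_eq_preimage_of_isPullback sqA, hR.2.1]
    exact hpo.preimage_closure_eq_closure_preimage (Points.continuous_map p) _
  have hw'l : w'.left ≫ cU.left = w.left := by rw [← Over.comp_left, hw'2]
  have hw'o : IsOpenImmersion w'.left :=
    Groth.Agent.Helper5.ImmRed.isOpenImmersion_of_range_eq_closure w.left cU.left w'.left hw'l hrange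
  have hw'd : Dense (Set.range w'.left) :=
    Groth.Agent.Helper5.ImmRed.dense_range_of_range_eq_closure w.left cU.left w'.left hw'l hrange
  have ho : RepWith @IsOpenImmersion h'.hom :=
    Groth.Agent.Helper5.AffDesc12.openImmersion_of_etale_chart h'.hom B b' hb'e hb's a _ sqh'
      ((repWith_yon_map_iff _ _).2 hw'o)
  refine ⟨ho, ?_, ?_⟩
  · refine Groth.Agent.Helper5.SchImg.isSchDense_of_chart h'.hom ho b' hb'e hb's w' a sqh' ?_
    apply Groth.Agent.Helper5.ImmRed.isSchematicallyDense_of_isReduced
    exact hw'd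
  · have hbs : Function.Surjective (Points.map b') :=
      Groth.Agent.Helper4.AlgSpPts.isSurjectiveMor_of_repWith b' hb's
    have hd1 : Dense (Set.range (Points.map ((yon S).map w'))) := by
      rw [range_map_yon]
      exact (Points.schemeHomeo B).surjective.denseRange.dense_image
        (Points.schemeHomeo B).continuous hw'd
    have hd2 : Dense (Points.map b' '' Set.range (Points.map ((yon S).map w'))) :=
      hbs.denseRange.dense_image (Points.continuous_map b') hd1
    refine hd2.mono ?_
    rintro _ ⟨_, ⟨x, rfl⟩, rfl⟩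
    refine ⟨Points.map a x, ?_⟩
    rw [← Points.map_comp, ← Points.map_comp, hw'1]

theorem s9971 {Z X Zbar : Space S} (h : Z ⟶ X)
    (hh : RepWith @IsImmersion h.hom) (hq : IsQuasiCompactMor h.hom ∨ IsReducedSp Z.obj)
    (c : Zbar ⟶ X) (hc : IsSchImage h.hom c.hom) (h' : Z ⟶ Zbar) (fac : h' ≫ c = h) :
    RepWith @IsOpenImmersion h'.hom ∧ IsSchDense h'.hom ∧
      Dense (Set.range (Points.map h'.hom)) := by
  rcases hq with hq | hq
  · exact qc_case h hh hq c hc h' fac
  · exact red_case h hh hq c hc h' fac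

end Groth.Agent.Helper5.ImmImg
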