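import Mathlib
import Groth.Prelude
import Groth.Agent.Lead.ProConsLib
import Groth.Agent.Helper7.PC

set_option autoImplicit false
set_option linter.style.haveILetI false
universe u

namespace Groth.Agent.Helper5.IndMul

open AlgebraicGeometry CategoryTheory CategoryTheory.Limits MonoidalCategory
  CartesianMonoidalCategory MonObj GrpObj TopologicalSpace Topology
open Groth.Agent.Lead.ProConsLib

/-- a point of an ind-constructible set has a locally closed neighbourhood inside the set -/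
theorem exists_isLocallyClosed_of_ind {X : Scheme.{u}} {E : Set X}
    (hE : ProCons.IsIndConstructible E) (x : X) (hx : x ∈ E) :
    ∃ L : Set X, IsLocallyClosed L ∧ x ∈ L ∧ L ⊆ E := by
  obtain ⟨V₁, V₂, -, h2, -, -, h5, h6, h7⟩ := ind_pieces hE x hx
  exact ⟨(V₁ : Set X) \ V₂, V₁.2.isLocallyClosed.inter h2.isClosed_compl.isLocallyClosed,
    ⟨h5, h6⟩, h7⟩

theorem s5395 (k : Type u) [Field k] [IsAlgClosed k] (G : Over (Spec (CommRingCat.of k))) [GrpObj G]
    [LocallyOfFiniteType G.hom] (A B : Set G.left) (hA : ProCons.IsIndConstructible A)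
    (hB : ProCons.IsIndConstructible B)
    (z : G.left) (hz : IsClosed ({z} : Set G.left))
    (hzAB : z ∈ μ[G].left.base '' {w : ↥(G ⊗ G).left |
      (fst G G).left.base w ∈ A ∧ (snd G G).left.base w ∈ B}) :
    ∃ w : ↥(G ⊗ G).left, IsClosed ({w} : Set ↥(G ⊗ G).left) ∧ (fst G G).left.base w ∈ A ∧
      (snd G G).left.base w ∈ B ∧ μ[G].left.base w = z := by
  obtain ⟨w₀, ⟨hw₀A, hw₀B⟩, hw₀z⟩ := hzAB
  have hA' := Groth.Agent.Helper7.PC.ind_preimage (fst G G).left A hA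
  have hB' := Groth.Agent.Helper7.PC.ind_preimage (snd G G).left B hB
  obtain ⟨L₁, hL₁, hw₁, hL₁sub⟩ := exists_isLocallyClosed_of_ind hA' w₀ hw₀A
  obtain ⟨L₂, hL₂, hw₂, hL₂sub⟩ := exists_isLocallyClosed_of_ind hB' w₀ hw₀B
  have hcl : IsClosed (μ[G].left ⁻¹' {z}) := hz.preimage μ[G].left.continuous
  have hL : IsLocallyClosed (L₁ ∩ L₂ ∩ μ[G].left ⁻¹' {z}) :=
    (hL₁.inter hL₂).inter hcl.isLocallyClosed
  have hne : (L₁ ∩ L₂ ∩ μ[G].left ⁻¹' {z}).Nonempty := ⟨w₀, ⟨hw₁, hw₂⟩, hw₀z⟩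
  haveI : LocallyOfFiniteType (G ⊗ G).hom := by
    rw [Over.tensorObj_hom]; infer_instance
  haveI : JacobsonSpace (G ⊗ G).left := LocallyOfFiniteType.jacobsonSpace (G ⊗ G).hom
  obtain ⟨w, ⟨⟨hwL₁, hwL₂⟩, hwz⟩, hwc⟩ := nonempty_inter_closedPoints hne hL
  exact ⟨w, hwc, hL₁sub hwL₁, hL₂sub hwL₂, hwz⟩

end Groth.Agent.Helper5.IndMul
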