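import Groth.Agent.Helper5.ThickBC4
import Mathlib

set_option autoImplicit false
set_option linter.style.haveILetI false
set_option linter.unusedSectionVars false
set_option linter.unusedVariables false
universe u
open CategoryTheory CategoryTheory.Limits AlgebraicGeometry Opposite TopologicalSpace

namespace Groth.Agent.Helper5.InfNb

open AlgSp Groth.Agent.Helper4

/-- cancel a monomorphism from both legs of a pullback square -/
theorem isPullback_of_comp_mono {C : Type*} [Category C] {P X Y Z W : C} {fst : P ⟶ X}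
    {snd : P ⟶ Y} {f : X ⟶ Z} {g : Y ⟶ Z} (k : Z ⟶ W) [Mono k]
    (h : IsPullback fst snd (f ≫ k) (g ≫ k)) : IsPullback fst snd f g := by
  have w : fst ≫ f = snd ≫ g := (cancel_mono k).1 (by simpa using h.w)
  refine ⟨⟨w⟩, ⟨PullbackCone.IsLimit.mk w
    (fun s => h.lift s.fst s.snd (by rw [← Category.assoc, s.condition, Category.assoc]))
    (fun s => h.lift_fst _ _ _) (fun s => h.lift_snd _ _ _)
    (fun s m h1 h2 => h.hom_ext (by rw [h1, h.lift_fst]) (by rw [h2, h.lift_snd]))⟩⟩

set_option backward.isDefEq.respectTransparency.types false in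
/-- if `W ⊂ W₁ ⊂ P` are closed subschemes of an affine scheme and the ideal of `W₁` is the square
of the ideal of `W`, then `W ⊂ W₁` is a first order thickening -/
theorem thick_sqZero_of_ker_sq {W W₁ P : Scheme.{u}} (θ : W ⟶ W₁) (sndn : W₁ ⟶ P) [IsAffine P]
    [IsClosedImmersion sndn] [IsClosedImmersion (θ ≫ sndn)]
    (h : sndn.ker = (θ ≫ sndn).ker ^ 2) : thick θ ∧ sqZero θ := by
  haveI : IsClosedImmersion θ := IsClosedImmersion.of_comp θ sndn
  obtain ⟨hW₁aff, hsurj⟩ := IsClosedImmersion.isAffine_surjective_of_isAffine sndn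
  haveI : IsAffine W₁ := hW₁aff
  have hsq : θ.ker * θ.ker = ⊥ := by
    apply Scheme.IdealSheafData.ext_of_isAffine
    rw [Scheme.IdealSheafData.ideal_mul, Pi.mul_apply, Scheme.IdealSheafData.ideal_bot,
      Pi.bot_apply, eq_bot_iff, Ideal.mul_le]
    intro x hx y hy
    rw [Scheme.Hom.ker_apply, RingHom.mem_ker] at hx hy
    obtain ⟨a, rfl⟩ := hsurj x
    obtain ⟨a', rfl⟩ := hsurj y
    have ha : a ∈ (θ ≫ sndn).ker.ideal ⟨⊤, isAffineOpen_top P⟩ := by
      rw [Scheme.Hom.ker_apply, RingHom.mem_ker, Scheme.Hom.comp_app]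
      exact hx
    have ha' : a' ∈ (θ ≫ sndn).ker.ideal ⟨⊤, isAffineOpen_top P⟩ := by
      rw [Scheme.Hom.ker_apply, RingHom.mem_ker, Scheme.Hom.comp_app]
      exact hy
    have hmem : a * a' ∈ sndn.ker.ideal ⟨⊤, isAffineOpen_top P⟩ := by
      rw [h, pow_two, Scheme.IdealSheafData.ideal_mul, Pi.mul_apply]
      exact Ideal.mul_mem_mul ha ha'
    rw [Scheme.Hom.ker_apply, RingHom.mem_ker] at hmem
    show sndn.appTop.hom a * sndn.appTop.hom a' = 0
    rw [← map_mul]
    exact hmem
  refine ⟨⟨inferInstance, ?_⟩, hsq⟩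
  have h1 : θ.ker.support = ⊤ := by
    have := Scheme.IdealSheafData.support_mul (I := θ.ker) (J := θ.ker)
    rw [hsq, Scheme.IdealSheafData.support_bot, sup_idem] at this
    exact this.symm
  have h2 := Scheme.Hom.support_ker θ
  rw [h1] at h2
  have hcl : IsClosed (Set.range θ) := θ.isClosedEmbedding.isClosed_range
  rw [hcl.closure_eq] at h2
  constructor
  intro y
  have : y ∈ Set.range θ := by
    rw [← h2]
    trivial
  exact this

end Groth.Agent.Helper5.InfNb
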