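import Groth.Agent.Helper5.InfNb1
import Groth.Agent.Helper5.FEt6
import Groth.Agent.Helper4.AlgSpPtsDesc
import Mathlib

set_option autoImplicit false
set_option linter.style.haveILetI false
set_option linter.unusedSectionVars false
set_option linter.unusedVariables false
universe u
open CategoryTheory CategoryTheory.Limits AlgebraicGeometry Opposite TopologicalSpace

namespace Groth.Agent.Helper5.InfNb

open AlgSp Groth.Agent.Helper4 Groth.Agent.Helper5.InfStd Groth.Agent.Helper5.FEt
  Groth.Agent.Helper5.ThickBC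

variable {S : Scheme.{u}}

set_option backward.isDefEq.respectTransparency.types false in
/-- an affine etale neighbourhood of a point of `T` over which `ζ` factors through one of the
charts `b l` -/
theorem exists_local_chart {W : Sp S} {κ : Type u} (A : κ → Over S)
    (b : ∀ l, (yon S).obj (A l) ⟶ W) (hbe : ∀ l, RepWith @Etale (b l)) {T : Over S}
    (ζ : (yon S).obj T ⟶ W) (t : ↥T.left)
    (ht : ∃ l, Points.map ζ (Points.ofScheme T t) ∈ Set.range (Points.map (b l))) :
    ∃ (l : κ) (R : Over S) (ρU : R ⟶ A l) (ρV : R ⟶ T), IsAffine R.left ∧ Etale ρV.left ∧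
      (∃ r : ↥R.left, ρV.left r = t) ∧ (yon S).map ρU ≫ b l = (yon S).map ρV ≫ ζ := by
  obtain ⟨l, z, hz⟩ := ht
  have hrep := (hbe l).rep
  have sqR := hrep.isPullback ζ
  have hqE : Etale (hrep.snd ζ).left := (hbe l).property _ _ _ sqR
  obtain ⟨rA, hrA⟩ := (yon S).map_surjective (hrep.fst ζ)
  rw [← hrA] at sqR
  clear hrA
  generalize hrep.snd ζ = qR at sqR hqE
  generalize hrep.pullback ζ = R at rA qR sqR hqE
  obtain ⟨p, -, hp2⟩ := AlgSpPtsDesc.exists_point_of_isPullback sqR z (Points.ofScheme T t) hz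
  obtain ⟨r, rfl⟩ := (Points.schemeEquiv R).surjective p
  have hr : qR.left r = t := by
    have h1 := Points.map_yon_map_apply qR r
    have h2 : Points.ofScheme T (qR.left r) = Points.ofScheme T t := h1.symm.trans hp2
    exact (Points.schemeEquiv T).injective h2
  obtain ⟨Rm, hRm, hrRm, -⟩ := (Opens.isBasis_iff_nbhd.mp R.left.isBasis_affineOpens)
    (show r ∈ (⊤ : R.left.Opens) from trivial)
  have hRm : IsAffineOpen Rm := hRm
  let RmO : Over S := Over.mk (Scheme.Opens.ι Rm ≫ R.hom)
  let eR : RmO ⟶ R := Over.homMk (Scheme.Opens.ι Rm) rfl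
  refine ⟨l, RmO, eR ≫ rA, eR ≫ qR, hRm, ?_, ⟨⟨r, hrRm⟩, ?_⟩, ?_⟩
  · show Etale (Scheme.Opens.ι Rm ≫ qR.left)
    haveI := hqE
    infer_instance
  · show (Scheme.Opens.ι Rm ≫ qR.left) ⟨r, hrRm⟩ = t
    rw [Scheme.Hom.comp_apply]
    exact hr
  · rw [Functor.map_comp, Functor.map_comp, Category.assoc, Category.assoc, sqR.w]

set_option backward.isDefEq.respectTransparency.types false in
/-- surjectivity of a representable closed immersion can be tested on a jointly surjective family
of etale charts -/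
theorem isThickMor_of_charts {Z Z₁ : Sp S} {i : Z ⟶ Z₁} (hi : RepWith @IsClosedImmersion i)
    {κ : Type u} (A : κ → Over S) (b : ∀ l, (yon S).obj (A l) ⟶ Z₁)
    (hbe : ∀ l, RepWith @Etale (b l))
    (hbs : ∀ w : Points Z₁, ∃ l, w ∈ Set.range (Points.map (b l)))
    (hloc : ∀ l, Surjective (hi.rep.snd (b l)).left) : IsThickMor i := by
  have hir := hi.rep
  refine ⟨hir, ?_⟩
  intro T V ζ fst snd sq
  refine ⟨hi.property _ _ _ sq, ⟨fun t => ?_⟩⟩
  obtain ⟨l, R, ρU, ρV, -, -, ⟨r, hr⟩, hcm⟩ := exists_local_chart A b hbe ζ t (hbs _)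
  have sql := hir.isPullback (b l)
  have sqm := hir.isPullback ((yon S).map ρU ≫ b l)
  obtain ⟨θ, hθ, -⟩ := exists_isPullback_restrict sql ρU sqm
  have hs : Surjective (hir.snd ((yon S).map ρU ≫ b l)).left :=
    MorphismProperty.of_isPullback (P := @Surjective) (hθ.map (Over.forget S)) (hloc l)
  have sqm' : IsPullback (hir.fst ((yon S).map ρU ≫ b l))
      ((yon S).map (hir.snd ((yon S).map ρU ≫ b l))) i ((yon S).map ρV ≫ ζ) := by
    rw [← hcm]; exact sqm
  obtain ⟨θ', hθ', -⟩ := exists_isPullback_restrict sq ρV sqm'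
  obtain ⟨w, hw⟩ := hs.surj r
  refine ⟨θ'.left w, ?_⟩
  have h1 : θ'.left ≫ snd.left = (hir.snd ((yon S).map ρU ≫ b l)).left ≫ ρV.left := by
    rw [← Over.comp_left, ← Over.comp_left, hθ'.w]
  show snd.left (θ'.left w) = t
  rw [← Scheme.Hom.comp_apply, h1, Scheme.Hom.comp_apply, hw, hr]

set_option backward.isDefEq.respectTransparency.types false in
set_option maxHeartbeats 800000 in
/-- the square-zero condition for a representable closed immersion can be tested on a jointly
surjective family of affine etale charts -/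
theorem sqZero_of_charts {Z Z₁ : Sp S} {i : Z ⟶ Z₁} (hi : RepWith @IsClosedImmersion i)
    {κ : Type u} (A : κ → Over S) (b : ∀ l, (yon S).obj (A l) ⟶ Z₁)
    (hA : ∀ l, IsAffine (A l).left) (hbe : ∀ l, RepWith @Etale (b l))
    (hbs : ∀ w : Points Z₁, ∃ l, w ∈ Set.range (Points.map (b l)))
    (hloc : ∀ l, thick (hi.rep.snd (b l)).left ∧ sqZero (hi.rep.snd (b l)).left) :
    AffLocT sqZero i := by
  have hir := hi.rep
  intro V₁ W₁ ζ fst₁ snd₁ hV₁ _ sq₁
  haveI : IsClosedImmersion snd₁.left := hi.property _ _ _ sq₁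
  choose l R ρU ρV hRaff hρVE hpt hcm using
    fun v : ↥V₁.left => exists_local_chart A b hbe ζ v (hbs _)
  have key : ∀ v, snd₁.left.ker.comap (ρV v).left * snd₁.left.ker.comap (ρV v).left = ⊥ := by
    intro v
    have sql := hir.isPullback (b (l v))
    have sqm := hir.isPullback ((yon S).map (ρU v) ≫ b (l v))
    obtain ⟨θ, hθ, -⟩ := exists_isPullback_restrict sql (ρU v) sqm
    obtain ⟨-, hsqm⟩ := thick_sqZero_of_isPullback _ (ρU v) θ _ hθ (hA (l v)) (hRaff v)
      (hloc (l v)).1 (hloc (l v)).2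
    have sqm' : IsPullback (hir.fst ((yon S).map (ρU v) ≫ b (l v)))
        ((yon S).map (hir.snd ((yon S).map (ρU v) ≫ b (l v)))) i ((yon S).map (ρV v) ≫ ζ) := by
      rw [← hcm v]; exact sqm
    obtain ⟨θ', hθ', -⟩ := exists_isPullback_restrict sq₁ (ρV v) sqm'
    have hθ'l : IsPullback θ'.left
        (hir.snd ((yon S).map (ρU v) ≫ b (l v))).left snd₁.left (ρV v).left :=
      hθ'.map (Over.forget S)
    have e1 : hθ'l.flip.isoPullback.hom ≫ pullback.fst (ρV v).left snd₁.left =
        (hir.snd ((yon S).map (ρU v) ≫ b (l v))).left :=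
      hθ'l.flip.isoPullback_hom_fst
    have e2 : (hir.snd ((yon S).map (ρU v) ≫ b (l v))).left.ker =
        snd₁.left.ker.comap (ρV v).left := by
      rw [← e1, Scheme.Hom.ker_comp_of_isIso, Scheme.IdealSheafData.ker_fst_of_isClosedImmersion]
    rw [← e2]
    exact hsqm
  show snd₁.left.ker * snd₁.left.ker = ⊥
  haveI : ∀ v, IsAffine (R v).left := hRaff
  haveI := hV₁
  refine mul_self_eq_bot_of_flat_cover snd₁.left.ker (fun v => (R v).left)
    (fun v => (ρV v).left) (fun v => ?_) (fun v => ?_) key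
  · haveI := hρVE v
    infer_instance
  · obtain ⟨r, hr⟩ := hpt v
    exact ⟨v, r, hr⟩

end Groth.Agent.Helper5.InfNb
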