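import Groth.Agent.Helper5.InfNb2
import Groth.Agent.Helper5.ProperImg1
import Mathlib

set_option autoImplicit false
set_option linter.style.haveILetI false
set_option linter.unusedSectionVars false
set_option linter.unusedVariables false
universe u
open CategoryTheory CategoryTheory.Limits AlgebraicGeometry Opposite TopologicalSpace

namespace Groth.Agent.Helper5.InfNb

open AlgSp Groth.Agent.Helper4 Groth.Agent.Helper5.InfStd Groth.Agent.Helper5.FEt
  Groth.Agent.Helper5.ThickBC

variable {S : Scheme.{u}}

/-- compose both legs of a pullback square with a monomorphism -/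
theorem isPullback_comp_mono {C : Type*} [Category C] {P X Y Z W : C} {fst : P ⟶ X}
    {snd : P ⟶ Y} {f : X ⟶ Z} {g : Y ⟶ Z} (k : Z ⟶ W) [Mono k]
    (h : IsPullback fst snd f g) : IsPullback fst snd (f ≫ k) (g ≫ k) := by
  have w : fst ≫ f ≫ k = snd ≫ g ≫ k := by rw [← Category.assoc, h.w, Category.assoc]
  refine ⟨⟨w⟩, ⟨PullbackCone.IsLimit.mk w
    (fun s => h.lift s.fst s.snd ((cancel_mono k).1 (by simpa using s.condition)))
    (fun s => h.lift_fst _ _ _) (fun s => h.lift_snd _ _ _)
    (fun s m h1 h2 => h.hom_ext (by rw [h1, h.lift_fst]) (by rw [h2, h.lift_snd]))⟩⟩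

/-- the first factor of a closed immersion through a closed immersion is a closed immersion -/
theorem closedImmersion_of_comp {Z Z₁ U : Sp S} {c : Z ⟶ U} {j : Z ⟶ Z₁} {k : Z₁ ⟶ U}
    (hjk : j ≫ k = c) (hc : RepWith @IsClosedImmersion c) (hk : RepWith @IsClosedImmersion k) :
    RepWith @IsClosedImmersion j := by
  haveI : Mono k := Groth.Agent.Helper5.ProperImg.mono_of_closedImmersion k hk
  subst hjk
  refine ⟨?_, ?_⟩
  · intro T ζ
    have sq := hc.rep.isPullback (ζ ≫ k)
    exact ⟨_, hc.rep.snd _, hc.rep.fst _, isPullback_of_comp_mono k sq⟩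
  · intro T V ζ fst snd sq
    have sq' := isPullback_comp_mono k sq
    exact hc.property _ _ _ sq'

set_option backward.isDefEq.respectTransparency.types false in
/-- the closed subspace is a first order thickening inside its first order infinitesimal
neighbourhood -/
theorem isFOThickMor_of_isInfNbhd {Z U Z₁ : Sp S} (hU : IsAlgSpace U) {c : Z ⟶ U} {j : Z ⟶ Z₁}
    {k : Z₁ ⟶ U} (hN : IsInfNbhd 1 c j k) : IsFOThickMor j := by
  obtain ⟨hjk, hc, hk, hch⟩ := hN
  have hj := closedImmersion_of_comp hjk hc hk
  subst hjk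
  obtain ⟨κ, A, g, hAaff, hge, hgs⟩ := exists_affine_etale_family hU
  have hkr := hk.rep
  obtain ⟨hbe, hbs⟩ := family_pullback k hkr A g hge hgs
  have hloc : ∀ l, thick (hj.rep.snd (hkr.fst (g l))).left ∧
      sqZero (hj.rep.snd (hkr.fst (g l))).left := by
    intro l
    have sqJ := hj.rep.isPullback (hkr.fst (g l))
    have sqn := hkr.isPullback (g l)
    have sqc := sqJ.paste_vert sqn
    rw [← Functor.map_comp] at sqc
    have hker := hch (g l) _ _ _ _ (hAaff l) (hge l) sqc sqn
    haveI : IsClosedImmersion (hkr.snd (g l)).left := hk.property _ _ _ sqn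
    haveI : IsClosedImmersion ((hj.rep.snd (hkr.fst (g l))).left ≫ (hkr.snd (g l)).left) := by
      have := hc.property _ _ _ sqc
      exact this
    haveI := hAaff l
    rw [Over.comp_left] at hker
    exact thick_sqZero_of_ker_sq _ _ hker
  have hA₁ : ∀ l, IsAffine (hkr.pullback (g l)).left := by
    intro l
    haveI : IsClosedImmersion (hkr.snd (g l)).left := hk.property _ _ _ (hkr.isPullback (g l))
    haveI := hAaff l
    exact (IsClosedImmersion.isAffine_surjective_of_isAffine (hkr.snd (g l)).left).1
  exact ⟨isThickMor_of_charts hj _ _ hbe hbs (fun l => (hloc l).1.2),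
    sqZero_of_charts hj _ _ hA₁ hbe hbs hloc⟩

end Groth.Agent.Helper5.InfNb
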