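import Groth.Agent.Helper5.InfStd4
import Mathlib

set_option autoImplicit false
set_option linter.style.haveILetI false
set_option linter.unusedSectionVars false
set_option linter.unusedVariables false
universe u
open CategoryTheory CategoryTheory.Limits AlgebraicGeometry Opposite TopologicalSpace

namespace Groth.Agent.Helper5.UnivThick

open AlgSp Groth.Agent.Helper4 Groth.Agent.Helper5.InfStd

variable {S : Scheme.{u}}

set_option backward.isDefEq.respectTransparency.types false in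
/-- the base change of a first order thickening to an etale scheme chart is a first order
thickening (in the sheaf sense) -/
theorem isFOThickMor_chart {T T' : Sp S} {j : T ⟶ T'} (hj : IsFOThickMor j) {V W : Over S}
    {ζ : (yon S).obj V ⟶ T'} (hζ : RepWith @Etale ζ) {fst : (yon S).obj W ⟶ T} {snd : W ⟶ V}
    (sq : IsPullback fst ((yon S).map snd) j ζ) : IsFOThickMor ((yon S).map snd) := by
  refine ⟨(isThickMor_yon_map_iff snd).2 (hj.1.property _ _ _ sq), ?_⟩
  intro V₁ W₁ b' fst' snd' hV₁ hb' sq'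
  have hcomp : RepWith @Etale (b' ≫ ζ) := AlgSpSrc.repWith_comp _ hb' hζ
  exact hj.2 (b' ≫ ζ) (fst' ≫ fst) snd' hV₁ hcomp (sq'.paste_horiz sq)

section

variable {Z Z' X : Sp S} {h : Z ⟶ X} {i : Z ⟶ Z'} {h' : Z' ⟶ X}

/-- the affine test of the reference -/
def AffTest (h : Z ⟶ X) (i : Z ⟶ Z') (h' : Z' ⟶ X) : Prop :=
  ∀ (T T' : Over S) (j : T ⟶ T'), IsAffine T'.left → IsFOThickMor ((yon S).map j) →
    ∀ (a : (yon S).obj T ⟶ Z) (b : (yon S).obj T' ⟶ X),
      (yon S).map j ≫ b = a ≫ h →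
      ∃! a' : (yon S).obj T' ⟶ Z', (yon S).map j ≫ a' = a ≫ i ∧ a' ≫ h' = b

set_option backward.isDefEq.respectTransparency.types false in
theorem isLiftOn_unique' (w : i ≫ h' = h) (Htest : AffTest h i h')
    {T T' : Sp S} {j : T ⟶ T'} (hj : IsFOThickMor j) {a : T ⟶ Z} {b : T' ⟶ X}
    {V W : Over S} {ζ : (yon S).obj V ⟶ T'} (hζ : RepWith @Etale ζ)
    {fst : (yon S).obj W ⟶ T} {snd : W ⟶ V}
    (sq : IsPullback fst ((yon S).map snd) j ζ)
    {m m' : (yon S).obj V ⟶ Z'} (hm : IsLiftOn h' (a ≫ i) b ζ fst snd m)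
    (hm' : IsLiftOn h' (a ≫ i) b ζ fst snd m') : m = m' := by
  let 𝒰 := V.left.affineCover
  let Zk : 𝒰.I₀ → Over S := fun i => Over.mk (𝒰.f i ≫ V.hom)
  let e : ∀ i, Zk i ⟶ V := fun i => Over.homMk (𝒰.f i) rfl
  have hcov : Sieve.ofArrows Zk e ∈ J S V := by
    refine Groth.Agent.Helper5.FppfLift.ofArrows_mem_J Zk e (fun i => ?_) (fun i => ?_)
      (fun z => ?_)
    · show Flat (𝒰.f i)
      infer_instance
    · show LocallyOfFinitePresentation (𝒰.f i)
      infer_instance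
    · obtain ⟨i, y, hy⟩ := 𝒰.exists_eq z
      exact ⟨i, y, hy⟩
  refine Groth.Agent.Helper5.EtGlue.hom_ext_of_cover Z' Zk e hcov m m' (fun k => ?_)
  have hζi : RepWith @Etale ((yon S).map (e k) ≫ ζ) :=
    Groth.Agent.Helper4.AlgSpSrc.repWith_comp _
      ((repWith_yon_map_iff _ _).2 (by
        show Etale (𝒰.f k)
        infer_instance)) hζ
  have hrep := hj.1.rep
  have sqi := hrep.isPullback ((yon S).map (e k) ≫ ζ)
  have hAff : IsAffine (Zk k).left := by
    show IsAffine (𝒰.X k)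
    infer_instance
  have hFO := isFOThickMor_chart hj hζi sqi
  have r1 := isLiftOn_restrict sq (e k) sqi hm
  have r2 := isLiftOn_restrict sq (e k) sqi hm'
  have hcomm : (yon S).map (hrep.snd ((yon S).map (e k) ≫ ζ)) ≫ (((yon S).map (e k) ≫ ζ) ≫ b) =
      (hrep.fst ((yon S).map (e k) ≫ ζ) ≫ a) ≫ h := by
    rw [← r1.2, ← Category.assoc, r1.1, Category.assoc, Category.assoc, Category.assoc, w]
  obtain ⟨a₀, -, hu⟩ := Htest _ _ _ hAff hFO (hrep.fst ((yon S).map (e k) ≫ ζ) ≫ a)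
    (((yon S).map (e k) ≫ ζ) ≫ b) hcomm
  rw [hu _ ⟨by rw [r1.1, Category.assoc], r1.2⟩, hu _ ⟨by rw [r2.1, Category.assoc], r2.2⟩]

set_option backward.isDefEq.respectTransparency.types false in
theorem existsUnique_of_affTest (w : i ≫ h' = h) (Htest : AffTest h i h')
    {T T' : Sp S} (hT' : IsAlgSpace T') (j : T ⟶ T') (hj : IsFOThickMor j)
    (a : T ⟶ Z) (b : T' ⟶ X) (hcomm : j ≫ b = a ≫ h) :
    ∃! a' : T' ⟶ Z', j ≫ a' = a ≫ i ∧ a' ≫ h' = b := by
  obtain ⟨κ, A, g, hAaff, hge, hgs⟩ := exists_affine_etale_family hT'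
  have hrep := hj.1.rep
  have sqk : ∀ k, IsPullback (hrep.fst (g k)) ((yon S).map (hrep.snd (g k))) j (g k) :=
    fun k => hrep.isPullback (g k)
  have hex : ∀ k, ∃! m : (yon S).obj (A k) ⟶ Z',
      IsLiftOn h' (a ≫ i) b (g k) (hrep.fst (g k)) (hrep.snd (g k)) m := by
    intro k
    have hFO := isFOThickMor_chart hj (hge k) (sqk k)
    have hc : (yon S).map (hrep.snd (g k)) ≫ (g k ≫ b) = (hrep.fst (g k) ≫ a) ≫ h := by
      rw [← Category.assoc, ← (sqk k).w, Category.assoc, hcomm, Category.assoc]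
    obtain ⟨a₀, ⟨h1, h2⟩, hu⟩ := Htest _ _ _ (hAaff k) hFO (hrep.fst (g k) ≫ a) (g k ≫ b) hc
    exact ⟨a₀, ⟨by rw [h1, Category.assoc], h2⟩,
      fun m hm => hu m ⟨by rw [hm.1, Category.assoc], hm.2⟩⟩
  choose t ht htu using hex
  have hcomp : ∀ (k l : κ) (R : Over S) (r₁ : R ⟶ A k) (r₂ : R ⟶ A l),
      (yon S).map r₁ ≫ g k = (yon S).map r₂ ≫ g l →
        (yon S).map r₁ ≫ t k = (yon S).map r₂ ≫ t l := by
    intro k l R r₁ r₂ hcomm
    have hgr := (hge k).rep
    have sqP := hgr.isPullback (g l)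
    obtain ⟨p₁, hp₁⟩ := (yon S).map_surjective (hgr.fst (g l))
    rw [← hp₁] at sqP
    have hp₁e : Etale p₁.left := (hge l).property _ _ _ sqP.flip
    clear hp₁
    generalize hgr.snd (g l) = p₂ at sqP
    generalize hgr.pullback (g l) = P at p₁ p₂ sqP hp₁e
    have key : (yon S).map p₁ ≫ t k = (yon S).map p₂ ≫ t l := by
      have hζ : RepWith @Etale ((yon S).map p₁ ≫ g k) :=
        Groth.Agent.Helper4.AlgSpSrc.repWith_comp _ ((repWith_yon_map_iff _ _).2 hp₁e) (hge k)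
      have sqZ := hrep.isPullback ((yon S).map p₁ ≫ g k)
      have e1 := isLiftOn_restrict (sqk k) p₁ sqZ (ht k)
      have hζ' : (yon S).map p₁ ≫ g k = (yon S).map p₂ ≫ g l := sqP.w
      have sqZ' : IsPullback (hrep.fst ((yon S).map p₁ ≫ g k))
          ((yon S).map (hrep.snd ((yon S).map p₁ ≫ g k))) j ((yon S).map p₂ ≫ g l) := by
        rw [← hζ']; exact sqZ
      have e2 := isLiftOn_restrict (sqk l) p₂ sqZ' (ht l)
      rw [← hζ'] at e2
      exact isLiftOn_unique' w Htest hj hζ sqZ e1 e2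
    obtain ⟨ρ, hρ⟩ := (yon S).map_surjective (sqP.lift ((yon S).map r₁) ((yon S).map r₂) hcomm)
    have h1 : ρ ≫ p₁ = r₁ := (yon S).map_injective (by rw [Functor.map_comp, hρ, sqP.lift_fst])
    have h2 : ρ ≫ p₂ = r₂ := (yon S).map_injective (by rw [Functor.map_comp, hρ, sqP.lift_snd])
    rw [← h1, ← h2, Functor.map_comp, Functor.map_comp, Category.assoc, Category.assoc, key]
  obtain ⟨l₀, hl₀, hl₀u⟩ := Groth.Agent.Helper5.EtGlue.existsUnique_desc A g hge hgs t hcomp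
  have hlf : l₀ ≫ h' = b :=
    hom_ext_family A g hge hgs _ _ (fun k => by rw [← Category.assoc, hl₀ k, (ht k).2])
  obtain ⟨hfe, hfs⟩ := family_pullback j hrep A g hge hgs
  have hja : j ≫ l₀ = a ≫ i :=
    hom_ext_family (fun k => hrep.pullback (g k)) (fun k => hrep.fst (g k)) hfe hfs _ _
      (fun k => by rw [← Category.assoc, (sqk k).w, Category.assoc, hl₀ k, (ht k).1])
  refine ⟨l₀, ⟨hja, hlf⟩, ?_⟩
  rintro l' ⟨h1', h2'⟩
  apply hl₀u
  intro k
  apply htu k
  refine ⟨?_, ?_⟩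
  · rw [← Category.assoc, ← (sqk k).w, Category.assoc, h1']
  · rw [Category.assoc, h2']

end

set_option backward.isDefEq.respectTransparency.types false in
theorem s10630 {Z Z' X : AlgSp.Space S} (h : Z ⟶ X) (i : Z ⟶ Z')
    (h' : Z' ⟶ X) (hi : AlgSp.IsFOThickMor i.hom) (w : i ≫ h' = h) :
    AlgSp.IsUnivFOThick h.hom i.hom h'.hom ↔ AffTest h.hom i.hom h'.hom := by
  have w' : i.hom ≫ h'.hom = h.hom := congrArg (fun m => m.hom) w
  constructor
  · rintro ⟨-, -, huniv⟩ T T' j hT' hj a b hcomm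
    exact huniv (IsAlgSpace.yon_obj T) (IsAlgSpace.yon_obj T') _ a b hj hcomm
  · intro Htest
    refine ⟨hi, w', ?_⟩
    intro T T' hT hT' j a b hj hcomm
    exact existsUnique_of_affTest w' Htest hT' j hj a b hcomm

end Groth.Agent.Helper5.UnivThick
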