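import Groth.Agent.Helper5.InfNb3
import Groth.Agent.Helper5.UnivThick2
import Mathlib

set_option autoImplicit false
set_option linter.style.haveILetI false
set_option linter.unusedSectionVars false
set_option linter.unusedVariables false
universe u
open CategoryTheory CategoryTheory.Limits AlgebraicGeometry Opposite TopologicalSpace

namespace Groth.Agent.Helper5.InfNb

open AlgSp Groth.Agent.Helper4 Groth.Agent.Helper5.InfStd Groth.Agent.Helper5.FEt
  Groth.Agent.Helper5.ThickBC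

variable {S : Scheme.{u}}

set_option backward.isDefEq.respectTransparency.types false in
/-- if `K` pulls back into an ideal of square zero, then the square of `K` pulls back to zero -/
theorem sq_le_ker {V V₁ : Scheme.{u}} [IsAffine V] [IsAffine V₁] (ρ : V₁ ⟶ V)
    (K : V.IdealSheafData) (J : V₁.IdealSheafData) (hK : K ≤ J.map ρ) (hJ : J * J = ⊥) :
    K ^ 2 ≤ ρ.ker := by
  apply Scheme.IdealSheafData.le_of_isAffine
  rw [pow_two, Scheme.IdealSheafData.ideal_mul, Pi.mul_apply, Ideal.mul_le]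
  intro x hx y hy
  have hx' := hK ⟨⊤, isAffineOpen_top V⟩ hx
  have hy' := hK ⟨⊤, isAffineOpen_top V⟩ hy
  rw [Scheme.IdealSheafData.ideal_map J ρ ⟨⊤, isAffineOpen_top V⟩ (isAffineOpen_top V₁),
    Ideal.mem_comap] at hx' hy'
  have hxy : (ρ.app ⊤).hom x * (ρ.app ⊤).hom y ∈ (J * J).ideal ⟨⊤, isAffineOpen_top V₁⟩ := by
    rw [Scheme.IdealSheafData.ideal_mul, Pi.mul_apply]
    exact Ideal.mul_mem_mul hx' hy'
  rw [hJ] at hxy
  rw [Scheme.Hom.ker_apply, RingHom.mem_ker, map_mul]
  exact hxy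

set_option backward.isDefEq.respectTransparency.types false in
/-- local lifts into the first order infinitesimal neighbourhood -/
theorem exists_local_lift_infNbhd {Z U X Z₁ : Sp S} {c : Z ⟶ U} {u : U ⟶ X} [Mono u]
    {j : Z ⟶ Z₁} {k : Z₁ ⟶ U} (hN : IsInfNbhd 1 c j k)
    {T T' : Over S} (jT : T ⟶ T') (hT' : IsAffine T'.left) (hth : thick jT.left)
    (hsq : sqZero jT.left) (a : (yon S).obj T ⟶ Z) (b : (yon S).obj T' ⟶ X)
    (hcomm : (yon S).map jT ≫ b = a ≫ c ≫ u)
    {Al R : Over S} (gl : (yon S).obj Al ⟶ U) (hAl : IsAffine Al.left) (hgl : RepWith @Etale gl)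
    (hR : IsAffine R.left) (ρA : R ⟶ Al) (ρT : R ⟶ T')
    (hcm : (yon S).map ρA ≫ gl ≫ u = (yon S).map ρT ≫ b) :
    ∃ n : (yon S).obj R ⟶ Z₁, n ≫ k ≫ u = (yon S).map ρT ≫ b := by
  obtain ⟨hjk, hc, hk, hch⟩ := hN
  have hrepj := ((repWith_yon_map_iff thick jT).2 hth).rep
  have sqT := hrepj.isPullback ((yon S).map ρT)
  obtain ⟨φ, hφ⟩ := (yon S).map_surjective (hrepj.fst ((yon S).map ρT))
  rw [← hφ] at sqT
  clear hφ
  have pb := Groth.Agent.Helper5.GeomFibSp.isPullback_of_yon_map sqT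
  generalize hrepj.snd ((yon S).map ρT) = sndm at sqT pb
  generalize hrepj.pullback ((yon S).map ρT) = Tm at φ sndm sqT pb
  obtain ⟨hmth, hmsq⟩ := thick_sqZero_of_isPullback jT ρT φ sndm pb hT' hR hth hsq
  have sqW := hc.rep.isPullback gl
  have hcompat : ((yon S).map φ ≫ a) ≫ c = (yon S).map (sndm ≫ ρA) ≫ gl := by
    refine (cancel_mono u).1 ?_
    rw [Category.assoc, Category.assoc, ← hcomm, ← Category.assoc, ← Functor.map_comp, pb.w,
      Functor.map_comp, Functor.map_comp, Category.assoc, Category.assoc, Category.assoc, hcm]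
  obtain ⟨ω, hω⟩ := (yon S).map_surjective
    (sqW.lift ((yon S).map φ ≫ a) ((yon S).map (sndm ≫ ρA)) hcompat)
  have hω2 : ω ≫ hc.rep.snd gl = sndm ≫ ρA :=
    (yon S).map_injective (by rw [Functor.map_comp, hω, sqW.lift_snd])
  have sqn := hk.rep.isPullback gl
  have hker := hch gl _ _ _ _ hAl hgl sqW sqn
  haveI : IsClosedImmersion (hk.rep.snd gl).left := hk.property _ _ _ sqn
  haveI := hAl
  haveI := hR
  have H : (hk.rep.snd gl).left.ker ≤ ρA.left.ker := by
    rw [hker]
    show (hc.rep.snd gl).left.ker ^ 2 ≤ _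
    refine sq_le_ker ρA.left (hc.rep.snd gl).left.ker sndm.left.ker ?_ hmsq
    rw [Scheme.IdealSheafData.map_ker]
    have : sndm.left ≫ ρA.left = ω.left ≫ (hc.rep.snd gl).left := by
      rw [← Over.comp_left, ← Over.comp_left, hω2]
    rw [this]
    exact Scheme.Hom.le_ker_comp _ _
  have hfac : IsClosedImmersion.lift (hk.rep.snd gl).left ρA.left H ≫ (hk.rep.snd gl).left =
      ρA.left := IsClosedImmersion.lift_fac _ _ _
  let ρA₁ : R ⟶ hk.rep.pullback gl :=
    Over.homMk (IsClosedImmersion.lift (hk.rep.snd gl).left ρA.left H) (by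
      rw [← Over.w (hk.rep.snd gl), ← Category.assoc, hfac, Over.w])
  have hρ : ρA₁ ≫ hk.rep.snd gl = ρA := by
    ext
    exact hfac
  refine ⟨(yon S).map ρA₁ ≫ hk.rep.fst gl, ?_⟩
  rw [Category.assoc, ← Category.assoc (hk.rep.fst gl), sqn.w, Category.assoc, ← Category.assoc,
    ← Functor.map_comp, hρ, hcm]

end Groth.Agent.Helper5.InfNb
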