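import Groth.Agent.Helper5.InfNb4
import Mathlib

set_option autoImplicit false
set_option linter.style.haveILetI false
set_option linter.unusedSectionVars false
set_option linter.unusedVariables false
universe u
open CategoryTheory CategoryTheory.Limits AlgebraicGeometry Opposite TopologicalSpace

namespace Groth.Agent.Helper5.InfNb

open AlgSp Groth.Agent.Helper4 Groth.Agent.Helper5.InfStd Groth.Agent.Helper5.FEt
  Groth.Agent.Helper5.ThickBC

variable {S : Scheme.{u}}

set_option backward.isDefEq.respectTransparency.types false in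
theorem affTest_of_isInfNbhd {Z U X Z₁ : Sp S} (hU : IsAlgSpace U) {c : Z ⟶ U} {u : U ⟶ X}
    (hu : RepWith @IsOpenImmersion u) {j : Z ⟶ Z₁} {k : Z₁ ⟶ U} (hN : IsInfNbhd 1 c j k) :
    Groth.Agent.Helper5.UnivThick.AffTest (c ≫ u) j (k ≫ u) := by
  haveI : Mono u := AlgSpBasic.mono_of_repWith (P := @IsOpenImmersion) (fun g hg => by
    have : IsOpenImmersion g := hg
    infer_instance) u hu
  haveI : Mono k := Groth.Agent.Helper5.ProperImg.mono_of_closedImmersion k hN.2.2.1
  intro T T' jT hT' hFO a b hcomm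
  have hth : thick jT.left := (isThickMor_yon_map_iff jT).1 hFO.1
  have hsq : sqZero jT.left := AffLocT.yon_map hT' hFO.2
  obtain ⟨κ, A, g, hAaff, hge, hgs⟩ := exists_affine_etale_family hU
  have hue : RepWith @Etale u := AlgSpSrc.repWith_mono (P := @IsOpenImmersion) (Q := @Etale)
    (fun g hg => by
      have : IsOpenImmersion g := hg
      infer_instance) hu
  have hgu : ∀ l, RepWith @Etale (g l ≫ u) := fun l => AlgSpSrc.repWith_comp _ (hge l) hue
  have hcomm' : (yon S).map jT ≫ b = a ≫ c ≫ u := by rw [hcomm]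
  have hex : ∀ t' : ↥T'.left, ∃ (R : Over S) (ρT : R ⟶ T') (n : (yon S).obj R ⟶ Z₁),
      IsAffine R.left ∧ Etale ρT.left ∧ (∃ r : ↥R.left, ρT.left r = t') ∧
        n ≫ k ≫ u = (yon S).map ρT ≫ b := by
    intro t'
    obtain ⟨t, rfl⟩ := hth.2.surj t'
    have ht : ∃ l, Points.map b (Points.ofScheme T' (jT.left t)) ∈
        Set.range (Points.map (g l ≫ u)) := by
      obtain ⟨l, z, hz⟩ := hgs (Points.map (a ≫ c) (Points.ofScheme T t))
      refine ⟨l, z, ?_⟩
      rw [Points.map_comp, hz, ← Points.map_comp, Category.assoc, ← hcomm', Points.map_comp]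
      congr 1
      exact Points.map_yon_map_apply jT t
    obtain ⟨l, R, ρA, ρT, hR, hρE, hpt, hcm⟩ :=
      exists_local_chart A (fun l => g l ≫ u) hgu b (jT.left t) ht
    obtain ⟨n, hn⟩ := exists_local_lift_infNbhd hN jT hT' hth hsq a b hcomm' (g l) (hAaff l)
      (hge l) hR ρA ρT hcm
    exact ⟨R, ρT, n, hR, hρE, hpt, hn⟩
  choose R ρT n hR hρE hpt hn using hex
  have hcov : Sieve.ofArrows R ρT ∈ J S T' := cover_of_charts R ρT hρE (fun z => ⟨z, hpt z⟩)
  obtain ⟨a', ha', -⟩ := Groth.Agent.Helper5.EtGlue.existsUnique_of_cover Z₁ R ρT hcov n (by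
    intro k' l' R' r₁ r₂ hc'
    refine (cancel_mono (k ≫ u)).1 ?_
    rw [Category.assoc, Category.assoc, hn k', hn l', ← Category.assoc, ← Category.assoc,
      ← Functor.map_comp, ← Functor.map_comp, hc'])
  have hab : a' ≫ k ≫ u = b := by
    refine Groth.Agent.Helper5.EtGlue.hom_ext_of_cover X R ρT hcov _ _ (fun t => ?_)
    rw [← Category.assoc, ha' t, hn t]
  refine ⟨a', ⟨?_, hab⟩, ?_⟩
  · refine (cancel_mono (k ≫ u)).1 ?_
    rw [Category.assoc, hab, Category.assoc, ← Category.assoc j, hN.1, hcomm']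
  · rintro a'' ⟨-, h2⟩
    exact (cancel_mono (k ≫ u)).1 (h2.trans hab.symm)

theorem s10635 {Z U X Z₁ : AlgSp.Space S} (c : Z ⟶ U)
    (hc : AlgSp.RepWith @IsClosedImmersion c.hom) (u : U ⟶ X)
    (hu : AlgSp.RepWith @IsOpenImmersion u.hom)
    (j : Z ⟶ Z₁) (k : Z₁ ⟶ U) (hN : AlgSp.IsInfNbhd 1 c.hom j.hom k.hom) :
    AlgSp.IsUnivFOThick (c ≫ u).hom j.hom (k ≫ u).hom := by
  have hi := isFOThickMor_of_isInfNbhd U.property hN
  have w : j ≫ (k ≫ u) = c ≫ u := by
    apply ObjectProperty.hom_ext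
    show j.hom ≫ k.hom ≫ u.hom = c.hom ≫ u.hom
    rw [← Category.assoc, hN.1]
  rw [Groth.Agent.Helper5.UnivThick.s10630 (c ≫ u) j (k ≫ u) hi w]
  exact affTest_of_isInfNbhd U.property hu hN

end Groth.Agent.Helper5.InfNb
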