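import Groth.Agent.Helper5.EtGlue2
import Mathlib

set_option autoImplicit false
set_option linter.style.haveILetI false
set_option linter.unusedSectionVars false
set_option linter.unusedVariables false
universe u
open CategoryTheory CategoryTheory.Limits AlgebraicGeometry Opposite TopologicalSpace

namespace Groth.Agent.Helper5.InfStd

open AlgSp

variable {S : Scheme.{u}}

set_option backward.isDefEq.respectTransparency.types false in
/-- a square-zero thickening of an affine scheme over `S` is isomorphic over `S` to one in standard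
form -/
theorem exists_std_form {V' W : Over S} (snd : W ⟶ V') [IsAffine V'.left]
    (h1 : thick snd.left) (h2 : sqZero snd.left) :
    ∃ (A : Type u) (_ : CommRing A) (I : Ideal A) (_ : I ^ 2 = ⊥) (str : Spec (.of A) ⟶ S)
      (eV : Over.mk str ≅ V')
      (eW : Over.mk (Spec.map (CommRingCat.ofHom (Ideal.Quotient.mk I)) ≫ str) ≅ W),
      eW.hom ≫ snd = (Over.homMk (Spec.map (CommRingCat.ofHom (Ideal.Quotient.mk I))) rfl :
        Over.mk (Spec.map (CommRingCat.ofHom (Ideal.Quotient.mk I)) ≫ str) ⟶ Over.mk str) ≫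
          eV.hom := by
  haveI : IsClosedImmersion snd.left := h1.1
  obtain ⟨hWaff, hsurj⟩ := IsClosedImmersion.isAffine_surjective_of_isAffine snd.left
  haveI : IsAffine W.left := hWaff
  let A := Γ(V'.left, ⊤)
  let φ : A →+* Γ(W.left, ⊤) := snd.left.appTop.hom
  let I : Ideal A := RingHom.ker φ
  have hI : I ^ 2 = ⊥ := by
    have h3 : (snd.left.ker * snd.left.ker).ideal ⟨⊤, isAffineOpen_top _⟩ =
        (⊥ : V'.left.IdealSheafData).ideal ⟨⊤, isAffineOpen_top _⟩ := by
      have h2' : snd.left.ker * snd.left.ker = ⊥ := h2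
      rw [h2']
    rw [Scheme.IdealSheafData.ideal_mul, Pi.mul_apply, Scheme.Hom.ker_apply,
      Scheme.IdealSheafData.ideal_bot] at h3
    rw [pow_two]
    exact h3
  let str : Spec (.of A) ⟶ S := V'.left.isoSpec.inv ≫ V'.hom
  let eV : Over.mk str ≅ V' := Over.isoMk V'.left.isoSpec.symm rfl
  -- the ring isomorphism `A ⧸ I ≃ Γ(W)`
  let ψ : A ⧸ I ≃+* Γ(W.left, ⊤) := RingHom.quotientKerEquivOfSurjective hsurj
  have hψ : ψ.toRingHom.comp (Ideal.Quotient.mk I) = φ := by
    ext a; rfl
  let eWl : Spec (.of (A ⧸ I)) ≅ W.left :=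
    Scheme.Spec.mapIso ψ.symm.toCommRingCatIso.op ≪≫ W.left.isoSpec.symm
  have hcomp : eWl.hom ≫ snd.left =
      Spec.map (CommRingCat.ofHom (Ideal.Quotient.mk I)) ≫ V'.left.isoSpec.inv := by
    show (Spec.map ψ.symm.toCommRingCatIso.hom ≫ W.left.isoSpec.inv) ≫ snd.left = _
    rw [Category.assoc, ← Scheme.isoSpec_inv_naturality, ← Category.assoc, ← Spec.map_comp]
    congr 2
    apply CommRingCat.hom_ext
    ext a
    show ψ.symm (φ a) = Ideal.Quotient.mk I a
    rw [RingEquiv.symm_apply_eq]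
    rfl
  have hWstr : eWl.hom ≫ W.hom = Spec.map (CommRingCat.ofHom (Ideal.Quotient.mk I)) ≫ str := by
    rw [← CategoryTheory.Over.w snd, ← Category.assoc, hcomp, Category.assoc]
  let eW : Over.mk (Spec.map (CommRingCat.ofHom (Ideal.Quotient.mk I)) ≫ str) ≅ W :=
    Over.isoMk eWl hWstr
  refine ⟨A, inferInstance, I, hI, str, eV, eW, ?_⟩
  ext
  exact hcomp

/-- the standard infinitesimal square attached to a square-zero thickening of an affine scheme,
with the comparison of lifts -/
theorem exists_infSq {F G : Sp S} (f : F ⟶ G) {V' W : Over S} (snd : W ⟶ V') [IsAffine V'.left]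
    (h1 : thick snd.left) (h2 : sqZero snd.left)
    (top' : (yon S).obj W ⟶ F) (bot' : (yon S).obj V' ⟶ G)
    (comm : top' ≫ f = (yon S).map snd ≫ bot') :
    ∃ (sq : InfSq f) (eV : sq.ptT' ≅ V'),
      (∀ l₀ : (yon S).obj sq.ptT' ⟶ F, ((yon S).map sq.j ≫ l₀ = sq.top ∧ l₀ ≫ f = sq.bot) ↔
        ((yon S).map snd ≫ (yon S).map eV.inv ≫ l₀ = top' ∧
          ((yon S).map eV.inv ≫ l₀) ≫ f = bot')) := by
  obtain ⟨A, _, I, hI, str, eV, eW, hcomm⟩ := exists_std_form snd h1 h2
  have hcomm' : snd ≫ eV.inv = eW.inv ≫ (Over.homMk (Spec.map (CommRingCat.ofHom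
      (Ideal.Quotient.mk I))) rfl : Over.mk (Spec.map (CommRingCat.ofHom
        (Ideal.Quotient.mk I)) ≫ str) ⟶ Over.mk str) := by
    rw [Iso.eq_inv_comp, ← Category.assoc, hcomm, Category.assoc, Iso.hom_inv_id,
      Category.comp_id]
  let sq : InfSq f :=
    { A := A
      I := I
      sq_zero := hI
      str := str
      top := (yon S).map eW.hom ≫ top'
      bot := (yon S).map eV.hom ≫ bot'
      comm := by
        rw [Category.assoc, comm, ← Category.assoc, ← Functor.map_comp, hcomm, Functor.map_comp,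
          Category.assoc] }
  refine ⟨sq, eV, fun l₀ => ?_⟩
  have hj : sq.j = (Over.homMk (Spec.map (CommRingCat.ofHom (Ideal.Quotient.mk I))) rfl :
      Over.mk (Spec.map (CommRingCat.ofHom (Ideal.Quotient.mk I)) ≫ str) ⟶ Over.mk str) := rfl
  constructor
  · rintro ⟨h3, h4⟩
    refine ⟨?_, ?_⟩
    · rw [← Category.assoc, ← Functor.map_comp, hcomm', Functor.map_comp, Category.assoc, ← hj, h3]
      show (yon S).map eW.inv ≫ (yon S).map eW.hom ≫ top' = top'
      rw [← Category.assoc, ← Functor.map_comp, Iso.inv_hom_id, CategoryTheory.Functor.map_id, Category.id_comp]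
    · rw [Category.assoc, h4]
      show (yon S).map eV.inv ≫ (yon S).map eV.hom ≫ bot' = bot'
      rw [← Category.assoc, ← Functor.map_comp, Iso.inv_hom_id, CategoryTheory.Functor.map_id, Category.id_comp]
  · rintro ⟨h3, h4⟩
    refine ⟨?_, ?_⟩
    · show _ = (yon S).map eW.hom ≫ top'
      rw [← h3, ← Category.assoc, ← Category.assoc, ← Functor.map_comp, ← Functor.map_comp,
        hcomm, Category.assoc, Iso.hom_inv_id, Category.comp_id]
    · show _ = (yon S).map eV.hom ≫ bot'
      rw [← h4, Category.assoc, ← Category.assoc, ← Functor.map_comp, Iso.hom_inv_id,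
        CategoryTheory.Functor.map_id, Category.id_comp]

/-- formally unramified morphisms have at most one lift along square-zero thickenings of affine
schemes over `S` -/
theorem hasUniq_chart {F G : Sp S} (f : F ⟶ G) (hf : IsFormallyUnramifiedMor f) {V' W : Over S}
    (snd : W ⟶ V') [IsAffine V'.left] (h1 : thick snd.left) (h2 : sqZero snd.left)
    (top' : (yon S).obj W ⟶ F) (bot' : (yon S).obj V' ⟶ G)
    (l l' : (yon S).obj V' ⟶ F) (hl : (yon S).map snd ≫ l = top') (hl2 : l ≫ f = bot')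
    (hl' : (yon S).map snd ≫ l' = top') (hl2' : l' ≫ f = bot') : l = l' := by
  have comm : top' ≫ f = (yon S).map snd ≫ bot' := by rw [← hl, Category.assoc, hl2]
  obtain ⟨sq, eV, H⟩ := exists_infSq f snd h1 h2 top' bot' comm
  have key : ∀ m : (yon S).obj V' ⟶ F, (yon S).map eV.inv ≫ (yon S).map eV.hom ≫ m = m := by
    intro m
    rw [← Category.assoc, ← Functor.map_comp, Iso.inv_hom_id, CategoryTheory.Functor.map_id, Category.id_comp]
  have e1 := (H ((yon S).map eV.hom ≫ l)).2 (by rw [key]; exact ⟨hl, hl2⟩)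
  have e2 := (H ((yon S).map eV.hom ≫ l')).2 (by rw [key]; exact ⟨hl', hl2'⟩)
  have := hf sq _ _ e1.1 e1.2 e2.1 e2.2
  have h5 := congrArg (fun m => (yon S).map eV.inv ≫ m) this
  simp only [key] at h5
  exact h5

/-- formally etale morphisms have exactly one lift along square-zero thickenings of affine
schemes over `S` -/
theorem existsUnique_chart {F G : Sp S} (f : F ⟶ G) (hf : IsFormallyEtaleMor f) {V' W : Over S}
    (snd : W ⟶ V') [IsAffine V'.left] (h1 : thick snd.left) (h2 : sqZero snd.left)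
    (top' : (yon S).obj W ⟶ F) (bot' : (yon S).obj V' ⟶ G)
    (comm : top' ≫ f = (yon S).map snd ≫ bot') :
    ∃! l : (yon S).obj V' ⟶ F, (yon S).map snd ≫ l = top' ∧ l ≫ f = bot' := by
  obtain ⟨sq, eV, H⟩ := exists_infSq f snd h1 h2 top' bot' comm
  obtain ⟨l₀, hl₀, huniq⟩ := hf sq
  have key : ∀ m : (yon S).obj V' ⟶ F, (yon S).map eV.inv ≫ (yon S).map eV.hom ≫ m = m := by
    intro m
    rw [← Category.assoc, ← Functor.map_comp, Iso.inv_hom_id, CategoryTheory.Functor.map_id, Category.id_comp]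
  refine ⟨(yon S).map eV.inv ≫ l₀, (H l₀).1 hl₀, ?_⟩
  intro m hm
  have e1 := (H ((yon S).map eV.hom ≫ m)).2 (by rw [key]; exact hm)
  have := huniq _ e1
  rw [← this, key]

/-- formally smooth morphisms have a lift along square-zero thickenings of affine schemes over
`S` -/
theorem exists_lift_chart {F G : Sp S} (f : F ⟶ G) (hf : IsFormallySmoothMor f) {V' W : Over S}
    (snd : W ⟶ V') [IsAffine V'.left] (h1 : thick snd.left) (h2 : sqZero snd.left)
    (top' : (yon S).obj W ⟶ F) (bot' : (yon S).obj V' ⟶ G)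
    (comm : top' ≫ f = (yon S).map snd ≫ bot') :
    ∃ l : (yon S).obj V' ⟶ F, (yon S).map snd ≫ l = top' ∧ l ≫ f = bot' := by
  obtain ⟨sq, eV, H⟩ := exists_infSq f snd h1 h2 top' bot' comm
  obtain ⟨l₀, hl₀⟩ := hf sq
  exact ⟨(yon S).map eV.inv ≫ l₀, (H l₀).1 hl₀⟩

end Groth.Agent.Helper5.InfStd
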