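import Groth.Agent.Helper5.InfStd1
import Groth.Agent.Helper5.FppfLift
import Groth.Agent.Helper5.AlgSpOpen
import Groth.Agent.Helper4.AlgSpPtsDesc
import Mathlib

set_option autoImplicit false
set_option linter.style.haveILetI false
set_option linter.unusedSectionVars false
set_option linter.unusedVariables false
universe u
open CategoryTheory CategoryTheory.Limits AlgebraicGeometry Opposite TopologicalSpace

namespace Groth.Agent.Helper5.InfStd

open AlgSp Groth.Agent.Helper4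

variable {S : Scheme.{u}}

/-- two morphisms of sheaves agreeing on a jointly surjective etale family from schemes agree -/
theorem hom_ext_family {W T : Sp S} {κ : Type u} (A : κ → Over S)
    (g : ∀ k, (yon S).obj (A k) ⟶ W) (hg : ∀ k, RepWith @Etale (g k))
    (hsurj : ∀ w : Points W, ∃ k, w ∈ Set.range (Points.map (g k)))
    (c c' : W ⟶ T) (h : ∀ k, g k ≫ c = g k ≫ c') : c = c' := by
  obtain ⟨c₀, -, huniq⟩ := Groth.Agent.Helper5.EtGlue.existsUnique_desc A g hg hsurj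
    (fun k => g k ≫ c) (by
      intro k l R r₁ r₂ hcomm
      rw [← Category.assoc, ← Category.assoc, hcomm])
  rw [huniq c (fun k => rfl), huniq c' (fun k => (h k).symm)]

section

variable {X Y T T' : Sp S} (f : X ⟶ Y) (j : T ⟶ T') (a : T ⟶ X) (b : T' ⟶ Y)

/-- `m` is a lift of the problem over the chart `ζ` of `T'` -/
def IsLiftOn {Z W : Over S} (ζ : (yon S).obj Z ⟶ T') (fst : (yon S).obj W ⟶ T) (snd : W ⟶ Z)
    (m : (yon S).obj Z ⟶ X) : Prop :=
  (yon S).map snd ≫ m = fst ≫ a ∧ m ≫ f = ζ ≫ b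

variable {f j a b}

theorem isLiftOn_restrict {Z W Z₁ W₁ : Over S} {ζ : (yon S).obj Z ⟶ T'}
    {fst : (yon S).obj W ⟶ T} {snd : W ⟶ Z} (sq : IsPullback fst ((yon S).map snd) j ζ)
    (ρ : Z₁ ⟶ Z) {fst₁ : (yon S).obj W₁ ⟶ T} {snd₁ : W₁ ⟶ Z₁}
    (sq₁ : IsPullback fst₁ ((yon S).map snd₁) j ((yon S).map ρ ≫ ζ))
    {m : (yon S).obj Z ⟶ X} (hm : IsLiftOn f a b ζ fst snd m) :
    IsLiftOn f a b ((yon S).map ρ ≫ ζ) fst₁ snd₁ ((yon S).map ρ ≫ m) := by
  let q := sq.lift fst₁ ((yon S).map (snd₁ ≫ ρ)) (by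
    rw [sq₁.w, Functor.map_comp, Category.assoc])
  have hq1 : q ≫ fst = fst₁ := sq.lift_fst _ _ _
  have hq2 : q ≫ (yon S).map snd = (yon S).map (snd₁ ≫ ρ) := sq.lift_snd _ _ _
  refine ⟨?_, ?_⟩
  · rw [← Category.assoc, ← Functor.map_comp, ← hq2, Category.assoc, hm.1, ← Category.assoc, hq1]
  · rw [Category.assoc, hm.2, Category.assoc]

end

section

variable {X Y T T' : AlgSp.Space S} {f : X ⟶ Y} {j : T ⟶ T'} {a : T ⟶ X} {b : T' ⟶ Y}

set_option backward.isDefEq.respectTransparency.types false in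
/-- uniqueness of lifts over an arbitrary etale scheme chart, for a formally unramified
morphism -/
theorem isLiftOn_unique (hf : IsFormallyUnramifiedMor f.hom) (hj : IsFOThickMor j.hom)
    {Z W : Over S} {ζ : (yon S).obj Z ⟶ T'.obj} (hζ : RepWith @Etale ζ)
    {fst : (yon S).obj W ⟶ T.obj} {snd : W ⟶ Z}
    (sq : IsPullback fst ((yon S).map snd) j.hom ζ)
    {m m' : (yon S).obj Z ⟶ X.obj} (hm : IsLiftOn f.hom a.hom b.hom ζ fst snd m)
    (hm' : IsLiftOn f.hom a.hom b.hom ζ fst snd m') : m = m' := by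
  let 𝒰 := Z.left.affineCover
  let Zk : 𝒰.I₀ → Over S := fun i => Over.mk (𝒰.f i ≫ Z.hom)
  let e : ∀ i, Zk i ⟶ Z := fun i => Over.homMk (𝒰.f i) rfl
  have hcov : Sieve.ofArrows Zk e ∈ J S Z := by
    refine Groth.Agent.Helper5.FppfLift.ofArrows_mem_J Zk e (fun i => ?_) (fun i => ?_)
      (fun z => ?_)
    · show Flat (𝒰.f i)
      infer_instance
    · show LocallyOfFinitePresentation (𝒰.f i)
      infer_instance
    · obtain ⟨i, y, hy⟩ := 𝒰.exists_eq z
      exact ⟨i, y, hy⟩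
  refine Groth.Agent.Helper5.EtGlue.hom_ext_of_cover X.obj Zk e hcov m m' (fun i => ?_)
  have hζi : RepWith @Etale ((yon S).map (e i) ≫ ζ) :=
    Groth.Agent.Helper4.AlgSpSrc.repWith_comp _
      ((repWith_yon_map_iff _ _).2 (by
        show Etale (𝒰.f i)
        infer_instance)) hζ
  have hrep := hj.1.rep
  have sqi := hrep.isPullback ((yon S).map (e i) ≫ ζ)
  haveI : IsAffine (Zk i).left := by
    show IsAffine (𝒰.X i)
    infer_instance
  have h1 : thick (hrep.snd ((yon S).map (e i) ≫ ζ)).left := hj.1.property _ _ _ sqi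
  have h2 : sqZero (hrep.snd ((yon S).map (e i) ≫ ζ)).left :=
    hj.2 _ _ _ inferInstance hζi sqi
  have r1 := isLiftOn_restrict sq (e i) sqi hm
  have r2 := isLiftOn_restrict sq (e i) sqi hm'
  exact hasUniq_chart f.hom hf _ h1 h2 _ _ _ _ r1.1 r1.2 r2.1 r2.2

end

end Groth.Agent.Helper5.InfStd
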