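import Groth.Agent.Helper5.InfStd2
import Mathlib

set_option autoImplicit false
set_option linter.style.haveILetI false
set_option linter.unusedSectionVars false
set_option linter.unusedVariables false
universe u
open CategoryTheory CategoryTheory.Limits AlgebraicGeometry Opposite TopologicalSpace

namespace Groth.Agent.Helper5.InfStd

open AlgSp Groth.Agent.Helper4

variable {S : Scheme.{u}}

set_option backward.isDefEq.respectTransparency.types false in
/-- an algebraic space is covered by affine schemes etale over it -/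
theorem exists_affine_etale_family {W : Sp S} (hW : IsAlgSpace W) :
    ∃ (κ : Type u) (A : κ → Over S) (g : ∀ k, (yon S).obj (A k) ⟶ W),
      (∀ k, IsAffine (A k).left) ∧ (∀ k, RepWith @Etale (g k)) ∧
      (∀ w : Points W, ∃ k, w ∈ Set.range (Points.map (g k))) := by
  obtain ⟨V, c, hce, hcs⟩ := hW.atlas
  let 𝒰 := V.left.affineCover
  let A : 𝒰.I₀ → Over S := fun i => Over.mk (𝒰.f i ≫ V.hom)
  let e : ∀ i, A i ⟶ V := fun i => Over.homMk (𝒰.f i) rfl
  refine ⟨𝒰.I₀, A, fun i => (yon S).map (e i) ≫ c, fun i => ?_, fun i => ?_, fun w => ?_⟩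
  · show IsAffine (𝒰.X i)
    infer_instance
  · exact Groth.Agent.Helper4.AlgSpSrc.repWith_comp _
      ((repWith_yon_map_iff _ _).2 (by
        show Etale (𝒰.f i)
        infer_instance)) hce
  · obtain ⟨v, rfl⟩ := Groth.Agent.Helper5.AlgSpOpen.ofPt_surjective_of_repWith c hcs w
    obtain ⟨i, y, hy⟩ := 𝒰.exists_eq v
    refine ⟨i, Points.schemeHomeo (A i) y, ?_⟩
    rw [AlgSpQC2.ofPt_eq_map_schemeHomeo, AlgSpPtsDesc.ofPt_yon_map_comp]
    show Points.ofPt c ((𝒰.f i) y) = _
    rw [hy]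

set_option backward.isDefEq.respectTransparency.types false in
theorem s10624 {X Y : AlgSp.Space S} (f : X ⟶ Y)
    (hf : AlgSp.IsFormallyUnramifiedMor f.hom) {T T' : AlgSp.Space S} (j : T ⟶ T') (hj : AlgSp.IsFOThickMor j.hom)
    (a : T ⟶ X) (b : T' ⟶ Y) (w : a ≫ f = j ≫ b)
    (l l' : T' ⟶ X) (h1 : j ≫ l = a) (h2 : l ≫ f = b) (h3 : j ≫ l' = a) (h4 : l' ≫ f = b) : l = l' := by
  obtain ⟨κ, A, g, hAaff, hge, hgs⟩ := exists_affine_etale_family T'.property
  apply ObjectProperty.hom_ext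
  refine hom_ext_family A g hge hgs l.hom l'.hom (fun k => ?_)
  have hrep := hj.1.rep
  have sqk := hrep.isPullback (g k)
  have e1 : IsLiftOn f.hom a.hom b.hom (g k) (hrep.fst (g k)) (hrep.snd (g k)) (g k ≫ l.hom) := by
    refine ⟨?_, ?_⟩
    · rw [← Category.assoc, ← sqk.w, Category.assoc]
      show _ ≫ (j ≫ l).hom = _
      rw [h1]
    · rw [Category.assoc]
      show _ ≫ (l ≫ f).hom = _
      rw [h2]
  have e2 : IsLiftOn f.hom a.hom b.hom (g k) (hrep.fst (g k)) (hrep.snd (g k)) (g k ≫ l'.hom) := by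
    refine ⟨?_, ?_⟩
    · rw [← Category.assoc, ← sqk.w, Category.assoc]
      show _ ≫ (j ≫ l').hom = _
      rw [h3]
    · rw [Category.assoc]
      show _ ≫ (l' ≫ f).hom = _
      rw [h4]
  exact isLiftOn_unique hf hj (hge k) sqk e1 e2

end Groth.Agent.Helper5.InfStd
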