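import Groth.Agent.Helper5.InfStd3
import Mathlib

set_option autoImplicit false
set_option linter.style.haveILetI false
set_option linter.unusedSectionVars false
set_option linter.unusedVariables false
universe u
open CategoryTheory CategoryTheory.Limits AlgebraicGeometry Opposite TopologicalSpace

namespace Groth.Agent.Helper5.InfStd

open AlgSp Groth.Agent.Helper4

variable {S : Scheme.{u}}

theorem unramified_of_etale {F G : Sp S} (f : F ⟶ G) (hf : IsFormallyEtaleMor f) :
    IsFormallyUnramifiedMor f := by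
  intro sq l l' h1 h2 h3 h4
  obtain ⟨l₀, -, hu⟩ := hf sq
  rw [hu l ⟨h1, h2⟩, hu l' ⟨h3, h4⟩]

set_option backward.isDefEq.respectTransparency.types false in
/-- the pulled back family on the source of a thickening is again a jointly surjective etale
family -/
theorem family_pullback {T T' : Sp S} (j : T ⟶ T') (hrep : Representable j) {κ : Type u}
    (A : κ → Over S) (g : ∀ k, (yon S).obj (A k) ⟶ T') (hge : ∀ k, RepWith @Etale (g k))
    (hgs : ∀ w : Points T', ∃ k, w ∈ Set.range (Points.map (g k))) :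
    (∀ k, RepWith @Etale (hrep.fst (g k))) ∧
      ∀ τ : Points T, ∃ k, τ ∈ Set.range (Points.map (hrep.fst (g k))) := by
  have iE := repWith_isStableUnderBaseChange (S := S) @Etale
  refine ⟨fun k => MorphismProperty.of_isPullback (P := RepWith @Etale) (hrep.isPullback (g k)).flip
    (hge k), fun τ => ?_⟩
  obtain ⟨k, z, hz⟩ := hgs (Points.map j τ)
  obtain ⟨p, hp1, -⟩ :=
    Groth.Agent.Helper4.AlgSpPtsDesc.exists_point_of_isPullback (hrep.isPullback (g k)) τ z hz.symm
  exact ⟨k, p, hp1⟩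

set_option backward.isDefEq.respectTransparency.types false in
theorem s10625 {X Y : AlgSp.Space S} (f : X ⟶ Y)
    (hf : AlgSp.IsFormallyEtaleMor f.hom) {T T' : AlgSp.Space S} (j : T ⟶ T') (hj : AlgSp.IsFOThickMor j.hom)
    (a : T ⟶ X) (b : T' ⟶ Y) (w : a ≫ f = j ≫ b) :
    ∃! l : T' ⟶ X, j ≫ l = a ∧ l ≫ f = b := by
  have hfu := unramified_of_etale f.hom hf
  obtain ⟨κ, A, g, hAaff, hge, hgs⟩ := exists_affine_etale_family T'.property
  have hrep := hj.1.rep
  have sqk : ∀ k, IsPullback (hrep.fst (g k)) ((yon S).map (hrep.snd (g k))) j.hom (g k) :=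
    fun k => hrep.isPullback (g k)
  have hw : a.hom ≫ f.hom = j.hom ≫ b.hom := congrArg (fun m => m.hom) w
  have hex : ∀ k, ∃! m : (yon S).obj (A k) ⟶ X.obj,
      IsLiftOn f.hom a.hom b.hom (g k) (hrep.fst (g k)) (hrep.snd (g k)) m := by
    intro k
    haveI := hAaff k
    have h1 : thick (hrep.snd (g k)).left := hj.1.property _ _ _ (sqk k)
    have h2 : sqZero (hrep.snd (g k)).left := hj.2 _ _ _ (hAaff k) (hge k) (sqk k)
    exact existsUnique_chart f.hom hf _ h1 h2 (hrep.fst (g k) ≫ a.hom) (g k ≫ b.hom)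
      (by rw [Category.assoc, hw, ← Category.assoc, (sqk k).w, Category.assoc])
  choose t ht htu using hex
  have hcomp : ∀ (k l : κ) (R : Over S) (r₁ : R ⟶ A k) (r₂ : R ⟶ A l),
      (yon S).map r₁ ≫ g k = (yon S).map r₂ ≫ g l →
        (yon S).map r₁ ≫ t k = (yon S).map r₂ ≫ t l := by
    intro k l R r₁ r₂ hcomm
    have hgr := (hge k).rep
    have sqP := hgr.isPullback (g l)
    obtain ⟨p₁, hp₁⟩ := (yon S).map_surjective (hgr.fst (g l))
    rw [← hp₁] at sqP
    have hp₁e : Etale p₁.left := (hge l).property _ _ _ sqP.flip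
    clear hp₁
    generalize hgr.snd (g l) = p₂ at sqP
    generalize hgr.pullback (g l) = P at p₁ p₂ sqP hp₁e
    have key : (yon S).map p₁ ≫ t k = (yon S).map p₂ ≫ t l := by
      have hζ : RepWith @Etale ((yon S).map p₁ ≫ g k) :=
        Groth.Agent.Helper4.AlgSpSrc.repWith_comp _ ((repWith_yon_map_iff _ _).2 hp₁e) (hge k)
      have sqZ := hrep.isPullback ((yon S).map p₁ ≫ g k)
      have e1 := isLiftOn_restrict (sqk k) p₁ sqZ (ht k)
      have hζ' : (yon S).map p₁ ≫ g k = (yon S).map p₂ ≫ g l := sqP.w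
      have sqZ' : IsPullback (hrep.fst ((yon S).map p₁ ≫ g k))
          ((yon S).map (hrep.snd ((yon S).map p₁ ≫ g k))) j.hom ((yon S).map p₂ ≫ g l) := by
        rw [← hζ']; exact sqZ
      have e2 := isLiftOn_restrict (sqk l) p₂ sqZ' (ht l)
      rw [← hζ'] at e2
      exact isLiftOn_unique hfu hj hζ sqZ e1 e2
    obtain ⟨ρ, hρ⟩ := (yon S).map_surjective (sqP.lift ((yon S).map r₁) ((yon S).map r₂) hcomm)
    have h1 : ρ ≫ p₁ = r₁ := (yon S).map_injective (by rw [Functor.map_comp, hρ, sqP.lift_fst])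
    have h2 : ρ ≫ p₂ = r₂ := (yon S).map_injective (by rw [Functor.map_comp, hρ, sqP.lift_snd])
    rw [← h1, ← h2, Functor.map_comp, Functor.map_comp, Category.assoc, Category.assoc, key]
  obtain ⟨l₀, hl₀, hl₀u⟩ := Groth.Agent.Helper5.EtGlue.existsUnique_desc A g hge hgs t hcomp
  have hlf : l₀ ≫ f.hom = b.hom :=
    hom_ext_family A g hge hgs _ _ (fun k => by rw [← Category.assoc, hl₀ k, (ht k).2])
  obtain ⟨hfe, hfs⟩ := family_pullback j.hom hrep A g hge hgs
  have hja : j.hom ≫ l₀ = a.hom :=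
    hom_ext_family (fun k => hrep.pullback (g k)) (fun k => hrep.fst (g k)) hfe hfs _ _
      (fun k => by rw [← Category.assoc, (sqk k).w, Category.assoc, hl₀ k, (ht k).1])
  refine ⟨ObjectProperty.homMk l₀, ⟨ObjectProperty.hom_ext _ hja, ObjectProperty.hom_ext _ hlf⟩, ?_⟩
  rintro l' ⟨h1', h2'⟩
  apply ObjectProperty.hom_ext
  show l'.hom = l₀
  apply hl₀u
  intro k
  apply htu k
  refine ⟨?_, ?_⟩
  · rw [← Category.assoc, ← (sqk k).w, Category.assoc]
    show _ ≫ (j ≫ l').hom = _
    rw [h1']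
  · rw [Category.assoc]
    show _ ≫ (l' ≫ f).hom = _
    rw [h2']

end Groth.Agent.Helper5.InfStd
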