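import Groth.Prelude.Def_AlgSpDec
import Groth.Agent.Helper5.IntDim
import Groth.Agent.Helper5.EtDim2
import Groth.Agent.Helper4.AlgSpSrc
import Mathlib

set_option autoImplicit false
universe u
open CategoryTheory CategoryTheory.Limits AlgebraicGeometry Opposite

namespace Groth.Agent.Helper5.IntDim

open AlgSp Groth.Agent.Helper5.HasAtChart Groth.Agent.Helper5.GeomRed Groth.Agent.Helper5.EtDim
  Groth.Agent.Helper4.AlgSpPtsDesc

variable {S : Scheme.{u}}

/-- Over an affine open neighbourhood of a chart point of the target, an integral morphism is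
given by an integral morphism of affine schemes. -/
theorem exists_integral_chart {X Y : Sp S} (f : X ⟶ Y) (hf : IsIntegralMor f) {V : Over S}
    (b : (yon S).obj V ⟶ Y) (hb : RepWith @Etale b) (v : ↥V.left) :
    ∃ (V₀ W : Over S) (j : V₀ ⟶ V) (i : W ⟶ V₀) (fst : (yon S).obj W ⟶ X) (v₀ : ↥V₀.left),
      IsOpenImmersion j.left ∧ j.left v₀ = v ∧ RepWith @Etale ((yon S).map j ≫ b) ∧
      IsAffine V₀.left ∧ IsAffine W.left ∧ IsIntegralHom i.left ∧ RepWith @Etale fst ∧
      IsPullback fst ((yon S).map i) f ((yon S).map j ≫ b) := by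
  obtain ⟨_, ⟨V₀o, hV₀, rfl⟩, hvV₀, -⟩ :=
    V.left.isBasis_affineOpens.exists_subset_of_mem_open (Set.mem_univ v) isOpen_univ
  let V₀ : Over S := Over.mk (Scheme.Opens.ι V₀o ≫ V.hom)
  let j : V₀ ⟶ V := Over.homMk (Scheme.Opens.ι V₀o) rfl
  have hb₀ : RepWith @Etale ((yon S).map j ≫ b) :=
    Groth.Agent.Helper4.AlgSpSrc.repWith_comp @Etale
      ((repWith_yon_map_iff _ _).2 (inferInstance : Etale (Scheme.Opens.ι V₀o))) hb
  have hV₀aff : IsAffine V₀.left := hV₀
  obtain ⟨W, i, fst, sq, hWaff, hint⟩ := hf hV₀aff ((yon S).map j ≫ b)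
  have hfst : RepWith @Etale fst :=
    (repWith_isStableUnderBaseChange (S := S) @Etale).of_isPullback sq.flip hb₀
  exact ⟨V₀, W, j, i, fst, ⟨v, hvV₀⟩, (inferInstance : IsOpenImmersion (Scheme.Opens.ι V₀o)), rfl,
    hb₀, hV₀aff, hWaff, hint, hfst, sq⟩

theorem dim_le_of_isIntegralMor {X Y : Sp S} (hY : IsAlgSpace Y) (f : X ⟶ Y)
    (hf : IsIntegralMor f) : AlgSp.dim X ≤ AlgSp.dim Y := by
  unfold AlgSp.dim
  refine iSup_le fun U => iSup_le fun a => iSup_le fun ha => ?_
  rw [topologicalKrullDim_eq_iSup_coheight]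
  refine iSup_le fun u => ?_
  obtain ⟨V, b, v, hb, hv⟩ := exists_chart_point hY (Points.map f (Points.ofPt a u))
  obtain ⟨V₀, W, j, i, fst, v₀, hj, hjv, hb₀, hV₀aff, hWaff, hint, hfst, sq⟩ :=
    exists_integral_chart f hf b hb v
  have hpt : Points.map f (Points.ofPt a u) =
      Points.map ((yon S).map j ≫ b) (Points.schemeHomeo V₀ v₀) := by
    rw [Groth.Agent.Helper4.AlgSpQC2.ofPt_eq_map_schemeHomeo, ofPt_yon_map_comp, hjv, hv]
  obtain ⟨π, hπ1, hπ2⟩ := exists_point_of_isPullback sq (Points.ofPt a u)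
    (Points.schemeHomeo V₀ v₀) hpt
  obtain ⟨w, rfl⟩ := (Points.schemeHomeo W).surjective π
  have hiw : i.left w = v₀ := by
    apply (Points.schemeHomeo V₀).injective
    rw [← Points.map_yon_map_apply, hπ2]
  have h1 : Order.coheight u = Order.coheight w := by
    have := chart_indep (fun W' w' => Order.coheight w' = Order.coheight w)
      (fun g _ w' => by rw [coheight_eq_of_etale g w']) fst a hfst ha w u
      (by rw [← Groth.Agent.Helper4.AlgSpQC2.ofPt_eq_map_schemeHomeo]; exact hπ1) rfl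
    exact this
  rw [h1]
  have h2 := coheight_le_of_integral i.left w
  rw [hiw] at h2
  refine le_iSup_of_le V₀ (le_iSup_of_le ((yon S).map j ≫ b) (le_iSup_of_le hb₀ ?_))
  rw [topologicalKrullDim_eq_iSup_coheight]
  refine le_trans ?_ (le_iSup (fun z : ↥V₀.left => ((Order.coheight z : ℕ∞) : WithBot ℕ∞)) v₀)
  exact_mod_cast h2

theorem dim_le_of_isIntegralMor_surjective {X Y : Sp S} (f : X ⟶ Y)
    (hf : IsIntegralMor f) (hs : IsSurjectiveMor f) : AlgSp.dim Y ≤ AlgSp.dim X := by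
  unfold AlgSp.dim
  refine iSup_le fun V => iSup_le fun b => iSup_le fun hb => ?_
  rw [topologicalKrullDim_eq_iSup_coheight]
  refine iSup_le fun v => ?_
  obtain ⟨V₀, W, j, i, fst, v₀, hj, hjv, hb₀, hV₀aff, hWaff, hint, hfst, sq⟩ :=
    exists_integral_chart f hf b hb v
  have hsurj : Function.Surjective i.left := by
    intro z
    obtain ⟨x, hx⟩ := hs (Points.ofPt ((yon S).map j ≫ b) z)
    obtain ⟨π, hπ1, hπ2⟩ := exists_point_of_isPullback sq x (Points.schemeHomeo V₀ z)
      (by rw [Groth.Agent.Helper4.AlgSpQC2.ofPt_eq_map_schemeHomeo, hx])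
    obtain ⟨w, rfl⟩ := (Points.schemeHomeo W).surjective π
    refine ⟨w, ?_⟩
    apply (Points.schemeHomeo V₀).injective
    rw [← Points.map_yon_map_apply, hπ2]
  have h1 : Order.coheight v = Order.coheight v₀ := by
    rw [← hjv]
    exact coheight_eq_of_isOpenImmersion j.left
  have h2 : ((Order.coheight v₀ : ℕ∞) : WithBot ℕ∞) ≤ topologicalKrullDim ↥V₀.left := by
    rw [topologicalKrullDim_eq_iSup_coheight]
    exact le_iSup (fun z : ↥V₀.left => ((Order.coheight z : ℕ∞) : WithBot ℕ∞)) v₀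
  have h3 := topologicalKrullDim_le_of_integral_surjective i.left hsurj
  rw [h1]
  exact le_trans (h2.trans h3) (le_iSup_of_le W (le_iSup_of_le fst (le_iSup_of_le hfst le_rfl)))

end Groth.Agent.Helper5.IntDim
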