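import Mathlib
import Groth.Agent.Helper5.FinNbhd9
import Groth.Agent.Helper5.CodimOneQf2
import Groth.Agent.Helper5.Decent3

/-!
# Integral algebraic spaces: the generic point, and quasi-finiteness at the generic point
(S10485, S10486)
-/

set_option autoImplicit false
set_option linter.style.haveILetI false
set_option linter.unusedVariables false
set_option linter.unusedSectionVars false
universe u

namespace Groth.Agent.Helper5.IntGen

open CategoryTheory CategoryTheory.Limits AlgebraicGeometry Opposite AlgSp TopologicalSpace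
open Groth.Agent.Helper4 Groth.Agent.Helper5.Codim0B Groth.Agent.Helper5.PtLoc
  Groth.Agent.Helper5.RelDimSp Groth.Agent.Helper5.FinNbhd

variable {S : Scheme.{u}}

/-- in a decent space with a generic point, the codimension 0 points are exactly the generic
point -/
theorem hasAt0_iff_eq_generic {X : Sp S} (hX : IsAlgSpace X) (hd : IsDecent X) (x : Points X)
    (hx : IsGenericPoint x (Set.univ : Set (Points X))) (x' : Points X) :
    HasAt (fun U u => ringKrullDim ↥(U.presheaf.stalk u) = 0) X x' ↔ x' = x := by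
  haveI := Groth.Agent.Helper5.Decent3.t0Space_of_isDecent hX hd
  constructor
  · rintro ⟨U, a, u, ha, hu, hdim⟩
    have hmax : IsMaxPt u := (stalk_dim_zero_iff _ _).1 hdim
    have hsp : x ⤳ x' := hx.specializes (Set.mem_univ _)
    obtain ⟨p, hp, -, hpq⟩ := hd x
    obtain ⟨u', hu'u, hu'⟩ :=
      Groth.Agent.Helper5.Decent3.exists_generization_in_chart hX x' x hsp p hp hpq a ha u hu
    rw [← hu, ← hu', hmax u' hu'u]
  · rintro rfl
    obtain ⟨U, a, u, ha, hu⟩ := Groth.Agent.Helper5.GeomRed.exists_chart_point hX x'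
    obtain ⟨ξ, hξ, hξu⟩ := exists_isMaxPt_specializes u
    have h1 : Points.ofPt a ξ ⤳ x' := by
      rw [← hu]; exact hξu.map (Points.continuous_ofPt a)
    have h2 : x' ⤳ Points.ofPt a ξ := hx.specializes (Set.mem_univ _)
    have h3 : Points.ofPt a ξ = x' := (h1.antisymm h2).eq
    exact ⟨U, a, ξ, ha, h3, (stalk_dim_zero_iff _ _).2 hξ⟩

/-- a dominant morphism maps the generic point to the generic point -/
theorem map_generic_of_dominant {X Y : Sp S} (hY : IsAlgSpace Y) (hYd : IsDecent Y) (f : X ⟶ Y)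
    (hd : IsDominantMor f) (x : Points X) (hx : IsGenericPoint x (Set.univ : Set (Points X)))
    (y : Points Y) (hy : IsGenericPoint y (Set.univ : Set (Points Y))) :
    Points.map f x = y := by
  haveI := Groth.Agent.Helper5.Decent3.t0Space_of_isDecent hY hYd
  have h1 : IsGenericPoint (Points.map f x) (Set.univ : Set (Points Y)) := by
    show closure {Points.map f x} = Set.univ
    have hsub : Set.range (Points.map f) ⊆ closure {Points.map f x} := by
      rintro _ ⟨x'', rfl⟩
      have hsp : x ⤳ x'' := hx.specializes (Set.mem_univ _)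
      exact specializes_iff_mem_closure.1 (hsp.map (Points.continuous_map f))
    have h2 : closure (Set.range (Points.map f)) ⊆ closure {Points.map f x} :=
      closure_minimal hsub isClosed_closure
    rw [hd.closure_range] at h2
    exact Set.eq_univ_of_univ_subset h2
  exact h1.eq hy

/-- at a maximal point, vanishing residual transcendence degree gives quasi-finiteness -/
theorem fibreDimAt_eq_zero_of_isMaxPt {U V : Scheme.{u}} (h : U ⟶ V) [LocallyOfFiniteType h]
    (u : ↥U) (hu : IsMaxPt u) (htr : Dual3.resTrdeg h u = 0) : FlatMor.fibreDimAt h u = 0 := by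
  obtain ⟨k, n, hk1, -, hn, hfd⟩ := Groth.Agent.Helper5.SubDim.fibreDimAt_eq h u
  have hmax : IsMaxPt (h.asFiber u) := by
    intro w hw
    have h1 : h.fiberι (h u) w ⤳ h.fiberι (h u) (h.asFiber u) :=
      (Groth.Agent.Helper5.CodimQf.fiber_specializes_iff h (h u) _ _).1 hw
    rw [h.fiberι_asFiber] at h1
    have h2 := hu _ h1
    apply (h.fiberι (h u)).isEmbedding.injective
    rw [h2, h.fiberι_asFiber]
  have hk0 : k = 0 := by
    have h0 := (stalk_dim_zero_iff _ _).2 hmax
    rw [hk1] at h0
    exact_mod_cast h0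
  have hn0 : n = 0 := by
    have h0 : (n : Cardinal.{u}) = 0 := by
      rw [← hn]; exact htr
    exact_mod_cast h0
  rw [hfd, hk0, hn0]
  rfl

set_option backward.isDefEq.respectTransparency.types false in
theorem s10485 {X Y : AlgSp.Space S} (hXi : AlgSp.IsIntegralSp X.obj) (hYi : AlgSp.IsIntegralSp Y.obj)
    (f : X ⟶ Y) (hft : AlgSp.LocP @LocallyOfFiniteType f.hom) (hd : AlgSp.IsDominantMor f.hom)
    (x : AlgSp.Points X.obj) (hx : IsGenericPoint x (Set.univ : Set (AlgSp.Points X.obj)))
    (y : AlgSp.Points Y.obj) (hy : IsGenericPoint y (Set.univ : Set (AlgSp.Points Y.obj))) :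
    AlgSp.HasAtMor (fun U _ h u => ∃ W : U.Opens, u ∈ W ∧ LocallyQuasiFinite (W.ι ≫ h) ∧ LocallyOfFiniteType (W.ι ≫ h)) f.hom x ↔ (∀ x' : AlgSp.Points X.obj, AlgSp.Points.map f.hom x' = y → x' = x) := by
  have hy0 : HasAt (fun U u => ringKrullDim ↥(U.presheaf.stalk u) = 0) Y.obj y :=
    (hasAt0_iff_eq_generic Y.property hYi.2.1 y hy y).2 rfl
  have hfx : Points.map f.hom x = y :=
    map_generic_of_dominant Y.property hYi.2.1 f.hom hd x hx y hy
  have key := Groth.Agent.Helper5.CodimQf.s10399 f hft y hy0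
  constructor
  · intro h x' hx'
    have h1 := key.2 (fun x'' _ h0 => by
      rw [(hasAt0_iff_eq_generic X.property hXi.2.1 x hx x'').1 h0]; exact h) x' hx'
    exact (hasAt0_iff_eq_generic X.property hXi.2.1 x hx x').1 h1
  · intro h
    exact key.1.1 (fun x' hx' => (hasAt0_iff_eq_generic X.property hXi.2.1 x hx x').2 (h x' hx'))
      x hfx

set_option backward.isDefEq.respectTransparency.types false in
theorem s10486 {X Y : AlgSp.Space S} (hXi : AlgSp.IsIntegralSp X.obj) (hYi : AlgSp.IsIntegralSp Y.obj)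
    (f : X ⟶ Y) (hft : AlgSp.LocP @LocallyOfFiniteType f.hom) (hd : AlgSp.IsDominantMor f.hom)
    (x : AlgSp.Points X.obj) (hx : IsGenericPoint x (Set.univ : Set (AlgSp.Points X.obj)))
    (y : AlgSp.Points Y.obj) (hy : IsGenericPoint y (Set.univ : Set (AlgSp.Points Y.obj))) :
    AlgSp.HasAtMor (fun _ _ h u => Dual3.resTrdeg h u = 0) f.hom x ↔ (∀ x' : AlgSp.Points X.obj, AlgSp.Points.map f.hom x' = y → x' = x) := by
  rw [← s10485 hXi hYi f hft hd x hx y hy]
  constructor
  · rintro ⟨U, V, a, b, k, u, hae, hbe, comm, hu, htr⟩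
    have hx0 : HasAt (fun U u => ringKrullDim ↥(U.presheaf.stalk u) = 0) X.obj x :=
      (hasAt0_iff_eq_generic X.property hXi.2.1 x hx x).2 rfl
    rw [← hu, hasAt0_iff_isMaxPt a hae u] at hx0
    haveI hlft : LocallyOfFiniteType k.left := hft a b k hae hbe comm
    have h0 := fibreDimAt_eq_zero_of_isMaxPt k.left u hx0 htr
    rw [← hu, hasAtMor_nbhd_lqf_iff f.hom hft,
      hasAtMor_iff_chart_on (etLocalOn_QD _) f.hom hft a b k hae hbe comm u]
    exact h0
  · intro h
    exact Groth.Agent.Helper5.CodimOneQf.hasAtMor_resTrdeg_of_nbhd_lqf f.hom x h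

end Groth.Agent.Helper5.IntGen
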