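import Mathlib
import Groth.Agent.Helper5.IntGen1
import Groth.Agent.Helper5.FinNbhd12

/-!
# Integral algebraic spaces: finiteness over a nonempty affine open (S10488)
-/

set_option autoImplicit false
set_option linter.style.haveILetI false
set_option linter.unusedVariables false
set_option linter.unusedSectionVars false
universe u

namespace Groth.Agent.Helper5.IntGen

open CategoryTheory CategoryTheory.Limits AlgebraicGeometry Opposite AlgSp TopologicalSpace
open Groth.Agent.Helper4 Groth.Agent.Helper5.Codim0B Groth.Agent.Helper5.FinNbhd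
open Groth.Agent.Helper4.AlgSpPtsDesc Groth.Agent.Helper4.AlgSpQC2

variable {S : Scheme.{u}}

/-- an integral space has an irreducible affine open subscheme through its generic point -/
theorem exists_affine_open_generic (Y : Space S) (hYi : IsIntegralSp Y.obj) (y : Points Y.obj)
    (hy : IsGenericPoint y (Set.univ : Set (Points Y.obj))) :
    ∃ (V : Over S) (b : (yon S).obj V ⟶ Y.obj) (v₀ : ↥V.left), IsAffine V.left ∧
      RepWith @IsOpenImmersion b ∧ Points.ofPt b v₀ = y ∧ ∀ w : ↥V.left, v₀ ⤳ w := by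
  obtain ⟨W, ψ, hψ, hψd⟩ := exists_dense_open_scheme Y hYi.2.1
  have hk := Groth.Agent.Helper5.DegStr.isOpenEmbedding_ofPt_of_oi Y.property ψ hψ
  haveI : Nonempty (Points Y.obj) := ⟨y⟩
  have hne : (Set.range (Points.ofPt ψ)).Nonempty := hψd.nonempty
  have hymem : y ∈ Set.range (Points.ofPt ψ) := by
    rw [hy.mem_open_set_iff hk.isOpen_range, Set.univ_inter]
    exact hne
  obtain ⟨w₀, hw₀⟩ := hymem
  obtain ⟨O, hO, hw₀O⟩ : ∃ O : W.left.Opens, IsAffineOpen O ∧ w₀ ∈ O := by
    obtain ⟨_, ⟨O, hO, rfl⟩, hvO, -⟩ :=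
      W.left.isBasis_affineOpens.exists_subset_of_mem_open (Set.mem_univ w₀) isOpen_univ
    exact ⟨O, hO, hvO⟩
  let Vo : Over S := Over.mk (O.ι ≫ W.hom)
  let ιo : Vo ⟶ W := Over.homMk O.ι rfl
  have i2 := (repWith_isMultiplicative (S := S) @IsOpenImmersion).toIsStableUnderComposition
  have hb : RepWith @IsOpenImmersion ((yon S).map ιo ≫ ψ) :=
    MorphismProperty.comp_mem _ _ _
      ((repWith_yon_map_iff _ _).2 (show IsOpenImmersion O.ι from inferInstance)) hψ
  refine ⟨Vo, (yon S).map ιo ≫ ψ, ⟨w₀, hw₀O⟩, hO, hb, ?_, ?_⟩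
  · rw [ofPt_yon_map_comp]; exact hw₀
  · intro w
    apply (O.ι.isOpenEmbedding.isInducing.specializes_iff).1
    apply (hk.isInducing.specializes_iff).1
    show Points.ofPt ψ w₀ ⤳ _
    rw [hw₀]
    exact hy.specializes (Set.mem_univ _)

/-- a nonempty open subscheme of a space with a generic point contains the generic point -/
theorem generic_mem_range_of_oi {Y : Sp S} (hY : IsAlgSpace Y) (y : Points Y)
    (hy : IsGenericPoint y (Set.univ : Set (Points Y))) {V : Over S} (b : (yon S).obj V ⟶ Y)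
    (hb : RepWith @Etale b) [Nonempty ↥V.left] : ∃ v₀ : ↥V.left, Points.ofPt b v₀ = y := by
  have hopen := (Groth.Agent.Helper5.Decent3.isOpenMap_ofPt hY b hb).isOpen_range
  have hymem : y ∈ Set.range (Points.ofPt b) := by
    rw [hy.mem_open_set_iff hopen, Set.univ_inter]
    exact Set.range_nonempty _
  exact hymem

set_option backward.isDefEq.respectTransparency.types false in
/-- a finite morphism over an open subscheme of the target, pulled back from `f`, has a single
point over the generic point -/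
theorem unique_over_generic_of_finite {X Y : Space S} (hXd : IsDecent X.obj) (f : X ⟶ Y)
    (x : Points X.obj) (hx : IsGenericPoint x (Set.univ : Set (Points X.obj)))
    (y : Points Y.obj) (hfx : Points.map f.hom x = y)
    {V U : Over S} (b : (yon S).obj V ⟶ Y.obj) (hb : RepWith @IsOpenImmersion b) (g : U ⟶ V)
    (a : (yon S).obj U ⟶ X.obj) (sq : IsPullback a ((yon S).map g) f.hom b) [IsFinite g.left]
    (v₀ : ↥V.left) (hv₀ : Points.ofPt b v₀ = y)
    (x' : Points X.obj) (hx' : Points.map f.hom x' = y) : x' = x := by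
  have hk := Groth.Agent.Helper5.DegStr.isOpenEmbedding_ofPt_of_oi Y.property b hb
  have i0 := repWith_isStableUnderBaseChange (S := S) @IsOpenImmersion
  have haoi : RepWith @IsOpenImmersion a := MorphismProperty.of_isPullback sq.flip hb
  have hae := etale_of_oi a haoi
  obtain ⟨p, hp1, hp2⟩ := exists_point_of_isPullback sq x' (Points.schemeHomeo V v₀)
    (by rw [hx', ofPt_eq_map_schemeHomeo, hv₀])
  obtain ⟨u', rfl⟩ := (Points.schemeHomeo U).surjective p
  rw [ofPt_eq_map_schemeHomeo] at hp1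
  rw [Points.map_yon_map_apply] at hp2
  have hgu' : g.left u' = v₀ := (Points.schemeHomeo V).injective hp2
  have hsp : x ⤳ x' := hx.specializes (Set.mem_univ _)
  obtain ⟨q, hq, -, hqq⟩ := hXd x
  obtain ⟨u₀, hu₀u', hu₀⟩ :=
    Groth.Agent.Helper5.Decent3.exists_generization_in_chart X.property x' x hsp q hq hqq a hae
      u' hp1
  have hgu₀ : g.left u₀ = v₀ := by
    apply hk.injective
    rw [hv₀, ← hfx, ← hu₀, Points.map_ofPt, sq.w, ofPt_yon_map_comp]
  have heq : u₀ = u' :=
    (Scheme.Hom.isDiscrete_preimage_singleton g.left v₀).eq_of_specializes hu₀u' hgu₀ hgu'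
  rw [← hp1, ← hu₀, heq]

set_option backward.isDefEq.respectTransparency.types false in
set_option maxHeartbeats 800000 in
theorem s10488 {X Y : AlgSp.Space S} (hXi : AlgSp.IsIntegralSp X.obj) (hYi : AlgSp.IsIntegralSp Y.obj)
    (f : X ⟶ Y) (hft : AlgSp.LocP @LocallyOfFiniteType f.hom) (hd : AlgSp.IsDominantMor f.hom)
    (x : AlgSp.Points X.obj) (hx : IsGenericPoint x (Set.univ : Set (AlgSp.Points X.obj)))
    (y : AlgSp.Points Y.obj) (hy : IsGenericPoint y (Set.univ : Set (AlgSp.Points Y.obj)))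
    (hsq : AlgSp.IsSeparatedMor f.hom ∨ AlgSp.IsQuasiCompactMor f.hom) :
    (∀ x' : AlgSp.Points X.obj, AlgSp.Points.map f.hom x' = y → x' = x) ↔
      ∃ (V : Over S) (b : (AlgSp.yon S).obj V ⟶ Y.obj) (U : Over S) (g : U ⟶ V) (a : (AlgSp.yon S).obj U ⟶ X.obj),
        IsAffine V.left ∧ Nonempty ↥V.left ∧ AlgSp.RepWith @IsOpenImmersion b ∧
          IsPullback a ((AlgSp.yon S).map g) f.hom b ∧ IsAffine U.left ∧ IsFinite g.left := by
  have hfx : Points.map f.hom x = y :=
    map_generic_of_dominant Y.property hYi.2.1 f.hom hd x hx y hy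
  constructor
  · intro h5
    obtain ⟨V, b, v₀, hVa, hb, hbv₀, hgen⟩ := exists_affine_open_generic Y hYi y hy
    haveI := hVa
    have hX0 : {x' : Points X.obj |
        HasAt (fun U u => ringKrullDim ↥(U.presheaf.stalk u) = 0) X.obj x'}.Finite :=
      (Set.finite_singleton x).subset
        (fun x' h => (hasAt0_iff_eq_generic X.property hXi.2.1 x hx x').1 h)
    have hpre : ∀ x' : Points X.obj,
        HasAt (fun U u => ringKrullDim ↥(U.presheaf.stalk u) = 0) X.obj x' ↔
        HasAt (fun U u => ringKrullDim ↥(U.presheaf.stalk u) = 0) Y.obj (Points.map f.hom x') := by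
      intro x'
      rw [hasAt0_iff_eq_generic X.property hXi.2.1 x hx x',
        hasAt0_iff_eq_generic Y.property hYi.2.1 y hy]
      constructor
      · rintro rfl; exact hfx
      · exact h5 x'
    obtain ⟨V'', ι, v'', hι, hιv, hfin⟩ := lemmaU f hft hX0 hpre hsq.symm b hb v₀ hgen
    haveI := hι
    obtain ⟨O, hO, hvO⟩ : ∃ O : V''.left.Opens, IsAffineOpen O ∧ v'' ∈ O := by
      obtain ⟨_, ⟨O, hO, rfl⟩, hvO, -⟩ :=
        V''.left.isBasis_affineOpens.exists_subset_of_mem_open (Set.mem_univ v'') isOpen_univ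
      exact ⟨O, hO, hvO⟩
    let Vo : Over S := Over.mk (O.ι ≫ V''.hom)
    let ιo : Vo ⟶ V'' := Over.homMk O.ι rfl
    haveI : IsAffine Vo.left := hO
    have i2 := (repWith_isMultiplicative (S := S) @IsOpenImmersion).toIsStableUnderComposition
    have hb'' : RepWith @IsOpenImmersion ((yon S).map ι ≫ b) :=
      MorphismProperty.comp_mem _ _ _ ((repWith_yon_map_iff _ _).2 hι) hb
    have hb' : RepWith @IsOpenImmersion ((yon S).map ιo ≫ (yon S).map ι ≫ b) :=
      MorphismProperty.comp_mem _ _ _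
        ((repWith_yon_map_iff _ _).2 (show IsOpenImmersion O.ι from inferInstance)) hb''
    have i1 := repWith_isStableUnderBaseChange (S := S) @IsFinite
    have hfin' : RepWith @IsFinite
        (pullback.snd f.hom ((yon S).map ιo ≫ (yon S).map ι ≫ b)) :=
      MorphismProperty.of_isPullback
        (isPullback_map_snd f.hom ((yon S).map ι ≫ b) ((yon S).map ιo)) hfin
    obtain ⟨U, i, fst, sqU, hUa, hifin⟩ :=
      isFiniteMor_of_repWith _ hfin' (show IsAffine Vo.left from hO) (𝟙 _)
    have sqP := IsPullback.of_hasPullback f.hom ((yon S).map ιo ≫ (yon S).map ι ≫ b)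
    have hpaste := (sqU.flip.paste_vert sqP.flip).flip
    rw [Category.id_comp] at hpaste
    exact ⟨Vo, _, U, i, _, hO, ⟨⟨v'', hvO⟩⟩, hb', hpaste, hUa, hifin⟩
  · rintro ⟨V, b, U, g, a, hVa, hVne, hb, sq, hUa, hg⟩ x' hx'
    haveI := hg
    haveI := hVne
    obtain ⟨v₀, hv₀⟩ := generic_mem_range_of_oi Y.property y hy b (etale_of_oi b hb)
    exact unique_over_generic_of_finite hXi.2.1 f x hx y hfx b hb g a sq v₀ hv₀ x' hx'

end Groth.Agent.Helper5.IntGen
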