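import Mathlib
import Groth.Agent.Helper5.IntGen2

/-!
# Integral algebraic spaces: finiteness between nonempty affine opens (S10487)
-/

set_option autoImplicit false
set_option linter.style.haveILetI false
set_option linter.unusedVariables false
set_option linter.unusedSectionVars false
universe u

namespace Groth.Agent.Helper5.IntGen

open CategoryTheory CategoryTheory.Limits AlgebraicGeometry Opposite AlgSp TopologicalSpace
open Groth.Agent.Helper4 Groth.Agent.Helper5.Codim0B Groth.Agent.Helper5.FinNbhd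
open Groth.Agent.Helper4.AlgSpPtsDesc Groth.Agent.Helper4.AlgSpQC2

variable {S : Scheme.{u}}

set_option backward.isDefEq.respectTransparency.types false in
set_option maxHeartbeats 800000 in
theorem s10487 {X Y : AlgSp.Space S} (hXi : AlgSp.IsIntegralSp X.obj) (hYi : AlgSp.IsIntegralSp Y.obj)
    (f : X ⟶ Y) (hft : AlgSp.LocP @LocallyOfFiniteType f.hom) (hd : AlgSp.IsDominantMor f.hom)
    (x : AlgSp.Points X.obj) (hx : IsGenericPoint x (Set.univ : Set (AlgSp.Points X.obj)))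
    (y : AlgSp.Points Y.obj) (hy : IsGenericPoint y (Set.univ : Set (AlgSp.Points Y.obj))) :
    (∃ (U V : Over S) (a : (AlgSp.yon S).obj U ⟶ X.obj) (b : (AlgSp.yon S).obj V ⟶ Y.obj) (g : U ⟶ V),
      IsAffine U.left ∧ IsAffine V.left ∧ Nonempty ↥U.left ∧
        AlgSp.RepWith @IsOpenImmersion a ∧ AlgSp.RepWith @IsOpenImmersion b ∧
          a ≫ f.hom = (AlgSp.yon S).map g ≫ b ∧ IsFinite g.left) ↔ (∀ x' : AlgSp.Points X.obj, AlgSp.Points.map f.hom x' = y → x' = x) := by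
  have hfx : Points.map f.hom x = y :=
    map_generic_of_dominant Y.property hYi.2.1 f.hom hd x hx y hy
  have i2 := (repWith_isMultiplicative (S := S) @IsOpenImmersion).toIsStableUnderComposition
  constructor
  · rintro ⟨U, V, a, b, g, hUa, hVa, hUne, ha, hb, comm, hg⟩
    rw [← s10485 hXi hYi f hft hd x hx y hy]
    haveI := hg
    haveI := hUne
    have hae := etale_of_oi a ha
    have hbe := etale_of_oi b hb
    obtain ⟨u₀, hu₀⟩ := generic_mem_range_of_oi X.property x hx a hae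
    refine ⟨U, V, a, b, g, u₀, hae, hbe, comm, hu₀, ⊤, trivial, ?_, ?_⟩
    · infer_instance
    · infer_instance
  · intro h5
    obtain ⟨V₁, b₁, v₁, hV₁a, hb₁, hb₁v₁, hgen₁⟩ := exists_affine_open_generic Y hYi y hy
    obtain ⟨U₀, a₀, u₀, hU₀a, ha₀, ha₀u₀, -⟩ := exists_affine_open_generic X hXi x hx
    haveI := hV₁a
    have hb₁e := etale_of_oi b₁ hb₁
    -- the preimage of `V₁` in `U₀`
    have sq := hb₁.rep.isPullback (a₀ ≫ f.hom)
    obtain ⟨p1, hp1⟩ := (yon S).map_surjective (hb₁.rep.fst (a₀ ≫ f.hom))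
    rw [← hp1] at sq
    have hp2oi : IsOpenImmersion (hb₁.rep.snd (a₀ ≫ f.hom)).left := hb₁.property _ _ _ sq
    clear hp1
    generalize hb₁.rep.snd (a₀ ≫ f.hom) = p2 at sq hp2oi
    generalize hb₁.rep.pullback (a₀ ≫ f.hom) = R at p1 p2 sq hp2oi
    haveI := hp2oi
    obtain ⟨r, hr1, hr2⟩ :=
      Groth.Agent.Helper5.Decent2.exists_scheme_point_of_isPullback sq v₁ u₀ (by
        rw [hb₁v₁, ← Points.map_ofPt, ha₀u₀, hfx])
    obtain ⟨O, hO, hrO⟩ : ∃ O : R.left.Opens, IsAffineOpen O ∧ r ∈ O := by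
      obtain ⟨_, ⟨O, hO, rfl⟩, hvO, -⟩ :=
        R.left.isBasis_affineOpens.exists_subset_of_mem_open (Set.mem_univ r) isOpen_univ
      exact ⟨O, hO, hvO⟩
    let U₁ : Over S := Over.mk (O.ι ≫ R.hom)
    let ιO : U₁ ⟶ R := Over.homMk O.ι rfl
    haveI : IsAffine U₁.left := hO
    let g₁ : U₁ ⟶ V₁ := ιO ≫ p1
    have ha₁ : RepWith @IsOpenImmersion ((yon S).map ιO ≫ (yon S).map p2 ≫ a₀) :=
      MorphismProperty.comp_mem _ _ _
        ((repWith_yon_map_iff _ _).2 (show IsOpenImmersion O.ι from inferInstance))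
        (MorphismProperty.comp_mem _ _ _ ((repWith_yon_map_iff _ _).2 hp2oi) ha₀)
    have ha₁e := etale_of_oi _ ha₁
    have comm₁ : ((yon S).map ιO ≫ (yon S).map p2 ≫ a₀) ≫ f.hom = (yon S).map g₁ ≫ b₁ := by
      rw [Functor.map_comp, Category.assoc, Category.assoc, Category.assoc, ← sq.w]
    haveI hlft : LocallyOfFiniteType g₁.left := hft _ b₁ g₁ ha₁e hb₁e comm₁
    have hka := Groth.Agent.Helper5.DegStr.isOpenEmbedding_ofPt_of_oi X.property _ ha₁
    have hkb := Groth.Agent.Helper5.DegStr.isOpenEmbedding_ofPt_of_oi Y.property b₁ hb₁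
    let r₁ : ↥U₁.left := ⟨r, hrO⟩
    have hg₁r₁ : g₁.left r₁ = v₁ := hr1
    have hη : ∀ w : ↥V₁.left, w ⤳ v₁ → w = v₁ := fun w hw => (hw.antisymm (hgen₁ w)).eq
    have hpt : ∀ u : ↥U₁.left, Points.map f.hom
        (Points.ofPt ((yon S).map ιO ≫ (yon S).map p2 ≫ a₀) u) = Points.ofPt b₁ (g₁.left u) := by
      intro u
      rw [Points.map_ofPt, comm₁, ofPt_yon_map_comp]
    have hfib : (g₁.left ⁻¹' {v₁}).Finite := by
      refine (Set.finite_singleton r₁).subset ?_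
      intro u hu
      have hu' : g₁.left u = v₁ := hu
      apply hka.injective
      have h1 := h5 _ ((hpt u).trans (by rw [hu', hb₁v₁]))
      have h2 := h5 _ ((hpt r₁).trans (by rw [hg₁r₁, hb₁v₁]))
      rw [h1, h2]
    haveI : QuasiCompact g₁.left := inferInstance
    haveI : QuasiSeparated g₁.left := inferInstance
    obtain ⟨V₂, hV₂a, hv₁V₂, hfin⟩ :=
      Groth.Agent.Helper3.GenFin.exists_finite_nhd_of_qs g₁.left v₁ hη hfib
    haveI := hfin
    haveI : IsAffine (V₂ : Scheme.{u}) := hV₂a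
    let Vo : Over S := Over.mk (V₂.ι ≫ V₁.hom)
    let ιV : Vo ⟶ V₁ := Over.homMk V₂.ι rfl
    let Uo : Over S := Over.mk ((g₁.left ⁻¹ᵁ V₂).ι ≫ U₁.hom)
    let ιU : Uo ⟶ U₁ := Over.homMk (g₁.left ⁻¹ᵁ V₂).ι rfl
    let gO : Uo ⟶ Vo := Over.homMk (g₁.left ∣_ V₂) (by
      show (g₁.left ∣_ V₂) ≫ V₂.ι ≫ V₁.hom = (g₁.left ⁻¹ᵁ V₂).ι ≫ U₁.hom
      rw [← Category.assoc, morphismRestrict_ι, Category.assoc, Over.w g₁])
    have hwg : ιU ≫ g₁ = gO ≫ ιV := Over.OverMorphism.ext (morphismRestrict_ι g₁.left V₂).symm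
    haveI : IsAffine Vo.left := hV₂a
    haveI hUoa : IsAffine Uo.left := isAffine_of_isAffineHom (g₁.left ∣_ V₂)
    refine ⟨Uo, Vo, (yon S).map ιU ≫ (yon S).map ιO ≫ (yon S).map p2 ≫ a₀,
      (yon S).map ιV ≫ b₁, gO, hUoa, hV₂a, ⟨⟨r₁, ?_⟩⟩, ?_, ?_, ?_, hfin⟩
    · show g₁.left r₁ ∈ V₂
      rw [hg₁r₁]; exact hv₁V₂
    · exact MorphismProperty.comp_mem _ _ _
        ((repWith_yon_map_iff _ _).2
          (show IsOpenImmersion (g₁.left ⁻¹ᵁ V₂).ι from inferInstance)) ha₁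
    · exact MorphismProperty.comp_mem _ _ _
        ((repWith_yon_map_iff _ _).2 (show IsOpenImmersion V₂.ι from inferInstance)) hb₁
    · rw [Category.assoc, comm₁, ← Category.assoc, ← Functor.map_comp, hwg, Functor.map_comp,
        Category.assoc]

end Groth.Agent.Helper5.IntGen
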