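import Mathlib
import Groth.Agent.Helper5.IntGen2
import Groth.Agent.Helper5.FinNbhd13

/-!
# Integral algebraic spaces: alterations (S10500)
-/

set_option autoImplicit false
set_option linter.style.haveILetI false
set_option linter.unusedVariables false
set_option linter.unusedSectionVars false
universe u

namespace Groth.Agent.Helper5.IntGen

open CategoryTheory CategoryTheory.Limits AlgebraicGeometry Opposite AlgSp TopologicalSpace
open Groth.Agent.Helper4 Groth.Agent.Helper5.Codim0B Groth.Agent.Helper5.FinNbhd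
open Groth.Agent.Helper4.AlgSpPtsDesc Groth.Agent.Helper4.AlgSpQC2

variable {S : Scheme.{u}}

set_option backward.isDefEq.respectTransparency.types false in
set_option maxHeartbeats 800000 in
theorem s10500 {X Y : AlgSp.Space S}
    (hXi : AlgSp.IsIntegralSp X.obj) (hYi : AlgSp.IsIntegralSp Y.obj) (f : X ⟶ Y) (hp : AlgSp.IsProperMor f.hom)
    (hd : AlgSp.IsDominantMor f.hom)
    (x : AlgSp.Points X.obj) (hx : IsGenericPoint x (Set.univ : Set (AlgSp.Points X.obj)))
    (y : AlgSp.Points Y.obj) (hy : IsGenericPoint y (Set.univ : Set (AlgSp.Points Y.obj))) :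
    (∃ (V : AlgSp.Space S) (j : V ⟶ Y), AlgSp.RepWith @IsOpenImmersion j.hom ∧ Nonempty (AlgSp.Points V.obj) ∧
      ∀ (P : AlgSp.Space S) (fst : P ⟶ V) (snd : P ⟶ X), IsPullback fst.hom snd.hom j.hom f.hom →
        AlgSp.IsFiniteMor fst.hom) ↔ (∀ x' : AlgSp.Points X.obj, AlgSp.Points.map f.hom x' = y → x' = x) := by
  obtain ⟨hsep, ⟨hlft, hqc⟩, huc⟩ := hp
  have hfx : Points.map f.hom x = y :=
    map_generic_of_dominant Y.property hYi.2.1 f.hom hd x hx y hy
  have i0 := repWith_isStableUnderBaseChange (S := S) @IsOpenImmersion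
  have i1 := repWith_isStableUnderBaseChange (S := S) @Etale
  have i2 := (repWith_isMultiplicative (S := S) @Etale).toIsStableUnderComposition
  constructor
  · rintro ⟨V, j, hj, hVne, hall⟩
    rw [← s10485 hXi hYi f hlft hd x hx y hy]
    have hje := etale_of_oi j.hom hj
    -- the generic point lies in `V`
    have hopen : IsOpen (Set.range (Points.map j.hom)) :=
      (isOpenMor_of_repWith_etale Y.property j.hom hje).isOpen_range
    have hymem : y ∈ Set.range (Points.map j.hom) := by
      rw [hy.mem_open_set_iff hopen, Set.univ_inter]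
      exact Set.range_nonempty _
    obtain ⟨y', hy'⟩ := hymem
    obtain ⟨T, c, t₀, hTa, hce, hct₀⟩ :=
      Groth.Agent.Helper5.QcOpenFin.exists_affine_chart_point V.property y'
    have sqP := IsPullback.of_hasPullback j.hom f.hom
    have hP : IsAlgSpace (pullback j.hom f.hom) :=
      AlgSpPB.isAlgSpace_of_isPullback Y.property.diag V.property X.property _ _ _ _ sqP
    let Ps : Space S := ⟨pullback j.hom f.hom, hP⟩
    let fstP : Ps ⟶ V := ObjectProperty.homMk (pullback.fst j.hom f.hom)
    let sndP : Ps ⟶ X := ObjectProperty.homMk (pullback.snd j.hom f.hom)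
    have hfinP : IsFiniteMor (pullback.fst j.hom f.hom) := hall Ps fstP sndP sqP
    obtain ⟨W, i, fst, sqW, hWa, hifin⟩ := hfinP hTa c
    haveI := hifin
    have hfste : RepWith @Etale fst := MorphismProperty.of_isPullback sqW.flip hce
    have hsndoi : RepWith @IsOpenImmersion (pullback.snd j.hom f.hom) :=
      MorphismProperty.of_isPullback sqP hj
    have hae : RepWith @Etale (fst ≫ pullback.snd j.hom f.hom) :=
      MorphismProperty.comp_mem _ _ _ hfste (etale_of_oi _ hsndoi)
    have hbe : RepWith @Etale (c ≫ j.hom) := MorphismProperty.comp_mem _ _ _ hce hje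
    have comm : (fst ≫ pullback.snd j.hom f.hom) ≫ f.hom = (yon S).map i ≫ c ≫ j.hom := by
      rw [Category.assoc, ← sqP.w, ← Category.assoc, sqW.w, Category.assoc]
    obtain ⟨p, hp1, hp2⟩ := exists_point_of_isPullback sqP y' x (by rw [hy', hfx])
    obtain ⟨q, hq1, hq2⟩ := exists_point_of_isPullback sqW p (Points.schemeHomeo T t₀)
      (by rw [hp1, ofPt_eq_map_schemeHomeo, hct₀])
    obtain ⟨w, rfl⟩ := (Points.schemeHomeo W).surjective q
    have hw : Points.ofPt (fst ≫ pullback.snd j.hom f.hom) w = x := by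
      rw [← ofPt_eq_map_schemeHomeo, Points.map_comp, hq1, hp2]
    refine ⟨W, T, _, _, i, w, hae, hbe, comm, hw, ⊤, trivial, ?_, ?_⟩
    · infer_instance
    · infer_instance
  · intro h5
    have hX0 : {x' : Points X.obj |
        HasAt (fun U u => ringKrullDim ↥(U.presheaf.stalk u) = 0) X.obj x'}.Finite :=
      (Set.finite_singleton x).subset
        (fun x' h => (hasAt0_iff_eq_generic X.property hXi.2.1 x hx x').1 h)
    have hY0 : {y' : Points Y.obj |
        HasAt (fun U u => ringKrullDim ↥(U.presheaf.stalk u) = 0) Y.obj y'}.Finite :=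
      (Set.finite_singleton y).subset
        (fun y' h => (hasAt0_iff_eq_generic Y.property hYi.2.1 y hy y').1 h)
    have hpre : ∀ x' : Points X.obj,
        HasAt (fun U u => ringKrullDim ↥(U.presheaf.stalk u) = 0) X.obj x' ↔
        HasAt (fun U u => ringKrullDim ↥(U.presheaf.stalk u) = 0) Y.obj (Points.map f.hom x') := by
      intro x'
      rw [hasAt0_iff_eq_generic X.property hXi.2.1 x hx x',
        hasAt0_iff_eq_generic Y.property hYi.2.1 y hy]
      constructor
      · rintro rfl; exact hfx
      · exact h5 x'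
    obtain ⟨V, X', j, fst, snd, hj, hdense, sq, hfin⟩ :=
      s10400 f hlft hYi.2.1 hX0 hY0 hpre (Or.inl hqc)
    haveI : Nonempty (Points Y.obj) := ⟨y⟩
    obtain ⟨-, ⟨v, -⟩⟩ := hdense.nonempty
    refine ⟨V, j, hj, ⟨v⟩, ?_⟩
    intro P fst' snd' sq'
    have hrep : RepWith @IsFinite fst.hom := (Groth.Agent.S10267.result fst).2.1 hfin
    apply (Groth.Agent.S10267.result fst').2.2
    have e := IsPullback.isoIsPullback_hom_fst _ _ sq' sq
    rw [← e]
    exact (MorphismProperty.cancel_left_of_respectsIso (RepWith (S := S) @IsFinite) _ _).2 hrep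

end Groth.Agent.Helper5.IntGen
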