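import Mathlib
import Groth.Agent.Helper5.IntGen1
import Groth.Agent.Helper5.EtDim3
import Groth.Agent.Helper5.DimFormula8
import Groth.Agent.Helper5.SpDimIneq
import Groth.Agent.Helper5.NoethChart

/-!
# Integral algebraic spaces: the dimension inequality (S10459)
-/

set_option autoImplicit false
set_option linter.style.haveILetI false
set_option linter.unusedVariables false
set_option linter.unusedSectionVars false
universe u

namespace Groth.Agent.Helper5.IntGen

open CategoryTheory CategoryTheory.Limits AlgebraicGeometry Opposite AlgSp TopologicalSpace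
open Groth.Agent.Helper4 Groth.Agent.Helper5.Codim0B Groth.Agent.Helper5.EtDim

variable {S : Scheme.{u}}

set_option backward.isDefEq.respectTransparency.types false in
theorem s10459 {X Y : AlgSp.Space S} (f : X ⟶ Y)
    (hY : AlgSp.IsLocNoethSp Y.obj) (hXi : AlgSp.IsIntegralSp X.obj) (hYi : AlgSp.IsIntegralSp Y.obj)
    (hd : AlgSp.IsDominantMor f.hom) (hft : AlgSp.LocP @LocallyOfFiniteType f.hom)
    (x : AlgSp.Points X.obj) (hx : IsGenericPoint x (Set.univ : Set (AlgSp.Points X.obj))) (r : ℕ)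
    (hr : AlgSp.HasAtMor (fun _ _ h u => Dual3.resTrdeg h u = (r : Cardinal.{u})) f.hom x) :
    AlgSp.dim X.obj ≤ AlgSp.dim Y.obj + ((r : ℕ∞) : WithBot ℕ∞) := by
  unfold AlgSp.dim
  refine iSup_le fun U => iSup_le fun a => iSup_le fun ha => ?_
  rw [topologicalKrullDim_eq_iSup_coheight]
  refine iSup_le fun u => ?_
  obtain ⟨U', V', a', b', h, u', ha', hb', hcomm, hu'⟩ :=
    Groth.Agent.Helper5.SrcEt.exists_chart_at X.property Y.property f.hom (Points.ofPt a u)
  have hco : Order.coheight u = Order.coheight u' :=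
    Groth.Agent.Helper5.HasAtChart.chart_indep
      (fun (W : Scheme.{u}) (w : ↥W) => Order.coheight w = Order.coheight u')
      (fun g _ w => by rw [coheight_eq_of_etale g w]) a' a ha' ha u' u hu' rfl
  haveI : IsLocallyNoetherian V'.left :=
    Groth.Agent.Helper5.NoethChart.isLocallyNoetherian_of_etale_chart hY b' hb'
  haveI : LocallyOfFiniteType h.left := hft a' b' h ha' hb' hcomm
  obtain ⟨ξ, A, C, hξcomp, hξu', hA, hC, hineq⟩ :=
    Groth.Agent.Helper5.DimFormula.scheme_dimension_inequality h.left u'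
  have hξ0 : HasAt (fun U u => ringKrullDim ↥(U.presheaf.stalk u) = 0) X.obj (Points.ofPt a' ξ) :=
    ⟨U', a', ξ, ha', rfl, Groth.Agent.Helper5.SpDimIneq.stalk_dim_zero_of_component ξ hξcomp⟩
  have hξx : Points.ofPt a' ξ = x := (hasAt0_iff_eq_generic X.property hXi.2.1 x hx _).1 hξ0
  have htr : Dual3.resTrdeg h.left ξ = (r : Cardinal.{u}) :=
    (Groth.Agent.Helper5.AtMor.hasAtMor_iff_chart _
      (Groth.Agent.Helper5.ResTr.elst_resTrdeg (r : Cardinal.{u})) f.hom a' b' h ha' hb' hcomm ξ).1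
      (hξx ▸ hr)
  have hAC : A ≤ C + r := by
    have h1 : (A : Cardinal.{u}) ≤ (C : Cardinal.{u}) + (r : Cardinal.{u}) := by
      refine le_trans (le_add_right le_rfl) (hineq.trans_eq ?_)
      congr 1
    exact_mod_cast h1
  rw [ringKrullDim_stalk_eq_coheight] at hA hC
  have hA' : ((Order.coheight u : ℕ∞) : WithBot ℕ∞) = (A : WithBot ℕ∞) := by
    rw [hco]; exact hA
  have hCle : ((C : ℕ) : WithBot ℕ∞) ≤ ⨆ (V : Over S) (b : (yon S).obj V ⟶ Y.obj)
      (_ : RepWith @Etale b), topologicalKrullDim ↥V.left := by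
    refine le_iSup_of_le V' (le_iSup_of_le b' (le_iSup_of_le hb' ?_))
    rw [topologicalKrullDim_eq_iSup_coheight, ← hC]
    exact le_iSup (fun w : ↥V'.left => ((Order.coheight w : ℕ∞) : WithBot ℕ∞)) (h.left u')
  rw [hA']
  have h2 : ((A : ℕ) : WithBot ℕ∞) ≤ ((C : ℕ) : WithBot ℕ∞) + ((r : ℕ∞) : WithBot ℕ∞) := by
    have e1 : ((A : ℕ) : WithBot ℕ∞) = (((A : ℕ) : ℕ∞) : WithBot ℕ∞) := rfl
    have e2 : ((C : ℕ) : WithBot ℕ∞) = (((C : ℕ) : ℕ∞) : WithBot ℕ∞) := rfl
    rw [e1, e2, ← WithBot.coe_add, WithBot.coe_le_coe]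
    exact_mod_cast hAC
  exact h2.trans (add_le_add_left hCle _)

end Groth.Agent.Helper5.IntGen
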