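import Mathlib
import Groth.Agent.Helper5.IntGen5
import Groth.Agent.Helper5.ProdDim
import Groth.Agent.Helper5.Decent4

/-!
# Integral algebraic spaces: the dimension formula for proper dominant morphisms (S10460)
-/

set_option autoImplicit false
set_option linter.style.haveILetI false
set_option linter.unusedVariables false
set_option linter.unusedSectionVars false
universe u

namespace Groth.Agent.Helper5.IntGen

open CategoryTheory CategoryTheory.Limits AlgebraicGeometry Opposite AlgSp TopologicalSpace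
open Groth.Agent.Helper4 Groth.Agent.Helper5.Codim0B Groth.Agent.Helper5.EtDim

variable {S : Scheme.{u}}

/-- codimension at least `n`, through a chart -/
theorem hasAtCoh_iff_chart (n : ℕ∞) {X : Sp S} {U : Over S} (a : (yon S).obj U ⟶ X)
    (ha : RepWith @Etale a) (u : ↥U.left) :
    HasAt (fun (W : Scheme.{u}) (w : ↥W) => n ≤ Order.coheight w) X (Points.ofPt a u) ↔
      n ≤ Order.coheight u :=
  Groth.Agent.Helper5.HasAtChart.hasAt_iff_chart
    (fun (W : Scheme.{u}) (w : ↥W) => n ≤ Order.coheight w)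
    (fun g _ w => by rw [coheight_eq_of_etale g w]) a ha u

theorem lt_of_specializes_ne {U : Scheme.{u}} {u₁ u₂ : ↥U} (h : u₁ ⤳ u₂) (hne : u₁ ≠ u₂) :
    u₂ < u₁ :=
  ⟨h, fun h' => hne (h.antisymm h').eq⟩

/-- a strict specialization raises the codimension -/
theorem hasAtCoh_succ_of_specializes {X : Sp S} (hX : IsAlgSpace X) (hd : IsDecent X)
    (x₁ x₂ : Points X) (h : x₁ ⤳ x₂) (hne : x₁ ≠ x₂) (n : ℕ∞)
    (h₁ : HasAt (fun (W : Scheme.{u}) (w : ↥W) => n ≤ Order.coheight w) X x₁) :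
    HasAt (fun (W : Scheme.{u}) (w : ↥W) => n + 1 ≤ Order.coheight w) X x₂ := by
  obtain ⟨U, a, u₂, ha, hu₂⟩ := Groth.Agent.Helper5.GeomRed.exists_chart_point hX x₂
  obtain ⟨p, hp, -, hpq⟩ := hd x₁
  obtain ⟨u₁, hu₁u₂, hu₁⟩ :=
    Groth.Agent.Helper5.Decent3.exists_generization_in_chart hX x₂ x₁ h p hp hpq a ha u₂ hu₂
  have hne' : u₁ ≠ u₂ := by
    rintro rfl
    exact hne (hu₁.symm.trans hu₂)
  have h2 : n ≤ Order.coheight u₁ := (hasAtCoh_iff_chart n a ha u₁).1 (hu₁ ▸ h₁)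
  have h3 : Order.coheight u₁ + 1 ≤ Order.coheight u₂ :=
    Order.coheight_add_one_le (lt_of_specializes_ne hu₁u₂ hne')
  exact ⟨U, a, u₂, ha, hu₂, (add_le_add_left h2 1).trans h3⟩

/-- a specialization does not lower the codimension -/
theorem hasAtCoh_of_specializes {X : Sp S} (hX : IsAlgSpace X) (hd : IsDecent X)
    (x₁ x₂ : Points X) (h : x₁ ⤳ x₂) (n : ℕ∞)
    (h₁ : HasAt (fun (W : Scheme.{u}) (w : ↥W) => n ≤ Order.coheight w) X x₁) :
    HasAt (fun (W : Scheme.{u}) (w : ↥W) => n ≤ Order.coheight w) X x₂ := by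
  obtain ⟨U, a, u₂, ha, hu₂⟩ := Groth.Agent.Helper5.GeomRed.exists_chart_point hX x₂
  obtain ⟨p, hp, -, hpq⟩ := hd x₁
  obtain ⟨u₁, hu₁u₂, hu₁⟩ :=
    Groth.Agent.Helper5.Decent3.exists_generization_in_chart hX x₂ x₁ h p hp hpq a ha u₂ hu₂
  have h2 : n ≤ Order.coheight u₁ := (hasAtCoh_iff_chart n a ha u₁).1 (hu₁ ▸ h₁)
  have h3 : Order.coheight u₁ ≤ Order.coheight u₂ := Order.coheight_anti hu₁u₂
  exact ⟨U, a, u₂, ha, hu₂, h2.trans h3⟩

/-- specializations lift along closed maps -/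
theorem exists_specialization_of_isClosedMap {A B : Type*} [TopologicalSpace A]
    [TopologicalSpace B] (φ : A → B) (hφ : IsClosedMap φ) (x : A) (y' : B) (h : φ x ⤳ y') :
    ∃ x' : A, x ⤳ x' ∧ φ x' = y' := by
  have hcl : IsClosed (φ '' closure {x}) := hφ _ isClosed_closure
  have hsub : closure {φ x} ⊆ φ '' closure {x} :=
    closure_minimal (Set.singleton_subset_iff.2 ⟨x, subset_closure rfl, rfl⟩) hcl
  obtain ⟨x', hx', rfl⟩ := hsub (specializes_iff_mem_closure.1 h)
  exact ⟨x', specializes_iff_mem_closure.2 hx', rfl⟩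

/-- a point of codimension at least `e + 1` has a proper generization of codimension at least
`e` -/
theorem exists_gt_of_le_coheight {U : Scheme.{u}} (v : ↥U) (e : ℕ)
    (h : ((e + 1 : ℕ) : ℕ∞) ≤ Order.coheight v) :
    ∃ v' : ↥U, v < v' ∧ (e : ℕ∞) ≤ Order.coheight v' := by
  by_contra H
  push_neg at H
  have h1 : Order.coheight v ≤ (e : ℕ∞) := by
    rw [Order.coheight_eq_iSup_gt_coheight]
    refine iSup_le fun v' => iSup_le fun hv' => ?_
    exact Order.add_one_le_of_lt (H v' hv')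
  have h2 : ((e + 1 : ℕ) : ℕ∞) ≤ (e : ℕ∞) := h.trans h1
  have h3 : e + 1 ≤ e := by exact_mod_cast h2
  omega

end Groth.Agent.Helper5.IntGen
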