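import Mathlib
import Groth.Agent.Helper5.IntGen6

/-!
# Integral algebraic spaces: the dimension formula for proper dominant morphisms (S10460)
-/

set_option autoImplicit false
set_option linter.style.haveILetI false
set_option linter.unusedVariables false
set_option linter.unusedSectionVars false
universe u

namespace Groth.Agent.Helper5.IntGen

open CategoryTheory CategoryTheory.Limits AlgebraicGeometry Opposite AlgSp TopologicalSpace
open Groth.Agent.Helper4 Groth.Agent.Helper5.Codim0B Groth.Agent.Helper5.EtDim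

variable {S : Scheme.{u}}

theorem fiberι_strictMono {U V : Scheme.{u}} (h : U ⟶ V) (v : ↥V) :
    StrictMono (fun w : ↥(h.fiber v) => h.fiberι v w) := by
  intro w w' hww'
  obtain ⟨h1, h2⟩ := hww'
  refine ⟨?_, fun h3 => h2 ?_⟩
  · exact (Groth.Agent.Helper5.CodimQf.fiber_specializes_iff h v w w').1 h1
  · exact (Groth.Agent.Helper5.CodimQf.fiber_specializes_iff h v w' w).2 h3

/-- a scheme of dimension at least `r` has a point of codimension at least `r` -/
theorem exists_coheight_ge (F : Scheme.{u}) [Nonempty ↥F] (r : ℕ)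
    (h : ((r : ℕ) : WithBot ℕ∞) ≤ topologicalKrullDim ↥F) :
    ∃ w : ↥F, (r : ℕ∞) ≤ Order.coheight w := by
  rcases Nat.eq_zero_or_pos r with rfl | hr
  · exact ⟨Classical.arbitrary _, by simp⟩
  · by_contra H
    push Not at H
    rw [topologicalKrullDim_eq_iSup_coheight] at h
    have h1 : (⨆ w : ↥F, ((Order.coheight w : ℕ∞) : WithBot ℕ∞)) ≤ ((r - 1 : ℕ) : WithBot ℕ∞) := by
      refine iSup_le fun w => ?_
      have hw := H w
      have e2 : (((r - 1 : ℕ) : ℕ) : WithBot ℕ∞) = (((r - 1 : ℕ) : ℕ∞) : WithBot ℕ∞) := rfl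
      rw [e2, WithBot.coe_le_coe]
      cases hc : Order.coheight w with
      | top => rw [hc] at hw; exact absurd hw (by simp)
      | coe m =>
        rw [hc] at hw
        have : m < r := by exact_mod_cast hw
        have : m ≤ r - 1 := by omega
        exact_mod_cast this
    have h2 := h.trans h1
    have e1 : ((r : ℕ) : WithBot ℕ∞) = (((r : ℕ) : ℕ∞) : WithBot ℕ∞) := rfl
    have e2 : (((r - 1 : ℕ) : ℕ) : WithBot ℕ∞) = (((r - 1 : ℕ) : ℕ∞) : WithBot ℕ∞) := rfl
    rw [e1, e2, WithBot.coe_le_coe] at h2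
    have : r ≤ r - 1 := by exact_mod_cast h2
    omega

set_option backward.isDefEq.respectTransparency.types false in
/-- the generic fibre contains a point of codimension at least `r` -/
theorem exists_point_over_generic {X Y : AlgSp.Space S} (f : X ⟶ Y)
    (hXi : AlgSp.IsIntegralSp X.obj) (hYi : AlgSp.IsIntegralSp Y.obj)
    (hd : AlgSp.IsDominantMor f.hom) (hft : AlgSp.LocP @LocallyOfFiniteType f.hom)
    (x : AlgSp.Points X.obj) (hx : IsGenericPoint x (Set.univ : Set (AlgSp.Points X.obj)))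
    (y : AlgSp.Points Y.obj) (hy : IsGenericPoint y (Set.univ : Set (AlgSp.Points Y.obj))) (r : ℕ)
    (hr : AlgSp.HasAtMor (fun _ _ h u => Dual3.resTrdeg h u = (r : Cardinal.{u})) f.hom x) :
    ∃ x' : Points X.obj, Points.map f.hom x' = y ∧
      HasAt (fun (W : Scheme.{u}) (w : ↥W) => (r : ℕ∞) ≤ Order.coheight w) X.obj x' := by
  have hfx : Points.map f.hom x = y :=
    map_generic_of_dominant Y.property hYi.2.1 f.hom hd x hx y hy
  obtain ⟨U, V, a, b, h, u₀, hae, hbe, comm, hu₀, htr⟩ := hr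
  have hx0 : HasAt (fun U u => ringKrullDim ↥(U.presheaf.stalk u) = 0) X.obj x :=
    (hasAt0_iff_eq_generic X.property hXi.2.1 x hx x).2 rfl
  rw [← hu₀, Groth.Agent.Helper5.FinNbhd.hasAt0_iff_isMaxPt a hae u₀] at hx0
  haveI hlft : LocallyOfFiniteType h.left := hft a b h hae hbe comm
  obtain ⟨k, n, hk1, -, hn, hfd⟩ := Groth.Agent.Helper5.SubDim.fibreDimAt_eq h.left u₀
  have hmax : IsMaxPt (h.left.asFiber u₀) := by
    intro w hw
    have h1 : h.left.fiberι (h.left u₀) w ⤳ h.left.fiberι (h.left u₀) (h.left.asFiber u₀) :=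
      (Groth.Agent.Helper5.CodimQf.fiber_specializes_iff h.left (h.left u₀) _ _).1 hw
    rw [h.left.fiberι_asFiber] at h1
    have h2 := hx0 _ h1
    apply (h.left.fiberι (h.left u₀)).isEmbedding.injective
    rw [h2, h.left.fiberι_asFiber]
  have hk0 : k = 0 := by
    have h0 := (stalk_dim_zero_iff _ _).2 hmax
    rw [hk1] at h0
    exact_mod_cast h0
  have hnr : n = r := by
    have h0 : (n : Cardinal.{u}) = (r : Cardinal.{u}) := by
      rw [← hn]; exact htr
    exact_mod_cast h0
  rw [hk0, hnr, zero_add] at hfd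
  haveI : Nonempty ↥(h.left.fiber (h.left u₀)) := ⟨h.left.asFiber u₀⟩
  have hdimF : ((r : ℕ) : WithBot ℕ∞) ≤ topologicalKrullDim ↥(h.left.fiber (h.left u₀)) := by
    rw [← hfd]
    exact Groth.Agent.Helper5.OverField.localDim_le_dim _ _
  obtain ⟨w, hw⟩ := exists_coheight_ge _ r hdimF
  have hcoh : (r : ℕ∞) ≤ Order.coheight (h.left.fiberι (h.left u₀) w) :=
    hw.trans (Order.coheight_le_coheight_apply_of_strictMono _
      (fiberι_strictMono h.left (h.left u₀)) w)
  have hhw : h.left (h.left.fiberι (h.left u₀) w) = h.left u₀ := by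
    have : h.left.fiberι (h.left u₀) w ∈ Set.range (h.left.fiberι (h.left u₀)) := ⟨w, rfl⟩
    rw [h.left.range_fiberι] at this
    exact this
  refine ⟨Points.ofPt a (h.left.fiberι (h.left u₀) w), ?_, ⟨U, a, _, hae, rfl, hcoh⟩⟩
  rw [Points.map_ofPt, comm, AlgSpPtsDesc.ofPt_yon_map_comp, hhw, ← AlgSpPtsDesc.ofPt_yon_map_comp,
    ← comm, ← Points.map_ofPt, hu₀, hfx]

set_option backward.isDefEq.respectTransparency.types false in
/-- over a point of codimension at least `e` there is a point of codimension at least `e + r` -/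
theorem exists_point_over {X Y : AlgSp.Space S} (f : X ⟶ Y)
    (hY : AlgSp.IsLocNoethSp Y.obj) (hXi : AlgSp.IsIntegralSp X.obj)
    (hcl : IsClosedMap (Points.map f.hom))
    (y : AlgSp.Points Y.obj) (hy : IsGenericPoint y (Set.univ : Set (AlgSp.Points Y.obj))) (r : ℕ)
    (hbase : ∃ x' : Points X.obj, Points.map f.hom x' = y ∧
      HasAt (fun (W : Scheme.{u}) (w : ↥W) => (r : ℕ∞) ≤ Order.coheight w) X.obj x') (e : ℕ) :
    ∀ y' : Points Y.obj,
      HasAt (fun (W : Scheme.{u}) (w : ↥W) => (e : ℕ∞) ≤ Order.coheight w) Y.obj y' →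
      ∃ x' : Points X.obj, Points.map f.hom x' = y' ∧
        HasAt (fun (W : Scheme.{u}) (w : ↥W) => ((e + r : ℕ) : ℕ∞) ≤ Order.coheight w) X.obj x' := by
  induction e with
  | zero =>
    intro y' _
    obtain ⟨x₀, hx₀, hc₀⟩ := hbase
    have hsp : Points.map f.hom x₀ ⤳ y' := by
      rw [hx₀]; exact hy.specializes (Set.mem_univ _)
    obtain ⟨x', hx₀x', hx'⟩ := exists_specialization_of_isClosedMap _ hcl x₀ y' hsp
    refine ⟨x', hx', ?_⟩
    rw [Nat.zero_add]
    exact hasAtCoh_of_specializes X.property hXi.2.1 x₀ x' hx₀x' _ hc₀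
  | succ e ih =>
    rintro y' ⟨V, b, v, hb, hv, hcoh⟩
    obtain ⟨v', hvv', hcoh'⟩ := exists_gt_of_le_coheight v e hcoh
    have hsp : v' ⤳ v := hvv'.1
    have hne : v ≠ v' := fun h => (lt_irrefl v) (h ▸ hvv')
    have hy'' : Points.ofPt b v' ⤳ y' := by
      rw [← hv]; exact hsp.map (Points.continuous_ofPt b)
    have hne'' : Points.ofPt b v' ≠ y' := by
      intro h
      rw [← hv] at h
      exact hne (Groth.Agent.Helper5.Decent4.eq_of_specializes_of_isLocNoethSp hY b hb v v' h.symm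
        hsp)
    obtain ⟨x'', hx'', hc''⟩ := ih (Points.ofPt b v') ⟨V, b, v', hb, rfl, hcoh'⟩
    have hsp' : Points.map f.hom x'' ⤳ y' := by rw [hx'']; exact hy''
    obtain ⟨x', hx''x', hx'⟩ := exists_specialization_of_isClosedMap _ hcl x'' y' hsp'
    have hnex : x'' ≠ x' := by
      rintro rfl
      exact hne'' (hx''.symm.trans hx')
    refine ⟨x', hx', ?_⟩
    obtain ⟨U, a, u, ha, hu, hc⟩ :=
      hasAtCoh_succ_of_specializes X.property hXi.2.1 x'' x' hx''x' hnex _ hc''
    refine ⟨U, a, u, ha, hu, ?_⟩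
    have e1 : ((e + 1 + r : ℕ) : ℕ∞) = ((e + r : ℕ) : ℕ∞) + 1 := by
      push_cast; ring
    rw [e1]
    exact hc

end Groth.Agent.Helper5.IntGen
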