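import Mathlib
import Groth.Agent.Helper5.IntGen7

/-!
# Integral algebraic spaces: the dimension formula for proper dominant morphisms (S10460)
-/

set_option autoImplicit false
set_option linter.style.haveILetI false
set_option linter.unusedVariables false
set_option linter.unusedSectionVars false
universe u

namespace Groth.Agent.Helper5.IntGen

open CategoryTheory CategoryTheory.Limits AlgebraicGeometry Opposite AlgSp TopologicalSpace
open Groth.Agent.Helper4 Groth.Agent.Helper5.Codim0B Groth.Agent.Helper5.EtDim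

variable {S : Scheme.{u}}

theorem add_le_of_forall_nat {a b : WithBot ℕ∞} (r : ℕ)
    (h : ∀ n : ℕ, ((n : ℕ) : WithBot ℕ∞) ≤ a → ((n + r : ℕ) : WithBot ℕ∞) ≤ b) :
    a + ((r : ℕ∞) : WithBot ℕ∞) ≤ b := by
  induction a using WithBot.recBotCoe with
  | bot => rw [WithBot.bot_add]; exact bot_le
  | coe a' =>
    cases a' with
    | top =>
      have hb : b = ((⊤ : ℕ∞) : WithBot ℕ∞) := by
        induction b using WithBot.recBotCoe with
        | bot =>
          have := h 0 (by
            have e : ((0 : ℕ) : WithBot ℕ∞) = (((0 : ℕ) : ℕ∞) : WithBot ℕ∞) := rfl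
            rw [e, WithBot.coe_le_coe]; exact le_top)
          have e : ((0 + r : ℕ) : WithBot ℕ∞) = (((0 + r : ℕ) : ℕ∞) : WithBot ℕ∞) := rfl
          rw [e] at this
          exact absurd this (by simp)
        | coe b' =>
          congr 1
          rw [ENat.eq_top_iff_forall_ge]
          intro m
          have := h m (by
            have e : ((m : ℕ) : WithBot ℕ∞) = (((m : ℕ) : ℕ∞) : WithBot ℕ∞) := rfl
            rw [e, WithBot.coe_le_coe]; exact le_top)
          have e : ((m + r : ℕ) : WithBot ℕ∞) = (((m + r : ℕ) : ℕ∞) : WithBot ℕ∞) := rfl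
          rw [e, WithBot.coe_le_coe] at this
          refine le_trans ?_ this
          exact_mod_cast Nat.le_add_right m r
      rw [hb]
      exact le_top
    | coe m =>
      have := h m le_rfl
      refine le_trans (le_of_eq ?_) this
      have e : ((m + r : ℕ) : WithBot ℕ∞) = (((m + r : ℕ) : ℕ∞) : WithBot ℕ∞) := rfl
      rw [e, ← WithBot.coe_add]
      congr 1

set_option backward.isDefEq.respectTransparency.types false in
/-- a nonempty space of dimension at least `n` has a point of codimension at least `n` -/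
theorem exists_hasAtCoh_of_le_dim (Y : AlgSp.Space S) (y₀ : Points Y.obj) (n : ℕ)
    (h : ((n : ℕ) : WithBot ℕ∞) ≤ AlgSp.dim Y.obj) :
    ∃ y' : Points Y.obj,
      HasAt (fun (W : Scheme.{u}) (w : ↥W) => (n : ℕ∞) ≤ Order.coheight w) Y.obj y' := by
  rcases Nat.eq_zero_or_pos n with rfl | hn
  · obtain ⟨V, b, v, hb, hv⟩ := Groth.Agent.Helper5.GeomRed.exists_chart_point Y.property y₀
    exact ⟨y₀, V, b, v, hb, hv, by simp⟩
  · by_contra H
    push Not at H
    have h1 : AlgSp.dim Y.obj ≤ ((n - 1 : ℕ) : WithBot ℕ∞) := by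
      unfold AlgSp.dim
      refine iSup_le fun V => iSup_le fun b => iSup_le fun hb => ?_
      rw [topologicalKrullDim_eq_iSup_coheight]
      refine iSup_le fun v => ?_
      have hv : ¬ (n : ℕ∞) ≤ Order.coheight v := fun hc => H (Points.ofPt b v) ⟨V, b, v, hb, rfl, hc⟩
      rw [not_le] at hv
      have e2 : (((n - 1 : ℕ) : ℕ) : WithBot ℕ∞) = (((n - 1 : ℕ) : ℕ∞) : WithBot ℕ∞) := rfl
      rw [e2, WithBot.coe_le_coe]
      cases hc : Order.coheight v with
      | top => rw [hc] at hv; exact absurd hv (by simp)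
      | coe m =>
        rw [hc] at hv
        have : m < n := by exact_mod_cast hv
        have : m ≤ n - 1 := by omega
        exact_mod_cast this
    have h2 := h.trans h1
    have e1 : ((n : ℕ) : WithBot ℕ∞) = (((n : ℕ) : ℕ∞) : WithBot ℕ∞) := rfl
    have e2 : (((n - 1 : ℕ) : ℕ) : WithBot ℕ∞) = (((n - 1 : ℕ) : ℕ∞) : WithBot ℕ∞) := rfl
    rw [e1, e2, WithBot.coe_le_coe] at h2
    have : n ≤ n - 1 := by exact_mod_cast h2
    omega

set_option backward.isDefEq.respectTransparency.types false in
theorem s10460 {X Y : AlgSp.Space S} (f : X ⟶ Y)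
    (hY : AlgSp.IsLocNoethSp Y.obj) (hXi : AlgSp.IsIntegralSp X.obj) (hYi : AlgSp.IsIntegralSp Y.obj)
    (hd : AlgSp.IsDominantMor f.hom) (hp : AlgSp.IsProperMor f.hom)
    (x : AlgSp.Points X.obj) (hx : IsGenericPoint x (Set.univ : Set (AlgSp.Points X.obj))) (r : ℕ)
    (hr : AlgSp.HasAtMor (fun _ _ h u => Dual3.resTrdeg h u = (r : Cardinal.{u})) f.hom x) :
    AlgSp.dim X.obj = AlgSp.dim Y.obj + ((r : ℕ∞) : WithBot ℕ∞) := by
  obtain ⟨hsep, ⟨hlft, hqc⟩, huc⟩ := hp
  apply le_antisymm (s10459 f hY hXi hYi hd hlft x hx r hr)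
  -- the generic point of `Y`
  have hfxgen : IsGenericPoint (Points.map f.hom x) (Set.univ : Set (Points Y.obj)) := by
    show closure {Points.map f.hom x} = Set.univ
    have hsub : Set.range (Points.map f.hom) ⊆ closure {Points.map f.hom x} := by
      rintro _ ⟨x'', rfl⟩
      have hsp : x ⤳ x'' := hx.specializes (Set.mem_univ _)
      exact specializes_iff_mem_closure.1 (hsp.map (Points.continuous_map f.hom))
    have h2 : closure (Set.range (Points.map f.hom)) ⊆ closure {Points.map f.hom x} :=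
      closure_minimal hsub isClosed_closure
    rw [hd.closure_range] at h2
    exact Set.eq_univ_of_univ_subset h2
  have hcl : IsClosedMap (Points.map f.hom) :=
    huc Y.property (𝟙 Y.obj) (𝟙 X.obj) f.hom (IsPullback.of_horiz_isIso ⟨by simp⟩)
  have hbase := exists_point_over_generic f hXi hYi hd hlft x hx _ hfxgen r hr
  apply add_le_of_forall_nat
  intro n hn
  obtain ⟨y', hy'⟩ := exists_hasAtCoh_of_le_dim Y (Points.map f.hom x) n hn
  obtain ⟨x', -, U, a, u, ha, -, hc⟩ :=
    exists_point_over f hY hXi hcl _ hfxgen r hbase n y' hy'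
  unfold AlgSp.dim
  refine le_iSup_of_le U (le_iSup_of_le a (le_iSup_of_le ha ?_))
  rw [topologicalKrullDim_eq_iSup_coheight]
  refine le_trans ?_ (le_iSup (fun w : ↥U.left => ((Order.coheight w : ℕ∞) : WithBot ℕ∞)) u)
  have e : ((n + r : ℕ) : WithBot ℕ∞) = (((n + r : ℕ) : ℕ∞) : WithBot ℕ∞) := rfl
  rw [e, WithBot.coe_le_coe]
  exact hc

end Groth.Agent.Helper5.IntGen
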