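import Mathlib

set_option autoImplicit false
set_option linter.style.haveILetI false
set_option linter.unusedSectionVars false
set_option linter.unusedVariables false
universe u
open Polynomial

namespace Groth.Agent.Helper5.IntIndep

/-- a constructible subset of the spectrum of a domain containing the generic point contains a
nonempty basic open -/
theorem exists_basicOpen_subset_of_isConstructible {R : Type u} [CommRing R] [IsDomain R]
    (s : Set (PrimeSpectrum R)) (hs : Topology.IsConstructible s)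
    (h0 : (⟨⊥, Ideal.bot_prime⟩ : PrimeSpectrum R) ∈ s) :
    ∃ h : R, h ≠ 0 ∧ ∀ p : PrimeSpectrum R, h ∉ p.asIdeal → p ∈ s := by
  obtain ⟨S, rfl⟩ := PrimeSpectrum.exists_constructibleSetData_iff.mpr hs
  simp only [PrimeSpectrum.ConstructibleSetData.toSet, Set.mem_iUnion] at h0
  obtain ⟨C, hC, hmem⟩ := h0
  simp only [PrimeSpectrum.BasicConstructibleSetData.toSet, Set.mem_diff,
    PrimeSpectrum.mem_zeroLocus, Set.singleton_subset_iff, SetLike.mem_coe] at hmem
  obtain ⟨hg, hf⟩ := hmem
  have hg0 : ∀ i, C.g i = 0 := fun i => by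
    have := hg ⟨i, rfl⟩
    simpa using this
  refine ⟨C.f, fun h => hf (by rw [h]; exact Ideal.zero_mem _), fun p hp => ?_⟩
  simp only [PrimeSpectrum.ConstructibleSetData.toSet, Set.mem_iUnion]
  refine ⟨C, hC, ?_⟩
  simp only [PrimeSpectrum.BasicConstructibleSetData.toSet, Set.mem_diff,
    PrimeSpectrum.mem_zeroLocus, Set.singleton_subset_iff, SetLike.mem_coe]
  refine ⟨?_, hp⟩
  rintro _ ⟨i, rfl⟩
  rw [hg0 i]
  exact Ideal.zero_mem _

/-- an element `y` of a finitely generated algebra over a field all of whose elements `y ^ n - 1`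
are zero or invertible is algebraic over the field -/
theorem exists_eval₂_eq_zero_of_pow_sub_one {k A : Type u} [Field k] [CommRing A] [Nontrivial A]
    (ψ : k →+* A) (hft : ψ.FiniteType) (y : A)
    (hy : ∀ n : ℕ, 1 ≤ n → y ^ n - 1 = 0 ∨ IsUnit (y ^ n - 1)) :
    ∃ P : k[X], P ≠ 0 ∧ P.eval₂ ψ y = 0 := by
  by_contra hcon
  push_neg at hcon
  let f : k[X] →+* A := eval₂RingHom ψ y
  have hinj : Function.Injective f := by
    rw [injective_iff_map_eq_zero]
    intro P hP
    by_contra hne
    exact hcon P hne hP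
  have hcomp : f.comp C = ψ := by ext a; simp [f]
  have hfft : f.FiniteType :=
    RingHom.FiniteType.of_comp_finiteType (f := (C : k →+* k[X])) (by rw [hcomp]; exact hft)
  have hfp : f.FinitePresentation := RingHom.FinitePresentation.of_finiteType.1 hfft
  have hcons := PrimeSpectrum.isConstructible_range_comap hfp
  have h0 : (⟨⊥, Ideal.bot_prime⟩ : PrimeSpectrum k[X]) ∈ Set.range (PrimeSpectrum.comap f) := by
    obtain ⟨p', hp', hpe⟩ := Ideal.exists_comap_eq_of_mem_minimalPrimes_of_injective hinj ⊥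
      (by rw [IsDomain.minimalPrimes_eq_singleton_bot]; rfl)
    exact ⟨⟨p', hp'⟩, PrimeSpectrum.ext hpe⟩
  obtain ⟨h, hh0, hh⟩ := exists_basicOpen_subset_of_isConstructible _ hcons h0
  obtain ⟨n, hn1, hnk, hnd⟩ : ∃ n : ℕ, 1 ≤ n ∧ (n : k) ≠ 0 ∧ h.natDegree < n := by
    by_cases hp : ringChar k = 0
    · haveI : CharZero k := (CharP.ringChar_zero_iff_CharZero k).1 hp
      exact ⟨h.natDegree + 1, by omega, Nat.cast_ne_zero.2 (by omega), by omega⟩
    · refine ⟨ringChar k * (h.natDegree + 1) + 1, by omega, ?_, ?_⟩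
      · push_cast
        rw [ringChar.Nat.cast_ringChar, zero_mul, zero_add]
        exact one_ne_zero
      · have : 1 ≤ ringChar k := Nat.pos_of_ne_zero hp
        nlinarith
  let g : k[X] := X ^ n - C 1
  have hgsep : g.Separable := separable_X_pow_sub_C 1 hnk one_ne_zero
  have hfg : f g = y ^ n - 1 := by simp [f, g]
  have hgne : y ^ n - 1 ≠ 0 := by
    intro h1
    have hg0 : g ≠ 0 := hgsep.ne_zero
    exact hcon g hg0 (by rw [← hfg] at h1; exact h1)
  have hunit : IsUnit (y ^ n - 1) := (hy n hn1).resolve_left hgne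
  have hVg : ∀ p : PrimeSpectrum k[X], g ∈ p.asIdeal → h ∈ p.asIdeal := by
    intro p hgp
    by_contra hhp
    obtain ⟨q, hq⟩ := hh p hhp
    have h2 : f g ∈ q.asIdeal := by
      have : g ∈ (PrimeSpectrum.comap f q).asIdeal := by rw [hq]; exact hgp
      exact this
    rw [hfg] at h2
    exact q.2.ne_top (Ideal.eq_top_of_isUnit_mem _ h2 hunit)
  have hrad : h ∈ (Ideal.span {g}).radical := by
    rw [Ideal.radical_eq_sInf, Ideal.mem_sInf]
    rintro J ⟨hJ, hJp⟩
    exact hVg ⟨J, hJp⟩ (hJ (Ideal.subset_span rfl))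
  have hgrad : (Ideal.span {g}).IsRadical := by
    rw [← isRadical_iff_span_singleton]
    exact hgsep.squarefree.isRadical
  have hdvd : g ∣ h := by
    rw [← Ideal.mem_span_singleton]
    exact hgrad hrad
  have hdeg : g.natDegree ≤ h.natDegree := natDegree_le_of_dvd hdvd hh0
  have : g.natDegree = n := natDegree_X_pow_sub_C
  omega

end Groth.Agent.Helper5.IntIndep
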