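import Mathlib
import Groth.Agent.Helper5.IntIndep1

set_option autoImplicit false
set_option linter.style.haveILetI false
set_option linter.unusedSectionVars false
set_option linter.unusedVariables false
universe u
open Polynomial CategoryTheory AlgebraicGeometry Opposite

namespace Groth.Agent.Helper5.IntIndep

variable {X : Scheme.{u}}

/-- at every point one of two global functions with sum one is invertible -/
theorem basicOpen_sup_eq_top (e e' : Γ(X, ⊤)) (h : e + e' = 1) :
    X.basicOpen e ⊔ X.basicOpen e' = ⊤ := by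
  rw [eq_top_iff]
  intro z _
  have h1 : X.presheaf.germ ⊤ z trivial e + X.presheaf.germ ⊤ z trivial e' = 1 := by
    rw [← map_add, h, map_one]
  rcases IsLocalRing.isUnit_or_isUnit_of_add_one h1 with hu | hu
  · exact Or.inl ((X.mem_basicOpen_top e z).2 hu)
  · exact Or.inr ((X.mem_basicOpen_top e' z).2 hu)

/-- a connected reduced scheme has only the trivial idempotent global functions -/
theorem eq_zero_or_eq_one_of_idem [IsReduced X] [PreconnectedSpace X] (e : Γ(X, ⊤))
    (he : e * e = e) : e = 0 ∨ e = 1 := by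
  have h1 : X.basicOpen e ⊔ X.basicOpen (1 - e) = ⊤ := basicOpen_sup_eq_top e (1 - e) (by ring)
  have h2 : X.basicOpen e ⊓ X.basicOpen (1 - e) = ⊥ := by
    rw [← Scheme.basicOpen_mul]
    have : e * (1 - e) = 0 := by rw [mul_sub, mul_one, he, sub_self]
    rw [this, Scheme.basicOpen_zero]
  by_contra hcon
  push_neg at hcon
  obtain ⟨hne0, hne1⟩ := hcon
  have hU : (X.basicOpen e : Set X).Nonempty := by
    rw [Set.nonempty_iff_ne_empty]
    intro h
    apply hne0
    rw [← AlgebraicGeometry.basicOpen_eq_bot_iff]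
    exact TopologicalSpace.Opens.ext h
  have hV : (X.basicOpen (1 - e) : Set X).Nonempty := by
    rw [Set.nonempty_iff_ne_empty]
    intro h
    apply hne1
    have : (1 - e) = 0 := by
      rw [← AlgebraicGeometry.basicOpen_eq_bot_iff]
      exact TopologicalSpace.Opens.ext h
    exact (sub_eq_zero.1 this).symm
  have hpre := isPreconnected_univ (α := X)
  have hcov : (Set.univ : Set X) ⊆ (X.basicOpen e : Set X) ∪ (X.basicOpen (1 - e) : Set X) := by
    intro z _
    have : z ∈ X.basicOpen e ⊔ X.basicOpen (1 - e) := by rw [h1]; trivial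
    exact this
  obtain ⟨z, -, hz1, hz2⟩ := hpre _ _ (X.basicOpen e).2 (X.basicOpen (1 - e)).2 hcov
    (by rwa [Set.univ_inter]) (by rwa [Set.univ_inter])
  have : z ∈ X.basicOpen e ⊓ X.basicOpen (1 - e) := ⟨hz1, hz2⟩
  rw [h2] at this
  exact this

/-- on a connected reduced scheme a global function integral over a field is zero or invertible -/
theorem eq_zero_or_isUnit_of_isIntegralElem [IsReduced X] [PreconnectedSpace X] {k : Type u}
    [Field k] (φ : k →+* Γ(X, ⊤)) (w : Γ(X, ⊤)) (hw : φ.IsIntegralElem w) :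
    w = 0 ∨ IsUnit w := by
  obtain ⟨P₀, hP₀m, hP₀⟩ := hw
  -- make the polynomial divisible by `X`
  let P : k[X] := Polynomial.X * P₀
  have hP0 : P ≠ 0 := mul_ne_zero Polynomial.X_ne_zero hP₀m.ne_zero
  have hPw : P.eval₂ φ w = 0 := by
    simp only [P, eval₂_mul, hP₀, mul_zero]
  obtain ⟨Q, hQ, hQn⟩ := Polynomial.exists_eq_pow_rootMultiplicity_mul_and_not_dvd P hP0 0
  set m := P.rootMultiplicity 0 with hm
  have hm1 : 1 ≤ m := by
    rw [hm, Nat.one_le_iff_ne_zero, ← Nat.pos_iff_ne_zero, Polynomial.rootMultiplicity_pos hP0]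
    simp [P]
  rw [Polynomial.C_0, sub_zero] at hQ hQn
  have hcop : IsCoprime (Polynomial.X ^ m : k[X]) Q :=
    IsCoprime.pow_left ((Polynomial.irreducible_X.coprime_iff_not_dvd).2 hQn)
  obtain ⟨u, v, huv⟩ := hcop
  have h1 : u.eval₂ φ w * w ^ m + v.eval₂ φ w * Q.eval₂ φ w = 1 := by
    have := congrArg (Polynomial.eval₂ φ w) huv
    simpa only [eval₂_add, eval₂_mul, eval₂_pow, eval₂_X, eval₂_one] using this
  have h2 : w ^ m * Q.eval₂ φ w = 0 := by
    have := congrArg (Polynomial.eval₂ φ w) hQ
    rw [hPw] at this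
    simpa only [eval₂_mul, eval₂_pow, eval₂_X] using this.symm
  set a := u.eval₂ φ w
  set b := v.eval₂ φ w
  set c := Q.eval₂ φ w
  have he : (b * c) * (b * c) = b * c := by
    have : b * c = 1 - a * w ^ m := by rw [← h1]; ring
    calc (b * c) * (b * c) = (b * c) * (1 - a * w ^ m) := by rw [← this]
      _ = b * c - a * b * (w ^ m * c) := by ring
      _ = b * c := by rw [h2, mul_zero, sub_zero]
  rcases eq_zero_or_eq_one_of_idem (b * c) he with h0 | h0
  · right
    rw [h0, add_zero] at h1
    have : IsUnit (w ^ m) := IsUnit.of_mul_eq_one_right _ h1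
    exact (isUnit_pow_iff (by omega)).1 this
  · left
    have hc : IsUnit c := IsUnit.of_mul_eq_one_right _ h0
    have : w ^ m = 0 := by
      have h3 := hc.mul_left_eq_zero.1 h2
      exact h3
    exact IsReduced.eq_zero _ ⟨m, this⟩

end Groth.Agent.Helper5.IntIndep
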