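import Mathlib
import Groth.Agent.Helper5.IntIndep2

set_option autoImplicit false
set_option linter.style.haveILetI false
set_option linter.unusedSectionVars false
set_option linter.unusedVariables false
universe u
open Polynomial CategoryTheory AlgebraicGeometry Opposite

namespace Groth.Agent.Helper5.IntIndep

variable {X : Scheme.{u}}

/-- restriction of global functions to an open -/
noncomputable def res (U : X.Opens) : Γ(X, ⊤) →+* Γ(X, U) :=
  (X.presheaf.map (homOfLE (le_top : U ≤ ⊤)).op).hom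

theorem basicOpen_res' (U : X.Opens) (f : Γ(X, ⊤)) :
    X.basicOpen (res U f) = U ⊓ X.basicOpen f :=
  Scheme.basicOpen_res X f (homOfLE (le_top : U ≤ ⊤)).op

variable {k : Type u} [Field k] (φ : k →+* Γ(X, ⊤)) (x : Γ(X, ⊤))

theorem res_eval₂ (U : X.Opens) (P : k[X]) :
    res U (P.eval₂ φ x) = P.eval₂ ((res U).comp φ) (res U x) :=
  Polynomial.hom_eval₂ P φ (res U) x

/-- the nonvanishing locus of `P(x)` -/
noncomputable def D (P : k[X]) : X.Opens := X.basicOpen (P.eval₂ φ x)

theorem D_mul (P Q : k[X]) : D φ x (P * Q) = D φ x P ⊓ D φ x Q := by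
  unfold D
  rw [eval₂_mul, Scheme.basicOpen_mul]

theorem D_of_isUnit (P : k[X]) (hP : IsUnit P) : D φ x P = ⊤ := by
  unfold D
  exact Scheme.basicOpen_of_isUnit X (hP.map (eval₂RingHom φ x))

theorem inf_D_eq_bot (U : X.Opens) (P : k[X]) (hP : P.eval₂ ((res U).comp φ) (res U x) = 0) :
    U ⊓ D φ x P = ⊥ := by
  unfold D
  rw [← basicOpen_res', res_eval₂, hP, Scheme.basicOpen_zero]

theorem inf_D_eq (U : X.Opens) (P : k[X]) :
    U ⊓ D φ x P = X.basicOpen (P.eval₂ ((res U).comp φ) (res U x)) := by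
  unfold D
  rw [← basicOpen_res', res_eval₂]

/-- a point outside the nonvanishing locus of `Q(x)` lies outside that of a prime factor -/
theorem exists_prime_not_mem_D (z₀ : X) (Q : k[X]) :
    Q ≠ 0 → z₀ ∉ D φ x Q → ∃ p : k[X], Prime p ∧ z₀ ∉ D φ x p := by
  induction Q using UniqueFactorizationMonoid.induction_on_prime with
  | h₁ => intro h; exact absurd rfl h
  | h₂ u hu =>
    intro _ hz
    rw [D_of_isUnit φ x u hu] at hz
    exact absurd trivial hz
  | h₃ a p ha hp ih =>
    intro _ hz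
    rw [D_mul] at hz
    by_cases hzp : z₀ ∈ D φ x p
    · exact ih ha (fun hza => hz ⟨hzp, hza⟩)
    · exact ⟨p, hp, hzp⟩

variable [IsReduced X] [ConnectedSpace X]

/-- a global function on a connected reduced scheme which is algebraic over `k` on every affine
open is integral over `k` -/
theorem isIntegralElem_of_locally
    (hloc : ∀ U : X.Opens, IsAffineOpen U →
      ∃ P : k[X], P ≠ 0 ∧ P.eval₂ ((res U).comp φ) (res U x) = 0) :
    φ.IsIntegralElem x := by
  have hex : ∀ z : X, ∃ U : X.Opens, IsAffineOpen U ∧ z ∈ U := by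
    intro z
    obtain ⟨_, ⟨U, hU, rfl⟩, hz, -⟩ :=
      X.isBasis_affineOpens.exists_subset_of_mem_open (Set.mem_univ z) isOpen_univ
    exact ⟨U, hU, hz⟩
  obtain ⟨z₀⟩ : Nonempty X := inferInstance
  obtain ⟨U₀, hU₀, hz₀⟩ := hex z₀
  obtain ⟨P₀, hP₀, hP₀x⟩ := hloc U₀ hU₀
  have hz₀D : z₀ ∉ D φ x P₀ := by
    intro h
    have : z₀ ∈ U₀ ⊓ D φ x P₀ := ⟨hz₀, h⟩
    rw [inf_D_eq_bot φ x U₀ P₀ hP₀x] at this
    exact this
  obtain ⟨p, hp, hpz₀⟩ := exists_prime_not_mem_D φ x z₀ P₀ hP₀ hz₀D
  have hpirr : Irreducible p := hp.irreducible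
  let Z : Set X := (D φ x p : Set X)ᶜ
  have hZclosed : IsClosed Z := (D φ x p).2.isClosed_compl
  have hZopen : IsOpen Z := by
    rw [isOpen_iff_forall_mem_open]
    intro z hz
    obtain ⟨U, hU, hzU⟩ := hex z
    obtain ⟨P, hP, hPx⟩ := hloc U hU
    set ψ := (res U).comp φ with hψ
    set xU := res U x with hxU
    -- `p` divides `P`
    have hpP : p ∣ P := by
      by_contra hndvd
      obtain ⟨u, v, huv⟩ := (hpirr.coprime_iff_not_dvd).2 hndvd
      have h1 := congrArg (Polynomial.eval₂ ψ xU) huv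
      rw [eval₂_add, eval₂_mul, eval₂_mul, hPx, mul_zero, add_zero, eval₂_one] at h1
      have hunit : IsUnit (p.eval₂ ψ xU) := IsUnit.of_mul_eq_one_right _ h1
      have h2 : U ⊓ D φ x p = U := by
        rw [inf_D_eq]
        exact Scheme.basicOpen_of_isUnit X hunit
      have : z ∈ U ⊓ D φ x p := by rw [h2]; exact hzU
      exact hz this.2
    obtain ⟨m, H, hH, hPH⟩ := WfDvdMonoid.max_power_factor hP hpirr
    have hm : 0 < m := by
      rcases Nat.eq_zero_or_pos m with h0 | h0
      · exfalso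
        rw [h0, pow_zero, one_mul] at hPH
        exact hH (hPH ▸ hpP)
      · exact h0
    obtain ⟨s, t, hst⟩ : IsCoprime (p ^ m) H :=
      IsCoprime.pow_left ((hpirr.coprime_iff_not_dvd).2 hH)
    set pU := p.eval₂ ψ xU with hpU
    set HU := H.eval₂ ψ xU with hHU
    set sU := s.eval₂ ψ xU
    set tU := t.eval₂ ψ xU
    have h1 : sU * pU ^ m + tU * HU = 1 := by
      have := congrArg (Polynomial.eval₂ ψ xU) hst
      simpa only [eval₂_add, eval₂_mul, eval₂_pow, eval₂_one] using this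
    have h2 : pU ^ m * HU = 0 := by
      have := congrArg (Polynomial.eval₂ ψ xU) hPH
      rw [hPx] at this
      simpa only [eval₂_mul, eval₂_pow] using this.symm
    have hDp : U ⊓ D φ x p = X.basicOpen pU := inf_D_eq φ x U p
    refine ⟨(X.basicOpen (tU * HU) : Set X), ?_, (X.basicOpen (tU * HU)).2, ?_⟩
    · -- contained in `Z`
      intro z' hz' hz'D
      have hz'U : z' ∈ U := Scheme.basicOpen_le X _ hz'
      rw [Scheme.basicOpen_mul] at hz'
      have h3 : z' ∈ X.basicOpen pU := by rw [← hDp]; exact ⟨hz'U, hz'D⟩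
      rw [← Scheme.basicOpen_pow X pU hm] at h3
      have h4 : z' ∈ X.basicOpen (pU ^ m) ⊓ X.basicOpen HU := ⟨h3, hz'.2⟩
      rw [← Scheme.basicOpen_mul, h2, Scheme.basicOpen_zero] at h4
      exact h4
    · -- contains `z`
      rw [SetLike.mem_coe, Scheme.mem_basicOpen X _ z hzU]
      have h3 : X.presheaf.germ U z hzU (sU * pU ^ m) + X.presheaf.germ U z hzU (tU * HU) = 1 := by
        rw [← map_add, h1, map_one]
      rcases IsLocalRing.isUnit_or_isUnit_of_add_one h3 with hu | hu
      · exfalso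
        rw [map_mul, map_pow] at hu
        have h4 : IsUnit (X.presheaf.germ U z hzU pU) :=
          (isUnit_pow_iff (Nat.pos_iff_ne_zero.1 hm)).1 (isUnit_of_mul_isUnit_right hu)
        have h5 : z ∈ X.basicOpen pU := (Scheme.mem_basicOpen X _ z hzU).2 h4
        rw [← hDp] at h5
        exact hz h5.2
      · exact hu
  have hZne : Z.Nonempty := ⟨z₀, hpz₀⟩
  have hZuniv : Z = Set.univ := IsClopen.eq_univ ⟨hZclosed, hZopen⟩ hZne
  have hDbot : D φ x p = ⊥ := by
    apply TopologicalSpace.Opens.ext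
    have : (D φ x p : Set X) = Zᶜ := (compl_compl _).symm
    rw [this, hZuniv]
    simp
  have hpx : p.eval₂ φ x = 0 := (AlgebraicGeometry.basicOpen_eq_bot_iff _).1 hDbot
  refine ⟨p * C (leadingCoeff p)⁻¹, monic_mul_leadingCoeff_inv hp.ne_zero, ?_⟩
  rw [eval₂_mul, hpx, zero_mul]

end Groth.Agent.Helper5.IntIndep
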