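import Mathlib
import Groth.Prelude.Def_Coh
import Groth.Agent.Helper5.IntIndep3

set_option autoImplicit false
set_option linter.style.haveILetI false
set_option linter.unusedSectionVars false
set_option linter.unusedVariables false
universe u
open Polynomial CategoryTheory AlgebraicGeometry Opposite

namespace Groth.Agent.Helper5.IntIndep

variable {X : Scheme.{u}}

/-- the ring map `k → Γ(X, ⊤)` of a morphism to `Spec k` -/
noncomputable def toG {k : Type u} [Field k] (b : X ⟶ Spec (CommRingCat.of k)) : k →+* Γ(X, ⊤) :=
  (b.appTop).hom.comp (Scheme.ΓSpecIso (CommRingCat.of k)).inv.hom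

theorem isIntegralElem_pow {R S : Type*} [CommRing R] [CommRing S] (f : R →+* S) {x : S}
    (hx : f.IsIntegralElem x) (n : ℕ) : f.IsIntegralElem (x ^ n) := by
  induction n with
  | zero => rw [pow_zero]; exact f.isIntegralElem_one
  | succ n ih => rw [pow_succ]; exact RingHom.IsIntegralElem.mul f ih hx

theorem finiteType_res_comp {k : Type u} [Field k] (b : X ⟶ Spec (CommRingCat.of k))
    [LocallyOfFiniteType b] (U : X.Opens) (hU : IsAffineOpen U) :
    ((res U).comp (toG b)).FiniteType := by
  have e : U ≤ b ⁻¹ᵁ ⊤ := le_top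
  have h1 : (b.appLE ⊤ U e).hom.FiniteType :=
    LocallyOfFiniteType.finiteType_appLE b (isAffineOpen_top _) hU e
  have h2 : (Scheme.ΓSpecIso (CommRingCat.of k)).inv.hom.FiniteType :=
    RingHom.FiniteType.of_surjective _
      (ConcreteCategory.bijective_of_isIso (Scheme.ΓSpecIso (CommRingCat.of k)).inv).surjective
  have h3 : (res U).comp (toG b) =
      (b.appLE ⊤ U e).hom.comp (Scheme.ΓSpecIso (CommRingCat.of k)).inv.hom := rfl
  rw [h3]
  exact h1.comp h2

/-- one direction of the independence of the base field -/
theorem isIntegralElem_of_isIntegralElem [IsReduced X] [ConnectedSpace X] {k₁ k₂ : Type u}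
    [Field k₁] [Field k₂] (a : X ⟶ Spec (CommRingCat.of k₁)) (b : X ⟶ Spec (CommRingCat.of k₂))
    [LocallyOfFiniteType b] (x : Γ(X, ⊤)) (hx : (toG a).IsIntegralElem x) :
    (toG b).IsIntegralElem x := by
  apply isIntegralElem_of_locally
  intro U hU
  by_cases hnt : Nontrivial Γ(X, U)
  · have hft := finiteType_res_comp b U hU
    apply exists_eval₂_eq_zero_of_pow_sub_one _ hft (res U x)
    intro n hn
    have hint : (toG a).IsIntegralElem (x ^ n - 1) :=
      RingHom.IsIntegralElem.sub (toG a) (isIntegralElem_pow _ hx n) (toG a).isIntegralElem_one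
    rcases eq_zero_or_isUnit_of_isIntegralElem _ _ hint with h | h
    · left
      have := congrArg (res U) h
      simpa only [map_sub, map_pow, map_one, map_zero] using this
    · right
      have := h.map (res U)
      simpa only [map_sub, map_pow, map_one] using this
  · refine ⟨1, one_ne_zero, ?_⟩
    have : Subsingleton Γ(X, U) := not_nontrivial_iff_subsingleton.1 hnt
    exact Subsingleton.elim _ _

/-- the integral closures of two base fields in the global functions coincide -/
theorem main (X : Scheme.{u}) [IsReduced X] [ConnectedSpace X]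
    (k₁ k₂ : Type u) [Field k₁] [Field k₂]
    (a : X ⟶ Spec (CommRingCat.of k₁)) (b : X ⟶ Spec (CommRingCat.of k₂))
    [LocallyOfFiniteType a] [LocallyOfFiniteType b] (x : Coh.Γtop X) :
    (Coh.toGlobal a).IsIntegralElem x ↔ (Coh.toGlobal b).IsIntegralElem x :=
  ⟨fun h => isIntegralElem_of_isIntegralElem a b x h,
    fun h => isIntegralElem_of_isIntegralElem b a x h⟩

end Groth.Agent.Helper5.IntIndep
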