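import Mathlib

set_option autoImplicit false
universe u v

namespace Groth.Agent.Helper5.InvGoingDown
open Pointwise

theorem main
    (A : Type u) (R : Type v) [CommRing A] [CommRing R] [Algebra A R] [IsNoetherianRing R]
    (G : Type u) [Group G] [Finite G] [MulSemiringAction G R] [SMulCommClass G A R]
    [Algebra.IsInvariant A R G] [FaithfulSMul A R] [Module.Finite A R] :
    Algebra.HasGoingDown A R := by
  have hint : Algebra.IsIntegral A R := Algebra.IsInvariant.isIntegral A R G
  refine ⟨fun {p} _ Q _ hlt => ?_⟩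
  have hker : RingHom.ker (algebraMap A R) ≤ p := by
    rw [(RingHom.injective_iff_ker_eq_bot _).mp (FaithfulSMul.algebraMap_injective A R)]
    exact bot_le
  obtain ⟨P₀, _, hP₀, hP₀p⟩ :=
    Ideal.exists_ideal_over_prime_of_isIntegral p (⊥ : Ideal R) (by
      rw [← RingHom.ker_eq_comap_bot]; exact hker)
  obtain ⟨Q', hQ'ge, hQ'prime, hQ'⟩ :=
    Ideal.exists_ideal_over_prime_of_isIntegral_of_isPrime (Q.under A) P₀
      (by rw [hP₀p]; exact hlt.le)
  obtain ⟨g, hg⟩ := Algebra.IsInvariant.exists_smul_of_under_eq A R G Q' Q hQ'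
  refine ⟨g • P₀, ?_, Ideal.IsPrime.smul g, ⟨?_⟩⟩
  · rw [hg]
    exact Ideal.pointwise_smul_le_pointwise_smul_iff.mpr hQ'ge
  · rw [Ideal.under_smul]
    exact hP₀p.symm
end Groth.Agent.Helper5.InvGoingDown
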