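import Groth.Agent.Helper5.ClosedSub1
import Mathlib

/-! Locally closed subspaces of an algebraic space from invariant immersions into an atlas. -/

set_option autoImplicit false
universe u
open CategoryTheory CategoryTheory.Limits AlgebraicGeometry Opposite MorphismProperty

namespace Groth.Agent.Helper5.InvImm

open AlgSp Groth.Agent.Helper4.AlgSpOpenImage Groth.Agent.Helper4.AlgSpBasic
  Groth.Agent.Helper5.RedInd Groth.Agent.Helper5.ClosedSub

variable {S : Scheme.{u}}

set_option backward.isDefEq.respectTransparency.types false in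
theorem s10233 (X : AlgSp.Space S) {R U : Over S} (s t : R ⟶ U)
    (p : (AlgSp.yon S).obj U ⟶ X.obj) (hp : AlgSp.IsPresentation s t p)
    {Z' R' : Scheme.{u}} (i' : Z' ⟶ U.left) [IsImmersion i'] (k : R' ⟶ R.left) (s' t' : R' ⟶ Z')
    (hs : IsPullback k s' s.left i') (ht : IsPullback k t' t.left i') :
    ∃ (Z : AlgSp.Space S) (i : Z ⟶ X) (q : (AlgSp.yon S).obj (Over.mk (i' ≫ U.hom)) ⟶ Z.obj),
      AlgSp.RepWith @IsImmersion i.hom ∧
      IsPullback q ((AlgSp.yon S).map (Over.homMk i' rfl : Over.mk (i' ≫ U.hom) ⟶ U)) i.hom p ∧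
      (IsClosedImmersion i' → AlgSp.RepWith @IsClosedImmersion i.hom) ∧
      (IsOpenImmersion i' → AlgSp.RepWith @IsOpenImmersion i.hom) := by
  let ZU : Over S := Over.mk (i' ≫ U.hom)
  let i₀ : ZU ⟶ U := Over.homMk i' rfl
  have hmono_i₀ : Mono i₀ := by
    have : Mono ((Over.forget S).map i₀) := by
      show Mono i'
      infer_instance
    exact (Over.forget S).mono_of_mono_map this
  have hinv : ∀ (T'' : Over S) (α β : T'' ⟶ U), (yon S).map α ≫ p = (yon S).map β ≫ p →
      (∃ z₀ : T'' ⟶ ZU, z₀ ≫ i₀ = α) → ∃ z₁ : T'' ⟶ ZU, z₁ ≫ i₀ = β := by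
    intro T'' α β hαβ ⟨z₀, hz₀⟩
    obtain ⟨r', hr't, hr's⟩ := hp.isPullback.exists_lift _ _ hαβ
    obtain ⟨r, rfl⟩ := (yon S).map_surjective r'
    rw [← Functor.map_comp] at hr't hr's
    have hrt : r ≫ t = α := (yon S).map_injective hr't
    have hrs : r ≫ s = β := (yon S).map_injective hr's
    have h1 : r.left ≫ t.left = z₀.left ≫ i' := by
      have := congrArg CommaMorphism.left (hrt.trans hz₀.symm)
      exact this
    obtain ⟨ρ, hρk, hρt⟩ := ht.exists_lift _ _ h1
    have h2 : (ρ ≫ s') ≫ i' = β.left := by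
      rw [Category.assoc, ← hs.w, ← Category.assoc, hρk, ← hrs]
      rfl
    refine ⟨Over.homMk (ρ ≫ s') ?_, ?_⟩
    · show (ρ ≫ s') ≫ i' ≫ U.hom = T''.hom
      rw [← Category.assoc, h2, CategoryTheory.Over.w]
    · ext
      exact h2
  have sqK := isPullback_of_invariant p i₀ hinv
  have hte : RepWith @Etale (toImg ((yon S).map i₀ ≫ p)) :=
    (RepWith (S := S) @Etale).of_isPullback sqK.flip hp.etale
  have hts : RepWith @Surjective (toImg ((yon S).map i₀ ≫ p)) :=
    (RepWith (S := S) @Surjective).of_isPullback sqK.flip hp.surjective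
  have hZ : IsAlgSpace (img ((yon S).map i₀ ≫ p)) :=
    { diag := MorphismProperty.of_isPullback (isPullback_diag_of_mono (imgι _)) X.property.diag
      atlas := ⟨ZU, _, hte, hts⟩ }
  refine ⟨⟨_, hZ⟩, ObjectProperty.homMk (imgι ((yon S).map i₀ ≫ p)),
    toImg ((yon S).map i₀ ≫ p), ?_, sqK, ?_, ?_⟩
  · exact Groth.Agent.Helper5.AffDesc12.immersion_of_etale_chart _ U p hp.etale hp.surjective
      _ ((yon S).map i₀) sqK ((repWith_yon_map_iff _ i₀).2 (inferInstanceAs (IsImmersion i')))
  · intro hc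
    exact Groth.Agent.Helper5.AffDesc12.closedImmersion_of_etale_chart _ U p hp.etale hp.surjective
      _ ((yon S).map i₀) sqK ((repWith_yon_map_iff _ i₀).2 hc)
  · intro ho
    exact Groth.Agent.Helper5.AffDesc12.openImmersion_of_etale_chart _ U p hp.etale hp.surjective
      _ ((yon S).map i₀) sqK ((repWith_yon_map_iff _ i₀).2 ho)

end Groth.Agent.Helper5.InvImm
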