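import Groth.Agent.Helper6.GenPts
import Groth.Agent.Helper5.GorSp6
import Mathlib

set_option autoImplicit false
set_option linter.style.haveILetI false
set_option linter.unusedSectionVars false
set_option linter.unusedVariables false
universe u
open CategoryTheory CategoryTheory.Limits AlgebraicGeometry Opposite

namespace Groth.Agent.Helper5.IrrComp

open AlgSp Groth.Agent.Helper4

variable {S : Scheme.{u}}

theorem s10303 {X Y : AlgSp.Space S} (f : X ⟶ Y)
    (hf : AlgSp.LocP @Flat f.hom) (hf' : AlgSp.LocP @LocallyOfFiniteType f.hom)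
    (hY : AlgSp.EtaleLocally (fun U => ∀ W : U.Opens, IsCompact (W : Set ↥U) → (irreducibleComponents ↥W).Finite) Y.obj) :
    AlgSp.EtaleLocally (fun U => ∀ W : U.Opens, IsCompact (W : Set ↥U) → (irreducibleComponents ↥W).Finite) X.obj := by
  obtain ⟨V, b, hbe, hbs, hV⟩ := hY
  obtain ⟨U, a, s, c1, hae, -, -, has⟩ :=
    Groth.Agent.Helper5.GorSp.exists_chart_over X.property f.hom b hbe
  haveI : Flat s.left := hf a b s hae hbe c1
  haveI : LocallyOfFiniteType s.left := hf' a b s hae hbe c1
  refine ⟨U, a, hae, has hbs, fun W hW => ?_⟩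
  refine (Groth.Agent.Helper6.GenPts.finite_irreducibleComponents_opens_iff W).mpr ?_
  exact Groth.Agent.Helper6.GenPts.finite_gen_of_flat s.left
    (fun O hO => (Groth.Agent.Helper6.GenPts.finite_irreducibleComponents_opens_iff O).mp (hV O hO)) W hW

end Groth.Agent.Helper5.IrrComp
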