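import Groth.Agent.Helper5.RelDimSp2
import Groth.Agent.Helper5.EtLoc1
import Groth.Agent.Helper5.FieldTgt
import Mathlib

set_option autoImplicit false
set_option linter.style.haveILetI false
set_option linter.unusedSectionVars false
set_option linter.unusedVariables false
universe u
open CategoryTheory CategoryTheory.Limits AlgebraicGeometry Opposite

namespace Groth.Agent.Helper5.RelDimSp

open AlgSp Groth.Agent.Helper4 Groth.Agent.Helper5.PtLoc

/-- over a field, the local fibre dimension is the local dimension of the source -/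
theorem fibreDimAt_to_field (k : Type u) [Field k] {U : Scheme.{u}}
    (h : U ⟶ Spec (CommRingCat.of k)) (u : U) :
    FlatMor.fibreDimAt h u = FlatMor.localDim ↥U u := by
  rw [Groth.Agent.Helper5.EtLoc.fibreDimAt_eq_localDim_preimage]
  have huniv : h ⁻¹' {h u} = Set.univ := by
    ext z
    simp only [Set.mem_preimage, Set.mem_singleton_iff, Set.mem_univ, iff_true]
    exact Subsingleton.elim _ _
  have hopen : IsOpen (h ⁻¹' {h u}) := by rw [huniv]; exact isOpen_univ
  exact Groth.Agent.Helper5.EtLoc.localDim_of_isOpenEmbedding (Subtype.val : ↥(h ⁻¹' {h u}) → U)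
    hopen.isOpenEmbedding_subtypeVal ⟨u, rfl⟩

variable {S : Scheme.{u}}

theorem repWith_etale_id (T : Over S) : RepWith @Etale (𝟙 ((yon S).obj T)) := by
  rw [← (yon S).map_id]
  exact (repWith_yon_map_iff _ _).2 (by dsimp; infer_instance)

set_option backward.isDefEq.respectTransparency.types false in
theorem s10329 {X Y F : AlgSp.Space S} (f : X ⟶ Y)
    (hf : AlgSp.LocP @LocallyOfFiniteType f.hom) (k : Type u) [Field k] (str : Spec (.of k) ⟶ S)
    (y : (AlgSp.yon S).obj (Over.mk str) ⟶ Y.obj) (p : F ⟶ X) (q : F.obj ⟶ (AlgSp.yon S).obj (Over.mk str))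
    (sq : IsPullback p.hom q f.hom y) (z : AlgSp.Points F.obj)
    (hz : AlgSp.HasAt (fun U u => FlatMor.localDim ↥U u = 0) F.obj z) :
    ∃ (X' : AlgSp.Space S) (j : X' ⟶ X), AlgSp.RepWith @IsOpenImmersion j.hom ∧
      AlgSp.Points.map p.hom z ∈ Set.range (AlgSp.Points.map j.hom) ∧
      AlgSp.LocP (@LocallyQuasiFinite ⊓ @LocallyOfFiniteType) (j ≫ f).hom := by
  obtain ⟨X', j, hj, hlqf, -, hbc⟩ := s10313 f hf
  refine ⟨X', j, hj, ?_, hlqf⟩
  let Yk : AlgSp.Space S := (AlgSp.ofScheme S).obj (Over.mk str)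
  let y' : Yk ⟶ Y := ObjectProperty.homMk y
  let q' : F ⟶ Yk := ObjectProperty.homMk q
  have sq' : IsPullback p.hom q'.hom f.hom y'.hom := sq
  refine (hbc Yk F y' p q' sq' z).2 ?_
  have hq : AlgSp.LocP @LocallyOfFiniteType q'.hom := locP_lft_of_isPullback f y' p q' sq' hf
  rw [hasAtMor_nbhd_lqf_iff q'.hom hq z]
  obtain ⟨U, a, u, hae, hu, hdim⟩ := hz
  obtain ⟨h, hh⟩ := (yon S).map_surjective (X := U) (Y := Over.mk str) (a ≫ q)
  have hid := repWith_etale_id (Over.mk str)
  have comm : a ≫ q'.hom = (yon S).map h ≫ 𝟙 _ := by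
    rw [Category.comp_id, hh]; rfl
  refine ⟨U, Over.mk str, a, 𝟙 _, h, u, hae, hid, comm, hu, ?_⟩
  show FlatMor.fibreDimAt h.left u = 0
  rw [← hdim]
  exact fibreDimAt_to_field k h.left u

end Groth.Agent.Helper5.RelDimSp
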