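import Groth.Agent.Helper6.GenPts
import Groth.Agent.Helper5.Codim0B
import Groth.Agent.Helper5.HasAtChart
import Groth.Agent.Helper5.RelDimSp5
import Groth.Agent.Helper5.AlgSpNoeth
import Groth.Agent.Helper2.TopDim
import Mathlib

set_option autoImplicit false
set_option linter.style.haveILetI false
set_option linter.unusedSectionVars false
set_option linter.unusedVariables false
universe u
open CategoryTheory CategoryTheory.Limits AlgebraicGeometry Opposite TopologicalSpace

namespace Groth.Agent.Helper5.IrrTfae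

open AlgSp Groth.Agent.Helper4 Groth.Agent.Helper6.GenPts Groth.Agent.Helper5.Codim0B

/-- quasi-compact opens have finitely many irreducible components -/
abbrev PU (U : Scheme.{u}) : Prop :=
  ∀ W : U.Opens, IsCompact (W : Set ↥U) → (irreducibleComponents ↥W).Finite

/-- quasi-compact opens have finitely many maximal points -/
abbrev PG (U : Scheme.{u}) : Prop :=
  ∀ W : U.Opens, IsCompact (W : Set ↥U) → ((W : Set U) ∩ Gen U).Finite

theorem pu_iff_pg (U : Scheme.{u}) : PU U ↔ PG U :=
  forall₂_congr fun W _ => finite_irreducibleComponents_opens_iff W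

/-- every point of a quasi-sober space has a maximal generization -/
theorem exists_gen_specializes {α : Type*} [TopologicalSpace α] [T0Space α] [QuasiSober α]
    (r : α) : ∃ r' ∈ Gen α, r' ⤳ r := by
  obtain ⟨η, hη⟩ := QuasiSober.sober (isIrreducible_irreducibleComponent (x := r))
    isClosed_irreducibleComponent
  refine ⟨η, ?_, ?_⟩
  · rw [← mem_genericPoints_iff]
    show closure {η} ∈ irreducibleComponents α
    rw [hη.def]
    exact irreducibleComponent_mem_irreducibleComponents r
  · rw [specializes_iff_mem_closure, hη.def]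
    exact mem_irreducibleComponent

/-- finiteness of irreducible components passes to continuous surjective images -/
theorem finite_irreducibleComponents_of_surjective {A B : Type*} [TopologicalSpace A]
    [TopologicalSpace B] (f : A → B) (hf : Continuous f) (hs : Function.Surjective f)
    (hA : (irreducibleComponents A).Finite) : (irreducibleComponents B).Finite := by
  refine (hA.image fun C => closure (f '' C)).subset ?_
  intro Z hZ
  haveI : Finite ↥(irreducibleComponents A) := hA
  have hcov : Z ⊆ ⋃ C : ↥(irreducibleComponents A), closure (f '' (C : Set A)) := by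
    intro z _
    obtain ⟨x, rfl⟩ := hs z
    exact Set.mem_iUnion.2 ⟨⟨irreducibleComponent x, irreducibleComponent_mem_irreducibleComponents x⟩,
      subset_closure ⟨x, mem_irreducibleComponent, rfl⟩⟩
  obtain ⟨C, hC⟩ := Groth.Agent.Helper2.TopDim.exists_subset_of_subset_iUnion Z hZ.1 _
    (fun _ => isClosed_closure) hcov
  refine ⟨C.1, C.2, ?_⟩
  have hirr : IsIrreducible (closure (f '' (C : Set A))) := (C.2.1.image f hf.continuousOn).closure
  exact (hZ.2 hirr hC).antisymm hC |>.symm ▸ rfl

/-- finiteness of maximal points of quasi-compact opens descends along surjective étale maps -/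
theorem pg_of_surjective_etale {R U : Scheme.{u}} (g : R ⟶ U) [Etale g] [Surjective g]
    (hR : PG R) : PG U := by
  intro W hW
  have hopen : IsOpenMap g := g.isOpenMap
  have key : ∀ w : ↥U, w ∈ W → ∃ A : R.Opens, IsAffineOpen A ∧ A ≤ g ⁻¹ᵁ W ∧ w ∈ g '' (A : Set R) := by
    intro w hw
    obtain ⟨r, rfl⟩ := ‹Surjective g›.surj w
    obtain ⟨_, ⟨A, hA, rfl⟩, hrA, hAW⟩ :=
      (R.isBasis_affineOpens).exists_subset_of_mem_open (show r ∈ (g ⁻¹ᵁ W : Set R) from hw)
        (g ⁻¹ᵁ W).2
    exact ⟨A, hA, hAW, r, hrA, rfl⟩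
  choose A hAaff hAle hAmem using key
  obtain ⟨t, ht⟩ := hW.elim_finite_subcover
    (fun w : {w : ↥U // w ∈ W} => g '' (A w.1 w.2 : Set R))
    (fun w => hopen _ (A w.1 w.2).2)
    (fun w hw => Set.mem_iUnion.2 ⟨⟨w, hw⟩, hAmem w hw⟩)
  let W' : R.Opens := ⟨⋃ w ∈ t, (A w.1 w.2 : Set R), isOpen_biUnion fun w _ => (A w.1 w.2).2⟩
  have hW'c : IsCompact (W' : Set R) :=
    t.isCompact_biUnion fun w _ => (hAaff w.1 w.2).isCompact
  refine ((hR W' hW'c).image g).subset ?_
  rintro η ⟨hηW, hηG⟩
  obtain ⟨w, hwt, r, hrA, hr⟩ : ∃ w ∈ t, η ∈ g '' (A w.1 w.2 : Set R) := by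
    have := ht hηW
    simpa only [Set.mem_iUnion, exists_prop] using this
  obtain ⟨r', hr'G, hr'r⟩ := exists_gen_specializes (α := ↥R) r
  have hr'A : r' ∈ (A w.1 w.2 : Set R) := hr'r.mem_open (A w.1 w.2).2 hrA
  have hgr' : g r' = η := by
    apply hηG
    rw [← hr]
    exact hr'r.map g.continuous
  exact ⟨r', ⟨Set.mem_iUnion₂.2 ⟨w, hwt, hr'A⟩, hr'G⟩, hgr'⟩

end Groth.Agent.Helper5.IrrTfae
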