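import Groth.Agent.Helper6.AlgStMono
import Groth.Agent.Helper6.FpPaste
import Groth.Agent.Helper5.ZarGlue8
import Groth.Prelude.Def_W4c2isonaturalstkIso
import Mathlib

set_option autoImplicit false
set_option linter.style.haveILetI false
set_option linter.unusedSectionVars false
set_option linter.unusedVariables false
universe u
open CategoryTheory CategoryTheory.Limits AlgebraicGeometry Opposite

namespace Groth.Agent.Helper5.IsoNatFp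

open Functor FibCat IsoNat Groth.Agent.Helper3 Groth.Agent.Helper6.FpTools

variable {S : Scheme.{u}}

/-- open immersions of categories over `(Sch/S)` are monomorphisms -/
theorem isMono_of_isOpenImm {𝒳 𝒴 : AlgSt.Cat S} (i : 𝒳 ⥤ᵇ 𝒴) (hi : AlgSt.IsOpenImm i) :
    AlgSt.IsMono i := by
  intro U y
  obtain ⟨F, e, he, hP⟩ := hi U y
  exact ⟨F, e, he, Groth.Agent.Helper5.ZarGlue.mono_of_oi _ hP⟩

/-- an isomorphism over the identity gives equality of classes -/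
theorem cls_eq_of_iso {𝒳 : AlgSt.Cat S} {T : Over S} (x y : 𝒳.p.Fiber T) (e : x.1 ≅ y.1)
    (he : 𝒳.p.IsHomLift (𝟙 T) e.hom) : cls x = cls y := by
  apply Quotient.sound
  haveI := he
  have he' : 𝒳.p.IsHomLift (𝟙 T) e.inv := inferInstance
  exact ⟨{ hom := ⟨e.hom, he⟩, inv := ⟨e.inv, he'⟩,
           hom_inv_id := Functor.Fiber.hom_ext e.hom_inv_id,
           inv_hom_id := Functor.Fiber.hom_ext e.inv_hom_id }⟩

theorem exists_iso_of_cls_eq {𝒳 : AlgSt.Cat S} {T : Over S} (x y : 𝒳.p.Fiber T)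
    (h : cls x = cls y) : ∃ e : x.1 ≅ y.1, 𝒳.p.IsHomLift (𝟙 T) e.hom := by
  obtain ⟨e⟩ := Quotient.exact h
  exact ⟨Functor.Fiber.fiberInclusion.mapIso e, e.hom.2⟩

theorem mapCls_cls {𝒳 𝒴 : AlgSt.Cat S} (f : 𝒳 ⥤ᵇ 𝒴) (T : Over S) (x : 𝒳.p.Fiber T) :
    mapCls f T (cls x) = cls ((fibFun f T).obj x) := rfl

/-- isomorphism classes of a fibre product along a fully faithful functor -/
theorem cls_eq_of_full (𝒳 𝒴 𝒴' : AlgSt.Cat S) (h𝒴' : IsFibGrpd 𝒴'.p)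
    (f : 𝒳 ⥤ᵇ 𝒴) (i : 𝒴' ⥤ᵇ 𝒴) [i.toFunctor.Full]
    (T : Over S) (z₁ z₂ : (FibCat.fp f i).p.Fiber T)
    (h₁ : mapCls (fpFst f i) T (cls z₁) = mapCls (fpFst f i) T (cls z₂)) : cls z₁ = cls z₂ := by
  rw [mapCls_cls, mapCls_cls] at h₁
  obtain ⟨β, hβ⟩ := exists_iso_of_cls_eq _ _ h₁
  let β' : z₁.1.obj.fst ≅ z₂.1.obj.fst := β
  have hβ' : 𝒳.p.IsHomLift (𝟙 T) β'.hom := hβ
  let δ : i.obj z₁.1.obj.snd ⟶ i.obj z₂.1.obj.snd :=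
    z₁.1.obj.iso.inv ≫ f.map β'.hom ≫ z₂.1.obj.iso.hom
  have e1 : 𝒳.p.obj z₁.1.obj.fst = T := z₁.2
  have e2 : 𝒳.p.obj z₂.1.obj.fst = T := z₂.2
  have l1 : 𝒴.p.IsHomLift (𝟙 T) z₁.1.obj.iso.hom := lift_id_transport e1 _ z₁.1.property
  have l2 : 𝒴.p.IsHomLift (𝟙 T) z₂.1.obj.iso.hom := lift_id_transport e2 _ z₂.1.property
  have l1' : 𝒴.p.IsHomLift (𝟙 T) z₁.1.obj.iso.inv := by haveI := l1; infer_instance
  have l3 : 𝒴.p.IsHomLift (𝟙 T) (f.map β'.hom) := by haveI := hβ'; infer_instance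
  have hδ : 𝒴.p.IsHomLift (𝟙 T) δ := lift_id_comp' _ _ l1' (lift_id_comp' _ _ l3 l2)
  obtain ⟨γ, hγ⟩ := i.toFunctor.map_surjective δ
  have hγl : 𝒴'.p.IsHomLift (𝟙 T) γ := by
    rw [← BasedFunctor.isHomLift_iff i]
    change 𝒴.p.IsHomLift (𝟙 T) (i.toFunctor.map γ)
    rw [hγ]; exact hδ
  haveI := hγl
  haveI : IsIso γ := FibGrpd.isIso_of_lift_id h𝒴' (U := T) γ
  have w : f.map β'.hom ≫ z₂.1.obj.iso.hom = z₁.1.obj.iso.hom ≫ i.map (asIso γ).hom := by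
    change _ = _ ≫ i.toFunctor.map γ
    rw [hγ]
    simp [δ]
  exact cls_eq_of_iso z₁ z₂ (fpMkIso β' (asIso γ) w) (fpMkIso_lift _ _ _ hβ')

/-- S15493 -/
theorem s15493 (𝒳 𝒴 𝒴' : AlgSt.Cat S) (h𝒴 : IsFibGrpd 𝒴.p) (h𝒴' : IsFibGrpd 𝒴'.p)
    (f : 𝒳 ⥤ᵇ 𝒴) (i : 𝒴' ⥤ᵇ 𝒴) (hi : AlgSt.IsOpenImm i)
    (T : Over S) (z₁ z₂ : (FibCat.fp f i).p.Fiber T)
    (h₁ : mapCls (fpFst f i) T (cls z₁) = mapCls (fpFst f i) T (cls z₂)) : cls z₁ = cls z₂ := by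
  haveI := Groth.Agent.Helper6.AlgStMono.full_of_isMono h𝒴' h𝒴 i (isMono_of_isOpenImm i hi)
  exact cls_eq_of_full 𝒳 𝒴 𝒴' h𝒴' f i T z₁ z₂ h₁

end Groth.Agent.Helper5.IsoNatFp
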