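import Groth.Prelude.Def_AlgSpCov
import Groth.Agent.Helper4.AlgSpLocPComp
import Groth.Agent.Helper4.AlgSpLocPBC
import Groth.Agent.Helper4.AlgSpPtsDesc
import Groth.Agent.Helper4.AlgSpQC2
import Groth.Agent.Helper5.AlgSpEt2
import Mathlib

set_option autoImplicit false
universe u
open CategoryTheory CategoryTheory.Limits AlgebraicGeometry Opposite

namespace Groth.Agent.Helper5.SmST

open AlgSp Groth.Agent.Helper4.SDClasses
open Groth.Agent.Helper4.AlgSpPtsDesc

variable {S : Scheme.{u}}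

theorem locP_etale_id (X : Sp S) : LocP @Etale (𝟙 X) := by
  intro U V a b h ha hb comm
  rw [Category.comp_id] at comm
  exact Groth.Agent.Helper4.AlgSpLocP.etale_of_comp a b h ha hb comm.symm

theorem locP_smooth_id (X : Sp S) : LocP @Smooth (𝟙 X) := by
  intro U V a b h ha hb comm
  have : Etale h.left := locP_etale_id X a b h ha hb comm
  infer_instance

theorem isEtaleMor_id (X : Sp S) : IsEtaleMor (𝟙 X) := by
  intro U φ hφ
  rwa [Category.comp_id]

set_option backward.isDefEq.respectTransparency.types false in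
theorem locP_smooth_of_isPullback {X Y X' Y' : Sp S} (hX : IsAlgSpace X) (hY : IsAlgSpace Y)
    (f : X ⟶ Y) (g : Y' ⟶ Y) (fst : X' ⟶ X) (f' : X' ⟶ Y') (sq : IsPullback fst f' f g)
    (hf : LocP @Smooth f) : LocP @Smooth f' := by
  have hG : Good (@Smooth : MorphismProperty Scheme.{u}) := good_smooth
  have := hG.bc
  have := hG.comp
  exact Groth.Agent.Helper4.AlgSpLocPBC.locP_of_isPullback @Smooth hG.etale_le hG.sd hX hY
    f g fst f' sq hf

/-- the two-member family `{f, 𝟙}` -/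
def pairObj (X Y : Sp S) : ULift.{u} Bool → Sp S := fun i => cond i.down X Y

def pairMor {X Y : Sp S} (f : X ⟶ Y) : ∀ i, pairObj X Y i ⟶ Y := fun i =>
  match i with
  | ⟨true⟩ => f
  | ⟨false⟩ => 𝟙 Y

theorem pair_isAlgSpace {X Y : Sp S} (hX : IsAlgSpace X) (hY : IsAlgSpace Y) :
    ∀ i, IsAlgSpace (pairObj X Y i) := by
  rintro ⟨_ | _⟩
  · exact hY
  · exact hX

theorem pair_isCover (Q : MorphismProperty (Sp S)) {X Y : Sp S} (f : X ⟶ Y) (hf : Q f)
    (hid : Q (𝟙 Y)) : IsCover Q (pairObj X Y) (pairMor f) := by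
  refine ⟨?_, fun x => ⟨⟨false⟩, x, Points.map_id x⟩⟩
  rintro ⟨_ | _⟩
  · exact hid
  · exact hf

/-- a `Type u`-indexed surjection onto the points of an algebraic space -/
theorem exists_index {X : Sp S} (hX : IsAlgSpace X) :
    ∃ (ι : Type u) (pt : ι → Points X), Function.Surjective pt := by
  obtain ⟨U₀, a₀, ha₀e, ha₀s⟩ := hX.atlas
  refine ⟨↥U₀.left, fun u => Points.ofPt a₀ u, fun x => ?_⟩
  obtain ⟨r, hr⟩ := Groth.Agent.Helper4.AlgSpPts.isSurjectiveMor_of_repWith a₀ ha₀s x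
  obtain ⟨u, rfl⟩ := (Points.schemeHomeo U₀).surjective r
  refine ⟨u, ?_⟩
  show Points.ofPt a₀ u = x
  rw [← Groth.Agent.Helper4.AlgSpQC2.ofPt_eq_map_schemeHomeo, hr]

/-- unbundled postcomposition condition -/
def Post (Q P : MorphismProperty (Sp S)) : Prop :=
  ∀ ⦃X Y Z : Sp S⦄, IsAlgSpace X → IsAlgSpace Y → IsAlgSpace Z → ∀ (f : X ⟶ Y) (g : Y ⟶ Z),
    P f → Q g → P (f ≫ g)

theorem post_of_bundled {Q P : MorphismProperty (Sp S)}
    (h3 : ∀ ⦃X Y Z : Space S⦄ (f : X ⟶ Y) (g : Y ⟶ Z), P f.hom → Q g.hom → P (f ≫ g).hom) :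
    Post Q P := by
  intro X Y Z hX hY hZ f g hf hg
  exact h3 (X := ⟨X, hX⟩) (Y := ⟨Y, hY⟩) (Z := ⟨Z, hZ⟩) (ObjectProperty.homMk f)
    (ObjectProperty.homMk g) hf hg

/-- S10567, unbundled -/
theorem isSmoothLocalST_of_local (P : MorphismProperty (Sp S))
    (h1 : IsLocalOnSource (IsSmCover (S := S)) P)
    (h2 : IsLocalOnBase (IsSmCover (S := S)) P)
    (h3 : Post (LocP @Smooth) P) : IsSmoothLocalST P where
  precomp := by
    intro X Y Z hX hY hZ f g hf hg
    exact (h1 (pairObj X Y) (pairMor f) hY (pair_isAlgSpace hX hY)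
      (pair_isCover _ f hf (locP_smooth_id Y)) g hZ).1 hg ⟨true⟩
  baseChange := by
    intro X Y X' Y' hX hY hX' hY' f g f' g' sq hg hf
    have key := h2 (pairObj Y' Y) (pairMor g) hY (pair_isAlgSpace hY' hY)
      (pair_isCover _ g hg (locP_smooth_id Y)) f hX (pairObj X' X)
      (fun i => match i with
        | ⟨true⟩ => f'
        | ⟨false⟩ => f)
      (fun i => match i with
        | ⟨true⟩ => g'
        | ⟨false⟩ => 𝟙 X)
      (pair_isAlgSpace hX' hX)
      (by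
        rintro ⟨_ | _⟩
        · exact IsPullback.of_id_fst
        · exact sq)
    exact key.1 hf ⟨true⟩
  locality := by
    intro X Y hX hY f
    constructor
    · intro hf x
      exact ⟨X, Y, 𝟙 X, 𝟙 Y, f, x, hX, hY, locP_smooth_id X, locP_smooth_id Y, by simp,
        Points.map_id x, hf⟩
    · intro H
      obtain ⟨ι, pt, hpt⟩ := exists_index hX
      choose U V a b h v hU hV ha hb hcomm hv hPh using fun i => H (pt i)
      refine (h1 U a hX hU ⟨ha, fun x => ?_⟩ f hY).2 fun i => ?_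
      · obtain ⟨i, rfl⟩ := hpt x
        exact ⟨i, v i, hv i⟩
      · rw [hcomm i]
        exact h3 (hU i) (hV i) hY (h i) (b i) (hPh i) (hb i)

theorem local_source {P : MorphismProperty (Sp S)} (hP : IsSmoothLocalST P) :
    IsLocalOnSource (IsSmCover (S := S)) P := by
  intro ι X Xi g hX hXi hcov Y f hY
  constructor
  · intro hf i
    exact hP.precomp (hXi i) hX hY (g i) f (hcov.1 i) hf
  · intro h
    refine (hP.locality hX hY f).2 fun x => ?_
    obtain ⟨i, xi, hxi⟩ := hcov.2 x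
    exact ⟨Xi i, Y, g i, 𝟙 Y, g i ≫ f, xi, hXi i, hY, hcov.1 i, locP_smooth_id Y, by simp, hxi,
      h i⟩

theorem local_base {P : MorphismProperty (Sp S)} (hP : IsSmoothLocalST P) :
    IsLocalOnBase (IsSmCover (S := S)) P := by
  intro ι Y Yi g hY hYi hcov X f hX Xi p q hXi sq
  constructor
  · intro hf i
    exact hP.baseChange hX hY (hXi i) (hYi i) f (g i) (p i) (q i) (sq i) (hcov.1 i) hf
  · intro h
    refine (hP.locality hX hY f).2 fun x => ?_
    obtain ⟨i, yi, hyi⟩ := hcov.2 (Points.map f x)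
    obtain ⟨z, hz1, hz2⟩ := exists_point_of_isPullback (sq i) x yi hyi.symm
    exact ⟨Xi i, Yi i, q i, g i, p i, z, hXi i, hYi i,
      locP_smooth_of_isPullback (hYi i) hY (g i) f (p i) (q i) (sq i).flip (hcov.1 i), hcov.1 i,
      (sq i).w, hz1, h i⟩

theorem post {P : MorphismProperty (Sp S)} (hP : IsSmoothLocalST P) : Post (LocP @Smooth) P := by
  intro X Y Z hX hY hZ f g hf hg
  refine (hP.locality hX hZ (f ≫ g)).2 fun x => ?_
  exact ⟨X, Y, 𝟙 X, g, f, x, hX, hY, locP_smooth_id X, hg, by simp, Points.map_id x, hf⟩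

theorem iff_conditions {P : MorphismProperty (Sp S)}
    (hP : IsSmoothLocalST P) {X Y : Space S} (f : X ⟶ Y) :
    (P f.hom ↔ ∃ (U V : Space S) (a : U ⟶ X) (b : V ⟶ Y) (h : U ⟶ V),
      LocP @Smooth a.hom ∧ LocP @Smooth b.hom ∧ IsSurjectiveMor a.hom ∧
      a ≫ f = h ≫ b ∧ P h.hom) ∧
    (P f.hom ↔ ∀ (U V W : Space S) (a : U ⟶ X) (b : V ⟶ Y) (h : U ⟶ V) (p : W ⟶ X) (q : W ⟶ V)
      (e : U ⟶ W), IsPullback p.hom q.hom f.hom b.hom → e ≫ p = a → e ≫ q = h →
      LocP @Smooth b.hom → LocP @Smooth e.hom → P h.hom) ∧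
    (P f.hom ↔ ∃ (ι : Type u) (Yi Xi : ι → Space S) (g : ∀ i, Yi i ⟶ Y) (p : ∀ i, Xi i ⟶ Yi i)
      (q : ∀ i, Xi i ⟶ X), IsSmCover (fun i => (Yi i).obj) (fun i => (g i).hom) ∧
      (∀ i, IsPullback (q i).hom (p i).hom f.hom (g i).hom) ∧ ∀ i, P (p i).hom) ∧
    (P f.hom ↔ ∃ (ι : Type u) (Xi : ι → Space S) (g : ∀ i, Xi i ⟶ X),
      IsSmCover (fun i => (Xi i).obj) (fun i => (g i).hom) ∧ ∀ i, P (g i ≫ f).hom) := by
  refine ⟨⟨fun hf => ?_, ?_⟩, ⟨fun hf => ?_, fun H => ?_⟩, ⟨fun hf => ?_, ?_⟩, ⟨fun hf => ?_, ?_⟩⟩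
  · exact ⟨X, Y, 𝟙 X, 𝟙 Y, f, locP_smooth_id _, locP_smooth_id _,
      fun x => ⟨x, Points.map_id x⟩, by simp, hf⟩
  · rintro ⟨U, V, a, b, h, ha, hb, hs, hcomm, hPh⟩
    refine (hP.locality X.property Y.property f.hom).2 fun x => ?_
    obtain ⟨v, hv⟩ := hs x
    exact ⟨U.obj, V.obj, a.hom, b.hom, h.hom, v, U.property, V.property, ha, hb,
      congrArg (fun t => t.hom) hcomm, hv, hPh⟩
  · intro U V W a b h p q e sq ha hh hb he
    subst ha hh
    have hq : P q.hom :=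
      hP.baseChange X.property Y.property W.property V.property f.hom b.hom q.hom p.hom sq hb hf
    exact hP.precomp U.property W.property V.property e.hom q.hom he hq
  · exact H X Y X (𝟙 X) (𝟙 Y) f (𝟙 X) f (𝟙 X) IsPullback.of_id_fst (by simp) (by simp)
      (locP_smooth_id _) (locP_smooth_id _)
  · exact ⟨PUnit.{u + 1}, fun _ => Y, fun _ => X, fun _ => 𝟙 Y, fun _ => f, fun _ => 𝟙 X,
      ⟨fun _ => locP_smooth_id _, fun x => ⟨⟨⟩, x, Points.map_id x⟩⟩,
      fun _ => IsPullback.of_id_fst, fun _ => hf⟩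
  · rintro ⟨ι, Yi, Xi, g, p, q, hcov, sq, hp⟩
    exact (local_base hP (fun i => (Yi i).obj) (fun i => (g i).hom) Y.property
      (fun i => (Yi i).property) hcov f.hom X.property (fun i => (Xi i).obj)
      (fun i => (p i).hom) (fun i => (q i).hom) (fun i => (Xi i).property) sq).2 hp
  · exact ⟨PUnit.{u + 1}, fun _ => X, fun _ => 𝟙 X,
      ⟨fun _ => locP_smooth_id _, fun x => ⟨⟨⟩, x, Points.map_id x⟩⟩, fun _ => by simpa using hf⟩
  · rintro ⟨ι, Xi, g, hcov, hp⟩
    exact (local_source hP (fun i => (Xi i).obj) (fun i => (g i).hom) X.property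
      (fun i => (Xi i).property) hcov f.hom Y.property).2 hp

end Groth.Agent.Helper5.SmST
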