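import Groth.Agent.Helper5.SrcFlat
import Mathlib

set_option autoImplicit false
universe u
open CategoryTheory CategoryTheory.Limits AlgebraicGeometry Opposite

namespace Groth.Agent.Helper5.SrcOpen

open AlgSp Groth.Agent.Helper4.SDClasses
open Groth.Agent.Helper4.AlgSpPtsDesc

variable {S : Scheme.{u}}

set_option backward.isDefEq.respectTransparency.types false in
/-- flat + lfp morphisms of algebraic spaces are open on points -/
theorem isOpenMor_of_flat_lfp {X Y : Sp S} (hX : IsAlgSpace X) (hY : IsAlgSpace Y) (f : X ⟶ Y)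
    (hf1 : LocP @Flat f) (hf2 : LocP @LocallyOfFinitePresentation f) : IsOpenMor f := by
  intro W hW
  obtain ⟨U₀, a₀, ha₀e, ha₀s⟩ := hX.atlas
  obtain ⟨V, b, hbe, hbs⟩ := hY.atlas
  obtain ⟨E, e, c, hee, hes, hxe, hxs, hcomm, hpb⟩ :=
    Groth.Agent.Helper4.AlgSpLocP2.exists_chart f a₀ ha₀e ha₀s b hbe hbs
  refine isOpen_of_isOpen_preimage b hbe hbs _ ?_
  have hc1 : Flat c.left := hf1 _ b c hxe hbe hcomm
  have hc2 : LocallyOfFinitePresentation c.left := hf2 _ b c hxe hbe hcomm
  have hco : IsOpenMap (Points.map ((yon S).map c)) :=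
    (isOpenMap_points_yon_map_iff c).2 c.left.isOpenMap
  have key : Points.map b ⁻¹' (Points.map f '' W) =
      Points.map ((yon S).map c) '' (Points.map ((yon S).map e ≫ a₀) ⁻¹' W) := by
    ext v
    constructor
    · rintro ⟨w, hwW, hw⟩
      obtain ⟨u₀, rfl⟩ := Groth.Agent.Helper4.AlgSpPts.isSurjectiveMor_of_repWith a₀ ha₀s w
      have h1 : Points.map b v = Points.map (a₀ ≫ f) u₀ := by
        rw [Points.map_comp]; exact hw.symm
      obtain ⟨p, hp1, hp2⟩ := exists_point_of_isPullback hpb v u₀ h1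
      refine ⟨p, ?_, hp1⟩
      show Points.map ((yon S).map e ≫ a₀) p ∈ W
      rw [Points.map_comp, hp2]
      exact hwW
    · rintro ⟨p, hp, rfl⟩
      refine ⟨Points.map ((yon S).map e ≫ a₀) p, hp, ?_⟩
      rw [← Points.map_comp, hcomm, Points.map_comp]
  rw [key]
  exact hco _ (hW.preimage (Points.continuous_map _))

set_option backward.isDefEq.respectTransparency.types false in
theorem isUnivOpenMor_of_flat_lfp {X Y : Sp S} (hX : IsAlgSpace X) (hY : IsAlgSpace Y) (f : X ⟶ Y)
    (hf1 : LocP @Flat f) (hf2 : LocP @LocallyOfFinitePresentation f) : IsUnivOpenMor f := by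
  intro Z Z' hZ k a b sq
  have hZ' : IsAlgSpace Z' :=
    Groth.Agent.Helper4.AlgSpPB.isAlgSpace_of_isPullback hY.diag hX hZ f k a b sq
  have hG1 : Good (@Flat : MorphismProperty Scheme.{u}) := good_flat
  have hG2 : Good (@LocallyOfFinitePresentation : MorphismProperty Scheme.{u}) := good_lfp
  have hs1 : LocP @Flat b := by
    have := hG1.bc
    have := hG1.comp
    exact Groth.Agent.Helper4.AlgSpLocPBC.locP_of_isPullback @Flat hG1.etale_le hG1.sd hX hY
      f k _ _ sq hf1
  have hs2 : LocP @LocallyOfFinitePresentation b := by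
    have := hG2.bc
    have := hG2.comp
    exact Groth.Agent.Helper4.AlgSpLocPBC.locP_of_isPullback @LocallyOfFinitePresentation
      hG2.etale_le hG2.sd hX hY f k _ _ sq hf2
  exact isOpenMor_of_flat_lfp hZ' hZ b hs1 hs2

theorem isOpenMap_of_jointly {A B : Sp S} (b : A ⟶ B) {ι : Type u} (Ai : ι → Sp S)
    (π : ∀ i, Ai i ⟶ A) (hsurj : ∀ x : Points A, ∃ i, x ∈ Set.range (Points.map (π i)))
    (h : ∀ i, IsOpenMap (Points.map (π i ≫ b))) : IsOpenMap (Points.map b) := by
  intro W hW
  have key : Points.map b '' W = ⋃ i, Points.map (π i ≫ b) '' (Points.map (π i) ⁻¹' W) := by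
    ext y
    simp only [Set.mem_image, Set.mem_iUnion, Set.mem_preimage]
    constructor
    · rintro ⟨x, hx, rfl⟩
      obtain ⟨i, xi, rfl⟩ := hsurj x
      exact ⟨i, xi, hx, Points.map_comp _ _ _⟩
    · rintro ⟨i, xi, hx, rfl⟩
      exact ⟨_, hx, (Points.map_comp _ _ _).symm⟩
  rw [key]
  exact isOpen_iUnion fun i => h i _ (hW.preimage (Points.continuous_map _))

theorem isLocalOnSource_fppf_isOpenMor :
    IsLocalOnSource (IsFppfCover (S := S)) IsOpenMor := by
  intro ι X Xi g hX hXi hcov Y f hY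
  constructor
  · intro hf i
    have hg : IsOpenMap (Points.map (g i)) :=
      isOpenMor_of_flat_lfp (hXi i) hX (g i) (hcov.1 i).1 (hcov.1 i).2
    have : Points.map (g i ≫ f) = Points.map f ∘ Points.map (g i) := by
      funext x; exact Points.map_comp _ _ x
    show IsOpenMap (Points.map (g i ≫ f))
    rw [this]
    exact IsOpenMap.comp hf hg
  · intro h
    exact isOpenMap_of_jointly f Xi g hcov.2 h

theorem isLocalOnSource_fppf_isUnivOpenMor :
    IsLocalOnSource (IsFppfCover (S := S)) IsUnivOpenMor := by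
  intro ι X Xi g hX hXi hcov Y f hY
  constructor
  · intro hf i
    exact Groth.Agent.Helper4.AlgSpSrc.isUnivOpenMor_comp hX hY.diag (g i) f
      (isUnivOpenMor_of_flat_lfp (hXi i) hX (g i) (hcov.1 i).1 (hcov.1 i).2) hf
  · intro h Z Z' hZ k a b sq
    refine isOpenMap_of_jointly b (fun i => pullback (g i) a) (fun i => pullback.snd (g i) a)
      (fun x => ?_) (fun i => ?_)
    · obtain ⟨i, xi, hxi⟩ := hcov.2 (Points.map a x)
      obtain ⟨p, -, hp⟩ := exists_point_of_isPullback (IsPullback.of_hasPullback (g i) a) xi x hxi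
      exact ⟨i, p, hp⟩
    · have sqi : IsPullback (pullback.fst (g i) a) (pullback.snd (g i) a) (g i) a :=
        IsPullback.of_hasPullback _ _
      have big : IsPullback (pullback.fst (g i) a) (pullback.snd (g i) a ≫ b) (g i ≫ f) k :=
        (sqi.flip.paste_horiz sq.flip).flip
      exact h i hZ k _ _ big

end Groth.Agent.Helper5.SrcOpen
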