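import Groth.Agent.Helper5.IsoNatFp1
import Groth.Agent.Helper6.OpenSub4
import Mathlib

set_option autoImplicit false
set_option linter.style.haveILetI false
set_option linter.unusedSectionVars false
set_option linter.unusedVariables false
universe u
open CategoryTheory CategoryTheory.Limits AlgebraicGeometry Opposite

namespace Groth.Agent.Helper5.IsoNatOpen

open Functor FibCat IsoNat Groth.Agent.Helper3 Groth.Agent.Helper6.FpTools
  Groth.Agent.Helper6.AlgStPts Groth.Agent.Helper5.IsoNatFp Groth.Agent.Helper6.OpenSub3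

variable {S : Scheme.{u}} {𝒴 : AlgSt.Cat S} (W : ∀ T : Over S, Set (IsoCl 𝒴 T))

/-- the objects whose class lies in `W` -/
def QW : 𝒴.obj → Prop :=
  fun η => cls (⟨η, rfl⟩ : 𝒴.p.Fiber (𝒴.p.obj η)) ∈ W (𝒴.p.obj η)

theorem QW_fiber {T : Over S} (x : 𝒴.p.Fiber T) : QW W x.1 ↔ cls x ∈ W T := by
  obtain ⟨η, rfl⟩ := x
  rfl

/-- a section of an open immersion containing all points -/
theorem exists_section {X : Scheme.{u}} (V : X.Opens) (h : ∀ t : X, t ∈ V) :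
    ∃ g : X ⟶ ↑V, g ≫ V.ι = 𝟙 X := by
  refine ⟨IsOpenImmersion.lift V.ι (𝟙 X) ?_, IsOpenImmersion.lift_fac _ _ _⟩
  rw [Scheme.Opens.range_ι]
  rintro t -
  exact h t

theorem mem_of_factor {X : Scheme.{u}} (V : X.Opens) (t : X)
    (g : Spec (X.residueField t) ⟶ ↑V) (hg : g ≫ V.ι = X.fromSpecResidueField t) : t ∈ V := by
  obtain ⟨s⟩ : Nonempty (Spec (X.residueField t)) := inferInstance
  have h1 : X.fromSpecResidueField t s = t := Scheme.fromSpecResidueField_apply _ _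
  rw [← h1, ← hg]
  exact (g s).2

theorem factor_of_mem {X : Scheme.{u}} (V : X.Opens) (t : X) (ht : t ∈ V) :
    ∃ g : Spec (X.residueField t) ⟶ ↑V, g ≫ V.ι = X.fromSpecResidueField t := by
  refine ⟨IsOpenImmersion.lift V.ι (X.fromSpecResidueField t) ?_, IsOpenImmersion.lift_fac _ _ _⟩
  rw [Scheme.Opens.range_ι]
  rintro _ ⟨s, rfl⟩
  rw [Scheme.fromSpecResidueField_apply]
  exact ht

section

variable (hWpull : ∀ (T' T : Over S) (g : T' ⟶ T) (x' : 𝒴.p.Fiber T') (x : 𝒴.p.Fiber T)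
    (a : x'.1 ⟶ x.1), 𝒴.p.IsHomLift g a → cls x ∈ W T → cls x' ∈ W T')
  (hWopen : ∀ (T : Over S) (x : 𝒴.p.Fiber T), ∃ V : T.left.Opens,
      ∀ (T' : Over S) (g : T' ⟶ T) (x' : 𝒴.p.Fiber T') (a : x'.1 ⟶ x.1), 𝒴.p.IsHomLift g a →
        (cls x' ∈ W T' ↔ ∃ g' : T'.left ⟶ ↑V, g' ≫ V.ι = g.left))

include hWpull in
theorem QW_of_hom {x' x : 𝒴.obj} (a : x' ⟶ x) (h : QW W x) : QW W x' :=
  hWpull _ _ (𝒴.p.map a) ⟨x', rfl⟩ ⟨x, rfl⟩ a inferInstance h

include hWopen in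
/-- descent of `QW` along field extensions -/
theorem QW_of_field (r q : AlgSt.FPt 𝒴) (a : r.obj ⟶ q.obj) (h : QW W r.obj) : QW W q.obj := by
  let T : Over S := Over.mk q.str
  let x : 𝒴.p.Fiber T := ⟨q.obj, q.lies⟩
  obtain ⟨V, hV⟩ := hWopen T x
  let g : Over.mk r.str ⟶ T := baseHom a r.lies q.lies
  let x' : 𝒴.p.Fiber (Over.mk r.str) := ⟨r.obj, r.lies⟩
  have hx' : cls x' ∈ W (Over.mk r.str) := (QW_fiber W x').1 h
  obtain ⟨g', hg'⟩ := (hV _ g x' a inferInstance).1 hx'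
  have hall : ∀ t : T.left, t ∈ V := by
    intro t
    obtain ⟨s⟩ : Nonempty (Spec (CommRingCat.of r.K)) := inferInstance
    have : V.ι (g' s) = t := Subsingleton.elim (α := Spec (CommRingCat.of q.K)) _ _
    rw [← this]
    exact (g' s).2
  obtain ⟨g'', hg''⟩ := exists_section V hall
  have h2 : cls x ∈ W T := (hV T (𝟙 T) x (𝟙 _) (IsHomLift.id q.lies)).2 ⟨g'', hg''⟩
  exact (QW_fiber W x).2 h2

/-- the set of points with class in `W` -/
def TW : Set (AlgSt.Points 𝒴) :=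
  {P | ∀ p : AlgSt.FPt 𝒴, AlgSt.Points.mk p = P → QW W p.obj}

include hWpull hWopen in
theorem mem_TW_iff (h𝒴 : IsFibGrpd 𝒴.p) (p : AlgSt.FPt 𝒴) :
    AlgSt.Points.mk p ∈ TW W ↔ QW W p.obj := by
  constructor
  · intro h
    exact h p rfl
  · intro h p₂ hp₂
    rw [mk_eq_mk_iff h𝒴] at hp₂
    obtain ⟨r, a, b, -⟩ := hp₂
    exact QW_of_field W hWopen r p₂ a (QW_of_hom W hWpull b h)

include hWpull hWopen in
theorem QW_iff_QT (h𝒴 : IsFibGrpd 𝒴.p) (η : 𝒴.obj) : QW W η ↔ QT (TW W) η := by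
  constructor
  · intro h p ⟨φ⟩
    exact (mem_TW_iff W hWpull hWopen h𝒴 p).2 (QW_of_hom W hWpull φ h)
  · intro h
    let T₀ : Over S := 𝒴.p.obj η
    let x : 𝒴.p.Fiber T₀ := ⟨η, rfl⟩
    obtain ⟨V, hV⟩ := hWopen T₀ x
    have hall : ∀ t : T₀.left, t ∈ V := by
      intro t
      let σ : Over.mk (T₀.left.fromSpecResidueField t ≫ T₀.hom) ⟶ T₀ :=
        Over.homMk (T₀.left.fromSpecResidueField t) rfl
      obtain ⟨ηt, ψ, hψ⟩ := FibGrpd.exists_lift' h𝒴 (rfl : 𝒴.p.obj η = T₀) σ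
      haveI := hψ
      let p : AlgSt.FPt 𝒴 :=
        { K := ↥(T₀.left.residueField t)
          str := T₀.left.fromSpecResidueField t ≫ T₀.hom
          obj := ηt
          lies := IsHomLift.domain_eq 𝒴.p σ ψ }
      have h1 : QW W ηt := (mem_TW_iff W hWpull hWopen h𝒴 p).1 (h p ⟨ψ⟩)
      let x' : 𝒴.p.Fiber (Over.mk (T₀.left.fromSpecResidueField t ≫ T₀.hom)) :=
        ⟨ηt, IsHomLift.domain_eq 𝒴.p σ ψ⟩
      obtain ⟨g', hg'⟩ := (hV _ σ x' ψ hψ).1 ((QW_fiber W x').1 h1)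
      exact mem_of_factor V t g' hg'
    obtain ⟨g'', hg''⟩ := exists_section V hall
    exact (hV T₀ (𝟙 T₀) x (𝟙 _) (IsHomLift.id rfl)).2 ⟨g'', hg''⟩

include hWpull hWopen in
theorem isOpen_TW (h𝒴 : IsFibGrpd 𝒴.p) : IsOpen (TW W) := by
  rw [AlgSt.Points.isOpen_iff]
  intro U x hx
  let xf : 𝒴.p.Fiber U := ⟨x.obj (Over.mk (𝟙 U)), x.w_obj _⟩
  obtain ⟨V, hV⟩ := hWopen U xf
  have : AlgSt.Points.ofChart x ⁻¹' TW W = (V : Set U.left) := by
    ext t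
    let σ : Over.mk (U.left.fromSpecResidueField t ≫ U.hom) ⟶ U :=
      Over.homMk (U.left.fromSpecResidueField t) rfl
    let m : (Over.mk σ : Over U) ⟶ Over.mk (𝟙 U) := Over.homMk σ (Category.comp_id _)
    let p : AlgSt.FPt 𝒴 :=
      { K := ↥(U.left.residueField t)
        str := U.left.fromSpecResidueField t ≫ U.hom
        obj := x.obj (Over.mk σ)
        lies := x.w_obj _ }
    have hm : 𝒴.p.IsHomLift σ (x.map m) := by
      haveI : (overCat U).p.IsHomLift σ m := by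
        change (overCat U).p.IsHomLift ((overCat U).p.map m) m
        infer_instance
      infer_instance
    let x' : 𝒴.p.Fiber (Over.mk (U.left.fromSpecResidueField t ≫ U.hom)) :=
      ⟨x.obj (Over.mk σ), x.w_obj _⟩
    have h1 : t ∈ AlgSt.Points.ofChart x ⁻¹' TW W ↔ AlgSt.Points.mk p ∈ TW W := Iff.rfl
    rw [h1, mem_TW_iff W hWpull hWopen h𝒴 p]
    change QW W x'.1 ↔ _
    rw [QW_fiber W x', hV _ σ x' (x.map m) hm]
    constructor
    · rintro ⟨g', hg'⟩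
      exact mem_of_factor V t g' hg'
    · intro ht
      exact factor_of_mem V t ht
  rw [this]
  exact V.2

end

/-- S15492 -/
theorem s15492 (h𝒴 : AlgSt.IsAlgStack Scheme.fppfPrecoverage 𝒴)
    (hWpull : ∀ (T' T : Over S) (g : T' ⟶ T) (x' : 𝒴.p.Fiber T') (x : 𝒴.p.Fiber T)
      (a : x'.1 ⟶ x.1), 𝒴.p.IsHomLift g a → cls x ∈ W T → cls x' ∈ W T')
    (hWopen : ∀ (T : Over S) (x : 𝒴.p.Fiber T), ∃ V : T.left.Opens,
      ∀ (T' : Over S) (g : T' ⟶ T) (x' : 𝒴.p.Fiber T') (a : x'.1 ⟶ x.1), 𝒴.p.IsHomLift g a →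
        (cls x' ∈ W T' ↔ ∃ g' : T'.left ⟶ ↑V, g' ≫ V.ι = g.left)) :
    AlgSt.IsOpenSubstack 𝒴 (QW W) Scheme.fppfPrecoverage := by
  have h1 : QW W = QT (TW W) := by
    funext η
    exact propext (QW_iff_QT W hWpull hWopen h𝒴.isStack.1 η)
  rw [h1]
  exact Groth.Agent.Helper6.OpenSub4.isOpenSubstack_QT (TW W) h𝒴
    (isOpen_TW W hWpull hWopen h𝒴.isStack.1)

end Groth.Agent.Helper5.IsoNatOpen
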