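import Groth.Agent.Helper5.IsoNatQc2
import Mathlib

set_option autoImplicit false
set_option linter.style.haveILetI false
set_option linter.unusedSectionVars false
set_option linter.unusedVariables false
universe u
open CategoryTheory CategoryTheory.Limits AlgebraicGeometry Opposite

namespace Groth.Agent.Helper5.IsoNatPts

open Functor FibCat IsoNat Groth.Agent.Helper3 Groth.Agent.Helper6.FpTools
  Groth.Agent.Helper6.AlgStPts Groth.Agent.Helper5.IsoNatFp Groth.Agent.Helper5.IsoNatSurj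
  Groth.Agent.Helper5.IsoNatQc

variable {S : Scheme.{u}} {𝒳 𝒴 : AlgSt.Cat S}

/-- the fibre object of a field-valued point -/
def fptFib (p : AlgSt.FPt 𝒳) : 𝒳.p.Fiber (Over.mk p.str) := ⟨p.obj, p.lies⟩

/-- the field-valued point of a fibre object over a spectrum -/
def fibFpt (p : AlgSt.FPt 𝒳) (y : 𝒴.p.Fiber (Over.mk p.str)) : AlgSt.FPt 𝒴 :=
  { K := p.K, str := p.str, obj := y.1, lies := y.2 }

/-- the image of a field-valued point -/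
noncomputable def ptMap (φ : FIso 𝒳 𝒴) (p : AlgSt.FPt 𝒳) : AlgSt.FPt 𝒴 :=
  fibFpt p (Quotient.out (φ.toEquiv (Over.mk p.str) (cls (fptFib p))))

theorem ptMap_spec (φ : FIso 𝒳 𝒴) (p : AlgSt.FPt 𝒳) :
    φ.toEquiv (Over.mk p.str) (cls (fptFib p)) =
      cls (Quotient.out (φ.toEquiv (Over.mk p.str) (cls (fptFib p)))) :=
  (Quotient.out_eq _).symm

theorem mk_eq_of_cls_eq (p : AlgSt.FPt 𝒳) (y y' : 𝒴.p.Fiber (Over.mk p.str))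
    (h : cls y = cls y') : AlgSt.Points.mk (fibFpt p y) = AlgSt.Points.mk (fibFpt p y') := by
  obtain ⟨ε, -⟩ := exists_iso_of_cls_eq _ _ h
  exact AlgSt.Points.sound ⟨fibFpt p y, 𝟙 _, ε.hom, trivial⟩

theorem ptMap_rel (φ : FIso 𝒳 𝒴) {p q : AlgSt.FPt 𝒳} (h : AlgSt.FPt.Rel p q) :
    AlgSt.FPt.Rel (ptMap φ p) (ptMap φ q) := by
  obtain ⟨r, a, b, -⟩ := h
  let ga : Over.mk r.str ⟶ Over.mk p.str := baseHom a r.lies p.lies
  let gb : Over.mk r.str ⟶ Over.mk q.str := baseHom b r.lies q.lies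
  obtain ⟨y₁', y₁, b₁, hb₁, h11, h12⟩ := φ.natural ga (fptFib r) (fptFib p) a
    (baseHom_isHomLift a r.lies p.lies)
  obtain ⟨y₂', y₂, b₂, hb₂, h21, h22⟩ := φ.natural gb (fptFib r) (fptFib q) b
    (baseHom_isHomLift b r.lies q.lies)
  obtain ⟨ε₁, -⟩ := exists_iso_of_cls_eq _ _ (h12.symm.trans (ptMap_spec φ p))
  obtain ⟨ε₂, -⟩ := exists_iso_of_cls_eq _ _ (h22.symm.trans (ptMap_spec φ q))
  obtain ⟨ε, -⟩ := exists_iso_of_cls_eq _ _ (h11.symm.trans h21)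
  exact ⟨fibFpt r y₁', b₁ ≫ ε₁.hom, ε.hom ≫ b₂ ≫ ε₂.hom, trivial⟩

/-- the map on points induced by an isomorphism of presheaves of isomorphism classes -/
noncomputable def ptsMap (φ : FIso 𝒳 𝒴) : AlgSt.Points 𝒳 → AlgSt.Points 𝒴 :=
  Quot.lift (fun p => AlgSt.Points.mk (ptMap φ p))
    (fun _ _ h => AlgSt.Points.sound (ptMap_rel φ h))

theorem ptsMap_mk (φ : FIso 𝒳 𝒴) (p : AlgSt.FPt 𝒳) :
    ptsMap φ (AlgSt.Points.mk p) = AlgSt.Points.mk (ptMap φ p) := rfl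

theorem ptsMap_eq (φ : FIso 𝒳 𝒴) (p : AlgSt.FPt 𝒳) (y : 𝒴.p.Fiber (Over.mk p.str))
    (h : φ.toEquiv (Over.mk p.str) (cls (fptFib p)) = cls y) :
    ptsMap φ (AlgSt.Points.mk p) = AlgSt.Points.mk (fibFpt p y) := by
  rw [ptsMap_mk]
  exact mk_eq_of_cls_eq p _ _ ((ptMap_spec φ p).symm.trans h)

/-- the inverse isomorphism of presheaves of isomorphism classes -/
noncomputable def fIsoSymm (h𝒳 : IsFibGrpd 𝒳.p) (h𝒴 : IsFibGrpd 𝒴.p) (φ : FIso 𝒳 𝒴) :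
    FIso 𝒴 𝒳 where
  toEquiv := fun T => (φ.toEquiv T).symm
  natural := by
    intro T' T g y' y b hb
    obtain ⟨x, hx⟩ := Quotient.exists_rep ((φ.toEquiv T).symm (cls y))
    change cls x = _ at hx
    obtain ⟨x0, a, ha⟩ := FibGrpd.exists_lift' h𝒳 x.2 g
    let x0f : 𝒳.p.Fiber T' := ⟨x0, IsHomLift.domain_eq 𝒳.p g a⟩
    obtain ⟨y₁', y₁, b₁, hb₁, h1, h2⟩ := φ.natural g x0f x a ha
    have h3 : cls y₁ = cls y := by rw [← h2, hx, Equiv.apply_symm_apply]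
    obtain ⟨ε, hε⟩ := exists_iso_of_cls_eq _ _ h3
    haveI := hb₁
    haveI := hε
    have hbε : 𝒴.p.IsHomLift g (b₁ ≫ ε.hom) := by
      have h4 : 𝒴.p.IsHomLift (g ≫ 𝟙 T) (b₁ ≫ ε.hom) := inferInstance
      rw [Category.comp_id] at h4
      exact h4
    obtain ⟨χ, hχ, -⟩ := exists_fill h𝒴 g g (𝟙 _) (Category.id_comp _) (b₁ ≫ ε.hom) b hbε hb
    haveI := hχ
    haveI : IsIso χ := FibGrpd.isIso_of_lift_id h𝒴 (U := T') χ
    have h5 : cls y₁' = cls y' := cls_eq_of_iso _ _ (asIso χ) hχ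
    refine ⟨x0f, x, a, ha, ?_, ?_⟩
    · rw [← h5, ← h1, Equiv.symm_apply_apply]
    · exact hx.symm

theorem ptsMap_symm_ptsMap (h𝒳 : IsFibGrpd 𝒳.p) (h𝒴 : IsFibGrpd 𝒴.p) (φ : FIso 𝒳 𝒴)
    (ξ : AlgSt.Points 𝒳) : ptsMap (fIsoSymm h𝒳 h𝒴 φ) (ptsMap φ ξ) = ξ := by
  obtain ⟨p, rfl⟩ := AlgSt.Points.mk_surjective ξ
  rw [ptsMap_mk]
  have h1 := ptsMap_eq (fIsoSymm h𝒳 h𝒴 φ) (ptMap φ p) (fptFib p) (by
    change (φ.toEquiv _).symm (cls (Quotient.out (φ.toEquiv (Over.mk p.str) (cls (fptFib p))))) = _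
    rw [← ptMap_spec, Equiv.symm_apply_apply]
    rfl)
  rw [h1]
  rfl

theorem ptsMap_ptsMap_symm (h𝒳 : IsFibGrpd 𝒳.p) (h𝒴 : IsFibGrpd 𝒴.p) (φ : FIso 𝒳 𝒴)
    (ξ : AlgSt.Points 𝒴) : ptsMap φ (ptsMap (fIsoSymm h𝒳 h𝒴 φ) ξ) = ξ := by
  obtain ⟨p, rfl⟩ := AlgSt.Points.mk_surjective ξ
  rw [ptsMap_mk]
  have h1 := ptsMap_eq φ (ptMap (fIsoSymm h𝒳 h𝒴 φ) p) (fptFib p) (by
    change φ.toEquiv _ (cls (Quotient.out ((φ.toEquiv (Over.mk p.str)).symm (cls (fptFib p))))) = _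
    have h2 : cls (Quotient.out ((φ.toEquiv (Over.mk p.str)).symm (cls (fptFib p)))) =
        (φ.toEquiv (Over.mk p.str)).symm (cls (fptFib p)) := Quotient.out_eq _
    rw [h2, Equiv.apply_symm_apply]
    rfl)
  rw [h1]
  rfl

theorem ptsMap_injective (h𝒳 : IsFibGrpd 𝒳.p) (h𝒴 : IsFibGrpd 𝒴.p) (φ : FIso 𝒳 𝒴) :
    Function.Injective (ptsMap φ) :=
  Function.LeftInverse.injective (ptsMap_symm_ptsMap h𝒳 h𝒴 φ)

theorem ptsMap_surjective (h𝒳 : IsFibGrpd 𝒳.p) (h𝒴 : IsFibGrpd 𝒴.p) (φ : FIso 𝒳 𝒴) :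
    Function.Surjective (ptsMap φ) :=
  Function.RightInverse.surjective (ptsMap_ptsMap_symm h𝒳 h𝒴 φ)

/-- compatibility with charts -/
theorem ptsMap_chart (h𝒴 : IsFibGrpd 𝒴.p) (φ : FIso 𝒳 𝒴) {U : Over S}
    (x : overCat U ⥤ᵇ 𝒳) (ŷ : overCat U ⥤ᵇ 𝒴)
    (hy : φ.toEquiv U (cls (⟨x.obj (Over.mk (𝟙 U)), x.w_obj _⟩ : 𝒳.p.Fiber U)) =
      cls (⟨ŷ.obj (Over.mk (𝟙 U)), ŷ.w_obj _⟩ : 𝒴.p.Fiber U))
    (ν : AlgSt.Points (overCat U)) :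
    ptsMap φ (AlgSt.Points.map x ν) = AlgSt.Points.map ŷ ν := by
  obtain ⟨p₀, rfl⟩ := AlgSt.Points.mk_surjective ν
  rw [AlgSt.Points.map_mk, AlgSt.Points.map_mk]
  have h1 := chart_comm h𝒴 φ x ŷ hy (Over.mk p₀.str) (cls (fptFib p₀))
  exact ptsMap_eq φ (p₀.map x) (fptFib (p₀.map ŷ)) h1

/-- compatibility with a square -/
theorem ptsMap_sq {𝒳' 𝒴' : AlgSt.Cat S} {f : 𝒳 ⥤ᵇ 𝒴} {f' : 𝒳' ⥤ᵇ 𝒴'} (φ : FIsoSq f f')
    (ξ : AlgSt.Points 𝒳) :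
    ptsMap φ.tgt (AlgSt.Points.map f ξ) = AlgSt.Points.map f' (ptsMap φ.src ξ) := by
  obtain ⟨p, rfl⟩ := AlgSt.Points.mk_surjective ξ
  rw [AlgSt.Points.map_mk, ptsMap_mk φ.src, AlgSt.Points.map_mk]
  have h1 := φ.comm (Over.mk p.str) (cls (fptFib p))
  rw [ptMap_spec φ.src p] at h1
  exact ptsMap_eq φ.tgt (p.map f) (fptFib ((ptMap φ.src p).map f')) h1

end Groth.Agent.Helper5.IsoNatPts
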