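import Groth.Agent.Helper6.OpenSub6
import Groth.Agent.Helper6.FpAlgEt
import Groth.Agent.Helper6.QcMor
import Groth.Agent.Helper6.AlgStPts2
import Groth.Agent.Helper5.AffDesc9
import Groth.Agent.S12987
import Groth.Agent.S12847
import Mathlib

set_option autoImplicit false
set_option linter.style.haveILetI false
set_option linter.unusedSectionVars false
set_option linter.unusedVariables false
universe u
open CategoryTheory CategoryTheory.Limits AlgebraicGeometry Opposite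

namespace Groth.Agent.Helper5.IsoNatQc

open Functor FibCat Groth.Agent.Helper3 Groth.Agent.Helper6.FpTools
  Groth.Agent.Helper6.AlgStPts Groth.Agent.Helper6.OpenSub1 Groth.Agent.Helper6.OpenSub2
  Groth.Agent.Helper6.OpenSub3 Groth.Agent.Helper6.OpenSub4
  Groth.Agent.Helper6.StTop Groth.Agent.Helper6.ToSpace Groth.Agent.Helper6.QcMor

variable {S : Scheme.{u}} {𝒳 𝒴 : AlgSt.Cat S}

/-- a compact set of points lies in an open compact set of points -/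
theorem exists_open_compact_superset (h𝒴 : AlgSt.IsAlgStack Scheme.fppfPrecoverage 𝒴)
    (T₀ : Set (AlgSt.Points 𝒴)) (hT₀ : IsCompact T₀) :
    ∃ T : Set (AlgSt.Points 𝒴), IsOpen T ∧ IsCompact T ∧ T₀ ⊆ T := by
  choose V hVo hVc hxV _ using fun P : AlgSt.Points 𝒴 =>
    exists_isOpen_isCompact_nhd h𝒴 P Set.univ isOpen_univ (Set.mem_univ P)
  obtain ⟨s, hs⟩ := hT₀.elim_finite_subcover V hVo (fun P _ => Set.mem_iUnion.2 ⟨P, hxV P⟩)
  exact ⟨⋃ P ∈ s, V P, isOpen_biUnion (fun P _ => hVo P),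
    s.isCompact_biUnion (fun P _ => hVc P), hs⟩

theorem sep_qc_le : (AlgSp.IsSeparatedMor ⊓ AlgSp.IsQuasiCompactMor :
    MorphismProperty (AlgSp.Sp S)) ≤ AlgSp.IsQuasiCompactMor ⊓ AlgSp.IsQuasiSeparatedMor := by
  intro X Y f h
  refine ⟨h.2, ?_⟩
  exact Groth.Agent.Helper5.AffDesc.repWith_of_le
    (fun _ _ g (hg : IsClosedImmersion g) => (inferInstance : QuasiCompact g)) h.1

/-- S15482, the nontrivial direction -/
theorem qcMor_of_open [QuasiSeparatedSpace S]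
    (h𝒳 : AlgSt.IsAlgStack Scheme.fppfPrecoverage 𝒳)
    (h𝒴 : AlgSt.IsAlgStack Scheme.fppfPrecoverage 𝒴)
    (h𝒴d : AlgSt.RepByAlgSpWith (AlgSp.IsSeparatedMor ⊓ AlgSp.IsQuasiCompactMor)
      (FibCat.diag (FibCat.toSelf 𝒴)))
    (f : 𝒳 ⥤ᵇ 𝒴)
    (H : ∀ (𝒴' : AlgSt.Cat S), AlgSt.IsAlgStack Scheme.fppfPrecoverage 𝒴' →
      AlgSt.IsQuasiCompact 𝒴' →
        ∀ (j : 𝒴' ⥤ᵇ 𝒴), AlgSt.IsOpenImm j → AlgSt.IsQuasiCompact (FibCat.fp j f)) :
    AlgSt.IsQuasiCompactMor Scheme.fppfPrecoverage f := by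
  intro 𝒵 h𝒵 h𝒵qc g
  haveI : CompactSpace (AlgSt.Points 𝒵) := (Groth.Agent.S12847.result h𝒵).1 h𝒵qc
  obtain ⟨T, hTo, hTc, hsub⟩ := exists_open_compact_superset h𝒴 _
    (isCompact_range (continuous_points_map h𝒵.isStack.1 h𝒴 g))
  have hQ := isOpenSubstack_QT T h𝒴 hTo
  have h𝒴' : AlgSt.IsAlgStack Scheme.fppfPrecoverage (AlgSt.fullSub 𝒴 (QT T)) := hQ.2.1
  have hemb : Topology.IsOpenEmbedding (AlgSt.Points.map (AlgSt.subIncl 𝒴 (QT T))) :=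
    .of_continuous_injective_isOpenMap
      (continuous_points_map h𝒴'.isStack.1 h𝒴 _)
      (points_map_injective_of_full h𝒴'.isStack.1 h𝒴.isStack.1 _)
      (isOpenMap_of_isOpenImm h𝒴' h𝒴 _ hQ.2.2)
  have hqc' : AlgSt.IsQuasiCompact (AlgSt.fullSub 𝒴 (QT T)) := by
    rw [Groth.Agent.S12847.result h𝒴', ← isCompact_univ_iff, hemb.isInducing.isCompact_iff,
      Set.image_univ, range_subIncl_QT]
    exact hTc
  have hland : ∀ a, QT T (g.obj a) :=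
    (QT_obj_iff T h𝒵.isStack.1 h𝒴.isStack.1 g).2 (fun q => hsub ⟨q, rfl⟩)
  let g' : 𝒵 ⥤ᵇ AlgSt.fullSub 𝒴 (QT T) := liftSub (QT T) g hland
  let j : AlgSt.fullSub 𝒴 (QT T) ⥤ᵇ 𝒴 := AlgSt.subIncl 𝒴 (QT T)
  have h𝒲qc : AlgSt.IsQuasiCompact (fp j f) := H _ h𝒴' hqc' j hQ.2.2
  have h𝒲 : AlgSt.IsAlgStack Scheme.fppfPrecoverage (fp j f) :=
    Groth.Agent.Helper6.FpAlgEt.isAlgStack_fp_gen _ h𝒴' h𝒳 h𝒴 j f
  have hqs : AlgSt.IsQuasiSeparatedOver 𝒴 := repByAlgSpWith_mono sep_qc_le h𝒴d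
  have hk : AlgSt.IsQuasiCompactMor Scheme.fppfPrecoverage (BasedFunctor.comp (fpFst j f) j) :=
    Groth.Agent.S12987.result S (fp j f) 𝒴 h𝒲 h𝒴 _ h𝒲qc hqs
  have h1 : AlgSt.IsQuasiCompact
      (fp (BasedFunctor.comp g' j) (BasedFunctor.comp (fpFst j f) j)) := hk 𝒵 h𝒵 h𝒵qc g
  have h2 : AlgSt.IsQuasiCompact (fp g' (fpFst j f)) :=
    isQuasiCompact_of_isEquivOver' (cmp' g' (fpFst j f) j) (isEquivOver_cmp' _ _ _) h1
  exact isQuasiCompact_of_isEquivOver' (pasteLeft g' j f) (isEquivOver_pasteLeft _ _ _) h2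

end Groth.Agent.Helper5.IsoNatQc
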