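import Groth.Agent.Helper5.IsoNatSurj1
import Groth.Agent.Helper6.QcMor2
import Groth.Agent.Helper6.ToSpace
import Groth.Agent.Helper3.TwoYoneda
import Groth.Agent.S12819
import Groth.Agent.S12858
import Mathlib

set_option autoImplicit false
set_option linter.style.haveILetI false
set_option linter.unusedSectionVars false
set_option linter.unusedVariables false
universe u
open CategoryTheory CategoryTheory.Limits AlgebraicGeometry Opposite

namespace Groth.Agent.Helper5.IsoNatQc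

open Functor FibCat IsoNat Groth.Agent.Helper3 Groth.Agent.Helper6.FpTools
  Groth.Agent.Helper6.AlgStPts Groth.Agent.Helper5.IsoNatFp Groth.Agent.Helper5.IsoNatSurj
  Groth.Agent.Helper6.ToSpace Groth.Agent.Helper6.QcMor2 Groth.Agent.Helper6.StPts

variable {S : Scheme.{u}}

/-- the identity isomorphism of presheaves of isomorphism classes -/
def fIsoRefl (𝒳 : AlgSt.Cat S) : FIso 𝒳 𝒳 where
  toEquiv := fun T => Equiv.refl _
  natural := fun g x' x a h => ⟨x', x, a, h, rfl, rfl⟩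

/-- the square attached to a chart and the corresponding object -/
theorem chart_comm {𝒳 𝒴 : AlgSt.Cat S} (h𝒴 : IsFibGrpd 𝒴.p) (φ : FIso 𝒳 𝒴) {U : Over S}
    (x : overCat U ⥤ᵇ 𝒳) (ŷ : overCat U ⥤ᵇ 𝒴)
    (hy : φ.toEquiv U (cls (⟨x.obj (Over.mk (𝟙 U)), x.w_obj _⟩ : 𝒳.p.Fiber U)) =
      cls (⟨ŷ.obj (Over.mk (𝟙 U)), ŷ.w_obj _⟩ : 𝒴.p.Fiber U))
    (T : Over S) (c : IsoCl (overCat U) T) :
    φ.toEquiv T (mapCls x T c) = mapCls ŷ T c := by
  induction c using Quotient.inductionOn with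
  | h t =>
    obtain ⟨t1, rfl⟩ := t
    let m : t1 ⟶ Over.mk (𝟙 U) := Over.homMk t1.hom (Category.comp_id _)
    let g : (overCat U).p.obj t1 ⟶ U := t1.hom
    have hm : (overCat U).p.IsHomLift g m := by
      change (overCat U).p.IsHomLift ((overCat U).p.map m) m
      infer_instance
    haveI := hm
    have hxm : 𝒳.p.IsHomLift g (x.map m) := inferInstance
    have hym : 𝒴.p.IsHomLift g (ŷ.map m) := inferInstance
    obtain ⟨y₁, y₂, b, hb, h1, h2⟩ := φ.natural g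
      (⟨x.obj t1, x.w_obj _⟩ : 𝒳.p.Fiber ((overCat U).p.obj t1))
      (⟨x.obj (Over.mk (𝟙 U)), x.w_obj _⟩ : 𝒳.p.Fiber U) (x.map m) hxm
    obtain ⟨ε, hε⟩ := exists_iso_of_cls_eq _ _ (h2.symm.trans hy)
    haveI := hb
    haveI := hε
    have hbε : 𝒴.p.IsHomLift g (b ≫ ε.hom) := by
      have h3 : 𝒴.p.IsHomLift (g ≫ 𝟙 U) (b ≫ ε.hom) := inferInstance
      rw [Category.comp_id] at h3
      exact h3
    obtain ⟨χ, hχ, -⟩ := exists_fill h𝒴 g g (𝟙 _) (Category.id_comp _) (b ≫ ε.hom) (ŷ.map m)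
      hbε hym
    haveI := hχ
    haveI : IsIso χ := FibGrpd.isIso_of_lift_id h𝒴 (U := (overCat U).p.obj t1) χ
    change φ.toEquiv _ (cls (⟨x.obj t1, x.w_obj _⟩ : 𝒳.p.Fiber ((overCat U).p.obj t1))) =
      cls (⟨ŷ.obj t1, ŷ.w_obj _⟩ : 𝒴.p.Fiber ((overCat U).p.obj t1))
    rw [h1]
    exact cls_eq_of_iso _ _ (asIso χ) hχ

/-- S15472 -/
theorem s15472 {𝒳 𝒴 : AlgSt.Cat S}
    (h𝒳 : AlgSt.IsAlgStack Scheme.fppfPrecoverage 𝒳)
    (h𝒴 : AlgSt.IsAlgStack Scheme.fppfPrecoverage 𝒴)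
    (φ : FIso 𝒳 𝒴) (hqc : AlgSt.IsQuasiCompact 𝒳) : AlgSt.IsQuasiCompact 𝒴 := by
  obtain ⟨U, x, hU, hxs, hxsurj⟩ := hqc
  let xf : 𝒳.p.Fiber U := ⟨x.obj (Over.mk (𝟙 U)), x.w_obj _⟩
  obtain ⟨y, hy⟩ := Quotient.exists_rep (φ.toEquiv U (cls xf))
  haveI := TwoYoneda.evalAtId_isEquivalence_of_isFibGrpd U h𝒴.isStack.1
  obtain ⟨ŷ, ⟨j₀⟩⟩ := Functor.EssSurj.mem_essImage (F := FibCat.evalAtId 𝒴 U) y
  have hy' : φ.toEquiv U (cls xf) =
      cls (⟨ŷ.obj (Over.mk (𝟙 U)), ŷ.w_obj _⟩ : 𝒴.p.Fiber U) := by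
    have h4 : cls ((FibCat.evalAtId 𝒴 U).obj ŷ) = cls y :=
      Quotient.sound (s := isIsomorphicSetoid (𝒴.p.Fiber U))
        (show IsIsomorphic ((FibCat.evalAtId 𝒴 U).obj ŷ) y from ⟨j₀⟩)
    change _ = cls ((FibCat.evalAtId 𝒴 U).obj ŷ)
    rw [h4]
    exact hy.symm
  let sq : FIsoSq x ŷ :=
    { src := fIsoRefl _
      tgt := φ
      comm := fun T c => chart_comm h𝒴.isStack.1 φ x ŷ hy' T c }
  have hx1 : AlgSt.RepByAlgSp1 x := repByAlgSp1_of_with hxs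
  have hsx : AlgSt.IsSurjective x :=
    (Groth.Agent.S12819.result (isAlgStack_overCat U) h𝒳 x hx1).2 hxsurj
  have hsy : AlgSt.IsSurjective ŷ := s15487 (isFibGrpd_overCat U) h𝒳.isStack.1 x ŷ sq hsx
  haveI := hU
  haveI : CompactSpace ↥U.left := inferInstance
  exact Groth.Agent.S12858.result (isAlgStack_overCat U) h𝒴 ŷ hsy (isQuasiCompact_overCat U)

end Groth.Agent.Helper5.IsoNatQc
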