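import Groth.Agent.Helper5.IsoNatPts1
import Groth.Agent.Helper5.IsoNatQc1
import Mathlib

set_option autoImplicit false
set_option linter.style.haveILetI false
set_option linter.unusedSectionVars false
set_option linter.unusedVariables false
universe u
open CategoryTheory CategoryTheory.Limits AlgebraicGeometry Opposite

namespace Groth.Agent.Helper5.IsoNatQc

open Functor FibCat IsoNat Groth.Agent.Helper3 Groth.Agent.Helper6.FpTools
  Groth.Agent.Helper6.AlgStPts Groth.Agent.Helper6.OpenSub1 Groth.Agent.Helper6.OpenSub2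
  Groth.Agent.Helper6.OpenSub3 Groth.Agent.Helper6.OpenSub4
  Groth.Agent.Helper6.StTop Groth.Agent.Helper6.ToSpace Groth.Agent.Helper6.QcMor
  Groth.Agent.Helper6.QcMor2 Groth.Agent.Helper6.StPts
  Groth.Agent.Helper5.IsoNatFp Groth.Agent.Helper5.IsoNatSurj Groth.Agent.Helper5.IsoNatPts

variable {S : Scheme.{u}}

/-- the open substack attached to an open compact set of points is quasi-compact -/
theorem isQuasiCompact_fullSub_QT {𝒴 : AlgSt.Cat S}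
    (h𝒴 : AlgSt.IsAlgStack Scheme.fppfPrecoverage 𝒴) (T : Set (AlgSt.Points 𝒴)) (hTo : IsOpen T)
    (hTc : IsCompact T) : AlgSt.IsQuasiCompact (AlgSt.fullSub 𝒴 (QT T)) := by
  have hQ := isOpenSubstack_QT T h𝒴 hTo
  have h𝒴' : AlgSt.IsAlgStack Scheme.fppfPrecoverage (AlgSt.fullSub 𝒴 (QT T)) := hQ.2.1
  have hemb : Topology.IsOpenEmbedding (AlgSt.Points.map (AlgSt.subIncl 𝒴 (QT T))) :=
    .of_continuous_injective_isOpenMap
      (continuous_points_map h𝒴'.isStack.1 h𝒴 _)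
      (points_map_injective_of_full h𝒴'.isStack.1 h𝒴.isStack.1 _)
      (isOpenMap_of_isOpenImm h𝒴' h𝒴 _ hQ.2.2)
  rw [Groth.Agent.S12847.result h𝒴', ← isCompact_univ_iff, hemb.isInducing.isCompact_iff,
    Set.image_univ, range_subIncl_QT]
  exact hTc

/-- refined form of the criterion for quasi-compact morphisms -/
theorem qcMor_of_open' [QuasiSeparatedSpace S] {𝒳 𝒴 : AlgSt.Cat S}
    (h𝒳 : AlgSt.IsAlgStack Scheme.fppfPrecoverage 𝒳)
    (h𝒴 : AlgSt.IsAlgStack Scheme.fppfPrecoverage 𝒴)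
    (h𝒴d : AlgSt.RepByAlgSpWith (AlgSp.IsSeparatedMor ⊓ AlgSp.IsQuasiCompactMor)
      (FibCat.diag (FibCat.toSelf 𝒴)))
    (f : 𝒳 ⥤ᵇ 𝒴)
    (H : ∀ T : Set (AlgSt.Points 𝒴), IsOpen T → IsCompact T →
      AlgSt.IsQuasiCompact (FibCat.fp (AlgSt.subIncl 𝒴 (QT T)) f)) :
    AlgSt.IsQuasiCompactMor Scheme.fppfPrecoverage f := by
  intro 𝒵 h𝒵 h𝒵qc g
  haveI : CompactSpace (AlgSt.Points 𝒵) := (Groth.Agent.S12847.result h𝒵).1 h𝒵qc
  obtain ⟨T, hTo, hTc, hsub⟩ := exists_open_compact_superset h𝒴 _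
    (isCompact_range (continuous_points_map h𝒵.isStack.1 h𝒴 g))
  have hQ := isOpenSubstack_QT T h𝒴 hTo
  have h𝒴' : AlgSt.IsAlgStack Scheme.fppfPrecoverage (AlgSt.fullSub 𝒴 (QT T)) := hQ.2.1
  have hland : ∀ a, QT T (g.obj a) :=
    (QT_obj_iff T h𝒵.isStack.1 h𝒴.isStack.1 g).2 (fun q => hsub ⟨q, rfl⟩)
  let g' : 𝒵 ⥤ᵇ AlgSt.fullSub 𝒴 (QT T) := liftSub (QT T) g hland
  let j : AlgSt.fullSub 𝒴 (QT T) ⥤ᵇ 𝒴 := AlgSt.subIncl 𝒴 (QT T)
  have h𝒲qc : AlgSt.IsQuasiCompact (fp j f) := H T hTo hTc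
  have h𝒲 : AlgSt.IsAlgStack Scheme.fppfPrecoverage (fp j f) :=
    Groth.Agent.Helper6.FpAlgEt.isAlgStack_fp_gen _ h𝒴' h𝒳 h𝒴 j f
  have hqs : AlgSt.IsQuasiSeparatedOver 𝒴 := repByAlgSpWith_mono sep_qc_le h𝒴d
  have hk : AlgSt.IsQuasiCompactMor Scheme.fppfPrecoverage (BasedFunctor.comp (fpFst j f) j) :=
    Groth.Agent.S12987.result S (fp j f) 𝒴 h𝒲 h𝒴 _ h𝒲qc hqs
  have h1 : AlgSt.IsQuasiCompact
      (fp (BasedFunctor.comp g' j) (BasedFunctor.comp (fpFst j f) j)) := hk 𝒵 h𝒵 h𝒵qc g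
  have h2 : AlgSt.IsQuasiCompact (fp g' (fpFst j f)) :=
    isQuasiCompact_of_isEquivOver' (cmp' g' (fpFst j f) j) (isEquivOver_cmp' _ _ _) h1
  exact isQuasiCompact_of_isEquivOver' (pasteLeft g' j f) (isEquivOver_pasteLeft _ _ _) h2

/-- the second projection of a fibre product along a full functor is full -/
theorem full_fpSnd {𝒳 𝒴 𝒵 : AlgSt.Cat S} (j : 𝒵 ⥤ᵇ 𝒴) (f : 𝒳 ⥤ᵇ 𝒴) [j.toFunctor.Full] :
    (fpSnd j f).toFunctor.Full := by
  refine ⟨fun {z₁ z₂} b => ?_⟩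
  let b' : z₁.obj.snd ⟶ z₂.obj.snd := b
  obtain ⟨c, hc⟩ := j.toFunctor.map_surjective
    (z₁.obj.iso.hom ≫ f.map b' ≫ z₂.obj.iso.inv)
  have key : j.map c ≫ z₂.obj.iso.hom = z₁.obj.iso.hom ≫ f.map b' := by
    change j.toFunctor.map c ≫ _ = _
    rw [hc]
    simp
  exact ⟨ObjectProperty.homMk ⟨c, b', key⟩, rfl⟩

/-- the square of a fibre product commutes on points -/
theorem points_fp_comm {𝒳 𝒴 𝒵 : AlgSt.Cat S} (g : 𝒵 ⥤ᵇ 𝒴) (f : 𝒳 ⥤ᵇ 𝒴)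
    (P : AlgSt.Points (fp g f)) :
    AlgSt.Points.map g (AlgSt.Points.map (fpFst g f) P) =
      AlgSt.Points.map f (AlgSt.Points.map (fpSnd g f) P) := by
  obtain ⟨p, rfl⟩ := AlgSt.Points.mk_surjective P
  rw [AlgSt.Points.map_mk, AlgSt.Points.map_mk, AlgSt.Points.map_mk, AlgSt.Points.map_mk]
  apply AlgSt.Points.sound
  exact ⟨(p.map (fpFst g f)).map g, 𝟙 _, p.obj.obj.iso.hom, trivial⟩

end Groth.Agent.Helper5.IsoNatQc
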