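import Groth.Agent.Helper5.IsoNatQc3
import Mathlib

set_option autoImplicit false
set_option linter.style.haveILetI false
set_option linter.unusedSectionVars false
set_option linter.unusedVariables false
set_option maxHeartbeats 800000
universe u
open CategoryTheory CategoryTheory.Limits AlgebraicGeometry Opposite

namespace Groth.Agent.Helper5.IsoNatQc

open Functor FibCat IsoNat Groth.Agent.Helper3 Groth.Agent.Helper6.FpTools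
  Groth.Agent.Helper6.AlgStPts Groth.Agent.Helper6.OpenSub1 Groth.Agent.Helper6.OpenSub2
  Groth.Agent.Helper6.OpenSub3 Groth.Agent.Helper6.OpenSub4
  Groth.Agent.Helper6.StTop Groth.Agent.Helper6.ToSpace Groth.Agent.Helper6.QcMor
  Groth.Agent.Helper6.QcMor2 Groth.Agent.Helper6.StPts
  Groth.Agent.Helper5.IsoNatFp Groth.Agent.Helper5.IsoNatSurj Groth.Agent.Helper5.IsoNatPts

variable {S : Scheme.{u}}

/-- a chart corresponding to a given object under an isomorphism of presheaves of classes -/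
theorem exists_chart_of_cls {𝒴 𝒴' : AlgSt.Cat S} (h𝒴 : IsFibGrpd 𝒴.p) (ψ : FIso 𝒴 𝒴') {U : Over S}
    (v' : overCat U ⥤ᵇ 𝒴') :
    ∃ ŷ : overCat U ⥤ᵇ 𝒴,
      ψ.toEquiv U (cls (⟨ŷ.obj (Over.mk (𝟙 U)), ŷ.w_obj _⟩ : 𝒴.p.Fiber U)) =
        cls (⟨v'.obj (Over.mk (𝟙 U)), v'.w_obj _⟩ : 𝒴'.p.Fiber U) := by
  obtain ⟨y, hy⟩ := Quotient.exists_rep ((ψ.toEquiv U).symm
    (cls (⟨v'.obj (Over.mk (𝟙 U)), v'.w_obj _⟩ : 𝒴'.p.Fiber U)))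
  change cls y = _ at hy
  haveI := TwoYoneda.evalAtId_isEquivalence_of_isFibGrpd U h𝒴
  obtain ⟨ŷ, ⟨j₀⟩⟩ := Functor.EssSurj.mem_essImage (F := FibCat.evalAtId 𝒴 U) y
  refine ⟨ŷ, ?_⟩
  have h4 : cls ((FibCat.evalAtId 𝒴 U).obj ŷ) = cls y :=
    Quotient.sound (s := isIsomorphicSetoid (𝒴.p.Fiber U))
      (show IsIsomorphic ((FibCat.evalAtId 𝒴 U).obj ŷ) y from ⟨j₀⟩)
  change ψ.toEquiv U (cls ((FibCat.evalAtId 𝒴 U).obj ŷ)) = _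
  rw [h4, hy, Equiv.apply_symm_apply]

/-- S15480 -/
theorem s15480 [QuasiSeparatedSpace S] {𝒳 𝒴 𝒳' 𝒴' : AlgSt.Cat S}
    (h𝒳 : AlgSt.IsAlgStack Scheme.fppfPrecoverage 𝒳)
    (h𝒴 : AlgSt.IsAlgStack Scheme.fppfPrecoverage 𝒴)
    (h𝒳' : AlgSt.IsAlgStack Scheme.fppfPrecoverage 𝒳')
    (h𝒴' : AlgSt.IsAlgStack Scheme.fppfPrecoverage 𝒴')
    (h𝒴'd : AlgSt.RepByAlgSpWith (AlgSp.IsSeparatedMor ⊓ AlgSp.IsQuasiCompactMor)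
      (FibCat.diag (FibCat.toSelf 𝒴')))
    (f : 𝒳 ⥤ᵇ 𝒴) (f' : 𝒳' ⥤ᵇ 𝒴') (φ : FIsoSq f f')
    (hf : AlgSt.IsQuasiCompactMor Scheme.fppfPrecoverage f) :
    AlgSt.IsQuasiCompactMor Scheme.fppfPrecoverage f' := by
  apply qcMor_of_open' h𝒳' h𝒴' h𝒴'd f'
  intro T' hT'o hT'c
  have hQ := isOpenSubstack_QT T' h𝒴' hT'o
  have h𝒴₁ : AlgSt.IsAlgStack Scheme.fppfPrecoverage (AlgSt.fullSub 𝒴' (QT T')) := hQ.2.1
  obtain ⟨U, u', hUaff, hu's, hu'surj⟩ := isQuasiCompact_fullSub_QT h𝒴' T' hT'o hT'c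
  have hu'1 : AlgSt.IsSurjective u' :=
    (Groth.Agent.S12819.result (isAlgStack_overCat U) h𝒴₁ u' (repByAlgSp1_of_with hu's)).2 hu'surj
  let j' : AlgSt.fullSub 𝒴' (QT T') ⥤ᵇ 𝒴' := AlgSt.subIncl 𝒴' (QT T')
  let v' : overCat U ⥤ᵇ 𝒴' := BasedFunctor.comp u' j'
  obtain ⟨ŷ, hŷ⟩ := exists_chart_of_cls h𝒴.isStack.1 φ.tgt v'
  haveI := hUaff
  haveI : CompactSpace ↥U.left := inferInstance
  have h𝒜qc : AlgSt.IsQuasiCompact (fp ŷ f) :=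
    hf (overCat U) (isAlgStack_overCat U) (isQuasiCompact_overCat U) ŷ
  have h𝒜 : AlgSt.IsAlgStack Scheme.fppfPrecoverage (fp ŷ f) :=
    Groth.Agent.Helper6.FpAlgEt.isAlgStack_fp_gen _ (isAlgStack_overCat U) h𝒳 h𝒴 ŷ f
  obtain ⟨U₂, w, hU₂aff, hws, hwsurj⟩ := h𝒜qc
  have hw1 : AlgSt.IsSurjective w :=
    (Groth.Agent.S12819.result (isAlgStack_overCat U₂) h𝒜 w (repByAlgSp1_of_with hws)).2 hwsurj
  let xh₂ : overCat U₂ ⥤ᵇ 𝒳 := BasedFunctor.comp w (fpSnd ŷ f)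
  let x₂f : 𝒳.p.Fiber U₂ := ⟨xh₂.obj (Over.mk (𝟙 U₂)), xh₂.w_obj _⟩
  obtain ⟨x'₂f, hx'₂⟩ := Quotient.exists_rep (φ.src.toEquiv U₂ (cls x₂f))
  change cls x'₂f = _ at hx'₂
  -- the image lies in the open substack
  let th : overCat U₂ ⥤ᵇ overCat U := BasedFunctor.comp w (fpFst ŷ f)
  let tf : (overCat U).p.Fiber U₂ := ⟨th.obj (Over.mk (𝟙 U₂)), th.w_obj _⟩
  have hQ' : QT T' (f'.obj x'₂f.1) := by
    have e1 : cls ((fibFun f' U₂).obj x'₂f) = φ.tgt.toEquiv U₂ (mapCls f U₂ (cls x₂f)) := by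
      rw [φ.comm U₂ (cls x₂f), ← hx'₂]
      rfl
    have e2 : mapCls f U₂ (cls x₂f) = mapCls ŷ U₂ (cls tf) := by
      rw [mapCls_cls, mapCls_cls]
      have hz : (fp ŷ f).p.obj (w.obj (Over.mk (𝟙 U₂))) = U₂ := w.w_obj _
      refine (cls_eq_of_iso _ _ (w.obj (Over.mk (𝟙 U₂))).obj.iso ?_).symm
      exact lift_id_transport hz _ (w.obj (Over.mk (𝟙 U₂))).property
    have e3 := chart_comm h𝒴'.isStack.1 φ.tgt ŷ v' hŷ U₂ (cls tf)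
    rw [e2, e3, mapCls_cls] at e1
    obtain ⟨ε, -⟩ := exists_iso_of_cls_eq _ _ e1
    exact QT_of_hom T' ε.hom (u'.obj tf.1).property
  have hlift : 𝒴'.p.IsHomLift (𝟙 ((AlgSt.fullSub 𝒴' (QT T')).p.obj ⟨f'.obj x'₂f.1, hQ'⟩))
      (Iso.refl (f'.obj x'₂f.1)).hom := IsHomLift.id rfl
  let w'₀ : (fp j' f').obj := ⟨⟨⟨f'.obj x'₂f.1, hQ'⟩, x'₂f.1, Iso.refl _⟩, hlift⟩
  have hw'₀ : (fp j' f').p.obj w'₀ = U₂ := (f'.w_obj x'₂f.1).trans x'₂f.2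
  let w'₀f : (fp j' f').p.Fiber U₂ := ⟨w'₀, hw'₀⟩
  have hℬ : AlgSt.IsAlgStack Scheme.fppfPrecoverage (fp j' f') :=
    Groth.Agent.Helper6.FpAlgEt.isAlgStack_fp_gen _ h𝒴₁ h𝒳' h𝒴' j' f'
  haveI := TwoYoneda.evalAtId_isEquivalence_of_isFibGrpd U₂ hℬ.isStack.1
  obtain ⟨ŵ', ⟨k₀⟩⟩ := Functor.EssSurj.mem_essImage (F := FibCat.evalAtId (fp j' f') U₂) w'₀f
  let xh'₂ : overCat U₂ ⥤ᵇ 𝒳' := BasedFunctor.comp ŵ' (fpSnd j' f')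
  have hxh : φ.src.toEquiv U₂ (cls x₂f) =
      cls (⟨xh'₂.obj (Over.mk (𝟙 U₂)), xh'₂.w_obj _⟩ : 𝒳'.p.Fiber U₂) := by
    rw [← hx'₂]
    refine (cls_eq_of_iso _ _ ((fpSnd j' f').toFunctor.mapIso
      (Functor.Fiber.fiberInclusion.mapIso k₀)) ?_).symm
    haveI : (fp j' f').p.IsHomLift (𝟙 U₂) (Functor.Fiber.fiberInclusion.map k₀.hom) := k₀.hom.2
    change 𝒳'.p.IsHomLift (𝟙 U₂) ((fpSnd j' f').map (Functor.Fiber.fiberInclusion.map k₀.hom))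
    infer_instance
  haveI : CompactSpace ↥U₂.left := by haveI := hU₂aff; infer_instance
  refine Groth.Agent.S12858.result (isAlgStack_overCat U₂) hℬ ŵ' ?_ (isQuasiCompact_overCat U₂)
  intro P'
  obtain ⟨ξ, hξ⟩ := ptsMap_surjective h𝒳.isStack.1 h𝒳'.isStack.1 φ.src
    (AlgSt.Points.map (fpSnd j' f') P')
  obtain ⟨ζ₀, hζ₀⟩ := hu'1 (AlgSt.Points.map (fpFst j' f') P')
  have h2 : ptsMap φ.tgt (AlgSt.Points.map f ξ) = ptsMap φ.tgt (AlgSt.Points.map ŷ ζ₀) := by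
    rw [ptsMap_sq φ ξ, hξ, ← points_fp_comm j' f' P', ← hζ₀, ← points_map_comp,
      ptsMap_chart h𝒴'.isStack.1 φ.tgt ŷ v' hŷ ζ₀]
  have h3 : AlgSt.Points.map ŷ ζ₀ = AlgSt.Points.map f ξ :=
    (ptsMap_injective h𝒴.isStack.1 h𝒴'.isStack.1 φ.tgt h2).symm
  obtain ⟨ω, -, hω⟩ := exists_points_fp h𝒳.isStack.1 h𝒴.isStack.1 (isFibGrpd_overCat U) f ŷ ζ₀ ξ h3
  obtain ⟨ν, hν⟩ := hw1 ω
  refine ⟨ν, ?_⟩
  haveI := full_fpSnd j' f'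
  apply points_map_injective_of_full hℬ.isStack.1 h𝒳'.isStack.1 (fpSnd j' f')
  rw [← points_map_comp, ← ptsMap_chart h𝒳'.isStack.1 φ.src xh₂ xh'₂ hxh ν,
    points_map_comp w (fpSnd ŷ f) ν, hν, hω, hξ]

end Groth.Agent.Helper5.IsoNatQc
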