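import Groth.Agent.Helper5.IsoNatFp1
import Groth.Agent.Helper6.AlgStPts
import Mathlib

set_option autoImplicit false
set_option linter.style.haveILetI false
set_option linter.unusedSectionVars false
set_option linter.unusedVariables false
universe u
open CategoryTheory CategoryTheory.Limits AlgebraicGeometry Opposite

namespace Groth.Agent.Helper5.IsoNatSurj

open Functor FibCat IsoNat Groth.Agent.Helper3 Groth.Agent.Helper6.FpTools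
  Groth.Agent.Helper6.AlgStPts Groth.Agent.Helper5.IsoNatFp

variable {S : Scheme.{u}}

/-- transfer of a morphism `f x ⟶ y` along an isomorphism of the maps of presheaves of
isomorphism classes -/
theorem transfer {𝒳 𝒴 𝒳' 𝒴' : AlgSt.Cat S} {f : 𝒳 ⥤ᵇ 𝒴} {f' : 𝒳' ⥤ᵇ 𝒴'} (φ : FIsoSq f f')
    {T TL : Over S} (g : TL ⟶ T) (y : 𝒴.p.Fiber T) (y' : 𝒴'.p.Fiber T)
    (hy : φ.tgt.toEquiv T (cls y) = cls y') (x : 𝒳.p.Fiber TL) (b : f.obj x.1 ⟶ y.1)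
    (hb : 𝒴.p.IsHomLift g b) :
    ∃ (x' : 𝒳'.p.Fiber TL) (b' : f'.obj x'.1 ⟶ y'.1), 𝒴'.p.IsHomLift g b' ∧
      φ.src.toEquiv TL (cls x) = cls x' := by
  obtain ⟨y₁, y₂, b'', hb'', h1, h2⟩ := φ.tgt.natural g ((fibFun f TL).obj x) y b hb
  obtain ⟨x', hx'⟩ := Quotient.exists_rep (φ.src.toEquiv TL (cls x))
  have hc := φ.comm TL (cls x)
  rw [mapCls_cls, h1] at hc
  change cls y₁ = mapCls f' TL (φ.src.toEquiv TL (cls x)) at hc
  rw [← hx'] at hc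
  change cls y₁ = cls ((fibFun f' TL).obj x') at hc
  obtain ⟨ε₁, hε₁⟩ := exists_iso_of_cls_eq _ _ hc.symm
  obtain ⟨ε₂, hε₂⟩ := exists_iso_of_cls_eq _ _ (h2.symm.trans hy)
  refine ⟨x', ε₁.hom ≫ b'' ≫ ε₂.hom, ?_, hx'.symm⟩
  haveI := hb''
  haveI := hε₁
  haveI := hε₂
  have h3 : 𝒴'.p.IsHomLift (𝟙 TL ≫ g ≫ 𝟙 T) (ε₁.hom ≫ b'' ≫ ε₂.hom) := inferInstance
  rw [Category.id_comp, Category.comp_id] at h3
  exact h3

/-- S15487 -/
theorem s15487 {𝒳 𝒴 𝒳' 𝒴' : AlgSt.Cat S} (h𝒳 : IsFibGrpd 𝒳.p) (h𝒴 : IsFibGrpd 𝒴.p)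
    (f : 𝒳 ⥤ᵇ 𝒴) (f' : 𝒳' ⥤ᵇ 𝒴') (φ : FIsoSq f f') (hf : AlgSt.IsSurjective f) :
    AlgSt.IsSurjective f' := by
  intro P'
  obtain ⟨p', rfl⟩ := AlgSt.Points.mk_surjective P'
  let T : Over S := Over.mk p'.str
  let y' : 𝒴'.p.Fiber T := ⟨p'.obj, p'.lies⟩
  obtain ⟨y, hy⟩ := Quotient.exists_rep ((φ.tgt.toEquiv T).symm (cls y'))
  have hy' : φ.tgt.toEquiv T (cls y) = cls y' := by
    change cls y = _ at hy
    rw [hy, Equiv.apply_symm_apply]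
  let q : AlgSt.FPt 𝒴 := { K := p'.K, str := p'.str, obj := y.1, lies := y.2 }
  obtain ⟨P, hP⟩ := hf (AlgSt.Points.mk q)
  obtain ⟨p, rfl⟩ := AlgSt.Points.mk_surjective P
  rw [AlgSt.Points.map_mk, mk_eq_mk_iff h𝒴] at hP
  obtain ⟨r, a, b, -⟩ := hP
  let TL : Over S := Over.mk r.str
  let ga : TL ⟶ Over.mk p.str := baseHom a r.lies (p.map f).lies
  let gb : TL ⟶ T := baseHom b r.lies y.2
  have ha : 𝒴.p.IsHomLift ga a := inferInstance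
  have hb : 𝒴.p.IsHomLift gb b := inferInstance
  obtain ⟨xL, e, he⟩ := FibGrpd.exists_lift' h𝒳 p.lies ga
  haveI := he
  have hfe : 𝒴.p.IsHomLift ga (f.map e) := inferInstance
  obtain ⟨χ, hχ, -⟩ := exists_fill h𝒴 ga ga (𝟙 TL) (Category.id_comp _) (f.map e) a hfe ha
  haveI := hχ
  haveI := hb
  have hb₀ : 𝒴.p.IsHomLift gb (χ ≫ b) := by
    have h3 : 𝒴.p.IsHomLift (𝟙 TL ≫ gb) (χ ≫ b) := inferInstance
    rw [Category.id_comp] at h3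
    exact h3
  let x : 𝒳.p.Fiber TL := ⟨xL, IsHomLift.domain_eq 𝒳.p ga e⟩
  obtain ⟨x', b', hb', -⟩ := transfer φ gb y y' hy' x (χ ≫ b) hb₀
  let p'' : AlgSt.FPt 𝒳' := { K := r.K, str := r.str, obj := x'.1, lies := x'.2 }
  refine ⟨AlgSt.Points.mk p'', ?_⟩
  rw [AlgSt.Points.map_mk]
  exact AlgSt.Points.sound ⟨p''.map f', 𝟙 _, b', trivial⟩

end Groth.Agent.Helper5.IsoNatSurj
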