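import Mathlib
import Groth.Prelude
import Groth.Agent.Helper5.FibIso4
import Groth.Agent.Helper2.ArtSch

set_option autoImplicit false
universe u

namespace Groth.Agent.Helper5.IsoRep

open CategoryTheory CategoryTheory.Limits AlgebraicGeometry TopologicalSpace Topology
open Groth.Agent.Helper5

variable {X Y S : Scheme.{u}}

/-- the base change of an `S`-morphism is a base change of the morphism -/
theorem isPullback_bc (f : X ⟶ Y) (g : X ⟶ S) (hY : Y ⟶ S) (w : f ≫ hY = g) {S' : Scheme.{u}}
    (h' : S' ⟶ S) (f' : pullback g h' ⟶ pullback hY h')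
    (h1 : f' ≫ pullback.fst hY h' = pullback.fst g h' ≫ f)
    (h2 : f' ≫ pullback.snd hY h' = pullback.snd g h') :
    IsPullback (pullback.fst g h') f' f (pullback.fst hY h') := by
  refine IsPullback.of_bot (v₂₁ := pullback.snd hY h') (v₂₂ := hY) (h₃₁ := h') ?_ h1.symm
    (IsPullback.of_hasPullback hY h')
  rw [h2, w]
  exact IsPullback.of_hasPullback g h'

/-- a base change of `f` along a morphism landing in an open over which `f` is an isomorphism is an
isomorphism -/
theorem isIso_of_isPullback_of_range_subset (f : X ⟶ Y) (V : Y.Opens) [IsIso (f ∣_ V)]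
    {X' Y' : Scheme.{u}} {a : X' ⟶ X} {f' : X' ⟶ Y'} {b : Y' ⟶ Y} (sq : IsPullback a f' f b)
    (hb : Set.range b ⊆ (V : Set Y)) : IsIso f' := by
  have hrange : Set.range b ⊆ Set.range V.ι := by
    rw [Scheme.Opens.range_ι]; exact hb
  let l : Y' ⟶ V.toScheme := IsOpenImmersion.lift V.ι b hrange
  have hl : l ≫ V.ι = b := IsOpenImmersion.lift_fac _ _ _
  have sqR := (isPullback_morphismRestrict f V).flip
  have hw : a ≫ f = (f' ≫ l) ≫ V.ι := by
    rw [Category.assoc, hl]; exact sq.w
  have big : IsPullback (sqR.lift a (f' ≫ l) hw ≫ (f ⁻¹ᵁ V).ι) f' f (l ≫ V.ι) := by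
    rw [sqR.lift_fst, hl]
    exact sq
  have left := IsPullback.of_right big (sqR.lift_snd _ _ hw) sqR
  exact left.isIso_snd_of_isIso

end Groth.Agent.Helper5.IsoRep
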