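import Mathlib
import Groth.Prelude
import Groth.Agent.Helper5.IsoRep1

set_option autoImplicit false
universe u

namespace Groth.Agent.Helper5.IsoRep

open CategoryTheory CategoryTheory.Limits AlgebraicGeometry TopologicalSpace Topology
open Groth.Agent.Helper5

variable {X Y S : Scheme.{u}}

theorem fpqc_residueFieldMap {S' : Scheme.{u}} (h' : S' ⟶ S) (s' : S') :
    (@Surjective ⊓ @Flat ⊓ @QuasiCompact : MorphismProperty Scheme.{u})
      (Spec.map (h'.residueFieldMap s')) := by
  haveI : Subsingleton ↥(Spec (S.residueField (h' s'))) :=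
    inferInstanceAs (Subsingleton (PrimeSpectrum (S.residueField (h' s'))))
  haveI : Nonempty ↥(Spec (S'.residueField s')) :=
    inferInstanceAs (Nonempty (PrimeSpectrum (S'.residueField s')))
  refine ⟨⟨⟨fun x => ⟨Classical.arbitrary _, Subsingleton.elim _ _⟩⟩, inferInstance⟩, inferInstance⟩

set_option backward.isDefEq.respectTransparency false in
/-- if a base change of an `S`-morphism is an isomorphism, the fibre maps over the image points are
isomorphisms -/
theorem isIso_fiberMapOver_of_isIso_bc (f : X ⟶ Y) (g : X ⟶ S) (hY : Y ⟶ S) (w : f ≫ hY = g)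
    {S' : Scheme.{u}} (h' : S' ⟶ S) (f' : pullback g h' ⟶ pullback hY h')
    (h1 : f' ≫ pullback.fst hY h' = pullback.fst g h' ≫ f)
    (h2 : f' ≫ pullback.snd hY h' = pullback.snd g h') [IsIso f'] (s' : S') :
    IsIso (CohIII.fiberMapOver f g hY w (h' s')) := by
  set g' := pullback.snd g h' with hg'
  set hY' := pullback.snd hY h' with hhY'
  have sqF' := FibCI.isPullback_fiberMapOver f' g' hY' h2 s'
  haveI : IsIso (CohIII.fiberMapOver f' g' hY' h2 s') := sqF'.isIso_snd_of_isIso
  have sqY : IsPullback (pullback.fst hY h') hY' hY h' := IsPullback.of_hasPullback hY h'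
  have sqb := isPullback_fiberToSpecResidueField_of_isPullback sqY s'
  set b : hY'.fiber s' ⟶ hY.fiber (h' s') :=
    pullback.map _ _ _ _ (pullback.fst hY h') (Spec.map (h'.residueFieldMap s')) h' sqY.w.symm
      (by simp) with hb
  have hQb : (@Surjective ⊓ @Flat ⊓ @QuasiCompact : MorphismProperty Scheme.{u}) b :=
    MorphismProperty.of_isPullback sqb.flip (fpqc_residueFieldMap h' s')
  have hbι : b ≫ hY.fiberι (h' s') = hY'.fiberι s' ≫ pullback.fst hY h' := by
    simp [b, Scheme.Hom.fiberι]
  have sqF := FibCI.isPullback_fiberMapOver f g hY w (h' s')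
  have sqA := isPullback_bc f g hY w h' f' h1 h2
  have big := sqF'.paste_horiz sqA
  rw [← hbι] at big
  have hw : (g'.fiberι s' ≫ pullback.fst g h') ≫ f =
      (CohIII.fiberMapOver f' g' hY' h2 s' ≫ b) ≫ hY.fiberι (h' s') := by
    rw [Category.assoc _ b]; exact big.w
  have big' : IsPullback (sqF.lift _ _ hw ≫ g.fiberι (h' s')) (CohIII.fiberMapOver f' g' hY' h2 s') f
      (b ≫ hY.fiberι (h' s')) := by
    rw [sqF.lift_fst]; exact big
  have left := IsPullback.of_right big' (sqF.lift_snd _ _ hw) sqF
  exact MorphismProperty.of_isPullback_of_descendsAlong (P := MorphismProperty.isomorphisms Scheme)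
    (Q := (@Surjective ⊓ @Flat ⊓ @QuasiCompact : MorphismProperty Scheme.{u})) left.flip hQb
    (MorphismProperty.isomorphisms.infer_property _)

end Groth.Agent.Helper5.IsoRep
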