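import Mathlib
import Groth.Prelude
import Groth.Agent.Helper5.IsoRep2

set_option autoImplicit false
universe u

namespace Groth.Agent.Helper5.IsoRep

open CategoryTheory CategoryTheory.Limits AlgebraicGeometry TopologicalSpace Topology
open Groth.Agent.Helper5

set_option backward.isDefEq.respectTransparency false in
theorem s17076 {S : Scheme.{u}} [IsLocallyNoetherian S] (X Y : Over S) [IsProper X.hom]
    [IsProper Y.hom] [Flat X.hom] (f : X ⟶ Y) :
    ∃ S₀ : S.Opens, ∀ (S' : Scheme.{u}) [IsLocallyNoetherian S'] (h : S' ⟶ S),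
      Set.range h ⊆ (S₀ : Set S) ↔ IsIso ((Over.pullback h).map f).left := by
  haveI : LocallyOfFinitePresentation X.hom := Groth.Agent.Helper2.ArtSch.lfp_of_lft_noeth X.hom
  haveI : LocallyOfFinitePresentation Y.hom := Groth.Agent.Helper2.ArtSch.lfp_of_lft_noeth Y.hom
  have w : f.left ≫ Y.hom = X.hom := Over.w f
  obtain ⟨U, hU1, hU2⟩ := FibIso.s10888 X.hom Y.hom f.left w
  refine ⟨U, fun S' _ h => ?_⟩
  have h1 : ((Over.pullback h).map f).left ≫ pullback.fst Y.hom h =
      pullback.fst X.hom h ≫ f.left := by simp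
  have h2 : ((Over.pullback h).map f).left ≫ pullback.snd Y.hom h = pullback.snd X.hom h := by
    simp
  constructor
  · intro hr
    refine isIso_of_isPullback_of_range_subset f.left (Y.hom ⁻¹ᵁ U)
      (isPullback_bc f.left X.hom Y.hom w h _ h1 h2) ?_
    rintro _ ⟨y', rfl⟩
    show Y.hom (pullback.fst Y.hom h y') ∈ U
    rw [← Scheme.Hom.comp_apply, pullback.condition, Scheme.Hom.comp_apply]
    exact hr ⟨_, rfl⟩
  · intro hiso
    rintro _ ⟨s', rfl⟩
    haveI := isIso_fiberMapOver_of_isIso_bc f.left X.hom Y.hom w h _ h1 h2 s'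
    exact (hU1 (h s')).mpr ⟨asIso (CohIII.fiberMapOver f.left X.hom Y.hom w (h s')),
      FibIso.fiberMapOver_comp_fiberι f.left X.hom Y.hom w (h s')⟩

end Groth.Agent.Helper5.IsoRep
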