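import Groth.Agent.Helper5.ZarGlue11
import Mathlib

set_option autoImplicit false
set_option linter.style.haveILetI false
set_option linter.unusedSectionVars false
set_option linter.unusedVariables false
universe u
open CategoryTheory CategoryTheory.Limits AlgebraicGeometry Opposite

namespace Groth.Agent.Helper5.ZarGlue

open AlgSp Functor.relativelyRepresentable

variable {S : Scheme.{u}}

/-- `RepWith P` from one representing square with `P` for every test scheme -/
theorem repWith_of_exists (P : MorphismProperty Scheme.{u}) [P.RespectsIso] {F G : Sp S}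
    (f : F ⟶ G)
    (h : ∀ ⦃T : Over S⦄ (g : (yon S).obj T ⟶ G), ∃ (W : Over S) (i : W ⟶ T)
      (fst : (yon S).obj W ⟶ F), IsPullback fst ((yon S).map i) f g ∧ P i.left) :
    RepWith P f := by
  refine ⟨fun T g => ?_, ?_⟩
  · obtain ⟨W, i, fst, sq, -⟩ := h g
    exact ⟨W, i, fst, sq⟩
  · intro T E ξ c e sq
    obtain ⟨W, i, fst, sq', hi⟩ := h ξ
    obtain ⟨φ, hφ, -⟩ := Groth.Agent.Helper5.AlgSpFin.exists_iso_of_isPullback sq sq'
    have e1 : (yon S).preimage φ.hom ≫ i = e :=
      (yon S).map_injective (by rw [Functor.map_comp, Functor.map_preimage, hφ])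
    have h1 : IsIso ((yon S).map ((yon S).preimage φ.hom)) := by
      rw [Functor.map_preimage]; infer_instance
    have h2 : IsIso ((yon S).preimage φ.hom) :=
      (Functor.FullyFaithful.ofFullyFaithful (yon S)).isIso_of_isIso_map _
    have h3 : IsIso ((yon S).preimage φ.hom).left :=
      (Over.forget S).map_isIso ((yon S).preimage φ.hom)
    have e2 : e.left = ((yon S).preimage φ.hom).left ≫ i.left := by rw [← e1]; rfl
    show P e.left
    rw [e2]
    exact (MorphismProperty.cancel_left_of_respectsIso P _ _).2 hi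

/-- a property local on the source can be checked on an open cover of the source -/
theorem prop_of_local_source (P : MorphismProperty Scheme.{u}) [IsZariskiLocalAtSource P]
    {X Y : Scheme.{u}} (f : X ⟶ Y) {ι : Type u} (X' : ι → Scheme.{u}) (k : ∀ i, X' i ⟶ X)
    (hk : ∀ i, IsOpenImmersion (k i)) (hcov : ∀ x : X, ∃ i, x ∈ Set.range (k i))
    (h : ∀ i, P (k i ≫ f)) : P f := by
  let 𝒰 : X.OpenCover :=
    { I₀ := ι
      X := X'
      f := k
      mem₀ := by
        rw [Scheme.ofArrows_mem_precoverage_iff]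
        exact ⟨hcov, hk⟩ }
  exact IsZariskiLocalAtSource.of_openCover 𝒰 h

end Groth.Agent.Helper5.ZarGlue

namespace Groth.Agent.Helper5.ZarGlue

open AlgSp Functor.relativelyRepresentable

variable {S : Scheme.{u}}

section
variable {F : Sp S} {ι : Type u} {Fi : ι → Sp S} (f : ∀ i, Fi i ⟶ F)
    (halg : ∀ i, IsAlgSpace (Fi i)) (hopen : ∀ i, RepWith @IsOpenImmersion (f i))
    (hloc : ∀ (T : Over S) (s : (yon S).obj T ⟶ F), ∃ R ∈ J S T, ∀ ⦃V : Over S⦄ (γ : V ⟶ T),
      R γ → ∃ (i : ι) (a : (yon S).obj V ⟶ Fi i), (yon S).map γ ≫ s = a ≫ f i)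

include halg hopen hloc in
theorem exists_atlas_of_cover : ∃ (U : Over S) (p : (yon S).obj U ⟶ F),
    RepWith @Etale p ∧ RepWith @Surjective p := by
  choose Ui pi hpe hps using fun i => (halg i).atlas
  obtain ⟨U, hU⟩ : ∃ U : Over S, U = Groth.Agent.Helper5.YonCoprod.sigmaOver Ui := ⟨_, rfl⟩
  obtain ⟨σ, hσoi, hσcov, ⟨hcol⟩⟩ : ∃ σ : ∀ i, Ui i ⟶ U, (∀ i, IsOpenImmersion (σ i).left) ∧
      (∀ x : U.left, ∃ i, x ∈ Set.range (σ i).left) ∧
      Nonempty (IsColimit (Cofan.mk ((yon S).obj U) (fun j => (yon S).map (σ j)))) := by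
    subst hU
    refine ⟨Groth.Agent.Helper5.YonCoprod.sigmaι Ui, fun i => ?_, fun x => ?_,
      ⟨Groth.Agent.Helper5.YonCoprod.isColimitCofan Ui⟩⟩
    · have : IsOpenImmersion (Sigma.ι (fun j => (Ui j).left) i) := inferInstance
      exact this
    · obtain ⟨y, hy⟩ := (sigmaOpenCover (fun j => (Ui j).left)).covers x
      exact ⟨_, y, hy⟩
  obtain ⟨p, hp⟩ : ∃ p : (yon S).obj U ⟶ F, ∀ i, (yon S).map (σ i) ≫ p = pi i ≫ f i :=
    ⟨Cofan.IsColimit.desc hcol (fun i => pi i ≫ f i),
      fun i => Cofan.IsColimit.fac hcol (fun i => pi i ≫ f i) i⟩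
  have key : ∀ ⦃T : Over S⦄ (g : (yon S).obj T ⟶ F), ∃ (W₀ : Over S) (snd : W₀ ⟶ T)
      (fst : (yon S).obj W₀ ⟶ (yon S).obj U), IsPullback fst ((yon S).map snd) p g ∧
        (Etale snd.left ∧ Surjective snd.left) := by
    intro T g
    choose Ti t gi sqT using fun i => (hopen i).1 g
    have ht : ∀ i, IsOpenImmersion (t i).left := fun i => (hopen i).2 _ _ _ (sqT i)
    have hcovT := cover_of_local_lift f hloc g Ti t gi sqT
    choose W w b sqW using fun i => (hpe i).1 (gi i)
    have hwe : ∀ i, Etale (w i).left := fun i => (hpe i).2 _ _ _ (sqW i)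
    have hws : ∀ i, Surjective (w i).left := fun i => (hps i).2 _ _ _ (sqW i)
    choose β hβ using fun i => (yon S).map_surjective (b i)
    have sqV : ∀ i, IsPullback ((yon S).map (β i)) ((yon S).map (w i) ≫ (yon S).map (t i))
        (pi i ≫ f i) g := fun i => by
      rw [hβ]
      exact (sqW i).paste_vert (sqT i)
    let φ : ∀ i, (yon S).obj (W i) ⟶ pullback p g := fun i =>
      pullback.lift ((yon S).map (β i) ≫ (yon S).map (σ i))
        ((yon S).map (w i) ≫ (yon S).map (t i)) (by rw [Category.assoc, hp, (sqV i).w])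
    have sqφ : ∀ i, IsPullback (φ i) ((yon S).map (β i)) (pullback.fst p g)
        ((yon S).map (σ i)) := by
      intro i
      have h0 : φ i ≫ pullback.snd p g = (yon S).map (w i) ≫ (yon S).map (t i) :=
        pullback.lift_snd _ _ _
      have h1 : IsPullback ((yon S).map (β i)) (φ i ≫ pullback.snd p g)
          ((yon S).map (σ i) ≫ p) g := by
        rw [hp, h0]
        exact sqV i
      have h2 : (yon S).map (β i) ≫ (yon S).map (σ i) = φ i ≫ pullback.fst p g :=
        (pullback.lift_fst _ _ _).symm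
      exact (IsPullback.of_bot h1 h2 (IsPullback.of_hasPullback p g)).flip
    obtain ⟨W₀, e, w₀, k, he, hk, hpb, hkoi, hkcov⟩ :=
      exists_glue_rel' (pullback.fst p g) Ui σ hσoi hσcov W β φ sqφ
    obtain ⟨snd, hsnd⟩ := (yon S).map_surjective (e.hom ≫ pullback.snd p g)
    have hks : ∀ i, k i ≫ snd = w i ≫ t i := fun i => by
      apply (yon S).map_injective
      rw [Functor.map_comp, hsnd, ← Category.assoc, hk, Functor.map_comp]
      exact pullback.lift_snd _ _ _
    refine ⟨W₀, snd, (yon S).map w₀, ?_, ?_, ?_⟩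
    · rw [hsnd, ← he]
      exact IsPullback.of_iso (IsPullback.of_hasPullback p g) e.symm (Iso.refl _) (Iso.refl _)
        (Iso.refl _) (by simp) (by simp) (by simp) (by simp)
    · refine prop_of_local_source @Etale snd.left (fun i => (W i).left) (fun i => (k i).left)
        hkoi hkcov (fun i => ?_)
      have e1 : (k i).left ≫ snd.left = (w i).left ≫ (t i).left := by
        rw [← Over.comp_left, hks, Over.comp_left]
      rw [e1]
      have := hwe i
      have := ht i
      infer_instance
    · constructor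
      intro τ
      obtain ⟨i, τ', hτ'⟩ := hcovT τ
      obtain ⟨ω, hω⟩ := (hws i).surj τ'
      refine ⟨(k i).left ω, ?_⟩
      have e1 : (k i).left ≫ snd.left = (w i).left ≫ (t i).left := by
        rw [← Over.comp_left, hks, Over.comp_left]
      rw [← Scheme.Hom.comp_apply, e1, Scheme.Hom.comp_apply, hω, hτ']
  refine ⟨U, p, repWith_of_exists @Etale p (fun T g => ?_),
    repWith_of_exists @Surjective p (fun T g => ?_)⟩
  · obtain ⟨W₀, snd, fst, sq, h1, -⟩ := key g
    exact ⟨W₀, snd, fst, sq, h1⟩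
  · obtain ⟨W₀, snd, fst, sq, -, h2⟩ := key g
    exact ⟨W₀, snd, fst, sq, h2⟩

include halg hopen hloc in
theorem isAlgSpace_of_cover : IsAlgSpace F :=
  ⟨representable_diag_of_cover f halg hopen hloc, exists_atlas_of_cover f halg hopen hloc⟩

end

theorem s9877 (F : Sp S) {ι : Type u} (Fi : ι → Sp S)
    (f : ∀ i, Fi i ⟶ F) (halg : ∀ i, IsAlgSpace (Fi i))
    (hopen : ∀ i, RepWith @IsOpenImmersion (f i)) (c : Cofan Fi) (hc : IsColimit c)
    (hsurj : Sheaf.IsLocallySurjective (Cofan.IsColimit.desc hc f)) : IsAlgSpace F :=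
  isAlgSpace_of_cover f halg hopen (exists_local_lift f c hc hsurj)

end Groth.Agent.Helper5.ZarGlue
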