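import Groth.Prelude.Def_AlgSp
import Groth.Agent.Helper5.ZarGlue12
import Groth.Agent.Helper2.EqRel
import Mathlib

set_option autoImplicit false
set_option linter.style.haveILetI false
set_option linter.unusedSectionVars false
set_option linter.unusedVariables false
universe u
open CategoryTheory CategoryTheory.Limits AlgebraicGeometry Opposite

namespace Groth.Agent.Helper5.JInv

open AlgSp

variable {S S' : Scheme.{u}} (g : S ⟶ S')

/-- the restriction functor `j⁻¹` -/
noncomputable abbrev Φ : Sp S' ⥤ Sp S := Scheme.fppfTopology.overMapPullback (Type (u + 1)) g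

/-- maps `h_T ⟶ j⁻¹ G'` are maps `h_{gT} ⟶ G'` -/
noncomputable def transp (T : Over S) (G' : Sp S') :
    ((yon S').obj ((Over.map g).obj T) ⟶ G') ≃ ((yon S).obj T ⟶ (Φ g).obj G') :=
  ((J S').uliftYonedaEquiv.{u + 1}).trans
    ((J S).uliftYonedaEquiv.{u + 1} (X := T) (F := (Φ g).obj G')).symm

theorem transp_app {T : Over S} {G' : Sp S'} (x : (yon S').obj ((Over.map g).obj T) ⟶ G')
    (T₁ : Over S) (t : T₁ ⟶ T) :
    (transp g T G' x).hom.app (op T₁) ⟨t⟩ =
      x.hom.app (op ((Over.map g).obj T₁)) ⟨(Over.map g).map t⟩ := by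
  unfold transp
  rw [Equiv.trans_apply]
  erw [GrothendieckTopology.uliftYonedaEquiv_symm_app_apply]
  rw [GrothendieckTopology.uliftYonedaEquiv_apply]
  have h1 := NatTrans.naturality_apply x.hom ((Over.map g).map t).op ⟨𝟙 _⟩
  erw [← h1]
  congr 1
/-- pullback squares of sheaves can be checked sectionwise -/
theorem isPullback_of_app {T : Scheme.{u}} {P A B D : Sp T} {a : P ⟶ A} {b : P ⟶ B} {c : A ⟶ D}
    {d : B ⟶ D} (w : a ≫ c = b ≫ d)
    (h : ∀ U, IsPullback (a.hom.app U) (b.hom.app U) (c.hom.app U) (d.hom.app U)) :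
    IsPullback a b c d := by
  apply IsPullback.of_map (sheafToPresheaf (J T) _) w
  exact Groth.Agent.Helper2.EqRel.isPullback_of_app
    (by have := congrArg (fun k => (sheafToPresheaf (J T) _).map k) w
        simpa using this) h

theorem isPullback_app {T : Scheme.{u}} {P A B D : Sp T} {a : P ⟶ A} {b : P ⟶ B} {c : A ⟶ D}
    {d : B ⟶ D} (sq : IsPullback a b c d) (U : (Over T)ᵒᵖ) :
    IsPullback (a.hom.app U) (b.hom.app U) (c.hom.app U) (d.hom.app U) :=
  (sq.map (sheafToPresheaf (J T) _)).map ((evaluation _ _).obj U)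

end Groth.Agent.Helper5.JInv
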