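import Groth.Agent.Helper5.JInv1
import Mathlib

set_option autoImplicit false
set_option linter.style.haveILetI false
set_option linter.unusedSectionVars false
set_option linter.unusedVariables false
universe u
open CategoryTheory CategoryTheory.Limits AlgebraicGeometry Opposite

namespace Groth.Agent.Helper5.JInv

open AlgSp

variable {S S' : Scheme.{u}} (g : S ⟶ S')

/-- sectionwise criterion without the global commutativity -/
theorem isPullback_of_app' {T : Scheme.{u}} {P A B D : Sp T} {a : P ⟶ A} {b : P ⟶ B} {c : A ⟶ D}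
    {d : B ⟶ D}
    (h : ∀ U, IsPullback (a.hom.app U) (b.hom.app U) (c.hom.app U) (d.hom.app U)) :
    IsPullback a b c d := by
  refine isPullback_of_app ?_ h
  apply ObjectProperty.hom_ext
  apply NatTrans.ext
  funext U
  exact (h U).w

theorem comp_app_apply {T : Scheme.{u}} {A B D : Sp T} (a : A ⟶ B) (b : B ⟶ D) (U : (Over T)ᵒᵖ)
    (x : A.obj.obj U) : (a ≫ b).hom.app U x = b.hom.app U (a.hom.app U x) := rfl

theorem yon_map_app_apply {T : Scheme.{u}} {X Y : Over T} (f : X ⟶ Y) (U : Over T) (x : U ⟶ X) :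
    ((yon T).map f).hom.app (op U) ⟨x⟩ = ⟨x ≫ f⟩ := rfl

section LemmaA

variable {A' B' : Sp S'} (a : A' ⟶ B') {T : Over S}
  (s' : (yon S').obj ((Over.map g).obj T) ⟶ B')
  {V' : Over S'} (v : V' ⟶ (Over.map g).obj T) (fst' : (yon S').obj V' ⟶ A')

/-- `V'` viewed over `S` through `T` -/
def VS : Over S := Over.mk (v.left ≫ T.hom)

/-- the map `V' ⟶ T` over `S` -/
def vS : VS g v ⟶ T := Over.homMk v.left rfl

/-- viewing `VS` over `S'` gives back `V'` -/
def isoV : (Over.map g).obj (VS g v) ≅ V' :=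
  Over.isoMk (Iso.refl _) (by
    have := Over.w v
    simp only [VS, Over.map_obj_hom, Over.mk_hom, Iso.refl_hom, Category.id_comp] at this ⊢
    rw [← this, Category.assoc])

theorem map_vS : (Over.map g).map (vS g v) = (isoV g v).hom ≫ v := by
  apply Over.OverMorphism.ext
  simp only [vS, isoV, Over.map_map_left, Over.homMk_left, Over.comp_left, Over.isoMk_hom_left,
    Iso.refl_hom]
  exact (Category.id_comp _).symm

/-- the transposed first projection -/
noncomputable def fstS : (yon S).obj (VS g v) ⟶ (Φ g).obj A' :=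
  transp g _ A' ((yon S').map (isoV g v).hom ≫ fst')

theorem fstS_app (T₁ : Over S) (t : T₁ ⟶ VS g v) :
    (fstS g v fst').hom.app (op T₁) ⟨t⟩ =
      fst'.hom.app (op ((Over.map g).obj T₁)) ⟨(Over.map g).map t ≫ (isoV g v).hom⟩ := by
  unfold fstS
  rw [transp_app, comp_app_apply, yon_map_app_apply]

theorem isPullback_transp (sq : IsPullback fst' ((yon S').map v) a s') :
    IsPullback (fstS g v fst') ((yon S).map (vS g v)) ((Φ g).map a) (transp g T B' s') := by
  apply isPullback_of_app'
  intro U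
  obtain ⟨T₁⟩ := U
  have sq1 := isPullback_app sq (op ((Over.map g).obj T₁))
  rw [Types.isPullback_iff] at sq1 ⊢
  obtain ⟨w1, inj1, surj1⟩ := sq1
  refine ⟨?_, ?_, ?_⟩
  · ext ⟨t⟩
    show ((Φ g).map a).hom.app (op T₁) ((fstS g v fst').hom.app (op T₁) ⟨t⟩) =
      (transp g T B' s').hom.app (op T₁) (((yon S).map (vS g v)).hom.app (op T₁) ⟨t⟩)
    rw [fstS_app, yon_map_app_apply, transp_app, Functor.map_comp, map_vS, ← Category.assoc]
    exact ConcreteCategory.congr_hom w1 ⟨(Over.map g).map t ≫ (isoV g v).hom⟩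
  · rintro ⟨t₁⟩ ⟨t₂⟩ ⟨h1, h2⟩
    rw [fstS_app, fstS_app] at h1
    rw [yon_map_app_apply, yon_map_app_apply] at h2
    have h3 : (⟨(Over.map g).map t₁ ≫ (isoV g v).hom⟩ :
        ((yon S').obj V').obj.obj (op ((Over.map g).obj T₁))) =
        ⟨(Over.map g).map t₂ ≫ (isoV g v).hom⟩ := by
      apply inj1
      refine ⟨h1, ?_⟩
      rw [yon_map_app_apply, yon_map_app_apply, Category.assoc, Category.assoc, ← map_vS,
        ← Functor.map_comp, ← Functor.map_comp]
      exact congrArg (fun k => (⟨(Over.map g).map k⟩ :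
        ((yon S').obj ((Over.map g).obj T)).obj.obj (op ((Over.map g).obj T₁)))) (ULift.up.inj h2)
    have h4 := ULift.up.inj h3
    rw [cancel_mono] at h4
    apply ULift.ext
    apply Over.OverMorphism.ext
    have := congrArg CommaMorphism.left h4
    simpa using this
  · rintro α ⟨t⟩ h
    obtain ⟨⟨φ⟩, hφ1, hφ2⟩ := surj1 α ⟨(Over.map g).map t⟩ (h.trans (transp_app g s' T₁ t))
    rw [yon_map_app_apply] at hφ2
    have hφ3 : φ ≫ v = (Over.map g).map t := ULift.up.inj hφ2
    have hφ4 : φ.left ≫ v.left = t.left := by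
      have := congrArg CommaMorphism.left hφ3
      simpa using this
    let t₁ : T₁ ⟶ VS g v := Over.homMk φ.left (by
      show φ.left ≫ v.left ≫ T.hom = T₁.hom
      rw [← Category.assoc, hφ4]
      exact Over.w t)
    have e1 : (Over.map g).map t₁ ≫ (isoV g v).hom = φ := by
      apply Over.OverMorphism.ext
      simp only [t₁, isoV, Over.map_map_left, Over.homMk_left, Over.comp_left,
        Over.isoMk_hom_left, Iso.refl_hom]
      exact Category.comp_id _
    refine ⟨⟨t₁⟩, ?_, ?_⟩
    · rw [fstS_app, e1]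
      exact hφ1
    · rw [yon_map_app_apply]
      apply ULift.ext
      apply Over.OverMorphism.ext
      exact hφ4

end LemmaA

end Groth.Agent.Helper5.JInv
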