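import Groth.Agent.Helper5.JInv3
import Mathlib

set_option autoImplicit false
set_option linter.style.haveILetI false
set_option linter.unusedSectionVars false
set_option linter.unusedVariables false
universe u
open CategoryTheory CategoryTheory.Limits AlgebraicGeometry Opposite

namespace Groth.Agent.Helper5.JInv

open AlgSp

variable {S S' : Scheme.{u}} (g : S ⟶ S')

theorem isAlgSpace_obj (F' : Sp S') (hF' : IsAlgSpace F') : IsAlgSpace ((Φ g).obj F') where
  diag := by
    rw [diag_map]
    exact MorphismProperty.RespectsIso.postcomp _ _ _ (representable_map g _ hF'.diag)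
  atlas := by
    obtain ⟨U', p', h1, h2⟩ := hF'.atlas
    refine ⟨_, (isoYon g U').hom ≫ (Φ g).map p', ?_, ?_⟩
    · exact MorphismProperty.RespectsIso.precomp _ _ _ (repWith_map g _ p' h1)
    · exact MorphismProperty.RespectsIso.precomp _ _ _ (repWith_map g _ p' h2)

theorem s9897 :
    (∀ X' : Over S', Nonempty (((Scheme.fppfTopology.overMapPullback (Type (u + 1)) g).obj
      ((AlgSp.yon S').obj X')).obj.RepresentableBy
      (Over.mk (pullback.snd X'.hom g)))) ∧
      (∀ F' : AlgSp.Space S', AlgSp.IsAlgSpace
        ((Scheme.fppfTopology.overMapPullback (Type (u + 1)) g).obj F'.obj)) :=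
  ⟨fun X' => ⟨repBy g X'⟩, fun F' => isAlgSpace_obj g F'.obj F'.property⟩

end Groth.Agent.Helper5.JInv
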