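import Groth.Agent.Helper5.JInv4
import Mathlib

set_option autoImplicit false
set_option linter.style.haveILetI false
set_option linter.unusedSectionVars false
set_option linter.unusedVariables false
universe u
open CategoryTheory CategoryTheory.Limits AlgebraicGeometry Opposite

namespace Groth.Agent.Helper5.JInv

open AlgSp

variable {S S' : Scheme.{u}} (g : S ⟶ S')

theorem app_eq_iff {T : Scheme.{u}} {X₁ X₂ W : Over T} {G : Sp T} (f₁ : (yon T).obj X₁ ⟶ G)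
    (f₂ : (yon T).obj X₂ ⟶ G) (w₁ : W ⟶ X₁) (w₂ : W ⟶ X₂) :
    f₁.hom.app (op W) ⟨w₁⟩ = f₂.hom.app (op W) ⟨w₂⟩ ↔
      (yon T).map w₁ ≫ f₁ = (yon T).map w₂ ≫ f₂ := by
  rw [← (J T).uliftYonedaEquiv.{u + 1}.apply_eq_iff_eq, GrothendieckTopology.uliftYonedaEquiv_comp,
    GrothendieckTopology.uliftYonedaEquiv_comp, GrothendieckTopology.uliftYonedaEquiv_uliftYoneda_map,
    GrothendieckTopology.uliftYonedaEquiv_uliftYoneda_map]

/-- a square of representables over a sheaf is a pullback as soon as it is one against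
representable test objects -/
theorem isPullback_yon_of_forall {T : Scheme.{u}} {V X₁ X₂ : Over T} {G : Sp T} (q₁ : V ⟶ X₁)
    (q₂ : V ⟶ X₂) (f₁ : (yon T).obj X₁ ⟶ G) (f₂ : (yon T).obj X₂ ⟶ G)
    (w : (yon T).map q₁ ≫ f₁ = (yon T).map q₂ ≫ f₂)
    (h : ∀ (W : Over T) (w₁ : W ⟶ X₁) (w₂ : W ⟶ X₂),
      (yon T).map w₁ ≫ f₁ = (yon T).map w₂ ≫ f₂ → ∃! r : W ⟶ V, r ≫ q₁ = w₁ ∧ r ≫ q₂ = w₂) :
    IsPullback ((yon T).map q₁) ((yon T).map q₂) f₁ f₂ := by
  apply isPullback_of_app w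
  intro U
  obtain ⟨W⟩ := U
  rw [Types.isPullback_iff]
  refine ⟨?_, ?_, ?_⟩
  · have := congrArg (fun k => k.hom.app (op W)) w
    exact this
  · rintro ⟨r₁⟩ ⟨r₂⟩ ⟨h1, h2⟩
    rw [yon_map_app_apply, yon_map_app_apply] at h1 h2
    have e1 : r₁ ≫ q₁ = r₂ ≫ q₁ := ULift.up.inj h1
    have e2 : r₁ ≫ q₂ = r₂ ≫ q₂ := ULift.up.inj h2
    obtain ⟨r, -, hr⟩ := h W (r₁ ≫ q₁) (r₁ ≫ q₂) (by
      rw [Functor.map_comp, Functor.map_comp, Category.assoc, Category.assoc, w])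
    rw [hr r₁ ⟨rfl, rfl⟩, hr r₂ ⟨e1.symm, e2.symm⟩]
  · rintro ⟨w₁⟩ ⟨w₂⟩ h12
    obtain ⟨r, ⟨hr1, hr2⟩, -⟩ := h W w₁ w₂ ((app_eq_iff f₁ f₂ w₁ w₂).1 h12)
    refine ⟨⟨r⟩, ?_, ?_⟩
    · rw [yon_map_app_apply, hr1]
    · rw [yon_map_app_apply, hr2]

/-- converse: lifting against representable test objects -/
theorem existsUnique_of_isPullback_yon {T : Scheme.{u}} {V X₁ X₂ : Over T} {G : Sp T}
    {q₁ : V ⟶ X₁} {q₂ : V ⟶ X₂} {f₁ : (yon T).obj X₁ ⟶ G} {f₂ : (yon T).obj X₂ ⟶ G}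
    (sq : IsPullback ((yon T).map q₁) ((yon T).map q₂) f₁ f₂)
    (W : Over T) (w₁ : W ⟶ X₁) (w₂ : W ⟶ X₂)
    (h : (yon T).map w₁ ≫ f₁ = (yon T).map w₂ ≫ f₂) :
    ∃! r : W ⟶ V, r ≫ q₁ = w₁ ∧ r ≫ q₂ = w₂ := by
  refine ⟨(yon T).preimage (sq.lift _ _ h), ⟨?_, ?_⟩, ?_⟩
  · apply (yon T).map_injective
    rw [Functor.map_comp, Functor.map_preimage, sq.lift_fst]
  · apply (yon T).map_injective
    rw [Functor.map_comp, Functor.map_preimage, sq.lift_snd]
  · rintro r ⟨hr1, hr2⟩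
    apply (yon T).map_injective
    rw [Functor.map_preimage]
    apply sq.hom_ext
    · rw [sq.lift_fst, ← Functor.map_comp, hr1]
    · rw [sq.lift_snd, ← Functor.map_comp, hr2]

theorem transp_nat_left {T T₁ : Over S} {G' : Sp S'} (t : T₁ ⟶ T)
    (x : (yon S').obj ((Over.map g).obj T) ⟶ G') :
    (yon S).map t ≫ transp g T G' x =
      transp g T₁ G' ((yon S').map ((Over.map g).map t) ≫ x) := by
  apply (J S).uliftYonedaEquiv.{u + 1}.injective
  rw [GrothendieckTopology.uliftYonedaEquiv_apply, GrothendieckTopology.uliftYonedaEquiv_apply,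
    comp_app_apply, yon_map_app_apply, transp_app, transp_app, comp_app_apply, yon_map_app_apply]
  simp

theorem transp_nat_right {T : Over S} {G' H' : Sp S'} (a : G' ⟶ H')
    (x : (yon S').obj ((Over.map g).obj T) ⟶ G') :
    transp g T G' x ≫ (Φ g).map a = transp g T H' (x ≫ a) := by
  apply (J S).uliftYonedaEquiv.{u + 1}.injective
  rw [GrothendieckTopology.uliftYonedaEquiv_apply, GrothendieckTopology.uliftYonedaEquiv_apply,
    comp_app_apply, transp_app, transp_app, comp_app_apply]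
  rfl

theorem transp_symm_nat_left {T T₁ : Over S} {G' : Sp S'} (t : T₁ ⟶ T)
    (y : (yon S).obj T ⟶ (Φ g).obj G') :
    (yon S').map ((Over.map g).map t) ≫ (transp g T G').symm y =
      (transp g T₁ G').symm ((yon S).map t ≫ y) := by
  apply (transp g T₁ G').injective
  rw [← transp_nat_left, Equiv.apply_symm_apply, Equiv.apply_symm_apply]

end Groth.Agent.Helper5.JInv
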