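import Groth.Agent.Helper5.JInv5
import Mathlib

set_option autoImplicit false
set_option linter.style.haveILetI false
set_option linter.unusedSectionVars false
set_option linter.unusedVariables false
universe u
open CategoryTheory CategoryTheory.Limits AlgebraicGeometry Opposite

namespace Groth.Agent.Helper5.JInv

open AlgSp

variable {S S' : Scheme.{u}} (g : S ⟶ S') (F' : Sp S')

/-- `S` as a scheme over `S'` -/
abbrev Sg : Over S' := Over.mk g

/-- the structure map of `T` as a map over `S'` -/
def str (T : Over S) : (Over.map g).obj T ⟶ Sg g := Over.homMk T.hom rfl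

theorem map_str {T₁ T : Over S} (t : T₁ ⟶ T) : (Over.map g).map t ≫ str g T = str g T₁ := by
  apply Over.OverMorphism.ext
  simp only [str, Over.comp_left, Over.map_map_left, Over.homMk_left]
  exact Over.w t

/-- the object `h_S × F'` -/
noncomputable abbrev AA : Sp S' := (yon S').obj (Sg g) ⨯ F'

/-- maps `h_{gT} ⟶ h_S × F'` from maps `h_T ⟶ j⁻¹F'` -/
noncomputable def toA (T : Over S) (y : (yon S).obj T ⟶ (Φ g).obj F') :
    (yon S').obj ((Over.map g).obj T) ⟶ AA g F' :=
  prod.lift ((yon S').map (str g T)) ((transp g T F').symm y)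

theorem map_toA {T₁ T : Over S} (t : T₁ ⟶ T) (y : (yon S).obj T ⟶ (Φ g).obj F') :
    (yon S').map ((Over.map g).map t) ≫ toA g F' T y = toA g F' T₁ ((yon S).map t ≫ y) := by
  unfold toA
  apply Limits.prod.hom_ext
  · rw [Category.assoc, prod.lift_fst, prod.lift_fst, ← Functor.map_comp, map_str]
  · rw [Category.assoc, prod.lift_snd, prod.lift_snd, transp_symm_nat_left]

/-- a scheme over `S'` with a map to `S` is a scheme over `S` -/
def liftOver {W' : Over S'} (ψ : W' ⟶ Sg g) : Over S := Over.mk ψ.left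

/-- and viewing it back over `S'` gives `W'` -/
def liftIso {W' : Over S'} (ψ : W' ⟶ Sg g) : (Over.map g).obj (liftOver g ψ) ≅ W' :=
  Over.isoMk (Iso.refl _) (by
    have := Over.w ψ
    simp only [liftOver, Over.map_obj_hom, Over.mk_hom, Iso.refl_hom, Category.id_comp] at this ⊢
    exact this.symm)

theorem liftIso_hom_left {W' : Over S'} (ψ : W' ⟶ Sg g) : (liftIso g ψ).hom.left = 𝟙 W'.left := rfl

theorem liftIso_hom_str {W' : Over S'} (ψ : W' ⟶ Sg g) :
    (liftIso g ψ).inv ≫ str g (liftOver g ψ) = ψ := by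
  apply Over.OverMorphism.ext
  simp only [str, liftIso, liftOver, Over.comp_left, Over.isoMk_inv_left, Iso.refl_inv,
    Over.homMk_left, Over.mk_hom]
  exact Category.id_comp _

/-- every map from a representable to `h_S × F'` is a `toA` -/
theorem exists_toA {T' : Over S'} (ξ : (yon S').obj T' ⟶ AA g F') :
    ∃ (T : Over S) (e : (Over.map g).obj T ≅ T') (y : (yon S).obj T ⟶ (Φ g).obj F'),
      (yon S').map e.hom ≫ ξ = toA g F' T y := by
  obtain ⟨φ, hφ⟩ := (yon S').map_surjective (ξ ≫ prod.fst)
  refine ⟨liftOver g φ, liftIso g φ,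
    transp g _ F' ((yon S').map (liftIso g φ).hom ≫ ξ ≫ prod.snd), ?_⟩
  unfold toA
  apply Limits.prod.hom_ext
  · rw [Category.assoc, prod.lift_fst, ← hφ, ← Functor.map_comp]
    congr 1
  · rw [Category.assoc, prod.lift_snd, Equiv.symm_apply_apply]

end Groth.Agent.Helper5.JInv
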