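import Groth.Agent.Helper5.JInv6
import Mathlib

set_option autoImplicit false
set_option linter.style.haveILetI false
set_option linter.unusedSectionVars false
set_option linter.unusedVariables false
universe u
open CategoryTheory CategoryTheory.Limits AlgebraicGeometry Opposite

namespace Groth.Agent.Helper5.JInv

open AlgSp

variable {S S' : Scheme.{u}} (g : S ⟶ S') (F' : Sp S')

theorem toA_fst (T : Over S) (y : (yon S).obj T ⟶ (Φ g).obj F') :
    toA g F' T y ≫ prod.fst = (yon S').map (str g T) := prod.lift_fst _ _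

theorem toA_snd (T : Over S) (y : (yon S).obj T ⟶ (Φ g).obj F') :
    toA g F' T y ≫ prod.snd = (transp g T F').symm y := prod.lift_snd _ _

/-- Lemma B: pullbacks of representables over `j⁻¹F'` give pullbacks over `h_S × F'` -/
theorem isPullback_toA {T₁ T₂ V : Over S} (y₁ : (yon S).obj T₁ ⟶ (Φ g).obj F')
    (y₂ : (yon S).obj T₂ ⟶ (Φ g).obj F') (p₁ : V ⟶ T₁) (p₂ : V ⟶ T₂)
    (sq : IsPullback ((yon S).map p₁) ((yon S).map p₂) y₁ y₂) :
    IsPullback ((yon S').map ((Over.map g).map p₁)) ((yon S').map ((Over.map g).map p₂))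
      (toA g F' T₁ y₁) (toA g F' T₂ y₂) := by
  apply isPullback_yon_of_forall
  · rw [map_toA, map_toA, sq.w]
  · intro W' w₁ w₂ h12
    have hψ : w₁ ≫ str g T₁ = w₂ ≫ str g T₂ := by
      apply (yon S').map_injective
      have := congrArg (fun k => k ≫ prod.fst) h12
      simp only [Category.assoc, toA_fst] at this
      rw [Functor.map_comp, Functor.map_comp, this]
    have hs : (yon S').map w₁ ≫ (transp g T₁ F').symm y₁ =
        (yon S').map w₂ ≫ (transp g T₂ F').symm y₂ := by
      have := congrArg (fun k => k ≫ prod.snd) h12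
      simpa only [Category.assoc, toA_snd] using this
    let ψ : W' ⟶ Sg g := w₁ ≫ str g T₁
    let W : Over S := liftOver g ψ
    let eW : (Over.map g).obj W ≅ W' := liftIso g ψ
    have hl2 : w₂.left ≫ T₂.hom = ψ.left := by
      have := congrArg CommaMorphism.left hψ
      exact this.symm
    let wt₁ : W ⟶ T₁ := Over.homMk w₁.left rfl
    let wt₂ : W ⟶ T₂ := Over.homMk w₂.left hl2
    have e1 : (Over.map g).map wt₁ = eW.hom ≫ w₁ := by
      apply Over.OverMorphism.ext
      exact (Category.id_comp _).symm
    have e2 : (Over.map g).map wt₂ = eW.hom ≫ w₂ := by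
      apply Over.OverMorphism.ext
      exact (Category.id_comp _).symm
    have h3 : (yon S).map wt₁ ≫ y₁ = (yon S).map wt₂ ≫ y₂ := by
      apply (transp g W F').symm.injective
      rw [← transp_symm_nat_left, ← transp_symm_nat_left, e1, e2, Functor.map_comp,
        Functor.map_comp, Category.assoc, Category.assoc, hs]
    obtain ⟨r, ⟨hr1, hr2⟩, hru⟩ := existsUnique_of_isPullback_yon sq W wt₁ wt₂ h3
    refine ⟨eW.inv ≫ (Over.map g).map r, ⟨?_, ?_⟩, ?_⟩
    · rw [Category.assoc, ← Functor.map_comp, hr1, e1, Iso.inv_hom_id_assoc]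
    · rw [Category.assoc, ← Functor.map_comp, hr2, e2, Iso.inv_hom_id_assoc]
    · rintro ρ ⟨hρ1, hρ2⟩
      have hl : ρ.left ≫ V.hom = ψ.left := by
        have h4 : ρ ≫ str g V = ψ := by
          show _ = w₁ ≫ str g T₁
          rw [← hρ1, Category.assoc, map_str]
        exact congrArg CommaMorphism.left h4
      let r' : W ⟶ V := Over.homMk ρ.left hl
      have hr' : r' = r := by
        apply hru
        constructor
        · apply Over.OverMorphism.ext
          have := congrArg CommaMorphism.left hρ1
          exact this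
        · apply Over.OverMorphism.ext
          have := congrArg CommaMorphism.left hρ2
          exact this
      rw [← hr']
      apply Over.OverMorphism.ext
      exact (Category.id_comp _).symm

/-- core: base change of `toA U p` to a scheme -/
theorem core {U : Over S} (p : (yon S).obj U ⟶ (Φ g).obj F') (hp : Representable p)
    {T' : Over S'} (ξ : (yon S').obj T' ⟶ AA g F') :
    ∃ (T V : Over S) (e : (Over.map g).obj T ≅ T') (y : (yon S).obj T ⟶ (Φ g).obj F')
      (q : V ⟶ U) (v : V ⟶ T), IsPullback ((yon S).map q) ((yon S).map v) p y ∧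
      IsPullback ((yon S').map ((Over.map g).map q)) ((yon S').map ((Over.map g).map v ≫ e.hom))
        (toA g F' U p) ξ := by
  obtain ⟨T, e, y, he⟩ := exists_toA g F' ξ
  obtain ⟨V, v, fst, sq⟩ := hp y
  obtain ⟨q, rfl⟩ := (yon S).map_surjective fst
  refine ⟨T, V, e, y, q, v, sq, ?_⟩
  have h1 := isPullback_toA g F' p y q v sq
  rw [← he] at h1
  rw [Functor.map_comp]
  exact IsPullback.of_iso h1 (Iso.refl _) (Iso.refl _) ((yon S').mapIso e) (Iso.refl _)
    (by simp) (by simp) (by simp) (by simp)

end Groth.Agent.Helper5.JInv
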