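import Groth.Agent.Helper5.JInv7
import Groth.Agent.Helper5.SpCoprod1
import Groth.Agent.Helper4.AlgSpPB
import Mathlib

set_option autoImplicit false
set_option linter.style.haveILetI false
set_option linter.unusedSectionVars false
set_option linter.unusedVariables false
universe u
open CategoryTheory CategoryTheory.Limits AlgebraicGeometry Opposite

namespace Groth.Agent.Helper5.JInv

open AlgSp

variable {S S' : Scheme.{u}} (g : S ⟶ S') (F' : Sp S')

theorem representable_toA {U : Over S} (p : (yon S).obj U ⟶ (Φ g).obj F') (hp : Representable p) :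
    Representable (toA g F' U p) := by
  intro T' ξ
  obtain ⟨T, V, e, y, q, v, sq, sq'⟩ := core g F' p hp ξ
  exact ⟨_, _, _, sq'⟩

theorem repWith_toA (P : MorphismProperty Scheme.{u}) [P.IsStableUnderBaseChange] {U : Over S}
    (p : (yon S).obj U ⟶ (Φ g).obj F') (hp : RepWith P p) : RepWith P (toA g F' U p) := by
  haveI : P.RespectsIso := MorphismProperty.IsStableUnderBaseChange.respectsIso
  obtain ⟨hp1, hp2⟩ := (repWith_iff P p).1 hp
  apply Groth.Agent.Helper5.ZarGlue.repWith_of_exists
  intro T' ξ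
  obtain ⟨T, V, e, y, q, v, sq, sq'⟩ := core g F' p hp1 ξ
  refine ⟨_, _, _, sq', ?_⟩
  have h1 : P v.left := hp2 _ _ _ sq
  show P ((Over.map g).map v ≫ e.hom).left
  rw [Over.comp_left]
  haveI : IsIso e.hom.left := inferInstanceAs (IsIso ((Over.forget _).map e.hom))
  exact MorphismProperty.RespectsIso.postcomp _ _ _ h1

theorem isAlgSpace_AA (h : IsAlgSpace ((Φ g).obj F')) : IsAlgSpace (AA g F') where
  diag := by
    apply Functor.relativelyRepresentable.diag_of_map_from_obj
    intro T' ξ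
    obtain ⟨T, e, y, he⟩ := exists_toA g F' ξ
    have h1 := representable_toA g F' y (h.representable_from_yon y)
    have : ξ = (yon S').map e.inv ≫ toA g F' T y := by
      rw [← he, ← Category.assoc, ← Functor.map_comp, Iso.inv_hom_id,
        CategoryTheory.Functor.map_id, Category.id_comp]
    rw [this]
    exact MorphismProperty.RespectsIso.precomp _ _ _ h1
  atlas := by
    obtain ⟨U, p, hp1, hp2⟩ := h.atlas
    exact ⟨_, toA g F' U p, repWith_toA g F' _ p hp1, repWith_toA g F' _ p hp2⟩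

/-- generic: `B` is the fibre of `A ⨯ B ⟶ A` over a global point -/
theorem isPullback_prod_point {C : Type*} [Category C] [HasBinaryProducts C] {one A B : C}
    (hT : IsTerminal one) (δ : one ⟶ A) :
    IsPullback (prod.lift (hT.from B ≫ δ) (𝟙 B)) (hT.from B) (prod.fst : A ⨯ B ⟶ A) δ := by
  refine ⟨⟨prod.lift_fst _ _⟩, ⟨PullbackCone.IsLimit.mk _ (fun s => s.fst ≫ prod.snd) ?_ ?_ ?_⟩⟩
  · intro s
    apply Limits.prod.hom_ext
    · rw [Category.assoc, prod.lift_fst, s.condition, ← Category.assoc]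
      congr 1
      exact hT.hom_ext _ _
    · rw [Category.assoc, prod.lift_snd, Category.comp_id]
  · intro s
    exact hT.hom_ext _ _
  · intro s m hm _
    rw [← hm, Category.assoc, prod.lift_snd, Category.comp_id]

theorem isAlgSpace_obj_of_AA (h : IsAlgSpace (AA g F')) : IsAlgSpace ((Φ g).obj F') := by
  have h1 : IsAlgSpace ((Φ g).obj (AA g F')) := isAlgSpace_obj g _ h
  have h2 : IsAlgSpace ((Φ g).obj ((yon S').obj (Sg g)) ⨯ (Φ g).obj F') :=
    h1.of_iso (asIso (prodComparison (Φ g) _ _))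
  have hT := Groth.Agent.Helper5.SpCoprod.isTerminalYon (S := S)
  let δ : (yon S).obj (Over.mk (𝟙 S)) ⟶ (Φ g).obj ((yon S').obj (Sg g)) :=
    transp g (Over.mk (𝟙 S)) _ ((yon S').map (str g (Over.mk (𝟙 S))))
  exact Groth.Agent.Helper4.AlgSpPB.isAlgSpace_of_isPullback
    (isAlgSpace_obj g _ (IsAlgSpace.yon_obj _)).diag h2 (IsAlgSpace.yon_obj _) prod.fst δ _ _
    (isPullback_prod_point hT δ)

theorem s9893 (F' : AlgSp.Sp S') :
    AlgSp.IsAlgSpace ((Scheme.fppfTopology.overMapPullback (Type (u + 1)) g).obj F') ↔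
      AlgSp.IsAlgSpace ((AlgSp.yon S').obj (Over.mk g) ⨯ F') :=
  ⟨isAlgSpace_AA g F', isAlgSpace_obj_of_AA g F'⟩

end Groth.Agent.Helper5.JInv
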