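import Groth.Agent.Helper5.JInv8
import Mathlib

set_option autoImplicit false
set_option linter.style.haveILetI false
set_option linter.unusedSectionVars false
set_option linter.unusedVariables false
universe u
open CategoryTheory CategoryTheory.Limits AlgebraicGeometry Opposite

namespace Groth.Agent.Helper5.JSh

open AlgSp Groth.Agent.Helper5.JInv

variable {S S' : Scheme.{u}} (g : S ⟶ S')

/-- the extension functor `j_!` -/
noncomputable abbrev Ψ : Sp S ⥤ Sp S' :=
  (Over.map g).sheafPullback (Type (u + 1)) (AlgSp.J S) (AlgSp.J S')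

/-- `j_! ⊣ j⁻¹` -/
noncomputable def adj : Ψ g ⊣ Φ g :=
  (Over.map g).sheafAdjunctionContinuous (Type (u + 1)) (AlgSp.J S) (AlgSp.J S')

noncomputable def νhom (X : Over S) :
    (Ψ g).obj ((yon S).obj X) ⟶ (yon S').obj ((Over.map g).obj X) :=
  ((adj g).homEquiv _ _).symm (transp g X _ (𝟙 _))

noncomputable def νinv (X : Over S) :
    (yon S').obj ((Over.map g).obj X) ⟶ (Ψ g).obj ((yon S).obj X) :=
  (transp g X _).symm ((adj g).homEquiv _ _ (𝟙 _))

/-- `j_! h_X ≅ h_X` with `X` viewed over `S'` -/
noncomputable def ν (X : Over S) :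
    (Ψ g).obj ((yon S).obj X) ≅ (yon S').obj ((Over.map g).obj X) where
  hom := νhom g X
  inv := νinv g X
  hom_inv_id := by
    apply ((adj g).homEquiv _ _).injective
    rw [Adjunction.homEquiv_naturality_right]
    unfold νhom νinv
    rw [Equiv.apply_symm_apply, transp_nat_right, Category.id_comp, Equiv.apply_symm_apply]
  inv_hom_id := by
    apply (transp g X _).injective
    rw [← transp_nat_right]
    unfold νhom νinv
    rw [Equiv.apply_symm_apply, ← Adjunction.homEquiv_naturality_right, Category.id_comp,
      Equiv.apply_symm_apply]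

theorem ν_natural {X Y : Over S} (f : X ⟶ Y) :
    (Ψ g).map ((yon S).map f) ≫ (ν g Y).hom =
      (ν g X).hom ≫ (yon S').map ((Over.map g).map f) := by
  show (Ψ g).map ((yon S).map f) ≫ νhom g Y = νhom g X ≫ (yon S').map ((Over.map g).map f)
  unfold νhom
  rw [← Adjunction.homEquiv_naturality_left_symm, ← Adjunction.homEquiv_naturality_right_symm,
    transp_nat_left, transp_nat_right, Category.comp_id, Category.id_comp]

end Groth.Agent.Helper5.JSh
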