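import Groth.Agent.Helper5.JSh1
import Mathlib

set_option autoImplicit false
set_option linter.style.haveILetI false
set_option linter.unusedSectionVars false
set_option linter.unusedVariables false
universe u
open CategoryTheory CategoryTheory.Limits AlgebraicGeometry Opposite

namespace Groth.Agent.Helper5.JSh

open AlgSp Groth.Agent.Helper5.JInv

variable {S S' : Scheme.{u}} (g : S ⟶ S')

/-- lift of a map `T' ⟶ gX` with prescribed map to `S` -/
def liftHom {T' : Over S'} {X : Over S} (ψ : T' ⟶ Sg g) (a : T' ⟶ (Over.map g).obj X)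
    (h : a ≫ str g X = ψ) : liftOver g ψ ⟶ X :=
  Over.homMk a.left (by
    have := congrArg CommaMorphism.left h
    exact this)

theorem map_liftHom {T' : Over S'} {X : Over S} (ψ : T' ⟶ Sg g) (a : T' ⟶ (Over.map g).obj X)
    (h : a ≫ str g X = ψ) : (Over.map g).map (liftHom g ψ a h) = (liftIso g ψ).hom ≫ a := by
  apply Over.OverMorphism.ext
  exact (Category.id_comp _).symm

theorem liftHom_comp {T' : Over S'} {X Y : Over S} (ψ : T' ⟶ Sg g) (a : T' ⟶ (Over.map g).obj X)
    (h : a ≫ str g X = ψ) (f : X ⟶ Y) :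
    liftHom g ψ a h ≫ f = liftHom g ψ (a ≫ (Over.map g).map f)
      (by rw [Category.assoc, map_str, h]) := by
  apply Over.OverMorphism.ext
  rfl

theorem liftHom_congr {T' : Over S'} {X : Over S} (ψ : T' ⟶ Sg g) {a a' : T' ⟶ (Over.map g).obj X}
    (h : a ≫ str g X = ψ) (h' : a' ≫ str g X = ψ) (e : a = a') :
    liftHom g ψ a h = liftHom g ψ a' h' := by
  subst e
  rfl

theorem liftHom_injective {T' : Over S'} {X : Over S} (ψ : T' ⟶ Sg g)
    {a a' : T' ⟶ (Over.map g).obj X}
    (h : a ≫ str g X = ψ) (h' : a' ≫ str g X = ψ) (e : liftHom g ψ a h = liftHom g ψ a' h') :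
    a = a' := by
  apply Over.OverMorphism.ext
  have := congrArg CommaMorphism.left e
  exact this

/-- going back -/
def unliftHom {T' : Over S'} {X : Over S} (ψ : T' ⟶ Sg g) (b : liftOver g ψ ⟶ X) :
    T' ⟶ (Over.map g).obj X := (liftIso g ψ).inv ≫ (Over.map g).map b

theorem unliftHom_str {T' : Over S'} {X : Over S} (ψ : T' ⟶ Sg g) (b : liftOver g ψ ⟶ X) :
    unliftHom g ψ b ≫ str g X = ψ := by
  unfold unliftHom
  rw [Category.assoc, map_str, liftIso_hom_str]

theorem liftHom_unliftHom {T' : Over S'} {X : Over S} (ψ : T' ⟶ Sg g) (b : liftOver g ψ ⟶ X) :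
    liftHom g ψ (unliftHom g ψ b) (unliftHom_str g ψ b) = b := by
  apply Over.OverMorphism.ext
  show (unliftHom g ψ b).left = b.left
  exact Category.id_comp _

theorem unliftHom_comp {T' : Over S'} {X Y : Over S} (ψ : T' ⟶ Sg g) (b : liftOver g ψ ⟶ X)
    (f : X ⟶ Y) : unliftHom g ψ b ≫ (Over.map g).map f = unliftHom g ψ (b ≫ f) := by
  unfold unliftHom
  rw [Category.assoc, ← Functor.map_comp]

theorem unliftHom_liftHom {T' : Over S'} {X : Over S} (ψ : T' ⟶ Sg g)
    (a : T' ⟶ (Over.map g).obj X) (h : a ≫ str g X = ψ) :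
    unliftHom g ψ (liftHom g ψ a h) = a := by
  unfold unliftHom
  rw [map_liftHom, Iso.inv_hom_id_assoc]

section Rel

variable {R U : Over S} (s t : R ⟶ U)

theorem str_eq_of_rel {T' : Over S'} {a b : T' ⟶ (Over.map g).obj U}
    (h : ∃ r : T' ⟶ (Over.map g).obj R, r ≫ (Over.map g).map t = a ∧ r ≫ (Over.map g).map s = b) :
    b ≫ str g U = a ≫ str g U := by
  obtain ⟨r, rfl, rfl⟩ := h
  rw [Category.assoc, Category.assoc, map_str, map_str]

theorem rel_iff {T' : Over S'} (ψ : T' ⟶ Sg g) (a b : T' ⟶ (Over.map g).obj U)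
    (ha : a ≫ str g U = ψ) (hb : b ≫ str g U = ψ) :
    (∃ r : T' ⟶ (Over.map g).obj R, r ≫ (Over.map g).map t = a ∧ r ≫ (Over.map g).map s = b) ↔
      ∃ r : liftOver g ψ ⟶ R, r ≫ t = liftHom g ψ a ha ∧ r ≫ s = liftHom g ψ b hb := by
  constructor
  · rintro ⟨r, h1, h2⟩
    have hr : r ≫ str g R = ψ := by
      rw [← ha, ← h1, Category.assoc, map_str]
    refine ⟨liftHom g ψ r hr, ?_, ?_⟩
    · rw [liftHom_comp]
      exact liftHom_congr g ψ _ _ h1
    · rw [liftHom_comp]
      exact liftHom_congr g ψ _ _ h2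
  · rintro ⟨r, h1, h2⟩
    refine ⟨unliftHom g ψ r, ?_, ?_⟩
    · rw [unliftHom_comp, h1, unliftHom_liftHom]
    · rw [unliftHom_comp, h2, unliftHom_liftHom]

theorem isEtaleEqvRel_map (h : IsEtaleEqvRel s t) :
    IsEtaleEqvRel ((Over.map g).map s) ((Over.map g).map t) where
  injective := by
    intro T' r r' h1 h2
    have hψ' : r' ≫ str g R = r ≫ str g R := by
      rw [← map_str g t, ← Category.assoc, ← h1, Category.assoc]
    apply liftHom_injective g (r ≫ str g R) rfl hψ'
    apply h.injective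
    · rw [liftHom_comp, liftHom_comp]
      exact liftHom_congr g _ _ _ h1
    · rw [liftHom_comp, liftHom_comp]
      exact liftHom_congr g _ _ _ h2
  equivalence := by
    intro T'
    refine ⟨fun a => ?_, fun {a b} hab => ?_, fun {a b c} hab hbc => ?_⟩
    · exact (rel_iff g s t (a ≫ str g U) a a rfl rfl).2 ((h.equivalence _).refl _)
    · have hb := str_eq_of_rel g s t hab
      have h1 := (rel_iff g s t (a ≫ str g U) a b rfl hb).1 hab
      exact (rel_iff g s t (a ≫ str g U) b a hb rfl).2 ((h.equivalence _).symm h1)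
    · have hb := str_eq_of_rel g s t hab
      have hc : c ≫ str g U = a ≫ str g U := (str_eq_of_rel g s t hbc).trans hb
      have h1 := (rel_iff g s t (a ≫ str g U) a b rfl hb).1 hab
      have h2 := (rel_iff g s t (a ≫ str g U) b c hb hc).1 hbc
      exact (rel_iff g s t (a ≫ str g U) a c rfl hc).2 ((h.equivalence _).trans h1 h2)
  etale_left := h.etale_left
  etale_right := h.etale_right

end Rel

end Groth.Agent.Helper5.JSh
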