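import Groth.Agent.Helper5.JSh2
import Groth.Agent.Helper5.QuotPres1
import Groth.Agent.S9872
import Groth.Agent.S9868
import Mathlib

set_option autoImplicit false
set_option linter.style.haveILetI false
set_option linter.unusedSectionVars false
set_option linter.unusedVariables false
universe u
open CategoryTheory CategoryTheory.Limits AlgebraicGeometry Opposite

namespace Groth.Agent.Helper5.JSh

open AlgSp Groth.Agent.Helper5.JInv

variable {S S' : Scheme.{u}} (g : S ⟶ S')

theorem isAlgSpace_Ψ (F : Sp S) (hF : IsAlgSpace F) : IsAlgSpace ((Ψ g).obj F) := by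
  obtain ⟨U, p, he, hs⟩ := hF.atlas
  obtain ⟨R, s, fst, sq⟩ := (hF.representable_from_yon p) p
  obtain ⟨t, rfl⟩ := (yon S).map_surjective fst
  obtain ⟨-, ⟨hcolim⟩⟩ := Groth.Agent.S9872.result S F hF p he hs s t sq
  obtain ⟨hrel, -⟩ := Groth.Agent.S9872.result S F hF p he hs t s sq.flip
  haveI := (adj g).leftAdjoint_preservesColimits
  have h1 := isColimitMapCoconeCoforkEquiv (Ψ g) sq.w (isColimitOfPreserves (Ψ g) hcolim)
  have w' : (yon S').map ((Over.map g).map t) ≫ ((ν g U).inv ≫ (Ψ g).map p) =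
      (yon S').map ((Over.map g).map s) ≫ ((ν g U).inv ≫ (Ψ g).map p) := by
    rw [← cancel_epi (ν g R).hom, ← Category.assoc, ← ν_natural, ← Category.assoc (ν g R).hom,
      ← ν_natural]
    simp only [Category.assoc, Iso.hom_inv_id_assoc, ← Functor.map_comp, sq.w]
  have h2 : IsColimit (Cofork.ofπ ((ν g U).inv ≫ (Ψ g).map p) w') :=
    Cofork.isColimitOfIsos _ h1 _ (ν g R) (ν g U) (Iso.refl _) (ν_natural g t).symm
      (ν_natural g s).symm (by simp)
  have e1 :=
    h2.coconePointUniqueUpToIso (quotSpIsCoequalizer ((yon S').map ((Over.map g).map t))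
      ((yon S').map ((Over.map g).map s)))
  have h3 := Groth.Agent.S9868.result S' ((Over.map g).map t) ((Over.map g).map s)
    (isEtaleEqvRel_map g t s hrel)
  exact h3.of_iso ((Groth.Agent.Helper5.QuotPres.ψ ((Over.map g).map t) ((Over.map g).map s)).symm ≪≫ e1.symm)

/-- `j_! h_X` is represented by `X` viewed over `S'` -/
noncomputable def repByΨ (X : Over S) :
    ((Ψ g).obj ((yon S).obj X)).obj.RepresentableBy ((Over.map g).obj X) :=
  (Functor.RepresentableBy.equivUliftYonedaIso _ _).symm
    ((sheafToPresheaf _ _).mapIso (ν g X).symm)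

theorem s9896 :
    (∀ X : Over S, Nonempty ((((Over.map g).sheafPullback (Type (u + 1)) (AlgSp.J S)
      (AlgSp.J S')).obj ((AlgSp.yon S).obj X)).obj.RepresentableBy ((Over.map g).obj X))) ∧
      (∀ F : AlgSp.Space S, AlgSp.IsAlgSpace (((Over.map g).sheafPullback (Type (u + 1))
        (AlgSp.J S) (AlgSp.J S')).obj F.obj)) :=
  ⟨fun X => ⟨repByΨ g X⟩, fun F => isAlgSpace_Ψ g F.obj F.property⟩

end Groth.Agent.Helper5.JSh
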