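import Mathlib
import Groth.Prelude.Def_RegImm

set_option autoImplicit false
set_option linter.style.haveILetI false
universe u
open MvPolynomial

namespace Groth.Agent.Helper5.Jac

variable (R : Type u) [CommRing R] (n c : ℕ) (F : Fin c → MvPolynomial (Fin n) R)

set_option maxHeartbeats 1000000 in
/-- Jacobian criterion, easy direction: a presented algebra is smooth at the primes where a maximal
minor of the Jacobian matrix does not vanish -/
theorem isSmoothAt_of_minor (I : Fin c ↪ Fin n) (q : Ideal (Synt.RelGCIRing R n c F)) [q.IsPrime]
    (h : Ideal.Quotient.mk (Ideal.span (Set.range F))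
      (Matrix.det (Matrix.of fun j i => MvPolynomial.pderiv (I i) (F j))) ∉ q) :
    Algebra.IsSmoothAt R q := by
  classical
  let Pn : Algebra.PreSubmersivePresentation R (Synt.RelGCIRing R n c F) (Fin n) (Fin c) :=
    Algebra.PreSubmersivePresentation.naive (v := F) I I.injective
  have hjac : Pn.jacobian = Ideal.Quotient.mk (Ideal.span (Set.range F))
      (Matrix.det (Matrix.of fun j i => MvPolynomial.pderiv (I i) (F j))) := by
    rw [Algebra.PreSubmersivePresentation.jacobian_eq_jacobiMatrix_det]
    show Ideal.Quotient.mk _ _ = _
    congr 1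
    rw [← Matrix.det_transpose]
    congr 1
    ext i j
    simp [Pn, Matrix.transpose_apply]
  let Q := Algebra.PreSubmersivePresentation.localizationAway (Localization.Away Pn.jacobian)
    Pn.jacobian
  let T : Algebra.SubmersivePresentation R (Localization.Away Pn.jacobian) _ _ :=
    ⟨Q.comp Pn, by
      rw [Algebra.PreSubmersivePresentation.comp_jacobian_eq_jacobian_smul_jacobian,
        Algebra.PreSubmersivePresentation.localizationAway_jacobian, Algebra.smul_def]
      exact (IsLocalization.Away.algebraMap_isUnit Pn.jacobian).mul
        (IsLocalization.Away.algebraMap_isUnit Pn.jacobian)⟩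
  haveI : Algebra.IsStandardSmooth R (Localization.Away Pn.jacobian) := T.isStandardSmooth
  haveI : Algebra.FinitePresentation R (Synt.RelGCIRing R n c F) :=
    Pn.finitePresentation_of_isFinite
  have hsub : ↑(PrimeSpectrum.basicOpen Pn.jacobian) ⊆
      Algebra.smoothLocus R (Synt.RelGCIRing R n c F) :=
    Algebra.basicOpen_subset_smoothLocus_iff_smooth.2 inferInstance
  exact hsub (show (⟨q, inferInstance⟩ : PrimeSpectrum _) ∈ PrimeSpectrum.basicOpen Pn.jacobian from
    hjac ▸ h)

end Groth.Agent.Helper5.Jac
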