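import Mathlib

set_option autoImplicit false
set_option linter.style.haveILetI false
universe u
open TensorProduct KaehlerDifferential Function

namespace Groth.Agent.Helper5.Jac

section

variable {R A B : Type u} [CommRing R] [CommRing A] [CommRing B] [Algebra R A] [Algebra R B]
  [Algebra A B] [IsScalarTower R A B]

set_option maxHeartbeats 1000000 in
/-- if `B = A/K` is formally smooth over `R` with `A` formally smooth, `K/K²` is free on the classes
of `f_j`, and `d f_j = ∑ u_{ji} ω_i`, then the rows of `(u_{ji})` are independent modulo any ideal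
containing `K` -/
theorem coeff_mem_of_formallySmooth [Algebra.FormallySmooth R A] [Algebra.FormallySmooth R B]
    (hsurj : Surjective (algebraMap A B)) (c n : ℕ)
    (f : Fin c → RingHom.ker (algebraMap A B))
    (b : Module.Basis (Fin c) (A ⧸ RingHom.ker (algebraMap A B))
      (RingHom.ker (algebraMap A B)).Cotangent)
    (hb : ∀ j, b j = (RingHom.ker (algebraMap A B)).toCotangent (f j))
    (ω : Fin n → Ω[A⁄R]) (u : Fin c → Fin n → A)
    (hu : ∀ j, D R A (f j : A) = ∑ i, u j i • ω i)
    (m : Ideal A) (hKm : RingHom.ker (algebraMap A B) ≤ m)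
    (a : Fin c → A) (ha : ∀ i, ∑ j, a j * u j i ∈ m) : ∀ j, a j ∈ m := by
  classical
  obtain ⟨l, hl⟩ := (Algebra.FormallySmooth.iff_split_injection (R := R) (P := A) (A := B)
    hsurj).1 inferInstance
  let K := RingHom.ker (algebraMap A B)
  let ξ : K.Cotangent := ∑ j, a j • K.toCotangent (f j)
  have hd : ∀ j, kerCotangentToTensor R A B (K.toCotangent (f j)) =
      ∑ i, u j i • ((1 : B) ⊗ₜ[A] ω i) := by
    intro j
    rw [show kerCotangentToTensor R A B (K.toCotangent (f j)) = 1 ⊗ₜ D R A (f j : A) from rfl,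
      hu j, TensorProduct.tmul_sum]
    simp only [TensorProduct.tmul_smul]
  have h1 : kerCotangentToTensor R A B ξ =
      ∑ i, (∑ j, a j * u j i) • ((1 : B) ⊗ₜ[A] ω i) := by
    simp only [ξ, map_sum, map_smul, hd, Finset.smul_sum, Finset.sum_smul, mul_smul]
    rw [Finset.sum_comm]
  have h2 : kerCotangentToTensor R A B ξ ∈ (m • ⊤ : Submodule A (B ⊗[A] Ω[A⁄R])) := by
    rw [h1]
    exact Submodule.sum_mem _ fun i _ => Submodule.smul_mem_smul (ha i) Submodule.mem_top
  have h3 : ξ ∈ (m • ⊤ : Submodule A K.Cotangent) := by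
    have h4 : ξ = l (kerCotangentToTensor R A B ξ) := (LinearMap.congr_fun hl ξ).symm
    rw [h4]
    exact Submodule.smul_top_le_comap_smul_top m l h2
  intro j
  let φ : K.Cotangent →ₗ[A] A ⧸ K := (b.coord j).restrictScalars A
  have h5 : φ ξ ∈ (m • ⊤ : Submodule A (A ⧸ K)) := Submodule.smul_top_le_comap_smul_top m φ h3
  have h6 : φ ξ = Ideal.Quotient.mk K (a j) := by
    simp only [ξ, map_sum, map_smul]
    rw [Finset.sum_eq_single j]
    · show a j • (b.coord j) (K.toCotangent (f j)) = _
      rw [← hb j, Module.Basis.coord_apply, Module.Basis.repr_self, Finsupp.single_eq_same,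
        Algebra.smul_def, mul_one]
      rfl
    · intro k _ hk
      show a k • (b.coord j) (K.toCotangent (f k)) = _
      rw [← hb k, Module.Basis.coord_apply, Module.Basis.repr_self, Finsupp.single_eq_of_ne hk.symm,
        smul_zero]
    · intro hj
      exact absurd (Finset.mem_univ j) hj
  rw [h6, Ideal.smul_top_eq_map] at h5
  exact (Ideal.mem_quotient_iff_mem hKm).1 h5

end

end Groth.Agent.Helper5.Jac
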