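import Mathlib

set_option autoImplicit false
set_option linter.style.haveILetI false
universe u
open Module

namespace Groth.Agent.Helper5.Jac

/-- a matrix over a field with linearly independent rows has a nonvanishing maximal minor -/
theorem exists_minor_ne_zero {K : Type u} [Field K] {c n : ℕ} (M : Matrix (Fin c) (Fin n) K)
    (h : LinearIndependent K M.row) :
    ∃ I : Fin c ↪ Fin n, (M.submatrix id I).det ≠ 0 := by
  classical
  have hrank : M.rank = c := by rw [h.rank_matrix, Fintype.card_fin]
  have htop : Submodule.span K (Set.range M.col) = ⊤ := by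
    apply Submodule.eq_top_of_finrank_eq
    rw [← Matrix.rank_eq_finrank_span_cols, hrank, Module.finrank_fintype_fun_eq_card,
      Fintype.card_fin]
  obtain ⟨b, hbsub, hbspan, hbli⟩ := exists_linearIndependent K (Set.range M.col)
  have hbfin : b.Finite := (Set.finite_range M.col).subset hbsub
  haveI : Fintype b := hbfin.fintype
  let B : Basis b K (Fin c → K) := Basis.mk hbli (by
    rw [Subtype.range_coe, hbspan, htop])
  have hcard : Fintype.card b = c := by
    rw [← Module.finrank_eq_card_basis B, Module.finrank_fintype_fun_eq_card, Fintype.card_fin]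
  let e : Fin c ≃ b := (Fintype.equivFinOfCardEq hcard).symm
  have hg : ∀ y : b, ∃ i : Fin n, M.col i = y := fun y => hbsub y.2
  choose g hg' using hg
  have hginj : Function.Injective g := by
    intro y y' hyy'
    apply Subtype.ext
    rw [← hg' y, ← hg' y', hyy']
  refine ⟨⟨g ∘ e, hginj.comp e.injective⟩, ?_⟩
  have hcol : (M.submatrix id (g ∘ e)).col = fun k => ((e k : b) : Fin c → K) := by
    funext k
    rw [← hg' (e k)]
    rfl
  have hli : LinearIndependent K (M.submatrix id (g ∘ e)).col := by
    rw [hcol]
    exact hbli.comp e e.injective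
  have hunit := Matrix.linearIndependent_cols_iff_isUnit.1 hli
  exact ((Matrix.isUnit_iff_isUnit_det _).1 hunit).ne_zero

end Groth.Agent.Helper5.Jac
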