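import Mathlib
import Groth.Prelude.Def_RegImm
import Groth.Agent.Helper6.CINormal

set_option autoImplicit false
set_option linter.style.haveILetI false
universe u
open MvPolynomial KaehlerDifferential IsLocalRing

namespace Groth.Agent.Helper5.Jac

/-- the differential of a polynomial in terms of its partial derivatives -/
theorem D_eq_sum_pderiv (R : Type u) [CommRing R] (n : ℕ) (p : MvPolynomial (Fin n) R) :
    D R (MvPolynomial (Fin n) R) p =
      ∑ i, MvPolynomial.pderiv i p • D R (MvPolynomial (Fin n) R) (X i) := by
  have h := (KaehlerDifferential.mvPolynomialBasis R (Fin n)).sum_repr (D R _ p)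
  exact h.symm.trans (Finset.sum_congr rfl fun i _ => by
    rw [KaehlerDifferential.mvPolynomialBasis_repr_apply,
      KaehlerDifferential.mvPolynomialBasis_apply])

section loc

variable {P : Type u} [CommRing P] (I : Ideal P) (q : Ideal (P ⧸ I)) [hqp : q.IsPrime]

/-- the prime of `P` under a prime of `P ⧸ I` -/
abbrev under : Ideal P := q.comap (Ideal.Quotient.mk I)

instance : (under I q).IsPrime := Ideal.comap_isPrime _ _

theorem le_under : I ≤ under I q := by
  intro x hx
  show Ideal.Quotient.mk I x ∈ q
  rw [Ideal.Quotient.eq_zero_iff_mem.2 hx]
  exact q.zero_mem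

/-- the quotient of the local ring of `P` by the extension of `I` is the local ring of `P ⧸ I` -/
theorem isLocalization_quot :
    IsLocalization q.primeCompl
      (Localization.AtPrime (under I q) ⧸ I.map (algebraMap P (Localization.AtPrime (under I q)))) := by
  have hqmap : (under I q).map (Ideal.Quotient.mk I) = q :=
    Ideal.map_comap_of_surjective _ Ideal.Quotient.mk_surjective q
  haveI hmp : ((under I q).map (Ideal.Quotient.mk I)).IsPrime :=
    Groth.Agent.Helper6.CINormal.map_isPrime I (under I q) (le_under I q)
  have hloc0 : IsLocalization.AtPrime
      (Localization.AtPrime (under I q) ⧸ I.map (algebraMap P (Localization.AtPrime (under I q))))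
      ((under I q).map (Ideal.Quotient.mk I)) :=
    Groth.Agent.Helper6.CINormal.isLocalization_atPrime I (under I q) (le_under I q)
  have hcompl : ((under I q).map (Ideal.Quotient.mk I)).primeCompl = q.primeCompl := by
    ext x
    show x ∉ _ ↔ x ∉ _
    rw [hqmap]
  rw [← hcompl]
  exact hloc0

/-- smoothness at `q` in terms of the quotient of the local ring of `P` -/
theorem formallySmooth_quot (R : Type u) [CommRing R] [Algebra R P]
    (hs : Algebra.IsSmoothAt R q) :
    Algebra.FormallySmooth R
      (Localization.AtPrime (under I q) ⧸ I.map (algebraMap P (Localization.AtPrime (under I q)))) := by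
  haveI hloc := isLocalization_quot I q
  haveI : IsScalarTower R (P ⧸ I)
      (Localization.AtPrime (under I q) ⧸ I.map (algebraMap P (Localization.AtPrime (under I q)))) :=
    IsScalarTower.of_algebraMap_eq (R := R) (S := P ⧸ I)
      (A := Localization.AtPrime (under I q) ⧸
        I.map (algebraMap P (Localization.AtPrime (under I q)))) (fun r => by
      show Ideal.Quotient.mk _ (algebraMap R (Localization.AtPrime (under I q)) r) =
        Ideal.Quotient.mk _ (algebraMap P (Localization.AtPrime (under I q)) (algebraMap R P r))
      rw [← IsScalarTower.algebraMap_apply R P (Localization.AtPrime (under I q))])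
  let e : Localization.AtPrime q ≃ₐ[P ⧸ I]
      (Localization.AtPrime (under I q) ⧸ I.map (algebraMap P (Localization.AtPrime (under I q)))) :=
    IsLocalization.algEquiv q.primeCompl (Localization.AtPrime q) _
  haveI : Algebra.FormallySmooth R (Localization.AtPrime q) := hs
  exact Algebra.FormallySmooth.of_equiv (R := R) (A := Localization.AtPrime q) (e.restrictScalars R)

end loc

end Groth.Agent.Helper5.Jac
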