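import Mathlib
import Groth.Prelude.Def_RegImm
import Groth.Agent.Helper5.Jac2
import Groth.Agent.Helper5.Jac3
import Groth.Agent.Helper5.Jac4
import Groth.Agent.Helper5.RelGCI13
import Groth.Agent.Helper3.KzCot
import Groth.Agent.Helper3.KzLoc

set_option autoImplicit false
set_option linter.style.haveILetI false
universe u
open MvPolynomial KaehlerDifferential IsLocalRing

namespace Groth.Agent.Helper5.Jac

section main

variable (R : Type u) [CommRing R] (n c : ℕ) (F : Fin c → MvPolynomial (Fin n) R)
  (q : Ideal (Synt.RelGCIRing R n c F)) [hqp : q.IsPrime]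

local notation "II" => Ideal.span (Set.range F)
local notation "Q'" => under (Ideal.span (Set.range F)) q
local notation "PP" => MvPolynomial (Fin n) R
local notation "P'" => Localization.AtPrime (under (Ideal.span (Set.range F)) q)
local notation "I'" => Ideal.map (algebraMap (MvPolynomial (Fin n) R)
  (Localization.AtPrime (under (Ideal.span (Set.range F)) q))) (Ideal.span (Set.range F))

theorem ker_eq : RingHom.ker (algebraMap P' (P' ⧸ I')) = I' := Ideal.mk_ker

theorem ker_le : RingHom.ker (algebraMap P' (P' ⧸ I')) ≤ maximalIdeal P' := by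
  rw [ker_eq, Ideal.map_le_iff_le_comap]
  intro x hx
  exact (IsLocalization.AtPrime.to_map_mem_maximal_iff P' Q' x).2 (le_under II q hx)

theorem map_mem_ker (j : Fin c) :
    algebraMap PP P' (F j) ∈ RingHom.ker (algebraMap P' (P' ⧸ I')) := by
  rw [ker_eq]
  exact Ideal.mem_map_of_mem _ (Ideal.subset_span (Set.mem_range_self j))

/-- the conormal module of the local presentation is free on the classes of the relations -/
theorem exists_basis (hF : Synt.IsRelGCI R n c F) :
    ∃ b : Module.Basis (Fin c) (P' ⧸ RingHom.ker (algebraMap P' (P' ⧸ I')))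
      (RingHom.ker (algebraMap P' (P' ⧸ I'))).Cotangent,
      ∀ j, b j = (RingHom.ker (algebraMap P' (P' ⧸ I'))).toCotangent
        ⟨algebraMap PP P' (F j), map_mem_ker R n c F q j⟩ := by
  have hne : RingHom.ker (algebraMap P' (P' ⧸ I')) ≠ ⊤ := fun htop =>
    (maximalIdeal.isMaximal P').ne_top (top_le_iff.1 (htop ▸ ker_le R n c F q))
  have hflat : (algebraMap PP P').Flat := by
    rw [RingHom.flat_algebraMap_iff]
    exact IsLocalization.flat P' (Q').primeCompl
  have hkr : LCI.IsKoszulRegularSeq P' (List.ofFn (fun j => algebraMap PP P' (F j))) := by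
    have := Groth.Agent.Helper3.KzLoc.kreg_map_of_flat (algebraMap PP P') hflat (List.ofFn F)
      (Groth.Agent.Helper5.RelGCI.s9254 R n c F hF)
    rwa [List.map_ofFn] at this
  have hfI : Ideal.span (Set.range (fun j => algebraMap PP P' (F j))) =
      RingHom.ker (algebraMap P' (P' ⧸ I')) := by
    rw [ker_eq, Ideal.map_span, ← Set.range_comp]
    rfl
  exact Groth.Agent.Helper3.KzCot.main hne c
    (fun j => ⟨algebraMap PP P' (F j), map_mem_ker R n c F q j⟩) hkr hfI

theorem D_map (j : Fin c) :
    D R P' (algebraMap PP P' (F j)) =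
      ∑ i, algebraMap PP P' (MvPolynomial.pderiv i (F j)) • D R P' (algebraMap PP P' (X i)) := by
  rw [← KaehlerDifferential.map_D R R PP P', D_eq_sum_pderiv, map_sum]
  apply Finset.sum_congr rfl
  intro i _
  rw [map_smul, KaehlerDifferential.map_D]
  exact (algebraMap_smul (R := PP) P' (MvPolynomial.pderiv i (F j))
    (D R P' (algebraMap PP P' (X i)))).symm

set_option maxHeartbeats 1000000 in
/-- Jacobian criterion, hard direction -/
theorem exists_minor_of_isSmoothAt (hF : Synt.IsRelGCI R n c F)
    (hs : Algebra.IsSmoothAt R q) :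
    ∃ J : Fin c ↪ Fin n, Ideal.Quotient.mk (Ideal.span (Set.range F))
      (Matrix.det (Matrix.of fun j i => MvPolynomial.pderiv (J i) (F j))) ∉ q := by
  classical
  haveI hsB : Algebra.FormallySmooth R (P' ⧸ I') := formallySmooth_quot II q R hs
  haveI : Algebra.FormallySmooth PP P' := Algebra.FormallySmooth.of_isLocalization (Q').primeCompl
  haveI hsP' : Algebra.FormallySmooth R P' := Algebra.FormallySmooth.comp R PP P'
  have hsurj : Function.Surjective (algebraMap P' (P' ⧸ I')) := Ideal.Quotient.mk_surjective
  obtain ⟨b, hb⟩ := exists_basis R n c F q hF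
  have key := coeff_mem_of_formallySmooth (R := R) (A := P') (B := P' ⧸ I') hsurj c n
    (fun j => ⟨algebraMap PP P' (F j), map_mem_ker R n c F q j⟩) b hb
    (fun i => D R P' (algebraMap PP P' (X i)))
    (fun j i => algebraMap PP P' (MvPolynomial.pderiv i (F j)))
    (fun j => D_map R n c F q j) (maximalIdeal P') (ker_le R n c F q)
  -- the Jacobian matrix over the residue field
  let M : Matrix (Fin c) (Fin n) (ResidueField P') :=
    fun j i => residue P' (algebraMap PP P' (MvPolynomial.pderiv i (F j)))
  have hli : LinearIndependent (ResidueField P') M.row := by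
    rw [Fintype.linearIndependent_iff]
    intro g hg j
    have hlift : ∀ k, ∃ a : P', residue P' a = g k := fun k => residue_surjective (g k)
    choose a ha using hlift
    have hmem : ∀ i, ∑ k, a k * algebraMap PP P' (MvPolynomial.pderiv i (F k)) ∈
        maximalIdeal P' := by
      intro i
      rw [← residue_eq_zero_iff, map_sum]
      have := congrFun hg i
      simp only [Finset.sum_apply, Pi.smul_apply, smul_eq_mul, Pi.zero_apply] at this
      rw [← this]
      apply Finset.sum_congr rfl
      intro k _
      rw [map_mul, ha k]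
      rfl
    rw [← ha j]
    exact (residue_eq_zero_iff _).2 (key a hmem j)
  obtain ⟨J, hJ⟩ := exists_minor_ne_zero M hli
  refine ⟨J, ?_⟩
  intro hmem
  apply hJ
  have hmat : M.submatrix id J = ((residue P').comp (algebraMap PP P')).mapMatrix
      (Matrix.of fun j i => MvPolynomial.pderiv (J i) (F j)) := by
    ext j i
    rfl
  rw [hmat, ← RingHom.map_det, RingHom.comp_apply, residue_eq_zero_iff,
    IsLocalization.AtPrime.to_map_mem_maximal_iff P' Q']
  exact hmem

end main

end Groth.Agent.Helper5.Jac
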