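import Mathlib
import Groth.Prelude
import Groth.Agent.Helper5.JacDimC
import Groth.Agent.Lead.OmegaSecE
import Groth.Agent.Helper2.FiberSmooth2
import Groth.Agent.Helper5.VarDim11

set_option autoImplicit false
set_option linter.style.haveILetI false
set_option linter.unusedSectionVars false
set_option linter.unusedVariables false

open CategoryTheory CategoryTheory.Limits AlgebraicGeometry Opposite TopologicalSpace

universe u

namespace Groth.Agent.Helper5.JacDimD

open Groth.Agent.Lead

theorem s8916 {X S : Scheme.{u}} (f : X ⟶ S) [Flat f] [LocallyOfFinitePresentation f]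
    [QuasiSeparated f] (d : ℕ)
    (hdim : ∀ s : ↥S, ∀ T ∈ irreducibleComponents ↥(f.fiber s), topologicalKrullDim ↥T = d)
    (x : ↥X) :
    x ∈ (Fitt.sheafIdeal (Omega.sheaf f) d).support ↔
      ¬ ∃ U : X.Opens, x ∈ U ∧ Smooth (U.ι ≫ f) := by
  haveI hlfp : LocallyOfFinitePresentation (f.fiberToSpecResidueField (f x)) :=
    inferInstanceAs (LocallyOfFinitePresentation (pullback.snd f (S.fromSpecResidueField (f x))))
  haveI hqs : QuasiSeparated (f.fiberToSpecResidueField (f x)) :=
    inferInstanceAs (QuasiSeparated (pullback.snd f (S.fromSpecResidueField (f x))))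
  haveI hlft : LocallyOfFiniteType (f.fiberToSpecResidueField (f x)) :=
    (inferInstance : LocallyOfFiniteType (pullback.snd f (S.fromSpecResidueField (f x))))
  have hloc : FlatMor.localDim (f.fiber (f x)) (f.asFiber x) = (d : WithBot ℕ∞) :=
    @Groth.Agent.Helper5.VarDim.localDim_eq_of_components
      (IsLocalRing.ResidueField (S.presheaf.stalk (f x))) _ _
      (f.fiberToSpecResidueField (f x)) hlft d (hdim (f x)) (f.asFiber x)
  have hfield : IsField (S.residueField (f x)) :=
    Field.toIsField (IsLocalRing.ResidueField (S.presheaf.stalk (f x)))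
  have h1 : x ∈ (Fitt.sheafIdeal (Omega.sheaf f) d).support ↔
      f.asFiber x ∈ (Fitt.sheafIdeal (Omega.sheaf (f.fiberToSpecResidueField (f x))) d).support := by
    have hm := OmegaSecE.main f (S.fromSpecResidueField (f x)) d
    have hm' : (Fitt.sheafIdeal (Omega.sheaf f) d).comap (f.fiberι (f x)) =
        Fitt.sheafIdeal (Omega.sheaf (f.fiberToSpecResidueField (f x))) d := hm
    rw [← hm', Scheme.IdealSheafData.support_comap]
    show _ ↔ f.fiberι (f x) (f.asFiber x) ∈ (Fitt.sheafIdeal (Omega.sheaf f) d).support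
    rw [f.fiberι_asFiber x]
  rw [h1, Groth.Agent.Helper5.JacDimC.sf (S.residueField (f x)) hfield
    (f.fiberToSpecResidueField (f x)) (f.asFiber x) d hloc,
    Groth.Agent.Helper2.PtDesc.smooth_nbhd_iff f x, ← Scheme.Hom.mem_smoothLocus,
    Groth.Agent.Helper2.FiberSmooth2.mem_smoothLocus_iff_flat_and_fiber f x]
  have hflat : (f.stalkMap x).hom.Flat := (Flat.iff_flat_stalkMap f).mp inferInstance x
  constructor
  · intro h ⟨_, h2⟩
    exact h h2
  · intro h h2
    exact h ⟨hflat, h2⟩

end Groth.Agent.Helper5.JacDimD
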