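import Mathlib
import Groth.Agent.Helper5.JacSch

set_option autoImplicit false
universe u

namespace Groth.Agent.Helper5.Jac

open AlgebraicGeometry TopologicalSpace CategoryTheory

theorem finite_closure_inter_affineOpen {X : Scheme.{u}} [IsLocallyNoetherian X] (z : X)
    (hz : IsLocallyClosed ({z} : Set X)) (W : X.Opens) (hW : IsAffineOpen W) :
    (closure ({z} : Set X) ∩ W).Finite := by
  by_cases hzW : z ∈ W
  · have : IsNoetherianRing Γ(X, W) := IsLocallyNoetherian.component_noetherian ⟨W, hW⟩
    have hrange : Set.range hW.fromSpec = W := hW.range_fromSpec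
    have hemb := hW.fromSpec.isOpenEmbedding
    obtain ⟨z₀, rfl⟩ : z ∈ Set.range hW.fromSpec := hrange ▸ hzW
    have hz₀ : IsLocallyClosed ({z₀} : Set (PrimeSpectrum Γ(X, W))) := by
      have := hz.preimage hW.fromSpec.continuous
      rwa [← Set.image_singleton, Set.preimage_image_eq _ hemb.injective] at this
    have hfin := finite_closure_of_isLocallyClosed (R := Γ(X, W)) z₀ hz₀
    refine (hfin.image hW.fromSpec).subset ?_
    rintro y ⟨hy1, hy2⟩
    obtain ⟨y₀, rfl⟩ : y ∈ Set.range hW.fromSpec := hrange ▸ hy2
    rw [← specializes_iff_mem_closure] at hy1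
    exact ⟨y₀, specializes_iff_mem_closure.mp (hemb.isInducing.specializes_iff.mp hy1), rfl⟩
  · convert Set.finite_empty
    rw [Set.eq_empty_iff_forall_notMem]
    rintro y ⟨hy1, hy2⟩
    rw [← specializes_iff_mem_closure] at hy1
    exact hzW (hy1.mem_open W.isOpen hy2)

theorem finite_closure_of_isLocallyClosed_singleton {X : Scheme.{u}} [IsNoetherian X] (z : X)
    (hz : IsLocallyClosed ({z} : Set X)) : (closure ({z} : Set X)).Finite := by
  obtain ⟨t, ht⟩ := isCompact_univ.elim_finite_subcover
    (fun W : X.affineOpens => ((W : X.Opens) : Set X)) (fun W => W.1.isOpen)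
    (by
      intro x _
      have : x ∈ ((⨆ W : X.affineOpens, (W : X.Opens) : X.Opens) : Set X) := by
        rw [iSup_affineOpens_eq_top]; trivial
      simpa using this)
  have : closure ({z} : Set X) ⊆ ⋃ W ∈ t, closure ({z} : Set X) ∩ (W : X.Opens) := by
    intro y hy
    have := ht (Set.mem_univ y)
    simp only [Set.mem_iUnion] at this ⊢
    obtain ⟨W, hWt, hyW⟩ := this
    exact ⟨W, hWt, hy, hyW⟩
  refine Set.Finite.subset ?_ this
  exact Set.Finite.biUnion t.finite_toSet fun W _ =>
    finite_closure_inter_affineOpen z hz W W.2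

/-- S4883 -/
theorem s4883 (X : Scheme.{u}) [IsNoetherian X]
    (Z : Set X) (hZ : IsLocallyClosed Z) (hne : Z.Nonempty) :
    ∃ x ∈ Z, (closure ({x} : Set X)).Finite := by
  obtain ⟨z, hzZ, -, hz⟩ := exists_closedPoint_of_isLocallyClosed Z hZ hne
  exact ⟨z, hzZ, finite_closure_of_isLocallyClosed_singleton z hz⟩

/-- S4880 -/
theorem s4880 (X : Scheme.{u}) [IsNoetherian X] [IrreducibleSpace X] :
    [IsOpen ({genericPoint X} : Set X),
      Finite X,
      topologicalKrullDim X ≤ 1 ∧ {x : X | IsClosed ({x} : Set X)}.Finite].TFAE := by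
  have hgen : closure ({genericPoint X} : Set X) = Set.univ := (genericPoint_spec X).def
  have hη : ∀ x : X, closure ({x} : Set X) = Set.univ → x = genericPoint X := fun x hx =>
    IsGenericPoint.eq (S := Set.univ) hx hgen
  tfae_have 1 → 2 := by
    intro h
    have := finite_closure_of_isLocallyClosed_singleton (genericPoint X) h.isLocallyClosed
    rw [hgen] at this
    exact Set.finite_univ_iff.mp this
  tfae_have 2 → 1 := by
    intro h
    have hcompl : ({genericPoint X} : Set X)ᶜ = ⋃ y ∈ ({genericPoint X} : Set X)ᶜ, closure {y} := by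
      ext z
      simp only [Set.mem_compl_iff, Set.mem_singleton_iff, Set.mem_iUnion, exists_prop]
      constructor
      · intro hz; exact ⟨z, hz, subset_closure rfl⟩
      · rintro ⟨y, hy, hzy⟩ rfl
        apply hy
        apply hη
        rw [Set.eq_univ_iff_forall]
        intro w
        have h1 : closure ({genericPoint X} : Set X) ⊆ closure {y} :=
          closure_minimal (Set.singleton_subset_iff.mpr hzy) isClosed_closure
        exact h1 (hgen ▸ Set.mem_univ w)
    rw [← isClosed_compl_iff, hcompl]
    exact (Set.toFinite _).isClosed_biUnion fun _ _ => isClosed_closure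
  tfae_have 1 → 3 := by
    intro h
    have hfin : Finite X := by
      have := finite_closure_of_isLocallyClosed_singleton (genericPoint X) h.isLocallyClosed
      rw [hgen] at this
      exact Set.finite_univ_iff.mp this
    refine ⟨?_, Set.toFinite _⟩
    have := topologicalKrullDim_closure_le_one (genericPoint X) h.isLocallyClosed
    rw [hgen] at this
    rwa [← (Homeomorph.Set.univ X).isHomeomorph.topologicalKrullDim_eq]
  tfae_have 3 → 1 := by
    rintro ⟨hdim, hfin⟩
    rw [topologicalKrullDim, Order.krullDim_le_one_iff] at hdim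
    have hclosed : ∀ x : X, x ≠ genericPoint X → IsClosed ({x} : Set X) := by
      intro x hx
      let T : IrreducibleCloseds X := ⟨closure {x}, isIrreducible_singleton.closure, isClosed_closure⟩
      rcases hdim T with hmin | hmax
      · rw [← closure_subset_iff_isClosed]
        intro x' hx'
        let T' : IrreducibleCloseds X :=
          ⟨closure {x'}, isIrreducible_singleton.closure, isClosed_closure⟩
        have hle : T' ≤ T := by
          change closure {x'} ⊆ closure {x}
          exact closure_minimal (Set.singleton_subset_iff.mpr hx') isClosed_closure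
        have hge : closure ({x} : Set X) ⊆ closure {x'} := hmin hle
        have h1 : x' ⤳ x := specializes_iff_mem_closure.mpr (hge (subset_closure rfl))
        have h2 : x ⤳ x' := specializes_iff_mem_closure.mpr hx'
        rw [Set.mem_singleton_iff]
        exact (h1.antisymm h2).eq
      · exfalso
        apply hx
        apply hη
        let Ttop : IrreducibleCloseds X :=
          ⟨Set.univ, IrreducibleSpace.isIrreducible_univ X, isClosed_univ⟩
        have hle : T ≤ Ttop := by
          change closure {x} ⊆ Set.univ
          exact Set.subset_univ _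
        have : (Set.univ : Set X) ⊆ closure {x} := hmax hle
        exact Set.univ_subset_iff.mp this
    have hcompl : ({genericPoint X} : Set X)ᶜ =
        ⋃ y ∈ {x : X | IsClosed ({x} : Set X)} \ {genericPoint X}, {y} := by
      ext z
      simp only [Set.mem_compl_iff, Set.mem_singleton_iff, Set.mem_iUnion, exists_prop,
        Set.mem_sdiff, Set.mem_ofPred_eq]
      constructor
      · intro hz; exact ⟨z, ⟨hclosed z hz, hz⟩, rfl⟩
      · rintro ⟨y, ⟨-, hy⟩, rfl⟩; exact hy
    rw [← isClosed_compl_iff, hcompl]
    exact (hfin.subset Set.sdiff_subset).isClosed_biUnion fun y hy => hy.1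
  tfae_finish

end Groth.Agent.Helper5.Jac
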