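import Mathlib
import Groth.Agent.Helper5.JacRing

set_option autoImplicit false
universe u

namespace Groth.Agent.Helper5.Jac

open AlgebraicGeometry TopologicalSpace CategoryTheory

/-- S5913 -/
theorem s5913 (X : Scheme.{u}) [IsLocallyNoetherian X] :
    JacobsonSpace X ↔
      ∀ (R : CommRingCat.{u}) [IsDomain R] (i : Spec R ⟶ X) [IsImmersion i],
        ¬ (Finite (MaximalSpectrum R) ∧ ringKrullDim R = 1) := by
  constructor
  · intro hX R _ i _ ⟨hfin, hdim⟩
    have h1 : JacobsonSpace i.coborderRange.toScheme :=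
      JacobsonSpace.of_isOpenEmbedding i.coborderRange.ι.isOpenEmbedding
    have h2 : JacobsonSpace (Spec R) :=
      JacobsonSpace.of_isClosedEmbedding i.liftCoborder.isClosedEmbedding
    have h3 : IsJacobsonRing R := PrimeSpectrum.isJacobsonRing_iff_jacobsonSpace.mpr h2
    have hB : ¬ IsField R := (ringKrullDim_eq_one_iff_of_isDomain.mp hdim).1
    exact not_finite_maximalSpectrum_of_isJacobsonRing hB hfin
  · intro h
    have hcov : IsOpenCover (fun W : X.affineOpens => (W : X.Opens)) :=
      iSup_affineOpens_eq_top X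
    rw [hcov.jacobsonSpace_iff]
    intro W
    have hW : IsAffineOpen (W : X.Opens) := W.2
    have : IsNoetherianRing Γ(X, W) := IsLocallyNoetherian.component_noetherian W
    suffices hJ : IsJacobsonRing Γ(X, W) by
      have h2 : JacobsonSpace (Spec Γ(X, W)) := PrimeSpectrum.isJacobsonRing_iff_jacobsonSpace.mp hJ
      exact JacobsonSpace.of_isOpenEmbedding hW.isoSpec.hom.homeomorph.isOpenEmbedding
    by_contra hJ
    obtain ⟨q, hq, h1, h2⟩ := exists_prime_semilocal_dim_one Γ(X, W) hJ
    have : IsClosedImmersion (Spec.map (CommRingCat.ofHom (Ideal.Quotient.mk q))) :=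
      IsClosedImmersion.spec_of_surjective _ Ideal.Quotient.mk_surjective
    exact h (CommRingCat.of (Γ(X, W) ⧸ q))
      (Spec.map (CommRingCat.ofHom (Ideal.Quotient.mk q)) ≫ hW.fromSpec) ⟨h1, h2⟩

end Groth.Agent.Helper5.Jac
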