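import Groth.Agent.Helper5.KDim1
import Groth.Agent.Helper5.ResTr
import Mathlib

set_option autoImplicit false
universe u
open CategoryTheory CategoryTheory.Limits AlgebraicGeometry TopologicalSpace

namespace Groth.Agent.Helper5.KDim

open Groth.Agent.Helper5.GenDim

theorem s10841 (k : Type u) [Field k] {X Y : Scheme.{u}}
    (p : X ⟶ Spec (CommRingCat.of k)) (q : Y ⟶ Spec (CommRingCat.of k))
    [LocallyOfFiniteType p] [LocallyOfFiniteType q]
    [IrreducibleSpace ↥X] (f : Y ⟶ X) (hf : f ≫ p = q)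
    (hη : genericPoint ↥X ∈ Set.range f.base) :
    topologicalKrullDim ↥X ≤ topologicalKrullDim ↥Y := by
  have hsub : Subsingleton ↥(Spec (CommRingCat.of k)) :=
    inferInstanceAs (Subsingleton (PrimeSpectrum k))
  refine dim_le_of_resTrdeg_le k p _ ?_
  intro x n hn
  obtain ⟨m', hm'⟩ := exists_resTrdeg_nat p (genericPoint ↥X)
  have h1 := resTrdeg_le_of_specializes_fibre p (genericPoint ↥X) x (genericPoint_specializes x)
    (Subsingleton.elim _ _)
  obtain ⟨y₀, hy₀⟩ := hη
  obtain ⟨m, hm⟩ := exists_resTrdeg_nat q y₀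
  have h2 := Groth.Agent.Helper5.ResTr.resTrdeg_comp f p y₀
  rw [hf, hm] at h2
  have hy₀' : f y₀ = genericPoint ↥X := hy₀
  rw [hy₀', hm'] at h2
  have h3 : (m' : Cardinal.{u}) ≤ (m : Cardinal.{u}) := by
    rw [h2]; exact le_self_add
  rw [hn, hm'] at h1
  have hnm : n ≤ m := by
    have h4 : n ≤ m' := by exact_mod_cast h1
    have h5 : m' ≤ m := by exact_mod_cast h3
    omega
  exact le_trans (by exact_mod_cast hnm) (le_dim_of_resTrdeg q y₀ m hm)

end Groth.Agent.Helper5.KDim
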