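import Groth.Agent.Helper5.KDim3
import Groth.Agent.Helper5.DomGen
import Mathlib

set_option autoImplicit false
universe u
open CategoryTheory CategoryTheory.Limits AlgebraicGeometry TopologicalSpace

namespace Groth.Agent.Helper5.KDim

open Groth.Agent.Helper5.GenDim Groth.Agent.Helper5.BCMin

theorem s10884 (k : Type u) [Field k] {X Y : Scheme.{u}}
    (q : Y ⟶ Spec (CommRingCat.of k)) [LocallyOfFiniteType q]
    (f : X ⟶ Y) [LocallyOfFiniteType f] [QuasiCompact f] (hdom : DenseRange f.base) (r : ℕ)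
    (hfib : ∀ y : Y, (f.base ⁻¹' {y}).Nonempty → topologicalKrullDim (f.base ⁻¹' {y}) = r) :
    topologicalKrullDim X = (r : WithBot ℕ∞) + topologicalKrullDim Y := by
  have hlft : LocallyOfFiniteType (f ≫ q) := inferInstance
  apply le_antisymm
  · refine dim_le_of_resTrdeg_le k (f ≫ q) _ ?_
    intro x n hn
    obtain ⟨m, hm⟩ := exists_resTrdeg_nat q (f x)
    obtain ⟨nf, hnf⟩ := exists_resTrdeg_nat f x
    have h2 := Groth.Agent.Helper5.ResTr.resTrdeg_comp f q x
    rw [hn, hm, hnf] at h2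
    have hsum : n = m + nf := by exact_mod_cast h2
    have h3 : (nf : WithBot ℕ∞) ≤ (r : WithBot ℕ∞) := by
      have := le_dim_of_mem f (f x) Set.univ isClosed_univ x ⟨rfl, trivial⟩ nf hnf
      rw [Set.inter_univ] at this
      rwa [hfib (f x) ⟨x, rfl⟩] at this
    have h4 : (m : WithBot ℕ∞) ≤ topologicalKrullDim ↥Y := le_dim_of_resTrdeg q (f x) m hm
    calc (n : WithBot ℕ∞) = (nf : WithBot ℕ∞) + (m : WithBot ℕ∞) := by
          rw [hsum]; push_cast; rw [add_comm]
      _ ≤ (r : WithBot ℕ∞) + topologicalKrullDim ↥Y := add_le_add h3 h4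
  · refine s10885 k q f r ?_
    intro η hη
    obtain ⟨x, hx⟩ := Groth.Agent.Helper5.DomGen.exists_preimage_of_maximal f hdom η hη
    exact le_of_eq (hfib η ⟨x, hx⟩).symm

end Groth.Agent.Helper5.KDim
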