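import Mathlib
import Groth.Prelude.Def_Dual3
import Groth.Prelude.Def_Flat
import Groth.Agent.Helper5.KLem7

set_option autoImplicit false
universe u

namespace Groth.Agent.Helper5.KLem

open CategoryTheory CategoryTheory.Limits AlgebraicGeometry TopologicalSpace Topology
open Groth.Agent.Helper5.PtOpen Groth.Agent.Helper5.GenDim

/-- S4924 -/
theorem s4924 {X Y : Scheme.{u}} [IsLocallyNoetherian Y]
    (f : X ⟶ Y) [LocallyOfFiniteType f] [QuasiCompact f] (hf : IsOpenMap f.base) (y : Y) :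
    ∃ U : X.Opens, f.base ⁻¹' {y} ⊆ (U : Set X) ∧ ∃ V ∈ nhds y, ∀ z ∈ V,
      topologicalKrullDim ↥((U : Set X) ∩ f.base ⁻¹' {z}) = topologicalKrullDim ↥((U : Set X) ∩ f.base ⁻¹' {y}) := by
  let D := topologicalKrullDim ↥(f ⁻¹' {y})
  have hD : D ≠ ⊤ := dim_fibre_ne_top f y
  let U : X.Opens := ⟨{x | FlatMor.fibreDimAt f x ≤ D},
    Groth.Agent.Helper5.FibDim.isOpen_fibreDimAt_le f D⟩
  have hyU : f ⁻¹' {y} ⊆ (U : Set X) := by
    intro x hx
    have hx' : f x = y := hx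
    have := fibreDimAt_le_dim f x
    rw [hx'] at this
    exact this
  have hUy : (U : Set X) ∩ f ⁻¹' {y} = f ⁻¹' {y} := Set.inter_eq_right.mpr hyU
  -- upper bound everywhere
  have hupper : ∀ z : Y, topologicalKrullDim ↥((U : Set X) ∩ f ⁻¹' {z}) ≤ D := by
    intro z
    rw [dim_open_inter_fibre]
    have := dim_fibre_inter_closed_le (U.ι ≫ f) z Set.univ isClosed_univ D
      (fun ζ _ n hn => by
        have h1 : Dual3.resTrdeg f (U.ι ζ) = (n : Cardinal.{u}) := by
          rw [← resTrdeg_open]; exact hn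
        have h2 := le_fibreDimAt_of_resTrdeg f (U.ι ζ) n (le_of_eq h1.symm)
        exact h2.trans ζ.2)
    rwa [Set.inter_univ] at this
  -- lower bound near `y`
  let g := U.ι ≫ f
  have hgy : topologicalKrullDim ↥(g ⁻¹' {y}) = D := by
    rw [← dim_open_inter_fibre, hUy]
  have hgen := Groth.Agent.Helper5.GenLift.generalizingMap_of_isOpenMap f hf
  have hlower := le_dim_fibre_mem_nhds' g y (hgy ▸ hD) (by
    intro u hu y' hy'
    have hu' : f (U.ι u) = y := hu
    obtain ⟨x', hx', hfx'⟩ := hgen (hu'.symm ▸ hy' : y' ⤳ f (U.ι u))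
    have hx'U : x' ∈ U := hx'.mem_open U.isOpen u.2
    refine ⟨⟨x', hx'U⟩, ?_, hfx'⟩
    exact U.ι.isOpenEmbedding.isInducing.specializes_iff.mp hx')
  refine ⟨U, hyU, _, hlower, fun z hz => ?_⟩
  have hz' : topologicalKrullDim ↥(g ⁻¹' {y}) ≤ topologicalKrullDim ↥(g ⁻¹' {z}) := hz
  rw [← dim_open_inter_fibre, ← dim_open_inter_fibre, hUy] at hz'
  show topologicalKrullDim ↥((U : Set X) ∩ f ⁻¹' {z}) = topologicalKrullDim ↥((U : Set X) ∩ f ⁻¹' {y})
  rw [hUy]
  exact le_antisymm (hupper z) hz'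

end Groth.Agent.Helper5.KLem
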