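import Mathlib

set_option autoImplicit false
universe u
open CategoryTheory Limits HomologicalComplex

namespace Groth.Agent.Helper5.KProj

attribute [local instance] HasDerivedCategory.standard

variable {A : Type u} [Ring A]

/-- bounded above complexes of projective modules are K-projective -/
theorem isKProjective_of_bounded (M : CochainComplex (ModuleCat.{u} A) ℤ) (b : ℤ)
    (hM : ∀ n : ℤ, b < n → IsZero (M.X n)) [∀ n, Module.Projective A (M.X n)] :
    M.IsKProjective := by
  have : M.IsStrictlyLE b := by
    rw [CochainComplex.isStrictlyLE_iff]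
    intro i hi
    exact hM i hi
  have : ∀ n, Projective (M.X n) := fun n => by
    rw [← IsProjective.iff_projective]
    infer_instance
  exact CochainComplex.isKProjective_of_projective M b

/-- maps out of a K-projective complex which agree after a quasi-isomorphism are homotopic -/
theorem homotopic_of_comp_quasiIso {P M N : CochainComplex (ModuleCat.{u} A) ℤ} [P.IsKProjective]
    (γ : M ⟶ N) [QuasiIso γ] (β₁ β₂ : P ⟶ M) (h : β₁ ≫ γ = β₂ ≫ γ) :
    Nonempty (Homotopy β₁ β₂) := by
  have hbij := CochainComplex.IsKProjective.Qh_map_bijective P
    ((HomotopyCategory.quotient _ _).obj M)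
  have hQγ : IsIso (DerivedCategory.Q.map γ) := inferInstance
  have h1 : DerivedCategory.Q.map β₁ = DerivedCategory.Q.map β₂ := by
    rw [← cancel_mono (DerivedCategory.Q.map γ), ← Functor.map_comp, ← Functor.map_comp, h]
  have h2 : DerivedCategory.Qh.map ((HomotopyCategory.quotient _ _).map β₁) =
      DerivedCategory.Qh.map ((HomotopyCategory.quotient _ _).map β₂) := by
    have e := DerivedCategory.quotientCompQhIso (ModuleCat.{u} A)
    have n1 := e.hom.naturality β₁
    have n2 := e.hom.naturality β₂
    simp only [Functor.comp_map] at n1 n2
    rw [← cancel_mono (e.hom.app M), n1, n2, h1]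
  exact ⟨HomotopyCategory.homotopyOfEq _ _ (hbij.injective h2)⟩

end Groth.Agent.Helper5.KProj
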