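import Mathlib
import Groth.Prelude.Def_LCI2
import Groth.Agent.Helper3.KoszulGen
import Groth.Agent.Lead.KSwapC
import Groth.Agent.Lead.KoszulFunC
import Groth.Agent.Helper1.KoszulDepth
import Groth.Agent.Helper1.KoszulReg

/-!
# Koszul-regular sequences become regular after a generic change of generators (part 1)

The polynomial `gpoly l` with coefficient list `l`; if `l` is Koszul-regular (and nonempty),
`gpoly l` is a non-zero-divisor of `R[X]` (McCoy), and the tail of `l` stays Koszul-regular
modulo `gpoly l`.
-/

set_option autoImplicit false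
set_option linter.style.haveILetI false
set_option linter.unusedSectionVars false
set_option linter.unusedVariables false
universe u
open Polynomial CategoryTheory CategoryTheory.Limits CohIII

namespace Groth.Agent.Helper5.KRegSm

section gpoly
variable {A : Type u} [CommRing A]

/-- the polynomial with coefficient list `l` -/
noncomputable def gpoly : List A → A[X]
  | [] => 0
  | a :: t => C a + X * gpoly t

@[simp] lemma gpoly_nil : gpoly ([] : List A) = 0 := rfl
@[simp] lemma gpoly_cons (a : A) (t : List A) : gpoly (a :: t) = C a + X * gpoly t := rfl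

lemma gpoly_mem (l : List A) : gpoly l ∈ Ideal.span {x | x ∈ l.map C} := by
  induction l with
  | nil => simp
  | cons a t ih =>
    rw [gpoly_cons]
    refine Ideal.add_mem _ (Ideal.subset_span (by simp)) ?_
    refine Ideal.mul_mem_left _ _ (Ideal.span_mono ?_ ih)
    intro x hx
    simp only [List.map_cons, List.mem_cons, Set.mem_setOf_eq] at hx ⊢
    exact Or.inr hx

lemma gpoly_sub_mem (a : A) (t : List A) :
    gpoly (a :: t) - C a ∈ Ideal.span {x | x ∈ t.map C} := by
  rw [gpoly_cons, add_sub_cancel_left]
  exact Ideal.mul_mem_left _ _ (gpoly_mem t)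

lemma mul_eq_zero_of_smul_gpoly (c : A) : ∀ l : List A, c • gpoly l = 0 → ∀ x ∈ l, c * x = 0
  | [], _ => by simp
  | a :: t, h => by
    have h0 : c * a = 0 := by
      have := congrArg (fun p => p.coeff 0) h
      simpa using this
    have h1 : c • gpoly t = 0 := by
      ext n
      have := congrArg (fun p => p.coeff (n + 1)) h
      simpa using this
    intro x hx
    rcases List.mem_cons.1 hx with rfl | hx
    · exact h0
    · exact mul_eq_zero_of_smul_gpoly c t h1 x hx

lemma map_gpoly {B : Type u} [CommRing B] (φ : A →+* B) :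
    ∀ l : List A, (gpoly l).map φ = gpoly (l.map φ)
  | [] => by simp
  | a :: t => by simp [map_gpoly φ t]

end gpoly

section kreg
variable {R : Type u} [CommRing R]

open Groth.Agent.Helper1.Koszul in
/-- a Koszul-regular nonempty sequence is killed by no nonzero element -/
theorem eq_zero_of_killed (l : List R) (hl : LCI.IsKoszulRegularSeq R l) (hne : l ≠ [])
    (c : R) (hc : ∀ x ∈ l, x * c = 0) : c = 0 := by
  obtain ⟨e⟩ := nonempty_homology_bot_equiv (A := R) R l
  have hz : IsZero ((koszulCx (ModuleCat.of R R) l).homology (-(l.length : ℤ))) := by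
    refine (Groth.Agent.Lead.KoszulFunC.isKoszulRegularSeq_iff l).1 hl _ ?_
    have : 0 < l.length := List.length_pos_iff.mpr hne
    omega
  haveI : Subsingleton ((koszulCx (ModuleCat.of R R) l).homology (-(l.length : ℤ))) :=
    ModuleCat.subsingleton_of_isZero hz
  have hmem : c ∈ killed R l := fun x hx => by rw [smul_eq_mul]; exact hc x hx
  have h1 : e.symm ⟨c, hmem⟩ = e.symm 0 := Subsingleton.elim _ _
  have h2 := e.symm.injective h1
  exact congrArg Subtype.val h2

/-- McCoy: the generic combination of a Koszul-regular sequence is a non-zero-divisor -/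
theorem gpoly_mem_nonZeroDivisors (l : List R) (hl : LCI.IsKoszulRegularSeq R l) (hne : l ≠ []) :
    gpoly l ∈ nonZeroDivisors R[X] := by
  by_contra h
  obtain ⟨a, ha, h0⟩ := Polynomial.notMem_nonZeroDivisors_iff.1 h
  refine ha (eq_zero_of_killed l hl hne a fun x hx => ?_)
  rw [mul_comm]
  exact mul_eq_zero_of_smul_gpoly a l h0 x hx

theorem kreg_singleton (g : R) (hg : g ∈ nonZeroDivisors R) : LCI.IsKoszulRegularSeq R [g] := by
  rw [Groth.Agent.Lead.KoszulFunC.isKoszulRegularSeq_iff]
  apply Groth.Agent.Helper1.Koszul.isZero_homology_of_isWeaklyRegular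
  rw [RingTheory.Sequence.isWeaklyRegular_cons_iff]
  refine ⟨?_, RingTheory.Sequence.IsWeaklyRegular.nil _ _⟩
  intro x y hxy
  simp only [smul_eq_mul] at hxy
  exact (mul_cancel_left_mem_nonZeroDivisors hg).1 hxy

end kreg

end Groth.Agent.Helper5.KRegSm
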