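import Mathlib
import Groth.Agent.Helper5.KRegSm1

/-!
# Koszul-regular sequences become regular after a generic change of generators (part 2)

The inductive step over a quotient ring `A ⧸ J`.
-/

set_option autoImplicit false
set_option linter.style.haveILetI false
set_option linter.unusedSectionVars false
set_option linter.unusedVariables false
universe u
open Polynomial CategoryTheory CategoryTheory.Limits CohIII

namespace Groth.Agent.Helper5.KRegSm

section step
variable {R : Type u} [CommRing R]

/-- the tail of a Koszul-regular sequence is Koszul-regular in `R[X]/(gpoly)` -/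
theorem kreg_step (f : R) (t : List R) (hl : LCI.IsKoszulRegularSeq R (f :: t))
    {Q : Type u} [CommRing Q] (φ : R[X] →+* Q) (hφ : Function.Surjective φ)
    (hker : RingHom.ker φ = Ideal.span {gpoly (f :: t)}) :
    LCI.IsKoszulRegularSeq Q ((t.map C).map φ) := by
  have h1 : LCI.IsKoszulRegularSeq R[X] ((f :: t).map C) := by
    have := Groth.Agent.Lead.KoszulFunC.isKoszulRegularSeq_of_flat (A := R) (B := R[X]) (f :: t) hl
    rwa [Polynomial.algebraMap_eq] at this
  have hg := gpoly_mem_nonZeroDivisors (f :: t) hl (by simp)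
  have h3 : LCI.IsKoszulRegularSeq R[X] [gpoly (f :: t)] := kreg_singleton _ hg
  have h2 : LCI.IsKoszulRegularSeq R[X] (t.map C ++ [gpoly (f :: t)]) := by
    refine Groth.Agent.Helper3.KoszulGen.isKoszulRegularSeq_of_span_eq ((f :: t).map C) _
      (by simp) ?_ h1
    have hsub := gpoly_sub_mem f t
    apply le_antisymm
    · rw [Ideal.span_le]
      intro x hx
      simp only [List.map_cons, List.mem_cons, Set.mem_setOf_eq] at hx
      rcases hx with rfl | hx
      · have h4 : gpoly (f :: t) ∈ Ideal.span {x | x ∈ t.map C ++ [gpoly (f :: t)]} :=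
          Ideal.subset_span (by simp)
        have h5 : gpoly (f :: t) - C f ∈ Ideal.span {x | x ∈ t.map C ++ [gpoly (f :: t)]} :=
          Ideal.span_mono (fun y hy => by
            simp only [Set.mem_setOf_eq, List.mem_append] at hy ⊢; exact Or.inl hy) hsub
        have := Ideal.sub_mem _ h4 h5
        rwa [sub_sub_cancel] at this
      · exact Ideal.subset_span (by
          simp only [Set.mem_setOf_eq, List.mem_append]; exact Or.inl hx)
    · rw [Ideal.span_le]
      intro x hx
      simp only [Set.mem_setOf_eq, List.mem_append, List.mem_singleton] at hx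
      rcases hx with hx | rfl
      · exact Ideal.subset_span (by
          simp only [List.map_cons, List.mem_cons, Set.mem_setOf_eq]; exact Or.inr hx)
      · have h4 : C f ∈ Ideal.span {x | x ∈ (f :: t).map C} := Ideal.subset_span (by simp)
        have h5 : gpoly (f :: t) - C f ∈ Ideal.span {x | x ∈ (f :: t).map C} :=
          Ideal.span_mono (fun y hy => by
            simp only [List.map_cons, List.mem_cons, Set.mem_setOf_eq] at hy ⊢
            exact Or.inr hy) hsub
        have := Ideal.add_mem _ h5 h4
        rwa [sub_add_cancel] at this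
  refine Groth.Agent.Lead.KSwapC.isKoszulRegularSeq_map_of_append φ hφ [gpoly (f :: t)] (t.map C)
    ?_ h3 h2
  rw [hker]
  simp [Ideal.ofList]

end step

section quot
variable {A : Type u} [CommRing A] (J : Ideal A)

/-- the ideal `J·A[X] + (g)` -/
noncomputable def Jnext (l : List A) : Ideal A[X] := J.map C ⊔ Ideal.span {gpoly l}

/-- the comparison map `(A ⧸ J)[X] → A[X] ⧸ (J·A[X] + (g))` -/
noncomputable def cmp (l : List A) : (A ⧸ J)[X] →+* A[X] ⧸ Jnext J l :=
  Polynomial.eval₂RingHom
    (Ideal.Quotient.lift J ((Ideal.Quotient.mk (Jnext J l)).comp C) (fun a ha => by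
      rw [RingHom.comp_apply, Ideal.Quotient.eq_zero_iff_mem]
      exact Ideal.mem_sup_left (Ideal.mem_map_of_mem _ ha)))
    (Ideal.Quotient.mk (Jnext J l) X)

lemma cmp_comp (l : List A) :
    (cmp J l).comp (Polynomial.mapRingHom (Ideal.Quotient.mk J)) = Ideal.Quotient.mk (Jnext J l) := by
  apply Polynomial.ringHom_ext
  · intro a
    simp [cmp]
  · simp [cmp]

lemma cmp_map (l : List A) (b : A[X]) :
    cmp J l (b.map (Ideal.Quotient.mk J)) = Ideal.Quotient.mk (Jnext J l) b := by
  have := congrArg (fun φ => φ b) (cmp_comp J l)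
  simpa using this

lemma cmp_surjective (l : List A) : Function.Surjective (cmp J l) := by
  intro y
  obtain ⟨b, rfl⟩ := Ideal.Quotient.mk_surjective y
  exact ⟨_, cmp_map J l b⟩

lemma ker_cmp (l : List A) :
    RingHom.ker (cmp J l) = Ideal.span {gpoly (l.map (Ideal.Quotient.mk J))} := by
  apply le_antisymm
  · intro x hx
    obtain ⟨b, rfl⟩ := Polynomial.map_surjective _ Ideal.Quotient.mk_surjective x
    rw [RingHom.mem_ker, cmp_map, Ideal.Quotient.eq_zero_iff_mem] at hx
    obtain ⟨j, hj, c, hc, rfl⟩ := Submodule.mem_sup.1 hx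
    obtain ⟨d, rfl⟩ := Ideal.mem_span_singleton'.1 hc
    have hj0 : j.map (Ideal.Quotient.mk J) = 0 := by
      have h1 : J.map C ≤ RingHom.ker (Polynomial.mapRingHom (Ideal.Quotient.mk J)) := by
        rw [Polynomial.ker_mapRingHom, Ideal.mk_ker]
      exact h1 hj
    rw [Polynomial.map_add, hj0, zero_add, Polynomial.map_mul, map_gpoly]
    exact Ideal.mul_mem_left _ _ (Ideal.subset_span rfl)
  · rw [Ideal.span_le]
    intro x hx
    rw [Set.mem_singleton_iff] at hx
    subst hx
    rw [SetLike.mem_coe, RingHom.mem_ker, ← map_gpoly, cmp_map, Ideal.Quotient.eq_zero_iff_mem]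
    exact Ideal.mem_sup_right (Ideal.subset_span rfl)

/-- the inductive step over the quotient `A ⧸ J` -/
theorem kreg_step_quot (f : A) (t : List A)
    (hl : LCI.IsKoszulRegularSeq (A ⧸ J) ((f :: t).map (Ideal.Quotient.mk J))) :
    LCI.IsKoszulRegularSeq (A[X] ⧸ Jnext J (f :: t))
      ((t.map C).map (Ideal.Quotient.mk (Jnext J (f :: t)))) := by
  have h := kreg_step (Ideal.Quotient.mk J f) (t.map (Ideal.Quotient.mk J)) hl
    (cmp J (f :: t)) (cmp_surjective J _) (by rw [ker_cmp]; rfl)
  have e : ((t.map (Ideal.Quotient.mk J)).map C).map (cmp J (f :: t)) =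
      (t.map C).map (Ideal.Quotient.mk (Jnext J (f :: t))) := by
    rw [List.map_map, List.map_map, List.map_map]
    apply List.map_congr_left
    intro a _
    have := cmp_map J (f :: t) (C a)
    simpa using this
  rwa [e] at h

/-- `gpoly` is regular modulo `J·A[X]` -/
theorem gpoly_colon (l : List A) (hne : l ≠ [])
    (hl : LCI.IsKoszulRegularSeq (A ⧸ J) (l.map (Ideal.Quotient.mk J)))
    (x : A[X]) (hx : gpoly l * x ∈ J.map C) : x ∈ J.map C := by
  have hg := gpoly_mem_nonZeroDivisors _ hl (by simpa using hne)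
  have hk : J.map C = RingHom.ker (Polynomial.mapRingHom (Ideal.Quotient.mk J)) := by
    rw [Polynomial.ker_mapRingHom, Ideal.mk_ker]
  rw [hk, RingHom.mem_ker] at hx ⊢
  rw [map_mul, Polynomial.coe_mapRingHom, map_gpoly] at hx
  exact (mul_right_mem_nonZeroDivisors_eq_zero_iff hg).1 (by rw [mul_comm]; exact hx)

end quot

end Groth.Agent.Helper5.KRegSm
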