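import Mathlib
import Groth.Agent.Helper5.KRegSm2
import Groth.Agent.Helper2.FlatDescCore
import Groth.Agent.Helper8.RegSeqA

/-!
# Koszul-regular sequences become regular after a smooth surjective base change (ring level)
-/

set_option autoImplicit false
set_option linter.style.haveILetI false
set_option linter.unusedSectionVars false
set_option linter.unusedVariables false
universe u
open Polynomial

namespace Groth.Agent.Helper5.KRegSm

section flatcolon
variable {B B' : Type u} [CommRing B] [CommRing B'] [Algebra B B'] [Module.Flat B B']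

/-- colon conditions are preserved by flat base change -/
theorem colon_flat (I : Ideal B) (g : B) (h : ∀ x, g * x ∈ I → x ∈ I) (y : B')
    (hy : algebraMap B B' g * y ∈ I.map (algebraMap B B')) : y ∈ I.map (algebraMap B B') := by
  have h1 : IsSMulRegular (B ⧸ I) g := by
    rw [isSMulRegular_quotient_iff_mem_of_smul_mem]
    intro x hx
    exact h x (by simpa using hx)
  have hbc := Groth.Agent.Helper2.FlatDescCore.isBaseChange_quotMap (R' := B')
    (Algebra.linearMap B B') (IsBaseChange.linearMap B B') I
  have h2 := IsSMulRegular.of_flat_of_isBaseChange hbc h1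
  rw [isSMulRegular_quotient_iff_mem_of_smul_mem] at h2
  have h3 := h2 y (by
    rw [smul_eq_mul]
    exact hy)
  exact h3

end flatcolon

section regon
variable {S : Type u} [CommRing S]

/-- successive non-zero-divisors modulo an ideal `K` -/
def RegOn : Ideal S → List S → Prop
  | _, [] => True
  | K, r :: rs => (∀ x, r * x ∈ K → x ∈ K) ∧ RegOn (K ⊔ Ideal.span {r}) rs

theorem RegOn.colon_aux : ∀ (l₁ : List S) (K : Ideal S) (r : S) (l₂ : List S),
    RegOn K (l₁ ++ r :: l₂) → ∀ x, r * x ∈ K ⊔ Ideal.ofList l₁ → x ∈ K ⊔ Ideal.ofList l₁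
  | [], K, r, l₂, h, x, hx => by
    simp only [Ideal.ofList_nil, sup_bot_eq] at hx ⊢
    exact h.1 x hx
  | a :: l₁, K, r, l₂, h, x, hx => by
    have h2 := RegOn.colon_aux l₁ (K ⊔ Ideal.span {a}) r l₂ h.2 x
    rw [Ideal.ofList_cons, ← sup_assoc] at hx ⊢
    exact h2 hx

theorem RegOn.isWeaklyRegular (rs : List S) (h : RegOn ⊥ rs) :
    RingTheory.Sequence.IsWeaklyRegular S rs := by
  rw [Groth.Agent.Helper8.RegSeqA.isWeaklyRegular_iff_colon]
  intro l₁ r l₂ hrs x hx
  subst hrs
  have := RegOn.colon_aux l₁ ⊥ r l₂ h x
  simpa using this (by simpa using hx)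

end regon

section good

/-- the class of base changes we allow: smooth, flat and surjective on spectra -/
structure Good (A A' : Type u) [CommRing A] [CommRing A'] [Algebra A A'] : Prop where
  smooth : Algebra.Smooth A A'
  flat : Module.Flat A A'
  surj : Function.Surjective (PrimeSpectrum.comap (algebraMap A A'))

theorem Good.refl (A : Type u) [CommRing A] : Good A A where
  smooth := { }
  flat := inferInstance
  surj := fun p => ⟨p, by ext; simp⟩

theorem Good.trans (A B C : Type u) [CommRing A] [CommRing B] [CommRing C] [Algebra A B]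
    [Algebra B C] [Algebra A C] [IsScalarTower A B C] (h1 : Good A B) (h2 : Good B C) :
    Good A C where
  smooth := by
    haveI := h1.smooth
    haveI := h2.smooth
    exact Algebra.Smooth.comp A B C
  flat := by
    haveI := h1.flat
    haveI := h2.flat
    exact Module.Flat.trans A B C
  surj := by
    intro p
    obtain ⟨q, rfl⟩ := h1.surj p
    obtain ⟨r, rfl⟩ := h2.surj q
    refine ⟨r, ?_⟩
    ext x
    simp [IsScalarTower.algebraMap_apply A B C]

theorem Good.polynomial (A : Type u) [CommRing A] : Good A A[X] where
  smooth := by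
    haveI : Algebra.Smooth A (MvPolynomial PUnit.{1} A) := { }
    exact Algebra.Smooth.of_equiv (MvPolynomial.pUnitAlgEquiv A)
  flat := inferInstance
  surj := by
    intro p
    refine ⟨⟨p.asIdeal.map C, inferInstance⟩, ?_⟩
    ext x
    simp only [PrimeSpectrum.comap_asIdeal, Ideal.mem_comap, Polynomial.algebraMap_eq]
    rw [Ideal.mem_map_C_iff]
    constructor
    · intro h
      simpa using h 0
    · intro h n
      rw [Polynomial.coeff_C]
      split_ifs
      · exact h
      · exact zero_mem _

end good

end Groth.Agent.Helper5.KRegSm
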