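import Mathlib
import Groth.Agent.Helper5.KRegSm3
import Groth.Agent.Helper3.KzLoc

/-!
# Koszul-regular sequences become regular after a smooth surjective base change: main induction
-/

set_option autoImplicit false
set_option linter.style.haveILetI false
set_option linter.unusedSectionVars false
set_option linter.unusedVariables false
universe u
open Polynomial

namespace Groth.Agent.Helper5.KRegSm

lemma sup_span_eq {S : Type u} [CommRing S] (T : Ideal S) (a b : S) (h : a - b ∈ T) :
    T ⊔ Ideal.span {a} = T ⊔ Ideal.span {b} := by
  apply le_antisymm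
  · refine sup_le le_sup_left ?_
    rw [Ideal.span_singleton_le_iff_mem]
    have : a = (a - b) + b := by ring
    rw [this]
    exact Ideal.add_mem _ (Ideal.mem_sup_left h) (Ideal.mem_sup_right (Ideal.subset_span rfl))
  · refine sup_le le_sup_left ?_
    rw [Ideal.span_singleton_le_iff_mem]
    have : b = a - (a - b) := by ring
    rw [this]
    exact Ideal.sub_mem _ (Ideal.mem_sup_right (Ideal.subset_span rfl)) (Ideal.mem_sup_left h)

theorem main_aux : ∀ (n : ℕ) (A : Type u) [CommRing A] (J : Ideal A) (l : List A), l.length = n →
    LCI.IsKoszulRegularSeq (A ⧸ J) (l.map (Ideal.Quotient.mk J)) →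
    ∃ (A' : Type u) (_ : CommRing A') (_ : Algebra A A'), Good A A' ∧
      ∃ l' : List A', RegOn (J.map (algebraMap A A')) l' ∧
        Ideal.ofList l' ⊔ J.map (algebraMap A A') =
          (Ideal.ofList l).map (algebraMap A A') ⊔ J.map (algebraMap A A')
  | 0, A, _, J, l, hlen, _ => by
    obtain rfl : l = [] := List.length_eq_zero_iff.1 hlen
    exact ⟨A, inferInstance, inferInstance, Good.refl A, [], trivial, by simp⟩
  | n + 1, A, _, J, l, hlen, hl => by
    obtain ⟨f, t, rfl⟩ : ∃ f t, l = f :: t := by
      cases l with
      | nil => simp at hlen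
      | cons f t => exact ⟨f, t, rfl⟩
    have ht : t.length = n := by simpa using hlen
    have hstep := kreg_step_quot J f t hl
    obtain ⟨B', _, _, hgood, t', hreg, hideal⟩ :=
      main_aux n A[X] (Jnext J (f :: t)) (t.map C) (by simp [ht]) hstep
    letI : Algebra A B' := ((algebraMap A[X] B').comp C).toAlgebra
    haveI : IsScalarTower A A[X] B' := IsScalarTower.of_algebraMap_eq (fun x => rfl)
    have hα : algebraMap A B' = (algebraMap A[X] B').comp C := rfl
    have hJ : J.map (algebraMap A B') = (J.map C).map (algebraMap A[X] B') := by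
      rw [hα, Ideal.map_map]
    have hJn : (Jnext J (f :: t)).map (algebraMap A[X] B') =
        J.map (algebraMap A B') ⊔ Ideal.span {algebraMap A[X] B' (gpoly (f :: t))} := by
      rw [Jnext, Ideal.map_sup, Ideal.map_span, Set.image_singleton, hJ]
    refine ⟨B', inferInstance, inferInstance, Good.trans A A[X] B' (Good.polynomial A) hgood,
      algebraMap A[X] B' (gpoly (f :: t)) :: t', ⟨?_, ?_⟩, ?_⟩
    · intro x hx
      rw [hJ] at hx ⊢
      haveI := hgood.flat
      exact colon_flat (J.map C) (gpoly (f :: t)) (gpoly_colon J (f :: t) (by simp) hl) x hx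
    · rw [← hJn]
      exact hreg
    · rw [hJn] at hideal
      have hT : (Ideal.ofList (t.map C)).map (algebraMap A[X] B') =
          (Ideal.ofList t).map (algebraMap A B') := by
        rw [Groth.Agent.Helper8.RegSeqA.ofList_map, Ideal.map_map, hα]
      rw [hT] at hideal
      have hsub : algebraMap A[X] B' (gpoly (f :: t)) - algebraMap A B' f ∈
          (Ideal.ofList t).map (algebraMap A B') ⊔ J.map (algebraMap A B') := by
        refine Ideal.mem_sup_left ?_
        rw [← hT]
        have h1 := gpoly_sub_mem f t
        have h2 : algebraMap A[X] B' (gpoly (f :: t)) - algebraMap A B' f =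
            algebraMap A[X] B' (gpoly (f :: t) - C f) := by
          rw [map_sub]; rfl
        rw [h2]
        apply Ideal.mem_map_of_mem
        exact h1
      calc Ideal.ofList (algebraMap A[X] B' (gpoly (f :: t)) :: t') ⊔ J.map (algebraMap A B')
          = Ideal.ofList t' ⊔ (J.map (algebraMap A B') ⊔
              Ideal.span {algebraMap A[X] B' (gpoly (f :: t))}) := by
            rw [Ideal.ofList_cons]
            ac_rfl
        _ = (Ideal.ofList t).map (algebraMap A B') ⊔ (J.map (algebraMap A B') ⊔
              Ideal.span {algebraMap A[X] B' (gpoly (f :: t))}) := hideal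
        _ = ((Ideal.ofList t).map (algebraMap A B') ⊔ J.map (algebraMap A B')) ⊔
              Ideal.span {algebraMap A[X] B' (gpoly (f :: t))} := by ac_rfl
        _ = ((Ideal.ofList t).map (algebraMap A B') ⊔ J.map (algebraMap A B')) ⊔
              Ideal.span {algebraMap A B' f} := sup_span_eq _ _ _ hsub
        _ = (Ideal.ofList (f :: t)).map (algebraMap A B') ⊔ J.map (algebraMap A B') := by
            rw [Ideal.ofList_cons, Ideal.map_sup, Ideal.map_span (algebraMap A B') {f},
              Set.image_singleton]
            ac_rfl

/-- **Ring-level statement**: a Koszul-regular sequence generates, after a smooth base change that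
is surjective on spectra, an ideal generated by a weakly regular sequence. -/
theorem ring_main (A : Type u) [CommRing A] (l : List A) (hl : LCI.IsKoszulRegularSeq A l) :
    ∃ (A' : Type u) (_ : CommRing A') (_ : Algebra A A'), Algebra.Smooth A A' ∧
      Function.Surjective (PrimeSpectrum.comap (algebraMap A A')) ∧
      ∃ l' : List A', RingTheory.Sequence.IsWeaklyRegular A' l' ∧
        Ideal.ofList l' = (Ideal.ofList l).map (algebraMap A A') := by
  have h0 : LCI.IsKoszulRegularSeq (A ⧸ (⊥ : Ideal A)) (l.map (Ideal.Quotient.mk ⊥)) := by
    have := Groth.Agent.Helper3.KzLoc.kreg_map_ringEquiv (RingEquiv.quotientBot A).symm l hl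
    have e : l.map (RingEquiv.quotientBot A).symm = l.map (Ideal.Quotient.mk ⊥) := by
      apply List.map_congr_left
      intro a _
      exact RingEquiv.quotientBot_symm_mk a
    rwa [e] at this
  obtain ⟨A', _, _, hgood, l', hreg, hideal⟩ := main_aux l.length A ⊥ l rfl h0
  refine ⟨A', inferInstance, inferInstance, hgood.smooth, hgood.surj, l', ?_, ?_⟩
  · rw [Ideal.map_bot] at hreg
    exact hreg.isWeaklyRegular
  · simpa using hideal

end Groth.Agent.Helper5.KRegSm
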