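import Mathlib
import Groth.Prelude.Def_RegImm
import Groth.Agent.Helper5.KRegSm4

/-!
# Koszul-regular closed immersions become regular after a smooth cover: charts
-/

set_option autoImplicit false
set_option linter.style.haveILetI false
set_option linter.unusedSectionVars false
set_option linter.unusedVariables false
universe u
open CategoryTheory CategoryTheory.Limits AlgebraicGeometry TopologicalSpace

namespace Groth.Agent.Helper5.KRegSm

/-- the sections over `U` of `Spec.map φ ≫ hU.fromSpec` -/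
theorem appLE_spec_fromSpec {X : Scheme.{u}} {U : X.Opens} (hU : IsAffineOpen U)
    {R : CommRingCat.{u}} (φ : Γ(X, U) ⟶ R)
    (hle : (⊤ : (Spec R).Opens) ≤ (Spec.map φ ≫ hU.fromSpec) ⁻¹ᵁ U) :
    (Spec.map φ ≫ hU.fromSpec).appLE U ⊤ hle = φ ≫ (Scheme.ΓSpecIso R).inv := by
  apply Spec.map_injective
  have h1 := IsAffineOpen.SpecMap_appLE_fromSpec (Spec.map φ ≫ hU.fromSpec) hU
    (isAffineOpen_top (Spec R)) hle
  haveI : Mono hU.fromSpec := inferInstance
  rw [← cancel_mono hU.fromSpec, h1, IsAffineOpen.fromSpec_top, Spec.map_comp, Category.assoc]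
  congr 1
  rw [Scheme.isoSpec_Spec]
  rfl

theorem chart {Z X : Scheme.{u}} (i : Z ⟶ X) (z : Z) (U : X.Opens) (hU : IsAffineOpen U)
    (hz : i z ∈ U) (rs : List Γ(X, U)) (hrs : LCI.IsKoszulRegularSeq Γ(X, U) rs) :
    ∃ (W : Scheme.{u}) (h : W ⟶ X) (hle : (⊤ : W.Opens) ≤ h ⁻¹ᵁ U), IsAffine W ∧ Smooth h ∧
      i z ∈ Set.range h ∧ ∃ rs' : List Γ(W, ⊤),
        RingTheory.Sequence.IsWeaklyRegular Γ(W, ⊤) rs' ∧
        Ideal.ofList rs' = Ideal.map (h.appLE U ⊤ hle).hom (Ideal.ofList rs) := by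
  obtain ⟨A', _, _, hsm, hsurj, l', hl', hid⟩ := ring_main Γ(X, U) rs hrs
  let φ : Γ(X, U) ⟶ CommRingCat.of A' := CommRingCat.ofHom (algebraMap Γ(X, U) A')
  have hle : (⊤ : (Spec (CommRingCat.of A')).Opens) ≤ (Spec.map φ ≫ hU.fromSpec) ⁻¹ᵁ U := by
    rw [Scheme.Hom.comp_preimage, hU.fromSpec_preimage_self]
    exact le_of_eq rfl
  refine ⟨Spec (CommRingCat.of A'), Spec.map φ ≫ hU.fromSpec, hle, inferInstance, ?_, ?_, ?_⟩
  · haveI : Smooth (Spec.map φ) := by
      rw [HasRingHomProperty.Spec_iff (P := @Smooth)]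
      exact RingHom.smooth_algebraMap.2 hsm
    infer_instance
  · have h1 : i z ∈ Set.range hU.fromSpec := by rw [hU.range_fromSpec]; exact hz
    obtain ⟨p, hp⟩ := h1
    obtain ⟨q, hq⟩ := hsurj p
    refine ⟨q, ?_⟩
    rw [Scheme.Hom.comp_apply]
    have : (Spec.map φ) q = p := hq
    rw [this, hp]
  · let ε := Scheme.ΓSpecIso (CommRingCat.of A')
    refine ⟨l'.map ε.inv.hom, ?_, ?_⟩
    · rw [Groth.Agent.Helper8.RegSeqA.isWeaklyRegular_iff_colon] at hl' ⊢
      exact hl'.map_bijective ε.inv.hom (ConcreteCategory.bijective_of_isIso ε.inv)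
    · rw [appLE_spec_fromSpec hU φ hle, Groth.Agent.Helper8.RegSeqA.ofList_map, hid,
        Ideal.map_map]
      rfl

end Groth.Agent.Helper5.KRegSm
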