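import Mathlib
import Groth.Prelude.Def_RegImm
import Groth.Agent.Helper5.KRegSm5
import Groth.Agent.Lead.RelBCb
import Groth.Agent.Helper8.RegSeqB

/-!
# Koszul-regular closed immersions become regular after a smooth cover
-/

set_option autoImplicit false
set_option linter.style.haveILetI false
set_option linter.unusedSectionVars false
set_option linter.unusedVariables false
universe u
open CategoryTheory CategoryTheory.Limits AlgebraicGeometry TopologicalSpace

namespace Groth.Agent.Helper5.KRegSm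

/-- regularity at a point of the base change to a component of a disjoint union -/
theorem regAt_component {Z X X' : Scheme.{u}} (i : Z ⟶ X) (g : X' ⟶ X)
    (U : X.Opens) (hU : IsAffineOpen U) [IsClosedImmersion (i ∣_ U)]
    (rs : List Γ(X, U)) (hker : RingHom.ker (i.app U).hom = Ideal.ofList rs)
    {W : Scheme.{u}} [IsAffine W] (j : W ⟶ X') [IsOpenImmersion j]
    (hle : (⊤ : W.Opens) ≤ (j ≫ g) ⁻¹ᵁ U)
    (rs' : List Γ(W, ⊤)) (hreg : RingTheory.Sequence.IsWeaklyRegular Γ(W, ⊤) rs')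
    (hid : Ideal.ofList rs' = Ideal.map ((j ≫ g).appLE U ⊤ hle).hom (Ideal.ofList rs))
    (z' : ↑(pullback i g)) (hz' : (pullback.snd i g) z' ∈ Set.range j) :
    RegImm.IsRegularImmersionAt RegImm.Kind.regular (pullback.snd i g) z' := by
  have hU' : IsAffineOpen j.opensRange := isAffineOpen_opensRange j
  have e : j.opensRange ≤ g ⁻¹ᵁ U := by
    rintro _ ⟨w, rfl⟩
    have : w ∈ (j ≫ g) ⁻¹ᵁ U := hle (by trivial)
    exact this
  obtain ⟨hcl', hker'⟩ := Groth.Agent.Lead.RelBCb.baseChange_chart' i g (pullback.snd i g)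
    (pullback.fst i g) (IsPullback.of_hasPullback i g) U hU j.opensRange hU' e
  have e2 : (⊤ : W.Opens) ≤ j ⁻¹ᵁ j.opensRange := fun w _ => ⟨w, rfl⟩
  let ψ : Γ(X', j.opensRange) ⟶ Γ(W, ⊤) := j.appLE j.opensRange ⊤ e2
  haveI : IsIso ψ := by
    haveI : IsIso (j.app j.opensRange) := j.isIso_app _ le_rfl
    show IsIso (j.app j.opensRange ≫ W.presheaf.map (homOfLE e2).op)
    have : (⊤ : W.Opens) = j ⁻¹ᵁ j.opensRange := le_antisymm e2 le_top
    haveI : IsIso (W.presheaf.map (homOfLE e2).op) := by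
      haveI : IsIso (homOfLE e2) := ⟨⟨homOfLE le_top, rfl, rfl⟩⟩
      infer_instance
    infer_instance
  have hψ : Function.Bijective ψ.hom := ConcreteCategory.bijective_of_isIso ψ
  have hcomp : (j ≫ g).appLE U ⊤ hle = g.appLE U j.opensRange e ≫ ψ :=
    (Scheme.Hom.appLE_comp_appLE j g U j.opensRange ⊤ e e2).symm
  let σ : Γ(W, ⊤) ⟶ Γ(X', j.opensRange) := inv ψ
  have hσ : Function.Bijective σ.hom := ConcreteCategory.bijective_of_isIso σ
  have hσψ : ∀ x, σ.hom (ψ.hom x) = x := fun x => by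
    have h1 : ψ ≫ σ = 𝟙 _ := IsIso.hom_inv_id ψ
    have h2 : (ψ ≫ σ).hom x = (𝟙 (Γ(X', j.opensRange))  : _ ⟶ _).hom x := by rw [h1]
    rw [CommRingCat.hom_comp, RingHom.comp_apply] at h2
    exact h2
  have hkerσ : RingHom.ker ((pullback.snd i g).app j.opensRange).hom =
      Ideal.ofList (rs'.map σ.hom) := by
    rw [Groth.Agent.Helper8.RegSeqA.ofList_map, hid, hcomp, hker', hker]
    rw [CommRingCat.hom_comp, ← Ideal.map_map, Ideal.map_map (f := ψ.hom) (g := σ.hom)]
    have : σ.hom.comp ψ.hom = RingHom.id _ := RingHom.ext hσψ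
    rw [this, Ideal.map_id]
  refine ⟨⟨j.opensRange, hU'⟩, hz', hcl', rs'.map σ.hom, ?_, hkerσ⟩
  show RingTheory.Sequence.IsRegular _ _
  rw [Groth.Agent.Helper8.RegSeqA.isRegular_iff_colon]
  refine ⟨?_, ?_⟩
  · rw [Groth.Agent.Helper8.RegSeqA.isWeaklyRegular_iff_colon] at hreg
    exact hreg.map_bijective σ.hom hσ
  · rw [← hkerσ]
    exact Groth.Agent.Helper8.RegSeqB.ker_app_ne_top (pullback.snd i g) z' hz'

end Groth.Agent.Helper5.KRegSm
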