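import Mathlib
import Groth.Prelude.Def_RegImm
import Groth.Agent.Helper5.KRegSm6

/-!
# Koszul-regular closed immersions become regular after a smooth cover: assembly
-/

set_option autoImplicit false
set_option linter.style.haveILetI false
set_option linter.unusedSectionVars false
set_option linter.unusedVariables false
universe u
open CategoryTheory CategoryTheory.Limits AlgebraicGeometry TopologicalSpace

namespace Groth.Agent.Helper5.KRegSm

theorem main {Z X : Scheme.{u}} (i : Z ⟶ X) [IsClosedImmersion i]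
    (hi : RegImm.IsRegularImmersion RegImm.Kind.koszul i) :
    ∃ (X' : Scheme.{u}) (g : X' ⟶ X), Smooth g ∧ Surjective g ∧
      RegImm.IsRegularImmersion RegImm.Kind.regular (pullback.snd i g) := by
  obtain ⟨_, hi2⟩ := hi
  choose U hzU hcl rs hrs hker using hi2
  have hch := fun z => chart i z (U z).1 (U z).2 (hzU z) (rs z) (hrs z)
  choose W h hle hWaff hsm hmem rs' hreg' hid' using hch
  let V : X.Opens := ⟨(Set.range i)ᶜ, i.isClosedEmbedding.isClosed_range.isOpen_compl⟩
  let Wf : Option Z → Scheme.{u} := fun o => Option.rec V.toScheme W o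
  let hf : ∀ o, Wf o ⟶ X := fun o => Option.rec (motive := fun o => Wf o ⟶ X) V.ι h o
  have hfsm : ∀ o, Smooth (hf o) := by
    intro o
    cases o with
    | none => show Smooth V.ι; infer_instance
    | some z => exact hsm z
  refine ⟨∐ Wf, Sigma.desc hf, IsZariskiLocalAtSource.sigmaDesc (P := @Smooth) hfsm, ?_, ?_⟩
  · apply Surjective.sigmaDesc_of_union_range_eq_univ
    rw [Set.eq_univ_iff_forall]
    intro x
    rw [Set.mem_iUnion]
    by_cases hx : x ∈ Set.range i
    · obtain ⟨z, rfl⟩ := hx
      exact ⟨some z, hmem z⟩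
    · refine ⟨none, ?_⟩
      show x ∈ Set.range V.ι
      rw [Scheme.Opens.range_ι]
      exact hx
  · refine ⟨inferInstance, fun z' => ?_⟩
    obtain ⟨⟨o, w⟩, hw⟩ := (sigmaMk Wf).surjective ((pullback.snd i (Sigma.desc hf)) z')
    rw [sigmaMk_mk] at hw
    have hcond : (Sigma.desc hf) ((pullback.snd i (Sigma.desc hf)) z') =
        i ((pullback.fst i (Sigma.desc hf)) z') := by
      rw [← Scheme.Hom.comp_apply, ← Scheme.Hom.comp_apply, pullback.condition]
    cases o with
    | none =>
      exfalso
      have h1 : (Sigma.desc hf) (Sigma.ι Wf none w) = V.ι w := by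
        rw [← Scheme.Hom.comp_apply, Sigma.ι_desc]
      rw [hw, hcond] at h1
      have h2 : V.ι w ∈ V := w.2
      rw [← h1] at h2
      exact h2 ⟨_, rfl⟩
    | some z =>
      haveI : IsClosedImmersion (i ∣_ (U z).1) := hcl z
      haveI : IsAffine (Wf (some z)) := hWaff z
      have hιd : Sigma.ι Wf (some z) ≫ Sigma.desc hf = h z := Sigma.ι_desc hf (some z)
      have hle' : (⊤ : (Wf (some z)).Opens) ≤ (Sigma.ι Wf (some z) ≫ Sigma.desc hf) ⁻¹ᵁ (U z).1 := by
        rw [hιd]; exact hle z
      refine regAt_component i (Sigma.desc hf) (U z).1 (U z).2 (rs z) (hker z)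
        (Sigma.ι Wf (some z)) hle' (rs' z) (hreg' z) ?_ z' ⟨w, hw⟩
      have key : ∀ (f : Wf (some z) ⟶ X) (hf' : f = h z)
          (hl : (⊤ : (Wf (some z)).Opens) ≤ f ⁻¹ᵁ (U z).1),
          f.appLE (U z).1 ⊤ hl = (h z).appLE (U z).1 ⊤ (hle z) := by
        intro f hf' hl
        subst hf'
        rfl
      rw [hid' z, key _ hιd hle']

end Groth.Agent.Helper5.KRegSm
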