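import Mathlib

set_option autoImplicit false
universe u

namespace Groth.Agent.Helper5.KaehlerTensor

open TensorProduct KaehlerDifferential

variable (R A B : Type u) [CommRing R] [CommRing A] [CommRing B] [Algebra R A] [Algebra R B]

/-- the bilinear map `(a, b) ↦ (1 ⊗ b) ⊗ da` -/
noncomputable def bil : A →ₗ[R] B →ₗ[R] ((A ⊗[R] B) ⊗[A] Ω[A⁄R]) :=
  LinearMap.mk₂ R (fun a b => ((1 : A) ⊗ₜ[R] b) ⊗ₜ[A] D R A a)
    (fun a a' b => by rw [map_add, TensorProduct.tmul_add])
    (fun c a b => by
      rw [(D R A).map_smul, TensorProduct.tmul_smul])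
    (fun a b b' => by rw [TensorProduct.tmul_add, TensorProduct.add_tmul])
    (fun c a b => by
      rw [TensorProduct.tmul_smul, ← TensorProduct.smul_tmul'])

/-- the derivation `a ⊗ b ↦ (1 ⊗ b) ⊗ da` -/
noncomputable def der : Derivation R (A ⊗[R] B) ((A ⊗[R] B) ⊗[A] Ω[A⁄R]) :=
  Derivation.mk' (TensorProduct.lift (bil R A B)) (by
    intro t t'
    induction t using TensorProduct.induction_on with
    | zero => simp
    | add x y hx hy => rw [add_mul, map_add, hx, hy, map_add, smul_add, add_smul]; abel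
    | tmul a b =>
      induction t' using TensorProduct.induction_on with
      | zero => simp
      | add x y hx hy => rw [mul_add, map_add, hx, hy, map_add, smul_add, add_smul]; abel
      | tmul a' b' =>
        rw [Algebra.TensorProduct.tmul_mul_tmul, TensorProduct.lift.tmul, TensorProduct.lift.tmul,
          TensorProduct.lift.tmul]
        simp only [bil, LinearMap.mk₂_apply]
        rw [Derivation.leibniz, TensorProduct.tmul_add, TensorProduct.tmul_smul,
          TensorProduct.tmul_smul, TensorProduct.smul_tmul', TensorProduct.smul_tmul',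
          TensorProduct.smul_tmul', TensorProduct.smul_tmul']
        simp only [Algebra.TensorProduct.tmul_mul_tmul, smul_eq_mul, TensorProduct.smul_tmul',
          mul_one]
        rw [mul_comm b' b])

theorem der_tmul (a : A) (b : B) :
    der R A B (a ⊗ₜ[R] b) = ((1 : A) ⊗ₜ[R] b) ⊗ₜ[A] D R A a := by
  simp [der, bil]


/-- the induced linear map on Kähler differentials -/
noncomputable def rmap : Ω[(A ⊗[R] B)⁄R] →ₗ[A ⊗[R] B] ((A ⊗[R] B) ⊗[A] Ω[A⁄R]) :=
  (der R A B).liftKaehlerDifferential

theorem rmap_D (t : A ⊗[R] B) : rmap R A B (D R (A ⊗[R] B) t) = der R A B t :=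
  Derivation.liftKaehlerDifferential_comp_D _ _

theorem rmap_mapBaseChange (y : (A ⊗[R] B) ⊗[A] Ω[A⁄R]) :
    rmap R A B (mapBaseChange R A (A ⊗[R] B) y) = y := by
  induction y using TensorProduct.induction_on with
  | zero => simp
  | add x y hx hy => rw [map_add, map_add, hx, hy]
  | tmul t ω =>
    have key : ∀ ω ∈ Submodule.span A (Set.range (D R A)),
        rmap R A B (mapBaseChange R A (A ⊗[R] B) ((1 : A ⊗[R] B) ⊗ₜ[A] ω)) =
          (1 : A ⊗[R] B) ⊗ₜ[A] ω := by
      intro ω hω
      induction hω using Submodule.span_induction with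
      | mem x hx =>
        obtain ⟨a, rfl⟩ := hx
        rw [mapBaseChange_tmul, one_smul, map_D, rmap_D, Algebra.TensorProduct.algebraMap_apply,
          der_tmul, Algebra.algebraMap_self, RingHom.id_apply, Algebra.TensorProduct.one_def]
      | zero => simp
      | add x y _ _ hx hy => rw [TensorProduct.tmul_add, map_add, map_add, hx, hy]
      | smul a x _ hx =>
        rw [TensorProduct.tmul_smul, LinearMap.map_smul_of_tower, LinearMap.map_smul_of_tower, hx]
    have h1 : t ⊗ₜ[A] ω = t • ((1 : A ⊗[R] B) ⊗ₜ[A] ω) := by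
      rw [TensorProduct.smul_tmul', smul_eq_mul, mul_one]
    rw [h1, map_smul, map_smul, key ω (by rw [span_range_derivation]; trivial)]

theorem main :
    ∃ r : Ω[(A ⊗[R] B)⁄R] →ₗ[A ⊗[R] B] ((A ⊗[R] B) ⊗[A] Ω[A⁄R]),
      (∀ (a : A) (b : B), r (KaehlerDifferential.D R (A ⊗[R] B) (a ⊗ₜ[R] b)) =
          ((1 : A) ⊗ₜ[R] b) ⊗ₜ[A] KaehlerDifferential.D R A a) ∧
        Function.Bijective (fun ω : Ω[(A ⊗[R] B)⁄R] =>
          (r ω, KaehlerDifferential.map R A (A ⊗[R] B) (A ⊗[R] B) ω)) := by
  refine ⟨rmap R A B, fun a b => by rw [rmap_D, der_tmul], ?_, ?_⟩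
  · intro ω ω' h
    simp only [Prod.mk.injEq] at h
    obtain ⟨h1, h2⟩ := h
    have h3 : KaehlerDifferential.map R A (A ⊗[R] B) (A ⊗[R] B) (ω - ω') = 0 := by
      rw [map_sub, h2, sub_self]
    obtain ⟨y, hy⟩ := (exact_mapBaseChange_map R A (A ⊗[R] B) (ω - ω')).mp h3
    have h4 : y = 0 := by
      rw [← rmap_mapBaseChange R A B y, hy, map_sub, h1, sub_self]
    rw [h4, map_zero] at hy
    exact sub_eq_zero.mp hy.symm
  · rintro ⟨y, η⟩
    -- the image of ker r under `map` is everything
    have htop : Submodule.map (KaehlerDifferential.map R A (A ⊗[R] B) (A ⊗[R] B))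
        (LinearMap.ker (rmap R A B)) = ⊤ := by
      rw [eq_top_iff, ← span_range_derivation, Submodule.span_le]
      rintro _ ⟨t, rfl⟩
      induction t using TensorProduct.induction_on with
      | zero => rw [map_zero]; exact Submodule.zero_mem _
      | add x y hx hy => rw [map_add]; exact Submodule.add_mem _ hx hy
      | tmul a b =>
        refine ⟨(a ⊗ₜ[R] (1 : B)) • D R (A ⊗[R] B) ((1 : A) ⊗ₜ[R] b), ?_, ?_⟩
        · rw [SetLike.mem_coe, LinearMap.mem_ker, map_smul, rmap_D, der_tmul,
            Derivation.map_one_eq_zero, TensorProduct.tmul_zero, smul_zero]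
        · rw [map_smul, map_D, Algebra.algebraMap_self, RingHom.id_apply]
          have h5 : (a ⊗ₜ[R] (1 : B)) • D A (A ⊗[R] B) ((1 : A) ⊗ₜ[R] b)
              = a • D A (A ⊗[R] B) ((1 : A) ⊗ₜ[R] b) := by
            rw [← algebraMap_smul (A ⊗[R] B) a, Algebra.TensorProduct.algebraMap_apply,
              Algebra.algebraMap_self, RingHom.id_apply]
          rw [h5, ← Derivation.map_smul, TensorProduct.smul_tmul', smul_eq_mul, mul_one]
    obtain ⟨ω₂, hω₂, rfl⟩ : η ∈ Submodule.map (KaehlerDifferential.map R A (A ⊗[R] B) (A ⊗[R] B))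
        (LinearMap.ker (rmap R A B)) := by rw [htop]; trivial
    refine ⟨mapBaseChange R A (A ⊗[R] B) y + ω₂, ?_⟩
    simp only [Prod.mk.injEq]
    refine ⟨?_, ?_⟩
    · rw [map_add, rmap_mapBaseChange, LinearMap.mem_ker.mp hω₂, add_zero]
    · rw [map_add, (exact_mapBaseChange_map R A (A ⊗[R] B) _).mpr ⟨y, rfl⟩, zero_add]

end Groth.Agent.Helper5.KaehlerTensor
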