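import Mathlib

set_option autoImplicit false
universe u v

namespace Groth.Agent.Helper5.KaehlerTr

open IntermediateField TensorProduct

open scoped IntermediateField.algebraAdjoinAdjoin in
/-- For a separably generated extension with separating family `x`, the `d (x i)` form a basis. -/
theorem exists_basis {k : Type u} {F : Type v} [Field k] [Field F] [Algebra k F] {ι : Type*}
    (x : ι → F) (hx : AlgebraicIndependent k x)
    [Algebra.IsSeparable (IntermediateField.adjoin k (Set.range x)) F] :
    ∃ b : Module.Basis ι F Ω[F⁄k], ∀ i, b i = KaehlerDifferential.D k F (x i) := by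
  classical
  let algPF : Algebra (MvPolynomial ι k) F := (MvPolynomial.aeval x).toAlgebra
  have htower : IsScalarTower k (MvPolynomial ι k) F :=
    IsScalarTower.of_algebraMap_eq' (by
      ext a
      simp [RingHom.algebraMap_toAlgebra])
  let algPA : Algebra (MvPolynomial ι k) (Algebra.adjoin k (Set.range x)) :=
    hx.aevalEquiv.toAlgHom.toRingHom.toAlgebra
  have htower2 : IsScalarTower (MvPolynomial ι k) (Algebra.adjoin k (Set.range x)) F :=
    IsScalarTower.of_algebraMap_eq' (RingHom.ext fun p => (hx.algebraMap_aevalEquiv p).symm)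
  have h1 : Algebra.FormallyEtale (MvPolynomial ι k) (Algebra.adjoin k (Set.range x)) :=
    Algebra.FormallyEtale.of_equiv
      ({ hx.aevalEquiv with commutes' := fun _ => rfl } :
        MvPolynomial ι k ≃ₐ[MvPolynomial ι k] Algebra.adjoin k (Set.range x))
  have h2 : Algebra.FormallyEtale (Algebra.adjoin k (Set.range x))
      (IntermediateField.adjoin k (Set.range x)) :=
    .of_isLocalization (nonZeroDivisors _)
  have h3 : Algebra.FormallyEtale (IntermediateField.adjoin k (Set.range x)) F :=
    Algebra.FormallyEtale.of_isSeparable _ F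
  have h4 : Algebra.FormallyEtale (Algebra.adjoin k (Set.range x)) F :=
    .comp _ (IntermediateField.adjoin k (Set.range x)) _
  have h5 : Algebra.FormallyEtale (MvPolynomial ι k) F :=
    .comp _ (Algebra.adjoin k (Set.range x)) _
  refine ⟨((KaehlerDifferential.mvPolynomialBasis k ι).baseChange F).map
    (KaehlerDifferential.tensorKaehlerEquivOfFormallyEtale k (MvPolynomial ι k) F), fun i => ?_⟩
  rw [Module.Basis.map_apply, Module.Basis.baseChange_apply,
    KaehlerDifferential.mvPolynomialBasis_apply,
    KaehlerDifferential.tensorKaehlerEquivOfFormallyEtale_apply,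
    KaehlerDifferential.mapBaseChange_tmul, one_smul, KaehlerDifferential.map_D]
  congr 1
  simp [RingHom.algebraMap_toAlgebra]

end Groth.Agent.Helper5.KaehlerTr

namespace Groth.Agent.Helper5.KaehlerTr

theorem finrank_eq {k : Type u} {F : Type v} [Field k] [PerfectField k] [Field F] [Algebra k F]
    [Algebra.EssFiniteType k F] {ι : Type*} [Fintype ι] (x : ι → F)
    (hx : IsTranscendenceBasis k x) :
    Module.finrank F Ω[F⁄k] = Fintype.card ι ∧ Module.Finite F Ω[F⁄k] := by
  obtain ⟨s, hs, hsep⟩ := exists_isTranscendenceBasis_and_isSeparable_of_perfectField k F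
  have hsep' : Algebra.IsSeparable
      (IntermediateField.adjoin k (Set.range (Subtype.val : s → F))) F := by
    convert! hsep <;> simp
  obtain ⟨b, -⟩ := exists_basis (Subtype.val : s → F) hs.1
  refine ⟨?_, Module.Finite.of_basis b⟩
  rw [Module.finrank_eq_card_basis b]
  have := hs.lift_cardinalMk_eq hx
  simp only [Cardinal.mk_fintype, Cardinal.lift_natCast, Nat.cast_inj] at this
  exact this

end Groth.Agent.Helper5.KaehlerTr
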