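import Groth.Agent.Helper5.SchDenseMono1
import Groth.Agent.Helper5.EtDense3
import Groth.Agent.Helper4.AlgSpQC
import Mathlib

/-! The kernel ideal of a morphism of algebraic spaces on the small étale site of the target. -/

set_option autoImplicit false
set_option linter.style.haveILetI false
universe u
open CategoryTheory CategoryTheory.Limits AlgebraicGeometry Opposite MorphismProperty

namespace Groth.Agent.Helper5.KerIdeal

open AlgSp

variable {S : Scheme.{u}}

/-- the functions on an object `E` of the small étale site of `Y` which vanish on every scheme over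
`X ×_Y E` -/
noncomputable def kerIdeal {X Y : Sp S} (f : X ⟶ Y) : IdealEt Y where
  ideal E _ := ⨅ (T : Over S) (t : (yon S).obj T ⟶ X) (e : T ⟶ E.obj.left)
    (_ : t ≫ f = (yon S).map e ≫ E.obj.hom), RingHom.ker e.left.appTop.hom
  map_le {E E'} g hE hE' := by
    rw [Ideal.map_le_iff_le_comap]
    intro a ha
    rw [Ideal.mem_comap]
    simp only [Ideal.mem_iInf, RingHom.mem_ker] at ha ⊢
    intro T t e he
    have h1 := ha T t (e ≫ g.hom.left) (by
      rw [he, Functor.map_comp, Category.assoc, EtOver.w g])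
    rw [Over.comp_left, Scheme.Hom.comp_appTop, CommRingCat.hom_comp, RingHom.comp_apply] at h1
    exact h1

theorem mem_kerIdeal_iff {X Y : Sp S} (f : X ⟶ Y) (E : EtOver Y) (hE : IsAffine E.obj.left.left)
    (a : Γ(E.obj.left.left, ⊤)) :
    a ∈ (kerIdeal f).ideal E hE ↔ ∀ (T : Over S) (t : (yon S).obj T ⟶ X) (e : T ⟶ E.obj.left),
      t ≫ f = (yon S).map e ≫ E.obj.hom → e.left.appTop.hom a = 0 := by
  show a ∈ (⨅ (T : Over S) (t : (yon S).obj T ⟶ X) (e : T ⟶ E.obj.left)
    (_ : t ≫ f = (yon S).map e ≫ E.obj.hom), RingHom.ker e.left.appTop.hom) ↔ _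
  simp only [Ideal.mem_iInf, RingHom.mem_ker]

/-- `q : Q ⟶ E` is a covering chart of `X ×_Y E` -/
structure IsCoverChart {X Y : Sp S} (f : X ⟶ Y) (E : EtOver Y) {Q : Over S}
    (q : Q ⟶ E.obj.left) : Prop where
  exists_map : ∃ t : (yon S).obj Q ⟶ X, t ≫ f = (yon S).map q ≫ E.obj.hom
  cover : ∀ (T : Over S) (t' : (yon S).obj T ⟶ X) (e : T ⟶ E.obj.left),
    t' ≫ f = (yon S).map e ≫ E.obj.hom →
    ∃ (T' : Over S) (c : T' ⟶ T) (m : T' ⟶ Q), Flat c.left ∧ Surjective c.left ∧ m ≫ q = c ≫ e

/-- the kernel ideal is computed on a covering chart -/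
theorem kerIdeal_eq_ker {X Y : Sp S} (f : X ⟶ Y) (E : EtOver Y) {Q : Over S}
    (q : Q ⟶ E.obj.left) (h : IsCoverChart f E q) (hE : IsAffine E.obj.left.left) :
    (kerIdeal f).ideal E hE = RingHom.ker q.left.appTop.hom := by
  ext a
  rw [mem_kerIdeal_iff, RingHom.mem_ker]
  constructor
  · intro H
    obtain ⟨t, ht⟩ := h.exists_map
    exact H Q t q ht
  · intro H T t' e he
    obtain ⟨T', c, m, hcf, hcs, hm⟩ := h.cover T t' e he
    have h1 : (c ≫ e).left.appTop.hom a = 0 := by
      rw [← hm, Over.comp_left, Scheme.Hom.comp_appTop, CommRingCat.hom_comp, RingHom.comp_apply,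
        H, map_zero]
    rw [Over.comp_left, Scheme.Hom.comp_appTop, CommRingCat.hom_comp, RingHom.comp_apply] at h1
    have hinj := Groth.Agent.Helper5.EtDense.app_injective_of_flat_of_surjective c.left ⊤
    apply hinj
    rw [map_zero]
    exact h1

/-- base change of covering charts -/
theorem IsCoverChart.pullback {X Y X' Y' : Sp S} {f : X ⟶ Y} {f' : X' ⟶ Y'} {a : X' ⟶ X}
    {b : Y' ⟶ Y} (sq : IsPullback a f' f b) {E : EtOver Y} {E' : EtOver Y'}
    (r : E'.obj.left ⟶ E.obj.left) (hr : (yon S).map r ≫ E.obj.hom = E'.obj.hom ≫ b)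
    {Q : Over S} {q : Q ⟶ E.obj.left} (h : IsCoverChart f E q) :
    IsCoverChart f' E' (pullback.snd q r) := by
  obtain ⟨t, ht⟩ := h.exists_map
  constructor
  · refine ⟨sq.lift ((yon S).map (pullback.fst q r) ≫ t)
      ((yon S).map (pullback.snd q r) ≫ E'.obj.hom) ?_, sq.lift_snd _ _ _⟩
    rw [Category.assoc, ht, ← Category.assoc, ← Functor.map_comp, pullback.condition,
      Functor.map_comp, Category.assoc, hr, Category.assoc]
  · intro T t'' e he
    obtain ⟨T', c, m, hcf, hcs, hm⟩ := h.cover T (t'' ≫ a) (e ≫ r) (by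
      rw [Category.assoc, sq.w, ← Category.assoc, he, Category.assoc, ← hr, Functor.map_comp,
        Category.assoc])
    refine ⟨T', c, pullback.lift m (c ≫ e) (by rw [hm, Category.assoc]), hcf, hcs, ?_⟩
    rw [pullback.lift_snd]

set_option backward.isDefEq.respectTransparency.types false in
/-- a quasi-compact morphism has an affine covering chart over every affine object of the site -/
theorem exists_isCoverChart {X Y : Sp S} (f : X ⟶ Y) (hq : IsQuasiCompactMor f) (E : EtOver Y)
    (hE : IsAffine E.obj.left.left) :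
    ∃ (Q : Over S) (q : Q ⟶ E.obj.left), IsAffine Q.left ∧ IsCoverChart f E q := by
  have hP : IsQuasiCompactSp (Limits.pullback f E.obj.hom) :=
    (Groth.Agent.Helper4.AlgSpQC.isQuasiCompactMor_iff_affine f).1 hq E.obj.left hE E.obj.hom _
      (pullback.fst f E.obj.hom) (pullback.snd f E.obj.hom) (IsPullback.of_hasPullback _ _)
  obtain ⟨Q, p, hpe, hps, hQ⟩ := Groth.Agent.Helper4.AlgSpQC.exists_affine_chart hP
  obtain ⟨q, hq'⟩ := (yon S).map_surjective (p ≫ pullback.snd f E.obj.hom)
  refine ⟨Q, q, hQ, ⟨p ≫ pullback.fst f E.obj.hom, ?_⟩, ?_⟩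
  · rw [hq', Category.assoc, Category.assoc, pullback.condition]
  · intro T t' e he
    obtain ⟨T', c, m', sq'⟩ := hpe.1 (pullback.lift t' ((yon S).map e) he)
    obtain ⟨m, rfl⟩ := (yon S).map_surjective m'
    haveI : Etale c.left := hpe.2 _ _ _ sq'
    haveI : Surjective c.left := hps.2 _ _ _ sq'
    refine ⟨T', c, m, inferInstance, inferInstance, ?_⟩
    apply (yon S).map_injective
    rw [Functor.map_comp, hq', ← Category.assoc, sq'.w, Category.assoc, pullback.lift_snd,
      Functor.map_comp]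

end Groth.Agent.Helper5.KerIdeal
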