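import Groth.Agent.Helper5.KerIdeal1
import Mathlib

/-! The kernel ideal of a quasi-compact morphism is quasi-coherent and cuts out the scheme
theoretic image. -/

set_option autoImplicit false
set_option linter.style.haveILetI false
universe u
open CategoryTheory CategoryTheory.Limits AlgebraicGeometry Opposite MorphismProperty

namespace Groth.Agent.Helper5.KerIdeal

open AlgSp Groth.Agent.Helper5.IdealEtChart Groth.Agent.Helper5.SchImg

variable {S : Scheme.{u}}

set_option backward.isDefEq.respectTransparency.types false in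
/-- flat base change of the kernel ideal along a morphism of covering charts -/
theorem ker_pullback_snd_eq_map {B B' Q : Over S} (q : Q ⟶ B) (r : B' ⟶ B) [IsAffine B.left]
    [IsAffine B'.left] [IsAffine Q.left] [Flat r.left] :
    RingHom.ker (pullback.snd q r).left.appTop.hom =
      (RingHom.ker q.left.appTop.hom).map r.left.appTop.hom := by
  have sq : IsPullback (pullback.fst q r).left (pullback.snd q r).left q.left r.left :=
    Groth.Agent.Helper5.GeomFibSp.isPullback_left (IsPullback.of_hasPullback q r)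
  haveI : QuasiCompact q.left := inferInstance
  haveI : QuasiCompact (pullback.snd q r).left :=
    MorphismProperty.of_isPullback sq ‹QuasiCompact q.left›
  have hk := ker_comap_of_flat q.left r.left _ _ sq
  have h1 := congrArg (fun J : B'.left.IdealSheafData => J.ideal ⟨⊤, isAffineOpen_top _⟩) hk
  simp only at h1
  rw [Groth.Agent.Helper9.IdealComap.ideal_comap_top_of_isAffine, Scheme.Hom.ker_apply,
    Scheme.Hom.ker_apply] at h1
  exact h1

set_option backward.isDefEq.respectTransparency.types false in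
/-- the kernel ideal of a quasi-compact morphism is quasi-coherent, as an equality -/
theorem kerIdeal_map_eq {X Y : Sp S} (f : X ⟶ Y) (hq : IsQuasiCompactMor f) {E E' : EtOver Y}
    (g : E' ⟶ E) (hE : IsAffine E.obj.left.left) (hE' : IsAffine E'.obj.left.left) :
    (kerIdeal f).ideal E' hE' = ((kerIdeal f).ideal E hE).map g.hom.left.left.appTop.hom := by
  obtain ⟨Q, q, hQ, hc⟩ := exists_isCoverChart f hq E hE
  have hc' : IsCoverChart f E' (pullback.snd q g.hom.left) :=
    hc.pullback (IsPullback.of_horiz_isIso ⟨by simp⟩ : IsPullback (𝟙 X) f f (𝟙 Y)) g.hom.left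
      (by rw [Category.comp_id]; exact EtOver.w g)
  rw [kerIdeal_eq_ker f E q hc hE, kerIdeal_eq_ker f E' _ hc' hE']
  haveI := hE
  haveI := hE'
  haveI := hQ
  haveI : Etale g.hom.left.left := EtOver.etale_left g
  exact ker_pullback_snd_eq_map q g.hom.left

theorem kerIdeal_isQCoh {X Y : Sp S} (f : X ⟶ Y) (hq : IsQuasiCompactMor f) :
    (kerIdeal f).IsQCoh := fun _ _ g hE hE' => (kerIdeal_map_eq f hq g hE hE').le

/-- if `f` factors through a representable `i'`, the ideal of `i'` is in the kernel ideal of `f` -/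
theorem idealOfRep_le_kerIdeal_of_factor {X Y Z' : Sp S} (f : X ⟶ Y) (i' : Z' ⟶ Y)
    (hi' : Representable i') (f'' : X ⟶ Z') (hf'' : f'' ≫ i' = f) :
    idealOfRep hi' ≤ kerIdeal f := by
  intro E hE a ha
  rw [mem_idealOfRep_iff] at ha
  rw [mem_kerIdeal_iff]
  intro T t e he
  have sqi := EtOver.isPullback_bcObj hi' E
  let l := sqi.lift (t ≫ f'') ((yon S).map e) (by rw [Category.assoc, hf'', he])
  have h2 : l ≫ (yon S).map (EtOver.bcπ hi' E) = (yon S).map e := sqi.lift_snd _ _ _
  obtain ⟨l₀, hl₀⟩ := (yon S).map_surjective l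
  rw [← hl₀, ← Functor.map_comp] at h2
  have h3 : l₀ ≫ EtOver.bcπ hi' E = e := (yon S).map_injective h2
  have h4 : e.left = l₀.left ≫ (EtOver.bcπ hi' E).left := by
    rw [← h3]
    rfl
  rw [h4, Scheme.Hom.comp_appTop, CommRingCat.hom_comp, RingHom.comp_apply, ha, map_zero]

/-- the kernel ideal of `f` is contained in the ideal of every `T ⟶ X ⟶ Y` -/
theorem kerIdeal_le_idealOfRep_of_factor {X Y : Sp S} (f : X ⟶ Y) {T : Over S}
    (h : (yon S).obj T ⟶ Y) (hh : Representable h) (t : (yon S).obj T ⟶ X) (ht : t ≫ f = h) :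
    kerIdeal f ≤ idealOfRep hh := by
  intro E hE a ha
  rw [mem_kerIdeal_iff] at ha
  rw [mem_idealOfRep_iff]
  refine ha _ ((EtOver.bcObj hh E).obj.hom ≫ t) (EtOver.bcπ hh E) ?_
  rw [Category.assoc, ht]
  exact (EtOver.isPullback_bcObj hh E).w

theorem isSchImage_of_isCutOutBy_kerIdeal {X Y Z : Sp S} (hY : IsAlgSpace Y) (f : X ⟶ Y)
    (i : Z ⟶ Y) (h : IsCutOutBy (kerIdeal f) i) : IsSchImage f i := by
  obtain ⟨hi, hI⟩ := h
  haveI : Mono i := mono_of_closedImmersion i hi
  refine ⟨hi, ?_, ?_⟩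
  · refine Groth.Agent.Helper4.AlgSpOpenImage.exists_lift_of_mono i f (fun U s => ?_)
    have hh : Representable (s ≫ f) := hY.representable_from_yon _
    have H2 := kerIdeal_le_idealOfRep_of_factor f (s ≫ f) hh s rfl
    refine exists_factor_of_le hY i hi (s ≫ f) hh (fun E hE => ?_)
    exact (congrArg (fun J : IdealEt Y => J.ideal E hE) hI).le.trans (H2 E hE)
  · rintro Z' i' - hi' ⟨f'', hf''⟩
    refine exists_factor_of_idealOfRep_le hY i' hi' i hi.1 (fun E hE => ?_)
    have h1 := idealOfRep_le_kerIdeal_of_factor f i' hi'.1 f'' hf'' E hE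
    exact h1.trans (congrArg (fun J : IdealEt Y => J.ideal E hE) hI).ge

/-- for a quasi-compact morphism of algebraic spaces, the scheme theoretic image is the closed
subspace cut out by the kernel ideal -/
theorem isSchImage_iff_isCutOutBy_kerIdeal {X Y Z : Sp S} (hY : IsAlgSpace Y) (hZ : IsAlgSpace Z)
    (f : X ⟶ Y) (hq : IsQuasiCompactMor f) (i : Z ⟶ Y) :
    IsSchImage f i ↔ IsCutOutBy (kerIdeal f) i := by
  refine ⟨fun h => ?_, isSchImage_of_isCutOutBy_kerIdeal hY f i⟩
  obtain ⟨Z₀, i₀, hZ₀, hc₀⟩ := exists_isCutOutBy hY (kerIdeal f) (kerIdeal_isQCoh f hq)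
  have h₀ : IsSchImage f i₀ := isSchImage_of_isCutOutBy_kerIdeal hY f i₀ hc₀
  obtain ⟨e, he⟩ := isSchImage_unique hZ hZ₀ f i i₀ h h₀
  obtain ⟨hi₀, hI₀⟩ := hc₀
  exact ⟨h.1, (idealOfRep_eq_of_iso i h.1.1 i₀ hi₀.1 e he).trans hI₀⟩

end Groth.Agent.Helper5.KerIdeal
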