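import Groth.Agent.Helper5.KerIdeal2
import Mathlib

/-! Flat base change of the scheme theoretic image of a quasi-compact morphism. -/

set_option autoImplicit false
set_option linter.style.haveILetI false
universe u
open CategoryTheory CategoryTheory.Limits AlgebraicGeometry Opposite MorphismProperty

namespace Groth.Agent.Helper5.KerIdeal

open AlgSp Groth.Agent.Helper5.IdealEtChart Groth.Agent.Helper5.SchImg

variable {S : Scheme.{u}}

set_option backward.isDefEq.respectTransparency.types false in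
/-- base change of the ideal of a closed subspace, on objects of the sites related by a morphism -/
theorem idealOfRep_eq_map_of_isPullback {X Y Z ZX : Sp S} {f : X ⟶ Y} {i : Z ⟶ Y} {i₁ : ZX ⟶ Z}
    {iX : ZX ⟶ X} (sqZ : IsPullback i₁ iX i f) (hi : RepWith @IsClosedImmersion i)
    (hiX : RepWith @IsClosedImmersion iX) (Ek : EtOver X) (E₀ : EtOver Y)
    (r : Ek.obj.left ⟶ E₀.obj.left) (hr : (yon S).map r ≫ E₀.obj.hom = Ek.obj.hom ≫ f)
    (hEk : IsAffine Ek.obj.left.left) (hE₀ : IsAffine E₀.obj.left.left) :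
    (idealOfRep hiX.1).ideal Ek hEk =
      ((idealOfRep hi.1).ideal E₀ hE₀).map r.left.appTop.hom := by
  haveI := hEk
  haveI := hE₀
  have sq1 := EtOver.isPullback_bcObj hiX.1 Ek
  have sq0 := EtOver.isPullback_bcObj hi.1 E₀
  have big : IsPullback ((EtOver.bcObj hiX.1 Ek).obj.hom ≫ i₁) ((yon S).map (EtOver.bcπ hiX.1 Ek)) i
      ((yon S).map r ≫ E₀.obj.hom) := by
    rw [hr]
    exact sq1.paste_horiz sqZ
  let l := sq0.lift ((EtOver.bcObj hiX.1 Ek).obj.hom ≫ i₁)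
    ((yon S).map (EtOver.bcπ hiX.1 Ek) ≫ (yon S).map r) (by
      have := big.w
      simp only [Category.assoc] at this ⊢
      exact this)
  have h1 : l ≫ (EtOver.bcObj hi.1 E₀).obj.hom = (EtOver.bcObj hiX.1 Ek).obj.hom ≫ i₁ :=
    sq0.lift_fst _ _ _
  have h2 : l ≫ (yon S).map (EtOver.bcπ hi.1 E₀) =
      (yon S).map (EtOver.bcπ hiX.1 Ek) ≫ (yon S).map r := sq0.lift_snd _ _ _
  have sqL : IsPullback l ((yon S).map (EtOver.bcπ hiX.1 Ek)) ((yon S).map (EtOver.bcπ hi.1 E₀))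
      ((yon S).map r) := by
    refine IsPullback.of_right ?_ h2 sq0
    rw [h1]
    exact big
  obtain ⟨l₀, hl₀⟩ := (yon S).map_surjective l
  rw [← hl₀] at sqL
  have sqL' : IsPullback l₀.left (EtOver.bcπ hiX.1 Ek).left (EtOver.bcπ hi.1 E₀).left r.left :=
    Groth.Agent.Helper5.GeomFibSp.isPullback_left
      (Groth.Agent.Helper5.GeomFibSp.isPullback_of_yon_map sqL)
  haveI : IsClosedImmersion (EtOver.bcπ hi.1 E₀).left := hi.2 _ _ _ sq0
  haveI : IsClosedImmersion (EtOver.bcπ hiX.1 Ek).left := hiX.2 _ _ _ sq1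
  have hk := ker_of_isPullback sqL'
  have h3 := congrArg (fun J : Ek.obj.left.left.IdealSheafData =>
    J.ideal ⟨⊤, isAffineOpen_top _⟩) hk
  simp only at h3
  rw [Groth.Agent.Helper9.IdealComap.ideal_comap_top_of_isAffine, Scheme.Hom.ker_apply,
    Scheme.Hom.ker_apply] at h3
  exact h3

/-- flat base change of the kernel ideal of a quasi-compact morphism -/
theorem kerIdeal_eq_map_of_isPullback {X Y V VX : Sp S} {f : X ⟶ Y} {g : V ⟶ Y} {g₁ : VX ⟶ V}
    {gX : VX ⟶ X} (sqV : IsPullback g₁ gX g f) (hq : IsQuasiCompactMor g) (Ek : EtOver X)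
    (E₀ : EtOver Y) (r : Ek.obj.left ⟶ E₀.obj.left)
    (hr : (yon S).map r ≫ E₀.obj.hom = Ek.obj.hom ≫ f) (hflat : Flat r.left)
    (hEk : IsAffine Ek.obj.left.left) (hE₀ : IsAffine E₀.obj.left.left) :
    (kerIdeal gX).ideal Ek hEk = ((kerIdeal g).ideal E₀ hE₀).map r.left.appTop.hom := by
  obtain ⟨Q, q, hQ, hc⟩ := exists_isCoverChart g hq E₀ hE₀
  have hc' : IsCoverChart gX Ek (pullback.snd q r) := hc.pullback sqV r hr
  rw [kerIdeal_eq_ker g E₀ q hc hE₀, kerIdeal_eq_ker gX Ek _ hc' hEk]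
  haveI := hEk
  haveI := hE₀
  haveI := hQ
  haveI := hflat
  exact ker_pullback_snd_eq_map q r

set_option backward.isDefEq.respectTransparency.types false in
/-- flat base change of the closed subspace cut out by the kernel ideal of a quasi-compact
morphism -/
theorem isCutOutBy_kerIdeal_of_flat {X Y V Z VX ZX : Sp S} (hY : IsAlgSpace Y) (f : X ⟶ Y)
    (hf : LocP @Flat f) (g : V ⟶ Y) (hg : IsQuasiCompactMor g) (i : Z ⟶ Y)
    (hc : IsCutOutBy (kerIdeal g) i) {g₁ : VX ⟶ V} {gX : VX ⟶ X} (sqV : IsPullback g₁ gX g f)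
    {i₁ : ZX ⟶ Z} {iX : ZX ⟶ X} (sqZ : IsPullback i₁ iX i f) :
    IsCutOutBy (kerIdeal gX) iX := by
  obtain ⟨hi, hI⟩ := hc
  have hiX : RepWith @IsClosedImmersion iX :=
    (RepWith (S := S) @IsClosedImmersion).of_isPullback sqZ hi
  have hgX : IsQuasiCompactMor gX :=
    Groth.Agent.Helper4.AlgSpQC.isQuasiCompactMor_of_isPullback sqV hg
  refine ⟨hiX, ?_⟩
  obtain ⟨VY, φ, hφ, hφs⟩ := hY.atlas
  apply IdealEt.ext
  funext E hE
  haveI := hE
  obtain ⟨Q, q₁, q₂', sqQ⟩ := hφ.1 (E.obj.hom ≫ f)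
  obtain ⟨q₂, rfl⟩ := (yon S).map_surjective q₂'
  haveI : Etale q₁.left := hφ.2 _ _ _ sqQ
  haveI : Surjective q₁.left := hφs.2 _ _ _ sqQ
  have H : ∀ x : Q.left, ∃ (U : VY.left.affineOpens) (W : Q.left.affineOpens),
      x ∈ W.1 ∧ W.1 ≤ q₂.left ⁻¹ᵁ U.1 := by
    intro x
    obtain ⟨_, ⟨U, hU, rfl⟩, hx₁, -⟩ :=
      VY.left.isBasis_affineOpens.exists_subset_of_mem_open (Set.mem_univ (q₂.left x)) isOpen_univ
    obtain ⟨_, ⟨W, hW, rfl⟩, hxW, hWle⟩ :=
      Q.left.isBasis_affineOpens.exists_subset_of_mem_open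
        (show x ∈ ((q₂.left ⁻¹ᵁ U : Q.left.Opens) : Set Q.left) from hx₁)
        (q₂.left ⁻¹ᵁ U : Q.left.Opens).2
    exact ⟨⟨U, hU⟩, ⟨W, hW⟩, hxW, hWle⟩
  choose U W hxW hWU using H
  haveI : ∀ x, IsAffine ((W x).1.toScheme) := fun x => (W x).2
  haveI : ∀ x, Flat ((W x).1.ι ≫ q₁.left) := fun x => inferInstance
  refine Groth.Agent.Helper5.IdealDesc.eq_of_flat_cover _ _ (fun x => (W x).1.toScheme)
    (fun x => (W x).1.ι ≫ q₁.left) (fun y => ?_) (fun x => ?_)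
  · obtain ⟨x, rfl⟩ := q₁.left.surjective y
    exact ⟨x, ⟨⟨x, hxW x⟩, rfl⟩⟩
  · let WO : Over S := Over.mk ((W x).1.ι ≫ Q.hom)
    let ιW : WO ⟶ Q := Over.homMk (W x).1.ι rfl
    have hEk : IsAffine WO.left := (W x).2
    let s : WO ⟶ E.obj.left := ιW ≫ q₁
    let a : (yon S).obj WO ⟶ X := (yon S).map s ≫ E.obj.hom
    have ha : RepWith @Etale a :=
      (repWith_isMultiplicative (S := S) @Etale).comp_mem _ _
        ((repWith_yon_map_iff _ _).2 (show Etale ((W x).1.ι ≫ q₁.left) from inferInstance))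
        E.property
    let Ek : EtOver X := EtOver.mk a ha
    let gk : Ek ⟶ E := EtOver.homMk s rfl
    let E₀ : EtOver Y := chartObj φ hφ (U x).1
    have hE₀ : IsAffine E₀.obj.left.left := (U x).2
    let r₀ : WO ⟶ Over.mk ((U x).1.ι ≫ VY.hom) :=
      Over.homMk (q₂.left.resLE (U x).1 (W x).1 (hWU x)) (by
        show q₂.left.resLE (U x).1 (W x).1 (hWU x) ≫ (U x).1.ι ≫ VY.hom = (W x).1.ι ≫ Q.hom
        rw [← Category.assoc, Scheme.Hom.resLE_comp_ι, Category.assoc, CategoryTheory.Over.w q₂])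
    have e₀ : r₀ ≫ (Over.homMk (U x).1.ι rfl : Over.mk ((U x).1.ι ≫ VY.hom) ⟶ VY) = ιW ≫ q₂ := by
      ext
      exact Scheme.Hom.resLE_comp_ι _ _
    have hr : (yon S).map r₀ ≫ E₀.obj.hom = Ek.obj.hom ≫ f := by
      show (yon S).map r₀ ≫ ((yon S).map _ ≫ φ) = ((yon S).map (ιW ≫ q₁) ≫ E.obj.hom) ≫ f
      rw [← Category.assoc, ← Functor.map_comp, e₀, Functor.map_comp, Category.assoc, sqQ.w,
        Functor.map_comp, Category.assoc, Category.assoc]
    have hflat : Flat r₀.left := hf Ek.obj.hom E₀.obj.hom r₀ ha E₀.property hr.symm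
    have e1 := idealOfRep_map_eq iX hiX gk hE hEk
    have e2 := kerIdeal_map_eq gX hgX gk hE hEk
    have eA := idealOfRep_eq_map_of_isPullback sqZ hi hiX Ek E₀ r₀ hr hEk hE₀
    have eB := kerIdeal_eq_map_of_isPullback sqV hg Ek E₀ r₀ hr hflat hEk hE₀
    show Ideal.map gk.hom.left.left.appTop.hom _ = Ideal.map gk.hom.left.left.appTop.hom _
    rw [← e1, ← e2, eA, eB]
    congr 1
    exact congrArg (fun J : IdealEt Y => J.ideal E₀ hE₀) hI

/-- S9974 -/
theorem s9974 {X Y V Z VX ZX : AlgSp.Space S} (f : X ⟶ Y)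
    (hf : AlgSp.LocP @Flat f.hom) (g : V ⟶ Y) (hg : AlgSp.IsQuasiCompactMor g.hom) (i : Z ⟶ Y)
    (hZ : AlgSp.IsSchImage g.hom i.hom) (g₁ : VX ⟶ V) (gX : VX ⟶ X)
    (sqV : IsPullback g₁.hom gX.hom g.hom f.hom)
    (i₁ : ZX ⟶ Z) (iX : ZX ⟶ X) (sqZ : IsPullback i₁.hom iX.hom i.hom f.hom) :
    AlgSp.IsSchImage gX.hom iX.hom := by
  have hc := (isSchImage_iff_isCutOutBy_kerIdeal Y.property Z.property g.hom hg i.hom).1 hZ
  exact isSchImage_of_isCutOutBy_kerIdeal X.property gX.hom iX.hom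
    (isCutOutBy_kerIdeal_of_flat Y.property f.hom hf g.hom hg i.hom hc sqV sqZ)

end Groth.Agent.Helper5.KerIdeal
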