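import Groth.Agent.Helper5.FlatBC2
import Mathlib

set_option autoImplicit false
set_option linter.style.haveILetI false
set_option linter.unusedSectionVars false
set_option linter.unusedVariables false
universe u
open CategoryTheory CategoryTheory.Limits AlgebraicGeometry Opposite

namespace Groth.Agent.Helper5.PtLoc

open AlgSp Groth.Agent.Helper4 Groth.Agent.Helper5.GorSp Groth.Agent.Helper5.FlatBC

/-- a pointwise property of morphisms of schemes that is étale local on source and target -/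
structure EtLocal (Q : ∀ (A B : Scheme.{u}), (A ⟶ B) → ↥A → Prop) : Prop where
  precomp_iff : ∀ {A' A B : Scheme.{u}} (e : A' ⟶ A) [Etale e] (s : A ⟶ B) (x' : A'),
    Q A' B (e ≫ s) x' ↔ Q A B s (e x')
  postcomp_iff : ∀ {A B C : Scheme.{u}} (s : A ⟶ B) (e : B ⟶ C) [Etale e] (x : A),
    Q A C (s ≫ e) x ↔ Q A B s x

variable {Q : ∀ (A B : Scheme.{u}), (A ⟶ B) → ↥A → Prop}

theorem q_congr {A B : Scheme.{u}} {f g : A ⟶ B} (h : f = g) (x : A) (hf : Q A B f x) :
    Q A B g x := by subst h; exact hf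

variable {S : Scheme.{u}} {X Y : Sp S}

set_option backward.isDefEq.respectTransparency.types false in
/-- an étale local pointwise property does not depend on the chart diagram -/
theorem chart_indep (hQ : EtLocal Q) (f : X ⟶ Y) {U V : Over S} (a : (yon S).obj U ⟶ X)
    (b : (yon S).obj V ⟶ Y) (h : U ⟶ V) (ha : RepWith @Etale a) (hb : RepWith @Etale b)
    (comm : a ≫ f = (yon S).map h ≫ b) (u : ↥U.left) (hG : Q _ _ h.left u)
    {U' V' : Over S} (a' : (yon S).obj U' ⟶ X) (b' : (yon S).obj V' ⟶ Y) (h' : U' ⟶ V')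
    (ha' : RepWith @Etale a') (hb' : RepWith @Etale b')
    (comm' : a' ≫ f = (yon S).map h' ≫ b') (u' : ↥U'.left)
    (hpt : Points.ofPt a u = Points.ofPt a' u') : Q _ _ h'.left u' := by
  have har := ha.rep
  have hpbU : IsPullback (har.fst a') ((yon S).map (har.snd a')) a a' := har.isPullback a'
  obtain ⟨p₁, hp₁⟩ := (yon S).map_surjective (har.fst a')
  rw [← hp₁] at hpbU
  have hp₂e : Etale (har.snd a').left := ha.property _ _ _ hpbU
  have hp₁e : Etale p₁.left := ha'.property _ _ _ hpbU.flip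
  generalize har.snd a' = p₂ at hpbU hp₂e
  have hbr := hb.rep
  have hpbV : IsPullback (hbr.fst b') ((yon S).map (hbr.snd b')) b b' := hbr.isPullback b'
  obtain ⟨q₁, hq₁⟩ := (yon S).map_surjective (hbr.fst b')
  rw [← hq₁] at hpbV
  have hq₂e : Etale (hbr.snd b').left := hb.property _ _ _ hpbV
  have hq₁e : Etale q₁.left := hb'.property _ _ _ hpbV.flip
  generalize hbr.snd b' = q₂ at hpbV hq₂e
  have hw : (yon S).map (p₁ ≫ h) ≫ b = (yon S).map (p₂ ≫ h') ≫ b' := by
    rw [Functor.map_comp, Category.assoc, ← comm, ← Category.assoc, hpbU.w, Category.assoc,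
      comm', Functor.map_comp, Category.assoc]
  obtain ⟨s, hs⟩ := (yon S).map_surjective (hpbV.lift _ _ hw)
  have hs1 : s ≫ q₁ = p₁ ≫ h := by
    apply (yon S).map_injective
    rw [Functor.map_comp, hs]; exact hpbV.lift_fst _ _ hw
  have hs2 : s ≫ q₂ = p₂ ≫ h' := by
    apply (yon S).map_injective
    rw [Functor.map_comp, hs]; exact hpbV.lift_snd _ _ hw
  have hs1' : s.left ≫ q₁.left = p₁.left ≫ h.left := by
    rw [← Over.comp_left, hs1, Over.comp_left]
  have hs2' : s.left ≫ q₂.left = p₂.left ≫ h'.left := by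
    rw [← Over.comp_left, hs2, Over.comp_left]
  obtain ⟨u'', hu1, hu2⟩ :=
    Groth.Agent.Helper4.AlgSpLocPFam.exists_point_of_isPullback_yon a a' p₁ p₂ hpbU u u' hpt
  haveI := hp₁e
  haveI := hp₂e
  haveI := hq₁e
  haveI := hq₂e
  have g1 : Q _ _ (p₁.left ≫ h.left) u'' := by
    refine (hQ.precomp_iff p₁.left h.left u'').2 ?_
    rw [hu1]; exact hG
  have g2 : Q _ _ s.left u'' :=
    (hQ.postcomp_iff s.left q₁.left u'').1 (q_congr hs1'.symm u'' g1)
  have g3 : Q _ _ (s.left ≫ q₂.left) u'' := (hQ.postcomp_iff s.left q₂.left u'').2 g2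
  have g4 : Q _ _ (p₂.left ≫ h'.left) u'' := q_congr hs2' u'' g3
  have g5 := (hQ.precomp_iff p₂.left h'.left u'').1 g4
  rw [hu2] at g5
  exact g5

/-- the "some chart diagram" form of an étale local pointwise property can be read off on any chart
diagram through the point -/
theorem hasAtMor_iff_chart (hQ : EtLocal Q) (f : X ⟶ Y) {U V : Over S} (a : (yon S).obj U ⟶ X)
    (b : (yon S).obj V ⟶ Y) (h : U ⟶ V) (ha : RepWith @Etale a) (hb : RepWith @Etale b)
    (comm : a ≫ f = (yon S).map h ≫ b) (u : ↥U.left) :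
    HasAtMor Q f (Points.ofPt a u) ↔ Q _ _ h.left u := by
  constructor
  · rintro ⟨U', V', a', b', h', u', ha', hb', comm', hu', hG⟩
    exact chart_indep hQ f a' b' h' ha' hb' comm' u' hG a b h ha hb comm u hu'
  · intro hG
    exact ⟨U, V, a, b, h, u, ha, hb, comm, rfl, hG⟩

set_option backward.isDefEq.respectTransparency.types false in
/-- the locus of an étale local pointwise property is open when it is so on schemes -/
theorem isOpen_locus (hQ : EtLocal Q) (C : MorphismProperty Scheme.{u})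
    (hopen : ∀ {A B : Scheme.{u}} (s : A ⟶ B), C s → IsOpen {x : A | Q A B s x})
    {X Y : AlgSp.Space S} (f : X ⟶ Y) (hC : LocP C f.hom) :
    IsOpen {x : Points X.obj | HasAtMor Q f.hom x} := by
  obtain ⟨V, b, hbe, hbs⟩ := Y.property.atlas
  obtain ⟨U, a, s, c1, hae, -, -, has⟩ := exists_chart_over X.property f.hom b hbe
  refine Groth.Agent.Helper4.AlgSpPtsDesc.isOpen_of_isOpen_preimage a hae (has hbs) _ ?_
  rw [← (Points.schemeHomeo U).isOpen_preimage]
  have e : (Points.schemeHomeo U) ⁻¹' (Points.map a ⁻¹'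
      {x : Points X.obj | HasAtMor Q f.hom x}) = {u | Q _ _ s.left u} := by
    ext u
    simp only [Set.mem_preimage, Set.mem_ofPred_eq]
    rw [Groth.Agent.Helper4.AlgSpQC2.ofPt_eq_map_schemeHomeo]
    exact hasAtMor_iff_chart hQ f.hom a b s hae hbe c1 u
  rw [e]
  exact hopen s.left (hC a b s hae hbe c1)

set_option backward.isDefEq.respectTransparency.types false in
/-- the locus of an étale local pointwise property commutes with base change when it does so on
schemes -/
theorem locus_baseChange (hQ : EtLocal Q) (C : MorphismProperty Scheme.{u})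
    (hbc : ∀ {A B A' B' : Scheme.{u}} (s : A ⟶ B) (g : B' ⟶ B) (g' : A' ⟶ A) (s' : A' ⟶ B'),
      IsPullback g' s' s g → C s → ∀ x' : A', Q A' B' s' x' ↔ Q A B s (g' x'))
    {X Y X' Y' : AlgSp.Space S} (f : X ⟶ Y) (hC : LocP C f.hom) (g : Y' ⟶ Y) (g' : X' ⟶ X)
    (f' : X' ⟶ Y') (sq : IsPullback g'.hom f'.hom f.hom g.hom) :
    {x' : Points X'.obj | HasAtMor Q f'.hom x'} =
      Points.map g'.hom ⁻¹' {x : Points X.obj | HasAtMor Q f.hom x} := by
  ext x'
  simp only [Set.mem_preimage, Set.mem_ofPred_eq]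
  obtain ⟨V, b, hbe, hbs⟩ := Y.property.atlas
  obtain ⟨V', b', g₀, hb'e, hb's, cc⟩ := exists_chart_surj Y'.property g.hom b hbe hbs
  obtain ⟨U, U', a, a', s, r₁, r₂, hae, ha'e, ha's, c1, sqU, ha'1, ha'2, -⟩ :=
    exists_cube_over X.property sq b b' g₀ hbe hb'e hb's cc
  obtain ⟨u', hu'⟩ := Groth.Agent.Helper5.AlgSpOpen.ofPt_surjective_of_repWith a' ha's x'
  have key := hbc s.left g₀.left r₁.left r₂.left (sqU.map (Over.forget S))
    (hC a b s hae hbe c1) u'
  have hpt : Points.ofPt a (r₁.left u') = Points.map g'.hom x' := by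
    rw [← hu', Points.map_ofPt, ha'1, Groth.Agent.Helper4.AlgSpPtsDesc.ofPt_yon_map_comp]
  rw [← hpt, ← hu', hasAtMor_iff_chart hQ f'.hom a' b' r₂ ha'e hb'e ha'2 u',
    hasAtMor_iff_chart hQ f.hom a b s hae hbe c1 (r₁.left u')]
  exact key

/-- all chart maps satisfy the property at all points iff all points of the space do -/
theorem forall_hasAtMor_iff (hQ : EtLocal Q) {X Y : AlgSp.Space S} (f : X ⟶ Y) :
    (∀ x : Points X.obj, HasAtMor Q f.hom x) ↔
      ∀ {U V : Over S} (a : (yon S).obj U ⟶ X.obj) (b : (yon S).obj V ⟶ Y.obj) (h : U ⟶ V),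
        RepWith @Etale a → RepWith @Etale b → a ≫ f.hom = (yon S).map h ≫ b →
        ∀ u : ↥U.left, Q _ _ h.left u := by
  constructor
  · intro H U V a b h ha hb comm u
    exact (hasAtMor_iff_chart hQ f.hom a b h ha hb comm u).1 (H _)
  · intro H x
    obtain ⟨V, b, hbe, hbs⟩ := Y.property.atlas
    obtain ⟨U, a, s, c1, hae, -, -, has⟩ := exists_chart_over X.property f.hom b hbe
    obtain ⟨u, rfl⟩ := Groth.Agent.Helper5.AlgSpOpen.ofPt_surjective_of_repWith a (has hbs) x
    exact (hasAtMor_iff_chart hQ f.hom a b s hae hbe c1 u).2 (H a b s hae hbe c1 u)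

end Groth.Agent.Helper5.PtLoc
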