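import Groth.Agent.Helper3.KzFib10
import Groth.Agent.Helper3.SyntSrc8
import Groth.Agent.Helper5.LciLoc1
import Groth.Agent.Helper5.PtLoc1
import Mathlib

set_option autoImplicit false
set_option linter.style.haveILetI false
set_option linter.unusedSectionVars false
set_option linter.unusedVariables false
universe u
open CategoryTheory CategoryTheory.Limits AlgebraicGeometry Opposite TopologicalSpace

namespace Groth.Agent.Helper5.KosLoc

open Groth.Agent.Helper5.LciLoc Groth.Agent.Helper3.KzFib Groth.Agent.Helper5.PtLoc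

/-- Koszul at a point, in the open neighbourhood form -/
def QK : ∀ (A B : Scheme.{u}), (A ⟶ B) → ↥A → Prop :=
  fun A _ s x => ∃ W : A.Opens, x ∈ W ∧ AlgSp.lci (W.ι ≫ s)

theorem qk_iff_isKoszulAt {A B : Scheme.{u}} (s : A ⟶ B) (x : A) :
    QK A B s x ↔ Synt.IsKoszulAt s x := by
  constructor
  · rintro ⟨W, hx, h⟩
    exact isKoszulAt_of_restrict s W ⟨x, hx⟩ (h ⟨x, hx⟩)
  · rintro ⟨U, P, i, π, hxU, hlft, hreg, hsm, hcomm⟩
    refine ⟨U, hxU, fun y => ?_⟩
    exact Groth.Agent.Helper3.KosBridgeA.isKoszulAt_restrict s U y.1 y.2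
      ⟨U, P, i, π, y.2, hlft, hreg, hsm, hcomm⟩

theorem lci_iff_forall_qk {A B : Scheme.{u}} (s : A ⟶ B) :
    AlgSp.lci s ↔ ∀ x, QK A B s x :=
  forall_congr' fun x => (qk_iff_isKoszulAt s x).symm

theorem isOpen_qk {A B : Scheme.{u}} (s : A ⟶ B) : IsOpen {x : A | QK A B s x} := by
  rw [isOpen_iff_forall_mem_open]
  rintro x ⟨W, hx, h⟩
  exact ⟨W, fun y hy => ⟨W, hy, h⟩, W.2, hx⟩

theorem qk_iff_mem_kosLocus {A B : Scheme.{u}} (s : A ⟶ B) (x : A) :
    QK A B s x ↔ x ∈ KosLocus s := by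
  constructor
  · rintro ⟨W, hx, h⟩
    have hK : ∀ y ∈ W, Synt.IsKoszulAt s y := fun y hy =>
      isKoszulAt_of_restrict s W ⟨y, hy⟩ (h ⟨y, hy⟩)
    obtain ⟨_, ⟨V, hV, rfl⟩, hxV, -⟩ :=
      B.isBasis_affineOpens.exists_subset_of_mem_open (Set.mem_univ (s x)) isOpen_univ
    obtain ⟨_, ⟨U, hU, rfl⟩, hxU, hUV⟩ :=
      A.isBasis_affineOpens.exists_subset_of_mem_open
        (show x ∈ (W ⊓ s ⁻¹ᵁ V : A.Opens) from ⟨hx, hxV⟩) (W ⊓ s ⁻¹ᵁ V : A.Opens).2
    have hUV' : (U : A.Opens) ≤ s ⁻¹ᵁ V := fun y hy => (hUV hy).2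
    exact ⟨U, V, hU, hV, hUV', hxU,
      isLCI_of_isKoszulAt_on s U V hU hV hUV' (fun y hy => hK y (hUV hy).1)⟩
  · intro hx
    exact (qk_iff_isKoszulAt s x).2 (isKoszulAt_of_mem_kosLocus s x hx)

theorem etLocal_QK : EtLocal QK.{u} where
  precomp_iff := by
    intro A' A B e _ s x'
    constructor
    · rintro ⟨W', hx', h⟩
      rw [qk_iff_isKoszulAt]
      haveI : Smooth (W'.ι ≫ e) := inferInstance
      have hg : Synt.IsSyntomicMor (W'.ι ≫ e) := Groth.Agent.Helper5.SmSynt.s9699 _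
      have := Groth.Agent.Helper3.SyntSrc.isKoszulAt_of_comp (W'.ι ≫ e) hg s
        (fun y => by rw [Category.assoc]; exact h y) ⟨x', hx'⟩
      exact this
    · rintro ⟨W, hx, h⟩
      refine ⟨e ⁻¹ᵁ W, hx, ?_⟩
      have e1 : (e ⁻¹ᵁ W).ι ≫ e ≫ s = (e ∣_ W) ≫ W.ι ≫ s := by
        rw [← Category.assoc, ← morphismRestrict_ι, Category.assoc]
      rw [e1]
      exact lci_comp _ _ (lci_of_smooth _) h
  postcomp_iff := by
    intro A B C s e _ x
    constructor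
    · rintro ⟨W, hx, h⟩
      refine ⟨W, hx, ?_⟩
      rw [← Category.assoc] at h
      exact lci_of_comp_smooth (W.ι ≫ s) e h
    · rintro ⟨W, hx, h⟩
      refine ⟨W, hx, ?_⟩
      rw [← Category.assoc]
      exact lci_comp _ _ h (lci_of_smooth e)

/-- scheme level: the Koszul locus commutes with base change, for source and target flat and
locally of finite presentation over the base (helper3's `kosLocus_baseChange`) -/
theorem qk_baseChange_iff {A B C A' B' C' : Scheme.{u}} (s : A ⟶ B) (t : B ⟶ C)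
    [Flat (s ≫ t)] [LocallyOfFinitePresentation (s ≫ t)] [Flat t] [LocallyOfFinitePresentation t]
    (p₀ : C' ⟶ C) (q₁ : B' ⟶ B) (q₂ : B' ⟶ C') (sqB : IsPullback q₁ q₂ t p₀)
    (r₁ : A' ⟶ A) (r₂ : A' ⟶ B') (sqA : IsPullback r₁ r₂ s q₁) (x' : A') :
    QK _ _ r₂ x' ↔ QK _ _ s (r₁ x') := by
  rw [qk_iff_mem_kosLocus, qk_iff_mem_kosLocus]
  have := kosLocus_baseChange s t p₀ q₁ q₂ sqB r₁ r₂ (sqA.paste_vert sqB) sqA.w
  rw [this]
  rfl

end Groth.Agent.Helper5.KosLoc
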