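import Groth.Agent.Helper5.PtLoc2
import Groth.Agent.Helper5.AlgSpNoeth
import Mathlib

set_option autoImplicit false
set_option linter.style.haveILetI false
set_option linter.unusedSectionVars false
set_option linter.unusedVariables false
universe u
open CategoryTheory CategoryTheory.Limits AlgebraicGeometry Opposite

namespace Groth.Agent.Helper5.PtLoc

open AlgSp Groth.Agent.Helper4 Groth.Agent.Helper5.GorSp Groth.Agent.Helper5.FlatBC

/-- the neighbourhood form of a property of morphisms of schemes at a point -/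
def QN (P : MorphismProperty Scheme.{u}) : ∀ (A B : Scheme.{u}), (A ⟶ B) → ↥A → Prop :=
  fun A _ s x => ∃ W : A.Opens, x ∈ W ∧ P (W.ι ≫ s)

variable {S : Scheme.{u}}

set_option backward.isDefEq.respectTransparency.types false in
/-- the open-subspace form `LocPNear P` agrees with the chart form of the neighbourhood property,
for `P` local on the source whose neighbourhood form is étale local -/
theorem locPNear_iff_hasAtMor (P : MorphismProperty Scheme.{u}) (hQ : EtLocal (QN P))
    (hloc : ∀ {A B : Scheme.{u}} (s : A ⟶ B), P s ↔ ∀ x, QN P A B s x)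
    {X Y : AlgSp.Space S} (f : X ⟶ Y) (x : Points X.obj) :
    LocPNear P f.hom x ↔ HasAtMor (QN P) f.hom x := by
  constructor
  · rintro ⟨W, j, hj, ⟨w, rfl⟩, hP⟩
    obtain ⟨V, b, hbe, hbs⟩ := Y.property.atlas
    obtain ⟨U, a, s, c1, hae, -, -, has⟩ := exists_chart_over X.property f.hom b hbe
    obtain ⟨u, hu⟩ := Groth.Agent.Helper5.AlgSpOpen.ofPt_surjective_of_repWith a (has hbs)
      (Points.map j w)
    have hjr := hj.rep
    have sq : IsPullback (hjr.fst a) ((yon S).map (hjr.snd a)) j a := hjr.isPullback a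
    have hιo : IsOpenImmersion (hjr.snd a).left := hj.property _ _ _ sq
    have i1 := repWith_isStableUnderBaseChange (S := S) @Etale
    have haW : RepWith @Etale (hjr.fst a) := MorphismProperty.of_isPullback sq.flip hae
    generalize hjr.fst a = aW at sq haW
    generalize hjr.snd a = ι₀ at sq hιo
    generalize hjr.pullback a = P₀ at aW ι₀ sq haW hιo
    have comm : aW ≫ (j ≫ f.hom) = (yon S).map (ι₀ ≫ s) ≫ b := by
      rw [← Category.assoc, sq.w, Category.assoc, c1, Functor.map_comp, Category.assoc]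
    have hPs : P (ι₀ ≫ s).left := hP aW b (ι₀ ≫ s) haW hbe comm
    have hpt : Points.map j w = Points.map a (Points.schemeHomeo U u) := by
      rw [← hu]; exact Points.ofPt_eq_map_ofScheme a u
    obtain ⟨p, -, hp2⟩ := Groth.Agent.Helper4.AlgSpPtsDesc.exists_point_of_isPullback sq w _ hpt
    obtain ⟨u₀, rfl⟩ := (Points.schemeHomeo P₀).surjective p
    have hu₀ : ι₀.left u₀ = u := by
      apply (Points.schemeHomeo U).injective
      rw [← hp2]
      exact (Points.map_yon_map_apply ι₀ u₀).symm
    have h1 : QN P _ _ (ι₀.left ≫ s.left) u₀ := (hloc _).1 hPs u₀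
    haveI := hιo
    have h2 := (hQ.precomp_iff ι₀.left s.left u₀).1 h1
    rw [hu₀] at h2
    exact ⟨U, V, a, b, s, u, hae, hbe, c1, hu, h2⟩
  · rintro ⟨U, V, a, b, h, u, ha, hb, comm, hu, W₁, huW₁, hPW₁⟩
    have hO : IsOpen (Points.ofPt a '' (W₁ : Set U.left)) :=
      Groth.Agent.Helper5.AlgSpNoeth.isOpenMap_ofPt X.property a ha _ W₁.2
    obtain ⟨W₀, j, hW₀, hj, hrange⟩ :=
      Groth.Agent.Helper5.AlgSpOpen.exists_open_subspace X.property _ hO
    refine ⟨W₀, j, hj, ?_, ?_⟩
    · rw [hrange]; exact ⟨u, huW₁, hu⟩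
    · intro U' V' a' b' h' ha' hb' comm'
      rw [hloc]
      intro u'
      have hje : RepWith @Etale j :=
        Groth.Agent.Helper4.AlgSpSrc.repWith_mono (fun g hg => by haveI := hg; infer_instance) hj
      have ha'j : RepWith @Etale (a' ≫ j) :=
        Groth.Agent.Helper4.AlgSpSrc.repWith_comp _ ha' hje
      have comm'' : (a' ≫ j) ≫ f.hom = (yon S).map h' ≫ b' := by
        rw [Category.assoc]; exact comm'
      have hmem : Points.ofPt (a' ≫ j) u' ∈ Points.ofPt a '' (W₁ : Set U.left) := by
        rw [← hrange, ← Points.map_ofPt]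
        exact ⟨_, rfl⟩
      obtain ⟨u₁, hu₁, hpt⟩ := hmem
      exact chart_indep hQ f.hom a b h ha hb comm u₁ ⟨W₁, hu₁, hPW₁⟩ (a' ≫ j) b' h' ha'j hb'
        comm'' u' hpt

end Groth.Agent.Helper5.PtLoc
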