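import Groth.Agent.Helper5.FlatBC4
import Groth.Agent.Helper5.AlgSpIso
import Mathlib

set_option autoImplicit false
set_option linter.style.haveILetI false
set_option linter.unusedSectionVars false
set_option linter.unusedVariables false
universe u
open CategoryTheory CategoryTheory.Limits AlgebraicGeometry Opposite

namespace Groth.Agent.Helper5.Where

open AlgSp Groth.Agent.Helper4 Groth.Agent.Helper5.GorSp Groth.Agent.Helper5.FlatSp
  Groth.Agent.Helper5.FlatBC

variable {S : Scheme.{u}}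

/-- the general pattern: given a subset `T` of the points of `X` whose formation commutes with base
change and a closed map `p : X ⟶ Z` with `T` open, the open subspace `Z ∖ p(X ∖ T)` classifies the
base changes all of whose points lie in `T` -/
theorem where_of_locus {X Y Z : AlgSp.Space S} (f : X ⟶ Y) (q : Y ⟶ Z)
    (T : ∀ {X' Y' : AlgSp.Space S} (f' : X' ⟶ Y'), Set (Points X'.obj))
    (hT : IsOpen (T f)) (hp : IsClosedMor (f ≫ q).hom)
    (hbc : ∀ (X' Y' Z' : AlgSp.Space S) (g : Z' ⟶ Z) (f' : X' ⟶ Y') (h' : Y' ⟶ Z') (pX : X' ⟶ X)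
      (pY : Y' ⟶ Y), IsPullback pY.hom h'.hom q.hom g.hom → IsPullback pX.hom f'.hom f.hom pY.hom →
      T f' = Points.map pX.hom ⁻¹' T f) :
    ∃ (W : AlgSp.Space S) (w : W ⟶ Z), AlgSp.RepWith @IsOpenImmersion w.hom ∧
      ∀ (Z' : AlgSp.Space S) (g : Z' ⟶ Z),
        (∃ k : Z' ⟶ W, k ≫ w = g) ↔
          ∀ (Y' : AlgSp.Space S) (gY : Y' ⟶ Y) (q' : Y' ⟶ Z'),
            IsPullback gY.hom q'.hom q.hom g.hom →
            ∀ (X' : AlgSp.Space S) (gX : X' ⟶ X) (f' : X' ⟶ Y'),
              IsPullback gX.hom f'.hom f.hom gY.hom → T f' = Set.univ := by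
  have hO : IsOpen (Points.map (f ≫ q).hom '' (T f)ᶜ)ᶜ := (hp _ hT.isClosed_compl).isOpen_compl
  obtain ⟨W₀, j, hW₀, hj, hrange⟩ :=
    Groth.Agent.Helper5.AlgSpOpen.exists_open_subspace Z.property _ hO
  refine ⟨⟨W₀, hW₀⟩, ObjectProperty.homMk j, hj, ?_⟩
  intro Z' g
  constructor
  · rintro ⟨k, rfl⟩ Y' gY q' sqY X' gX f' sqX
    rw [hbc X' Y' Z' _ f' q' gX gY sqY sqX]
    ext x'
    simp only [Set.mem_preimage, Set.mem_univ, iff_true]
    by_contra hx
    have h1 : Points.map (f ≫ q).hom (Points.map gX.hom x') ∈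
        Points.map (f ≫ q).hom '' (T f)ᶜ := ⟨_, hx, rfl⟩
    have h2 : Points.map (f ≫ q).hom (Points.map gX.hom x') =
        Points.map j (Points.map k.hom (Points.map q'.hom (Points.map f'.hom x'))) := by
      have e : gX.hom ≫ (f ≫ q).hom = f'.hom ≫ q'.hom ≫ k.hom ≫ j := by
        show gX.hom ≫ f.hom ≫ q.hom = f'.hom ≫ q'.hom ≫ k.hom ≫ j
        rw [← Category.assoc, sqX.w, Category.assoc, sqY.w]
        rfl
      rw [← Points.map_comp, e, Points.map_comp, Points.map_comp, Points.map_comp]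
    have h3 : Points.map (f ≫ q).hom (Points.map gX.hom x') ∈ Set.range (Points.map j) :=
      ⟨_, h2.symm⟩
    rw [hrange] at h3
    exact h3 h1
  · intro H
    have sqY : IsPullback (pullback.fst q.hom g.hom) (pullback.snd q.hom g.hom) q.hom g.hom :=
      IsPullback.of_hasPullback _ _
    have hY' : IsAlgSpace (pullback q.hom g.hom) :=
      AlgSpPB.isAlgSpace_of_isPullback Z.property.diag Y.property Z'.property _ _ _ _ sqY
    have sqX : IsPullback (pullback.fst f.hom (pullback.fst q.hom g.hom))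
        (pullback.snd f.hom (pullback.fst q.hom g.hom)) f.hom (pullback.fst q.hom g.hom) :=
      IsPullback.of_hasPullback _ _
    have hX' : IsAlgSpace (pullback f.hom (pullback.fst q.hom g.hom)) :=
      AlgSpPB.isAlgSpace_of_isPullback Y.property.diag X.property hY' _ _ _ _ sqX
    obtain ⟨Y'S, hY'S⟩ : ∃ Y'S : AlgSp.Space S, Y'S = ⟨pullback q.hom g.hom, hY'⟩ := ⟨_, rfl⟩
    obtain ⟨X'S, hX'S⟩ : ∃ X'S : AlgSp.Space S,
      X'S = ⟨pullback f.hom (pullback.fst q.hom g.hom), hX'⟩ := ⟨_, rfl⟩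
    subst hY'S hX'S
    let gY : (⟨pullback q.hom g.hom, hY'⟩ : AlgSp.Space S) ⟶ Y :=
      ObjectProperty.homMk (pullback.fst q.hom g.hom)
    let q' : (⟨pullback q.hom g.hom, hY'⟩ : AlgSp.Space S) ⟶ Z' :=
      ObjectProperty.homMk (pullback.snd q.hom g.hom)
    let gX : (⟨pullback f.hom (pullback.fst q.hom g.hom), hX'⟩ : AlgSp.Space S) ⟶ X :=
      ObjectProperty.homMk (pullback.fst f.hom (pullback.fst q.hom g.hom))
    let f' : (⟨pullback f.hom (pullback.fst q.hom g.hom), hX'⟩ : AlgSp.Space S) ⟶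
        (⟨pullback q.hom g.hom, hY'⟩ : AlgSp.Space S) :=
      ObjectProperty.homMk (pullback.snd f.hom (pullback.fst q.hom g.hom))
    have hall := H _ gY q' sqY _ gX f' sqX
    rw [hbc _ _ _ g f' q' gX gY sqY sqX] at hall
    have hsub : Set.range (Points.map g.hom) ⊆ Set.range (Points.map j) := by
      rw [hrange]
      rintro _ ⟨z', rfl⟩ ⟨x, hx, hxz⟩
      have e1 : Points.map q.hom (Points.map f.hom x) = Points.map g.hom z' := by
        rw [← hxz, ← Points.map_comp]; rfl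
      obtain ⟨y', hy1, hy2⟩ :=
        Groth.Agent.Helper4.AlgSpPtsDesc.exists_point_of_isPullback sqY _ _ e1
      obtain ⟨x', hx1, hx2⟩ :=
        Groth.Agent.Helper4.AlgSpPtsDesc.exists_point_of_isPullback sqX x y' hy1.symm
      have : x' ∈ Points.map gX.hom ⁻¹' T f := by
        rw [hall]; trivial
      have h4 : Points.map gX.hom x' = x := hx1
      rw [Set.mem_preimage, h4] at this
      exact hx this
    obtain ⟨k, hk⟩ := Groth.Agent.Helper5.AlgSpIso.exists_factor_open j hj g.hom hsub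
    exact ⟨ObjectProperty.homMk k, by ext1; exact hk⟩

theorem s10642 {X Y Z : AlgSp.Space S}
    (f : X ⟶ Y) (p : X ⟶ Z) (q : Y ⟶ Z) (hc : f ≫ q = p)
    (hp1 : AlgSp.LocP @LocallyOfFinitePresentation p.hom) (hp2 : AlgSp.LocP @Flat p.hom)
    (hp3 : AlgSp.IsClosedMor p.hom) (hq : AlgSp.LocP @LocallyOfFiniteType q.hom) :
    ∃ (W : AlgSp.Space S) (w : W ⟶ Z), AlgSp.RepWith @IsOpenImmersion w.hom ∧
      ∀ (Z' : AlgSp.Space S) (g : Z' ⟶ Z),
        (∃ k : Z' ⟶ W, k ≫ w = g) ↔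
          ∀ (Y' : AlgSp.Space S) (gY : Y' ⟶ Y) (q' : Y' ⟶ Z'),
            IsPullback gY.hom q'.hom q.hom g.hom →
            ∀ (X' : AlgSp.Space S) (gX : X' ⟶ X) (f' : X' ⟶ Y'),
              IsPullback gX.hom f'.hom f.hom gY.hom →
                AlgSp.LocP @Flat f'.hom := by
  subst hc
  obtain ⟨hopen, hbc⟩ := s10609 f q hp1 hp2 hq
  obtain ⟨W, w, hw, H⟩ := where_of_locus f q
    (fun {X' Y'} f' => {x' : AlgSp.Points X'.obj | AlgSp.IsFlatAtMor f'.hom x'}) hopen hp3 hbc
  refine ⟨W, w, hw, fun Z' g => ?_⟩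
  rw [H Z' g]
  refine forall₃_congr fun Y' gY q' => forall_congr' fun sqY => forall₃_congr fun X' gX f' =>
    forall_congr' fun sqX => ?_
  rw [locP_flat_iff_forall, Set.eq_univ_iff_forall]
  rfl

end Groth.Agent.Helper5.Where
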