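import Groth.Agent.Helper5.KosLoc1
import Groth.Agent.Helper5.PtLoc3
import Groth.Agent.Helper5.Where1
import Mathlib

set_option autoImplicit false
set_option linter.style.haveILetI false
set_option linter.unusedSectionVars false
set_option linter.unusedVariables false
universe u
open CategoryTheory CategoryTheory.Limits AlgebraicGeometry Opposite

namespace Groth.Agent.Helper5.KosLoc

open AlgSp Groth.Agent.Helper4 Groth.Agent.Helper5.PtLoc

variable {S : Scheme.{u}}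

theorem locPNear_lci_iff {X Y : AlgSp.Space S} (f : X ⟶ Y) (x : Points X.obj) :
    LocPNear AlgSp.lci f.hom x ↔ HasAtMor QK f.hom x :=
  locPNear_iff_hasAtMor AlgSp.lci etLocal_QK (fun s => lci_iff_forall_qk s) f x

/-- the chart-level condition under which the Koszul locus commutes with base change -/
def C₂ : ∀ {A B C : Scheme.{u}}, (A ⟶ B) → (B ⟶ C) → Prop := fun s t =>
  Flat (s ≫ t) ∧ LocallyOfFinitePresentation (s ≫ t) ∧ Flat t ∧ LocallyOfFinitePresentation t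

theorem hasAtMor_qk_baseChange {X Y Z : AlgSp.Space S} (f : X ⟶ Y) (q : Y ⟶ Z)
    (hp1 : AlgSp.LocP @Flat (f ≫ q).hom)
    (hp2 : AlgSp.LocP @LocallyOfFinitePresentation (f ≫ q).hom)
    (hq1 : AlgSp.LocP @Flat q.hom) (hq2 : AlgSp.LocP @LocallyOfFinitePresentation q.hom)
    (X' Y' Z' : AlgSp.Space S) (g : Z' ⟶ Z) (f' : X' ⟶ Y') (q' : Y' ⟶ Z') (gX : X' ⟶ X)
    (gY : Y' ⟶ Y) (hY : IsPullback gY.hom q'.hom q.hom g.hom)
    (hX : IsPullback gX.hom f'.hom f.hom gY.hom) :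
    {x' : Points X'.obj | HasAtMor QK f'.hom x'} =
      Points.map gX.hom ⁻¹' {x : Points X.obj | HasAtMor QK f.hom x} := by
  refine locus_baseChange₂ etLocal_QK C₂ ?_ f q ?_ X' Y' Z' g f' q' gX gY hY hX
  · intro A B C A' B' C' s t p₀ q₁ q₂ sqB r₁ r₂ sqA hC x'
    obtain ⟨i1, i2, i3, i4⟩ := hC
    exact qk_baseChange_iff s t p₀ q₁ q₂ sqB r₁ r₂ sqA x'
  · intro U V W a b c s t ha hb hc c1 c2
    have c3 : a ≫ (f ≫ q).hom = (yon S).map (s ≫ t) ≫ c := by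
      show a ≫ f.hom ≫ q.hom = _
      rw [← Category.assoc, c1, Category.assoc, c2, Functor.map_comp, Category.assoc]
    exact ⟨hp1 a c (s ≫ t) ha hc c3, hp2 a c (s ≫ t) ha hc c3, hq1 b c t hb hc c2,
      hq2 b c t hb hc c2⟩

theorem s10668 {X Y Z : AlgSp.Space S} (f : X ⟶ Y) (p : X ⟶ Z) (q : Y ⟶ Z) (hc : f ≫ q = p)
    (hp1 : AlgSp.LocP @Flat p.hom) (hp2 : AlgSp.LocP @LocallyOfFinitePresentation p.hom)
    (hq1 : AlgSp.LocP @Flat q.hom) (hq2 : AlgSp.LocP @LocallyOfFinitePresentation q.hom)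
    {Z' Y' X' : AlgSp.Space S} (g : Z' ⟶ Z) (gY : Y' ⟶ Y) (q' : Y' ⟶ Z')
    (hY : IsPullback gY.hom q'.hom q.hom g.hom)
    (gX : X' ⟶ X) (f' : X' ⟶ Y') (hX : IsPullback gX.hom f'.hom f.hom gY.hom) :
    {x' | AlgSp.LocPNear AlgSp.lci f'.hom x'} =
      AlgSp.Points.map gX.hom ⁻¹' {x | AlgSp.LocPNear AlgSp.lci f.hom x} := by
  subst hc
  have e1 : {x | AlgSp.LocPNear AlgSp.lci f.hom x} = {x | HasAtMor QK f.hom x} := by
    ext x; exact locPNear_lci_iff f x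
  have e2 : {x' | AlgSp.LocPNear AlgSp.lci f'.hom x'} = {x' | HasAtMor QK f'.hom x'} := by
    ext x; exact locPNear_lci_iff f' x
  rw [e1, e2]
  exact hasAtMor_qk_baseChange f q hp1 hp2 hq1 hq2 X' Y' Z' g f' q' gX gY hY hX

theorem isLCIMor_iff_forall {X Y : AlgSp.Space S} (f : X ⟶ Y) :
    AlgSp.IsLCIMor f.hom ↔ {x : Points X.obj | HasAtMor QK f.hom x} = Set.univ := by
  rw [Set.eq_univ_iff_forall]
  show _ ↔ ∀ x : Points X.obj, HasAtMor QK f.hom x
  rw [forall_hasAtMor_iff etLocal_QK f]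
  constructor
  · intro H U V a b h ha hb comm u
    exact (lci_iff_forall_qk h.left).1 (H a b h ha hb comm) u
  · intro H U V a b h ha hb comm
    exact (lci_iff_forall_qk h.left).2 (H a b h ha hb comm)

theorem s10645 {X Y Z : AlgSp.Space S}
    (f : X ⟶ Y) (p : X ⟶ Z) (q : Y ⟶ Z) (hc : f ≫ q = p)
    (hp1 : AlgSp.LocP @Flat p.hom) (hp2 : AlgSp.LocP @LocallyOfFinitePresentation p.hom)
    (hp3 : AlgSp.IsClosedMor p.hom) (hq1 : AlgSp.LocP @Flat q.hom)
    (hq2 : AlgSp.LocP @LocallyOfFinitePresentation q.hom) :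
    ∃ (W : AlgSp.Space S) (w : W ⟶ Z), AlgSp.RepWith @IsOpenImmersion w.hom ∧
      ∀ (Z' : AlgSp.Space S) (g : Z' ⟶ Z),
        (∃ k : Z' ⟶ W, k ≫ w = g) ↔
          ∀ (Y' : AlgSp.Space S) (gY : Y' ⟶ Y) (q' : Y' ⟶ Z'),
            IsPullback gY.hom q'.hom q.hom g.hom →
            ∀ (X' : AlgSp.Space S) (gX : X' ⟶ X) (f' : X' ⟶ Y'),
              IsPullback gX.hom f'.hom f.hom gY.hom →
                AlgSp.IsLCIMor f'.hom := by
  subst hc
  have hopen : IsOpen {x : Points X.obj | HasAtMor QK f.hom x} :=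
    isOpen_locus etLocal_QK ⊤ (fun s _ => isOpen_qk s) f (fun _ _ _ _ _ _ _ _ => trivial)
  obtain ⟨W, w, hw, H⟩ := Groth.Agent.Helper5.Where.where_of_locus f q
    (fun {X' Y'} f' => {x' : AlgSp.Points X'.obj | HasAtMor QK f'.hom x'}) hopen hp3
    (fun X' Y' Z' g f' h' pX pY sqY sqX =>
      hasAtMor_qk_baseChange f q hp1 hp2 hq1 hq2 X' Y' Z' g f' h' pX pY sqY sqX)
  refine ⟨W, w, hw, fun Z' g => ?_⟩
  rw [H Z' g]
  refine forall₃_congr fun Y' gY q' => forall_congr' fun sqY => forall₃_congr fun X' gX f' =>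
    forall_congr' fun sqX => ?_
  exact (isLCIMor_iff_forall f').symm

end Groth.Agent.Helper5.KosLoc
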