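import Mathlib
import Groth.Prelude

/-!
# Kummer algebras over étale coordinates are formally smooth
-/

set_option autoImplicit false
set_option linter.style.haveILetI false

namespace Groth.Agent.Helper5.KumSm
open MvPolynomial

universe u

theorem kummer_formallySmooth {R : Type u} [CommRing R] {σ : Type u} (A : Type u) [CommRing A]
    [Algebra R A] [Algebra (MvPolynomial σ R) A] [IsScalarTower R (MvPolynomial σ R) A]
    [Algebra.FormallySmooth (MvPolynomial σ R) A] {ι : Type} (e : ι → σ)
    (he : Function.Injective e) (n : ι → ℕ) :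
    Algebra.FormallySmooth R
      (SGA1t.kummer A (fun i => algebraMap (MvPolynomial σ R) A (X (e i))) n) := by
  classical
  set a : ι → A := fun i => algebraMap (MvPolynomial σ R) A (X (e i)) with ha
  set J : Ideal (MvPolynomial ι A) :=
    Ideal.span (Set.range fun i => (X i : MvPolynomial ι A) ^ n i - C (a i)) with hJ
  refine Algebra.FormallySmooth.of_comp_surjective fun D _ _ N hN g' => ?_
  let πC : MvPolynomial ι A →ₐ[R] (MvPolynomial ι A ⧸ J) := Ideal.Quotient.mkₐ R J
  let ρ : MvPolynomial σ R →ₐ[R] (MvPolynomial ι A ⧸ J) :=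
    πC.comp ((IsScalarTower.toAlgHom R A (MvPolynomial ι A)).comp
      (IsScalarTower.toAlgHom R (MvPolynomial σ R) A))
  have hrel : ∀ i, πC (X i) ^ n i = ρ (X (e i)) := by
    intro i
    rw [← map_pow]
    change Ideal.Quotient.mk J (X i ^ n i) = Ideal.Quotient.mk J (C (a i))
    rw [Ideal.Quotient.eq]
    exact Ideal.subset_span ⟨i, rfl⟩
  choose t ht using fun i => Ideal.Quotient.mk_surjective (g' (πC (X i)))
  choose w₀ hw₀ using fun j => Ideal.Quotient.mk_surjective (g' (ρ (X j)))
  let w : σ → D := fun j => if h : ∃ i, e i = j then t h.choose ^ n h.choose else w₀ j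
  have hwe : ∀ i, w (e i) = t i ^ n i := by
    intro i
    have h : ∃ i', e i' = e i := ⟨i, rfl⟩
    have h2 : h.choose = i := he h.choose_spec
    simp only [w, dif_pos h, h2]
  have hw : ∀ j, Ideal.Quotient.mk N (w j) = g' (ρ (X j)) := by
    intro j
    by_cases h : ∃ i, e i = j
    · obtain ⟨i, rfl⟩ := h
      rw [hwe, map_pow, ht, ← map_pow, hrel]
    · simp only [w, dif_neg h, hw₀]
  let h := MvPolynomial.aeval (R := R) w
  letI algPD : Algebra (MvPolynomial σ R) D := h.toRingHom.toAlgebra
  haveI : IsScalarTower R (MvPolynomial σ R) D :=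
    IsScalarTower.of_algebraMap_eq (fun r => (h.commutes r).symm)
  -- restriction of g' to A is P-linear
  let gA' : A →ₐ[MvPolynomial σ R] D ⧸ N :=
    { toRingHom := (g'.toRingHom.comp πC.toRingHom).comp (C : A →+* MvPolynomial ι A)
      commutes' := by
        intro p
        have h1 : ∀ p : MvPolynomial σ R,
            (g'.comp ρ) p = ((Ideal.Quotient.mkₐ R N).comp h) p := by
          intro p
          congr 1
          apply MvPolynomial.algHom_ext
          intro j
          simp only [AlgHom.comp_apply, h, aeval_X, Ideal.Quotient.mkₐ_eq_mk]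
          exact (hw j).symm
        exact h1 p }
  obtain ⟨gA, hgA⟩ := Algebra.FormallySmooth.comp_surjective (MvPolynomial σ R) A N hN gA'
  have hgA' : ∀ x : A, Ideal.Quotient.mk N (gA x) = g' (πC (C x)) := fun x => congr($hgA x)
  -- the lift on the polynomial ring
  let g₀ : MvPolynomial ι A →+* D := MvPolynomial.eval₂Hom (gA : A →+* D) t
  have hg₀J : ∀ x ∈ J, g₀ x = 0 := by
    intro x hx
    have hle : J ≤ RingHom.ker g₀ := by
      rw [hJ, Ideal.span_le]
      rintro _ ⟨i, rfl⟩
      rw [SetLike.mem_coe, RingHom.mem_ker]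
      simp only [g₀, map_sub, map_pow, coe_eval₂Hom, eval₂_X, eval₂_C]
      rw [← hwe i, ha]
      simp only [RingHom.coe_coe]
      rw [AlgHom.commutes]
      change w (e i) - h (X (e i)) = 0
      simp only [h, aeval_X, sub_self]
    exact hle hx
  let g₁ : (MvPolynomial ι A ⧸ J) →+* D := Ideal.Quotient.lift J g₀ hg₀J
  have hcomm : ∀ r : R, g₁ (algebraMap R (MvPolynomial ι A ⧸ J) r) = algebraMap R D r := by
    intro r
    change g₁ (Ideal.Quotient.mk J (C (algebraMap R A r))) = _
    rw [Ideal.Quotient.lift_mk]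
    simp only [g₀, coe_eval₂Hom, eval₂_C, RingHom.coe_coe]
    rw [IsScalarTower.algebraMap_apply R (MvPolynomial σ R) A, AlgHom.commutes,
      ← IsScalarTower.algebraMap_apply]
  let g : (MvPolynomial ι A ⧸ J) →ₐ[R] D := { g₁ with commutes' := hcomm }
  refine ⟨g, ?_⟩
  apply Ideal.Quotient.algHom_ext
  apply MvPolynomial.algHom_ext'
  · ext x
    simp only [AlgHom.comp_apply, IsScalarTower.coe_toAlgHom', Ideal.Quotient.mkₐ_eq_mk]
    change Ideal.Quotient.mk N (g₁ (Ideal.Quotient.mk J (C x))) = g' (Ideal.Quotient.mk J (C x))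
    rw [Ideal.Quotient.lift_mk]
    simp only [g₀, coe_eval₂Hom, eval₂_C, RingHom.coe_coe]
    exact hgA' x
  · intro i
    simp only [AlgHom.comp_apply, Ideal.Quotient.mkₐ_eq_mk]
    change Ideal.Quotient.mk N (g₁ (Ideal.Quotient.mk J (X i))) = g' (Ideal.Quotient.mk J (X i))
    rw [Ideal.Quotient.lift_mk]
    simp only [g₀, coe_eval₂Hom, eval₂_X]
    exact ht i

end Groth.Agent.Helper5.KumSm
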