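import Mathlib
import Groth.Prelude
import Groth.Agent.Helper8.SmSubB

/-!
# Étale coordinates: from a scheme-level étale chart to an étale ring map
-/

set_option autoImplicit false
set_option linter.style.haveILetI false

namespace Groth.Agent.Helper5.KumSm
open AlgebraicGeometry CategoryTheory Limits TopologicalSpace Groth.Agent.Helper8.SmSubB

universe u

theorem chart {X S : Scheme.{u}} (f : X ⟶ S) (W : X.Opens) {σ : Type u} (v : σ → Γ(W, ⊤))
    (hEt : Etale (AffineSpace.homOfVector (W.ι ≫ f) v))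
    {S₀ : S.Opens} (hS₀ : IsAffineOpen S₀) {W₀ : X.Opens} (hW₀ : IsAffineOpen W₀)
    (hle : W₀ ≤ f ⁻¹ᵁ S₀) (hW₀W : W₀ ≤ W) :
    (psi f hle (fun l => X.presheaf.map (homOfLE hW₀W).op (W.topIso.hom (v l)))).Etale := by
  set t : σ → Γ(X, W₀) := fun l => X.presheaf.map (homOfLE hW₀W).op (W.topIso.hom (v l)) with ht
  have heq : piHom f hS₀ hW₀ hle t = X.homOfLE hW₀W ≫ AffineSpace.homOfVector (W.ι ≫ f) v := by
    apply AffineSpace.hom_ext
    · rw [piHom_over, Category.assoc, AffineSpace.homOfVector_over, Scheme.homOfLE_ι_assoc]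
    · intro l
      rw [piHom_appTop_coord]
      change _ = (X.homOfLE hW₀W).appTop
        ((AffineSpace.homOfVector (W.ι ≫ f) v).appTop (AffineSpace.coord S l))
      rw [AffineSpace.homOfVector_appTop_coord]
      have hm : W.topIso.hom ≫ X.presheaf.map (homOfLE hW₀W).op ≫ W₀.topIso.inv =
          (X.homOfLE hW₀W).appTop := by
        have h1 := Scheme.Hom.resLE_app_top (f := 𝟙 X) (U := W) (V := W₀) hW₀W
        have h2 : (𝟙 X : X ⟶ X).appLE W W₀ hW₀W = X.presheaf.map (homOfLE hW₀W).op := by
          simp only [Scheme.Hom.appLE, Scheme.Hom.id_app]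
          exact Category.id_comp _
        rw [Scheme.Hom.resLE_id, h2] at h1
        exact h1.symm
      rw [← hm]
      rfl
  haveI : Etale (piHom f hS₀ hW₀ hle t) := by
    rw [heq]
    infer_instance
  haveI hmap : Etale (AffineSpace.map σ hS₀.fromSpec) :=
    MorphismProperty.of_isPullback (P := @Etale)
      (AffineSpace.isPullback_map hS₀.fromSpec).flip inferInstance
  have h1 : Etale (hW₀.isoSpec.hom ≫ Spec.map (CommRingCat.ofHom (psi f hle t)) ≫
      (AffineSpace.SpecIso σ Γ(S, S₀)).inv) := by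
    refine MorphismProperty.of_postcomp (W := @Etale) (W' := @Etale) _
      (AffineSpace.map σ hS₀.fromSpec) hmap ?_
    simpa only [Category.assoc, piHom] using (inferInstance : Etale (piHom f hS₀ hW₀ hle t))
  have h2 : Etale (Spec.map (CommRingCat.ofHom (psi f hle t))) := by
    have : Spec.map (CommRingCat.ofHom (psi f hle t)) =
        hW₀.isoSpec.inv ≫ (hW₀.isoSpec.hom ≫ Spec.map (CommRingCat.ofHom (psi f hle t)) ≫
          (AffineSpace.SpecIso σ Γ(S, S₀)).inv) ≫ (AffineSpace.SpecIso σ Γ(S, S₀)).hom := by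
      simp
    rw [this]
    infer_instance
  rwa [HasRingHomProperty.Spec_iff (P := @Etale)] at h2

end Groth.Agent.Helper5.KumSm
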