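import Mathlib
import Groth.Prelude
import Groth.Agent.Helper5.KumSm1
import Groth.Agent.Helper5.KumSm2

/-!
# Kummer coverings of a relative strict normal crossings divisor are smooth
-/

set_option autoImplicit false
set_option linter.style.haveILetI false

namespace Groth.Agent.Helper5.KumSm
open AlgebraicGeometry CategoryTheory Limits TopologicalSpace Groth.Agent.Helper8.SmSubB

universe u

/-- formal smoothness of a global ring of sections gives formal smoothness of all stalk maps -/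
theorem stalkMap_formallySmooth_of_appLE {Z S : Scheme.{u}} [IsAffine Z] (Φ : Z ⟶ S)
    {S₀ : S.Opens} (hS₀ : IsAffineOpen S₀) (hVU : (⊤ : Z.Opens) ≤ Φ ⁻¹ᵁ S₀)
    (h : (Φ.appLE S₀ ⊤ hVU).hom.FormallySmooth) (z : Z) :
    (Φ.stalkMap z).hom.FormallySmooth := by
  rw [formallySmooth_stalkMap_iff S₀ hS₀ ⊤ (isAffineOpen_top Z) hVU (Opens.mem_top z)]
  letI := (Φ.appLE S₀ ⊤ hVU).hom.toAlgebra
  haveI : Algebra.FormallySmooth Γ(S, S₀) Γ(Z, ⊤) := h
  set p := ((isAffineOpen_top Z).primeIdealOf ⟨z, Opens.mem_top z⟩) with hp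
  haveI : Algebra.FormallySmooth Γ(Z, ⊤) (Localization.AtPrime p.asIdeal) :=
    Algebra.FormallySmooth.of_isLocalization p.asIdeal.primeCompl
  exact Algebra.FormallySmooth.comp Γ(S, S₀) Γ(Z, ⊤) (Localization.AtPrime p.asIdeal)

theorem appLE_kummer {X S : Scheme.{u}} (f : X ⟶ S) (x : X) {S₀ : S.Opens} {W₀ : X.Opens}
    (hxW₀ : x ∈ W₀) (hle : W₀ ≤ f ⁻¹ᵁ S₀) {C : CommRingCat.{u}} (φC : X.presheaf.stalk x ⟶ C)
    (hVU : (⊤ : (Spec C).Opens) ≤ (Spec.map φC ≫ X.fromSpecStalk x ≫ f) ⁻¹ᵁ S₀) :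
    (Spec.map φC ≫ X.fromSpecStalk x ≫ f).appLE S₀ ⊤ hVU =
      f.appLE S₀ W₀ hle ≫ X.presheaf.germ W₀ x hxW₀ ≫ φC ≫ (Scheme.ΓSpecIso C).inv := by
  have e2 : (⊤ : (Spec (X.presheaf.stalk x)).Opens) ≤ (X.fromSpecStalk x) ⁻¹ᵁ W₀ := by
    rw [Scheme.preimage_eq_top_of_closedPoint_mem]
    rw [Scheme.fromSpecStalk_closedPoint]
    exact hxW₀
  have e3 : (⊤ : (Spec C).Opens) ≤ (Spec.map φC) ⁻¹ᵁ ⊤ := le_rfl
  have h1 : (X.fromSpecStalk x).appLE W₀ ⊤ e2 =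
      X.presheaf.germ W₀ x hxW₀ ≫ (Scheme.ΓSpecIso (X.presheaf.stalk x)).inv := by
    rw [Scheme.Hom.appLE, Scheme.fromSpecStalk_app hxW₀]
    simp only [Category.assoc, ← Functor.map_comp]
    rw [show ((homOfLE le_top).op ≫ (homOfLE e2).op :
      Opposite.op (⊤ : (Spec (X.presheaf.stalk x)).Opens) ⟶ Opposite.op ⊤) = 𝟙 _ from rfl]
    simp
  have h2 : (Spec.map φC).appLE ⊤ ⊤ e3 = (Spec.map φC).appTop := by
    rw [Scheme.Hom.appLE]
    have h3 : (homOfLE e3).op = 𝟙 (Opposite.op (⊤ : (Spec C).Opens)) := rfl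
    erw [h3, CategoryTheory.Functor.map_id, Category.comp_id]
  rw [← Scheme.Hom.appLE_comp_appLE (Spec.map φC) (X.fromSpecStalk x ≫ f) S₀ ⊤ ⊤
    (by rw [Scheme.Hom.comp_preimage]; exact e2.trans ((X.fromSpecStalk x).preimage_mono hle)) e3,
    ← Scheme.Hom.appLE_comp_appLE (X.fromSpecStalk x) f S₀ W₀ ⊤ hle e2, h1, h2]
  simp only [Category.assoc]
  rw [Scheme.ΓSpecIso_inv_naturality]

end Groth.Agent.Helper5.KumSm
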