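import Mathlib
import Groth.Prelude
import Groth.Agent.Helper5.KumSm3

/-!
# Kummer coverings of a relative strict normal crossings divisor are smooth: main theorem
-/

set_option autoImplicit false
set_option linter.style.haveILetI false

namespace Groth.Agent.Helper5.KumSm
open AlgebraicGeometry CategoryTheory Limits TopologicalSpace Groth.Agent.Helper8.SmSubB

universe u

theorem main {X S : Scheme.{u}} (f : X ⟶ S) {r : ℕ} (φ : Fin r → Γ(X, ⊤))
    (hD : SGA1t.IsRelSNC f φ) (x : X) (hx : Nonempty (SGA1t.vanishingAt φ x))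
    (n : SGA1t.vanishingAt φ x → ℕ)
    (x' : Spec (CommRingCat.of (SGA1t.kummer (X.presheaf.stalk x)
      (fun i : SGA1t.vanishingAt φ x => (X.presheaf.germ ⊤ x trivial).hom (φ i.1)) n))) :
    ((Spec.map (CommRingCat.ofHom (algebraMap (X.presheaf.stalk x)
      (SGA1t.kummer (X.presheaf.stalk x)
        (fun i : SGA1t.vanishingAt φ x => (X.presheaf.germ ⊤ x trivial).hom (φ i.1)) n))) ≫
      X.fromSpecStalk x ≫ f).stalkMap x').hom.FormallySmooth := by
  obtain ⟨W, hxW, d, v, e, he, hEt, hv⟩ := hD x hx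
  obtain ⟨_, ⟨S₀, hS₀, rfl⟩, hxS₀, -⟩ :=
    S.isBasis_affineOpens.exists_subset_of_mem_open (Set.mem_univ (f x)) isOpen_univ
  obtain ⟨_, ⟨W₀, hW₀, rfl⟩, hxW₀, hW₀sub⟩ :=
    X.isBasis_affineOpens.exists_subset_of_mem_open
      (show x ∈ ((W ⊓ f ⁻¹ᵁ S₀ : X.Opens) : Set X) from ⟨hxW, hxS₀⟩) (W ⊓ f ⁻¹ᵁ S₀).2
  have hW₀W : W₀ ≤ W := fun y hy => (hW₀sub hy).1
  have hle : W₀ ≤ f ⁻¹ᵁ S₀ := fun y hy => (hW₀sub hy).2
  set t : ULift.{u} (Fin d) → Γ(X, W₀) :=
    fun l => X.presheaf.map (homOfLE hW₀W).op (W.topIso.hom (v l)) with ht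
  have hψ := chart f W v hEt hS₀ hW₀ hle hW₀W
  -- ring structures
  letI algRB : Algebra Γ(S, S₀) Γ(X, W₀) := (f.appLE S₀ W₀ hle).hom.toAlgebra
  letI algPB : Algebra (MvPolynomial (ULift.{u} (Fin d)) Γ(S, S₀)) Γ(X, W₀) :=
    (psi f hle t).toAlgebra
  haveI : IsScalarTower Γ(S, S₀) (MvPolynomial (ULift.{u} (Fin d)) Γ(S, S₀)) Γ(X, W₀) := by
    refine IsScalarTower.of_algebraMap_eq' ?_
    ext a
    simp [RingHom.algebraMap_toAlgebra, psi]
  haveI : Algebra.Etale (MvPolynomial (ULift.{u} (Fin d)) Γ(S, S₀)) Γ(X, W₀) := hψ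
  letI algBA : Algebra Γ(X, W₀) (X.presheaf.stalk x) :=
    X.presheaf.algebra_section_stalk ⟨x, hxW₀⟩
  haveI locA := hW₀.isLocalization_stalk ⟨x, hxW₀⟩
  haveI : Algebra.FormallySmooth Γ(X, W₀) (X.presheaf.stalk x) :=
    Algebra.FormallySmooth.of_isLocalization (hW₀.primeIdealOf ⟨x, hxW₀⟩).asIdeal.primeCompl
  letI algPA : Algebra (MvPolynomial (ULift.{u} (Fin d)) Γ(S, S₀)) (X.presheaf.stalk x) :=
    ((algebraMap Γ(X, W₀) (X.presheaf.stalk x)).comp
      (algebraMap (MvPolynomial (ULift.{u} (Fin d)) Γ(S, S₀)) Γ(X, W₀))).toAlgebra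
  haveI : IsScalarTower (MvPolynomial (ULift.{u} (Fin d)) Γ(S, S₀)) Γ(X, W₀)
      (X.presheaf.stalk x) := IsScalarTower.of_algebraMap_eq' rfl
  letI algRA : Algebra Γ(S, S₀) (X.presheaf.stalk x) :=
    ((algebraMap Γ(X, W₀) (X.presheaf.stalk x)).comp
      (algebraMap Γ(S, S₀) Γ(X, W₀))).toAlgebra
  haveI : IsScalarTower Γ(S, S₀) Γ(X, W₀) (X.presheaf.stalk x) :=
    IsScalarTower.of_algebraMap_eq' rfl
  haveI : IsScalarTower Γ(S, S₀) (MvPolynomial (ULift.{u} (Fin d)) Γ(S, S₀))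
      (X.presheaf.stalk x) := by
    refine IsScalarTower.of_algebraMap_eq' ?_
    ext a
    change _ = algebraMap Γ(X, W₀) (X.presheaf.stalk x)
      (algebraMap (MvPolynomial (ULift.{u} (Fin d)) Γ(S, S₀)) Γ(X, W₀) (algebraMap _ _ a))
    rw [← IsScalarTower.algebraMap_apply Γ(S, S₀) (MvPolynomial (ULift.{u} (Fin d)) Γ(S, S₀))
      Γ(X, W₀)]
    rfl
  haveI : Algebra.FormallySmooth (MvPolynomial (ULift.{u} (Fin d)) Γ(S, S₀))
      (X.presheaf.stalk x) :=
    Algebra.FormallySmooth.comp _ Γ(X, W₀) _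
  have he' : Function.Injective (fun i : SGA1t.vanishingAt φ x => ULift.up.{u} (e i)) :=
    fun i j h => he (ULift.up_injective h)
  have key := kummer_formallySmooth (R := Γ(S, S₀)) (σ := ULift.{u} (Fin d))
    (X.presheaf.stalk x) (fun i : SGA1t.vanishingAt φ x => ULift.up.{u} (e i)) he' n
  have ha : (fun i : SGA1t.vanishingAt φ x =>
      algebraMap (MvPolynomial (ULift.{u} (Fin d)) Γ(S, S₀)) (X.presheaf.stalk x)
        (MvPolynomial.X (ULift.up.{u} (e i)))) =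
      (fun i : SGA1t.vanishingAt φ x => (X.presheaf.germ ⊤ x trivial).hom (φ i.1)) := by
    funext i
    change (X.presheaf.germ W₀ x hxW₀).hom (psi f hle t (MvPolynomial.X (ULift.up (e i)))) = _
    have h5 : psi f hle t (MvPolynomial.X (ULift.up (e i))) = t (ULift.up (e i)) := by
      simp [psi]
    rw [h5, ht]
    simp only
    rw [hv i]
    have h6 : W.topIso.hom (W.topIso.inv (X.presheaf.map (homOfLE le_top).op (φ i.1))) =
        X.presheaf.map (homOfLE le_top).op (φ i.1) := by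
      rw [← CommRingCat.comp_apply, Iso.inv_hom_id]; rfl
    rw [h6, TopCat.Presheaf.germ_res_apply, TopCat.Presheaf.germ_res_apply]
  rw [ha] at key
  -- translate to the stalk map
  set C := SGA1t.kummer (X.presheaf.stalk x)
      (fun i : SGA1t.vanishingAt φ x => (X.presheaf.germ ⊤ x trivial).hom (φ i.1)) n with hC
  set φC : X.presheaf.stalk x ⟶ CommRingCat.of C :=
    CommRingCat.ofHom (algebraMap (X.presheaf.stalk x) C) with hφC
  have hVU : (⊤ : (Spec (CommRingCat.of C)).Opens) ≤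
      (Spec.map φC ≫ X.fromSpecStalk x ≫ f) ⁻¹ᵁ S₀ := by
    rw [Scheme.Hom.comp_preimage, Scheme.Hom.comp_preimage,
      Scheme.preimage_eq_top_of_closedPoint_mem (f := X.fromSpecStalk x)
        (U := f ⁻¹ᵁ S₀) (by rw [Scheme.fromSpecStalk_closedPoint]; exact hxS₀)]
    exact le_rfl
  refine stalkMap_formallySmooth_of_appLE _ hS₀ hVU ?_ x'
  rw [appLE_kummer f x hxW₀ hle φC hVU]
  have h7 : (f.appLE S₀ W₀ hle ≫ X.presheaf.germ W₀ x hxW₀ ≫ φC ≫
      (Scheme.ΓSpecIso (CommRingCat.of C)).inv).hom =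
      ((Scheme.ΓSpecIso (CommRingCat.of C)).symm.commRingCatIsoToRingEquiv.toRingHom).comp
        (algebraMap Γ(S, S₀) C) := by
    ext a
    simp only [CommRingCat.hom_comp, RingHom.comp_apply]
    rw [IsScalarTower.algebraMap_apply Γ(S, S₀) (X.presheaf.stalk x) C]
    rfl
  rw [h7]
  exact RingHom.FormallySmooth.respectsIso.1 _ _
    ((RingHom.formallySmooth_algebraMap).mpr key)

end Groth.Agent.Helper5.KumSm
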