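import Mathlib
import Groth.Agent.Helper5.LST9

set_option autoImplicit false
set_option linter.style.haveILetI false
set_option linter.unusedSectionVars false
universe u
open MvPolynomial TensorProduct

namespace Groth.Agent.Helper5.LST

open Groth.Agent.Helper5.RelGCI

/-- pointwise version of S9150 -/
theorem s9150_pointwise (R : Type u) [CommRing R] (I : Ideal R) (Sb : Type u) [CommRing Sb]
    [Algebra R Sb] [Algebra (R ⧸ I) Sb] [IsScalarTower R (R ⧸ I) Sb]
    (h : Synt.IsSyntomic (R ⧸ I) Sb) (q : Ideal Sb) [q.IsPrime] :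
    ∃ g : Sb, g ∉ q ∧
      ∃ (n c : ℕ) (F : Fin c → MvPolynomial (Fin n) R), Synt.IsRelGCI R n c F ∧
        Nonempty (Localization.Away g ≃ₐ[R]
          (Synt.RelGCIRing R n c F ⧸ I.map (algebraMap R (Synt.RelGCIRing R n c F)))) := by
  obtain ⟨g, hg, n, c, Fb, hFb, ⟨ε⟩⟩ := lst (R ⧸ I) Sb h q
  have hex : ∀ i, ∃ Fi : MvPolynomial (Fin n) R,
      MvPolynomial.map (algebraMap R (R ⧸ I)) Fi = Fb i := fun i =>
    MvPolynomial.map_surjective _ Ideal.Quotient.mk_surjective (Fb i)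
  choose F hF using hex
  obtain rfl : Fb = fun i => MvPolynomial.map (algebraMap R (R ⧸ I)) (F i) :=
    funext fun i => (hF i).symm
  obtain ⟨h', hh', hrel, ⟨ε₂⟩⟩ := s9172 R n c F I hFb
  obtain ⟨ε₃⟩ := nonempty_quot_away R I (Ideal.Quotient.mk (Ideal.span (Set.range F)) h') hh'
  obtain ⟨ε₄⟩ := nonempty_quot_bc R n c F I
  haveI : IsScalarTower R (R ⧸ I) (Localization.Away g) :=
    IsScalarTower.of_algebraMap_eq (fun r => by
      rw [IsScalarTower.algebraMap_apply R Sb (Localization.Away g),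
        IsScalarTower.algebraMap_apply (R ⧸ I) Sb (Localization.Away g),
        ← IsScalarTower.algebraMap_apply R (R ⧸ I) Sb])
  refine ⟨g, hg, n + 1, c + 1, _, hrel, ⟨?_⟩⟩
  exact ((ε.restrictScalars R).trans ε₄.symm).trans (ε₃.symm.trans (quotCongr R I ε₂))

/-- S9150 -/
theorem s9150 (R : Type u) [CommRing R] (I : Ideal R) (Sb : Type u) [CommRing Sb]
    [Algebra R Sb] [Algebra (R ⧸ I) Sb] [IsScalarTower R (R ⧸ I) Sb]
    (h : Synt.IsSyntomic (R ⧸ I) Sb) :
    ∃ s : Finset Sb, Ideal.span (s : Set Sb) = ⊤ ∧ ∀ g ∈ s,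
      ∃ (n c : ℕ) (F : Fin c → MvPolynomial (Fin n) R), Synt.IsRelGCI R n c F ∧
        Nonempty (Localization.Away g ≃ₐ[R]
          (Synt.RelGCIRing R n c F ⧸ I.map (algebraMap R (Synt.RelGCIRing R n c F)))) := by
  set P : Set Sb := {g | ∃ (n c : ℕ) (F : Fin c → MvPolynomial (Fin n) R), Synt.IsRelGCI R n c F ∧
        Nonempty (Localization.Away g ≃ₐ[R]
          (Synt.RelGCIRing R n c F ⧸ I.map (algebraMap R (Synt.RelGCIRing R n c F))))} with hP
  have htop : Ideal.span P = ⊤ := by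
    by_contra hne
    obtain ⟨M, hM, hle⟩ := Ideal.exists_le_maximal _ hne
    haveI := hM.isPrime
    obtain ⟨g, hg, hPg⟩ := s9150_pointwise R I Sb h M
    exact hg (hle (Ideal.subset_span hPg))
  obtain ⟨s, hs, hspan⟩ := (Ideal.span_eq_top_iff_finite P).1 htop
  exact ⟨s, hspan, fun g hg => hs hg⟩

end Groth.Agent.Helper5.LST
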