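import Mathlib
import Groth.Agent.Helper5.LST11

set_option autoImplicit false
set_option linter.style.haveILetI false
set_option linter.unusedSectionVars false
universe u
open RingTheory.Sequence MvPolynomial
open scoped Pointwise

namespace Groth.Agent.Helper5.LST

open Groth.Agent.Helper5.RelGCI

section lemmaR

/-- a sequence which is weakly regular modulo a nonzerodivisor `u` extends `u` to a weakly regular
sequence -/
theorem isWeaklyRegular_cons_of_surjective {D' E : Type*} [CommRing D'] [CommRing E] [Algebra D' E]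
    (hs : Function.Surjective (algebraMap D' E)) (u : D') (hu : IsSMulRegular D' u)
    (hker : RingHom.ker (algebraMap D' E) = Ideal.span {u}) (rs' : List D')
    (h : IsWeaklyRegular E (rs'.map (algebraMap D' E))) : IsWeaklyRegular D' (u :: rs') := by
  rw [isWeaklyRegular_cons_iff]
  refine ⟨hu, ?_⟩
  rw [isWeaklyRegular_map_algebraMap_iff] at h
  have hk : LinearMap.ker (Algebra.linearMap D' E) = (u • ⊤ : Submodule D' D') := by
    have h1 : (LinearMap.ker (Algebra.linearMap D' E) : Submodule D' D') =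
        RingHom.ker (algebraMap D' E) := by
      ext x
      simp [RingHom.mem_ker]
    rw [h1, hker]
    ext x
    rw [Ideal.mem_span_singleton', Submodule.mem_smul_pointwise_iff_exists]
    constructor
    · rintro ⟨a, rfl⟩
      exact ⟨a, Submodule.mem_top, by rw [smul_eq_mul, mul_comm]⟩
    · rintro ⟨a, -, rfl⟩
      exact ⟨a, by rw [smul_eq_mul, mul_comm]⟩
  let e : QuotSMulTop u D' ≃ₗ[D'] E :=
    (Submodule.quotEquivOfEq _ _ hk.symm).trans
      (LinearMap.quotKerEquivOfSurjective (Algebra.linearMap D' E) hs)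
  exact (e.isWeaklyRegular_congr rs').2 h

end lemmaR

section t3

variable (A : Type u) [CommRing A] (n : ℕ) (t : MvPolynomial (Fin n) A)

/-- `u = t z - 1` -/
noncomputable def uElt : MvPolynomial (Fin (n + 1)) A :=
  rename Fin.castSucc t * X (Fin.last n) - 1

theorem isSMulRegular_uElt : IsSMulRegular (MvPolynomial (Fin (n + 1)) A) (uElt A n t) := by
  rw [isSMulRegular_iff_right_eq_zero_of_smul]
  intro y hy
  have hunit : IsUnit ((uElt A n t : MvPolynomial (Fin (n + 1)) A) :
      MvPowerSeries (Fin (n + 1)) A) := by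
    rw [MvPowerSeries.isUnit_iff_constantCoeff]
    have : MvPowerSeries.constantCoeff ((uElt A n t : MvPolynomial (Fin (n + 1)) A) :
        MvPowerSeries (Fin (n + 1)) A) = -1 := by
      rw [← MvPowerSeries.coeff_zero_eq_constantCoeff_apply, MvPolynomial.coeff_coe]
      unfold uElt
      rw [coeff_sub, ← MvPolynomial.constantCoeff_eq]
      rw [map_mul, constantCoeff_X, mul_zero, map_one, zero_sub]
    rw [this]
    exact isUnit_one.neg
  have h1 : ((uElt A n t : MvPolynomial (Fin (n + 1)) A) : MvPowerSeries (Fin (n + 1)) A) *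
      ((y : MvPolynomial (Fin (n + 1)) A) : MvPowerSeries (Fin (n + 1)) A) = 0 := by
    rw [← MvPolynomial.coe_mul, ← smul_eq_mul, hy, MvPolynomial.coe_zero]
  have h2 : ((y : MvPolynomial (Fin (n + 1)) A) : MvPowerSeries (Fin (n + 1)) A) = 0 :=
    hunit.mul_right_eq_zero.1 h1
  exact (MvPolynomial.coe_eq_zero_iff).1 h2

theorem range_snocRel_zero :
    Set.range (snocRel A n 0 (Fin.elim0 : Fin 0 → MvPolynomial (Fin n) A) t) = {uElt A n t} := by
  ext x
  simp only [Set.mem_range, Set.mem_singleton_iff]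
  constructor
  · rintro ⟨i, rfl⟩
    have : i = Fin.last 0 := Fin.eq_zero i
    subst this
    unfold snocRel uElt
    rw [Fin.snoc_last]
  · rintro rfl
    refine ⟨Fin.last 0, ?_⟩
    unfold snocRel uElt
    rw [Fin.snoc_last]

/-- the quotient `A[x,z]/(tz - 1)` as an algebra over `A[x]` -/
@[reducible] noncomputable def algDE : Algebra (MvPolynomial (Fin n) A)
    (Synt.RelGCIRing A (n + 1) 1 (snocRel A n 0 (Fin.elim0 : Fin 0 → MvPolynomial (Fin n) A) t)) :=
  ((Ideal.Quotient.mk _).comp
    (rename Fin.castSucc : MvPolynomial (Fin n) A →ₐ[A] MvPolynomial (Fin (n + 1)) A).toRingHom).toAlgebra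

theorem isLocalization_E :
    @IsLocalization.Away (MvPolynomial (Fin n) A) _ t
      (Synt.RelGCIRing A (n + 1) 1 (snocRel A n 0 (Fin.elim0 : Fin 0 → MvPolynomial (Fin n) A) t)) _
      (algDE A n t) := by
  letI := algDE A n t
  letI : Algebra (Synt.RelGCIRing A n 0 (Fin.elim0 : Fin 0 → MvPolynomial (Fin n) A))
      (Synt.RelGCIRing A (n + 1) 1 (snocRel A n 0 (Fin.elim0 : Fin 0 → MvPolynomial (Fin n) A) t)) :=
    (snocHom A n 0 (Fin.elim0 : Fin 0 → MvPolynomial (Fin n) A) t :
      Synt.RelGCIRing A n 0 _ →+* _).toAlgebra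
  haveI := isLocalization_snoc A n 0 (Fin.elim0 : Fin 0 → MvPolynomial (Fin n) A) t
  have hbot : Ideal.span (Set.range (Fin.elim0 : Fin 0 → MvPolynomial (Fin n) A)) = ⊥ := by
    rw [Ideal.span_eq_bot]
    rintro _ ⟨i, -⟩
    exact i.elim0
  let e : MvPolynomial (Fin n) A ≃+*
      Synt.RelGCIRing A n 0 (Fin.elim0 : Fin 0 → MvPolynomial (Fin n) A) :=
    RingEquiv.ofBijective (Ideal.Quotient.mk _) ⟨by
      rw [injective_iff_map_eq_zero]
      intro x hx
      rw [Ideal.Quotient.eq_zero_iff_mem, hbot] at hx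
      exact hx, Ideal.Quotient.mk_surjective⟩
  refine IsLocalization.of_ringEquiv_left e
    (M₁ := Submonoid.powers (Ideal.Quotient.mk _ t)) ?_ (fun x => rfl)
  rw [Submonoid.map_powers]
  rfl

/-- the main step: the sequence `tz - 1, F` is weakly regular in `A[x,z]` when `F` is weakly
regular on `D(t)` -/
theorem isWeaklyRegular_cons (rs : List (MvPolynomial (Fin n) A))
    (h : ∀ i (hi : i < rs.length), ∀ x : MvPolynomial (Fin n) A,
      rs[i] * x ∈ Ideal.ofList (rs.take i) →
        ∃ t' ∈ Submonoid.powers t, t' * x ∈ Ideal.ofList (rs.take i)) :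
    IsWeaklyRegular (MvPolynomial (Fin (n + 1)) A)
      (uElt A n t :: rs.map (rename Fin.castSucc)) := by
  letI := algDE A n t
  haveI : IsLocalization (Submonoid.powers t)
      (Synt.RelGCIRing A (n + 1) 1 (snocRel A n 0 (Fin.elim0 : Fin 0 → MvPolynomial (Fin n) A) t)) :=
    isLocalization_E A n t
  apply isWeaklyRegular_cons_of_surjective (E := Synt.RelGCIRing A (n + 1) 1
    (snocRel A n 0 (Fin.elim0 : Fin 0 → MvPolynomial (Fin n) A) t))
    Ideal.Quotient.mk_surjective (uElt A n t) (isSMulRegular_uElt A n t)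
  · rw [Ideal.Quotient.algebraMap_eq, Ideal.mk_ker, range_snocRel_zero]
  · rw [List.map_map]
    exact (isWeaklyRegular_localization_iff (Submonoid.powers t) _ rs).2 h

end t3

end Groth.Agent.Helper5.LST
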