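import Mathlib

set_option autoImplicit false
set_option linter.style.haveILetI false
universe u
open TensorProduct RingTheory.Sequence Function

namespace Groth.Agent.Helper5.RelGCI

section

variable {R₀ R B₀ : Type u} [CommRing R₀] [CommRing R] [Algebra R₀ R] [CommRing B₀] [Algebra R₀ B₀]

/-- flatness of a quotient after base change -/
theorem flat_quot_bc (I : Ideal B₀) [Module.Flat R₀ (B₀ ⧸ I)] :
    Module.Flat R ((R ⊗[R₀] B₀) ⧸ I.map (Algebra.TensorProduct.includeRight (R := R₀) (A := R))) :=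
  Module.Flat.of_linearEquiv
    (Algebra.TensorProduct.tensorQuotientEquiv (R := R₀) R B₀ R I).symm.toLinearEquiv

/-- a non-zero-divisor with flat cokernel stays a non-zero-divisor after base change -/
theorem isSMulRegular_bc (I : Ideal B₀) (r : B₀) (hr : IsSMulRegular (B₀ ⧸ I) r)
    [Module.Flat R₀ (B₀ ⧸ (I ⊔ Ideal.span {r}))] :
    IsSMulRegular ((R ⊗[R₀] B₀) ⧸ I.map (Algebra.TensorProduct.includeRight (R := R₀) (A := R)))
      (Algebra.TensorProduct.includeRight (R := R₀) (A := R) r) := by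
  let X := B₀ ⧸ I
  let μ : X →ₗ[R₀] X := (LinearMap.lsmul B₀ X r).restrictScalars R₀
  let π : X →ₗ[R₀] B₀ ⧸ (I ⊔ Ideal.span {r}) :=
    (Ideal.Quotient.factorₐ R₀ (le_sup_left : I ≤ I ⊔ Ideal.span {r})).toLinearMap
  have hπ : Surjective π := Ideal.Quotient.factor_surjective le_sup_left
  have hμ : Injective μ := hr
  have hex : Exact μ π := by
    intro y
    obtain ⟨b, rfl⟩ := Ideal.Quotient.mk_surjective y
    constructor
    · intro h0
      have h1 : Ideal.Quotient.mk (I ⊔ Ideal.span {r}) b = 0 := h0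
      rw [Ideal.Quotient.eq_zero_iff_mem, Submodule.mem_sup] at h1
      obtain ⟨i, hi, s, hs, rfl⟩ := h1
      obtain ⟨c, rfl⟩ := Ideal.mem_span_singleton'.1 hs
      refine ⟨Ideal.Quotient.mk I c, ?_⟩
      show r • Ideal.Quotient.mk I c = Ideal.Quotient.mk I (i + c * r)
      rw [map_add, (Ideal.Quotient.eq_zero_iff_mem).2 hi, zero_add, mul_comm, map_mul]
      rfl
    · rintro ⟨z, hz⟩
      obtain ⟨c, rfl⟩ := Ideal.Quotient.mk_surjective z
      rw [← hz]
      show Ideal.Quotient.mk (I ⊔ Ideal.span {r}) (r * c) = 0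
      rw [Ideal.Quotient.eq_zero_iff_mem]
      exact Ideal.mul_mem_right _ _ (Ideal.mem_sup_right (Ideal.subset_span rfl))
  have hinj : Injective (μ.lTensor R) :=
    LinearMap.lTensor_injective_of_exact_of_flat π hπ μ hμ hex R
  let τ := Algebra.TensorProduct.tensorQuotientEquiv (R := R₀) R B₀ R I
  have hτ : ∀ z, τ (μ.lTensor R z) =
      (Algebra.TensorProduct.includeRight (R := R₀) (A := R) r) • τ z := by
    intro z
    induction z using TensorProduct.induction_on with
    | zero => simp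
    | tmul a x =>
      obtain ⟨b, rfl⟩ := Ideal.Quotient.mk_surjective x
      have h1 : μ.lTensor R (a ⊗ₜ[R₀] Ideal.Quotient.mk I b) =
          a ⊗ₜ[R₀] Ideal.Quotient.mk I (r * b) := rfl
      have h2 : ∀ (a' : R) (b' : B₀), τ (a' ⊗ₜ[R₀] Ideal.Quotient.mk I b') =
          Ideal.Quotient.mk _ (a' ⊗ₜ[R₀] b') := fun _ _ => rfl
      rw [h1, h2, h2]
      refine Eq.trans ?_ (Submodule.Quotient.mk_smul (Ideal.map _ I)
        (Algebra.TensorProduct.includeRight (R := R₀) (A := R) r) (a ⊗ₜ[R₀] b))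
      rw [smul_eq_mul, Algebra.TensorProduct.includeRight_apply,
        Algebra.TensorProduct.tmul_mul_tmul, one_mul]
      rfl
    | add z₁ z₂ h₁ h₂ => rw [map_add, map_add, h₁, h₂, map_add, smul_add]
  intro y₁ y₂ h
  obtain ⟨z₁, rfl⟩ := τ.surjective y₁
  obtain ⟨z₂, rfl⟩ := τ.surjective y₂
  simp only at h
  rw [← hτ, ← hτ] at h
  rw [hinj (τ.injective h)]

/-- a regular sequence with flat successive quotients stays regular after base change -/
theorem isWeaklyRegular_bc (rs : List B₀) (h : IsWeaklyRegular B₀ rs)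
    (hflat : ∀ i, i ≤ rs.length → Module.Flat R₀ (B₀ ⧸ Ideal.ofList (rs.take i))) :
    IsWeaklyRegular (R ⊗[R₀] B₀)
      (rs.map (Algebra.TensorProduct.includeRight (R := R₀) (A := R))) := by
  rw [isWeaklyRegular_iff]
  intro i hi
  have hi' : i < rs.length := by simpa using hi
  have h1 := (isWeaklyRegular_iff B₀ rs).1 h i hi'
  have e1 : (B₀ ⧸ (Ideal.ofList (rs.take i) • ⊤ : Submodule B₀ B₀)) ≃ₗ[B₀]
      B₀ ⧸ Ideal.ofList (rs.take i) :=
    Submodule.quotEquivOfEq _ _ (by rw [smul_eq_mul, Ideal.mul_top])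
  have h2 : IsSMulRegular (B₀ ⧸ Ideal.ofList (rs.take i)) rs[i] :=
    (e1.isSMulRegular_congr _).1 h1
  haveI : Module.Flat R₀ (B₀ ⧸ (Ideal.ofList (rs.take i) ⊔ Ideal.span {rs[i]})) := by
    have := hflat (i + 1) hi'
    rw [List.take_succ_eq_append_getElem hi', Ideal.ofList_append, Ideal.ofList_singleton] at this
    exact this
  have h3 := isSMulRegular_bc (R₀ := R₀) (R := R) (Ideal.ofList (rs.take i)) rs[i] h2
  have hmap : Ideal.ofList ((rs.take i).map (Algebra.TensorProduct.includeRight (R := R₀) (A := R))) =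
      (Ideal.ofList (rs.take i)).map (Algebra.TensorProduct.includeRight (R := R₀) (A := R)) :=
    (Ideal.map_ofList ((Algebra.TensorProduct.includeRight (R := R₀) (A := R) :
      B₀ →ₐ[R₀] R ⊗[R₀] B₀) : B₀ →+* R ⊗[R₀] B₀) (rs.take i)).symm
  rw [List.getElem_map, ← List.map_take, hmap]
  have e2 : ((R ⊗[R₀] B₀) ⧸ ((Ideal.ofList (rs.take i)).map
      (Algebra.TensorProduct.includeRight (R := R₀) (A := R)) • ⊤ :
        Submodule (R ⊗[R₀] B₀) (R ⊗[R₀] B₀))) ≃ₗ[R ⊗[R₀] B₀]
      (R ⊗[R₀] B₀) ⧸ (Ideal.ofList (rs.take i)).map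
        (Algebra.TensorProduct.includeRight (R := R₀) (A := R)) :=
    Submodule.quotEquivOfEq _ _ (by rw [smul_eq_mul, Ideal.mul_top])
  exact (e2.isSMulRegular_congr _).2 h3

end

end Groth.Agent.Helper5.RelGCI
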