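import Mathlib
import Groth.Agent.Helper5.RelGCI18

set_option autoImplicit false
set_option linter.style.haveILetI false
universe u
open TensorProduct RingTheory.Sequence Function

namespace Groth.Agent.Helper5.RelGCI

/-- flatness over the base of a quotient passes to a flat extension of the ring -/
theorem flat_quot_of_flat {R C B : Type u} [CommRing R] [CommRing C] [CommRing B] [Algebra R C]
    [Algebra C B] [Algebra R B] [IsScalarTower R C B] [Module.Flat C B] (J : Ideal C)
    [Module.Flat R (C ⧸ J)] : Module.Flat R (B ⧸ J.map (algebraMap C B)) := by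
  haveI : Module.Flat (C ⧸ J) (B ⧸ J.map (algebraMap C B)) :=
    Module.Flat.of_linearEquiv
      (Algebra.TensorProduct.quotIdealMapEquivQuotTensor B J).toLinearEquiv
  haveI : IsScalarTower R (C ⧸ J) (B ⧸ J.map (algebraMap C B)) :=
    IsScalarTower.of_algebraMap_eq (fun r => by
      rw [IsScalarTower.algebraMap_apply R B (B ⧸ J.map (algebraMap C B)),
        IsScalarTower.algebraMap_apply R C B, IsScalarTower.algebraMap_apply R C (C ⧸ J)]
      rfl)
  exact Module.Flat.trans R (C ⧸ J) (B ⧸ J.map (algebraMap C B))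

section

variable {R₀ R P₀ : Type u} [CommRing R₀] [CommRing R] [Algebra R₀ R] [CommRing P₀] [Algebra R₀ P₀]

set_option maxHeartbeats 1000000 in
/-- base change and localization of a regular sequence with flat successive quotients in the
local ring at a prime -/
theorem bc_local (q₀ : Ideal P₀) [q₀.IsPrime] (rs₀ : List P₀)
    (h1 : IsWeaklyRegular (Localization.AtPrime q₀)
      (rs₀.map (algebraMap P₀ (Localization.AtPrime q₀))))
    (h2 : ∀ i, i ≤ rs₀.length → Module.Flat R₀ (Localization.AtPrime q₀ ⧸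
        Ideal.ofList ((rs₀.map (algebraMap P₀ (Localization.AtPrime q₀))).take i)))
    (𝔮 : Ideal (R ⊗[R₀] P₀)) [𝔮.IsPrime]
    (h𝔮 : 𝔮.comap (Algebra.TensorProduct.includeRight : P₀ →ₐ[R₀] R ⊗[R₀] P₀) = q₀)
    (B : Type u) [CommRing B] [Algebra (R ⊗[R₀] P₀) B] [Algebra R B]
    [IsScalarTower R (R ⊗[R₀] P₀) B] [IsLocalization.AtPrime B 𝔮] :
    IsWeaklyRegular B ((rs₀.map (Algebra.TensorProduct.includeRight : P₀ →ₐ[R₀] R ⊗[R₀] P₀)).map
        (algebraMap (R ⊗[R₀] P₀) B)) ∧
      ∀ i, i ≤ rs₀.length → Module.Flat R (B ⧸ Ideal.ofList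
        (((rs₀.map (Algebra.TensorProduct.includeRight : P₀ →ₐ[R₀] R ⊗[R₀] P₀)).map
          (algebraMap (R ⊗[R₀] P₀) B)).take i)) := by
  let B₀ := Localization.AtPrime q₀
  let E := R ⊗[R₀] P₀
  let C' := R ⊗[R₀] B₀
  let g : E →ₐ[R] C' :=
    Algebra.TensorProduct.map (AlgHom.id R R) (IsScalarTower.toAlgHom R₀ P₀ B₀)
  letI algEC : Algebra E C' := g.toRingHom.toAlgebra
  haveI : IsScalarTower R E C' := IsScalarTower.of_algebraMap_eq (fun r => (g.commutes r).symm)
  have hg : ∀ x : P₀, algebraMap E C' ((1 : R) ⊗ₜ[R₀] x) = (1 : R) ⊗ₜ[R₀] algebraMap P₀ B₀ x := by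
    intro x
    show Algebra.TensorProduct.map (AlgHom.id R R) (IsScalarTower.toAlgHom R₀ P₀ B₀)
      ((1 : R) ⊗ₜ[R₀] x) = _
    rw [Algebra.TensorProduct.map_tmul]
    rfl
  have H : (algebraMap E C').comp
      (Algebra.TensorProduct.includeRight : P₀ →ₐ[R₀] E).toRingHom =
      (Algebra.TensorProduct.includeRight : B₀ →ₐ[R₀] C').toRingHom.comp (algebraMap P₀ B₀) := by
    ext x
    exact hg x
  haveI hlocC : IsLocalization
      (q₀.primeCompl.map (Algebra.TensorProduct.includeRight : P₀ →ₐ[R₀] E)) C' :=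
    IsLocalization.tensorProduct_tensorProduct_right R₀ R q₀.primeCompl B₀ H
  have hTU : q₀.primeCompl.map (Algebra.TensorProduct.includeRight : P₀ →ₐ[R₀] E) ≤
      𝔮.primeCompl := by
    rintro _ ⟨t, ht, rfl⟩
    intro hmem
    apply ht
    rw [← h𝔮]
    exact hmem
  letI algCB : Algebra C' B := IsLocalization.localizationAlgebraOfSubmonoidLe C' B
    (q₀.primeCompl.map (Algebra.TensorProduct.includeRight : P₀ →ₐ[R₀] E)) 𝔮.primeCompl hTU
  haveI : IsScalarTower E C' B := IsLocalization.localization_isScalarTower_of_submonoid_le C' B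
    (q₀.primeCompl.map (Algebra.TensorProduct.includeRight : P₀ →ₐ[R₀] E)) 𝔮.primeCompl hTU
  haveI hlocB : IsLocalization (𝔮.primeCompl.map (algebraMap E C')) B :=
    IsLocalization.isLocalization_of_submonoid_le C' B
      (q₀.primeCompl.map (Algebra.TensorProduct.includeRight : P₀ →ₐ[R₀] E)) 𝔮.primeCompl hTU
  haveI : IsScalarTower R C' B := IsScalarTower.of_algebraMap_eq (fun r =>
    (IsScalarTower.algebraMap_apply R E B r).trans
      ((IsScalarTower.algebraMap_apply E C' B _).trans
        (congrArg (algebraMap C' B) (IsScalarTower.algebraMap_apply R E C' r).symm)))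
  haveI hflatCB : Module.Flat C' B := IsLocalization.flat B (𝔮.primeCompl.map (algebraMap E C'))
  let rs₁ : List B₀ := rs₀.map (algebraMap P₀ B₀)
  have hw : IsWeaklyRegular C'
      (rs₁.map (Algebra.TensorProduct.includeRight : B₀ →ₐ[R₀] C')) :=
    isWeaklyRegular_bc (R₀ := R₀) (R := R) rs₁ h1 (by simpa [rs₁] using h2)
  have hw' := hw.of_isLocalization B (𝔮.primeCompl.map (algebraMap E C'))
  have hlist : (rs₀.map (Algebra.TensorProduct.includeRight : P₀ →ₐ[R₀] E)).map (algebraMap E B) =
      (rs₁.map (Algebra.TensorProduct.includeRight : B₀ →ₐ[R₀] C')).map (algebraMap C' B) := by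
    simp only [rs₁, List.map_map]
    apply List.map_congr_left
    intro x _
    simp only [Function.comp_apply, Algebra.TensorProduct.includeRight_apply]
    rw [IsScalarTower.algebraMap_apply E C' B, hg]
  refine ⟨hlist ▸ hw', ?_⟩
  intro i hi
  rw [hlist]
  let J₀ : Ideal B₀ := Ideal.ofList (rs₁.take i)
  haveI : Module.Flat R₀ (B₀ ⧸ J₀) := h2 i hi
  let J : Ideal C' := J₀.map (Algebra.TensorProduct.includeRight : B₀ →ₐ[R₀] C')
  haveI : Module.Flat R (C' ⧸ J) := flat_quot_bc (R₀ := R₀) (R := R) J₀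
  have hK : Ideal.ofList (((rs₁.map (Algebra.TensorProduct.includeRight : B₀ →ₐ[R₀] C')).map
      (algebraMap C' B)).take i) = J.map (algebraMap C' B) := by
    rw [← List.map_take, ← List.map_take]
    rw [← Ideal.map_ofList]
    congr 1
    exact (Ideal.map_ofList ((Algebra.TensorProduct.includeRight : B₀ →ₐ[R₀] C') : B₀ →+* C')
      (rs₁.take i)).symm
  rw [hK]
  exact flat_quot_of_flat (R := R) (C := C') (B := B) J

end

end Groth.Agent.Helper5.RelGCI
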