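import Mathlib
import Groth.Agent.Helper5.RelGCI6
import Groth.Agent.Helper5.RelGCI9
import Groth.Agent.Helper5.RelGCI19

set_option autoImplicit false
set_option linter.style.haveILetI false
universe u
open TensorProduct RingTheory.Sequence Function MvPolynomial

namespace Groth.Agent.Helper5.RelGCI

section model

variable (R₀ R : Type u) [CommRing R₀] [CommRing R] [Algebra R₀ R] (n c : ℕ)
  (F₀ : Fin c → MvPolynomial (Fin n) R₀)

local notation "P₀" => MvPolynomial (Fin n) R₀
local notation "P" => MvPolynomial (Fin n) R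
local notation "E" => R ⊗[R₀] MvPolynomial (Fin n) R₀

set_option maxHeartbeats 2000000 in
/-- regularity with flat quotients at the points of the model passes to any base change -/
theorem core_of_model
    (H : ∀ (q₀ : Ideal P₀) [q₀.IsPrime], Ideal.span (Set.range F₀) ≤ q₀ →
      IsWeaklyRegular (Localization.AtPrime q₀)
        ((List.ofFn F₀).map (algebraMap P₀ (Localization.AtPrime q₀))) ∧
      ∀ i, i ≤ c → Module.Flat R₀ (Localization.AtPrime q₀ ⧸
        Ideal.ofList (((List.ofFn F₀).map (algebraMap P₀ (Localization.AtPrime q₀))).take i)))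
    (q' : Ideal P) [hq'p : q'.IsPrime]
    (hq' : Ideal.span (Set.range fun j => MvPolynomial.map (algebraMap R₀ R) (F₀ j)) ≤ q') :
    IsWeaklyRegular (Localization.AtPrime q')
        ((List.ofFn fun j => MvPolynomial.map (algebraMap R₀ R) (F₀ j)).map
          (algebraMap P (Localization.AtPrime q'))) ∧
      ∀ i, i ≤ c → Module.Flat R (Localization.AtPrime q' ⧸
        Ideal.ofList (((List.ofFn fun j => MvPolynomial.map (algebraMap R₀ R) (F₀ j)).map
          (algebraMap P (Localization.AtPrime q'))).take i)) := by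
  have hε : ∀ x : P₀, MvPolynomial.algebraTensorAlgEquiv R₀ R ((1 : R) ⊗ₜ[R₀] x) =
      MvPolynomial.map (algebraMap R₀ R) x := by
    intro x
    rw [MvPolynomial.algebraTensorAlgEquiv_tmul, one_smul]
  haveI h𝔮p : (q'.comap ((MvPolynomial.algebraTensorAlgEquiv R₀ R : E ≃ₐ[R] P) : E →+* P)).IsPrime :=
    Ideal.comap_isPrime _ _
  haveI hq₀p : ((q'.comap ((MvPolynomial.algebraTensorAlgEquiv R₀ R : E ≃ₐ[R] P) : E →+* P)).comap
      (Algebra.TensorProduct.includeRight : P₀ →ₐ[R₀] E)).IsPrime := Ideal.comap_isPrime _ _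
  have hq₀ : Ideal.span (Set.range F₀) ≤
      (q'.comap ((MvPolynomial.algebraTensorAlgEquiv R₀ R : E ≃ₐ[R] P) : E →+* P)).comap
        (Algebra.TensorProduct.includeRight : P₀ →ₐ[R₀] E) := by
    rw [Ideal.span_le]
    rintro _ ⟨j, rfl⟩
    show MvPolynomial.algebraTensorAlgEquiv R₀ R ((1 : R) ⊗ₜ[R₀] F₀ j) ∈ q'
    rw [hε]
    exact hq' (Ideal.subset_span (Set.mem_range_self j))
  obtain ⟨c1, c2⟩ := H _ hq₀
  letI algEB : Algebra E (Localization.AtPrime q') :=
    ((algebraMap P (Localization.AtPrime q')).comp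
      ((MvPolynomial.algebraTensorAlgEquiv R₀ R : E ≃ₐ[R] P) : E →+* P)).toAlgebra
  haveI : IsScalarTower R E (Localization.AtPrime q') :=
    IsScalarTower.of_algebraMap_eq (R := R) (S := E) (A := Localization.AtPrime q') (fun r => by
      show algebraMap R (Localization.AtPrime q') r = algebraMap P (Localization.AtPrime q')
        (MvPolynomial.algebraTensorAlgEquiv R₀ R (algebraMap R E r))
      rw [AlgEquiv.commutes, ← IsScalarTower.algebraMap_apply])
  haveI : IsLocalization.AtPrime (Localization.AtPrime q')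
      (q'.comap ((MvPolynomial.algebraTensorAlgEquiv R₀ R : E ≃ₐ[R] P) : E →+* P)) := by
    refine IsLocalization.of_ringEquiv_left (K := Localization.AtPrime q')
      (MvPolynomial.algebraTensorAlgEquiv R₀ R : E ≃ₐ[R] P).toRingEquiv (M₁ := q'.primeCompl)
      (M₂ := (q'.comap ((MvPolynomial.algebraTensorAlgEquiv R₀ R : E ≃ₐ[R] P) : E →+* P)).primeCompl)
      ?_ (fun x => rfl)
    ext x
    constructor
    · rintro ⟨y, hy, rfl⟩
      exact hy
    · intro hx
      refine ⟨(MvPolynomial.algebraTensorAlgEquiv R₀ R).symm x, ?_,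
        (MvPolynomial.algebraTensorAlgEquiv R₀ R).apply_symm_apply x⟩
      intro hmem
      apply hx
      have : MvPolynomial.algebraTensorAlgEquiv R₀ R
          ((MvPolynomial.algebraTensorAlgEquiv R₀ R).symm x) ∈ q' := hmem
      rwa [AlgEquiv.apply_symm_apply] at this
  have hlen : (List.ofFn F₀).length = c := by simp
  obtain ⟨d1, d2⟩ := bc_local (R₀ := R₀) (R := R) _ (List.ofFn F₀) c1
    (fun i hi => c2 i (hlen ▸ hi)) _ rfl (Localization.AtPrime q')
  have hlist : ((List.ofFn F₀).map (Algebra.TensorProduct.includeRight : P₀ →ₐ[R₀] E)).map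
      (algebraMap E (Localization.AtPrime q')) =
      (List.ofFn fun j => MvPolynomial.map (algebraMap R₀ R) (F₀ j)).map
        (algebraMap P (Localization.AtPrime q')) := by
    rw [List.map_map, List.map_ofFn, List.map_ofFn]
    congr 1
    funext j
    show algebraMap P (Localization.AtPrime q')
      (MvPolynomial.algebraTensorAlgEquiv R₀ R ((1 : R) ⊗ₜ[R₀] F₀ j)) = _
    rw [hε]
    rfl
  rw [hlist] at d1 d2
  exact ⟨d1, fun i hi => d2 i (hlen.symm ▸ hi)⟩

end model

variable (R : Type u) [CommRing R] (n c : ℕ) (F : Fin c → MvPolynomial (Fin n) R)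

/-- the Noetherian core with ring quotients -/
theorem core' [IsNoetherianRing R] (h : Synt.IsRelGCI R n c F)
    (q' : Ideal (MvPolynomial (Fin n) R)) [hq'p : q'.IsPrime]
    (hq' : Ideal.span (Set.range F) ≤ q') :
    IsWeaklyRegular (Localization.AtPrime q')
        ((List.ofFn F).map (algebraMap (MvPolynomial (Fin n) R) (Localization.AtPrime q'))) ∧
      ∀ i, i ≤ c → Module.Flat R (Localization.AtPrime q' ⧸
        Ideal.ofList (((List.ofFn F).map
          (algebraMap (MvPolynomial (Fin n) R) (Localization.AtPrime q'))).take i)) := by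
  obtain ⟨c1, c2⟩ := core R n c F h q' hq'
  refine ⟨c1, fun i hi => ?_⟩
  haveI := c2 i hi
  have e : (Localization.AtPrime q' ⧸ (Ideal.ofList (((List.ofFn F).map
      (algebraMap (MvPolynomial (Fin n) R) (Localization.AtPrime q'))).take i) • ⊤ :
        Submodule (Localization.AtPrime q') (Localization.AtPrime q'))) ≃ₗ[Localization.AtPrime q']
      (Localization.AtPrime q' ⧸ Ideal.ofList (((List.ofFn F).map
        (algebraMap (MvPolynomial (Fin n) R) (Localization.AtPrime q'))).take i)) :=
    Submodule.quotEquivOfEq _ _ (by rw [smul_eq_mul, Ideal.mul_top])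
  exact Module.Flat.of_linearEquiv (e.restrictScalars R).symm

/-- over any base ring: the relations of a relative global complete intersection form a weakly
regular sequence in the local ring of affine space at a point of the complete intersection, with
flat successive quotients -/
theorem core_general (h : Synt.IsRelGCI R n c F)
    (q' : Ideal (MvPolynomial (Fin n) R)) [hq'p : q'.IsPrime]
    (hq' : Ideal.span (Set.range F) ≤ q') :
    IsWeaklyRegular (Localization.AtPrime q')
        ((List.ofFn F).map (algebraMap (MvPolynomial (Fin n) R) (Localization.AtPrime q'))) ∧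
      ∀ i, i ≤ c → Module.Flat R (Localization.AtPrime q' ⧸
        Ideal.ofList (((List.ofFn F).map
          (algebraMap (MvPolynomial (Fin n) R) (Localization.AtPrime q'))).take i)) := by
  obtain ⟨R₀, F₀, hft, hF, hrel⟩ := s9148 R n c F h
  haveI : IsNoetherianRing R₀ := Algebra.FiniteType.isNoetherianRing ℤ R₀
  have hF' : F = fun j => MvPolynomial.map (algebraMap R₀ R) (F₀ j) := funext fun j => (hF j).symm
  subst hF'
  exact core_of_model R₀ R n c F₀ (fun q₀ _ hq₀ => core' R₀ n c F₀ hrel q₀ hq₀) q' hq'

end Groth.Agent.Helper5.RelGCI
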