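import Mathlib
import Groth.Agent.Helper5.LST12
import Groth.Agent.Helper5.LST8
import Groth.Agent.Helper5.RelGCI20

set_option autoImplicit false
set_option linter.style.haveILetI false
set_option linter.unusedSectionVars false
universe u
open RingTheory.Sequence MvPolynomial

namespace Groth.Agent.Helper5.LST

open Groth.Agent.Helper5.RelGCI

section final

variable (A : Type u) [CommRing A] (n c : ℕ) (F : Fin c → MvPolynomial (Fin n) A)
  (t : MvPolynomial (Fin n) A)

/-- the regular sequence `tz - 1, F` -/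
noncomputable def regFam : Fin (c + 1) → MvPolynomial (Fin (n + 1)) A :=
  Fin.cons (uElt A n t) (fun i => rename Fin.castSucc (F i))

theorem ofFn_regFam :
    List.ofFn (regFam A n c F t) = uElt A n t :: (List.ofFn F).map (rename Fin.castSucc) := by
  unfold regFam
  rw [List.ofFn_succ, List.map_ofFn]
  simp only [Fin.cons_zero, Fin.cons_succ]
  rfl

theorem ofList_regFam :
    Ideal.ofList (List.ofFn (regFam A n c F t)) = Ideal.span (Set.range (snocRel A n c F t)) := by
  have h1 : ∀ {m : ℕ} (f : Fin m → MvPolynomial (Fin (n + 1)) A),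
      Ideal.ofList (List.ofFn f) = Ideal.span (Set.range f) := by
    intro m f
    unfold Ideal.ofList
    congr 1
    ext x
    simp [List.mem_ofFn]
  rw [h1]
  apply le_antisymm
  · rw [Ideal.span_le]
    rintro _ ⟨i, rfl⟩
    induction i using Fin.cases with
    | zero =>
      refine Ideal.subset_span ⟨Fin.last c, ?_⟩
      simp [snocRel, regFam, uElt]
    | succ j =>
      refine Ideal.subset_span ⟨Fin.castSucc j, ?_⟩
      simp [snocRel, regFam]
  · rw [Ideal.span_le]
    rintro _ ⟨i, rfl⟩
    induction i using Fin.lastCases with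
    | last =>
      refine Ideal.subset_span ⟨0, ?_⟩
      simp [snocRel, regFam, uElt]
    | cast j =>
      refine Ideal.subset_span ⟨Fin.succ j, ?_⟩
      simp [snocRel, regFam]

end final

/-- S18938 -/
theorem s18938 (A : Type u) [CommRing A] [IsNoetherianRing A] (B : Type u) [CommRing B]
    [Algebra A B] (h : Synt.IsSyntomic A B) (q : PrimeSpectrum B) :
    ∃ g : B, g ∉ q.asIdeal ∧
      ∃ (n d : ℕ) (P : Fin d → MvPolynomial (Fin n) A),
        RingTheory.Sequence.IsRegular (MvPolynomial (Fin n) A) (List.ofFn P) ∧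
        Nonempty (Localization.Away g ≃ₐ[A]
          (MvPolynomial (Fin n) A ⧸ Ideal.ofList (List.ofFn P))) := by
  haveI := q.isPrime
  obtain ⟨g₁, hg₁, n, c, F, hF, ⟨ε⟩⟩ := lst A B h q.asIdeal
  -- the primes
  have hdisj : Disjoint (Submonoid.powers g₁ : Set B) (q.asIdeal : Set B) := by
    rw [Set.disjoint_left]
    rintro _ ⟨j, rfl⟩ hmem
    exact hg₁ (q.isPrime.mem_of_pow_mem j hmem)
  have hq₁ : (q.asIdeal.map (algebraMap B (Localization.Away g₁))).IsPrime :=
    IsLocalization.isPrime_of_isPrime_disjoint (Submonoid.powers g₁) _ q.asIdeal q.isPrime hdisj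
  have hq₂ : ((q.asIdeal.map (algebraMap B (Localization.Away g₁))).comap
      (ε.symm : Synt.RelGCIRing A n c F →+* Localization.Away g₁)).IsPrime :=
    Ideal.comap_isPrime _ _
  have hq' : (((q.asIdeal.map (algebraMap B (Localization.Away g₁))).comap
      (ε.symm : Synt.RelGCIRing A n c F →+* Localization.Away g₁)).comap
      (Ideal.Quotient.mk (Ideal.span (Set.range F)))).IsPrime := Ideal.comap_isPrime _ _
  have hle : Ideal.span (Set.range F) ≤
      ((q.asIdeal.map (algebraMap B (Localization.Away g₁))).comap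
      (ε.symm : Synt.RelGCIRing A n c F →+* Localization.Away g₁)).comap
      (Ideal.Quotient.mk (Ideal.span (Set.range F))) := by
    intro x hx
    rw [Ideal.mem_comap, Ideal.Quotient.eq_zero_iff_mem.2 hx]
    exact Ideal.zero_mem _
  have hreg := (core_general A n c F hF _ hle).1
  obtain ⟨t, ht, hw⟩ := exists_away_isWeaklyRegular _ (List.ofFn F) hreg
  have hstar := (isWeaklyRegular_localization_iff (Submonoid.powers t) _ _).1 hw
  have hwr := isWeaklyRegular_cons A n t (List.ofFn F) hstar
  -- the isomorphism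
  obtain ⟨a, ha, ⟨ε₁⟩⟩ := away_aux (R := A) g₁
    (ε.symm (Ideal.Quotient.mk (Ideal.span (Set.range F)) t))
  have hε₂ := awayEquiv A (ε : Localization.Away g₁ →ₐ[A] Synt.RelGCIRing A n c F) ε.surjective
    (ε.symm (Ideal.Quotient.mk (Ideal.span (Set.range F)) t)) (fun x hx => by
      have : x = 0 := ε.injective (by rw [map_zero]; exact hx)
      rw [this, mul_zero])
  have hεt : (ε : Localization.Away g₁ →ₐ[A] Synt.RelGCIRing A n c F)
      (ε.symm (Ideal.Quotient.mk (Ideal.span (Set.range F)) t)) =
      Ideal.Quotient.mk (Ideal.span (Set.range F)) t := ε.apply_symm_apply _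
  rw [hεt] at hε₂
  obtain ⟨ε₂⟩ := hε₂
  let ε₃ := snocEquiv A n c F t
  let ε₄ := Ideal.quotientEquivAlgOfEq A (ofList_regFam A n c F t).symm
  have hgq : g₁ * a ∉ q.asIdeal := by
    intro hm
    rcases q.isPrime.mem_or_mem hm with h1 | h1
    · exact hg₁ h1
    · obtain ⟨q₁', hq₁', hcomap', himp⟩ := ha q.asIdeal q.isPrime hg₁
      refine himp ?_ h1
      have huniq : q₁' = q.asIdeal.map (algebraMap B (Localization.Away g₁)) := by
        rw [← hcomap', IsLocalization.map_comap (Submonoid.powers g₁)]
      rw [huniq]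
      exact ht
  refine ⟨g₁ * a, hgq, n + 1, c + 1, regFam A n c F t, ⟨?_, ?_⟩,
    ⟨((ε₁.trans ε₂).trans ε₃).trans ε₄⟩⟩
  · rw [ofFn_regFam]
    exact hwr
  · intro htop
    have h1 : Ideal.ofList (List.ofFn (regFam A n c F t)) = ⊤ := by
      have := htop.symm
      rwa [smul_eq_mul, Ideal.mul_top] at this
    haveI : Subsingleton (MvPolynomial (Fin (n + 1)) A ⧸
        Ideal.ofList (List.ofFn (regFam A n c F t))) := Ideal.Quotient.subsingleton_iff.2 h1
    haveI : Subsingleton (Localization.Away (g₁ * a)) :=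
      (((ε₁.trans ε₂).trans ε₃).trans ε₄).toEquiv.subsingleton
    obtain ⟨k, hk⟩ := (IsLocalization.subsingleton_iff (M := Submonoid.powers (g₁ * a))
      (S := Localization.Away (g₁ * a))).1 inferInstance
    have hk' : (g₁ * a) ^ k = 0 := hk
    exact hgq (q.isPrime.mem_of_pow_mem k (hk' ▸ q.asIdeal.zero_mem))

end Groth.Agent.Helper5.LST
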