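import Groth.Agent.Helper5.SmST
import Groth.Agent.Helper5.EtSmST
import Groth.Agent.Helper5.SrcOpen
import Groth.Agent.Helper5.FpqcIso
import Groth.Agent.Helper5.AlgSpOpen
import Groth.Agent.Helper5.AlgSpIso
import Mathlib

set_option autoImplicit false
universe u
open CategoryTheory CategoryTheory.Limits AlgebraicGeometry Opposite

namespace Groth.Agent.Helper5.LargestOpen

open AlgSp Groth.Agent.Helper4.SDClasses Groth.Agent.Helper5.SmST
open Groth.Agent.Helper4.AlgSpPtsDesc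

variable {S : Scheme.{u}}

/-- A class of morphisms suitable for the "largest open" argument. -/
structure CovClass (Q : MorphismProperty (Sp S)) : Prop where
  isOpen : ∀ {X Y : Sp S}, IsAlgSpace X → IsAlgSpace Y → ∀ (f : X ⟶ Y), Q f →
    IsOpenMap (Points.map f)
  ofOI : ∀ {X Y : Sp S}, IsAlgSpace X → IsAlgSpace Y → ∀ (f : X ⟶ Y),
    RepWith @IsOpenImmersion f → Q f
  bc : ∀ {X Y X' Y' : Sp S}, IsAlgSpace X → IsAlgSpace Y → IsAlgSpace X' → IsAlgSpace Y' →
    ∀ (f : X ⟶ Y) (g : Y' ⟶ Y) (fst : X' ⟶ X) (snd : X' ⟶ Y'), IsPullback fst snd f g → Q f → Q snd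
  comp : ∀ {X Y Z : Sp S}, IsAlgSpace X → IsAlgSpace Y → IsAlgSpace Z → ∀ (f : X ⟶ Y) (g : Y ⟶ Z),
    Q f → Q g → Q (f ≫ g)

/-- range of a base change -/
theorem range_snd {X Y X' Y' : Sp S} {f : X ⟶ Y} {g : Y' ⟶ Y} {fst : X' ⟶ X} {snd : X' ⟶ Y'}
    (sq : IsPullback fst snd f g) :
    Set.range (Points.map snd) = Points.map g ⁻¹' Set.range (Points.map f) := by
  ext y
  constructor
  · rintro ⟨z, rfl⟩
    exact ⟨Points.map fst z, by rw [← Points.map_comp, sq.w, Points.map_comp]⟩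
  · rintro ⟨x, hx⟩
    obtain ⟨z, -, hz⟩ := exists_point_of_isPullback sq x y hx
    exact ⟨z, hz⟩

/-- two base changes of `f` and a map between the bases -/
theorem exists_isPullback_of_comm {X Y X₁ Y₁ X₂ Y₂ : Sp S} {f : X ⟶ Y} {u₁ : Y₁ ⟶ Y} {t₁ : X₁ ⟶ X}
    {f₁ : X₁ ⟶ Y₁} (sq₁ : IsPullback t₁ f₁ f u₁) {u₂ : Y₂ ⟶ Y} {t₂ : X₂ ⟶ X} {f₂ : X₂ ⟶ Y₂}
    (sq₂ : IsPullback t₂ f₂ f u₂) (v : Y₂ ⟶ Y₁) (hv : v ≫ u₁ = u₂) :
    ∃ t : X₂ ⟶ X₁, IsPullback t f₂ f₁ v := by
  have hcomm : t₂ ≫ f = (f₂ ≫ v) ≫ u₁ := by rw [Category.assoc, hv]; exact sq₂.w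
  refine ⟨sq₁.lift t₂ (f₂ ≫ v) hcomm, ?_⟩
  refine IsPullback.of_right ?_ (sq₁.lift_snd _ _ hcomm) sq₁
  rw [sq₁.lift_fst, hv]
  exact sq₂

variable {Q P : MorphismProperty (Sp S)}

theorem Q_id (hQ : CovClass Q) {Y : Sp S} (hY : IsAlgSpace Y) : Q (𝟙 Y) :=
  hQ.ofOI hY hY _ (Groth.Agent.Helper5.FpqcIso.repWith_openImmersion_of_isIso (𝟙 Y))

/-- `P` is stable under base change along `Q`-morphisms -/
theorem bc_of_local (hQ : CovClass Q) (hP : IsLocalOnBase (fun _ _ Y g => IsCover Q Y g) P)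
    {X Y X' Y' : Sp S} (hX : IsAlgSpace X) (hY : IsAlgSpace Y) (hX' : IsAlgSpace X')
    (hY' : IsAlgSpace Y') (f : X ⟶ Y) (g : Y' ⟶ Y) (f' : X' ⟶ Y') (g' : X' ⟶ X)
    (sq : IsPullback g' f' f g) (hg : Q g) (hf : P f) : P f' := by
  have key := hP (pairObj Y' Y) (pairMor g) hY (pair_isAlgSpace hY' hY)
    (pair_isCover _ g hg (Q_id hQ hY)) f hX (pairObj X' X)
    (fun i => match i with
      | ⟨true⟩ => f'
      | ⟨false⟩ => f)
    (fun i => match i with
      | ⟨true⟩ => g'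
      | ⟨false⟩ => 𝟙 X)
    (pair_isAlgSpace hX' hX)
    (by
      rintro ⟨_ | _⟩
      · exact IsPullback.of_id_fst
      · exact sq)
  exact key.1 hf ⟨true⟩

/-- descent of `P` along a single surjective `Q`-morphism -/
theorem desc_of_local (hP : IsLocalOnBase (fun _ _ Y g => IsCover Q Y g) P)
    {X Y X' Y' : Sp S} (hX : IsAlgSpace X) (hY : IsAlgSpace Y) (hX' : IsAlgSpace X')
    (hY' : IsAlgSpace Y') (f : X ⟶ Y) (g : Y' ⟶ Y) (f' : X' ⟶ Y') (g' : X' ⟶ X)
    (sq : IsPullback g' f' f g) (hg : Q g) (hs : Function.Surjective (Points.map g))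
    (hf' : P f') : P f := by
  have key := hP (ι := PUnit.{u + 1}) (fun _ => Y') (fun _ => g) hY (fun _ => hY')
    ⟨fun _ => hg, fun y => ⟨⟨⟩, hs y⟩⟩ f hX (fun _ => X') (fun _ => f') (fun _ => g')
    (fun _ => hX') (fun _ => sq)
  exact key.2 fun _ => hf'

/-- `f` has `P` over the open `V` -/
def HoldsOver (P : MorphismProperty (Sp S)) {X Y : Sp S} (f : X ⟶ Y) (V : Set (Points Y)) : Prop :=
  ∀ (W₀ X₀ : Sp S) (j₀ : W₀ ⟶ Y) (j₀' : X₀ ⟶ X) (f₀ : X₀ ⟶ W₀), IsAlgSpace W₀ → IsAlgSpace X₀ →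
    RepWith @IsOpenImmersion j₀ → Set.range (Points.map j₀) = V → IsPullback j₀' f₀ f j₀ → P f₀

theorem repWith_openImmersion_comp {A B C : Sp S} (f : A ⟶ B) (g : B ⟶ C)
    (hf : RepWith @IsOpenImmersion f) (hg : RepWith @IsOpenImmersion g) :
    RepWith @IsOpenImmersion (f ≫ g) :=
  Groth.Agent.Helper4.AlgSpSrc.repWith_comp _ hf hg

/-- the union of all opens over which `f` has `P` -/
noncomputable def bigOpen (P : MorphismProperty (Sp S)) {X Y : Sp S} (f : X ⟶ Y) :
    TopologicalSpace.Opens (Points Y) :=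
  sSup {V | HoldsOver P f (V : Set (Points Y))}

theorem le_bigOpen {X Y : Sp S} (f : X ⟶ Y) (V : TopologicalSpace.Opens (Points Y))
    (hV : HoldsOver P f (V : Set (Points Y))) : V ≤ bigOpen P f :=
  le_sSup hV

theorem holdsOver_bigOpen (hQ : CovClass Q) (hP : IsLocalOnBase (fun _ _ Y g => IsCover Q Y g) P)
    {X Y : Sp S} (hX : IsAlgSpace X) (hY : IsAlgSpace Y) (f : X ⟶ Y) :
    HoldsOver P f (bigOpen P f : Set (Points Y)) := by
  intro W₀ X₀ j₀ j₀' f₀ hW₀ hX₀ hj₀ hrange sq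
  obtain ⟨ι, pt, hpt⟩ := exists_index hW₀
  have hmem : ∀ i, ∃ V : TopologicalSpace.Opens (Points Y),
      HoldsOver P f (V : Set (Points Y)) ∧ Points.map j₀ (pt i) ∈ V := by
    intro i
    have h1 : Points.map j₀ (pt i) ∈ (bigOpen P f : Set (Points Y)) := by
      rw [← hrange]; exact ⟨_, rfl⟩
    have h2 : Points.map j₀ (pt i) ∈ bigOpen P f := h1
    rw [bigOpen, TopologicalSpace.Opens.mem_sSup] at h2
    obtain ⟨V, hV, hVm⟩ := h2
    exact ⟨V, hV, hVm⟩
  choose V hV hVm using hmem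
  have hsub : ∀ i, ∃ (Yi : Sp S) (k : Yi ⟶ Y), IsAlgSpace Yi ∧ RepWith @IsOpenImmersion k ∧
      Set.range (Points.map k) = (V i : Set (Points Y)) := fun i =>
    Groth.Agent.Helper5.AlgSpOpen.exists_open_subspace hY _ (V i).2
  choose Yi k hYi hk hkr using hsub
  have sqP : ∀ i, IsPullback (pullback.fst (k i) j₀) (pullback.snd (k i) j₀) (k i) j₀ :=
    fun i => IsPullback.of_hasPullback _ _
  have hPi : ∀ i, IsAlgSpace (pullback (k i) j₀) := fun i =>
    Groth.Agent.Helper4.AlgSpPB.isAlgSpace_of_isPullback hY.diag (hYi i) hW₀ _ _ _ _ (sqP i)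
  have hsnd : ∀ i, RepWith @IsOpenImmersion (pullback.snd (k i) j₀) := fun i =>
    (RepWith (S := S) @IsOpenImmersion).of_isPullback (sqP i) (hk i)
  have hrs : ∀ i, Set.range (Points.map (pullback.snd (k i) j₀)) =
      Points.map j₀ ⁻¹' (V i : Set (Points Y)) := fun i => by
    rw [range_snd (sqP i), hkr i]
  have sqX : ∀ i, IsPullback (pullback.fst f₀ (pullback.snd (k i) j₀))
      (pullback.snd f₀ (pullback.snd (k i) j₀)) f₀ (pullback.snd (k i) j₀) :=
    fun i => IsPullback.of_hasPullback _ _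
  have hXi : ∀ i, IsAlgSpace (pullback f₀ (pullback.snd (k i) j₀)) := fun i =>
    Groth.Agent.Helper4.AlgSpPB.isAlgSpace_of_isPullback hW₀.diag hX₀ (hPi i) _ _ _ _ (sqX i)
  refine (hP (fun i => pullback (k i) j₀) (fun i => pullback.snd (k i) j₀) hW₀ hPi
    ⟨fun i => hQ.ofOI (hPi i) hW₀ _ (hsnd i), fun w => ?_⟩ f₀ hX₀
    (fun i => pullback f₀ (pullback.snd (k i) j₀)) (fun i => pullback.snd _ _)
    (fun i => pullback.fst _ _) hXi sqX).2 fun i => ?_
  · obtain ⟨i, rfl⟩ := hpt w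
    refine ⟨i, ?_⟩
    rw [hrs i]
    exact hVm i
  · refine hV i _ _ (pullback.snd (k i) j₀ ≫ j₀) (pullback.fst _ _ ≫ j₀') _ (hPi i) (hXi i)
      (repWith_openImmersion_comp _ _ (hsnd i) hj₀) ?_ ((sqX i).paste_horiz sq)
    ext y
    constructor
    · rintro ⟨z, rfl⟩
      rw [Points.map_comp]
      have : Points.map (pullback.snd (k i) j₀) z ∈
          Set.range (Points.map (pullback.snd (k i) j₀)) := ⟨z, rfl⟩
      rw [hrs i] at this
      exact this
    · intro hy
      have hyW : y ∈ (bigOpen P f : Set (Points Y)) := le_bigOpen f (V i) (hV i) hy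
      rw [← hrange] at hyW
      obtain ⟨w, rfl⟩ := hyW
      have : w ∈ Set.range (Points.map (pullback.snd (k i) j₀)) := by
        rw [hrs i]; exact hy
      obtain ⟨z, rfl⟩ := this
      exact ⟨z, Points.map_comp _ _ z⟩

theorem range_subset_bigOpen (hQ : CovClass Q)
    (hP : IsLocalOnBase (fun _ _ Y g => IsCover Q Y g) P)
    {X Y : Sp S} (hX : IsAlgSpace X) (hY : IsAlgSpace Y) (f : X ⟶ Y)
    {Y' X' : Sp S} (hY' : IsAlgSpace Y') (hX' : IsAlgSpace X') (g : Y' ⟶ Y) (g' : X' ⟶ X)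
    (f' : X' ⟶ Y') (hg : Q g) (sq : IsPullback g' f' f g) (hf' : P f') :
    Set.range (Points.map g) ⊆ (bigOpen P f : Set (Points Y)) := by
  have hopen : IsOpen (Set.range (Points.map g)) := (hQ.isOpen hY' hY g hg).isOpen_range
  refine le_bigOpen f ⟨_, hopen⟩ ?_
  intro W₁ X₁ j₁ j₁' f₁ hW₁ hX₁ hj₁ hrange sq₁
  have hr : Set.range (Points.map j₁) = Set.range (Points.map g) := hrange
  have sqP : IsPullback (pullback.fst g j₁) (pullback.snd g j₁) g j₁ :=
    IsPullback.of_hasPullback _ _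
  have hP' : IsAlgSpace (pullback g j₁) :=
    Groth.Agent.Helper4.AlgSpPB.isAlgSpace_of_isPullback hY.diag hY' hW₁ _ _ _ _ sqP
  have hfst : RepWith @IsOpenImmersion (pullback.fst g j₁) :=
    (RepWith (S := S) @IsOpenImmersion).of_isPullback sqP.flip hj₁
  have hsndQ : Q (pullback.snd g j₁) := hQ.bc hY' hY hP' hW₁ g j₁ _ _ sqP hg
  have hsnds : Function.Surjective (Points.map (pullback.snd g j₁)) := by
    intro w
    have : w ∈ Set.range (Points.map (pullback.snd g j₁)) := by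
      rw [range_snd sqP, ← hr]; exact ⟨w, rfl⟩
    exact this
  have sqX : IsPullback (pullback.fst f₁ (pullback.snd g j₁)) (pullback.snd f₁ (pullback.snd g j₁))
      f₁ (pullback.snd g j₁) := IsPullback.of_hasPullback _ _
  have hX'' : IsAlgSpace (pullback f₁ (pullback.snd g j₁)) :=
    Groth.Agent.Helper4.AlgSpPB.isAlgSpace_of_isPullback hW₁.diag hX₁ hP' _ _ _ _ sqX
  have big : IsPullback (pullback.fst f₁ (pullback.snd g j₁) ≫ j₁')
      (pullback.snd f₁ (pullback.snd g j₁)) f (pullback.snd g j₁ ≫ j₁) := sqX.paste_horiz sq₁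
  obtain ⟨t, ht⟩ := exists_isPullback_of_comm sq big (pullback.fst g j₁) sqP.w
  have hβ : P (pullback.snd f₁ (pullback.snd g j₁)) :=
    bc_of_local hQ hP hX' hY' hX'' hP' f' (pullback.fst g j₁) _ t ht
      (hQ.ofOI hP' hY' _ hfst) hf'
  exact desc_of_local hP hX₁ hW₁ hX'' hP' f₁ (pullback.snd g j₁) _ _ sqX hsndQ hsnds hβ

theorem preimage_bigOpen (hQ : CovClass Q)
    (hP : IsLocalOnBase (fun _ _ Y g => IsCover Q Y g) P)
    {X Y : Sp S} (hX : IsAlgSpace X) (hY : IsAlgSpace Y) (f : X ⟶ Y)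
    {Y' X' : Sp S} (hY' : IsAlgSpace Y') (hX' : IsAlgSpace X') (g : Y' ⟶ Y) (g' : X' ⟶ X)
    (f' : X' ⟶ Y') (hg : Q g) (sq : IsPullback g' f' f g)
    (W' : TopologicalSpace.Opens (Points Y')) (h1 : HoldsOver P f' (W' : Set (Points Y')))
    (h2 : ∀ V' : TopologicalSpace.Opens (Points Y'), HoldsOver P f' (V' : Set (Points Y')) →
      V' ≤ W') :
    (W' : Set (Points Y')) = Points.map g ⁻¹' (bigOpen P f : Set (Points Y)) := by
  apply Set.Subset.antisymm
  · -- `g(W') ⊆ W`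
    intro x hx
    obtain ⟨Ws, j', hWs, hj', hj'r⟩ :=
      Groth.Agent.Helper5.AlgSpOpen.exists_open_subspace hY' _ W'.2
    have sqX : IsPullback (pullback.fst f' j') (pullback.snd f' j') f' j' :=
      IsPullback.of_hasPullback _ _
    have hXs : IsAlgSpace (pullback f' j') :=
      Groth.Agent.Helper4.AlgSpPB.isAlgSpace_of_isPullback hY'.diag hX' hWs _ _ _ _ sqX
    have hβ : P (pullback.snd f' j') := h1 _ _ j' _ _ hWs hXs hj' hj'r sqX
    have hsub := range_subset_bigOpen hQ hP hX hY f hWs hXs (j' ≫ g) (pullback.fst f' j' ≫ g')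
      (pullback.snd f' j') (hQ.comp hWs hY' hY _ _ (hQ.ofOI hWs hY' _ hj') hg)
      (sqX.paste_horiz sq) hβ
    have hx' : x ∈ Set.range (Points.map j') := by rw [hj'r]; exact hx
    obtain ⟨w, rfl⟩ := hx'
    exact hsub ⟨w, Points.map_comp _ _ w⟩
  · -- `g⁻¹(W) ⊆ W'`
    have hopen : IsOpen (Points.map g ⁻¹' (bigOpen P f : Set (Points Y))) :=
      (bigOpen P f).2.preimage (Points.continuous_map g)
    refine h2 ⟨_, hopen⟩ ?_
    intro W₃ X₃ j₃ j₃' f₃ hW₃ hX₃ hj₃ hrange₃ sq₃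
    have hr₃ : Set.range (Points.map j₃) = Points.map g ⁻¹' (bigOpen P f : Set (Points Y)) :=
      hrange₃
    -- the open subspace `Y_W` of `Y` and the restriction of `f`
    obtain ⟨YW, k, hYW, hk, hkr⟩ :=
      Groth.Agent.Helper5.AlgSpOpen.exists_open_subspace hY _ (bigOpen P f).2
    have sqW : IsPullback (pullback.fst f k) (pullback.snd f k) f k :=
      IsPullback.of_hasPullback _ _
    have hXW : IsAlgSpace (pullback f k) :=
      Groth.Agent.Helper4.AlgSpPB.isAlgSpace_of_isPullback hY.diag hX hYW _ _ _ _ sqW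
    have hb : P (pullback.snd f k) :=
      holdsOver_bigOpen hQ hP hX hY f _ _ k _ _ hYW hXW hk hkr sqW
    -- `P'' = Y' ×_Y Y_W`
    have sqP : IsPullback (pullback.fst g k) (pullback.snd g k) g k :=
      IsPullback.of_hasPullback _ _
    have hP'' : IsAlgSpace (pullback g k) :=
      Groth.Agent.Helper4.AlgSpPB.isAlgSpace_of_isPullback hY.diag hY' hYW _ _ _ _ sqP
    have hfst'' : RepWith @IsOpenImmersion (pullback.fst g k) :=
      (RepWith (S := S) @IsOpenImmersion).of_isPullback sqP.flip hk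
    have hsnd'' : Q (pullback.snd g k) := hQ.bc hY' hY hP'' hYW g k _ _ sqP hg
    have hrf : Set.range (Points.map (pullback.fst g k)) =
        Points.map g ⁻¹' (bigOpen P f : Set (Points Y)) := by
      rw [range_snd sqP.flip, hkr]
      rfl
    -- `f''`: base change of `f'` along `fst''`
    have sqX'' : IsPullback (pullback.fst f' (pullback.fst g k)) (pullback.snd f' (pullback.fst g k))
        f' (pullback.fst g k) := IsPullback.of_hasPullback _ _
    have hX'' : IsAlgSpace (pullback f' (pullback.fst g k)) :=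
      Groth.Agent.Helper4.AlgSpPB.isAlgSpace_of_isPullback hY'.diag hX' hP'' _ _ _ _ sqX''
    have big'' : IsPullback (pullback.fst f' (pullback.fst g k) ≫ g')
        (pullback.snd f' (pullback.fst g k)) f (pullback.fst g k ≫ g) := sqX''.paste_horiz sq
    obtain ⟨t'', ht''⟩ := exists_isPullback_of_comm sqW big'' (pullback.snd g k) sqP.w.symm
    have hb'' : P (pullback.snd f' (pullback.fst g k)) :=
      bc_of_local hQ hP hXW hYW hX'' hP'' _ (pullback.snd g k) _ t'' ht'' hsnd'' hb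
    -- `P3 = W₃ ×_{Y'} P''`
    have sq3 : IsPullback (pullback.fst j₃ (pullback.fst g k)) (pullback.snd j₃ (pullback.fst g k))
        j₃ (pullback.fst g k) := IsPullback.of_hasPullback _ _
    have hP3 : IsAlgSpace (pullback j₃ (pullback.fst g k)) :=
      Groth.Agent.Helper4.AlgSpPB.isAlgSpace_of_isPullback hY'.diag hW₃ hP'' _ _ _ _ sq3
    have hπ₁ : RepWith @IsOpenImmersion (pullback.fst j₃ (pullback.fst g k)) :=
      (RepWith (S := S) @IsOpenImmersion).of_isPullback sq3.flip hfst''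
    have hπ₂ : RepWith @IsOpenImmersion (pullback.snd j₃ (pullback.fst g k)) :=
      (RepWith (S := S) @IsOpenImmersion).of_isPullback sq3 hj₃
    have hπ₁s : Function.Surjective (Points.map (pullback.fst j₃ (pullback.fst g k))) := by
      intro w
      have : w ∈ Set.range (Points.map (pullback.fst j₃ (pullback.fst g k))) := by
        rw [range_snd sq3.flip, hrf, ← hr₃]; exact ⟨w, rfl⟩
      exact this
    have sqX3 : IsPullback (pullback.fst f₃ (pullback.fst j₃ (pullback.fst g k)))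
        (pullback.snd f₃ (pullback.fst j₃ (pullback.fst g k))) f₃
        (pullback.fst j₃ (pullback.fst g k)) := IsPullback.of_hasPullback _ _
    have hX3 : IsAlgSpace (pullback f₃ (pullback.fst j₃ (pullback.fst g k))) :=
      Groth.Agent.Helper4.AlgSpPB.isAlgSpace_of_isPullback hW₃.diag hX₃ hP3 _ _ _ _ sqX3
    have big3 : IsPullback (pullback.fst f₃ (pullback.fst j₃ (pullback.fst g k)) ≫ j₃')
        (pullback.snd f₃ (pullback.fst j₃ (pullback.fst g k))) f'
        (pullback.fst j₃ (pullback.fst g k) ≫ j₃) := sqX3.paste_horiz sq₃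
    obtain ⟨t3, ht3⟩ := exists_isPullback_of_comm sqX'' big3
      (pullback.snd j₃ (pullback.fst g k)) sq3.w.symm
    have hβ3 : P (pullback.snd f₃ (pullback.fst j₃ (pullback.fst g k))) :=
      bc_of_local hQ hP hX'' hP'' hX3 hP3 _ (pullback.snd j₃ (pullback.fst g k)) _ t3 ht3
        (hQ.ofOI hP3 hP'' _ hπ₂) hb''
    exact desc_of_local hP hX₃ hW₃ hX3 hP3 f₃ _ _ _ sqX3 (hQ.ofOI hP3 hW₃ _ hπ₁) hπ₁s hβ3

/-- bundled form of `HoldsOver` -/
def BHolds (P : MorphismProperty (Sp S)) {X Y : Space S} (f : X ⟶ Y) (V : Set (Points Y.obj)) :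
    Prop :=
  ∀ (W₀ X₀ : Space S) (j₀ : W₀ ⟶ Y) (j₀' : X₀ ⟶ X) (f₀ : X₀ ⟶ W₀),
    RepWith @IsOpenImmersion j₀.hom → Set.range (Points.map j₀.hom) = V →
    IsPullback j₀'.hom f₀.hom f.hom j₀.hom → P f₀.hom

theorem bHolds_iff {X Y : Space S} (f : X ⟶ Y) (V : Set (Points Y.obj)) :
    BHolds P f V ↔ HoldsOver P f.hom V := by
  constructor
  · intro h W₀ X₀ j₀ j₀' f₀ hW₀ hX₀ hj₀ hr sq
    exact h ⟨W₀, hW₀⟩ ⟨X₀, hX₀⟩ (ObjectProperty.homMk j₀) (ObjectProperty.homMk j₀')
      (ObjectProperty.homMk f₀) hj₀ hr sq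
  · intro h W₀ X₀ j₀ j₀' f₀ hj₀ hr sq
    exact h W₀.obj X₀.obj j₀.hom j₀'.hom f₀.hom W₀.property X₀.property hj₀ hr sq

theorem main (hQ : CovClass Q) (hP : IsLocalOnBase (fun _ _ Y g => IsCover Q Y g) P)
    {X Y : Space S} (f : X ⟶ Y) :
    ∃ W : TopologicalSpace.Opens (Points Y.obj),
      BHolds P f (W : Set (Points Y.obj)) ∧
      (∀ V : TopologicalSpace.Opens (Points Y.obj), BHolds P f (V : Set (Points Y.obj)) → V ≤ W) ∧
      (∀ (Y' X' : Space S) (g : Y' ⟶ Y) (g' : X' ⟶ X) (f' : X' ⟶ Y'),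
        Q g.hom → IsPullback g'.hom f'.hom f.hom g.hom → P f'.hom →
        Set.range (Points.map g.hom) ⊆ (W : Set (Points Y.obj))) ∧
      (∀ (Y' X' : Space S) (g : Y' ⟶ Y) (g' : X' ⟶ X) (f' : X' ⟶ Y'),
        Q g.hom → IsPullback g'.hom f'.hom f.hom g.hom →
        ∀ W' : TopologicalSpace.Opens (Points Y'.obj),
          BHolds P f' (W' : Set (Points Y'.obj)) →
          (∀ V' : TopologicalSpace.Opens (Points Y'.obj),
            BHolds P f' (V' : Set (Points Y'.obj)) → V' ≤ W') →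
          (W' : Set (Points Y'.obj)) = Points.map g.hom ⁻¹' (W : Set (Points Y.obj))) := by
  refine ⟨bigOpen P f.hom, ?_, ?_, ?_, ?_⟩
  · rw [bHolds_iff]
    exact holdsOver_bigOpen hQ hP X.property Y.property f.hom
  · intro V hV
    rw [bHolds_iff] at hV
    exact le_bigOpen f.hom V hV
  · intro Y' X' g g' f' hg sq hf'
    exact range_subset_bigOpen hQ hP X.property Y.property f.hom Y'.property X'.property
      g.hom g'.hom f'.hom hg sq hf'
  · intro Y' X' g g' f' hg sq W' h1 h2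
    rw [bHolds_iff] at h1
    exact preimage_bigOpen hQ hP X.property Y.property f.hom Y'.property X'.property
      g.hom g'.hom f'.hom hg sq W' h1 fun V' hV' => h2 V' ((bHolds_iff f' _).2 hV')

/-! ### the three instances -/

theorem locP_of_openImmersion (R : MorphismProperty Scheme.{u})
    (hR : ∀ {A B : Scheme.{u}} (g : A ⟶ B), Etale g → R g) {X Y : Sp S} (f : X ⟶ Y)
    (hf : RepWith @IsOpenImmersion f) : LocP R f :=
  Groth.Agent.Helper5.SrcEt.locP_mono (fun g hg => hR g hg) f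
    (Groth.Agent.Helper5.AlgSpEt.locP_etale_of_isEtaleMor f
      (Groth.Agent.Helper5.FpqcIso.isEtaleMor_of_repWith_openImmersion f hf))

set_option backward.isDefEq.respectTransparency.types false in
theorem covClass_fppf :
    CovClass (S := S) (fun _ _ f => LocP @Flat f ∧ LocP @LocallyOfFinitePresentation f) where
  isOpen hX hY f h := Groth.Agent.Helper5.SrcOpen.isOpenMor_of_flat_lfp hX hY f h.1 h.2
  ofOI _ _ f hf := ⟨locP_of_openImmersion _ (fun g hg => by have : Etale g := hg; infer_instance) f hf,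
    locP_of_openImmersion _ (fun g hg => by have : Etale g := hg; infer_instance) f hf⟩
  bc hX hY _ _ f g fst snd sq h := by
    have hG1 : Good (@Flat : MorphismProperty Scheme.{u}) := good_flat
    have hG2 : Good (@LocallyOfFinitePresentation : MorphismProperty Scheme.{u}) := good_lfp
    have i1 := hG1.bc
    have i2 := hG1.comp
    have i3 := hG2.bc
    have i4 := hG2.comp
    exact ⟨Groth.Agent.Helper4.AlgSpLocPBC.locP_of_isPullback @Flat hG1.etale_le hG1.sd hX hY
      f g fst snd sq h.1,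
      Groth.Agent.Helper4.AlgSpLocPBC.locP_of_isPullback @LocallyOfFinitePresentation
        hG2.etale_le hG2.sd hX hY f g fst snd sq h.2⟩
  comp _ hY _ f g hf hg :=
    ⟨Groth.Agent.Helper4.AlgSpLocPComp.locP_comp @Flat good_flat hY f g hf.1 hg.1,
      Groth.Agent.Helper4.AlgSpLocPComp.locP_comp @LocallyOfFinitePresentation good_lfp hY f g
        hf.2 hg.2⟩

set_option backward.isDefEq.respectTransparency.types false in
theorem covClass_smooth : CovClass (S := S) (LocP @Smooth) where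
  isOpen hX hY f h := Groth.Agent.Helper5.SrcOpen.isOpenMor_of_flat_lfp hX hY f
    (Groth.Agent.Helper5.SrcEt.locP_mono (fun g hg => by have : Smooth g := hg; infer_instance) f h)
    (Groth.Agent.Helper5.SrcEt.locP_mono (fun g hg => by have : Smooth g := hg; infer_instance) f h)
  ofOI _ _ f hf := locP_of_openImmersion _ (fun g hg => by have : Etale g := hg; infer_instance) f hf
  bc hX hY _ _ f g fst snd sq h := locP_smooth_of_isPullback hX hY f g fst snd sq h
  comp _ hY _ f g hf hg :=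
    Groth.Agent.Helper4.AlgSpLocPComp.locP_comp @Smooth good_smooth hY f g hf hg

set_option backward.isDefEq.respectTransparency.types false in
theorem covClass_etale : CovClass (S := S) IsEtaleMor where
  isOpen hX hY f h := by
    have h' := Groth.Agent.Helper5.AlgSpEt.locP_etale_of_isEtaleMor f h
    exact Groth.Agent.Helper5.SrcOpen.isOpenMor_of_flat_lfp hX hY f
      (Groth.Agent.Helper5.SrcEt.locP_mono (fun g hg => by have : Etale g := hg; infer_instance) f h')
      (Groth.Agent.Helper5.SrcEt.locP_mono (fun g hg => by have : Etale g := hg; infer_instance) f h')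
  ofOI _ _ f hf := Groth.Agent.Helper5.FpqcIso.isEtaleMor_of_repWith_openImmersion f hf
  bc hX _ _ hY' _ _ _ _ sq h := Groth.Agent.Helper5.AlgSpEt.isEtaleMor_of_isPullback hX hY' sq.flip h
  comp _ _ _ f g hf hg := by
    intro U φ hφ
    rw [← Category.assoc]
    exact hg _ (hf φ hφ)

end Groth.Agent.Helper5.LargestOpen
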