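import Mathlib

set_option autoImplicit false
universe u

open LaurentPolynomial

namespace Groth.Agent.Helper5.LaurentU

instance instIsDomainLaurent {R : Type u} [CommRing R] [IsDomain R] : IsDomain R[T;T⁻¹] := by
  haveI : NoZeroDivisors R[T;T⁻¹] := inferInstance
  exact NoZeroDivisors.to_isDomain _

/-- units of a Laurent polynomial ring over a domain are monomials -/
theorem exists_eq_C_mul_T_of_isUnit {R : Type u} [CommRing R] [IsDomain R] {f : R[T;T⁻¹]}
    (hf : IsUnit f) : ∃ (u : Rˣ) (n : ℤ), f = C (u : R) * T n := by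
  obtain ⟨g, hfg⟩ := hf.exists_right_inv
  obtain ⟨n, f', hf'⟩ := exists_T_pow f
  obtain ⟨m, g', hg'⟩ := exists_T_pow g
  have h1 : f' * g' = Polynomial.X ^ (n + m) := by
    apply Polynomial.toLaurent_injective
    rw [map_mul, hf', hg', Polynomial.toLaurent_X_pow]
    calc f * T n * (g * T m) = (f * g) * (T n * T m) := by ring
      _ = T ((n + m : ℕ) : ℤ) := by rw [hfg, one_mul, ← T_add]; push_cast; rfl
  have h2 : f' ∣ Polynomial.X ^ (n + m) := ⟨g', h1.symm⟩
  obtain ⟨i, hi, hassoc⟩ := (dvd_prime_pow Polynomial.prime_X _).1 h2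
  obtain ⟨w, hw⟩ := hassoc.symm
  obtain ⟨u, hu, huw⟩ := Polynomial.isUnit_iff.1 w.isUnit
  refine ⟨hu.unit, (i : ℤ) - n, ?_⟩
  have h3 : f * T n = T i * C u := by
    rw [← hf', ← hw, map_mul, Polynomial.toLaurent_X_pow, ← huw, Polynomial.toLaurent_C]
  calc f = f * T n * T (-n) := by rw [mul_T_assoc, add_neg_cancel, T_zero, mul_one]
    _ = T i * C u * T (-n) := by rw [h3]
    _ = C u * (T i * T (-n)) := by ring
    _ = C (hu.unit : R) * T ((i : ℤ) - n) := by rw [← T_add, sub_eq_add_neg]; rfl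

end Groth.Agent.Helper5.LaurentU
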