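import Groth.Agent.Helper5.FpqcF4
import Groth.Agent.Helper5.SmST
import Groth.Agent.Helper6.LftST
import Groth.Agent.Helper3.SyntSrc8
import Mathlib

set_option autoImplicit false
universe u
open CategoryTheory CategoryTheory.Limits AlgebraicGeometry Opposite MorphismProperty

namespace Groth.Agent.Helper5.LciST

open AlgSp Groth.Agent.Helper4.AlgSpLocP2 Groth.Agent.Helper4.SDClasses Groth.Agent.Helper5.FpqcF
open Groth.Agent.Helper6.LftST Groth.Agent.Helper6.FlatST Groth.Agent.Helper6.DiagLft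

variable {S : Scheme.{u}}

/-- `LocP P` is stable under composition for `FGood P`. -/
theorem locP_comp_fgood (P : MorphismProperty Scheme.{u}) (hG : FGood P)
    {X Y Z : Sp S} (hY : IsAlgSpace Y) (f : X ⟶ Y) (g : Y ⟶ Z)
    (hf : LocP P f) (hg : LocP P g) : LocP P (f ≫ g) := by
  have := hG.comp
  intro U W a b h ha hb comm
  obtain ⟨V₀, y₀, hy₀e, hy₀s⟩ := hY.atlas
  -- V' = h_W ×_Z h_{V₀}
  have hbr := hb.rep
  have hpbV : IsPullback (hbr.fst (y₀ ≫ g)) ((yon S).map (hbr.snd (y₀ ≫ g))) b (y₀ ≫ g) :=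
    hbr.isPullback _
  obtain ⟨c, hc⟩ := (yon S).map_surjective (hbr.fst (y₀ ≫ g))
  rw [← hc] at hpbV
  have hee : Etale (hbr.snd (y₀ ≫ g)).left := hb.property _ _ _ hpbV
  generalize hbr.snd (y₀ ≫ g) = e at hpbV hee
  have hey₀ : RepWith @Etale ((yon S).map e ≫ y₀) :=
    Groth.Agent.Helper4.AlgSpSrc.repWith_comp _ ((repWith_yon_map_iff _ _).2 hee) hy₀e
  have hPc : P c.left := hg ((yon S).map e ≫ y₀) b c hey₀ hb
    (by rw [Category.assoc]; exact hpbV.w.symm)
  -- U₁ = h_{V₀} ×_Y h_U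
  have hr := hy₀e.rep
  have hpbU : IsPullback (hr.fst (a ≫ f)) ((yon S).map (hr.snd (a ≫ f))) y₀ (a ≫ f) :=
    hr.isPullback _
  obtain ⟨r₂, hr₂⟩ := (yon S).map_surjective (hr.fst (a ≫ f))
  rw [← hr₂] at hpbU
  have hr₁e : Etale (hr.snd (a ≫ f)).left := hy₀e.property _ _ _ hpbU
  have hr₁s : Surjective (hr.snd (a ≫ f)).left := hy₀s.property _ _ _ hpbU
  generalize hr.snd (a ≫ f) = r₁ at hpbU hr₁e hr₁s
  have hw : (yon S).map (r₁ ≫ h) ≫ b = (yon S).map r₂ ≫ (y₀ ≫ g) := by
    rw [Functor.map_comp, Category.assoc, ← comm, ← Category.assoc ((yon S).map r₂),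
      hpbU.w]
    simp
  obtain ⟨s, hs⟩ := (yon S).map_surjective (hpbV.lift _ _ hw)
  have hs1 : (yon S).map s ≫ (yon S).map c = (yon S).map (r₁ ≫ h) := by
    rw [hs]; exact hpbV.lift_fst _ _ hw
  have hs2 : (yon S).map s ≫ (yon S).map e = (yon S).map r₂ := by
    rw [hs]; exact hpbV.lift_snd _ _ hw
  have hr₁a : RepWith @Etale ((yon S).map r₁ ≫ a) :=
    Groth.Agent.Helper4.AlgSpSrc.repWith_comp _ ((repWith_yon_map_iff _ _).2 hr₁e) ha
  have hPs : P s.left := hf ((yon S).map r₁ ≫ a) ((yon S).map e ≫ y₀) s hr₁a hey₀ (by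
    rw [Category.assoc, ← hpbU.w, ← Category.assoc, hs2])
  have heq : r₁ ≫ h = s ≫ c := by
    apply (yon S).map_injective
    rw [← hs1, Functor.map_comp]
  have hP : P (r₁ ≫ h).left := by
    rw [heq]
    show P (s.left ≫ c.left)
    exact P.comp_mem _ _ hPs hPc
  exact hG.sd r₁.left h.left hr₁e hr₁s hP

theorem smooth_le_lci : (LocP @Smooth : MorphismProperty (Sp S)) ≤ IsLCIMor := by
  intro X Y f hf U V a b h ha hb comm
  have : Smooth h.left := hf a b h ha hb comm
  exact Groth.Agent.Helper5.LciLoc.lci_of_smooth h.left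

/-- the lci property can be checked after precomposing with a jointly surjective family of
smooth maps -/
theorem lci_of_family {U V : Scheme.{u}} (k : U ⟶ V)
    (H : ∀ u : U, ∃ (A : Scheme.{u}) (e : A ⟶ U) (a : A), Smooth e ∧ e a = u ∧
      AlgSp.lci (e ≫ k)) : AlgSp.lci k := by
  intro u
  obtain ⟨A, e, a, he, rfl, hek⟩ := H u
  have : Smooth e := he
  exact Groth.Agent.Helper3.SyntSrc.isKoszulAt_of_comp e (Groth.Agent.Helper5.SmSynt.s9699 e) k hek a

set_option backward.isDefEq.respectTransparency.types false in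
theorem isLocalOnSource_sm_isLCIMor :
    IsLocalOnSource (IsSmCover (S := S)) IsLCIMor := by
  intro ι X Xi g hX hXi hcov Y f hY
  constructor
  · intro hf i
    exact locP_comp_fgood AlgSp.lci fgood_lci hX (g i) f (smooth_le_lci _ (hcov.1 i)) hf
  · intro hgf U V a b k hae hbe hcomm
    refine lci_of_family k.left fun u => ?_
    obtain ⟨i, xi, hxi⟩ := hcov.2 (Points.map a (Points.schemeHomeo U u))
    obtain ⟨A, e, l, v, hef, hev, hl, hle⟩ :=
      exists_smooth_chart hX (hXi i) (g i) (hcov.1 i) U a u xi hxi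
    refine ⟨A.left, e.left, v, hef, hev, ?_⟩
    have : l ≫ (g i ≫ f) = (yon S).map (e ≫ k) ≫ b := by
      rw [← Category.assoc, hl, Category.assoc, hcomm, Functor.map_comp, Category.assoc]
    exact hgf i l b (e ≫ k) (hle hae) hbe this

theorem localBase_isLCIMor : IsLocalOnBase (IsSmCover (S := S)) IsLCIMor := by
  intro ι Y Yi g hY hYi hcov X f hX Xi p q hXi sq
  exact s10667 Yi g hY hYi (fpqc_of_sm hY Yi hYi g hcov) f hX Xi p q hXi sq

theorem post_isLCIMor :
    Groth.Agent.Helper5.SmST.Post (LocP @Smooth) (IsLCIMor (S := S)) := by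
  intro X Y Z hX hY hZ f g hf hg
  exact locP_comp_fgood _ fgood_lci hY f g hf (smooth_le_lci _ hg)

theorem isSmoothLocalST_isLCIMor : IsSmoothLocalST (IsLCIMor (S := S)) :=
  Groth.Agent.Helper5.SmST.isSmoothLocalST_of_local _ isLocalOnSource_sm_isLCIMor
    localBase_isLCIMor post_isLCIMor

end Groth.Agent.Helper5.LciST
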