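import Mathlib
import Groth.Agent.Helper5.LciLoc1
import Groth.Agent.Helper4.AlgSpLocP2

set_option autoImplicit false
set_option linter.style.haveILetI false
universe u
open CategoryTheory CategoryTheory.Limits AlgebraicGeometry Opposite MorphismProperty

namespace Groth.Agent.Helper5.LciSp

open AlgSp Groth.Agent.Helper5.LciLoc

variable {S : Scheme.{u}}

set_option backward.isDefEq.respectTransparency.types false in
theorem s10666 {X Y Z : AlgSp.Space S} (f : X ⟶ Y) (p : X ⟶ Z) (q : Y ⟶ Z) (hc : f ≫ q = p)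
    (hq : AlgSp.LocP @Smooth q.hom) (hp : AlgSp.IsLCIMor p.hom) :
    AlgSp.IsLCIMor f.hom := by
  intro U V a b h ha hb comm
  have hc' : f.hom ≫ q.hom = p.hom := by rw [← hc]; rfl
  obtain ⟨W, c₀, hc₀e, hc₀s⟩ := Z.property.atlas
  have hr := hc₀e.rep
  have hpb : IsPullback (hr.fst (b ≫ q.hom)) ((yon S).map (hr.snd (b ≫ q.hom))) c₀ (b ≫ q.hom) :=
    hr.isPullback _
  obtain ⟨d, hd⟩ := (yon S).map_surjective (hr.fst (b ≫ q.hom))
  rw [← hd] at hpb
  have hee : Etale (hr.snd (b ≫ q.hom)).left := hc₀e.property _ _ _ hpb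
  have hes : Surjective (hr.snd (b ≫ q.hom)).left := hc₀s.property _ _ _ hpb
  generalize hr.snd (b ≫ q.hom) = e at hpb hee hes
  have hb' : RepWith @Etale ((yon S).map e ≫ b) :=
    Groth.Agent.Helper4.AlgSpSrc.repWith_comp _ ((repWith_yon_map_iff _ _).2 hee) hb
  have hqd : Smooth d.left :=
    hq ((yon S).map e ≫ b) c₀ d hb' hc₀e (by rw [Category.assoc]; exact hpb.w.symm)
  have hU' : IsPullback (pullback.fst h e) (pullback.snd h e) h e := IsPullback.of_hasPullback _ _
  have h1 : IsPullback (pullback.snd h e).left (pullback.fst h e).left e.left h.left :=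
    hU'.flip.map (Over.forget S)
  have hfe : Etale (pullback.fst h e).left := MorphismProperty.of_isPullback h1 hee
  have ha' : RepWith @Etale ((yon S).map (pullback.fst h e) ≫ a) :=
    Groth.Agent.Helper4.AlgSpSrc.repWith_comp _ ((repWith_yon_map_iff _ _).2 hfe) ha
  have hcomm' : ((yon S).map (pullback.fst h e) ≫ a) ≫ p.hom =
      (yon S).map (pullback.snd h e ≫ d) ≫ c₀ := by
    rw [Category.assoc, ← hc', ← Category.assoc a, comm, Category.assoc, ← Category.assoc,
      ← Functor.map_comp, hU'.w, Functor.map_comp, Category.assoc, ← hpb.w, ← Category.assoc,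
      ← Functor.map_comp]
  have hpd : AlgSp.lci (pullback.snd h e ≫ d).left :=
    hp ((yon S).map (pullback.fst h e) ≫ a) c₀ (pullback.snd h e ≫ d) ha' hc₀e hcomm'
  haveI := hqd
  have h2 : AlgSp.lci (pullback.snd h e).left :=
    lci_of_comp_smooth (pullback.snd h e).left d.left hpd
  haveI := hee
  haveI := hes
  exact lci_descends_fppf h.left e.left (pullback.snd h e).left (pullback.fst h e).left h1.flip h2

end Groth.Agent.Helper5.LciSp
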