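import Mathlib
import Groth.Agent.Helper5.LciSp1
import Groth.Agent.S8656

set_option autoImplicit false
set_option linter.style.haveILetI false
universe u
open CategoryTheory CategoryTheory.Limits AlgebraicGeometry Opposite MorphismProperty

namespace Groth.Agent.Helper5.LciSp

open AlgSp Groth.Agent.Helper5.LciLoc

variable {S : Scheme.{u}}

/-- an immersion which is a local complete intersection morphism is Koszul-regular -/
theorem regImm_of_lci {A B : Scheme.{u}} (i : A ⟶ B) [IsImmersion i] (h : AlgSp.lci i) :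
    RegImm.IsRegularImmersion .koszul i :=
  Groth.Agent.S8656.result i h (𝟙 B) i (Category.comp_id i)

set_option backward.isDefEq.respectTransparency.types false in
theorem s10664 {X Y P U : AlgSp.Space S} (f : X ⟶ Y) (g : P ⟶ Y) (e : U ⟶ X) (i : U ⟶ P)
    (hc : i ≫ g = e ≫ f) (hf : AlgSp.IsLCIMor f.hom) (hg : AlgSp.LocP @Smooth g.hom)
    (he : AlgSp.IsEtaleMor e.hom) (hi : AlgSp.RepWith @IsImmersion i.hom) :
    AlgSp.IsRegImmMor RegImm.Kind.koszul i.hom := by
  refine ⟨hi.1, ?_⟩
  intro V W b fst snd hb sq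
  have hc' : i.hom ≫ g.hom = e.hom ≫ f.hom := by
    have := congrArg (fun φ => φ.hom) hc
    exact this
  have himm : IsImmersion snd.left := hi.2 b fst snd sq
  have i1 := repWith_isStableUnderBaseChange (S := S) @Etale
  have hfst : RepWith @Etale fst := MorphismProperty.of_isPullback sq.flip hb
  obtain ⟨Y₀, c₀, hc₀e, hc₀s⟩ := Y.property.atlas
  have hr := hc₀e.rep
  have hpb : IsPullback (hr.fst (b ≫ g.hom)) ((yon S).map (hr.snd (b ≫ g.hom))) c₀ (b ≫ g.hom) :=
    hr.isPullback _
  obtain ⟨d, hd⟩ := (yon S).map_surjective (hr.fst (b ≫ g.hom))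
  rw [← hd] at hpb
  have hee : Etale (hr.snd (b ≫ g.hom)).left := hc₀e.property _ _ _ hpb
  have hes : Surjective (hr.snd (b ≫ g.hom)).left := hc₀s.property _ _ _ hpb
  generalize hr.snd (b ≫ g.hom) = e' at hpb hee hes
  have hb' : RepWith @Etale ((yon S).map e' ≫ b) :=
    Groth.Agent.Helper4.AlgSpSrc.repWith_comp _ ((repWith_yon_map_iff _ _).2 hee) hb
  have hgd : Smooth d.left :=
    hg ((yon S).map e' ≫ b) c₀ d hb' hc₀e (by rw [Category.assoc]; exact hpb.w.symm)
  have hW' : IsPullback (pullback.fst snd e') (pullback.snd snd e') snd e' :=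
    IsPullback.of_hasPullback _ _
  have h1 : IsPullback (pullback.snd snd e').left (pullback.fst snd e').left e'.left snd.left :=
    hW'.flip.map (Over.forget S)
  have hfe : Etale (pullback.fst snd e').left := MorphismProperty.of_isPullback h1 hee
  have ha0 : RepWith @Etale ((yon S).map (pullback.fst snd e') ≫ fst) :=
    Groth.Agent.Helper4.AlgSpSrc.repWith_comp _ ((repWith_yon_map_iff _ _).2 hfe) hfst
  have ha' : RepWith @Etale (((yon S).map (pullback.fst snd e') ≫ fst) ≫ e.hom) := he _ ha0
  have hcomm' : (((yon S).map (pullback.fst snd e') ≫ fst) ≫ e.hom) ≫ f.hom =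
      (yon S).map (pullback.snd snd e' ≫ d) ≫ c₀ := by
    rw [Category.assoc, ← hc', Category.assoc, ← Category.assoc fst, sq.w, Category.assoc,
      ← Category.assoc, ← Functor.map_comp, hW'.w, Functor.map_comp, Category.assoc, ← hpb.w,
      ← Category.assoc, ← Functor.map_comp]
  have hpd : AlgSp.lci (pullback.snd snd e' ≫ d).left :=
    hf _ c₀ (pullback.snd snd e' ≫ d) ha' hc₀e hcomm'
  haveI := hgd
  have h2 : AlgSp.lci (pullback.snd snd e').left :=
    lci_of_comp_smooth (pullback.snd snd e').left d.left hpd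
  haveI := hee
  haveI := hes
  have h3 : AlgSp.lci snd.left :=
    lci_descends_fppf snd.left e'.left (pullback.snd snd e').left (pullback.fst snd e').left
      h1.flip h2
  haveI := himm
  exact regImm_of_lci snd.left h3

end Groth.Agent.Helper5.LciSp
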