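import Groth.Agent.Helper5.FpqcF4
import Mathlib

set_option autoImplicit false
universe u
open CategoryTheory CategoryTheory.Limits AlgebraicGeometry Opposite MorphismProperty

namespace Groth.Agent.Helper5.LciYon

open AlgSp Groth.Agent.Helper5.FpqcF

variable {S : Scheme.{u}}

/-- For a morphism of schemes over `S`, `LocP P` of the induced morphism of sheaves is `P`, for
`P` étale local on the source with cancellation of étale second factors. -/
theorem locP_yon_map_iff (P : MorphismProperty Scheme.{u}) (hG : FGood P)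
    (hcancel : ∀ {A B C : Scheme.{u}} (s : A ⟶ B) (g : B ⟶ C), Etale g → P (s ≫ g) → P s)
    {U V : Over S} (h : U ⟶ V) : LocP P ((yon S).map h) ↔ P h.left := by
  have := hG.comp
  refine ⟨locP_yon_map, fun hh => ?_⟩
  intro U' V' a b h' ha hb comm
  obtain ⟨a₀, rfl⟩ := (yon S).map_surjective a
  obtain ⟨b₀, rfl⟩ := (yon S).map_surjective b
  have ha₀ : Etale a₀.left := (repWith_yon_map_iff _ _).1 ha
  have hb₀ : Etale b₀.left := (repWith_yon_map_iff _ _).1 hb
  have e : a₀ ≫ h = h' ≫ b₀ := by
    apply (yon S).map_injective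
    rw [Functor.map_comp, Functor.map_comp, comm]
  refine hcancel h'.left b₀.left hb₀ ?_
  rw [← Over.comp_left, ← e]
  show P (a₀.left ≫ h.left)
  exact P.comp_mem _ _ (hG.etale_le _ ha₀) hh

theorem isLCIMor_yon_map_iff {U V : Over S} (h : U ⟶ V) :
    IsLCIMor ((yon S).map h) ↔ AlgSp.lci h.left :=
  locP_yon_map_iff AlgSp.lci fgood_lci (fun s g hg hsg => by
    have : Etale g := hg
    exact Groth.Agent.Helper5.LciLoc.lci_of_comp_smooth s g hsg) h

end Groth.Agent.Helper5.LciYon
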