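import Groth.Agent.Helper5.IdealEtChart1
import Groth.Agent.Helper5.EffCart3
import Groth.Agent.Helper4.AlgSpLocPChart
import Groth.Agent.Helper4.SDClasses
import Mathlib

set_option autoImplicit false
set_option linter.style.haveILetI false
universe u
open CategoryTheory CategoryTheory.Limits AlgebraicGeometry Opposite

namespace Groth.Agent.Helper5.LfpIdeal

open AlgSp Groth.Agent.Helper5.IdealEtChart

variable {S : Scheme.{u}}

theorem fp_stableSource :
    RingHom.StableUnderCompositionWithLocalizationAwaySource @RingHom.FinitePresentation := by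
  intro R A T _ _ _ _ r _ f hf
  exact RingHom.finitePresentation_stableUnderComposition _ _
    (RingHom.finitePresentation_holdsForLocalizationAway A r) hf

/-- a closed subscheme cut out by an ideal sheaf with finitely generated ideals is locally of
finite presentation -/
theorem lfp_subschemeι {V : Scheme.{u}} (K : V.IdealSheafData)
    (h : ∀ U : V.affineOpens, (K.ideal U).FG) : LocallyOfFinitePresentation K.subschemeι := by
  rw [HasRingHomProperty.iff_exists_appLE (P := @LocallyOfFinitePresentation) fp_stableSource]
  intro x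
  obtain ⟨_, ⟨U, hU, rfl⟩, hxU, -⟩ :=
    V.isBasis_affineOpens.exists_subset_of_mem_open (Set.mem_univ (K.subschemeι x)) isOpen_univ
  let U' : V.affineOpens := ⟨U, hU⟩
  have haff : IsAffineOpen (K.subschemeι ⁻¹ᵁ U) := hU.preimage K.subschemeι
  refine ⟨U', ⟨K.subschemeι ⁻¹ᵁ U, haff⟩, hxU, le_rfl, ?_⟩
  rw [Scheme.Hom.appLE_eq_app]
  refine RingHom.FinitePresentation.of_surjective _ (K.subschemeι_app_surjective U') ?_
  rw [K.ker_subschemeι_app U']
  exact h U'

/-- a finitely presented closed immersion of affine schemes has finitely generated kernel -/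
theorem ker_fg_of_lfp {A B : Scheme.{u}} [IsAffine B] (c : A ⟶ B) [IsClosedImmersion c]
    [LocallyOfFinitePresentation c] : (RingHom.ker c.appTop.hom).FG := by
  obtain ⟨hA, hsurj⟩ := IsClosedImmersion.isAffine_surjective_of_isAffine c
  haveI := hA
  have hfp : RingHom.FinitePresentation c.appTop.hom :=
    HasRingHomProperty.appTop (P := @LocallyOfFinitePresentation) c inferInstance
  algebraize [c.appTop.hom]
  have : Algebra.FinitePresentation Γ(B, ⊤) Γ(A, ⊤) := hfp
  exact Algebra.FinitePresentation.ker_fG_of_surjective (Algebra.ofId Γ(B, ⊤) Γ(A, ⊤)) hsurj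

set_option backward.isDefEq.respectTransparency.types false in
theorem s9997 {Z X : Space S} (i : Z ⟶ X) (hi : RepWith @IsClosedImmersion i.hom) :
    LocP @LocallyOfFinitePresentation i.hom ↔
      ∀ (E : EtOver X.obj) (hE : IsAffine E.obj.left.left),
        ((idealOfRep hi.1).ideal E hE).FG := by
  constructor
  · intro h E hE
    haveI := hE
    have sq := EtOver.isPullback_bcObj hi.1 E
    haveI : IsClosedImmersion (EtOver.bcπ hi.1 E).left := hi.2 _ _ _ sq
    haveI : LocallyOfFinitePresentation (EtOver.bcπ hi.1 E).left :=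
      h (EtOver.bcObj hi.1 E).obj.hom E.obj.hom (EtOver.bcπ hi.1 E) (EtOver.bcObj hi.1 E).property
        E.property sq.w
    exact ker_fg_of_lfp (EtOver.bcπ hi.1 E).left
  · intro h
    obtain ⟨V, φ, hφ, hφs⟩ := X.property.atlas
    obtain ⟨K, fstK, sqK⟩ := Groth.Agent.Helper5.EffCart.exists_isPullback_subscheme i.hom hi φ
    have hae : RepWith @Etale fstK := (RepWith (S := S) @Etale).of_isPullback sqK.flip hφ
    have has : RepWith @Surjective fstK := (RepWith (S := S) @Surjective).of_isPullback sqK.flip hφs
    refine Groth.Agent.Helper4.AlgSpLocPChart.locP_of_one_chart _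
      Groth.Agent.Helper4.SDClasses.good_lfp i.hom fstK φ (Over.homMk K.subschemeι rfl) hae has hφ
      sqK.w ?_
    show LocallyOfFinitePresentation K.subschemeι
    apply lfp_subschemeι
    intro U
    have hU : IsAffine (chartObj φ hφ U.1).obj.left.left := U.2
    have e := idealOfRep_chartObj i.hom hi φ hφ K fstK sqK U hU
    have hfg := h (chartObj φ hφ U.1) hU
    rw [e] at hfg
    have e2 : K.ideal U =
        Ideal.map U.1.topIso.hom.hom (Ideal.map U.1.topIso.inv.hom (K.ideal U)) := by
      rw [Ideal.map_map, ← CommRingCat.hom_comp, Iso.inv_hom_id]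
      simp
    rw [e2]
    exact hfg.map _

end Groth.Agent.Helper5.LfpIdeal
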