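import Mathlib
import Groth.Agent.Helper5.AnOpen4

set_option autoImplicit false
universe u

namespace Groth.Agent.Helper5.LinForm

open CategoryTheory CategoryTheory.Limits AlgebraicGeometry TensorProduct TopologicalSpace
  MvPolynomial

section
variable {A B : Type u} [CommRing A] [CommRing B] [Algebra A B]

/-- the `B`-version of a substitution of variables -/
noncomputable def substB {τ : Type} {σ : Type u} (a : τ → MvPolynomial σ A) :
    MvPolynomial τ B →+* MvPolynomial σ B :=
  (MvPolynomial.aeval (R := B) fun i => MvPolynomial.map (algebraMap A B) (a i)).toRingHom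

lemma substB_comp_map {τ : Type} {σ : Type u} (a : τ → MvPolynomial σ A) :
    (substB (B := B) a).comp (MvPolynomial.map (algebraMap A B)) =
      (MvPolynomial.map (algebraMap A B)).comp (MvPolynomial.aeval (R := A) a).toRingHom := by
  apply MvPolynomial.ringHom_ext
  · intro r
    simp [substB]
  · intro i
    simp [substB]

attribute [local instance] MvPolynomial.algebraMvPolynomial in
lemma isPushout_subst {τ : Type} {σ : Type u} (a : τ → MvPolynomial σ A) :
    IsPushout (CommRingCat.ofHom (MvPolynomial.map (σ := τ) (algebraMap A B)))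
      (CommRingCat.ofHom (MvPolynomial.aeval (R := A) a).toRingHom)
      (CommRingCat.ofHom (substB (B := B) a))
      (CommRingCat.ofHom (MvPolynomial.map (σ := σ) (algebraMap A B))) := by
  have left : IsPushout (CommRingCat.ofHom (algebraMap A (MvPolynomial τ A)))
      (CommRingCat.ofHom (algebraMap A B))
      (CommRingCat.ofHom (algebraMap (MvPolynomial τ A) (MvPolynomial τ B)))
      (CommRingCat.ofHom (algebraMap B (MvPolynomial τ B))) :=
    CommRingCat.isPushout_of_isPushout A (MvPolynomial τ A) B (MvPolynomial τ B)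
  have big : IsPushout (CommRingCat.ofHom (algebraMap A (MvPolynomial σ A)))
      (CommRingCat.ofHom (algebraMap A B))
      (CommRingCat.ofHom (algebraMap (MvPolynomial σ A) (MvPolynomial σ B)))
      (CommRingCat.ofHom (algebraMap B (MvPolynomial σ B))) :=
    CommRingCat.isPushout_of_isPushout A (MvPolynomial σ A) B (MvPolynomial σ B)
  have e1 : CommRingCat.ofHom (algebraMap A (MvPolynomial σ A)) =
      CommRingCat.ofHom (algebraMap A (MvPolynomial τ A)) ≫
        CommRingCat.ofHom (MvPolynomial.aeval (R := A) a).toRingHom := by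
    ext r
    simp
  have e2 : CommRingCat.ofHom (algebraMap B (MvPolynomial σ B)) =
      CommRingCat.ofHom (algebraMap B (MvPolynomial τ B)) ≫
        CommRingCat.ofHom (substB (B := B) a) := by
    ext r
    simp [substB]
  rw [e1, e2] at big
  have := IsPushout.of_top big.flip ?_ left.flip
  · exact this
  · rw [← CommRingCat.ofHom_comp, ← CommRingCat.ofHom_comp]
    congr 1
    exact (substB_comp_map a)

end

section
variable {A B : Type u} [CommRing A] [CommRing B] [Algebra A B]

lemma exists_coeffs {d : ℕ} (b : Fin d → B) (hb : Submodule.span A (Set.range b) = ⊤)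
    {σ : Type u} (g : MvPolynomial σ B) :
    ∃ a : Fin d → MvPolynomial σ A,
      g = ∑ i, MvPolynomial.map (algebraMap A B) (a i) * MvPolynomial.C (b i) := by
  induction g using MvPolynomial.induction_on with
  | C β =>
    have hβ : β ∈ Submodule.span A (Set.range b) := by rw [hb]; trivial
    obtain ⟨c, rfl⟩ := (Submodule.mem_span_range_iff_exists_fun A).mp hβ
    refine ⟨fun i => MvPolynomial.C (c i), ?_⟩
    simp [Algebra.smul_def]
  | add p q hp hq =>
    obtain ⟨a, ha⟩ := hp
    obtain ⟨a', ha'⟩ := hq
    refine ⟨fun i => a i + a' i, ?_⟩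
    rw [ha, ha', ← Finset.sum_add_distrib]
    refine Finset.sum_congr rfl fun i _ => ?_
    rw [map_add, add_mul]
  | mul_X p j hp =>
    obtain ⟨a, ha⟩ := hp
    refine ⟨fun i => a i * MvPolynomial.X j, ?_⟩
    rw [ha, Finset.sum_mul]
    refine Finset.sum_congr rfl fun i _ => ?_
    rw [map_mul, MvPolynomial.map_X]
    ring

lemma isOpenMap_comap_map {d : ℕ} (b : Fin d → B) (hb : Submodule.span A (Set.range b) = ⊤)
    (hopen : IsOpen (PrimeSpectrum.comap (MvPolynomial.map (σ := Fin d) (algebraMap A B)) ''
        (PrimeSpectrum.basicOpen (∑ i : Fin d, MvPolynomial.X i * MvPolynomial.C (b i)) :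
          Set (PrimeSpectrum (MvPolynomial (Fin d) B)))))
    (σ : Type u) :
    IsOpenMap (PrimeSpectrum.comap (MvPolynomial.map (σ := σ) (algebraMap A B))) := by
  rw [PrimeSpectrum.isTopologicalBasis_basic_opens.isOpenMap_iff]
  rintro _ ⟨g, rfl⟩
  obtain ⟨a, ha⟩ := exists_coeffs b hb g
  let a' : Fin d → MvPolynomial σ A := a
  have sq := isPullback_SpecMap_of_isPushout _ _ _ _ (isPushout_subst (B := B) a')
  have key := Scheme.image_preimage_eq_of_isPullback sq
    (PrimeSpectrum.basicOpen (∑ i : Fin d, MvPolynomial.X i * MvPolynomial.C (b i)) :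
          Set (PrimeSpectrum (MvPolynomial (Fin d) B)))
  have hg : substB (B := B) a' (∑ i : Fin d, MvPolynomial.X i * MvPolynomial.C (b i)) = g := by
    rw [ha, map_sum]
    refine Finset.sum_congr rfl fun i _ => ?_
    simp [substB, a']
  have h1 : (PrimeSpectrum.basicOpen g : Set (PrimeSpectrum (MvPolynomial σ B))) =
      PrimeSpectrum.comap (substB (B := B) a') ⁻¹' (PrimeSpectrum.basicOpen
        (∑ i : Fin d, MvPolynomial.X i * MvPolynomial.C (b i)) :
          Set (PrimeSpectrum (MvPolynomial (Fin d) B))) := by
    rw [← hg]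
    rfl
  change IsOpen (PrimeSpectrum.comap (MvPolynomial.map (algebraMap A B)) ''
    (PrimeSpectrum.basicOpen g : Set (PrimeSpectrum (MvPolynomial σ B))))
  rw [h1]
  refine (congrArg IsOpen key).mpr ?_
  exact hopen.preimage (PrimeSpectrum.continuous_comap _)

attribute [local instance] MvPolynomial.algebraMvPolynomial in
/-- S1372 -/
theorem s1372 {d : ℕ} (b : Fin d → B) (hb : Submodule.span A (Set.range b) = ⊤) :
    UniversallyOpen (Spec.map (CommRingCat.ofHom (algebraMap A B))) ↔
      IsOpen (PrimeSpectrum.comap (MvPolynomial.map (σ := Fin d) (algebraMap A B)) ''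
        (PrimeSpectrum.basicOpen (∑ i : Fin d, MvPolynomial.X i * MvPolynomial.C (b i)) :
          Set (PrimeSpectrum (MvPolynomial (Fin d) B)))) := by
  constructor
  · intro hf
    have po : IsPushout (CommRingCat.ofHom (algebraMap A (MvPolynomial (Fin d) A)))
        (CommRingCat.ofHom (algebraMap A B))
        (CommRingCat.ofHom (algebraMap (MvPolynomial (Fin d) A) (MvPolynomial (Fin d) B)))
        (CommRingCat.ofHom (algebraMap B (MvPolynomial (Fin d) B))) :=
      CommRingCat.isPushout_of_isPushout A (MvPolynomial (Fin d) A) B (MvPolynomial (Fin d) B)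
    have sq := isPullback_SpecMap_of_isPushout _ _ _ _ po
    have := hf.universally_isOpenMap _ _ _ sq
    exact this _ (PrimeSpectrum.basicOpen _).isOpen
  · intro hopen
    rw [AnOpen.s1373]
    intro n
    rw [AffineSpace.map_SpecMap]
    have h1 := isOpenMap_comap_map b hb hopen (ULift.{u} (Fin n))
    have h2 : IsOpenMap ⇑(Spec.map (CommRingCat.ofHom
        (MvPolynomial.map (σ := ULift.{u} (Fin n)) (algebraMap A B)))) := h1
    rw [Scheme.Hom.comp_base, TopCat.coe_comp, Scheme.Hom.comp_base, TopCat.coe_comp]
    exact ((AffineSpace.SpecIso _ _).inv.homeomorph.isOpenMap.comp h2).comp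
      (AffineSpace.SpecIso _ _).hom.homeomorph.isOpenMap

end

end Groth.Agent.Helper5.LinForm
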