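import Groth.Prelude.Def_W4stk3formalspacesTaut

set_option autoImplicit false
set_option linter.unusedSectionVars false
universe u v w

namespace Groth.Agent.Helper5.LT

open Filter Topology

section Basic

variable {B : Type v} [CommRing B] [TopologicalSpace B] [IsTopologicalRing B]

/-- An ideal containing an open ideal is open. -/
theorem isOpen_of_le {I J : Ideal B} (h : I ≤ J) (hI : IsOpen (I : Set B)) :
    IsOpen (J : Set B) :=
  AddSubgroup.isOpen_mono (H₁ := I.toAddSubgroup) (H₂ := J.toAddSubgroup) h hI

/-- An ideal containing an open set around `0` is open. -/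
theorem isOpen_of_subset {J : Ideal B} {U : Set B} (hU : U ∈ 𝓝 (0 : B)) (h : U ⊆ (J : Set B)) :
    IsOpen (J : Set B) :=
  AddSubgroup.isOpen_of_mem_nhds J.toAddSubgroup (g := 0) (Filter.mem_of_superset hU h)

theorem isClosed_of_isOpen {I : Ideal B} (hI : IsOpen (I : Set B)) : IsClosed (I : Set B) :=
  AddSubgroup.isClosed_of_isOpen I.toAddSubgroup hI

theorem mem_nhds_zero_of_isOpen {I : Ideal B} (hI : IsOpen (I : Set B)) : (I : Set B) ∈ 𝓝 (0 : B) :=
  hI.mem_nhds I.zero_mem

theorem closure_coe (I : Ideal B) : ((I.closure : Ideal B) : Set B) = closure (I : Set B) := rfl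

theorem isOpen_closure_of_le {I J : Ideal B} (h : I ≤ J) (hI : IsOpen (closure (I : Set B))) :
    IsOpen (closure (J : Set B)) := by
  have h1 : (I.closure : Ideal B) ≤ J.closure := closure_mono h
  exact isOpen_of_le h1 hI

variable [IsLinearTopology B B]

theorem exists_open_ideal_subset {U : Set B} (hU : U ∈ 𝓝 (0 : B)) :
    ∃ K : Ideal B, IsOpen (K : Set B) ∧ (K : Set B) ⊆ U :=
  (IsLinearTopology.hasBasis_open_ideal (R := B)).mem_iff.mp hU

/-- The topological nilradical of a linearly topologized ring is closed. -/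
theorem isClosed_topologicalNilradical :
    IsClosed ((topologicalNilradical B : Ideal B) : Set B) := by
  rw [← closure_subset_iff_isClosed]
  intro x hx
  show IsTopologicallyNilpotent x
  unfold IsTopologicallyNilpotent
  rw [(atTop_basis.tendsto_iff (IsLinearTopology.hasBasis_open_ideal (R := B)))]
  intro K hK
  -- x + K is a neighbourhood of x
  have hxK : {y | y - x ∈ K} ∈ 𝓝 x := by
    have hc : Continuous fun y : B => y - x := by fun_prop
    have : Tendsto (fun y => y - x) (𝓝 x) (𝓝 0) := by
      have := hc.tendsto x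
      simpa using this
    exact this (hK.mem_nhds K.zero_mem)
  obtain ⟨y, hyK, hy⟩ := mem_closure_iff_nhds.mp hx _ hxK
  have hy' : IsTopologicallyNilpotent y := hy
  obtain ⟨N, -, hN⟩ := (atTop_basis.tendsto_iff (IsLinearTopology.hasBasis_open_ideal (R := B))).mp hy' K hK
  refine ⟨N, trivial, fun n hn => ?_⟩
  have h1 : y ^ n ∈ K := hN n hn
  have h2 : y ^ n - x ^ n ∈ K := by
    have : (y - x) ∣ y ^ n - x ^ n := sub_dvd_pow_sub_pow y x n
    obtain ⟨c, hc⟩ := this
    rw [hc]
    exact K.mul_mem_right c hyK
  have : x ^ n = y ^ n - (y ^ n - x ^ n) := by ring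
  show x ^ n ∈ K
  rw [this]
  exact K.sub_mem h1 h2

theorem closure_le_topologicalNilradical {J : Ideal B}
    (hJ : ∀ g ∈ J, IsTopologicallyNilpotent g) :
    ∀ g ∈ J.closure, IsTopologicallyNilpotent g := by
  intro g hg
  have : (J : Set B) ⊆ (topologicalNilradical B : Ideal B) := fun x hx => hJ x hx
  exact closure_minimal this isClosed_topologicalNilradical hg

end Basic

section Maps

variable {A : Type u} [CommRing A] [TopologicalSpace A]
variable {B : Type v} [CommRing B] [TopologicalSpace B] [IsTopologicalRing B] [IsLinearTopology B B]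

theorem map_isTopologicallyNilpotent (φ : A →+* B) (hφ : Continuous φ) (I : Ideal A)
    (hI : ∀ f ∈ I, IsTopologicallyNilpotent f) :
    ∀ g ∈ I.map φ, IsTopologicallyNilpotent g := by
  intro g hg
  have : I.map φ ≤ topologicalNilradical B := by
    rw [Ideal.map_le_iff_le_comap]
    intro f hf
    exact (hI f hf).map hφ
  exact this hg

theorem closure_map_isTopologicallyNilpotent (φ : A →+* B) (hφ : Continuous φ) (I : Ideal A)
    (hI : ∀ f ∈ I, IsTopologicallyNilpotent f) :
    ∀ g ∈ (I.map φ).closure, IsTopologicallyNilpotent g :=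
  closure_le_topologicalNilradical (map_isTopologicallyNilpotent φ hφ I hI)

end Maps

end Groth.Agent.Helper5.LT

namespace Groth.Agent.Helper5.LT

open Filter Topology

section Closure

variable {B : Type v} [CommRing B] [TopologicalSpace B] [IsTopologicalRing B]

theorem closure_mul_le (J J' : Ideal B) : J.closure * J'.closure ≤ (J * J').closure := by
  rw [Ideal.mul_le]
  intro r hr s hs
  exact map_mem_closure₂ continuous_mul hr hs (fun a ha b hb => Ideal.mul_mem_mul ha hb)

theorem closure_pow_le (J : Ideal B) (n : ℕ) : J.closure ^ n ≤ (J ^ n).closure := by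
  induction n with
  | zero => simp only [pow_zero, Ideal.one_eq_top]; exact fun x _ => subset_closure trivial
  | succ n ih =>
    rw [pow_succ, pow_succ]
    exact (Ideal.mul_mono_left ih).trans (closure_mul_le _ _)

theorem closure_mono' {I J : Ideal B} (h : I ≤ J) : I.closure ≤ J.closure := closure_mono h

theorem closure_le_of_le_of_isOpen {I K : Ideal B} (h : I ≤ K) (hK : IsOpen (K : Set B)) :
    I.closure ≤ K :=
  closure_minimal h (isClosed_of_isOpen hK)

theorem le_closure (I : Ideal B) : I ≤ I.closure := subset_closure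

end Closure

section MapClosure

variable {A : Type u} [CommRing A] [TopologicalSpace A]
variable {B : Type v} [CommRing B] [TopologicalSpace B] [IsTopologicalRing B]

/-- The image of the closure of an ideal lies in the closure of the extended ideal. -/
theorem map_closure_le [IsTopologicalRing A] (φ : A →+* B) (hφ : Continuous φ) (I : Ideal A) :
    (I.closure).map φ ≤ (I.map φ).closure := by
  rw [Ideal.map_le_iff_le_comap]
  intro x hx
  show φ x ∈ closure ((I.map φ : Ideal B) : Set B)
  have : φ x ∈ closure (φ '' (I : Set A)) := image_closure_subset_closure_image hφ ⟨x, hx, rfl⟩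
  refine closure_mono ?_ this
  rintro _ ⟨y, hy, rfl⟩
  exact Ideal.mem_map_of_mem φ hy

theorem closure_map_closure [IsTopologicalRing A] (φ : A →+* B) (hφ : Continuous φ) (I : Ideal A) :
    ((I.closure).map φ).closure = (I.map φ).closure := by
  apply le_antisymm
  · have h := map_closure_le φ hφ I
    have : ((I.closure).map φ).closure ≤ ((I.map φ).closure).closure := closure_mono h
    simpa [Ideal.closure, closure_closure] using this
  · exact closure_mono (Ideal.map_mono subset_closure)

/-- In the taut faithfully flat situation, an open ideal is the preimage of the closure of its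
extension. -/
theorem comap_closure_map_eq (φ : A →+* B) (hφ : LinTop.IsTautFFlat φ) (I : Ideal A)
    (hI : IsOpen (I : Set A)) : (I.map φ).closure.comap φ = I := by
  apply le_antisymm
  · intro x hx
    have hinj := (hφ.2 I hI).injective
    have h0 : LinTop.descentMap φ I (Ideal.Quotient.mk I x) = 0 := by
      show Ideal.quotientMap _ φ _ (Ideal.Quotient.mk I x) = 0
      rw [Ideal.quotientMap_mk]
      exact Ideal.Quotient.eq_zero_iff_mem.mpr hx
    have : Ideal.Quotient.mk I x = 0 := hinj (by rw [h0, map_zero])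
    exact Ideal.Quotient.eq_zero_iff_mem.mp this
  · exact Ideal.le_comap_map.trans (Ideal.comap_mono subset_closure)

end MapClosure

end Groth.Agent.Helper5.LT

namespace Groth.Agent.Helper5.LT

open Filter Topology

section Adic

variable {B : Type v} [CommRing B] [TopologicalSpace B] [IsTopologicalRing B]

theorem IsAdic.isOpen_pow {K : Ideal B} (hK : IsAdic K) (n : ℕ) : IsOpen ((K ^ n : Ideal B) : Set B) :=
  (isAdic_iff.mp hK).1 n

theorem IsAdic.isOpen {K : Ideal B} (hK : IsAdic K) : IsOpen (K : Set B) := by
  have := IsAdic.isOpen_pow hK 1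
  simpa using this

theorem IsAdic.exists_pow_subset {K : Ideal B} (hK : IsAdic K) {U : Set B} (hU : U ∈ 𝓝 (0 : B)) :
    ∃ n : ℕ, ((K ^ n : Ideal B) : Set B) ⊆ U :=
  (isAdic_iff.mp hK).2 U hU

theorem isAdic_of_pow_le {K J : Ideal B} (hK : IsAdic K) {n m : ℕ} (h1 : K ^ n ≤ J)
    (h2 : J ^ m ≤ K) : IsAdic J := by
  rw [isAdic_iff]
  constructor
  · intro k
    have : K ^ (n * k) ≤ J ^ k := by
      rw [pow_mul]; exact Ideal.pow_right_mono h1 k
    exact isOpen_of_le this (IsAdic.isOpen_pow hK _)
  · intro s hs
    obtain ⟨l, hl⟩ := IsAdic.exists_pow_subset hK hs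
    refine ⟨m * l, subset_trans ?_ hl⟩
    rw [pow_mul]
    exact Ideal.pow_right_mono h2 l

theorem isIdealOfDefinition_of_isAdic {J : Ideal B} (hJ : IsAdic J) :
    LinTop.IsIdealOfDefinition B J := by
  refine ⟨IsAdic.isOpen hJ, fun U hU => ?_⟩
  obtain ⟨n, hn⟩ := IsAdic.exists_pow_subset hJ hU
  exact ⟨n + 1, Nat.succ_pos n, subset_trans (Ideal.pow_le_pow_right (Nat.le_succ n)) hn⟩

theorem isLinearTopology_of_isAdic {J : Ideal B} (hJ : IsAdic J) : IsLinearTopology B B := by
  rw [isLinearTopology_iff_hasBasis_ideal]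
  have := IsAdic.hasBasis_nhds_zero hJ
  constructor
  intro U
  constructor
  · intro hU
    obtain ⟨n, -, hn⟩ := this.mem_iff.mp hU
    exact ⟨J ^ n, this.mem_of_mem (i := n) trivial, hn⟩
  · rintro ⟨K, hK, hKU⟩
    exact Filter.mem_of_superset hK hKU

end Adic

end Groth.Agent.Helper5.LT

namespace Groth.Agent.Helper5.LT

open Filter Topology

section MemClosure

variable {B : Type v} [CommRing B] [TopologicalSpace B] [IsTopologicalRing B]

/-- If for every neighbourhood of zero `U` there is an ideal `K ⊆ U` with `x ∈ J ⊔ K`, then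
`x ∈ closure J`. -/
theorem mem_closure_of_forall_mem_sup {J : Ideal B} {x : B}
    (h : ∀ U ∈ 𝓝 (0 : B), ∃ K : Ideal B, (K : Set B) ⊆ U ∧ x ∈ J ⊔ K) :
    x ∈ closure (J : Set B) := by
  rw [mem_closure_iff_nhds]
  intro t ht
  have hc : Continuous fun y : B => x - y := by fun_prop
  have ht0 : {z | x - z ∈ t} ∈ 𝓝 (0 : B) := by
    have htend : Tendsto (fun z : B => x - z) (𝓝 0) (𝓝 x) := by
      have := hc.tendsto 0
      simpa using this
    exact htend ht
  obtain ⟨K, hKU, hxK⟩ := h _ ht0
  obtain ⟨y, hy, z, hz, hyz⟩ := Submodule.mem_sup.mp hxK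
  refine ⟨y, ?_, hy⟩
  have : x - z ∈ t := hKU hz
  have hxy : x - z = y := by rw [← hyz]; ring
  rwa [hxy] at this

/-- an ideal of the form `J ⊔ K` with `K` open is closed -/
theorem isClosed_sup_of_isOpen (J : Ideal B) {K : Ideal B} (hK : IsOpen (K : Set B)) :
    IsClosed ((J ⊔ K : Ideal B) : Set B) :=
  isClosed_of_isOpen (isOpen_of_le le_sup_right hK)

end MemClosure

end Groth.Agent.Helper5.LT
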