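import Groth.Agent.Helper5.LinTopBasic
import Mathlib.Topology.Algebra.InfiniteSum.Nonarchimedean
import Mathlib.RingTheory.Finiteness.Ideal

set_option autoImplicit false
set_option linter.unusedSectionVars false
universe u v w

namespace Groth.Agent.Helper5.LT

open Filter Topology

/-- A linearly topologized ring is a nonarchimedean additive group. -/
theorem nonarchimedeanAddGroup_of_linear (A : Type u) [CommRing A] [TopologicalSpace A]
    [IsTopologicalRing A] [IsLinearTopology A A] : NonarchimedeanAddGroup A where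
  is_nonarchimedean := by
    intro U hU
    obtain ⟨K, hK, hKU⟩ := exists_open_ideal_subset hU
    exact ⟨⟨K.toAddSubgroup, hK⟩, hKU⟩

/-- If `S` is a set and `U` an open additive subgroup, `closure S ⊆ S + U`. -/
theorem exists_add_of_mem_closure {A : Type u} [CommRing A] [TopologicalSpace A]
    [IsTopologicalRing A] {J K : Ideal A} (hK : IsOpen (K : Set A)) {x : A}
    (hx : x ∈ closure (J : Set A)) : ∃ y ∈ J, ∃ z ∈ K, x = y + z := by
  have hnhd : {y | x - y ∈ K} ∈ 𝓝 x := by
    have hc : Continuous fun y : A => x - y := by fun_prop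
    have ht : Tendsto (fun y : A => x - y) (𝓝 x) (𝓝 0) := by
      have := hc.tendsto x
      simpa using this
    exact ht (hK.mem_nhds K.zero_mem)
  obtain ⟨y, hy, hyJ⟩ := mem_closure_iff_nhds.mp hx _ hnhd
  exact ⟨y, hyJ, x - y, hy, by ring⟩

section Main

variable {A : Type u} [CommRing A] [UniformSpace A] [IsUniformAddGroup A] [IsTopologicalRing A]
  [IsLinearTopology A A] [T2Space A] [CompleteSpace A]

/-- Key lemma: in a complete Hausdorff linearly topologized ring, if `J` is generated by the finite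
family `g` and `K k` is a decreasing family of open ideals forming a basis of neighbourhoods of `0`
such that `closure (J * L k) ⊆ J * L k + closure (J * L (k+1))` where `L k ⊆ K k`
then `closure J ⊆ J`.  We state it in the form needed. -/
theorem closure_subset_of_fg_aux {s : ℕ} (g : Fin s → A) (L : ℕ → Ideal A)
    (hL0 : L 0 = ⊤)
    (hLtend : ∀ U ∈ 𝓝 (0 : A), ∃ m, ∀ k, m ≤ k → (L k : Set A) ⊆ U)
    (hopen : ∀ k, IsOpen (closure ((Ideal.span (Set.range g) * L k : Ideal A) : Set A)))
    (htend : ∀ U ∈ 𝓝 (0 : A), ∃ m, ∀ k, m ≤ k →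
      closure ((Ideal.span (Set.range g) * L k : Ideal A) : Set A) ⊆ U) :
    closure ((Ideal.span (Set.range g) : Ideal A) : Set A) ⊆ (Ideal.span (Set.range g) : Ideal A) := by
  classical
  have := nonarchimedeanAddGroup_of_linear A
  set J : Ideal A := Ideal.span (Set.range g) with hJ
  intro x hx
  let P : ℕ → A → Prop := fun k y => y ∈ closure ((J * L k : Ideal A) : Set A)
  have step : ∀ k y, P k y → ∃ (a : Fin s → A) (y' : A),
      (∀ i, a i ∈ L k) ∧ P (k + 1) y' ∧ y = (∑ i, g i * a i) + y' := by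
    intro k y hy
    have hopen' : IsOpen (((J * L (k + 1)).closure : Ideal A) : Set A) := hopen (k + 1)
    obtain ⟨z, hz, y', hy', hzy⟩ := exists_add_of_mem_closure hopen' hy
    have hz' : z ∈ L k • Submodule.span A (Set.range g) := by
      have : J * L k = L k • Submodule.span A (Set.range g) := by
        rw [mul_comm]; rfl
      rw [← this]; exact hz
    obtain ⟨c, hc, hcz⟩ := (Submodule.mem_ideal_smul_span_iff_exists_sum (L k) g z).mp hz'
    refine ⟨fun i => c i, y', fun i => hc i, hy', ?_⟩
    rw [hzy, ← hcz]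
    congr 1
    rw [Finsupp.sum_fintype _ _ (by intro i; simp)]
    apply Finset.sum_congr rfl
    intro i _
    simp [mul_comm]
  choose fa fy hfa hfy hfeq using step
  have hx0 : P 0 x := by
    show x ∈ closure ((J * L 0 : Ideal A) : Set A)
    rw [hL0, Ideal.mul_top]; exact hx
  let seq : ∀ k, {y // P k y} := fun k =>
    Nat.rec (motive := fun k => {y // P k y}) ⟨x, hx0⟩ (fun k p => ⟨fy k p.1 p.2, hfy k p.1 p.2⟩) k
  let y : ℕ → A := fun k => (seq k).1
  let a : ℕ → Fin s → A := fun k => fa k (seq k).1 (seq k).2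
  have hy0 : y 0 = x := rfl
  have hstep : ∀ k, y k = (∑ i, g i * a k i) + y (k + 1) := fun k => hfeq k (seq k).1 (seq k).2
  have ha : ∀ k i, a k i ∈ L k := fun k i => hfa k (seq k).1 (seq k).2 i
  have hyP : ∀ k, P k (y k) := fun k => (seq k).2
  -- telescoping
  have htel : ∀ k, x = (∑ j ∈ Finset.range k, ∑ i, g i * a j i) + y k := by
    intro k
    induction k with
    | zero => simp [hy0]
    | succ k ih =>
      rw [Finset.sum_range_succ, add_assoc, ← hstep k]
      exact ih
  -- y k → 0
  have hy_tend : Tendsto y atTop (𝓝 0) := by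
    rw [tendsto_def]
    intro U hU
    obtain ⟨m, hm⟩ := htend U hU
    rw [mem_atTop_sets]
    exact ⟨m, fun k hk => hm k hk (hyP k)⟩
  -- summability
  have hsum : ∀ i, Summable (fun k => a k i) := by
    intro i
    apply NonarchimedeanAddGroup.summable_of_tendsto_cofinite_zero
    rw [Nat.cofinite_eq_atTop, tendsto_def]
    intro U hU
    obtain ⟨m, hm⟩ := hLtend U hU
    rw [mem_atTop_sets]
    exact ⟨m, fun k hk => hm k hk (ha k i)⟩
  let b : Fin s → A := fun i => ∑' k, a k i
  have hb : ∀ i, HasSum (fun k => a k i) (b i) := fun i => (hsum i).hasSum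
  have hb2 : HasSum (fun k => ∑ i, g i * a k i) (∑ i, g i * b i) := by
    apply hasSum_sum
    intro i _
    exact (hb i).mul_left (g i)
  have h1 : Tendsto (fun k => ∑ j ∈ Finset.range k, ∑ i, g i * a j i) atTop (𝓝 (∑ i, g i * b i)) :=
    hb2.tendsto_sum_nat
  have h2 : Tendsto (fun k => ∑ j ∈ Finset.range k, ∑ i, g i * a j i) atTop (𝓝 x) := by
    have : (fun k => ∑ j ∈ Finset.range k, ∑ i, g i * a j i) = fun k => x - y k := by
      funext k
      have := htel k
      rw [eq_sub_iff_add_eq]; exact this.symm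
    rw [this]
    have := (tendsto_const_nhds (x := x)).sub hy_tend
    simpa using this
  have hxeq : x = ∑ i, g i * b i := tendsto_nhds_unique h2 h1
  rw [hxeq]
  refine Submodule.sum_mem _ (fun i _ => ?_)
  exact Ideal.mul_mem_right _ _ (Ideal.subset_span ⟨i, rfl⟩)

/-- In a complete Hausdorff linearly topologized ring, if `I` is finitely generated, all
`closure (I ^ n)` are open and they form a basis of neighbourhoods of `0`, then every `I ^ n` is
closed. -/
theorem closure_pow_subset_of_fg (I : Ideal A) (hfg : I.FG)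
    (hopen : ∀ n : ℕ, IsOpen (closure ((I ^ n : Ideal A) : Set A)))
    (hbasis : ∀ U ∈ 𝓝 (0 : A), ∃ n : ℕ, closure ((I ^ n : Ideal A) : Set A) ⊆ U) (n : ℕ) :
    closure ((I ^ n : Ideal A) : Set A) ⊆ (I ^ n : Ideal A) := by
  have hfgn : (I ^ n).FG := hfg.pow
  obtain ⟨S, hS⟩ := hfgn
  -- enumerate S
  let e := S.equivFin
  let g : Fin S.card → A := fun i => (e.symm i : A)
  have hg : Set.range g = (S : Set A) := by
    ext z
    constructor
    · rintro ⟨i, rfl⟩; exact (e.symm i).2
    · intro hz; exact ⟨e ⟨z, hz⟩, by simp [g]⟩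
  have hJ : Ideal.span (Set.range g) = I ^ n := by rw [hg]; exact hS
  have hmono : ∀ {k m : ℕ}, m ≤ k → closure ((I ^ k : Ideal A) : Set A) ⊆ closure ((I ^ m : Ideal A) : Set A) :=
    fun h => closure_mono (Ideal.pow_le_pow_right h)
  have := closure_subset_of_fg_aux g (fun k => I ^ k) (by simp) ?_ ?_ ?_
  · rw [hJ] at this; exact this
  · intro U hU
    obtain ⟨m, hm⟩ := hbasis U hU
    exact ⟨m, fun k hk => (subset_closure.trans (hmono hk)).trans hm⟩
  · intro k
    rw [hJ, ← pow_add]; exact hopen _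
  · intro U hU
    obtain ⟨m, hm⟩ := hbasis U hU
    refine ⟨m, fun k hk => ?_⟩
    rw [hJ, ← pow_add]
    exact (hmono (by omega : m ≤ n + k)).trans hm

theorem isAdic_of_fg_of_closure_pow_basis (I : Ideal A) (hfg : I.FG)
    (hopen : ∀ n : ℕ, IsOpen (closure ((I ^ n : Ideal A) : Set A)))
    (hbasis : ∀ U ∈ 𝓝 (0 : A), ∃ n : ℕ, closure ((I ^ n : Ideal A) : Set A) ⊆ U) :
    IsAdic I := by
  rw [isAdic_iff]
  have hcl : ∀ n, closure ((I ^ n : Ideal A) : Set A) = (I ^ n : Ideal A) := fun n =>
    subset_antisymm (closure_pow_subset_of_fg I hfg hopen hbasis n) subset_closure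
  refine ⟨fun n => ?_, fun U hU => ?_⟩
  · rw [← hcl n]; exact hopen n
  · obtain ⟨n, hn⟩ := hbasis U hU
    exact ⟨n, subset_closure.trans hn⟩

end Main

end Groth.Agent.Helper5.LT
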