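import Groth.Agent.Helper5.LinTopBasic
import Mathlib.Topology.Algebra.UniformRing

set_option autoImplicit false
set_option linter.unusedSectionVars false
universe u v w

namespace Groth.Agent.Helper5.LT

open Filter Topology UniformSpace

section Completion

variable {A : Type u} [CommRing A] [UniformSpace A] [IsUniformAddGroup A] [IsTopologicalRing A]

local notation "ι" => (UniformSpace.Completion.coeRingHom : A →+* UniformSpace.Completion A)

theorem coeRingHom_apply (a : A) : ι a = (a : Completion A) := rfl

/-- the closure of the extension of an ideal to the completion is the closure of its image -/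
theorem closure_map_coe (I : Ideal A) :
    (((I.map ι).closure : Ideal (Completion A)) : Set (Completion A)) =
      closure ((fun a : A => (a : Completion A)) '' (I : Set A)) := by
  apply subset_antisymm
  · -- build an ideal with carrier closure (ι '' I)
    let K : Ideal (Completion A) :=
      { carrier := closure ((fun a : A => (a : Completion A)) '' (I : Set A))
        add_mem' := by
          intro x y hx hy
          refine map_mem_closure₂ continuous_add hx hy ?_
          rintro _ ⟨a, ha, rfl⟩ _ ⟨b, hb, rfl⟩
          exact ⟨a + b, I.add_mem ha hb, by simp [Completion.coe_add]⟩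
        zero_mem' := subset_closure ⟨0, I.zero_mem, Completion.coe_zero⟩
        smul_mem' := by
          intro c x hx
          have hc : c ∈ closure (Set.range (fun a : A => (a : Completion A))) := by
            rw [Completion.denseRange_coe.closure_range]; trivial
          refine map_mem_closure₂ continuous_mul hc hx ?_
          rintro _ ⟨a, rfl⟩ _ ⟨b, hb, rfl⟩
          exact ⟨a * b, I.mul_mem_left a hb, by simp [Completion.coe_mul]⟩ }
    have hK : IsClosed (K : Set (Completion A)) := isClosed_closure
    have hle : I.map ι ≤ K := by
      rw [Ideal.map_le_iff_le_comap]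
      intro a ha
      exact subset_closure ⟨a, ha, rfl⟩
    exact closure_minimal hle hK
  · apply closure_mono
    rintro _ ⟨a, ha, rfl⟩
    exact Ideal.mem_map_of_mem ι ha

theorem closure_image_coe_mem_nhds {I : Ideal A} (hI : IsOpen (I : Set A)) :
    closure ((fun a : A => (a : Completion A)) '' (I : Set A)) ∈ 𝓝 (0 : Completion A) := by
  have := Completion.isDenseInducing_coe.closure_image_mem_nhds (hI.mem_nhds I.zero_mem)
  rw [Completion.coe_zero] at this
  exact this

theorem isOpen_closure_map_coe {I : Ideal A} (hI : IsOpen (I : Set A)) :
    IsOpen (closure ((I.map ι : Ideal (Completion A)) : Set (Completion A))) := by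
  have h := closure_map_coe I
  have hmem : (((I.map ι).closure : Ideal (Completion A)) : Set (Completion A)) ∈ 𝓝 (0 : Completion A) := by
    rw [h]; exact closure_image_coe_mem_nhds hI
  exact isOpen_of_subset hmem (subset_refl _)

variable [IsLinearTopology A A]

theorem exists_open_ideal_closure_map_coe_subset {U : Set (Completion A)}
    (hU : U ∈ 𝓝 (0 : Completion A)) :
    ∃ I : Ideal A, IsOpen (I : Set A) ∧
      closure ((I.map ι : Ideal (Completion A)) : Set (Completion A)) ⊆ U := by
  obtain ⟨V, hV, hVc, hVU⟩ := exists_mem_nhds_isClosed_subset hU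
  have hpre : (fun a : A => (a : Completion A)) ⁻¹' V ∈ 𝓝 (0 : A) := by
    have hc : Continuous (fun a : A => (a : Completion A)) := Completion.continuous_coe A
    have := hc.tendsto 0
    rw [Completion.coe_zero] at this
    exact this hV
  obtain ⟨I, hI, hIV⟩ := exists_open_ideal_subset hpre
  refine ⟨I, hI, ?_⟩
  have h := closure_map_coe I
  have : closure ((I.map ι : Ideal (Completion A)) : Set (Completion A)) =
      closure ((fun a : A => (a : Completion A)) '' (I : Set A)) := h
  rw [this]
  refine subset_trans (closure_minimal ?_ hVc) hVU
  rintro _ ⟨a, ha, rfl⟩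
  exact hIV ha

theorem isTaut_coe : LinTop.IsTaut ι :=
  ⟨Completion.continuous_coeRingHom, fun _ hI => isOpen_closure_map_coe hI,
    fun _ hU => exists_open_ideal_closure_map_coe_subset hU⟩

theorem isLinearTopology_completion : IsLinearTopology (Completion A) (Completion A) := by
  rw [isLinearTopology_iff_hasBasis_open_ideal]
  constructor
  intro U
  constructor
  · intro hU
    obtain ⟨I, hI, hIU⟩ := exists_open_ideal_closure_map_coe_subset hU
    exact ⟨(I.map ι).closure, isOpen_closure_map_coe hI, hIU⟩
  · rintro ⟨K, hK, hKU⟩
    exact Filter.mem_of_superset (hK.mem_nhds K.zero_mem) hKU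

end Completion

section Transfer

variable {A : Type u} [CommRing A] [TopologicalSpace A] [IsTopologicalRing A] [IsLinearTopology A A]
variable {B : Type v} [CommRing B] [TopologicalSpace B] [IsTopologicalRing B] [IsLinearTopology B B]

theorem isWeaklyPreadic_of_isTaut (φ : A →+* B) (hφ : LinTop.IsTaut φ)
    (hA : LinTop.IsWeaklyPreadic A) : LinTop.IsWeaklyPreadic B := by
  obtain ⟨-, I, hIo, hIb⟩ := hA
  refine ⟨inferInstance, I.map φ, ?_, ?_⟩
  · intro n
    rw [← Ideal.map_pow]
    have h1 := hφ.2.1 ((I ^ n).closure) (hIo n)
    have h2 := closure_map_closure φ hφ.1 (I ^ n)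
    have h3 : closure ((((I ^ n).closure).map φ : Ideal B) : Set B)
        = closure (((I ^ n).map φ : Ideal B) : Set B) :=
      congrArg (fun J : Ideal B => (J : Set B)) h2
    rw [← h3]
    exact h1
  · intro U hU
    obtain ⟨I', hI', hI'U⟩ := hφ.2.2 U hU
    obtain ⟨n, hn⟩ := hIb _ (hI'.mem_nhds I'.zero_mem)
    refine ⟨n, subset_trans ?_ hI'U⟩
    rw [← Ideal.map_pow]
    apply closure_mono
    apply Ideal.map_mono
    exact fun x hx => hn (subset_closure hx)

end Transfer

end Groth.Agent.Helper5.LT
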