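import Groth.Agent.Helper5.LinTopBasic
import Groth.Agent.Helper5.LinTopComplete

set_option autoImplicit false
set_option linter.unusedSectionVars false
universe u v w

namespace Groth.Agent.Helper5.LT

open Filter Topology

theorem comap_map_eq_self_of_ringHom_faithfullyFlat {R S : Type*} [CommRing R] [CommRing S]
    {f : R →+* S} (hf : f.FaithfullyFlat) (I : Ideal R) : (I.map f).comap f = I := by
  algebraize [f]
  exact Ideal.comap_map_eq_self_of_faithfullyFlat I

section

variable {A : Type u} [CommRing A] [TopologicalSpace A] [IsTopologicalRing A]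
variable {B : Type v} [CommRing B] [TopologicalSpace B] [IsTopologicalRing B]

theorem mem_sup_of_map_mem (φ : A →+* B) (hφ : LinTop.IsTautFFlat φ) {I' : Ideal A}
    (hI' : IsOpen (I' : Set A)) (K : Ideal A) {x : A}
    (hx : φ x ∈ K.map φ ⊔ (I'.map φ).closure) : x ∈ K ⊔ I' := by
  set d := LinTop.descentMap φ I' with hd
  set mk := Ideal.Quotient.mk I' with hmk
  set mk' := Ideal.Quotient.mk ((I'.map φ).closure) with hmk'
  have hcomm : d.comp mk = mk'.comp φ := by
    ext a
    rfl
  have h1 : mk' (φ x) ∈ (K.map φ).map mk' := by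
    have : mk' (φ x) ∈ (K.map φ ⊔ (I'.map φ).closure).map mk' := Ideal.mem_map_of_mem mk' hx
    rw [Ideal.map_sup] at this
    have hbot : ((I'.map φ).closure).map mk' = ⊥ := by
      rw [hmk', Ideal.map_quotient_self]
    rwa [hbot, sup_bot_eq] at this
  have h2 : (K.map φ).map mk' = (K.map mk).map d := by
    rw [Ideal.map_map, Ideal.map_map, hcomm]
  have h3 : d (mk x) ∈ (K.map mk).map d := by
    rw [← h2]
    have : d (mk x) = mk' (φ x) := by
      have := congrArg (fun f : A →+* _ => f x) hcomm
      simpa using this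
    rw [this]; exact h1
  have h4 : mk x ∈ ((K.map mk).map d).comap d := h3
  rw [comap_map_eq_self_of_ringHom_faithfullyFlat (hφ.2 I' hI')] at h4
  have h5 : x ∈ (K.map mk).comap mk := h4
  rw [Ideal.comap_map_of_surjective mk Ideal.Quotient.mk_surjective] at h5
  have h6 : (⊥ : Ideal (A ⧸ I')).comap mk = I' := by
    rw [← RingHom.ker_eq_comap_bot, hmk, Ideal.mk_ker]
  rwa [h6] at h5

variable [IsLinearTopology A A]

theorem comap_closure_map_eq_closure (φ : A →+* B) (hφ : LinTop.IsTautFFlat φ) (K : Ideal A) :
    (K.map φ).closure.comap φ = K.closure := by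
  apply le_antisymm
  · intro x hx
    have hx' : φ x ∈ closure ((K.map φ : Ideal B) : Set B) := hx
    apply mem_closure_of_forall_mem_sup
    intro U hU
    obtain ⟨I', hI', hI'U⟩ := exists_open_ideal_subset hU
    refine ⟨I', hI'U, ?_⟩
    have hJ' : IsOpen (((I'.map φ).closure : Ideal B) : Set B) := hφ.1.2.1 I' hI'
    obtain ⟨y, hy, z, hz, hyz⟩ := exists_add_of_mem_closure hJ' hx'
    apply mem_sup_of_map_mem φ hφ hI' K
    rw [hyz]
    exact Submodule.add_mem_sup hy hz
  · have := map_closure_le φ hφ.1.1 K
    exact Ideal.map_le_iff_le_comap.mp this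

end

end Groth.Agent.Helper5.LT
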