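import Groth.Agent.Helper5.LinTopComplete
import Groth.Agent.Helper5.LinTopCompletion

set_option autoImplicit false
set_option linter.unusedSectionVars false
universe u v w

namespace Groth.Agent.Helper5.LT

open Filter Topology

/-- If `S` is a set, `V` a neighbourhood of `0` in a topological additive group and
`b ∈ closure S`, then `b = s + v` with `s ∈ S` and `v ∈ V`. -/
theorem exists_add_of_mem_closure_of_mem_nhds {G : Type*} [AddCommGroup G] [TopologicalSpace G]
    [IsTopologicalAddGroup G] {S V : Set G} (hV : V ∈ 𝓝 (0 : G)) {b : G} (hb : b ∈ closure S) :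
    ∃ s ∈ S, ∃ v ∈ V, b = s + v := by
  have hnhd : {y | b - y ∈ V} ∈ 𝓝 b := by
    have hc : Continuous fun y : G => b - y := by fun_prop
    have ht : Tendsto (fun y : G => b - y) (𝓝 b) (𝓝 0) := by
      have := hc.tendsto b
      simpa using this
    exact ht hV
  obtain ⟨y, hy, hyS⟩ := mem_closure_iff_nhds.mp hb _ hnhd
  exact ⟨y, hyS, b - y, hy, by abel⟩

section OpenMapping

variable {A : Type u} [CommRing A] [UniformSpace A] [IsUniformAddGroup A] [IsTopologicalRing A]
  [IsLinearTopology A A] [T2Space A] [CompleteSpace A]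
variable {B : Type v} [CommRing B] [TopologicalSpace B] [IsTopologicalRing B] [T2Space B]

/-- Open mapping principle: if `A` is complete, Hausdorff, linearly topologized with a countable
basis, and `φ : A → B` is continuous such that the closure of the image of every open ideal is a
neighbourhood of zero, then the image of every open ideal is closed. -/
theorem closure_image_subset_image (hA : (𝓝 (0 : A)).IsCountablyGenerated)
    (φ : A →+* B) (hφ : Continuous φ)
    (H : ∀ I : Ideal A, IsOpen (I : Set A) → closure (φ '' (I : Set A)) ∈ 𝓝 (0 : B))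
    (I : Ideal A) (hI : IsOpen (I : Set A)) :
    closure (φ '' (I : Set A)) ⊆ φ '' (I : Set A) := by
  classical
  have hna := nonarchimedeanAddGroup_of_linear A
  obtain ⟨x, hx, hbasis⟩ :=
    (IsLinearTopology.hasBasis_open_ideal (R := A)).exists_antitone_subbasis
  let M : ℕ → Ideal A := fun k => I ⊓ x k
  have hMo : ∀ k, IsOpen ((M k : Ideal A) : Set A) := fun k => hI.inter (hx k)
  have hMI : ∀ k, M k ≤ I := fun k => inf_le_left
  have hMtend : ∀ U ∈ 𝓝 (0 : A), ∃ m, ∀ k, m ≤ k → (M k : Set A) ⊆ U := by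
    intro U hU
    obtain ⟨m, -, hm⟩ := hbasis.1.mem_iff.mp hU
    refine ⟨m, fun k hk => ?_⟩
    intro a ha
    exact hm (hbasis.2 hk ha.2)
  intro b hb
  let P : ℕ → B → Prop := fun k y => y ∈ closure (φ '' (M k : Set A))
  have step : ∀ k y, P k y → ∃ (a : A) (y' : B), a ∈ M k ∧ P (k + 1) y' ∧ y = φ a + y' := by
    intro k y hy
    obtain ⟨s, ⟨a, ha, rfl⟩, v, hv, hsv⟩ :=
      exists_add_of_mem_closure_of_mem_nhds (H (M (k + 1)) (hMo (k + 1))) hy
    exact ⟨a, v, ha, hv, hsv⟩
  obtain ⟨s₀, ⟨a₀, ha₀, rfl⟩, y₀, hy₀, hb₀⟩ :=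
    exists_add_of_mem_closure_of_mem_nhds (H (M 0) (hMo 0)) hb
  choose fa fy hfa hfy hfeq using step
  let seq : ∀ k, {y // P k y} := fun k =>
    Nat.rec (motive := fun k => {y // P k y}) ⟨y₀, hy₀⟩ (fun k p => ⟨fy k p.1 p.2, hfy k p.1 p.2⟩) k
  let y : ℕ → B := fun k => (seq k).1
  let a : ℕ → A := fun k => fa k (seq k).1 (seq k).2
  have hy0 : y 0 = y₀ := rfl
  have hstep : ∀ k, y k = φ (a k) + y (k + 1) := fun k => hfeq k (seq k).1 (seq k).2
  have ha : ∀ k, a k ∈ M k := fun k => hfa k (seq k).1 (seq k).2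
  have hyP : ∀ k, P k (y k) := fun k => (seq k).2
  have htel : ∀ k, y₀ = φ (∑ j ∈ Finset.range k, a j) + y k := by
    intro k
    induction k with
    | zero => simp [hy0]
    | succ k ih =>
      rw [Finset.sum_range_succ, map_add, add_assoc, ← hstep k]
      exact ih
  -- y k → 0
  have hy_tend : Tendsto y atTop (𝓝 0) := by
    rw [tendsto_def]
    intro U hU
    obtain ⟨V, hV, hVc, hVU⟩ := exists_mem_nhds_isClosed_subset hU
    have hpre : φ ⁻¹' V ∈ 𝓝 (0 : A) := by
      have := hφ.tendsto 0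
      rw [map_zero] at this
      exact this hV
    obtain ⟨m, hm⟩ := hMtend _ hpre
    rw [mem_atTop_sets]
    refine ⟨m, fun k hk => hVU ?_⟩
    have : closure (φ '' (M k : Set A)) ⊆ V := by
      apply closure_minimal _ hVc
      rintro _ ⟨c, hc, rfl⟩
      exact hm k hk hc
    exact this (hyP k)
  have hsum : Summable a := by
    apply NonarchimedeanAddGroup.summable_of_tendsto_cofinite_zero
    rw [Nat.cofinite_eq_atTop, tendsto_def]
    intro U hU
    obtain ⟨m, hm⟩ := hMtend U hU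
    rw [mem_atTop_sets]
    exact ⟨m, fun k hk => hm k hk (ha k)⟩
  set s := ∑' k, a k with hs
  have hs_tend : Tendsto (fun k => ∑ j ∈ Finset.range k, a j) atTop (𝓝 s) :=
    hsum.hasSum.tendsto_sum_nat
  have hsI : s ∈ I := by
    have hcl : IsClosed (I : Set A) := isClosed_of_isOpen hI
    refine hcl.mem_of_tendsto hs_tend (Filter.Eventually.of_forall fun k => ?_)
    exact I.sum_mem (fun j _ => hMI j (ha j))
  have h1 : Tendsto (fun k => φ (∑ j ∈ Finset.range k, a j)) atTop (𝓝 (φ s)) :=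
    (hφ.tendsto s).comp hs_tend
  have h2 : Tendsto (fun k => φ (∑ j ∈ Finset.range k, a j)) atTop (𝓝 y₀) := by
    have : (fun k => φ (∑ j ∈ Finset.range k, a j)) = fun k => y₀ - y k := by
      funext k
      have := htel k
      rw [eq_sub_iff_add_eq]; exact this.symm
    rw [this]
    have := (tendsto_const_nhds (x := y₀)).sub hy_tend
    simpa using this
  have hy₀eq : y₀ = φ s := tendsto_nhds_unique h2 h1
  refine ⟨a₀ + s, I.add_mem ha₀ hsI, ?_⟩
  rw [map_add, hb₀, hy₀eq]

theorem isOpen_image_of_isOpen (hA : (𝓝 (0 : A)).IsCountablyGenerated)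
    (φ : A →+* B) (hφ : Continuous φ)
    (H : ∀ I : Ideal A, IsOpen (I : Set A) → closure (φ '' (I : Set A)) ∈ 𝓝 (0 : B))
    (I : Ideal A) (hI : IsOpen (I : Set A)) : IsOpen (φ '' (I : Set A)) := by
  have h1 : φ '' (I : Set A) ∈ 𝓝 (0 : B) :=
    Filter.mem_of_superset (H I hI) (closure_image_subset_image hA φ hφ H I hI)
  have : φ '' (I : Set A) = ((I.toAddSubgroup.map φ.toAddMonoidHom : AddSubgroup B) : Set B) := by
    ext; simp
  rw [this]
  apply AddSubgroup.isOpen_of_mem_nhds (g := 0)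
  rw [← this]; exact h1

theorem isOpenMap_of_closure_image_mem_nhds (hA : (𝓝 (0 : A)).IsCountablyGenerated)
    (φ : A →+* B) (hφ : Continuous φ)
    (H : ∀ I : Ideal A, IsOpen (I : Set A) → closure (φ '' (I : Set A)) ∈ 𝓝 (0 : B)) :
    IsOpenMap φ := by
  intro U hU
  rw [isOpen_iff_mem_nhds]
  rintro _ ⟨a, ha, rfl⟩
  -- a + I ⊆ U
  have h0 : {z | a + z ∈ U} ∈ 𝓝 (0 : A) := by
    have hc : Continuous fun z : A => a + z := by fun_prop
    have := hc.tendsto 0
    rw [add_zero] at this
    exact this (hU.mem_nhds ha)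
  obtain ⟨I, hI, hIU⟩ := exists_open_ideal_subset h0
  have hopen := isOpen_image_of_isOpen hA φ hφ H I hI
  have h1 : (fun b => φ a + b) '' (φ '' (I : Set A)) ∈ 𝓝 (φ a) := by
    have hh : (fun b => φ a + b) '' (φ '' (I : Set A)) = (Homeomorph.addLeft (φ a)) '' (φ '' (I : Set A)) := rfl
    rw [hh]
    have : IsOpen ((Homeomorph.addLeft (φ a)) '' (φ '' (I : Set A))) :=
      (Homeomorph.addLeft (φ a)).isOpenMap _ hopen
    exact this.mem_nhds ⟨0, ⟨0, I.zero_mem, map_zero φ⟩, by simp⟩
  refine Filter.mem_of_superset h1 ?_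
  rintro _ ⟨_, ⟨z, hz, rfl⟩, rfl⟩
  exact ⟨a + z, hIU hz, by simp⟩

theorem surjective_of_denseRange (hA : (𝓝 (0 : A)).IsCountablyGenerated)
    (φ : A →+* B) (hφ : Continuous φ)
    (H : ∀ I : Ideal A, IsOpen (I : Set A) → closure (φ '' (I : Set A)) ∈ 𝓝 (0 : B))
    (hd : DenseRange φ) : Function.Surjective φ := by
  intro b
  have h1 := closure_image_subset_image hA φ hφ H ⊤ (by simp)
  have h2 : b ∈ closure (φ '' ((⊤ : Ideal A) : Set A)) := by
    have : φ '' ((⊤ : Ideal A) : Set A) = Set.range φ := by simp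
    rw [this]; exact hd b
  obtain ⟨a, -, rfl⟩ := h1 h2
  exact ⟨a, rfl⟩

end OpenMapping

end Groth.Agent.Helper5.LT
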