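import Groth.Agent.Helper5.UCat7

set_option autoImplicit false
universe u
open AlgebraicGeometry CategoryTheory TopologicalSpace

namespace Groth.Agent.Helper5.LocDE

open Groth.Agent.Helper5.DimFormula

/-- Transcendence degree is invariant under localising both rings of an extension of domains. -/
theorem trdeg_localization (R S : Type u) [CommRing R] [CommRing S] [IsDomain R] [IsDomain S]
    [Algebra R S] [FaithfulSMul R S]
    (R' S' : Type u) [CommRing R'] [CommRing S'] [IsDomain R'] [IsDomain S'] [Algebra R R']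
    [Algebra S S'] [Algebra R' S'] [Algebra R S'] [IsScalarTower R R' S'] [IsScalarTower R S S']
    [FaithfulSMul R' S'] [FaithfulSMul R R'] [FaithfulSMul S S'] (M : Submonoid R)
    [IsLocalization M R'] (N : Submonoid S) [IsLocalization N S'] :
    Algebra.trdeg R' S' = Algebra.trdeg R S := by
  have h1 := trdeg_add_eq R R' (A := S')
  have h2 := trdeg_add_eq R S (A := S')
  have a1 : Algebra.IsAlgebraic R R' := IsLocalization.isAlgebraic R' M
  have a2 : Algebra.IsAlgebraic S S' := IsLocalization.isAlgebraic S' N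
  rw [trdeg_eq_zero (R := R) (A := R'), zero_add] at h1
  rw [trdeg_eq_zero (R := S) (A := S'), add_zero] at h2
  rw [h1, h2]

theorem dimension_equality_local (R : Type u) [CommRing R] [IsDomain R] [IsNoetherianRing R]
    (S : Type u) [CommRing S] [IsDomain S] [Algebra R S] [FaithfulSMul R S]
    [Algebra.FiniteType R S] (p : Ideal R) [p.IsPrime] (q : Ideal S) [q.IsPrime] [q.LiesOver p]
    (hloc : CAlg.IsUniversallyCatenary (Localization.AtPrime p)) :
    (q.height : Cardinal.{u}) + Algebra.trdeg (R ⧸ p) (S ⧸ q) =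
      (p.height : Cardinal.{u}) + Algebra.trdeg R S := by
  let Rp := Localization.AtPrime p
  let M : Submonoid S := Algebra.algebraMapSubmonoid S p.primeCompl
  let Sp := Localization M
  have hinj : Function.Injective (algebraMap R S) := FaithfulSMul.algebraMap_injective R S
  have hM : M ≤ nonZeroDivisors S := by
    rintro _ ⟨r, hr, rfl⟩
    refine mem_nonZeroDivisors_of_ne_zero ?_
    intro h0
    have : r = 0 := hinj (by rw [h0, map_zero])
    exact hr (by rw [this]; exact p.zero_mem)
  have hdomSp : IsDomain Sp := IsLocalization.isDomain_localization hM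
  have hdomRp : IsDomain Rp := IsLocalization.isDomain_localization p.primeCompl_le_nonZeroDivisors
  have hfaith : FaithfulSMul Rp Sp :=
    (faithfulSMul_iff_algebraMap_injective _ _).2 (localizationAlgebra_injective Rp Sp hinj)
  have hft : Algebra.FiniteType Rp Sp := by
    rw [← RingHom.finiteType_algebraMap]
    have hloc' : IsLocalization (Submonoid.map (algebraMap R S) p.primeCompl) Sp :=
      inferInstanceAs (IsLocalization M Sp)
    have := RingHom.finiteType_localizationPreserves (algebraMap R S) p.primeCompl Rp Sp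
      (RingHom.finiteType_algebraMap.2 inferInstance)
    exact this
  have hdisj : Disjoint (M : Set S) (q : Set S) := by
    rw [Set.disjoint_left]
    rintro _ ⟨r, hr, rfl⟩ hq
    apply hr
    have : r ∈ q.under R := hq
    rwa [← Ideal.LiesOver.over (P := q) (p := p)] at this
  let p' : Ideal Rp := p.map (algebraMap R Rp)
  let q' : Ideal Sp := q.map (algebraMap S Sp)
  have hp' : p'.IsPrime := IsLocalization.isPrime_of_isPrime_disjoint p.primeCompl Rp p inferInstance
    (by rw [Set.disjoint_left]; intro x hx hx'; exact hx hx')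
  have hq' : q'.IsPrime := IsLocalization.isPrime_of_isPrime_disjoint M Sp q inferInstance hdisj
  have hhq : q'.height = q.height := IsLocalization.height_map_of_disjoint M q hdisj
  have hhp : p'.height = p.height := IsLocalization.height_map_of_disjoint p.primeCompl p
    (by rw [Set.disjoint_left]; intro x hx hx'; exact hx hx')
  have hpmax : p' = IsLocalRing.maximalIdeal Rp := Localization.AtPrime.map_eq_maximalIdeal
  have hlo : q'.LiesOver p' := by
    constructor
    have hmax : p'.IsMaximal := by rw [hpmax]; infer_instance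
    refine hmax.eq_of_le (Ideal.comap_isPrime (algebraMap Rp Sp) q').ne_top ?_
    rw [Ideal.under_def]
    show p.map (algebraMap R Rp) ≤ _
    rw [Ideal.map_le_iff_le_comap, Ideal.comap_comap, ← IsScalarTower.algebraMap_eq,
      IsScalarTower.algebraMap_eq R S Sp, ← Ideal.comap_comap]
    have h1 : q ≤ Ideal.comap (algebraMap S Sp) q' := Ideal.le_comap_map
    have h2 : p = Ideal.comap (algebraMap R S) q := Ideal.LiesOver.over (P := q) (p := p)
    rw [h2]
    exact Ideal.comap_mono h1
  have E := dimension_equality Rp hloc Sp p' q'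
  have hfR : FaithfulSMul R Rp := (faithfulSMul_iff_algebraMap_injective _ _).2
    (IsLocalization.injective Rp p.primeCompl_le_nonZeroDivisors)
  have hfS : FaithfulSMul S Sp := (faithfulSMul_iff_algebraMap_injective _ _).2
    (IsLocalization.injective Sp hM)
  have T3 : Algebra.trdeg Rp Sp = Algebra.trdeg R S :=
    trdeg_localization R S Rp Sp p.primeCompl M
  -- residue fields
  let K := FractionRing (R ⧸ p)
  let L := FractionRing (S ⧸ q)
  have hinjq : Function.Injective (algebraMap (R ⧸ p) (S ⧸ q)) :=
    FaithfulSMul.algebraMap_injective (R ⧸ p) (S ⧸ q)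
  let g : (R ⧸ p) →+* L := (algebraMap (S ⧸ q) L).comp (algebraMap (R ⧸ p) (S ⧸ q))
  have hg : Function.Injective g := (IsFractionRing.injective (S ⧸ q) L).comp hinjq
  let ψ : K →+* L := IsFractionRing.lift hg
  let a : R →+* K := (algebraMap (R ⧸ p) K).comp (Ideal.Quotient.mk p)
  let b : S →+* L := (algebraMap (S ⧸ q) L).comp (Ideal.Quotient.mk q)
  have hcomm : ∀ x, ψ (a x) = b (algebraMap R S x) := by
    intro x
    show ψ (algebraMap (R ⧸ p) K (Ideal.Quotient.mk p x)) = _
    rw [IsFractionRing.lift_algebraMap]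
    rfl
  have ha : RingHom.ker a = p := by
    ext x
    rw [RingHom.mem_ker]
    show algebraMap (R ⧸ p) K (Ideal.Quotient.mk p x) = 0 ↔ _
    rw [map_eq_zero_iff _ (IsFractionRing.injective (R ⧸ p) K), Ideal.Quotient.eq_zero_iff_mem]
  have hb : RingHom.ker b = q := by
    ext x
    rw [RingHom.mem_ker]
    show algebraMap (S ⧸ q) L (Ideal.Quotient.mk q x) = 0 ↔ _
    rw [map_eq_zero_iff _ (IsFractionRing.injective (S ⧸ q) L), Ideal.Quotient.eq_zero_iff_mem]
  have hK : ∀ z : K, ∃ x y : R, a y ≠ 0 ∧ z * a y = a x := by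
    intro z
    obtain ⟨⟨x', y'⟩, hxy⟩ := IsLocalization.surj (nonZeroDivisors (R ⧸ p)) z
    obtain ⟨x, rfl⟩ := Ideal.Quotient.mk_surjective x'
    obtain ⟨y, hy⟩ := Ideal.Quotient.mk_surjective (y' : R ⧸ p)
    refine ⟨x, y, ?_, ?_⟩
    · show algebraMap (R ⧸ p) K (Ideal.Quotient.mk p y) ≠ 0
      rw [hy]
      exact IsLocalization.to_map_ne_zero_of_mem_nonZeroDivisors K le_rfl y'.2
    · show z * algebraMap (R ⧸ p) K (Ideal.Quotient.mk p y) = _
      rw [hy]
      exact hxy
  have hL : ∀ z : L, ∃ x y : S, b y ≠ 0 ∧ z * b y = b x := by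
    intro z
    obtain ⟨⟨x', y'⟩, hxy⟩ := IsLocalization.surj (nonZeroDivisors (S ⧸ q)) z
    obtain ⟨x, rfl⟩ := Ideal.Quotient.mk_surjective x'
    obtain ⟨y, hy⟩ := Ideal.Quotient.mk_surjective (y' : S ⧸ q)
    refine ⟨x, y, ?_, ?_⟩
    · show algebraMap (S ⧸ q) L (Ideal.Quotient.mk q y) ≠ 0
      rw [hy]
      exact IsLocalization.to_map_ne_zero_of_mem_nonZeroDivisors L le_rfl y'.2
    · show z * algebraMap (S ⧸ q) L (Ideal.Quotient.mk q y) = _
      rw [hy]
      exact hxy
  have F1 := trdeg_eq_of_fraction_data p q a b ψ hcomm ha hb hK hL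
  -- the localised maps
  have hua : ∀ y : p.primeCompl, IsUnit (a y) := by
    intro y
    refine IsUnit.mk0 _ ?_
    intro h0
    have : (y : R) ∈ RingHom.ker a := h0
    rw [ha] at this
    exact y.2 this
  have hub : ∀ y : M, IsUnit (b y) := by
    intro y
    refine IsUnit.mk0 _ ?_
    intro h0
    have : (y : S) ∈ RingHom.ker b := h0
    rw [hb] at this
    exact Set.disjoint_left.1 hdisj y.2 this
  let a' : Rp →+* K := IsLocalization.lift hua
  let b' : Sp →+* L := IsLocalization.lift hub
  have ha'c : a'.comp (algebraMap R Rp) = a := IsLocalization.lift_comp hua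
  have hb'c : b'.comp (algebraMap S Sp) = b := IsLocalization.lift_comp hub
  have ha' : RingHom.ker a' = p' := by
    rw [← IsLocalization.map_under p.primeCompl Rp (RingHom.ker a'), Ideal.under_def,
      RingHom.comap_ker, ha'c, ha]
  have hb' : RingHom.ker b' = q' := by
    rw [← IsLocalization.map_under M Sp (RingHom.ker b'), Ideal.under_def,
      RingHom.comap_ker, hb'c, hb]
  have e1a : ∀ t, a' (algebraMap R Rp t) = a t := fun t => IsLocalization.lift_eq hua t
  have e1b : ∀ t, b' (algebraMap S Sp t) = b t := fun t => IsLocalization.lift_eq hub t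
  have hcomm' : ∀ z, ψ (a' z) = b' (algebraMap Rp Sp z) := by
    have : ψ.comp a' = b'.comp (algebraMap Rp Sp) := by
      refine IsLocalization.ringHom_ext p.primeCompl ?_
      ext x
      show ψ (a' (algebraMap R Rp x)) = b' (algebraMap Rp Sp (algebraMap R Rp x))
      rw [e1a x, ← IsScalarTower.algebraMap_apply R Rp Sp, IsScalarTower.algebraMap_apply R S Sp,
        e1b, hcomm]
    intro z
    exact congrArg (fun φ : Rp →+* L => φ z) this
  have hK' : ∀ z : K, ∃ x y : Rp, a' y ≠ 0 ∧ z * a' y = a' x := by
    intro z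
    obtain ⟨x, y, hy, hxy⟩ := hK z
    exact ⟨algebraMap R Rp x, algebraMap R Rp y, by rw [e1a]; exact hy, by rw [e1a, e1a]; exact hxy⟩
  have hL' : ∀ z : L, ∃ x y : Sp, b' y ≠ 0 ∧ z * b' y = b' x := by
    intro z
    obtain ⟨x, y, hy, hxy⟩ := hL z
    exact ⟨algebraMap S Sp x, algebraMap S Sp y, by rw [e1b]; exact hy, by rw [e1b, e1b]; exact hxy⟩
  have F2 := trdeg_eq_of_fraction_data p' q' a' b' ψ hcomm' ha' hb' hK' hL'
  rw [← F2, F1, T3, hhq, hhp] at E
  exact E

end Groth.Agent.Helper5.LocDE
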