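import Groth.Agent.Helper5.LocDE1

set_option autoImplicit false
universe u
open AlgebraicGeometry CategoryTheory TopologicalSpace

namespace Groth.Agent.Helper5.LocDE

open Groth.Agent.Helper5.DimFormula Groth.Agent.Helper5.UCat

/-- If the localisation of `A` at `q` is universally catenary, so is the localisation of `A/p`
at `q/p`. -/
theorem isUniversallyCatenary_localization_quotient {A A' : Type u} [CommRing A] [CommRing A']
    [Algebra A A'] (p q : Ideal A) [p.IsPrime] [q.IsPrime] (hpq : p ≤ q)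
    [IsLocalization.AtPrime A' q] (hA' : CAlg.IsUniversallyCatenary A')
    (qb : Ideal (A ⧸ p)) [qb.IsPrime] (hqb : qb = q.map (Ideal.Quotient.mk p)) :
    CAlg.IsUniversallyCatenary (Localization.AtPrime qb) := by
  let Loc := Localization.AtPrime qb
  let g : A →+* Loc := (algebraMap (A ⧸ p) Loc).comp (Ideal.Quotient.mk p)
  have hmem : ∀ y : A, y ∉ q → Ideal.Quotient.mk p y ∈ qb.primeCompl := by
    intro y hy h
    have h' : Ideal.Quotient.mk p y ∈ q.map (Ideal.Quotient.mk p) := by rw [← hqb]; exact h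
    rw [Ideal.mem_quotient_iff_mem hpq] at h'
    exact hy h'
  have hg : ∀ y : q.primeCompl, IsUnit (g y) := by
    intro y
    exact IsLocalization.map_units Loc (⟨Ideal.Quotient.mk p y, hmem y y.2⟩ : qb.primeCompl)
  let φ : A' →+* Loc := IsLocalization.lift hg
  have hφ : Function.Surjective φ := by
    intro z
    obtain ⟨r, s, rfl⟩ := IsLocalization.exists_mk'_eq qb.primeCompl z
    obtain ⟨r0, rfl⟩ := Ideal.Quotient.mk_surjective r
    obtain ⟨s0, hs0⟩ := Ideal.Quotient.mk_surjective (s : A ⧸ p)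
    have hs0q : s0 ∉ q := by
      intro h
      apply s.2
      rw [← hs0, hqb]
      exact Ideal.mem_map_of_mem _ h
    refine ⟨IsLocalization.mk' A' r0 (⟨s0, hs0q⟩ : q.primeCompl), ?_⟩
    rw [IsLocalization.eq_mk'_iff_mul_eq, ← hs0]
    have h1 : algebraMap (A ⧸ p) Loc (Ideal.Quotient.mk p s0) = φ (algebraMap A A' s0) :=
      (IsLocalization.lift_eq hg s0).symm
    have h2 : algebraMap (A ⧸ p) Loc (Ideal.Quotient.mk p r0) = φ (algebraMap A A' r0) :=
      (IsLocalization.lift_eq hg r0).symm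
    rw [h1, h2, ← map_mul]
    congr 1
    exact IsLocalization.mk'_spec A' r0 (⟨s0, hs0q⟩ : q.primeCompl)
  exact isUniversallyCatenary_of_surjective φ hφ hA'

/-- The dimension formula (with equality) for a morphism locally of finite type to a locally
Noetherian scheme whose local ring at `f x` is universally catenary: for `ξ ⤳ x`,
`codim(x, closure ξ) + trdeg κ(x)/κ(f x) = codim(f x, closure (f ξ)) + trdeg κ(ξ)/κ(f ξ)`. -/
theorem scheme_dimension_equality_local {X S : Scheme.{u}} [IsLocallyNoetherian S] (f : X ⟶ S)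
    [LocallyOfFiniteType f] (x ξ : X)
    (hS : CAlg.IsUniversallyCatenary (S.presheaf.stalk (f x))) (hsp : ξ ⤳ x) :
    ∃ a c n e : ℕ,
      Order.krullDim ↥(Set.Icc x ξ) = a ∧ Order.krullDim ↥(Set.Icc (f x) (f ξ)) = c ∧
      @Algebra.trdeg (S.residueField (f x)) (X.residueField x) _ _
          (f.residueFieldMap x).hom.toAlgebra = n ∧
      @Algebra.trdeg (S.residueField (f ξ)) (X.residueField ξ) _ _
          (f.residueFieldMap ξ).hom.toAlgebra = e ∧
      a + n = c + e := by
  obtain ⟨U, hU, hfxU⟩ : ∃ U : S.Opens, IsAffineOpen U ∧ f x ∈ U := by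
    obtain ⟨_, ⟨U, hU, rfl⟩, hxU, -⟩ :=
      (S.isBasis_affineOpens).exists_subset_of_mem_open (Set.mem_univ (f x)) isOpen_univ
    exact ⟨U, hU, hxU⟩
  obtain ⟨W, hW, hx, e⟩ : ∃ W : X.Opens, IsAffineOpen W ∧ x ∈ W ∧ W ≤ f ⁻¹ᵁ U := by
    obtain ⟨_, ⟨W, hW, rfl⟩, hxW, hsub⟩ :=
      (X.isBasis_affineOpens).exists_subset_of_mem_open (show x ∈ ((f ⁻¹ᵁ U : X.Opens) : Set X)
        from hfxU) (f ⁻¹ᵁ U).isOpen
    exact ⟨W, hW, hxW, hsub⟩
  have hξW : ξ ∈ W := hsp.mem_open W.2 hx
  let A := Γ(S, U)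
  let B := Γ(X, W)
  letI : Algebra A B := (f.appLE U W e).hom.toAlgebra
  have hN : IsNoetherianRing A := IsLocallyNoetherian.component_noetherian ⟨U, hU⟩
  have hft : Algebra.FiniteType A B := f.finiteType_appLE hU hW e
  have hNB : IsNoetherianRing B := Algebra.FiniteType.isNoetherianRing A B
  let Q : Ideal B := (hW.primeIdealOf ⟨x, hx⟩).asIdeal
  let P : Ideal B := (hW.primeIdealOf ⟨ξ, hξW⟩).asIdeal
  let q : Ideal A := (hU.primeIdealOf ⟨f x, e hx⟩).asIdeal
  let p : Ideal A := (hU.primeIdealOf ⟨f ξ, e hξW⟩).asIdeal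
  have hQq : Q.LiesOver q := by
    constructor
    rw [Ideal.under_def]
    exact (congrArg PrimeSpectrum.asIdeal
      (IsAffineOpen.comap_primeIdealOf_appLE U hU W hW e hx)).symm
  have hPp : P.LiesOver p := by
    constructor
    rw [Ideal.under_def]
    exact (congrArg PrimeSpectrum.asIdeal
      (IsAffineOpen.comap_primeIdealOf_appLE U hU W hW e hξW)).symm
  have hPQ : P ≤ Q := by
    have h1 : hW.fromSpec (hW.primeIdealOf ⟨ξ, hξW⟩) ⤳ hW.fromSpec (hW.primeIdealOf ⟨x, hx⟩) := by
      rw [hW.fromSpec_primeIdealOf ⟨ξ, hξW⟩, hW.fromSpec_primeIdealOf ⟨x, hx⟩]; exact hsp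
    rw [hW.fromSpec.isOpenEmbedding.isInducing.specializes_iff] at h1
    exact (PrimeSpectrum.le_iff_specializes _ _).2 h1
  have hpq : p ≤ q := by
    rw [hPp.over, hQq.over]
    exact Ideal.comap_mono hPQ
  -- the quotient domains
  let R := A ⧸ p
  let S' := B ⧸ P
  have hNR0 : IsNoetherianRing R := inferInstance
  have hftR : Algebra.FiniteType R S' := by
    have h1 : Algebra.FiniteType A S' :=
      Algebra.FiniteType.trans hft (Algebra.FiniteType.of_surjective (Algebra.ofId B S')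
        Ideal.Quotient.mk_surjective)
    exact Algebra.FiniteType.of_restrictScalars_finiteType A R S'
  let Qb : Ideal S' := Q.map (Ideal.Quotient.mk P)
  let qb : Ideal R := q.map (Ideal.Quotient.mk p)
  have hQb : Qb.IsPrime := Ideal.map_isPrime_of_surjective Ideal.Quotient.mk_surjective
    (by rw [Ideal.mk_ker]; exact hPQ)
  have hqb : qb.IsPrime := Ideal.map_isPrime_of_surjective Ideal.Quotient.mk_surjective
    (by rw [Ideal.mk_ker]; exact hpq)
  have hlo : Qb.LiesOver qb := by
    constructor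
    ext y
    obtain ⟨y, rfl⟩ := Ideal.Quotient.mk_surjective y
    rw [Ideal.under_def, Ideal.mem_comap]
    show Ideal.Quotient.mk p y ∈ q.map (Ideal.Quotient.mk p) ↔
      Ideal.Quotient.mk P (algebraMap A B y) ∈ Q.map (Ideal.Quotient.mk P)
    rw [Ideal.mem_quotient_iff_mem hpq, Ideal.mem_quotient_iff_mem hPQ, hQq.over]
    rfl
  let _ : Algebra Γ(S, U) (S.presheaf.stalk (f x)) :=
    TopCat.Presheaf.algebra_section_stalk S.presheaf (⟨f x, e hx⟩ : U)
  have hlocst : IsLocalization.AtPrime (S.presheaf.stalk (f x)) q :=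
    hU.isLocalization_stalk ⟨f x, e hx⟩
  have hloc : CAlg.IsUniversallyCatenary (Localization.AtPrime qb) :=
    isUniversallyCatenary_localization_quotient (A' := S.presheaf.stalk (f x)) p q hpq hS qb rfl
  have E := dimension_equality_local R S' qb Qb hloc
  have tξ := chart_trdeg f U hU W hW e ξ hξW p P rfl
  -- the residue field extension at `x`
  have hkerx : RingHom.ker (X.evaluation W x hx).hom = Q := ker_evaluation W hW x hx
  have hkerfx : RingHom.ker (S.evaluation U (f x) (e hx)).hom = q :=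
    ker_evaluation U hU (f x) (e hx)
  let a' : R →+* S.residueField (f x) := Ideal.Quotient.lift p (S.evaluation U (f x) (e hx)).hom
    (fun y hy => by
      have : y ∈ RingHom.ker (S.evaluation U (f x) (e hx)).hom := by rw [hkerfx]; exact hpq hy
      exact this)
  let b' : S' →+* X.residueField x := Ideal.Quotient.lift P (X.evaluation W x hx).hom
    (fun y hy => by
      have : y ∈ RingHom.ker (X.evaluation W x hx).hom := by rw [hkerx]; exact hPQ hy
      exact this)
  have hka : RingHom.ker a' = qb := by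
    ext y
    obtain ⟨y, rfl⟩ := Ideal.Quotient.mk_surjective y
    rw [RingHom.mem_ker]
    show (S.evaluation U (f x) (e hx)).hom y = 0 ↔ _
    rw [← RingHom.mem_ker, hkerfx]
    exact (Ideal.mem_quotient_iff_mem hpq).symm
  have hkb : RingHom.ker b' = Qb := by
    ext y
    obtain ⟨y, rfl⟩ := Ideal.Quotient.mk_surjective y
    rw [RingHom.mem_ker]
    show (X.evaluation W x hx).hom y = 0 ↔ _
    rw [← RingHom.mem_ker, hkerx]
    exact (Ideal.mem_quotient_iff_mem hPQ).symm
  have tx := trdeg_eq_of_fraction_data qb Qb a' b' (f.residueFieldMap x).hom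
    (by
      intro y
      obtain ⟨y, rfl⟩ := Ideal.Quotient.mk_surjective y
      exact evaluation_appLE f U W e x hx y)
    hka hkb
    (by
      intro t
      obtain ⟨y1, y2, h1, h2⟩ := evaluation_fraction U hU (f x) (e hx) t
      exact ⟨Ideal.Quotient.mk p y1, Ideal.Quotient.mk p y2, h1, h2⟩)
    (by
      intro t
      obtain ⟨y1, y2, h1, h2⟩ := evaluation_fraction W hW x hx t
      exact ⟨Ideal.Quotient.mk P y1, Ideal.Quotient.mk P y2, h1, h2⟩)
  have hNR : IsNoetherianRing R := hNR0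
  have hNS' : IsNoetherianRing S' := Algebra.FiniteType.isNoetherianRing R S'
  obtain ⟨a, ha⟩ := ENat.ne_top_iff_exists.1 (Ideal.height_ne_top_of_isPrime (I := Qb))
  obtain ⟨c, hc⟩ := ENat.ne_top_iff_exists.1 (Ideal.height_ne_top_of_isPrime (I := qb))
  obtain ⟨e', he'⟩ := Cardinal.lt_aleph0.1 (trdeg_lt_aleph0_of_finiteType (R := R) (S := S'))
  rw [← ha, ← hc, he'] at E
  simp only [Cardinal.ofENat_nat] at E
  have hfin : Algebra.trdeg (R ⧸ qb) (S' ⧸ Qb) < Cardinal.aleph0 := by
    refine lt_of_le_of_lt (le_add_self (b := (a : Cardinal.{u}))) ?_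
    rw [E]
    exact Cardinal.add_lt_aleph0 Cardinal.natCast_lt_aleph0 Cardinal.natCast_lt_aleph0
  obtain ⟨n, hn⟩ := Cardinal.lt_aleph0.1 hfin
  rw [hn] at E
  refine ⟨a, c, n, e', ?_, ?_, ?_, ?_, ?_⟩
  · rw [krullDim_Icc_eq_height W hW x ξ hx hξW hsp]
    show ((Qb.height : ℕ∞) : WithBot ℕ∞) = _
    rw [← ha]
    rfl
  · rw [krullDim_Icc_eq_height U hU (f x) (f ξ) (e hx) (e hξW) (hsp.map f.continuous)]
    show ((qb.height : ℕ∞) : WithBot ℕ∞) = _
    rw [← hc]
    rfl
  · rw [tx, hn]
  · rw [tξ, he']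
  · exact_mod_cast E

end Groth.Agent.Helper5.LocDE
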