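import Groth.Agent.Helper5.LocDE2
import Groth.Agent.Helper5.VarDim15

set_option autoImplicit false
universe u
open AlgebraicGeometry CategoryTheory TopologicalSpace

namespace Groth.Agent.Helper5.LocDE

open Groth.Agent.Helper5.DimFormula Groth.Agent.Helper5.UCat

theorem withBot_enat_add_nat_eq (D : WithBot ℕ∞) (n m : ℕ)
    (h : D + (n : WithBot ℕ∞) = (m : WithBot ℕ∞)) : ∃ d : ℕ, D = (d : WithBot ℕ∞) ∧ d + n = m := by
  induction D using WithBot.recBotCoe with
  | bot =>
    exfalso
    rw [WithBot.bot_add] at h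
    exact WithBot.bot_ne_coe h
  | coe D' =>
    induction D' using ENat.recTopCoe with
    | top =>
      exfalso
      have h1 : ((⊤ : ℕ∞) : WithBot ℕ∞) + ((n : ℕ∞) : WithBot ℕ∞) = ((m : ℕ∞) : WithBot ℕ∞) := h
      rw [← WithBot.coe_add, WithBot.coe_eq_coe, top_add] at h1
      exact ENat.top_ne_natCast m h1
    | coe d =>
      refine ⟨d, rfl, ?_⟩
      have h1 : (((d : ℕ∞)) : WithBot ℕ∞) + ((n : ℕ∞) : WithBot ℕ∞) = ((m : ℕ∞) : WithBot ℕ∞) := h
      rw [← WithBot.coe_add, WithBot.coe_eq_coe] at h1
      exact_mod_cast h1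

/-- EGA IV 13.3.?: for a dominant morphism of irreducible schemes whose fibre through `x` has the
generic dimension at `x`, with `O_{Y,f x}` universally catenary,
`dim O_{X,x} = dim O_{Y,y} + dim O_{X_y,x}`. -/
theorem dim_stalk_eq_of_fibreDim_generic {X Y : Scheme.{u}} [IrreducibleSpace X]
    [IrreducibleSpace Y] [IsLocallyNoetherian Y] (f : X ⟶ Y) [LocallyOfFiniteType f]
    [IsDominant f] (x : X)
    (hcat : CAlg.IsUniversallyCatenary (Y.presheaf.stalk (f x)))
    (h : FlatMor.fibreDimAt f x = topologicalKrullDim ↥(f.fiber (genericPoint Y))) :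
    ringKrullDim (X.presheaf.stalk x) =
      ringKrullDim (Y.presheaf.stalk (f x)) +
        ringKrullDim ((f.fiber (f x)).presheaf.stalk (f.asFiber x)) := by
  let ξ : X := genericPoint X
  have hξ : closure ({ξ} : Set X) = Set.univ := genericPoint_closure ↥X
  have hξsp : ∀ z : X, ξ ⤳ z := fun z => by
    rw [specializes_iff_mem_closure, hξ]; trivial
  have hfξ : f ξ = genericPoint Y := by
    have h1 : IsGenericPoint (f ξ) (closure (f '' Set.univ)) :=
      (genericPoint_spec X).image f.continuous
    have h2 : closure (f '' (Set.univ : Set X)) = Set.univ := by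
      rw [Set.image_univ]; exact f.denseRange.closure_range
    rw [h2] at h1
    exact h1.eq (genericPoint_spec Y)
  have hηsp : ∀ y : Y, f ξ ⤳ y := by
    intro y
    rw [hfξ]
    exact genericPoint_specializes y
  obtain ⟨a, c, n, e, ha, hc, hn, he, hsum⟩ :=
    scheme_dimension_equality_local f x ξ hcat (hξsp x)
  obtain ⟨m, hm1, hm2⟩ := generic_fibre_dim_eq_trdeg f ξ hξ
  have hme : m = e := by
    have : (m : Cardinal.{u}) = (e : Cardinal.{u}) := hm2.symm.trans he
    exact_mod_cast this
  have hX : ringKrullDim (X.presheaf.stalk x) = (a : WithBot ℕ∞) := by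
    rw [ringKrullDim_stalk_eq_coheight, Order.coheight_eq_krullDim_Ici, ← ha]
    have : Set.Ici x = Set.Icc x ξ := by
      ext z
      simp only [Set.mem_Icc, Set.mem_Ici, iff_self_and]
      intro _
      exact Scheme.le_iff_specializes.2 (hξsp z)
    rw [this]
  have hY : ringKrullDim (Y.presheaf.stalk (f x)) = (c : WithBot ℕ∞) := by
    rw [ringKrullDim_stalk_eq_coheight, Order.coheight_eq_krullDim_Ici, ← hc]
    have : Set.Ici (f x) = Set.Icc (f x) (f ξ) := by
      ext z
      simp only [Set.mem_Icc, Set.mem_Ici, iff_self_and]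
      intro _
      exact Scheme.le_iff_specializes.2 (hηsp z)
    rw [this]
  have hft : LocallyOfFiniteType (f.fiberToSpecResidueField (f x)) :=
    inferInstanceAs (LocallyOfFiniteType (Limits.pullback.snd f (Y.fromSpecResidueField (f x))))
  obtain ⟨n', hn'1, hn'2, -⟩ := Groth.Agent.Helper5.VarDim.localDim_formula
    (Y.residueField (f x)) (f.fiberToSpecResidueField (f x)) (f.asFiber x)
  have hnn : n' = n := by
    have h1 := Groth.Agent.Helper5.VarDim.trdeg_fiber f x
    have : (n' : Cardinal.{u}) = (n : Cardinal.{u}) := hn'1.symm.trans (h1.trans hn)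
    exact_mod_cast this
  rw [← hfξ, hm1] at h
  unfold FlatMor.fibreDimAt at h
  rw [hn'2] at h
  obtain ⟨d, hd, hdn⟩ := withBot_enat_add_nat_eq _ n' m h
  rw [hX, hY, hd]
  have : a = c + d := by omega
  rw [this]
  push_cast
  rfl

end Groth.Agent.Helper5.LocDE
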