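import Groth.Agent.Helper5.LocDE3
import Groth.Agent.Helper5.DimIneq4

set_option autoImplicit false
universe u
open AlgebraicGeometry CategoryTheory TopologicalSpace

namespace Groth.Agent.Helper5.LocDE

theorem coheight_last_add_length_le {α : Type*} [Preorder α] (p : LTSeries α) :
    Order.coheight p.last + (p.length : ℕ∞) ≤ Order.coheight p.head := by
  have key : ∀ i : Fin (p.length + 1),
      Order.coheight (p i) + ((i : ℕ) : ℕ∞) ≤ Order.coheight (p 0) := by
    intro i
    induction i using Fin.induction with
    | zero => simp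
    | succ i ih =>
      have hlt : p i.castSucc < p i.succ := p.strictMono (Fin.castSucc_lt_succ)
      have h1 := Order.coheight_add_one_le hlt
      calc Order.coheight (p i.succ) + (((i.succ : Fin (p.length + 1)) : ℕ) : ℕ∞)
          = Order.coheight (p i.succ) + 1 + ((i : ℕ) : ℕ∞) := by
            rw [Fin.val_succ]; push_cast; ring
        _ ≤ Order.coheight (p i.castSucc) + ((i : ℕ) : ℕ∞) := by gcongr
        _ ≤ _ := by simpa using ih
  have := key (Fin.last _)
  simp only [Fin.val_last] at this
  exact this

/-- Transport of the fibre local ring along the identification of a fibre point. -/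
theorem fibre_stalk_dim_transport {X Y : Scheme.{u}} (f : X ⟶ Y) (y : Y) (ζ : ↥(f.fiber y))
    (x : X) (hx : f.fiberι y ζ = x) (hy : f x = y) :
    ringKrullDim ((f.fiber (f x)).presheaf.stalk (f.asFiber x)) =
      ringKrullDim ((f.fiber y).presheaf.stalk ζ) := by
  subst hy
  have : ζ = f.asFiber x := by
    apply (f.fiberι (f x)).isEmbedding.injective
    rw [hx, f.fiberι_asFiber]
  rw [this]

/-- If the dimension formula holds at the maximal points of the fibre through `x`, it holds
at `x`. -/
theorem dim_formula_of_maximal_points {X Y : Scheme.{u}} [IsLocallyNoetherian Y] (f : X ⟶ Y)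
    [LocallyOfFiniteType f] (x : X)
    (hb : ∀ z : X, f z = f x →
      ringKrullDim ((f.fiber (f z)).presheaf.stalk (f.asFiber z)) = 0 →
      ringKrullDim (X.presheaf.stalk z) = ringKrullDim (Y.presheaf.stalk (f z))) :
    ringKrullDim (X.presheaf.stalk x) =
      ringKrullDim (Y.presheaf.stalk (f x)) +
        ringKrullDim ((f.fiber (f x)).presheaf.stalk (f.asFiber x)) := by
  have hX : IsLocallyNoetherian X := LocallyOfFiniteType.isLocallyNoetherian f
  apply le_antisymm (Groth.Agent.Helper5.DimIneq.stalk_dim_le f x)
  let y := f x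
  let x' : ↥(f.fiber y) := f.asFiber x
  have hft : LocallyOfFiniteType (f.fiberToSpecResidueField y) :=
    inferInstanceAs (LocallyOfFiniteType (Limits.pullback.snd f (Y.fromSpecResidueField y)))
  have hF : IsLocallyNoetherian (f.fiber y) :=
    LocallyOfFiniteType.isLocallyNoetherian (f.fiberToSpecResidueField y)
  have hfin : Order.coheight x' ≠ ⊤ := by
    intro htop
    have h1 : ringKrullDim ((f.fiber y).presheaf.stalk x') = ((⊤ : ℕ∞) : WithBot ℕ∞) := by
      rw [ringKrullDim_stalk_eq_coheight, htop]
    exact ringKrullDim_ne_top h1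
  obtain ⟨k, hk⟩ := ENat.ne_top_iff_exists.1 hfin
  obtain ⟨p, hphead, hplen⟩ := Order.exists_series_of_coheight_eq_coe x' hk.symm
  have hz'0 : Order.coheight p.last = 0 := by
    have h1 : (p.length : ℕ∞) = Order.coheight p.head := by rw [hphead, ← hk, hplen]
    have := Order.coheight_eq_index_of_length_eq_head_coheight h1 (Fin.last _)
    simp only [Fin.rev_last, Fin.val_zero, Nat.cast_zero] at this
    exact this
  let z' : ↥(f.fiber y) := p.last
  let z : X := f.fiberι y z'
  have hfz : f z = y := by
    have : z ∈ Set.range (f.fiberι y) := ⟨z', rfl⟩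
    rw [Scheme.Hom.range_fiberι] at this
    exact this
  let q : LTSeries X := p.map (fun a => f.fiberι y a)
    (Groth.Agent.Helper5.DimIneq.strictMono_of_isEmbedding (f.fiberι y) (f.fiberι y).isEmbedding)
  have hqhead : q.head = x := by
    show f.fiberι y p.head = x
    rw [hphead]
    exact f.fiberι_asFiber x
  have hqlast : q.last = z := rfl
  have hqlen : q.length = k := hplen
  have h1 := coheight_last_add_length_le q
  rw [hqhead, hqlast, hqlen] at h1
  have h0 : ringKrullDim ((f.fiber (f z)).presheaf.stalk (f.asFiber z)) = 0 := by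
    rw [fibre_stalk_dim_transport f y z' z rfl hfz, ringKrullDim_stalk_eq_coheight, hz'0]
    rfl
  have h2 := hb z hfz h0
  have h3 : ringKrullDim (Y.presheaf.stalk (f x)) = ((Order.coheight z : ℕ∞) : WithBot ℕ∞) := by
    rw [← ringKrullDim_stalk_eq_coheight, h2, hfz]
  rw [h3, ringKrullDim_stalk_eq_coheight, ringKrullDim_stalk_eq_coheight x]
  show ((Order.coheight z : ℕ∞) : WithBot ℕ∞) + ((Order.coheight x' : ℕ∞) : WithBot ℕ∞) ≤ _
  rw [← hk, ← WithBot.coe_add]
  exact WithBot.coe_le_coe.2 h1

end Groth.Agent.Helper5.LocDE
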