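import Mathlib
import Groth.Agent.Helper5.LocDomTr2
import Groth.Agent.Helper5.FibBd5

set_option autoImplicit false
set_option linter.style.haveILetI false
set_option linter.unusedSectionVars false
universe u
open CategoryTheory AlgebraicGeometry

namespace Groth.Agent.Helper5.LocDomTr

/-- transcendence degree of an extension of domains is that of the fraction fields -/
theorem trdeg_fractionRing {A C : Type u} [CommRing A] [CommRing C] [IsDomain A] [IsDomain C]
    [Algebra A C] [FaithfulSMul A C] (K L : Type u) [Field K] [Field L] [Algebra A K]
    [IsFractionRing A K] [Algebra C L] [IsFractionRing C L] [Algebra K L] [Algebra A L]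
    [IsScalarTower A K L] [IsScalarTower A C L] : Algebra.trdeg K L = Algebra.trdeg A C := by
  haveI : FaithfulSMul C L := (faithfulSMul_iff_algebraMap_injective C L).2
    (IsFractionRing.injective C L)
  haveI : FaithfulSMul A K := (faithfulSMul_iff_algebraMap_injective A K).2
    (IsFractionRing.injective A K)
  haveI : FaithfulSMul K L := (faithfulSMul_iff_algebraMap_injective K L).2
    (algebraMap K L).injective
  haveI : Algebra.IsAlgebraic C L := IsLocalization.isAlgebraic L (nonZeroDivisors C)
  haveI : Algebra.IsAlgebraic A K := IsLocalization.isAlgebraic K (nonZeroDivisors A)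
  have h1 := _root_.trdeg_add_eq A C (A := L)
  have h2 := _root_.trdeg_add_eq A K (A := L)
  rw [_root_.trdeg_eq_zero (R := C) (A := L), add_zero] at h1
  rw [_root_.trdeg_eq_zero (R := A) (A := K), zero_add] at h2
  rw [h1, h2]

/-- the residue field of a field -/
noncomputable def residueFieldEquivOfField (K : Type u) [Field K] :
    K ≃+* IsLocalRing.ResidueField K :=
  RingEquiv.ofBijective (IsLocalRing.residue K)
    ⟨(IsLocalRing.residue K).injective, IsLocalRing.residue_surjective⟩

theorem trdeg_residueField_of_field (K L : Type u) [Field K] [Field L] [Algebra K L] :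
    @Algebra.trdeg (IsLocalRing.ResidueField K) (IsLocalRing.ResidueField L) _ _
      (IsLocalRing.ResidueField.map (algebraMap K L)).toAlgebra = Algebra.trdeg K L := by
  letI := (IsLocalRing.ResidueField.map (algebraMap K L)).toAlgebra
  symm
  refine trdeg_congr₂ (residueFieldEquivOfField K) (residueFieldEquivOfField L) ?_
  intro c
  rfl

end Groth.Agent.Helper5.LocDomTr
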