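import Mathlib
import Groth.Agent.Helper5.LocDomTr3

set_option autoImplicit false
set_option linter.style.haveILetI false
set_option linter.unusedSectionVars false
universe u
open CategoryTheory AlgebraicGeometry

namespace Groth.Agent.Helper5.LocDomTr

open IsLocalRing

set_option maxHeartbeats 1000000 in
/-- ring form: `A → C` an injective finite type map of domains, `q` a prime of `C` over `p`,
`A'`, `B'` models of the localizations with `A' → B'` flat.  Then
`dim (B'/m_{A'} B') + trdeg κ(A') κ(B') = trdeg A C`. -/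
theorem main_ring {A C : Type u} [CommRing A] [CommRing C] [IsDomain A] [IsDomain C]
    [Algebra A C] [FaithfulSMul A C] [Algebra.FiniteType A C]
    (q : Ideal C) [hq : q.IsPrime] (p : Ideal A) [hp : p.IsPrime]
    (hpq : p = q.comap (algebraMap A C))
    (A' B' : Type u) [CommRing A'] [CommRing B'] [Algebra A A'] [Algebra C B'] [Algebra A' B']
    [Algebra A B'] [IsScalarTower A A' B'] [IsScalarTower A C B']
    [IsLocalization.AtPrime A' p] [IsLocalization.AtPrime B' q]
    [IsLocalRing A'] [IsLocalRing B'] [IsLocalHom (algebraMap A' B')] [Module.Flat A' B'] :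
    ∃ d e : ℕ, ringKrullDim (B' ⧸ Ideal.map (algebraMap A' B') (maximalIdeal A')) = d ∧
      Algebra.trdeg (ResidueField A') (ResidueField B') = e ∧
      Algebra.trdeg A C = ((d + e : ℕ) : Cardinal.{u}) := by
  let X : Scheme.{u} := Spec (CommRingCat.of C)
  let S : Scheme.{u} := Spec (CommRingCat.of A)
  let f : X ⟶ S := Spec.map (CommRingCat.ofHom (algebraMap A C))
  haveI hft : LocallyOfFiniteType f := by
    rw [HasRingHomProperty.Spec_iff (P := @LocallyOfFiniteType)]
    exact (RingHom.finiteType_algebraMap).mpr inferInstance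
  haveI hirr : IrreducibleSpace X := inferInstanceAs (IrreducibleSpace (PrimeSpectrum C))
  let x : X := (⟨q, hq⟩ : PrimeSpectrum C)
  obtain ⟨e₁, e₂, he⟩ := spec_stalk_arrow q p hpq A' B'
  have hfl : (f.stalkMap x).hom.Flat :=
    flat_congr (f.stalkMap x).hom (algebraMap A' B') e₁ e₂ he
      ((RingHom.flat_algebraMap_iff).2 inferInstance)
  -- the generic point
  let ξ : X := (⟨⊥, Ideal.isPrime_bot⟩ : PrimeSpectrum C)
  have hξ : closure ({ξ} : Set X) = Set.univ := by
    show closure ({(⟨⊥, Ideal.isPrime_bot⟩ : PrimeSpectrum C)} : Set (PrimeSpectrum C)) = Set.univ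
    rw [PrimeSpectrum.closure_singleton]
    exact PrimeSpectrum.zeroLocus_bot
  have hξg : genericPoint X = ξ :=
    (genericPoint_spec X).eq (by rw [IsGenericPoint, hξ])
  obtain ⟨k, n, hk, hn, ht⟩ := Groth.Agent.Helper5.FibBd.dim_fibre_add_trdeg_eq f x hfl
  rw [hξg] at ht
  refine ⟨k, n, ?_, ?_, ?_⟩
  · obtain ⟨eq⟩ := nonempty_quotient_equiv (f.stalkMap x).hom (algebraMap A' B') e₁ e₂ he
    rw [← ringKrullDim_eq_of_ringEquiv eq]
    exact hk
  · have h1 := trdeg_residueField_congr (f.stalkMap x).hom (algebraMap A' B') e₁ e₂ he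
    have h2 : @Algebra.trdeg (ResidueField A') (ResidueField B') _ _
        (ResidueField.map (algebraMap A' B')).toAlgebra =
        Algebra.trdeg (ResidueField A') (ResidueField B') := by
      congr 1
    rw [← h2, ← h1]
    exact hn
  · -- generic point computation
    haveI hbot : (⊥ : Ideal C).IsPrime := Ideal.isPrime_bot
    haveI hbotA : (⊥ : Ideal A).IsPrime := Ideal.isPrime_bot
    have hpq' : (⊥ : Ideal A) = (⊥ : Ideal C).comap (algebraMap A C) := by
      symm
      exact (RingHom.injective_iff_ker_eq_bot _).1 (FaithfulSMul.algebraMap_injective A C)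
    let K := FractionRing A
    let L := FractionRing C
    letI : Algebra K L := FractionRing.liftAlgebra A L
    haveI : IsLocalization.AtPrime K (⊥ : Ideal A) := by
      show IsLocalization (⊥ : Ideal A).primeCompl K
      rw [Ideal.primeCompl_bot]
      infer_instance
    haveI : IsLocalization.AtPrime L (⊥ : Ideal C) := by
      show IsLocalization (⊥ : Ideal C).primeCompl L
      rw [Ideal.primeCompl_bot]
      infer_instance
    obtain ⟨g₁, g₂, hg⟩ := spec_stalk_arrow (⊥ : Ideal C) (⊥ : Ideal A) hpq' K L
    have h1 := trdeg_residueField_congr (f.stalkMap ξ).hom (algebraMap K L) g₁ g₂ hg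
    have h2 := trdeg_residueField_of_field K L
    have h3 := trdeg_fractionRing (A := A) (C := C) K L
    rw [← h3, ← h2, ← h1]
    exact ht

end Groth.Agent.Helper5.LocDomTr
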