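import Mathlib
import Groth.Agent.Helper5.LocDomTr4

set_option autoImplicit false
set_option linter.style.haveILetI false
set_option linter.unusedSectionVars false
universe u
open CategoryTheory AlgebraicGeometry

namespace Groth.Agent.Helper5.LocDomTr

open IsLocalRing

set_option maxHeartbeats 1000000 in
/-- S1403 -/
theorem s1403 {A B : Type u} [CommRing A] [CommRing B] [IsDomain A] [IsDomain B] [IsLocalRing A]
    [IsLocalRing B] [Algebra A B] [IsLocalHom (algebraMap A B)] [FaithfulSMul A B]
    [Algebra.EssFiniteType A B] [Module.Flat A B] :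
    ∃ d e : ℕ, ringKrullDim (B ⧸ Ideal.map (algebraMap A B) (IsLocalRing.maximalIdeal A)) = d ∧
      Algebra.trdeg (IsLocalRing.ResidueField A) (IsLocalRing.ResidueField B) = e ∧
      Algebra.trdeg A B = (d + e : ℕ) := by
  let C : Subalgebra A B := Algebra.EssFiniteType.subalgebra A B
  let M : Submonoid C := Algebra.EssFiniteType.submonoid A B
  haveI hloc : IsLocalization M B := Algebra.EssFiniteType.isLocalization A B
  let q : Ideal C := (maximalIdeal B).comap (algebraMap C B)
  haveI hq : q.IsPrime := Ideal.comap_isPrime _ _
  have hM : M = q.primeCompl := by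
    ext c
    show IsUnit (algebraMap C B c) ↔ c ∉ q
    rw [Ideal.mem_comap, IsLocalRing.mem_maximalIdeal, mem_nonunits_iff, not_not]
  haveI hlocq : IsLocalization.AtPrime B q := by
    show IsLocalization q.primeCompl B
    rw [← hM]; exact hloc
  have hinjCB : Function.Injective (algebraMap C B) := Subtype.val_injective
  haveI : FaithfulSMul A C := by
    rw [faithfulSMul_iff_algebraMap_injective]
    intro a b hab
    apply FaithfulSMul.algebraMap_injective A B
    have := congrArg (algebraMap C B) hab
    rwa [← IsScalarTower.algebraMap_apply, ← IsScalarTower.algebraMap_apply] at this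
  haveI : FaithfulSMul C B := (faithfulSMul_iff_algebraMap_injective C B).2 hinjCB
  have hpq : maximalIdeal A = q.comap (algebraMap A C) := by
    show maximalIdeal A = ((maximalIdeal B).comap (algebraMap C B)).comap (algebraMap A C)
    rw [Ideal.comap_comap, ← IsScalarTower.algebraMap_eq]
    exact ((local_hom_TFAE (algebraMap A B)).out 0 4 rfl rfl).mp inferInstance |>.symm
  haveI : IsLocalization.AtPrime A (maximalIdeal A) := by
    show IsLocalization (maximalIdeal A).primeCompl A
    apply IsLocalization.self
    intro a ha
    show IsUnit a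
    by_contra hna
    exact ha ((IsLocalRing.mem_maximalIdeal a).2 hna)
  obtain ⟨d, e, hd, he, ht⟩ := main_ring (A := A) (C := C) q (maximalIdeal A) hpq A B
  refine ⟨d, e, hd, he, ?_⟩
  haveI : Algebra.IsAlgebraic C B := IsLocalization.isAlgebraic B M
  have h1 := _root_.trdeg_add_eq A C (A := B)
  rw [_root_.trdeg_eq_zero (R := C) (A := B), add_zero] at h1
  rw [← h1, ht]

end Groth.Agent.Helper5.LocDomTr
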