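import Groth.Agent.Helper5.AlgSpNoeth
import Mathlib

/-! Local finiteness of the irreducible components of a closed subset of a locally Noetherian
algebraic space. -/

set_option autoImplicit false
set_option linter.style.haveILetI false
set_option linter.unusedSectionVars false
set_option linter.unusedVariables false
universe u
open CategoryTheory CategoryTheory.Limits AlgebraicGeometry Opposite TopologicalSpace

namespace Groth.Agent.Helper5.LocFinIrr

theorem isPreirreducible_of_image {A P : Type*} [TopologicalSpace A] [TopologicalSpace P]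
    (g : A → P) (hg : Topology.IsInducing g) (s : Set A) (h : IsPreirreducible (g '' s)) :
    IsPreirreducible s := by
  intro u v hu hv hsu hsv
  obtain ⟨u', hu', rfl⟩ := hg.isOpen_iff.1 hu
  obtain ⟨v', hv', rfl⟩ := hg.isOpen_iff.1 hv
  obtain ⟨a, has, hau⟩ := hsu
  obtain ⟨b, hbs, hbv⟩ := hsv
  obtain ⟨_, ⟨c, hcs, rfl⟩, hc⟩ := h u' v' hu' hv' ⟨g a, ⟨a, has, rfl⟩, hau⟩ ⟨g b, ⟨b, hbs, rfl⟩, hbv⟩
  exact ⟨c, hcs, hc⟩

/-- a closed subset has only finitely many irreducible components meeting a Noetherian open -/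
theorem finite_components_meeting {P : Type*} [TopologicalSpace P] (T : Set P) (hT : IsClosed T)
    (W : Set P) (hW : IsOpen W) [NoetherianSpace ↥W] :
    {Z : ↥(irreducibleComponents ↥T) |
      ((((↑) : ↥T → P) '' (Z : Set ↥T)) ∩ W).Nonempty}.Finite := by
  obtain ⟨Sf, hSf, hScl, hSirr, hSeq⟩ := NoetherianSpace.exists_finite_set_isClosed_irreducible
    (show IsClosed (((↑) : ↥W → P) ⁻¹' T) from hT.preimage continuous_subtype_val)
  let D : Set ↥W → Set P := fun t => closure (((↑) : ↥W → P) '' t)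
  have hDirr : ∀ t ∈ Sf, IsIrreducible (D t) := fun t ht =>
    ((hSirr t ht).image _ continuous_subtype_val.continuousOn).closure
  have hDT : ∀ t ∈ Sf, D t ⊆ T := by
    intro t ht
    refine closure_minimal ?_ hT
    rintro _ ⟨w, hw, rfl⟩
    have : w ∈ ((↑) : ↥W → P) ⁻¹' T := by rw [hSeq]; exact ⟨t, ht, hw⟩
    exact this
  have hfin : (((fun t => ((↑) : ↥T → P) ⁻¹' D t) '' Sf) : Set (Set ↥T)).Finite := hSf.image _
  refine Set.Finite.subset (hfin.preimage Subtype.val_injective.injOn) ?_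
  rintro ⟨Z, hZ⟩ hmeet
  have hZirr : IsIrreducible Z := hZ.1
  set Z' : Set P := ((↑) : ↥T → P) '' Z with hZ'
  have hZ'irr : IsIrreducible Z' := hZirr.image _ continuous_subtype_val.continuousOn
  have h1 : Z' ⊆ closure (Z' ∩ W) :=
    subset_closure_inter_of_isPreirreducible_of_isOpen hZ'irr.isPreirreducible hW hmeet
  have h2 : Z' ∩ W ⊆ ⋃₀ (D '' Sf) := by
    rintro _ ⟨⟨⟨z, hzT⟩, hzZ, rfl⟩, hzW⟩
    have hzC : (⟨z, hzW⟩ : ↥W) ∈ ((↑) : ↥W → P) ⁻¹' T := hzT
    rw [hSeq] at hzC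
    obtain ⟨t, ht, hzt⟩ := hzC
    exact ⟨D t, ⟨t, ht, rfl⟩, subset_closure ⟨⟨z, hzW⟩, hzt, rfl⟩⟩
  have hfinD : (D '' Sf).Finite := hSf.image _
  have hcl : IsClosed (⋃₀ (D '' Sf)) := by
    rw [Set.sUnion_eq_biUnion]
    refine hfinD.isClosed_biUnion ?_
    rintro _ ⟨t, ht, rfl⟩
    exact isClosed_closure
  have h3 : Z' ⊆ ⋃₀ (D '' Sf) := h1.trans (closure_minimal h2 hcl)
  have h4 := (isIrreducible_iff_sUnion_isClosed.1 hZ'irr) hfinD.toFinset
    (by
      intro z hz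
      rw [Set.Finite.mem_toFinset] at hz
      obtain ⟨t, ht, rfl⟩ := hz
      exact isClosed_closure)
    (by rw [Set.Finite.coe_toFinset]; exact h3)
  obtain ⟨z, hz, hZt⟩ := h4
  rw [Set.Finite.mem_toFinset] at hz
  obtain ⟨t, ht, rfl⟩ := hz
  refine ⟨t, ht, ?_⟩
  show ((↑) : ↥T → P) ⁻¹' D t = Z
  have hirr : IsIrreducible (((↑) : ↥T → P) ⁻¹' D t) := by
    have himg : ((↑) : ↥T → P) '' (((↑) : ↥T → P) ⁻¹' D t) = D t := by
      rw [Subtype.image_preimage_coe]
      exact Set.inter_eq_right.2 (hDT t ht)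
    refine ⟨?_, isPreirreducible_of_image _ Topology.IsInducing.subtypeVal _ ?_⟩
    · obtain ⟨d, hd⟩ := (hDirr t ht).nonempty
      exact ⟨⟨d, hDT t ht hd⟩, hd⟩
    · rw [himg]
      exact (hDirr t ht).isPreirreducible
  have hle : Z ⊆ ((↑) : ↥T → P) ⁻¹' D t := fun z hz => hZt ⟨z, hz, rfl⟩
  exact (hZ.2 hirr hle).antisymm hle |>.symm ▸ rfl

open AlgSp in
theorem s10491 {S : Scheme.{u}} (X : AlgSp.Space S)
    (hX : AlgSp.IsLocNoethSp X.obj) (T : Set (AlgSp.Points X.obj)) (hT : IsClosed T) :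
    LocallyFinite (fun Z : ↥(irreducibleComponents ↥T) =>
      ((↑) : ↥T → AlgSp.Points X.obj) '' (Z : Set ↥T)) := by
  intro x
  obtain ⟨W, hWo, hxW, hWn⟩ :=
    Groth.Agent.Helper5.AlgSpNoeth.exists_noetherian_nhd X.property hX x
  haveI := hWn
  exact ⟨W, hWo.mem_nhds hxW, finite_components_meeting T hT W hWo⟩

end Groth.Agent.Helper5.LocFinIrr
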