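import Mathlib
import Groth.Agent.Helper5.MonoQuot14

/-!
# Equivalence relations which are immersions have finite source fibres (topological core of
"locally separated algebraic spaces are decent")
-/

set_option autoImplicit false
universe u

namespace Groth.Agent.Helper5.LocSep

open CategoryTheory CategoryTheory.Limits AlgebraicGeometry Opposite Topology

/-- the closed point of the spectrum of a field -/
noncomputable abbrev pt (Ω : Type u) [Field Ω] : ↥(Spec (CommRingCat.of Ω)) :=
  (IsLocalRing.closedPoint Ω : PrimeSpectrum Ω)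

theorem eq_pt {Ω : Type u} [Field Ω] (z : ↥(Spec (CommRingCat.of Ω))) : z = pt Ω :=
  (inferInstance : Subsingleton (PrimeSpectrum Ω)).elim _ _

/-- lifting field points through a monomorphism when the image point is in the range -/
theorem exists_lift_of_mem_range {R P : Scheme.{u}} (J : R ⟶ P) [Mono J] {Ω : Type u} [Field Ω]
    (g : Spec (CommRingCat.of Ω) ⟶ P) (h : g (pt Ω) ∈ Set.range J) :
    ∃ ρ : Spec (CommRingCat.of Ω) ⟶ R, ρ ≫ J = g := by
  obtain ⟨r, hr⟩ := h
  obtain ⟨w, -, -⟩ := Scheme.Pullback.exists_preimage_pullback (f := g) (g := J) (pt Ω) r hr.symm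
  haveI : Nonempty ↥(pullback g J) := ⟨w⟩
  haveI : Subsingleton ↥(Spec (CommRingCat.of Ω)) :=
    (inferInstance : Subsingleton (PrimeSpectrum Ω))
  haveI : IsIso (pullback.fst g J) := Groth.Agent.Helper5.MonoQuot.isIso_of_mono_to_point _
  refine ⟨inv (pullback.fst g J) ≫ pullback.snd g J, ?_⟩
  rw [Category.assoc, ← pullback.condition, IsIso.inv_hom_id_assoc]

/-- every point of a scheme is the image of a field point -/
theorem exists_fieldPt (Z : Scheme.{u}) (z : ↥Z) :
    ∃ (Ω : Type u) (_ : Field Ω) (ω : Spec (CommRingCat.of Ω) ⟶ Z), ω (pt Ω) = z :=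
  ⟨Z.residueField z, inferInstance, Z.fromSpecResidueField z,
    Scheme.fromSpecResidueField_apply _ _⟩

end Groth.Agent.Helper5.LocSep
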