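import Mathlib
import Groth.Agent.Helper5.LocSep1

/-!
# Equivalence relations which are immersions: invariance of the closure
-/

set_option autoImplicit false
universe u

namespace Groth.Agent.Helper5.LocSep

open CategoryTheory CategoryTheory.Limits AlgebraicGeometry Opposite Topology

/-- an "equivalence relation on field points" `R` on `U`, mapping to a product `P` of `U` with
itself -/
structure RelData (U R P T₀ : Scheme.{u}) where
  hT₀ : IsTerminal T₀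
  a₀ : U ⟶ T₀
  pr₁ : P ⟶ U
  pr₂ : P ⟶ U
  HP : IsPullback pr₁ pr₂ a₀ a₀
  J : R ⟶ P
  s : R ⟶ U
  t : R ⟶ U
  hJ₁ : J ≫ pr₁ = t
  hJ₂ : J ≫ pr₂ = s
  refl : ∀ (Ω : Type u) [Field Ω] (a : Spec (CommRingCat.of Ω) ⟶ U),
    ∃ ρ : Spec (CommRingCat.of Ω) ⟶ R, ρ ≫ t = a ∧ ρ ≫ s = a
  symm : ∀ (Ω : Type u) [Field Ω] (ρ : Spec (CommRingCat.of Ω) ⟶ R),
    ∃ σ : Spec (CommRingCat.of Ω) ⟶ R, σ ≫ t = ρ ≫ s ∧ σ ≫ s = ρ ≫ t
  trans : ∀ (Ω : Type u) [Field Ω] (ρ₁ ρ₂ : Spec (CommRingCat.of Ω) ⟶ R), ρ₁ ≫ s = ρ₂ ≫ t →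
    ∃ σ : Spec (CommRingCat.of Ω) ⟶ R, σ ≫ t = ρ₁ ≫ t ∧ σ ≫ s = ρ₂ ≫ s

variable {U R P T₀ : Scheme.{u}} (D : RelData U R P T₀)

namespace RelData

theorem hom_ext {Z : Scheme.{u}} (g g' : Z ⟶ P) (h₁ : g ≫ D.pr₁ = g' ≫ D.pr₁)
    (h₂ : g ≫ D.pr₂ = g' ≫ D.pr₂) : g = g' := D.HP.hom_ext h₁ h₂

/-- the pair of two maps to `U` -/
noncomputable def pair {Z : Scheme.{u}} (a b : Z ⟶ U) : Z ⟶ P :=
  D.HP.lift a b (D.hT₀.hom_ext _ _)

@[simp] theorem pair_pr₁ {Z : Scheme.{u}} (a b : Z ⟶ U) : D.pair a b ≫ D.pr₁ = a :=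
  D.HP.lift_fst _ _ _

@[simp] theorem pair_pr₂ {Z : Scheme.{u}} (a b : Z ⟶ U) : D.pair a b ≫ D.pr₂ = b :=
  D.HP.lift_snd _ _ _

/-- membership of a field point in the range of `J` -/
theorem mem_range_iff [Mono D.J] {Ω : Type u} [Field Ω] (g : Spec (CommRingCat.of Ω) ⟶ P) :
    g (pt Ω) ∈ Set.range D.J ↔
      ∃ ρ : Spec (CommRingCat.of Ω) ⟶ R, ρ ≫ D.t = g ≫ D.pr₁ ∧ ρ ≫ D.s = g ≫ D.pr₂ := by
  constructor
  · intro h
    obtain ⟨ρ, hρ⟩ := exists_lift_of_mem_range D.J g h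
    refine ⟨ρ, ?_, ?_⟩
    · rw [← hρ, Category.assoc, D.hJ₁]
    · rw [← hρ, Category.assoc, D.hJ₂]
  · rintro ⟨ρ, h1, h2⟩
    have : ρ ≫ D.J = g := by
      apply D.hom_ext
      · rw [Category.assoc, D.hJ₁, h1]
      · rw [Category.assoc, D.hJ₂, h2]
    refine ⟨ρ (pt Ω), ?_⟩
    rw [← Scheme.Hom.comp_apply, this]

/-- the action space -/
noncomputable abbrev W : Scheme.{u} := pullback D.pr₂ D.s

noncomputable abbrev fstW : D.W ⟶ P := pullback.fst D.pr₂ D.s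

noncomputable abbrev sndW : D.W ⟶ R := pullback.snd D.pr₂ D.s

/-- the action map: replace the second coordinate by an equivalent one -/
noncomputable def act : D.W ⟶ P := D.pair (D.fstW ≫ D.pr₁) (D.sndW ≫ D.t)

theorem act_pr₁ : D.act ≫ D.pr₁ = D.fstW ≫ D.pr₁ := D.pair_pr₁ _ _

theorem act_pr₂ : D.act ≫ D.pr₂ = D.sndW ≫ D.t := D.pair_pr₂ _ _

theorem isPullback_act : IsPullback D.act D.sndW D.pr₂ D.t := by
  have sqW : IsPullback D.fstW D.sndW D.pr₂ D.s := IsPullback.of_hasPullback _ _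
  have big := sqW.paste_horiz D.HP
  have h1 : D.s ≫ D.a₀ = D.t ≫ D.a₀ := D.hT₀.hom_ext _ _
  rw [h1, ← D.act_pr₁] at big
  exact IsPullback.of_right big D.act_pr₂ D.HP

theorem isOpenMap_act [Etale D.t] : IsOpenMap D.act := by
  haveI : Etale D.act := MorphismProperty.of_isPullback (P := @Etale) D.isPullback_act.flip
    inferInstance
  exact D.act.isOpenMap

theorem isOpenMap_fstW [Etale D.s] : IsOpenMap D.fstW := by
  haveI : Etale D.fstW := inferInstance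
  exact D.fstW.isOpenMap

/-- the range of `J` is invariant under the action -/
theorem fstW_mem_iff_act_mem [Mono D.J] (w : ↥D.W) :
    D.fstW w ∈ Set.range D.J ↔ D.act w ∈ Set.range D.J := by
  obtain ⟨Ω, _, ω, hω⟩ := exists_fieldPt D.W w
  have e1 : D.fstW w = (ω ≫ D.fstW) (pt Ω) := by
    rw [Scheme.Hom.comp_apply, hω]
  have e2 : D.act w = (ω ≫ D.act) (pt Ω) := by
    rw [Scheme.Hom.comp_apply, hω]
  rw [e1, e2, D.mem_range_iff, D.mem_range_iff]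
  have hcond : D.fstW ≫ D.pr₂ = D.sndW ≫ D.s := pullback.condition
  constructor
  · rintro ⟨ρ, h1, h2⟩
    obtain ⟨σ₀, hσ1, hσ2⟩ := D.symm Ω (ω ≫ D.sndW)
    obtain ⟨τ, hτ1, hτ2⟩ := D.trans Ω ρ σ₀ (by
      rw [h2, hσ1, Category.assoc, Category.assoc, hcond])
    refine ⟨τ, ?_, ?_⟩
    · rw [hτ1, h1, Category.assoc, Category.assoc, D.act_pr₁]
    · rw [hτ2, hσ2, Category.assoc, Category.assoc, D.act_pr₂]
  · rintro ⟨ρ, h1, h2⟩
    obtain ⟨τ, hτ1, hτ2⟩ := D.trans Ω ρ (ω ≫ D.sndW) (by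
      rw [h2, Category.assoc, Category.assoc, D.act_pr₂])
    refine ⟨τ, ?_, ?_⟩
    · rw [hτ1, h1, Category.assoc, Category.assoc, D.act_pr₁]
    · rw [hτ2, Category.assoc, Category.assoc, hcond]

/-- the closure of the range of `J` is invariant under the action -/
theorem act_mem_closure [Mono D.J] [Etale D.s] [Etale D.t] (w : ↥D.W)
    (h : D.fstW w ∈ closure (Set.range D.J)) : D.act w ∈ closure (Set.range D.J) := by
  have h1 : D.fstW ⁻¹' (Set.range D.J) = D.act ⁻¹' (Set.range D.J) := by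
    ext w'
    exact D.fstW_mem_iff_act_mem w'
  have h2 := D.isOpenMap_fstW.preimage_closure_eq_closure_preimage D.fstW.continuous
    (Set.range D.J)
  have h3 := D.isOpenMap_act.preimage_closure_eq_closure_preimage D.act.continuous
    (Set.range D.J)
  have h4 : w ∈ D.fstW ⁻¹' closure (Set.range D.J) := h
  rw [h2, h1, ← h3] at h4
  exact h4

end RelData

end Groth.Agent.Helper5.LocSep
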