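import Mathlib
import Groth.Agent.Helper5.LocSep2
import Groth.Agent.Helper5.UnramLqf

/-!
# Equivalence relations which are immersions have finite source fibres
-/

set_option autoImplicit false
universe u

namespace Groth.Agent.Helper5.LocSep

open CategoryTheory CategoryTheory.Limits AlgebraicGeometry Opposite Topology

/-- the fibre of `h` over `h z`, base changed to the residue field of `z` -/
theorem exists_field_fibre {P U : Scheme.{u}} (h : P ⟶ U) (z : ↥P) :
    ∃ (K : Type u) (_ : Field K) (ιz : Spec (CommRingCat.of K) ⟶ P) (UK : Scheme.{u})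
      (m₁ : UK ⟶ P) (c : UK ⟶ Spec (CommRingCat.of K)) (δ : Spec (CommRingCat.of K) ⟶ UK),
      ιz (pt K) = z ∧ δ ≫ m₁ = ιz ∧ δ ≫ c = 𝟙 _ ∧ m₁ ≫ h = c ≫ ιz ≫ h ∧
      ∀ A : Set ↥P, A ⊆ h ⁻¹' {h z} → z ∈ closure A → δ (pt K) ∈ closure (m₁ ⁻¹' A) := by
  let ιz : Spec (P.residueField z) ⟶ P := P.fromSpecResidueField z
  let υ₀ : Spec (P.residueField z) ⟶ Spec (U.residueField (h z)) :=
    Spec.map (h.residueFieldMap z)
  have hυ₀ : υ₀ ≫ U.fromSpecResidueField (h z) = ιz ≫ h :=
    Scheme.Hom.SpecMap_residueFieldMap_fromSpecResidueField h z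
  let fι : h.fiber (h z) ⟶ P := h.fiberι (h z)
  let fκ : h.fiber (h z) ⟶ Spec (U.residueField (h z)) := h.fiberToSpecResidueField (h z)
  have hfac : fι ≫ h = fκ ≫ U.fromSpecResidueField (h z) := h.fiber_fac (h z)
  let π : pullback fκ υ₀ ⟶ h.fiber (h z) := pullback.fst fκ υ₀
  let c : pullback fκ υ₀ ⟶ Spec (P.residueField z) := pullback.snd fκ υ₀
  have hπc : π ≫ fκ = c ≫ υ₀ := pullback.condition
  let δF : Spec (P.residueField z) ⟶ h.fiber (h z) :=
    (pullback.lift ιz υ₀ hυ₀.symm : Spec (P.residueField z) ⟶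
      pullback h (U.fromSpecResidueField (h z)))
  have hδF1 : δF ≫ fι = ιz := pullback.lift_fst _ _ _
  have hδF2 : δF ≫ fκ = υ₀ := pullback.lift_snd _ _ _
  let δ : Spec (P.residueField z) ⟶ pullback fκ υ₀ :=
    pullback.lift δF (𝟙 _) (by rw [hδF2, Category.id_comp])
  have hδ1 : δ ≫ π = δF := pullback.lift_fst _ _ _
  have hδ2 : δ ≫ c = 𝟙 _ := pullback.lift_snd _ _ _
  have hιz : ιz (pt (P.residueField z)) = z := Scheme.fromSpecResidueField_apply _ _
  haveI : Subsingleton ↥(Spec (U.residueField (h z))) :=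
    (inferInstance : Subsingleton (PrimeSpectrum (U.residueField (h z))))
  haveI : UniversallyOpen υ₀ := inferInstance
  have hπo : IsOpenMap π := (pullback.fst fκ υ₀).isOpenMap
  refine ⟨P.residueField z, inferInstance, ιz, pullback fκ υ₀, π ≫ fι, c, δ, hιz, ?_, hδ2, ?_, ?_⟩
  · rw [← Category.assoc, hδ1, hδF1]
  · rw [Category.assoc, hfac, ← Category.assoc, hπc, Category.assoc, hυ₀]
  · intro A hA hz
    have hrange : Set.range fι = h ⁻¹' {h z} := h.range_fiberι (h z)
    have himg : fι '' (fι ⁻¹' A) = A := by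
      rw [Set.image_preimage_eq_inter_range, hrange]
      exact Set.inter_eq_left.2 hA
    have h1 : δF (pt (P.residueField z)) ∈ closure (fι ⁻¹' A) := by
      rw [fι.isEmbedding.toIsInducing.closure_eq_preimage_closure_image, himg]
      show fι (δF (pt (P.residueField z))) ∈ closure A
      rw [← Scheme.Hom.comp_apply, hδF1, hιz]
      exact hz
    have h2 : δ (pt (P.residueField z)) ∈ π ⁻¹' closure (fι ⁻¹' A) := by
      show π (δ (pt (P.residueField z))) ∈ closure (fι ⁻¹' A)
      rw [← Scheme.Hom.comp_apply, hδ1]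
      exact h1
    have h3 := hπo.preimage_closure_subset_closure_preimage h2
    have h4 : π ⁻¹' (fι ⁻¹' A) = (π ≫ fι) ⁻¹' A := by
      ext w
      simp only [Set.mem_preimage, Scheme.Hom.comp_apply]
    rw [h4] at h3
    exact h3

end Groth.Agent.Helper5.LocSep
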