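import Mathlib
import Groth.Agent.Helper5.LocSep3

/-!
# Equivalence relations which are immersions have finite source fibres: main theorem
-/

set_option autoImplicit false
universe u

namespace Groth.Agent.Helper5.LocSep

open CategoryTheory CategoryTheory.Limits AlgebraicGeometry Opposite Topology

variable {U R P T₀ : Scheme.{u}} (D : RelData U R P T₀)

namespace RelData

theorem finite_source_fibre [IsImmersion D.J] [Etale D.s] [Etale D.t] [QuasiCompact D.pr₂]
    (u : ↥U) : {r : ↥R | D.s r = u}.Finite := by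
  by_contra hinf
  have hinf' : {r : ↥R | D.s r = u}.Infinite := hinf
  have hJinj : Function.Injective D.J := D.J.isEmbedding.injective
  have hAinf : (D.J '' {r : ↥R | D.s r = u}).Infinite := hinf'.image hJinj.injOn
  have hAsub : D.J '' {r : ↥R | D.s r = u} ⊆ D.pr₂ ⁻¹' {u} := by
    rintro _ ⟨r, hr, rfl⟩
    show D.pr₂ (D.J r) = u
    rw [← Scheme.Hom.comp_apply, D.hJ₂]
    exact hr
  have hAR : D.J '' {r : ↥R | D.s r = u} ⊆ Set.range D.J := Set.image_subset_range _ _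
  have hK : IsCompact (D.pr₂ ⁻¹' {u}) := by
    rw [← Scheme.Hom.range_fiberι]
    exact isCompact_range (D.pr₂.fiberι u).continuous
  obtain ⟨z, hzK, hacc⟩ := hAinf.exists_accPt_of_subset_isCompact hK hAsub
  haveI : LocallyQuasiFinite D.s :=
    Groth.Agent.Helper5.UnramLqf.locallyQuasiFinite_of_unramified D.s
  have hAdisc : _root_.IsDiscrete (D.J '' {r : ↥R | D.s r = u}) :=
    (Scheme.Hom.isDiscrete_preimage_singleton D.s u).image D.J.isEmbedding.toIsInducing
  have hzA : z ∉ D.J '' {r : ↥R | D.s r = u} := by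
    intro hz
    obtain ⟨N, hN, hNA⟩ := (isDiscrete_iff_forall_mem_exists_isOpen.1 hAdisc) z hz
    have hzN : z ∈ N := by
      have : z ∈ N ∩ D.J '' {r : ↥R | D.s r = u} := by rw [hNA]; rfl
      exact this.1
    obtain ⟨y, hy, hyz⟩ := (accPt_iff_nhds.1 hacc) N (hN.mem_nhds hzN)
    rw [hNA] at hy
    exact hyz hy
  have hzcl : z ∈ closure (D.J '' {r : ↥R | D.s r = u}) :=
    mem_closure_iff_clusterPt.2 hacc.clusterPt
  have hzu : D.pr₂ z = u := hzK
  have hzR : z ∉ Set.range D.J := by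
    rintro ⟨r, rfl⟩
    apply hzA
    refine ⟨r, ?_, rfl⟩
    have h0 : D.pr₂ (D.J r) = u := hzu
    rwa [← Scheme.Hom.comp_apply, D.hJ₂] at h0
  subst hzu
  have hzclR : z ∈ closure (Set.range D.J) := closure_mono hAR hzcl
  obtain ⟨K, _, ιz, UK, m₁, c, δ, hιz, hδm, hδc, hm₁, hclos⟩ := exists_field_fibre D.pr₂ z
  let m₂ : UK ⟶ P := D.pair (c ≫ ιz ≫ D.pr₁) (m₁ ≫ D.pr₁)
  have hm₂1 : m₂ ≫ D.pr₁ = c ≫ ιz ≫ D.pr₁ := D.pair_pr₁ _ _
  have hm₂2 : m₂ ≫ D.pr₂ = m₁ ≫ D.pr₁ := D.pair_pr₂ _ _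
  -- the diagonal point
  have h2 : m₂ (δ (pt K)) ∈ Set.range D.J := by
    rw [← Scheme.Hom.comp_apply, D.mem_range_iff]
    obtain ⟨ρ, hρ1, hρ2⟩ := D.refl K (ιz ≫ D.pr₁)
    refine ⟨ρ, ?_, ?_⟩
    · rw [hρ1, Category.assoc, hm₂1, ← Category.assoc, hδc, Category.id_comp]
    · rw [hρ2, Category.assoc, hm₂2, ← Category.assoc, hδm]
  have hδcl : δ (pt K) ∈ closure (m₁ ⁻¹' Set.range D.J) :=
    closure_mono (Set.preimage_mono hAR) (hclos _ hAsub hzcl)
  -- the boundary is closed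
  have hclosed : IsClosed (closure (Set.range D.J) \ Set.range D.J) := by
    have h0 := D.J.isLocallyClosed_range.isOpen_coborder
    rw [coborder] at h0
    exact isOpen_compl_iff.1 h0
  -- points of Φ go to the boundary
  have hD : m₁ ⁻¹' Set.range D.J ⊆ m₂ ⁻¹' (closure (Set.range D.J) \ Set.range D.J) := by
    intro b hb
    obtain ⟨Ω, _, β, hβ⟩ := exists_fieldPt UK b
    have hb' : (β ≫ m₁) (pt Ω) ∈ Set.range D.J := by
      rw [Scheme.Hom.comp_apply, hβ]; exact hb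
    obtain ⟨ρ₁, hρ₁t, hρ₁s⟩ := (D.mem_range_iff _).1 hb'
    have hρ₁s' : ρ₁ ≫ D.s = (β ≫ c ≫ ιz) ≫ D.pr₂ := by
      rw [hρ₁s, Category.assoc, hm₁, Category.assoc, Category.assoc]
    have hgz : (β ≫ c ≫ ιz) (pt Ω) = z := by
      rw [← Category.assoc, Scheme.Hom.comp_apply, eq_pt ((β ≫ c) (pt Ω)), hιz]
    have hm₂b : m₂ b = (β ≫ m₂) (pt Ω) := by rw [Scheme.Hom.comp_apply, hβ]
    refine ⟨?_, ?_⟩
    · -- in the closure
      let ωb : Spec (CommRingCat.of Ω) ⟶ D.W :=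
        pullback.lift (β ≫ c ≫ ιz) ρ₁ hρ₁s'.symm
      have hω1 : ωb ≫ D.fstW = β ≫ c ≫ ιz := pullback.lift_fst _ _ _
      have hω2 : ωb ≫ D.sndW = ρ₁ := pullback.lift_snd _ _ _
      have hfst : D.fstW (ωb (pt Ω)) ∈ closure (Set.range D.J) := by
        rw [← Scheme.Hom.comp_apply, hω1, hgz]
        exact hzclR
      have hact := D.act_mem_closure _ hfst
      have heq : ωb ≫ D.act = β ≫ m₂ := by
        apply D.hom_ext
        · rw [Category.assoc, D.act_pr₁, ← Category.assoc, hω1, Category.assoc β m₂, hm₂1]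
          simp only [Category.assoc]
        · rw [Category.assoc, D.act_pr₂, ← Category.assoc, hω2, hρ₁t, Category.assoc β m₂, hm₂2,
            Category.assoc]
      show m₂ b ∈ closure (Set.range D.J)
      rw [hm₂b, ← heq, Scheme.Hom.comp_apply]
      exact hact
    · -- not in the range
      intro hmem
      have hmem' : (β ≫ m₂) (pt Ω) ∈ Set.range D.J := by rw [← hm₂b]; exact hmem
      obtain ⟨ρ₂, hρ₂t, hρ₂s⟩ := (D.mem_range_iff _).1 hmem'
      obtain ⟨σ, hσt, hσs⟩ := D.trans Ω ρ₂ ρ₁ (by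
        rw [hρ₂s, hρ₁t, Category.assoc, hm₂2, Category.assoc])
      have hzmem : (β ≫ c ≫ ιz) (pt Ω) ∈ Set.range D.J := by
        rw [D.mem_range_iff]
        refine ⟨σ, ?_, ?_⟩
        · rw [hσt, hρ₂t, Category.assoc, hm₂1]
          simp only [Category.assoc]
        · rw [hσs, hρ₁s']
      rw [hgz] at hzmem
      exact hzR hzmem
  have hfin : δ (pt K) ∈ m₂ ⁻¹' (closure (Set.range D.J) \ Set.range D.J) :=
    (closure_minimal hD (hclosed.preimage m₂.continuous)) hδcl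
  exact hfin.2 h2

end RelData

end Groth.Agent.Helper5.LocSep
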