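import Mathlib
import Groth.Agent.Helper5.LocSep4
import Groth.Agent.Helper5.DiagBC
import Groth.Agent.Helper5.MonoQuot9
import Groth.Agent.Helper5.Decent2

/-!
# S10378: locally separated algebraic spaces are decent
-/

set_option autoImplicit false
universe u

namespace Groth.Agent.Helper5.LocSep

open CategoryTheory CategoryTheory.Limits AlgebraicGeometry Opposite AlgSp
open Groth.Agent.Helper5.DiagBC Groth.Agent.Helper4.AlgSpQS

variable {S : Scheme.{u}}

section

variable {X : Sp S} {U R : Over S} (φ : (yon S).obj U ⟶ X) (s t : R ⟶ U)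
  (hR : IsPullback ((yon S).map t) ((yon S).map s) φ φ)

include hR in
theorem lift_R {Z : Over S} (a b : Z ⟶ U) (h : (yon S).map a ≫ φ = (yon S).map b ≫ φ) :
    ∃ ρ : Z ⟶ R, ρ ≫ t = a ∧ ρ ≫ s = b := by
  obtain ⟨ρ, hρ⟩ := (yon S).map_surjective (hR.lift ((yon S).map a) ((yon S).map b) h)
  refine ⟨ρ, (yon S).map_injective ?_, (yon S).map_injective ?_⟩
  · rw [Functor.map_comp, hρ, hR.lift_fst]
  · rw [Functor.map_comp, hρ, hR.lift_snd]

/-- the absolute product of `U` with itself -/
noncomputable abbrev a₀ (U : Over S) : U.left ⟶ ⊤_ Scheme.{u} := U.hom ≫ terminal.from S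

/-- the map from the relation to the absolute product -/
noncomputable def Jmap : R.left ⟶ pullback (a₀ U) (a₀ U) :=
  (toProd t s).left ≫ pullback.mapDesc U.hom U.hom (terminal.from S)

theorem Jmap_fst : Jmap s t ≫ pullback.fst (a₀ U) (a₀ U) = t.left := by
  unfold Jmap
  rw [Category.assoc, pullback.lift_fst, ← Category.assoc]
  have := congrArg (fun k => k.left) (toProd_fst t s)
  simp only [Over.comp_left] at this
  rw [Category.comp_id]
  exact this

theorem Jmap_snd : Jmap s t ≫ pullback.snd (a₀ U) (a₀ U) = s.left := by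
  unfold Jmap
  rw [Category.assoc, pullback.lift_snd, ← Category.assoc]
  have := congrArg (fun k => k.left) (toProd_snd t s)
  simp only [Over.comp_left] at this
  rw [Category.comp_id]
  exact this

include hR in
theorem isImmersion_Jmap (hX : IsLocallySeparatedSp X) : IsImmersion (Jmap s t) := by
  haveI h1 : IsImmersion (toProd t s).left := prop_toProd @IsImmersion hX φ φ t s hR
  haveI h2 : IsImmersion (pullback.mapDesc U.hom U.hom (terminal.from S)) :=
    MorphismProperty.of_isPullback (P := @IsImmersion)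
      (pullback_map_diagonal_isPullback U.hom U.hom (terminal.from S)) inferInstance
  unfold Jmap
  infer_instance

/-- the relation data of an etale chart -/
noncomputable def relData : RelData U.left R.left (pullback (a₀ U) (a₀ U)) (⊤_ Scheme.{u}) where
  hT₀ := terminalIsTerminal
  a₀ := a₀ U
  pr₁ := pullback.fst _ _
  pr₂ := pullback.snd _ _
  HP := IsPullback.of_hasPullback _ _
  J := Jmap s t
  s := s.left
  t := t.left
  hJ₁ := Jmap_fst s t
  hJ₂ := Jmap_snd s t
  refl := by
    intro Ω _ a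
    obtain ⟨ρ, h1, h2⟩ := lift_R φ s t hR (Z := Over.mk (a ≫ U.hom)) (Over.homMk a rfl)
      (Over.homMk a rfl) rfl
    refine ⟨ρ.left, ?_, ?_⟩
    · exact congrArg (fun k => k.left) h1
    · exact congrArg (fun k => k.left) h2
  symm := by
    intro Ω _ ρ
    let ρ' : Over.mk (ρ ≫ R.hom) ⟶ R := Over.homMk ρ rfl
    obtain ⟨σ, h1, h2⟩ := lift_R φ s t hR (ρ' ≫ s) (ρ' ≫ t) (by
      rw [Functor.map_comp, Functor.map_comp, Category.assoc, Category.assoc, hR.w])
    refine ⟨σ.left, ?_, ?_⟩
    · exact congrArg (fun k => k.left) h1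
    · exact congrArg (fun k => k.left) h2
  trans := by
    intro Ω _ ρ₁ ρ₂ h
    let ρ₁' : Over.mk (ρ₁ ≫ R.hom) ⟶ R := Over.homMk ρ₁ rfl
    let ρ₂' : Over.mk (ρ₁ ≫ R.hom) ⟶ R := Over.homMk ρ₂ (by
      show ρ₂ ≫ R.hom = ρ₁ ≫ R.hom
      calc ρ₂ ≫ R.hom = ρ₂ ≫ t.left ≫ U.hom := by rw [Over.w t]
        _ = (ρ₂ ≫ t.left) ≫ U.hom := (Category.assoc _ _ _).symm
        _ = (ρ₁ ≫ s.left) ≫ U.hom := by rw [h]
        _ = ρ₁ ≫ s.left ≫ U.hom := Category.assoc _ _ _
        _ = ρ₁ ≫ R.hom := by rw [Over.w s])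
    have h12 : ρ₁' ≫ s = ρ₂' ≫ t := by
      apply Over.OverMorphism.ext
      exact h
    obtain ⟨σ, h1, h2⟩ := lift_R φ s t hR (ρ₁' ≫ t) (ρ₂' ≫ s) (by
      rw [Functor.map_comp, Functor.map_comp, Category.assoc, Category.assoc, hR.w,
        ← Category.assoc, ← Functor.map_comp, h12, Functor.map_comp, Category.assoc, hR.w])
    refine ⟨σ.left, ?_, ?_⟩
    · exact congrArg (fun k => k.left) h1
    · exact congrArg (fun k => k.left) h2

end

end Groth.Agent.Helper5.LocSep
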