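import Mathlib
import Groth.Agent.Helper5.LocSep5

/-!
# S10378: locally separated algebraic spaces are decent (assembly)
-/

set_option autoImplicit false
universe u

namespace Groth.Agent.Helper5.LocSep

open CategoryTheory CategoryTheory.Limits AlgebraicGeometry Opposite AlgSp
open Groth.Agent.Helper5.MonoQuot

variable {S : Scheme.{u}}

/-- the source fibres of the relation of an affine etale chart of a locally separated space are
finite -/
theorem finite_source_fibre_of_locallySeparated {X : Sp S} (hX : IsLocallySeparatedSp X)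
    {U R : Over S} [IsAffine U.left] (φ : (yon S).obj U ⟶ X) (hφ : RepWith @Etale φ)
    (s t : R ⟶ U) (hR : IsPullback ((yon S).map t) ((yon S).map s) φ φ) (u : ↥U.left) :
    {r : ↥R.left | s.left r = u}.Finite := by
  have hs : Etale s.left := hφ.property φ _ _ hR
  have ht : Etale t.left := hφ.property φ _ _ hR.flip
  let D := relData φ s t hR
  haveI : IsImmersion D.J := isImmersion_Jmap φ s t hR hX
  haveI : Etale D.s := hs
  haveI : Etale D.t := ht
  haveI : QuasiCompact (a₀ U) := quasiCompact_of_compactSpace _
  haveI : QuasiCompact D.pr₂ := (inferInstance : QuasiCompact (pullback.snd (a₀ U) (a₀ U)))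
  exact D.finite_source_fibre u

theorem s10378 (X : Space S) (hX : IsLocallySeparatedSp X.obj) : IsDecent X.obj := by
  intro x
  refine (s10360 X x).1 ?_
  intro U φ hU hφ R s t hR
  haveI := hU
  have key : ∀ u : ↥U.left, {r : ↥R.left | s.left r = u}.Finite := fun u =>
    finite_source_fibre_of_locallySeparated hX φ hφ s t hR u
  have hA : (Points.ofPt φ ⁻¹' {x}).Finite := by
    by_cases hne : (Points.ofPt φ ⁻¹' {x}).Nonempty
    · obtain ⟨u₀, hu₀⟩ := hne
      have hu₀' : Points.ofPt φ u₀ = x := hu₀
      refine ((key u₀).image t.left).subset ?_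
      intro u' hu'
      have hu'' : Points.ofPt φ u' = x := hu'
      obtain ⟨r, hr1, hr2⟩ :=
        Groth.Agent.Helper5.Decent2.exists_scheme_point_of_isPullback hR u' u₀
          (by rw [hu'', hu₀'])
      exact ⟨r, hr2, hr1⟩
    · rw [Set.not_nonempty_iff_eq_empty] at hne
      rw [hne]
      exact Set.finite_empty
  refine ⟨hA, ?_⟩
  refine (hA.biUnion (fun u _ => key u)).subset ?_
  intro r hr
  have hr' : Points.ofPt ((yon S).map t ≫ φ) r = x := hr
  simp only [Set.mem_iUnion, Set.mem_ofPred_eq, Set.mem_preimage, Set.mem_singleton_iff]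
  refine ⟨s.left r, ?_, rfl⟩
  rw [← Groth.Agent.Helper4.AlgSpPtsDesc.ofPt_yon_map_comp, ← hR.w]
  exact hr'

end Groth.Agent.Helper5.LocSep
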