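import Mathlib
import Groth.Prelude

set_option autoImplicit false
universe u

namespace Groth.Agent.Helper5.LqfGen

open CategoryTheory CategoryTheory.Limits AlgebraicGeometry TopologicalSpace Topology

/-- an affine scheme of finite type over a field of dimension `≤ 0` is finite -/
theorem finite_of_dim_le_zero {F : Scheme.{u}} [IsAffine F] {K : Type u} [Field K]
    (p : F ⟶ Spec (.of K)) [LocallyOfFiniteType p] (h : topologicalKrullDim ↥F ≤ 0) :
    Finite ↥F := by
  have hφ : p.appTop.hom.FiniteType :=
    (HasRingHomProperty.iff_of_isAffine (P := @LocallyOfFiniteType)).mp inferInstance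
  have hN : IsNoetherianRing Γ(Spec (.of K), ⊤) :=
    isNoetherianRing_of_ringEquiv K (Scheme.ΓSpecIso (.of K)).symm.commRingCatIsoToRingEquiv
  algebraize [p.appTop.hom]
  have hN2 : IsNoetherianRing Γ(F, ⊤) :=
    Algebra.FiniteType.isNoetherianRing Γ(Spec (.of K), ⊤) Γ(F, ⊤)
  have e1 : topologicalKrullDim ↥F = topologicalKrullDim (PrimeSpectrum Γ(F, ⊤)) :=
    IsHomeomorph.topologicalKrullDim_eq _ F.isoSpec.hom.homeomorph.isHomeomorph
  have hdim : ringKrullDim Γ(F, ⊤) ≤ 0 := by
    rw [← PrimeSpectrum.topologicalKrullDim_eq_ringKrullDim, ← e1]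
    exact h
  have hK : Ring.KrullDimLE 0 Γ(F, ⊤) := (Ring.krullDimLE_iff).mpr (by simpa using hdim)
  have hA : IsArtinianRing Γ(F, ⊤) := isArtinianRing_iff_krullDimLE_zero.mpr hK
  have hfin : Finite (PrimeSpectrum Γ(F, ⊤)) := inferInstance
  exact Finite.of_equiv _ F.isoSpec.hom.homeomorph.symm.toEquiv

/-- a morphism of finite type from an affine scheme to an affine scheme all of whose fibres have
dimension `≤ 0` is locally quasi-finite -/
theorem lqf_of_fibre_dim_le_zero {W S : Scheme.{u}} [IsAffine W] [IsAffine S] (u : W ⟶ S)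
    [LocallyOfFiniteType u] (h : ∀ s : S, topologicalKrullDim ↥(u.fiber s) ≤ 0) :
    LocallyQuasiFinite u := by
  refine LocallyQuasiFinite.of_fiberToSpecResidueField u fun s => ?_
  haveI : LocallyOfFiniteType (u.fiberToSpecResidueField s) :=
    MorphismProperty.pullback_snd _ _ inferInstance
  haveI : IsAffine (u.fiber s) := isAffine_of_isAffineHom (u.fiberToSpecResidueField s)
  haveI : Finite ↥(u.fiber s) := finite_of_dim_le_zero (K := S.residueField s)
    (u.fiberToSpecResidueField s) (h s)
  exact LocallyQuasiFinite.of_finite_preimage_singleton _ fun x => Set.toFinite _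

end Groth.Agent.Helper5.LqfGen
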