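import Mathlib
import Groth.Prelude
import Groth.Agent.Helper5.LqfGen1
import Groth.Agent.Helper5.KDim5
import Groth.Agent.Helper5.NoethDim1
import Groth.Agent.Helper5.GenFib4
import Groth.Agent.Helper2.ArtSch
import Groth.Agent.S0404

set_option autoImplicit false
universe u

namespace Groth.Agent.Helper5.LqfGen

open CategoryTheory CategoryTheory.Limits AlgebraicGeometry TopologicalSpace Topology

/-- a flat morphism of finite presentation from an affine scheme to the spectrum of a domain whose
generic fibre is locally quasi-finite is locally quasi-finite -/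
theorem lqf_of_generic {R : Type u} [CommRing R] [IsDomain R] [IsNoetherianRing R] {W : Scheme.{u}}
    [IsAffine W] (u : W ⟶ Spec (.of R)) [Flat u] [LocallyOfFiniteType u]
    [LocallyQuasiFinite (pullback.snd u (Neron.genPt R))] : LocallyQuasiFinite u := by
  haveI : LocallyOfFinitePresentation u := Groth.Agent.Helper2.ArtSch.lfp_of_lft_noeth u
  apply lqf_of_fibre_dim_le_zero u
  intro s
  by_contra hs
  rw [not_le] at hs
  have hO : IsOpen {s : Spec (.of R) | (0 : WithBot ℕ∞) < topologicalKrullDim ↥(u.fiber s)} :=
    Groth.Agent.S0404.result u 0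
  have hgen := Groth.Agent.Helper5.GenFib.genericPoint_mem_of_isOpen _ hO ⟨s, hs⟩
  -- the generic point is the image of the point of `Spec K`
  let y₀ : ↥(Spec (.of (FractionRing R))) := IsLocalRing.closedPoint (FractionRing R)
  have hy₀ : Neron.genPt R y₀ = genericPoint ↥(Spec (.of R)) := by
    have hw₀ : y₀ = (⊥ : PrimeSpectrum (FractionRing R)) := Subsingleton.elim _ _
    rw [genericPoint_eq_bot_of_affine, hw₀]
    apply PrimeSpectrum.ext
    show Ideal.comap (algebraMap R (FractionRing R)) (⊥ : Ideal (FractionRing R)) = ⊥
    exact Ideal.comap_bot_of_injective _ (IsFractionRing.injective R (FractionRing R))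
  have sq : IsPullback (pullback.fst u (Neron.genPt R)) (pullback.snd u (Neron.genPt R)) u
      (Neron.genPt R) := IsPullback.of_hasPullback _ _
  have hdim := Groth.Agent.Helper5.NoethDim.dim_fibre_of_isPullback sq y₀
  rw [hy₀] at hdim
  have h1 := Groth.Agent.Helper5.KDim.dim_le_of_lqf
    ((pullback.snd u (Neron.genPt R)).fiberToSpecResidueField y₀) Set.univ (Set.subset_univ _)
  rw [Groth.Agent.Helper5.KDim.dim_univ, hdim] at h1
  have h2 : topologicalKrullDim ↥(Spec ((Spec (.of (FractionRing R))).residueField y₀)) = 0 := by
    show topologicalKrullDim (PrimeSpectrum ((Spec (.of (FractionRing R))).residueField y₀)) = 0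
    rw [PrimeSpectrum.topologicalKrullDim_eq_ringKrullDim]
    exact ringKrullDim_eq_zero_of_field _
  rw [h2] at h1
  exact absurd hgen (not_lt.mpr h1)

end Groth.Agent.Helper5.LqfGen
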