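import Mathlib
import Groth.Prelude
import Groth.Agent.Helper5.LqfGen2

set_option autoImplicit false
universe u

namespace Groth.Agent.Helper5.LqfGen

open CategoryTheory CategoryTheory.Limits AlgebraicGeometry TopologicalSpace Topology

set_option backward.isDefEq.respectTransparency false in
theorem s18485 (R : Type u) [CommRing R]
    [IsDedekindDomain R] (H : Over (Spec (CommRingCat.of R))) [Flat H.hom]
    [LocallyOfFiniteType H.hom]
    [LocallyQuasiFinite ((Neron.genericFibre R).obj H).hom] : LocallyQuasiFinite H.hom := by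
  refine (IsZariskiLocalAtSource.iff_of_openCover (P := @LocallyQuasiFinite)
    H.left.affineCover).mpr fun i => ?_
  have hgen : LocallyQuasiFinite (pullback.snd H.hom (Neron.genPt R)) :=
    ‹LocallyQuasiFinite ((Neron.genericFibre R).obj H).hom›
  let j := H.left.affineCover.f i
  haveI : IsAffine (H.left.affineCover.X i) := inferInstance
  let m : pullback (j ≫ H.hom) (Neron.genPt R) ⟶ pullback H.hom (Neron.genPt R) :=
    pullback.map (j ≫ H.hom) (Neron.genPt R) H.hom (Neron.genPt R) j (𝟙 _) (𝟙 _) (by simp) (by simp)
  haveI : IsOpenImmersion m := Scheme.pullback_map_isOpenImmersion _ _ _ _ _ _ _ _ _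
  have hm : m ≫ pullback.snd H.hom (Neron.genPt R) = pullback.snd (j ≫ H.hom) (Neron.genPt R) := by
    simp [m]
  haveI : LocallyQuasiFinite (pullback.snd (j ≫ H.hom) (Neron.genPt R)) := by
    rw [← hm]; infer_instance
  exact lqf_of_generic (j ≫ H.hom)

end Groth.Agent.Helper5.LqfGen
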