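import Mathlib
import Groth.Prelude
import Groth.Agent.Helper5.LscDim9
import Groth.Agent.Helper5.FibCodim

set_option autoImplicit false
set_option linter.unusedSectionVars false
set_option linter.style.haveILetI false
universe u

open AlgebraicGeometry CategoryTheory CategoryTheory.Limits TopologicalSpace

namespace Groth.Agent.Helper5.LscDim

/-- a generic point of an irreducible component is maximal for the specialisation order -/
theorem isMax_of_isGenericPoint {T : Scheme.{u}} (a : T) (Z : Set T)
    (hZ : Z ∈ irreducibleComponents ↥T) (ha : IsGenericPoint a Z) : IsMax a := by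
  intro b hab
  rw [Scheme.le_iff_specializes] at hab ⊢
  -- b ⤳ a ; want a ⤳ b
  have h1 : Z ⊆ closure {b} := by
    rw [← ha.def]
    exact (specializes_iff_closure_subset.1 hab)
  have h2 : closure ({b} : Set T) ⊆ Z :=
    hZ.2 isIrreducible_singleton.closure h1
  rw [specializes_iff_mem_closure, ha.def]
  exact h2 (subset_closure rfl)

theorem s9739 {X S : Scheme.{u}} (f : X ⟶ S) [Flat f] [LocallyOfFinitePresentation f]
    (x x' : X) (hsp : x' ⤳ x)
    (hgen : ∃ Z ∈ irreducibleComponents ↥(f.fiber (f x)), IsGenericPoint (f.asFiber x) Z) :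
    FlatMor.fibreDimAt f x' = FlatMor.fibreDimAt f x := by
  obtain ⟨Z, hZ, hZgen⟩ := hgen
  obtain ⟨k, n, -, hk, hn, hfd⟩ := Groth.Agent.Helper5.SubDim.fibreDimAt_eq f x
  have hmax := isMax_of_isGenericPoint (f.asFiber x) Z hZ hZgen
  have hk0 : k = 0 := by
    have := Order.coheight_eq_zero.2 hmax
    rw [hk] at this
    exact_mod_cast this
  subst hk0
  rw [zero_add] at hfd
  obtain ⟨W, hxW, hW⟩ := exists_open_ge f x n hn
  apply le_antisymm (Groth.Agent.Helper5.MaxPt.fibreDimAt_le_of_specializes f x' x hsp)
  rw [hfd]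
  exact hW x' (hsp.mem_open W.2 hxW)

end Groth.Agent.Helper5.LscDim
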