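import Mathlib
import Groth.Prelude
import Groth.Agent.Helper5.LscDim10
import Groth.Agent.Helper5.FibDim7

set_option autoImplicit false
set_option linter.unusedSectionVars false
set_option linter.style.haveILetI false
universe u

open AlgebraicGeometry CategoryTheory CategoryTheory.Limits TopologicalSpace

namespace Groth.Agent.Helper5.LscDim

theorem s9757 {X S : Scheme.{u}} (f : X ⟶ S) [Flat f] [LocallyOfFinitePresentation f] :
    ∃ U : ℕ → X.Opens, (∀ s : S, Dense ((f.fiberι s) ⁻¹' ((⨆ d, U d : X.Opens) : Set ↑X))) ∧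
      ∀ (d : ℕ) (x : ↑X), x ∈ U d → FlatMor.fibreDimAt f x = d := by
  let U : ℕ → X.Opens := fun d =>
    ⟨{x | FlatMor.fibreDimAt f x ≤ d} ∩ interior {x | (d : WithBot ℕ∞) ≤ FlatMor.fibreDimAt f x},
      (Groth.Agent.Helper5.FibDim.isOpen_fibreDimAt_le f d).inter isOpen_interior⟩
  refine ⟨U, ?_, ?_⟩
  · intro s
    rw [dense_iff_inter_open]
    rintro O hO ⟨p, hp⟩
    obtain ⟨z, hfz, hzx, -, -, tz, htr, hdz⟩ :=
      Groth.Agent.Helper5.OpenAt.exists_max_generization_fibreDimAt_eq f (f.fiberι s p)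
    have hfs : f (f.fiberι s p) = s := by
      have : f.fiberι s p ∈ Set.range (f.fiberι s) := ⟨p, rfl⟩
      rw [Scheme.Hom.range_fiberι] at this
      exact this
    have hzr : z ∈ Set.range (f.fiberι s) := by
      rw [Scheme.Hom.range_fiberι]
      exact hfz.trans hfs
    obtain ⟨q, rfl⟩ := hzr
    have hqp : q ⤳ p := (f.fiberι s).isEmbedding.toIsInducing.specializes_iff.1 hzx
    refine ⟨q, hqp.mem_open hO hp, ?_⟩
    show f.fiberι s q ∈ ((⨆ d, U d : X.Opens) : Set ↑X)
    rw [SetLike.mem_coe, Opens.mem_iSup]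
    refine ⟨tz, ?_, ?_⟩
    · show FlatMor.fibreDimAt f (f.fiberι s q) ≤ tz
      rw [hdz]
    · obtain ⟨W, hzW, hW⟩ := exists_open_ge f (f.fiberι s q) tz htr
      exact interior_maximal (fun w hw => hW w hw) W.2 hzW
  · rintro d x ⟨h1, h2⟩
    have h3 : x ∈ {x | (d : WithBot ℕ∞) ≤ FlatMor.fibreDimAt f x} := interior_subset h2
    exact le_antisymm h1 h3

end Groth.Agent.Helper5.LscDim
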